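import Mathlib
import Groth.Prelude.Def_RelProj

/-!
# Relative Proj toolkit, part 1: gluing morphisms along the cover `p⁻¹(U)`, `U` affine,
and transfer of target-local properties
-/

set_option autoImplicit false
set_option linter.style.haveILetI false

namespace Groth.Agent.Helper1.RP

open CategoryTheory Limits AlgebraicGeometry TopologicalSpace Opposite

universe u

/-- two morphisms from an open subscheme agree if they agree locally -/
theorem hom_ext_opens {X Z : Scheme.{u}} (T : X.Opens) (a b : (T : Scheme.{u}) ⟶ Z)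
    (h : ∀ x ∈ T, ∃ (T' : X.Opens) (hT : T' ≤ T), x ∈ T' ∧
      X.homOfLE hT ≫ a = X.homOfLE hT ≫ b) : a = b := by
  choose T' hT hx hab using h
  let 𝒰 : (T : Scheme.{u}).OpenCover :=
    Scheme.Cover.mkOfCovers T (fun x => (T' x.1 x.2 : Scheme.{u}))
      (fun x => X.homOfLE (hT x.1 x.2))
      (fun x => ⟨x, ⟨x.1, hx x.1 x.2⟩, Subtype.ext (Scheme.homOfLE_apply _ _)⟩) (fun _ => inferInstance)
  exact 𝒰.hom_ext _ _ (fun x => hab x.1 x.2)

section glue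

variable {Y P Z : Scheme.{u}} (p : P ⟶ Y)

theorem isOpenCover_preimage :
    IsOpenCover (fun U : Y.affineOpens => p ⁻¹ᵁ U.1) := by
  rw [IsOpenCover, ← Scheme.Hom.preimage_iSup, iSup_affineOpens_eq_top]
  rfl

/-- morphisms out of `P` agree if they agree on each `p⁻¹(U)`, `U` affine -/
theorem hom_ext (e e' : P ⟶ Z)
    (h : ∀ (U : Y.Opens) (_ : IsAffineOpen U), (p ⁻¹ᵁ U).ι ≫ e = (p ⁻¹ᵁ U).ι ≫ e') : e = e' := by
  apply (P.openCoverOfIsOpenCover _ (isOpenCover_preimage p)).hom_ext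
  intro U
  exact h U.1 U.2

theorem transport (g : ∀ (U : Y.Opens) (_ : IsAffineOpen U),
      ((p ⁻¹ᵁ U : P.Opens) : Scheme.{u}) ⟶ Z)
    (D D' : Y.Opens) (hD : IsAffineOpen D) (hD' : IsAffineOpen D') (e : D = D')
    (V : Y.Opens) (hV : IsAffineOpen V) (h1 : p ⁻¹ᵁ D ≤ p ⁻¹ᵁ V) (h2 : p ⁻¹ᵁ D' ≤ p ⁻¹ᵁ V)
    (h : P.homOfLE h2 ≫ g V hV = g D' hD') : P.homOfLE h1 ≫ g V hV = g D hD := by
  subst e
  exact h

/-- gluing morphisms along the cover `p⁻¹(U)`: compatibility with basic opens suffices -/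
theorem existsUnique_glue
    (g : ∀ (U : Y.Opens) (_ : IsAffineOpen U), ((p ⁻¹ᵁ U : P.Opens) : Scheme.{u}) ⟶ Z)
    (hg : ∀ (U : Y.Opens) (hU : IsAffineOpen U) (r : Γ(Y, U)),
      P.homOfLE (p.preimage_mono (Y.basicOpen_le r)) ≫ g U hU =
        g (Y.basicOpen r) (hU.basicOpen r)) :
    ∃! e : P ⟶ Z, ∀ (U : Y.Opens) (hU : IsAffineOpen U), (p ⁻¹ᵁ U).ι ≫ e = g U hU := by
  let W : Y.affineOpens → P.Opens := fun U => p ⁻¹ᵁ U.1
  have hW : IsOpenCover W := isOpenCover_preimage p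
  have compat : ∀ U V : Y.affineOpens,
      P.homOfLE (inf_le_left : W U ⊓ W V ≤ W U) ≫ g U.1 U.2 =
        P.homOfLE (inf_le_right : W U ⊓ W V ≤ W V) ≫ g V.1 V.2 := by
    intro U V
    apply hom_ext_opens
    intro x hx
    obtain ⟨r, s, e, hxr⟩ := exists_basicOpen_le_affine_inter U.2 V.2 (p x) ⟨hx.1, hx.2⟩
    have hT1 : p ⁻¹ᵁ (Y.basicOpen r) ≤ W U := p.preimage_mono (Y.basicOpen_le r)
    have hT2 : p ⁻¹ᵁ (Y.basicOpen r) ≤ W V := by
      rw [e]; exact p.preimage_mono (Y.basicOpen_le s)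
    refine ⟨p ⁻¹ᵁ (Y.basicOpen r), le_inf hT1 hT2, hxr, ?_⟩
    rw [Scheme.homOfLE_homOfLE_assoc, Scheme.homOfLE_homOfLE_assoc, hg U.1 U.2 r]
    exact (transport p g _ _ (U.2.basicOpen r) (V.2.basicOpen s) e V.1 V.2 hT2
      (p.preimage_mono (Y.basicOpen_le s)) (hg V.1 V.2 s)).symm
  let 𝒰 := P.openCoverOfIsOpenCover W hW
  have compat' : ∀ U V : Y.affineOpens,
      pullback.fst (𝒰.f U) (𝒰.f V) ≫ g U.1 U.2 = pullback.snd (𝒰.f U) (𝒰.f V) ≫ g V.1 V.2 := by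
    intro U V
    let i : pullback (𝒰.f U) (𝒰.f V) ≅ (W U ⊓ W V : P.Opens) :=
      (isPullback_opens_inf _ _).isoPullback.symm
    rw [← cancel_epi i.inv]
    have h1 : i.inv ≫ pullback.fst (𝒰.f U) (𝒰.f V) = P.homOfLE inf_le_left :=
      (isPullback_opens_inf (W U) (W V)).isoPullback_hom_fst
    have h2 : i.inv ≫ pullback.snd (𝒰.f U) (𝒰.f V) = P.homOfLE inf_le_right :=
      (isPullback_opens_inf (W U) (W V)).isoPullback_hom_snd
    rw [reassoc_of% h1, reassoc_of% h2]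
    exact compat U V
  refine ⟨𝒰.glueMorphisms (fun U => g U.1 U.2) compat', ?_, ?_⟩
  · intro U hU
    exact 𝒰.ι_glueMorphisms _ _ ⟨U, hU⟩
  · intro e' he'
    apply hom_ext p
    intro U hU
    rw [he' U hU]
    exact (𝒰.ι_glueMorphisms (fun U => g U.1 U.2) compat' ⟨U, hU⟩).symm

end glue

section local_target

variable {Y PA PB : Scheme.{u}}

/-- transfer of a target-local property through "charts" -/
theorem of_chartwise (Q : MorphismProperty Scheme.{u}) [IsZariskiLocalAtTarget Q]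
    (pA : PA ⟶ Y) (pB : PB ⟶ Y) (h : PB ⟶ PA) (hcomm : h ≫ pA = pB)
    (k : ∀ (U : Y.Opens) (_ : IsAffineOpen U),
      ((pB ⁻¹ᵁ U : PB.Opens) : Scheme.{u}) ⟶ ((pA ⁻¹ᵁ U : PA.Opens) : Scheme.{u}))
    (hk : ∀ (U : Y.Opens) (hU : IsAffineOpen U),
      k U hU ≫ (pA ⁻¹ᵁ U).ι = (pB ⁻¹ᵁ U).ι ≫ h)
    (hQ : ∀ (U : Y.Opens) (hU : IsAffineOpen U), Q (k U hU)) : Q h := by
  rw [IsZariskiLocalAtTarget.iff_of_iSup_eq_top (P := Q)
    (fun U : Y.affineOpens => pA ⁻¹ᵁ U.1) (isOpenCover_preimage pA)]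
  intro U
  have heq : h ⁻¹ᵁ (pA ⁻¹ᵁ U.1) = pB ⁻¹ᵁ U.1 := by
    rw [← Scheme.Hom.comp_preimage, hcomm]
  have : h ∣_ (pA ⁻¹ᵁ U.1) = (PB.isoOfEq heq).hom ≫ k U.1 U.2 := by
    rw [← cancel_mono (pA ⁻¹ᵁ U.1).ι, morphismRestrict_ι, Category.assoc, hk U.1 U.2,
      Scheme.isoOfEq_hom_ι_assoc]
  rw [this]
  exact (MorphismProperty.cancel_left_of_respectsIso Q _ _).2 (hQ U.1 U.2)

end local_target

end Groth.Agent.Helper1.RP
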