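import Mathlib

/-!
# `Proj.map` of a surjective graded ring homomorphism is a closed immersion
-/

set_option autoImplicit false
set_option linter.style.haveILetI false

namespace Groth.Agent.Helper1.LinEmb

open CategoryTheory Limits AlgebraicGeometry TopologicalSpace HomogeneousIdeal
  HomogeneousLocalization

universe u

variable {A B σ τ : Type u} [CommRing A] [SetLike σ A] [AddSubgroupClass σ A]
  [CommRing B] [SetLike τ B] [AddSubgroupClass τ B]
  {𝒜 : ℕ → σ} {ℬ : ℕ → τ} [GradedRing 𝒜] [GradedRing ℬ]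
  (f : 𝒜 →+*ᵍ ℬ)

theorem exists_homogeneous_preimage (hs : Function.Surjective f) {i : ℕ} {x : B}
    (hx : x ∈ ℬ i) : ∃ a ∈ 𝒜 i, f a = x := by
  obtain ⟨a, rfl⟩ := hs x
  refine ⟨DirectSum.decompose 𝒜 a i, SetLike.coe_mem _, ?_⟩
  rw [f.map_directSumDecompose, DirectSum.decompose_of_mem_same ℬ hx]

theorem irrelevant_le_of_surjective (hs : Function.Surjective f) : ℬ₊ ≤ 𝒜₊.map f := by
  rw [HomogeneousIdeal.irrelevant_le]
  intro i hi x hx
  obtain ⟨a, ha, rfl⟩ := exists_homogeneous_preimage f hs hx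
  exact Ideal.mem_map_of_mem _ (HomogeneousIdeal.mem_irrelevant_of_mem _ hi ha)

theorem away_map_surjective (hs : Function.Surjective f) {i : ℕ} (s : A) (hsi : s ∈ 𝒜 i) :
    Function.Surjective (Away.map f s) := by
  intro x
  obtain ⟨n, b, hb, rfl⟩ := Away.mk_surjective ℬ (f.map_mem hsi) x
  obtain ⟨a, ha, rfl⟩ := exists_homogeneous_preimage f hs hb
  exact ⟨Away.mk 𝒜 hsi n a ha, Away.map_mk f s hsi n a ha⟩

end Groth.Agent.Helper1.LinEmb

namespace Groth.Agent.Helper1.LinEmb

open CategoryTheory Limits AlgebraicGeometry TopologicalSpace HomogeneousIdeal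
  HomogeneousLocalization

universe u

variable {A B σ τ : Type u} [CommRing A] [SetLike σ A] [AddSubgroupClass σ A]
  [CommRing B] [SetLike τ B] [AddSubgroupClass τ B]
  {𝒜 : ℕ → σ} {ℬ : ℕ → τ} [GradedRing 𝒜] [GradedRing ℬ]
  (f : 𝒜 →+*ᵍ ℬ)

theorem isPullback_awayι (hf : ℬ₊ ≤ 𝒜₊.map f) {i : ℕ} (hi : 0 < i) (s : A) (hs : s ∈ 𝒜 i) :
    IsPullback (Spec.map (CommRingCat.ofHom (Away.map f s)))
      (Proj.awayι ℬ (f s) (f.map_mem hs) hi) (Proj.awayι 𝒜 s hs hi) (Proj.map f hf) := by
  refine IsOpenImmersion.isPullback _ _ _ _ (Proj.awayι_comp_map f hf hi s hs) ?_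
  rw [Proj.opensRange_awayι, Proj.opensRange_awayι, Proj.map_preimage_basicOpen]

theorem isClosedImmersion_map (hs : Function.Surjective f) :
    IsClosedImmersion (Proj.map f (irrelevant_le_of_surjective f hs)) := by
  apply IsZariskiLocalAtTarget.of_openCover (P := @IsClosedImmersion)
    (Proj.affineOpenCover 𝒜).openCover
  intro s
  have sq := isPullback_awayι f (irrelevant_le_of_surjective f hs) s.1.2 s.2.1 s.2.2
  have h1 : IsClosedImmersion (Spec.map (CommRingCat.ofHom (Away.map f s.2.1))) :=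
    IsClosedImmersion.spec_of_surjective _ (away_map_surjective f hs s.2.1 s.2.2)
  have h2 : sq.flip.isoPullback.hom ≫ pullback.snd _ _ =
      Spec.map (CommRingCat.ofHom (Away.map f s.2.1)) := sq.flip.isoPullback_hom_snd
  rw [← h2] at h1
  exact (MorphismProperty.cancel_left_of_respectsIso @IsClosedImmersion _ _).1 h1

end Groth.Agent.Helper1.LinEmb
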