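import Mathlib

/-!
# The kernel of the map of degree zero localizations induced by a graded ring homomorphism
whose homogeneous kernel is generated by a form of degree one
-/

set_option autoImplicit false
set_option linter.style.haveILetI false

namespace Groth.Agent.Helper1.ZS

open HomogeneousLocalization

universe u

variable {A B σ τ : Type u} [CommRing A] [SetLike σ A] [AddSubgroupClass σ A]
  [CommRing B] [SetLike τ B] [AddSubgroupClass τ B]
  {𝒜 : ℕ → σ} {ℬ : ℕ → τ} [GradedRing 𝒜] [GradedRing ℬ]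
  (f : 𝒜 →+*ᵍ ℬ) {ℓ : A} (hℓ : ℓ ∈ 𝒜 1) (hfℓ : f ℓ = 0)
  (hker : ∀ (d : ℕ) (x : A), x ∈ 𝒜 (d + 1) → f x = 0 → ∃ q ∈ 𝒜 d, x = ℓ * q)
  {t : A} (ht : t ∈ 𝒜 1)

theorem away_mk_eq_zero_iff {d : ℕ} {s : A} (hs : s ∈ 𝒜 d) (n : ℕ) (x : A) (hx : x ∈ 𝒜 (n • d)) :
    Away.mk 𝒜 hs n x hx = 0 ↔ ∃ N : ℕ, s ^ N * x = 0 := by
  rw [← (val_injective (𝒜 := 𝒜) (x := Submonoid.powers s)).eq_iff, Away.val_mk, val_zero,
    Localization.mk_eq_mk', IsLocalization.mk'_eq_zero_iff]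
  constructor
  · rintro ⟨⟨_, N, rfl⟩, h⟩
    exact ⟨N, h⟩
  · rintro ⟨N, h⟩
    exact ⟨⟨_, N, rfl⟩, h⟩

include hfℓ in
theorem map_mk_ℓ : Away.map f t (Away.mk 𝒜 ht 1 ℓ (by simpa using hℓ)) = 0 := by
  rw [Away.map_mk, away_mk_eq_zero_iff]
  exact ⟨0, by rw [hfℓ, mul_zero]⟩

include hker in
theorem mem_span_of_map_eq_zero (z : Away 𝒜 t) (hz : Away.map f t z = 0) :
    z ∈ Ideal.span {Away.mk 𝒜 ht 1 ℓ (by simpa using hℓ)} := by
  obtain ⟨n, a, ha, rfl⟩ := Away.mk_surjective 𝒜 ht z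
  rw [Away.map_mk, away_mk_eq_zero_iff] at hz
  obtain ⟨N, hN⟩ := hz
  have ha' : a ∈ 𝒜 n := by simpa using ha
  have hx : t ^ (N + 1) * a ∈ 𝒜 ((N + n) + 1) := by
    have h1 : t ^ (N + 1) ∈ 𝒜 ((N + 1) • 1) := SetLike.pow_mem_graded (N + 1) ht
    have h2 := SetLike.mul_mem_graded h1 ha'
    have e : (N + 1) • 1 + n = (N + n) + 1 := by simp; omega
    rw [e] at h2
    exact h2
  have hfx : f (t ^ (N + 1) * a) = 0 := by
    rw [pow_succ', mul_assoc, map_mul, map_mul, map_pow, hN, mul_zero]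
  obtain ⟨q, hq, hxq⟩ := hker (N + n) _ hx hfx
  have hq' : q ∈ 𝒜 ((N + n) • 1) := by simpa using hq
  have key : Away.mk 𝒜 ht n a ha =
      Away.mk 𝒜 ht (N + n) q hq' * Away.mk 𝒜 ht 1 ℓ (by simpa using hℓ) := by
    apply val_injective
    rw [val_mul, Away.val_mk, Away.val_mk, Away.val_mk, Localization.mk_mul,
      Localization.mk_eq_mk_iff, Localization.r_iff_exists]
    refine ⟨1, ?_⟩
    simp only [OneMemClass.coe_one, one_mul, Submonoid.coe_mul]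
    rw [mul_comm q ℓ, ← hxq]
    ring
  rw [key]
  exact Ideal.mul_mem_left _ _ (Ideal.subset_span rfl)

include hfℓ hker in
/-- **the kernel of the map of degree zero localizations** -/
theorem ker_away_map :
    RingHom.ker (Away.map f t) = Ideal.span {Away.mk 𝒜 ht 1 ℓ (by simpa using hℓ)} := by
  apply le_antisymm
  · intro z hz
    exact mem_span_of_map_eq_zero f hℓ hker ht z hz
  · rw [Ideal.span_le]
    rintro _ rfl
    exact map_mk_ℓ f hℓ hfℓ ht

end Groth.Agent.Helper1.ZS
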