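import Mathlib
import Groth.Agent.Helper1.LinEmb1
import Groth.Agent.Helper1.ZS4

/-!
# Relative Proj toolkit, part 2: lemmas on `Proj.map`
-/

set_option autoImplicit false
set_option linter.style.haveILetI false

namespace Groth.Agent.Helper1.RP

open CategoryTheory Limits AlgebraicGeometry TopologicalSpace HomogeneousIdeal
  HomogeneousLocalization

universe u

variable {A B σ τ : Type u} [CommRing A] [SetLike σ A] [AddSubgroupClass σ A]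
  [CommRing B] [SetLike τ B] [AddSubgroupClass τ B]
  {𝒜 : ℕ → σ} {ℬ : ℕ → τ} [GradedRing 𝒜] [GradedRing ℬ]

theorem map_congr {f g : 𝒜 →+*ᵍ ℬ} (h : f = g) (hf : ℬ₊ ≤ 𝒜₊.map f) (hg : ℬ₊ ≤ 𝒜₊.map g) :
    Proj.map f hf = Proj.map g hg := by
  subst h
  rfl

variable (f : 𝒜 →+*ᵍ ℬ)

theorem fromZeroRingHom_eq_mk {d : ℕ} {s : A} (hs : s ∈ 𝒜 d) (a : 𝒜 0) :
    fromZeroRingHom 𝒜 (Submonoid.powers s) a =
      Away.mk 𝒜 hs 0 a.1 (by simpa using a.2) := by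
  apply val_injective
  rw [Away.val_mk]
  simp [fromZeroRingHom]

theorem away_map_fromZeroRingHom {d : ℕ} {s : A} (hs : s ∈ 𝒜 d) (a : 𝒜 0) :
    Away.map f s (fromZeroRingHom 𝒜 (Submonoid.powers s) a) =
      fromZeroRingHom ℬ (Submonoid.powers (f s)) (f.gradedZeroRingHom a) := by
  rw [fromZeroRingHom_eq_mk hs, Away.map_mk]
  exact (fromZeroRingHom_eq_mk (f.map_mem hs) (f.gradedZeroRingHom a)).symm

set_option backward.isDefEq.respectTransparency false in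
theorem map_toSpecZero (hf : ℬ₊ ≤ 𝒜₊.map f) :
    Proj.map f hf ≫ Proj.toSpecZero 𝒜 =
      Proj.toSpecZero ℬ ≫ Spec.map (CommRingCat.ofHom f.gradedZeroRingHom) := by
  refine (Proj.mapAffineOpenCover f hf).openCover.hom_ext _ _ fun s => ?_
  simp only [Scheme.AffineOpenCover.openCover_f, Proj.mapAffineOpenCover_f]
  rw [Proj.awayι_comp_map_assoc f hf s.1.2 s.2.1 s.2.2, Proj.awayι_toSpecZero,
    Proj.awayι_toSpecZero_assoc, ← Spec.map_comp, ← Spec.map_comp]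
  congr 1
  ext a
  exact congrArg val (away_map_fromZeroRingHom f s.2.2 a)

section square

variable {C D σ' τ' : Type u} [CommRing C] [SetLike σ' C] [AddSubgroupClass σ' C]
  [CommRing D] [SetLike τ' D] [AddSubgroupClass τ' D]
  {𝒞 : ℕ → σ'} {𝒟 : ℕ → τ'} [GradedRing 𝒞] [GradedRing 𝒟]

theorem map_square (f : 𝒜 →+*ᵍ ℬ) (g : ℬ →+*ᵍ 𝒟) (f' : 𝒜 →+*ᵍ 𝒞) (g' : 𝒞 →+*ᵍ 𝒟)
    (hsq : g.comp f = g'.comp f') (hf : ℬ₊ ≤ 𝒜₊.map f) (hg : 𝒟₊ ≤ ℬ₊.map g)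
    (hf' : 𝒞₊ ≤ 𝒜₊.map f') (hg' : 𝒟₊ ≤ 𝒞₊.map g') :
    Proj.map g hg ≫ Proj.map f hf = Proj.map g' hg' ≫ Proj.map f' hf' := by
  rw [← Proj.map_comp, ← Proj.map_comp]
  exact map_congr hsq _ _

end square

end Groth.Agent.Helper1.RP
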