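import Mathlib
import Groth.Prelude.Def_RelProj
import Groth.Agent.Helper1.RP1
import Groth.Agent.Helper1.RP2

/-!
# Relative Proj toolkit, part 3: charts, structure morphisms, induced morphisms
-/

set_option autoImplicit false
set_option linter.style.haveILetI false

namespace Groth.Agent.Helper1.RP

open CategoryTheory Limits AlgebraicGeometry TopologicalSpace Opposite RelProj
open scoped HomogeneousIdeal

universe u

variable {Y : Scheme.{u}}

/-- the structure morphism of `Proj 𝒮(U)` to `Y` -/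
noncomputable def str (𝒮 : QCGrAlg Y) (U : Y.Opens) (hU : IsAffineOpen U) :
    Proj (𝒮.deg U hU) ⟶ Y :=
  Proj.toSpecZero (𝒮.deg U hU) ≫ Spec.map (𝒮.strZero U hU) ≫ hU.fromSpec

section one

variable {𝒮 : QCGrAlg Y} {P : Scheme.{u}} {p : P ⟶ Y}
  {chart : ∀ (U : Y.Opens) (hU : IsAffineOpen U),
    (((p ⁻¹ᵁ U : P.Opens) : Scheme.{u}) ≅ Proj (𝒮.deg U hU))}

theorem chart_str (hP : IsRelProj 𝒮 p chart) (U : Y.Opens) (hU : IsAffineOpen U) :
    (chart U hU).hom ≫ str 𝒮 U hU = (p ⁻¹ᵁ U).ι ≫ p :=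
  hP.chart_over U hU

theorem chart_inv_ι_p (hP : IsRelProj 𝒮 p chart) (U : Y.Opens) (hU : IsAffineOpen U) :
    (chart U hU).inv ≫ (p ⁻¹ᵁ U).ι ≫ p = str 𝒮 U hU := by
  rw [← chart_str hP U hU, Iso.inv_hom_id_assoc]

theorem chart_res_inv (hP : IsRelProj 𝒮 p chart) (U : Y.Opens) (hU : IsAffineOpen U)
    (r : Γ(Y, U)) :
    Proj.map (𝒮.res hU (hU.basicOpen r) (Y.basicOpen_le r)) (𝒮.irrelevant_le_map U hU r) ≫
        (chart U hU).inv =
      (chart (Y.basicOpen r) (hU.basicOpen r)).inv ≫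
        P.homOfLE (p.preimage_mono (Y.basicOpen_le r)) := by
  rw [Iso.eq_inv_comp, ← Category.assoc, Iso.comp_inv_eq]
  exact (hP.chart_res U hU r).symm

end one

section two

variable {𝒜 ℬ : QCGrAlg Y} (φ : 𝒜.toQCAlg ⟶ ℬ.toQCAlg) (hφ : IsGradedHom φ)

theorem strZero_gradedHomAt (U : Y.Opens) (hU : IsAffineOpen U) :
    𝒜.strZero U hU ≫ CommRingCat.ofHom (gradedHomAt φ hφ U hU).gradedZeroRingHom =
      ℬ.strZero U hU := by
  ext r
  have := congrArg (fun t => (t.app (op U)).hom r) φ.comm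
  exact this

theorem map_str (U : Y.Opens) (hU : IsAffineOpen U)
    (hirr : (ℬ.deg U hU)₊ ≤ ((𝒜.deg U hU)₊).map (gradedHomAt φ hφ U hU)) :
    Proj.map (gradedHomAt φ hφ U hU) hirr ≫ str 𝒜 U hU = str ℬ U hU := by
  unfold str
  rw [reassoc_of% map_toSpecZero (gradedHomAt φ hφ U hU) hirr, ← Spec.map_comp_assoc,
    strZero_gradedHomAt]

theorem res_gradedHomAt {U V : Y.Opens} (hU : IsAffineOpen U) (hV : IsAffineOpen V) (i : V ≤ U) :
    (gradedHomAt φ hφ V hV).comp (𝒜.res hU hV i) =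
      (ℬ.res hU hV i).comp (gradedHomAt φ hφ U hU) := by
  apply GradedRingHom.ext
  intro x
  have := congrArg (fun t => t.hom x) (φ.hom.naturality (homOfLE i).op)
  exact this

variable {PA PB : Scheme.{u}} {pA : PA ⟶ Y} {pB : PB ⟶ Y}
  {chartA : ∀ (U : Y.Opens) (hU : IsAffineOpen U),
    ((pA ⁻¹ᵁ U : PA.Opens) : Scheme.{u}) ≅ Proj (𝒜.deg U hU)}
  {chartB : ∀ (U : Y.Opens) (hU : IsAffineOpen U),
    ((pB ⁻¹ᵁ U : PB.Opens) : Scheme.{u}) ≅ Proj (ℬ.deg U hU)}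
  (hirr : ∀ (U : Y.Opens) (hU : IsAffineOpen U),
      (ℬ.deg U hU)₊ ≤ ((𝒜.deg U hU)₊).map (gradedHomAt φ hφ U hU))

/-- the local form of the morphism induced by `φ` -/
noncomputable def locMap (chartA : ∀ (U : Y.Opens) (hU : IsAffineOpen U),
      ((pA ⁻¹ᵁ U : PA.Opens) : Scheme.{u}) ≅ Proj (𝒜.deg U hU))
    (chartB : ∀ (U : Y.Opens) (hU : IsAffineOpen U),
      ((pB ⁻¹ᵁ U : PB.Opens) : Scheme.{u}) ≅ Proj (ℬ.deg U hU))
    (U : Y.Opens) (hU : IsAffineOpen U) :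
    ((pB ⁻¹ᵁ U : PB.Opens) : Scheme.{u}) ⟶ ((pA ⁻¹ᵁ U : PA.Opens) : Scheme.{u}) :=
  (chartB U hU).hom ≫ Proj.map (gradedHomAt φ hφ U hU) (hirr U hU) ≫ (chartA U hU).inv

theorem isRelProjMap_iff (h : PB ⟶ PA) :
    IsRelProjMap φ hφ hirr chartA chartB h ↔
      ∀ (U : Y.Opens) (hU : IsAffineOpen U),
        locMap φ hφ hirr chartA chartB U hU ≫ (pA ⁻¹ᵁ U).ι = (pB ⁻¹ᵁ U).ι ≫ h := by
  unfold IsRelProjMap locMap
  simp only [Category.assoc]
  exact forall₂_congr fun U hU => eq_comm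

theorem locMap_res (hA : IsRelProj 𝒜 pA chartA) (hB : IsRelProj ℬ pB chartB)
    (U : Y.Opens) (hU : IsAffineOpen U) (r : Γ(Y, U)) :
    PB.homOfLE (pB.preimage_mono (Y.basicOpen_le r)) ≫ locMap φ hφ hirr chartA chartB U hU =
      locMap φ hφ hirr chartA chartB (Y.basicOpen r) (hU.basicOpen r) ≫
        PA.homOfLE (pA.preimage_mono (Y.basicOpen_le r)) := by
  unfold locMap
  rw [reassoc_of% hB.chart_res U hU r, Category.assoc, Category.assoc,
    ← chart_res_inv hA U hU r]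
  rw [reassoc_of% map_square (gradedHomAt φ hφ U hU) (ℬ.res hU (hU.basicOpen r) (Y.basicOpen_le r))
    (𝒜.res hU (hU.basicOpen r) (Y.basicOpen_le r))
    (gradedHomAt φ hφ (Y.basicOpen r) (hU.basicOpen r))
    (res_gradedHomAt φ hφ hU (hU.basicOpen r) (Y.basicOpen_le r)).symm]

theorem locMap_comm (hA : IsRelProj 𝒜 pA chartA) (hB : IsRelProj ℬ pB chartB)
    (U : Y.Opens) (hU : IsAffineOpen U) :
    locMap φ hφ hirr chartA chartB U hU ≫ (pA ⁻¹ᵁ U).ι ≫ pA = (pB ⁻¹ᵁ U).ι ≫ pB := by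
  unfold locMap
  rw [Category.assoc, Category.assoc, chart_inv_ι_p hA U hU, map_str, chart_str hB]

theorem relProjMap_comm (hA : IsRelProj 𝒜 pA chartA) (hB : IsRelProj ℬ pB chartB)
    (h : PB ⟶ PA) (hh : IsRelProjMap φ hφ hirr chartA chartB h) : h ≫ pA = pB := by
  rw [isRelProjMap_iff] at hh
  apply hom_ext pB
  intro U hU
  rw [← reassoc_of% hh U hU, locMap_comm φ hφ hirr hA hB]

theorem existsUnique_relProjMap (hA : IsRelProj 𝒜 pA chartA) (hB : IsRelProj ℬ pB chartB) :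
    ∃! h : PB ⟶ PA, IsRelProjMap φ hφ hirr chartA chartB h := by
  obtain ⟨e, he, hu⟩ := existsUnique_glue pB
    (fun U hU => locMap φ hφ hirr chartA chartB U hU ≫ (pA ⁻¹ᵁ U).ι) (by
      intro U hU r
      rw [reassoc_of% locMap_res φ hφ hirr hA hB U hU r, Scheme.homOfLE_ι])
  refine ⟨e, (isRelProjMap_iff φ hφ hirr e).2 fun U hU => (he U hU).symm, ?_⟩
  intro e' he'
  exact hu e' fun U hU => ((isRelProjMap_iff φ hφ hirr e').1 he' U hU).symm

/-- transfer of target-local properties of `Proj.map` to the induced morphism -/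
theorem relProjMap_of_chartwise (Q : MorphismProperty Scheme.{u}) [IsZariskiLocalAtTarget Q]
    (hA : IsRelProj 𝒜 pA chartA) (hB : IsRelProj ℬ pB chartB)
    (h : PB ⟶ PA) (hh : IsRelProjMap φ hφ hirr chartA chartB h)
    (hQ : ∀ (U : Y.Opens) (hU : IsAffineOpen U),
      Q (Proj.map (gradedHomAt φ hφ U hU) (hirr U hU))) : Q h := by
  refine of_chartwise Q pA pB h (relProjMap_comm φ hφ hirr hA hB h hh)
    (locMap φ hφ hirr chartA chartB) ((isRelProjMap_iff φ hφ hirr h).1 hh) ?_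
  intro U hU
  unfold locMap
  rw [MorphismProperty.cancel_left_of_respectsIso Q,
    MorphismProperty.cancel_right_of_respectsIso Q]
  exact hQ U hU

end two

end Groth.Agent.Helper1.RP
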