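import Mathlib
import Groth.Agent.Helper1.LinEmb1
import Groth.Agent.Helper1.ZS4

/-!
# Relative Proj toolkit, part 5: target-local properties of `Proj.map`, (TN)-isomorphisms
-/

set_option autoImplicit false
set_option linter.style.haveILetI false

namespace Groth.Agent.Helper1.RP

open CategoryTheory Limits AlgebraicGeometry TopologicalSpace HomogeneousIdeal
  HomogeneousLocalization

universe u

variable {A B σ τ : Type u} [CommRing A] [SetLike σ A] [AddSubgroupClass σ A]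
  [CommRing B] [SetLike τ B] [AddSubgroupClass τ B]
  {𝒜 : ℕ → σ} {ℬ : ℕ → τ} [GradedRing 𝒜] [GradedRing ℬ]
  (f : 𝒜 →+*ᵍ ℬ)

/-- target-local properties of `Proj.map` can be checked on the maps of homogeneous
localizations -/
theorem map_of_away (Q : MorphismProperty Scheme.{u}) [IsZariskiLocalAtTarget Q]
    (hf : ℬ₊ ≤ 𝒜₊.map f)
    (h : ∀ (i : ℕ) (_ : 0 < i) (s : A) (_ : s ∈ 𝒜 i),
      Q (Spec.map (CommRingCat.ofHom (Away.map f s)))) : Q (Proj.map f hf) := by
  apply IsZariskiLocalAtTarget.of_openCover (P := Q) (Proj.affineOpenCover 𝒜).openCover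
  intro s
  have sq := LinEmb.isPullback_awayι f hf s.1.2 s.2.1 s.2.2
  have h1 := h s.1 s.1.2 s.2.1 s.2.2
  have h2 : sq.flip.isoPullback.hom ≫ pullback.snd _ _ =
      Spec.map (CommRingCat.ofHom (Away.map f s.2.1)) := sq.flip.isoPullback_hom_snd
  rw [← h2] at h1
  exact (MorphismProperty.cancel_left_of_respectsIso Q _ _).1 h1

theorem away_mk_eq_mk {d : ℕ} {s : A} (hs : s ∈ 𝒜 d) (m n : ℕ) (b : A) (hb : b ∈ 𝒜 (m • d))
    (hb' : b * s ^ n ∈ 𝒜 ((m + n) • d)) :
    Away.mk 𝒜 hs (m + n) (b * s ^ n) hb' = Away.mk 𝒜 hs m b hb := by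
  apply val_injective
  rw [Away.val_mk, Away.val_mk, Localization.mk_eq_mk_iff, Localization.r_iff_exists]
  refine ⟨1, ?_⟩
  simp only [OneMemClass.coe_one, one_mul]
  ring

section TN

variable (n : ℕ)
  (hinj : ∀ k, n ≤ k → ∀ x ∈ 𝒜 k, f x = 0 → x = 0)
  (hsurj : ∀ k, n ≤ k → ∀ y ∈ ℬ k, ∃ x ∈ 𝒜 k, f x = y)

include hinj in
theorem away_map_injective_of_TN {i : ℕ} (hi : 0 < i) (s : A) (hs : s ∈ 𝒜 i) :
    Function.Injective (Away.map f s) := by
  rw [injective_iff_map_eq_zero]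
  intro z hz
  obtain ⟨m, a, ha, rfl⟩ := Away.mk_surjective 𝒜 hs z
  rw [Away.map_mk, ZS.away_mk_eq_zero_iff] at hz
  obtain ⟨N, hN⟩ := hz
  rw [ZS.away_mk_eq_zero_iff]
  refine ⟨N + n, ?_⟩
  have hmem : s ^ (N + n) * a ∈ 𝒜 ((N + n) • i + m • i) :=
    SetLike.mul_mem_graded (SetLike.pow_mem_graded _ hs) ha
  refine hinj _ ?_ _ hmem ?_
  · have : n ≤ n * i := Nat.le_mul_of_pos_right n hi
    simp only [smul_eq_mul]
    nlinarith
  · rw [map_mul, map_pow, pow_add, mul_assoc, mul_comm ((f s) ^ n), ← mul_assoc, hN, zero_mul]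

include hsurj in
theorem away_map_surjective_of_TN {i : ℕ} (hi : 0 < i) (s : A) (hs : s ∈ 𝒜 i) :
    Function.Surjective (Away.map f s) := by
  intro w
  obtain ⟨m, b, hb, rfl⟩ := Away.mk_surjective ℬ (f.map_mem hs) w
  have hmem : b * (f s) ^ n ∈ ℬ ((m + n) • i) := by
    rw [add_smul]
    exact SetLike.mul_mem_graded hb (SetLike.pow_mem_graded _ (f.map_mem hs))
  obtain ⟨a, ha, hfa⟩ := hsurj ((m + n) • i) (by
    have : n ≤ n * i := Nat.le_mul_of_pos_right n hi
    simp only [smul_eq_mul]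
    nlinarith) _ hmem
  refine ⟨Away.mk 𝒜 hs (m + n) a ha, ?_⟩
  rw [Away.map_mk]
  have := away_mk_eq_mk (f.map_mem hs) m n b hb hmem
  rw [← this]
  congr 1

include hinj hsurj in
theorem isIso_map_of_TN (hf : ℬ₊ ≤ 𝒜₊.map f) : IsIso (Proj.map f hf) := by
  refine map_of_away f (MorphismProperty.isomorphisms Scheme.{u}) hf ?_
  intro i hi s hs
  have hb : Function.Bijective (Away.map f s) :=
    ⟨away_map_injective_of_TN f n hinj hi s hs, away_map_surjective_of_TN f n hsurj hi s hs⟩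
  have : IsIso (CommRingCat.ofHom (Away.map f s)) :=
    (ConcreteCategory.isIso_iff_bijective _).2 hb
  show IsIso (Spec.map (CommRingCat.ofHom (Away.map f s)))
  infer_instance

end TN

end Groth.Agent.Helper1.RP
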