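import Mathlib
import Groth.Agent.Helper1.RP2
import Groth.Agent.Helper1.RP5

/-!
# Relative Proj toolkit, part 7: `Proj` of a localization at a degree zero element
-/

set_option autoImplicit false
set_option linter.style.haveILetI false

namespace Groth.Agent.Helper1.RP

open CategoryTheory Limits AlgebraicGeometry TopologicalSpace HomogeneousIdeal
  HomogeneousLocalization

universe u

variable {A B σ τ : Type u} [CommRing A] [SetLike σ A] [AddSubgroupClass σ A]
  [CommRing B] [SetLike τ B] [AddSubgroupClass τ B]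
  {𝒜 : ℕ → σ} {ℬ : ℕ → τ} [GradedRing 𝒜] [GradedRing ℬ]
  (ψ : 𝒜 →+*ᵍ ℬ) (c : A) (hc : c ∈ 𝒜 0)

/-- the data of a localization away from `c`, unbundled -/
structure IsLocAway : Prop where
  unit : IsUnit (ψ c)
  surj : ∀ b : B, ∃ (a : A) (k : ℕ), b * ψ c ^ k = ψ a
  ker : ∀ a : A, ψ a = 0 → ∃ k : ℕ, c ^ k * a = 0

theorem isLocAway_of_isLocalization
    (h : letI := ψ.toRingHom.toAlgebra; IsLocalization.Away c B) : IsLocAway ψ c := by
  letI := ψ.toRingHom.toAlgebra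
  refine ⟨IsLocalization.Away.algebraMap_isUnit (S := B) c, ?_, ?_⟩
  · intro b
    obtain ⟨⟨a, s, hs⟩, h1⟩ := IsLocalization.surj (Submonoid.powers c) b
    obtain ⟨k, rfl⟩ := (Submonoid.mem_powers_iff _ _).mp hs
    refine ⟨a, k, ?_⟩
    rw [← map_pow]
    exact h1
  · intro a ha
    have h1 : algebraMap A B a = algebraMap A B 0 := by rw [map_zero]; exact ha
    obtain ⟨⟨_, k, rfl⟩, hk⟩ := IsLocalization.exists_of_eq (M := Submonoid.powers c) h1
    exact ⟨k, by simpa using hk⟩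

variable {ψ c}

include hc in
theorem IsLocAway.surj_homog (h : IsLocAway ψ c) {n : ℕ} {b : B} (hb : b ∈ ℬ n) :
    ∃ a ∈ 𝒜 n, ∃ k : ℕ, b * ψ c ^ k = ψ a := by
  classical
  obtain ⟨a, k, hak⟩ := h.surj b
  refine ⟨DirectSum.decompose 𝒜 a n, SetLike.coe_mem _, k, ?_⟩
  have h0 : ψ c ^ k ∈ ℬ 0 := by simpa using SetLike.pow_mem_graded k (ψ.map_mem hc)
  have hbn : b * ψ c ^ k ∈ ℬ n := by simpa using SetLike.mul_mem_graded hb h0
  rw [ψ.map_directSumDecompose, ← hak, DirectSum.decompose_of_mem_same ℬ hbn]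

include hc in
theorem IsLocAway.isUnit_zero (h : IsLocAway ψ c) :
    IsUnit (ψ.gradedZeroRingHom ⟨c, hc⟩) := by
  classical
  obtain ⟨u, hu⟩ := h.unit.exists_right_inv
  have h1 : ψ c * (DirectSum.decompose ℬ u 0 : B) = 1 := by
    have h2 := DirectSum.coe_decompose_mul_of_left_mem_zero ℬ (a := ψ c) (b := u) (j := 0)
      (ψ.map_mem hc)
    rw [hu, DirectSum.decompose_of_mem_same ℬ SetLike.GradedOne.one_mem] at h2
    exact h2.symm
  refine IsUnit.of_mul_eq_one ⟨(DirectSum.decompose ℬ u 0 : B), SetLike.coe_mem _⟩ ?_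
  exact Subtype.ext h1

theorem val_fromZero {s : A} (a : 𝒜 0) :
    (fromZeroRingHom 𝒜 (Submonoid.powers s) a).val = Localization.mk a.1 1 := by
  simp [fromZeroRingHom]
  rfl

include hc in
/-- the map of homogeneous localizations induced by a localization at a degree zero element is
a localization -/
theorem IsLocAway.isLocalization_away (h : IsLocAway ψ c) {i : ℕ} {s : A} (hs : s ∈ 𝒜 i) :
    letI := (Away.map ψ s).toAlgebra
    IsLocalization.Away (fromZeroRingHom 𝒜 (Submonoid.powers s) ⟨c, hc⟩) (Away ℬ (ψ s)) := by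
  letI := (Away.map ψ s).toAlgebra
  have halg : algebraMap (Away 𝒜 s) (Away ℬ (ψ s)) = Away.map ψ s := RingHom.algebraMap_toAlgebra _
  have hγ : Away.map ψ s (fromZeroRingHom 𝒜 (Submonoid.powers s) ⟨c, hc⟩) =
      fromZeroRingHom ℬ (Submonoid.powers (ψ s)) (ψ.gradedZeroRingHom ⟨c, hc⟩) :=
    away_map_fromZeroRingHom ψ hs ⟨c, hc⟩
  rw [IsLocalization.Away, isLocalization_iff]
  refine ⟨?_, ?_, ?_⟩
  · rintro ⟨_, k, rfl⟩
    rw [halg, map_pow, hγ]
    exact ((h.isUnit_zero hc).map _).pow k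
  · intro z
    obtain ⟨m, b, hb, rfl⟩ := Away.mk_surjective ℬ (ψ.map_mem hs) z
    obtain ⟨a, ha, k, hak⟩ := h.surj_homog hc hb
    refine ⟨⟨Away.mk 𝒜 hs m a ha,
      ⟨(fromZeroRingHom 𝒜 (Submonoid.powers s) ⟨c, hc⟩) ^ k, k, rfl⟩⟩, ?_⟩
    simp only [halg]
    rw [map_pow, hγ, Away.map_mk]
    apply val_injective
    rw [val_mul, val_pow, Away.val_mk, Away.val_mk, val_fromZero, Localization.mk_pow,
      Localization.mk_mul]
    simp only [one_pow, mul_one]
    congr 1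
  · intro x y hxy
    rw [halg] at hxy
    have hw : Away.map ψ s (x - y) = 0 := by rw [map_sub, hxy, sub_self]
    obtain ⟨m, a, ha, hxa⟩ := Away.mk_surjective 𝒜 hs (x - y)
    rw [← hxa, Away.map_mk, ZS.away_mk_eq_zero_iff] at hw
    obtain ⟨N, hN⟩ := hw
    have h2 : ψ (s ^ N * a) = 0 := by rw [map_mul, map_pow]; exact hN
    obtain ⟨k, hk⟩ := h.ker _ h2
    refine ⟨⟨(fromZeroRingHom 𝒜 (Submonoid.powers s) ⟨c, hc⟩) ^ k, k, rfl⟩, ?_⟩
    show (fromZeroRingHom 𝒜 (Submonoid.powers s) ⟨c, hc⟩) ^ k * x =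
      (fromZeroRingHom 𝒜 (Submonoid.powers s) ⟨c, hc⟩) ^ k * y
    rw [← sub_eq_zero, ← mul_sub, ← hxa]
    have hmem : c ^ k * a ∈ 𝒜 (m • i) := by
      have h0 : c ^ k ∈ 𝒜 0 := by simpa using SetLike.pow_mem_graded k hc
      simpa using SetLike.mul_mem_graded h0 ha
    have h3 : (fromZeroRingHom 𝒜 (Submonoid.powers s) ⟨c, hc⟩) ^ k * Away.mk 𝒜 hs m a ha =
        Away.mk 𝒜 hs m (c ^ k * a) hmem := by
      apply val_injective
      rw [val_mul, val_pow, Away.val_mk, Away.val_mk, val_fromZero, Localization.mk_pow,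
        Localization.mk_mul]
      simp only [one_pow, one_mul]
    rw [h3, ZS.away_mk_eq_zero_iff]
    refine ⟨N, ?_⟩
    rw [← hk]
    ring

include hc in
theorem IsLocAway.isOpenImmersion_map (h : IsLocAway ψ c) (hirr : ℬ₊ ≤ 𝒜₊.map ψ) :
    IsOpenImmersion (Proj.map ψ hirr) := by
  refine map_of_away ψ @IsOpenImmersion hirr ?_
  intro i _ s hs
  letI := (Away.map ψ s).toAlgebra
  haveI := h.isLocalization_away hc hs
  exact IsOpenImmersion.of_isLocalization (R := Away 𝒜 s) (S := Away ℬ (ψ s))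
    (fromZeroRingHom 𝒜 (Submonoid.powers s) ⟨c, hc⟩)

end Groth.Agent.Helper1.RP
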