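import Mathlib
import Groth.Agent.Helper1.RP7

/-!
# Relative Proj toolkit, part 8: range of `Proj.map` for a localization at a degree zero element
-/

set_option autoImplicit false
set_option linter.style.haveILetI false

namespace Groth.Agent.Helper1.RP

open CategoryTheory Limits AlgebraicGeometry TopologicalSpace HomogeneousIdeal
  HomogeneousLocalization

universe u

variable {A B σ τ : Type u} [CommRing A] [SetLike σ A] [AddSubgroupClass σ A]
  [CommRing B] [SetLike τ B] [AddSubgroupClass τ B]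
  {𝒜 : ℕ → σ} {ℬ : ℕ → τ} [GradedRing 𝒜] [GradedRing ℬ]
  {ψ : 𝒜 →+*ᵍ ℬ} {c : A} (hc : c ∈ 𝒜 0)

theorem spec_map_mem_basicOpen {R S : CommRingCat.{u}} (φ : R ⟶ S) (r : R) (w : Spec S) :
    (Spec.map φ) w ∈ (PrimeSpectrum.basicOpen r : (Spec R).Opens) ↔ φ.hom r ∉ w.asIdeal :=
  Iff.rfl

include hc in
theorem IsLocAway.opensRange_map (h : IsLocAway ψ c) (hirr : ℬ₊ ≤ 𝒜₊.map ψ) :
    haveI := h.isOpenImmersion_map hc hirr
    (Proj.map ψ hirr).opensRange =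
      Proj.toSpecZero 𝒜 ⁻¹ᵁ (PrimeSpectrum.basicOpen (⟨c, hc⟩ : 𝒜 0)) := by
  haveI := h.isOpenImmersion_map hc hirr
  ext x
  constructor
  · rintro ⟨z, rfl⟩
    show (Proj.toSpecZero 𝒜) ((Proj.map ψ hirr) z) ∈
      (PrimeSpectrum.basicOpen (⟨c, hc⟩ : 𝒜 0) : (Spec (.of (𝒜 0))).Opens)
    rw [← Scheme.Hom.comp_apply, map_toSpecZero, Scheme.Hom.comp_apply]
    refine (spec_map_mem_basicOpen (CommRingCat.ofHom ψ.gradedZeroRingHom) ⟨c, hc⟩ _).2 ?_
    intro hmem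
    exact (Ideal.IsPrime.ne_top inferInstance)
      (Ideal.eq_top_of_isUnit_mem _ hmem (h.isUnit_zero hc))
  · intro hx
    obtain ⟨i, hi, s, hs, y, rfl⟩ : ∃ (i : ℕ) (hi : 0 < i) (s : A) (hs : s ∈ 𝒜 i)
        (y : Spec (.of (Away 𝒜 s))), (Proj.awayι 𝒜 s hs hi) y = x := by
      obtain ⟨y, hy⟩ := (Proj.affineOpenCover 𝒜).openCover.covers x
      exact ⟨_, ((Proj.affineOpenCover 𝒜).openCover.idx x).1.2, _,
        ((Proj.affineOpenCover 𝒜).openCover.idx x).2.2, y, hy⟩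
    have hx' : (Proj.toSpecZero 𝒜) ((Proj.awayι 𝒜 s hs hi) y) ∈
        (PrimeSpectrum.basicOpen (⟨c, hc⟩ : 𝒜 0) : (Spec (.of (𝒜 0))).Opens) := hx
    rw [← Scheme.Hom.comp_apply, Proj.awayι_toSpecZero] at hx'
    replace hx' := (spec_map_mem_basicOpen
      (CommRingCat.ofHom (fromZeroRingHom 𝒜 (Submonoid.powers s))) ⟨c, hc⟩ y).1 hx'
    letI := (Away.map ψ s).toAlgebra
    haveI := h.isLocalization_away hc hs
    have hr := PrimeSpectrum.localization_away_comap_range (Away ℬ (ψ s))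
      (fromZeroRingHom 𝒜 (Submonoid.powers s) ⟨c, hc⟩)
    have hy : y ∈ Set.range (PrimeSpectrum.comap (algebraMap (Away 𝒜 s) (Away ℬ (ψ s)))) := by
      rw [hr]
      exact hx'
    obtain ⟨y', hy'⟩ := hy
    refine ⟨(Proj.awayι ℬ (ψ s) (ψ.map_mem hs) hi) y', ?_⟩
    show (Proj.map ψ hirr) ((Proj.awayι ℬ (ψ s) (ψ.map_mem hs) hi) y') = _
    rw [← Scheme.Hom.comp_apply, Proj.awayι_comp_map ψ hirr hi s hs,
      Scheme.Hom.comp_apply]
    exact congrArg _ hy'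

end Groth.Agent.Helper1.RP
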