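import Mathlib
import Groth.Prelude.Def_RelProj
import Groth.Agent.Helper1.RP3
import Groth.Agent.Helper1.RP8

/-!
# Relative Proj toolkit, part 9: the relative gluing datum of a quasi-coherent graded algebra
-/

set_option autoImplicit false
set_option linter.style.haveILetI false

namespace Groth.Agent.Helper1.RP

open CategoryTheory Limits AlgebraicGeometry TopologicalSpace Opposite RelProj
open scoped HomogeneousIdeal

universe u

variable {Y : Scheme.{u}} (𝒮 : QCGrAlg Y)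

theorem irrelevant_le_map_of_le {U V : Y.AffineZariskiSite} (h : V ≤ U) :
    (𝒮.deg V.1 V.2)₊ ≤
      ((𝒮.deg U.1 U.2)₊).map (𝒮.res U.2 V.2 (Scheme.AffineZariskiSite.toOpens_mono h)) := by
  obtain ⟨r, hr⟩ := h
  obtain ⟨V, hV⟩ := V
  change Y.basicOpen r = V at hr
  subst hr
  exact 𝒮.irrelevant_le_map U.1 U.2 r

theorem res_self {U : Y.Opens} (hU : IsAffineOpen U) :
    𝒮.res hU hU le_rfl = GradedRingHom.id (𝒮.deg U hU) := by
  apply GradedRingHom.ext
  intro x
  show (𝒮.presheaf.map (homOfLE le_rfl).op).hom x = x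
  have : (homOfLE (le_refl U)).op = 𝟙 (op U) := rfl
  rw [this, 𝒮.presheaf.map_id]
  rfl

theorem res_comp {U V W : Y.Opens} (hU : IsAffineOpen U) (hV : IsAffineOpen V)
    (hW : IsAffineOpen W) (i : V ≤ U) (j : W ≤ V) :
    𝒮.res hU hW (j.trans i) = (𝒮.res hV hW j).comp (𝒮.res hU hV i) := by
  apply GradedRingHom.ext
  intro x
  show (𝒮.presheaf.map (homOfLE (j.trans i)).op).hom x =
    (𝒮.presheaf.map (homOfLE j).op).hom ((𝒮.presheaf.map (homOfLE i).op).hom x)
  have : (homOfLE (j.trans i)).op = (homOfLE i).op ≫ (homOfLE j).op := rfl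
  rw [this, 𝒮.presheaf.map_comp]
  rfl

/-- the functor `U ↦ Proj 𝒮(U)` on the small affine Zariski site -/
noncomputable def projFunctor : Y.AffineZariskiSite ⥤ Scheme.{u} where
  obj U := Proj (𝒮.deg U.1 U.2)
  map {V U} f := Proj.map (𝒮.res U.2 V.2 (Scheme.AffineZariskiSite.toOpens_mono f.le))
    (irrelevant_le_map_of_le 𝒮 f.le)
  map_id U := by
    rw [map_congr (res_self 𝒮 U.2) _ (by simp), Proj.map_id]
  map_comp {W V U} f g := by
    rw [map_congr (res_comp 𝒮 U.2 V.2 W.2 (Scheme.AffineZariskiSite.toOpens_mono g.le)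
      (Scheme.AffineZariskiSite.toOpens_mono f.le)) _
      (HomogeneousIdeal.irrelevant_le_map_comp (irrelevant_le_map_of_le 𝒮 g.le)
        (irrelevant_le_map_of_le 𝒮 f.le)), Proj.map_comp]

theorem strZero_res {U V : Y.Opens} (hU : IsAffineOpen U) (hV : IsAffineOpen V) (i : V ≤ U) :
    𝒮.strZero U hU ≫ CommRingCat.ofHom (𝒮.res hU hV i).gradedZeroRingHom =
      Y.presheaf.map (homOfLE i).op ≫ 𝒮.strZero V hV := by
  ext r
  have := congrArg (fun t => t.hom r) (𝒮.str.naturality (homOfLE i).op)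
  exact this.symm

/-- the structure morphism `Proj 𝒮(U) ⟶ U` -/
noncomputable def toOpen (U : Y.Opens) (hU : IsAffineOpen U) : Proj (𝒮.deg U hU) ⟶ (U : Scheme.{u}) :=
  Proj.toSpecZero (𝒮.deg U hU) ≫ Spec.map (𝒮.strZero U hU) ≫ hU.isoSpec.inv

theorem toOpen_ι (U : Y.Opens) (hU : IsAffineOpen U) : toOpen 𝒮 U hU ≫ U.ι = str 𝒮 U hU := by
  unfold toOpen str
  simp only [Category.assoc, IsAffineOpen.isoSpec_inv_ι]

theorem map_res_toOpen {U V : Y.Opens} (hU : IsAffineOpen U) (hV : IsAffineOpen V) (i : V ≤ U)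
    (hirr : (𝒮.deg V hV)₊ ≤ ((𝒮.deg U hU)₊).map (𝒮.res hU hV i)) :
    Proj.map (𝒮.res hU hV i) hirr ≫ toOpen 𝒮 U hU = toOpen 𝒮 V hV ≫ Y.homOfLE i := by
  rw [← cancel_mono U.ι, Category.assoc, Category.assoc, Scheme.homOfLE_ι, toOpen_ι, toOpen_ι]
  unfold str
  rw [reassoc_of% map_toSpecZero (𝒮.res hU hV i) hirr, ← Spec.map_comp_assoc, strZero_res,
    Spec.map_comp_assoc, IsAffineOpen.map_fromSpec]

/-- the natural transformation to the directed cover -/
noncomputable def projNatTrans :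
    projFunctor 𝒮 ⟶ (Scheme.AffineZariskiSite.directedCover Y).functorOfLocallyDirected where
  app U := toOpen 𝒮 U.1 U.2
  naturality {V U} f :=
    map_res_toOpen 𝒮 U.2 V.2 (Scheme.AffineZariskiSite.toOpens_mono f.le) _

theorem isLocAway_res (U : Y.Opens) (hU : IsAffineOpen U) (r : Γ(Y, U)) :
    IsLocAway (𝒮.res hU (hU.basicOpen r) (Y.basicOpen_le r)) ((𝒮.str.app (op U)).hom r) :=
  isLocAway_of_isLocalization _ _ (𝒮.isQC U hU r)

theorem toOpen_preimage (U : Y.Opens) (hU : IsAffineOpen U) (r : Γ(Y, U)) :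
    toOpen 𝒮 U hU ⁻¹ᵁ (U.ι ⁻¹ᵁ Y.basicOpen r) =
      Proj.toSpecZero (𝒮.deg U hU) ⁻¹ᵁ
        (PrimeSpectrum.basicOpen ((𝒮.strZero U hU).hom r)) := by
  rw [← Scheme.Hom.comp_preimage, toOpen_ι]
  unfold str
  rw [Scheme.Hom.comp_preimage, Scheme.Hom.comp_preimage, hU.fromSpec_preimage_basicOpen]
  rfl

theorem isPullback_basicOpen (U : Y.Opens) (hU : IsAffineOpen U) (r : Γ(Y, U)) :
    IsPullback
      (Proj.map (𝒮.res hU (hU.basicOpen r) (Y.basicOpen_le r)) (𝒮.irrelevant_le_map U hU r))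
      (toOpen 𝒮 (Y.basicOpen r) (hU.basicOpen r)) (toOpen 𝒮 U hU)
      (Y.homOfLE (Y.basicOpen_le r)) := by
  have hloc := isLocAway_res 𝒮 U hU r
  haveI := hloc.isOpenImmersion_map (𝒮.str_mem U hU r) (𝒮.irrelevant_le_map U hU r)
  refine (IsOpenImmersion.isPullback _ _ _ _
    (map_res_toOpen 𝒮 hU (hU.basicOpen r) (Y.basicOpen_le r) (𝒮.irrelevant_le_map U hU r)) ?_).flip
  rw [Scheme.opensRange_homOfLE, toOpen_preimage,
    hloc.opensRange_map (𝒮.str_mem U hU r) (𝒮.irrelevant_le_map U hU r)]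
  rfl

theorem equifibered_projNatTrans : (projNatTrans 𝒮).Equifibered := by
  intro V U f
  obtain ⟨r, hr⟩ := f.le
  obtain ⟨V, hV⟩ := V
  change Y.basicOpen r = V at hr
  subst hr
  exact isPullback_basicOpen 𝒮 U.1 U.2 r

/-- the relative gluing datum -/
noncomputable def gluingData :
    (Scheme.AffineZariskiSite.directedCover Y).RelativeGluingData where
  functor := projFunctor 𝒮
  natTrans := projNatTrans 𝒮
  equifibered := equifibered_projNatTrans 𝒮

end Groth.Agent.Helper1.RP
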