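import Mathlib
import Groth.Prelude.Def_RelProj4
import Groth.Agent.Helper1.RP9

/-!
# Relative Proj toolkit, part 15: the open of definition `G(ψ)`
-/

set_option autoImplicit false
set_option linter.style.haveILetI false

namespace Groth.Agent.Helper1.RP

open CategoryTheory Limits AlgebraicGeometry TopologicalSpace Opposite RelProj
open scoped HomogeneousIdeal

universe u

section ring

variable {A σ B τ : Type u} [CommRing A] [SetLike σ A] [AddSubgroupClass σ A]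
  [CommRing B] [SetLike τ B] [AddSubgroupClass τ B]
  {𝒜 : ℕ → σ} {ℬ : ℕ → τ} [GradedRing 𝒜] [GradedRing ℬ]

/-- an element of the irrelevant ideal outside an ideal has a homogeneous component of positive
degree whose image is outside the ideal. -/
theorem exists_pos_deg_notMem (ψ : A →+* B) (f : A) (hf : f ∈ (𝒜₊).toIdeal) (J : Ideal B)
    (hfJ : ψ f ∉ J) : ∃ i : ℕ, 0 < i ∧ ψ (DirectSum.decompose 𝒜 f i : A) ∉ J := by
  classical
  by_contra hcon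
  push Not at hcon
  apply hfJ
  rw [← DirectSum.sum_support_decompose 𝒜 f, map_sum]
  refine Ideal.sum_mem _ fun i _ => ?_
  rcases Nat.eq_zero_or_pos i with rfl | hi
  · have h0 : (DirectSum.decompose 𝒜 f 0 : A) = 0 := hf
    rw [h0, map_zero]
    exact zero_mem _
  · exact hcon i hi

theorem mem_domOpen_iff_homog (ψ : 𝒜 →+*ᵍ ℬ) (x : Proj ℬ) :
    x ∈ RelCone.domOpen ψ ↔
      ∃ (d : ℕ) (_ : 0 < d) (f : A) (_ : f ∈ 𝒜 d), x ∈ Proj.basicOpen ℬ (ψ f) := by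
  rw [RelCone.mem_domOpen]
  constructor
  · rintro ⟨f, hf, hfx⟩
    obtain ⟨i, hi, hx⟩ := exists_pos_deg_notMem (𝒜 := 𝒜) (ψ : A →+* B) f hf
      x.asHomogeneousIdeal.toIdeal hfx
    exact ⟨i, hi, _, SetLike.coe_mem _, hx⟩
  · rintro ⟨d, hd, f, hf, hx⟩
    exact ⟨f, HomogeneousIdeal.mem_irrelevant_of_mem _ hd hf, hx⟩

/-- every point of `Proj` is outside some homogeneous element of positive degree -/
theorem exists_homog_notMem (x : Proj ℬ) :
    ∃ (e : ℕ) (_ : 0 < e) (b : B) (_ : b ∈ ℬ e), b ∉ x.asHomogeneousIdeal := by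
  let y : ProjectiveSpectrum ℬ := x
  obtain ⟨b, hb, hbx⟩ := SetLike.not_le_iff_exists.mp y.not_irrelevant_le
  obtain ⟨i, hi, hx⟩ := exists_pos_deg_notMem (𝒜 := ℬ) (RingHom.id B) b hb
    y.asHomogeneousIdeal.toIdeal hbx
  exact ⟨i, hi, _, SetLike.coe_mem _, hx⟩

theorem domOpen_eq_top_of_le (ψ : 𝒜 →+*ᵍ ℬ) (hirr : ℬ₊ ≤ 𝒜₊.map ψ) :
    RelCone.domOpen ψ = ⊤ := by
  rw [_root_.eq_top_iff]
  intro x _
  rw [RelCone.mem_domOpen]
  by_contra hcon
  push Not at hcon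
  let y : ProjectiveSpectrum ℬ := x
  apply y.not_irrelevant_le
  refine hirr.trans ?_
  show Ideal.map ψ (𝒜₊).toIdeal ≤ y.asHomogeneousIdeal.toIdeal
  rw [Ideal.map_le_iff_le_comap]
  intro f hf
  exact hcon f hf

theorem domOpen_eq_top_of_TN (ψ : 𝒜 →+*ᵍ ℬ) (n : ℕ)
    (hsurj : ∀ k, n ≤ k → ∀ y ∈ ℬ k, ∃ x ∈ 𝒜 k, ψ x = y) :
    RelCone.domOpen ψ = ⊤ := by
  rw [_root_.eq_top_iff]
  intro x _
  rw [mem_domOpen_iff_homog]
  obtain ⟨e, he, b, hb, hbx⟩ := exists_homog_notMem x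
  have hmem : b ^ (n + 1) ∈ ℬ ((n + 1) • e) := SetLike.pow_mem_graded _ hb
  obtain ⟨a, ha, hab⟩ := hsurj ((n + 1) • e) (by
    simp only [smul_eq_mul]
    nlinarith) _ hmem
  refine ⟨(n + 1) • e, by simp only [smul_eq_mul]; positivity, a, ha, ?_⟩
  show ψ a ∉ x.asHomogeneousIdeal
  rw [hab]
  let y : ProjectiveSpectrum ℬ := x
  intro h
  exact hbx (y.isPrime.mem_of_pow_mem _ h)

end ring

section rel

variable {Y : Scheme.{u}} {𝒜 ℬ : QCGrAlg Y} (φ : 𝒜.toQCAlg ⟶ ℬ.toQCAlg) (hφ : IsGradedHom φ)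

theorem gradedAt_ofHom (U : Y.Opens) (hU : IsAffineOpen U) (U' : Y.Opens) (hU' : IsAffineOpen U')
    (hle : U' ≤ (𝟙 Y : Y ⟶ Y) ⁻¹ᵁ U) :
    (QGrHom.ofHom φ hφ).gradedAt U hU U' hU' hle =
      (ℬ.res hU hU' hle).comp (gradedHomAt φ hφ U hU) := by
  apply GradedRingHom.ext
  intro x
  rfl

theorem gradedAt_ofHom_self (U : Y.Opens) (hU : IsAffineOpen U)
    (hle : U ≤ (𝟙 Y : Y ⟶ Y) ⁻¹ᵁ U) :
    (QGrHom.ofHom φ hφ).gradedAt U hU U hU hle = gradedHomAt φ hφ U hU := by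
  rw [gradedAt_ofHom]
  have : ℬ.res hU hU hle = GradedRingHom.id (ℬ.deg U hU) := res_self ℬ hU
  rw [this]
  apply GradedRingHom.ext
  intro x
  rfl

end rel

section emb

variable {Y P : Scheme.{u}} {𝒮 : QCGrAlg Y} (p : P ⟶ Y)
  (chart : ∀ (U : Y.Opens) (hU : IsAffineOpen U),
    (((p ⁻¹ᵁ U : P.Opens) : Scheme.{u}) ≅ Proj (𝒮.deg U hU)))

theorem emb_chart_hom (U : Y.Opens) (hU : IsAffineOpen U) (x : P) (hx : x ∈ p ⁻¹ᵁ U) :
    (emb p chart U hU) ((chart U hU).hom ⟨x, hx⟩) = x := by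
  unfold emb
  rw [Scheme.Hom.comp_apply, ← Scheme.Hom.comp_apply (chart U hU).hom, Iso.hom_inv_id]
  rfl

theorem emb_mem (U : Y.Opens) (hU : IsAffineOpen U) (z : Proj (𝒮.deg U hU)) :
    (emb p chart U hU) z ∈ p ⁻¹ᵁ U := by
  unfold emb
  rw [Scheme.Hom.comp_apply]
  exact ((chart U hU).inv z).2

theorem opensRange_emb (U : Y.Opens) (hU : IsAffineOpen U) :
    (emb p chart U hU).opensRange = p ⁻¹ᵁ U := by
  ext x
  constructor
  · rintro ⟨z, rfl⟩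
    exact emb_mem p chart U hU z
  · intro hx
    exact ⟨(chart U hU).hom ⟨x, hx⟩, emb_chart_hom p chart U hU x hx⟩

end emb

end Groth.Agent.Helper1.RP
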