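import Mathlib
import Groth.Prelude.Def_RelProj4
import Groth.Agent.Helper1.RP15
import Groth.Agent.Helper1.RP5

/-!
# Relative Proj toolkit, part 16: `IsProjQMap` for a same-base graded homomorphism
-/

set_option autoImplicit false
set_option linter.style.haveILetI false

namespace Groth.Agent.Helper1.RP

open CategoryTheory Limits AlgebraicGeometry TopologicalSpace Opposite RelProj
  HomogeneousLocalization
open scoped HomogeneousIdeal

universe u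

section ring

variable {A σ B τ : Type u} [CommRing A] [SetLike σ A] [AddSubgroupClass σ A]
  [CommRing B] [SetLike τ B] [AddSubgroupClass τ B]
  {𝒜 : ℕ → σ} {ℬ : ℕ → τ} [GradedRing 𝒜] [GradedRing ℬ] (ψ : 𝒜 →+*ᵍ ℬ)

theorem awayMap_awayι_toSpecZero {d : ℕ} (hd : 0 < d) {f : A} (hf : f ∈ 𝒜 d) :
    Spec.map (CommRingCat.ofHom (Away.map ψ f)) ≫ Proj.awayι 𝒜 f hf hd ≫ Proj.toSpecZero 𝒜 =
      Proj.awayι ℬ (ψ f) (ψ.map_mem hf) hd ≫ Proj.toSpecZero ℬ ≫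
        Spec.map (CommRingCat.ofHom ψ.gradedZeroRingHom) := by
  rw [Proj.awayι_toSpecZero, Proj.awayι_toSpecZero_assoc, ← Spec.map_comp, ← Spec.map_comp]
  congr 1
  ext a
  exact congrArg val (away_map_fromZeroRingHom ψ hf a)

theorem away_map_isLocalizationElem {d' d : ℕ} {f' f : A} (hf' : f' ∈ 𝒜 d') (hf : f ∈ 𝒜 d) :
    Away.map ψ f' (Away.isLocalizationElem hf' hf) =
      Away.isLocalizationElem (ψ.map_mem hf') (ψ.map_mem hf) := by
  apply val_injective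
  unfold Away.isLocalizationElem
  rw [Away.map_mk, Away.val_mk, Away.val_mk]
  simp only [map_pow]
  rfl

/-- `Proj(ψ)` on the chart `D_+(ψ f')` pulls `D_+(f)` back to `D_+(ψ f)`. -/
theorem awayι_map_mem_basicOpen_iff {d' d : ℕ} (hd' : 0 < d') (hd : 0 < d) {f' f : A}
    (hf' : f' ∈ 𝒜 d') (hf : f ∈ 𝒜 d) (y : Spec (.of (Away ℬ (ψ f')))) :
    (Proj.awayι 𝒜 f' hf' hd') ((Spec.map (CommRingCat.ofHom (Away.map ψ f'))) y) ∈
        Proj.basicOpen 𝒜 f ↔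
      (Proj.awayι ℬ (ψ f') (ψ.map_mem hf') hd') y ∈ Proj.basicOpen ℬ (ψ f) := by
  have h1 := Proj.awayι_preimage_basicOpen 𝒜 hf' hd' hf hd
  have h2 := Proj.awayι_preimage_basicOpen ℬ (ψ.map_mem hf') hd' (ψ.map_mem hf) hd
  have e1 : (Proj.awayι 𝒜 f' hf' hd') ((Spec.map (CommRingCat.ofHom (Away.map ψ f'))) y) ∈
        Proj.basicOpen 𝒜 f ↔
      (Spec.map (CommRingCat.ofHom (Away.map ψ f'))) y ∈
        (PrimeSpectrum.basicOpen (Away.isLocalizationElem hf' hf) :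
          (Spec (.of (Away 𝒜 f'))).Opens) := by
    rw [← h1]; rfl
  have e2 : (Proj.awayι ℬ (ψ f') (ψ.map_mem hf') hd') y ∈ Proj.basicOpen ℬ (ψ f) ↔
      y ∈ (PrimeSpectrum.basicOpen (Away.isLocalizationElem (ψ.map_mem hf') (ψ.map_mem hf)) :
          (Spec (.of (Away ℬ (ψ f')))).Opens) := by
    rw [← h2]; rfl
  rw [e1, e2]
  refine (spec_map_mem_basicOpen (CommRingCat.ofHom (Away.map ψ f'))
    (Away.isLocalizationElem hf' hf) y).trans ?_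
  show Away.map ψ f' (Away.isLocalizationElem hf' hf) ∉ y.asIdeal ↔ _
  rw [away_map_isLocalizationElem]
  rfl

end ring

section rel

variable {Y PA PB : Scheme.{u}} {𝒜 ℬ : QCGrAlg Y} (φ : 𝒜.toQCAlg ⟶ ℬ.toQCAlg)
  (hφ : IsGradedHom φ)
  {pA : PA ⟶ Y} {chartA : ∀ (U : Y.Opens) (hU : IsAffineOpen U),
    (((pA ⁻¹ᵁ U : PA.Opens) : Scheme.{u}) ≅ Proj (𝒜.deg U hU))}
  {pB : PB ⟶ Y} {chartB : ∀ (U : Y.Opens) (hU : IsAffineOpen U),
    (((pB ⁻¹ᵁ U : PB.Opens) : Scheme.{u}) ≅ Proj (ℬ.deg U hU))}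

/-- the graded homomorphism over `U`, in the form it appears in `IsProjQMap` -/
abbrev ψU (U : Y.Opens) (hU : IsAffineOpen U) : 𝒜.deg U hU →+*ᵍ ℬ.deg U hU :=
  (QGrHom.ofHom φ hφ).gradedAt U hU U hU le_rfl

theorem ψU_apply (U : Y.Opens) (hU : IsAffineOpen U) (x : 𝒜.presheaf.obj (op U)) :
    ψU φ hφ U hU x = (φ.hom.app (op U)).hom x :=
  DFunLike.congr_fun (gradedAt_ofHom_self φ hφ U hU le_rfl) x

theorem strZero_ψU (U : Y.Opens) (hU : IsAffineOpen U) :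
    𝒜.strZero U hU ≫ CommRingCat.ofHom (ψU φ hφ U hU).gradedZeroRingHom = ℬ.strZero U hU := by
  ext r
  show ((ψU φ hφ U hU).gradedZeroRingHom ((𝒜.strZero U hU).hom r) : ℬ.presheaf.obj (op U)) = _
  have h1 : ((ψU φ hφ U hU).gradedZeroRingHom ((𝒜.strZero U hU).hom r) :
      ℬ.presheaf.obj (op U)) = ψU φ hφ U hU ((𝒜.str.app (op U)).hom r) := rfl
  rw [h1, ψU_apply]
  have := congrArg (fun t => (t.app (op U)).hom r) φ.comm
  exact this

theorem emb_p (hA : IsRelProj 𝒜 pA chartA) (U : Y.Opens) (hU : IsAffineOpen U) :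
    emb pA chartA U hU ≫ pA = str 𝒜 U hU := by
  unfold emb
  rw [Category.assoc]
  exact chart_inv_ι_p hA U hU

instance isOpenImmersion_awayEmb {S S' : Scheme.{u}} {g : S' ⟶ S} {𝒮 : QCGrAlg S}
    {𝒮' : QCGrAlg S'} (u : QGrHom g 𝒮 𝒮') {P' : Scheme.{u}} (p' : P' ⟶ S')
    (chart' : ∀ (U' : S'.Opens) (hU' : IsAffineOpen U'),
      (((p' ⁻¹ᵁ U' : P'.Opens) : Scheme.{u}) ≅ Proj (𝒮'.deg U' hU')))
    (U : S.Opens) (hU : IsAffineOpen U) (U' : S'.Opens) (hU' : IsAffineOpen U')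
    (hle : U' ≤ g ⁻¹ᵁ U) {d : ℕ} (hd : 0 < d) (f : 𝒮.presheaf.obj (op U))
    (hf : f ∈ 𝒮.deg U hU d) :
    IsOpenImmersion (awayEmb u p' chart' U hU U' hU' hle hd f hf) := by
  unfold awayEmb
  infer_instance

/-- the standard chart of `PB` over `(U, U)` at `f` -/
noncomputable abbrev chartAt (pB : PB ⟶ Y) (chartB : ∀ (U : Y.Opens) (hU : IsAffineOpen U),
    (((pB ⁻¹ᵁ U : PB.Opens) : Scheme.{u}) ≅ Proj (ℬ.deg U hU)))
    (U : Y.Opens) (hU : IsAffineOpen U) {d : ℕ} (hd : 0 < d)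
    (f : 𝒜.presheaf.obj (op U)) (hf : f ∈ 𝒜.deg U hU d) :
    Spec (CommRingCat.of (Away (ℬ.deg U hU) (ψU φ hφ U hU f))) ⟶ PB :=
  awayEmb (QGrHom.ofHom φ hφ) pB chartB U hU U hU le_rfl hd f hf

/-- if every `G(φ(U))` is everything, the standard charts over the pairs `(U, U)` cover `PB` -/
theorem exists_chartAt (hdom : ∀ (U : Y.Opens) (hU : IsAffineOpen U),
      RelCone.domOpen (ψU φ hφ U hU) = ⊤) (x : PB) (U : Y.Opens) (hU : IsAffineOpen U)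
    (hx : x ∈ pB ⁻¹ᵁ U) :
    ∃ (d : ℕ) (hd : 0 < d) (f : 𝒜.presheaf.obj (op U)) (hf : f ∈ 𝒜.deg U hU d)
      (y : Spec (CommRingCat.of (Away (ℬ.deg U hU) (ψU φ hφ U hU f)))),
      (chartAt φ hφ pB chartB U hU hd f hf) y = x := by
  have hz : (chartB U hU).hom ⟨x, hx⟩ ∈ RelCone.domOpen (ψU φ hφ U hU) := by
    rw [hdom U hU]; trivial
  rw [mem_domOpen_iff_homog] at hz
  obtain ⟨d, hd, f, hf, hzf⟩ := hz
  have hzf' : (chartB U hU).hom ⟨x, hx⟩ ∈ (Proj.awayι (ℬ.deg U hU) (ψU φ hφ U hU f)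
      ((ψU φ hφ U hU).map_mem hf) hd).opensRange := by
    rw [Proj.opensRange_awayι]; exact hzf
  obtain ⟨y, hy⟩ := hzf'
  refine ⟨d, hd, f, hf, y, ?_⟩
  show (awayEmb (QGrHom.ofHom φ hφ) pB chartB U hU U hU le_rfl hd f hf) y = x
  unfold awayEmb
  rw [Scheme.Hom.comp_apply]
  have : (Proj.awayι (ℬ.deg U hU) (ψU φ hφ U hU f) ((ψU φ hφ U hU).map_mem hf) hd) y =
      (chartB U hU).hom ⟨x, hx⟩ := hy
  rw [this]
  exact emb_chart_hom pB chartB U hU x hx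

theorem hom_ext_chartAt (hdom : ∀ (U : Y.Opens) (hU : IsAffineOpen U),
      RelCone.domOpen (ψU φ hφ U hU) = ⊤) {Z : Scheme.{u}} (a b : PB ⟶ Z)
    (hab : ∀ (U : Y.Opens) (hU : IsAffineOpen U) (d : ℕ) (hd : 0 < d)
      (f : 𝒜.presheaf.obj (op U)) (hf : f ∈ 𝒜.deg U hU d),
      chartAt φ hφ pB chartB U hU hd f hf ≫ a = chartAt φ hφ pB chartB U hU hd f hf ≫ b) :
    a = b := by
  have key : ∀ x : PB, ∃ (V : Scheme.{u}) (j : V ⟶ PB) (_ : IsOpenImmersion j),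
      x ∈ Set.range j ∧ j ≫ a = j ≫ b := by
    intro x
    obtain ⟨_, ⟨U, hU, rfl⟩, hxU, -⟩ :=
      Y.isBasis_affineOpens.exists_subset_of_mem_open (Set.mem_univ (pB x)) isOpen_univ
    obtain ⟨d, hd, f, hf, y, hy⟩ := exists_chartAt φ hφ hdom x U hU hxU
    exact ⟨_, chartAt φ hφ pB chartB U hU hd f hf, inferInstance, ⟨y, hy⟩, hab U hU d hd f hf⟩
  choose V j hj hx hab' using key
  let 𝒰 : PB.OpenCover := Scheme.Cover.mkOfCovers PB V j
    (fun x => ⟨x, hx x⟩) hj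
  exact 𝒰.hom_ext _ _ hab'

variable {φ hφ}

theorem projQMap_comm (hA : IsRelProj 𝒜 pA chartA) (hB : IsRelProj ℬ pB chartB)
    (hdom : ∀ (U : Y.Opens) (hU : IsAffineOpen U), RelCone.domOpen (ψU φ hφ U hU) = ⊤)
    (h : PB ⟶ PA) (hh : IsProjQMap (QGrHom.ofHom φ hφ) pA chartA pB chartB h) :
    h ≫ pA = pB := by
  apply hom_ext_chartAt φ hφ hdom
  intro U hU d hd f hf
  rw [← Category.assoc, hh.2 U hU U hU le_rfl d hd f hf]
  simp only [Category.assoc]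
  rw [emb_p hA U hU]
  show _ = (Proj.awayι (ℬ.deg U hU) (ψU φ hφ U hU f) ((ψU φ hφ U hU).map_mem hf) hd ≫
    emb pB chartB U hU) ≫ pB
  rw [Category.assoc, emb_p hB U hU]
  unfold str
  rw [reassoc_of% awayMap_awayι_toSpecZero (ψU φ hφ U hU) hd hf, ← Spec.map_comp_assoc,
    strZero_ψU]

/-- `h⁻¹` of the standard chart `D_+(f)` over `U` is the standard chart `D_+(φ f)` over `U`. -/
theorem projQMap_preimage (hA : IsRelProj 𝒜 pA chartA) (hB : IsRelProj ℬ pB chartB)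
    (hdom : ∀ (U : Y.Opens) (hU : IsAffineOpen U), RelCone.domOpen (ψU φ hφ U hU) = ⊤)
    (h : PB ⟶ PA) (hh : IsProjQMap (QGrHom.ofHom φ hφ) pA chartA pB chartB h)
    (U : Y.Opens) (hU : IsAffineOpen U) {d : ℕ} (hd : 0 < d)
    (f : 𝒜.presheaf.obj (op U)) (hf : f ∈ 𝒜.deg U hU d) :
    h ⁻¹ᵁ (Proj.awayι (𝒜.deg U hU) f hf hd ≫ emb pA chartA U hU).opensRange =
      (chartAt φ hφ pB chartB U hU hd f hf).opensRange := by
  have hcomm := projQMap_comm hA hB hdom h hh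
  ext x
  constructor
  · rintro ⟨w, hw⟩
    rw [Scheme.Hom.comp_apply] at hw
    -- `x` lies over `U`
    have hxU : x ∈ pB ⁻¹ᵁ U := by
      show pB x ∈ U
      rw [← hcomm, Scheme.Hom.comp_apply, ← hw]
      exact emb_mem pA chartA U hU _
    obtain ⟨d', hd', f', hf', y, hy⟩ := exists_chartAt φ hφ hdom x U hU hxU
    have h2 : h x = (emb pA chartA U hU) ((Proj.awayι (𝒜.deg U hU) f' hf' hd')
        ((Spec.map (CommRingCat.ofHom (Away.map (ψU φ hφ U hU) f'))) y)) := by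
      rw [← hy]
      exact congrArg (fun t : _ ⟶ PA => t y) (hh.2 U hU U hU le_rfl d' hd' f' hf')
    rw [h2] at hw
    have h3 := (emb pA chartA U hU).injective hw
    have h4 : (Proj.awayι (𝒜.deg U hU) f' hf' hd')
        ((Spec.map (CommRingCat.ofHom (Away.map (ψU φ hφ U hU) f'))) y) ∈
        Proj.basicOpen (𝒜.deg U hU) f := by
      rw [← h3, ← Proj.opensRange_awayι _ _ hf hd]
      exact ⟨w, rfl⟩
    rw [awayι_map_mem_basicOpen_iff (ψU φ hφ U hU) hd' hd hf' hf y] at h4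
    have h5 : (Proj.awayι (ℬ.deg U hU) (ψU φ hφ U hU f') ((ψU φ hφ U hU).map_mem hf') hd') y ∈
        (Proj.awayι (ℬ.deg U hU) (ψU φ hφ U hU f) ((ψU φ hφ U hU).map_mem hf) hd).opensRange := by
      rw [Proj.opensRange_awayι]; exact h4
    obtain ⟨y', hy'⟩ := h5
    refine ⟨y', ?_⟩
    rw [← hy]
    show (awayEmb (QGrHom.ofHom φ hφ) pB chartB U hU U hU le_rfl hd f hf) y' =
      (awayEmb (QGrHom.ofHom φ hφ) pB chartB U hU U hU le_rfl hd' f' hf') y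
    unfold awayEmb
    rw [Scheme.Hom.comp_apply, Scheme.Hom.comp_apply]
    exact congrArg _ hy'
  · rintro ⟨y, rfl⟩
    refine ⟨(Spec.map (CommRingCat.ofHom (Away.map (ψU φ hφ U hU) f))) y, ?_⟩
    exact (congrArg (fun t : _ ⟶ PA => t y) (hh.2 U hU U hU le_rfl d hd f hf)).symm

/-- the standard charts of `PA` -/
theorem exists_chart_PA (x : PA) :
    ∃ (U : Y.Opens) (hU : IsAffineOpen U) (d : ℕ) (hd : 0 < d)
      (f : 𝒜.presheaf.obj (op U)) (hf : f ∈ 𝒜.deg U hU d)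
      (y : Spec (CommRingCat.of (Away (𝒜.deg U hU) f))),
      (Proj.awayι (𝒜.deg U hU) f hf hd ≫ emb pA chartA U hU) y = x := by
  obtain ⟨_, ⟨U, hU, rfl⟩, hxU, -⟩ :=
    Y.isBasis_affineOpens.exists_subset_of_mem_open (Set.mem_univ (pA x)) isOpen_univ
  have hx : x ∈ pA ⁻¹ᵁ U := hxU
  obtain ⟨e, he, b, hb, hbx⟩ := exists_homog_notMem ((chartA U hU).hom ⟨x, hx⟩)
  have hz : (chartA U hU).hom ⟨x, hx⟩ ∈ Proj.basicOpen (𝒜.deg U hU) b := hbx
  rw [← Proj.opensRange_awayι _ _ hb he] at hz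
  obtain ⟨y, hy⟩ := hz
  refine ⟨U, hU, e, he, b, hb, y, ?_⟩
  rw [Scheme.Hom.comp_apply]
  have : (Proj.awayι (𝒜.deg U hU) b hb he) y = (chartA U hU).hom ⟨x, hx⟩ := hy
  rw [this]
  exact emb_chart_hom pA chartA U hU x hx

/-- target-local properties of `Proj(φ)` can be checked on the maps `𝒜(U)_(f) → ℬ(U)_(φ f)`. -/
theorem projQMap_of_away (Q : MorphismProperty Scheme.{u}) [IsZariskiLocalAtTarget Q]
    (hA : IsRelProj 𝒜 pA chartA) (hB : IsRelProj ℬ pB chartB)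
    (hdom : ∀ (U : Y.Opens) (hU : IsAffineOpen U), RelCone.domOpen (ψU φ hφ U hU) = ⊤)
    (h : PB ⟶ PA) (hh : IsProjQMap (QGrHom.ofHom φ hφ) pA chartA pB chartB h)
    (hQ : ∀ (U : Y.Opens) (hU : IsAffineOpen U) (d : ℕ) (_ : 0 < d)
      (f : 𝒜.presheaf.obj (op U)) (_ : f ∈ 𝒜.deg U hU d),
      Q (Spec.map (CommRingCat.ofHom (Away.map (ψU φ hφ U hU) f)))) : Q h := by
  have key : ∀ x : PA, ∃ (V : Scheme.{u}) (j : V ⟶ PA) (_ : IsOpenImmersion j),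
      x ∈ Set.range j ∧ Q (pullback.snd h j) := by
    intro x
    obtain ⟨U, hU, d, hd, f, hf, y, hy⟩ := exists_chart_PA (chartA := chartA) x
    refine ⟨_, Proj.awayι (𝒜.deg U hU) f hf hd ≫ emb pA chartA U hU, inferInstance,
      ⟨y, hy⟩, ?_⟩
    have sq : IsPullback (Spec.map (CommRingCat.ofHom (Away.map (ψU φ hφ U hU) f)))
        (chartAt φ hφ pB chartB U hU hd f hf)
        (Proj.awayι (𝒜.deg U hU) f hf hd ≫ emb pA chartA U hU) h :=
      IsOpenImmersion.isPullback _ _ _ _ (hh.2 U hU U hU le_rfl d hd f hf)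
        (projQMap_preimage hA hB hdom h hh U hU hd f hf)
    have h1 := hQ U hU d hd f hf
    have h2 : sq.flip.isoPullback.hom ≫ pullback.snd _ _ =
        Spec.map (CommRingCat.ofHom (Away.map (ψU φ hφ U hU) f)) := sq.flip.isoPullback_hom_snd
    rw [← h2] at h1
    exact (MorphismProperty.cancel_left_of_respectsIso Q _ _).1 h1
  choose V j hj hx hQ' using key
  let 𝒰 : PA.OpenCover := Scheme.Cover.mkOfCovers PA V j (fun x => ⟨x, hx x⟩) hj
  exact IsZariskiLocalAtTarget.of_openCover (P := Q) 𝒰 hQ'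

theorem domQ_eq_top_of_domOpen
    (hdom : ∀ (U : Y.Opens) (hU : IsAffineOpen U), RelCone.domOpen (ψU φ hφ U hU) = ⊤) :
    domQ (QGrHom.ofHom φ hφ) pB chartB = ⊤ := by
  rw [_root_.eq_top_iff]
  intro x _
  obtain ⟨_, ⟨U, hU, rfl⟩, hxU, -⟩ :=
    Y.isBasis_affineOpens.exists_subset_of_mem_open (Set.mem_univ (pB x)) isOpen_univ
  have hx : x ∈ pB ⁻¹ᵁ U := hxU
  unfold RelProj.domQ
  refine Opens.mem_iSup.mpr ⟨⟨(⟨U, hU⟩, ⟨U, hU⟩), le_rfl⟩, ?_⟩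
  refine ⟨(chartB U hU).hom ⟨x, hx⟩, ?_, emb_chart_hom pB chartB U hU x hx⟩
  show (chartB U hU).hom ⟨x, hx⟩ ∈ RelCone.domOpen (ψU φ hφ U hU)
  rw [hdom U hU]
  trivial

end rel

end Groth.Agent.Helper1.RP
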