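import Mathlib
import Groth.Agent.Helper1.RP16

/-!
# Relative Proj toolkit, part 20: glueing morphisms along charts; the morphism `Proj(ψ)` on `G(ψ)`
(ring level)
-/

set_option autoImplicit false
set_option linter.style.haveILetI false

namespace Groth.Agent.Helper1.RP

open CategoryTheory Limits AlgebraicGeometry TopologicalSpace Opposite
  HomogeneousLocalization
open scoped HomogeneousIdeal

universe u

section general

theorem hom_ext_of_charts {X Z : Scheme.{u}} (a b : X ⟶ Z)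
    (h : ∀ x : X, ∃ (V : Scheme.{u}) (j : V ⟶ X) (_ : IsOpenImmersion j),
      x ∈ Set.range j ∧ j ≫ a = j ≫ b) : a = b := by
  choose V j hj hx hab using h
  let 𝒰 : X.OpenCover := Scheme.Cover.mkOfCovers X V j (fun x => ⟨x, hx x⟩) hj
  exact 𝒰.hom_ext _ _ hab

/-- two local definitions agree on the overlap of two charts as soon as they agree on
common refinements around every point of the overlap -/
theorem compat_of_refinement {X Z Vi Vj : Scheme.{u}} (ci : Vi ⟶ X) (cj : Vj ⟶ X)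
    [IsOpenImmersion ci] [IsOpenImmersion cj] (ri : Vi ⟶ Z) (rj : Vj ⟶ Z)
    (href : ∀ x : X, x ∈ Set.range ci → x ∈ Set.range cj →
      ∃ (Vk : Scheme.{u}) (ck : Vk ⟶ X) (_ : IsOpenImmersion ck) (ai : Vk ⟶ Vi) (aj : Vk ⟶ Vj),
        x ∈ Set.range ck ∧ ai ≫ ci = ck ∧ aj ≫ cj = ck ∧ ai ≫ ri = aj ≫ rj) :
    pullback.fst ci cj ≫ ri = pullback.snd ci cj ≫ rj := by
  apply hom_ext_of_charts
  intro t
  have hinj : Function.Injective (pullback.fst ci cj ≫ ci) :=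
    (pullback.fst ci cj ≫ ci).injective
  obtain ⟨Vk, ck, hck, ai, aj, ⟨y, hy⟩, hi, hj, hr⟩ := href ((pullback.fst ci cj ≫ ci) t)
    ⟨pullback.fst ci cj t, by rw [Scheme.Hom.comp_apply]⟩
    ⟨pullback.snd ci cj t, by rw [pullback.condition, Scheme.Hom.comp_apply]⟩
  let k : Vk ⟶ pullback ci cj := pullback.lift ai aj (hi.trans hj.symm)
  have hk1 : k ≫ pullback.fst ci cj = ai := pullback.lift_fst _ _ _
  have hk2 : k ≫ pullback.snd ci cj = aj := pullback.lift_snd _ _ _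
  have hk3 : k ≫ pullback.fst ci cj ≫ ci = ck := by rw [reassoc_of% hk1, hi]
  haveI : IsOpenImmersion (k ≫ pullback.fst ci cj ≫ ci) := by rw [hk3]; exact hck
  haveI : IsOpenImmersion k := IsOpenImmersion.of_comp k (pullback.fst ci cj ≫ ci)
  refine ⟨Vk, k, inferInstance, ⟨y, ?_⟩, ?_⟩
  · apply hinj
    rw [← Scheme.Hom.comp_apply, hk3]
    exact hy
  · rw [reassoc_of% hk1, reassoc_of% hk2, hr]

/-- glueing morphisms given on charts -/
theorem existsUnique_of_charts {X Z : Scheme.{u}} {I : Type u} (V : I → Scheme.{u})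
    (c : ∀ i, V i ⟶ X) [∀ i, IsOpenImmersion (c i)] (hcov : ∀ x : X, ∃ i, x ∈ Set.range (c i))
    (r : ∀ i, V i ⟶ Z)
    (href : ∀ (i j : I) (x : X), x ∈ Set.range (c i) → x ∈ Set.range (c j) →
      ∃ (Vk : Scheme.{u}) (ck : Vk ⟶ X) (_ : IsOpenImmersion ck) (ai : Vk ⟶ V i) (aj : Vk ⟶ V j),
        x ∈ Set.range ck ∧ ai ≫ c i = ck ∧ aj ≫ c j = ck ∧ ai ≫ r i = aj ≫ r j) :
    ∃! e : X ⟶ Z, ∀ i, c i ≫ e = r i := by
  let 𝒰 : X.OpenCover := Scheme.Cover.mkOfCovers I V c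
    (fun x => by obtain ⟨i, y, hy⟩ := hcov x; exact ⟨i, y, hy⟩) (fun i => inferInstance)
  refine ⟨𝒰.glueMorphisms r (fun i j => compat_of_refinement (c i) (c j) (r i) (r j)
    (href i j)), fun i => 𝒰.ι_glueMorphisms r _ i, ?_⟩
  intro e he
  apply 𝒰.hom_ext
  intro i
  rw [𝒰.ι_glueMorphisms r _ i]
  exact he i

end general

section ring

variable {A σ B τ : Type u} [CommRing A] [SetLike σ A] [AddSubgroupClass σ A]
  [CommRing B] [SetLike τ B] [AddSubgroupClass τ B]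
  {𝒜 : ℕ → σ} {ℬ : ℕ → τ} [GradedRing 𝒜] [GradedRing ℬ] (ψ : 𝒜 →+*ᵍ ℬ)

theorem away_map_comp_awayMap {f h x : A} {d e : ℕ} (hf : f ∈ 𝒜 d) (hh : h ∈ 𝒜 e)
    (hx : x = f * h) (hx' : ψ x = ψ f * ψ h) :
    (Away.map ψ x).comp (awayMap 𝒜 hh hx) =
      (awayMap ℬ (ψ.map_mem hh) hx').comp (Away.map ψ f) := by
  ext z
  obtain ⟨n, a, ha, rfl⟩ := Away.mk_surjective 𝒜 hf z
  simp only [RingHom.comp_apply]
  rw [awayMap_mk, Away.map_mk, Away.map_mk, awayMap_mk]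
  rw [Away.val_mk, Away.val_mk]
  simp only [map_mul, map_pow]
  rfl

variable (D : (Proj ℬ).Opens)
  (hD : ∀ x : Proj ℬ, x ∈ D ↔
    ∃ (d : ℕ) (_ : 0 < d) (f : A) (_ : f ∈ 𝒜 d), x ∈ Proj.basicOpen ℬ (ψ f))

include hD in
theorem range_awayι_subset_D {d : ℕ} (hd : 0 < d) {f : A} (hf : f ∈ 𝒜 d) :
    Set.range (Proj.awayι ℬ (ψ f) (ψ.map_mem hf) hd) ⊆ Set.range D.ι := by
  rw [Scheme.Opens.range_ι]
  rintro _ ⟨y, rfl⟩
  refine (hD _).2 ⟨d, hd, f, hf, ?_⟩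
  rw [← Proj.opensRange_awayι ℬ (ψ f) (ψ.map_mem hf) hd]
  exact ⟨y, rfl⟩

/-- the standard chart of `D = G(ψ)` -/
noncomputable def chartD {d : ℕ} (hd : 0 < d) {f : A} (hf : f ∈ 𝒜 d) :
    Spec (CommRingCat.of (Away ℬ (ψ f))) ⟶ (D : Scheme.{u}) :=
  IsOpenImmersion.lift D.ι (Proj.awayι ℬ (ψ f) (ψ.map_mem hf) hd)
    (range_awayι_subset_D ψ D hD hd hf)

@[reassoc]
theorem chartD_ι {d : ℕ} (hd : 0 < d) {f : A} (hf : f ∈ 𝒜 d) :
    chartD ψ D hD hd hf ≫ D.ι = Proj.awayι ℬ (ψ f) (ψ.map_mem hf) hd :=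
  IsOpenImmersion.lift_fac _ _ _

instance isOpenImmersion_chartD {d : ℕ} (hd : 0 < d) {f : A} (hf : f ∈ 𝒜 d) :
    IsOpenImmersion (chartD ψ D hD hd hf) := by
  have : IsOpenImmersion (chartD ψ D hD hd hf ≫ D.ι) := by rw [chartD_ι]; infer_instance
  exact IsOpenImmersion.of_comp _ D.ι

/-- the value of `Proj(ψ)` on the standard chart -/
noncomputable def rhsD {d : ℕ} (hd : 0 < d) {f : A} (hf : f ∈ 𝒜 d) :
    Spec (CommRingCat.of (Away ℬ (ψ f))) ⟶ Proj 𝒜 :=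
  Spec.map (CommRingCat.ofHom (Away.map ψ f)) ≫ Proj.awayι 𝒜 f hf hd

theorem chartD_congr_deg {d d' : ℕ} (e : d = d') (hd : 0 < d) (hd' : 0 < d') {f : A}
    (hf : f ∈ 𝒜 d) (hf' : f ∈ 𝒜 d') : chartD ψ D hD hd hf = chartD ψ D hD hd' hf' := by
  subst e; rfl

theorem rhsD_congr_deg {d d' : ℕ} (e : d = d') (hd : 0 < d) (hd' : 0 < d') {f : A}
    (hf : f ∈ 𝒜 d) (hf' : f ∈ 𝒜 d') : rhsD ψ hd hf = rhsD ψ hd' hf' := by
  subst e; rfl

theorem chartD_mul {f h x : A} {d e : ℕ} (hd : 0 < d) (hf : f ∈ 𝒜 d) (hh : h ∈ 𝒜 e)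
    (hx : x = f * h) (hx' : ψ x = ψ f * ψ h) :
    Spec.map (CommRingCat.ofHom (awayMap ℬ (ψ.map_mem hh) hx')) ≫ chartD ψ D hD hd hf =
      chartD ψ D hD (hd.trans_le (d.le_add_right e))
        (hx ▸ SetLike.mul_mem_graded hf hh : x ∈ 𝒜 (d + e)) := by
  rw [← cancel_mono D.ι, Category.assoc, chartD_ι, chartD_ι]
  exact Proj.SpecMap_awayMap_awayι ℬ (ψ.map_mem hf) hd (ψ.map_mem hh) hx'

theorem rhsD_mul {f h x : A} {d e : ℕ} (hd : 0 < d) (hf : f ∈ 𝒜 d) (hh : h ∈ 𝒜 e)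
    (hx : x = f * h) (hx' : ψ x = ψ f * ψ h) :
    Spec.map (CommRingCat.ofHom (awayMap ℬ (ψ.map_mem hh) hx')) ≫ rhsD ψ hd hf =
      rhsD ψ (hd.trans_le (d.le_add_right e))
        (hx ▸ SetLike.mul_mem_graded hf hh : x ∈ 𝒜 (d + e)) := by
  unfold rhsD
  rw [← Spec.map_comp_assoc, ← CommRingCat.ofHom_comp, ← away_map_comp_awayMap ψ hf hh hx hx',
    CommRingCat.ofHom_comp, Spec.map_comp_assoc]
  congr 1
  exact Proj.SpecMap_awayMap_awayι 𝒜 hf hd hh hx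

/-- existence and uniqueness of `Proj(ψ)` on `G(ψ)` -/
theorem existsUnique_projOn :
    ∃! p : (D : Scheme.{u}) ⟶ Proj 𝒜, ∀ (d : ℕ) (hd : 0 < d) (f : A) (hf : f ∈ 𝒜 d),
      chartD ψ D hD hd hf ≫ p = rhsD ψ hd hf := by
  let I := Σ d : {d : ℕ // 0 < d}, {f : A // f ∈ 𝒜 d.1}
  obtain ⟨e, he, hu⟩ := existsUnique_of_charts (X := (D : Scheme.{u})) (Z := Proj 𝒜) (I := I)
    (fun i => Spec (CommRingCat.of (Away ℬ (ψ i.2.1))))
    (fun i => chartD ψ D hD i.1.2 i.2.2)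
    (by
      intro x
      obtain ⟨d, hd, f, hf, hxf⟩ := (hD (D.ι x)).1 x.2
      rw [← Proj.opensRange_awayι ℬ (ψ f) (ψ.map_mem hf) hd] at hxf
      obtain ⟨y, hy⟩ := hxf
      refine ⟨⟨⟨d, hd⟩, ⟨f, hf⟩⟩, y, ?_⟩
      apply D.ι.injective
      rw [← Scheme.Hom.comp_apply, chartD_ι]
      exact hy)
    (fun i => rhsD ψ i.1.2 i.2.2)
    (by
      rintro ⟨⟨d, hd⟩, ⟨f, hf⟩⟩ ⟨⟨e, he⟩, ⟨h, hh⟩⟩ x ⟨y₁, hy₁⟩ ⟨y₂, hy₂⟩
      have hx' : ψ (f * h) = ψ f * ψ h := map_mul ψ f h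
      have hx'' : ψ (f * h) = ψ h * ψ f := by rw [map_mul, mul_comm]
      have hmem : f * h ∈ 𝒜 (d + e) := SetLike.mul_mem_graded hf hh
      have hpos : 0 < d + e := hd.trans_le (d.le_add_right e)
      refine ⟨Spec (CommRingCat.of (Away ℬ (ψ (f * h)))), chartD ψ D hD hpos hmem, inferInstance,
        Spec.map (CommRingCat.ofHom (awayMap ℬ (ψ.map_mem hh) hx')),
        Spec.map (CommRingCat.ofHom (awayMap ℬ (ψ.map_mem hf) hx'')), ?_, ?_, ?_, ?_⟩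
      · -- the point lies on the refined chart
        have h1 : D.ι x ∈ Proj.basicOpen ℬ (ψ f) := by
          rw [← Proj.opensRange_awayι ℬ (ψ f) (ψ.map_mem hf) hd, ← hy₁]
          exact ⟨y₁, congrArg (fun t : _ ⟶ Proj ℬ => t y₁) (chartD_ι ψ D hD hd hf).symm⟩
        have h2 : D.ι x ∈ Proj.basicOpen ℬ (ψ h) := by
          rw [← Proj.opensRange_awayι ℬ (ψ h) (ψ.map_mem hh) he, ← hy₂]
          exact ⟨y₂, congrArg (fun t : _ ⟶ Proj ℬ => t y₂) (chartD_ι ψ D hD he hh).symm⟩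
        have h3 : D.ι x ∈ Proj.basicOpen ℬ (ψ (f * h)) := by
          rw [hx', Proj.basicOpen_mul]; exact ⟨h1, h2⟩
        rw [← Proj.opensRange_awayι ℬ (ψ (f * h)) (ψ.map_mem hmem) hpos] at h3
        obtain ⟨y, hy⟩ := h3
        refine ⟨y, ?_⟩
        apply D.ι.injective
        rw [← Scheme.Hom.comp_apply, chartD_ι]
        exact hy
      · exact chartD_mul ψ D hD hd hf hh rfl hx'
      · rw [chartD_mul ψ D hD he hh hf (mul_comm f h) hx'']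
        exact chartD_congr_deg ψ D hD (add_comm e d) _ _ _ _
      · rw [rhsD_mul ψ hd hf hh rfl hx', rhsD_mul ψ he hh hf (mul_comm f h) hx'']
        exact (rhsD_congr_deg ψ (add_comm e d) _ _ _ _).symm)
  refine ⟨e, fun d hd f hf => he ⟨⟨d, hd⟩, ⟨f, hf⟩⟩, ?_⟩
  intro e' he'
  exact hu e' (fun i => he' i.1.1 i.1.2 i.2.1 i.2.2)

end ring

end Groth.Agent.Helper1.RP
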