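import Mathlib
import Groth.Agent.Helper1.RP20

/-!
# Projective cones, part 1: ring-level theory of `B = A[z]` (one variable of degree one adjoined)
-/

set_option autoImplicit false
set_option linter.style.haveILetI false

namespace Groth.Agent.Helper1.PC

open CategoryTheory Limits AlgebraicGeometry TopologicalSpace Opposite
  HomogeneousLocalization DirectSum
open scoped HomogeneousIdeal

universe u

noncomputable section

section ring

variable {A σ : Type u} [CommRing A] [SetLike σ A] [AddSubgroupClass σ A] {𝒜 : ℕ → σ}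
  [GradedRing 𝒜]
variable {B τ : Type u} [CommRing B] [SetLike τ B] [AddSubgroupClass τ B] {ℬ : ℕ → τ}
  [GradedRing ℬ]
variable (ι : 𝒜 →+*ᵍ ℬ) (z : B)

theorem proj_of_mem {m : ℕ} {y : B} (hy : y ∈ ℬ m) (n : ℕ) :
    GradedRing.proj ℬ n y = if m = n then y else 0 := by
  rw [GradedRing.proj_apply]
  split_ifs with h
  · subst h
    exact DirectSum.decompose_of_mem_same ℬ hy
  · exact DirectSum.decompose_of_mem_ne ℬ hy h

/-- the degree-`n` component of `ι a * z ^ j` -/
theorem proj_mul_pow (hz : z ∈ ℬ 1) (a : A) (j n : ℕ) :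
    GradedRing.proj ℬ n (ι a * z ^ j) =
      if j ≤ n then ι (GradedRing.proj 𝒜 (n - j) a) * z ^ j else 0 := by
  induction a using DirectSum.Decomposition.inductionOn 𝒜 with
  | zero => simp
  | @homogeneous i a =>
    have h1 : ι (a : A) * z ^ j ∈ ℬ (i + j) := by
      have h2 : z ^ j ∈ ℬ (j • 1) := SetLike.pow_mem_graded j hz
      rw [smul_eq_mul, mul_one] at h2
      exact SetLike.mul_mem_graded (ι.map_mem a.2) h2
    rw [proj_of_mem h1, proj_of_mem a.2]
    by_cases hjn : j ≤ n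
    · rw [if_pos hjn]
      by_cases hi : i = n - j
      · rw [if_pos hi, if_pos (by omega)]
      · rw [if_neg hi, if_neg (by omega), map_zero, zero_mul]
    · rw [if_neg hjn, if_neg (by omega)]
  | add a b ha hb =>
    rw [map_add, add_mul, map_add, ha, hb]
    split_ifs
    · rw [map_add, map_add, add_mul]
    · rw [add_zero]

/-- a homogeneous element of `A[z]` of degree `n` is `∑_{j ≤ n} ι(c_j) z^j` with `c_j` homogeneous
of degree `n - j`; here for a given polynomial preimage. -/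
theorem eq_sum_of_mem (hz : z ∈ ℬ 1) {n : ℕ} (P : Polynomial A)
    (hx : Polynomial.eval₂ (ι : A →+* B) z P ∈ ℬ n) :
    Polynomial.eval₂ (ι : A →+* B) z P =
      ∑ j ∈ Finset.range (n + 1), ι (GradedRing.proj 𝒜 (n - j) (P.coeff j)) * z ^ j := by
  set x := Polynomial.eval₂ (ι : A →+* B) z P with hx_def
  have h1 : GradedRing.proj ℬ n x = x := by
    rw [proj_of_mem hx, if_pos rfl]
  have h2 : x = ∑ j ∈ Finset.range (max (P.natDegree + 1) (n + 1)), ι (P.coeff j) * z ^ j :=
    Polynomial.eval₂_eq_sum_range' (ι : A →+* B) (lt_of_lt_of_le (Nat.lt_succ_self _)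
      (le_max_left _ _)) z
  rw [← h1]
  conv_lhs => rw [h2]
  rw [map_sum]
  simp only [proj_mul_pow ι z hz]
  rw [← Finset.sum_subset (s₁ := Finset.range (n + 1))]
  · apply Finset.sum_congr rfl
    intro j hj
    rw [Finset.mem_range] at hj
    rw [if_pos (by omega)]
  · intro j hj
    rw [Finset.mem_range] at hj ⊢
    exact lt_of_lt_of_le hj (le_max_right _ _)
  · intro j _ hj
    rw [Finset.mem_range, not_lt] at hj
    rw [if_neg (by omega)]

variable (hbij : Function.Bijective (Polynomial.eval₂RingHom (ι : A →+* B) z))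

/-- the presentation `A[X] ≃ B` -/
def polyEquiv : Polynomial A ≃+* B := RingEquiv.ofBijective _ hbij

theorem polyEquiv_apply (P : Polynomial A) :
    polyEquiv ι z hbij P = Polynomial.eval₂ (ι : A →+* B) z P := rfl

/-- the retraction `z ↦ 0` -/
def retr : B →+* A := (Polynomial.evalRingHom 0).comp (polyEquiv ι z hbij).symm.toRingHom

theorem retr_ι (a : A) : retr ι z hbij (ι a) = a := by
  have e : polyEquiv ι z hbij (Polynomial.C a) = ι a := by
    rw [polyEquiv_apply, Polynomial.eval₂_C]; rfl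
  rw [retr, RingHom.comp_apply, ← e]
  simp

theorem retr_z : retr ι z hbij z = 0 := by
  have e : polyEquiv ι z hbij Polynomial.X = z := by
    rw [polyEquiv_apply, Polynomial.eval₂_X]
  have h : retr ι z hbij (polyEquiv ι z hbij Polynomial.X) = 0 := by
    simp [retr]
  rwa [e] at h

theorem retr_mem (hz : z ∈ ℬ 1) {n : ℕ} {x : B} (hx : x ∈ ℬ n) : retr ι z hbij x ∈ 𝒜 n := by
  obtain ⟨P, rfl⟩ := (polyEquiv ι z hbij).surjective x
  rw [polyEquiv_apply] at hx ⊢
  rw [eq_sum_of_mem ι z hz P hx, map_sum]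
  refine sum_mem (fun j _ => ?_)
  rw [map_mul, map_pow, retr_ι, retr_z]
  rcases Nat.eq_zero_or_pos j with rfl | hj
  · rw [pow_zero, mul_one, Nat.sub_zero]
    exact SetLike.coe_mem _
  · rw [zero_pow (by omega), mul_zero]
    exact zero_mem _

/-- the graded retraction `A[z] → A`, `z ↦ 0` -/
def retrG (hz : z ∈ ℬ 1) : ℬ →+*ᵍ 𝒜 :=
  { retr ι z hbij with map_mem := fun hx => retr_mem ι z hbij hz hx }

theorem retrG_apply (hz : z ∈ ℬ 1) (x : B) : retrG ι z hbij hz x = retr ι z hbij x := rfl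

theorem retrG_ι (hz : z ∈ ℬ 1) (a : A) : retrG ι z hbij hz (ι a) = a := retr_ι ι z hbij a

theorem retrG_z (hz : z ∈ ℬ 1) : retrG ι z hbij hz z = 0 := retr_z ι z hbij

/-- any retraction of `ι` killing `z` is `retr` -/
theorem eq_retr (θ : B →+* A) (h1 : ∀ a, θ (ι a) = a) (h2 : θ z = 0) (x : B) :
    θ x = retr ι z hbij x := by
  obtain ⟨P, rfl⟩ := (polyEquiv ι z hbij).surjective x
  rw [polyEquiv_apply]
  induction P using Polynomial.induction_on' with
  | add p q hp hq => rw [Polynomial.eval₂_add, map_add, map_add, hp, hq]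
  | monomial n a =>
    rw [Polynomial.eval₂_monomial, map_mul, map_mul, map_pow, map_pow]
    have : ((ι : A →+* B) a) = ι a := rfl
    rw [this, h1, retr_ι, h2, retr_z]

end ring

section spec

variable {A σ : Type u} [CommRing A] [SetLike σ A] [AddSubgroupClass σ A] {𝒜 : ℕ → σ}
  [GradedRing 𝒜]
variable {B τ : Type u} [CommRing B] [SetLike τ B] [AddSubgroupClass τ B] {ℬ : ℕ → τ}
  [GradedRing ℬ]

theorem awayMap_awayι_of_id (χ : 𝒜 →+*ᵍ 𝒜) (hχ : ∀ a, χ a = a) {d : ℕ} (hd : 0 < d)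
    {f : A} (hf : f ∈ 𝒜 d) :
    Spec.map (CommRingCat.ofHom (Away.map χ f)) ≫ Proj.awayι 𝒜 f hf hd =
      Proj.awayι 𝒜 (χ f) (χ.map_mem hf) hd := by
  have h : χ = GradedRingHom.id 𝒜 := GradedRingHom.ext hχ
  subst h
  have h2 : Spec.map (CommRingCat.ofHom (Away.map (GradedRingHom.id 𝒜) f)) =
      𝟙 (Spec (CommRingCat.of (Away 𝒜 f))) := by
    rw [Away.map_id]
    exact Spec.map_id _
  exact (congrArg (· ≫ Proj.awayι 𝒜 f hf hd) h2).trans (Category.id_comp _)

/-- if the graded homomorphism `ι` has a graded retraction, the maps `A_(f) → B_(ι f)` are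
surjective on spectra -/
theorem specMap_awayMap_surjective (ι : 𝒜 →+*ᵍ ℬ) (θ : ℬ →+*ᵍ 𝒜) (hθ : ∀ a, θ (ι a) = a)
    {d : ℕ} (hd : 0 < d) {f : A} (hf : f ∈ 𝒜 d) :
    Function.Surjective (Spec.map (CommRingCat.ofHom (Away.map ι f))) := by
  intro y
  have h1 := awayMap_awayι_of_id (θ.comp ι) hθ hd hf
  have hy : (Proj.awayι 𝒜 f hf hd) y ∈
      (Proj.awayι 𝒜 ((θ.comp ι) f) ((θ.comp ι).map_mem hf) hd).opensRange := by
    rw [Proj.opensRange_awayι]
    have h0 : (Proj.awayι 𝒜 f hf hd) y ∈ (Proj.awayι 𝒜 f hf hd).opensRange := ⟨y, rfl⟩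
    rw [Proj.opensRange_awayι] at h0
    have : (θ.comp ι) f = f := hθ f
    rw [this]
    exact h0
  obtain ⟨y₂, hy₂⟩ := hy
  rw [← h1] at hy₂
  have h3 := (Proj.awayι 𝒜 f hf hd).injective hy₂
  have h4 : Away.map (θ.comp ι) f = (Away.map θ (ι f)).comp (Away.map ι f) :=
    Away.map_comp ι θ f
  have h5 : Spec.map (CommRingCat.ofHom (Away.map (θ.comp ι) f)) =
      Spec.map (CommRingCat.ofHom (Away.map θ (ι f))) ≫
        Spec.map (CommRingCat.ofHom (Away.map ι f)) := by
    rw [← Spec.map_comp, ← CommRingCat.ofHom_comp, h4]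
    rfl
  refine ⟨Spec.map (CommRingCat.ofHom (Away.map θ (ι f))) y₂, ?_⟩
  rw [← h3]
  exact (congrArg (fun t : Spec (CommRingCat.of (Away 𝒜 ((θ.comp ι) f))) ⟶
    Spec (CommRingCat.of (Away 𝒜 f)) => t y₂) h5).symm

end spec

end

end Groth.Agent.Helper1.PC
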