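import Mathlib
import Groth.Prelude.Def_RelProj4
import Groth.Agent.Helper1.RP15

/-!
# Relative Proj toolkit, part 17: the pieces of `G(u)` and their refinement
-/

set_option autoImplicit false
set_option linter.style.haveILetI false

namespace Groth.Agent.Helper1.RP

open CategoryTheory Limits AlgebraicGeometry TopologicalSpace Opposite RelProj
  HomogeneousLocalization
open scoped HomogeneousIdeal

universe u

section ring

variable {A σ B τ : Type u} [CommRing A] [SetLike σ A] [AddSubgroupClass σ A]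
  [CommRing B] [SetLike τ B] [AddSubgroupClass τ B]
  {𝒜 : ℕ → σ} {ℬ : ℕ → τ} [GradedRing 𝒜] [GradedRing ℬ]

theorem mem_map_iff (f : 𝒜 →+*ᵍ ℬ) (hf : ℬ₊ ≤ 𝒜₊.map f) (z : Proj ℬ) (a : A) :
    a ∈ ((Proj.map f hf) z).asHomogeneousIdeal ↔ f a ∈ z.asHomogeneousIdeal :=
  Iff.rfl

end ring

variable {Y Y' : Scheme.{u}} {g : Y' ⟶ Y} {𝒮 : QCGrAlg Y} {𝒮' : QCGrAlg Y'}
  (u : QGrHom g 𝒮 𝒮')

theorem gradedAt_res {U V : Y.Opens} (hU : IsAffineOpen U) (hV : IsAffineOpen V) (i : V ≤ U)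
    {U' V' : Y'.Opens} (hU' : IsAffineOpen U') (hV' : IsAffineOpen V') (i' : V' ≤ U')
    (hle : U' ≤ g ⁻¹ᵁ U) (hle' : V' ≤ g ⁻¹ᵁ V) :
    (𝒮'.res hU' hV' i').comp (u.gradedAt U hU U' hU' hle) =
      (u.gradedAt V hV V' hV' hle').comp (𝒮.res hU hV i) := by
  apply GradedRingHom.ext
  intro x
  show (𝒮'.presheaf.map (homOfLE i').op).hom ((u.appLE U U' hle).hom x) =
    (u.appLE V V' hle').hom ((𝒮.presheaf.map (homOfLE i).op).hom x)
  have h1 := congrArg (fun t => t.hom x) (u.toQHom.appLE_map hle i')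
  have h2 := congrArg (fun t => t.hom x) (u.toQHom.map_appLE i hle')
  exact h1.trans h2.symm

variable {P' : Scheme.{u}} (p' : P' ⟶ Y')
  (chart' : ∀ (U' : Y'.Opens) (hU' : IsAffineOpen U'),
    (((p' ⁻¹ᵁ U' : P'.Opens) : Scheme.{u}) ≅ Proj (𝒮'.deg U' hU')))

/-- the part of `G(u)` given by the pair `(U, U')` -/
noncomputable def domPiece (U : Y.Opens) (hU : IsAffineOpen U) (U' : Y'.Opens)
    (hU' : IsAffineOpen U') (hle : U' ≤ g ⁻¹ᵁ U) : P'.Opens :=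
  (emb p' chart' U' hU') ''ᵁ RelCone.domOpen (u.gradedAt U hU U' hU' hle)

theorem domPiece_le_domQ (U : Y.Opens) (hU : IsAffineOpen U) (U' : Y'.Opens)
    (hU' : IsAffineOpen U') (hle : U' ≤ g ⁻¹ᵁ U) :
    domPiece u p' chart' U hU U' hU' hle ≤ domQ u p' chart' := by
  intro x hx
  unfold domQ
  exact Opens.mem_iSup.mpr ⟨⟨(⟨U, hU⟩, ⟨U', hU'⟩), hle⟩, hx⟩

theorem domPiece_le_preimage (U : Y.Opens) (hU : IsAffineOpen U) (U' : Y'.Opens)
    (hU' : IsAffineOpen U') (hle : U' ≤ g ⁻¹ᵁ U) :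
    domPiece u p' chart' U hU U' hU' hle ≤ p' ⁻¹ᵁ U' := by
  rintro _ ⟨z, -, rfl⟩
  exact emb_mem p' chart' U' hU' z

theorem mem_domQ_iff (x : P') :
    x ∈ domQ u p' chart' ↔ ∃ (U : Y.Opens) (hU : IsAffineOpen U) (U' : Y'.Opens)
      (hU' : IsAffineOpen U') (hle : U' ≤ g ⁻¹ᵁ U), x ∈ domPiece u p' chart' U hU U' hU' hle := by
  constructor
  · intro hx
    unfold domQ at hx
    obtain ⟨V, hV⟩ := Opens.mem_iSup.mp hx
    exact ⟨V.1.1.1, V.1.1.2, V.1.2.1, V.1.2.2, V.2, hV⟩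
  · rintro ⟨U, hU, U', hU', hle, hx⟩
    exact domPiece_le_domQ u p' chart' U hU U' hU' hle hx

theorem domPiece_congr {U₁ U₂ : Y.Opens} (e : U₁ = U₂) {U₁' U₂' : Y'.Opens} (e' : U₁' = U₂')
    (hU₁ : IsAffineOpen U₁) (hU₂ : IsAffineOpen U₂) (hU₁' : IsAffineOpen U₁')
    (hU₂' : IsAffineOpen U₂') (hle₁ : U₁' ≤ g ⁻¹ᵁ U₁) (hle₂ : U₂' ≤ g ⁻¹ᵁ U₂) :
    domPiece u p' chart' U₁ hU₁ U₁' hU₁' hle₁ = domPiece u p' chart' U₂ hU₂ U₂' hU₂' hle₂ := by
  subst e e'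
  rfl

variable {u p' chart'}

/-- shrinking a pair to basic opens -/
theorem domPiece_inf_le (hP' : IsRelProj 𝒮' p' chart') (U : Y.Opens) (hU : IsAffineOpen U)
    (U' : Y'.Opens) (hU' : IsAffineOpen U') (hle : U' ≤ g ⁻¹ᵁ U) (s : Γ(Y, U)) (s' : Γ(Y', U'))
    (hW : Y'.basicOpen s' ≤ g ⁻¹ᵁ Y.basicOpen s) :
    domPiece u p' chart' U hU U' hU' hle ⊓ p' ⁻¹ᵁ Y'.basicOpen s' ≤
      domPiece u p' chart' (Y.basicOpen s) (hU.basicOpen s) (Y'.basicOpen s')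
        (hU'.basicOpen s') hW := by
  rintro x ⟨⟨z, hz, rfl⟩, hx⟩
  have hx' : (emb p' chart' U' hU') z ∈ p' ⁻¹ᵁ Y'.basicOpen s' := hx
  set w := (chart' (Y'.basicOpen s') (hU'.basicOpen s')).hom ⟨_, hx'⟩ with hw
  have h1 : (emb p' chart' (Y'.basicOpen s') (hU'.basicOpen s')) w = (emb p' chart' U' hU') z :=
    emb_chart_hom p' chart' _ _ _ hx'
  have h2 := map_res_emb hP' U' hU' s'
  have h3 : (emb p' chart' U' hU') ((Proj.map (𝒮'.res hU' (hU'.basicOpen s')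
      (Y'.basicOpen_le s')) (𝒮'.irrelevant_le_map U' hU' s')) w) = (emb p' chart' U' hU') z := by
    rw [← Scheme.Hom.comp_apply, h2]
    exact h1
  have h4 := (emb p' chart' U' hU').injective h3
  refine ⟨w, ?_, h1⟩
  have hz' : z ∈ RelCone.domOpen (u.gradedAt U hU U' hU' hle) := hz
  rw [mem_domOpen_iff_homog] at hz'
  obtain ⟨d, hd, f, hf, hzf⟩ := hz'
  show w ∈ RelCone.domOpen (u.gradedAt (Y.basicOpen s) (hU.basicOpen s) (Y'.basicOpen s')
    (hU'.basicOpen s') hW)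
  rw [mem_domOpen_iff_homog]
  refine ⟨d, hd, 𝒮.res hU (hU.basicOpen s) (Y.basicOpen_le s) f,
    (𝒮.res hU (hU.basicOpen s) (Y.basicOpen_le s)).map_mem hf, ?_⟩
  have h5 := DFunLike.congr_fun (gradedAt_res u hU (hU.basicOpen s) (Y.basicOpen_le s) hU'
    (hU'.basicOpen s') (Y'.basicOpen_le s') hle hW) f
  show (u.gradedAt (Y.basicOpen s) (hU.basicOpen s) (Y'.basicOpen s') (hU'.basicOpen s') hW)
    (𝒮.res hU (hU.basicOpen s) (Y.basicOpen_le s) f) ∉ w.asHomogeneousIdeal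
  have h6 : (u.gradedAt (Y.basicOpen s) (hU.basicOpen s) (Y'.basicOpen s') (hU'.basicOpen s') hW)
      (𝒮.res hU (hU.basicOpen s) (Y.basicOpen_le s) f) =
      (𝒮'.res hU' (hU'.basicOpen s') (Y'.basicOpen_le s')) (u.gradedAt U hU U' hU' hle f) :=
    h5.symm
  rw [h6]
  intro hmem
  apply hzf
  rw [← h4]
  exact hmem

/-- enlarging a pair of basic opens -/
theorem domPiece_basicOpen_le (hP' : IsRelProj 𝒮' p' chart') (U : Y.Opens) (hU : IsAffineOpen U)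
    (U' : Y'.Opens) (hU' : IsAffineOpen U') (hle : U' ≤ g ⁻¹ᵁ U) (s : Γ(Y, U)) (s' : Γ(Y', U'))
    (hW : Y'.basicOpen s' ≤ g ⁻¹ᵁ Y.basicOpen s) :
    domPiece u p' chart' (Y.basicOpen s) (hU.basicOpen s) (Y'.basicOpen s')
        (hU'.basicOpen s') hW ≤ domPiece u p' chart' U hU U' hU' hle := by
  rintro x ⟨w, hw, rfl⟩
  have h2 := map_res_emb hP' U' hU' s'
  refine ⟨(Proj.map (𝒮'.res hU' (hU'.basicOpen s') (Y'.basicOpen_le s'))
    (𝒮'.irrelevant_le_map U' hU' s')) w, ?_, ?_⟩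
  · have hw' : w ∈ RelCone.domOpen (u.gradedAt (Y.basicOpen s) (hU.basicOpen s)
      (Y'.basicOpen s') (hU'.basicOpen s') hW) := hw
    rw [mem_domOpen_iff_homog] at hw'
    obtain ⟨d, hd, fW, hfW, hwf⟩ := hw'
    have hloc := isLocAway_res 𝒮 U hU s
    obtain ⟨f, hf, k, hfk⟩ := hloc.surj_homog (𝒮.str_mem U hU s) hfW
    show _ ∈ RelCone.domOpen (u.gradedAt U hU U' hU' hle)
    rw [mem_domOpen_iff_homog]
    refine ⟨d, hd, f, hf, ?_⟩
    show u.gradedAt U hU U' hU' hle f ∉ _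
    rw [mem_map_iff]
    have h5 := DFunLike.congr_fun (gradedAt_res u hU (hU.basicOpen s) (Y.basicOpen_le s) hU'
      (hU'.basicOpen s') (Y'.basicOpen_le s') hle hW) f
    have h6 : (𝒮'.res hU' (hU'.basicOpen s') (Y'.basicOpen_le s'))
        (u.gradedAt U hU U' hU' hle f) =
        (u.gradedAt (Y.basicOpen s) (hU.basicOpen s) (Y'.basicOpen s') (hU'.basicOpen s') hW)
          (𝒮.res hU (hU.basicOpen s) (Y.basicOpen_le s) f) := h5
    rw [h6, ← hfk, map_mul, map_pow]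
    let y : ProjectiveSpectrum (𝒮'.deg (Y'.basicOpen s') (hU'.basicOpen s')) := w
    intro hmem
    rcases y.isPrime.mem_or_mem hmem with h | h
    · exact hwf h
    · have h7 := y.isPrime.mem_of_pow_mem _ h
      have hunit : IsUnit ((u.gradedAt (Y.basicOpen s) (hU.basicOpen s) (Y'.basicOpen s')
          (hU'.basicOpen s') hW) ((𝒮.res hU (hU.basicOpen s) (Y.basicOpen_le s))
            ((𝒮.str.app (op U)).hom s))) := hloc.unit.map _
      exact (Ideal.IsPrime.ne_top y.isPrime) (Ideal.eq_top_of_isUnit_mem _ h7 hunit)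
  · exact congrArg (fun t : _ ⟶ P' => t w) h2

end Groth.Agent.Helper1.RP
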