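import Mathlib
import Groth.Prelude.Def_RelProj4
import Groth.Agent.Helper1.RP17

/-!
# Relative Proj toolkit, part 18: `G(u)` over an affine pair
-/

set_option autoImplicit false
set_option linter.style.haveILetI false

namespace Groth.Agent.Helper1.RP

open CategoryTheory Limits AlgebraicGeometry TopologicalSpace Opposite RelProj
  HomogeneousLocalization
open scoped HomogeneousIdeal

universe u

theorem exists_basicOpen_le_affine_inter_le {X : Scheme.{u}} {U V : X.Opens}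
    (hU : IsAffineOpen U) (hV : IsAffineOpen V) (G : X.Opens) (x : X) (hxU : x ∈ U) (hxV : x ∈ V)
    (hxG : x ∈ G) :
    ∃ (f : Γ(X, U)) (g : Γ(X, V)), X.basicOpen f = X.basicOpen g ∧ x ∈ X.basicOpen f ∧
      X.basicOpen f ≤ G := by
  obtain ⟨f, hf₁, hf₂⟩ := hU.exists_basicOpen_le (V := V ⊓ G) ⟨x, ⟨hxV, hxG⟩⟩ hxU
  obtain ⟨g, hg₁, hg₂⟩ := hV.exists_basicOpen_le (V := X.basicOpen f) ⟨x, hf₂⟩ hxV
  obtain ⟨f', hf'⟩ := hU.basicOpen_basicOpen_is_basicOpen f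
    (X.presheaf.map (homOfLE (hf₁.trans inf_le_left) : _ ⟶ V).op g)
  replace hf' := (hf'.trans (RingedSpace.basicOpen_res _ _ _)).trans (inf_eq_right.mpr hg₁)
  exact ⟨f', g, hf', hf'.symm ▸ hg₂, hf'.symm ▸ (hg₁.trans (hf₁.trans inf_le_right))⟩

variable {Y Y' : Scheme.{u}} {g : Y' ⟶ Y} {𝒮 : QCGrAlg Y} {𝒮' : QCGrAlg Y'}
  {u : QGrHom g 𝒮 𝒮'} {P' : Scheme.{u}} {p' : P' ⟶ Y'}
  {chart' : ∀ (U' : Y'.Opens) (hU' : IsAffineOpen U'),
    (((p' ⁻¹ᵁ U' : P'.Opens) : Scheme.{u}) ≅ Proj (𝒮'.deg U' hU'))}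

theorem domPiece_inf_preimage_le (hP' : IsRelProj 𝒮' p' chart')
    (U : Y.Opens) (hU : IsAffineOpen U) (U' : Y'.Opens) (hU' : IsAffineOpen U')
    (hle : U' ≤ g ⁻¹ᵁ U)
    (V : Y.Opens) (hV : IsAffineOpen V) (V' : Y'.Opens) (hV' : IsAffineOpen V')
    (hle' : V' ≤ g ⁻¹ᵁ V) :
    domPiece u p' chart' V hV V' hV' hle' ⊓ p' ⁻¹ᵁ U' ≤ domPiece u p' chart' U hU U' hU' hle := by
  rintro x ⟨hxV, hxU'⟩
  have hyV' : p' x ∈ V' := domPiece_le_preimage u p' chart' V hV V' hV' hle' hxV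
  have hyU' : p' x ∈ U' := hxU'
  have hyV : g (p' x) ∈ V := hle' hyV'
  have hyU : g (p' x) ∈ U := hle hyU'
  obtain ⟨s, t, hst, hys⟩ := exists_basicOpen_le_affine_inter hU hV (g (p' x)) ⟨hyU, hyV⟩
  obtain ⟨s', t', hst', hys', hle''⟩ := exists_basicOpen_le_affine_inter_le hU' hV'
    (g ⁻¹ᵁ Y.basicOpen s) (p' x) hyU' hyV' hys
  have hWt : Y'.basicOpen t' ≤ g ⁻¹ᵁ Y.basicOpen t := by rw [← hst', ← hst]; exact hle''
  have h1 : x ∈ domPiece u p' chart' (Y.basicOpen t) (hV.basicOpen t) (Y'.basicOpen t')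
      (hV'.basicOpen t') hWt :=
    domPiece_inf_le hP' V hV V' hV' hle' t t' hWt ⟨hxV, by
      show p' x ∈ Y'.basicOpen t'
      rw [← hst']; exact hys'⟩
  have h2 : x ∈ domPiece u p' chart' (Y.basicOpen s) (hU.basicOpen s) (Y'.basicOpen s')
      (hU'.basicOpen s') hle'' := by
    rw [domPiece_congr u p' chart' hst hst' (hU.basicOpen s) (hV.basicOpen t)
      (hU'.basicOpen s') (hV'.basicOpen t') hle'' hWt]
    exact h1
  exact domPiece_basicOpen_le hP' U hU U' hU' hle s s' hle'' h2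

/-- the part of `G(u)` over `U'`, for an affine pair `(U, U')` -/
theorem domQ_inf_preimage (hP' : IsRelProj 𝒮' p' chart')
    (U : Y.Opens) (hU : IsAffineOpen U) (U' : Y'.Opens) (hU' : IsAffineOpen U')
    (hle : U' ≤ g ⁻¹ᵁ U) :
    domQ u p' chart' ⊓ p' ⁻¹ᵁ U' = domPiece u p' chart' U hU U' hU' hle := by
  apply le_antisymm
  · rintro x ⟨hx, hxU'⟩
    obtain ⟨V, hV, V', hV', hle', hxV⟩ := (mem_domQ_iff u p' chart' x).1 hx
    exact domPiece_inf_preimage_le hP' U hU U' hU' hle V hV V' hV' hle' ⟨hxV, hxU'⟩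
  · exact le_inf (domPiece_le_domQ u p' chart' U hU U' hU' hle)
      (domPiece_le_preimage u p' chart' U hU U' hU' hle)

/-- a point of `G(u)` over `U'` lies on a standard chart of the pair `(U, U')` -/
theorem exists_awayEmb_of_mem_domQ (hP' : IsRelProj 𝒮' p' chart')
    (U : Y.Opens) (hU : IsAffineOpen U) (U' : Y'.Opens) (hU' : IsAffineOpen U')
    (hle : U' ≤ g ⁻¹ᵁ U) (x : P') (hx : x ∈ domQ u p' chart') (hxU' : x ∈ p' ⁻¹ᵁ U') :
    ∃ (d : ℕ) (hd : 0 < d) (f : 𝒮.presheaf.obj (op U)) (hf : f ∈ 𝒮.deg U hU d)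
      (y : Spec (CommRingCat.of (Away (𝒮'.deg U' hU') (u.gradedAt U hU U' hU' hle f)))),
      (awayEmb u p' chart' U hU U' hU' hle hd f hf) y = x := by
  have h1 : x ∈ domPiece u p' chart' U hU U' hU' hle := by
    rw [← domQ_inf_preimage hP' U hU U' hU' hle]; exact ⟨hx, hxU'⟩
  obtain ⟨z, hz, rfl⟩ := h1
  have hz' : z ∈ RelCone.domOpen (u.gradedAt U hU U' hU' hle) := hz
  rw [mem_domOpen_iff_homog] at hz'
  obtain ⟨d, hd, f, hf, hzf⟩ := hz'
  have hzf' : z ∈ (Proj.awayι (𝒮'.deg U' hU') (u.gradedAt U hU U' hU' hle f)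
      ((u.gradedAt U hU U' hU' hle).map_mem hf) hd).opensRange := by
    rw [Proj.opensRange_awayι]; exact hzf
  obtain ⟨y, hy⟩ := hzf'
  refine ⟨d, hd, f, hf, y, ?_⟩
  unfold awayEmb
  rw [Scheme.Hom.comp_apply]
  exact congrArg _ hy

end Groth.Agent.Helper1.RP
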