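import Mathlib
import Groth.Prelude.Def_RelProj4
import Groth.Agent.Helper1.RP18
import Groth.Agent.Helper1.RP16

/-!
# Relative Proj toolkit, part 19: the morphism `Proj(u)` on `G(u)`
-/

set_option autoImplicit false
set_option linter.style.haveILetI false

namespace Groth.Agent.Helper1.RP

open CategoryTheory Limits AlgebraicGeometry TopologicalSpace Opposite RelProj
  HomogeneousLocalization
open scoped HomogeneousIdeal

universe u

variable {Y Y' : Scheme.{u}} {g : Y' ⟶ Y} {𝒮 : QCGrAlg Y} {𝒮' : QCGrAlg Y'}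
  (u : QGrHom g 𝒮 𝒮') {P' : Scheme.{u}} (p' : P' ⟶ Y')
  (chart' : ∀ (U' : Y'.Opens) (hU' : IsAffineOpen U'),
    (((p' ⁻¹ᵁ U' : P'.Opens) : Scheme.{u}) ≅ Proj (𝒮'.deg U' hU')))

/-- the standard chart of `G(u)`, as a morphism into the open subscheme `G(u)` -/
noncomputable def liftEmb (U : Y.Opens) (hU : IsAffineOpen U) (U' : Y'.Opens)
    (hU' : IsAffineOpen U') (hle : U' ≤ g ⁻¹ᵁ U) {d : ℕ} (hd : 0 < d)
    (f : 𝒮.presheaf.obj (op U)) (hf : f ∈ 𝒮.deg U hU d) :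
    Spec (CommRingCat.of (Away (𝒮'.deg U' hU') (u.gradedAt U hU U' hU' hle f))) ⟶
      ((domQ u p' chart' : P'.Opens) : Scheme.{u}) :=
  IsOpenImmersion.lift (domQ u p' chart').ι (awayEmb u p' chart' U hU U' hU' hle hd f hf)
    (range_awayEmb_subset_domQ u p' chart' U hU U' hU' hle hd f hf)

@[reassoc]
theorem liftEmb_ι (U : Y.Opens) (hU : IsAffineOpen U) (U' : Y'.Opens)
    (hU' : IsAffineOpen U') (hle : U' ≤ g ⁻¹ᵁ U) {d : ℕ} (hd : 0 < d)
    (f : 𝒮.presheaf.obj (op U)) (hf : f ∈ 𝒮.deg U hU d) :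
    liftEmb u p' chart' U hU U' hU' hle hd f hf ≫ (domQ u p' chart').ι =
      awayEmb u p' chart' U hU U' hU' hle hd f hf :=
  IsOpenImmersion.lift_fac _ _ _

instance isOpenImmersion_liftEmb (U : Y.Opens) (hU : IsAffineOpen U) (U' : Y'.Opens)
    (hU' : IsAffineOpen U') (hle : U' ≤ g ⁻¹ᵁ U) {d : ℕ} (hd : 0 < d)
    (f : 𝒮.presheaf.obj (op U)) (hf : f ∈ 𝒮.deg U hU d) :
    IsOpenImmersion (liftEmb u p' chart' U hU U' hU' hle hd f hf) := by
  have : IsOpenImmersion (liftEmb u p' chart' U hU U' hU' hle hd f hf ≫ (domQ u p' chart').ι) := by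
    rw [liftEmb_ι]; infer_instance
  exact IsOpenImmersion.of_comp _ (domQ u p' chart').ι

variable {u p' chart'}

/-- every point of `G(u)` lying over `U'` is on a standard chart of the pair `(U, U')` -/
theorem exists_liftEmb (hP' : IsRelProj 𝒮' p' chart')
    (U : Y.Opens) (hU : IsAffineOpen U) (U' : Y'.Opens) (hU' : IsAffineOpen U')
    (hle : U' ≤ g ⁻¹ᵁ U) (x : ((domQ u p' chart' : P'.Opens) : Scheme.{u}))
    (hxU' : p' ((domQ u p' chart').ι x) ∈ U') :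
    ∃ (d : ℕ) (hd : 0 < d) (f : 𝒮.presheaf.obj (op U)) (hf : f ∈ 𝒮.deg U hU d)
      (y : Spec (CommRingCat.of (Away (𝒮'.deg U' hU') (u.gradedAt U hU U' hU' hle f)))),
      (liftEmb u p' chart' U hU U' hU' hle hd f hf) y = x := by
  obtain ⟨d, hd, f, hf, y, hy⟩ := exists_awayEmb_of_mem_domQ hP' U hU U' hU' hle
    ((domQ u p' chart').ι x) x.2 hxU'
  refine ⟨d, hd, f, hf, y, ?_⟩
  apply (domQ u p' chart').ι.injective
  rw [← Scheme.Hom.comp_apply, liftEmb_ι]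
  exact hy

/-- every point of `G(u)` is on a standard chart of some pair -/
theorem exists_pair (y' : Y') :
    ∃ (U : Y.Opens) (_ : IsAffineOpen U) (U' : Y'.Opens) (_ : IsAffineOpen U')
      (_ : U' ≤ g ⁻¹ᵁ U), y' ∈ U' := by
  obtain ⟨_, ⟨U, hU, rfl⟩, hyU, -⟩ :=
    Y.isBasis_affineOpens.exists_subset_of_mem_open (Set.mem_univ (g y')) isOpen_univ
  obtain ⟨_, ⟨U', hU', rfl⟩, hyU', hle⟩ :=
    Y'.isBasis_affineOpens.exists_subset_of_mem_open (show y' ∈ ((g ⁻¹ᵁ U : Y'.Opens) : Set Y')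
      from hyU) (g ⁻¹ᵁ U).isOpen
  exact ⟨U, hU, U', hU', hle, hyU'⟩

theorem hom_ext_liftEmb (hP' : IsRelProj 𝒮' p' chart') {Z : Scheme.{u}}
    (a b : ((domQ u p' chart' : P'.Opens) : Scheme.{u}) ⟶ Z)
    (hab : ∀ (U : Y.Opens) (hU : IsAffineOpen U) (U' : Y'.Opens) (hU' : IsAffineOpen U')
      (hle : U' ≤ g ⁻¹ᵁ U) (d : ℕ) (hd : 0 < d) (f : 𝒮.presheaf.obj (op U))
      (hf : f ∈ 𝒮.deg U hU d),
      liftEmb u p' chart' U hU U' hU' hle hd f hf ≫ a =
        liftEmb u p' chart' U hU U' hU' hle hd f hf ≫ b) : a = b := by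
  have key : ∀ x : ((domQ u p' chart' : P'.Opens) : Scheme.{u}),
      ∃ (V : Scheme.{u}) (j : V ⟶ ((domQ u p' chart' : P'.Opens) : Scheme.{u}))
        (_ : IsOpenImmersion j), x ∈ Set.range j ∧ j ≫ a = j ≫ b := by
    intro x
    obtain ⟨U, hU, U', hU', hle, hy⟩ := exists_pair (g := g) (p' ((domQ u p' chart').ι x))
    obtain ⟨d, hd, f, hf, y, hy⟩ := exists_liftEmb hP' U hU U' hU' hle x hy
    exact ⟨_, liftEmb u p' chart' U hU U' hU' hle hd f hf, inferInstance, ⟨y, hy⟩,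
      hab U hU U' hU' hle d hd f hf⟩
  choose V j hj hx hab' using key
  let 𝒰 : ((domQ u p' chart' : P'.Opens) : Scheme.{u}).OpenCover :=
    Scheme.Cover.mkOfCovers _ V j (fun x => ⟨x, hx x⟩) hj
  exact 𝒰.hom_ext _ _ hab'

theorem strZero_gradedAt (U : Y.Opens) (hU : IsAffineOpen U) (U' : Y'.Opens)
    (hU' : IsAffineOpen U') (hle : U' ≤ g ⁻¹ᵁ U) :
    𝒮.strZero U hU ≫ CommRingCat.ofHom (u.gradedAt U hU U' hU' hle).gradedZeroRingHom =
      g.appLE U U' hle ≫ 𝒮'.strZero U' hU' := by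
  ext r
  have := congrArg (fun t => t.hom r) (u.toQHom.str_appLE U U' hle)
  exact this

variable {P : Scheme.{u}} {p : P ⟶ Y}
  {chart : ∀ (U : Y.Opens) (hU : IsAffineOpen U),
    (((p ⁻¹ᵁ U : P.Opens) : Scheme.{u}) ≅ Proj (𝒮.deg U hU))}

theorem liftEmb_r {r : ((domQ u p' chart' : P'.Opens) : Scheme.{u}) ⟶ P}
    (hr : IsProjQMapOn u p chart p' chart' (domQ u p' chart') r)
    (U : Y.Opens) (hU : IsAffineOpen U) (U' : Y'.Opens) (hU' : IsAffineOpen U')
    (hle : U' ≤ g ⁻¹ᵁ U) {d : ℕ} (hd : 0 < d) (f : 𝒮.presheaf.obj (op U))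
    (hf : f ∈ 𝒮.deg U hU d) :
    liftEmb u p' chart' U hU U' hU' hle hd f hf ≫ r =
      Spec.map (CommRingCat.ofHom (Away.map (u.gradedAt U hU U' hU' hle) f)) ≫
        Proj.awayι (𝒮.deg U hU) f hf hd ≫ emb p chart U hU :=
  hr U hU U' hU' hle d hd f hf (range_awayEmb_subset_domQ u p' chart' U hU U' hU' hle hd f hf)

/-- `Proj(u)` lies over `g` -/
theorem projQMapOn_comm (hP : IsRelProj 𝒮 p chart) (hP' : IsRelProj 𝒮' p' chart')
    {r : ((domQ u p' chart' : P'.Opens) : Scheme.{u}) ⟶ P}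
    (hr : IsProjQMapOn u p chart p' chart' (domQ u p' chart') r) :
    r ≫ p = (domQ u p' chart').ι ≫ p' ≫ g := by
  apply hom_ext_liftEmb hP'
  intro U hU U' hU' hle d hd f hf
  rw [reassoc_of% liftEmb_r hr U hU U' hU' hle hd f hf, reassoc_of% liftEmb_ι]
  rw [emb_p (pA := p) (chartA := chart) hP U hU]
  unfold awayEmb
  rw [Category.assoc, reassoc_of% emb_p (pA := p') (chartA := chart') hP' U' hU']
  unfold str
  rw [reassoc_of% awayMap_awayι_toSpecZero (u.gradedAt U hU U' hU' hle) hd hf,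
    ← Spec.map_comp_assoc, strZero_gradedAt, Spec.map_comp_assoc,
    IsAffineOpen.SpecMap_appLE_fromSpec g hU hU' hle]
  simp only [Category.assoc]

/-- the inverse image under `Proj(u)` of a standard chart of `P`, over `U'` -/
theorem projQMapOn_preimage (hP' : IsRelProj 𝒮' p' chart')
    {r : ((domQ u p' chart' : P'.Opens) : Scheme.{u}) ⟶ P}
    (hr : IsProjQMapOn u p chart p' chart' (domQ u p' chart') r)
    (U : Y.Opens) (hU : IsAffineOpen U) (U' : Y'.Opens) (hU' : IsAffineOpen U')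
    (hle : U' ≤ g ⁻¹ᵁ U) {d : ℕ} (hd : 0 < d) (f : 𝒮.presheaf.obj (op U))
    (hf : f ∈ 𝒮.deg U hU d) :
    r ⁻¹ᵁ (Proj.awayι (𝒮.deg U hU) f hf hd ≫ emb p chart U hU).opensRange ⊓
        (domQ u p' chart').ι ⁻¹ᵁ (p' ⁻¹ᵁ U') =
      (liftEmb u p' chart' U hU U' hU' hle hd f hf).opensRange := by
  ext x
  constructor
  · rintro ⟨⟨w, hw⟩, hxU'⟩
    rw [Scheme.Hom.comp_apply] at hw
    obtain ⟨d', hd', f', hf', y, hy⟩ := exists_liftEmb hP' U hU U' hU' hle x hxU'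
    have h2 : r x = (emb p chart U hU) ((Proj.awayι (𝒮.deg U hU) f' hf' hd')
        ((Spec.map (CommRingCat.ofHom (Away.map (u.gradedAt U hU U' hU' hle) f'))) y)) := by
      rw [← hy]
      exact congrArg (fun t : _ ⟶ P => t y) (liftEmb_r hr U hU U' hU' hle hd' f' hf')
    rw [h2] at hw
    have h3 := (emb p chart U hU).injective hw
    have h4 : (Proj.awayι (𝒮.deg U hU) f' hf' hd')
        ((Spec.map (CommRingCat.ofHom (Away.map (u.gradedAt U hU U' hU' hle) f'))) y) ∈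
        Proj.basicOpen (𝒮.deg U hU) f := by
      rw [← h3, ← Proj.opensRange_awayι _ _ hf hd]
      exact ⟨w, rfl⟩
    rw [awayι_map_mem_basicOpen_iff (u.gradedAt U hU U' hU' hle) hd' hd hf' hf y] at h4
    have h5 : (Proj.awayι (𝒮'.deg U' hU') (u.gradedAt U hU U' hU' hle f')
          ((u.gradedAt U hU U' hU' hle).map_mem hf') hd') y ∈
        (Proj.awayι (𝒮'.deg U' hU') (u.gradedAt U hU U' hU' hle f)
          ((u.gradedAt U hU U' hU' hle).map_mem hf) hd).opensRange := by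
      rw [Proj.opensRange_awayι]; exact h4
    obtain ⟨y', hy'⟩ := h5
    refine ⟨y', ?_⟩
    apply (domQ u p' chart').ι.injective
    rw [← hy, ← Scheme.Hom.comp_apply, ← Scheme.Hom.comp_apply, liftEmb_ι, liftEmb_ι]
    unfold awayEmb
    rw [Scheme.Hom.comp_apply, Scheme.Hom.comp_apply]
    exact congrArg _ hy'
  · rintro ⟨y, rfl⟩
    refine ⟨⟨(Spec.map (CommRingCat.ofHom (Away.map (u.gradedAt U hU U' hU' hle) f))) y, ?_⟩, ?_⟩
    · exact (congrArg (fun t : _ ⟶ P => t y) (liftEmb_r hr U hU U' hU' hle hd f hf)).symm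
    · show p' ((domQ u p' chart').ι ((liftEmb u p' chart' U hU U' hU' hle hd f hf) y)) ∈ U'
      have h1 : (domQ u p' chart').ι ((liftEmb u p' chart' U hU U' hU' hle hd f hf) y) =
          (awayEmb u p' chart' U hU U' hU' hle hd f hf) y :=
        congrArg (fun t : _ ⟶ P' => t y) (liftEmb_ι u p' chart' U hU U' hU' hle hd f hf)
      rw [h1]
      unfold awayEmb
      rw [Scheme.Hom.comp_apply]
      exact emb_mem p' chart' U' hU' _

/-- when `g` is affine, target-local properties of `Proj(u)` can be checked on the maps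
`𝒮(U)_(f) → 𝒮'(g⁻¹U)_(u f)`. -/
theorem projQMapOn_of_away (Q : MorphismProperty Scheme.{u}) [IsZariskiLocalAtTarget Q]
    (hP : IsRelProj 𝒮 p chart) (hP' : IsRelProj 𝒮' p' chart')
    {r : ((domQ u p' chart' : P'.Opens) : Scheme.{u}) ⟶ P}
    (hr : IsProjQMapOn u p chart p' chart' (domQ u p' chart') r)
    (hg : ∀ (U : Y.Opens), IsAffineOpen U → IsAffineOpen (g ⁻¹ᵁ U))
    (hQ : ∀ (U : Y.Opens) (hU : IsAffineOpen U) (d : ℕ) (_ : 0 < d)
      (f : 𝒮.presheaf.obj (op U)) (_ : f ∈ 𝒮.deg U hU d),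
      Q (Spec.map (CommRingCat.ofHom
        (Away.map (u.gradedAt U hU (g ⁻¹ᵁ U) (hg U hU) le_rfl) f)))) : Q r := by
  have hcomm := projQMapOn_comm hP hP' hr
  have key : ∀ x : P, ∃ (V : Scheme.{u}) (j : V ⟶ P) (_ : IsOpenImmersion j),
      x ∈ Set.range j ∧ Q (pullback.snd r j) := by
    intro x
    obtain ⟨U, hU, d, hd, f, hf, y, hy⟩ := exists_chart_PA (chartA := chart) x
    refine ⟨_, Proj.awayι (𝒮.deg U hU) f hf hd ≫ emb p chart U hU, inferInstance,
      ⟨y, hy⟩, ?_⟩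
    have hpre : r ⁻¹ᵁ (Proj.awayι (𝒮.deg U hU) f hf hd ≫ emb p chart U hU).opensRange =
        (liftEmb u p' chart' U hU (g ⁻¹ᵁ U) (hg U hU) le_rfl hd f hf).opensRange := by
      rw [← projQMapOn_preimage hP' hr U hU (g ⁻¹ᵁ U) (hg U hU) le_rfl hd f hf]
      refine (inf_eq_left.mpr ?_).symm
      rintro x ⟨w, hw⟩
      show g (p' ((domQ u p' chart').ι x)) ∈ U
      have h1 : g (p' ((domQ u p' chart').ι x)) = p (r x) := by
        have := congrArg (fun t : _ ⟶ Y => t x) hcomm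
        exact this.symm
      rw [h1, ← hw, Scheme.Hom.comp_apply]
      exact emb_mem p chart U hU _
    have sq : IsPullback (Spec.map (CommRingCat.ofHom
          (Away.map (u.gradedAt U hU (g ⁻¹ᵁ U) (hg U hU) le_rfl) f)))
        (liftEmb u p' chart' U hU (g ⁻¹ᵁ U) (hg U hU) le_rfl hd f hf)
        (Proj.awayι (𝒮.deg U hU) f hf hd ≫ emb p chart U hU) r :=
      IsOpenImmersion.isPullback _ _ _ _ (liftEmb_r hr U hU _ (hg U hU) le_rfl hd f hf) hpre
    have h1 := hQ U hU d hd f hf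
    have h2 : sq.flip.isoPullback.hom ≫ pullback.snd _ _ =
        Spec.map (CommRingCat.ofHom (Away.map (u.gradedAt U hU (g ⁻¹ᵁ U) (hg U hU) le_rfl) f)) :=
      sq.flip.isoPullback_hom_snd
    rw [← h2] at h1
    exact (MorphismProperty.cancel_left_of_respectsIso Q _ _).1 h1
  choose V j hj hx hQ' using key
  let 𝒰 : P.OpenCover := Scheme.Cover.mkOfCovers P V j (fun x => ⟨x, hx x⟩) hj
  exact IsZariskiLocalAtTarget.of_openCover (P := Q) 𝒰 hQ'

end Groth.Agent.Helper1.RP
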