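import Mathlib
import Groth.Prelude.Def_RelProj4
import Groth.Agent.Helper1.RP19
import Groth.Agent.Helper1.RP20

/-!
# Relative Proj toolkit, part 22: comparing standard charts of `G(u)` (refinement lemmas)
-/

set_option autoImplicit false
set_option linter.style.haveILetI false

namespace Groth.Agent.Helper1.RP

open CategoryTheory Limits AlgebraicGeometry TopologicalSpace Opposite RelProj
  HomogeneousLocalization
open scoped HomogeneousIdeal

universe u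

section ring

variable {A σ B τ C ρ : Type u} [CommRing A] [SetLike σ A] [AddSubgroupClass σ A]
  [CommRing B] [SetLike τ B] [AddSubgroupClass τ B]
  [CommRing C] [SetLike ρ C] [AddSubgroupClass ρ C]
  {𝒜 : ℕ → σ} {ℬ : ℕ → τ} {𝒞 : ℕ → ρ} [GradedRing 𝒜] [GradedRing ℬ] [GradedRing 𝒞]

theorem away_lower (ψ : 𝒜 →+*ᵍ ℬ) (β : ℬ →+*ᵍ 𝒞) (hβ : 𝒞₊ ≤ ℬ₊.map β) (χ : 𝒜 →+*ᵍ 𝒞)
    (hχ : χ = β.comp ψ) {d : ℕ} (hd : 0 < d) {f : A} (hf : f ∈ 𝒜 d) :
    ∃ θ : Away ℬ (ψ f) →+* Away 𝒞 (χ f),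
      Proj.awayι 𝒞 (χ f) (χ.map_mem hf) hd ≫ Proj.map β hβ =
        Spec.map (CommRingCat.ofHom θ) ≫ Proj.awayι ℬ (ψ f) (ψ.map_mem hf) hd ∧
      Away.map χ f = θ.comp (Away.map ψ f) := by
  subst hχ
  exact ⟨Away.map β (ψ f), Proj.awayι_comp_map β hβ hd (ψ f) (ψ.map_mem hf),
    Away.map_comp ψ β f⟩

end ring

variable {Y Y' : Scheme.{u}} {g : Y' ⟶ Y} {𝒮 : QCGrAlg Y} {𝒮' : QCGrAlg Y'}
  {u : QGrHom g 𝒮 𝒮'} {P' : Scheme.{u}} {p' : P' ⟶ Y'}
  {chart' : ∀ (U' : Y'.Opens) (hU' : IsAffineOpen U'),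
    (((p' ⁻¹ᵁ U' : P'.Opens) : Scheme.{u}) ≅ Proj (𝒮'.deg U' hU'))}
  {P : Scheme.{u}} {p : P ⟶ Y}
  {chart : ∀ (U : Y.Opens) (hU : IsAffineOpen U),
    (((p ⁻¹ᵁ U : P.Opens) : Scheme.{u}) ≅ Proj (𝒮.deg U hU))}

/-- the value of `Proj(u)` on a standard chart -/
noncomputable def rhsQ (u : QGrHom g 𝒮 𝒮') (p : P ⟶ Y)
    (chart : ∀ (U : Y.Opens) (hU : IsAffineOpen U),
      (((p ⁻¹ᵁ U : P.Opens) : Scheme.{u}) ≅ Proj (𝒮.deg U hU)))
    (U : Y.Opens) (hU : IsAffineOpen U) (U' : Y'.Opens)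
    (hU' : IsAffineOpen U') (hle : U' ≤ g ⁻¹ᵁ U) {d : ℕ} (hd : 0 < d)
    (f : 𝒮.presheaf.obj (op U)) (hf : f ∈ 𝒮.deg U hU d) :
    Spec (CommRingCat.of (Away (𝒮'.deg U' hU') (u.gradedAt U hU U' hU' hle f))) ⟶ P :=
  Spec.map (CommRingCat.ofHom (Away.map (u.gradedAt U hU U' hU' hle) f)) ≫
    Proj.awayι (𝒮.deg U hU) f hf hd ≫ emb p chart U hU

theorem liftEmb_congr_deg (U : Y.Opens) (hU : IsAffineOpen U) (U' : Y'.Opens)
    (hU' : IsAffineOpen U') (hle : U' ≤ g ⁻¹ᵁ U) {d d' : ℕ} (e : d = d') (hd : 0 < d)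
    (hd' : 0 < d') (f : 𝒮.presheaf.obj (op U)) (hf : f ∈ 𝒮.deg U hU d)
    (hf' : f ∈ 𝒮.deg U hU d') :
    liftEmb u p' chart' U hU U' hU' hle hd f hf = liftEmb u p' chart' U hU U' hU' hle hd' f hf' := by
  subst e; rfl

theorem rhsQ_congr_deg (U : Y.Opens) (hU : IsAffineOpen U) (U' : Y'.Opens)
    (hU' : IsAffineOpen U') (hle : U' ≤ g ⁻¹ᵁ U) {d d' : ℕ} (e : d = d') (hd : 0 < d)
    (hd' : 0 < d') (f : 𝒮.presheaf.obj (op U)) (hf : f ∈ 𝒮.deg U hU d)
    (hf' : f ∈ 𝒮.deg U hU d') :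
    rhsQ u p chart U hU U' hU' hle hd f hf = rhsQ u p chart U hU U' hU' hle hd' f hf' := by
  subst e; rfl

/-- lowering a standard chart to a pair of basic opens -/
theorem chart_lower (hP : IsRelProj 𝒮 p chart) (hP' : IsRelProj 𝒮' p' chart')
    (U : Y.Opens) (hU : IsAffineOpen U) (U' : Y'.Opens) (hU' : IsAffineOpen U')
    (hle : U' ≤ g ⁻¹ᵁ U) (s : Γ(Y, U)) (s' : Γ(Y', U'))
    (W : Y.Opens) (hW : IsAffineOpen W) (W' : Y'.Opens) (hW' : IsAffineOpen W')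
    (hleW : W' ≤ g ⁻¹ᵁ W) (eW : W = Y.basicOpen s) (eW' : W' = Y'.basicOpen s') (iW : W ≤ U)
    {d : ℕ} (hd : 0 < d) (f : 𝒮.presheaf.obj (op U)) (hf : f ∈ 𝒮.deg U hU d) :
    ∃ θ : Away (𝒮'.deg U' hU') (u.gradedAt U hU U' hU' hle f) →+*
        Away (𝒮'.deg W' hW') (u.gradedAt W hW W' hW' hleW (𝒮.res hU hW iW f)),
      Spec.map (CommRingCat.ofHom θ) ≫ liftEmb u p' chart' U hU U' hU' hle hd f hf =
        liftEmb u p' chart' W hW W' hW' hleW hd (𝒮.res hU hW iW f)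
          ((𝒮.res hU hW iW).map_mem hf) ∧
      Spec.map (CommRingCat.ofHom θ) ≫ rhsQ u p chart U hU U' hU' hle hd f hf =
        rhsQ u p chart W hW W' hW' hleW hd (𝒮.res hU hW iW f)
          ((𝒮.res hU hW iW).map_mem hf) := by
  subst eW eW'
  have hres := gradedAt_res u hU hW iW hU' hW' (Y'.basicOpen_le s') hle hleW
  have hembA : Proj.map (𝒮.res hU hW iW) (𝒮.irrelevant_le_map U hU s) ≫ emb p chart U hU =
      emb p chart (Y.basicOpen s) hW := map_res_emb hP U hU s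
  have hembB : Proj.map (𝒮'.res hU' hW' (Y'.basicOpen_le s')) (𝒮'.irrelevant_le_map U' hU' s') ≫
      emb p' chart' U' hU' = emb p' chart' (Y'.basicOpen s') hW' := map_res_emb hP' U' hU' s'
  obtain ⟨θ, h1, h2⟩ : ∃ θ : Away (𝒮'.deg U' hU') (u.gradedAt U hU U' hU' hle f) →+*
        Away (𝒮'.deg (Y'.basicOpen s') hW')
          (u.gradedAt (Y.basicOpen s) hW (Y'.basicOpen s') hW' hleW (𝒮.res hU hW iW f)),
      Proj.awayι (𝒮'.deg (Y'.basicOpen s') hW')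
          (u.gradedAt (Y.basicOpen s) hW (Y'.basicOpen s') hW' hleW (𝒮.res hU hW iW f))
          ((u.gradedAt (Y.basicOpen s) hW (Y'.basicOpen s') hW' hleW).map_mem
            ((𝒮.res hU hW iW).map_mem hf)) hd ≫
          Proj.map (𝒮'.res hU' hW' (Y'.basicOpen_le s')) (𝒮'.irrelevant_le_map U' hU' s') =
        Spec.map (CommRingCat.ofHom θ) ≫ Proj.awayι (𝒮'.deg U' hU')
          (u.gradedAt U hU U' hU' hle f) ((u.gradedAt U hU U' hU' hle).map_mem hf) hd ∧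
      (Away.map (u.gradedAt (Y.basicOpen s) hW (Y'.basicOpen s') hW' hleW)
          (𝒮.res hU hW iW f)).comp (Away.map (𝒮.res hU hW iW) f) =
        θ.comp (Away.map (u.gradedAt U hU U' hU' hle) f) := by
    obtain ⟨θ, h1, h2⟩ := away_lower (u.gradedAt U hU U' hU' hle)
      (𝒮'.res hU' hW' (Y'.basicOpen_le s')) (𝒮'.irrelevant_le_map U' hU' s')
      ((u.gradedAt (Y.basicOpen s) hW (Y'.basicOpen s') hW' hleW).comp (𝒮.res hU hW iW))
      hres.symm hd hf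
    exact ⟨θ, h1, (Away.map_comp _ _ f).symm.trans h2⟩
  refine ⟨θ, ?_, ?_⟩
  · rw [← cancel_mono (domQ u p' chart').ι, Category.assoc, liftEmb_ι, liftEmb_ι]
    unfold awayEmb
    rw [← reassoc_of% h1, hembB]
  · unfold rhsQ
    rw [← Spec.map_comp_assoc, ← CommRingCat.ofHom_comp, ← h2, ← hembA,
      Proj.awayι_comp_map_assoc (𝒮.res hU hW iW) (𝒮.irrelevant_le_map U hU s) hd f hf,
      ← Spec.map_comp_assoc, ← CommRingCat.ofHom_comp]

/-- a point of a standard chart lying over the smaller pair is on the lowered chart -/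
theorem mem_range_lower (hP' : IsRelProj 𝒮' p' chart')
    (U : Y.Opens) (hU : IsAffineOpen U) (U' : Y'.Opens) (hU' : IsAffineOpen U')
    (hle : U' ≤ g ⁻¹ᵁ U) (s : Γ(Y, U)) (s' : Γ(Y', U'))
    (W : Y.Opens) (hW : IsAffineOpen W) (W' : Y'.Opens) (hW' : IsAffineOpen W')
    (hleW : W' ≤ g ⁻¹ᵁ W) (eW : W = Y.basicOpen s) (eW' : W' = Y'.basicOpen s') (iW : W ≤ U)
    {d : ℕ} (hd : 0 < d) (f : 𝒮.presheaf.obj (op U)) (hf : f ∈ 𝒮.deg U hU d)
    (x : ((domQ u p' chart' : P'.Opens) : Scheme.{u}))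
    (hx : x ∈ Set.range (liftEmb u p' chart' U hU U' hU' hle hd f hf))
    (hxW : p' ((domQ u p' chart').ι x) ∈ W') :
    x ∈ Set.range (liftEmb u p' chart' W hW W' hW' hleW hd (𝒮.res hU hW iW f)
      ((𝒮.res hU hW iW).map_mem hf)) := by
  subst eW eW'
  obtain ⟨y, rfl⟩ := hx
  have hι : (domQ u p' chart').ι ((liftEmb u p' chart' U hU U' hU' hle hd f hf) y) =
      (emb p' chart' U' hU') ((Proj.awayι (𝒮'.deg U' hU') (u.gradedAt U hU U' hU' hle f)
        ((u.gradedAt U hU U' hU' hle).map_mem hf) hd) y) :=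
    congrArg (fun t : _ ⟶ P' => t y) (liftEmb_ι u p' chart' U hU U' hU' hle hd f hf)
  set z := (Proj.awayι (𝒮'.deg U' hU') (u.gradedAt U hU U' hU' hle f)
        ((u.gradedAt U hU U' hU' hle).map_mem hf) hd) y with hz
  have hzf : z ∈ Proj.basicOpen (𝒮'.deg U' hU') (u.gradedAt U hU U' hU' hle f) := by
    have h0 : z ∈ (Proj.awayι (𝒮'.deg U' hU') (u.gradedAt U hU U' hU' hle f)
        ((u.gradedAt U hU U' hU' hle).map_mem hf) hd).opensRange := ⟨y, rfl⟩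
    rw [Proj.opensRange_awayι] at h0
    exact h0
  have hxW' : (domQ u p' chart').ι ((liftEmb u p' chart' U hU U' hU' hle hd f hf) y) ∈
      p' ⁻¹ᵁ Y'.basicOpen s' := hxW
  set w := (chart' (Y'.basicOpen s') hW').hom ⟨_, hxW'⟩ with hw
  have h1 : (emb p' chart' (Y'.basicOpen s') hW') w =
      (domQ u p' chart').ι ((liftEmb u p' chart' U hU U' hU' hle hd f hf) y) :=
    emb_chart_hom p' chart' _ _ _ hxW'
  have hembB : Proj.map (𝒮'.res hU' hW' (Y'.basicOpen_le s')) (𝒮'.irrelevant_le_map U' hU' s') ≫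
      emb p' chart' U' hU' = emb p' chart' (Y'.basicOpen s') hW' := map_res_emb hP' U' hU' s'
  have h3 : (emb p' chart' U' hU') ((Proj.map (𝒮'.res hU' hW' (Y'.basicOpen_le s'))
      (𝒮'.irrelevant_le_map U' hU' s')) w) = (emb p' chart' U' hU') z := by
    rw [← hι, ← h1]
    exact congrArg (fun t : _ ⟶ P' => t w) hembB
  have h4 := (emb p' chart' U' hU').injective h3
  have hres := DFunLike.congr_fun
    (gradedAt_res u hU hW iW hU' hW' (Y'.basicOpen_le s') hle hleW) f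
  have hwf : w ∈ Proj.basicOpen (𝒮'.deg (Y'.basicOpen s') hW')
      (u.gradedAt (Y.basicOpen s) hW (Y'.basicOpen s') hW' hleW (𝒮.res hU hW iW f)) := by
    show (u.gradedAt (Y.basicOpen s) hW (Y'.basicOpen s') hW' hleW (𝒮.res hU hW iW f)) ∉
      w.asHomogeneousIdeal
    have h6 : (u.gradedAt (Y.basicOpen s) hW (Y'.basicOpen s') hW' hleW)
        (𝒮.res hU hW iW f) =
        (𝒮'.res hU' hW' (Y'.basicOpen_le s')) (u.gradedAt U hU U' hU' hle f) := hres.symm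
    rw [h6]
    intro hmem
    have hzf' : u.gradedAt U hU U' hU' hle f ∉ z.asHomogeneousIdeal := hzf
    apply hzf'
    rw [← h4]
    exact hmem
  have hwf' : w ∈ (Proj.awayι (𝒮'.deg (Y'.basicOpen s') hW')
      (u.gradedAt (Y.basicOpen s) hW (Y'.basicOpen s') hW' hleW (𝒮.res hU hW iW f))
      ((u.gradedAt (Y.basicOpen s) hW (Y'.basicOpen s') hW' hleW).map_mem
        ((𝒮.res hU hW iW).map_mem hf)) hd).opensRange := by
    rw [Proj.opensRange_awayι]; exact hwf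
  obtain ⟨y', hy'⟩ := hwf'
  refine ⟨y', ?_⟩
  apply (domQ u p' chart').ι.injective
  rw [← h1]
  have : (domQ u p' chart').ι ((liftEmb u p' chart' (Y.basicOpen s) hW (Y'.basicOpen s') hW'
      hleW hd (𝒮.res hU hW iW f) ((𝒮.res hU hW iW).map_mem hf)) y') =
      (awayEmb u p' chart' (Y.basicOpen s) hW (Y'.basicOpen s') hW' hleW hd
        (𝒮.res hU hW iW f) ((𝒮.res hU hW iW).map_mem hf)) y' :=
    congrArg (fun t : _ ⟶ P' => t y') (liftEmb_ι u p' chart' _ hW _ hW' hleW hd _ _)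
  rw [this]
  unfold awayEmb
  rw [Scheme.Hom.comp_apply]
  exact congrArg _ hy'

/-- refining a standard chart by multiplying the element -/
theorem chart_mul (W : Y.Opens) (hW : IsAffineOpen W) (W' : Y'.Opens) (hW' : IsAffineOpen W')
    (hleW : W' ≤ g ⁻¹ᵁ W) {d e : ℕ} (hd : 0 < d) (a b x : 𝒮.presheaf.obj (op W))
    (ha : a ∈ 𝒮.deg W hW d) (hb : b ∈ 𝒮.deg W hW e) (hx : x = a * b) :
    ∃ θ : Away (𝒮'.deg W' hW') (u.gradedAt W hW W' hW' hleW a) →+*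
        Away (𝒮'.deg W' hW') (u.gradedAt W hW W' hW' hleW x),
      Spec.map (CommRingCat.ofHom θ) ≫ liftEmb u p' chart' W hW W' hW' hleW hd a ha =
        liftEmb u p' chart' W hW W' hW' hleW (hd.trans_le (d.le_add_right e)) x
          (hx ▸ SetLike.mul_mem_graded ha hb) ∧
      Spec.map (CommRingCat.ofHom θ) ≫ rhsQ u p chart W hW W' hW' hleW hd a ha =
        rhsQ u p chart W hW W' hW' hleW (hd.trans_le (d.le_add_right e)) x
          (hx ▸ SetLike.mul_mem_graded ha hb) := by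
  have hx' : u.gradedAt W hW W' hW' hleW x =
      u.gradedAt W hW W' hW' hleW a * u.gradedAt W hW W' hW' hleW b := by
    rw [hx, map_mul]
  refine ⟨awayMap (𝒮'.deg W' hW') ((u.gradedAt W hW W' hW' hleW).map_mem hb) hx', ?_, ?_⟩
  · rw [← cancel_mono (domQ u p' chart').ι, Category.assoc, liftEmb_ι, liftEmb_ι]
    unfold awayEmb
    rw [← Category.assoc]
    congr 1
    exact Proj.SpecMap_awayMap_awayι (𝒮'.deg W' hW')
      ((u.gradedAt W hW W' hW' hleW).map_mem ha) hd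
      ((u.gradedAt W hW W' hW' hleW).map_mem hb) hx'
  · have := rhsD_mul (u.gradedAt W hW W' hW' hleW) hd ha hb hx hx'
    unfold rhsD at this
    unfold rhsQ
    rw [← Category.assoc, ← Category.assoc, ← Category.assoc]
    rw [Category.assoc (Spec.map _) (Spec.map _), this]

end Groth.Agent.Helper1.RP
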