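import Mathlib
import Groth.Prelude.Def_RelProj4
import Groth.Agent.Helper1.RP22

/-!
# Relative Proj toolkit, part 23: existence and uniqueness of `Proj(u)` on `G(u)`
-/

set_option autoImplicit false
set_option linter.style.haveILetI false

namespace Groth.Agent.Helper1.RP

open CategoryTheory Limits AlgebraicGeometry TopologicalSpace Opposite RelProj
  HomogeneousLocalization
open scoped HomogeneousIdeal

universe u

variable {Y Y' : Scheme.{u}} {g : Y' ⟶ Y} {𝒮 : QCGrAlg Y} {𝒮' : QCGrAlg Y'}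
  {u : QGrHom g 𝒮 𝒮'} {P' : Scheme.{u}} {p' : P' ⟶ Y'}
  {chart' : ∀ (U' : Y'.Opens) (hU' : IsAffineOpen U'),
    (((p' ⁻¹ᵁ U' : P'.Opens) : Scheme.{u}) ≅ Proj (𝒮'.deg U' hU'))}
  {P : Scheme.{u}} {p : P ⟶ Y}
  {chart : ∀ (U : Y.Opens) (hU : IsAffineOpen U),
    (((p ⁻¹ᵁ U : P.Opens) : Scheme.{u}) ≅ Proj (𝒮.deg U hU))}

theorem liftEmb_apply_ι (U : Y.Opens) (hU : IsAffineOpen U) (U' : Y'.Opens)
    (hU' : IsAffineOpen U') (hle : U' ≤ g ⁻¹ᵁ U) {d : ℕ} (hd : 0 < d)
    (f : 𝒮.presheaf.obj (op U)) (hf : f ∈ 𝒮.deg U hU d)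
    (y : Spec (CommRingCat.of (Away (𝒮'.deg U' hU') (u.gradedAt U hU U' hU' hle f)))) :
    (domQ u p' chart').ι ((liftEmb u p' chart' U hU U' hU' hle hd f hf) y) =
      (emb p' chart' U' hU') ((Proj.awayι (𝒮'.deg U' hU') (u.gradedAt U hU U' hU' hle f)
        ((u.gradedAt U hU U' hU' hle).map_mem hf) hd) y) :=
  congrArg (fun t : _ ⟶ P' => t y) (liftEmb_ι u p' chart' U hU U' hU' hle hd f hf)

theorem mem_range_mul (W : Y.Opens) (hW : IsAffineOpen W) (W' : Y'.Opens)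
    (hW' : IsAffineOpen W') (hleW : W' ≤ g ⁻¹ᵁ W) {d e : ℕ} (hd : 0 < d) (he : 0 < e)
    (a b : 𝒮.presheaf.obj (op W)) (ha : a ∈ 𝒮.deg W hW d) (hb : b ∈ 𝒮.deg W hW e)
    (x : ((domQ u p' chart' : P'.Opens) : Scheme.{u}))
    (hxa : x ∈ Set.range (liftEmb u p' chart' W hW W' hW' hleW hd a ha))
    (hxb : x ∈ Set.range (liftEmb u p' chart' W hW W' hW' hleW he b hb)) :
    x ∈ Set.range (liftEmb u p' chart' W hW W' hW' hleW (hd.trans_le (d.le_add_right e))
      (a * b) (SetLike.mul_mem_graded ha hb)) := by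
  obtain ⟨y₁, hy₁⟩ := hxa
  obtain ⟨y₂, hy₂⟩ := hxb
  have h1 := liftEmb_apply_ι (p' := p') (chart' := chart') W hW W' hW' hleW hd a ha y₁
  have h2 := liftEmb_apply_ι (p' := p') (chart' := chart') W hW W' hW' hleW he b hb y₂
  rw [hy₁] at h1
  rw [hy₂] at h2
  have h3 := (emb p' chart' W' hW').injective (h1.symm.trans h2)
  set z := (Proj.awayι (𝒮'.deg W' hW') (u.gradedAt W hW W' hW' hleW a)
    ((u.gradedAt W hW W' hW' hleW).map_mem ha) hd) y₁ with hz
  have hza : z ∈ Proj.basicOpen (𝒮'.deg W' hW') (u.gradedAt W hW W' hW' hleW a) := by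
    have h0 : z ∈ (Proj.awayι (𝒮'.deg W' hW') (u.gradedAt W hW W' hW' hleW a)
        ((u.gradedAt W hW W' hW' hleW).map_mem ha) hd).opensRange := ⟨y₁, rfl⟩
    rw [Proj.opensRange_awayι] at h0
    exact h0
  have hzb : z ∈ Proj.basicOpen (𝒮'.deg W' hW') (u.gradedAt W hW W' hW' hleW b) := by
    have h0 : z ∈ (Proj.awayι (𝒮'.deg W' hW') (u.gradedAt W hW W' hW' hleW b)
        ((u.gradedAt W hW W' hW' hleW).map_mem hb) he).opensRange := ⟨y₂, h3.symm⟩
    rw [Proj.opensRange_awayι] at h0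
    exact h0
  have hzab : z ∈ Proj.basicOpen (𝒮'.deg W' hW') (u.gradedAt W hW W' hW' hleW (a * b)) := by
    have : u.gradedAt W hW W' hW' hleW (a * b) =
        u.gradedAt W hW W' hW' hleW a * u.gradedAt W hW W' hW' hleW b := map_mul _ a b
    rw [this, Proj.basicOpen_mul]
    exact ⟨hza, hzb⟩
  have hzab' : z ∈ (Proj.awayι (𝒮'.deg W' hW') (u.gradedAt W hW W' hW' hleW (a * b))
      ((u.gradedAt W hW W' hW' hleW).map_mem (SetLike.mul_mem_graded ha hb))
      (hd.trans_le (d.le_add_right e))).opensRange := by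
    rw [Proj.opensRange_awayι]; exact hzab
  obtain ⟨y, hy⟩ := hzab'
  refine ⟨y, ?_⟩
  apply (domQ u p' chart').ι.injective
  rw [liftEmb_apply_ι, h1]
  exact congrArg _ hy

/-- index type of the standard charts of `G(u)` -/
structure ChartIdx (u : QGrHom g 𝒮 𝒮') : Type u where
  U : Y.Opens
  hU : IsAffineOpen U
  U' : Y'.Opens
  hU' : IsAffineOpen U'
  hle : U' ≤ g ⁻¹ᵁ U
  d : ℕ
  hd : 0 < d
  f : 𝒮.presheaf.obj (op U)
  hf : f ∈ 𝒮.deg U hU d

theorem mem_preimage_of_mem_range (U : Y.Opens) (hU : IsAffineOpen U) (U' : Y'.Opens)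
    (hU' : IsAffineOpen U') (hle : U' ≤ g ⁻¹ᵁ U) {d : ℕ} (hd : 0 < d)
    (f : 𝒮.presheaf.obj (op U)) (hf : f ∈ 𝒮.deg U hU d)
    (x : ((domQ u p' chart' : P'.Opens) : Scheme.{u}))
    (hx : x ∈ Set.range (liftEmb u p' chart' U hU U' hU' hle hd f hf)) :
    p' ((domQ u p' chart').ι x) ∈ U' := by
  obtain ⟨y, rfl⟩ := hx
  rw [liftEmb_apply_ι]
  exact emb_mem p' chart' U' hU' _

/-- **Existence and uniqueness of `Proj(u)` on its open of definition.** -/
theorem existsUnique_projQMapOn (hP : IsRelProj 𝒮 p chart) (hP' : IsRelProj 𝒮' p' chart') :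
    ∃! r : ((domQ u p' chart' : P'.Opens) : Scheme.{u}) ⟶ P,
      IsProjQMapOn u p chart p' chart' (domQ u p' chart') r := by
  obtain ⟨r, hr, huniq⟩ := existsUnique_of_charts
    (X := ((domQ u p' chart' : P'.Opens) : Scheme.{u})) (Z := P) (I := ChartIdx u)
    (fun i => Spec (CommRingCat.of (Away (𝒮'.deg i.U' i.hU')
      (u.gradedAt i.U i.hU i.U' i.hU' i.hle i.f))))
    (fun i => liftEmb u p' chart' i.U i.hU i.U' i.hU' i.hle i.hd i.f i.hf)
    (by
      intro x
      obtain ⟨U, hU, U', hU', hle, hy⟩ := exists_pair (g := g) (p' ((domQ u p' chart').ι x))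
      obtain ⟨d, hd, f, hf, y, hy⟩ := exists_liftEmb hP' U hU U' hU' hle x hy
      exact ⟨⟨U, hU, U', hU', hle, d, hd, f, hf⟩, y, hy⟩)
    (fun i => rhsQ u p chart i.U i.hU i.U' i.hU' i.hle i.hd i.f i.hf)
    (by
      intro i j x hxi hxj
      have hyi : p' ((domQ u p' chart').ι x) ∈ i.U' :=
        mem_preimage_of_mem_range i.U i.hU i.U' i.hU' i.hle i.hd i.f i.hf x hxi
      have hyj : p' ((domQ u p' chart').ι x) ∈ j.U' :=
        mem_preimage_of_mem_range j.U j.hU j.U' j.hU' j.hle j.hd j.f j.hf x hxj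
      obtain ⟨s, t, hst, hys⟩ := exists_basicOpen_le_affine_inter i.hU j.hU
        (g (p' ((domQ u p' chart').ι x))) ⟨i.hle hyi, j.hle hyj⟩
      obtain ⟨s', t', hst', hys', hleW⟩ := exists_basicOpen_le_affine_inter_le i.hU' j.hU'
        (g ⁻¹ᵁ Y.basicOpen s) (p' ((domQ u p' chart').ι x)) hyi hyj hys
      have iWj : Y.basicOpen s ≤ j.U := hst ▸ Y.basicOpen_le t
      -- the two restricted sections
      obtain ⟨a, ha_def⟩ : ∃ a, a = 𝒮.res i.hU (i.hU.basicOpen s) (Y.basicOpen_le s) i.f :=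
        ⟨_, rfl⟩
      obtain ⟨b, hb_def⟩ : ∃ b, b = 𝒮.res j.hU (i.hU.basicOpen s) iWj j.f := ⟨_, rfl⟩
      have ha : a ∈ 𝒮.deg (Y.basicOpen s) (i.hU.basicOpen s) i.d := by
        rw [ha_def]
        exact (𝒮.res i.hU (i.hU.basicOpen s) (Y.basicOpen_le s)).map_mem i.hf
      have hb : b ∈ 𝒮.deg (Y.basicOpen s) (i.hU.basicOpen s) j.d := by
        rw [hb_def]
        exact (𝒮.res j.hU (i.hU.basicOpen s) iWj).map_mem j.hf
      -- lowering both charts
      obtain ⟨θ₁, hc₁, hr₁⟩ : ∃ θ₁ : Away (𝒮'.deg i.U' i.hU')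
          (u.gradedAt i.U i.hU i.U' i.hU' i.hle i.f) →+*
          Away (𝒮'.deg (Y'.basicOpen s') (i.hU'.basicOpen s'))
            (u.gradedAt (Y.basicOpen s) (i.hU.basicOpen s) (Y'.basicOpen s')
              (i.hU'.basicOpen s') hleW a),
          Spec.map (CommRingCat.ofHom θ₁) ≫
            liftEmb u p' chart' i.U i.hU i.U' i.hU' i.hle i.hd i.f i.hf =
          liftEmb u p' chart' (Y.basicOpen s) (i.hU.basicOpen s) (Y'.basicOpen s')
            (i.hU'.basicOpen s') hleW i.hd a ha ∧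
          Spec.map (CommRingCat.ofHom θ₁) ≫
            rhsQ u p chart i.U i.hU i.U' i.hU' i.hle i.hd i.f i.hf =
          rhsQ u p chart (Y.basicOpen s) (i.hU.basicOpen s) (Y'.basicOpen s')
            (i.hU'.basicOpen s') hleW i.hd a ha := by
        subst ha_def
        exact chart_lower (u := u) hP hP' i.U i.hU i.U' i.hU' i.hle s s'
          (Y.basicOpen s) (i.hU.basicOpen s) (Y'.basicOpen s') (i.hU'.basicOpen s') hleW rfl rfl
          (Y.basicOpen_le s) i.hd i.f i.hf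
      obtain ⟨θ₂, hc₂, hr₂⟩ : ∃ θ₂ : Away (𝒮'.deg j.U' j.hU')
          (u.gradedAt j.U j.hU j.U' j.hU' j.hle j.f) →+*
          Away (𝒮'.deg (Y'.basicOpen s') (i.hU'.basicOpen s'))
            (u.gradedAt (Y.basicOpen s) (i.hU.basicOpen s) (Y'.basicOpen s')
              (i.hU'.basicOpen s') hleW b),
          Spec.map (CommRingCat.ofHom θ₂) ≫
            liftEmb u p' chart' j.U j.hU j.U' j.hU' j.hle j.hd j.f j.hf =
          liftEmb u p' chart' (Y.basicOpen s) (i.hU.basicOpen s) (Y'.basicOpen s')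
            (i.hU'.basicOpen s') hleW j.hd b hb ∧
          Spec.map (CommRingCat.ofHom θ₂) ≫
            rhsQ u p chart j.U j.hU j.U' j.hU' j.hle j.hd j.f j.hf =
          rhsQ u p chart (Y.basicOpen s) (i.hU.basicOpen s) (Y'.basicOpen s')
            (i.hU'.basicOpen s') hleW j.hd b hb := by
        subst hb_def
        exact chart_lower (u := u) hP hP' j.U j.hU j.U' j.hU' j.hle t t'
          (Y.basicOpen s) (i.hU.basicOpen s) (Y'.basicOpen s') (i.hU'.basicOpen s') hleW hst hst'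
          iWj j.hd j.f j.hf
      obtain ⟨θ₃, hc₃, hr₃⟩ := chart_mul (u := u) (p' := p') (chart' := chart') (p := p)
        (chart := chart) (Y.basicOpen s) (i.hU.basicOpen s) (Y'.basicOpen s')
        (i.hU'.basicOpen s') hleW i.hd a b (a * b) ha hb rfl
      obtain ⟨θ₄, hc₄, hr₄⟩ := chart_mul (u := u) (p' := p') (chart' := chart') (p := p)
        (chart := chart) (Y.basicOpen s) (i.hU.basicOpen s) (Y'.basicOpen s')
        (i.hU'.basicOpen s') hleW j.hd b a (a * b) hb ha (mul_comm a b)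
      have hdeg : j.d + i.d = i.d + j.d := add_comm _ _
      refine ⟨_, liftEmb u p' chart' (Y.basicOpen s) (i.hU.basicOpen s) (Y'.basicOpen s')
        (i.hU'.basicOpen s') hleW (i.hd.trans_le (i.d.le_add_right j.d)) (a * b)
        (SetLike.mul_mem_graded ha hb), inferInstance,
        Spec.map (CommRingCat.ofHom θ₃) ≫ Spec.map (CommRingCat.ofHom θ₁),
        Spec.map (CommRingCat.ofHom θ₄) ≫ Spec.map (CommRingCat.ofHom θ₂), ?_, ?_, ?_, ?_⟩
      · -- the point lies on the refined chart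
        have hxa := mem_range_lower (u := u) hP' i.U i.hU i.U' i.hU' i.hle s s'
          (Y.basicOpen s) (i.hU.basicOpen s) (Y'.basicOpen s') (i.hU'.basicOpen s') hleW rfl rfl
          (Y.basicOpen_le s) i.hd i.f i.hf x hxi hys'
        have hxb := mem_range_lower (u := u) hP' j.U j.hU j.U' j.hU' j.hle t t'
          (Y.basicOpen s) (i.hU.basicOpen s) (Y'.basicOpen s') (i.hU'.basicOpen s') hleW hst hst'
          iWj j.hd j.f j.hf x hxj hys'
        subst ha_def hb_def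
        exact mem_range_mul _ _ _ _ hleW i.hd j.hd _ _ ha hb x hxa hxb
      · rw [Category.assoc, hc₁, hc₃]
      · rw [Category.assoc, hc₂, hc₄]
        exact liftEmb_congr_deg _ _ _ _ hleW hdeg _ _ _ _ _
      · rw [Category.assoc, Category.assoc, hr₁, hr₂, hr₃, hr₄]
        exact (rhsQ_congr_deg _ _ _ _ hleW hdeg _ _ _ _ _).symm)
  refine ⟨r, ?_, ?_⟩
  · intro U hU U' hU' hle d hd f hf hW
    exact hr ⟨U, hU, U', hU', hle, d, hd, f, hf⟩
  · intro r' hr'
    refine huniq r' (fun i => ?_)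
    exact liftEmb_r hr' i.U i.hU i.U' i.hU' i.hle i.hd i.f i.hf

end Groth.Agent.Helper1.RP
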