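import Mathlib
import Groth.Prelude.Def_RelProj4
import Groth.Prelude.Def_RelSpec2
import Groth.Agent.Helper1.RP23
import Groth.Agent.Helper1.PC1

/-!
# Projective cones, part 2: the pointed projective cone and its canonical retraction
-/

set_option autoImplicit false
set_option linter.style.haveILetI false

namespace Groth.Agent.Helper1.PC

open CategoryTheory Limits AlgebraicGeometry TopologicalSpace Opposite RelProj RelCone
  HomogeneousLocalization Groth.Agent.Helper1.RP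
open scoped HomogeneousIdeal

universe u

noncomputable section

section general

variable {Y Y' : Scheme.{u}} {g : Y' ⟶ Y} {𝒮 : QCGrAlg Y} {𝒮' : QCGrAlg Y'}
  {u : QGrHom g 𝒮 𝒮'} {P' : Scheme.{u}} {p' : P' ⟶ Y'}
  {chart' : ∀ (U' : Y'.Opens) (hU' : IsAffineOpen U'),
    (((p' ⁻¹ᵁ U' : P'.Opens) : Scheme.{u}) ≅ Proj (𝒮'.deg U' hU'))}
  {P : Scheme.{u}} {p : P ⟶ Y}
  {chart : ∀ (U : Y.Opens) (hU : IsAffineOpen U),
    (((p ⁻¹ᵁ U : P.Opens) : Scheme.{u}) ≅ Proj (𝒮.deg U hU))}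

theorem existsUnique_projQMapOn_of_eq (hP : IsRelProj 𝒮 p chart) (hP' : IsRelProj 𝒮' p' chart')
    (W : P'.Opens) (hW : W = domQ u p' chart') :
    ∃! r : (W : Scheme.{u}) ⟶ P, IsProjQMapOn u p chart p' chart' W r := by
  subst hW
  exact existsUnique_projQMapOn hP hP'

theorem projQMapOn_comm_of_eq (hP : IsRelProj 𝒮 p chart) (hP' : IsRelProj 𝒮' p' chart')
    (W : P'.Opens) (hW : W = domQ u p' chart') {r : (W : Scheme.{u}) ⟶ P}
    (hr : IsProjQMapOn u p chart p' chart' W r) : r ≫ p = W.ι ≫ p' ≫ g := by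
  subst hW
  exact projQMapOn_comm hP hP' hr

theorem projQMapOn_of_away_of_eq (Q : MorphismProperty Scheme.{u}) [IsZariskiLocalAtTarget Q]
    (hP : IsRelProj 𝒮 p chart) (hP' : IsRelProj 𝒮' p' chart')
    (W : P'.Opens) (hW : W = domQ u p' chart') {r : (W : Scheme.{u}) ⟶ P}
    (hr : IsProjQMapOn u p chart p' chart' W r)
    (hg : ∀ (U : Y.Opens), IsAffineOpen U → IsAffineOpen (g ⁻¹ᵁ U))
    (hQ : ∀ (U : Y.Opens) (hU : IsAffineOpen U) (d : ℕ) (_ : 0 < d)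
      (f : 𝒮.presheaf.obj (op U)) (_ : f ∈ 𝒮.deg U hU d),
      Q (Spec.map (CommRingCat.ofHom
        (Away.map (u.gradedAt U hU (g ⁻¹ᵁ U) (hg U hU) le_rfl) f)))) : Q r := by
  subst hW
  exact projQMapOn_of_away Q hP hP' hr hg hQ

end general

section cone

variable {Y PC P : Scheme.{u}} {𝒮 𝒮h : QCGrAlg Y} {ι : 𝒮.toQCAlg ⟶ 𝒮h.toQCAlg}
  {z : 𝒮h.presheaf.obj (op ⊤)} (hz : IsPolyOver 𝒮 𝒮h ι z)
  {pC : PC ⟶ Y}
  {chartC : ∀ (U : Y.Opens) (hU : IsAffineOpen U),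
    (((pC ⁻¹ᵁ U : PC.Opens) : Scheme.{u}) ≅ Proj (𝒮h.deg U hU))}
  {p : P ⟶ Y}
  {chart : ∀ (U : Y.Opens) (hU : IsAffineOpen U),
    (((p ⁻¹ᵁ U : P.Opens) : Scheme.{u}) ≅ Proj (𝒮.deg U hU))}

theorem le_preimage_id (U : Y.Opens) : U ≤ (𝟙 Y : Y ⟶ Y) ⁻¹ᵁ U := le_rfl

theorem domOpen_congr {A σ : Type u} [CommRing A] [SetLike σ A] [AddSubgroupClass σ A]
    {𝒜 : ℕ → σ} [GradedRing 𝒜] {B τ : Type u} [CommRing B] [SetLike τ B] [AddSubgroupClass τ B]
    {ℬ : ℕ → τ} [GradedRing ℬ] {ψ ψ' : 𝒜 →+*ᵍ ℬ} (h : ψ = ψ') : domOpen ψ = domOpen ψ' := by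
  rw [h]

/-- the pointed projective cone is the open of definition of `Proj(ι)` -/
theorem pointedProjCone_eq_domQ (hPC : IsRelProj 𝒮h pC chartC) :
    pointedProjCone 𝒮 hz pC chartC = domQ (QGrHom.ofHom ι hz.graded) pC chartC := by
  have hpiece : ∀ (U : Y.Opens) (hU : IsAffineOpen U),
      (emb pC chartC U hU) ''ᵁ domOpen (gradedHomAt ι hz.graded U hU) =
        domPiece (QGrHom.ofHom ι hz.graded) pC chartC U hU U hU (le_preimage_id U) := by
    intro U hU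
    unfold domPiece
    rw [domOpen_congr (gradedAt_ofHom_self ι hz.graded U hU (le_preimage_id U))]
  apply le_antisymm
  · unfold pointedProjCone
    refine iSup_le fun U => ?_
    rw [hpiece U.1 U.2]
    exact domPiece_le_domQ _ _ _ _ _ _ _ _
  · intro x hx
    obtain ⟨_, ⟨U, hU, rfl⟩, hxU, -⟩ :=
      Y.isBasis_affineOpens.exists_subset_of_mem_open (Set.mem_univ (pC x)) isOpen_univ
    have h1 : x ∈ domQ (QGrHom.ofHom ι hz.graded) pC chartC ⊓ pC ⁻¹ᵁ U := ⟨hx, hxU⟩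
    rw [domQ_inf_preimage hPC U hU U hU (le_preimage_id U), ← hpiece U hU] at h1
    unfold pointedProjCone
    exact TopologicalSpace.Opens.mem_iSup.mpr ⟨⟨U, hU⟩, h1⟩

end cone

end

end Groth.Agent.Helper1.PC
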