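import Mathlib
import Groth.Agent.Helper1.RP23

/-!
# Commutative squares of graded morphisms and the induced morphisms of relative Proj's, part 1:
flexible chart equations
-/

set_option autoImplicit false
set_option linter.style.haveILetI false

namespace Groth.Agent.Helper1.SQ

open CategoryTheory Limits AlgebraicGeometry TopologicalSpace Opposite RelProj
  HomogeneousLocalization Groth.Agent.Helper1.RP
open scoped HomogeneousIdeal

universe u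

noncomputable section

section ring

variable {A σ B τ C υ : Type u} [CommRing A] [SetLike σ A] [AddSubgroupClass σ A]
  [CommRing B] [SetLike τ B] [AddSubgroupClass τ B]
  [CommRing C] [SetLike υ C] [AddSubgroupClass υ C]
  {𝒜 : ℕ → σ} {ℬ : ℕ → τ} {𝒞 : ℕ → υ} [GradedRing 𝒜] [GradedRing ℬ] [GradedRing 𝒞]

/-- `Away.map` with a flexible target element -/
def awayMapE (ψ : 𝒜 →+*ᵍ ℬ) {f : A} {b : B} (e : ψ f = b) : Away 𝒜 f →+* Away ℬ b :=
  HomogeneousLocalization.map ψ (by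
    rintro _ ⟨n, rfl⟩
    exact ⟨n, by simp [← e]⟩)

theorem awayMapE_rfl (ψ : 𝒜 →+*ᵍ ℬ) (f : A) : awayMapE ψ (rfl : ψ f = ψ f) = Away.map ψ f := rfl

theorem awayMapE_comp (ψ : 𝒜 →+*ᵍ ℬ) (χ : ℬ →+*ᵍ 𝒞) {f : A} {b : B} {c : C}
    (e₁ : ψ f = b) (e₂ : χ b = c) (e₃ : (χ.comp ψ) f = c) :
    (awayMapE χ e₂).comp (awayMapE ψ e₁) = awayMapE (χ.comp ψ) e₃ := by
  subst e₁ e₂
  exact (HomogeneousLocalization.map_comp _ _).symm

theorem awayMapE_congr {ψ ψ' : 𝒜 →+*ᵍ ℬ} (h : ψ = ψ') {f : A} {b : B}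
    (e : ψ f = b) (e' : ψ' f = b) : awayMapE ψ e = awayMapE ψ' e' := by
  subst h
  rfl

end ring

section chart

variable {Y Y' : Scheme.{u}} {g : Y' ⟶ Y} {𝒮 : QCGrAlg Y} {𝒮' : QCGrAlg Y'}
  {u : QGrHom g 𝒮 𝒮'} {P' : Scheme.{u}} {p' : P' ⟶ Y'}
  {chart' : ∀ (U' : Y'.Opens) (hU' : IsAffineOpen U'),
    (((p' ⁻¹ᵁ U' : P'.Opens) : Scheme.{u}) ≅ Proj (𝒮'.deg U' hU'))}
  {P : Scheme.{u}} {p : P ⟶ Y}
  {chart : ∀ (U : Y.Opens) (hU : IsAffineOpen U),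
    (((p ⁻¹ᵁ U : P.Opens) : Scheme.{u}) ≅ Proj (𝒮.deg U hU))}

/-- the chart `D_+(b)`, `b = u f`, lies in `G(u)` -/
theorem range_flex_subset (U : Y.Opens) (hU : IsAffineOpen U) (U' : Y'.Opens)
    (hU' : IsAffineOpen U') (hle : U' ≤ g ⁻¹ᵁ U) {d : ℕ} (hd : 0 < d)
    (f : 𝒮.presheaf.obj (op U)) (hf : f ∈ 𝒮.deg U hU d)
    (b : 𝒮'.presheaf.obj (op U')) (e : u.gradedAt U hU U' hU' hle f = b)
    (hb : b ∈ 𝒮'.deg U' hU' d) :
    Set.range (Proj.awayι (𝒮'.deg U' hU') b hb hd ≫ emb p' chart' U' hU') ⊆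
      Set.range (domQ u p' chart').ι := by
  subst e
  exact range_awayEmb_subset_domQ u p' chart' U hU U' hU' hle hd f hf

/-- the flexible chart equation of `Proj(u)` -/
theorem flex_chart {r : ((domQ u p' chart' : P'.Opens) : Scheme.{u}) ⟶ P}
    (hr : IsProjQMapOn u p chart p' chart' (domQ u p' chart') r)
    (U : Y.Opens) (hU : IsAffineOpen U) (U' : Y'.Opens)
    (hU' : IsAffineOpen U') (hle : U' ≤ g ⁻¹ᵁ U) {d : ℕ} (hd : 0 < d)
    (f : 𝒮.presheaf.obj (op U)) (hf : f ∈ 𝒮.deg U hU d)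
    (b : 𝒮'.presheaf.obj (op U')) (e : u.gradedAt U hU U' hU' hle f = b)
    (hb : b ∈ 𝒮'.deg U' hU' d)
    (c : Spec (CommRingCat.of (Away (𝒮'.deg U' hU') b)) ⟶
      ((domQ u p' chart' : P'.Opens) : Scheme.{u}))
    (hc : c ≫ (domQ u p' chart').ι =
      Proj.awayι (𝒮'.deg U' hU') b hb hd ≫ emb p' chart' U' hU') :
    c ≫ r = Spec.map (CommRingCat.ofHom (awayMapE (u.gradedAt U hU U' hU' hle) e)) ≫
      Proj.awayι (𝒮.deg U hU) f hf hd ≫ emb p chart U hU := by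
  subst e
  have h1 : c = liftEmb u p' chart' U hU U' hU' hle hd f hf := by
    rw [← cancel_mono (domQ u p' chart').ι, hc, liftEmb_ι]
    rfl
  rw [h1, liftEmb_r hr]
  rfl

end chart

end

end Groth.Agent.Helper1.SQ
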