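import Mathlib
import Groth.Agent.Helper1.SQ1

/-!
# Commutative squares of graded morphisms and the induced morphisms of relative Proj's, part 2
-/

set_option autoImplicit false
set_option linter.style.haveILetI false

namespace Groth.Agent.Helper1.SQ

open CategoryTheory Limits AlgebraicGeometry TopologicalSpace Opposite RelProj
  HomogeneousLocalization Groth.Agent.Helper1.RP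
open scoped HomogeneousIdeal

universe u

noncomputable section

theorem exists_affine_le {Y : Scheme.{u}} (y : Y) (W : Y.Opens) (hy : y ∈ W) :
    ∃ (U : Y.Opens) (_ : IsAffineOpen U), y ∈ U ∧ U ≤ W := by
  obtain ⟨_, ⟨U, hU, rfl⟩, hyU, hle⟩ :=
    Y.isBasis_affineOpens.exists_subset_of_mem_open (show y ∈ (W : Set Y) from hy) W.isOpen
  exact ⟨U, hU, hyU, hle⟩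

variable {Y₁ Y₂ Y₃ Y₄ : Scheme.{u}} {g₁₂ : Y₂ ⟶ Y₁} {g₁₃ : Y₃ ⟶ Y₁} {g₂₄ : Y₄ ⟶ Y₂}
  {g₃₄ : Y₄ ⟶ Y₃}
  {𝒮₁ : QCGrAlg Y₁} {𝒮₂ : QCGrAlg Y₂} {𝒮₃ : QCGrAlg Y₃} {𝒮₄ : QCGrAlg Y₄}
  (u₁₂ : QGrHom g₁₂ 𝒮₁ 𝒮₂) (u₁₃ : QGrHom g₁₃ 𝒮₁ 𝒮₃) (u₂₄ : QGrHom g₂₄ 𝒮₂ 𝒮₄)
  (u₃₄ : QGrHom g₃₄ 𝒮₃ 𝒮₄)

/-- the square of graded morphisms commutes (on affine quadruples) -/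
def IsSq : Prop :=
  ∀ (U₁ : Y₁.Opens) (hU₁ : IsAffineOpen U₁) (U₂ : Y₂.Opens) (hU₂ : IsAffineOpen U₂)
    (U₃ : Y₃.Opens) (hU₃ : IsAffineOpen U₃) (U₄ : Y₄.Opens) (hU₄ : IsAffineOpen U₄)
    (h12 : U₂ ≤ g₁₂ ⁻¹ᵁ U₁) (h13 : U₃ ≤ g₁₃ ⁻¹ᵁ U₁) (h24 : U₄ ≤ g₂₄ ⁻¹ᵁ U₂)
    (h34 : U₄ ≤ g₃₄ ⁻¹ᵁ U₃) (x : 𝒮₁.presheaf.obj (op U₁)),
    u₂₄.gradedAt U₂ hU₂ U₄ hU₄ h24 (u₁₂.gradedAt U₁ hU₁ U₂ hU₂ h12 x) =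
      u₃₄.gradedAt U₃ hU₃ U₄ hU₄ h34 (u₁₃.gradedAt U₁ hU₁ U₃ hU₃ h13 x)

variable {u₁₂ u₁₃ u₂₄ u₃₄}
  {P₁ P₂ P₃ P₄ : Scheme.{u}} {p₁ : P₁ ⟶ Y₁} {p₂ : P₂ ⟶ Y₂} {p₃ : P₃ ⟶ Y₃} {p₄ : P₄ ⟶ Y₄}
  {chart₁ : ∀ (U : Y₁.Opens) (hU : IsAffineOpen U),
    (((p₁ ⁻¹ᵁ U : P₁.Opens) : Scheme.{u}) ≅ Proj (𝒮₁.deg U hU))}
  {chart₂ : ∀ (U : Y₂.Opens) (hU : IsAffineOpen U),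
    (((p₂ ⁻¹ᵁ U : P₂.Opens) : Scheme.{u}) ≅ Proj (𝒮₂.deg U hU))}
  {chart₃ : ∀ (U : Y₃.Opens) (hU : IsAffineOpen U),
    (((p₃ ⁻¹ᵁ U : P₃.Opens) : Scheme.{u}) ≅ Proj (𝒮₃.deg U hU))}
  {chart₄ : ∀ (U : Y₄.Opens) (hU : IsAffineOpen U),
    (((p₄ ⁻¹ᵁ U : P₄.Opens) : Scheme.{u}) ≅ Proj (𝒮₄.deg U hU))}

/-- a point of `G(u₂₄)` whose image lies in `G(u₁₂)` is on a chart adapted to the square -/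
theorem exists_adapted (hg : g₂₄ ≫ g₁₂ = g₃₄ ≫ g₁₃)
    (hP₂ : IsRelProj 𝒮₂ p₂ chart₂) (hP₄ : IsRelProj 𝒮₄ p₄ chart₄)
    {r₂₄ : ((domQ u₂₄ p₄ chart₄ : P₄.Opens) : Scheme.{u}) ⟶ P₂}
    (hr₂₄ : IsProjQMapOn u₂₄ p₂ chart₂ p₄ chart₄ (domQ u₂₄ p₄ chart₄) r₂₄)
    (x₄ : ((domQ u₂₄ p₄ chart₄ : P₄.Opens) : Scheme.{u}))
    (x₂ : ((domQ u₁₂ p₂ chart₂ : P₂.Opens) : Scheme.{u}))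
    (hx : r₂₄ x₄ = (domQ u₁₂ p₂ chart₂).ι x₂) :
    ∃ (U₁ : Y₁.Opens) (hU₁ : IsAffineOpen U₁) (U₂ : Y₂.Opens) (hU₂ : IsAffineOpen U₂)
      (U₃ : Y₃.Opens) (hU₃ : IsAffineOpen U₃) (U₄ : Y₄.Opens) (hU₄ : IsAffineOpen U₄)
      (h12 : U₂ ≤ g₁₂ ⁻¹ᵁ U₁) (_ : U₃ ≤ g₁₃ ⁻¹ᵁ U₁) (h24 : U₄ ≤ g₂₄ ⁻¹ᵁ U₂)
      (_ : U₄ ≤ g₃₄ ⁻¹ᵁ U₃) (d : ℕ) (hd : 0 < d) (f₁ : 𝒮₁.presheaf.obj (op U₁))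
      (hf₁ : f₁ ∈ 𝒮₁.deg U₁ hU₁ d),
      x₄ ∈ (liftEmb u₂₄ p₄ chart₄ U₂ hU₂ U₄ hU₄ h24 hd (u₁₂.gradedAt U₁ hU₁ U₂ hU₂ h12 f₁)
        ((u₁₂.gradedAt U₁ hU₁ U₂ hU₂ h12).map_mem hf₁)).opensRange := by
  set y₄ : Y₄ := p₄ ((domQ u₂₄ p₄ chart₄).ι x₄) with hy₄
  have hcomm := projQMapOn_comm hP₂ hP₄ hr₂₄
  have h2 : p₂ ((domQ u₁₂ p₂ chart₂).ι x₂) = g₂₄ y₄ := by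
    rw [← hx]
    exact congrArg (fun t : _ ⟶ Y₂ => t x₄) hcomm
  have h1 : g₁₂ (g₂₄ y₄) = g₁₃ (g₃₄ y₄) := congrArg (fun t : Y₄ ⟶ Y₁ => t y₄) hg
  obtain ⟨U₁, hU₁, hy₁, -⟩ := exists_affine_le (g₁₂ (g₂₄ y₄)) ⊤ trivial
  obtain ⟨U₂, hU₂, hy₂, h12⟩ := exists_affine_le (g₂₄ y₄) (g₁₂ ⁻¹ᵁ U₁) hy₁
  obtain ⟨U₃, hU₃, hy₃, h13⟩ := exists_affine_le (g₃₄ y₄) (g₁₃ ⁻¹ᵁ U₁) (by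
    show g₁₃ (g₃₄ y₄) ∈ U₁
    rw [← h1]; exact hy₁)
  obtain ⟨U₄, hU₄, hy₄', h4⟩ := exists_affine_le y₄ (g₂₄ ⁻¹ᵁ U₂ ⊓ g₃₄ ⁻¹ᵁ U₃) ⟨hy₂, hy₃⟩
  have h24 : U₄ ≤ g₂₄ ⁻¹ᵁ U₂ := h4.trans inf_le_left
  have h34 : U₄ ≤ g₃₄ ⁻¹ᵁ U₃ := h4.trans inf_le_right
  obtain ⟨d, hd, f₁, hf₁, y, hy⟩ := exists_liftEmb hP₂ U₁ hU₁ U₂ hU₂ h12 x₂ (by rw [h2]; exact hy₂)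
  refine ⟨U₁, hU₁, U₂, hU₂, U₃, hU₃, U₄, hU₄, h12, h13, h24, h34, d, hd, f₁, hf₁, ?_⟩
  rw [← projQMapOn_preimage hP₄ hr₂₄ U₂ hU₂ U₄ hU₄ h24 hd]
  refine ⟨?_, hy₄'⟩
  refine ⟨y, ?_⟩
  rw [hx, ← hy, liftEmb_apply_ι]
  rfl

end

end Groth.Agent.Helper1.SQ
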