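import Mathlib
import Groth.Agent.Helper1.SQ2

/-!
# Commutative squares of graded morphisms and the induced morphisms of relative Proj's, part 3
-/

set_option autoImplicit false
set_option linter.style.haveILetI false

namespace Groth.Agent.Helper1.SQ

open CategoryTheory Limits AlgebraicGeometry TopologicalSpace Opposite RelProj
  HomogeneousLocalization Groth.Agent.Helper1.RP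
open scoped HomogeneousIdeal

universe u

noncomputable section

variable {Y₁ Y₂ Y₃ Y₄ : Scheme.{u}} {g₁₂ : Y₂ ⟶ Y₁} {g₁₃ : Y₃ ⟶ Y₁} {g₂₄ : Y₄ ⟶ Y₂}
  {g₃₄ : Y₄ ⟶ Y₃}
  {𝒮₁ : QCGrAlg Y₁} {𝒮₂ : QCGrAlg Y₂} {𝒮₃ : QCGrAlg Y₃} {𝒮₄ : QCGrAlg Y₄}
  {u₁₂ : QGrHom g₁₂ 𝒮₁ 𝒮₂} {u₁₃ : QGrHom g₁₃ 𝒮₁ 𝒮₃} {u₂₄ : QGrHom g₂₄ 𝒮₂ 𝒮₄}
  {u₃₄ : QGrHom g₃₄ 𝒮₃ 𝒮₄}
  {P₁ P₂ P₃ P₄ : Scheme.{u}} {p₁ : P₁ ⟶ Y₁} {p₂ : P₂ ⟶ Y₂} {p₃ : P₃ ⟶ Y₃} {p₄ : P₄ ⟶ Y₄}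
  {chart₁ : ∀ (U : Y₁.Opens) (hU : IsAffineOpen U),
    (((p₁ ⁻¹ᵁ U : P₁.Opens) : Scheme.{u}) ≅ Proj (𝒮₁.deg U hU))}
  {chart₂ : ∀ (U : Y₂.Opens) (hU : IsAffineOpen U),
    (((p₂ ⁻¹ᵁ U : P₂.Opens) : Scheme.{u}) ≅ Proj (𝒮₂.deg U hU))}
  {chart₃ : ∀ (U : Y₃.Opens) (hU : IsAffineOpen U),
    (((p₃ ⁻¹ᵁ U : P₃.Opens) : Scheme.{u}) ≅ Proj (𝒮₃.deg U hU))}
  {chart₄ : ∀ (U : Y₄.Opens) (hU : IsAffineOpen U),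
    (((p₄ ⁻¹ᵁ U : P₄.Opens) : Scheme.{u}) ≅ Proj (𝒮₄.deg U hU))}

/-- a point of `G(u₂₄)` mapped into `G(u₁₂)` lies in `G(u₃₄)` -/
theorem mem_domQ_of_sq (hsq : IsSq u₁₂ u₁₃ u₂₄ u₃₄) (hg : g₂₄ ≫ g₁₂ = g₃₄ ≫ g₁₃)
    (hP₂ : IsRelProj 𝒮₂ p₂ chart₂) (hP₄ : IsRelProj 𝒮₄ p₄ chart₄)
    {r₂₄ : ((domQ u₂₄ p₄ chart₄ : P₄.Opens) : Scheme.{u}) ⟶ P₂}
    (hr₂₄ : IsProjQMapOn u₂₄ p₂ chart₂ p₄ chart₄ (domQ u₂₄ p₄ chart₄) r₂₄)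
    (x₄ : ((domQ u₂₄ p₄ chart₄ : P₄.Opens) : Scheme.{u}))
    (hx : r₂₄ x₄ ∈ domQ u₁₂ p₂ chart₂) :
    (domQ u₂₄ p₄ chart₄).ι x₄ ∈ domQ u₃₄ p₄ chart₄ := by
  obtain ⟨U₁, hU₁, U₂, hU₂, U₃, hU₃, U₄, hU₄, h12, h13, h24, h34, d, hd, f₁, hf₁, y, hy⟩ :=
    exists_adapted hg hP₂ hP₄ hr₂₄ x₄ ⟨r₂₄ x₄, hx⟩ rfl
  have e := (hsq U₁ hU₁ U₂ hU₂ U₃ hU₃ U₄ hU₄ h12 h13 h24 h34 f₁).symm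
  have h1 := range_flex_subset (u := u₃₄) (p' := p₄) (chart' := chart₄) U₃ hU₃ U₄ hU₄ h34 hd
    (u₁₃.gradedAt U₁ hU₁ U₃ hU₃ h13 f₁) ((u₁₃.gradedAt U₁ hU₁ U₃ hU₃ h13).map_mem hf₁) _ e
    ((u₂₄.gradedAt U₂ hU₂ U₄ hU₄ h24).map_mem ((u₁₂.gradedAt U₁ hU₁ U₂ hU₂ h12).map_mem hf₁))
  rw [Scheme.Opens.range_ι] at h1
  apply h1
  refine ⟨y, ?_⟩
  rw [← hy, liftEmb_apply_ι]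
  rfl

/-- and its image under `r₃₄` lies in `G(u₁₃)` -/
theorem map_mem_domQ_of_sq (hsq : IsSq u₁₂ u₁₃ u₂₄ u₃₄) (hg : g₂₄ ≫ g₁₂ = g₃₄ ≫ g₁₃)
    (hP₂ : IsRelProj 𝒮₂ p₂ chart₂) (hP₄ : IsRelProj 𝒮₄ p₄ chart₄)
    {r₂₄ : ((domQ u₂₄ p₄ chart₄ : P₄.Opens) : Scheme.{u}) ⟶ P₂}
    (hr₂₄ : IsProjQMapOn u₂₄ p₂ chart₂ p₄ chart₄ (domQ u₂₄ p₄ chart₄) r₂₄)
    {r₃₄ : ((domQ u₃₄ p₄ chart₄ : P₄.Opens) : Scheme.{u}) ⟶ P₃}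
    (hr₃₄ : IsProjQMapOn u₃₄ p₃ chart₃ p₄ chart₄ (domQ u₃₄ p₄ chart₄) r₃₄)
    (x₄ : ((domQ u₂₄ p₄ chart₄ : P₄.Opens) : Scheme.{u}))
    (hx : r₂₄ x₄ ∈ domQ u₁₂ p₂ chart₂)
    (x₃₄ : ((domQ u₃₄ p₄ chart₄ : P₄.Opens) : Scheme.{u}))
    (hx' : (domQ u₃₄ p₄ chart₄).ι x₃₄ = (domQ u₂₄ p₄ chart₄).ι x₄) :
    r₃₄ x₃₄ ∈ domQ u₁₃ p₃ chart₃ := by
  obtain ⟨U₁, hU₁, U₂, hU₂, U₃, hU₃, U₄, hU₄, h12, h13, h24, h34, d, hd, f₁, hf₁, y, hy⟩ :=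
    exists_adapted hg hP₂ hP₄ hr₂₄ x₄ ⟨r₂₄ x₄, hx⟩ rfl
  have e := (hsq U₁ hU₁ U₂ hU₂ U₃ hU₃ U₄ hU₄ h12 h13 h24 h34 f₁).symm
  have hb := ((u₂₄.gradedAt U₂ hU₂ U₄ hU₄ h24).map_mem
    ((u₁₂.gradedAt U₁ hU₁ U₂ hU₂ h12).map_mem hf₁))
  have h1 := range_flex_subset (u := u₃₄) (p' := p₄) (chart' := chart₄) U₃ hU₃ U₄ hU₄ h34 hd
    (u₁₃.gradedAt U₁ hU₁ U₃ hU₃ h13 f₁) ((u₁₃.gradedAt U₁ hU₁ U₃ hU₃ h13).map_mem hf₁) _ e hb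
  have hc := IsOpenImmersion.lift_fac (domQ u₃₄ p₄ chart₄).ι _ h1
  have h2 := flex_chart hr₃₄ U₃ hU₃ U₄ hU₄ h34 hd
    (u₁₃.gradedAt U₁ hU₁ U₃ hU₃ h13 f₁) ((u₁₃.gradedAt U₁ hU₁ U₃ hU₃ h13).map_mem hf₁) _ e hb
    _ hc
  have h3 : x₃₄ = (IsOpenImmersion.lift (domQ u₃₄ p₄ chart₄).ι _ h1) y := by
    apply (domQ u₃₄ p₄ chart₄).ι.injective
    rw [hx', ← hy, liftEmb_apply_ι]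
    exact (congrArg (fun t : _ ⟶ P₄ => t y) hc).symm
  have h4 := congrArg (fun t : _ ⟶ P₃ => t y) h2
  have h5 := range_awayEmb_subset_domQ u₁₃ p₃ chart₃ U₁ hU₁ U₃ hU₃ h13 hd f₁ hf₁
  rw [Scheme.Opens.range_ι] at h5
  apply h5
  refine ⟨(Spec.map (CommRingCat.ofHom (awayMapE (u₃₄.gradedAt U₃ hU₃ U₄ hU₄ h34) e))) y, ?_⟩
  rw [h3]
  exact h4.symm

end

end Groth.Agent.Helper1.SQ
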