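import Mathlib
import Groth.Agent.Helper1.SQ3

/-!
# Commutative squares of graded morphisms and the induced morphisms of relative Proj's, part 4:
the induced square of morphisms commutes
-/

set_option autoImplicit false
set_option linter.style.haveILetI false

namespace Groth.Agent.Helper1.SQ

open CategoryTheory Limits AlgebraicGeometry TopologicalSpace Opposite RelProj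
  HomogeneousLocalization Groth.Agent.Helper1.RP
open scoped HomogeneousIdeal

universe u

noncomputable section

variable {Y₁ Y₂ Y₃ Y₄ : Scheme.{u}} {g₁₂ : Y₂ ⟶ Y₁} {g₁₃ : Y₃ ⟶ Y₁} {g₂₄ : Y₄ ⟶ Y₂}
  {g₃₄ : Y₄ ⟶ Y₃}
  {𝒮₁ : QCGrAlg Y₁} {𝒮₂ : QCGrAlg Y₂} {𝒮₃ : QCGrAlg Y₃} {𝒮₄ : QCGrAlg Y₄}
  {u₁₂ : QGrHom g₁₂ 𝒮₁ 𝒮₂} {u₁₃ : QGrHom g₁₃ 𝒮₁ 𝒮₃} {u₂₄ : QGrHom g₂₄ 𝒮₂ 𝒮₄}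
  {u₃₄ : QGrHom g₃₄ 𝒮₃ 𝒮₄}
  {P₁ P₂ P₃ P₄ : Scheme.{u}} {p₁ : P₁ ⟶ Y₁} {p₂ : P₂ ⟶ Y₂} {p₃ : P₃ ⟶ Y₃} {p₄ : P₄ ⟶ Y₄}
  {chart₁ : ∀ (U : Y₁.Opens) (hU : IsAffineOpen U),
    (((p₁ ⁻¹ᵁ U : P₁.Opens) : Scheme.{u}) ≅ Proj (𝒮₁.deg U hU))}
  {chart₂ : ∀ (U : Y₂.Opens) (hU : IsAffineOpen U),
    (((p₂ ⁻¹ᵁ U : P₂.Opens) : Scheme.{u}) ≅ Proj (𝒮₂.deg U hU))}
  {chart₃ : ∀ (U : Y₃.Opens) (hU : IsAffineOpen U),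
    (((p₃ ⁻¹ᵁ U : P₃.Opens) : Scheme.{u}) ≅ Proj (𝒮₃.deg U hU))}
  {chart₄ : ∀ (U : Y₄.Opens) (hU : IsAffineOpen U),
    (((p₄ ⁻¹ᵁ U : P₄.Opens) : Scheme.{u}) ≅ Proj (𝒮₄.deg U hU))}

/-- the core computation on an adapted chart -/
theorem core_comm (hsq : IsSq u₁₂ u₁₃ u₂₄ u₃₄)
    {r₁₂ : ((domQ u₁₂ p₂ chart₂ : P₂.Opens) : Scheme.{u}) ⟶ P₁}
    (hr₁₂ : IsProjQMapOn u₁₂ p₁ chart₁ p₂ chart₂ (domQ u₁₂ p₂ chart₂) r₁₂)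
    {r₁₃ : ((domQ u₁₃ p₃ chart₃ : P₃.Opens) : Scheme.{u}) ⟶ P₁}
    (hr₁₃ : IsProjQMapOn u₁₃ p₁ chart₁ p₃ chart₃ (domQ u₁₃ p₃ chart₃) r₁₃)
    (U₁ : Y₁.Opens) (hU₁ : IsAffineOpen U₁) (U₂ : Y₂.Opens) (hU₂ : IsAffineOpen U₂)
    (U₃ : Y₃.Opens) (hU₃ : IsAffineOpen U₃) (U₄ : Y₄.Opens) (hU₄ : IsAffineOpen U₄)
    (h12 : U₂ ≤ g₁₂ ⁻¹ᵁ U₁) (h13 : U₃ ≤ g₁₃ ⁻¹ᵁ U₁) (h24 : U₄ ≤ g₂₄ ⁻¹ᵁ U₂)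
    (h34 : U₄ ≤ g₃₄ ⁻¹ᵁ U₃) {d : ℕ} (hd : 0 < d) (f₁ : 𝒮₁.presheaf.obj (op U₁))
    (hf₁ : f₁ ∈ 𝒮₁.deg U₁ hU₁ d)
    (e : u₃₄.gradedAt U₃ hU₃ U₄ hU₄ h34 (u₁₃.gradedAt U₁ hU₁ U₃ hU₃ h13 f₁) =
      u₂₄.gradedAt U₂ hU₂ U₄ hU₄ h24 (u₁₂.gradedAt U₁ hU₁ U₂ hU₂ h12 f₁)) :
    Spec.map (CommRingCat.ofHom (Away.map (u₂₄.gradedAt U₂ hU₂ U₄ hU₄ h24)
        (u₁₂.gradedAt U₁ hU₁ U₂ hU₂ h12 f₁))) ≫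
      liftEmb u₁₂ p₂ chart₂ U₁ hU₁ U₂ hU₂ h12 hd f₁ hf₁ ≫ r₁₂ =
    Spec.map (CommRingCat.ofHom (awayMapE (u₃₄.gradedAt U₃ hU₃ U₄ hU₄ h34) e)) ≫
      liftEmb u₁₃ p₃ chart₃ U₁ hU₁ U₃ hU₃ h13 hd f₁ hf₁ ≫ r₁₃ := by
  rw [liftEmb_r hr₁₂, liftEmb_r hr₁₃, ← Spec.map_comp_assoc, ← Spec.map_comp_assoc,
    ← CommRingCat.ofHom_comp, ← CommRingCat.ofHom_comp]
  have h1 : (Away.map (u₂₄.gradedAt U₂ hU₂ U₄ hU₄ h24)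
      (u₁₂.gradedAt U₁ hU₁ U₂ hU₂ h12 f₁)).comp (Away.map (u₁₂.gradedAt U₁ hU₁ U₂ hU₂ h12) f₁) =
      awayMapE ((u₂₄.gradedAt U₂ hU₂ U₄ hU₄ h24).comp (u₁₂.gradedAt U₁ hU₁ U₂ hU₂ h12))
        (rfl : _ = u₂₄.gradedAt U₂ hU₂ U₄ hU₄ h24 (u₁₂.gradedAt U₁ hU₁ U₂ hU₂ h12 f₁)) :=
    awayMapE_comp (u₁₂.gradedAt U₁ hU₁ U₂ hU₂ h12) (u₂₄.gradedAt U₂ hU₂ U₄ hU₄ h24) rfl rfl rfl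
  have h2 : (awayMapE (u₃₄.gradedAt U₃ hU₃ U₄ hU₄ h34) e).comp
      (Away.map (u₁₃.gradedAt U₁ hU₁ U₃ hU₃ h13) f₁) =
      awayMapE ((u₃₄.gradedAt U₃ hU₃ U₄ hU₄ h34).comp (u₁₃.gradedAt U₁ hU₁ U₃ hU₃ h13)) e :=
    awayMapE_comp (u₁₃.gradedAt U₁ hU₁ U₃ hU₃ h13) (u₃₄.gradedAt U₃ hU₃ U₄ hU₄ h34) rfl e e
  have h3 : (u₂₄.gradedAt U₂ hU₂ U₄ hU₄ h24).comp (u₁₂.gradedAt U₁ hU₁ U₂ hU₂ h12) =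
      (u₃₄.gradedAt U₃ hU₃ U₄ hU₄ h34).comp (u₁₃.gradedAt U₁ hU₁ U₃ hU₃ h13) :=
    GradedRingHom.ext (hsq U₁ hU₁ U₂ hU₂ U₃ hU₃ U₄ hU₄ h12 h13 h24 h34)
  rw [h1, h2]
  exact congrArg (fun κ => Spec.map (CommRingCat.ofHom κ) ≫
    Proj.awayι (𝒮₁.deg U₁ hU₁) f₁ hf₁ hd ≫ emb p₁ chart₁ U₁ hU₁) (awayMapE_congr h3 _ _)

/-- **the square of induced morphisms commutes** (on `T`-valued points) -/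
theorem comm_of_sq (hsq : IsSq u₁₂ u₁₃ u₂₄ u₃₄) (hg : g₂₄ ≫ g₁₂ = g₃₄ ≫ g₁₃)
    (hP₂ : IsRelProj 𝒮₂ p₂ chart₂) (hP₄ : IsRelProj 𝒮₄ p₄ chart₄)
    {r₁₂ : ((domQ u₁₂ p₂ chart₂ : P₂.Opens) : Scheme.{u}) ⟶ P₁}
    (hr₁₂ : IsProjQMapOn u₁₂ p₁ chart₁ p₂ chart₂ (domQ u₁₂ p₂ chart₂) r₁₂)
    {r₁₃ : ((domQ u₁₃ p₃ chart₃ : P₃.Opens) : Scheme.{u}) ⟶ P₁}
    (hr₁₃ : IsProjQMapOn u₁₃ p₁ chart₁ p₃ chart₃ (domQ u₁₃ p₃ chart₃) r₁₃)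
    {r₂₄ : ((domQ u₂₄ p₄ chart₄ : P₄.Opens) : Scheme.{u}) ⟶ P₂}
    (hr₂₄ : IsProjQMapOn u₂₄ p₂ chart₂ p₄ chart₄ (domQ u₂₄ p₄ chart₄) r₂₄)
    {r₃₄ : ((domQ u₃₄ p₄ chart₄ : P₄.Opens) : Scheme.{u}) ⟶ P₃}
    (hr₃₄ : IsProjQMapOn u₃₄ p₃ chart₃ p₄ chart₄ (domQ u₃₄ p₄ chart₄) r₃₄)
    {T : Scheme.{u}} (t₂ : T ⟶ ((domQ u₂₄ p₄ chart₄ : P₄.Opens) : Scheme.{u}))
    (t₃ : T ⟶ ((domQ u₃₄ p₄ chart₄ : P₄.Opens) : Scheme.{u}))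
    (ht : t₂ ≫ (domQ u₂₄ p₄ chart₄).ι = t₃ ≫ (domQ u₃₄ p₄ chart₄).ι)
    (s₂ : T ⟶ ((domQ u₁₂ p₂ chart₂ : P₂.Opens) : Scheme.{u}))
    (hs₂ : t₂ ≫ r₂₄ = s₂ ≫ (domQ u₁₂ p₂ chart₂).ι)
    (s₃ : T ⟶ ((domQ u₁₃ p₃ chart₃ : P₃.Opens) : Scheme.{u}))
    (hs₃ : t₃ ≫ r₃₄ = s₃ ≫ (domQ u₁₃ p₃ chart₃).ι) :
    s₂ ≫ r₁₂ = s₃ ≫ r₁₃ := by
  apply hom_ext_of_charts
  intro t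
  have hx : r₂₄ (t₂ t) = (domQ u₁₂ p₂ chart₂).ι (s₂ t) :=
    congrArg (fun a : T ⟶ P₂ => a t) hs₂
  obtain ⟨U₁, hU₁, U₂, hU₂, U₃, hU₃, U₄, hU₄, h12, h13, h24, h34, d, hd, f₁, hf₁, hmem⟩ :=
    exists_adapted hg hP₂ hP₄ hr₂₄ (t₂ t) (s₂ t) hx
  have e := (hsq U₁ hU₁ U₂ hU₂ U₃ hU₃ U₄ hU₄ h12 h13 h24 h34 f₁).symm
  have hf₂ := (u₁₂.gradedAt U₁ hU₁ U₂ hU₂ h12).map_mem hf₁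
  have hf₃ := (u₁₃.gradedAt U₁ hU₁ U₃ hU₃ h13).map_mem hf₁
  have hb := (u₂₄.gradedAt U₂ hU₂ U₄ hU₄ h24).map_mem hf₂
  -- the open neighbourhood of `t`
  let V : T.Opens := t₂ ⁻¹ᵁ (liftEmb u₂₄ p₄ chart₄ U₂ hU₂ U₄ hU₄ h24 hd
    (u₁₂.gradedAt U₁ hU₁ U₂ hU₂ h12 f₁) hf₂).opensRange
  have hV : Set.range (V.ι ≫ t₂) ⊆ Set.range (liftEmb u₂₄ p₄ chart₄ U₂ hU₂ U₄ hU₄ h24 hd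
      (u₁₂.gradedAt U₁ hU₁ U₂ hU₂ h12 f₁) hf₂) := by
    rintro _ ⟨v, rfl⟩
    exact v.2
  refine ⟨V, V.ι, inferInstance, ?_, ?_⟩
  · rw [Scheme.Opens.range_ι]
    exact hmem
  have hτ := IsOpenImmersion.lift_fac (liftEmb u₂₄ p₄ chart₄ U₂ hU₂ U₄ hU₄ h24 hd
      (u₁₂.gradedAt U₁ hU₁ U₂ hU₂ h12 f₁) hf₂) (V.ι ≫ t₂) hV
  set τ := IsOpenImmersion.lift (liftEmb u₂₄ p₄ chart₄ U₂ hU₂ U₄ hU₄ h24 hd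
      (u₁₂.gradedAt U₁ hU₁ U₂ hU₂ h12 f₁) hf₂) (V.ι ≫ t₂) hV with hτ_def
  -- factor `s₂`
  have hB : V.ι ≫ s₂ = τ ≫ Spec.map (CommRingCat.ofHom (Away.map (u₂₄.gradedAt U₂ hU₂ U₄ hU₄ h24)
      (u₁₂.gradedAt U₁ hU₁ U₂ hU₂ h12 f₁))) ≫
      liftEmb u₁₂ p₂ chart₂ U₁ hU₁ U₂ hU₂ h12 hd f₁ hf₁ := by
    rw [← cancel_mono (domQ u₁₂ p₂ chart₂).ι, Category.assoc, ← hs₂, ← Category.assoc, ← hτ,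
      Category.assoc, liftEmb_r hr₂₄, Category.assoc, Category.assoc, liftEmb_ι]
    rfl
  -- factor `t₃` and `s₃`
  have h1 := range_flex_subset (u := u₃₄) (p' := p₄) (chart' := chart₄) U₃ hU₃ U₄ hU₄ h34 hd
    (u₁₃.gradedAt U₁ hU₁ U₃ hU₃ h13 f₁) hf₃ _ e hb
  have hc := IsOpenImmersion.lift_fac (domQ u₃₄ p₄ chart₄).ι _ h1
  have h2 := flex_chart hr₃₄ U₃ hU₃ U₄ hU₄ h34 hd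
    (u₁₃.gradedAt U₁ hU₁ U₃ hU₃ h13 f₁) hf₃ _ e hb _ hc
  have hC1 : V.ι ≫ t₃ = τ ≫ IsOpenImmersion.lift (domQ u₃₄ p₄ chart₄).ι _ h1 := by
    rw [← cancel_mono (domQ u₃₄ p₄ chart₄).ι, Category.assoc, ← ht, ← Category.assoc, ← hτ,
      Category.assoc, liftEmb_ι, Category.assoc, hc]
    rfl
  have hC : V.ι ≫ s₃ = τ ≫ Spec.map (CommRingCat.ofHom
      (awayMapE (u₃₄.gradedAt U₃ hU₃ U₄ hU₄ h34) e)) ≫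
      liftEmb u₁₃ p₃ chart₃ U₁ hU₁ U₃ hU₃ h13 hd f₁ hf₁ := by
    rw [← cancel_mono (domQ u₁₃ p₃ chart₃).ι, Category.assoc, ← hs₃, ← Category.assoc, hC1,
      Category.assoc, h2, Category.assoc, Category.assoc, liftEmb_ι]
    rfl
  rw [← Category.assoc, hB, ← Category.assoc V.ι, hC, Category.assoc, Category.assoc,
    Category.assoc, Category.assoc]
  exact congrArg (τ ≫ ·) (core_comm hsq hr₁₂ hr₁₃ U₁ hU₁ U₂ hU₂ U₃ hU₃ U₄ hU₄ h12 h13 h24 h34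
    hd f₁ hf₁ e)

end

end Groth.Agent.Helper1.SQ
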