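import Mathlib
import Groth.Agent.Helper1.SQ4

/-!
# Commutative squares of graded morphisms, part 5: versions for opens equal to the `G(u)`
-/

set_option autoImplicit false
set_option linter.style.haveILetI false

namespace Groth.Agent.Helper1.SQ

open CategoryTheory Limits AlgebraicGeometry TopologicalSpace Opposite RelProj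
  HomogeneousLocalization Groth.Agent.Helper1.RP
open scoped HomogeneousIdeal

universe u

noncomputable section

variable {Y₁ Y₂ Y₃ Y₄ : Scheme.{u}} {g₁₂ : Y₂ ⟶ Y₁} {g₁₃ : Y₃ ⟶ Y₁} {g₂₄ : Y₄ ⟶ Y₂}
  {g₃₄ : Y₄ ⟶ Y₃}
  {𝒮₁ : QCGrAlg Y₁} {𝒮₂ : QCGrAlg Y₂} {𝒮₃ : QCGrAlg Y₃} {𝒮₄ : QCGrAlg Y₄}
  {u₁₂ : QGrHom g₁₂ 𝒮₁ 𝒮₂} {u₁₃ : QGrHom g₁₃ 𝒮₁ 𝒮₃} {u₂₄ : QGrHom g₂₄ 𝒮₂ 𝒮₄}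
  {u₃₄ : QGrHom g₃₄ 𝒮₃ 𝒮₄}
  {P₁ P₂ P₃ P₄ : Scheme.{u}} {p₁ : P₁ ⟶ Y₁} {p₂ : P₂ ⟶ Y₂} {p₃ : P₃ ⟶ Y₃} {p₄ : P₄ ⟶ Y₄}
  {chart₁ : ∀ (U : Y₁.Opens) (hU : IsAffineOpen U),
    (((p₁ ⁻¹ᵁ U : P₁.Opens) : Scheme.{u}) ≅ Proj (𝒮₁.deg U hU))}
  {chart₂ : ∀ (U : Y₂.Opens) (hU : IsAffineOpen U),
    (((p₂ ⁻¹ᵁ U : P₂.Opens) : Scheme.{u}) ≅ Proj (𝒮₂.deg U hU))}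
  {chart₃ : ∀ (U : Y₃.Opens) (hU : IsAffineOpen U),
    (((p₃ ⁻¹ᵁ U : P₃.Opens) : Scheme.{u}) ≅ Proj (𝒮₃.deg U hU))}
  {chart₄ : ∀ (U : Y₄.Opens) (hU : IsAffineOpen U),
    (((p₄ ⁻¹ᵁ U : P₄.Opens) : Scheme.{u}) ≅ Proj (𝒮₄.deg U hU))}

theorem mem_of_sq' (hsq : IsSq u₁₂ u₁₃ u₂₄ u₃₄) (hg : g₂₄ ≫ g₁₂ = g₃₄ ≫ g₁₃)
    (hP₂ : IsRelProj 𝒮₂ p₂ chart₂) (hP₄ : IsRelProj 𝒮₄ p₄ chart₄)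
    (W₁₂ : P₂.Opens) (hW₁₂ : W₁₂ = domQ u₁₂ p₂ chart₂)
    (W₂₄ : P₄.Opens) (hW₂₄ : W₂₄ = domQ u₂₄ p₄ chart₄)
    (W₃₄ : P₄.Opens) (hW₃₄ : W₃₄ = domQ u₃₄ p₄ chart₄)
    {r₂₄ : (W₂₄ : Scheme.{u}) ⟶ P₂}
    (hr₂₄ : IsProjQMapOn u₂₄ p₂ chart₂ p₄ chart₄ W₂₄ r₂₄)
    (x₄ : (W₂₄ : Scheme.{u})) (hx : r₂₄ x₄ ∈ W₁₂) : W₂₄.ι x₄ ∈ W₃₄ := by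
  subst hW₁₂ hW₂₄ hW₃₄
  exact mem_domQ_of_sq hsq hg hP₂ hP₄ hr₂₄ x₄ hx

theorem map_mem_of_sq' (hsq : IsSq u₁₂ u₁₃ u₂₄ u₃₄) (hg : g₂₄ ≫ g₁₂ = g₃₄ ≫ g₁₃)
    (hP₂ : IsRelProj 𝒮₂ p₂ chart₂) (hP₄ : IsRelProj 𝒮₄ p₄ chart₄)
    (W₁₂ : P₂.Opens) (hW₁₂ : W₁₂ = domQ u₁₂ p₂ chart₂)
    (W₁₃ : P₃.Opens) (hW₁₃ : W₁₃ = domQ u₁₃ p₃ chart₃)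
    (W₂₄ : P₄.Opens) (hW₂₄ : W₂₄ = domQ u₂₄ p₄ chart₄)
    (W₃₄ : P₄.Opens) (hW₃₄ : W₃₄ = domQ u₃₄ p₄ chart₄)
    {r₂₄ : (W₂₄ : Scheme.{u}) ⟶ P₂}
    (hr₂₄ : IsProjQMapOn u₂₄ p₂ chart₂ p₄ chart₄ W₂₄ r₂₄)
    {r₃₄ : (W₃₄ : Scheme.{u}) ⟶ P₃}
    (hr₃₄ : IsProjQMapOn u₃₄ p₃ chart₃ p₄ chart₄ W₃₄ r₃₄)
    (x₄ : (W₂₄ : Scheme.{u})) (hx : r₂₄ x₄ ∈ W₁₂)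
    (x₃₄ : (W₃₄ : Scheme.{u})) (hx' : W₃₄.ι x₃₄ = W₂₄.ι x₄) : r₃₄ x₃₄ ∈ W₁₃ := by
  subst hW₁₂ hW₁₃ hW₂₄ hW₃₄
  exact map_mem_domQ_of_sq hsq hg hP₂ hP₄ hr₂₄ hr₃₄ x₄ hx x₃₄ hx'

theorem comm_of_sq' (hsq : IsSq u₁₂ u₁₃ u₂₄ u₃₄) (hg : g₂₄ ≫ g₁₂ = g₃₄ ≫ g₁₃)
    (hP₂ : IsRelProj 𝒮₂ p₂ chart₂) (hP₄ : IsRelProj 𝒮₄ p₄ chart₄)
    (W₁₂ : P₂.Opens) (hW₁₂ : W₁₂ = domQ u₁₂ p₂ chart₂)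
    (W₁₃ : P₃.Opens) (hW₁₃ : W₁₃ = domQ u₁₃ p₃ chart₃)
    (W₂₄ : P₄.Opens) (hW₂₄ : W₂₄ = domQ u₂₄ p₄ chart₄)
    (W₃₄ : P₄.Opens) (hW₃₄ : W₃₄ = domQ u₃₄ p₄ chart₄)
    {r₁₂ : (W₁₂ : Scheme.{u}) ⟶ P₁}
    (hr₁₂ : IsProjQMapOn u₁₂ p₁ chart₁ p₂ chart₂ W₁₂ r₁₂)
    {r₁₃ : (W₁₃ : Scheme.{u}) ⟶ P₁}
    (hr₁₃ : IsProjQMapOn u₁₃ p₁ chart₁ p₃ chart₃ W₁₃ r₁₃)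
    {r₂₄ : (W₂₄ : Scheme.{u}) ⟶ P₂}
    (hr₂₄ : IsProjQMapOn u₂₄ p₂ chart₂ p₄ chart₄ W₂₄ r₂₄)
    {r₃₄ : (W₃₄ : Scheme.{u}) ⟶ P₃}
    (hr₃₄ : IsProjQMapOn u₃₄ p₃ chart₃ p₄ chart₄ W₃₄ r₃₄)
    {T : Scheme.{u}} (t₂ : T ⟶ (W₂₄ : Scheme.{u})) (t₃ : T ⟶ (W₃₄ : Scheme.{u}))
    (ht : t₂ ≫ W₂₄.ι = t₃ ≫ W₃₄.ι)
    (s₂ : T ⟶ (W₁₂ : Scheme.{u})) (hs₂ : t₂ ≫ r₂₄ = s₂ ≫ W₁₂.ι)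
    (s₃ : T ⟶ (W₁₃ : Scheme.{u})) (hs₃ : t₃ ≫ r₃₄ = s₃ ≫ W₁₃.ι) :
    s₂ ≫ r₁₂ = s₃ ≫ r₁₃ := by
  subst hW₁₂ hW₁₃ hW₂₄ hW₃₄
  exact comm_of_sq hsq hg hP₂ hP₄ hr₁₂ hr₁₃ hr₂₄ hr₃₄ t₂ t₃ ht s₂ hs₂ s₃ hs₃

end

end Groth.Agent.Helper1.SQ
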