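import Mathlib
import Groth.Prelude.Def_RelSpec2
import Groth.Agent.Helper1.SQ5
import Groth.Agent.Helper1.PC2

/-!
# Naturality of projective cones, part 1: the squares of graded morphisms
-/

set_option autoImplicit false
set_option linter.style.haveILetI false

namespace Groth.Agent.Helper1.CN

open CategoryTheory Limits AlgebraicGeometry TopologicalSpace Opposite RelProj RelCone
  HomogeneousLocalization Groth.Agent.Helper1.RP Groth.Agent.Helper1.SQ Groth.Agent.Helper1.PC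
open scoped HomogeneousIdeal

universe u

noncomputable section

variable {Y Y' : Scheme.{u}} {q : Y' ⟶ Y} {𝒮 : QCGrAlg Y} {𝒮' : QCGrAlg Y'}
  {u : QGrHom q 𝒮 𝒮'} {𝒮h : QCGrAlg Y} {ι : 𝒮.toQCAlg ⟶ 𝒮h.toQCAlg}
  {𝒮h' : QCGrAlg Y'} {ι' : 𝒮'.toQCAlg ⟶ 𝒮h'.toQCAlg} {uh : QGrHom q 𝒮h 𝒮h'}

/-- the square `ι' ∘ u = uh ∘ ι` on affine quadruples -/
theorem sq_ι (hι : IsGradedHom ι) (hι' : IsGradedHom ι')
    (huh : ∀ U : Y.Opens, ι.hom.app (op U) ≫ uh.app U = u.app U ≫ ι'.hom.app (op (q ⁻¹ᵁ U))) :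
    IsSq (QGrHom.ofHom ι hι) u uh (QGrHom.ofHom ι' hι') := by
  intro U₁ hU₁ U₂ hU₂ U₃ hU₃ U₄ hU₄ h12 h13 h24 h34 x
  have key : (RelSpec.QHom.ofHom ι).appLE U₁ U₂ h12 ≫ uh.appLE U₂ U₄ h24 =
      u.appLE U₁ U₃ h13 ≫ (RelSpec.QHom.ofHom ι').appLE U₃ U₄ h34 := by
    have h12' : U₂ ≤ U₁ := h12
    have h34' : U₄ ≤ U₃ := h34
    have e1 : (RelSpec.QHom.ofHom ι).appLE U₁ U₂ h12 =
        ι.hom.app (op U₁) ≫ 𝒮h.presheaf.map (homOfLE h12').op := rfl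
    have e2 : (RelSpec.QHom.ofHom ι').appLE U₃ U₄ h34 =
        ι'.hom.app (op U₃) ≫ 𝒮h'.presheaf.map (homOfLE h34').op := rfl
    have h14 : U₄ ≤ q ⁻¹ᵁ U₁ := h24.trans (q.preimage_mono h12')
    have hL : (ι.hom.app (op U₁) ≫ 𝒮h.presheaf.map (homOfLE h12').op) ≫ uh.appLE U₂ U₄ h24 =
        u.app U₁ ≫ 𝒮'.presheaf.map (homOfLE h14).op ≫ ι'.hom.app (op U₄) := by
      rw [Category.assoc, uh.toQHom.map_appLE h12' h24, RelSpec.QHom.appLE_eq,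
        ← Category.assoc, huh U₁, Category.assoc, ← ι'.hom.naturality]
    have hR : u.appLE U₁ U₃ h13 ≫ (ι'.hom.app (op U₃) ≫ 𝒮h'.presheaf.map (homOfLE h34').op) =
        u.app U₁ ≫ 𝒮'.presheaf.map (homOfLE h14).op ≫ ι'.hom.app (op U₄) := by
      rw [RelSpec.QHom.appLE_eq, ← ι'.hom.naturality, Category.assoc, ← Functor.map_comp_assoc]
      rfl
    rw [e1, e2, hL, hR]
  exact congrArg (fun t => t.hom x) key

end

end Groth.Agent.Helper1.CN
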