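import Mathlib
import Groth.Agent.Helper1.PC2

/-!
# Projective cones, part 3: the canonical retraction `Ê → Proj(𝒮)`
-/

set_option autoImplicit false
set_option linter.style.haveILetI false

namespace Groth.Agent.Helper1.PC

open CategoryTheory Limits AlgebraicGeometry TopologicalSpace Opposite RelProj RelCone
  HomogeneousLocalization Groth.Agent.Helper1.RP
open scoped HomogeneousIdeal

universe u

noncomputable section

variable {Y PC P : Scheme.{u}} {𝒮 𝒮h : QCGrAlg Y} {ι : 𝒮.toQCAlg ⟶ 𝒮h.toQCAlg}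
  {z : 𝒮h.presheaf.obj (op ⊤)} (hz : IsPolyOver 𝒮 𝒮h ι z)
  (pC : PC ⟶ Y)
  (chartC : ∀ (U : Y.Opens) (hU : IsAffineOpen U),
    (((pC ⁻¹ᵁ U : PC.Opens) : Scheme.{u}) ≅ Proj (𝒮h.deg U hU)))
  (p : P ⟶ Y)
  (chart : ∀ (U : Y.Opens) (hU : IsAffineOpen U),
    (((p ⁻¹ᵁ U : P.Opens) : Scheme.{u}) ≅ Proj (𝒮.deg U hU)))

/-- the chart characterization of the canonical retraction (as in the frozen statements) -/
def IsRetr (r : ((pointedProjCone 𝒮 hz pC chartC : PC.Opens) : Scheme.{u}) ⟶ P) : Prop :=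
  ∀ (U : Y.Opens) (hU : IsAffineOpen U) (d : ℕ) (hd : 0 < d) (f : 𝒮.presheaf.obj (op U))
    (hf : f ∈ 𝒮.deg U hU d)
    (g : Spec (CommRingCat.of (Away (𝒮h.deg U hU) ((gradedHomAt ι hz.graded U hU) f))) ⟶
      ((pointedProjCone 𝒮 hz pC chartC : PC.Opens) : Scheme.{u})),
    g ≫ (pointedProjCone 𝒮 hz pC chartC).ι =
        Proj.awayι (𝒮h.deg U hU) ((gradedHomAt ι hz.graded U hU) f)
          ((gradedHomAt ι hz.graded U hU).2 hf) hd ≫ emb pC chartC U hU →
      g ≫ r = Spec.map (CommRingCat.ofHom (Away.map (gradedHomAt ι hz.graded U hU) f)) ≫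
        Proj.awayι (𝒮.deg U hU) f hf hd ≫ emb p chart U hU

/-- the standard chart of the pointed projective cone -/
theorem range_chart_subset (U : Y.Opens) (hU : IsAffineOpen U) {d : ℕ} (hd : 0 < d)
    (f : 𝒮.presheaf.obj (op U)) (hf : f ∈ 𝒮.deg U hU d) :
    Set.range (Proj.awayι (𝒮h.deg U hU) ((gradedHomAt ι hz.graded U hU) f)
      ((gradedHomAt ι hz.graded U hU).2 hf) hd ≫ emb pC chartC U hU) ⊆
      Set.range (pointedProjCone 𝒮 hz pC chartC).ι := by
  rw [Scheme.Opens.range_ι]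
  rintro _ ⟨y, rfl⟩
  rw [Scheme.Hom.comp_apply]
  unfold pointedProjCone
  refine TopologicalSpace.Opens.mem_iSup.mpr ⟨⟨U, hU⟩, _, ?_, rfl⟩
  rw [SetLike.mem_coe, mem_domOpen_iff_homog]
  refine ⟨d, hd, f, hf, ?_⟩
  have h0 : (Proj.awayι (𝒮h.deg U hU) ((gradedHomAt ι hz.graded U hU) f)
      ((gradedHomAt ι hz.graded U hU).2 hf) hd) y ∈
      (Proj.awayι (𝒮h.deg U hU) ((gradedHomAt ι hz.graded U hU) f)
      ((gradedHomAt ι hz.graded U hU).2 hf) hd).opensRange := ⟨y, rfl⟩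
  rw [Proj.opensRange_awayι] at h0
  exact h0

def coneChart (U : Y.Opens) (hU : IsAffineOpen U) {d : ℕ} (hd : 0 < d)
    (f : 𝒮.presheaf.obj (op U)) (hf : f ∈ 𝒮.deg U hU d) :
    Spec (CommRingCat.of (Away (𝒮h.deg U hU) ((gradedHomAt ι hz.graded U hU) f))) ⟶
      ((pointedProjCone 𝒮 hz pC chartC : PC.Opens) : Scheme.{u}) :=
  IsOpenImmersion.lift (pointedProjCone 𝒮 hz pC chartC).ι
    (Proj.awayι (𝒮h.deg U hU) ((gradedHomAt ι hz.graded U hU) f)
      ((gradedHomAt ι hz.graded U hU).2 hf) hd ≫ emb pC chartC U hU)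
    (range_chart_subset hz pC chartC U hU hd f hf)

@[reassoc]
theorem coneChart_ι (U : Y.Opens) (hU : IsAffineOpen U) {d : ℕ} (hd : 0 < d)
    (f : 𝒮.presheaf.obj (op U)) (hf : f ∈ 𝒮.deg U hU d) :
    coneChart hz pC chartC U hU hd f hf ≫ (pointedProjCone 𝒮 hz pC chartC).ι =
      Proj.awayι (𝒮h.deg U hU) ((gradedHomAt ι hz.graded U hU) f)
        ((gradedHomAt ι hz.graded U hU).2 hf) hd ≫ emb pC chartC U hU :=
  IsOpenImmersion.lift_fac _ _ _

instance isOpenImmersion_coneChart (U : Y.Opens) (hU : IsAffineOpen U) {d : ℕ} (hd : 0 < d)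
    (f : 𝒮.presheaf.obj (op U)) (hf : f ∈ 𝒮.deg U hU d) :
    IsOpenImmersion (coneChart hz pC chartC U hU hd f hf) := by
  have : IsOpenImmersion (coneChart hz pC chartC U hU hd f hf ≫
      (pointedProjCone 𝒮 hz pC chartC).ι) := by
    rw [coneChart_ι]; infer_instance
  exact IsOpenImmersion.of_comp _ (pointedProjCone 𝒮 hz pC chartC).ι

variable {pC chartC p chart}

theorem coneChart_r {r : ((pointedProjCone 𝒮 hz pC chartC : PC.Opens) : Scheme.{u}) ⟶ P}
    (hr : IsRetr hz pC chartC p chart r)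
    (U : Y.Opens) (hU : IsAffineOpen U) {d : ℕ} (hd : 0 < d)
    (f : 𝒮.presheaf.obj (op U)) (hf : f ∈ 𝒮.deg U hU d) :
    coneChart hz pC chartC U hU hd f hf ≫ r =
      Spec.map (CommRingCat.ofHom (Away.map (gradedHomAt ι hz.graded U hU) f)) ≫
        Proj.awayι (𝒮.deg U hU) f hf hd ≫ emb p chart U hU :=
  hr U hU d hd f hf _ (coneChart_ι hz pC chartC U hU hd f hf)

/-- the standard charts cover the pointed projective cone -/
theorem exists_coneChart (x : ((pointedProjCone 𝒮 hz pC chartC : PC.Opens) : Scheme.{u})) :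
    ∃ (U : Y.Opens) (hU : IsAffineOpen U) (d : ℕ) (hd : 0 < d) (f : 𝒮.presheaf.obj (op U))
      (hf : f ∈ 𝒮.deg U hU d)
      (y : Spec (CommRingCat.of (Away (𝒮h.deg U hU) ((gradedHomAt ι hz.graded U hU) f)))),
      (coneChart hz pC chartC U hU hd f hf) y = x := by
  have hx : ((pointedProjCone 𝒮 hz pC chartC).ι x) ∈ (⨆ U : Y.affineOpens,
      (emb pC chartC U.1 U.2) ''ᵁ domOpen (gradedHomAt ι hz.graded U.1 U.2) : PC.Opens) := x.2
  obtain ⟨⟨U, hU⟩, w, hw, hwx⟩ := TopologicalSpace.Opens.mem_iSup.mp hx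
  rw [SetLike.mem_coe, mem_domOpen_iff_homog] at hw
  obtain ⟨d, hd, f, hf, hwf⟩ := hw
  have hwf' : w ∈ (Proj.awayι (𝒮h.deg U hU) ((gradedHomAt ι hz.graded U hU) f)
      ((gradedHomAt ι hz.graded U hU).2 hf) hd).opensRange := by
    rw [Proj.opensRange_awayι]; exact hwf
  obtain ⟨y, hy⟩ := hwf'
  refine ⟨U, hU, d, hd, f, hf, y, ?_⟩
  apply (pointedProjCone 𝒮 hz pC chartC).ι.injective
  have h1 := congrArg (fun t : _ ⟶ PC => t y) (coneChart_ι hz pC chartC U hU hd f hf)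
  refine h1.trans (Eq.trans ?_ hwx)
  show (emb pC chartC U hU) ((Proj.awayι (𝒮h.deg U hU) ((gradedHomAt ι hz.graded U hU) f)
      ((gradedHomAt ι hz.graded U hU).2 hf) hd) y) = _
  exact congrArg _ hy

theorem isRetr_unique {r r' : ((pointedProjCone 𝒮 hz pC chartC : PC.Opens) : Scheme.{u}) ⟶ P}
    (hr : IsRetr hz pC chartC p chart r) (hr' : IsRetr hz pC chartC p chart r') : r = r' := by
  apply hom_ext_of_charts
  intro x
  obtain ⟨U, hU, d, hd, f, hf, y, hy⟩ := exists_coneChart hz x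
  refine ⟨_, coneChart hz pC chartC U hU hd f hf, inferInstance, ⟨y, hy⟩, ?_⟩
  rw [coneChart_r hz hr, coneChart_r hz hr']


/-- the restriction of `Proj(ι)` to the pointed projective cone satisfies the chart equations -/
theorem isRetr_of_projQMapOn
    {r : ((pointedProjCone 𝒮 hz pC chartC : PC.Opens) : Scheme.{u}) ⟶ P}
    (hr : IsProjQMapOn (QGrHom.ofHom ι hz.graded) p chart pC chartC
      (pointedProjCone 𝒮 hz pC chartC) r) : IsRetr hz pC chartC p chart r := by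
  intro U hU d hd f hf g hg
  have key : ∀ (ψ : 𝒮.deg U hU →+*ᵍ 𝒮h.deg U hU)
      (_ : (QGrHom.ofHom ι hz.graded).gradedAt U hU U hU (le_preimage_id U) = ψ)
      (hW : Set.range (Proj.awayι (𝒮h.deg U hU) (ψ f) (ψ.map_mem hf) hd ≫
        emb pC chartC U hU).base ⊆ Set.range (pointedProjCone 𝒮 hz pC chartC).ι.base),
      IsOpenImmersion.lift (pointedProjCone 𝒮 hz pC chartC).ι
        (Proj.awayι (𝒮h.deg U hU) (ψ f) (ψ.map_mem hf) hd ≫ emb pC chartC U hU) hW ≫ r =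
      Spec.map (CommRingCat.ofHom (Away.map ψ f)) ≫
        Proj.awayι (𝒮.deg U hU) f hf hd ≫ emb p chart U hU := by
    intro ψ e
    subst e
    intro hW
    exact hr U hU U hU (le_preimage_id U) d hd f hf hW
  have h1 := key (gradedHomAt ι hz.graded U hU)
    (gradedAt_ofHom_self ι hz.graded U hU (le_preimage_id U))
    (range_chart_subset hz pC chartC U hU hd f hf)
  rw [← h1]
  congr 1
  exact IsOpenImmersion.lift_uniq _ _ _ _ hg

theorem exists_isRetr (hP : IsRelProj 𝒮 p chart) (hPC : IsRelProj 𝒮h pC chartC) :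
    ∃ r : ((pointedProjCone 𝒮 hz pC chartC : PC.Opens) : Scheme.{u}) ⟶ P,
      IsRetr hz pC chartC p chart r ∧
      IsProjQMapOn (QGrHom.ofHom ι hz.graded) p chart pC chartC
        (pointedProjCone 𝒮 hz pC chartC) r := by
  obtain ⟨r, hr, -⟩ := existsUnique_projQMapOn_of_eq (u := QGrHom.ofHom ι hz.graded) hP hPC
    (pointedProjCone 𝒮 hz pC chartC) (pointedProjCone_eq_domQ hz hPC)
  exact ⟨r, isRetr_of_projQMapOn hz hr, hr⟩

theorem existsUnique_isRetr (hP : IsRelProj 𝒮 p chart) (hPC : IsRelProj 𝒮h pC chartC) :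
    ∃! r : ((pointedProjCone 𝒮 hz pC chartC : PC.Opens) : Scheme.{u}) ⟶ P,
      IsRetr hz pC chartC p chart r := by
  obtain ⟨r, hr, -⟩ := exists_isRetr hz hP hPC
  exact ⟨r, hr, fun r' hr' => isRetr_unique hz hr' hr⟩

theorem projQMapOn_of_isRetr (hP : IsRelProj 𝒮 p chart) (hPC : IsRelProj 𝒮h pC chartC)
    {r : ((pointedProjCone 𝒮 hz pC chartC : PC.Opens) : Scheme.{u}) ⟶ P}
    (hr : IsRetr hz pC chartC p chart r) :
    IsProjQMapOn (QGrHom.ofHom ι hz.graded) p chart pC chartC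
      (pointedProjCone 𝒮 hz pC chartC) r := by
  obtain ⟨r₀, hr₀, hr₀'⟩ := exists_isRetr hz hP hPC
  rw [isRetr_unique hz hr hr₀]
  exact hr₀'

/-- the canonical retraction lies over `Y` -/
theorem isRetr_comm (hP : IsRelProj 𝒮 p chart) (hPC : IsRelProj 𝒮h pC chartC)
    {r : ((pointedProjCone 𝒮 hz pC chartC : PC.Opens) : Scheme.{u}) ⟶ P}
    (hr : IsRetr hz pC chartC p chart r) :
    r ≫ p = (pointedProjCone 𝒮 hz pC chartC).ι ≫ pC := by
  have h := projQMapOn_comm_of_eq hP hPC _ (pointedProjCone_eq_domQ hz hPC)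
    (projQMapOn_of_isRetr hz hP hPC hr)
  rw [h, Category.comp_id]

/-- the canonical retraction is affine -/
theorem isRetr_isAffineHom (hP : IsRelProj 𝒮 p chart) (hPC : IsRelProj 𝒮h pC chartC)
    {r : ((pointedProjCone 𝒮 hz pC chartC : PC.Opens) : Scheme.{u}) ⟶ P}
    (hr : IsRetr hz pC chartC p chart r) : IsAffineHom r := by
  refine projQMapOn_of_away_of_eq @IsAffineHom hP hPC _ (pointedProjCone_eq_domQ hz hPC)
    (projQMapOn_of_isRetr hz hP hPC hr) (fun U hU => hU) ?_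
  intro U hU d hd f hf
  infer_instance

end

end Groth.Agent.Helper1.PC
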