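import Mathlib
import Groth.Agent.Helper1.PC1
import Groth.Agent.Helper1.RP15

/-!
# Projective cones, part 5: points of `Proj A[z]`
-/

set_option autoImplicit false
set_option linter.style.haveILetI false

namespace Groth.Agent.Helper1.PC

open CategoryTheory Limits AlgebraicGeometry TopologicalSpace Opposite
  HomogeneousLocalization DirectSum Groth.Agent.Helper1.RP
open scoped HomogeneousIdeal

universe u

noncomputable section

section ring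

variable {A σ : Type u} [CommRing A] [SetLike σ A] [AddSubgroupClass σ A] {𝒜 : ℕ → σ}
  [GradedRing 𝒜]
variable {B τ : Type u} [CommRing B] [SetLike τ B] [AddSubgroupClass τ B] {ℬ : ℕ → τ}
  [GradedRing ℬ]
variable {C υ : Type u} [CommRing C] [SetLike υ C] [AddSubgroupClass υ C] {𝒞 : ℕ → υ}
  [GradedRing 𝒞]

/-- an ideal of `A[z]` containing `z` and the image of `A_+` contains the irrelevant ideal -/
theorem irrelevant_le_of (ι : 𝒜 →+*ᵍ ℬ) (z : B) (hz : z ∈ ℬ 1)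
    (hsurj : Function.Surjective (Polynomial.eval₂RingHom (ι : A →+* B) z))
    (J : Ideal B) (hzJ : z ∈ J) (hJ : ∀ (n : ℕ) (a : A), 0 < n → a ∈ 𝒜 n → ι a ∈ J) :
    (ℬ₊).toIdeal ≤ J := by
  rw [HomogeneousIdeal.irrelevant_eq_span, Ideal.span_le]
  intro x hx
  simp only [Set.mem_iUnion] at hx
  obtain ⟨n, hn, hxn⟩ := hx
  obtain ⟨P, rfl⟩ := hsurj x
  have hxn' : Polynomial.eval₂ (ι : A →+* B) z P ∈ ℬ n := hxn
  show Polynomial.eval₂ (ι : A →+* B) z P ∈ J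
  rw [eq_sum_of_mem ι z hz P hxn']
  refine J.sum_mem (fun j _ => ?_)
  rcases Nat.eq_zero_or_pos j with rfl | hj
  · rw [pow_zero, mul_one, Nat.sub_zero]
    exact hJ n _ hn (SetLike.coe_mem _)
  · exact J.mul_mem_left _ (Ideal.pow_mem_of_mem J hzJ j hj)

/-- `Proj A[z] = D_+(z) ∪ G(ι)` -/
theorem notMem_or_exists (ι : 𝒜 →+*ᵍ ℬ) (z : B) (hz : z ∈ ℬ 1)
    (hsurj : Function.Surjective (Polynomial.eval₂RingHom (ι : A →+* B) z))
    (w : Proj ℬ) :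
    z ∉ w.asHomogeneousIdeal ∨
      ∃ (n : ℕ) (_ : 0 < n) (a : A) (_ : a ∈ 𝒜 n), ι a ∉ w.asHomogeneousIdeal := by
  by_contra hcon
  push_neg at hcon
  let y : ProjectiveSpectrum ℬ := w
  exact y.not_irrelevant_le (irrelevant_le_of ι z hz hsurj y.asHomogeneousIdeal.toIdeal hcon.1
    (fun n a hn ha => hcon.2 n hn a ha))

/-- the point of `Proj 𝒜` under a point of `Proj ℬ` not containing the image of `𝒜_+` -/
def comapPt (ψ : 𝒜 →+*ᵍ ℬ) (w : Proj ℬ)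
    (h : ∃ (n : ℕ) (_ : 0 < n) (a : A) (_ : a ∈ 𝒜 n), ψ a ∉ w.asHomogeneousIdeal) : Proj 𝒜 :=
  let y : ProjectiveSpectrum ℬ := w
  (⟨y.asHomogeneousIdeal.comap ψ, y.isPrime.comap ψ, by
    obtain ⟨n, hn, a, ha, hw⟩ := h
    intro hle
    exact hw (hle (HomogeneousIdeal.mem_irrelevant_of_mem _ hn ha))⟩ : ProjectiveSpectrum 𝒜)

theorem mem_comapPt (ψ : 𝒜 →+*ᵍ ℬ) (w : Proj ℬ)
    (h : ∃ (n : ℕ) (_ : 0 < n) (a : A) (_ : a ∈ 𝒜 n), ψ a ∉ w.asHomogeneousIdeal) (a : A) :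
    a ∈ (comapPt ψ w h).asHomogeneousIdeal ↔ ψ a ∈ w.asHomogeneousIdeal := Iff.rfl

/-- if `Proj(ψ)` is everywhere defined, any point of `Proj 𝒞` outside `V_+(χ(ℬ_+))` is outside
`V_+(χ ψ (𝒜_+))` -/
theorem exists_of_domOpen_eq_top (ψ : 𝒜 →+*ᵍ ℬ) (htop : RelCone.domOpen ψ = ⊤)
    (χ : ℬ →+*ᵍ 𝒞) (w : Proj 𝒞)
    (h : ∃ (n : ℕ) (_ : 0 < n) (b : B) (_ : b ∈ ℬ n), χ b ∉ w.asHomogeneousIdeal) :
    ∃ (d : ℕ) (_ : 0 < d) (f : A) (_ : f ∈ 𝒜 d), χ (ψ f) ∉ w.asHomogeneousIdeal := by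
  have h1 : comapPt χ w h ∈ RelCone.domOpen ψ := by rw [htop]; trivial
  rw [mem_domOpen_iff_homog] at h1
  obtain ⟨d, hd, f, hf, hx⟩ := h1
  exact ⟨d, hd, f, hf, hx⟩

end ring

end

end Groth.Agent.Helper1.PC
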