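import Mathlib
import Groth.Agent.Helper1.CN1
import Groth.Agent.Helper1.PC5
import Groth.Agent.Helper1.PC3

/-!
# Naturality of projective cones, part 2: `Φ̂⁻¹(Ê) = Ê'`
-/

set_option autoImplicit false
set_option linter.style.haveILetI false

namespace Groth.Agent.Helper1.CN

open CategoryTheory Limits AlgebraicGeometry TopologicalSpace Opposite RelProj RelCone
  HomogeneousLocalization Groth.Agent.Helper1.RP Groth.Agent.Helper1.SQ Groth.Agent.Helper1.PC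
open scoped HomogeneousIdeal

universe u

noncomputable section

section general

variable {Y Y' : Scheme.{u}} {g : Y' ⟶ Y} {𝒮 : QCGrAlg Y} {𝒮' : QCGrAlg Y'}
  {u : QGrHom g 𝒮 𝒮'} {P' : Scheme.{u}} {p' : P' ⟶ Y'}
  {chart' : ∀ (U' : Y'.Opens) (hU' : IsAffineOpen U'),
    (((p' ⁻¹ᵁ U' : P'.Opens) : Scheme.{u}) ≅ Proj (𝒮'.deg U' hU'))}

theorem domOpen_eq_top_of_domQ (hP' : IsRelProj 𝒮' p' chart') (h : domQ u p' chart' = ⊤)
    (U : Y.Opens) (hU : IsAffineOpen U) (U' : Y'.Opens) (hU' : IsAffineOpen U')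
    (hle : U' ≤ g ⁻¹ᵁ U) : domOpen (u.gradedAt U hU U' hU' hle) = ⊤ := by
  rw [_root_.eq_top_iff]
  intro w _
  have h1 : (emb p' chart' U' hU') w ∈ domQ u p' chart' ⊓ p' ⁻¹ᵁ U' := by
    rw [h]
    exact ⟨trivial, emb_mem p' chart' U' hU' w⟩
  rw [domQ_inf_preimage hP' U hU U' hU' hle] at h1
  obtain ⟨w', hw', hww'⟩ := h1
  have := (emb p' chart' U' hU').injective hww'
  rw [← this]
  exact hw'

theorem mem_domQ_of_mem_domOpen (U : Y.Opens) (hU : IsAffineOpen U) (U' : Y'.Opens)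
    (hU' : IsAffineOpen U') (hle : U' ≤ g ⁻¹ᵁ U) (w : Proj (𝒮'.deg U' hU'))
    (hw : w ∈ domOpen (u.gradedAt U hU U' hU' hle)) :
    (emb p' chart' U' hU') w ∈ domQ u p' chart' :=
  domPiece_le_domQ u p' chart' U hU U' hU' hle ⟨w, hw, rfl⟩

end general

variable {Y Y' : Scheme.{u}} {q : Y' ⟶ Y} {𝒮 : QCGrAlg Y} {𝒮' : QCGrAlg Y'}
  {u : QGrHom q 𝒮 𝒮'} {𝒮h : QCGrAlg Y} {ι : 𝒮.toQCAlg ⟶ 𝒮h.toQCAlg}
  {z : 𝒮h.presheaf.obj (op ⊤)}
  {𝒮h' : QCGrAlg Y'} {ι' : 𝒮'.toQCAlg ⟶ 𝒮h'.toQCAlg} {z' : 𝒮h'.presheaf.obj (op ⊤)}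
  {uh : QGrHom q 𝒮h 𝒮h'}

theorem uh_z (huhz : (uh.app ⊤).hom z = restrictTop 𝒮h' z' (q ⁻¹ᵁ ⊤))
    (U : Y.Opens) (hU : IsAffineOpen U) (U' : Y'.Opens) (hU' : IsAffineOpen U')
    (hle : U' ≤ q ⁻¹ᵁ U) :
    uh.gradedAt U hU U' hU' hle (restrictTop 𝒮h z U) = restrictTop 𝒮h' z' U' := by
  have h1 : 𝒮h.presheaf.map (homOfLE (le_top : U ≤ ⊤)).op ≫ uh.appLE U U' hle =
      uh.appLE ⊤ U' (hle.trans (q.preimage_mono le_top)) := uh.toQHom.map_appLE le_top hle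
  have h2 : uh.gradedAt U hU U' hU' hle (restrictTop 𝒮h z U) =
      (𝒮h.presheaf.map (homOfLE (le_top : U ≤ ⊤)).op ≫ uh.appLE U U' hle).hom z := rfl
  rw [h2, h1, RelSpec.QHom.appLE_eq]
  show (𝒮h'.presheaf.map _).hom ((uh.app ⊤).hom z) = _
  rw [huhz]
  unfold restrictTop
  rw [← CommRingCat.comp_apply, ← Functor.map_comp]
  rfl

theorem uh_ι (hι : IsGradedHom ι) (hι' : IsGradedHom ι')
    (huh : ∀ U : Y.Opens, ι.hom.app (op U) ≫ uh.app U = u.app U ≫ ι'.hom.app (op (q ⁻¹ᵁ U)))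
    (U : Y.Opens) (hU : IsAffineOpen U) (U' : Y'.Opens) (hU' : IsAffineOpen U')
    (hle : U' ≤ q ⁻¹ᵁ U) (f : 𝒮.presheaf.obj (op U)) :
    uh.gradedAt U hU U' hU' hle (gradedHomAt ι hι U hU f) =
      gradedHomAt ι' hι' U' hU' (u.gradedAt U hU U' hU' hle f) := by
  have key : ι.hom.app (op U) ≫ uh.appLE U U' hle = u.appLE U U' hle ≫ ι'.hom.app (op U') := by
    rw [RelSpec.QHom.appLE_eq, ← Category.assoc, huh U, Category.assoc, ← ι'.hom.naturality,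
      RelSpec.QHom.appLE_eq, Category.assoc]
  exact congrArg (fun t => t.hom f) key

end

end Groth.Agent.Helper1.CN
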