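import Mathlib
import Groth.Agent.Helper1.CN2

/-!
# Naturality of projective cones, part 3: `Φ̂` is everywhere defined when `Proj(φ)` is, and
`Φ̂⁻¹(Ê) = Ê'`
-/

set_option autoImplicit false
set_option linter.style.haveILetI false

namespace Groth.Agent.Helper1.CN

open CategoryTheory Limits AlgebraicGeometry TopologicalSpace Opposite RelProj RelCone
  HomogeneousLocalization Groth.Agent.Helper1.RP Groth.Agent.Helper1.SQ Groth.Agent.Helper1.PC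
open scoped HomogeneousIdeal

universe u

noncomputable section

section cone

variable {Y PC : Scheme.{u}} {𝒮 𝒮h : QCGrAlg Y} {ι : 𝒮.toQCAlg ⟶ 𝒮h.toQCAlg}
  {z : 𝒮h.presheaf.obj (op ⊤)} (hz : IsPolyOver 𝒮 𝒮h ι z)
  {pC : PC ⟶ Y}
  {chartC : ∀ (U : Y.Opens) (hU : IsAffineOpen U),
    (((pC ⁻¹ᵁ U : PC.Opens) : Scheme.{u}) ≅ Proj (𝒮h.deg U hU))}

/-- the part of the pointed projective cone over an affine open -/
theorem pointedProjCone_inf_preimage (hPC : IsRelProj 𝒮h pC chartC)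
    (U : Y.Opens) (hU : IsAffineOpen U) :
    pointedProjCone 𝒮 hz pC chartC ⊓ pC ⁻¹ᵁ U =
      (emb pC chartC U hU) ''ᵁ domOpen (gradedHomAt ι hz.graded U hU) := by
  rw [pointedProjCone_eq_domQ hz hPC, domQ_inf_preimage hPC U hU U hU (le_preimage_id U)]
  unfold domPiece
  rw [domOpen_congr (gradedAt_ofHom_self ι hz.graded U hU (le_preimage_id U))]

end cone

variable {Y Y' PC PC' : Scheme.{u}} {q : Y' ⟶ Y} {𝒮 : QCGrAlg Y} {𝒮' : QCGrAlg Y'}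
  {u : QGrHom q 𝒮 𝒮'} {𝒮h : QCGrAlg Y} {ι : 𝒮.toQCAlg ⟶ 𝒮h.toQCAlg}
  {z : 𝒮h.presheaf.obj (op ⊤)} (hz : IsPolyOver 𝒮 𝒮h ι z)
  {𝒮h' : QCGrAlg Y'} {ι' : 𝒮'.toQCAlg ⟶ 𝒮h'.toQCAlg} {z' : 𝒮h'.presheaf.obj (op ⊤)}
  (hz' : IsPolyOver 𝒮' 𝒮h' ι' z')
  {uh : QGrHom q 𝒮h 𝒮h'}
  {pC : PC ⟶ Y}
  {chartC : ∀ (U : Y.Opens) (hU : IsAffineOpen U),
    (((pC ⁻¹ᵁ U : PC.Opens) : Scheme.{u}) ≅ Proj (𝒮h.deg U hU))}
  {pC' : PC' ⟶ Y'}
  {chartC' : ∀ (U : Y'.Opens) (hU : IsAffineOpen U),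
    (((pC' ⁻¹ᵁ U : PC'.Opens) : Scheme.{u}) ≅ Proj (𝒮h'.deg U hU))}
  {P' : Scheme.{u}} {p' : P' ⟶ Y'}
  {chart' : ∀ (U : Y'.Opens) (hU : IsAffineOpen U),
    (((p' ⁻¹ᵁ U : P'.Opens) : Scheme.{u}) ≅ Proj (𝒮'.deg U hU))}

/-- a point of `Proj 𝒮h'(U')` outside `V_+(ι'(𝒮'_+))` is outside `V_+(uh(ι 𝒮_+))`, when
`Proj(u)` is everywhere defined -/
theorem exists_uh_ι_notMem (hP' : IsRelProj 𝒮' p' chart')
    (huh : ∀ U : Y.Opens, ι.hom.app (op U) ≫ uh.app U = u.app U ≫ ι'.hom.app (op (q ⁻¹ᵁ U)))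
    (htop : domQ u p' chart' = ⊤)
    (U : Y.Opens) (hU : IsAffineOpen U) (U' : Y'.Opens) (hU' : IsAffineOpen U')
    (hle : U' ≤ q ⁻¹ᵁ U) (w : Proj (𝒮h'.deg U' hU'))
    (h : ∃ (n : ℕ) (_ : 0 < n) (b : 𝒮'.presheaf.obj (op U')) (_ : b ∈ 𝒮'.deg U' hU' n),
      gradedHomAt ι' hz'.graded U' hU' b ∉ w.asHomogeneousIdeal) :
    ∃ (d : ℕ) (_ : 0 < d) (f : 𝒮.presheaf.obj (op U)) (_ : f ∈ 𝒮.deg U hU d),
      uh.gradedAt U hU U' hU' hle (gradedHomAt ι hz.graded U hU f) ∉ w.asHomogeneousIdeal := by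
  obtain ⟨d, hd, f, hf, hfw⟩ := exists_of_domOpen_eq_top (u.gradedAt U hU U' hU' hle)
    (domOpen_eq_top_of_domQ hP' htop U hU U' hU' hle) (gradedHomAt ι' hz'.graded U' hU') w h
  refine ⟨d, hd, f, hf, ?_⟩
  rw [uh_ι hz.graded hz'.graded huh]
  exact hfw

include hz hz' in
/-- `Φ̂` is everywhere defined when `Proj(φ)` is -/
theorem domQ_uh_eq_top (hPC' : IsRelProj 𝒮h' pC' chartC') (hP' : IsRelProj 𝒮' p' chart')
    (huh : ∀ U : Y.Opens, ι.hom.app (op U) ≫ uh.app U = u.app U ≫ ι'.hom.app (op (q ⁻¹ᵁ U)))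
    (huhz : (uh.app ⊤).hom z = restrictTop 𝒮h' z' (q ⁻¹ᵁ ⊤))
    (htop : domQ u p' chart' = ⊤) : domQ uh pC' chartC' = ⊤ := by
  rw [_root_.eq_top_iff]
  intro x' _
  obtain ⟨U, hU, U', hU', hle, hx'⟩ := exists_pair (g := q) (pC' x')
  have hx'' : x' ∈ (emb pC' chartC' U' hU').opensRange := by
    rw [opensRange_emb]; exact hx'
  obtain ⟨w, rfl⟩ := hx''
  apply mem_domQ_of_mem_domOpen U hU U' hU' hle w
  rw [mem_domOpen_iff_homog]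
  rcases notMem_or_exists (gradedHomAt ι' hz'.graded U' hU') (restrictTop 𝒮h' z' U')
    (hz'.deg_z U' hU') (hz'.bij U' hU').2 w with h1 | h1
  · refine ⟨1, one_pos, restrictTop 𝒮h z U, hz.deg_z U hU, ?_⟩
    rw [uh_z huhz]
    exact h1
  · obtain ⟨d, hd, f, hf, hfw⟩ := exists_uh_ι_notMem hz hz' hP' huh htop U hU U' hU' hle w h1
    exact ⟨d, hd, _, (gradedHomAt ι hz.graded U hU).map_mem hf, hfw⟩

/-- `Ê' ⊆ Φ̂⁻¹(Ê)` when `Proj(φ)` is everywhere defined -/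
theorem pointed_le_image (hPC : IsRelProj 𝒮h pC chartC) (hPC' : IsRelProj 𝒮h' pC' chartC')
    (hP' : IsRelProj 𝒮' p' chart')
    (huh : ∀ U : Y.Opens, ι.hom.app (op U) ≫ uh.app U = u.app U ≫ ι'.hom.app (op (q ⁻¹ᵁ U)))
    (htop : domQ u p' chart' = ⊤)
    {Φh : ((domQ uh pC' chartC' : PC'.Opens) : Scheme.{u}) ⟶ PC}
    (hΦh : IsProjQMapOn uh pC chartC pC' chartC' (domQ uh pC' chartC') Φh) :
    pointedProjCone 𝒮' hz' pC' chartC' ≤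
      (domQ uh pC' chartC').ι ''ᵁ (Φh ⁻¹ᵁ pointedProjCone 𝒮 hz pC chartC) := by
  intro x' hx'
  obtain ⟨U, hU, U', hU', hle, hxU'⟩ := exists_pair (g := q) (pC' x')
  have h1 : x' ∈ pointedProjCone 𝒮' hz' pC' chartC' ⊓ pC' ⁻¹ᵁ U' := ⟨hx', hxU'⟩
  rw [pointedProjCone_inf_preimage hz' hPC' U' hU'] at h1
  obtain ⟨w, hw, rfl⟩ := h1
  rw [SetLike.mem_coe, mem_domOpen_iff_homog] at hw
  obtain ⟨n, hn, b, hb, hbw⟩ := hw
  obtain ⟨d, hd, f, hf, hfw⟩ := exists_uh_ι_notMem hz hz' hP' huh htop U hU U' hU' hle w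
    ⟨n, hn, b, hb, hbw⟩
  have hf' := (gradedHomAt ι hz.graded U hU).map_mem hf
  have hw' : w ∈ (Proj.awayι (𝒮h'.deg U' hU')
      (uh.gradedAt U hU U' hU' hle (gradedHomAt ι hz.graded U hU f))
      ((uh.gradedAt U hU U' hU' hle).map_mem hf') hd).opensRange := by
    rw [Proj.opensRange_awayι]; exact hfw
  obtain ⟨y, hy⟩ := hw'
  refine ⟨(liftEmb uh pC' chartC' U hU U' hU' hle hd _ hf') y, ?_, ?_⟩
  · show Φh ((liftEmb uh pC' chartC' U hU U' hU' hle hd _ hf') y) ∈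
      pointedProjCone 𝒮 hz pC chartC
    have h2 := congrArg (fun t : _ ⟶ PC => t y) (liftEmb_r hΦh U hU U' hU' hle hd _ hf')
    have h3 := range_chart_subset hz pC chartC U hU hd f hf
    rw [Scheme.Opens.range_ι] at h3
    apply h3
    exact ⟨(Spec.map (CommRingCat.ofHom (Away.map (uh.gradedAt U hU U' hU' hle)
      (gradedHomAt ι hz.graded U hU f)))) y, h2.symm⟩
  · exact (liftEmb_apply_ι U hU U' hU' hle hd _ hf' y).trans (congrArg _ hy)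

end

end Groth.Agent.Helper1.CN
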