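import Mathlib
import Groth.Prelude.Def_RelSpec2
import Groth.Agent.Helper1.PC1

/-!
# Projective cones, part 6: `𝒮h(U)_(z) ≅ 𝒮(U)`
-/

set_option autoImplicit false
set_option linter.style.haveILetI false

namespace Groth.Agent.Helper1.PC

open CategoryTheory Limits AlgebraicGeometry TopologicalSpace Opposite RelProj RelCone
  HomogeneousLocalization DirectSum
open scoped HomogeneousIdeal

universe u

noncomputable section

section ring

variable {A σ : Type u} [CommRing A] [SetLike σ A] [AddSubgroupClass σ A] {𝒜 : ℕ → σ}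
  [GradedRing 𝒜]

/-- homogeneous elements of pairwise different degrees `k - j`, `j ≤ k`, summing to zero vanish -/
theorem eq_zero_of_sum_eq_zero (k : ℕ) (c : ℕ → A) (hc : ∀ j, c j ∈ 𝒜 (k - j))
    (h : ∑ j ∈ Finset.range (k + 1), c j = 0) (j₀ : ℕ) (hj₀ : j₀ ≤ k) : c j₀ = 0 := by
  have h1 := congrArg (GradedRing.proj 𝒜 (k - j₀)) h
  rw [map_sum, map_zero] at h1
  rw [Finset.sum_eq_single j₀] at h1
  · rw [proj_of_mem (hc j₀), if_pos rfl] at h1
    exact h1
  · intro j hj hne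
    rw [Finset.mem_range] at hj
    rw [proj_of_mem (hc j), if_neg (by omega)]
  · intro hn
    exact absurd (Finset.mem_range.mpr (by omega)) hn

end ring

variable {Y : Scheme.{u}} {𝒮 𝒮h : QCGrAlg Y} {ι : 𝒮.toQCAlg ⟶ 𝒮h.toQCAlg}
  {z : 𝒮h.presheaf.obj (op ⊤)} (h : IsPolyOver 𝒮 𝒮h ι z) (U : Y.Opens) (hU : IsAffineOpen U)

theorem awayZToBase_mk (k : ℕ) (x : 𝒮h.presheaf.obj (op U)) (hx : x ∈ 𝒮h.deg U hU (k • 1)) :
    h.awayZToBase U hU (Away.mk (𝒮h.deg U hU) (h.deg_z U hU) k x hx) = h.evalOne U hU x :=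
  h.awayZToBase_of_val U hU _ x k rfl

theorem awayZToBase_surjective : Function.Surjective (h.awayZToBase U hU) := by
  intro a
  induction a using DirectSum.Decomposition.inductionOn (𝒮.deg U hU) with
  | zero => exact ⟨0, map_zero _⟩
  | @homogeneous i a =>
    have hx : (ι.hom.app (op U)).hom (a : 𝒮.presheaf.obj (op U)) ∈ 𝒮h.deg U hU (i • 1) := by
      rw [smul_eq_mul, mul_one]
      exact h.graded U hU i _ a.2
    refine ⟨Away.mk (𝒮h.deg U hU) (h.deg_z U hU) i _ hx, ?_⟩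
    rw [awayZToBase_mk, IsPolyOver.evalOne_ι]
  | add a b ha hb =>
    obtain ⟨qa, rfl⟩ := ha
    obtain ⟨qb, rfl⟩ := hb
    exact ⟨qa + qb, map_add _ _ _⟩

theorem awayZToBase_injective : Function.Injective (h.awayZToBase U hU) := by
  rw [injective_iff_map_eq_zero]
  intro q hq
  obtain ⟨k, x, hx, rfl⟩ := Away.mk_surjective (𝒮h.deg U hU) (h.deg_z U hU) q
  rw [awayZToBase_mk] at hq
  have hx' : x ∈ 𝒮h.deg U hU k := by
    rw [smul_eq_mul, mul_one] at hx; exact hx
  obtain ⟨P, hP⟩ := (h.bij U hU).2 x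
  have hP' : Polynomial.eval₂ ((gradedHomAt ι h.graded U hU : 𝒮.deg U hU →+*ᵍ 𝒮h.deg U hU) :
      𝒮.presheaf.obj (op U) →+* 𝒮h.presheaf.obj (op U)) (restrictTop 𝒮h z U) P = x := hP
  have hmem : Polynomial.eval₂ ((gradedHomAt ι h.graded U hU : 𝒮.deg U hU →+*ᵍ 𝒮h.deg U hU) :
      𝒮.presheaf.obj (op U) →+* 𝒮h.presheaf.obj (op U)) (restrictTop 𝒮h z U) P ∈
      𝒮h.deg U hU k := by rw [hP']; exact hx'
  have hsum := eq_sum_of_mem (gradedHomAt ι h.graded U hU) (restrictTop 𝒮h z U)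
    (h.deg_z U hU) P hmem
  rw [hP'] at hsum
  -- apply `evalOne`
  have h1 : h.evalOne U hU x = ∑ j ∈ Finset.range (k + 1),
      GradedRing.proj (𝒮.deg U hU) (k - j) (P.coeff j) := by
    conv_lhs => rw [hsum]
    rw [map_sum]
    apply Finset.sum_congr rfl
    intro j _
    rw [map_mul, map_pow, IsPolyOver.evalOne_z, one_pow, mul_one]
    exact h.evalOne_ι U hU _
  rw [h1] at hq
  have h2 : ∀ j, j ≤ k → GradedRing.proj (𝒮.deg U hU) (k - j) (P.coeff j) = 0 :=
    eq_zero_of_sum_eq_zero k (fun j => GradedRing.proj (𝒮.deg U hU) (k - j) (P.coeff j))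
      (fun j => SetLike.coe_mem _) hq
  have hx0 : x = 0 := by
    rw [hsum]
    apply Finset.sum_eq_zero
    intro j hj
    rw [Finset.mem_range] at hj
    rw [h2 j (by omega), map_zero, zero_mul]
  apply HomogeneousLocalization.val_injective
  rw [Away.val_mk, HomogeneousLocalization.val_zero]
  subst hx0
  exact Localization.mk_zero _

theorem awayZToBase_bijective : Function.Bijective (h.awayZToBase U hU) :=
  ⟨awayZToBase_injective h U hU, awayZToBase_surjective h U hU⟩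

end

end Groth.Agent.Helper1.PC
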