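import Mathlib
import Groth.Agent.Helper1.PC6
import Groth.Agent.Helper1.PC3

/-!
# Projective cones, part 7: the canonical immersion `i : C → Ĉ`
-/

set_option autoImplicit false
set_option linter.style.haveILetI false

namespace Groth.Agent.Helper1.PC

open CategoryTheory Limits AlgebraicGeometry TopologicalSpace Opposite RelProj RelCone
  HomogeneousLocalization DirectSum Groth.Agent.Helper1.RP
open scoped HomogeneousIdeal

universe u

noncomputable section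

section spec

variable {Y : Scheme.{u}} (A : RelSpec.QCAlg Y)

/-- every point of the relative spectrum is on a chart -/
theorem exists_ι_of_mem (x : A.spec) (U : Y.Opens) (hU : IsAffineOpen U) (hx : A.π x ∈ U) :
    ∃ v : Spec (A.presheaf.obj (op U)), (A.ι U hU) v = x := by
  have h1 : x ∈ A.π ⁻¹ᵁ U := hx
  rw [A.π_preimage U hU] at h1
  exact h1

theorem exists_ι (x : A.spec) :
    ∃ (U : Y.Opens) (hU : IsAffineOpen U) (v : Spec (A.presheaf.obj (op U))),
      (A.ι U hU) v = x := by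
  obtain ⟨_, ⟨U, hU, rfl⟩, hxU, -⟩ :=
    Y.isBasis_affineOpens.exists_subset_of_mem_open (Set.mem_univ (A.π x)) isOpen_univ
  obtain ⟨v, hv⟩ := exists_ι_of_mem A x U hU hxU
  exact ⟨U, hU, v, hv⟩

theorem spec_hom_ext {Z : Scheme.{u}} (a b : A.spec ⟶ Z)
    (h : ∀ (U : Y.Opens) (hU : IsAffineOpen U), A.ι U hU ≫ a = A.ι U hU ≫ b) : a = b := by
  apply hom_ext_of_charts
  intro x
  obtain ⟨U, hU, v, hv⟩ := exists_ι A x
  exact ⟨_, A.ι U hU, inferInstance, ⟨v, hv⟩, h U hU⟩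

theorem ι_mem (U : Y.Opens) (hU : IsAffineOpen U) (v : Spec (A.presheaf.obj (op U))) :
    A.π ((A.ι U hU) v) ∈ U := by
  have h1 : (A.ι U hU) v ∈ (A.ι U hU).opensRange := ⟨v, rfl⟩
  rw [← A.π_preimage U hU] at h1
  exact h1

end spec

variable {Y PC : Scheme.{u}} {𝒮 𝒮h : QCGrAlg Y} {ι : 𝒮.toQCAlg ⟶ 𝒮h.toQCAlg}
  {z : 𝒮h.presheaf.obj (op ⊤)} (hz : IsPolyOver 𝒮 𝒮h ι z)
  {pC : PC ⟶ Y}
  {chartC : ∀ (U : Y.Opens) (hU : IsAffineOpen U),
    (((pC ⁻¹ᵁ U : PC.Opens) : Scheme.{u}) ≅ Proj (𝒮h.deg U hU))}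

theorem ι_str (U : Y.Opens) (r : Γ(Y, U)) :
    (ι.hom.app (op U)).hom ((𝒮.str.app (op U)).hom r) = (𝒮h.str.app (op U)).hom r := by
  have := congrArg (fun t => (t.app (op U)).hom r) ι.comm
  exact this

/-- the ring identity behind `i ≫ pC = π` -/
theorem strZero_fromZero_awayZToBase (U : Y.Opens) (hU : IsAffineOpen U) :
    𝒮h.strZero U hU ≫ CommRingCat.ofHom (fromZeroRingHom (𝒮h.deg U hU)
        (Submonoid.powers (restrictTop 𝒮h z U))) ≫
      CommRingCat.ofHom (hz.awayZToBase U hU) = 𝒮.str.app (op U) := by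
  ext r
  show hz.awayZToBase U hU (fromZeroRingHom (𝒮h.deg U hU) _ ((𝒮h.strZero U hU).hom r)) = _
  rw [fromZeroRingHom_eq_mk (hz.deg_z U hU), awayZToBase_mk, QCGrAlg.strZero_apply_coe,
    ← ι_str, IsPolyOver.evalOne_ι]

/-- the canonical immersion lies over `Y` -/
theorem coneImm_comm (hPC : IsRelProj 𝒮h pC chartC) {i : 𝒮.toQCAlg.spec ⟶ PC}
    (hi : IsConeImm 𝒮 hz pC chartC i) : i ≫ pC = 𝒮.toQCAlg.π := by
  apply spec_hom_ext
  intro U hU
  rw [← Category.assoc, hi U hU, Category.assoc, Category.assoc, emb_p hPC U hU,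
    RelSpec.QCAlg.ι_π]
  unfold str
  rw [Proj.awayι_toSpecZero_assoc, ← Spec.map_comp_assoc, ← Spec.map_comp_assoc,
    strZero_fromZero_awayZToBase hz U hU]

/-- the point `i(ι_U v₀)` lies in `D_+(ι f)` iff `f ∉ v₀` -/
theorem coneImm_mem_basicOpen_iff (U : Y.Opens) (hU : IsAffineOpen U) {d : ℕ} (hd : 0 < d)
    (f : 𝒮.presheaf.obj (op U)) (hf : f ∈ 𝒮.deg U hU d)
    (v₀ : Spec (𝒮.presheaf.obj (op U))) :
    (Proj.awayι (𝒮h.deg U hU) (restrictTop 𝒮h z U) (hz.deg_z U hU) one_pos)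
        ((Spec.map (CommRingCat.ofHom (hz.awayZToBase U hU))) v₀) ∈
      Proj.basicOpen (𝒮h.deg U hU) ((gradedHomAt ι hz.graded U hU) f) ↔ f ∉ v₀.asIdeal := by
  have hf' := (gradedHomAt ι hz.graded U hU).map_mem hf
  have h1 := Proj.awayι_preimage_basicOpen (𝒮h.deg U hU) (hz.deg_z U hU) one_pos hf' hd
  have e1 : (Proj.awayι (𝒮h.deg U hU) (restrictTop 𝒮h z U) (hz.deg_z U hU) one_pos)
        ((Spec.map (CommRingCat.ofHom (hz.awayZToBase U hU))) v₀) ∈
      Proj.basicOpen (𝒮h.deg U hU) ((gradedHomAt ι hz.graded U hU) f) ↔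
      (Spec.map (CommRingCat.ofHom (hz.awayZToBase U hU))) v₀ ∈
        (PrimeSpectrum.basicOpen (Away.isLocalizationElem (hz.deg_z U hU) hf') :
          (Spec (.of (Away (𝒮h.deg U hU) (restrictTop 𝒮h z U)))).Opens) := by
    rw [← h1]; rfl
  rw [e1]
  refine (spec_map_mem_basicOpen (CommRingCat.ofHom (hz.awayZToBase U hU))
    (Away.isLocalizationElem (hz.deg_z U hU) hf') v₀).trans ?_
  show hz.awayZToBase U hU (Away.isLocalizationElem (hz.deg_z U hU) hf') ∉ v₀.asIdeal ↔ _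
  unfold Away.isLocalizationElem
  rw [awayZToBase_mk, map_pow, pow_one]
  have : hz.evalOne U hU ((gradedHomAt ι hz.graded U hU) f) = f := hz.evalOne_ι U hU f
  exact iff_of_eq (congrArg (fun t => t ∉ v₀.asIdeal) this)

end

end Groth.Agent.Helper1.PC
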