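import Mathlib
import Groth.Agent.Helper1.PC7
import Groth.Agent.Helper1.PC5
import Groth.Agent.Helper1.CN3

/-!
# Projective cones, part 8: the image of `i : C → Ĉ`; the pointed projective cone is the
complement of the vertex
-/

set_option autoImplicit false
set_option linter.style.haveILetI false

namespace Groth.Agent.Helper1.PC

open CategoryTheory Limits AlgebraicGeometry TopologicalSpace Opposite RelProj RelCone
  HomogeneousLocalization DirectSum Groth.Agent.Helper1.RP Groth.Agent.Helper1.CN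
open scoped HomogeneousIdeal

universe u

noncomputable section

theorem specMap_surjective_of_bijective {R S : CommRingCat.{u}} (φ : R ⟶ S)
    (h : Function.Bijective φ.hom) : Function.Surjective (Spec.map φ) := by
  haveI : IsIso φ := (ConcreteCategory.isIso_iff_bijective φ).mpr h
  intro v
  refine ⟨(inv (Spec.map φ)) v, ?_⟩
  have := congrArg (fun t : Spec R ⟶ Spec R => t v) (IsIso.inv_hom_id (Spec.map φ))
  exact this

variable {Y PC : Scheme.{u}} {𝒮 𝒮h : QCGrAlg Y} {ι : 𝒮.toQCAlg ⟶ 𝒮h.toQCAlg}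
  {z : 𝒮h.presheaf.obj (op ⊤)} (hz : IsPolyOver 𝒮 𝒮h ι z)
  {pC : PC ⟶ Y}
  {chartC : ∀ (U : Y.Opens) (hU : IsAffineOpen U),
    (((pC ⁻¹ᵁ U : PC.Opens) : Scheme.{u}) ≅ Proj (𝒮h.deg U hU))}

/-- points of `D_+(z)` come from the affine cone -/
theorem exists_of_mem_basicOpen_z (U : Y.Opens) (hU : IsAffineOpen U)
    (w : Proj (𝒮h.deg U hU)) (hw : w ∈ Proj.basicOpen (𝒮h.deg U hU) (restrictTop 𝒮h z U)) :
    ∃ v₀ : Spec (𝒮.presheaf.obj (op U)),
      (Proj.awayι (𝒮h.deg U hU) (restrictTop 𝒮h z U) (hz.deg_z U hU) one_pos)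
        ((Spec.map (CommRingCat.ofHom (hz.awayZToBase U hU))) v₀) = w := by
  rw [← Proj.opensRange_awayι _ _ (hz.deg_z U hU) one_pos] at hw
  obtain ⟨v, hv⟩ := hw
  obtain ⟨v₀, hv₀⟩ := specMap_surjective_of_bijective (CommRingCat.ofHom (hz.awayZToBase U hU))
    (awayZToBase_bijective hz U hU) v
  exact ⟨v₀, by rw [hv₀]; exact hv⟩

theorem coneImm_apply {i : 𝒮.toQCAlg.spec ⟶ PC} (hi : IsConeImm 𝒮 hz pC chartC i)
    (U : Y.Opens) (hU : IsAffineOpen U) (v₀ : Spec (𝒮.presheaf.obj (op U))) :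
    i ((𝒮.toQCAlg.ι U hU) v₀) = (emb pC chartC U hU)
      ((Proj.awayι (𝒮h.deg U hU) (restrictTop 𝒮h z U) (hz.deg_z U hU) one_pos)
        ((Spec.map (CommRingCat.ofHom (hz.awayZToBase U hU))) v₀)) :=
  congrArg (fun t : _ ⟶ PC => t v₀) (hi U hU)

/-- the image of `i` over an affine open is `D_+(z)` -/
theorem emb_mem_range_coneImm_iff (hPC : IsRelProj 𝒮h pC chartC) {i : 𝒮.toQCAlg.spec ⟶ PC}
    (hi : IsConeImm 𝒮 hz pC chartC i) (U : Y.Opens) (hU : IsAffineOpen U)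
    (w : Proj (𝒮h.deg U hU)) :
    (emb pC chartC U hU) w ∈ Set.range i ↔
      w ∈ Proj.basicOpen (𝒮h.deg U hU) (restrictTop 𝒮h z U) := by
  constructor
  · rintro ⟨c, hc⟩
    have h1 : 𝒮.toQCAlg.π c ∈ U := by
      have := congrArg (fun t : _ ⟶ Y => t c) (coneImm_comm hz hPC hi)
      rw [← this]
      show pC (i c) ∈ U
      rw [hc]
      exact emb_mem pC chartC U hU w
    obtain ⟨v₀, rfl⟩ := exists_ι_of_mem 𝒮.toQCAlg c U hU h1
    rw [coneImm_apply hz hi] at hc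
    have h2 := (emb pC chartC U hU).injective hc
    rw [← h2, ← Proj.opensRange_awayι _ _ (hz.deg_z U hU) one_pos]
    exact ⟨_, rfl⟩
  · intro hw
    obtain ⟨v₀, hv₀⟩ := exists_of_mem_basicOpen_z hz U hU w hw
    exact ⟨(𝒮.toQCAlg.ι U hU) v₀, by rw [coneImm_apply hz hi, hv₀]⟩

end

end Groth.Agent.Helper1.PC
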