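import Mathlib
import Groth.Agent.Helper1.PC8

/-!
# Projective cones, part 9: the pointed projective cone is the complement of the vertex
-/

set_option autoImplicit false
set_option linter.style.haveILetI false

namespace Groth.Agent.Helper1.PC

open CategoryTheory Limits AlgebraicGeometry TopologicalSpace Opposite RelProj RelCone
  HomogeneousLocalization DirectSum Groth.Agent.Helper1.RP Groth.Agent.Helper1.CN
open scoped HomogeneousIdeal

universe u

noncomputable section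

variable {Y PC : Scheme.{u}} {𝒮 𝒮h : QCGrAlg Y} {ι : 𝒮.toQCAlg ⟶ 𝒮h.toQCAlg}
  {z : 𝒮h.presheaf.obj (op ⊤)} (hz : IsPolyOver 𝒮 𝒮h ι z)
  {pC : PC ⟶ Y}
  {chartC : ∀ (U : Y.Opens) (hU : IsAffineOpen U),
    (((pC ⁻¹ᵁ U : PC.Opens) : Scheme.{u}) ≅ Proj (𝒮h.deg U hU))}

theorem aug_str (aug : 𝒮.toQCAlg ⟶ RelSpec.QCAlg.unit Y) (U : Y.Opens) (r : Γ(Y, U)) :
    (aug.hom.app (op U)).hom ((𝒮.str.app (op U)).hom r) = r := by
  have := congrArg (fun t => (t.app (op U)).hom r) aug.comm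
  exact this

/-- `str ∘ aug` as an endomorphism of `𝒮(U)` -/
def strAug (aug : 𝒮.toQCAlg ⟶ RelSpec.QCAlg.unit Y) (U : Y.Opens) :
    𝒮.presheaf.obj (op U) →+* 𝒮.presheaf.obj (op U) :=
  (𝒮.str.app (op U)).hom.comp
    (show 𝒮.presheaf.obj (op U) →+* Y.presheaf.obj (op U) from (aug.hom.app (op U)).hom)

theorem strAug_apply (aug : 𝒮.toQCAlg ⟶ RelSpec.QCAlg.unit Y) (U : Y.Opens)
    (a : 𝒮.presheaf.obj (op U)) :
    strAug aug U a = (𝒮.str.app (op U)).hom ((aug.hom.app (op U)).hom a) := rfl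

/-- modulo an ideal containing the homogeneous elements of positive degree, every element is
its augmentation -/
theorem sub_str_aug_mem (h0 : StrZeroBij 𝒮) (aug : 𝒮.toQCAlg ⟶ RelSpec.QCAlg.unit Y)
    (haug : IsAugmentation 𝒮 aug) (U : Y.Opens) (hU : IsAffineOpen U)
    (J : Ideal (𝒮.presheaf.obj (op U)))
    (hJ : ∀ (d : ℕ) (_ : 0 < d) (f : 𝒮.presheaf.obj (op U)), f ∈ 𝒮.deg U hU d → f ∈ J)
    (a : 𝒮.presheaf.obj (op U)) :
    a - strAug aug U a ∈ J := by
  induction a using DirectSum.Decomposition.inductionOn (𝒮.deg U hU) with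
  | zero => rw [map_zero, sub_zero]; exact zero_mem _
  | @homogeneous n a =>
    rcases Nat.eq_zero_or_pos n with rfl | hn
    · obtain ⟨r, hr⟩ := (h0 U hU).2 a
      have hr' : (𝒮.str.app (op U)).hom r = (a : 𝒮.presheaf.obj (op U)) := by
        rw [← hr]; rfl
      rw [← hr', strAug_apply, aug_str, sub_self]
      exact zero_mem _
    · obtain ⟨m, rfl⟩ : ∃ m, n = m + 1 := ⟨n - 1, by omega⟩
      have h1 : strAug aug U (a : 𝒮.presheaf.obj (op U)) = 0 := by
        rw [strAug_apply, haug U hU m _ a.2]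
        exact map_zero _
      rw [h1, sub_zero]
      exact hJ _ hn _ a.2
  | add a b ha hb =>
    have : a + b - strAug aug U (a + b) = (a - strAug aug U a) + (b - strAug aug U b) := by
      rw [map_add]; ring
    rw [this]
    exact J.add_mem ha hb

/-- the local form: over an affine open -/
theorem emb_mem_pointedProjCone_iff (h0 : StrZeroBij 𝒮) (hPC : IsRelProj 𝒮h pC chartC)
    (aug : 𝒮.toQCAlg ⟶ RelSpec.QCAlg.unit Y) (haug : IsAugmentation 𝒮 aug)
    (ε : Y ⟶ 𝒮.toQCAlg.spec) (hε : IsVertex 𝒮 aug ε)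
    (i : 𝒮.toQCAlg.spec ⟶ PC) (hi : IsConeImm 𝒮 hz pC chartC i)
    (U : Y.Opens) (hU : IsAffineOpen U) (w : Proj (𝒮h.deg U hU)) :
    (emb pC chartC U hU) w ∈ ((pointedProjCone 𝒮 hz pC chartC : PC.Opens) : Set PC) ↔
      (emb pC chartC U hU) w ∉ Set.range (ε ≫ i) := by
  have e1 : (emb pC chartC U hU) w ∈ ((pointedProjCone 𝒮 hz pC chartC : PC.Opens) : Set PC) ↔
      w ∈ domOpen (gradedHomAt ι hz.graded U hU) := by
    constructor
    · intro h
      have h1 : (emb pC chartC U hU) w ∈ pointedProjCone 𝒮 hz pC chartC ⊓ pC ⁻¹ᵁ U :=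
        ⟨h, emb_mem pC chartC U hU w⟩
      rw [pointedProjCone_inf_preimage hz hPC U hU] at h1
      obtain ⟨w', hw', hww'⟩ := h1
      rw [← (emb pC chartC U hU).injective hww']
      exact hw'
    · intro h
      have h1 : (emb pC chartC U hU) w ∈
          (emb pC chartC U hU) ''ᵁ domOpen (gradedHomAt ι hz.graded U hU) := ⟨w, h, rfl⟩
      rw [← pointedProjCone_inf_preimage hz hPC U hU] at h1
      exact h1.1
  rw [e1, iff_not_comm, mem_domOpen_iff_homog]
  refine ⟨?_, ?_⟩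
  rotate_left
  · -- not in the pointed cone ⇒ on the vertex
    intro hw
    push_neg at hw
    have hzw : restrictTop 𝒮h z U ∉ w.asHomogeneousIdeal := by
      rcases notMem_or_exists (gradedHomAt ι hz.graded U hU) (restrictTop 𝒮h z U)
        (hz.deg_z U hU) (hz.bij U hU).2 w with h1 | ⟨n, hn, a, ha, h1⟩
      · exact h1
      · exact absurd h1 (hw n hn a ha)
    obtain ⟨v₀, hv₀⟩ := exists_of_mem_basicOpen_z hz U hU w hzw
    have hv : ∀ (d : ℕ) (_ : 0 < d) (f : 𝒮.presheaf.obj (op U)), f ∈ 𝒮.deg U hU d →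
        f ∈ v₀.asIdeal := by
      intro d hd f hf
      by_contra hcon
      have := (coneImm_mem_basicOpen_iff hz U hU hd f hf v₀).2 hcon
      rw [hv₀] at this
      exact hw d hd f hf this
    -- the point of the base
    let y₀ : Spec Γ(Y, U) := (Spec.map (𝒮.str.app (op U))) v₀
    have hy₀ : (Spec.map (aug.hom.app (op U))) y₀ = v₀ := by
      apply PrimeSpectrum.ext
      ext a
      change strAug aug U a ∈ v₀.asIdeal ↔ a ∈ v₀.asIdeal
      have h1 := sub_str_aug_mem h0 aug haug U hU v₀.asIdeal hv a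
      constructor
      · intro h2
        have := v₀.asIdeal.add_mem h1 h2
        rwa [sub_add_cancel] at this
      · intro h2
        have := v₀.asIdeal.sub_mem h2 h1
        rwa [sub_sub_cancel] at this
    refine ⟨hU.fromSpec y₀, ?_⟩
    have h1 : (ε ≫ i) (hU.fromSpec y₀) = i ((hU.fromSpec ≫ ε) y₀) := rfl
    have h2 : (hU.fromSpec ≫ ε) y₀ = (𝒮.toQCAlg.ι U hU) ((Spec.map (aug.hom.app (op U))) y₀) :=
      congrArg (fun t : _ ⟶ 𝒮.toQCAlg.spec => t y₀) (hε.chart U hU)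
    rw [h1, h2, hy₀, coneImm_apply hz hi, hv₀]
  · -- on the vertex ⇒ not in the pointed cone
    rintro ⟨y, hy⟩ ⟨d, hd, f, hf, hfw⟩
    have hyU : y ∈ U := by
      have h1 : pC ((ε ≫ i) y) = y := by
        have := congrArg (fun t : Y ⟶ Y => t y)
          (show (ε ≫ i) ≫ pC = 𝟙 Y by
            rw [Category.assoc, coneImm_comm hz hPC hi, hε.comp_π])
        exact this
      rw [← h1, hy]
      exact emb_mem pC chartC U hU w
    have hy' : y ∈ Set.range hU.fromSpec := by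
      rw [hU.range_fromSpec]; exact hyU
    obtain ⟨y₀, rfl⟩ := hy'
    have h1 : (ε ≫ i) (hU.fromSpec y₀) = i ((hU.fromSpec ≫ ε) y₀) := rfl
    have h2 : (hU.fromSpec ≫ ε) y₀ = (𝒮.toQCAlg.ι U hU) ((Spec.map (aug.hom.app (op U))) y₀) :=
      congrArg (fun t : _ ⟶ 𝒮.toQCAlg.spec => t y₀) (hε.chart U hU)
    rw [h1, h2, coneImm_apply hz hi] at hy
    have h3 := (emb pC chartC U hU).injective hy
    rw [← h3, coneImm_mem_basicOpen_iff hz U hU hd f hf] at hfw
    apply hfw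
    show (aug.hom.app (op U)).hom f ∈ y₀.asIdeal
    obtain ⟨m, rfl⟩ : ∃ m, d = m + 1 := ⟨d - 1, by omega⟩
    rw [haug U hU m f hf]
    exact zero_mem _

/-- **the pointed projective cone is the complement of the vertex** -/
theorem pointedProjCone_eq_compl (h0 : StrZeroBij 𝒮) (hPC : IsRelProj 𝒮h pC chartC)
    (aug : 𝒮.toQCAlg ⟶ RelSpec.QCAlg.unit Y) (haug : IsAugmentation 𝒮 aug)
    (ε : Y ⟶ 𝒮.toQCAlg.spec) (hε : IsVertex 𝒮 aug ε)
    (i : 𝒮.toQCAlg.spec ⟶ PC) (hi : IsConeImm 𝒮 hz pC chartC i) :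
    ((pointedProjCone 𝒮 hz pC chartC : PC.Opens) : Set PC) = (Set.range (ε ≫ i))ᶜ := by
  ext x
  obtain ⟨U, hU, hxU, -⟩ := Groth.Agent.Helper1.SQ.exists_affine_le (pC x) ⊤ trivial
  have hx' : x ∈ (emb pC chartC U hU).opensRange := by
    rw [opensRange_emb]; exact hxU
  obtain ⟨w, rfl⟩ := hx'
  exact emb_mem_pointedProjCone_iff hz h0 hPC aug haug ε hε i hi U hU w

end

end Groth.Agent.Helper1.PC
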