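import Mathlib
import Groth.Agent.Helper1.PC9

/-!
# Affine cones, part 1: the pointed affine cone, chart by chart
-/

set_option autoImplicit false
set_option linter.style.haveILetI false

namespace Groth.Agent.Helper1.AC

open CategoryTheory Limits AlgebraicGeometry TopologicalSpace Opposite RelProj RelCone
  HomogeneousLocalization DirectSum Groth.Agent.Helper1.RP Groth.Agent.Helper1.PC
open scoped HomogeneousIdeal

universe u

noncomputable section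

section ring

variable {R : CommRingCat.{u}} (𝒜 : ℕ → AddSubgroup R) [GradedRing 𝒜]

theorem mem_vertexCompl_iff (v : Spec R) :
    v ∈ vertexCompl 𝒜 ↔ ∃ f ∈ (HomogeneousIdeal.irrelevant 𝒜).toIdeal, f ∉ v.asIdeal := by
  have e : v ∈ vertexCompl 𝒜 ↔
      ¬ (((HomogeneousIdeal.irrelevant 𝒜).toIdeal : Set R) ⊆ (v.asIdeal : Set R)) := Iff.rfl
  rw [e, Set.not_subset]
  rfl

theorem mem_vertexCompl_iff_homog (v : Spec R) :
    v ∈ vertexCompl 𝒜 ↔ ∃ (d : ℕ) (_ : 0 < d) (f : R) (_ : f ∈ 𝒜 d), f ∉ v.asIdeal := by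
  rw [mem_vertexCompl_iff]
  constructor
  · rintro ⟨f, hf, hfv⟩
    obtain ⟨i, hi, hx⟩ := exists_pos_deg_notMem (𝒜 := 𝒜) (RingHom.id R) f hf v.asIdeal hfv
    exact ⟨i, hi, _, SetLike.coe_mem _, hx⟩
  · rintro ⟨d, hd, f, hf, hfv⟩
    exact ⟨f, HomogeneousIdeal.mem_irrelevant_of_mem _ hd hf, hfv⟩

end ring

variable {Y : Scheme.{u}} (𝒮 : QCGrAlg Y)

/-- restriction of charts of the relative spectrum -/
theorem ι_res' (UU WW : Y.AffineZariskiSite) (i' : WW ≤ UU) :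
    Spec.map (𝒮.presheaf.map (homOfLE (Scheme.AffineZariskiSite.toOpens_mono i')).op) ≫
      𝒮.toQCAlg.ι UU.1 UU.2 = 𝒮.toQCAlg.ι WW.1 WW.2 :=
  𝒮.toQCAlg.ι_res (U := UU) (V := WW) (homOfLE i')

theorem ι_res_basicOpen {U : Y.Opens} (hU : IsAffineOpen U) (s : Γ(Y, U)) {W : Y.Opens}
    (hW : IsAffineOpen W) (e : Y.basicOpen s = W) (i : W ≤ U) :
    Spec.map (𝒮.presheaf.map (homOfLE i).op) ≫ 𝒮.toQCAlg.ι U hU = 𝒮.toQCAlg.ι W hW :=
  ι_res' 𝒮 (⟨U, hU⟩ : Y.AffineZariskiSite) (⟨W, hW⟩ : Y.AffineZariskiSite) ⟨s, e⟩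

/-- **chart independence of the pointed affine cone** -/
theorem ι_mem_pointedCone_iff (U : Y.Opens) (hU : IsAffineOpen U)
    (v₁ : Spec (𝒮.presheaf.obj (op U))) :
    (𝒮.toQCAlg.ι U hU) v₁ ∈ pointedCone 𝒮 ↔ v₁ ∈ vertexCompl (𝒮.deg U hU) := by
  constructor
  · intro hx
    unfold pointedCone at hx
    obtain ⟨⟨V, hV⟩, v, hv, hvx⟩ := TopologicalSpace.Opens.mem_iSup.mp hx
    have hv' : v ∈ vertexCompl (𝒮.deg V hV) := hv
    have hvx' : (𝒮.toQCAlg.ι V hV) v = (𝒮.toQCAlg.ι U hU) v₁ := hvx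
    -- a common basic open
    have hyU : 𝒮.toQCAlg.π ((𝒮.toQCAlg.ι U hU) v₁) ∈ U := ι_mem 𝒮.toQCAlg U hU v₁
    have hyV : 𝒮.toQCAlg.π ((𝒮.toQCAlg.ι U hU) v₁) ∈ V := by
      rw [← hvx']; exact ι_mem 𝒮.toQCAlg V hV v
    obtain ⟨s, t, hst, hys⟩ := exists_basicOpen_le_affine_inter hU hV _ ⟨hyU, hyV⟩
    have hW : IsAffineOpen (Y.basicOpen s) := hU.basicOpen s
    have iWV : Y.basicOpen s ≤ V := hst ▸ Y.basicOpen_le t
    obtain ⟨v₂, hv₂⟩ := exists_ι_of_mem 𝒮.toQCAlg _ (Y.basicOpen s) hW hys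
    have h1 : (Spec.map (𝒮.presheaf.map (homOfLE (Y.basicOpen_le s)).op)) v₂ = v₁ := by
      apply (𝒮.toQCAlg.ι U hU).injective
      rw [← hv₂, ← ι_res_basicOpen 𝒮 hU s hW rfl (Y.basicOpen_le s)]
      rfl
    have h2 : (Spec.map (𝒮.presheaf.map (homOfLE iWV).op)) v₂ = v := by
      apply (𝒮.toQCAlg.ι V hV).injective
      rw [hvx', ← hv₂, ← ι_res_basicOpen 𝒮 hV t hW hst.symm iWV]
      rfl
    rw [mem_vertexCompl_iff_homog] at hv'
    obtain ⟨d, hd, f, hf, hfv⟩ := hv'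
    -- `g := res f` is a homogeneous element of positive degree outside `v₂`
    have hg : (𝒮.presheaf.map (homOfLE iWV).op).hom f ∉ v₂.asIdeal := by
      rw [← h2] at hfv
      exact hfv
    have hg' : (𝒮.presheaf.map (homOfLE iWV).op).hom f ∈
        ((𝒮.deg (Y.basicOpen s) hW)₊).toIdeal :=
      HomogeneousIdeal.mem_irrelevant_of_mem _ hd ((𝒮.res hV hW iWV).map_mem hf)
    have h3 := 𝒮.irrelevant_le_map U hU s hg'
    rw [mem_vertexCompl_iff]
    by_contra hcon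
    push Not at hcon
    apply hg
    have h4 : Ideal.map (𝒮.res hU hW (Y.basicOpen_le s))
        ((𝒮.deg U hU)₊).toIdeal ≤ v₂.asIdeal := by
      rw [Ideal.map_le_iff_le_comap]
      intro a ha
      have := hcon a ha
      rw [← h1] at this
      exact this
    exact h4 h3
  · intro hv
    unfold pointedCone
    exact TopologicalSpace.Opens.mem_iSup.mpr ⟨⟨U, hU⟩, v₁, hv, rfl⟩

end

end Groth.Agent.Helper1.AC
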