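import Mathlib
import Groth.Agent.Helper1.AC1

/-!
# Affine cones, part 2: the pointed affine cone is the complement of the vertex section
-/

set_option autoImplicit false
set_option linter.style.haveILetI false

namespace Groth.Agent.Helper1.AC

open CategoryTheory Limits AlgebraicGeometry TopologicalSpace Opposite RelProj RelCone
  HomogeneousLocalization DirectSum Groth.Agent.Helper1.RP Groth.Agent.Helper1.PC
open scoped HomogeneousIdeal

universe u

noncomputable section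

variable {Y : Scheme.{u}} {𝒮 : QCGrAlg Y}

/-- a prime containing the homogeneous elements of positive degree comes from the base -/
theorem specMap_aug_specMap_str (h0 : StrZeroBij 𝒮) (aug : 𝒮.toQCAlg ⟶ RelSpec.QCAlg.unit Y)
    (haug : IsAugmentation 𝒮 aug) (U : Y.Opens) (hU : IsAffineOpen U)
    (v₀ : Spec (𝒮.presheaf.obj (op U)))
    (hv : ∀ (d : ℕ) (_ : 0 < d) (f : 𝒮.presheaf.obj (op U)), f ∈ 𝒮.deg U hU d →
      f ∈ v₀.asIdeal) :
    (Spec.map (aug.hom.app (op U))) ((Spec.map (𝒮.str.app (op U))) v₀) = v₀ := by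
  apply PrimeSpectrum.ext
  ext a
  change strAug aug U a ∈ v₀.asIdeal ↔ a ∈ v₀.asIdeal
  have h1 := sub_str_aug_mem h0 aug haug U hU v₀.asIdeal hv a
  constructor
  · intro h2
    have := v₀.asIdeal.add_mem h1 h2
    rwa [sub_add_cancel] at this
  · intro h2
    have := v₀.asIdeal.sub_mem h2 h1
    rwa [sub_sub_cancel] at this

theorem vertex_apply (aug : 𝒮.toQCAlg ⟶ RelSpec.QCAlg.unit Y)
    (ε : Y ⟶ 𝒮.toQCAlg.spec) (hε : IsVertex 𝒮 aug ε) (U : Y.Opens) (hU : IsAffineOpen U)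
    (y₀ : Spec Γ(Y, U)) :
    ε (hU.fromSpec y₀) = (𝒮.toQCAlg.ι U hU) ((Spec.map (aug.hom.app (op U))) y₀) :=
  congrArg (fun t : _ ⟶ 𝒮.toQCAlg.spec => t y₀) (hε.chart U hU)

/-- the vertex section, chart by chart -/
theorem ι_mem_range_vertex_iff (h0 : StrZeroBij 𝒮) (aug : 𝒮.toQCAlg ⟶ RelSpec.QCAlg.unit Y)
    (haug : IsAugmentation 𝒮 aug) (ε : Y ⟶ 𝒮.toQCAlg.spec) (hε : IsVertex 𝒮 aug ε)
    (U : Y.Opens) (hU : IsAffineOpen U) (v : Spec (𝒮.presheaf.obj (op U))) :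
    (𝒮.toQCAlg.ι U hU) v ∈ Set.range ε ↔ v ∉ vertexCompl (𝒮.deg U hU) := by
  rw [mem_vertexCompl_iff_homog]
  constructor
  · rintro ⟨y, hy⟩ ⟨d, hd, f, hf, hfv⟩
    have hyU : y ∈ U := by
      have h1 : 𝒮.toQCAlg.π (ε y) = y := congrArg (fun t : Y ⟶ Y => t y) hε.comp_π
      rw [← h1, hy]
      exact ι_mem 𝒮.toQCAlg U hU v
    have hy' : y ∈ Set.range hU.fromSpec := by
      rw [hU.range_fromSpec]; exact hyU
    obtain ⟨y₀, rfl⟩ := hy'
    rw [vertex_apply aug ε hε U hU] at hy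
    have h3 := (𝒮.toQCAlg.ι U hU).injective hy
    apply hfv
    rw [← h3]
    show (aug.hom.app (op U)).hom f ∈ y₀.asIdeal
    obtain ⟨m, rfl⟩ : ∃ m, d = m + 1 := ⟨d - 1, by omega⟩
    rw [haug U hU m f hf]
    exact zero_mem _
  · intro hv
    push Not at hv
    refine ⟨hU.fromSpec ((Spec.map (𝒮.str.app (op U))) v), ?_⟩
    rw [vertex_apply aug ε hε U hU, specMap_aug_specMap_str h0 aug haug U hU v hv]

/-- **the pointed affine cone is the complement of the vertex section** -/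
theorem pointedCone_eq_compl (h0 : StrZeroBij 𝒮) (aug : 𝒮.toQCAlg ⟶ RelSpec.QCAlg.unit Y)
    (haug : IsAugmentation 𝒮 aug) (ε : Y ⟶ 𝒮.toQCAlg.spec) (hε : IsVertex 𝒮 aug ε) :
    ((pointedCone 𝒮 : 𝒮.toQCAlg.spec.Opens) : Set 𝒮.toQCAlg.spec) = (Set.range ε)ᶜ := by
  ext x
  obtain ⟨U, hU, v, rfl⟩ := exists_ι 𝒮.toQCAlg x
  rw [Set.mem_compl_iff, ι_mem_range_vertex_iff h0 aug haug ε hε U hU v, not_not]
  exact ι_mem_pointedCone_iff 𝒮 U hU v

end

end Groth.Agent.Helper1.AC
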