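import Mathlib
import Groth.Agent.Helper1.AC2

/-!
# Affine cones, part 3: inverse images of pointed affine cones under `Spec(φ)`
-/

set_option autoImplicit false
set_option linter.style.haveILetI false

namespace Groth.Agent.Helper1.AC

open CategoryTheory Limits AlgebraicGeometry TopologicalSpace Opposite RelProj RelCone
  HomogeneousLocalization DirectSum Groth.Agent.Helper1.RP Groth.Agent.Helper1.PC
open scoped HomogeneousIdeal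

universe u

noncomputable section

variable {Y Y' : Scheme.{u}} {𝒮 : QCGrAlg Y} {𝒮' : QCGrAlg Y'}

/-- the local criterion -/
theorem map_ι_mem_pointedCone_iff (U : Y.Opens) (hU : IsAffineOpen U) (U' : Y'.Opens)
    (hU' : IsAffineOpen U') (ψ : 𝒮.presheaf.obj (op U) ⟶ 𝒮'.presheaf.obj (op U'))
    (φ : 𝒮.deg U hU →+*ᵍ 𝒮'.deg U' hU') (hφ : φ.toRingHom = ψ.hom)
    (Φ : 𝒮'.toQCAlg.spec ⟶ 𝒮.toQCAlg.spec)
    (hΦ : 𝒮'.toQCAlg.ι U' hU' ≫ Φ = Spec.map ψ ≫ 𝒮.toQCAlg.ι U hU)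
    (v' : Spec (𝒮'.presheaf.obj (op U'))) :
    Φ ((𝒮'.toQCAlg.ι U' hU') v') ∈ pointedCone 𝒮 ↔
      ∃ (d : ℕ) (_ : 0 < d) (f : 𝒮.presheaf.obj (op U)) (_ : f ∈ 𝒮.deg U hU d),
        φ f ∉ v'.asIdeal := by
  have h1 : Φ ((𝒮'.toQCAlg.ι U' hU') v') = (𝒮.toQCAlg.ι U hU) ((Spec.map ψ) v') :=
    congrArg (fun t : _ ⟶ 𝒮.toQCAlg.spec => t v') hΦ
  rw [h1, ι_mem_pointedCone_iff, mem_vertexCompl_iff_homog]
  have h2 : ∀ f, φ f = ψ.hom f := fun f => congrArg (fun t : _ →+* _ => t f) hφ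
  constructor
  · rintro ⟨d, hd, f, hf, hfv⟩
    refine ⟨d, hd, f, hf, ?_⟩
    rw [h2]
    exact hfv
  · rintro ⟨d, hd, f, hf, hfv⟩
    refine ⟨d, hd, f, hf, ?_⟩
    rw [h2] at hfv
    exact hfv

variable {q : Y' ⟶ Y}

/-- `Φ⁻¹(E) ⊆ E'` -/
theorem preimage_pointedCone_le
    (ψ : ∀ (U : Y.Opens) (U' : Y'.Opens) (_ : U' ≤ q ⁻¹ᵁ U),
      𝒮.presheaf.obj (op U) ⟶ 𝒮'.presheaf.obj (op U'))
    (φ : ∀ (U : Y.Opens) (hU : IsAffineOpen U) (U' : Y'.Opens) (hU' : IsAffineOpen U')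
      (_ : U' ≤ q ⁻¹ᵁ U), 𝒮.deg U hU →+*ᵍ 𝒮'.deg U' hU')
    (hφ : ∀ (U : Y.Opens) (hU : IsAffineOpen U) (U' : Y'.Opens) (hU' : IsAffineOpen U')
      (hle : U' ≤ q ⁻¹ᵁ U), (φ U hU U' hU' hle).toRingHom = (ψ U U' hle).hom)
    (Φ : 𝒮'.toQCAlg.spec ⟶ 𝒮.toQCAlg.spec)
    (hΦ : ∀ (U : Y.Opens) (hU : IsAffineOpen U) (U' : Y'.Opens) (hU' : IsAffineOpen U')
      (hle : U' ≤ q ⁻¹ᵁ U), 𝒮'.toQCAlg.ι U' hU' ≫ Φ = Spec.map (ψ U U' hle) ≫ 𝒮.toQCAlg.ι U hU) :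
    Φ ⁻¹ᵁ pointedCone 𝒮 ≤ pointedCone 𝒮' := by
  intro x' hx'
  obtain ⟨U, hU, U', hU', hle, hxU'⟩ := exists_pair (g := q) (𝒮'.toQCAlg.π x')
  obtain ⟨v', rfl⟩ := exists_ι_of_mem 𝒮'.toQCAlg x' U' hU' hxU'
  have h1 : Φ ((𝒮'.toQCAlg.ι U' hU') v') ∈ pointedCone 𝒮 := hx'
  rw [map_ι_mem_pointedCone_iff U hU U' hU' (ψ U U' hle) (φ U hU U' hU' hle)
    (hφ U hU U' hU' hle) Φ (hΦ U hU U' hU' hle)] at h1
  obtain ⟨d, hd, f, hf, hfv⟩ := h1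
  rw [ι_mem_pointedCone_iff, mem_vertexCompl_iff_homog]
  exact ⟨d, hd, _, (φ U hU U' hU' hle).map_mem hf, hfv⟩

/-- the point of `Proj` given by the homogeneous core of a prime not containing the irrelevant
ideal -/
def corePt {R : CommRingCat.{u}} (𝒜 : ℕ → AddSubgroup R) [GradedRing 𝒜] (v : Spec R)
    (hv : v ∈ vertexCompl 𝒜) : Proj 𝒜 :=
  (⟨v.asIdeal.homogeneousCore 𝒜, v.isPrime.homogeneousCore, by
    rw [mem_vertexCompl_iff_homog] at hv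
    obtain ⟨d, hd, f, hf, hfv⟩ := hv
    intro hle
    exact hfv (Ideal.toIdeal_homogeneousCore_le 𝒜 v.asIdeal
      (hle (HomogeneousIdeal.mem_irrelevant_of_mem _ hd hf)))⟩ : ProjectiveSpectrum 𝒜)

theorem mem_corePt_iff {R : CommRingCat.{u}} (𝒜 : ℕ → AddSubgroup R) [GradedRing 𝒜] (v : Spec R)
    (hv : v ∈ vertexCompl 𝒜) {d : ℕ} {f : R} (hf : f ∈ 𝒜 d) :
    f ∈ (corePt 𝒜 v hv).asHomogeneousIdeal ↔ f ∈ v.asIdeal := by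
  constructor
  · intro h
    exact Ideal.toIdeal_homogeneousCore_le 𝒜 v.asIdeal h
  · intro h
    exact Ideal.mem_homogeneousCore_of_homogeneous_of_mem ⟨d, hf⟩ h

/-- the point of `Spec` given by a point of `Proj` -/
def specPt {R : CommRingCat.{u}} (𝒜 : ℕ → AddSubgroup R) [GradedRing 𝒜] (w : Proj 𝒜) : Spec R :=
  let y : ProjectiveSpectrum 𝒜 := w
  (⟨y.asHomogeneousIdeal.toIdeal, y.isPrime⟩ : PrimeSpectrum R)

theorem specPt_mem_vertexCompl {R : CommRingCat.{u}} (𝒜 : ℕ → AddSubgroup R) [GradedRing 𝒜]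
    (w : Proj 𝒜) : specPt 𝒜 w ∈ vertexCompl 𝒜 := by
  rw [mem_vertexCompl_iff_homog]
  obtain ⟨e, he, b, hb, hbw⟩ := exists_homog_notMem w
  exact ⟨e, he, b, hb, hbw⟩

/-- **`Proj(φ)` is everywhere defined iff `Φ⁻¹(E) = E'`** -/
theorem domOpen_eq_top_iff_preimage_pointedCone
    (ψ : ∀ (U : Y.Opens) (U' : Y'.Opens) (_ : U' ≤ q ⁻¹ᵁ U),
      𝒮.presheaf.obj (op U) ⟶ 𝒮'.presheaf.obj (op U'))
    (φ : ∀ (U : Y.Opens) (hU : IsAffineOpen U) (U' : Y'.Opens) (hU' : IsAffineOpen U')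
      (_ : U' ≤ q ⁻¹ᵁ U), 𝒮.deg U hU →+*ᵍ 𝒮'.deg U' hU')
    (hφ : ∀ (U : Y.Opens) (hU : IsAffineOpen U) (U' : Y'.Opens) (hU' : IsAffineOpen U')
      (hle : U' ≤ q ⁻¹ᵁ U), (φ U hU U' hU' hle).toRingHom = (ψ U U' hle).hom)
    (Φ : 𝒮'.toQCAlg.spec ⟶ 𝒮.toQCAlg.spec)
    (hΦ : ∀ (U : Y.Opens) (hU : IsAffineOpen U) (U' : Y'.Opens) (hU' : IsAffineOpen U')
      (hle : U' ≤ q ⁻¹ᵁ U), 𝒮'.toQCAlg.ι U' hU' ≫ Φ = Spec.map (ψ U U' hle) ≫ 𝒮.toQCAlg.ι U hU) :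
    (∀ (U : Y.Opens) (hU : IsAffineOpen U) (U' : Y'.Opens) (hU' : IsAffineOpen U')
        (hle : U' ≤ q ⁻¹ᵁ U), domOpen (φ U hU U' hU' hle) = ⊤) ↔
      Φ ⁻¹ᵁ pointedCone 𝒮 = pointedCone 𝒮' := by
  constructor
  · intro htop
    apply le_antisymm (preimage_pointedCone_le ψ φ hφ Φ hΦ)
    intro x' hx'
    obtain ⟨U, hU, U', hU', hle, hxU'⟩ := exists_pair (g := q) (𝒮'.toQCAlg.π x')
    obtain ⟨v', rfl⟩ := exists_ι_of_mem 𝒮'.toQCAlg x' U' hU' hxU'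
    rw [ι_mem_pointedCone_iff] at hx'
    show Φ ((𝒮'.toQCAlg.ι U' hU') v') ∈ pointedCone 𝒮
    rw [map_ι_mem_pointedCone_iff U hU U' hU' (ψ U U' hle) (φ U hU U' hU' hle)
      (hφ U hU U' hU' hle) Φ (hΦ U hU U' hU' hle)]
    have h1 : corePt (𝒮'.deg U' hU') v' hx' ∈ domOpen (φ U hU U' hU' hle) := by
      rw [htop U hU U' hU' hle]; trivial
    rw [mem_domOpen_iff_homog] at h1
    obtain ⟨d, hd, f, hf, hfw⟩ := h1
    refine ⟨d, hd, f, hf, ?_⟩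
    intro hcon
    exact hfw ((mem_corePt_iff (𝒮'.deg U' hU') v' hx'
      ((φ U hU U' hU' hle).map_mem hf)).2 hcon)
  · intro heq U hU U' hU' hle
    rw [_root_.eq_top_iff]
    intro w _
    have h1 : (𝒮'.toQCAlg.ι U' hU') (specPt (𝒮'.deg U' hU') w) ∈ pointedCone 𝒮' := by
      rw [ι_mem_pointedCone_iff]
      exact specPt_mem_vertexCompl _ w
    rw [← heq] at h1
    have h2 : Φ ((𝒮'.toQCAlg.ι U' hU') (specPt (𝒮'.deg U' hU') w)) ∈ pointedCone 𝒮 := h1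
    rw [map_ι_mem_pointedCone_iff U hU U' hU' (ψ U U' hle) (φ U hU U' hU' hle)
      (hφ U hU U' hU' hle) Φ (hΦ U hU U' hU' hle)] at h2
    obtain ⟨d, hd, f, hf, hfv⟩ := h2
    rw [mem_domOpen_iff_homog]
    exact ⟨d, hd, f, hf, hfv⟩

end

end Groth.Agent.Helper1.AC
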