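import Groth.Agent.Helper1.NatCech4

set_option autoImplicit false

/-!
# The natural comparison theorem between Čech cohomology and cohomology on quasi-coherent modules
-/

namespace Groth.Agent.Helper1.NatCech

open CategoryTheory Limits Opposite TopologicalSpace AlgebraicGeometry Abelian
open Groth.Agent.Helper1.DeltaCmp Groth.Agent.Helper1.DeltaFun Groth.Agent.Helper1.Cech
open Groth.Agent.Helper1.CechTop Groth.Agent.Helper1.CohTopFun Groth.Agent.Helper1.CohTopExt
open Groth.Agent.Helper1.SerreCrit Groth.Agent.Helper1.Serre Groth.Agent.Helper1.CohTopCech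
open Groth.Agent.Lead.CohTopB Groth.Agent.Helper1.CechAug

universe u v' u'

variable {X : Scheme.{u}} {t : ℕ} (U : Fin t → X.Opens) {J : Type u'} [Category.{v'} J]

/-- the unit `G ⟶ G ⋙ E` -/
noncomputable def α (G : J ⥤ X.Modules) : G ⟶ G ⋙ E U where
  app j := (ιE U).app (G.obj j)
  naturality _ _ f := (ιE U).naturality (G.map f)

lemma mono_α (hcov : ⨆ k, U k = ⊤) (G : J ⥤ X.Modules) : Mono (α U G) := by
  haveI : ∀ j, Mono ((α U G).app j) := fun j => mono_ιE U hcov (G.obj j)
  exact NatTrans.mono_of_mono_app _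

/-- the effacing short complex `G → G ⋙ E → coker` -/
noncomputable def SC (G : J ⥤ X.Modules) : ShortComplex (J ⥤ X.Modules) :=
  ShortComplex.mk (α U G) (cokernel.π (α U G)) (cokernel.condition _)

lemma SC_shortExact (hcov : ⨆ k, U k = ⊤) (G : J ⥤ X.Modules) : (SC U G).ShortExact :=
  { exact := ShortComplex.exact_cokernel _
    mono_f := mono_α U hcov G
    epi_g := inferInstanceAs (Epi (cokernel.π (α U G))) }

variable (hU : ∀ k, IsAffineOpen (U k))
  (hd : ∀ V W : X.Opens, IsAffineOpen V → IsAffineOpen W → IsAffineOpen (V ⊓ W))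

include hU hd in
lemma isQuasicoherent_SC_X₃ (hcov : ⨆ k, U k = ⊤) (G : J ⥤ X.Modules)
    (hG : ∀ j, (G.obj j).IsQuasicoherent) (j : J) : ((SC U G).X₃.obj j).IsQuasicoherent := by
  have hS := shortExact_pointwise (SC U G) (SC_shortExact U hcov G) j
  haveI := hS.epi_g
  have hc := hS.exact.gIsCokernel
  have e : cokernel ((α U G).app j) ≅ (SC U G).X₃.obj j :=
    (colimit.isColimit _).coconePointUniqueUpToIso hc
  haveI := hG j
  haveI : ((G ⋙ E U).obj j).IsQuasicoherent := isQuasicoherent_E U hU hd (G.obj j)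
  haveI : (cokernel ((α U G).app j)).IsQuasicoherent :=
    Groth.Agent.Helper4.QcohLimits.isQuasicoherent_cokernel _
  exact Groth.Agent.Helper4.QcohLimits.isQuasicoherent_of_iso e

include hU hd in
/-- **Natural comparison**: for a functor `G` to `X.Modules` with quasi-coherent values, Čech
cohomology of a finite affine cover (with affine intersections) of `G` is naturally isomorphic to
cohomology of `G`. -/
theorem nonempty_natIso (hcov : ⨆ k, U k = ⊤) (G : J ⥤ X.Modules)
    (hG : ∀ j, (G.obj j).IsQuasicoherent) (n : ℕ) :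
    Nonempty (G ⋙ Φ X ⋙ cechHFun (Uc U) n ≅ G ⋙ (HD X).T n) := by
  let T : ℕ → (J ⥤ X.Modules) ⥤ (J ⥤ AddCommGrpCat.{u}) := fun n =>
    (Functor.whiskeringRight J X.Modules AddCommGrpCat.{u}).obj (Φ X ⋙ cechHFun (Uc U) n)
  let T' : ℕ → (J ⥤ X.Modules) ⥤ (J ⥤ AddCommGrpCat.{u}) := fun n =>
    (Functor.whiskeringRight J X.Modules AddCommGrpCat.{u}).obj ((HD X).T n)
  let 𝒜 : (J ⥤ X.Modules) → Prop := fun G => ∀ j, (G.obj j).IsQuasicoherent
  have e : T 0 ≅ T' 0 := (Functor.whiskeringRight J X.Modules AddCommGrpCat.{u}).mapIso (e₀ U hcov)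
  have key : ∀ F, 𝒜 F → Nonempty (Effacement T T' 𝒜 F) := by
    intro F hF
    have hS := SC_shortExact U hcov F
    refine ⟨{
      S := SC U F
      iso := rfl
      mem := fun j => isQuasicoherent_SC_X₃ U hU hd hcov F hF j
      zero := fun n => (Functor.isZero_iff _).2 fun j => isZero_cech_E U (F.obj j) n
      zero' := fun n => (Functor.isZero_iff _).2 fun j => by
        haveI := hF j
        exact isZero_HD_E U hU hd (F.obj j) n
      les := hasLES_cech_pointwise (Φ X) (SC U F) (fun j => by
        haveI : (((SC U F).map ((evaluation J X.Modules).obj j)).X₁).IsQuasicoherent := hF j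
        exact sectionwiseExact U hd hU _ (shortExact_pointwise _ hS j))
      les' := ((HD X).pointwise J).hasLES (SC U F) hS }⟩
  exact DeltaCmp.nonempty_iso 𝒜 e key n G hG

end Groth.Agent.Helper1.NatCech
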