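import Groth.Agent.Helper1.TensSec5
import Groth.Agent.Helper1.NatCech5

set_option autoImplicit false

/-!
# The Čech complex of an `O_X`-module over `Spec A`, as a complex of `A`-modules
-/

namespace Groth.Agent.Helper1.ACech

open CategoryTheory Limits Opposite TopologicalSpace AlgebraicGeometry TensorProduct
open Groth.Agent.Helper1.Cech Groth.Agent.Helper1.TensSec Groth.Agent.Helper1.NatCech

universe u

variable (A : Type u) [CommRing A] {X : Scheme.{u}} [X.Over (Spec (CommRingCat.of A))]
  {ι : Type u} (U : ι → X.Opens) (F : X.Modules)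

/-- `n`-cochains, as an `A`-module -/
abbrev Co (n : ℕ) : Type u := ∀ x : Fin (n + 1) → ι, SecA A F (prodU U x)

/-- the Čech differential, `A`-linearly -/
noncomputable def dA (n : ℕ) : Co A U F n →ₗ[A] Co A U F (n + 1) :=
  LinearMap.pi fun x => ∑ j : Fin (n + 2), (-1 : ℤ) ^ (j : ℕ) •
    (resA A F (face U j x)).comp (LinearMap.proj (x ∘ j.succAbove))

lemma dA_apply (n : ℕ) (c : Co A U F n) (x : Fin (n + 2) → ι) :
    dA A U F n c x = ∑ j : Fin (n + 2), (-1 : ℤ) ^ (j : ℕ) •
      resA A F (face U j x) (c (x ∘ j.succAbove)) := by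
  unfold dA
  rw [LinearMap.pi_apply, LinearMap.sum_apply]
  rfl

/-- cochains as elements of Mathlib's Čech complex -/
noncomputable def mkE (n : ℕ) : Co A U F n ≃+ (cx U ((Φ X).obj F)).X n where
  toFun c := Cech.mk (fun x => (c x : ((Φ X).obj F).obj (op (prodU U x))))
  invFun c x := comp U ((Φ X).obj F) n x c
  left_inv c := by
    funext x
    exact comp_mk _ x
  right_inv c := mk_comp c
  map_add' c c' := by
    apply Cech.ext
    intro x
    rw [map_add, comp_mk, comp_mk, comp_mk]
    rfl

lemma comp_mkE (n : ℕ) (c : Co A U F n) (x : Fin (n + 1) → ι) :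
    comp U ((Φ X).obj F) n x (mkE A U F n c) = c x := comp_mk _ x

lemma mkE_d (n : ℕ) (c : Co A U F n) :
    mkE A U F (n + 1) (dA A U F n c) = (cx U ((Φ X).obj F)).d n (n + 1) (mkE A U F n c) := by
  apply Cech.ext
  intro x
  rw [comp_mkE, comp_d, dA_apply]
  refine Finset.sum_congr rfl fun j _ => ?_
  rw [comp_mkE]
  rfl

lemma dA_dA (n : ℕ) (c : Co A U F n) : dA A U F (n + 1) (dA A U F n c) = 0 := by
  apply (mkE A U F (n + 2)).injective
  rw [mkE_d, mkE_d, map_zero]
  have := ConcreteCategory.congr_hom ((cx U ((Φ X).obj F)).d_comp_d n (n + 1) (n + 2)) (mkE A U F n c)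
  rw [ConcreteCategory.comp_apply] at this
  exact this

/-- **the Čech complex of `F` as a complex of `A`-modules** -/
noncomputable def CA : CochainComplex (ModuleCat.{u} A) ℕ :=
  CochainComplex.of (fun n => ModuleCat.of A (Co A U F n)) (fun n => ModuleCat.ofHom (dA A U F n))
    (fun n => by
      apply ModuleCat.hom_ext
      apply LinearMap.ext
      intro c
      exact dA_dA A U F n c)

lemma CA_X (n : ℕ) : (CA A U F).X n = ModuleCat.of A (Co A U F n) := rfl

lemma CA_d (n : ℕ) : (CA A U F).d n (n + 1) = ModuleCat.ofHom (dA A U F n) := by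
  unfold CA
  exact CochainComplex.of_d (fun n => ModuleCat.of A (Co A U F n))
    (fun n => ModuleCat.ofHom (dA A U F n)) n

end Groth.Agent.Helper1.ACech
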