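import Mathlib
import Groth.Prelude.Def_ega3

/-!
# The functors `T_p(M) = H_p(P ⊗ M)` of a complex of flat modules (EGA III §7): basics
-/

set_option autoImplicit false

namespace Groth.Agent.Helper1.FlatCx

open CategoryTheory CategoryTheory.Limits MonoidalCategory

universe u

variable {A : Type u} [CommRing A] {ι : Type} {c : ComplexShape ι}

/-- `M ↦ P ⊗ M` as a functor to complexes. -/
noncomputable def tensorFunctor (P : HomologicalComplex (ModuleCat.{u} A) c) :
    ModuleCat.{u} A ⥤ HomologicalComplex (ModuleCat.{u} A) c where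
  obj M := CohIII.tensorObj P M
  map g := CohIII.tensorMap P g
  map_id M := by
    have h : (tensoringRight (ModuleCat.{u} A)).map (𝟙 M) = 𝟙 _ :=
      (tensoringRight (ModuleCat.{u} A)).map_id M
    unfold CohIII.tensorMap
    rw [h, NatTrans.mapHomologicalComplex_id]
    rfl
  map_comp g h := by
    have e : (tensoringRight (ModuleCat.{u} A)).map (g ≫ h) =
        (tensoringRight _).map g ≫ (tensoringRight _).map h :=
      (tensoringRight (ModuleCat.{u} A)).map_comp g h
    unfold CohIII.tensorMap
    rw [e, NatTrans.mapHomologicalComplex_comp, NatTrans.comp_app]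

variable (P : HomologicalComplex (ModuleCat.{u} A) c)

lemma TFun_eq (p : ι) :
    CohIII.TFun P p = tensorFunctor P ⋙ HomologicalComplex.homologyFunctor _ c p := rfl

instance : (tensorFunctor P).PreservesZeroMorphisms where
  map_zero M N := by
    show CohIII.tensorMap P (0 : M ⟶ N) = 0
    unfold CohIII.tensorMap
    ext i
    simp
    rfl

instance : (tensorFunctor P).Additive where
  map_add {M N f g} := by
    show CohIII.tensorMap P (f + g) = CohIII.tensorMap P f + CohIII.tensorMap P g
    unfold CohIII.tensorMap
    ext i : 1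
    simp
    rfl

instance (p : ι) : (CohIII.TFun P p).Additive := by
  rw [TFun_eq]; infer_instance

/-- For a short exact sequence of modules and a complex of flat modules, the sequence of tensored
complexes is short exact. -/
lemma shortExact_map_tensorFunctor (hP : ∀ i, Module.Flat A (P.X i))
    {S : ShortComplex (ModuleCat.{u} A)} (hS : S.ShortExact) :
    (S.map (tensorFunctor P)).ShortExact := by
  apply HomologicalComplex.shortExact_of_degreewise_shortExact
  intro i
  haveI := hP i
  exact hS.map_of_exact (tensorLeft (P.X i))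


section LES

variable (hP : ∀ i, Module.Flat A (P.X i)) {S : ShortComplex (ModuleCat.{u} A)} (hS : S.ShortExact)

/-- The connecting homomorphism `T_i(M'') ⟶ T_j(M')`. -/
noncomputable def δ (i j : ι) (hij : c.Rel i j) :
    (CohIII.TFun P i).obj S.X₃ ⟶ (CohIII.TFun P j).obj S.X₁ :=
  (shortExact_map_tensorFunctor P hP hS).δ i j hij

lemma δ_comp (i j : ι) (hij : c.Rel i j) :
    δ P hP hS i j hij ≫ (CohIII.TFun P j).map S.f = 0 :=
  (shortExact_map_tensorFunctor P hP hS).δ_comp i j hij

lemma comp_δ (i j : ι) (hij : c.Rel i j) :
    (CohIII.TFun P i).map S.g ≫ δ P hP hS i j hij = 0 :=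
  (shortExact_map_tensorFunctor P hP hS).comp_δ i j hij

lemma exact₁ (i j : ι) (hij : c.Rel i j) :
    (ShortComplex.mk _ _ (δ_comp P hP hS i j hij)).Exact :=
  (shortExact_map_tensorFunctor P hP hS).homology_exact₁ i j hij

include hP hS in
lemma exact₂ (i : ι) :
    (ShortComplex.mk ((CohIII.TFun P i).map S.f) ((CohIII.TFun P i).map S.g)
      (by rw [← Functor.map_comp, S.zero, Functor.map_zero])).Exact :=
  (shortExact_map_tensorFunctor P hP hS).homology_exact₂ i

lemma exact₃ (i j : ι) (hij : c.Rel i j) :
    (ShortComplex.mk _ _ (comp_δ P hP hS i j hij)).Exact :=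
  (shortExact_map_tensorFunctor P hP hS).homology_exact₃ i j hij

end LES

/-- EGA III 7.3.1 (a) ⇔ (b): `T_i` preserves epimorphisms iff `T_j` preserves monomorphisms. -/
theorem preservesEpi_iff_preservesMono (hP : ∀ i, Module.Flat A (P.X i)) (i j : ι)
    (hij : c.Rel i j) :
    (CohIII.TFun P i).PreservesEpimorphisms ↔ (CohIII.TFun P j).PreservesMonomorphisms := by
  constructor
  · intro h
    refine ⟨fun {M' M} f hf => ?_⟩
    have hS : (ShortComplex.cokernelSequence f).ShortExact :=
      ShortComplex.ShortExact.mk' (ShortComplex.cokernelSequence_exact f) hf inferInstance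
    have hepi : Epi ((CohIII.TFun P i).map (ShortComplex.cokernelSequence f).g) :=
      h.preserves _
    have h0 : δ P hP hS i j hij = 0 := by
      rw [← cancel_epi ((CohIII.TFun P i).map (ShortComplex.cokernelSequence f).g), comp_δ,
        comp_zero]
    exact (exact₁ P hP hS i j hij).mono_g_iff.mpr h0
  · intro h
    refine ⟨fun {M M''} g hg => ?_⟩
    have hS : (ShortComplex.kernelSequence g).ShortExact :=
      ShortComplex.ShortExact.mk' (ShortComplex.kernelSequence_exact g) inferInstance hg
    have hmono : Mono ((CohIII.TFun P j).map (ShortComplex.kernelSequence g).f) :=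
      h.preserves _
    have h0 : δ P hP hS i j hij = 0 := by
      rw [← cancel_mono ((CohIII.TFun P j).map (ShortComplex.kernelSequence g).f), δ_comp,
        zero_comp]
    exact (exact₃ P hP hS i j hij).epi_f_iff.mpr h0

end Groth.Agent.Helper1.FlatCx
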