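import Groth.Agent.Helper1.ACech1
import Groth.Agent.Helper1.FlatCxBasic

set_option autoImplicit false

/-!
# The Čech complex of `f^*(M~) ⊗ F` is `CA ⊗_A M`
-/

namespace Groth.Agent.Helper1.ACech

open CategoryTheory Limits Opposite TopologicalSpace AlgebraicGeometry TensorProduct
open Groth.Agent.Helper1.Cech Groth.Agent.Helper1.TensSec Groth.Agent.Helper1.NatCech

universe u

variable (A : Type u) [CommRing A] {X : Scheme.{u}} [X.Over (Spec (CommRingCat.of A))]
  {ι : Type u} [Fintype ι] [DecidableEq ι] (U : ι → X.Opens) (F : X.Modules)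

/-- the product of the canonical maps -/
noncomputable def piC (M : ModuleCat.{u} A) (n : ℕ) :
    (∀ x : Fin (n + 1) → ι, SecA A F (prodU U x) ⊗[A] M) →+ Co A U (GM A F M) n :=
  AddMonoidHom.pi fun x => (cMap A F M (prodU U x)).comp (Pi.evalAddMonoidHom _ x)

lemma piC_apply (M : ModuleCat.{u} A) (n : ℕ)
    (z : ∀ x : Fin (n + 1) → ι, SecA A F (prodU U x) ⊗[A] M) (x : Fin (n + 1) → ι) :
    piC A U F M n z x = cMap A F M (prodU U x) (z x) := rfl

lemma piC_bijective (M : ModuleCat.{u} A) (n : ℕ)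
    (h : ∀ x : Fin (n + 1) → ι, Function.Bijective (cMap A F M (prodU U x))) :
    Function.Bijective (piC A U F M n) := by
  constructor
  · intro z z' hz
    funext x
    exact (h x).1 (congrFun hz x)
  · intro w
    choose z hz using fun x => (h x).2 (w x)
    exact ⟨z, funext hz⟩

/-- the comparison map `Cⁿ(F) ⊗_A M → Cⁿ(f^*(M~) ⊗ F)` -/
noncomputable def θ (M : ModuleCat.{u} A) (n : ℕ) :
    Co A U F n ⊗[A] M →+ (cx U ((Φ X).obj (GM A F M))).X n :=
  (mkE A U (GM A F M) n).toAddMonoidHom.comp ((piC A U F M n).comp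
    (TensorProduct.piLeft A M (fun x : Fin (n + 1) → ι => SecA A F (prodU U x))).toLinearMap.toAddMonoidHom)

lemma comp_θ_tmul (M : ModuleCat.{u} A) (n : ℕ) (c : Co A U F n) (m : M)
    (x : Fin (n + 1) → ι) :
    comp U ((Φ X).obj (GM A F M)) n x (θ A U F M n (c ⊗ₜ m)) =
      cMap A F M (prodU U x) (c x ⊗ₜ m) := by
  change comp U ((Φ X).obj (GM A F M)) n x (mkE A U (GM A F M) n (piC A U F M n
    (TensorProduct.piLeft A M (fun x : Fin (n + 1) → ι => SecA A F (prodU U x)) (c ⊗ₜ m)))) = _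
  rw [comp_mkE, piC_apply]
  congr 1

lemma θ_bijective (M : ModuleCat.{u} A) (n : ℕ)
    (h : ∀ x : Fin (n + 1) → ι, Function.Bijective (cMap A F M (prodU U x))) :
    Function.Bijective (θ A U F M n) :=
  (mkE A U (GM A F M) n).bijective.comp ((piC_bijective A U F M n h).comp
    (TensorProduct.piLeft A M (fun x : Fin (n + 1) → ι => SecA A F (prodU U x))).bijective)

lemma θ_d (M : ModuleCat.{u} A) (n : ℕ) (z : Co A U F n ⊗[A] M) :
    θ A U F M (n + 1) ((dA A U F n).rTensor M z) =
      (cx U ((Φ X).obj (GM A F M))).d n (n + 1) (θ A U F M n z) := by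
  induction z using TensorProduct.induction_on with
  | zero => rw [map_zero, map_zero, map_zero, map_zero]
  | tmul c m =>
    apply Cech.ext
    intro x
    rw [LinearMap.rTensor_tmul, comp_θ_tmul, comp_d, dA_apply, TensorProduct.sum_tmul, map_sum]
    refine Finset.sum_congr rfl fun j _ => ?_
    rw [comp_θ_tmul]
    have h1 : (((-1 : ℤ) ^ (j : ℕ) • resA A F (face U j x) (c (x ∘ j.succAbove))) ⊗ₜ[A] m :
        SecA A F (prodU U x) ⊗[A] M) =
        (-1 : ℤ) ^ (j : ℕ) • ((resA A F (face U j x) (c (x ∘ j.succAbove))) ⊗ₜ[A] m) :=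
      TensorProduct.smul_tmul' _ _ _
    rw [h1, map_zsmul]
    congr 1
    exact (cMap_res A F M (face U j x) (c (x ∘ j.succAbove) ⊗ₜ m)).symm
  | add z z' hz hz' => rw [map_add, map_add, hz, hz', map_add, map_add]

lemma θ_map {M M' : ModuleCat.{u} A} (g : M ⟶ M') (n : ℕ) (z : Co A U F n ⊗[A] M) :
    ((cechComplexFunctor U).map ((Φ X).map (gmMap A F g))).f n (θ A U F M n z) =
      θ A U F M' n (g.hom.lTensor (Co A U F n) z) := by
  induction z using TensorProduct.induction_on with
  | zero => rw [map_zero, map_zero, map_zero, map_zero]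
  | tmul c m =>
    apply Cech.ext
    intro x
    rw [LinearMap.lTensor_tmul, comp_θ_tmul, Cech.comp_map, comp_θ_tmul]
    exact cMap_map A F g (prodU U x) (c x ⊗ₜ m)
  | add z z' hz hz' => rw [map_add, map_add, hz, hz', map_add, map_add]

end Groth.Agent.Helper1.ACech
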