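import Groth.Agent.Helper1.ACech2

set_option autoImplicit false

/-!
# The natural isomorphism `H^n(CA ⊗_A M) ≅ Ȟ^n(U, f^*(M~) ⊗ F)`
-/

namespace Groth.Agent.Helper1.ACech

open CategoryTheory Limits Opposite TopologicalSpace AlgebraicGeometry TensorProduct MonoidalCategory
open Groth.Agent.Helper1.Cech Groth.Agent.Helper1.TensSec Groth.Agent.Helper1.NatCech

universe u

section forget

variable (A : Type u) [CommRing A] {κ : Type} (c : ComplexShape κ)

lemma preservesHomology_forget₂ :
    (forget₂ (ModuleCat.{u} A) AddCommGrpCat.{u}).PreservesHomology := by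
  have h1 : PreservesFiniteLimits (forget₂ (ModuleCat.{u} A) AddCommGrpCat.{u}) := inferInstance
  have h2 : PreservesFiniteColimits (forget₂ (ModuleCat.{u} A) AddCommGrpCat.{u}) := inferInstance
  have := ((Functor.exact_tfae (forget₂ (ModuleCat.{u} A) AddCommGrpCat.{u})).out 3 2)
  exact this.mp ⟨h1, h2⟩

/-- the forgetful functor commutes with homology, naturally -/
noncomputable def forgetHomologyIso (i : κ) :
    (forget₂ (ModuleCat.{u} A) AddCommGrpCat.{u}).mapHomologicalComplex c ⋙
      HomologicalComplex.homologyFunctor AddCommGrpCat.{u} c i ≅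
    HomologicalComplex.homologyFunctor (ModuleCat.{u} A) c i ⋙
      forget₂ (ModuleCat.{u} A) AddCommGrpCat.{u} :=
  haveI := preservesHomology_forget₂ A
  NatIso.ofComponents
    (fun K => (K.sc i).mapHomologyIso (forget₂ (ModuleCat.{u} A) AddCommGrpCat.{u}))
    (fun {K L} f => ShortComplex.mapHomologyIso_hom_naturality
      ((HomologicalComplex.shortComplexFunctor _ c i).map f)
      (forget₂ (ModuleCat.{u} A) AddCommGrpCat.{u}))

end forget

variable (A : Type u) [CommRing A] {X : Scheme.{u}} [X.Over (Spec (CommRingCat.of A))]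
  {ι : Type u} [Fintype ι] [DecidableEq ι] (U : ι → X.Opens) (F : X.Modules)
  (h : ∀ (M : ModuleCat.{u} A) (n : ℕ) (x : Fin (n + 1) → ι),
    Function.Bijective (cMap A F M (prodU U x)))

/-- the termwise comparison isomorphism -/
noncomputable def θIso (M : ModuleCat.{u} A) (n : ℕ) :
    (((forget₂ (ModuleCat.{u} A) AddCommGrpCat.{u}).mapHomologicalComplex _).obj
      (CohIII.tensorObj (CA A U F) M)).X n ≅
    ((cechComplexFunctor U).obj ((Φ X).obj (GM A F M))).X n :=
  AddEquiv.toAddCommGrpIso (AddEquiv.ofBijective (θ A U F M n) (θ_bijective A U F M n (h M n)))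

lemma θIso_hom_apply (M : ModuleCat.{u} A) (n : ℕ) (z : Co A U F n ⊗[A] M) :
    (θIso A U F h M n).hom z = θ A U F M n z := rfl

/-- the comparison isomorphism of complexes -/
noncomputable def cxIso (M : ModuleCat.{u} A) :
    ((forget₂ (ModuleCat.{u} A) AddCommGrpCat.{u}).mapHomologicalComplex _).obj
      (CohIII.tensorObj (CA A U F) M) ≅
    (cechComplexFunctor U).obj ((Φ X).obj (GM A F M)) :=
  HomologicalComplex.Hom.isoOfComponents (fun n => θIso A U F h M n) (by
    rintro i j (rfl : i + 1 = j)
    apply AddCommGrpCat.hom_ext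
    apply AddMonoidHom.ext
    intro (z : Co A U F i ⊗[A] M)
    rw [ConcreteCategory.comp_apply, ConcreteCategory.comp_apply, θIso_hom_apply]
    refine (θ_d A U F M i z).symm.trans ?_
    change _ = θ A U F M (i + 1) _
    congr 1
    change _ = ((CA A U F).d i (i + 1) ▷ M).hom z
    rw [CA_d]
    rfl)

lemma cxIso_hom_f_apply (M : ModuleCat.{u} A) (n : ℕ) (z : Co A U F n ⊗[A] M) :
    (cxIso A U F h M).hom.f n z = θ A U F M n z := rfl

/-- the comparison isomorphism of functors to complexes -/
noncomputable def cxNatIso :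
    FlatCx.tensorFunctor (CA A U F) ⋙
      (forget₂ (ModuleCat.{u} A) AddCommGrpCat.{u}).mapHomologicalComplex _ ≅
    CohIII.tensorAFunctor A F ⋙ Φ X ⋙ cechComplexFunctor U :=
  NatIso.ofComponents (fun M => cxIso A U F h M) (by
    intro M M' g
    apply HomologicalComplex.hom_ext
    intro n
    apply AddCommGrpCat.hom_ext
    apply AddMonoidHom.ext
    intro (z : Co A U F n ⊗[A] M)
    rw [HomologicalComplex.comp_f, HomologicalComplex.comp_f, ConcreteCategory.comp_apply,
      ConcreteCategory.comp_apply]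
    change θ A U F M' n _ =
      ((cechComplexFunctor U).map ((Φ X).map (gmMap A F g))).f n (θ A U F M n z)
    rw [θ_map]
    congr 1)

/-- **`H^n(CA ⊗_A M) ≅ Ȟ^n(U, f^*(M~) ⊗ F)`, naturally in `M`** -/
noncomputable def tfunIso (n : ℕ) :
    CohIII.TFun (CA A U F) n ⋙ forget₂ (ModuleCat.{u} A) AddCommGrpCat.{u} ≅
      CohIII.tensorAFunctor A F ⋙ Φ X ⋙ cechHFun U n :=
  Functor.isoWhiskerLeft (FlatCx.tensorFunctor (CA A U F)) (forgetHomologyIso A _ n).symm ≪≫
    Functor.isoWhiskerRight (cxNatIso A U F h) (HomologicalComplex.homologyFunctor _ _ n)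

end Groth.Agent.Helper1.ACech
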