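import Groth.Agent.Helper1.ACech3
import Groth.Agent.Lead.QcohTensor

set_option autoImplicit false

/-!
# The bridge: `H^n(CA ⊗_A M) ≅ H^n(X, f^*(M~) ⊗ F)` naturally in `M`
-/

namespace Groth.Agent.Helper1.ACech

open CategoryTheory Limits Opposite TopologicalSpace AlgebraicGeometry TensorProduct
open Groth.Agent.Helper1.Cech Groth.Agent.Helper1.TensSec Groth.Agent.Helper1.NatCech

universe u

/-- the two descriptions of sheaf cohomology as a functor agree -/
noncomputable def hdIso (X : Scheme.{u}) (n : ℕ) : (HD X).T n ≅ CohIII.HAb X n :=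
  NatIso.ofComponents (fun _ => Iso.refl _) (by
    intro M N f
    apply AddCommGrpCat.hom_ext
    apply AddMonoidHom.ext
    intro x
    rfl)

variable (A : Type u) [CommRing A] {X : Scheme.{u}} [X.Over (Spec (CommRingCat.of A))]
  {t : ℕ} (U : Fin t → X.Opens) (hU : ∀ k, IsAffineOpen (U k))
  (hd : ∀ V W : X.Opens, IsAffineOpen V → IsAffineOpen W → IsAffineOpen (V ⊓ W))
  (hcov : ⨆ k, U k = ⊤) (F : X.Modules) [F.IsQuasicoherent]

instance (M : ModuleCat.{u} A) : ((CohIII.tensorAFunctor A F).obj M).IsQuasicoherent :=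
  Groth.Agent.Lead.QcohTensor.isQuasicoherent_tensorMod (PM A X M) F

include hU hd in
lemma cMap_bijective_prodU (M : ModuleCat.{u} A) (n : ℕ) (x : Fin (n + 1) → ULift.{u} (Fin t)) :
    Function.Bijective (cMap A F M (prodU (Uc U) x)) :=
  cMap_bijective A F M (isAffineOpen_prodU U hd hU x)

include hU hd hcov in
/-- **The bridge** -/
theorem nonempty_bridge (n : ℕ) :
    Nonempty (CohIII.TFun (CA A (Uc U) F) n ⋙ forget₂ (ModuleCat.{u} A) AddCommGrpCat.{u} ≅
      CohIII.tensorAFunctor A F ⋙ CohIII.HAb X n) := by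
  obtain ⟨e⟩ := nonempty_natIso U hU hd hcov (CohIII.tensorAFunctor A F)
    (fun M => inferInstance) n
  exact ⟨tfunIso A (Uc U) F (cMap_bijective_prodU A U hU hd F) n ≪≫ e ≪≫
    Functor.isoWhiskerLeft _ (hdIso X n)⟩

end Groth.Agent.Helper1.ACech
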