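import Groth.Agent.Helper1.ACech4
import Groth.Agent.Helper5.AffFlat1

set_option autoImplicit false

/-!
# Flatness of the terms of the `A`-module Čech complex
-/

namespace Groth.Agent.Helper1.ACech

open CategoryTheory Limits Opposite TopologicalSpace AlgebraicGeometry TensorProduct
open Groth.Agent.Helper1.Cech Groth.Agent.Helper1.TensSec Groth.Agent.Helper1.NatCech

universe u

variable (A : Type u) [CommRing A] {X : Scheme.{u}} [X.Over (Spec (CommRingCat.of A))]
  (F : X.Modules) [F.IsQuasicoherent]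

/-- sections over an affine open of a module flat over `Spec A` form a flat `A`-module -/
theorem flat_secA (hfl : FlatMod.IsFlatOver (X ↘ Spec (CommRingCat.of A)) F) {V : X.Opens}
    (hV : IsAffineOpen V) : Module.Flat A (SecA A F V) := by
  let f := X ↘ Spec (CommRingCat.of A)
  have e : V ≤ f ⁻¹ᵁ ⊤ := le_preimage_top A V
  have h1 := (Groth.Agent.Helper5.AffFlat.flat_sections_iff f F
    (isAffineOpen_top (Spec (CommRingCat.of A))) hV e).mp (fun x _ => hfl x)
  letI alg : Algebra A Γ(Spec (CommRingCat.of A), ⊤) :=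
    (Scheme.ΓSpecIso (CommRingCat.of A)).inv.hom.toAlgebra
  letI mS : Module Γ(Spec (CommRingCat.of A), ⊤) (SecA A F V) :=
    Module.compHom Γ(F, V) (f.appLE ⊤ V e).hom
  haveI : IsScalarTower A Γ(Spec (CommRingCat.of A), ⊤) (SecA A F V) :=
    IsScalarTower.of_algebraMap_smul fun a s => rfl
  haveI : Module.Flat Γ(Spec (CommRingCat.of A), ⊤) (SecA A F V) := h1
  haveI : Module.Flat A Γ(Spec (CommRingCat.of A), ⊤) := by
    let eq : A ≃ₗ[A] Γ(Spec (CommRingCat.of A), ⊤) :=
      LinearEquiv.ofBijective (Algebra.linearMap A Γ(Spec (CommRingCat.of A), ⊤))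
        (ConcreteCategory.bijective_of_isIso (Scheme.ΓSpecIso (CommRingCat.of A)).inv)
    exact Module.Flat.of_linearEquiv eq.symm
  exact Module.Flat.trans A Γ(Spec (CommRingCat.of A), ⊤) (SecA A F V)

variable {ι : Type u} [Fintype ι] [DecidableEq ι] (U : ι → X.Opens)

/-- finite products of flat modules are flat -/
lemma flat_pi {κ : Type u} [Fintype κ] [DecidableEq κ] (N : κ → Type u)
    [∀ k, AddCommGroup (N k)] [∀ k, Module A (N k)] (h : ∀ k, Module.Flat A (N k)) :
    Module.Flat A (∀ k, N k) :=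
  Module.Flat.of_linearEquiv (DirectSum.linearEquivFunOnFintype A κ N).symm

theorem flat_CA_X (hfl : FlatMod.IsFlatOver (X ↘ Spec (CommRingCat.of A)) F)
    (hU : ∀ (n : ℕ) (x : Fin (n + 1) → ι), IsAffineOpen (prodU U x)) (n : ℕ) :
    Module.Flat A ((CA A U F).X n) :=
  flat_pi A (fun x : Fin (n + 1) → ι => SecA A F (prodU U x))
    (fun x => flat_secA A F hfl (hU n x))

end Groth.Agent.Helper1.ACech
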