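import Groth.Agent.Helper1.ACech5
import Groth.Prelude.Def_Formal

set_option autoImplicit false

/-!
# The homology of the `A`-module Čech complex is `H^n(X, F)`, `A`-linearly
-/

namespace Groth.Agent.Helper1.ACech

open CategoryTheory Limits Opposite TopologicalSpace AlgebraicGeometry TensorProduct
open Groth.Agent.Helper1.Cech Groth.Agent.Helper1.TensSec Groth.Agent.Helper1.NatCech

universe u

variable (A : Type u) [CommRing A] {X : Scheme.{u}} [X.Over (Spec (CommRingCat.of A))]
  {ι : Type u} (U : ι → X.Opens) (F : X.Modules)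

/-- the comparison of the `A`-module Čech complex with Mathlib's Čech complex -/
noncomputable def cxF :
    ((forget₂ (ModuleCat.{u} A) AddCommGrpCat.{u}).mapHomologicalComplex _).obj (CA A U F) ≅
      (cechComplexFunctor U).obj ((Φ X).obj F) :=
  HomologicalComplex.Hom.isoOfComponents (fun n => AddEquiv.toAddCommGrpIso (mkE A U F n)) (by
    rintro i j (rfl : i + 1 = j)
    apply AddCommGrpCat.hom_ext
    apply AddMonoidHom.ext
    intro (c : Co A U F i)
    rw [ConcreteCategory.comp_apply, ConcreteCategory.comp_apply]
    refine (mkE_d A U F i c).symm.trans ?_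
    change _ = mkE A U F (i + 1) (((CA A U F).d i (i + 1)).hom c)
    rw [CA_d]
    rfl)

lemma cxF_hom_f_apply (n : ℕ) (c : Co A U F n) : (cxF A U F).hom.f n c = mkE A U F n c := rfl

/-- multiplication by `a` on the Čech complex corresponds to the map induced by `smulMod a` -/
lemma smul_cxF (a : A) :
    ((forget₂ (ModuleCat.{u} A) AddCommGrpCat.{u}).mapHomologicalComplex _).map
        (a • 𝟙 (CA A U F)) ≫ (cxF A U F).hom =
      (cxF A U F).hom ≫ (cechComplexFunctor U).map ((Φ X).map (Formal.smulMod A F a)) := by
  apply HomologicalComplex.hom_ext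
  intro n
  apply AddCommGrpCat.hom_ext
  apply AddMonoidHom.ext
  intro (c : Co A U F n)
  rw [HomologicalComplex.comp_f, HomologicalComplex.comp_f, ConcreteCategory.comp_apply,
    ConcreteCategory.comp_apply, cxF_hom_f_apply]
  change mkE A U F n (a • c) = _
  rw [cxF_hom_f_apply]
  apply Cech.ext
  intro x
  rw [comp_mkE, Cech.comp_map, comp_mkE]
  rfl

end Groth.Agent.Helper1.ACech
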