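import Groth.Agent.Helper1.ACech6

set_option autoImplicit false

/-!
# `H^n(CA(F)) ≃ H^n(X, F)`, compatibly with the `A`-module structures
-/

namespace Groth.Agent.Helper1.ACech

open CategoryTheory Limits Opposite TopologicalSpace AlgebraicGeometry TensorProduct
open Groth.Agent.Helper1.Cech Groth.Agent.Helper1.TensSec Groth.Agent.Helper1.NatCech

universe u

variable (A : Type u) [CommRing A] {X : Scheme.{u}} [X.Over (Spec (CommRingCat.of A))]

section

variable {ι : Type u} (U : ι → X.Opens) (F : X.Modules)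

/-- the homology of `CA` is Čech cohomology -/
noncomputable def ψ (n : ℕ) :
    (forget₂ (ModuleCat.{u} A) AddCommGrpCat.{u}).obj ((CA A U F).homology n) ≅
      (cechHFun U n).obj ((Φ X).obj F) :=
  ((forgetHomologyIso A _ n).app (CA A U F)).symm ≪≫
    HomologicalComplex.homologyMapIso (cxF A U F) n

set_option backward.isDefEq.respectTransparency false in
lemma ψ_smul (n : ℕ) (a : A) :
    (forget₂ (ModuleCat.{u} A) AddCommGrpCat.{u}).map
        (HomologicalComplex.homologyMap (a • 𝟙 (CA A U F)) n) ≫ (ψ A U F n).hom =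
      (ψ A U F n).hom ≫ (cechHFun U n).map ((Φ X).map (Formal.smulMod A F a)) := by
  have h1 := (forgetHomologyIso A (ComplexShape.up ℕ) n).inv.naturality (a • 𝟙 (CA A U F))
  have h2 := congrArg (fun φ => HomologicalComplex.homologyMap φ n) (smul_cxF A U F a)
  simp only [HomologicalComplex.homologyMap_comp] at h2
  unfold ψ
  simp only [Iso.trans_hom, Iso.symm_hom, Iso.app_inv, HomologicalComplex.homologyMapIso_hom,
    Category.assoc]
  change (HomologicalComplex.homologyFunctor _ _ n ⋙ forget₂ _ _).map (a • 𝟙 (CA A U F)) ≫ _ = _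
  rw [← Category.assoc, h1, Category.assoc]
  congr 1

end

section

variable {t : ℕ} (U : Fin t → X.Opens) (hU : ∀ k, IsAffineOpen (U k))
  (hd : ∀ V W : X.Opens, IsAffineOpen V → IsAffineOpen W → IsAffineOpen (V ⊓ W))
  (hcov : ⨆ k, U k = ⊤) (F : X.Modules) [F.IsQuasicoherent]

lemma homologyMap_smul_apply (n : ℕ) (a : A) (x : (CA A (Uc U) F).homology n) :
    (HomologicalComplex.homologyMap (a • 𝟙 (CA A (Uc U) F)) n).hom x = a • x := by
  have h : HomologicalComplex.homologyMap (a • 𝟙 (CA A (Uc U) F)) n = a • 𝟙 _ := by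
    have e : (HomologicalComplex.shortComplexFunctor (ModuleCat.{u} A) (ComplexShape.up ℕ) n).map
        (a • 𝟙 (CA A (Uc U) F)) = a • 𝟙 ((CA A (Uc U) F).sc n) := by
      ext <;> rfl
    change ShortComplex.homologyMap _ = _
    rw [e, ShortComplex.homologyMap_smul, ShortComplex.homologyMap_id]
    rfl
  rw [h]
  rfl

lemma toAbF_map_smulMod (a : A) :
    (Groth.Agent.Helper1.SerreCrit.toAbF X).map (Formal.smulMod A F a) =
      Coh.smulAb F (Coh.toGlobal (X ↘ Spec (CommRingCat.of A)) a) := rfl

include hU hd hcov in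
/-- `H^n(CA(F)) ≃ H^n(X, F)`, compatibly with the actions of `A` -/
theorem exists_equiv_HH (n : ℕ) :
    ∃ φ : (CA A (Uc U) F).homology n ≃+ Coh.HH X F n, ∀ (a : A) x, φ (a • x) = a • φ x := by
  let Pq : ObjectProperty X.Modules := fun N => N.IsQuasicoherent
  let G : Pq.FullSubcategory ⥤ X.Modules := Pq.ι
  obtain ⟨η⟩ := nonempty_natIso U hU hd hcov G (fun j => j.property) n
  let Fj : Pq.FullSubcategory := ⟨F, inferInstanceAs F.IsQuasicoherent⟩
  let e : (forget₂ (ModuleCat.{u} A) AddCommGrpCat.{u}).obj ((CA A (Uc U) F).homology n) ≅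
      (CohIII.HAb X n).obj F :=
    ψ A (Uc U) F n ≪≫ η.app Fj ≪≫ (hdIso X n).app F
  refine ⟨e.addCommGroupIsoToAddEquiv, ?_⟩
  intro a x
  have h1 := ψ_smul A (Uc U) F n a
  have h2 := η.hom.naturality (ObjectProperty.homMk (Formal.smulMod A F a) : Fj ⟶ Fj)
  have h3 := (hdIso X n).hom.naturality (Formal.smulMod A F a)
  have h4 : (forget₂ (ModuleCat.{u} A) AddCommGrpCat.{u}).map
      (HomologicalComplex.homologyMap (a • 𝟙 (CA A (Uc U) F)) n) ≫ e.hom =
      e.hom ≫ (CohIII.HAb X n).map (Formal.smulMod A F a) := by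
    change _ ≫ ((ψ A (Uc U) F n).hom ≫ η.hom.app Fj ≫ (hdIso X n).hom.app F) = _
    rw [reassoc_of% h1]
    change _ = ((ψ A (Uc U) F n).hom ≫ η.hom.app Fj ≫ (hdIso X n).hom.app F) ≫ _
    simp only [Category.assoc]
    have h2' : (cechHFun (Uc U) n).map ((Φ X).map (Formal.smulMod A F a)) ≫ η.hom.app Fj =
        η.hom.app Fj ≫ ((HD X).T n).map (Formal.smulMod A F a) := h2
    rw [reassoc_of% h2']
    congr 2
  have h5 := ConcreteCategory.congr_hom h4 x
  rw [ConcreteCategory.comp_apply, ConcreteCategory.comp_apply] at h5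
  change e.hom (a • x) = _
  rw [← homologyMap_smul_apply A U F n a x]
  exact h5

include hU hd hcov in
/-- finiteness of the homology of the Čech complex -/
theorem finite_homology_CA (n : ℕ) (hfin : Module.Finite A (Coh.HH X F n)) :
    Module.Finite A ((CA A (Uc U) F).homology n) := by
  obtain ⟨φ, hφ⟩ := exists_equiv_HH A U hU hd hcov F n
  let l : Coh.HH X F n →ₗ[A] (CA A (Uc U) F).homology n :=
    { toFun := φ.symm
      map_add' := map_add _
      map_smul' := fun a y => by
        apply φ.injective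
        rw [RingHom.id_apply, hφ, φ.apply_symm_apply, φ.apply_symm_apply] }
  exact Module.Finite.of_surjective l φ.symm.surjective

end

end Groth.Agent.Helper1.ACech
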