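import Mathlib
import Groth.Agent.Helper1.CN3

/-!
# Naturality of projective cones, part 4: the square of the retractions `z ↦ 0`
-/

set_option autoImplicit false
set_option linter.style.haveILetI false

namespace Groth.Agent.Helper1.CN

open CategoryTheory Limits AlgebraicGeometry TopologicalSpace Opposite RelProj RelCone
  HomogeneousLocalization Groth.Agent.Helper1.RP Groth.Agent.Helper1.SQ Groth.Agent.Helper1.PC
open scoped HomogeneousIdeal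

universe u

noncomputable section

/-- ring homomorphisms out of `A[z]` are determined on `A` and `z` -/
theorem ringHom_ext_poly {A B C : Type u} [CommRing A] [CommRing B] [CommRing C]
    (ι : A →+* B) (z : B) (hsurj : Function.Surjective (Polynomial.eval₂RingHom ι z))
    (φ₁ φ₂ : B →+* C) (h1 : ∀ a, φ₁ (ι a) = φ₂ (ι a)) (h2 : φ₁ z = φ₂ z) (x : B) :
    φ₁ x = φ₂ x := by
  obtain ⟨P, rfl⟩ := hsurj x
  show φ₁ (Polynomial.eval₂ ι z P) = φ₂ (Polynomial.eval₂ ι z P)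
  induction P using Polynomial.induction_on' with
  | add p q hp hq => rw [Polynomial.eval₂_add, map_add, map_add, hp, hq]
  | monomial n a =>
    rw [Polynomial.eval₂_monomial, map_mul, map_mul, map_pow, map_pow, h1, h2]

section conv

variable {Y Y' : Scheme.{u}} {g : Y' ⟶ Y} {𝒮 : QCGrAlg Y} {𝒮' : QCGrAlg Y'}
  {u : QGrHom g 𝒮 𝒮'} {P' : Scheme.{u}} {p' : P' ⟶ Y'}
  {chart' : ∀ (U' : Y'.Opens) (hU' : IsAffineOpen U'),
    (((p' ⁻¹ᵁ U' : P'.Opens) : Scheme.{u}) ≅ Proj (𝒮'.deg U' hU'))}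
  {P : Scheme.{u}} {p : P ⟶ Y}
  {chart : ∀ (U : Y.Opens) (hU : IsAffineOpen U),
    (((p ⁻¹ᵁ U : P.Opens) : Scheme.{u}) ≅ Proj (𝒮.deg U hU))}

/-- an everywhere defined `Proj(u)`, restricted to `G(u) = ⊤` -/
theorem projQMapOn_of_projQMap {h : P' ⟶ P} (hh : IsProjQMap u p chart p' chart' h) :
    IsProjQMapOn u p chart p' chart' (domQ u p' chart') ((domQ u p' chart').ι ≫ h) := by
  intro U hU U' hU' hle d hd f hf hW
  rw [IsOpenImmersion.lift_fac_assoc]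
  exact hh.2 U hU U' hU' hle d hd f hf

end conv

variable {Y Y' : Scheme.{u}} {q : Y' ⟶ Y} {𝒮 : QCGrAlg Y} {𝒮' : QCGrAlg Y'}
  {u : QGrHom q 𝒮 𝒮'} {𝒮h : QCGrAlg Y} {ι : 𝒮.toQCAlg ⟶ 𝒮h.toQCAlg}
  {z : 𝒮h.presheaf.obj (op ⊤)} (hz : IsPolyOver 𝒮 𝒮h ι z)
  {𝒮h' : QCGrAlg Y'} {ι' : 𝒮'.toQCAlg ⟶ 𝒮h'.toQCAlg} {z' : 𝒮h'.presheaf.obj (op ⊤)}
  (hz' : IsPolyOver 𝒮' 𝒮h' ι' z')
  {uh : QGrHom q 𝒮h 𝒮h'}

theorem θ_z {Y : Scheme.{u}} {𝒮 𝒮h : QCGrAlg Y} {z : 𝒮h.presheaf.obj (op ⊤)}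
    (θ : 𝒮h.toQCAlg ⟶ 𝒮.toQCAlg) (hθz : (θ.hom.app (op ⊤)).hom z = 0) (U : Y.Opens) :
    (θ.hom.app (op U)).hom (restrictTop 𝒮h z U) = 0 := by
  have h1 := congrArg (fun t => t.hom z) (θ.hom.naturality (homOfLE (le_top : U ≤ ⊤)).op)
  have h2 : (θ.hom.app (op U)).hom (restrictTop 𝒮h z U) =
      (𝒮.presheaf.map (homOfLE (le_top : U ≤ ⊤)).op).hom ((θ.hom.app (op ⊤)).hom z) := h1
  rw [h2, hθz, map_zero]

include hz hz' in
/-- the square `θ' ∘ uh = u ∘ θ` on affine quadruples -/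
theorem sq_θ (huh : ∀ U : Y.Opens, ι.hom.app (op U) ≫ uh.app U =
      u.app U ≫ ι'.hom.app (op (q ⁻¹ᵁ U)))
    (huhz : (uh.app ⊤).hom z = restrictTop 𝒮h' z' (q ⁻¹ᵁ ⊤))
    (θ : 𝒮h.toQCAlg ⟶ 𝒮.toQCAlg) (hθ : IsGradedHom θ) (hθι : ι ≫ θ = 𝟙 _)
    (hθz : (θ.hom.app (op ⊤)).hom z = 0)
    (θ' : 𝒮h'.toQCAlg ⟶ 𝒮'.toQCAlg) (hθ' : IsGradedHom θ') (hθι' : ι' ≫ θ' = 𝟙 _)
    (hθz' : (θ'.hom.app (op ⊤)).hom z' = 0) :
    IsSq (QGrHom.ofHom θ hθ) uh u (QGrHom.ofHom θ' hθ') := by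
  intro U₁ hU₁ U₂ hU₂ U₃ hU₃ U₄ hU₄ h12 h13 h24 h34 x
  have h12' : U₂ ≤ U₁ := h12
  have h34' : U₄ ≤ U₃ := h34
  have h14 : U₄ ≤ q ⁻¹ᵁ U₁ := h24.trans (q.preimage_mono h12')
  have hθιa : ∀ (V : Y.Opens) (a : 𝒮.presheaf.obj (op V)),
      (θ.hom.app (op V)).hom ((ι.hom.app (op V)).hom a) = a := fun V a =>
    congrArg (fun t : 𝒮.toQCAlg ⟶ 𝒮.toQCAlg => (t.hom.app (op V)).hom a) hθι
  have hθιa' : ∀ (V : Y'.Opens) (a : 𝒮'.presheaf.obj (op V)),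
      (θ'.hom.app (op V)).hom ((ι'.hom.app (op V)).hom a) = a := fun V a =>
    congrArg (fun t : 𝒮'.toQCAlg ⟶ 𝒮'.toQCAlg => (t.hom.app (op V)).hom a) hθι'
  refine ringHom_ext_poly (ι.hom.app (op U₁)).hom (restrictTop 𝒮h z U₁) (hz.bij U₁ hU₁).2
    (((RelSpec.QHom.ofHom θ).appLE U₁ U₂ h12 ≫ u.appLE U₂ U₄ h24).hom)
    ((uh.appLE U₁ U₃ h13 ≫ (RelSpec.QHom.ofHom θ').appLE U₃ U₄ h34).hom) ?_ ?_ x
  · intro a
    -- left side
    have e1 : ((RelSpec.QHom.ofHom θ).appLE U₁ U₂ h12 ≫ u.appLE U₂ U₄ h24).hom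
        ((ι.hom.app (op U₁)).hom a) = (u.appLE U₁ U₄ h14).hom a := by
      have h := congrArg (fun t => t.hom a) (u.toQHom.map_appLE h12' h24)
      show (u.appLE U₂ U₄ h24).hom ((𝒮.presheaf.map (homOfLE h12').op).hom
        ((θ.hom.app (op U₁)).hom ((ι.hom.app (op U₁)).hom a))) = _
      rw [hθιa]
      exact h
    have e2 : (uh.appLE U₁ U₃ h13 ≫ (RelSpec.QHom.ofHom θ').appLE U₃ U₄ h34).hom
        ((ι.hom.app (op U₁)).hom a) = (u.appLE U₁ U₄ h14).hom a := by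
      have h := uh_ι (u := u) (uh := uh) hz.graded hz'.graded huh U₁ hU₁ U₃ hU₃ h13 a
      have h' : (uh.appLE U₁ U₃ h13).hom ((ι.hom.app (op U₁)).hom a) =
          (ι'.hom.app (op U₃)).hom ((u.appLE U₁ U₃ h13).hom a) := h
      show (𝒮'.presheaf.map (homOfLE h34').op).hom ((θ'.hom.app (op U₃)).hom
        ((uh.appLE U₁ U₃ h13).hom ((ι.hom.app (op U₁)).hom a))) = _
      rw [h', hθιa']
      exact congrArg (fun t => t.hom a) (u.toQHom.appLE_map h13 h34')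
    rw [e1, e2]
  · have e1 : ((RelSpec.QHom.ofHom θ).appLE U₁ U₂ h12 ≫ u.appLE U₂ U₄ h24).hom
        (restrictTop 𝒮h z U₁) = 0 := by
      show (u.appLE U₂ U₄ h24).hom ((𝒮.presheaf.map (homOfLE h12').op).hom
        ((θ.hom.app (op U₁)).hom (restrictTop 𝒮h z U₁))) = 0
      rw [θ_z θ hθz, map_zero, map_zero]
    have e2 : (uh.appLE U₁ U₃ h13 ≫ (RelSpec.QHom.ofHom θ').appLE U₃ U₄ h34).hom
        (restrictTop 𝒮h z U₁) = 0 := by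
      have h := uh_z (uh := uh) huhz U₁ hU₁ U₃ hU₃ h13
      have h' : (uh.appLE U₁ U₃ h13).hom (restrictTop 𝒮h z U₁) = restrictTop 𝒮h' z' U₃ := h
      show (𝒮'.presheaf.map (homOfLE h34').op).hom ((θ'.hom.app (op U₃)).hom
        ((uh.appLE U₁ U₃ h13).hom (restrictTop 𝒮h z U₁))) = 0
      rw [h', θ_z θ' hθz', map_zero]
    rw [e1, e2]

end

end Groth.Agent.Helper1.CN
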