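import Mathlib
import Groth.Agent.Helper1.PC3

/-!
# Projective cones, part 4: the canonical retraction is surjective and retracts the immersion
at infinity
-/

set_option autoImplicit false
set_option linter.style.haveILetI false

namespace Groth.Agent.Helper1.PC

open CategoryTheory Limits AlgebraicGeometry TopologicalSpace Opposite RelProj RelCone
  HomogeneousLocalization Groth.Agent.Helper1.RP
open scoped HomogeneousIdeal

universe u

noncomputable section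

variable {Y PC P : Scheme.{u}} {𝒮 𝒮h : QCGrAlg Y} {ι : 𝒮.toQCAlg ⟶ 𝒮h.toQCAlg}
  {z : 𝒮h.presheaf.obj (op ⊤)} (hz : IsPolyOver 𝒮 𝒮h ι z)
  {pC : PC ⟶ Y}
  {chartC : ∀ (U : Y.Opens) (hU : IsAffineOpen U),
    (((pC ⁻¹ᵁ U : PC.Opens) : Scheme.{u}) ≅ Proj (𝒮h.deg U hU))}
  {p : P ⟶ Y}
  {chart : ∀ (U : Y.Opens) (hU : IsAffineOpen U),
    (((p ⁻¹ᵁ U : P.Opens) : Scheme.{u}) ≅ Proj (𝒮.deg U hU))}

/-- the graded retraction of `ι(U)`, `z ↦ 0` -/
def retrAt (U : Y.Opens) (hU : IsAffineOpen U) : 𝒮h.deg U hU →+*ᵍ 𝒮.deg U hU :=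
  retrG (gradedHomAt ι hz.graded U hU) (restrictTop 𝒮h z U) (hz.bij U hU) (hz.deg_z U hU)

theorem retrAt_ι (U : Y.Opens) (hU : IsAffineOpen U) (a : 𝒮.presheaf.obj (op U)) :
    retrAt hz U hU (gradedHomAt ι hz.graded U hU a) = a :=
  retrG_ι _ _ _ _ a

theorem retrAt_z (U : Y.Opens) (hU : IsAffineOpen U) :
    retrAt hz U hU (restrictTop 𝒮h z U) = 0 :=
  retrG_z _ _ _ _

/-- the canonical retraction is surjective -/
theorem isRetr_surjective
    {r : ((pointedProjCone 𝒮 hz pC chartC : PC.Opens) : Scheme.{u}) ⟶ P}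
    (hr : IsRetr hz pC chartC p chart r) : Function.Surjective r.base := by
  intro x
  obtain ⟨U, hU, d, hd, f, hf, y, hy⟩ := exists_chart_PA (chartA := chart) x
  obtain ⟨y', hy'⟩ := specMap_awayMap_surjective (gradedHomAt ι hz.graded U hU)
    (retrAt hz U hU) (retrAt_ι hz U hU) hd hf y
  refine ⟨(coneChart hz pC chartC U hU hd f hf) y', ?_⟩
  have h1 := congrArg (fun t : _ ⟶ P => t y') (coneChart_r hz hr U hU hd f hf)
  refine h1.trans ?_
  rw [← hy]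
  show (Proj.awayι (𝒮.deg U hU) f hf hd ≫ emb p chart U hU)
    ((Spec.map (CommRingCat.ofHom (Away.map (gradedHomAt ι hz.graded U hU) f))) y') = _
  rw [hy']

theorem emb_relProjMap {𝒜 ℬ : QCGrAlg Y} (φ : 𝒜.toQCAlg ⟶ ℬ.toQCAlg) (hφ : IsGradedHom φ)
    (hirr : ∀ (U : Y.Opens) (hU : IsAffineOpen U),
      (ℬ.deg U hU)₊ ≤ ((𝒜.deg U hU)₊).map (gradedHomAt φ hφ U hU))
    {PA PB : Scheme.{u}} {pA : PA ⟶ Y} {pB : PB ⟶ Y}
    {chartA : ∀ (U : Y.Opens) (hU : IsAffineOpen U),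
      ((pA ⁻¹ᵁ U : PA.Opens) : Scheme.{u}) ≅ Proj (𝒜.deg U hU)}
    {chartB : ∀ (U : Y.Opens) (hU : IsAffineOpen U),
      ((pB ⁻¹ᵁ U : PB.Opens) : Scheme.{u}) ≅ Proj (ℬ.deg U hU)}
    {h : PB ⟶ PA} (hh : IsRelProjMap φ hφ hirr chartA chartB h)
    (U : Y.Opens) (hU : IsAffineOpen U) :
    emb pB chartB U hU ≫ h =
      Proj.map (gradedHomAt φ hφ U hU) (hirr U hU) ≫ emb pA chartA U hU := by
  unfold emb
  rw [Category.assoc, hh U hU, Iso.inv_hom_id_assoc]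

/-- the canonical retraction retracts the immersion at infinity -/
theorem isRetr_section
    {r : ((pointedProjCone 𝒮 hz pC chartC : PC.Opens) : Scheme.{u}) ⟶ P}
    (hr : IsRetr hz pC chartC p chart r)
    (θ : 𝒮h.toQCAlg ⟶ 𝒮.toQCAlg) (hθ : IsGradedHom θ) (hιθ : ι ≫ θ = 𝟙 _)
    (hirr : ∀ (U : Y.Opens) (hU : IsAffineOpen U),
      (𝒮.deg U hU)₊ ≤ ((𝒮h.deg U hU)₊).map (gradedHomAt θ hθ U hU))
    (j : P ⟶ PC) (hj : IsRelProjMap θ hθ hirr chartC chart j)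
    (j' : P ⟶ ((pointedProjCone 𝒮 hz pC chartC : PC.Opens) : Scheme.{u}))
    (hj' : j' ≫ (pointedProjCone 𝒮 hz pC chartC).ι = j) : j' ≫ r = 𝟙 P := by
  apply hom_ext_of_charts
  intro x
  obtain ⟨U, hU, d, hd, f, hf, y, hy⟩ := exists_chart_PA (chartA := chart) x
  have hθι : ∀ a, (gradedHomAt θ hθ U hU) ((gradedHomAt ι hz.graded U hU) a) = a := by
    intro a
    exact congrArg (fun t : 𝒮.toQCAlg ⟶ 𝒮.toQCAlg => (t.hom.app (op U)).hom a) hιθ
  have hmem : (gradedHomAt θ hθ U hU) ((gradedHomAt ι hz.graded U hU) f) ∈ 𝒮.deg U hU d :=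
    (gradedHomAt θ hθ U hU).map_mem ((gradedHomAt ι hz.graded U hU).map_mem hf)
  have hx : x ∈ Set.range (Proj.awayι (𝒮.deg U hU)
      ((gradedHomAt θ hθ U hU) ((gradedHomAt ι hz.graded U hU) f)) hmem hd ≫
        emb p chart U hU) := by
    rw [← hy, Scheme.Hom.comp_apply]
    have h0 : (Proj.awayι (𝒮.deg U hU) f hf hd) y ∈
        (Proj.awayι (𝒮.deg U hU) f hf hd).opensRange := ⟨y, rfl⟩
    rw [Proj.opensRange_awayι] at h0
    have h1 : (Proj.awayι (𝒮.deg U hU) f hf hd) y ∈ (Proj.awayι (𝒮.deg U hU)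
        ((gradedHomAt θ hθ U hU) ((gradedHomAt ι hz.graded U hU) f)) hmem hd).opensRange := by
      rw [Proj.opensRange_awayι, hθι]
      exact h0
    obtain ⟨y₂, hy₂⟩ := h1
    refine ⟨y₂, ?_⟩
    rw [Scheme.Hom.comp_apply]
    exact congrArg _ hy₂
  refine ⟨_, Proj.awayι (𝒮.deg U hU)
      ((gradedHomAt θ hθ U hU) ((gradedHomAt ι hz.graded U hU) f)) hmem hd ≫
        emb p chart U hU, inferInstance, hx, ?_⟩
  have h1 : (Proj.awayι (𝒮.deg U hU)
      ((gradedHomAt θ hθ U hU) ((gradedHomAt ι hz.graded U hU) f)) hmem hd ≫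
        emb p chart U hU) ≫ j' =
      Spec.map (CommRingCat.ofHom (Away.map (gradedHomAt θ hθ U hU)
        ((gradedHomAt ι hz.graded U hU) f))) ≫ coneChart hz pC chartC U hU hd f hf := by
    rw [← cancel_mono (pointedProjCone 𝒮 hz pC chartC).ι, Category.assoc, hj', Category.assoc,
      Category.assoc, coneChart_ι, emb_relProjMap θ hθ hirr hj U hU]
    exact Proj.awayι_comp_map_assoc (gradedHomAt θ hθ U hU) (hirr U hU) hd
      ((gradedHomAt ι hz.graded U hU) f) ((gradedHomAt ι hz.graded U hU).map_mem hf) _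
  rw [← Category.assoc, h1, Category.assoc, coneChart_r hz hr U hU hd f hf, Category.comp_id,
    ← Spec.map_comp_assoc, ← CommRingCat.ofHom_comp, ← Away.map_comp, ← Category.assoc]
  exact congrArg (· ≫ emb p chart U hU)
    (awayMap_awayι_of_id ((gradedHomAt θ hθ U hU).comp (gradedHomAt ι hz.graded U hU)) hθι hd hf)

end

end Groth.Agent.Helper1.PC
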