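import Mathlib
import Groth.Agent.Helper1.PC9
import Groth.Agent.Helper1.PC4
import Groth.Agent.Helper1.CN4

/-!
# Projective cones, part 10: the image of the immersion at infinity is `V_+(z)`;
`i(C) = Ĉ − j(X)`
-/

set_option autoImplicit false
set_option linter.style.haveILetI false

namespace Groth.Agent.Helper1.PC

open CategoryTheory Limits AlgebraicGeometry TopologicalSpace Opposite RelProj RelCone
  HomogeneousLocalization DirectSum Groth.Agent.Helper1.RP Groth.Agent.Helper1.CN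
open scoped HomogeneousIdeal

universe u

noncomputable section

/-- modulo `z`, every element of `A[z]` is the image of its constant term -/
theorem exists_eq_add_mul {A B : Type u} [CommRing A] [CommRing B]
    (ι : A →+* B) (z : B) (hsurj : Function.Surjective (Polynomial.eval₂RingHom ι z))
    (θ : B →+* A) (h1 : ∀ a, θ (ι a) = a) (h2 : θ z = 0) (b : B) :
    ∃ c : B, b = ι (θ b) + z * c := by
  obtain ⟨P, rfl⟩ := hsurj b
  refine ⟨Polynomial.eval₂ ι z P.divX, ?_⟩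
  have h3 : Polynomial.eval₂ ι z P = Polynomial.eval₂ ι z P.divX * z + ι (P.coeff 0) := by
    conv_lhs => rw [← Polynomial.divX_mul_X_add P]
    rw [Polynomial.eval₂_add, Polynomial.eval₂_mul, Polynomial.eval₂_X, Polynomial.eval₂_C]
  have h4 : θ (Polynomial.eval₂ ι z P) = P.coeff 0 := by
    rw [h3, map_add, map_mul, h2, mul_zero, zero_add, h1]
  show Polynomial.eval₂ ι z P = ι (θ (Polynomial.eval₂ ι z P)) + z * _
  rw [h4]
  conv_lhs => rw [h3]
  ring

variable {Y PC P : Scheme.{u}} {𝒮 𝒮h : QCGrAlg Y} {ι : 𝒮.toQCAlg ⟶ 𝒮h.toQCAlg}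
  {z : 𝒮h.presheaf.obj (op ⊤)} (hz : IsPolyOver 𝒮 𝒮h ι z)
  {pC : PC ⟶ Y}
  {chartC : ∀ (U : Y.Opens) (hU : IsAffineOpen U),
    (((pC ⁻¹ᵁ U : PC.Opens) : Scheme.{u}) ≅ Proj (𝒮h.deg U hU))}
  {p : P ⟶ Y}
  {chart : ∀ (U : Y.Opens) (hU : IsAffineOpen U),
    (((p ⁻¹ᵁ U : P.Opens) : Scheme.{u}) ≅ Proj (𝒮.deg U hU))}

include hz in
/-- the image of the immersion at infinity over an affine open is `V_+(z)` -/
theorem emb_mem_range_infty_iff (hP : IsRelProj 𝒮 p chart) (hPC : IsRelProj 𝒮h pC chartC)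
    (θ : 𝒮h.toQCAlg ⟶ 𝒮.toQCAlg) (hθ : IsGradedHom θ) (hιθ : ι ≫ θ = 𝟙 _)
    (hθz : (θ.hom.app (op ⊤)).hom z = 0)
    (hirr : ∀ (U : Y.Opens) (hU : IsAffineOpen U),
      (𝒮.deg U hU)₊ ≤ ((𝒮h.deg U hU)₊).map (gradedHomAt θ hθ U hU))
    (j : P ⟶ PC) (hj : IsRelProjMap θ hθ hirr chartC chart j)
    (U : Y.Opens) (hU : IsAffineOpen U) (w : Proj (𝒮h.deg U hU)) :
    (emb pC chartC U hU) w ∈ Set.range j ↔ restrictTop 𝒮h z U ∈ w.asHomogeneousIdeal := by
  have hθι : ∀ a, (gradedHomAt θ hθ U hU) ((gradedHomAt ι hz.graded U hU) a) = a := by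
    intro a
    exact congrArg (fun t : 𝒮.toQCAlg ⟶ 𝒮.toQCAlg => (t.hom.app (op U)).hom a) hιθ
  have hθz' : (gradedHomAt θ hθ U hU) (restrictTop 𝒮h z U) = 0 := θ_z θ hθz U
  have hemb := emb_relProjMap θ hθ hirr hj U hU
  constructor
  · rintro ⟨x, hx⟩
    have h1 : p x ∈ U := by
      have := congrArg (fun t : P ⟶ Y => t x) (relProjMap_comm θ hθ hirr hPC hP j hj)
      rw [← this]
      show pC (j x) ∈ U
      rw [hx]
      exact emb_mem pC chartC U hU w
    have h2 : x ∈ (emb p chart U hU).opensRange := by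
      rw [opensRange_emb]; exact h1
    obtain ⟨w₀, rfl⟩ := h2
    have h3 : j ((emb p chart U hU) w₀) = (emb pC chartC U hU)
        ((Proj.map (gradedHomAt θ hθ U hU) (hirr U hU)) w₀) :=
      congrArg (fun t : _ ⟶ PC => t w₀) hemb
    rw [h3] at hx
    have h4 := (emb pC chartC U hU).injective hx
    rw [← h4, mem_map_iff, hθz']
    exact zero_mem _
  · intro hzw
    have hex : ∃ (n : ℕ) (_ : 0 < n) (a : 𝒮.presheaf.obj (op U)) (_ : a ∈ 𝒮.deg U hU n),
        (gradedHomAt ι hz.graded U hU) a ∉ w.asHomogeneousIdeal := by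
      rcases notMem_or_exists (gradedHomAt ι hz.graded U hU) (restrictTop 𝒮h z U)
        (hz.deg_z U hU) (hz.bij U hU).2 w with h1 | h1
      · exact absurd hzw h1
      · exact h1
    let w₀ : Proj (𝒮.deg U hU) := comapPt (gradedHomAt ι hz.graded U hU) w hex
    have h1 : (Proj.map (gradedHomAt θ hθ U hU) (hirr U hU)) w₀ = w := by
      apply ProjectiveSpectrum.ext
      apply HomogeneousIdeal.ext
      ext b
      show b ∈ ((Proj.map (gradedHomAt θ hθ U hU) (hirr U hU)) w₀).asHomogeneousIdeal ↔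
        b ∈ w.asHomogeneousIdeal
      rw [mem_map_iff, mem_comapPt]
      obtain ⟨c, hc⟩ := exists_eq_add_mul (ι.hom.app (op U)).hom (restrictTop 𝒮h z U)
        (hz.bij U hU).2 (θ.hom.app (op U)).hom hθι hθz' b
      have hzc : restrictTop 𝒮h z U * c ∈ w.asHomogeneousIdeal :=
        Ideal.mul_mem_right _ _ hzw
      constructor
      · intro h2
        rw [hc]
        exact Ideal.add_mem _ h2 hzc
      · intro h2
        have h3 : (ι.hom.app (op U)).hom ((θ.hom.app (op U)).hom b) =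
            b - restrictTop 𝒮h z U * c := by
          rw [eq_sub_iff_add_eq]; exact hc.symm
        show (ι.hom.app (op U)).hom ((θ.hom.app (op U)).hom b) ∈ w.asHomogeneousIdeal
        rw [h3]
        exact Ideal.sub_mem _ h2 hzc
    refine ⟨(emb p chart U hU) w₀, ?_⟩
    have h3 : j ((emb p chart U hU) w₀) = (emb pC chartC U hU)
        ((Proj.map (gradedHomAt θ hθ U hU) (hirr U hU)) w₀) :=
      congrArg (fun t : _ ⟶ PC => t w₀) hemb
    rw [h3, h1]

/-- **`i(C) = Ĉ − j(X)`** -/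
theorem range_coneImm_eq_compl (hP : IsRelProj 𝒮 p chart) (hPC : IsRelProj 𝒮h pC chartC)
    (i : 𝒮.toQCAlg.spec ⟶ PC) (hi : IsConeImm 𝒮 hz pC chartC i)
    (θ : 𝒮h.toQCAlg ⟶ 𝒮.toQCAlg) (hθ : IsGradedHom θ) (hιθ : ι ≫ θ = 𝟙 _)
    (hθz : (θ.hom.app (op ⊤)).hom z = 0)
    (hirr : ∀ (U : Y.Opens) (hU : IsAffineOpen U),
      (𝒮.deg U hU)₊ ≤ ((𝒮h.deg U hU)₊).map (gradedHomAt θ hθ U hU))
    (j : P ⟶ PC) (hj : IsRelProjMap θ hθ hirr chartC chart j) :
    Set.range i = (Set.range j)ᶜ := by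
  ext x
  obtain ⟨U, hU, hxU, -⟩ := Groth.Agent.Helper1.SQ.exists_affine_le (pC x) ⊤ trivial
  have hx' : x ∈ (emb pC chartC U hU).opensRange := by
    rw [opensRange_emb]; exact hxU
  obtain ⟨w, rfl⟩ := hx'
  rw [Set.mem_compl_iff, emb_mem_range_coneImm_iff hz hPC hi U hU w,
    emb_mem_range_infty_iff hz hP hPC θ hθ hιθ hθz hirr j hj U hU w]
  rfl

end

end Groth.Agent.Helper1.PC
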