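import Mathlib
import Groth.Agent.Helper1.AC3
import Groth.Agent.Helper1.PC10

/-!
# The canonical retraction of the pointed affine cone, part 1
-/

set_option autoImplicit false
set_option linter.style.haveILetI false

namespace Groth.Agent.Helper1.PR

open CategoryTheory Limits AlgebraicGeometry TopologicalSpace Opposite RelProj RelCone
  HomogeneousLocalization Groth.Agent.Helper1.RP Groth.Agent.Helper1.PC Groth.Agent.Helper1.AC
open scoped HomogeneousIdeal

universe u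

section ring

variable {A σ : Type u} [CommRing A] [SetLike σ A] [AddSubgroupClass σ A]
  {𝒜 : ℕ → σ} [GradedRing 𝒜]

theorem proj_le_of_pos (q q' : Proj 𝒜)
    (h : ∀ (d : ℕ) (_ : 0 < d) (g : A) (_ : g ∈ 𝒜 d),
      g ∈ q.asHomogeneousIdeal → g ∈ q'.asHomogeneousIdeal) :
    q.asHomogeneousIdeal ≤ q'.asHomogeneousIdeal := by
  classical
  intro a ha
  let y' : ProjectiveSpectrum 𝒜 := q'
  have hcomp : ∀ n, (DirectSum.decompose 𝒜 a n : A) ∈ q'.asHomogeneousIdeal := by
    intro n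
    have hn : (DirectSum.decompose 𝒜 a n : A) ∈ q.asHomogeneousIdeal :=
      q.asHomogeneousIdeal.isHomogeneous n ha
    rcases Nat.eq_zero_or_pos n with rfl | hpos
    · obtain ⟨e, he, b, hb, hbq'⟩ := exists_homog_notMem q'
      have hmul : (DirectSum.decompose 𝒜 a 0 : A) * b ∈ q'.asHomogeneousIdeal := by
        apply h e he
        · have := SetLike.GradedMul.mul_mem (SetLike.coe_mem (DirectSum.decompose 𝒜 a 0)) hb
          rwa [zero_add] at this
        · exact Ideal.mul_mem_right _ _ hn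
      exact (y'.isPrime.mem_or_mem hmul).resolve_right hbq'
    · exact h n hpos _ (SetLike.coe_mem _) hn
  rw [← DirectSum.sum_support_decompose 𝒜 a]
  exact Ideal.sum_mem _ fun n _ => hcomp n

/-- points of `Proj` are determined by their homogeneous elements of positive degree -/
theorem proj_ext_pos (q q' : Proj 𝒜)
    (h : ∀ (d : ℕ) (_ : 0 < d) (g : A) (_ : g ∈ 𝒜 d),
      g ∈ q.asHomogeneousIdeal ↔ g ∈ q'.asHomogeneousIdeal) : q = q' := by
  apply ProjectiveSpectrum.ext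
  exact le_antisymm (proj_le_of_pos q q' fun d hd g hg => (h d hd g hg).1)
    (proj_le_of_pos q' q fun d hd g hg => (h d hd g hg).2)

end ring

noncomputable section

variable {Y PC P : Scheme.{u}} {𝒮 𝒮h : QCGrAlg Y} {ι : 𝒮.toQCAlg ⟶ 𝒮h.toQCAlg}
  {z : 𝒮h.presheaf.obj (op ⊤)} (hz : IsPolyOver 𝒮 𝒮h ι z)
  {pC : PC ⟶ Y}
  {chartC : ∀ (U : Y.Opens) (hU : IsAffineOpen U),
    (((pC ⁻¹ᵁ U : PC.Opens) : Scheme.{u}) ≅ Proj (𝒮h.deg U hU))}
  {p : P ⟶ Y}
  {chart : ∀ (U : Y.Opens) (hU : IsAffineOpen U),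
    (((p ⁻¹ᵁ U : P.Opens) : Scheme.{u}) ≅ Proj (𝒮.deg U hU))}

/-- **point-level description of the retraction on the image of the affine cone** -/
theorem retr_coneImm_apply {i : 𝒮.toQCAlg.spec ⟶ PC} (hi : IsConeImm 𝒮 hz pC chartC i)
    {r : ((pointedProjCone 𝒮 hz pC chartC : PC.Opens) : Scheme.{u}) ⟶ P}
    (hr : IsRetr hz pC chartC p chart r)
    (U : Y.Opens) (hU : IsAffineOpen U) (v : Spec (𝒮.presheaf.obj (op U)))
    (hv : v ∈ vertexCompl (𝒮.deg U hU))
    (x' : ((pointedProjCone 𝒮 hz pC chartC : PC.Opens) : Scheme.{u}))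
    (hx' : (pointedProjCone 𝒮 hz pC chartC).ι x' = i ((𝒮.toQCAlg.ι U hU) v)) :
    ∃ q : Proj (𝒮.deg U hU), r x' = (emb p chart U hU) q ∧
      ∀ (d : ℕ) (_ : 0 < d) (g : 𝒮.presheaf.obj (op U)) (_ : g ∈ 𝒮.deg U hU d),
        g ∈ q.asHomogeneousIdeal ↔ g ∈ v.asIdeal := by
  obtain ⟨d, hd, f, hf, hfv⟩ := (mem_vertexCompl_iff_homog _ v).1 hv
  have hx := coneImm_apply hz hi U hU v
  have hxf := (coneImm_mem_basicOpen_iff hz U hU hd f hf v).2 hfv
  rw [← Proj.opensRange_awayι (𝒮h.deg U hU) ((gradedHomAt ι hz.graded U hU) f)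
    ((gradedHomAt ι hz.graded U hU).2 hf) hd] at hxf
  obtain ⟨w, hw⟩ := hxf
  have hx'w : x' = (coneChart hz pC chartC U hU hd f hf) w := by
    apply (pointedProjCone 𝒮 hz pC chartC).ι.injective
    have h1 := congrArg (fun t : _ ⟶ PC => t w) (coneChart_ι hz pC chartC U hU hd f hf)
    refine Eq.trans ?_ h1.symm
    rw [hx', hx]
    show _ = (emb pC chartC U hU) ((Proj.awayι (𝒮h.deg U hU) ((gradedHomAt ι hz.graded U hU) f)
      ((gradedHomAt ι hz.graded U hU).2 hf) hd) w)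
    exact congrArg _ hw.symm
  have hrw := congrArg (fun t : _ ⟶ P => t w) (coneChart_r hz hr U hU hd f hf)
  refine ⟨(Proj.awayι (𝒮.deg U hU) f hf hd)
    ((Spec.map (CommRingCat.ofHom (Away.map (gradedHomAt ι hz.graded U hU) f))) w), ?_, ?_⟩
  · rw [hx'w]
    exact hrw
  · intro d' hd' g hg
    have h1 := awayι_map_mem_basicOpen_iff (gradedHomAt ι hz.graded U hU) hd hd' hf hg w
    have h2 := coneImm_mem_basicOpen_iff hz U hU hd' g hg v
    rw [Proj.mem_basicOpen] at h1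
    have h3 : (Proj.awayι (𝒮h.deg U hU) ((gradedHomAt ι hz.graded U hU) f)
        ((gradedHomAt ι hz.graded U hU).map_mem hf) hd) w ∈
          Proj.basicOpen (𝒮h.deg U hU) ((gradedHomAt ι hz.graded U hU) g) ↔ g ∉ v.asIdeal := by
      refine Iff.trans (iff_of_eq (congrArg (fun t => t ∈
        Proj.basicOpen (𝒮h.deg U hU) ((gradedHomAt ι hz.graded U hU) g)) ?_)) h2
      exact hw
    exact not_iff_not.1 (h1.trans h3)

end

end Groth.Agent.Helper1.PR
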