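import Mathlib
import Groth.Prelude.Def_Cone
import Groth.Agent.Helper1.PR1

/-!
# The pointed affine cone over an affine base and its retraction onto `Proj`
-/

set_option autoImplicit false
set_option linter.style.haveILetI false

namespace Groth.Agent.Helper1.AFC

open CategoryTheory Limits AlgebraicGeometry TopologicalSpace Opposite
  HomogeneousLocalization Groth.Agent.Helper1.RP Groth.Agent.Helper1.PR
open scoped HomogeneousIdeal

universe u

noncomputable section

variable {R A : Type u} [CommRing R] [CommRing A] [Algebra R A] {𝒜 : ℕ → Submodule R A}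
  [GradedAlgebra 𝒜]

theorem mem_pointed_iff (P : Spec (CommRingCat.of A)) :
    P ∈ Cone.pointed 𝒜 ↔ ∃ (d : ℕ) (_ : 0 < d) (f : A) (_ : f ∈ 𝒜 d), f ∉ P.asIdeal := by
  have e : P ∈ Cone.pointed 𝒜 ↔
      ¬ (((HomogeneousIdeal.irrelevant 𝒜).toIdeal : Set A) ⊆ (P.asIdeal : Set A)) := Iff.rfl
  rw [e, Set.not_subset]
  constructor
  · rintro ⟨f, hf, hfP⟩
    obtain ⟨i, hi, hx⟩ := exists_pos_deg_notMem (𝒜 := 𝒜) (RingHom.id A) f hf P.asIdeal hfP
    exact ⟨i, hi, _, SetLike.coe_mem _, hx⟩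
  · rintro ⟨d, hd, f, hf, hfP⟩
    exact ⟨f, HomogeneousIdeal.mem_irrelevant_of_mem _ hd hf, hfP⟩

@[reassoc]
theorem chart_ι {d : ℕ} {f : A} (hf : f ∈ 𝒜 d) (hd : 0 < d) :
    Cone.chart hf hd ≫ (Cone.pointed 𝒜).ι =
      Spec.map (CommRingCat.ofHom (algebraMap A (Localization.Away f))) :=
  IsOpenImmersion.lift_fac _ _ _

theorem exists_chart (p : (Cone.pointed 𝒜 : Scheme.{u})) {d : ℕ} {f : A} (hf : f ∈ 𝒜 d)
    (hd : 0 < d) (hfp : f ∉ ((Cone.pointed 𝒜).ι p).asIdeal) :
    ∃ w : Spec (CommRingCat.of (Localization.Away f)), (Cone.chart hf hd) w = p := by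
  have h1 : ((Cone.pointed 𝒜).ι p) ∈ (PrimeSpectrum.basicOpen f : Set (PrimeSpectrum A)) := hfp
  rw [← PrimeSpectrum.localization_away_comap_range (Localization.Away f) f] at h1
  obtain ⟨w, hw⟩ := h1
  refine ⟨w, (Cone.pointed 𝒜).ι.injective ?_⟩
  have := congrArg (fun t : _ ⟶ Spec (CommRingCat.of A) => t w) (chart_ι hf hd)
  exact this.trans hw

/-- membership of a fraction `a / f^n` in a prime of `A_f` -/
theorem mk_mem_iff {f : A} (w : Ideal (Localization.Away f)) (a : A) (n : ℕ) :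
    Localization.mk a (⟨f ^ n, n, rfl⟩ : Submonoid.powers f) ∈ w ↔
      algebraMap A (Localization.Away f) a ∈ w := by
  have hu : IsUnit (algebraMap A (Localization.Away f) (f ^ n)) :=
    IsLocalization.map_units (Localization.Away f) (⟨f ^ n, n, rfl⟩ : Submonoid.powers f)
  have e : Localization.mk a (⟨f ^ n, n, rfl⟩ : Submonoid.powers f) *
      algebraMap A (Localization.Away f) (f ^ n) = algebraMap A (Localization.Away f) a := by
    rw [Localization.mk_eq_mk']
    exact IsLocalization.mk'_spec (Localization.Away f) a (⟨f ^ n, n, rfl⟩ : Submonoid.powers f)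
  rw [← e]
  exact (Ideal.mul_unit_mem_iff_mem w hu).symm

variable (π : (Cone.pointed 𝒜 : Scheme.{u}) ⟶ Proj 𝒜)
  (hπ : ∀ (d : ℕ) (f : A) (hd : 0 < d) (hf : f ∈ 𝒜 d),
    Cone.chart hf hd ≫ π =
      Spec.map (CommRingCat.ofHom (algebraMap (HomogeneousLocalization.Away 𝒜 f)
        (Localization.Away f))) ≫ Proj.awayι 𝒜 f hf hd)

include hπ in
/-- the homogeneous elements of positive degree of `π(p)` are those of `p` -/
theorem pi_mem_iff (p : (Cone.pointed 𝒜 : Scheme.{u})) {e : ℕ} (he : 0 < e) {g : A}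
    (hg : g ∈ 𝒜 e) :
    g ∈ (π p).asHomogeneousIdeal ↔ g ∈ ((Cone.pointed 𝒜).ι p).asIdeal := by
  have hp : (Cone.pointed 𝒜).ι p ∈ Cone.pointed 𝒜 := p.2
  obtain ⟨d, hd, f, hf, hfp⟩ := (mem_pointed_iff _).1 hp
  obtain ⟨w, rfl⟩ := exists_chart p hf hd hfp
  have h1 : π ((Cone.chart hf hd) w) = (Proj.awayι 𝒜 f hf hd)
      ((Spec.map (CommRingCat.ofHom (algebraMap (HomogeneousLocalization.Away 𝒜 f)
        (Localization.Away f)))) w) :=
    congrArg (fun t : _ ⟶ Proj 𝒜 => t w) (hπ d f hd hf)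
  have h2 : (Cone.pointed 𝒜).ι ((Cone.chart hf hd) w) =
      (Spec.map (CommRingCat.ofHom (algebraMap A (Localization.Away f)))) w :=
    congrArg (fun t : _ ⟶ Spec (CommRingCat.of A) => t w) (chart_ι hf hd)
  rw [h1, h2]
  have h3 := Proj.awayι_preimage_basicOpen 𝒜 hf hd hg he
  have e1 : (Proj.awayι 𝒜 f hf hd)
      ((Spec.map (CommRingCat.ofHom (algebraMap (HomogeneousLocalization.Away 𝒜 f)
        (Localization.Away f)))) w) ∈ Proj.basicOpen 𝒜 g ↔
      (Spec.map (CommRingCat.ofHom (algebraMap (HomogeneousLocalization.Away 𝒜 f)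
        (Localization.Away f)))) w ∈
        (PrimeSpectrum.basicOpen (Away.isLocalizationElem hf hg) :
          (Spec (.of (Away 𝒜 f))).Opens) := by
    rw [← h3]; rfl
  rw [Proj.mem_basicOpen] at e1
  rw [← not_iff_not, e1]
  refine (spec_map_mem_basicOpen _ _ w).trans ?_
  rw [not_iff_not]
  show algebraMap (Away 𝒜 f) (Localization.Away f) (Away.isLocalizationElem hf hg) ∈ w.asIdeal ↔
    algebraMap A (Localization.Away f) g ∈ w.asIdeal
  unfold Away.isLocalizationElem
  rw [HomogeneousLocalization.algebraMap_apply, Away.val_mk, mk_mem_iff, map_pow]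
  exact w.isPrime.pow_mem_iff_mem d hd

end

end Groth.Agent.Helper1.AFC
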