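import Mathlib
import Groth.Agent.Helper1.AFC1

/-!
# The retraction of the pointed affine cone over an affine base: affine, surjective, pointwise
-/

set_option autoImplicit false
set_option linter.style.haveILetI false

namespace Groth.Agent.Helper1.AFC

open CategoryTheory Limits AlgebraicGeometry TopologicalSpace Opposite
  HomogeneousLocalization Groth.Agent.Helper1.RP Groth.Agent.Helper1.PR
open scoped HomogeneousIdeal

universe u

noncomputable section

variable {R A : Type u} [CommRing R] [CommRing A] [Algebra R A] {𝒜 : ℕ → Submodule R A}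
  [GradedAlgebra 𝒜]

/-- the point of `Proj` given by the homogeneous core of a point of the pointed cone -/
def corePt (P : Spec (CommRingCat.of A)) (hP : P ∈ Cone.pointed 𝒜) : Proj 𝒜 :=
  (⟨P.asIdeal.homogeneousCore 𝒜, P.isPrime.homogeneousCore, by
    obtain ⟨d, hd, f, hf, hfv⟩ := (mem_pointed_iff P).1 hP
    intro hle
    exact hfv (Ideal.toIdeal_homogeneousCore_le 𝒜 P.asIdeal
      (hle (HomogeneousIdeal.mem_irrelevant_of_mem _ hd hf)))⟩ : ProjectiveSpectrum 𝒜)

theorem mem_corePt_iff (P : Spec (CommRingCat.of A)) (hP : P ∈ Cone.pointed 𝒜) {d : ℕ} {f : A}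
    (hf : f ∈ 𝒜 d) : f ∈ (corePt P hP).asHomogeneousIdeal ↔ f ∈ P.asIdeal := by
  constructor
  · intro h
    exact Ideal.toIdeal_homogeneousCore_le 𝒜 P.asIdeal h
  · intro h
    exact Ideal.mem_homogeneousCore_of_homogeneous_of_mem ⟨d, hf⟩ h

variable (π : (Cone.pointed 𝒜 : Scheme.{u}) ⟶ Proj 𝒜)
  (hπ : ∀ (d : ℕ) (f : A) (hd : 0 < d) (hf : f ∈ 𝒜 d),
    Cone.chart hf hd ≫ π =
      Spec.map (CommRingCat.ofHom (algebraMap (HomogeneousLocalization.Away 𝒜 f)
        (Localization.Away f))) ≫ Proj.awayι 𝒜 f hf hd)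

include hπ in
theorem pi_eq_corePt (p : (Cone.pointed 𝒜 : Scheme.{u})) :
    π p = corePt ((Cone.pointed 𝒜).ι p) p.2 := by
  apply proj_ext_pos
  intro e he g hg
  rw [pi_mem_iff π hπ p he hg, mem_corePt_iff _ _ hg]

include hπ in
theorem pi_preimage_basicOpen {d : ℕ} {f : A} (hd : 0 < d) (hf : f ∈ 𝒜 d) :
    π ⁻¹ᵁ Proj.basicOpen 𝒜 f = (Cone.pointed 𝒜).ι ⁻¹ᵁ Cone.coneOpen f := by
  ext p
  show π p ∈ Proj.basicOpen 𝒜 f ↔ f ∉ ((Cone.pointed 𝒜).ι p).asIdeal
  rw [Proj.mem_basicOpen, pi_mem_iff π hπ p hd hf]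

include hπ in
theorem pi_isAffineHom : IsAffineHom π := by
  apply isAffineHom_of_forall_exists_isAffineOpen
  intro x
  obtain ⟨d, hd, f, hf, hfx⟩ := exists_homog_notMem x
  refine ⟨Proj.basicOpen 𝒜 f, ?_, Proj.isAffineOpen_basicOpen 𝒜 f hf hd, ?_⟩
  · rw [Proj.mem_basicOpen]; exact hfx
  · rw [pi_preimage_basicOpen π hπ hd hf]
    apply IsAffineOpen.preimage_of_isOpenImmersion
    · exact IsAffineOpen.Spec_basicOpen (R := CommRingCat.of A) f
    · rw [Scheme.Opens.opensRange_ι]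
      intro P hP
      rw [mem_pointed_iff]
      exact ⟨d, hd, f, hf, hP⟩

include hπ in
theorem pi_surjective : Function.Surjective π := by
  intro q
  let y : ProjectiveSpectrum 𝒜 := q
  let P : Spec (CommRingCat.of A) := (⟨y.asHomogeneousIdeal.toIdeal, y.isPrime⟩ : PrimeSpectrum A)
  have hP : P ∈ Cone.pointed 𝒜 := by
    rw [mem_pointed_iff]
    obtain ⟨e, he, b, hb, hbw⟩ := exists_homog_notMem q
    exact ⟨e, he, b, hb, hbw⟩
  refine ⟨⟨P, hP⟩, ?_⟩
  apply proj_ext_pos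
  intro e he g hg
  rw [pi_mem_iff π hπ _ he hg]
  rfl

end

end Groth.Agent.Helper1.AFC
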