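import Mathlib
import Groth.Agent.Helper1.AFC2

/-!
# Existence and uniqueness of the retraction of the pointed affine cone (affine base)
-/

set_option autoImplicit false
set_option linter.style.haveILetI false

namespace Groth.Agent.Helper1.AFC

open CategoryTheory Limits AlgebraicGeometry TopologicalSpace Opposite
  HomogeneousLocalization Groth.Agent.Helper1.RP Groth.Agent.Helper1.PR
open scoped HomogeneousIdeal

universe u

noncomputable section

variable {R A : Type u} [CommRing R] [CommRing A] [Algebra R A] {𝒜 : ℕ → Submodule R A}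
  [GradedAlgebra 𝒜]

instance isOpenImmersion_chart {d : ℕ} {f : A} (hf : f ∈ 𝒜 d) (hd : 0 < d) :
    IsOpenImmersion (Cone.chart hf hd) := by
  have : IsOpenImmersion (Cone.chart hf hd ≫ (Cone.pointed 𝒜).ι) := by
    rw [chart_ι]; infer_instance
  exact IsOpenImmersion.of_comp _ (Cone.pointed 𝒜).ι

/-- the transition map `A_f → A_x` for `x = f * g` -/
def locMap {f g x : A} (hx : x = f * g) : Localization.Away f →+* Localization.Away x :=
  Localization.awayLift (algebraMap A (Localization.Away x)) f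
    (isUnit_of_dvd_unit (map_dvd (algebraMap A (Localization.Away x)) (Dvd.intro g hx.symm))
      (IsLocalization.Away.algebraMap_isUnit x))

theorem locMap_comp_algebraMap {f g x : A} (hx : x = f * g) :
    (locMap hx).comp (algebraMap A (Localization.Away f)) = algebraMap A (Localization.Away x) := by
  unfold locMap Localization.awayLift
  exact IsLocalization.Away.lift_comp f
    (isUnit_of_dvd_unit (map_dvd (algebraMap A (Localization.Away x)) (Dvd.intro g hx.symm))
      (IsLocalization.Away.algebraMap_isUnit x))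

theorem locMap_comp_val {f g x : A} {e : ℕ} (hg : g ∈ 𝒜 e) (hx : x = f * g) :
    (locMap hx).comp (algebraMap (Away 𝒜 f) (Localization.Away f)) =
      (algebraMap (Away 𝒜 x) (Localization.Away x)).comp (awayMap 𝒜 hg hx) := by
  ext a
  exact (val_awayMap 𝒜 hg hx a).symm

/-- the value of the retraction on a chart -/
def rhs {d : ℕ} {f : A} (hf : f ∈ 𝒜 d) (hd : 0 < d) :
    Spec (CommRingCat.of (Localization.Away f)) ⟶ Proj 𝒜 :=
  Spec.map (CommRingCat.ofHom (algebraMap (Away 𝒜 f) (Localization.Away f))) ≫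
    Proj.awayι 𝒜 f hf hd

theorem rhs_congr_deg {d d' : ℕ} (e : d = d') {f : A} (hf : f ∈ 𝒜 d) (hd : 0 < d)
    (hf' : f ∈ 𝒜 d') (hd' : 0 < d') : rhs hf hd = rhs hf' hd' := by
  subst e; rfl

theorem chart_congr_deg {d d' : ℕ} (e : d = d') {f : A} (hf : f ∈ 𝒜 d) (hd : 0 < d)
    (hf' : f ∈ 𝒜 d') (hd' : 0 < d') : Cone.chart hf hd = Cone.chart hf' hd' := by
  subst e; rfl

theorem locMap_chart {f g x : A} {d e : ℕ} (hf : f ∈ 𝒜 d) (hd : 0 < d) (hg : g ∈ 𝒜 e)
    (hx : x = f * g) :
    Spec.map (CommRingCat.ofHom (locMap hx)) ≫ Cone.chart hf hd =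
      Cone.chart (hx ▸ SetLike.mul_mem_graded hf hg : x ∈ 𝒜 (d + e))
        (hd.trans_le (d.le_add_right e)) := by
  rw [← cancel_mono (Cone.pointed 𝒜).ι, Category.assoc, chart_ι, chart_ι, ← Spec.map_comp,
    ← CommRingCat.ofHom_comp, locMap_comp_algebraMap]

theorem locMap_rhs {f g x : A} {d e : ℕ} (hf : f ∈ 𝒜 d) (hd : 0 < d) (hg : g ∈ 𝒜 e)
    (hx : x = f * g) :
    Spec.map (CommRingCat.ofHom (locMap hx)) ≫ rhs hf hd =
      rhs (hx ▸ SetLike.mul_mem_graded hf hg : x ∈ 𝒜 (d + e))
        (hd.trans_le (d.le_add_right e)) := by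
  unfold rhs
  rw [← Spec.map_comp_assoc, ← CommRingCat.ofHom_comp, locMap_comp_val hg hx,
    CommRingCat.ofHom_comp, Spec.map_comp_assoc, Proj.SpecMap_awayMap_awayι]

variable (𝒜) in
/-- **existence and uniqueness of the canonical retraction `E → Proj`** -/
theorem existsUnique_retraction :
    ∃! π : (Cone.pointed 𝒜 : Scheme.{u}) ⟶ Proj 𝒜,
      ∀ (d : ℕ) (f : A) (hd : 0 < d) (hf : f ∈ 𝒜 d),
        Cone.chart hf hd ≫ π =
          Spec.map (CommRingCat.ofHom (algebraMap (Away 𝒜 f) (Localization.Away f))) ≫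
            Proj.awayι 𝒜 f hf hd := by
  let I : Type u := Σ' (d : ℕ) (f : A), 0 < d ∧ f ∈ 𝒜 d
  have key := existsUnique_of_charts (X := (Cone.pointed 𝒜 : Scheme.{u})) (Z := Proj 𝒜) (I := I)
    (fun i => Spec (CommRingCat.of (Localization.Away i.2.1)))
    (fun i => Cone.chart i.2.2.2 i.2.2.1)
    (fun p => by
      have hp : (Cone.pointed 𝒜).ι p ∈ Cone.pointed 𝒜 := p.2
      obtain ⟨d, hd, f, hf, hfp⟩ := (mem_pointed_iff _).1 hp
      obtain ⟨w, hw⟩ := exists_chart p hf hd hfp
      exact ⟨⟨d, f, hd, hf⟩, w, hw⟩)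
    (fun i => rhs i.2.2.2 i.2.2.1)
    (fun i j p hpi hpj => by
      obtain ⟨d, f, hd, hf⟩ := i
      obtain ⟨d', f', hd', hf'⟩ := j
      obtain ⟨w, hw⟩ := hpi
      obtain ⟨w', hw'⟩ := hpj
      have h1 : f ∉ ((Cone.pointed 𝒜).ι p).asIdeal := by
        rw [← hw]
        have := congrArg (fun t : _ ⟶ Spec (CommRingCat.of A) => t w) (chart_ι hf hd)
        rw [show (Cone.pointed 𝒜).ι ((Cone.chart hf hd) w) = _ from this]
        intro hmem
        exact w.isPrime.ne_top (Ideal.eq_top_of_isUnit_mem _ hmem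
          (IsLocalization.Away.algebraMap_isUnit f))
      have h2 : f' ∉ ((Cone.pointed 𝒜).ι p).asIdeal := by
        rw [← hw']
        have := congrArg (fun t : _ ⟶ Spec (CommRingCat.of A) => t w') (chart_ι hf' hd')
        rw [show (Cone.pointed 𝒜).ι ((Cone.chart hf' hd') w') = _ from this]
        intro hmem
        exact w'.isPrime.ne_top (Ideal.eq_top_of_isUnit_mem _ hmem
          (IsLocalization.Away.algebraMap_isUnit f'))
      have h3 : f * f' ∉ ((Cone.pointed 𝒜).ι p).asIdeal := fun hmem =>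
        (((Cone.pointed 𝒜).ι p).isPrime.mem_or_mem hmem).elim h1 h2
      have hx : f * f' ∈ 𝒜 (d + d') := SetLike.mul_mem_graded hf hf'
      have hdd : 0 < d + d' := hd.trans_le (d.le_add_right d')
      obtain ⟨wk, hwk⟩ := exists_chart p hx hdd h3
      refine ⟨Spec (CommRingCat.of (Localization.Away (f * f'))), Cone.chart hx hdd,
        inferInstance, Spec.map (CommRingCat.ofHom (locMap (rfl : f * f' = f * f'))),
        Spec.map (CommRingCat.ofHom (locMap (mul_comm f f' : f * f' = f' * f))),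
        ⟨wk, hwk⟩, ?_, ?_, ?_⟩
      · exact locMap_chart hf hd hf' rfl
      · rw [locMap_chart hf' hd' hf (mul_comm f f')]
        exact chart_congr_deg (add_comm d' d) _ _ _ _
      · show Spec.map _ ≫ rhs hf hd = Spec.map _ ≫ rhs hf' hd'
        rw [locMap_rhs hf hd hf' rfl, locMap_rhs hf' hd' hf (mul_comm f f')]
        exact rhs_congr_deg (add_comm d d') _ _ _ _)
  obtain ⟨π, hπ, huniq⟩ := key
  refine ⟨π, fun d f hd hf => hπ ⟨d, f, hd, hf⟩, ?_⟩
  intro π' hπ'
  exact huniq π' (fun i => hπ' i.1 i.2.1 i.2.2.1 i.2.2.2)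

end

end Groth.Agent.Helper1.AFC
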