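import Mathlib

/-!
# Fibres of a morphism that is, over an affine chart, `Spec` of a ring map
-/

set_option autoImplicit false
set_option linter.style.haveILetI false

namespace Groth.Agent.Helper1.FB

open CategoryTheory Limits AlgebraicGeometry TopologicalSpace Opposite
open scoped TensorProduct

universe u

noncomputable section

/-- If `π : X ⟶ P` is, over the affine chart `j : Spec C ⟶ P`, the morphism `Spec B ⟶ Spec C`
(`c : Spec B ⟶ X` an open immersion onto `π⁻¹(j(Spec C))`), then the base change of `π` along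
`Spec K ⟶ Spec C ⟶ P` is `Spec (K ⊗[C] B)`. -/
theorem exists_fibre_iso {X P : Scheme.{u}} (π : X ⟶ P) {C B K : Type u} [CommRing C]
    [CommRing B] [CommRing K] [Algebra C B] [Algebra C K]
    (j : Spec (CommRingCat.of C) ⟶ P) [IsOpenImmersion j]
    (c : Spec (CommRingCat.of B) ⟶ X) [IsOpenImmersion c]
    (h1 : c ≫ π = Spec.map (CommRingCat.ofHom (algebraMap C B)) ≫ j)
    (h2 : π ⁻¹ᵁ j.opensRange = c.opensRange)
    (s : Spec (CommRingCat.of K) ⟶ P)
    (hs : s = Spec.map (CommRingCat.ofHom (algebraMap C K)) ≫ j) :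
    ∃ e : pullback π s ≅ Spec (CommRingCat.of (K ⊗[C] B)),
      e.hom ≫ Spec.map (CommRingCat.ofHom (algebraMap K (K ⊗[C] B))) = pullback.snd π s := by
  subst hs
  have S2 := CommRingCat.isPushout_tensorProduct C K B
  have P2 := isPullback_SpecMap_of_isPushout _ _ _ _ S2
  have t := IsOpenImmersion.isPullback (Spec.map (CommRingCat.ofHom (algebraMap C B))) c j π h1 h2
  have P3 := (P2.paste_vert t).flip
  refine ⟨P3.isoPullback.symm, ?_⟩
  exact P3.isoPullback_inv_snd

end

end Groth.Agent.Helper1.FB
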