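import Mathlib
import Groth.Agent.Helper1.FB1

/-!
# Fibres over a point of a morphism that is chartwise `Spec C[M] ⟶ Spec C`
-/

set_option autoImplicit false
set_option linter.style.haveILetI false

namespace Groth.Agent.Helper1.FB

open CategoryTheory Limits AlgebraicGeometry TopologicalSpace Opposite
open scoped TensorProduct

universe u

noncomputable section

/-- `Spec` of a ring isomorphism -/
def specIso {R S : Type u} [CommRing R] [CommRing S] (Ξ : R ≃+* S) :
    Spec (CommRingCat.of R) ≅ Spec (CommRingCat.of S) where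
  hom := Spec.map (CommRingCat.ofHom Ξ.symm.toRingHom)
  inv := Spec.map (CommRingCat.ofHom Ξ.toRingHom)
  hom_inv_id := by
    rw [← Spec.map_comp, ← CommRingCat.ofHom_comp]
    have : Ξ.symm.toRingHom.comp Ξ.toRingHom = RingHom.id R := by ext a; simp
    rw [this]; exact Spec.map_id _
  inv_hom_id := by
    rw [← Spec.map_comp, ← CommRingCat.ofHom_comp]
    have : Ξ.toRingHom.comp Ξ.symm.toRingHom = RingHom.id S := by ext a; simp
    rw [this]; exact Spec.map_id _

/-- the fibre over a point of the chart is `Spec (κ(x) ⊗[C] B)` -/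
theorem exists_residueField_fibre_iso {X P : Scheme.{u}} (π : X ⟶ P) (x : P) {C B : Type u}
    [CommRing C] [CommRing B] [Algebra C B]
    (j : Spec (CommRingCat.of C) ⟶ P) [IsOpenImmersion j]
    (c : Spec (CommRingCat.of B) ⟶ X) [IsOpenImmersion c]
    (h1 : c ≫ π = Spec.map (CommRingCat.ofHom (algebraMap C B)) ≫ j)
    (h2 : π ⁻¹ᵁ j.opensRange = c.opensRange) (hx : x ∈ j.opensRange) :
    ∃ (_ : Algebra C (P.residueField x)),
      ∃ e : pullback π (P.fromSpecResidueField x) ≅
          Spec (CommRingCat.of (P.residueField x ⊗[C] B)),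
        e.hom ≫ Spec.map (CommRingCat.ofHom (algebraMap (P.residueField x)
          (P.residueField x ⊗[C] B))) = pullback.snd π (P.fromSpecResidueField x) := by
  have hr : Set.range (P.fromSpecResidueField x) ⊆ Set.range j := by
    rw [Scheme.range_fromSpecResidueField]
    rintro _ rfl
    exact hx
  let a : Spec (P.residueField x) ⟶ Spec (CommRingCat.of C) :=
    IsOpenImmersion.lift j (P.fromSpecResidueField x) hr
  have ha : a ≫ j = P.fromSpecResidueField x := IsOpenImmersion.lift_fac _ _ _
  let α : CommRingCat.of C ⟶ P.residueField x := Spec.preimage a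
  have hα : Spec.map α = a := Spec.map_preimage a
  refine ⟨α.hom.toAlgebra, ?_⟩
  have hs : P.fromSpecResidueField x =
      Spec.map (CommRingCat.ofHom (@algebraMap C (P.residueField x) _ _ α.hom.toAlgebra)) ≫ j := by
    rw [← ha, ← hα]
    rfl
  exact @exists_fibre_iso X P π C B (P.residueField x) _ _ (P.residueField x).commRing _
    α.hom.toAlgebra j _ c _ h1 h2 _ hs

/-- the fibre over a point of the chart when `B ≅ C[M]` -/
theorem exists_fibre_iso_addMonoidAlgebra {X P : Scheme.{u}} (π : X ⟶ P) (x : P) {C B : Type u}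
    [CommRing C] [CommRing B] [Algebra C B] {M : Type} [AddCommMonoid M]
    (j : Spec (CommRingCat.of C) ⟶ P) [IsOpenImmersion j]
    (c : Spec (CommRingCat.of B) ⟶ X) [IsOpenImmersion c]
    (h1 : c ≫ π = Spec.map (CommRingCat.ofHom (algebraMap C B)) ≫ j)
    (h2 : π ⁻¹ᵁ j.opensRange = c.opensRange) (hx : x ∈ j.opensRange)
    (Θ : B ≃ₐ[C] AddMonoidAlgebra C M) :
    ∃ e : pullback π (P.fromSpecResidueField x) ≅
        Spec (CommRingCat.of (AddMonoidAlgebra (P.residueField x) M)),
      e.hom ≫ Spec.map (CommRingCat.ofHom (algebraMap (P.residueField x)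
        (AddMonoidAlgebra (P.residueField x) M))) =
          pullback.snd π (P.fromSpecResidueField x) := by
  obtain ⟨inst, e, he⟩ := exists_residueField_fibre_iso π x j c h1 h2 hx
  let Ξ : P.residueField x ⊗[C] B ≃ₐ[P.residueField x] AddMonoidAlgebra (P.residueField x) M :=
    (Algebra.TensorProduct.congr AlgEquiv.refl Θ).trans
      (AddMonoidAlgebra.scalarTensorEquiv C (P.residueField x))
  refine ⟨e ≪≫ specIso Ξ.toRingEquiv, ?_⟩
  rw [Iso.trans_hom, Category.assoc, ← he]
  congr 1
  show Spec.map _ ≫ Spec.map _ = _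
  rw [← Spec.map_comp, ← CommRingCat.ofHom_comp]
  congr 2
  ext k
  exact Ξ.symm.commutes k

end

end Groth.Agent.Helper1.FB
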