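import Mathlib

/-!
# `A_f ≅ A_(f)[T, T⁻¹]` for `f` homogeneous of degree one
-/

set_option autoImplicit false
set_option linter.style.haveILetI false

namespace Groth.Agent.Helper1.LA

open HomogeneousLocalization
open scoped DirectSum

universe u

noncomputable section

variable {A σ : Type u} [CommRing A] [SetLike σ A] [AddSubgroupClass σ A] {𝒜 : ℕ → σ}
  [GradedRing 𝒜] {f : A} (hf : f ∈ 𝒜 1)

/-- the fraction `a / f^i` for `a` homogeneous of degree `i` -/
def mk1 (i : ℕ) (a : A) (ha : a ∈ 𝒜 i) : Away 𝒜 f :=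
  Away.mk 𝒜 hf i a (by rwa [smul_eq_mul, mul_one])

theorem val_mk1 (i : ℕ) (a : A) (ha : a ∈ 𝒜 i) :
    (mk1 hf i a ha).val = Localization.mk a (⟨f ^ i, i, rfl⟩ : Submonoid.powers f) :=
  Away.val_mk _ _ _ _ _

theorem mk1_add (i : ℕ) (a b : A) (ha : a ∈ 𝒜 i) (hb : b ∈ 𝒜 i) :
    mk1 hf i (a + b) (add_mem ha hb) = mk1 hf i a ha + mk1 hf i b hb := by
  apply val_injective
  rw [val_add, val_mk1, val_mk1, val_mk1, Localization.add_mk_self]

theorem mk1_zero (i : ℕ) : mk1 hf i 0 (zero_mem _) = 0 := by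
  apply val_injective
  rw [val_mk1, val_zero, Localization.mk_zero]

theorem mk1_one : mk1 hf 0 1 (SetLike.GradedOne.one_mem) = 1 := by
  apply val_injective
  rw [val_mk1, val_one]
  have : (⟨f ^ 0, 0, rfl⟩ : Submonoid.powers f) = 1 := Subtype.ext (pow_zero f)
  rw [this, Localization.mk_one]

theorem mk1_mul (i j : ℕ) (a b : A) (ha : a ∈ 𝒜 i) (hb : b ∈ 𝒜 j) :
    mk1 hf (i + j) (a * b) (SetLike.GradedMul.mul_mem ha hb) = mk1 hf i a ha * mk1 hf j b hb := by
  apply val_injective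
  rw [val_mul, val_mk1, val_mk1, val_mk1, Localization.mk_mul]
  congr 1
  exact Subtype.ext (pow_add f i j)

theorem mk1_self : mk1 hf 1 f hf = 1 := by
  apply val_injective
  rw [val_mk1, val_one]
  have : (⟨f ^ 1, 1, rfl⟩ : Submonoid.powers f) = ⟨f, 1, pow_one f⟩ := Subtype.ext (pow_one f)
  rw [this]
  exact Localization.mk_self (⟨f, 1, pow_one f⟩ : Submonoid.powers f)

end

end Groth.Agent.Helper1.LA
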