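import Mathlib
import Groth.Agent.Helper1.LA1

/-!
# `A_f ≅ A_(f)[T, T⁻¹]` for `f` homogeneous of degree one, part 2: the two maps
-/

set_option autoImplicit false
set_option linter.style.haveILetI false

namespace Groth.Agent.Helper1.LA

open HomogeneousLocalization
open scoped DirectSum

universe u

noncomputable section

variable {A σ : Type u} [CommRing A] [SetLike σ A] [AddSubgroupClass σ A] {𝒜 : ℕ → σ}
  [GradedRing 𝒜] {f : A} (hf : f ∈ 𝒜 1)

/-- the degree-`i` component of the map `A → A_(f)[T, T⁻¹]`, `a ↦ (a / f^i) T^i` -/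
def gAdd (i : ℕ) : 𝒜 i →+ AddMonoidAlgebra (Away 𝒜 f) ℤ where
  toFun a := AddMonoidAlgebra.single (i : ℤ) (mk1 hf i a a.2)
  map_zero' := by
    show AddMonoidAlgebra.single (i : ℤ) (mk1 hf i (0 : A) _) = 0
    rw [mk1_zero, AddMonoidAlgebra.single_zero]
  map_add' a b := by
    show AddMonoidAlgebra.single (i : ℤ) (mk1 hf i ((a : A) + b) _) = _
    rw [mk1_add hf i a b a.2 b.2, AddMonoidAlgebra.single_add]

theorem gAdd_apply (i : ℕ) (a : 𝒜 i) :
    gAdd hf i a = AddMonoidAlgebra.single (i : ℤ) (mk1 hf i a a.2) := rfl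

/-- the ring homomorphism `A → A_(f)[T, T⁻¹]`, `a ↦ ∑ (a_i / f^i) T^i` -/
def phi0 : A →+* AddMonoidAlgebra (Away 𝒜 f) ℤ :=
  (DirectSum.toSemiring (gAdd hf)
    (by
      rw [gAdd_apply]
      show AddMonoidAlgebra.single ((0 : ℕ) : ℤ) (mk1 hf 0 (1 : A) _) = 1
      rw [mk1_one, Nat.cast_zero]
      rfl)
    (by
      intro i j ai aj
      rw [gAdd_apply, gAdd_apply, gAdd_apply, AddMonoidAlgebra.single_mul_single,
        ← mk1_mul hf i j ai aj ai.2 aj.2, Nat.cast_add]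
      rfl)).comp (DirectSum.decomposeRingEquiv 𝒜).toRingHom

theorem phi0_of_mem {i : ℕ} {a : A} (ha : a ∈ 𝒜 i) :
    phi0 hf a = AddMonoidAlgebra.single (i : ℤ) (mk1 hf i a ha) := by
  unfold phi0
  rw [RingHom.comp_apply]
  show DirectSum.toSemiring (gAdd hf) _ _ (DirectSum.decompose 𝒜 a) = _
  rw [DirectSum.decompose_of_mem 𝒜 ha, DirectSum.toSemiring_of, gAdd_apply]

theorem phi0_f : phi0 hf f = AddMonoidAlgebra.single (1 : ℤ) 1 := by
  rw [phi0_of_mem hf hf, mk1_self, Nat.cast_one]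

theorem isUnit_phi0_f : IsUnit (phi0 hf f) := by
  rw [phi0_f]
  refine IsUnit.of_mul_eq_one (AddMonoidAlgebra.single (-1 : ℤ) 1) ?_
  rw [AddMonoidAlgebra.single_mul_single, add_neg_cancel, mul_one]
  rfl

/-- `Φ : A_f → A_(f)[T, T⁻¹]` -/
def Phi : Localization.Away f →+* AddMonoidAlgebra (Away 𝒜 f) ℤ :=
  IsLocalization.Away.lift f (isUnit_phi0_f hf)

theorem Phi_algebraMap (a : A) : Phi hf (algebraMap A (Localization.Away f) a) = phi0 hf a :=
  IsLocalization.Away.lift_eq _ _ _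

/-- the unit `f / 1` of `A_f` -/
def uU : (Localization.Away f)ˣ :=
  (IsLocalization.Away.algebraMap_isUnit (S := Localization.Away f) f).unit

theorem uU_val : ((uU : (Localization.Away f)ˣ) : Localization.Away f) =
    algebraMap A (Localization.Away f) f :=
  IsUnit.unit_spec _

/-- `Ψ : A_(f)[T, T⁻¹] → A_f`, `T ↦ f / 1` -/
def Psi : AddMonoidAlgebra (Away 𝒜 f) ℤ →ₐ[Away 𝒜 f] Localization.Away f :=
  AddMonoidAlgebra.lift (Away 𝒜 f) (Localization.Away f) ℤ
    ((Units.coeHom (Localization.Away f)).comp (zpowersHom (Localization.Away f)ˣ uU))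

theorem Psi_single (n : ℤ) (c : Away 𝒜 f) :
    Psi (𝒜 := 𝒜) (AddMonoidAlgebra.single n c) =
      c.val * ((uU ^ n : (Localization.Away f)ˣ) : Localization.Away f) := by
  unfold Psi
  rw [AddMonoidAlgebra.lift_single, Algebra.smul_def]
  rfl

end

end Groth.Agent.Helper1.LA
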