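import Mathlib
import Groth.Agent.Helper1.LA2

/-!
# `A_f ≅ A_(f)[T, T⁻¹]` for `f` homogeneous of degree one, part 3: the isomorphism
-/

set_option autoImplicit false
set_option linter.style.haveILetI false

namespace Groth.Agent.Helper1.LA

open HomogeneousLocalization
open scoped DirectSum

universe u

noncomputable section

variable {A σ : Type u} [CommRing A] [SetLike σ A] [AddSubgroupClass σ A] {𝒜 : ℕ → σ}
  [GradedRing 𝒜] {f : A} (hf : f ∈ 𝒜 1)

theorem Psi_phi0 (a : A) : Psi (𝒜 := 𝒜) (phi0 hf a) = algebraMap A (Localization.Away f) a := by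
  induction a using DirectSum.Decomposition.inductionOn 𝒜 with
  | zero => simp
  | @homogeneous i a =>
    rw [phi0_of_mem hf a.2, Psi_single, val_mk1, zpow_natCast, Units.val_pow_eq_pow_val, uU_val,
      ← map_pow, Localization.mk_eq_mk']
    exact IsLocalization.mk'_spec (Localization.Away f) (a : A)
      (⟨f ^ i, i, rfl⟩ : Submonoid.powers f)
  | add a b ha hb => rw [map_add, map_add, ha, hb, map_add]

theorem Psi_Phi (b : Localization.Away f) : Psi (𝒜 := 𝒜) (Phi hf b) = b := by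
  have h : (Psi (𝒜 := 𝒜)).toRingHom.comp (Phi hf) = RingHom.id (Localization.Away f) := by
    apply IsLocalization.ringHom_ext (Submonoid.powers f)
    ext a
    show Psi (𝒜 := 𝒜) (Phi hf (algebraMap A (Localization.Away f) a)) = _
    rw [Phi_algebraMap, Psi_phi0]
    rfl
  exact congrArg (fun t : Localization.Away f →+* Localization.Away f => t b) h

/-- the unit `T` of `A_(f)[T, T⁻¹]` -/
def TU : (AddMonoidAlgebra (Away 𝒜 f) ℤ)ˣ where
  val := AddMonoidAlgebra.single (1 : ℤ) 1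
  inv := AddMonoidAlgebra.single (-1 : ℤ) 1
  val_inv := by
    rw [AddMonoidAlgebra.single_mul_single, add_neg_cancel, mul_one]; rfl
  inv_val := by
    rw [AddMonoidAlgebra.single_mul_single, neg_add_cancel, mul_one]; rfl

theorem TU_zpow (n : ℤ) : (((TU (𝒜 := 𝒜) (f := f)) ^ n :
    (AddMonoidAlgebra (Away 𝒜 f) ℤ)ˣ) : AddMonoidAlgebra (Away 𝒜 f) ℤ) =
      AddMonoidAlgebra.single n 1 := by
  have h : (Units.coeHom (AddMonoidAlgebra (Away 𝒜 f) ℤ)).comp
      (zpowersHom (AddMonoidAlgebra (Away 𝒜 f) ℤ)ˣ TU) = AddMonoidAlgebra.of (Away 𝒜 f) ℤ := by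
    apply MonoidHom.ext_mint
    simp only [MonoidHom.comp_apply, zpowersHom_apply, toAdd_ofAdd, zpow_one,
      Units.coeHom_apply, AddMonoidAlgebra.of_apply]
    rfl
  have := congrArg (fun t : Multiplicative ℤ →* AddMonoidAlgebra (Away 𝒜 f) ℤ =>
    t (Multiplicative.ofAdd n)) h
  simpa using this

theorem Phi_uU_zpow (n : ℤ) :
    Phi hf (((uU : (Localization.Away f)ˣ) ^ n : (Localization.Away f)ˣ) : Localization.Away f) =
      AddMonoidAlgebra.single n 1 := by
  have h1 : Units.map (Phi hf).toMonoidHom uU = TU := by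
    apply Units.ext
    show Phi hf ((uU : (Localization.Away f)ˣ) : Localization.Away f) = _
    rw [uU_val, Phi_algebraMap, phi0_f]
    rfl
  have h2 : Units.map (Phi hf).toMonoidHom (uU ^ n) = TU ^ n := by
    rw [map_zpow, h1]
  have h3 := congrArg (fun t : (AddMonoidAlgebra (Away 𝒜 f) ℤ)ˣ =>
    (t : AddMonoidAlgebra (Away 𝒜 f) ℤ)) h2
  rw [← TU_zpow]
  exact h3

theorem Phi_val (c : Away 𝒜 f) : Phi hf c.val = AddMonoidAlgebra.single (0 : ℤ) c := by
  obtain ⟨n, a, ha, rfl⟩ := Away.mk_surjective 𝒜 hf c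
  have ha' : a ∈ 𝒜 n := by rwa [smul_eq_mul, mul_one] at ha
  have e1 : (Away.mk 𝒜 hf n a ha).val * algebraMap A (Localization.Away f) (f ^ n) =
      algebraMap A (Localization.Away f) a := by
    rw [Away.val_mk, Localization.mk_eq_mk']
    exact IsLocalization.mk'_spec (Localization.Away f) a (⟨f ^ n, n, rfl⟩ : Submonoid.powers f)
  have e2 := congrArg (Phi hf) e1
  rw [map_mul, Phi_algebraMap, Phi_algebraMap, phi0_of_mem hf ha', map_pow, phi0_f] at e2
  have hu : IsUnit ((AddMonoidAlgebra.single (1 : ℤ) 1 : AddMonoidAlgebra (Away 𝒜 f) ℤ) ^ n) :=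
    (TU (𝒜 := 𝒜) (f := f)).isUnit.pow n
  apply hu.mul_left_injective
  show _ * _ = _ * _
  rw [e2, AddMonoidAlgebra.single_pow, AddMonoidAlgebra.single_mul_single, one_pow, mul_one,
    zero_add, nsmul_eq_mul, mul_one]
  rfl

theorem Phi_Psi (p : AddMonoidAlgebra (Away 𝒜 f) ℤ) : Phi hf (Psi (𝒜 := 𝒜) p) = p := by
  have h : (Phi hf).comp (Psi (𝒜 := 𝒜)).toRingHom = RingHom.id _ := by
    apply AddMonoidAlgebra.ringHom_ext
    · intro c
      show Phi hf (Psi (𝒜 := 𝒜) (AddMonoidAlgebra.single 0 c)) = _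
      rw [Psi_single, zpow_zero, Units.val_one, mul_one, Phi_val]
      rfl
    · intro n
      show Phi hf (Psi (𝒜 := 𝒜) (AddMonoidAlgebra.single n 1)) = _
      rw [Psi_single, val_one, one_mul, Phi_uU_zpow]
      rfl
  exact congrArg (fun t : AddMonoidAlgebra (Away 𝒜 f) ℤ →+* AddMonoidAlgebra (Away 𝒜 f) ℤ =>
    t p) h

/-- **`A_f ≅ A_(f)[T, T⁻¹]`** for `f` homogeneous of degree one -/
def laurentEquiv : Localization.Away f ≃ₐ[Away 𝒜 f] AddMonoidAlgebra (Away 𝒜 f) ℤ :=
  (AlgEquiv.ofBijective (Psi (𝒜 := 𝒜)) (Function.bijective_iff_has_inverse.2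
    ⟨Phi hf, Phi_Psi hf, Psi_Phi hf⟩)).symm

end

end Groth.Agent.Helper1.LA
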