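import Mathlib
import Groth.Agent.Helper1.AFC3
import Groth.Agent.Helper1.FB2
import Groth.Agent.Helper1.LA3

/-!
# The retraction of the pointed affine cone: finite type, fibres `≅ 𝔾_m`
-/

set_option autoImplicit false
set_option linter.style.haveILetI false

namespace Groth.Agent.Helper1.AFC

open CategoryTheory Limits AlgebraicGeometry TopologicalSpace Opposite
  HomogeneousLocalization Groth.Agent.Helper1.RP Groth.Agent.Helper1.PR
open scoped HomogeneousIdeal

universe u

/-- a source-local property holds if it holds on charts -/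
theorem of_charts (Q : MorphismProperty Scheme.{u}) [IsZariskiLocalAtSource Q] {X Z : Scheme.{u}}
    (a : X ⟶ Z)
    (h : ∀ x : X, ∃ (V : Scheme.{u}) (j : V ⟶ X) (_ : IsOpenImmersion j),
      x ∈ Set.range j ∧ Q (j ≫ a)) : Q a := by
  choose V j hj hx hQ using h
  let 𝒰 : X.OpenCover := Scheme.Cover.mkOfCovers X V j (fun x => ⟨x, hx x⟩) hj
  exact IsZariskiLocalAtSource.of_openCover 𝒰 hQ

noncomputable section

variable {R A : Type u} [CommRing R] [CommRing A] [Algebra R A] {𝒜 : ℕ → Submodule R A}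
  [GradedAlgebra 𝒜]

theorem opensRange_chart {d : ℕ} {f : A} (hf : f ∈ 𝒜 d) (hd : 0 < d) :
    (Cone.chart hf hd).opensRange = (Cone.pointed 𝒜).ι ⁻¹ᵁ Cone.coneOpen f := by
  ext p
  constructor
  · rintro ⟨w, rfl⟩
    show f ∉ ((Cone.pointed 𝒜).ι ((Cone.chart hf hd) w)).asIdeal
    have := congrArg (fun t : _ ⟶ Spec (CommRingCat.of A) => t w) (chart_ι hf hd)
    rw [show (Cone.pointed 𝒜).ι ((Cone.chart hf hd) w) = _ from this]
    intro hmem
    exact w.isPrime.ne_top (Ideal.eq_top_of_isUnit_mem _ hmem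
      (IsLocalization.Away.algebraMap_isUnit f))
  · intro hp
    exact exists_chart p hf hd hp

/-- if the irrelevant ideal is generated in degree one, every prime not containing it misses a
degree-one element -/
theorem exists_degOne_notMem
    (hgen : (HomogeneousIdeal.irrelevant 𝒜).toIdeal = Ideal.span (𝒜 1 : Set A))
    (I : Ideal A) (hI : ¬ (HomogeneousIdeal.irrelevant 𝒜).toIdeal ≤ I) :
    ∃ f ∈ 𝒜 1, f ∉ I := by
  by_contra hcon
  push Not at hcon
  apply hI
  rw [hgen, Ideal.span_le]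
  exact fun f hf => hcon f hf

variable (π : (Cone.pointed 𝒜 : Scheme.{u}) ⟶ Proj 𝒜)
  (hπ : ∀ (d : ℕ) (f : A) (hd : 0 < d) (hf : f ∈ 𝒜 d),
    Cone.chart hf hd ≫ π =
      Spec.map (CommRingCat.ofHom (algebraMap (HomogeneousLocalization.Away 𝒜 f)
        (Localization.Away f))) ≫ Proj.awayι 𝒜 f hf hd)

theorem finiteType_algebraMap {f : A} (hf : f ∈ 𝒜 1) :
    (algebraMap (Away 𝒜 f) (Localization.Away f)).FiniteType := by
  have h1 : Algebra.FiniteType (Away 𝒜 f) (AddMonoidAlgebra (Away 𝒜 f) ℤ) := inferInstance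
  exact h1.equiv (LA.laurentEquiv hf).symm

include hπ in
theorem pi_locallyOfFiniteType
    (hgen : (HomogeneousIdeal.irrelevant 𝒜).toIdeal = Ideal.span (𝒜 1 : Set A)) :
    LocallyOfFiniteType π := by
  apply of_charts @LocallyOfFiniteType
  intro p
  have hp : (Cone.pointed 𝒜).ι p ∈ Cone.pointed 𝒜 := p.2
  have hp' : ¬ (HomogeneousIdeal.irrelevant 𝒜).toIdeal ≤ ((Cone.pointed 𝒜).ι p).asIdeal := hp
  obtain ⟨f, hf, hfp⟩ := exists_degOne_notMem hgen _ hp'
  obtain ⟨w, hw⟩ := exists_chart p hf one_pos hfp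
  refine ⟨_, Cone.chart hf one_pos, inferInstance, ⟨w, hw⟩, ?_⟩
  rw [hπ 1 f one_pos hf]
  have : LocallyOfFiniteType (Spec.map (CommRingCat.ofHom (algebraMap
      (HomogeneousLocalization.Away 𝒜 f) (Localization.Away f)))) := by
    rw [HasRingHomProperty.Spec_iff (P := @LocallyOfFiniteType)]
    exact finiteType_algebraMap hf
  infer_instance

include hπ in
/-- **the fibres of the retraction are `𝔾_m`** -/
theorem pi_fibre (hgen : (HomogeneousIdeal.irrelevant 𝒜).toIdeal = Ideal.span (𝒜 1 : Set A))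
    (x : Proj 𝒜) :
    ∃ e : pullback π ((Proj 𝒜).fromSpecResidueField x) ≅
        Spec (CommRingCat.of (AddMonoidAlgebra ((Proj 𝒜).residueField x) ℤ)),
      e.hom ≫ Spec.map (CommRingCat.ofHom (algebraMap ((Proj 𝒜).residueField x)
        (AddMonoidAlgebra ((Proj 𝒜).residueField x) ℤ))) =
          pullback.snd π ((Proj 𝒜).fromSpecResidueField x) := by
  let y : ProjectiveSpectrum 𝒜 := x
  obtain ⟨f, hf, hfx⟩ := exists_degOne_notMem hgen y.asHomogeneousIdeal.toIdeal y.not_irrelevant_le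
  have hx : x ∈ (Proj.awayι 𝒜 f hf one_pos).opensRange := by
    rw [Proj.opensRange_awayι, Proj.mem_basicOpen]
    exact hfx
  have h2 : π ⁻¹ᵁ (Proj.awayι 𝒜 f hf one_pos).opensRange = (Cone.chart hf one_pos).opensRange := by
    rw [Proj.opensRange_awayι, pi_preimage_basicOpen π hπ one_pos hf, opensRange_chart]
  exact FB.exists_fibre_iso_addMonoidAlgebra π x (Proj.awayι 𝒜 f hf one_pos)
    (Cone.chart hf one_pos) (hπ 1 f one_pos hf) h2 hx (LA.laurentEquiv hf)

end

end Groth.Agent.Helper1.AFC
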