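import Mathlib

/-!
# Comparison of two effaceable cohomological δ-functors on a class of objects

`T, T' : ℕ → A ⥤ B` two sequences of functors between abelian categories, `𝒜` a class of objects
of `A`.  If `T 0 ≅ T' 0` and every object `F` of `𝒜` sits in a short complex `F → I → Q` with
`Q` in `𝒜`, such that `T` and `T'` have long exact sequences for this short complex and vanish on
`I` in positive degrees, then `T n F ≅ T' n F` for all `n` and all `F` in `𝒜`.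
-/

namespace Groth.Agent.Helper1.DeltaCmp

open CategoryTheory Limits

universe v₁ v₂ u₁ u₂

variable {A : Type u₁} [Category.{v₁} A] [Abelian A] {B : Type u₂} [Category.{v₂} B] [Abelian B]

/-- `T` has a long exact sequence for the short complex `S`: connecting maps
`δ : Tⁿ(X₃) ⟶ Tⁿ⁺¹(X₁)` such that `Tⁿ(X₂) → Tⁿ(X₃) → Tⁿ⁺¹(X₁) → Tⁿ⁺¹(X₂)` is exact. -/
def HasLES (T : ℕ → A ⥤ B) (S : ShortComplex A) : Prop :=
  ∀ n : ℕ, ∃ (δ : (T n).obj S.X₃ ⟶ (T (n + 1)).obj S.X₁)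
    (w₁ : (T n).map S.g ≫ δ = 0) (w₂ : δ ≫ (T (n + 1)).map S.f = 0),
    (ShortComplex.mk _ _ w₁).Exact ∧ (ShortComplex.mk _ _ w₂).Exact

variable (T T' : ℕ → A ⥤ B)

/-- the data of an effacement of `F` -/
structure Effacement (𝒜 : A → Prop) (F : A) where
  /-- the short complex `F → I → Q` -/
  S : ShortComplex A
  iso : S.X₁ = F
  mem : 𝒜 S.X₃
  zero : ∀ n, IsZero ((T (n + 1)).obj S.X₂)
  zero' : ∀ n, IsZero ((T' (n + 1)).obj S.X₂)
  les : HasLES T S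
  les' : HasLES T' S

variable {T T'}

/-- `T¹(X₁) ≅ coker(T⁰(X₂) → T⁰(X₃))` when `T¹(X₂) = 0`. -/
lemma nonempty_iso_cokernel {S : ShortComplex A} (h : HasLES T S)
    (hz : IsZero ((T 1).obj S.X₂)) :
    Nonempty ((T 1).obj S.X₁ ≅ cokernel ((T 0).map S.g)) := by
  obtain ⟨δ, w₁, w₂, h₁, h₂⟩ := h 0
  have : Epi δ := h₂.epi_f (hz.eq_of_tgt _ _)
  have hc : IsColimit (CokernelCofork.ofπ δ w₁) := h₁.gIsCokernel
  exact ⟨hc.coconePointUniqueUpToIso (colimit.isColimit _)⟩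

/-- `Tⁿ⁺²(X₁) ≅ Tⁿ⁺¹(X₃)` when `T` vanishes on `X₂` in positive degrees. -/
lemma nonempty_iso_succ {S : ShortComplex A} (h : HasLES T S)
    (hz : ∀ n, IsZero ((T (n + 1)).obj S.X₂)) (n : ℕ) :
    Nonempty ((T (n + 1)).obj S.X₃ ≅ (T (n + 2)).obj S.X₁) := by
  obtain ⟨δ, w₁, w₂, h₁, h₂⟩ := h (n + 1)
  have : Epi δ := h₂.epi_f ((hz (n + 1)).eq_of_tgt _ _)
  have : Mono δ := h₁.mono_g ((hz n).eq_of_src _ _)
  have : IsIso δ := isIso_of_mono_of_epi δ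
  exact ⟨asIso δ⟩

theorem nonempty_iso (𝒜 : A → Prop) (e : T 0 ≅ T' 0)
    (hE : ∀ F, 𝒜 F → Nonempty (Effacement T T' 𝒜 F)) :
    ∀ (n : ℕ) (F : A), 𝒜 F → Nonempty ((T n).obj F ≅ (T' n).obj F) := by
  intro n
  induction n with
  | zero => exact fun F _ => ⟨e.app F⟩
  | succ n ih =>
    intro F hF
    obtain ⟨E⟩ := hE F hF
    obtain ⟨S, rfl, hQ, hz, hz', hl, hl'⟩ := E
    cases n with
    | zero =>
      obtain ⟨i₁⟩ := nonempty_iso_cokernel hl (hz 0)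
      obtain ⟨i₂⟩ := nonempty_iso_cokernel hl' (hz' 0)
      refine ⟨i₁ ≪≫ ?_ ≪≫ i₂.symm⟩
      exact cokernel.mapIso _ _ (e.app _) (e.app _) (by simp)
    | succ n =>
      obtain ⟨i₁⟩ := nonempty_iso_succ hl hz n
      obtain ⟨i₂⟩ := nonempty_iso_succ hl' hz' n
      obtain ⟨j⟩ := ih S.X₃ hQ
      exact ⟨i₁.symm ≪≫ j ≪≫ i₂⟩

end Groth.Agent.Helper1.DeltaCmp
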