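import Mathlib
import Groth.Agent.Helper1.DeltaCmp

set_option autoImplicit false

/-!
# The horseshoe lemma for injective resolutions and the long exact sequence of right derived
functors
-/

namespace Groth.Agent.Helper1.Horseshoe
open CategoryTheory Limits HomologicalComplex

universe v u v' u'
variable {C : Type u} [Category.{v} C] [Abelian C]

section theta
variable (I J : CochainComplex C ℕ) [hI : ∀ n, Injective (I.X n)]
  (hJ : ∀ n, (ShortComplex.mk (J.d n (n + 1)) (J.d (n + 1) (n + 2)) (J.d_comp_d _ _ _)).Exact)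

/-- the state of the recursion building `θ` -/
structure St (n : ℕ) where
  a : J.X n ⟶ I.X (n + 1)
  b : J.X (n + 1) ⟶ I.X (n + 2)
  w : a ≫ I.d (n + 1) (n + 2) + J.d n (n + 1) ≫ b = 0

variable {I J}

include hJ in
lemma St.next_aux {n : ℕ} (s : St I J n) :
    J.d n (n + 1) ≫ (-(s.b ≫ I.d (n + 2) (n + 3))) = 0 := by
  have h : J.d n (n + 1) ≫ s.b = -(s.a ≫ I.d (n + 1) (n + 2)) :=
    (eq_neg_of_add_eq_zero_right s.w)
  rw [Preadditive.comp_neg, ← Category.assoc, h]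
  simp

/-- the recursion step -/
noncomputable def St.next {n : ℕ} (s : St I J n) : St I J (n + 1) where
  a := s.b
  b := (hJ n).descToInjective (-(s.b ≫ I.d (n + 2) (n + 3))) (s.next_aux hJ)
  w := by
    rw [(hJ n).comp_descToInjective]
    simp

/-- the sequence of states -/
noncomputable def seq (s₀ : St I J 0) : ∀ n, St I J n
  | 0 => s₀
  | n + 1 => (seq s₀ n).next hJ

lemma seq_succ_a (s₀ : St I J 0) (n : ℕ) : (seq hJ s₀ (n + 1)).a = (seq hJ s₀ n).b := rfl

variable (I J)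

include hJ in
theorem exists_theta {Z : C} (ιJ : Z ⟶ J.X 0) [Mono ιJ] (w0 : ιJ ≫ J.d 0 1 = 0)
    (h0 : (ShortComplex.mk ιJ (J.d 0 1) w0).Exact) (t : Z ⟶ I.X 1) (ht : t ≫ I.d 1 2 = 0) :
    ∃ θ : ∀ n, J.X n ⟶ I.X (n + 1), ιJ ≫ θ 0 = t ∧
      ∀ n, θ n ≫ I.d (n + 1) (n + 2) + J.d n (n + 1) ≫ θ (n + 1) = 0 := by
  let a₀ : J.X 0 ⟶ I.X 1 := Injective.factorThru t ιJ
  have ha₀ : ιJ ≫ a₀ = t := Injective.comp_factorThru t ιJ
  have hz : ιJ ≫ (-(a₀ ≫ I.d 1 2)) = 0 := by
    rw [Preadditive.comp_neg, ← Category.assoc, ha₀, ht, neg_zero]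
  let s₀ : St I J 0 :=
    { a := a₀
      b := h0.descToInjective (-(a₀ ≫ I.d 1 2)) hz
      w := by
        rw [h0.comp_descToInjective]
        simp }
  refine ⟨fun n => (seq hJ s₀ n).a, ha₀, fun n => ?_⟩
  exact (seq hJ s₀ n).w

end theta

section M
variable (I J : CochainComplex C ℕ) (θ : ∀ n, J.X n ⟶ I.X (n + 1))
  (hθ : ∀ n, θ n ≫ I.d (n + 1) (n + 2) + J.d n (n + 1) ≫ θ (n + 1) = 0)

/-- the differential of the middle complex -/
noncomputable def D (n : ℕ) : I.X n ⊞ J.X n ⟶ I.X (n + 1) ⊞ J.X (n + 1) :=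
  biprod.desc (I.d n (n + 1) ≫ biprod.inl) (θ n ≫ biprod.inl + J.d n (n + 1) ≫ biprod.inr)

@[reassoc (attr := simp)]
lemma inl_D (n : ℕ) : biprod.inl ≫ D I J θ n = I.d n (n + 1) ≫ biprod.inl := by
  simp [D]

@[reassoc (attr := simp)]
lemma inr_D (n : ℕ) :
    biprod.inr ≫ D I J θ n = θ n ≫ biprod.inl + J.d n (n + 1) ≫ biprod.inr := by
  simp [D]

@[reassoc (attr := simp)]
lemma D_snd (n : ℕ) : D I J θ n ≫ biprod.snd = biprod.snd ≫ J.d n (n + 1) := by
  apply biprod.hom_ext' <;> simp [D]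

include hθ in
lemma D_D (n : ℕ) : D I J θ n ≫ D I J θ (n + 1) = 0 := by
  apply biprod.hom_ext'
  · simp
  · simp only [inr_D_assoc, Preadditive.add_comp, Category.assoc, inl_D, inr_D,
      Preadditive.comp_add, HomologicalComplex.d_comp_d_assoc, zero_comp, add_zero, comp_zero]
    rw [← Category.assoc, ← Category.assoc, ← Preadditive.add_comp, hθ, zero_comp]

/-- the middle complex -/
noncomputable def M : CochainComplex C ℕ :=
  CochainComplex.of (fun n => I.X n ⊞ J.X n) (D I J θ) (D_D I J θ hθ)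

lemma M_d (n : ℕ) : (M I J θ hθ).d n (n + 1) = D I J θ n := by
  simp [M]

/-- the inclusion -/
noncomputable def α : I ⟶ M I J θ hθ where
  f n := biprod.inl
  comm' i j hij := by
    obtain rfl : i + 1 = j := hij
    rw [M_d]
    exact inl_D I J θ i

/-- the projection -/
noncomputable def β : M I J θ hθ ⟶ J where
  f n := biprod.snd
  comm' i j hij := by
    obtain rfl : i + 1 = j := hij
    rw [M_d]
    exact (D_snd I J θ i).symm

/-- the short complex `I → M → J` -/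
noncomputable def sc : ShortComplex (CochainComplex C ℕ) :=
  ShortComplex.mk (α I J θ hθ) (β I J θ hθ) (by
    ext n
    change (biprod.inl : I.X n ⟶ I.X n ⊞ J.X n) ≫ biprod.snd = 0
    simp)

/-- the degreewise splitting of `sc` -/
noncomputable def scSplitting (n : ℕ) :
    ((sc I J θ hθ).map (HomologicalComplex.eval C (ComplexShape.up ℕ) n)).Splitting :=
  ShortComplex.Splitting.ofHasBinaryBiproduct (I.X n) (J.X n)

lemma sc_shortExact : (sc I J θ hθ).ShortExact :=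
  HomologicalComplex.shortExact_of_degreewise_shortExact _
    (fun n => (scSplitting I J θ hθ n).shortExact)

lemma sc_map_shortExact {D : Type u'} [Category.{v'} D] [Abelian D] (F : C ⥤ D) [F.Additive] :
    ((sc I J θ hθ).map (F.mapHomologicalComplex (ComplexShape.up ℕ))).ShortExact :=
  HomologicalComplex.shortExact_of_degreewise_shortExact _
    (fun n => ((scSplitting I J θ hθ n).map F).shortExact)

end M

section res

variable (S : ShortComplex C) (hS : S.ShortExact)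
  {I J : CochainComplex C ℕ}
  (ιI : S.X₁ ⟶ I.X 0) (ιJ : S.X₃ ⟶ J.X 0) [Mono ιI] [Mono ιJ]
  (wI : ιI ≫ I.d 0 1 = 0) (wJ : ιJ ≫ J.d 0 1 = 0)
  (hI0 : (ShortComplex.mk ιI (I.d 0 1) wI).Exact) (hJ0 : (ShortComplex.mk ιJ (J.d 0 1) wJ).Exact)
  (θ : ∀ n, J.X n ⟶ I.X (n + 1))
  (σ : S.X₂ ⟶ I.X 0) (hσ : S.f ≫ σ = ιI)
  (hσθ : σ ≫ I.d 0 1 + S.g ≫ ιJ ≫ θ 0 = 0)

/-- the augmentation of the middle complex -/
noncomputable def ιM : S.X₂ ⟶ I.X 0 ⊞ J.X 0 := biprod.lift σ (S.g ≫ ιJ)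

include hσθ wJ in
lemma ιM_D : ιM S ιJ σ ≫ D I J θ 0 = 0 := by
  apply biprod.hom_ext
  · simp only [ιM, D, Category.assoc, zero_comp]
    rw [← Category.assoc, biprod.lift_desc]
    simp only [Category.assoc, Preadditive.add_comp, Preadditive.comp_add, BinaryBicone.inl_fst,
      BinaryBicone.inr_fst, Category.comp_id, comp_zero, add_zero]
    exact hσθ
  · simp only [ιM, Category.assoc, D_snd, zero_comp]
    rw [biprod.lift_snd_assoc, Category.assoc, wJ, comp_zero]

include hS hσ in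
lemma mono_ιM : Mono (ιM S ιJ σ) := by
  have := hS.mono_f
  rw [Preadditive.mono_iff_cancel_zero]
  intro W x hx
  have h₂ : x ≫ S.g = 0 := by
    have := hx =≫ biprod.snd
    simp only [ιM, Category.assoc, biprod.lift_snd, zero_comp] at this
    rw [← Category.assoc] at this
    exact (cancel_mono ιJ).1 (this.trans zero_comp.symm)
  obtain ⟨y, rfl⟩ : ∃ y : W ⟶ S.X₁, y ≫ S.f = x := ⟨hS.exact.lift x h₂, hS.exact.lift_f _ _⟩
  have h₁ := hx =≫ biprod.fst
  simp only [ιM, Category.assoc, biprod.lift_fst, zero_comp, hσ] at h₁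
  rw [(cancel_mono ιI).1 (h₁.trans zero_comp.symm), zero_comp]

include hS hσ hI0 hJ0 in
lemma exact_ιM (h : ιM S ιJ σ ≫ D I J θ 0 = 0) :
    (ShortComplex.mk (ιM S ιJ σ) (D I J θ 0) h).Exact := by
  have := hS.epi_g
  rw [ShortComplex.exact_iff_exact_up_to_refinements]
  intro W x hx
  dsimp at x hx ⊢
  -- the second component comes from `S.X₃`
  have hx₂ : (x ≫ biprod.snd) ≫ J.d 0 1 = 0 := by
    rw [Category.assoc, ← D_snd I J θ 0, reassoc_of% hx, zero_comp]
  obtain ⟨c, hc⟩ : ∃ c : W ⟶ S.X₃, c ≫ ιJ = x ≫ biprod.snd :=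
    ⟨hJ0.lift _ hx₂, hJ0.lift_f _ _⟩
  obtain ⟨W', π, hπ, b, hb⟩ := surjective_up_to_refinements_of_epi S.g c
  -- the difference lies in `I.X 0`
  let z : W' ⟶ I.X 0 := (π ≫ x - b ≫ ιM S ιJ σ) ≫ biprod.fst
  have hz : π ≫ x - b ≫ ιM S ιJ σ = z ≫ biprod.inl := by
    apply biprod.hom_ext
    · simp [z]
    · simp only [ιM, Preadditive.sub_comp, Category.assoc, biprod.lift_snd, BinaryBicone.inl_snd,
        comp_zero]
      rw [← hc, reassoc_of% hb, sub_self]
  have hz' : z ≫ I.d 0 1 = 0 := by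
    have h1 : (z ≫ biprod.inl) ≫ D I J θ 0 = 0 := by
      rw [← hz, Preadditive.sub_comp, Category.assoc, Category.assoc, hx, h, comp_zero, comp_zero,
        sub_zero]
    rw [Category.assoc, inl_D] at h1
    have h2 := h1 =≫ biprod.fst
    simpa using h2
  obtain ⟨a, ha⟩ : ∃ a : W' ⟶ S.X₁, a ≫ ιI = z := ⟨hI0.lift _ hz', hI0.lift_f _ _⟩
  refine ⟨W', π, hπ, b + a ≫ S.f, ?_⟩
  have hf : S.f ≫ ιM S ιJ σ = ιI ≫ biprod.inl := by
    apply biprod.hom_ext
    · simp [ιM, hσ]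
    · simp [ιM]
  rw [Preadditive.add_comp, Category.assoc, hf, ← Category.assoc, ha, ← hz]
  abel

end res

section main

variable (S : ShortComplex C) (hS : S.ShortExact)
  (I : InjectiveResolution S.X₁) (J : InjectiveResolution S.X₃)

include hS in
/-- The horseshoe lemma. -/
theorem exists_res :
    ∃ (M : InjectiveResolution S.X₂) (α : I.cocomplex ⟶ M.cocomplex)
      (β : M.cocomplex ⟶ J.cocomplex) (w : α ≫ β = 0),
      I.ι.f 0 ≫ α.f 0 = S.f ≫ M.ι.f 0 ∧ M.ι.f 0 ≫ β.f 0 = S.g ≫ J.ι.f 0 ∧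
      ∀ n, Nonempty (((ShortComplex.mk α β w).map
        (HomologicalComplex.eval C (ComplexShape.up ℕ) n)).Splitting) := by
  have := hS.mono_f
  have := hS.epi_g
  let ιI : S.X₁ ⟶ I.cocomplex.X 0 := I.ι.f 0
  let ιJ : S.X₃ ⟶ J.cocomplex.X 0 := J.ι.f 0
  have : Mono ιI := inferInstanceAs (Mono (I.ι.f 0))
  have : Mono ιJ := inferInstanceAs (Mono (J.ι.f 0))
  have wI : ιI ≫ I.cocomplex.d 0 1 = 0 := I.ι_f_zero_comp_complex_d
  have wJ : ιJ ≫ J.cocomplex.d 0 1 = 0 := J.ι_f_zero_comp_complex_d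
  have hI0 : (ShortComplex.mk ιI (I.cocomplex.d 0 1) wI).Exact := I.exact₀
  have hJ0 : (ShortComplex.mk ιJ (J.cocomplex.d 0 1) wJ).Exact := J.exact₀
  let σ : S.X₂ ⟶ I.cocomplex.X 0 := Injective.factorThru ιI S.f
  have hσ : S.f ≫ σ = ιI := Injective.comp_factorThru ιI S.f
  have hk : S.f ≫ σ ≫ I.cocomplex.d 0 1 = 0 := by rw [reassoc_of% hσ, wI]
  let t' : S.X₃ ⟶ I.cocomplex.X 1 := hS.exact.desc (σ ≫ I.cocomplex.d 0 1) hk
  have ht' : S.g ≫ t' = σ ≫ I.cocomplex.d 0 1 := hS.exact.g_desc _ _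
  have ht'd : (-t') ≫ I.cocomplex.d 1 2 = 0 := by
    rw [Preadditive.neg_comp, neg_eq_zero, ← cancel_epi S.g, reassoc_of% ht', comp_zero,
      HomologicalComplex.d_comp_d, comp_zero]
  obtain ⟨θ, hθ0, hθ⟩ := exists_theta I.cocomplex J.cocomplex J.exact_succ ιJ wJ hJ0 (-t') ht'd
  have hσθ : σ ≫ I.cocomplex.d 0 1 + S.g ≫ ιJ ≫ θ 0 = 0 := by
    rw [hθ0, Preadditive.comp_neg, ht', add_neg_cancel]
  have hD := ιM_D S ιJ wJ θ σ hσθ
  have hmono := mono_ιM S hS ιI ιJ σ hσ
  have hex := exact_ιM S hS ιI ιJ wI wJ hI0 hJ0 θ σ hσ hD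
  let Mc := M I.cocomplex J.cocomplex θ hθ
  have hsc := sc_shortExact I.cocomplex J.cocomplex θ hθ
  let ι' : (CochainComplex.single₀ C).obj S.X₂ ⟶ Mc :=
    (CochainComplex.fromSingle₀Equiv _ _).symm ⟨ιM S ιJ σ, by rw [M_d]; exact hD⟩
  have hι' : ι'.f 0 = ιM S ιJ σ := by simp [ι']
  have hq : QuasiIso ι' := ⟨fun n => by
    cases n with
    | zero =>
      rw [CochainComplex.quasiIsoAt₀_iff, ShortComplex.quasiIso_iff_of_zeros]
      · refine (ShortComplex.exact_and_mono_f_iff_of_iso ?_).2 ⟨hex, hmono⟩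
        exact ShortComplex.isoMk (Iso.refl _) (Iso.refl _) (Iso.refl _)
          (by erw [Category.id_comp, Category.comp_id]; exact hι'.symm)
          (by erw [Category.id_comp, Category.comp_id]; exact (M_d _ _ θ hθ 0).symm)
      all_goals rfl
    | succ n =>
      rw [quasiIsoAt_iff_exactAt]
      · exact hsc.exactAt_X₂ (n + 1) (I.cocomplex_exactAt_succ n) (J.cocomplex_exactAt_succ n)
      · apply CochainComplex.exactAt_succ_single_obj⟩
  have e1 : ιI ≫ (biprod.inl : I.cocomplex.X 0 ⟶ I.cocomplex.X 0 ⊞ J.cocomplex.X 0) =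
      S.f ≫ ιM S ιJ σ := by
    apply biprod.hom_ext <;> simp [ιM, hσ]
  have e2 : ιM S ιJ σ ≫ (biprod.snd : I.cocomplex.X 0 ⊞ J.cocomplex.X 0 ⟶ _) = S.g ≫ ιJ := by
    simp [ιM]
  let R : InjectiveResolution S.X₂ :=
    { cocomplex := Mc
      injective := fun n => (inferInstance : Injective (I.cocomplex.X n ⊞ J.cocomplex.X n))
      ι := ι'
      quasiIso := hq }
  refine ⟨R, α I.cocomplex J.cocomplex θ hθ, β I.cocomplex J.cocomplex θ hθ,
    (sc I.cocomplex J.cocomplex θ hθ).zero, ?_, ?_, fun n => ⟨scSplitting _ _ θ hθ n⟩⟩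
  · exact e1.trans (congrArg (fun k => S.f ≫ k) hι'.symm)
  · exact (congrArg (fun k => k ≫ (biprod.snd : I.cocomplex.X 0 ⊞ J.cocomplex.X 0 ⟶ _)) hι').trans e2

end main

section les

variable {D : Type u'} [Category.{v'} D] [Abelian D] [HasInjectiveResolutions C]
  (F : C ⥤ D) [F.Additive]

omit [HasInjectiveResolutions C] in
/-- transport of the homology long exact sequence -/
lemma hasLES_aux (S : ShortComplex C) (Tn : ℕ → C ⥤ D)
    (T : ShortComplex (CochainComplex D ℕ)) (hT : T.ShortExact)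
    (e₁ : ∀ n, (Tn n).obj S.X₁ ≅ T.X₁.homology n) (e₂ : ∀ n, (Tn n).obj S.X₂ ≅ T.X₂.homology n)
    (e₃ : ∀ n, (Tn n).obj S.X₃ ≅ T.X₃.homology n)
    (nat₁ : ∀ n, (Tn n).map S.f ≫ (e₂ n).hom = (e₁ n).hom ≫ HomologicalComplex.homologyMap T.f n)
    (nat₂ : ∀ n, (Tn n).map S.g ≫ (e₃ n).hom = (e₂ n).hom ≫ HomologicalComplex.homologyMap T.g n) :
    DeltaCmp.HasLES Tn S := by
  intro n
  have hrel : (ComplexShape.up ℕ).Rel n (n + 1) := rfl
  have nat₁' : (e₁ (n + 1)).inv ≫ (Tn (n + 1)).map S.f =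
      HomologicalComplex.homologyMap T.f (n + 1) ≫ (e₂ (n + 1)).inv := by
    rw [← cancel_mono (e₂ (n + 1)).hom, Category.assoc, Category.assoc, Iso.inv_hom_id,
      Category.comp_id, nat₁, Iso.inv_hom_id_assoc]
  have nat₂' : (e₂ n).inv ≫ (Tn n).map S.g =
      HomologicalComplex.homologyMap T.g n ≫ (e₃ n).inv := by
    rw [← cancel_mono (e₃ n).hom, Category.assoc, Category.assoc, Iso.inv_hom_id,
      Category.comp_id, nat₂, Iso.inv_hom_id_assoc]
  let δ : (Tn n).obj S.X₃ ⟶ (Tn (n + 1)).obj S.X₁ :=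
    (e₃ n).hom ≫ hT.δ n (n + 1) hrel ≫ (e₁ (n + 1)).inv
  have hδ : δ = (e₃ n).hom ≫ hT.δ n (n + 1) hrel ≫ (e₁ (n + 1)).inv := rfl
  have w₁ : (Tn n).map S.g ≫ δ = 0 := by
    rw [hδ, reassoc_of% (nat₂ n), hT.comp_δ_assoc, zero_comp, comp_zero]
  have w₂ : δ ≫ (Tn (n + 1)).map S.f = 0 := by
    rw [hδ, Category.assoc, Category.assoc, nat₁', hT.δ_comp_assoc, zero_comp, comp_zero]
  refine ⟨δ, w₁, w₂, ?_, ?_⟩
  · refine ShortComplex.exact_of_iso ?_ (hT.homology_exact₃ n (n + 1) hrel)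
    refine ShortComplex.isoMk (e₂ n).symm (e₃ n).symm (e₁ (n + 1)).symm ?_ ?_
    · exact nat₂'
    · change (e₃ n).inv ≫ δ = hT.δ n (n + 1) hrel ≫ (e₁ (n + 1)).inv
      rw [hδ, Iso.inv_hom_id_assoc]
  · refine ShortComplex.exact_of_iso ?_ (hT.homology_exact₁ n (n + 1) hrel)
    refine ShortComplex.isoMk (e₃ n).symm (e₁ (n + 1)).symm (e₂ (n + 1)).symm ?_ ?_
    · change (e₃ n).inv ≫ δ = hT.δ n (n + 1) hrel ≫ (e₁ (n + 1)).inv
      rw [hδ, Iso.inv_hom_id_assoc]
    · exact nat₁'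

/-- The long exact sequence of right derived functors. -/
theorem hasLES_rightDerived (S : ShortComplex C) (hS : S.ShortExact) :
    DeltaCmp.HasLES (fun n => F.rightDerived n) S := by
  obtain ⟨I⟩ := (HasInjectiveResolutions.out S.X₁).out
  obtain ⟨J⟩ := (HasInjectiveResolutions.out S.X₃).out
  obtain ⟨M, α, β, w, h₁, h₂, hsp⟩ := exists_res S hS I J
  have hT : ((ShortComplex.mk α β w).map (F.mapHomologicalComplex (ComplexShape.up ℕ))).ShortExact :=
    HomologicalComplex.shortExact_of_degreewise_shortExact _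
      (fun n => (((hsp n).some).map F).shortExact)
  exact hasLES_aux S (fun n => F.rightDerived n) _ hT
    (fun n => I.isoRightDerivedObj F n) (fun n => M.isoRightDerivedObj F n)
    (fun n => J.isoRightDerivedObj F n)
    (fun n => InjectiveResolution.isoRightDerivedObj_hom_naturality S.f I M α h₁ F n)
    (fun n => InjectiveResolution.isoRightDerivedObj_hom_naturality S.g M J β h₂ F n)

omit [HasInjectiveResolutions C] in
/-- transport of exactness at the middle term -/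
lemma exact₂_aux (S : ShortComplex C) (Tn : ℕ → C ⥤ D)
    (T : ShortComplex (CochainComplex D ℕ)) (hT : T.ShortExact)
    (e₁ : ∀ n, (Tn n).obj S.X₁ ≅ T.X₁.homology n) (e₂ : ∀ n, (Tn n).obj S.X₂ ≅ T.X₂.homology n)
    (e₃ : ∀ n, (Tn n).obj S.X₃ ≅ T.X₃.homology n)
    (nat₁ : ∀ n, (Tn n).map S.f ≫ (e₂ n).hom = (e₁ n).hom ≫ HomologicalComplex.homologyMap T.f n)
    (nat₂ : ∀ n, (Tn n).map S.g ≫ (e₃ n).hom = (e₂ n).hom ≫ HomologicalComplex.homologyMap T.g n)
    (n : ℕ) : ∃ w : (Tn n).map S.f ≫ (Tn n).map S.g = 0,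
      (ShortComplex.mk ((Tn n).map S.f) ((Tn n).map S.g) w).Exact := by
  have w : (Tn n).map S.f ≫ (Tn n).map S.g = 0 := by
    rw [← cancel_mono (e₃ n).hom, Category.assoc, nat₂, reassoc_of% (nat₁ n),
      ← HomologicalComplex.homologyMap_comp, T.zero, HomologicalComplex.homologyMap_zero,
      comp_zero, zero_comp]
  refine ⟨w, ?_⟩
  refine ShortComplex.exact_of_iso ?_ (hT.homology_exact₂ n)
  refine ShortComplex.isoMk (e₁ n).symm (e₂ n).symm (e₃ n).symm ?_ ?_
  · change (e₁ n).inv ≫ (Tn n).map S.f = HomologicalComplex.homologyMap T.f n ≫ (e₂ n).inv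
    rw [← cancel_mono (e₂ n).hom, Category.assoc, Category.assoc, Iso.inv_hom_id,
      Category.comp_id, nat₁, Iso.inv_hom_id_assoc]
  · change (e₂ n).inv ≫ (Tn n).map S.g = HomologicalComplex.homologyMap T.g n ≫ (e₃ n).inv
    rw [← cancel_mono (e₃ n).hom, Category.assoc, Category.assoc, Iso.inv_hom_id,
      Category.comp_id, nat₂, Iso.inv_hom_id_assoc]

omit [HasInjectiveResolutions C] in
/-- transport of injectivity in degree `0` -/
lemma mono₀_aux (S : ShortComplex C) (Tn : ℕ → C ⥤ D)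
    (T : ShortComplex (CochainComplex D ℕ)) (hT : T.ShortExact)
    (e₁ : ∀ n, (Tn n).obj S.X₁ ≅ T.X₁.homology n) (e₂ : ∀ n, (Tn n).obj S.X₂ ≅ T.X₂.homology n)
    (nat₁ : ∀ n, (Tn n).map S.f ≫ (e₂ n).hom = (e₁ n).hom ≫ HomologicalComplex.homologyMap T.f n) :
    Mono ((Tn 0).map S.f) := by
  have := hT.mono_f
  have h0 : Mono (HomologicalComplex.homologyMap T.f 0) :=
    HomologicalComplex.mono_homologyMap_of_mono_of_not_rel T.f 0 (by
      intro i hi
      exact Nat.succ_ne_zero i hi)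
  have h1 : Mono ((Tn 0).map S.f ≫ (e₂ 0).hom) := by
    rw [nat₁]
    exact mono_comp _ _
  exact mono_of_mono _ (e₂ 0).hom

/-- exactness at the middle term of the long exact sequence of right derived functors -/
theorem exact_rightDerived_map (S : ShortComplex C) (hS : S.ShortExact) (n : ℕ) :
    ∃ w : (F.rightDerived n).map S.f ≫ (F.rightDerived n).map S.g = 0,
      (ShortComplex.mk ((F.rightDerived n).map S.f) ((F.rightDerived n).map S.g) w).Exact := by
  obtain ⟨I⟩ := (HasInjectiveResolutions.out S.X₁).out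
  obtain ⟨J⟩ := (HasInjectiveResolutions.out S.X₃).out
  obtain ⟨M, α, β, w, h₁, h₂, hsp⟩ := exists_res S hS I J
  have hT : ((ShortComplex.mk α β w).map (F.mapHomologicalComplex (ComplexShape.up ℕ))).ShortExact :=
    HomologicalComplex.shortExact_of_degreewise_shortExact _
      (fun n => (((hsp n).some).map F).shortExact)
  exact exact₂_aux S (fun n => F.rightDerived n) _ hT
    (fun n => I.isoRightDerivedObj F n) (fun n => M.isoRightDerivedObj F n)
    (fun n => J.isoRightDerivedObj F n)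
    (fun n => InjectiveResolution.isoRightDerivedObj_hom_naturality S.f I M α h₁ F n)
    (fun n => InjectiveResolution.isoRightDerivedObj_hom_naturality S.g M J β h₂ F n) n

/-- `R⁰F` preserves the monomorphism of a short exact sequence -/
theorem mono_rightDerived_zero_map (S : ShortComplex C) (hS : S.ShortExact) :
    Mono ((F.rightDerived 0).map S.f) := by
  obtain ⟨I⟩ := (HasInjectiveResolutions.out S.X₁).out
  obtain ⟨J⟩ := (HasInjectiveResolutions.out S.X₃).out
  obtain ⟨M, α, β, w, h₁, h₂, hsp⟩ := exists_res S hS I J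
  have hT : ((ShortComplex.mk α β w).map (F.mapHomologicalComplex (ComplexShape.up ℕ))).ShortExact :=
    HomologicalComplex.shortExact_of_degreewise_shortExact _
      (fun n => (((hsp n).some).map F).shortExact)
  exact mono₀_aux S (fun n => F.rightDerived n) _ hT
    (fun n => I.isoRightDerivedObj F n) (fun n => M.isoRightDerivedObj F n)
    (fun n => InjectiveResolution.isoRightDerivedObj_hom_naturality S.f I M α h₁ F n)

end les

end Groth.Agent.Helper1.Horseshoe
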