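import Groth.Agent.Helper1.SitePush
import Groth.Prelude.Def_CohCx

set_option autoImplicit false

/-!
# Totally acyclic sheaves have vanishing higher direct images
-/

namespace Groth.Agent.Helper1.SiteCoh
open CategoryTheory Opposite Limits Abelian Groth.Agent.Helper1.DeltaCmp

universe u
variable {C D : Type u} [SmallCategory C] [SmallCategory D]
  (J : GrothendieckTopology C) (K : GrothendieckTopology D) (v : D ⥤ C) [v.IsContinuous K J]

/-- the free abelian sheaf on the sheafification of `h_U` is `ℤ_U` -/
noncomputable def freeSheafifyIso (U : C) :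
    (presheafToSheaf J AddCommGrpCat.{u}).obj
      (((presheafToSheaf J (Type u)).obj (yoneda.obj U)).obj ⋙ AddCommGrpCat.free.{u}) ≅
      freeY J U :=
  haveI : J.PreservesSheafification AddCommGrpCat.free.{u} :=
    Sheaf.preservesSheafification_of_adjunction J AddCommGrpCat.adj.{u}
  (presheafToSheafCompComposeAndSheafifyIso J AddCommGrpCat.free.{u}).app (yoneda.obj U)

variable {J}

lemma subsingleton_ext_freeY_of_isTotallyAcyclic {F : Ab J} (hF : CohCx.IsTotallyAcyclic F)
    (U : C) (p : ℕ) : Subsingleton (Ext.{u} (freeY J U) F (p + 1)) := by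
  have h := hF ((presheafToSheaf J (Type u)).obj (yoneda.obj U)) p
  have e : (extFunctor (p + 1)).obj (op (freeY J U)) ≅ (extFunctor (p + 1)).obj
      (op ((presheafToSheaf J AddCommGrpCat.{u}).obj
        (((presheafToSheaf J (Type u)).obj (yoneda.obj U)).obj ⋙ AddCommGrpCat.free.{u}))) :=
    (extFunctor (p + 1)).mapIso (freeSheafifyIso J U).op
  have h' : Subsingleton (((extFunctor (p + 1)).obj
      (op ((presheafToSheaf J AddCommGrpCat.{u}).obj
        (((presheafToSheaf J (Type u)).obj (yoneda.obj U)).obj ⋙ AddCommGrpCat.free.{u})))).obj F) := h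
  exact ((e.app F).addCommGroupIsoToAddEquiv.toEquiv).subsingleton

variable (J)

theorem isZero_Rpush_of_isTotallyAcyclic {F : Ab J} (hF : CohCx.IsTotallyAcyclic F) (p : ℕ) :
    IsZero ((CohSite.Rpush J K v (p + 1)).obj F) := by
  obtain ⟨e⟩ := nonempty_iso_Rpush J K v (p + 1) F
  refine IsZero.of_iso ?_ e
  refine Functor.map_isZero (Φ K v) ?_
  rw [Functor.isZero_iff]
  intro U
  have : Subsingleton (((Sheaf.cohomologyPresheafFunctor.{u} J (p + 1)).obj F).obj U) :=
    subsingleton_ext_freeY_of_isTotallyAcyclic hF U.unop p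
  exact AddCommGrpCat.isZero_of_subsingleton _

end Groth.Agent.Helper1.SiteCoh
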