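import Groth.Agent.Helper1.DeltaCmp

/-!
# The long exact sequence of `Ext(P, G -)` for an exact functor `G`
-/

namespace Groth.Agent.Helper1.DeltaCmp

open CategoryTheory Limits Abelian

universe w v₁ v₂ u₁ u₂

variable {A : Type u₁} [Category.{v₁} A] [Abelian A] {B : Type u₂} [Category.{v₂} B] [Abelian B]
  [HasExt.{w} B]

/-- the functors `F ↦ Extⁿ(P, G F)` -/
noncomputable abbrev extSeq (G : A ⥤ B) (P : B) (n : ℕ) : A ⥤ AddCommGrpCat.{w} :=
  G ⋙ extFunctorObj P n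

lemma exists_of_exact {B' : Type*} [Category B'] [HasZeroMorphisms B'] {X Y Z : B'} {f : X ⟶ Y}
    {g : Y ⟶ Z} {z : f ≫ g = 0} (h : (ShortComplex.mk f g z).Exact) :
    ∃ w : f ≫ g = 0, (ShortComplex.mk f g w).Exact := ⟨z, h⟩

lemma hasLES_extSeq (G : A ⥤ B) [G.Additive] [PreservesFiniteLimits G] [PreservesFiniteColimits G]
    (P : B) (S : ShortComplex A) (hS : S.ShortExact) : HasLES (extSeq G P) S := by
  intro n
  have hS' : (S.map G).ShortExact := hS.map_of_exact G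
  obtain ⟨w₁, h₁⟩ := exists_of_exact (Ext.covariant_sequence_exact₃' P hS' n (n + 1) rfl)
  obtain ⟨w₂, h₂⟩ := exists_of_exact (Ext.covariant_sequence_exact₁' P hS' n (n + 1) rfl)
  exact ⟨AddCommGrpCat.ofHom (hS'.extClass.postcomp P rfl), w₁, w₂, h₁, h₂⟩

end Groth.Agent.Helper1.DeltaCmp
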