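import Mathlib

/-!
# Concrete description of Mathlib's Čech complex `cechComplexFunctor U` on presheaves of
abelian groups: components, differential, functoriality.
-/

namespace Groth.Agent.Helper1.Cech

open CategoryTheory Limits Opposite Simplicial

universe w v u

variable {D : Type u} [Category.{v} D] [HasFiniteProducts D] {ι : Type w} (U : ι → D)

/-- the product `U_{x_0} × ⋯ × U_{x_n}` -/
noncomputable abbrev prodU {n : ℕ} (x : Fin (n + 1) → ι) : D := ∏ᶜ (U ∘ x)

/-- the projection forgetting the `j`-th factor -/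
noncomputable def face {n : ℕ} (j : Fin (n + 2)) (x : Fin (n + 2) → ι) :
    prodU U x ⟶ prodU U (x ∘ j.succAbove) :=
  Pi.lift (fun k => Pi.π (U ∘ x) (j.succAbove k))

variable (P : Dᵒᵖ ⥤ AddCommGrpCat.{w})

/-- the Čech complex of `P` -/
noncomputable abbrev cx : CochainComplex AddCommGrpCat.{w} ℕ := (cechComplexFunctor U).obj P

/-- the `x`-component of a Čech cochain -/
noncomputable def comp (n : ℕ) (x : Fin (n + 1) → ι) :
    (cx U P).X n ⟶ P.obj (op (prodU U x)) :=
  Pi.π (fun (x : Fin (n + 1) → ι) => P.obj (op (prodU U x))) x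

variable {U P}

lemma ext {n : ℕ} {c c' : (cx U P).X n} (h : ∀ x, comp U P n x c = comp U P n x c') : c = c' := by
  apply (Concrete.productEquiv
    (fun (x : Fin (n + 1) → ι) => P.obj (op (prodU U x)))).injective
  funext x
  rw [Concrete.productEquiv_apply_apply, Concrete.productEquiv_apply_apply]
  exact h x

/-- a cochain from its components -/
noncomputable def mk {n : ℕ} (f : ∀ x : Fin (n + 1) → ι, P.obj (op (prodU U x))) :
    (cx U P).X n :=
  (Concrete.productEquiv (fun (x : Fin (n + 1) → ι) => P.obj (op (prodU U x)))).symm f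

@[simp]
lemma comp_mk {n : ℕ} (f : ∀ x : Fin (n + 1) → ι, P.obj (op (prodU U x)))
    (x : Fin (n + 1) → ι) : comp U P n x (mk f) = f x :=
  Concrete.productEquiv_symm_apply_π _ f x

lemma mk_comp {n : ℕ} (c : (cx U P).X n) : mk (fun x => comp U P n x c) = c :=
  ext (fun x => by simp)

variable (U P)

lemma δ_comp (n : ℕ) (j : Fin (n + 2)) (x : Fin (n + 2) → ι) :
    (((FormalCoproduct.cosimplicialObjectFunctor (FormalCoproduct.mk _ U).cech).obj P).δ j) ≫
      comp U P (n + 1) x = comp U P n (x ∘ j.succAbove) ≫ P.map (face U j x).op := by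
  unfold CosimplicialObject.δ comp
  rw [FormalCoproduct.cosimplicialObjectFunctor_obj_map]
  erw [Pi.lift_π]
  rfl

lemma hom_sum {A B : AddCommGrpCat.{w}} {κ : Type*} (s : Finset κ) (φ : κ → (A ⟶ B)) (a : A) :
    (∑ i ∈ s, φ i) a = ∑ i ∈ s, (φ i) a := by
  classical
  induction s using Finset.induction_on with
  | empty => simp
  | insert i s hi ih =>
    rw [Finset.sum_insert hi, Finset.sum_insert hi, AddCommGrpCat.hom_add_apply, ih]

lemma d_eq (n : ℕ) : (cx U P).d n (n + 1) =
    ∑ i : Fin (n + 2), (-1 : ℤ) ^ (i : ℕ) •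
      (((FormalCoproduct.cosimplicialObjectFunctor (FormalCoproduct.mk _ U).cech).obj P).δ i) := by
  dsimp only [cx, cechComplexFunctor, FormalCoproduct.cochainComplexFunctor,
    AlgebraicTopology.alternatingCofaceMapComplex,
    AlgebraicTopology.AlternatingCofaceMapComplex.obj, Functor.comp_obj]
  rw [CochainComplex.of_d]
  rfl

lemma d_comp (n : ℕ) (x : Fin (n + 2) → ι) :
    (cx U P).d n (n + 1) ≫ comp U P (n + 1) x =
      ∑ j : Fin (n + 2), (-1 : ℤ) ^ (j : ℕ) •
        (comp U P n (x ∘ j.succAbove) ≫ P.map (face U j x).op) := by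
  rw [d_eq]
  erw [Preadditive.sum_comp]
  refine Finset.sum_congr rfl (fun j _ => ?_)
  erw [Preadditive.zsmul_comp, δ_comp]

/-- the differential in components -/
lemma comp_d (n : ℕ) (x : Fin (n + 2) → ι) (c : (cx U P).X n) :
    comp U P (n + 1) x ((cx U P).d n (n + 1) c) =
      ∑ j : Fin (n + 2), (-1 : ℤ) ^ (j : ℕ) •
        P.map (face U j x).op (comp U P n (x ∘ j.succAbove) c) := by
  have h := ConcreteCategory.congr_hom (d_comp U P n x) c
  rw [ConcreteCategory.comp_apply] at h
  rw [h, hom_sum]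
  refine Finset.sum_congr rfl (fun j _ => ?_)
  rfl

variable {U} {P}

lemma map_comp' {Q : Dᵒᵖ ⥤ AddCommGrpCat.{w}} (φ : P ⟶ Q) (n : ℕ) (x : Fin (n + 1) → ι) :
    ((cechComplexFunctor U).map φ).f n ≫ comp U Q n x = comp U P n x ≫ φ.app _ := by
  unfold comp
  dsimp only [cechComplexFunctor, FormalCoproduct.cochainComplexFunctor, Functor.comp_map,
    AlgebraicTopology.alternatingCofaceMapComplex,
    AlgebraicTopology.AlternatingCofaceMapComplex.map]
  erw [FormalCoproduct.cosimplicialObjectFunctor_map_app]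
  erw [Pi.map_π]
  rfl

/-- functoriality in the presheaf, in components -/
lemma comp_map {Q : Dᵒᵖ ⥤ AddCommGrpCat.{w}} (φ : P ⟶ Q) (n : ℕ) (x : Fin (n + 1) → ι)
    (c : (cx U P).X n) :
    comp U Q n x (((cechComplexFunctor U).map φ).f n c) = φ.app _ (comp U P n x c) := by
  have h := ConcreteCategory.congr_hom (map_comp' (U := U) φ n x) c
  rw [ConcreteCategory.comp_apply, ConcreteCategory.comp_apply] at h
  exact h


/-- elementwise criterion for the vanishing of the homology of a complex of abelian groups -/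
lemma isZero_homology_of_exists (K : CochainComplex AddCommGrpCat.{w} ℕ) (p : ℕ)
    (h : ∀ c : K.X (p + 1), K.d (p + 1) (p + 2) c = 0 → ∃ b : K.X p, K.d p (p + 1) b = c) :
    IsZero (K.homology (p + 1)) := by
  rw [← HomologicalComplex.exactAt_iff_isZero_homology,
    HomologicalComplex.exactAt_iff' K p (p + 1) (p + 2) (by simp) (by simp),
    ShortComplex.ab_exact_iff]
  intro c hc
  exact h c hc

lemma exists_of_isZero_homology (K : CochainComplex AddCommGrpCat.{w} ℕ) (p : ℕ)
    (hK : IsZero (K.homology (p + 1))) (c : K.X (p + 1)) (hc : K.d (p + 1) (p + 2) c = 0) :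
    ∃ b : K.X p, K.d p (p + 1) b = c := by
  rw [← HomologicalComplex.exactAt_iff_isZero_homology,
    HomologicalComplex.exactAt_iff' K p (p + 1) (p + 2) (by simp) (by simp),
    ShortComplex.ab_exact_iff] at hK
  exact hK c hc

end Groth.Agent.Helper1.Cech
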