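import Groth.Agent.Helper1.CechBasic
import Groth.Agent.Helper1.DeltaCmp

/-!
# Long exact sequence of Čech cohomology for a short complex of presheaves which is short exact
on all finite products of members of the family
-/

namespace Groth.Agent.Helper1.Cech

open CategoryTheory Limits Opposite
open Groth.Agent.Helper1.DeltaCmp

universe w v u

variable {D : Type u} [Category.{v} D] [HasFiniteProducts D] {ι : Type w} (U : ι → D)

instance : (cechComplexFunctor (A := AddCommGrpCat.{w}) U).PreservesZeroMorphisms where
  map_zero P Q := by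
    ext n : 1
    apply AddCommGrpCat.hom_ext
    apply AddMonoidHom.ext
    intro c
    apply Cech.ext
    intro x
    erw [comp_map]
    simp

instance : (cechComplexFunctor (A := AddCommGrpCat.{w}) U).Additive where
  map_add {P Q φ ψ} := by
    ext n : 1
    apply AddCommGrpCat.hom_ext
    apply AddMonoidHom.ext
    intro c
    apply Cech.ext
    intro x
    erw [comp_map]
    rw [HomologicalComplex.add_f_apply, AddCommGrpCat.hom_add_apply, map_add]
    erw [comp_map, comp_map]
    rfl

/-- elementwise criterion for short exactness in `AddCommGrpCat` -/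
lemma shortExact_ab (T : ShortComplex AddCommGrpCat.{w}) (h1 : Function.Injective T.f)
    (h2 : ∀ y, T.g y = 0 → ∃ x, T.f x = y) (h3 : Function.Surjective T.g) : T.ShortExact where
  exact := (ShortComplex.ab_exact_iff T).2 h2
  mono_f := (AddCommGrpCat.mono_iff_injective _).2 h1
  epi_g := (AddCommGrpCat.epi_iff_surjective _).2 h3

lemma ShortExact.ab_injective {T : ShortComplex AddCommGrpCat.{w}} (h : T.ShortExact) :
    Function.Injective T.f := (AddCommGrpCat.mono_iff_injective _).1 h.mono_f

lemma ShortExact.ab_surjective {T : ShortComplex AddCommGrpCat.{w}} (h : T.ShortExact) :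
    Function.Surjective T.g := (AddCommGrpCat.epi_iff_surjective _).1 h.epi_g

lemma ShortExact.ab_exact {T : ShortComplex AddCommGrpCat.{w}} (h : T.ShortExact) (y : T.X₂)
    (hy : T.g y = 0) : ∃ x, T.f x = y := (ShortComplex.ab_exact_iff T).1 h.exact y hy

variable {U}

/-- a short complex of presheaves which is sectionwise short exact on the products of members of
the family -/
def SectionwiseExact (U : ι → D) (S : ShortComplex (Dᵒᵖ ⥤ AddCommGrpCat.{w})) : Prop :=
  ∀ (n : ℕ) (x : Fin (n + 1) → ι),
    (S.map ((evaluation _ _).obj (op (prodU U x)))).ShortExact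

section

variable {S : ShortComplex (Dᵒᵖ ⥤ AddCommGrpCat.{w})} (h : SectionwiseExact U S)
include h

lemma map_f_injective (n : ℕ) : Function.Injective (((cechComplexFunctor U).map S.f).f n) := by
  intro c c' hc
  apply Cech.ext
  intro x
  apply ShortExact.ab_injective (h n x)
  have := congrArg (fun c => comp U S.X₂ n x c) hc
  simp only [comp_map] at this
  exact this

lemma map_exact (n : ℕ) (c : (cx U S.X₂).X n)
    (hc : ((cechComplexFunctor U).map S.g).f n c = 0) :
    ∃ c' : (cx U S.X₁).X n, ((cechComplexFunctor U).map S.f).f n c' = c := by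
  have hx : ∀ x, ∃ a : S.X₁.obj (op (prodU U x)), S.f.app _ a = comp U S.X₂ n x c := by
    intro x
    apply ShortExact.ab_exact (h n x)
    have := congrArg (fun c => comp U S.X₃ n x c) hc
    simp only [comp_map, map_zero] at this
    exact this
  choose a ha using hx
  refine ⟨Cech.mk a, ?_⟩
  apply Cech.ext
  intro x
  rw [comp_map, comp_mk, ha]

lemma map_g_surjective (n : ℕ) : Function.Surjective (((cechComplexFunctor U).map S.g).f n) := by
  intro c
  have hx : ∀ x, ∃ a : S.X₂.obj (op (prodU U x)), S.g.app _ a = comp U S.X₃ n x c :=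
    fun x => ShortExact.ab_surjective (h n x) _
  choose a ha using hx
  refine ⟨Cech.mk a, ?_⟩
  apply Cech.ext
  intro x
  rw [comp_map, comp_mk, ha]

lemma shortExact_map_cech : (S.map (cechComplexFunctor U)).ShortExact := by
  apply HomologicalComplex.shortExact_of_degreewise_shortExact
  intro n
  exact shortExact_ab _ (map_f_injective h n) (map_exact h n) (map_g_surjective h n)

end

/-- injectivity of the map of Čech cochains, from injectivity on sections -/
lemma map_injective_of {P Q : Dᵒᵖ ⥤ AddCommGrpCat.{w}} (f : P ⟶ Q) (n : ℕ)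
    (hinj : ∀ x : Fin (n + 1) → ι, Function.Injective (f.app (op (prodU U x)))) :
    Function.Injective (((cechComplexFunctor U).map f).f n) := by
  intro c c' hc
  apply Cech.ext
  intro x
  apply hinj x
  have := congrArg (fun c => comp U Q n x c) hc
  simp only [comp_map] at this
  exact this

/-- exactness in the middle of the maps of Čech cochains, from exactness on sections -/
lemma map_exact_of (S : ShortComplex (Dᵒᵖ ⥤ AddCommGrpCat.{w})) (n : ℕ)
    (hex : ∀ (x : Fin (n + 1) → ι) (y : S.X₂.obj (op (prodU U x))), S.g.app _ y = 0 →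
      ∃ a, S.f.app _ a = y)
    (c : (cx U S.X₂).X n) (hc : ((cechComplexFunctor U).map S.g).f n c = 0) :
    ∃ c' : (cx U S.X₁).X n, ((cechComplexFunctor U).map S.f).f n c' = c := by
  have hx : ∀ x, ∃ a : S.X₁.obj (op (prodU U x)), S.f.app _ a = comp U S.X₂ n x c := by
    intro x
    apply hex
    have := congrArg (fun c => comp U S.X₃ n x c) hc
    simp only [comp_map, map_zero] at this
    exact this
  choose a ha using hx
  refine ⟨Cech.mk a, ?_⟩
  apply Cech.ext
  intro x
  rw [comp_map, comp_mk, ha]

variable (U)

/-- Čech cohomology as a functor on presheaves -/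
noncomputable abbrev cechHFun (n : ℕ) : (Dᵒᵖ ⥤ AddCommGrpCat.{w}) ⥤ AddCommGrpCat.{w} :=
  cechComplexFunctor U ⋙ HomologicalComplex.homologyFunctor _ _ n

variable {U}

lemma hasLES_cech {A : Type*} [Category A] [Abelian A] (G : A ⥤ (Dᵒᵖ ⥤ AddCommGrpCat.{w}))
    [G.PreservesZeroMorphisms] (S : ShortComplex A) (h : SectionwiseExact U (S.map G)) :
    HasLES (fun n => G ⋙ cechHFun U n) S := by
  intro n
  have hS := shortExact_map_cech h
  exact ⟨hS.δ n (n + 1) rfl, hS.comp_δ n (n + 1) rfl, hS.δ_comp n (n + 1) rfl,
    hS.homology_exact₃ n (n + 1) rfl, hS.homology_exact₁ n (n + 1) rfl⟩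

end Groth.Agent.Helper1.Cech
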