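import Groth.Agent.Helper1.CechTop
import Groth.Agent.Helper1.CechLES

/-!
# `Ȟ⁰(U, F) ≅ F(⋃ U)` for sheaves on a topological space, naturally in `F`
-/

namespace Groth.Agent.Helper1.CechTop

open CategoryTheory Limits Opposite TopologicalSpace
open Groth.Agent.Helper1.Cech

universe u

variable {X : TopCat.{u}} {ι : Type u} (U : ι → Opens X)

/-- sections over an open, as a functor on abelian sheaves -/
noncomputable abbrev sectionsFunctor (T : Opens X) : CohTop.Ab X ⥤ AddCommGrpCat.{u} :=
  sheafToPresheaf _ _ ⋙ (evaluation _ _).obj (op T)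

/-- Čech cohomology as a functor on abelian sheaves -/
noncomputable abbrev cechHSh (n : ℕ) : CohTop.Ab X ⥤ AddCommGrpCat.{u} :=
  sheafToPresheaf _ _ ⋙ cechHFun U n

variable (P : (Opens X)ᵒᵖ ⥤ AddCommGrpCat.{u})

/-- the augmentation as a morphism of groups -/
noncomputable def augHom : P.obj (op (iSup U)) ⟶ (cx U P).X 0 :=
  AddCommGrpCat.ofHom
    { toFun := aug U P (iSup U) (le_iSup U)
      map_zero' := by
        have := aug_sub (U := U) (P := P) (le_iSup U) 0 0
        rwa [sub_self, sub_self] at this
      map_add' := aug_add (le_iSup U) }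

lemma augHom_apply (a : P.obj (op (iSup U))) :
    augHom U P a = aug U P (iSup U) (le_iSup U) a := rfl

lemma augHom_d : augHom U P ≫ (cx U P).d 0 1 = 0 := by
  apply AddCommGrpCat.hom_ext
  apply AddMonoidHom.ext
  intro a
  exact d_aug (le_iSup U) a

/-- the augmentation into the cycles -/
noncomputable def augCycles : P.obj (op (iSup U)) ⟶ (cx U P).cycles 0 :=
  (cx U P).liftCycles (augHom U P) 1 (by simp) (augHom_d U P)

lemma augCycles_i : augCycles U P ≫ (cx U P).iCycles 0 = augHom U P :=
  HomologicalComplex.liftCycles_i _ _ _ _ _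

variable {P} in
lemma augCycles_naturality {Q : (Opens X)ᵒᵖ ⥤ AddCommGrpCat.{u}} (φ : P ⟶ Q) :
    φ.app (op (iSup U)) ≫ augCycles U Q =
      augCycles U P ≫ HomologicalComplex.cyclesMap ((cechComplexFunctor U).map φ) 0 := by
  rw [← cancel_mono ((cx U Q).iCycles 0), Category.assoc, Category.assoc, augCycles_i,
    HomologicalComplex.cyclesMap_i, ← Category.assoc, augCycles_i]
  apply AddCommGrpCat.hom_ext
  apply AddMonoidHom.ext
  intro a
  exact (aug_map (le_iSup U) φ a).symm

lemma isIso_augCycles (F : CohTop.Ab X) : IsIso (augCycles U F.obj) := by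
  rw [ConcreteCategory.isIso_iff_bijective]
  constructor
  · intro a a' h
    apply aug_injective F
    have := congrArg (fun z => (cx U F.obj).iCycles 0 z) h
    simp only [← ConcreteCategory.comp_apply, augCycles_i] at this
    exact this
  · intro z
    obtain ⟨a, ha⟩ := exists_aug_of_cocycle F ((cx U F.obj).iCycles 0 z) (by
      rw [← ConcreteCategory.comp_apply, HomologicalComplex.iCycles_d]
      rfl)
    refine ⟨a, ?_⟩
    have hm : Function.Injective ((cx U F.obj).iCycles 0) :=
      (AddCommGrpCat.mono_iff_injective _).1 inferInstance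
    apply hm
    rw [← ConcreteCategory.comp_apply, augCycles_i]
    exact ha

/-- `F(⋃ U) ≅ Ȟ⁰(U, F)`, naturally in the sheaf `F` -/
noncomputable def h0Iso : sectionsFunctor (iSup U) ≅ cechHSh U 0 :=
  NatIso.ofComponents (fun F =>
    have := isIso_augCycles U F
    asIso (augCycles U F.obj) ≪≫ (cx U F.obj).isoHomologyπ₀)
    (by
      intro F G φ
      dsimp
      rw [← Category.assoc, augCycles_naturality, Category.assoc, Category.assoc]
      congr 1
      exact (HomologicalComplex.homologyπ_naturality ((cechComplexFunctor U).map φ.hom) 0).symm)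

end Groth.Agent.Helper1.CechTop
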