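import Groth.Agent.Helper1.ExtLES
import Groth.Agent.Helper1.CechH0
import Groth.Agent.Lead.CohTopB

/-!
# `H⁰(T, F) = F(T)` naturally, and the derived side of the comparison of δ-functors on `Ab X`
-/

namespace Groth.Agent.Helper1.CohTopExt

open CategoryTheory Limits Opposite TopologicalSpace Abelian
open Groth.Agent.Lead.CohTopB
open Groth.Agent.Helper1.DeltaCmp
open Groth.Agent.Helper1.CechTop

universe u

variable {X : TopCat.{u}}

/-- the universal section of `ℤ_T` over `T` -/
noncomputable def univ (T : Opens X) : (freeU T).obj.obj (op T) := homEquiv T (freeU T) (𝟙 _)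

lemma homEquiv_eq (T : Opens X) (G : CohTop.Ab X) (φ : freeU T ⟶ G) :
    homEquiv T G φ = φ.hom.app (op T) (univ T) := by
  have := homEquiv_comp T (𝟙 (freeU T)) φ
  rw [Category.id_comp] at this
  exact this

/-- `Hom(ℤ_T, G) ≃+ G(T)` -/
noncomputable def homAddEquiv (T : Opens X) (G : CohTop.Ab X) :
    (freeU T ⟶ G) ≃+ G.obj.obj (op T) :=
  { homEquiv T G with
    map_add' := by
      intro φ ψ
      show homEquiv T G (φ + ψ) = homEquiv T G φ + homEquiv T G ψ
      rw [homEquiv_eq, homEquiv_eq, homEquiv_eq]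
      rfl }

lemma homAddEquiv_apply (T : Opens X) (G : CohTop.Ab X) (φ : freeU T ⟶ G) :
    homAddEquiv T G φ = homEquiv T G φ := rfl

/-- the derived functors of sections over `T` -/
noncomputable abbrev HUSeq (T : Opens X) (n : ℕ) : CohTop.Ab X ⥤ AddCommGrpCat.{u} :=
  extSeq (𝟭 (CohTop.Ab X)) (freeU T) n

/-- `H⁰(T, F) ≅ F(T)`, naturally in `F` -/
noncomputable def ext0Iso (T : Opens X) : HUSeq T 0 ≅ sectionsFunctor T :=
  NatIso.ofComponents (fun F =>
    (Ext.addEquiv₀.trans (homAddEquiv T F)).toAddCommGrpIso)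
    (by
      intro F G φ
      apply AddCommGrpCat.hom_ext
      apply AddMonoidHom.ext
      intro x
      show homEquiv T G (Ext.addEquiv₀ (x.comp (Ext.mk₀ φ) (add_zero 0))) =
        φ.hom.app (op T) (homEquiv T F (Ext.addEquiv₀ x))
      rw [← homEquiv_comp]
      congr 1
      apply (Ext.mk₀_bijective _ _).1
      rw [Ext.mk₀_addEquiv₀_apply, ← Ext.mk₀_comp_mk₀, Ext.mk₀_addEquiv₀_apply])

lemma isZero_HUSeq_of_injective (T : Opens X) (I : CohTop.Ab X) [Injective I] (n : ℕ) :
    IsZero ((HUSeq T (n + 1)).obj I) := by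
  have : Subsingleton ((HUSeq T (n + 1)).obj I) :=
    subsingleton_of_forall_eq 0 fun x => Ext.eq_zero_of_injective (C := CohTop.Ab X) x
  exact AddCommGrpCat.isZero_of_subsingleton _

end Groth.Agent.Helper1.CohTopExt
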