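import Mathlib
import Groth.Prelude.Def_CohTop

/-!
# Sections over compact opens commute with directed colimits of abelian sheaves
-/

set_option autoImplicit false

namespace Groth.Agent.Helper1.ColimSec

open CategoryTheory Limits TopologicalSpace Opposite

universe u
variable {X : TopCat.{u}}

/-- the stalk functor on abelian sheaves -/
noncomputable def stalkF (x : X) : CohTop.Ab X ⥤ AddCommGrpCat.{u} :=
  (TopCat.Sheaf.forget AddCommGrpCat.{u} X ⋙ TopCat.Presheaf.stalkFunctor AddCommGrpCat.{u} x :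
    TopCat.Sheaf AddCommGrpCat.{u} X ⥤ AddCommGrpCat.{u})

open Classical in
noncomputable instance (x : X) : PreservesColimitsOfSize.{u, u} (stalkF x) :=
  (stalkSkyscraperSheafAdjunction (C := AddCommGrpCat.{u}) x).leftAdjoint_preservesColimits

lemma stalkF_map_germ {G H : CohTop.Ab X} (φ : G ⟶ H) (x : X) (U : Opens X) (hx : x ∈ U)
    (s : G.obj.obj (op U)) :
    (stalkF x).map φ (TopCat.Presheaf.germ G.obj U x hx s) =
      TopCat.Presheaf.germ H.obj U x hx (φ.hom.app (op U) s) :=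
  TopCat.Presheaf.stalkFunctor_map_germ_apply U x hx φ.hom s

/-- separatedness, in a convenient form -/
lemma eq_zero_of_cover (G : CohTop.Ab X) {κ : Type*} (W : κ → Opens X) (V : Opens X)
    (hWV : ∀ k, W k ≤ V) (hcov : V ≤ iSup W) (s : G.obj.obj (op V))
    (h : ∀ k, G.obj.map (homOfLE (hWV k)).op s = 0) : s = 0 := by
  refine TopCat.Sheaf.eq_of_locally_eq' (C := AddCommGrpCat.{u}) G W V (fun k => homOfLE (hWV k))
    hcov s 0 (fun k => ?_)
  rw [map_zero]
  exact h k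

lemma eq_of_cover (G : CohTop.Ab X) {κ : Type*} (W : κ → Opens X) (V : Opens X)
    (hWV : ∀ k, W k ≤ V) (hcov : V ≤ iSup W) (s t : G.obj.obj (op V))
    (h : ∀ k, G.obj.map (homOfLE (hWV k)).op s = G.obj.map (homOfLE (hWV k)).op t) : s = t :=
  TopCat.Sheaf.eq_of_locally_eq' (C := AddCommGrpCat.{u}) G W V (fun k => homOfLE (hWV k))
    hcov s t h

variable {ι : Type u} [Preorder ι] [IsDirected ι (· ≤ ·)] [Nonempty ι]
  {F : ι ⥤ CohTop.Ab X} {c : Cocone F} (hc : IsColimit c)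

include hc in
/-- local surjectivity of the colimit cocone -/
lemma exists_local_rep {U : Opens X} (s : c.pt.obj.obj (op U)) (x : X) (hx : x ∈ U) :
    ∃ (i : ι) (W : Opens X) (hW : W ≤ U) (_ : x ∈ W) (t : (F.obj i).obj.obj (op W)),
      (c.ι.app i).hom.app (op W) t = c.pt.obj.map (homOfLE hW).op s := by
  have hc' := isColimitOfPreserves (stalkF x) hc
  obtain ⟨i, y, hy⟩ := Concrete.isColimit_exists_rep (F ⋙ stalkF x) hc'
    (TopCat.Presheaf.germ c.pt.obj U x hx s)
  obtain ⟨V, hxV, t, ht⟩ := TopCat.Presheaf.exists_germ_eq (F.obj i).obj y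
  have h1 : TopCat.Presheaf.germ c.pt.obj V x hxV ((c.ι.app i).hom.app (op V) t) =
      TopCat.Presheaf.germ c.pt.obj U x hx s := by
    rw [← stalkF_map_germ, ht]
    exact hy
  obtain ⟨W, hxW, iV, iU, h2⟩ := TopCat.Presheaf.germ_eq c.pt.obj x hxV hx _ _ h1
  refine ⟨i, W, leOfHom iU, hxW, (F.obj i).obj.map iV.op t, ?_⟩
  rw [NatTrans.naturality_apply]
  exact h2

include hc in
/-- local injectivity of the colimit cocone -/
lemma exists_local_zero {V : Opens X} {i : ι} (t : (F.obj i).obj.obj (op V))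
    (ht : (c.ι.app i).hom.app (op V) t = 0) (x : X) (hx : x ∈ V) :
    ∃ (j : ι) (hij : i ≤ j) (W : Opens X) (hW : W ≤ V) (_ : x ∈ W),
      (F.obj j).obj.map (homOfLE hW).op ((F.map (homOfLE hij)).hom.app (op V) t) = 0 := by
  have hc' := isColimitOfPreserves (stalkF x) hc
  have h0 : ((stalkF x).mapCocone c).ι.app i (TopCat.Presheaf.germ (F.obj i).obj V x hx t) =
      ((stalkF x).mapCocone c).ι.app i 0 := by
    rw [map_zero]
    refine (stalkF_map_germ (c.ι.app i) x V hx t).trans ?_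
    rw [ht, map_zero]
    rfl
  obtain ⟨j, f, g, hfg⟩ := Concrete.isColimit_exists_of_rep_eq (F ⋙ stalkF x) hc' _ _ h0
  have h1 : TopCat.Presheaf.germ (F.obj j).obj V x hx ((F.map f).hom.app (op V) t) =
      TopCat.Presheaf.germ (F.obj j).obj V x hx 0 := by
    rw [← stalkF_map_germ, map_zero]
    rw [map_zero] at hfg
    exact hfg
  obtain ⟨W, hxW, iV, iV', h2⟩ := TopCat.Presheaf.germ_eq (F.obj j).obj x hx hx _ _ h1
  refine ⟨j, leOfHom f, W, leOfHom iV, hxW, ?_⟩
  rw [map_zero] at h2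
  exact h2

/-- transition maps on sections -/
lemma map_map_apply {i j k : ι} (hij : i ≤ j) (hjk : j ≤ k) (V : Opens X)
    (t : (F.obj i).obj.obj (op V)) :
    (F.map (homOfLE hjk)).hom.app (op V) ((F.map (homOfLE hij)).hom.app (op V) t) =
      (F.map (homOfLE (hij.trans hjk))).hom.app (op V) t := by
  have : F.map (homOfLE (hij.trans hjk)) = F.map (homOfLE hij) ≫ F.map (homOfLE hjk) := by
    rw [← F.map_comp]
    rfl
  rw [this]
  rfl

lemma ι_map_apply {i j : ι} (hij : i ≤ j) (V : Opens X) (t : (F.obj i).obj.obj (op V)) :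
    (c.ι.app j).hom.app (op V) ((F.map (homOfLE hij)).hom.app (op V) t) =
      (c.ι.app i).hom.app (op V) t := by
  have : c.ι.app i = F.map (homOfLE hij) ≫ c.ι.app j := (c.w (homOfLE hij)).symm
  rw [this]
  rfl

include hc in
/-- injectivity of `colim Fᵢ(U) → (colim Fᵢ)(U)` for compact `U` -/
lemma exists_zero_of_isCompact {U : Opens X} (hU : IsCompact (U : Set X)) {i : ι}
    (t : (F.obj i).obj.obj (op U)) (ht : (c.ι.app i).hom.app (op U) t = 0) :
    ∃ (j : ι) (hij : i ≤ j), (F.map (homOfLE hij)).hom.app (op U) t = 0 := by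
  choose j hij W hW hxW h using fun x : U => exists_local_zero hc t ht x.1 x.2
  obtain ⟨S, hS⟩ := hU.elim_finite_subcover (fun x : U => (W x : Set X)) (fun x => (W x).isOpen)
    (fun x hx => Set.mem_iUnion.2 ⟨⟨x, hx⟩, hxW ⟨x, hx⟩⟩)
  obtain ⟨m, hm⟩ := Finite.exists_le (fun o : Option S => o.elim i (fun x => j x.1))
  have him : i ≤ m := hm none
  refine ⟨m, him, ?_⟩
  refine eq_zero_of_cover (F.obj m) (fun x : S => W x.1) U (fun x => hW x.1) ?_ _ (fun x => ?_)
  · intro y hy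
    obtain ⟨x, hx⟩ := Set.mem_iUnion.1 (hS hy)
    obtain ⟨hxS, hyx⟩ := Set.mem_iUnion.1 hx
    exact Opens.mem_iSup.2 ⟨⟨x, hxS⟩, hyx⟩
  · have hjm : j x.1 ≤ m := hm (some x)
    rw [← map_map_apply (hij x.1) hjm, ← NatTrans.naturality_apply, h, map_zero]

lemma res_res (G : CohTop.Ab X) {V W W' : Opens X} (h : W ≤ V) (h' : W' ≤ W)
    (s : G.obj.obj (op V)) :
    G.obj.map (homOfLE h').op (G.obj.map (homOfLE h).op s) =
      G.obj.map (homOfLE (h'.trans h)).op s := by
  rw [← ConcreteCategory.comp_apply, ← Functor.map_comp]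
  rfl

lemma hom_res {G H : CohTop.Ab X} (φ : G ⟶ H) {V W : Opens X} (h : W ≤ V)
    (s : G.obj.obj (op V)) :
    φ.hom.app (op W) (G.obj.map (homOfLE h).op s) =
      H.obj.map (homOfLE h).op (φ.hom.app (op V) s) :=
  NatTrans.naturality_apply φ.hom _ s

lemma ι_res (i : ι) {V W : Opens X} (h : W ≤ V) (t : (F.obj i).obj.obj (op V)) :
    (c.ι.app i).hom.app (op W) ((F.obj i).obj.map (homOfLE h).op t) =
      c.pt.obj.map (homOfLE h).op ((c.ι.app i).hom.app (op V) t) :=
  NatTrans.naturality_apply (c.ι.app i).hom _ t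

lemma exists_compact_nhd [PrespectralSpace X] (W : Opens X) (x : X) (hx : x ∈ W) :
    ∃ K : Opens X, IsCompact (K : Set X) ∧ x ∈ K ∧ K ≤ W := by
  obtain ⟨K, ⟨hKo, hKc⟩, hxK, hKW⟩ :=
    (PrespectralSpace.isTopologicalBasis (X := X)).exists_subset_of_mem_open hx W.isOpen
  exact ⟨⟨K, hKo⟩, hKc, hxK, hKW⟩

include hc in
/-- surjectivity of `colim Fᵢ(U) → (colim Fᵢ)(U)` for compact quasi-separated `U` -/
lemma exists_rep_of_isCompact' [PrespectralSpace X] {U : Opens X}
    (hU : IsCompact (U : Set X)) (hqs : IsQuasiSeparated (U : Set X)) (s : c.pt.obj.obj (op U)) :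
    ∃ (i : ι) (t : (F.obj i).obj.obj (op U)), (c.ι.app i).hom.app (op U) t = s := by
  choose i W hW hxW t ht using fun x : U => exists_local_rep hc s x.1 x.2
  choose K hKc hxK hKW using fun x : U => exists_compact_nhd (W x) x.1 (hxW x)
  obtain ⟨S, hS⟩ := hU.elim_finite_subcover (fun x : U => (K x : Set X)) (fun x => (K x).isOpen)
    (fun x hx => Set.mem_iUnion.2 ⟨⟨x, hx⟩, hxK ⟨x, hx⟩⟩)
  have hKU : ∀ x : U, K x ≤ U := fun x => (hKW x).trans (hW x)
  have hcov : U ≤ ⨆ x : S, K x.1 := by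
    intro y hy
    obtain ⟨x, hx⟩ := Set.mem_iUnion.1 (hS hy)
    obtain ⟨hxS, hyx⟩ := Set.mem_iUnion.1 hx
    exact Opens.mem_iSup.2 ⟨⟨x, hxS⟩, hyx⟩
  obtain ⟨m, hm⟩ := Finite.exists_le (fun x : S => i x.1)
  obtain ⟨t', ht'def⟩ : ∃ t' : ∀ x : S, (F.obj m).obj.obj (op (K x.1)), t' = fun x =>
      (F.obj m).obj.map (homOfLE (hKW x.1)).op
        ((F.map (homOfLE (hm x))).hom.app (op (W x.1)) (t x.1)) := ⟨_, rfl⟩
  have ht' : ∀ x : S, (c.ι.app m).hom.app (op (K x.1)) (t' x) =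
      c.pt.obj.map (homOfLE (hKU x.1)).op s := by
    intro x
    rw [ht'def]
    dsimp only
    rw [ι_res, ι_map_apply, ht, res_res]
  have hd : ∀ p : S × S, ∃ (j : ι) (hmj : m ≤ j),
      (F.map (homOfLE hmj)).hom.app (op (K p.1.1 ⊓ K p.2.1))
        ((F.obj m).obj.map (homOfLE (inf_le_left : K p.1.1 ⊓ K p.2.1 ≤ K p.1.1)).op (t' p.1) -
          (F.obj m).obj.map (homOfLE (inf_le_right : K p.1.1 ⊓ K p.2.1 ≤ K p.2.1)).op (t' p.2))
        = 0 := by
    intro p
    apply exists_zero_of_isCompact hc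
    · exact hqs _ _ (hKU p.1.1) (K p.1.1).isOpen (hKc p.1.1) (hKU p.2.1)
        (K p.2.1).isOpen (hKc p.2.1)
    · rw [map_sub, ι_res, ι_res, ht', ht', res_res, res_res, sub_eq_zero]
  choose j hmj hj using hd
  obtain ⟨n, hn⟩ := Finite.exists_le (fun o : Option (S × S) => o.elim m (fun p => j p))
  have hmn : m ≤ n := hn none
  obtain ⟨t'', ht''def⟩ : ∃ t'' : ∀ x : S, (F.obj n).obj.obj (op (K x.1)), t'' = fun x =>
      (F.map (homOfLE hmn)).hom.app (op (K x.1)) (t' x) := ⟨_, rfl⟩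
  have hcompat : TopCat.Presheaf.IsCompatible (F.obj n).obj (fun x : S => K x.1) t'' := by
    intro x y
    have h1 := hj (x, y)
    have hjn : j (x, y) ≤ n := hn (some (x, y))
    have h2 := congrArg ((F.map (homOfLE hjn)).hom.app (op (K x.1 ⊓ K y.1))) h1
    rw [map_map_apply, map_zero, map_sub, sub_eq_zero, hom_res, hom_res] at h2
    rw [ht''def]
    exact h2
  obtain ⟨g, hg, -⟩ := TopCat.Sheaf.existsUnique_gluing' (C := AddCommGrpCat.{u}) (F.obj n)
    (fun x : S => K x.1) U (fun x => homOfLE (hKU x.1)) hcov t'' hcompat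
  refine ⟨n, g, ?_⟩
  refine eq_of_cover c.pt (fun x : S => K x.1) U (fun x => hKU x.1) hcov _ _ (fun x => ?_)
  rw [← ι_res]
  have := hg x
  rw [this, ht''def]
  dsimp only
  rw [ι_map_apply, ht']

include hc in
/-- surjectivity of `colim Fᵢ(U) → (colim Fᵢ)(U)` for compact `U` -/
lemma exists_rep_of_isCompact [PrespectralSpace X] [QuasiSeparatedSpace X] {U : Opens X}
    (hU : IsCompact (U : Set X)) (s : c.pt.obj.obj (op U)) :
    ∃ (i : ι) (t : (F.obj i).obj.obj (op U)), (c.ι.app i).hom.app (op U) t = s :=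
  exists_rep_of_isCompact' hc hU (IsQuasiSeparated.of_quasiSeparatedSpace _) s

end Groth.Agent.Helper1.ColimSec
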