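import Mathlib
import Groth.Agent.Helper1.Horseshoe

set_option autoImplicit false

/-!
# Naturality of the connecting morphisms of right derived functors
-/

namespace Groth.Agent.Helper1.Horseshoe
open CategoryTheory Limits HomologicalComplex

universe v u v' u'
variable {C : Type u} [Category.{v} C] [Abelian C]

section htpy
variable (J K : CochainComplex C ℕ) [hK : ∀ n, Injective (K.X n)]
  (hJ : ∀ n, (ShortComplex.mk (J.d n (n + 1)) (J.d (n + 1) (n + 2)) (J.d_comp_d _ _ _)).Exact)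
  (ρ : ∀ n, J.X n ⟶ K.X (n + 1))
  (hρ : ∀ n, ρ n ≫ K.d (n + 1) (n + 2) + J.d n (n + 1) ≫ ρ (n + 1) = 0)

/-- the state of the recursion building `h` -/
structure Ht (n : ℕ) where
  x : J.X n ⟶ K.X n
  y : J.X (n + 1) ⟶ K.X (n + 1)
  w : J.d n (n + 1) ≫ y = x ≫ K.d n (n + 1) + ρ n

variable {J K ρ}

include hρ in
lemma Ht.next_aux {n : ℕ} (s : Ht J K ρ n) :
    J.d n (n + 1) ≫ (s.y ≫ K.d (n + 1) (n + 2) + ρ (n + 1)) = 0 := by
  rw [Preadditive.comp_add, ← Category.assoc, s.w, Preadditive.add_comp, Category.assoc,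
    K.d_comp_d, comp_zero, zero_add]
  exact hρ n

/-- the recursion step -/
noncomputable def Ht.next {n : ℕ} (s : Ht J K ρ n) : Ht J K ρ (n + 1) where
  x := s.y
  y := (hJ n).descToInjective (s.y ≫ K.d (n + 1) (n + 2) + ρ (n + 1)) (s.next_aux hρ)
  w := (hJ n).comp_descToInjective _ _

/-- the sequence of states -/
noncomputable def hseq (s₀ : Ht J K ρ 0) : ∀ n, Ht J K ρ n
  | 0 => s₀
  | n + 1 => (hseq s₀ n).next hJ hρ

variable (J K ρ)

include hJ hρ in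
theorem exists_htpy {Z : C} (ιJ : Z ⟶ J.X 0) [Mono ιJ] (w0 : ιJ ≫ J.d 0 1 = 0)
    (h0 : (ShortComplex.mk ιJ (J.d 0 1) w0).Exact) (r : Z ⟶ K.X 0)
    (hr : r ≫ K.d 0 1 + ιJ ≫ ρ 0 = 0) :
    ∃ h : ∀ n, J.X n ⟶ K.X n, ιJ ≫ h 0 = r ∧
      ∀ n, J.d n (n + 1) ≫ h (n + 1) = h n ≫ K.d n (n + 1) + ρ n := by
  let x₀ : J.X 0 ⟶ K.X 0 := Injective.factorThru r ιJ
  have hx₀ : ιJ ≫ x₀ = r := Injective.comp_factorThru r ιJ
  have hz : ιJ ≫ (x₀ ≫ K.d 0 1 + ρ 0) = 0 := by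
    rw [Preadditive.comp_add, ← Category.assoc, hx₀, hr]
  let s₀ : Ht J K ρ 0 :=
    { x := x₀
      y := h0.descToInjective (x₀ ≫ K.d 0 1 + ρ 0) hz
      w := h0.comp_descToInjective _ _ }
  exact ⟨fun n => (hseq hJ hρ s₀ n).x, hx₀, fun n => (hseq hJ hρ s₀ n).w⟩

end htpy

section mapM
variable {I J I' J' : CochainComplex C ℕ} (θ : ∀ n, J.X n ⟶ I.X (n + 1))
  (hθ : ∀ n, θ n ≫ I.d (n + 1) (n + 2) + J.d n (n + 1) ≫ θ (n + 1) = 0)
  (θ' : ∀ n, J'.X n ⟶ I'.X (n + 1))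
  (hθ' : ∀ n, θ' n ≫ I'.d (n + 1) (n + 2) + J'.d n (n + 1) ≫ θ' (n + 1) = 0)
  (a : I ⟶ I') (c : J ⟶ J') (h : ∀ n, J.X n ⟶ I'.X n)
  (hh : ∀ n, J.d n (n + 1) ≫ h (n + 1) =
    h n ≫ I'.d n (n + 1) + (c.f n ≫ θ' n - θ n ≫ a.f (n + 1)))

/-- the components of the map between the middle complexes -/
noncomputable def mF (n : ℕ) : I.X n ⊞ J.X n ⟶ I'.X n ⊞ J'.X n :=
  biprod.desc (a.f n ≫ biprod.inl) (h n ≫ biprod.inl + c.f n ≫ biprod.inr)

@[reassoc (attr := simp)]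
lemma inl_mF (n : ℕ) : biprod.inl ≫ mF a c h n = a.f n ≫ biprod.inl := by simp [mF]

@[reassoc (attr := simp)]
lemma inr_mF (n : ℕ) : biprod.inr ≫ mF a c h n = h n ≫ biprod.inl + c.f n ≫ biprod.inr := by
  simp [mF]

@[reassoc (attr := simp)]
lemma mF_snd (n : ℕ) : mF a c h n ≫ biprod.snd = biprod.snd ≫ c.f n := by
  apply biprod.hom_ext' <;> simp [mF]

include hh in
lemma D_mF (n : ℕ) : D I J θ n ≫ mF a c h (n + 1) = mF a c h n ≫ D I' J' θ' n := by
  apply biprod.hom_ext'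
  · simp
  · simp only [inr_D_assoc, Preadditive.add_comp, Category.assoc, inl_mF, inr_mF,
      Preadditive.comp_add, inr_mF_assoc, inl_D, inr_D, Hom.comm_assoc]
    have := hh n
    rw [← Category.assoc (J.d n (n + 1)), this]
    simp only [Preadditive.add_comp, Preadditive.sub_comp, Category.assoc]
    abel

/-- the map between the middle complexes -/
noncomputable def mM : M I J θ hθ ⟶ M I' J' θ' hθ' where
  f n := mF a c h n
  comm' i j hij := by
    obtain rfl : i + 1 = j := hij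
    rw [M_d, M_d]
    exact (D_mF θ θ' a c h hh i).symm

lemma α_mM : α I J θ hθ ≫ mM θ hθ θ' hθ' a c h hh = a ≫ α I' J' θ' hθ' := by
  ext n
  exact inl_mF a c h n

lemma mM_β : mM θ hθ θ' hθ' a c h hh ≫ β I' J' θ' hθ' = β I J θ hθ ≫ c := by
  ext n
  exact mF_snd a c h n

/-- the morphism of short complexes of complexes -/
noncomputable def scMap : sc I J θ hθ ⟶ sc I' J' θ' hθ' where
  τ₁ := a
  τ₂ := mM θ hθ θ' hθ' a c h hh
  τ₃ := c
  comm₁₂ := (α_mM θ hθ θ' hθ' a c h hh).symm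
  comm₂₃ := (mM_β θ hθ θ' hθ' a c h hh)

end mapM

section aug

/-- the augmentation of an injective resolution, with its natural type -/
def aug {Z : C} (I : InjectiveResolution Z) : Z ⟶ I.cocomplex.X 0 := I.ι.f 0

lemma aug_eq {Z : C} (I : InjectiveResolution Z) : aug I = I.ι.f 0 := rfl

instance {Z : C} (I : InjectiveResolution Z) : Mono (aug I) := inferInstanceAs (Mono (I.ι.f 0))

@[reassoc (attr := simp)]
lemma aug_d {Z : C} (I : InjectiveResolution Z) : aug I ≫ I.cocomplex.d 0 1 = 0 :=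
  I.ι_f_zero_comp_complex_d

lemma aug_exact {Z : C} (I : InjectiveResolution Z) :
    (ShortComplex.mk (aug I) (I.cocomplex.d 0 1) (aug_d I)).Exact := I.exact₀

@[reassoc]
lemma aug_desc {Y Z : C} (f : Z ⟶ Y) (I : InjectiveResolution Y) (J : InjectiveResolution Z) :
    aug J ≫ (InjectiveResolution.desc f I J).f 0 = f ≫ aug I :=
  InjectiveResolution.desc_commutes_zero f I J

end aug

section hdata

/-- the data produced by the horseshoe lemma -/
structure HData (S : ShortComplex C) where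
  /-- resolution of the sub -/
  I : InjectiveResolution S.X₁
  /-- resolution of the quotient -/
  J : InjectiveResolution S.X₃
  /-- the twisting cochain -/
  θ : ∀ n, J.cocomplex.X n ⟶ I.cocomplex.X (n + 1)
  hθ : ∀ n, θ n ≫ I.cocomplex.d (n + 1) (n + 2) + J.cocomplex.d n (n + 1) ≫ θ (n + 1) = 0
  /-- extension of the augmentation -/
  σ : S.X₂ ⟶ I.cocomplex.X 0
  hσ : S.f ≫ σ = aug I
  hσθ : σ ≫ I.cocomplex.d 0 1 + S.g ≫ aug J ≫ θ 0 = 0

variable {D : Type u'} [Category.{v'} D] [Abelian D]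

namespace HData

variable {S : ShortComplex C} (d : HData S) (F : C ⥤ D) [F.Additive]

/-- the short exact sequence of complexes `F I → F M → F J` -/
noncomputable abbrev scF : ShortComplex (CochainComplex D ℕ) :=
  (sc d.I.cocomplex d.J.cocomplex d.θ d.hθ).map (F.mapHomologicalComplex (ComplexShape.up ℕ))

lemma scF_shortExact : (d.scF F).ShortExact :=
  sc_map_shortExact d.I.cocomplex d.J.cocomplex d.θ d.hθ F

end HData

/-- transport of naturality of connecting morphisms -/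
lemma δ_nat_aux {A₃ A₁ A₃' A₁' : D} {T T' : ShortComplex (CochainComplex D ℕ)}
    (hT : T.ShortExact) (hT' : T'.ShortExact) (ψ : T ⟶ T') (n : ℕ)
    (e₃ : A₃ ≅ T.X₃.homology n) (e₁ : A₁ ≅ T.X₁.homology (n + 1))
    (e₃' : A₃' ≅ T'.X₃.homology n) (e₁' : A₁' ≅ T'.X₁.homology (n + 1))
    (u₃ : A₃ ⟶ A₃') (u₁ : A₁ ⟶ A₁')
    (nat₃ : u₃ ≫ e₃'.hom = e₃.hom ≫ HomologicalComplex.homologyMap ψ.τ₃ n)
    (nat₁ : u₁ ≫ e₁'.hom = e₁.hom ≫ HomologicalComplex.homologyMap ψ.τ₁ (n + 1)) :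
    (e₃.hom ≫ hT.δ n (n + 1) rfl ≫ e₁.inv) ≫ u₁ =
      u₃ ≫ (e₃'.hom ≫ hT'.δ n (n + 1) rfl ≫ e₁'.inv) := by
  have nat₁' : e₁.inv ≫ u₁ = HomologicalComplex.homologyMap ψ.τ₁ (n + 1) ≫ e₁'.inv := by
    rw [← cancel_mono e₁'.hom, Category.assoc, Category.assoc, Iso.inv_hom_id, Category.comp_id,
      nat₁, Iso.inv_hom_id_assoc]
  rw [Category.assoc, Category.assoc, nat₁', reassoc_of% nat₃,
    ← HomologicalComplex.HomologySequence.δ_naturality_assoc ψ hT hT' n (n + 1) rfl]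

namespace HData

variable {S S' : ShortComplex C} (d : HData S) (d' : HData S') (F : C ⥤ D) [F.Additive]
  [HasInjectiveResolutions C]

/-- the connecting morphism attached to horseshoe data -/
noncomputable def δ (n : ℕ) :
    (F.rightDerived n).obj S.X₃ ⟶ (F.rightDerived (n + 1)).obj S.X₁ :=
  (d.J.isoRightDerivedObj F n).hom ≫ (d.scF_shortExact F).δ n (n + 1) rfl ≫
    (d.I.isoRightDerivedObj F (n + 1)).inv

/-- the connecting morphisms are natural -/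
theorem δ_naturality (φ : S ⟶ S') (hS : S.ShortExact) (n : ℕ) :
    d.δ F n ≫ (F.rightDerived (n + 1)).map φ.τ₁ = (F.rightDerived n).map φ.τ₃ ≫ d'.δ F n := by
  have := hS.epi_g
  let a := InjectiveResolution.desc φ.τ₁ d'.I d.I
  let c := InjectiveResolution.desc φ.τ₃ d'.J d.J
  have ha : aug d.I ≫ a.f 0 = φ.τ₁ ≫ aug d'.I := aug_desc φ.τ₁ d'.I d.I
  have hc : aug d.J ≫ c.f 0 = φ.τ₃ ≫ aug d'.J := aug_desc φ.τ₃ d'.J d.J
  -- the correction term
  have hk : S.f ≫ (φ.τ₂ ≫ d'.σ - d.σ ≫ a.f 0) = 0 := by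
    rw [Preadditive.comp_sub, ← Category.assoc, ← φ.comm₁₂, Category.assoc, d'.hσ,
      ← Category.assoc, d.hσ, ha, sub_self]
  let r : S.X₃ ⟶ d'.I.cocomplex.X 0 := hS.exact.desc _ hk
  have hr' : S.g ≫ r = φ.τ₂ ≫ d'.σ - d.σ ≫ a.f 0 := hS.exact.g_desc _ _
  let ρ : ∀ n, d.J.cocomplex.X n ⟶ d'.I.cocomplex.X (n + 1) :=
    fun n => c.f n ≫ d'.θ n - d.θ n ≫ a.f (n + 1)
  have hρ : ∀ n, ρ n ≫ d'.I.cocomplex.d (n + 1) (n + 2) +
      d.J.cocomplex.d n (n + 1) ≫ ρ (n + 1) = 0 := by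
    intro n
    have h1 := d'.hθ n
    have h2 := d.hθ n
    have e1 : c.f n ≫ d'.θ n ≫ d'.I.cocomplex.d (n + 1) (n + 2) +
        d.J.cocomplex.d n (n + 1) ≫ c.f (n + 1) ≫ d'.θ (n + 1) = 0 := by
      rw [← c.comm_assoc, ← Preadditive.comp_add, h1, comp_zero]
    have e2 : d.θ n ≫ a.f (n + 1) ≫ d'.I.cocomplex.d (n + 1) (n + 2) +
        d.J.cocomplex.d n (n + 1) ≫ d.θ (n + 1) ≫ a.f (n + 2) = 0 := by
      rw [a.comm, ← Category.assoc, ← Category.assoc (d.J.cocomplex.d n (n + 1)),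
        ← Preadditive.add_comp, h2, zero_comp]
    simp only [ρ, Preadditive.sub_comp, Preadditive.comp_sub, Category.assoc]
    rw [sub_add_sub_comm, e1, e2, sub_zero]
  have hr : r ≫ d'.I.cocomplex.d 0 1 + aug d.J ≫ ρ 0 = 0 := by
    rw [← cancel_epi S.g, comp_zero, Preadditive.comp_add, reassoc_of% hr']
    have h1 := d'.hσθ
    have h2 := d.hσθ
    have e1 : φ.τ₂ ≫ d'.σ ≫ d'.I.cocomplex.d 0 1 +
        S.g ≫ aug d.J ≫ c.f 0 ≫ d'.θ 0 = 0 := by
      rw [← Category.assoc (aug d.J), hc, Category.assoc, ← Category.assoc S.g, ← φ.comm₂₃,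
        Category.assoc, ← Preadditive.comp_add, h1, comp_zero]
    have e2 : d.σ ≫ a.f 0 ≫ d'.I.cocomplex.d 0 1 + S.g ≫ aug d.J ≫ d.θ 0 ≫ a.f 1 = 0 := by
      have h3 : (d.σ ≫ d.I.cocomplex.d 0 1 + S.g ≫ aug d.J ≫ d.θ 0) ≫ a.f 1 = 0 := by
        rw [h2, zero_comp]
      simp only [Preadditive.add_comp, Category.assoc] at h3
      rw [a.comm 0 1]
      exact h3
    simp only [ρ, Preadditive.sub_comp, Preadditive.comp_sub, Category.assoc]
    rw [sub_add_sub_comm, e1, e2, sub_zero]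
  obtain ⟨h, -, hh⟩ := exists_htpy d.J.cocomplex d'.I.cocomplex d.J.exact_succ ρ hρ (aug d.J)
    (aug_d d.J) (aug_exact d.J) r hr
  let ψ := (F.mapHomologicalComplex (ComplexShape.up ℕ)).mapShortComplex.map
    (scMap d.θ d.hθ d'.θ d'.hθ a c h hh)
  exact δ_nat_aux (d.scF_shortExact F) (d'.scF_shortExact F) ψ n
    (d.J.isoRightDerivedObj F n) (d.I.isoRightDerivedObj F (n + 1))
    (d'.J.isoRightDerivedObj F n) (d'.I.isoRightDerivedObj F (n + 1))
    ((F.rightDerived n).map φ.τ₃) ((F.rightDerived (n + 1)).map φ.τ₁)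
    (InjectiveResolution.isoRightDerivedObj_hom_naturality φ.τ₃ d.J d'.J c hc F n)
    (InjectiveResolution.isoRightDerivedObj_hom_naturality φ.τ₁ d.I d'.I a ha F (n + 1))

end HData

section existence

variable (S : ShortComplex C) (hS : S.ShortExact)

include hS in
theorem exists_hdata (I : InjectiveResolution S.X₁) (J : InjectiveResolution S.X₃) :
    ∃ d : HData S, d.I = I ∧ d.J = J := by
  have := hS.mono_f
  have := hS.epi_g
  let σ : S.X₂ ⟶ I.cocomplex.X 0 := Injective.factorThru (aug I) S.f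
  have hσ : S.f ≫ σ = aug I := Injective.comp_factorThru (aug I) S.f
  have hk : S.f ≫ σ ≫ I.cocomplex.d 0 1 = 0 := by rw [reassoc_of% hσ, aug_d]
  let t' : S.X₃ ⟶ I.cocomplex.X 1 := hS.exact.desc (σ ≫ I.cocomplex.d 0 1) hk
  have ht' : S.g ≫ t' = σ ≫ I.cocomplex.d 0 1 := hS.exact.g_desc _ _
  have ht'd : (-t') ≫ I.cocomplex.d 1 2 = 0 := by
    rw [Preadditive.neg_comp, neg_eq_zero, ← cancel_epi S.g, reassoc_of% ht', comp_zero,
      HomologicalComplex.d_comp_d, comp_zero]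
  obtain ⟨θ, hθ0, hθ⟩ := exists_theta I.cocomplex J.cocomplex J.exact_succ (aug J) (aug_d J)
    (aug_exact J) (-t') ht'd
  have hσθ : σ ≫ I.cocomplex.d 0 1 + S.g ≫ aug J ≫ θ 0 = 0 := by
    rw [hθ0, Preadditive.comp_neg, ht', add_neg_cancel]
  exact ⟨⟨I, J, θ, hθ, σ, hσ, hσθ⟩, rfl, rfl⟩

variable {S}
variable (d : HData S)

/-- the middle complex -/
noncomputable abbrev HData.Mc : CochainComplex C ℕ :=
  M d.I.cocomplex d.J.cocomplex d.θ d.hθ

/-- the augmentation of the middle complex -/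
noncomputable def HData.ι' : (CochainComplex.single₀ C).obj S.X₂ ⟶ d.Mc :=
  (CochainComplex.fromSingle₀Equiv _ _).symm ⟨ιM S (aug d.J) d.σ, by
    rw [M_d]
    exact ιM_D S (aug d.J) (aug_d d.J) d.θ d.σ d.hσθ⟩

lemma HData.ι'_f_zero : d.ι'.f 0 = ιM S (aug d.J) d.σ := by simp [HData.ι']

include hS in
lemma HData.quasiIso_ι' : QuasiIso d.ι' := by
  have hD := ιM_D S (aug d.J) (aug_d d.J) d.θ d.σ d.hσθ
  have hmono := mono_ιM S hS (aug d.I) (aug d.J) d.σ d.hσ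
  have hex := exact_ιM S hS (aug d.I) (aug d.J) (aug_d d.I) (aug_d d.J) (aug_exact d.I)
    (aug_exact d.J) d.θ d.σ d.hσ hD
  have hsc := sc_shortExact d.I.cocomplex d.J.cocomplex d.θ d.hθ
  exact ⟨fun n => by
    cases n with
    | zero =>
      rw [CochainComplex.quasiIsoAt₀_iff, ShortComplex.quasiIso_iff_of_zeros]
      · refine (ShortComplex.exact_and_mono_f_iff_of_iso ?_).2 ⟨hex, hmono⟩
        exact ShortComplex.isoMk (Iso.refl _) (Iso.refl _) (Iso.refl _)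
          (by erw [Category.id_comp, Category.comp_id]; exact d.ι'_f_zero.symm)
          (by erw [Category.id_comp, Category.comp_id]; exact (M_d _ _ d.θ d.hθ 0).symm)
      all_goals rfl
    | succ n =>
      rw [quasiIsoAt_iff_exactAt]
      · exact hsc.exactAt_X₂ (n + 1) (d.I.cocomplex_exactAt_succ n) (d.J.cocomplex_exactAt_succ n)
      · apply CochainComplex.exactAt_succ_single_obj⟩

/-- the injective resolution of the middle term -/
noncomputable def HData.res : InjectiveResolution S.X₂ where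
  cocomplex := d.Mc
  injective := fun n => (inferInstance : Injective (d.I.cocomplex.X n ⊞ d.J.cocomplex.X n))
  ι := d.ι'
  quasiIso := d.quasiIso_ι' hS

lemma HData.res_comm₁ :
    d.I.ι.f 0 ≫ (α d.I.cocomplex d.J.cocomplex d.θ d.hθ).f 0 = S.f ≫ (d.res hS).ι.f 0 := by
  have e1 : aug d.I ≫ (biprod.inl : d.I.cocomplex.X 0 ⟶ d.I.cocomplex.X 0 ⊞ d.J.cocomplex.X 0) =
      S.f ≫ ιM S (aug d.J) d.σ := by
    apply biprod.hom_ext <;> simp [ιM, d.hσ]
  exact e1.trans (congrArg (fun k => S.f ≫ k) d.ι'_f_zero.symm)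

lemma HData.res_comm₂ :
    (d.res hS).ι.f 0 ≫ (β d.I.cocomplex d.J.cocomplex d.θ d.hθ).f 0 = S.g ≫ d.J.ι.f 0 := by
  have e2 : ιM S (aug d.J) d.σ ≫
      (biprod.snd : d.I.cocomplex.X 0 ⊞ d.J.cocomplex.X 0 ⟶ _) = S.g ≫ aug d.J := by
    simp [ιM]
  exact (congrArg (fun k => k ≫
    (biprod.snd : d.I.cocomplex.X 0 ⊞ d.J.cocomplex.X 0 ⟶ _)) d.ι'_f_zero).trans e2

end existence

section les

/-- transport of the homology long exact sequence, with explicit connecting morphism -/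
lemma les_aux (S : ShortComplex C) (Tn : ℕ → C ⥤ D)
    (T : ShortComplex (CochainComplex D ℕ)) (hT : T.ShortExact)
    (e₁ : ∀ n, (Tn n).obj S.X₁ ≅ T.X₁.homology n) (e₂ : ∀ n, (Tn n).obj S.X₂ ≅ T.X₂.homology n)
    (e₃ : ∀ n, (Tn n).obj S.X₃ ≅ T.X₃.homology n)
    (nat₁ : ∀ n, (Tn n).map S.f ≫ (e₂ n).hom = (e₁ n).hom ≫ HomologicalComplex.homologyMap T.f n)
    (nat₂ : ∀ n, (Tn n).map S.g ≫ (e₃ n).hom = (e₂ n).hom ≫ HomologicalComplex.homologyMap T.g n)
    (n : ℕ) :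
    ∃ (w₁ : (Tn n).map S.g ≫ ((e₃ n).hom ≫ hT.δ n (n + 1) rfl ≫ (e₁ (n + 1)).inv) = 0)
      (w₂ : ((e₃ n).hom ≫ hT.δ n (n + 1) rfl ≫ (e₁ (n + 1)).inv) ≫ (Tn (n + 1)).map S.f = 0),
      (ShortComplex.mk _ _ w₁).Exact ∧ (ShortComplex.mk _ _ w₂).Exact := by
  have hrel : (ComplexShape.up ℕ).Rel n (n + 1) := rfl
  have nat₁' : (e₁ (n + 1)).inv ≫ (Tn (n + 1)).map S.f =
      HomologicalComplex.homologyMap T.f (n + 1) ≫ (e₂ (n + 1)).inv := by
    rw [← cancel_mono (e₂ (n + 1)).hom, Category.assoc, Category.assoc, Iso.inv_hom_id,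
      Category.comp_id, nat₁, Iso.inv_hom_id_assoc]
  have nat₂' : (e₂ n).inv ≫ (Tn n).map S.g =
      HomologicalComplex.homologyMap T.g n ≫ (e₃ n).inv := by
    rw [← cancel_mono (e₃ n).hom, Category.assoc, Category.assoc, Iso.inv_hom_id,
      Category.comp_id, nat₂, Iso.inv_hom_id_assoc]
  have w₁ : (Tn n).map S.g ≫ ((e₃ n).hom ≫ hT.δ n (n + 1) hrel ≫ (e₁ (n + 1)).inv) = 0 := by
    rw [reassoc_of% (nat₂ n), hT.comp_δ_assoc, zero_comp, comp_zero]
  have w₂ : ((e₃ n).hom ≫ hT.δ n (n + 1) hrel ≫ (e₁ (n + 1)).inv) ≫ (Tn (n + 1)).map S.f = 0 := by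
    rw [Category.assoc, Category.assoc, nat₁', hT.δ_comp_assoc, zero_comp, comp_zero]
  refine ⟨w₁, w₂, ?_, ?_⟩
  · refine ShortComplex.exact_of_iso ?_ (hT.homology_exact₃ n (n + 1) hrel)
    refine ShortComplex.isoMk (e₂ n).symm (e₃ n).symm (e₁ (n + 1)).symm ?_ ?_
    · exact nat₂'
    · change (e₃ n).inv ≫ ((e₃ n).hom ≫ hT.δ n (n + 1) hrel ≫ (e₁ (n + 1)).inv) =
        hT.δ n (n + 1) hrel ≫ (e₁ (n + 1)).inv
      rw [Iso.inv_hom_id_assoc]
  · refine ShortComplex.exact_of_iso ?_ (hT.homology_exact₁ n (n + 1) hrel)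
    refine ShortComplex.isoMk (e₃ n).symm (e₁ (n + 1)).symm (e₂ (n + 1)).symm ?_ ?_
    · change (e₃ n).inv ≫ ((e₃ n).hom ≫ hT.δ n (n + 1) hrel ≫ (e₁ (n + 1)).inv) =
        hT.δ n (n + 1) hrel ≫ (e₁ (n + 1)).inv
      rw [Iso.inv_hom_id_assoc]
    · exact nat₁'

variable {S : ShortComplex C} (d : HData S) (hS : S.ShortExact) (F : C ⥤ D) [F.Additive]
  [HasInjectiveResolutions C]

include hS in
/-- the long exact sequence for the connecting morphism attached to horseshoe data -/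
theorem HData.les (n : ℕ) :
    ∃ (w₁ : (F.rightDerived n).map S.g ≫ d.δ F n = 0)
      (w₂ : d.δ F n ≫ (F.rightDerived (n + 1)).map S.f = 0),
      (ShortComplex.mk _ _ w₁).Exact ∧ (ShortComplex.mk _ _ w₂).Exact :=
  les_aux S (fun n => F.rightDerived n) _ (d.scF_shortExact F)
    (fun n => d.I.isoRightDerivedObj F n) (fun n => (d.res hS).isoRightDerivedObj F n)
    (fun n => d.J.isoRightDerivedObj F n)
    (fun n => InjectiveResolution.isoRightDerivedObj_hom_naturality S.f d.I (d.res hS)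
      (α d.I.cocomplex d.J.cocomplex d.θ d.hθ) (d.res_comm₁ hS) F n)
    (fun n => InjectiveResolution.isoRightDerivedObj_hom_naturality S.g (d.res hS) d.J
      (β d.I.cocomplex d.J.cocomplex d.θ d.hθ) (d.res_comm₂ hS) F n) n

end les

end hdata

end Groth.Agent.Helper1.Horseshoe
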