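import Mathlib
import Groth.Agent.Helper1.Horseshoe

set_option autoImplicit false

/-!
# Right derived functors are additive; `R⁰F` is left exact
-/

namespace Groth.Agent.Helper1.RDAdd
open CategoryTheory Limits HomologicalComplex

universe v u v' u'
variable {C : Type u} [Category.{v} C] [Abelian C] [HasInjectiveResolutions C]
  {D : Type u'} [Category.{v'} D] [Abelian D] (F : C ⥤ D) [F.Additive]

instance rightDerived_additive (n : ℕ) : (F.rightDerived n).Additive where
  map_add {X Y f g} := by
    obtain ⟨P⟩ := (HasInjectiveResolutions.out X).out
    obtain ⟨Q⟩ := (HasInjectiveResolutions.out Y).out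
    have wf := InjectiveResolution.desc_commutes f Q P
    have wg := InjectiveResolution.desc_commutes g Q P
    have wfg : P.ι ≫ (InjectiveResolution.desc f Q P + InjectiveResolution.desc g Q P) =
        (CochainComplex.single₀ C).map (f + g) ≫ Q.ι := by
      rw [Preadditive.comp_add, wf, wg, Functor.map_add, Preadditive.add_comp]
    rw [F.rightDerived_map_eq n (f + g) _ wfg, F.rightDerived_map_eq n f _ wf,
      F.rightDerived_map_eq n g _ wg, Functor.map_add, Preadditive.add_comp,
      Preadditive.comp_add]

/-- `R⁰F` is left exact. -/
instance preservesFiniteLimits_rightDerived_zero : PreservesFiniteLimits (F.rightDerived 0) := by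
  rw [Functor.preservesFiniteLimits_iff_forall_exact_map_and_mono]
  intro S hS
  obtain ⟨w, h⟩ := Horseshoe.exact_rightDerived_map F S hS 0
  exact ⟨h, Horseshoe.mono_rightDerived_zero_map F S hS⟩

end Groth.Agent.Helper1.RDAdd
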