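import Mathlib
import Groth.Agent.Helper1.HorseshoeNat
import Groth.Agent.Helper1.RDAdd

set_option autoImplicit false

/-!
# Cohomological δ-functors, right derived functors as a δ-functor, and universality of
effaceable δ-functors
-/

namespace Groth.Agent.Helper1.DeltaFun
open CategoryTheory Limits Groth.Agent.Helper1.Horseshoe

universe v u v' u'
variable (A : Type u) [Category.{v} A] [Abelian A] (B : Type u') [Category.{v'} B] [Abelian B]

/-- A cohomological δ-functor (in nonnegative degrees): functors `Tⁿ`, natural connecting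
morphisms, and exactness of the long sequence at `Tⁿ(X₃)` and `Tⁿ⁺¹(X₁)`. -/
structure DeltaFunctor where
  /-- the functors -/
  T : ℕ → A ⥤ B
  /-- the connecting morphisms -/
  δ : ∀ (S : ShortComplex A) (_ : S.ShortExact) (n : ℕ), (T n).obj S.X₃ ⟶ (T (n + 1)).obj S.X₁
  δ_nat : ∀ {S S' : ShortComplex A} (φ : S ⟶ S') (hS : S.ShortExact) (hS' : S'.ShortExact) (n : ℕ),
    δ S hS n ≫ (T (n + 1)).map φ.τ₁ = (T n).map φ.τ₃ ≫ δ S' hS' n
  w₃ : ∀ (S : ShortComplex A) (hS : S.ShortExact) (n : ℕ), (T n).map S.g ≫ δ S hS n = 0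
  w₁ : ∀ (S : ShortComplex A) (hS : S.ShortExact) (n : ℕ), δ S hS n ≫ (T (n + 1)).map S.f = 0
  exact₃ : ∀ (S : ShortComplex A) (hS : S.ShortExact) (n : ℕ),
    (ShortComplex.mk _ _ (w₃ S hS n)).Exact
  exact₁ : ∀ (S : ShortComplex A) (hS : S.ShortExact) (n : ℕ),
    (ShortComplex.mk _ _ (w₁ S hS n)).Exact

variable {A B}

/-- effaceability: vanishing on injectives in positive degrees -/
def DeltaFunctor.Effaceable (T : DeltaFunctor A B) : Prop :=
  ∀ (I : A) [Injective I] (n : ℕ), IsZero ((T.T (n + 1)).obj I)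

lemma DeltaFunctor.hasLES (T : DeltaFunctor A B) (S : ShortComplex A) (hS : S.ShortExact) :
    DeltaCmp.HasLES T.T S :=
  fun n => ⟨T.δ S hS n, T.w₃ S hS n, T.w₁ S hS n, T.exact₃ S hS n, T.exact₁ S hS n⟩

section rightDerived

variable [HasInjectiveResolutions A] (F : A ⥤ B) [F.Additive]

/-- chosen horseshoe data -/
noncomputable def hdata (S : ShortComplex A) (hS : S.ShortExact) : HData S :=
  (exists_hdata S hS (HasInjectiveResolutions.out S.X₁).out.some
    (HasInjectiveResolutions.out S.X₃).out.some).choose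

/-- the right derived functors, as a δ-functor -/
noncomputable def rightDerivedDelta : DeltaFunctor A B where
  T n := F.rightDerived n
  δ S hS n := (hdata S hS).δ F n
  δ_nat φ hS hS' n := HData.δ_naturality _ _ F φ hS n
  w₃ S hS n := ((hdata S hS).les hS F n).choose
  w₁ S hS n := ((hdata S hS).les hS F n).choose_spec.choose
  exact₃ S hS n := ((hdata S hS).les hS F n).choose_spec.choose_spec.1
  exact₁ S hS n := ((hdata S hS).les hS F n).choose_spec.choose_spec.2

lemma rightDerivedDelta_effaceable : (rightDerivedDelta F).Effaceable :=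
  fun I _ n => Functor.isZero_rightDerived_obj_injective_succ F n I

end rightDerived

end Groth.Agent.Helper1.DeltaFun

namespace Groth.Agent.Helper1.DeltaFun
open CategoryTheory Limits Groth.Agent.Helper1.Horseshoe

universe v u v' u'
variable {A : Type u} [Category.{v} A] [Abelian A] {B : Type u'} [Category.{v'} B] [Abelian B]
  [EnoughInjectives A]

/-- the short complex `X → I(X) → I(X)/X` -/
noncomputable abbrev E (X : A) : ShortComplex A :=
  ShortComplex.mk (Injective.ι X) (cokernel.π (Injective.ι X)) (cokernel.condition _)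

lemma hE (X : A) : (E X).ShortExact where
  exact := ShortComplex.exact_cokernel _
  mono_f := by dsimp [E]; infer_instance
  epi_g := by dsimp [E]; infer_instance

instance (X : A) : Injective (E X).X₂ := by dsimp [E]; infer_instance

/-- the comparison of a short exact sequence with the chosen effacement of its sub -/
noncomputable def toE (S : ShortComplex A) (hS : S.ShortExact) : S ⟶ E S.X₁ :=
  haveI := hS.mono_f
  haveI := hS.epi_g
  { τ₁ := 𝟙 _
    τ₂ := Injective.factorThru (Injective.ι S.X₁) S.f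
    τ₃ := hS.exact.desc (Injective.factorThru (Injective.ι S.X₁) S.f ≫ cokernel.π (Injective.ι S.X₁))
      (by
        rw [← Category.assoc, Injective.comp_factorThru]
        exact cokernel.condition _)
    comm₁₂ := by
      dsimp [E]
      rw [Category.id_comp, Injective.comp_factorThru]
    comm₂₃ := by
      dsimp [E]
      exact (hS.exact.g_desc _ _).symm }

lemma toE_τ₁ (S : ShortComplex A) (hS : S.ShortExact) : (toE S hS).τ₁ = 𝟙 S.X₁ := rfl

/-- the morphism between chosen effacements induced by a morphism -/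
noncomputable def mapE {X Y : A} (f : X ⟶ Y) : E X ⟶ E Y :=
  haveI : Mono (Injective.ι X) := Injective.ι_mono X
  { τ₁ := f
    τ₂ := Injective.factorThru (f ≫ Injective.ι Y) (Injective.ι X)
    τ₃ := cokernel.map _ _ f (Injective.factorThru (f ≫ Injective.ι Y) (Injective.ι X))
      (by rw [Injective.comp_factorThru])
    comm₁₂ := by
      dsimp [E]
      rw [Injective.comp_factorThru]
    comm₂₃ := by
      dsimp [E]
      rw [cokernel.π_desc] }

lemma mapE_τ₁ {X Y : A} (f : X ⟶ Y) : (mapE f).τ₁ = f := rfl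

variable (T T' : DeltaFunctor A B)

lemma epi_δ_E (hT : T.Effaceable) (X : A) (n : ℕ) : Epi (T.δ (E X) (hE X) n) :=
  (T.exact₁ (E X) (hE X) n).epi_f ((hT (E X).X₂ n).eq_of_tgt _ _)

section step

variable {T T'} (hT : T.Effaceable) {n : ℕ} (φ : T.T n ⟶ T'.T n)

lemma step_aux (X : A) :
    (T.T n).map (E X).g ≫ (φ.app (E X).X₃ ≫ T'.δ (E X) (hE X) n) = 0 := by
  rw [← Category.assoc, φ.naturality, Category.assoc, T'.w₃, comp_zero]

/-- the component of the extension of `φ` to degree `n + 1` -/
noncomputable def stepApp (X : A) : (T.T (n + 1)).obj X ⟶ (T'.T (n + 1)).obj X :=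
  haveI := epi_δ_E T hT X n
  (T.exact₃ (E X) (hE X) n).desc (φ.app (E X).X₃ ≫ T'.δ (E X) (hE X) n) (step_aux φ X)

lemma δ_E_stepApp (X : A) :
    T.δ (E X) (hE X) n ≫ stepApp hT φ X = φ.app (E X).X₃ ≫ T'.δ (E X) (hE X) n :=
  haveI := epi_δ_E T hT X n
  (T.exact₃ (E X) (hE X) n).g_desc _ _

/-- compatibility with the connecting morphisms of all short exact sequences -/
lemma δ_stepApp (S : ShortComplex A) (hS : S.ShortExact) :
    T.δ S hS n ≫ stepApp hT φ S.X₁ = φ.app S.X₃ ≫ T'.δ S hS n := by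
  have h1 : T.δ S hS n ≫ (T.T (n + 1)).map (𝟙 S.X₁) = _ := T.δ_nat (toE S hS) hS (hE S.X₁) n
  have h2 : T'.δ S hS n ≫ (T'.T (n + 1)).map (𝟙 S.X₁) = _ := T'.δ_nat (toE S hS) hS (hE S.X₁) n
  rw [CategoryTheory.Functor.map_id, Category.comp_id] at h1 h2
  rw [h1, Category.assoc, δ_E_stepApp, ← Category.assoc, φ.naturality, Category.assoc, ← h2]

lemma stepApp_naturality {X Y : A} (f : X ⟶ Y) :
    (T.T (n + 1)).map f ≫ stepApp hT φ Y = stepApp hT φ X ≫ (T'.T (n + 1)).map f := by
  have := epi_δ_E T hT X n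
  rw [← cancel_epi (T.δ (E X) (hE X) n)]
  have h1 : T.δ (E X) (hE X) n ≫ (T.T (n + 1)).map f = _ := T.δ_nat (mapE f) (hE X) (hE Y) n
  have h2 : T'.δ (E X) (hE X) n ≫ (T'.T (n + 1)).map f = _ := T'.δ_nat (mapE f) (hE X) (hE Y) n
  rw [reassoc_of% h1, δ_E_stepApp, ← Category.assoc, φ.naturality, Category.assoc, ← h2,
    ← Category.assoc, ← δ_E_stepApp hT φ X, Category.assoc]

/-- the extension of `φ` to degree `n + 1` -/
noncomputable def step : T.T (n + 1) ⟶ T'.T (n + 1) where
  app X := stepApp hT φ X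
  naturality _ _ f := stepApp_naturality hT φ f

lemma δ_step (S : ShortComplex A) (hS : S.ShortExact) :
    T.δ S hS n ≫ (step hT φ).app S.X₁ = φ.app S.X₃ ≫ T'.δ S hS n :=
  δ_stepApp hT φ S hS

end step

/-- the extension of a natural transformation in degree `0` to all degrees -/
noncomputable def ext (hT : T.Effaceable) (φ₀ : T.T 0 ⟶ T'.T 0) : ∀ n, T.T n ⟶ T'.T n
  | 0 => φ₀
  | n + 1 => step hT (ext hT φ₀ n)

lemma δ_ext (hT : T.Effaceable) (φ₀ : T.T 0 ⟶ T'.T 0) (n : ℕ) (S : ShortComplex A)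
    (hS : S.ShortExact) :
    T.δ S hS n ≫ (ext T T' hT φ₀ (n + 1)).app S.X₁ = (ext T T' hT φ₀ n).app S.X₃ ≫ T'.δ S hS n :=
  δ_step hT _ S hS

variable {T T'} in
/-- a morphism of δ-functors out of an effaceable one is determined by its degree `0` part -/
lemma ext_unique (hT : T.Effaceable) (φ ψ : ∀ n, T.T n ⟶ T'.T n) (h0 : φ 0 = ψ 0)
    (hφ : ∀ n (S : ShortComplex A) (hS : S.ShortExact),
      T.δ S hS n ≫ (φ (n + 1)).app S.X₁ = (φ n).app S.X₃ ≫ T'.δ S hS n)
    (hψ : ∀ n (S : ShortComplex A) (hS : S.ShortExact),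
      T.δ S hS n ≫ (ψ (n + 1)).app S.X₁ = (ψ n).app S.X₃ ≫ T'.δ S hS n) :
    ∀ n, φ n = ψ n := by
  intro n
  induction n with
  | zero => exact h0
  | succ n ih =>
    ext X
    have := epi_δ_E T hT X n
    rw [← cancel_epi (T.δ (E X) (hE X) n)]
    have h1 := hφ n (E X) (hE X)
    have h2 := hψ n (E X) (hE X)
    rw [h1, h2, ih]

/-- Two effaceable δ-functors which agree in degree `0` agree in all degrees. -/
theorem nonempty_iso_of_effaceable (hT : T.Effaceable) (hT' : T'.Effaceable)
    (e : T.T 0 ≅ T'.T 0) (n : ℕ) :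
    Nonempty (T.T n ≅ T'.T n) := by
  let φ := ext T T' hT e.hom
  let ψ := ext T' T hT' e.inv
  have hφ := δ_ext T T' hT e.hom
  have hψ := δ_ext T' T hT' e.inv
  have h1 : ∀ n, φ n ≫ ψ n = 𝟙 _ := by
    refine ext_unique hT (fun n => φ n ≫ ψ n) (fun n => 𝟙 _) ?_ ?_ ?_
    · exact e.hom_inv_id
    · intro n S hS
      rw [NatTrans.comp_app, NatTrans.comp_app, reassoc_of% (hφ n S hS), hψ n S hS,
        Category.assoc]
    · intro n S hS
      simp
  have h2 : ∀ n, ψ n ≫ φ n = 𝟙 _ := by
    refine ext_unique hT' (fun n => ψ n ≫ φ n) (fun n => 𝟙 _) ?_ ?_ ?_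
    · exact e.inv_hom_id
    · intro n S hS
      rw [NatTrans.comp_app, NatTrans.comp_app, reassoc_of% (hψ n S hS), hφ n S hS,
        Category.assoc]
    · intro n S hS
      simp
  exact ⟨⟨φ n, ψ n, h1 n, h2 n⟩⟩

end Groth.Agent.Helper1.DeltaFun

namespace Groth.Agent.Helper1.DeltaFun
open CategoryTheory Limits Groth.Agent.Helper1.Horseshoe

universe v u v' u'
variable {A : Type u} [Category.{v} A] [Abelian A] {B : Type u'} [Category.{v'} B] [Abelian B]

/-- An effaceable δ-functor is the sequence of right derived functors of its degree `0` part. -/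
theorem nonempty_iso_rightDerived [EnoughInjectives A] (T : DeltaFunctor A B) (hT : T.Effaceable)
    [(T.T 0).Additive] [PreservesFiniteLimits (T.T 0)] (n : ℕ) :
    Nonempty (T.T n ≅ (T.T 0).rightDerived n) :=
  nonempty_iso_of_effaceable T (rightDerivedDelta (T.T 0)) hT
    (rightDerivedDelta_effaceable (T.T 0)) (T.T 0).rightDerivedZeroIsoSelf.symm n

section ofComplex

variable (K : A ⥤ CochainComplex B ℕ) [K.PreservesZeroMorphisms]
  (hK : ∀ (S : ShortComplex A), S.ShortExact → (S.map K).ShortExact)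

/-- the δ-functor of cohomology of a functor to complexes which preserves short exact sequences -/
noncomputable def ofComplex : DeltaFunctor A B where
  T n := K ⋙ HomologicalComplex.homologyFunctor B (ComplexShape.up ℕ) n
  δ S hS n := (hK S hS).δ n (n + 1) rfl
  δ_nat φ hS hS' n :=
    HomologicalComplex.HomologySequence.δ_naturality (K.mapShortComplex.map φ) (hK _ hS)
      (hK _ hS') n (n + 1) rfl
  w₃ S hS n := (hK S hS).comp_δ n (n + 1) rfl
  w₁ S hS n := (hK S hS).δ_comp n (n + 1) rfl
  exact₃ S hS n := (hK S hS).homology_exact₃ n (n + 1) rfl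
  exact₁ S hS n := (hK S hS).homology_exact₁ n (n + 1) rfl

lemma ofComplex_T (n : ℕ) :
    (ofComplex K hK).T n = K ⋙ HomologicalComplex.homologyFunctor B (ComplexShape.up ℕ) n := rfl

include hK in
/-- `H⁰` of such a functor is left exact -/
lemma preservesFiniteLimits_H0 [K.Additive] :
    PreservesFiniteLimits (K ⋙ HomologicalComplex.homologyFunctor B (ComplexShape.up ℕ) 0) := by
  rw [Functor.preservesFiniteLimits_iff_forall_exact_map_and_mono]
  intro S hS
  have h := hK S hS
  have := h.mono_f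
  refine ⟨h.homology_exact₂ 0, ?_⟩
  exact HomologicalComplex.mono_homologyMap_of_mono_of_not_rel (S.map K).f 0 (by
    intro i hi
    exact Nat.succ_ne_zero i hi)

end ofComplex

end Groth.Agent.Helper1.DeltaFun
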