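import Mathlib
import Groth.Agent.Helper1.DeltaFunctor

set_option autoImplicit false

/-!
# Composition of δ-functors with exact functors; derived functors of `R ⋙ P` for exact `R`
-/

namespace Groth.Agent.Helper1.DeltaFun
open CategoryTheory Limits

universe v u v' u' v'' u''
variable {A : Type u} [Category.{v} A] [Abelian A] {B : Type u'} [Category.{v'} B] [Abelian B]
  {C : Type u''} [Category.{v''} C] [Abelian C]

/-- an exact functor preserves short exact sequences -/
lemma shortExact_map_of_exact (R : A ⥤ B) [R.PreservesZeroMorphisms] [PreservesFiniteLimits R]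
    [PreservesFiniteColimits R] (S : ShortComplex A) (hS : S.ShortExact) : (S.map R).ShortExact :=
  hS.map_of_exact R

/-- precomposition of a δ-functor with a functor preserving short exact sequences -/
def DeltaFunctor.precomp (T : DeltaFunctor B C) (R : A ⥤ B) [R.PreservesZeroMorphisms]
    (hR : ∀ S : ShortComplex A, S.ShortExact → (S.map R).ShortExact) : DeltaFunctor A C where
  T n := R ⋙ T.T n
  δ S hS n := T.δ (S.map R) (hR S hS) n
  δ_nat φ hS hS' n := T.δ_nat (R.mapShortComplex.map φ) (hR _ hS) (hR _ hS') n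
  w₃ S hS n := T.w₃ (S.map R) (hR S hS) n
  w₁ S hS n := T.w₁ (S.map R) (hR S hS) n
  exact₃ S hS n := T.exact₃ (S.map R) (hR S hS) n
  exact₁ S hS n := T.exact₁ (S.map R) (hR S hS) n

/-- postcomposition of a δ-functor with an exact functor -/
def DeltaFunctor.postcomp (T : DeltaFunctor A B) (Φ : B ⥤ C) [Φ.PreservesZeroMorphisms]
    [PreservesFiniteLimits Φ] [PreservesFiniteColimits Φ] : DeltaFunctor A C where
  T n := T.T n ⋙ Φ
  δ S hS n := Φ.map (T.δ S hS n)
  δ_nat φ hS hS' n := by
    dsimp
    rw [← Φ.map_comp, ← Φ.map_comp, T.δ_nat φ hS hS' n]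
  w₃ S hS n := by
    dsimp
    rw [← Φ.map_comp, T.w₃ S hS n, Φ.map_zero]
  w₁ S hS n := by
    dsimp
    rw [← Φ.map_comp, T.w₁ S hS n, Φ.map_zero]
  exact₃ S hS n := (T.exact₃ S hS n).map Φ
  exact₁ S hS n := (T.exact₁ S hS n).map Φ

/-- iso of right derived functors induced by a natural iso -/
noncomputable def rightDerivedIso [HasInjectiveResolutions A] {F G : A ⥤ B} [F.Additive]
    [G.Additive] (e : F ≅ G) (n : ℕ) : F.rightDerived n ≅ G.rightDerived n where
  hom := NatTrans.rightDerived e.hom n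
  inv := NatTrans.rightDerived e.inv n
  hom_inv_id := by
    rw [← NatTrans.rightDerived_comp, e.hom_inv_id, NatTrans.rightDerived_id]
  inv_hom_id := by
    rw [← NatTrans.rightDerived_comp, e.inv_hom_id, NatTrans.rightDerived_id]

/-- If `R` is exact and sends injectives to `P`-acyclic objects then
`Rⁿ(R ⋙ P) ≅ R ⋙ RⁿP`. -/
theorem nonempty_iso_rightDerived_comp [EnoughInjectives A] [HasInjectiveResolutions B]
    (R : A ⥤ B) [R.Additive]
    (hR : ∀ S : ShortComplex A, S.ShortExact → (S.map R).ShortExact)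
    (P : B ⥤ C) [P.Additive] [PreservesFiniteLimits P]
    (Q : A ⥤ C) [Q.Additive] [PreservesFiniteLimits Q] (e : R ⋙ P ≅ Q)
    (hacyc : ∀ (I : A) [Injective I] (n : ℕ), IsZero ((P.rightDerived (n + 1)).obj (R.obj I)))
    (n : ℕ) :
    Nonempty (Q.rightDerived n ≅ R ⋙ P.rightDerived n) := by
  let T : DeltaFunctor A C := (rightDerivedDelta P).precomp R hR
  have hT : T.Effaceable := fun I _ n => hacyc I n
  have e0 : T.T 0 ≅ (rightDerivedDelta Q).T 0 :=
    Functor.isoWhiskerLeft R P.rightDerivedZeroIsoSelf ≪≫ e ≪≫ Q.rightDerivedZeroIsoSelf.symm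
  obtain ⟨i⟩ := nonempty_iso_of_effaceable T (rightDerivedDelta Q) hT
    (rightDerivedDelta_effaceable Q) e0 n
  exact ⟨i.symm⟩

end Groth.Agent.Helper1.DeltaFun
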