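import Mathlib
import Groth.Agent.Helper1.DeltaFunctor

set_option autoImplicit false

/-!
# More on δ-functors: transport along isomorphisms, morphisms of δ-functors
-/

namespace Groth.Agent.Helper1.DeltaFun
open CategoryTheory Limits

universe v u v' u'
variable {A : Type u} [Category.{v} A] [Abelian A] {B : Type u'} [Category.{v'} B] [Abelian B]

/-- transport of a δ-functor along isomorphisms of the functors -/
def DeltaFunctor.ofIso (T : DeltaFunctor A B) (T' : ℕ → A ⥤ B) (e : ∀ n, T' n ≅ T.T n) :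
    DeltaFunctor A B where
  T := T'
  δ S hS n := (e n).hom.app S.X₃ ≫ T.δ S hS n ≫ (e (n + 1)).inv.app S.X₁
  δ_nat φ hS hS' n := by
    rw [Category.assoc, Category.assoc, ← (e (n + 1)).inv.naturality, reassoc_of% (T.δ_nat φ hS hS' n),
      (e n).hom.naturality_assoc]
  w₃ S hS n := by
    rw [(e n).hom.naturality_assoc, reassoc_of% (T.w₃ S hS n), zero_comp, comp_zero]
  w₁ S hS n := by
    rw [Category.assoc, Category.assoc, ← (e (n + 1)).inv.naturality, reassoc_of% (T.w₁ S hS n),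
      zero_comp, comp_zero]
  exact₃ S hS n := by
    refine ShortComplex.exact_of_iso (ShortComplex.isoMk ((e n).app S.X₂).symm ((e n).app S.X₃).symm
      ((e (n + 1)).app S.X₁).symm ?_ ?_) (T.exact₃ S hS n)
    · exact ((e n).inv.naturality S.g).symm
    · dsimp
      rw [Iso.inv_hom_id_app_assoc]
  exact₁ S hS n := by
    refine ShortComplex.exact_of_iso (ShortComplex.isoMk ((e n).app S.X₃).symm
      ((e (n + 1)).app S.X₁).symm ((e (n + 1)).app S.X₂).symm ?_ ?_) (T.exact₁ S hS n)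
    · dsimp
      rw [Iso.inv_hom_id_app_assoc]
    · exact ((e (n + 1)).inv.naturality S.f).symm

lemma DeltaFunctor.ofIso_effaceable (T : DeltaFunctor A B) (T' : ℕ → A ⥤ B)
    (e : ∀ n, T' n ≅ T.T n) (hT : T.Effaceable) : (T.ofIso T' e).Effaceable :=
  fun I _ n => IsZero.of_iso (hT I n) ((e (n + 1)).app I)

/-- morphisms of δ-functors -/
structure DeltaFunctor.Hom (T T' : DeltaFunctor A B) where
  /-- the natural transformations -/
  app : ∀ n, T.T n ⟶ T'.T n
  comm : ∀ (S : ShortComplex A) (hS : S.ShortExact) (n : ℕ),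
    T.δ S hS n ≫ (app (n + 1)).app S.X₁ = (app n).app S.X₃ ≫ T'.δ S hS n

section ofComplex

variable {K K' : A ⥤ CochainComplex B ℕ} [K.PreservesZeroMorphisms] [K'.PreservesZeroMorphisms]
  (hK : ∀ (S : ShortComplex A), S.ShortExact → (S.map K).ShortExact)
  (hK' : ∀ (S : ShortComplex A), S.ShortExact → (S.map K').ShortExact) (τ : K ⟶ K')

/-- a natural transformation of functors to complexes induces a morphism of δ-functors -/
noncomputable def ofComplexHom : (ofComplex K hK).Hom (ofComplex K' hK') where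
  app n := Functor.whiskerRight τ _
  comm S hS n :=
    HomologicalComplex.HomologySequence.δ_naturality
      (ShortComplex.Hom.mk (τ.app S.X₁) (τ.app S.X₂) (τ.app S.X₃) (τ.naturality S.f).symm
        (τ.naturality S.g).symm : S.map K ⟶ S.map K') (hK S hS) (hK' S hS) n (n + 1) rfl

end ofComplex

/-- morphism between transports -/
def DeltaFunctor.Hom.ofIso {T₁ T₂ : DeltaFunctor A B} (f : T₁.Hom T₂) (T₁' T₂' : ℕ → A ⥤ B)
    (e₁ : ∀ n, T₁' n ≅ T₁.T n) (e₂ : ∀ n, T₂' n ≅ T₂.T n) (g : ∀ n, T₁' n ⟶ T₂' n)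
    (hg : ∀ n, g n ≫ (e₂ n).hom = (e₁ n).hom ≫ f.app n) :
    (T₁.ofIso T₁' e₁).Hom (T₂.ofIso T₂' e₂) where
  app := g
  comm S hS n := by
    have h1 : ∀ (n : ℕ) (X : A), (g n).app X ≫ (e₂ n).hom.app X = (e₁ n).hom.app X ≫ (f.app n).app X :=
      fun n X => by rw [← NatTrans.comp_app, hg, NatTrans.comp_app]
    have h2 : ∀ (n : ℕ) (X : A), (e₁ n).inv.app X ≫ (g n).app X = (f.app n).app X ≫ (e₂ n).inv.app X := by
      intro n X
      rw [← cancel_mono ((e₂ n).hom.app X), Category.assoc, Category.assoc, h1,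
        Iso.inv_hom_id_app_assoc, Iso.inv_hom_id_app, Category.comp_id]
    change ((e₁ n).hom.app S.X₃ ≫ T₁.δ S hS n ≫ (e₁ (n + 1)).inv.app S.X₁) ≫ (g (n + 1)).app S.X₁ =
      (g n).app S.X₃ ≫ (e₂ n).hom.app S.X₃ ≫ T₂.δ S hS n ≫ (e₂ (n + 1)).inv.app S.X₁
    rw [Category.assoc, Category.assoc, h2, reassoc_of% (f.comm S hS n), reassoc_of% (h1 n S.X₃)]

end Groth.Agent.Helper1.DeltaFun
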