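import Mathlib
import Groth.Agent.Helper1.DeltaFunctor2

set_option autoImplicit false

/-!
# Filtered colimits of δ-functors
-/

namespace Groth.Agent.Helper1.DeltaFun
open CategoryTheory Limits

universe w v u v' u' w'

section exactColim

variable {E : Type w} [Category.{w'} E] {B : Type u'} [Category.{v'} B] [Abelian B]
  [HasColimitsOfShape E B] [HasExactColimitsOfShape E B]

lemma exact_of_evaluation' {K : Type*} [Category K] {A : Type*} [Category A] [Abelian A]
    (S : ShortComplex (K ⥤ A))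
    (h : ∀ q, (S.map ((evaluation K A).obj q)).Exact) : S.Exact := by
  simp only [ShortComplex.exact_iff_isZero_homology] at h ⊢
  rw [Functor.isZero_iff]
  intro q
  exact IsZero.of_iso (h q) (S.mapHomologyIso ((evaluation K A).obj q)).symm

/-- a colimit (of the given exact shape) of exact sequences is exact -/
lemma exact_of_isColimit {F G H : E ⥤ B} (α : F ⟶ G) (β : G ⟶ H)
    (w : ∀ e, α.app e ≫ β.app e = 0)
    (hex : ∀ e, (ShortComplex.mk (α.app e) (β.app e) (w e)).Exact)
    {cF : Cocone F} {cG : Cocone G} {cH : Cocone H} (hF : IsColimit cF) (hG : IsColimit cG)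
    (hH : IsColimit cH) (a : cF.pt ⟶ cG.pt) (b : cG.pt ⟶ cH.pt)
    (ha : ∀ e, cF.ι.app e ≫ a = α.app e ≫ cG.ι.app e)
    (hb : ∀ e, cG.ι.app e ≫ b = β.app e ≫ cH.ι.app e) :
    ∃ w' : a ≫ b = 0, (ShortComplex.mk a b w').Exact := by
  have w0 : α ≫ β = 0 := by
    ext e
    exact w e
  let S : ShortComplex (E ⥤ B) := ShortComplex.mk α β w0
  have hS : S.Exact := exact_of_evaluation' S hex
  have hS' : (S.map (colim : (E ⥤ B) ⥤ B)).Exact := hS.map _
  have w' : a ≫ b = 0 := by
    apply hF.hom_ext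
    intro e
    rw [reassoc_of% (ha e), hb e, reassoc_of% (w e), zero_comp, comp_zero]
  have w1 : colimMap α ≫ colimMap β = 0 := (S.map (colim : (E ⥤ B) ⥤ B)).zero
  have hS'' : (ShortComplex.mk (colimMap α) (colimMap β) w1).Exact := hS'
  let iF : colimit F ≅ cF.pt := (colimit.isColimit F).coconePointUniqueUpToIso hF
  let iG : colimit G ≅ cG.pt := (colimit.isColimit G).coconePointUniqueUpToIso hG
  let iH : colimit H ≅ cH.pt := (colimit.isColimit H).coconePointUniqueUpToIso hH
  have hiF : ∀ e, colimit.ι F e ≫ iF.hom = cF.ι.app e := fun e =>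
    colimit.comp_coconePointUniqueUpToIso_hom hF e
  have hiG : ∀ e, colimit.ι G e ≫ iG.hom = cG.ι.app e := fun e =>
    colimit.comp_coconePointUniqueUpToIso_hom hG e
  have hiH : ∀ e, colimit.ι H e ≫ iH.hom = cH.ι.app e := fun e =>
    colimit.comp_coconePointUniqueUpToIso_hom hH e
  have c1 : colimMap α ≫ iG.hom = iF.hom ≫ a := by
    apply colimit.hom_ext
    intro e
    rw [ι_colimMap_assoc, hiG, reassoc_of% (hiF e), ha]
  have c2 : colimMap β ≫ iH.hom = iG.hom ≫ b := by
    apply colimit.hom_ext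
    intro e
    rw [ι_colimMap_assoc, hiH, reassoc_of% (hiG e), hb]
  exact ⟨w', ShortComplex.exact_of_iso (ShortComplex.isoMk iF iG iH c1.symm c2.symm) hS''⟩

end exactColim

section diagram

variable (E : Type w) [Category.{w'} E] (A : Type u) [Category.{v} A] [Abelian A]
  (B : Type u') [Category.{v'} B] [Abelian B]

/-- a diagram of δ-functors -/
structure DeltaDiagram where
  /-- the diagrams of functors -/
  T : ℕ → E ⥤ A ⥤ B
  /-- connecting morphisms -/
  δ : ∀ (e : E) (S : ShortComplex A) (_ : S.ShortExact) (n : ℕ),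
    ((T n).obj e).obj S.X₃ ⟶ ((T (n + 1)).obj e).obj S.X₁
  δ_nat : ∀ (e : E) {S S' : ShortComplex A} (φ : S ⟶ S') (hS : S.ShortExact)
    (hS' : S'.ShortExact) (n : ℕ),
    δ e S hS n ≫ ((T (n + 1)).obj e).map φ.τ₁ = ((T n).obj e).map φ.τ₃ ≫ δ e S' hS' n
  δ_natE : ∀ {e e' : E} (f : e ⟶ e') (S : ShortComplex A) (hS : S.ShortExact) (n : ℕ),
    δ e S hS n ≫ ((T (n + 1)).map f).app S.X₁ = ((T n).map f).app S.X₃ ≫ δ e' S hS n
  w₃ : ∀ (e : E) (S : ShortComplex A) (hS : S.ShortExact) (n : ℕ),
    ((T n).obj e).map S.g ≫ δ e S hS n = 0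
  w₁ : ∀ (e : E) (S : ShortComplex A) (hS : S.ShortExact) (n : ℕ),
    δ e S hS n ≫ ((T (n + 1)).obj e).map S.f = 0
  exact₃ : ∀ (e : E) (S : ShortComplex A) (hS : S.ShortExact) (n : ℕ),
    (ShortComplex.mk _ _ (w₃ e S hS n)).Exact
  exact₁ : ∀ (e : E) (S : ShortComplex A) (hS : S.ShortExact) (n : ℕ),
    (ShortComplex.mk _ _ (w₁ e S hS n)).Exact

variable {E A B}
variable (D : DeltaDiagram E A B) [HasColimitsOfShape E B]

namespace DeltaDiagram

/-- the evaluated colimit cocone -/
noncomputable def evCocone (n : ℕ) (X : A) : Cocone (D.T n ⋙ (evaluation A B).obj X) :=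
  ((evaluation A B).obj X).mapCocone (colimit.cocone (D.T n))

/-- the evaluated colimit cocone is a colimit -/
noncomputable def evIsColimit (n : ℕ) (X : A) : IsColimit (D.evCocone n X) :=
  isColimitOfPreserves ((evaluation A B).obj X) (colimit.isColimit (D.T n))

lemma evCocone_ι (n : ℕ) (X : A) (e : E) :
    (D.evCocone n X).ι.app e = (colimit.ι (D.T n) e).app X := rfl

/-- the cocone defining the connecting morphism of the colimit -/
noncomputable def δCocone (S : ShortComplex A) (hS : S.ShortExact) (n : ℕ) :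
    Cocone (D.T n ⋙ (evaluation A B).obj S.X₃) where
  pt := (colimit (D.T (n + 1))).obj S.X₁
  ι :=
    { app := fun e => D.δ e S hS n ≫ (colimit.ι (D.T (n + 1)) e).app S.X₁
      naturality := fun e e' f => by
        dsimp
        rw [Category.comp_id, ← reassoc_of% (D.δ_natE f S hS n), ← NatTrans.comp_app,
          colimit.w] }

/-- the connecting morphism of the colimit -/
noncomputable def colimδ (S : ShortComplex A) (hS : S.ShortExact) (n : ℕ) :
    (colimit (D.T n)).obj S.X₃ ⟶ (colimit (D.T (n + 1))).obj S.X₁ :=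
  (D.evIsColimit n S.X₃).desc (D.δCocone S hS n)

lemma ι_colimδ (S : ShortComplex A) (hS : S.ShortExact) (n : ℕ) (e : E) :
    (colimit.ι (D.T n) e).app S.X₃ ≫ D.colimδ S hS n =
      D.δ e S hS n ≫ (colimit.ι (D.T (n + 1)) e).app S.X₁ :=
  (D.evIsColimit n S.X₃).fac (D.δCocone S hS n) e

lemma hom_ext {n : ℕ} {X : A} {Z : B} (f g : (colimit (D.T n)).obj X ⟶ Z)
    (h : ∀ e, (colimit.ι (D.T n) e).app X ≫ f = (colimit.ι (D.T n) e).app X ≫ g) : f = g :=
  (D.evIsColimit n X).hom_ext h

variable [HasExactColimitsOfShape E B]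

/-- the colimit δ-functor -/
noncomputable def colim : DeltaFunctor A B where
  T n := colimit (D.T n)
  δ S hS n := D.colimδ S hS n
  δ_nat φ hS hS' n := by
    apply D.hom_ext
    intro e
    rw [reassoc_of% (D.ι_colimδ _ hS n e), ← (colimit.ι (D.T (n + 1)) e).naturality,
      reassoc_of% (D.δ_nat e φ hS hS' n), ← (colimit.ι (D.T n) e).naturality_assoc, D.ι_colimδ]
  w₃ S hS n := by
    apply D.hom_ext
    intro e
    rw [← (colimit.ι (D.T n) e).naturality_assoc, D.ι_colimδ, reassoc_of% (D.w₃ e S hS n),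
      zero_comp, comp_zero]
  w₁ S hS n := by
    apply D.hom_ext
    intro e
    rw [reassoc_of% (D.ι_colimδ _ hS n e), ← (colimit.ι (D.T (n + 1)) e).naturality,
      reassoc_of% (D.w₁ e S hS n), zero_comp, comp_zero]
  exact₃ S hS n := by
    obtain ⟨_, h⟩ := exact_of_isColimit
      (F := D.T n ⋙ (evaluation A B).obj S.X₂) (G := D.T n ⋙ (evaluation A B).obj S.X₃)
      (H := D.T (n + 1) ⋙ (evaluation A B).obj S.X₁)
      (Functor.whiskerLeft (D.T n) ((evaluation A B).map S.g))
      { app := fun e => D.δ e S hS n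
        naturality := fun e e' f => (D.δ_natE f S hS n).symm }
      (fun e => D.w₃ e S hS n) (fun e => D.exact₃ e S hS n)
      (D.evIsColimit n S.X₂) (D.evIsColimit n S.X₃) (D.evIsColimit (n + 1) S.X₁)
      ((colimit (D.T n)).map S.g) (D.colimδ S hS n)
      (fun e => ((colimit.ι (D.T n) e).naturality S.g).symm) (fun e => D.ι_colimδ S hS n e)
    exact h
  exact₁ S hS n := by
    obtain ⟨_, h⟩ := exact_of_isColimit
      (F := D.T n ⋙ (evaluation A B).obj S.X₃) (G := D.T (n + 1) ⋙ (evaluation A B).obj S.X₁)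
      (H := D.T (n + 1) ⋙ (evaluation A B).obj S.X₂)
      { app := fun e => D.δ e S hS n
        naturality := fun e e' f => (D.δ_natE f S hS n).symm }
      (Functor.whiskerLeft (D.T (n + 1)) ((evaluation A B).map S.f))
      (fun e => D.w₁ e S hS n) (fun e => D.exact₁ e S hS n)
      (D.evIsColimit n S.X₃) (D.evIsColimit (n + 1) S.X₁) (D.evIsColimit (n + 1) S.X₂)
      (D.colimδ S hS n) ((colimit (D.T (n + 1))).map S.f)
      (fun e => D.ι_colimδ S hS n e) (fun e => ((colimit.ι (D.T (n + 1)) e).naturality S.f).symm)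
    exact h

lemma colim_T (n : ℕ) : D.colim.T n = colimit (D.T n) := rfl

lemma colim_effaceable (h : ∀ (e : E) (I : A) [Injective I] (n : ℕ),
    IsZero (((D.T (n + 1)).obj e).obj I)) : D.colim.Effaceable := by
  intro I _ n
  rw [IsZero.iff_id_eq_zero]
  apply D.hom_ext
  intro e
  exact (h e I n).eq_of_src _ _

end DeltaDiagram

end diagram

end Groth.Agent.Helper1.DeltaFun
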