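import Mathlib
import Groth.Agent.Helper1.DeltaFunctor
import Groth.Agent.Helper1.DeltaFunctor2
import Groth.Agent.Helper1.DeltaColim

set_option autoImplicit false

/-!
# Calculus of morphisms of δ-functors
-/

namespace Groth.Agent.Helper1.DeltaFun
open CategoryTheory Limits Groth.Agent.Helper1.Horseshoe

universe v u v' u' w w'
variable {A : Type u} [Category.{v} A] [Abelian A] {B : Type u'} [Category.{v'} B] [Abelian B]

namespace DeltaFunctor.Hom

variable {T T' T'' : DeltaFunctor A B}

/-- identity -/
def id (T : DeltaFunctor A B) : T.Hom T where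
  app n := 𝟙 _
  comm S hS n := by simp

/-- composition -/
def comp (f : T.Hom T') (g : T'.Hom T'') : T.Hom T'' where
  app n := f.app n ≫ g.app n
  comm S hS n := by
    rw [NatTrans.comp_app, NatTrans.comp_app, reassoc_of% (f.comm S hS n), g.comm S hS n,
      Category.assoc]

@[simp] lemma id_app (T : DeltaFunctor A B) (n : ℕ) : (id T).app n = 𝟙 _ := rfl
@[simp] lemma comp_app (f : T.Hom T') (g : T'.Hom T'') (n : ℕ) :
    (f.comp g).app n = f.app n ≫ g.app n := rfl

end DeltaFunctor.Hom

section ext

variable [EnoughInjectives A] {T T' : DeltaFunctor A B}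

/-- the unique extension of a degree `0` transformation out of an effaceable δ-functor -/
noncomputable def extHom (hT : T.Effaceable) (φ₀ : T.T 0 ⟶ T'.T 0) : T.Hom T' where
  app n := ext T T' hT φ₀ n
  comm S hS n := δ_ext T T' hT φ₀ n S hS

@[simp] lemma extHom_app_zero (hT : T.Effaceable) (φ₀ : T.T 0 ⟶ T'.T 0) :
    (extHom hT φ₀).app 0 = φ₀ := rfl

/-- morphisms out of an effaceable δ-functor are determined in degree `0` -/
lemma DeltaFunctor.Hom.eq_of_zero (hT : T.Effaceable) (f g : T.Hom T') (h0 : f.app 0 = g.app 0)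
    (n : ℕ) : f.app n = g.app n :=
  ext_unique hT f.app g.app h0 (fun n S hS => f.comm S hS n) (fun n S hS => g.comm S hS n) n

/-- the isomorphism between two effaceable δ-functors extending an isomorphism in degree `0` -/
noncomputable def isoOfEffaceable (hT : T.Effaceable) (hT' : T'.Effaceable) (e : T.T 0 ≅ T'.T 0)
    (n : ℕ) : T.T n ≅ T'.T n where
  hom := (extHom hT e.hom).app n
  inv := (extHom hT' e.inv).app n
  hom_inv_id := by
    have := DeltaFunctor.Hom.eq_of_zero hT ((extHom hT e.hom).comp (extHom hT' e.inv))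
      (DeltaFunctor.Hom.id T) (by simp) n
    simpa using this
  inv_hom_id := by
    have := DeltaFunctor.Hom.eq_of_zero hT' ((extHom hT' e.inv).comp (extHom hT e.hom))
      (DeltaFunctor.Hom.id T') (by simp) n
    simpa using this

lemma isoOfEffaceable_hom (hT : T.Effaceable) (hT' : T'.Effaceable) (e : T.T 0 ≅ T'.T 0) (n : ℕ) :
    (isoOfEffaceable hT hT' e n).hom = (extHom hT e.hom).app n := rfl

lemma isoOfEffaceable_inv (hT : T.Effaceable) (hT' : T'.Effaceable) (e : T.T 0 ≅ T'.T 0) (n : ℕ) :
    (isoOfEffaceable hT hT' e n).inv = (extHom hT' e.inv).app n := rfl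

@[simp] lemma isoOfEffaceable_zero (hT : T.Effaceable) (hT' : T'.Effaceable) (e : T.T 0 ≅ T'.T 0) :
    isoOfEffaceable hT hT' e 0 = e := by
  ext : 1
  rfl

end ext

section rightDerived

variable [HasInjectiveResolutions A] {F G : A ⥤ B} [F.Additive] [G.Additive] (α : F ⟶ G)

lemma conj_aux2 {C : Type*} [Category C] {X Y X' Y' : C} (e : X ≅ X') (e' : Y ≅ Y') (u : X ⟶ Y)
    (H : X' ⟶ Y') (h : u = e.hom ≫ H ≫ e'.inv) : u ≫ e'.hom = e.hom ≫ H := by
  rw [h, Category.assoc, Category.assoc, Iso.inv_hom_id, Category.comp_id]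

/-- the connecting morphisms of horseshoe data are natural in the functor -/
lemma HData.δ_natTrans {S : ShortComplex A} (d : HData S) (n : ℕ) :
    d.δ F n ≫ (NatTrans.rightDerived α (n + 1)).app S.X₁ =
      (NatTrans.rightDerived α n).app S.X₃ ≫ d.δ G n := by
  let K := sc d.I.cocomplex d.J.cocomplex d.θ d.hθ
  let ψ : d.scF F ⟶ d.scF G :=
    { τ₁ := (NatTrans.mapHomologicalComplex α (ComplexShape.up ℕ)).app K.X₁
      τ₂ := (NatTrans.mapHomologicalComplex α (ComplexShape.up ℕ)).app K.X₂
      τ₃ := (NatTrans.mapHomologicalComplex α (ComplexShape.up ℕ)).app K.X₃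
      comm₁₂ := ((NatTrans.mapHomologicalComplex α (ComplexShape.up ℕ)).naturality K.f).symm
      comm₂₃ := ((NatTrans.mapHomologicalComplex α (ComplexShape.up ℕ)).naturality K.g).symm }
  refine δ_nat_aux (d.scF_shortExact F) (d.scF_shortExact G) ψ n
    (d.J.isoRightDerivedObj F n) (d.I.isoRightDerivedObj F (n + 1))
    (d.J.isoRightDerivedObj G n) (d.I.isoRightDerivedObj G (n + 1))
    ((NatTrans.rightDerived α n).app S.X₃) ((NatTrans.rightDerived α (n + 1)).app S.X₁) ?_ ?_
  · exact conj_aux2 _ _ _ _ (d.J.rightDerived_app_eq α n)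
  · exact conj_aux2 _ _ _ _ (d.I.rightDerived_app_eq α (n + 1))

/-- a natural transformation induces a morphism between the δ-functors of derived functors -/
noncomputable def rightDerivedDeltaHom : (rightDerivedDelta F).Hom (rightDerivedDelta G) where
  app n := NatTrans.rightDerived α n
  comm S hS n := HData.δ_natTrans α (hdata S hS) n

@[simp] lemma rightDerivedDeltaHom_app (n : ℕ) :
    (rightDerivedDeltaHom α).app n = NatTrans.rightDerived α n := rfl

end rightDerived

section diagram

variable {E : Type w} [Category.{w'} E] [HasColimitsOfShape E B] [HasExactColimitsOfShape E B]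

/-- morphisms of diagrams of δ-functors -/
structure DeltaDiagram.Hom (D D' : DeltaDiagram E A B) where
  /-- the natural transformations -/
  app : ∀ n, D.T n ⟶ D'.T n
  comm : ∀ (e : E) (S : ShortComplex A) (hS : S.ShortExact) (n : ℕ),
    D.δ e S hS n ≫ ((app (n + 1)).app e).app S.X₁ = ((app n).app e).app S.X₃ ≫ D'.δ e S hS n

/-- the induced morphism on colimits -/
noncomputable def DeltaDiagram.Hom.colim {D D' : DeltaDiagram E A B} (f : D.Hom D') :
    D.colim.Hom D'.colim where
  app n := colimMap (f.app n)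
  comm S hS n := by
    apply D.hom_ext
    intro e
    have h1 := D.ι_colimδ S hS n e
    have h2 := D'.ι_colimδ S hS n e
    show (colimit.ι (D.T n) e).app S.X₃ ≫ D.colimδ S hS n ≫ (colimMap (f.app (n + 1))).app S.X₁ =
      (colimit.ι (D.T n) e).app S.X₃ ≫ (colimMap (f.app n)).app S.X₃ ≫ D'.colimδ S hS n
    have h3 : ∀ (k : ℕ) (X : A), (colimit.ι (D.T k) e).app X ≫ (colimMap (f.app k)).app X =
        ((f.app k).app e).app X ≫ (colimit.ι (D'.T k) e).app X := by
      intro k X
      rw [← NatTrans.comp_app, ι_colimMap, NatTrans.comp_app]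
    rw [reassoc_of% h1, h3, reassoc_of% (f.comm e S hS n), reassoc_of% (h3 n S.X₃), h2]

end diagram

end Groth.Agent.Helper1.DeltaFun
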