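import Mathlib
import Groth.Agent.Helper1.DeltaHom
import Groth.Agent.Helper1.DeltaComp

set_option autoImplicit false

/-!
# The pointwise δ-functor on functor categories, and commutation of δ-functors with exact colimits
-/

namespace Groth.Agent.Helper1.DeltaFun
open CategoryTheory Limits

universe w w' v u v' u'
variable {A : Type u} [Category.{v} A] [Abelian A] {B : Type u'} [Category.{v'} B] [Abelian B]
  (J : Type w) [Category.{w'} J]

section exact

variable {J}

/-- exactness in a functor category can be checked pointwise -/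
lemma exact_of_pointwise (S : ShortComplex (J ⥤ B))
    (h : ∀ j, (S.map ((evaluation J B).obj j)).Exact) : S.Exact := by
  rw [ShortComplex.exact_iff_isZero_homology, Functor.isZero_iff]
  intro j
  have hj := (ShortComplex.exact_iff_isZero_homology _).1 (h j)
  exact IsZero.of_iso hj (S.mapHomologyIso ((evaluation J B).obj j)).symm

lemma shortExact_pointwise (S : ShortComplex (J ⥤ A)) (hS : S.ShortExact) (j : J) :
    (S.map ((evaluation J A).obj j)).ShortExact :=
  hS.map_of_exact _

end exact

/-- the pointwise δ-functor on functor categories -/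
noncomputable def DeltaFunctor.pointwise (T : DeltaFunctor A B) : DeltaFunctor (J ⥤ A) (J ⥤ B) where
  T n := (Functor.whiskeringRight J A B).obj (T.T n)
  δ S hS n :=
    { app := fun j => T.δ (S.map ((evaluation J A).obj j)) (shortExact_pointwise S hS j) n
      naturality := fun j j' f => by
        have := T.δ_nat (S.mapNatTrans ((evaluation J A).map f)) (shortExact_pointwise S hS j)
          (shortExact_pointwise S hS j') n
        exact this.symm }
  δ_nat {S S'} φ hS hS' n := by
    ext j
    exact T.δ_nat (((evaluation J A).obj j).mapShortComplex.map φ) (shortExact_pointwise S hS j)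
      (shortExact_pointwise S' hS' j) n
  w₃ S hS n := by
    ext j
    exact T.w₃ (S.map ((evaluation J A).obj j)) (shortExact_pointwise S hS j) n
  w₁ S hS n := by
    ext j
    exact T.w₁ (S.map ((evaluation J A).obj j)) (shortExact_pointwise S hS j) n
  exact₃ S hS n := by
    apply exact_of_pointwise
    intro j
    exact T.exact₃ (S.map ((evaluation J A).obj j)) (shortExact_pointwise S hS j) n
  exact₁ S hS n := by
    apply exact_of_pointwise
    intro j
    exact T.exact₁ (S.map ((evaluation J A).obj j)) (shortExact_pointwise S hS j) n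

end Groth.Agent.Helper1.DeltaFun

namespace Groth.Agent.Helper1.DeltaFun
open CategoryTheory Limits

universe w w' v u v' u'
variable {A : Type u} [Category.{v} A] [Abelian A] {B : Type u'} [Category.{v'} B] [Abelian B]
  (J : Type w) [Category.{w'} J] [HasColimitsOfShape J A] [HasColimitsOfShape J B]

lemma aux_comp₁ {C : Type*} [Category C] {X Y Y' Z W : C} {a : X ⟶ Y} {b : Y ⟶ Z} {a' : X ⟶ Y'}
    {b' : Y' ⟶ Z} {c : Z ⟶ W} {d : Y' ⟶ W} (h2 : a ≫ b = a' ≫ b') (h3 : b' ≫ c = d) :
    a ≫ b ≫ c = a' ≫ d := by
  rw [← Category.assoc, h2, Category.assoc, h3]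

lemma aux_comp₂ {C : Type*} [Category C] {X Y Z W : C} {a : X ⟶ Y} {b : Y ⟶ Z} {c : Z ⟶ W}
    {d : X ⟶ Z} (h : a ≫ b = d) : a ≫ b ≫ c = d ≫ c := by
  rw [← Category.assoc, h]

/-- the coprojections as a natural transformation `ev_j ⟶ colim` -/
noncomputable def ιNat (j : J) : (evaluation J A).obj j ⟶ (colim : (J ⥤ A) ⥤ A) where
  app F := colimit.ι F j
  naturality F G α := by
    dsimp
    simp

variable {J} in
/-- the canonical comparison `colim (F ⋙ G) ⟶ G (colim F)`, as a natural transformation -/
noncomputable def postNat (G : A ⥤ B) :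
    (Functor.whiskeringRight J A B).obj G ⋙ colim ⟶ (colim : (J ⥤ A) ⥤ A) ⋙ G where
  app F := colimit.post F G
  naturality F F' α := by
    apply colimit.hom_ext
    intro j
    dsimp
    simp only [ι_colimMap_assoc, colimit.ι_post, Functor.whiskerRight_app, colimit.ι_post_assoc,
      ← G.map_comp, ι_colimMap]

@[simp] lemma postNat_app (G : A ⥤ B) (F : J ⥤ A) : (postNat G).app F = colimit.post F G := rfl

variable [HasExactColimitsOfShape J A] [HasExactColimitsOfShape J B]

instance : PreservesFiniteColimits (colim : (J ⥤ A) ⥤ A) :=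
  ⟨fun _ _ _ => inferInstance⟩

lemma colim_shortExact (S : ShortComplex (J ⥤ A)) (hS : S.ShortExact) :
    (S.map (colim : (J ⥤ A) ⥤ A)).ShortExact :=
  hS.map_of_exact _

/-- `T^•(colim -)` -/
noncomputable abbrev DeltaFunctor.precolim (T : DeltaFunctor A B) : DeltaFunctor (J ⥤ A) B :=
  T.precomp (colim : (J ⥤ A) ⥤ A) (colim_shortExact J)

/-- `colim T^•(-)` -/
noncomputable abbrev DeltaFunctor.postcolim (T : DeltaFunctor A B) : DeltaFunctor (J ⥤ A) B :=
  (T.pointwise J).postcomp (colim : (J ⥤ B) ⥤ B)

/-- the canonical morphism of δ-functors `colim T^•(-) ⟶ T^•(colim -)` -/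
noncomputable def DeltaFunctor.postHom (T : DeltaFunctor A B) : (T.postcolim J).Hom (T.precolim J) where
  app n := postNat (T.T n)
  comm S hS n := by
    apply colimit.hom_ext
    intro j
    have h1 := T.δ_nat (S.mapNatTrans (ιNat J j)) (shortExact_pointwise S hS j)
      (colim_shortExact J S hS) n
    have h2 : colimit.ι (S.X₃ ⋙ T.T n) j ≫ colimMap ((T.pointwise J).δ S hS n) =
        T.δ (S.map ((evaluation J A).obj j)) (shortExact_pointwise S hS j) n ≫
          colimit.ι (S.X₁ ⋙ T.T (n + 1)) j := ι_colimMap _ j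
    have h3 : colimit.ι (S.X₁ ⋙ T.T (n + 1)) j ≫ colimit.post S.X₁ (T.T (n + 1)) =
        (T.T (n + 1)).map (colimit.ι S.X₁ j) := colimit.ι_post _ _ j
    have h4 : colimit.ι (S.X₃ ⋙ T.T n) j ≫ colimit.post S.X₃ (T.T n) =
        (T.T n).map (colimit.ι S.X₃ j) := colimit.ι_post _ _ j
    have e1 : colimit.ι (S.X₃ ⋙ T.T n) j ≫ colimMap ((T.pointwise J).δ S hS n) ≫
          colimit.post S.X₁ (T.T (n + 1))
        = T.δ (S.map ((evaluation J A).obj j)) (shortExact_pointwise S hS j) n ≫
          (T.T (n + 1)).map (colimit.ι S.X₁ j) := aux_comp₁ h2 h3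
    have e2 : colimit.ι (S.X₃ ⋙ T.T n) j ≫ colimit.post S.X₃ (T.T n) ≫
          T.δ (S.map colim) (colim_shortExact J S hS) n =
        (T.T n).map (colimit.ι S.X₃ j) ≫ T.δ (S.map colim) (colim_shortExact J S hS) n :=
      aux_comp₂ h4
    exact e1.trans (h1.trans e2.symm)

variable [EnoughInjectives (J ⥤ A)]

/-- a δ-functor commutes with exact colimits of shape `J` as soon as `T⁰` does and the higher
`Tⁿ` vanish on the colimit and on the values of injective diagrams -/
theorem DeltaFunctor.isIso_post (T : DeltaFunctor A B)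
    (h0 : ∀ F : J ⥤ A, IsIso (colimit.post F (T.T 0)))
    (h1 : ∀ (E : J ⥤ A) [Injective E] (n : ℕ), IsZero ((T.T (n + 1)).obj (colimit E)))
    (h2 : ∀ (E : J ⥤ A) [Injective E] (n : ℕ) (j : J), IsZero ((T.T (n + 1)).obj (E.obj j)))
    (n : ℕ) (F : J ⥤ A) : IsIso (colimit.post F (T.T n)) := by
  have hT₁ : (T.precolim J).Effaceable := fun E _ n => h1 E n
  have hT₂ : (T.postcolim J).Effaceable := by
    intro E _ n
    have hz : IsZero (((T.pointwise J).T (n + 1)).obj E) := by
      rw [Functor.isZero_iff]
      intro j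
      exact h2 E n j
    exact Functor.map_isZero (colim : (J ⥤ B) ⥤ B) hz
  have : IsIso ((T.postHom J).app 0) := by
    have : ∀ F, IsIso (((T.postHom J).app 0).app F) := fun F => h0 F
    exact NatIso.isIso_of_isIso_app _
  have e := isoOfEffaceable hT₂ hT₁ (asIso ((T.postHom J).app 0)) n
  have he : (isoOfEffaceable hT₂ hT₁ (asIso ((T.postHom J).app 0)) n).hom =
      (T.postHom J).app n := by
    rw [isoOfEffaceable_hom]
    exact DeltaFunctor.Hom.eq_of_zero hT₂ (extHom hT₂ (asIso ((T.postHom J).app 0)).hom)
      (T.postHom J) rfl n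
  have hiso : IsIso ((T.postHom J).app n) := by
    rw [← he]
    infer_instance
  exact (inferInstance : IsIso (((T.postHom J).app n).app F))

end Groth.Agent.Helper1.DeltaFun
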