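import Groth.Agent.Helper1.CohTopLeray

/-!
# Mayer–Vietoris surjectivity from `H¹ = 0`

If `H¹(X, F) = 0` and `X = U ∪ V`, then every section of `F` over `U ∩ V` is a difference of
restrictions of sections over `U` and `V`.
-/

set_option autoImplicit false

namespace Groth.Agent.Helper1.MVSurj

open CategoryTheory Limits Opposite TopologicalSpace Abelian
open Groth.Agent.Lead.CohTopB
open Groth.Agent.Helper1.DeltaCmp
open Groth.Agent.Helper1.CechTop
open Groth.Agent.Helper1.CohTopExt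
open Groth.Agent.Helper1.CohTopFun
open Groth.Agent.Helper1.CohTopCech

universe u

variable {X : TopCat.{u}}

/-- gluing two sections of a sheaf which agree on the intersection -/
lemma glue₂ (G : CohTop.Ab X) (U V : Opens X) (s : G.obj.obj (op U)) (t : G.obj.obj (op V))
    (h : G.obj.map (homOfLE (inf_le_left : U ⊓ V ≤ U)).op s =
      G.obj.map (homOfLE (inf_le_right : U ⊓ V ≤ V)).op t) :
    ∃ r : G.obj.obj (op (U ⊔ V)), G.obj.map (homOfLE (le_sup_left : U ≤ U ⊔ V)).op r = s ∧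
      G.obj.map (homOfLE (le_sup_right : V ≤ U ⊔ V)).op r = t := by
  let fam : Bool → Opens X := fun b => if b then U else V
  let sf : ∀ b : Bool, G.obj.obj (op (fam b)) := fun b =>
    match b with
    | true => s
    | false => t
  have hfamle : ∀ b, fam b ≤ U ⊔ V := by
    intro b
    cases b
    · exact le_sup_right
    · exact le_sup_left
  have hcompat : TopCat.Presheaf.IsCompatible G.obj fam sf := by
    intro b b'
    cases b <;> cases b'
    · rfl
    · -- `V ⊓ U`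
      show G.obj.map (homOfLE (inf_le_left : V ⊓ U ≤ V)).op t =
        G.obj.map (homOfLE (inf_le_right : V ⊓ U ≤ U)).op s
      have e : V ⊓ U ≤ U ⊓ V := by rw [inf_comm]
      have := congrArg (G.obj.map (homOfLE e).op) h
      rw [← ConcreteCategory.comp_apply, ← G.obj.map_comp, ← ConcreteCategory.comp_apply,
        ← G.obj.map_comp] at this
      exact this.symm
    · exact h
    · rfl
  obtain ⟨r, hr, -⟩ := TopCat.Sheaf.existsUnique_gluing' G fam (U ⊔ V)
    (fun b => homOfLE (hfamle b)) (sup_le (le_iSup fam true) (le_iSup fam false)) sf hcompat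
  exact ⟨r, hr true, hr false⟩

/-- `Γ(X, X₂) → Γ(X, X₃)` is surjective when `H¹(X, X₁) = 0` -/
lemma surjective_sections_of_H1 (S : ShortComplex (CohTop.Ab X)) (hS : S.ShortExact)
    (h : IsZero ((HSeq 1).obj S.X₁)) :
    Function.Surjective (S.g.hom.app (op (⊤ : Opens X))) := by
  obtain ⟨δ, w₁, w₂, e₁, e₂⟩ := hasLES_extSeq (𝟭 (CohTop.Ab X)) (constZ X) S hS 0
  have h1 : Epi ((HSeq 0).map S.g) := e₁.epi_f (h.eq_of_tgt _ _)
  have h2 : (sectionsFunctor (⊤ : Opens X)).map S.g =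
      h0Iso.inv.app S.X₂ ≫ (HSeq 0).map S.g ≫ h0Iso.hom.app S.X₃ := by
    rw [h0Iso.hom.naturality S.g, ← Category.assoc, Iso.inv_hom_id_app, Category.id_comp]
  have h3 : Epi ((sectionsFunctor (⊤ : Opens X)).map S.g) := by
    rw [h2]
    infer_instance
  exact (AddCommGrpCat.epi_iff_surjective _).1 h3

/-- Mayer–Vietoris surjectivity -/
theorem exists_sub_of_H1 (F : CohTop.Ab X) (U V : Opens X) (hUV : U ⊔ V = ⊤)
    (h : IsZero ((HSeq 1).obj F)) (c : F.obj.obj (op (U ⊓ V))) :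
    ∃ (a : F.obj.obj (op U)) (b : F.obj.obj (op V)),
      c = F.obj.map (homOfLE (inf_le_left : U ⊓ V ≤ U)).op a -
        F.obj.map (homOfLE (inf_le_right : U ⊓ V ≤ V)).op b := by
  obtain ⟨S, hS, hI, rfl⟩ : ∃ (S : ShortComplex (CohTop.Ab X)) (_ : S.ShortExact)
      (_ : Injective S.X₂), S.X₁ = F := ⟨injSC F, injSC_shortExact F, inferInstance, rfl⟩
  have hfl : TopCat.Sheaf.IsFlasque S.X₂ := isFlasque_of_injective S.X₂
  have hmono := hS.mono_f
  have hzero : ∀ (W : Opens X) (x : S.X₁.obj.obj (op W)),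
      S.g.hom.app (op W) (S.f.hom.app (op W) x) = 0 := by
    intro W x
    have : S.f ≫ S.g = 0 := S.zero
    have := congrArg (fun φ => φ.hom.app (op W) x) this
    exact this
  -- extend `f c` to `U`
  obtain ⟨ĉ, hĉ⟩ := (AddCommGrpCat.epi_iff_surjective
    (S.X₂.obj.map (homOfLE (inf_le_left : U ⊓ V ≤ U)).op)).mp (hfl.epi _)
    (S.f.hom.app (op (U ⊓ V)) c)
  -- the section of `X₃`
  obtain ⟨q, hqU, hqV⟩ := glue₂ S.X₃ U V (S.g.hom.app (op U) ĉ) 0 (by
    rw [map_zero, ← NatTrans.naturality_apply, hĉ]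
    exact hzero _ c)
  -- move to `⊤`
  obtain ⟨q', hq'⟩ : ∃ q' : S.X₃.obj.obj (op ⊤), S.X₃.obj.map (homOfLE (le_top : U ⊔ V ≤ ⊤)).op q' = q := by
    have e : (⊤ : Opens X) ≤ U ⊔ V := hUV.ge
    refine ⟨S.X₃.obj.map (homOfLE e).op q, ?_⟩
    rw [← ConcreteCategory.comp_apply, ← S.X₃.obj.map_comp]
    have : (homOfLE e).op ≫ (homOfLE (le_top : U ⊔ V ≤ ⊤)).op = 𝟙 _ := rfl
    rw [this, S.X₃.obj.map_id]
    rfl
  obtain ⟨s, hs⟩ := surjective_sections_of_H1 S hS h q'
  -- on `U`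
  have hU : S.g.hom.app (op U) (S.X₂.obj.map (homOfLE (le_top : U ≤ ⊤)).op s - ĉ) = 0 := by
    rw [map_sub, NatTrans.naturality_apply, hs, sub_eq_zero, ← hqU, ← hq',
      ← ConcreteCategory.comp_apply, ← S.X₃.obj.map_comp]
    rfl
  obtain ⟨a', ha'⟩ := TopCat.Sheaf.sections_exact_of_left_exact hS.1 hS.2 _ hU
  -- on `V`
  have hV : S.g.hom.app (op V) (S.X₂.obj.map (homOfLE (le_top : V ≤ ⊤)).op s) = 0 := by
    rw [NatTrans.naturality_apply, hs]
    have h5 : S.X₃.obj.map (homOfLE (le_sup_right : V ≤ U ⊔ V)).op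
        (S.X₃.obj.map (homOfLE (le_top : U ⊔ V ≤ ⊤)).op q') = 0 := by
      rw [hq']; exact hqV
    rw [← ConcreteCategory.comp_apply, ← S.X₃.obj.map_comp] at h5
    exact h5
  obtain ⟨b', hb'⟩ := TopCat.Sheaf.sections_exact_of_left_exact hS.1 hS.2 _ hV
  refine ⟨-a', -b', ?_⟩
  apply injective_app_of_mono S.f (U ⊓ V)
  rw [map_sub, map_neg, map_neg, map_neg, map_neg, NatTrans.naturality_apply,
    NatTrans.naturality_apply, ha', hb', map_sub, hĉ]
  rw [← ConcreteCategory.comp_apply, ← S.X₂.obj.map_comp, ← ConcreteCategory.comp_apply,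
    ← S.X₂.obj.map_comp]
  have e1 : (homOfLE (le_top : U ≤ ⊤)).op ≫ (homOfLE (inf_le_left : U ⊓ V ≤ U)).op =
      (homOfLE (le_top : V ≤ ⊤)).op ≫ (homOfLE (inf_le_right : U ⊓ V ≤ V)).op := rfl
  rw [e1]
  abel

end Groth.Agent.Helper1.MVSurj
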