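import Mathlib
import Groth.Prelude.Def_CohTop
import Groth.Agent.Helper1.ColimSec
import Groth.Agent.Helper1.MVSurj
import Groth.Agent.Lead.CohTopB

/-!
# Sheaves whose restriction maps between compact opens are surjective
-/

set_option autoImplicit false

namespace Groth.Agent.Helper1.QCFlasque

open CategoryTheory Limits TopologicalSpace Opposite
open Groth.Agent.Helper1.ColimSec

universe u
variable {X : TopCat.{u}}

/-- restriction maps between compact opens are surjective -/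
def QCFlasque (G : CohTop.Ab X) : Prop :=
  ∀ (V W : Opens X) (h : V ≤ W), IsCompact (V : Set X) → IsCompact (W : Set X) →
    Function.Surjective (G.obj.map (homOfLE h).op)

lemma qcFlasque_of_isFlasque (G : CohTop.Ab X) [hG : TopCat.Sheaf.IsFlasque G] : QCFlasque G := by
  intro V W h _ _
  have := hG.epi (homOfLE h).op
  exact (AddCommGrpCat.epi_iff_surjective _).1 this

variable {S : ShortComplex (CohTop.Ab X)} (hS : S.ShortExact)

include hS in
lemma exists_local_lift {U : Opens X} (s : S.X₃.obj.obj (op U)) (x : X) (hx : x ∈ U) :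
    ∃ (W : Opens X) (hW : W ≤ U) (_ : x ∈ W) (t : S.X₂.obj.obj (op W)),
      S.g.hom.app (op W) t = S.X₃.obj.map (homOfLE hW).op s := by
  have h1 := (TopCat.Sheaf.isLocallySurjective_iff_epi (C := AddCommGrpCat.{u}) S.g).mpr hS.epi_g
  obtain ⟨W, hW, ⟨t, ht⟩, hxW⟩ := (TopCat.Presheaf.isLocallySurjective_iff S.g.hom).mp h1 U s x hx
  exact ⟨W, hW, hxW, t, ht⟩

include hS in
lemma exists_of_g_eq_zero {V : Opens X} (d : S.X₂.obj.obj (op V))
    (hd : S.g.hom.app (op V) d = 0) : ∃ e : S.X₁.obj.obj (op V), S.f.hom.app (op V) e = d :=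
  TopCat.Sheaf.sections_exact_of_left_exact hS.1 hS.2 d hd

lemma g_f_apply {V : Opens X} (e : S.X₁.obj.obj (op V)) :
    S.g.hom.app (op V) (S.f.hom.app (op V) e) = 0 := by
  have : S.f ≫ S.g = 0 := S.zero
  have h2 : (S.f ≫ S.g).hom.app (op V) e = 0 := by
    rw [this]
    rfl
  exact h2

include hS in
/-- gluing lifts over two compact opens -/
lemma exists_lift_sup (hG : QCFlasque S.X₁) {U : Opens X} (s : S.X₃.obj.obj (op U))
    (V₁ V₂ : Opens X) (h₁ : V₁ ≤ U) (h₂ : V₂ ≤ U) (hc₂ : IsCompact (V₂ : Set X))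
    (hc₁₂ : IsCompact ((V₁ ⊓ V₂ : Opens X) : Set X))
    (t₁ : S.X₂.obj.obj (op V₁)) (ht₁ : S.g.hom.app (op V₁) t₁ = S.X₃.obj.map (homOfLE h₁).op s)
    (t₂ : S.X₂.obj.obj (op V₂)) (ht₂ : S.g.hom.app (op V₂) t₂ = S.X₃.obj.map (homOfLE h₂).op s) :
    ∃ t : S.X₂.obj.obj (op (V₁ ⊔ V₂)),
      S.g.hom.app (op (V₁ ⊔ V₂)) t = S.X₃.obj.map (homOfLE (sup_le h₁ h₂)).op s := by
  obtain ⟨d, hd⟩ : ∃ d, d = S.X₂.obj.map (homOfLE (inf_le_left : V₁ ⊓ V₂ ≤ V₁)).op t₁ -
    S.X₂.obj.map (homOfLE (inf_le_right : V₁ ⊓ V₂ ≤ V₂)).op t₂ := ⟨_, rfl⟩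
  have hgd : S.g.hom.app (op (V₁ ⊓ V₂)) d = 0 := by
    rw [hd, map_sub, hom_res, hom_res, ht₁, ht₂, res_res, res_res, sub_eq_zero]
  obtain ⟨e, he⟩ := exists_of_g_eq_zero hS d hgd
  obtain ⟨e', he'⟩ := hG (V₁ ⊓ V₂) V₂ inf_le_right hc₁₂ hc₂ e
  obtain ⟨t, ht1, ht2⟩ := Groth.Agent.Helper1.MVSurj.glue₂ S.X₂ V₁ V₂ t₁
    (t₂ + S.f.hom.app (op V₂) e') (by
      rw [map_add, ← hom_res, he', he, hd]
      abel)
  refine ⟨t, ?_⟩
  have hcov : V₁ ⊔ V₂ ≤ ⨆ b : Bool, (if b then V₁ else V₂) := by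
    apply sup_le
    · exact le_iSup (fun b : Bool => if b then V₁ else V₂) true
    · exact le_iSup (fun b : Bool => if b then V₁ else V₂) false
  refine eq_of_cover S.X₃ (fun b : Bool => if b then V₁ else V₂) (V₁ ⊔ V₂)
    (fun b => by cases b <;> simp) hcov _ _ (fun b => ?_)
  cases b
  · show S.X₃.obj.map (homOfLE (le_sup_right : V₂ ≤ V₁ ⊔ V₂)).op _ =
      S.X₃.obj.map (homOfLE (le_sup_right : V₂ ≤ V₁ ⊔ V₂)).op _
    rw [← hom_res, ht2, map_add, ht₂, g_f_apply, add_zero, res_res]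
  · show S.X₃.obj.map (homOfLE (le_sup_left : V₁ ≤ V₁ ⊔ V₂)).op _ =
      S.X₃.obj.map (homOfLE (le_sup_left : V₁ ≤ V₁ ⊔ V₂)).op _
    rw [← hom_res, ht1, ht₁, res_res]

include hS in
/-- sections of the quotient lift over compact opens when the kernel is qc-flasque -/
theorem surjective_of_qcFlasque [PrespectralSpace X] [QuasiSeparatedSpace X]
    (hG : QCFlasque S.X₁) (U : Opens X) (hU : IsCompact (U : Set X)) :
    Function.Surjective (S.g.hom.app (op U)) := by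
  intro s
  choose W hW hxW t ht using fun x : U => exists_local_lift hS s x.1 x.2
  choose K hKc hxK hKW using fun x : U => exists_compact_nhd (W x) x.1 (hxW x)
  obtain ⟨T, hT⟩ := hU.elim_finite_subcover (fun x : U => (K x : Set X)) (fun x => (K x).isOpen)
    (fun x hx => Set.mem_iUnion.2 ⟨⟨x, hx⟩, hxK ⟨x, hx⟩⟩)
  have hKU : ∀ x : U, K x ≤ U := fun x => (hKW x).trans (hW x)
  have hcov : U ≤ T.sup K := by
    intro y hy
    obtain ⟨x, hx⟩ := Set.mem_iUnion.1 (hT hy)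
    obtain ⟨hxT, hyx⟩ := Set.mem_iUnion.1 hx
    exact (Finset.le_sup (f := K) hxT) hyx
  have key : IsCompact ((T.sup K : Opens X) : Set X) ∧ ∃ (hV : T.sup K ≤ U)
      (r : S.X₂.obj.obj (op (T.sup K))),
      S.g.hom.app (op (T.sup K)) r = S.X₃.obj.map (homOfLE hV).op s := by
    refine Finset.sup_induction (p := fun V : Opens X => IsCompact (V : Set X) ∧ ∃ (hV : V ≤ U)
      (r : S.X₂.obj.obj (op V)), S.g.hom.app (op V) r = S.X₃.obj.map (homOfLE hV).op s) ?_ ?_ ?_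
    · refine ⟨by simp, bot_le, 0, ?_⟩
      refine eq_of_cover S.X₃ (fun k : PEmpty.{1} => (PEmpty.elim k : Opens X)) ⊥
        (fun k => PEmpty.elim k) bot_le _ _ (fun k => PEmpty.elim k)
    · rintro V₁ ⟨hc₁, h₁, r₁, hr₁⟩ V₂ ⟨hc₂, h₂, r₂, hr₂⟩
      refine ⟨?_, sup_le h₁ h₂, ?_⟩
      · rw [Opens.coe_sup]
        exact hc₁.union hc₂
      · exact exists_lift_sup hS hG s V₁ V₂ h₁ h₂ hc₂
          (QuasiSeparatedSpace.inter_isCompact _ _ V₁.isOpen hc₁ V₂.isOpen hc₂) r₁ hr₁ r₂ hr₂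
    · intro x _
      refine ⟨hKc x, hKU x, S.X₂.obj.map (homOfLE (hKW x)).op (t x), ?_⟩
      rw [hom_res, ht, res_res]
  obtain ⟨-, hV, r, hr⟩ := key
  refine ⟨S.X₂.obj.map (homOfLE hcov).op r, ?_⟩
  rw [hom_res, hr, res_res]
  have : (homOfLE (hcov.trans hV)).op = 𝟙 (op U) := rfl
  rw [this, S.X₃.obj.map_id]
  rfl

include hS in
/-- the quotient of a qc-flasque sheaf inside a qc-flasque sheaf is qc-flasque -/
lemma qcFlasque_X₃ [PrespectralSpace X] [QuasiSeparatedSpace X]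
    (hG : QCFlasque S.X₁) (hI : QCFlasque S.X₂) : QCFlasque S.X₃ := by
  intro V W h hV hW s
  obtain ⟨t, ht⟩ := surjective_of_qcFlasque hS hG V hV s
  obtain ⟨t', ht'⟩ := hI V W h hV hW t
  refine ⟨S.g.hom.app (op W) t', ?_⟩
  rw [← hom_res, ht', ht]

open Groth.Agent.Lead.CohTopB Abelian in
/-- qc-flasque sheaves are acyclic on compact opens -/
theorem ext_eq_zero_of_qcFlasque [PrespectralSpace X] [QuasiSeparatedSpace X]
    (U : Opens X) (hU : IsCompact (U : Set X)) :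
    ∀ (n : ℕ) (G : CohTop.Ab X) (_ : QCFlasque G) (x : Ext (freeU U) G (n + 1)), x = 0 := by
  intro n
  induction n with
  | zero =>
    intro G hG x
    have hS := injSC_shortExact G
    have h0 : x.comp (Ext.mk₀ (injSC G).f) (add_zero 1) = 0 := Ext.eq_zero_of_injective _
    obtain ⟨x₃, hx₃⟩ := Ext.covariant_sequence_exact₁ (freeU U) hS x h0 (zero_add 1)
    obtain ⟨q, rfl⟩ := (Ext.mk₀_bijective (freeU U) (injSC G).X₃).2 x₃
    obtain ⟨t, ht⟩ := surjective_of_qcFlasque hS hG U hU (homEquiv U _ q)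
    have hq : (homEquiv U _).symm t ≫ (injSC G).g = q := by
      apply (homEquiv U _).injective
      rw [homEquiv_comp, Equiv.apply_symm_apply]
      exact ht
    rw [← hx₃, ← hq, ← Ext.mk₀_comp_mk₀, Ext.comp_assoc_of_second_deg_zero,
      hS.comp_extClass, Ext.comp_zero]
    rfl
  | succ n ih =>
    intro G hG x
    have hS := injSC_shortExact G
    have hI : TopCat.Sheaf.IsFlasque (injSC G).X₂ := isFlasque_of_injective _
    have hQ : QCFlasque (injSC G).X₃ := qcFlasque_X₃ hS hG (qcFlasque_of_isFlasque _)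
    have h0 : x.comp (Ext.mk₀ (injSC G).f) (add_zero _) = 0 := Ext.eq_zero_of_injective _
    obtain ⟨x₃, hx₃⟩ := Ext.covariant_sequence_exact₁ (freeU U) hS x h0 rfl
    rw [← hx₃, ih _ hQ x₃, Ext.zero_comp]
    rfl

/-! ### Relative versions: everything happens inside a fixed open `U₀` -/

/-- restriction maps between compact opens inside `U₀` are surjective -/
def QCFlasqueOn (U₀ : Opens X) (G : CohTop.Ab X) : Prop :=
  ∀ (V W : Opens X) (h : V ≤ W), W ≤ U₀ → IsCompact (V : Set X) → IsCompact (W : Set X) →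
    Function.Surjective (G.obj.map (homOfLE h).op)

lemma qcFlasqueOn_of_isFlasque (U₀ : Opens X) (G : CohTop.Ab X) [hG : TopCat.Sheaf.IsFlasque G] :
    QCFlasqueOn U₀ G := by
  intro V W h _ _ _
  have := hG.epi (homOfLE h).op
  exact (AddCommGrpCat.epi_iff_surjective _).1 this

include hS in
/-- sections of the quotient lift over compact opens inside `U₀` when the kernel is qc-flasque on
`U₀` -/
theorem surjective_of_qcFlasqueOn [PrespectralSpace X] {U₀ : Opens X}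
    (hqs : IsQuasiSeparated (U₀ : Set X))
    (hG : QCFlasqueOn U₀ S.X₁) (U : Opens X) (hUU₀ : U ≤ U₀) (hU : IsCompact (U : Set X)) :
    Function.Surjective (S.g.hom.app (op U)) := by
  intro s
  choose W hW hxW t ht using fun x : U => exists_local_lift hS s x.1 x.2
  choose K hKc hxK hKW using fun x : U => exists_compact_nhd (W x) x.1 (hxW x)
  obtain ⟨T, hT⟩ := hU.elim_finite_subcover (fun x : U => (K x : Set X)) (fun x => (K x).isOpen)
    (fun x hx => Set.mem_iUnion.2 ⟨⟨x, hx⟩, hxK ⟨x, hx⟩⟩)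
  have hKU : ∀ x : U, K x ≤ U := fun x => (hKW x).trans (hW x)
  have hcov : U ≤ T.sup K := by
    intro y hy
    obtain ⟨x, hx⟩ := Set.mem_iUnion.1 (hT hy)
    obtain ⟨hxT, hyx⟩ := Set.mem_iUnion.1 hx
    exact (Finset.le_sup (f := K) hxT) hyx
  have key : IsCompact ((T.sup K : Opens X) : Set X) ∧ ∃ (hV : T.sup K ≤ U)
      (r : S.X₂.obj.obj (op (T.sup K))),
      S.g.hom.app (op (T.sup K)) r = S.X₃.obj.map (homOfLE hV).op s := by
    refine Finset.sup_induction (p := fun V : Opens X => IsCompact (V : Set X) ∧ ∃ (hV : V ≤ U)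
      (r : S.X₂.obj.obj (op V)), S.g.hom.app (op V) r = S.X₃.obj.map (homOfLE hV).op s) ?_ ?_ ?_
    · refine ⟨by simp, bot_le, 0, ?_⟩
      refine eq_of_cover S.X₃ (fun k : PEmpty.{1} => (PEmpty.elim k : Opens X)) ⊥
        (fun k => PEmpty.elim k) bot_le _ _ (fun k => PEmpty.elim k)
    · rintro V₁ ⟨hc₁, h₁, r₁, hr₁⟩ V₂ ⟨hc₂, h₂, r₂, hr₂⟩
      refine ⟨?_, sup_le h₁ h₂, ?_⟩
      · rw [Opens.coe_sup]
        exact hc₁.union hc₂
      · have hc₁₂ : IsCompact ((V₁ ⊓ V₂ : Opens X) : Set X) :=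
          hqs _ _ (h₁.trans hUU₀) V₁.isOpen hc₁ (h₂.trans hUU₀) V₂.isOpen hc₂
        obtain ⟨d, hd⟩ : ∃ d, d = S.X₂.obj.map (homOfLE (inf_le_left : V₁ ⊓ V₂ ≤ V₁)).op r₁ -
          S.X₂.obj.map (homOfLE (inf_le_right : V₁ ⊓ V₂ ≤ V₂)).op r₂ := ⟨_, rfl⟩
        have hgd : S.g.hom.app (op (V₁ ⊓ V₂)) d = 0 := by
          rw [hd, map_sub, hom_res, hom_res, hr₁, hr₂, res_res, res_res, sub_eq_zero]
        obtain ⟨e, he⟩ := exists_of_g_eq_zero hS d hgd
        obtain ⟨e', he'⟩ := hG (V₁ ⊓ V₂) V₂ inf_le_right (h₂.trans hUU₀) hc₁₂ hc₂ e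
        obtain ⟨t, ht1, ht2⟩ := Groth.Agent.Helper1.MVSurj.glue₂ S.X₂ V₁ V₂ r₁
          (r₂ + S.f.hom.app (op V₂) e') (by
            rw [map_add, ← hom_res, he', he, hd]
            abel)
        refine ⟨t, ?_⟩
        have hcov' : V₁ ⊔ V₂ ≤ ⨆ b : Bool, (if b then V₁ else V₂) := by
          apply sup_le
          · exact le_iSup (fun b : Bool => if b then V₁ else V₂) true
          · exact le_iSup (fun b : Bool => if b then V₁ else V₂) false
        refine eq_of_cover S.X₃ (fun b : Bool => if b then V₁ else V₂) (V₁ ⊔ V₂)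
          (fun b => by cases b <;> simp) hcov' _ _ (fun b => ?_)
        cases b
        · show S.X₃.obj.map (homOfLE (le_sup_right : V₂ ≤ V₁ ⊔ V₂)).op _ =
            S.X₃.obj.map (homOfLE (le_sup_right : V₂ ≤ V₁ ⊔ V₂)).op _
          rw [← hom_res, ht2, map_add, hr₂, g_f_apply, add_zero, res_res]
        · show S.X₃.obj.map (homOfLE (le_sup_left : V₁ ≤ V₁ ⊔ V₂)).op _ =
            S.X₃.obj.map (homOfLE (le_sup_left : V₁ ≤ V₁ ⊔ V₂)).op _
          rw [← hom_res, ht1, hr₁, res_res]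
    · intro x _
      refine ⟨hKc x, hKU x, S.X₂.obj.map (homOfLE (hKW x)).op (t x), ?_⟩
      rw [hom_res, ht, res_res]
  obtain ⟨-, hV, r, hr⟩ := key
  refine ⟨S.X₂.obj.map (homOfLE hcov).op r, ?_⟩
  rw [hom_res, hr, res_res]
  have : (homOfLE (hcov.trans hV)).op = 𝟙 (op U) := rfl
  rw [this, S.X₃.obj.map_id]
  rfl

include hS in
lemma qcFlasqueOn_X₃ [PrespectralSpace X] {U₀ : Opens X} (hqs : IsQuasiSeparated (U₀ : Set X))
    (hG : QCFlasqueOn U₀ S.X₁) (hI : QCFlasqueOn U₀ S.X₂) : QCFlasqueOn U₀ S.X₃ := by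
  intro V W h hW hV hWc s
  obtain ⟨t, ht⟩ := surjective_of_qcFlasqueOn hS hqs hG V (h.trans hW) hV s
  obtain ⟨t', ht'⟩ := hI V W h hW hV hWc t
  refine ⟨S.g.hom.app (op W) t', ?_⟩
  rw [← hom_res, ht', ht]

open Groth.Agent.Lead.CohTopB Abelian in
/-- sheaves qc-flasque on a compact quasi-separated open `U` are acyclic on `U` -/
theorem ext_eq_zero_of_qcFlasqueOn [PrespectralSpace X]
    (U : Opens X) (hU : IsCompact (U : Set X)) (hqs : IsQuasiSeparated (U : Set X)) :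
    ∀ (n : ℕ) (G : CohTop.Ab X) (_ : QCFlasqueOn U G) (x : Ext (freeU U) G (n + 1)), x = 0 := by
  intro n
  induction n with
  | zero =>
    intro G hG x
    have hS := injSC_shortExact G
    have h0 : x.comp (Ext.mk₀ (injSC G).f) (add_zero 1) = 0 := Ext.eq_zero_of_injective _
    obtain ⟨x₃, hx₃⟩ := Ext.covariant_sequence_exact₁ (freeU U) hS x h0 (zero_add 1)
    obtain ⟨q, rfl⟩ := (Ext.mk₀_bijective (freeU U) (injSC G).X₃).2 x₃
    obtain ⟨t, ht⟩ := surjective_of_qcFlasqueOn hS hqs hG U le_rfl hU (homEquiv U _ q)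
    have hq : (homEquiv U _).symm t ≫ (injSC G).g = q := by
      apply (homEquiv U _).injective
      rw [homEquiv_comp, Equiv.apply_symm_apply]
      exact ht
    rw [← hx₃, ← hq, ← Ext.mk₀_comp_mk₀, Ext.comp_assoc_of_second_deg_zero,
      hS.comp_extClass, Ext.comp_zero]
    rfl
  | succ n ih =>
    intro G hG x
    have hS := injSC_shortExact G
    have hI : TopCat.Sheaf.IsFlasque (injSC G).X₂ := isFlasque_of_injective _
    have hQ : QCFlasqueOn U (injSC G).X₃ :=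
      qcFlasqueOn_X₃ hS hqs hG (qcFlasqueOn_of_isFlasque U _)
    have h0 : x.comp (Ext.mk₀ (injSC G).f) (add_zero _) = 0 := Ext.eq_zero_of_injective _
    obtain ⟨x₃, hx₃⟩ := Ext.covariant_sequence_exact₁ (freeU U) hS x h0 rfl
    rw [← hx₃, ih _ hQ x₃, Ext.zero_comp]
    rfl

end Groth.Agent.Helper1.QCFlasque
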