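import Groth.Agent.Helper1.CechInj

/-!
# Čech cohomology of an injective presheaf vanishes: families in a category with finite products
-/

namespace Groth.Agent.Helper1.CechInj

open CategoryTheory Limits Opposite
open Groth.Agent.Helper1.Cech

universe w v u

section caseA

variable {C : Type u} [Category.{v} C] [LocallySmall.{w} C] [HasFiniteProducts C] {ι : Type w}
  (U : ι → C)

/-- description of `Sob` as tuples of points -/
noncomputable def eA (V : C) (n : ℕ) :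
    Sob U (𝟭 C) n V ≃ W (fun _ : (Σ i, (V ⟶ U i)) => PUnit.unit.{1}) n where
  toFun s := ⟨fun k => ⟨s.1 k, (homS s : V ⟶ prodU U s.1) ≫ Pi.π (U ∘ s.1) k⟩, fun _ => rfl⟩
  invFun t := mkS (fun k => (t.1 k).1) (Pi.lift (fun k => (t.1 k).2) : V ⟶ prodU U _)
  left_inv s := by
    conv_rhs => rw [← mkS_homS s]
    have : (Pi.lift (fun k => (homS s : V ⟶ prodU U s.1) ≫ Pi.π (U ∘ s.1) k) :
        V ⟶ prodU U s.1) = homS s := by
      apply Pi.hom_ext
      intro k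
      simp
    exact congrArg (mkS s.1) this
  right_inv t := by
    apply Subtype.ext
    funext k
    simp

lemma eA_dS (V : C) (n : ℕ) (j : Fin (n + 2)) (s : Sob U (𝟭 C) (n + 1) V) :
    (eA U V n (dS j s)).1 = (eA U V (n + 1) s).1 ∘ j.succAbove := by
  funext k
  simp [eA, dS, face]

theorem exists_of_cocycle_self (I : Cᵒᵖ ⥤ AddCommGrpCat.{w}) [Injective I] (p : ℕ)
    (c : (cx U I).X (p + 1)) (hc : (cx U I).d (p + 1) (p + 2) c = 0) :
    ∃ b : (cx U I).X p, (cx U I).d p (p + 1) b = c :=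
  exists_of_cocycle U (𝟭 C) I (fun V => ⟨ExtraDeg.ofEquiv _ (eA U V) (eA_dS U V)⟩) p c hc

end caseA

section caseB

variable {C : Type u} [Category.{v} C] [LocallySmall.{w} C] {U₀ : C} [HasFiniteProducts (Over U₀)]
  {ι : Type w} (Y : ι → Over U₀)

/-- the structure map of a point -/
def aB (V : C) : (Σ i, (V ⟶ (Y i).left)) → (V ⟶ U₀) := fun p => p.2 ≫ (Y p.1).hom

lemma lift_left_eq {V : C} {n : ℕ} (x : Fin (n + 1) → ι) (g : V ⟶ (prodU Y x).left) (f : V ⟶ U₀)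
    (hf : g ≫ (prodU Y x).hom = f)
    (w : ∀ k, (g ≫ (Pi.π (Y ∘ x) k).left) ≫ (Y (x k)).hom = f) :
    (Pi.lift (fun k => (Over.homMk (g ≫ (Pi.π (Y ∘ x) k).left) (w k) :
      Over.mk f ⟶ (Y ∘ x) k)) : Over.mk f ⟶ prodU Y x).left = g := by
  have : (Pi.lift (fun k => (Over.homMk (g ≫ (Pi.π (Y ∘ x) k).left) (w k) :
      Over.mk f ⟶ (Y ∘ x) k)) : Over.mk f ⟶ prodU Y x) = Over.homMk g hf := by
    apply Pi.hom_ext
    intro k
    rw [Pi.lift_π]
    apply Over.OverMorphism.ext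
    simp
  rw [this]
  rfl

lemma lift_π_left {V : C} {n : ℕ} (x : Fin (n + 1) → ι) (f : V ⟶ U₀)
    (m : ∀ k, Over.mk f ⟶ (Y ∘ x) k) (k : Fin (n + 1)) :
    (Pi.lift m : Over.mk f ⟶ prodU Y x).left ≫ (Pi.π (Y ∘ x) k).left = (m k).left := by
  rw [← Over.comp_left, Pi.lift_π]

lemma face_π_left {n : ℕ} (j : Fin (n + 2)) (x : Fin (n + 2) → ι) (k : Fin (n + 1)) :
    (face Y j x).left ≫ (Pi.π (Y ∘ (x ∘ j.succAbove)) k).left =
      (Pi.π (Y ∘ x) (j.succAbove k)).left := by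
  rw [← Over.comp_left]
  unfold face
  rw [Pi.lift_π]

/-- typed version of `homS` -/
noncomputable def homB {n : ℕ} {V : C} (s : Sob Y (Over.forget U₀) n V) :
    V ⟶ (prodU Y s.1).left := homS s

/-- typed version of `mkS` -/
noncomputable def mkB {n : ℕ} {V : C} (x : Fin (n + 1) → ι) (g : V ⟶ (prodU Y x).left) :
    Sob Y (Over.forget U₀) n V := mkS x g

lemma mkB_fst {n : ℕ} {V : C} (x : Fin (n + 1) → ι) (g : V ⟶ (prodU Y x).left) :
    (mkB Y x g).1 = x := rfl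

lemma homB_mkB {n : ℕ} {V : C} (x : Fin (n + 1) → ι) (g : V ⟶ (prodU Y x).left) :
    homB Y (mkB Y x g) = g := homS_mkS _ _

lemma mkB_homB {n : ℕ} {V : C} (s : Sob Y (Over.forget U₀) n V) : mkB Y s.1 (homB Y s) = s :=
  mkS_homS s

lemma homB_dS {n : ℕ} {V : C} (j : Fin (n + 2)) (s : Sob Y (Over.forget U₀) (n + 1) V) :
    homB Y (dS j s) = homB Y s ≫ (face Y j s.1).left := homS_mkS _ _

/-- description of `Sob` as tuples of points over the same map to the base -/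
noncomputable def eB (V : C) (n : ℕ) : Sob Y (Over.forget U₀) n V ≃ W (aB Y V) n where
  toFun s := ⟨fun k => ⟨s.1 k, homB Y s ≫ (Pi.π (Y ∘ s.1) k).left⟩, by
    intro k
    simp [aB, Over.w]⟩
  invFun t := mkB Y (fun k => (t.1 k).1)
    ((Pi.lift (fun k => (Over.homMk (t.1 k).2 (t.2 k) :
      Over.mk (aB Y V (t.1 0)) ⟶ Y (t.1 k).1)) : Over.mk (aB Y V (t.1 0)) ⟶ prodU Y _).left)
  left_inv s := by
    conv_rhs => rw [← mkB_homB Y s]
    exact congrArg (mkB Y s.1) (lift_left_eq Y s.1 (homB Y s) _ (by simp [aB, Over.w]) _)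
  right_inv t := by
    apply Subtype.ext
    funext k
    refine Sigma.ext rfl (heq_of_eq ?_)
    show homB Y (mkB Y _ _) ≫ _ = _
    rw [homB_mkB]
    exact lift_π_left Y (fun k => (t.1 k).1) (aB Y V (t.1 0))
      (fun k => (Over.homMk (t.1 k).2 (t.2 k) : Over.mk (aB Y V (t.1 0)) ⟶ Y (t.1 k).1)) k

lemma eB_dS (V : C) (n : ℕ) (j : Fin (n + 2)) (s : Sob Y (Over.forget U₀) (n + 1) V) :
    (eB Y V n (dS j s)).1 = (eB Y V (n + 1) s).1 ∘ j.succAbove := by
  funext k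
  refine Sigma.ext rfl (heq_of_eq ?_)
  show homB Y (dS j s) ≫ (Pi.π (Y ∘ (s.1 ∘ j.succAbove)) k).left =
    homB Y s ≫ (Pi.π (Y ∘ s.1) (j.succAbove k)).left
  exact (congrArg (· ≫ (Pi.π (Y ∘ (s.1 ∘ j.succAbove)) k).left) (homB_dS Y j s)).trans
    ((Category.assoc _ _ _).trans (congrArg (homB Y s ≫ ·) (face_π_left Y j s.1 k)))

theorem exists_of_cocycle_over (I : Cᵒᵖ ⥤ AddCommGrpCat.{w}) [Injective I] (p : ℕ)
    (c : (cx Y ((Over.forget U₀).op ⋙ I)).X (p + 1))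
    (hc : (cx Y ((Over.forget U₀).op ⋙ I)).d (p + 1) (p + 2) c = 0) :
    ∃ b : (cx Y ((Over.forget U₀).op ⋙ I)).X p,
      (cx Y ((Over.forget U₀).op ⋙ I)).d p (p + 1) b = c :=
  exists_of_cocycle Y (Over.forget U₀) I
    (fun V => ⟨ExtraDeg.ofEquiv _ (eB Y V) (eB_dS Y V)⟩) p c hc

end caseB

end Groth.Agent.Helper1.CechInj
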