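import Groth.Agent.Helper1.DeltaFunctor
import Groth.Agent.Helper1.CechLES
import Groth.Agent.Helper1.CechInjA
import Groth.Prelude.Def_EtCech

set_option autoImplicit false

/-!
# Čech cohomology of presheaves is the derived functor of `Ȟ⁰`
-/

namespace Groth.Agent.Helper1.CechDelta
open CategoryTheory Limits Opposite Groth.Agent.Helper1.DeltaFun Groth.Agent.Helper1.Cech

universe w v u
variable {C : Type u} [Category.{v} C] {U : C} [HasFiniteProducts (Over U)] {ι : Type w}
  (Uf : ι → Over U)

/-- restriction of presheaves to the over category -/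
abbrev W : (Cᵒᵖ ⥤ AddCommGrpCat.{w}) ⥤ ((Over U)ᵒᵖ ⥤ AddCommGrpCat.{w}) :=
  (Functor.whiskeringLeft (Over U)ᵒᵖ Cᵒᵖ AddCommGrpCat.{w}).obj (Over.forget U).op

instance : (W (U := U) (C := C)).Additive where

/-- the Čech complex functor on presheaves on `C` -/
noncomputable abbrev K : (Cᵒᵖ ⥤ AddCommGrpCat.{w}) ⥤ CochainComplex AddCommGrpCat.{w} ℕ :=
  W ⋙ cechComplexFunctor Uf

instance : (K Uf).Additive := inferInstanceAs ((W ⋙ cechComplexFunctor Uf).Additive)

lemma hK (S : ShortComplex (Cᵒᵖ ⥤ AddCommGrpCat.{w})) (hS : S.ShortExact) :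
    (S.map (K Uf)).ShortExact := by
  have h : SectionwiseExact Uf (S.map W) := by
    intro n x
    exact hS.map_of_exact ((evaluation Cᵒᵖ AddCommGrpCat.{w}).obj
      (op ((Over.forget U).obj (prodU Uf x))))
  exact shortExact_map_cech h

/-- Čech cohomology as a δ-functor on presheaves -/
noncomputable def cechDelta : DeltaFunctor (Cᵒᵖ ⥤ AddCommGrpCat.{w}) AddCommGrpCat.{w} :=
  ofComplex (K Uf) (hK Uf)

lemma cechDelta_effaceable [LocallySmall.{w} C] : (cechDelta Uf).Effaceable := by
  intro I _ n
  show IsZero (EtCech.cechH Uf I (n + 1))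
  apply Groth.Agent.Helper1.Cech.isZero_homology_of_exists
  intro c hc
  exact Groth.Agent.Helper1.CechInj.exists_of_cocycle_over Uf I n c hc

/-- enough injectives from injective resolutions -/
lemma enoughInjectives_of_hasInjectiveResolutions (A : Type*) [Category A] [Abelian A]
    [HasInjectiveResolutions A] : EnoughInjectives A where
  presentation X := by
    obtain ⟨I⟩ := (HasInjectiveResolutions.out X).out
    exact ⟨{ J := I.cocomplex.X 0
             injective := inferInstance
             f := Horseshoe.aug I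
             mono := inferInstance }⟩

theorem nonempty_iso [LocallySmall.{w} C] [(EtCech.cechHFunctor (C := C) Uf 0).Additive]
    [HasInjectiveResolutions (Cᵒᵖ ⥤ AddCommGrpCat.{w})] (p : ℕ) :
    Nonempty (EtCech.cechHFunctor (C := C) Uf p ≅
      (EtCech.cechHFunctor (C := C) Uf 0).rightDerived p) := by
  haveI := enoughInjectives_of_hasInjectiveResolutions (Cᵒᵖ ⥤ AddCommGrpCat.{w})
  haveI : ((cechDelta Uf).T 0).Additive :=
    inferInstanceAs ((EtCech.cechHFunctor (C := C) Uf 0).Additive)
  haveI : PreservesFiniteLimits ((cechDelta Uf).T 0) := preservesFiniteLimits_H0 (K Uf) (hK Uf)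
  exact nonempty_iso_rightDerived (cechDelta Uf) (cechDelta_effaceable Uf) p

end Groth.Agent.Helper1.CechDelta
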