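import Mathlib
import Groth.Prelude.Def_CohTop
import Groth.Agent.Helper1.ColimSec
import Groth.Agent.Helper1.QCFlasque
import Groth.Agent.Helper1.CohTopExt
import Groth.Agent.Helper1.DeltaPointwise
import Groth.Agent.Helper9.CechEdgeB

/-!
# Cohomology over compact opens commutes with directed colimits (prespectral quasi-separated spaces)
-/

set_option autoImplicit false

namespace Groth.Agent.Helper1.ColimCoh

open CategoryTheory Limits TopologicalSpace Opposite Abelian
open Groth.Agent.Helper1.ColimSec Groth.Agent.Helper1.QCFlasque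
open Groth.Agent.Lead.CohTopB Groth.Agent.Helper1.DeltaFun
open Groth.Agent.Helper1.CechTop Groth.Agent.Helper1.CohTopExt

universe u
variable {X : TopCat.{u}}

section FunCat

variable (J : Type u) [SmallCategory J]

instance : HasSeparator (Jᵒᵖᵒᵖ ⥤ CohTop.Ab X) :=
  Presheaf.hasSeparator (C := Jᵒᵖ) (A := CohTop.Ab X)

instance : IsGrothendieckAbelian.{u} (Jᵒᵖᵒᵖ ⥤ CohTop.Ab X) where
  ab5OfSize := ⟨fun K _ _ => inferInstance⟩

instance isGrothendieckAbelian : IsGrothendieckAbelian.{u} (J ⥤ CohTop.Ab X) :=
  IsGrothendieckAbelian.of_equivalence (C := Jᵒᵖᵒᵖ ⥤ CohTop.Ab X)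
    ((opOpEquivalence J).congrLeft)

instance enoughInjectives : EnoughInjectives (J ⥤ CohTop.Ab X) := inferInstance

variable {J}

instance (j : J) : (evaluationLeftAdjoint (CohTop.Ab X) j).PreservesMonomorphisms where
  preserves {A B} f hf := by
    rw [NatTrans.mono_iff_mono_app]
    intro t
    show Mono (Limits.Sigma.desc fun h : (j ⟶ t) => f ≫ Sigma.ι (fun _ => B) h)
    have h : (Limits.Sigma.desc fun h : (j ⟶ t) => f ≫ Sigma.ι (fun _ => B) h) =
        colim.map (Discrete.natTrans (F := Discrete.functor fun _ : (j ⟶ t) => A)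
        (G := Discrete.functor fun _ : (j ⟶ t) => B) (fun _ => f)) := by
      apply Sigma.hom_ext
      intro a
      rw [Sigma.ι_desc]
      exact (ι_colimMap (Discrete.natTrans (F := Discrete.functor fun _ : (j ⟶ t) => A)
        (G := Discrete.functor fun _ : (j ⟶ t) => B) (fun _ => f)) ⟨a⟩).symm
    rw [h]
    have : Mono (Discrete.natTrans (F := Discrete.functor fun _ : (j ⟶ t) => A)
        (G := Discrete.functor fun _ : (j ⟶ t) => B) (fun _ => f)) := by
      rw [NatTrans.mono_iff_mono_app]
      intro a
      exact hf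
    have hp : (colim : (Discrete (j ⟶ t) ⥤ CohTop.Ab X) ⥤ CohTop.Ab X).PreservesMonomorphisms :=
      inferInstance
    exact hp.preserves _

/-- the values of an injective diagram of abelian sheaves are injective -/
instance injective_obj (E : J ⥤ CohTop.Ab X) [Injective E] (j : J) : Injective (E.obj j) :=
  Injective.injective_of_adjoint (evaluationAdjunctionRight (CohTop.Ab X) j) E

end FunCat

variable {ι : Type u} [Preorder ι] [IsDirected ι (· ≤ ·)] [Nonempty ι]

/-- sections over a compact open commute with directed colimits -/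
noncomputable def isColimitMapCoconeSections [PrespectralSpace X] [QuasiSeparatedSpace X]
    {F : ι ⥤ CohTop.Ab X} {c : Cocone F} (hc : IsColimit c) (U : Opens X)
    (hU : IsCompact (U : Set X)) : IsColimit ((sectionsFunctor U).mapCocone c) := by
  have : ReflectsColimitsOfShape ι (forget AddCommGrpCat.{u}) :=
    reflectsColimitsOfShape_of_reflectsIsomorphisms
  refine isColimitOfReflects (forget AddCommGrpCat.{u}) ?_
  refine Types.FilteredColimit.isColimitOf _ _ ?_ ?_
  · intro s
    obtain ⟨i, t, ht⟩ := exists_rep_of_isCompact hc hU (s : c.pt.obj.obj (op U))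
    exact ⟨i, t, ht.symm⟩
  · intro i j xi xj h
    obtain ⟨m, him, hjm⟩ := directed_of (· ≤ ·) i j
    have h' : (c.ι.app i).hom.app (op U) xi = (c.ι.app j).hom.app (op U) xj := h
    have h0 : (c.ι.app m).hom.app (op U) ((F.map (homOfLE him)).hom.app (op U) xi -
        (F.map (homOfLE hjm)).hom.app (op U) xj) = 0 := by
      rw [map_sub, ι_map_apply, ι_map_apply, h', sub_self]
    obtain ⟨k, hmk, hk⟩ := exists_zero_of_isCompact hc hU _ h0
    rw [map_sub, map_map_apply, map_map_apply, sub_eq_zero] at hk
    exact ⟨k, homOfLE (him.trans hmk), homOfLE (hjm.trans hmk), hk⟩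

/-- a directed colimit of flasque sheaves is qc-flasque -/
lemma qcFlasque_of_isColimit [PrespectralSpace X] [QuasiSeparatedSpace X]
    {E : ι ⥤ CohTop.Ab X} {c : Cocone E} (hc : IsColimit c)
    (hE : ∀ i, TopCat.Sheaf.IsFlasque (E.obj i)) : QCFlasque c.pt := by
  intro V W h hV hW s
  obtain ⟨i, t, ht⟩ := exists_rep_of_isCompact hc hV s
  have := hE i
  obtain ⟨t', ht'⟩ := qcFlasque_of_isFlasque (E.obj i) V W h hV hW t
  refine ⟨(c.ι.app i).hom.app (op W) t', ?_⟩
  rw [← ι_res, ht', ht]

open Groth.Agent.Helper9.CechEdgeB in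
/-- `H^q(U, -)` commutes with directed colimits for compact `U` -/
theorem isIso_post_ext [PrespectralSpace X] [QuasiSeparatedSpace X] (U : Opens X)
    (hU : IsCompact (U : Set X)) (q : ℕ) (F : ι ⥤ CohTop.Ab X) :
    IsIso (colimit.post F (extFunctorObj (freeU U) q)) := by
  refine DeltaFunctor.isIso_post (J := ι) (extDeltaM.{u} (freeU U)) ?_ ?_ ?_ q F
  · intro F
    have h1 : PreservesColimit F (sectionsFunctor U) :=
      preservesColimit_of_preserves_colimit_cocone (colimit.isColimit F)
        (isColimitMapCoconeSections (colimit.isColimit F) U hU)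
    have h2 : PreservesColimit F (extFunctorObj (freeU U) 0) :=
      preservesColimit_of_natIso F ((Functor.leftUnitor _).symm ≪≫ ext0Iso U).symm
    exact (inferInstance : IsIso (colimit.post F (extFunctorObj (freeU U) 0)))
  · intro E _ n
    have h := qcFlasque_of_isColimit (colimit.isColimit E)
      (fun i => isFlasque_of_injective (E.obj i))
    have : Subsingleton ((extFunctorObj (freeU U) (n + 1)).obj (colimit E)) :=
      subsingleton_of_forall_eq 0 fun x => ext_eq_zero_of_qcFlasque U hU n _ h x
    exact AddCommGrpCat.isZero_of_subsingleton ((extFunctorObj (freeU U) (n + 1)).obj (colimit E))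
  · intro E _ n j
    have : Subsingleton ((extFunctorObj (freeU U) (n + 1)).obj (E.obj j)) :=
      subsingleton_of_forall_eq 0 fun x => Ext.eq_zero_of_injective (C := CohTop.Ab X) x
    exact AddCommGrpCat.isZero_of_subsingleton ((extFunctorObj (freeU U) (n + 1)).obj (E.obj j))

/-! ### Relative versions (only the compact open `U` is assumed quasi-separated) -/

/-- sections over a compact quasi-separated open commute with directed colimits -/
noncomputable def isColimitMapCoconeSections' [PrespectralSpace X]
    {F : ι ⥤ CohTop.Ab X} {c : Cocone F} (hc : IsColimit c) (U : Opens X)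
    (hU : IsCompact (U : Set X)) (hqs : IsQuasiSeparated (U : Set X)) :
    IsColimit ((sectionsFunctor U).mapCocone c) := by
  have : ReflectsColimitsOfShape ι (forget AddCommGrpCat.{u}) :=
    reflectsColimitsOfShape_of_reflectsIsomorphisms
  refine isColimitOfReflects (forget AddCommGrpCat.{u}) ?_
  refine Types.FilteredColimit.isColimitOf _ _ ?_ ?_
  · intro s
    obtain ⟨i, t, ht⟩ := exists_rep_of_isCompact' hc hU hqs (s : c.pt.obj.obj (op U))
    exact ⟨i, t, ht.symm⟩
  · intro i j xi xj h
    obtain ⟨m, him, hjm⟩ := directed_of (· ≤ ·) i j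
    have h' : (c.ι.app i).hom.app (op U) xi = (c.ι.app j).hom.app (op U) xj := h
    have h0 : (c.ι.app m).hom.app (op U) ((F.map (homOfLE him)).hom.app (op U) xi -
        (F.map (homOfLE hjm)).hom.app (op U) xj) = 0 := by
      rw [map_sub, ι_map_apply, ι_map_apply, h', sub_self]
    obtain ⟨k, hmk, hk⟩ := exists_zero_of_isCompact hc hU _ h0
    rw [map_sub, map_map_apply, map_map_apply, sub_eq_zero] at hk
    exact ⟨k, homOfLE (him.trans hmk), homOfLE (hjm.trans hmk), hk⟩

/-- a directed colimit of flasque sheaves is qc-flasque on a quasi-separated open -/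
lemma qcFlasqueOn_of_isColimit [PrespectralSpace X] (U₀ : Opens X)
    (hqs : IsQuasiSeparated (U₀ : Set X))
    {E : ι ⥤ CohTop.Ab X} {c : Cocone E} (hc : IsColimit c)
    (hE : ∀ i, TopCat.Sheaf.IsFlasque (E.obj i)) : QCFlasqueOn U₀ c.pt := by
  intro V W h hW hV hWc s
  obtain ⟨i, t, ht⟩ := exists_rep_of_isCompact' hc hV (hqs.of_subset (h.trans hW)) s
  have := hE i
  obtain ⟨t', ht'⟩ := qcFlasqueOn_of_isFlasque U₀ (E.obj i) V W h hW hV hWc t
  refine ⟨(c.ι.app i).hom.app (op W) t', ?_⟩
  rw [← ι_res, ht', ht]

open Groth.Agent.Helper9.CechEdgeB in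
/-- `H^q(U, -)` commutes with directed colimits for compact quasi-separated `U` -/
theorem isIso_post_ext' [PrespectralSpace X] (U : Opens X)
    (hU : IsCompact (U : Set X)) (hqs : IsQuasiSeparated (U : Set X)) (q : ℕ)
    (F : ι ⥤ CohTop.Ab X) :
    IsIso (colimit.post F (extFunctorObj (freeU U) q)) := by
  refine DeltaFunctor.isIso_post (J := ι) (extDeltaM.{u} (freeU U)) ?_ ?_ ?_ q F
  · intro F
    have h1 : PreservesColimit F (sectionsFunctor U) :=
      preservesColimit_of_preserves_colimit_cocone (colimit.isColimit F)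
        (isColimitMapCoconeSections' (colimit.isColimit F) U hU hqs)
    have h2 : PreservesColimit F (extFunctorObj (freeU U) 0) :=
      preservesColimit_of_natIso F ((Functor.leftUnitor _).symm ≪≫ ext0Iso U).symm
    exact (inferInstance : IsIso (colimit.post F (extFunctorObj (freeU U) 0)))
  · intro E _ n
    have h := qcFlasqueOn_of_isColimit U hqs (colimit.isColimit E)
      (fun i => isFlasque_of_injective (E.obj i))
    have : Subsingleton ((extFunctorObj (freeU U) (n + 1)).obj (colimit E)) :=
      subsingleton_of_forall_eq 0 fun x => ext_eq_zero_of_qcFlasqueOn U hU hqs n _ h x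
    exact AddCommGrpCat.isZero_of_subsingleton ((extFunctorObj (freeU U) (n + 1)).obj (colimit E))
  · intro E _ n j
    have : Subsingleton ((extFunctorObj (freeU U) (n + 1)).obj (E.obj j)) :=
      subsingleton_of_forall_eq 0 fun x => Ext.eq_zero_of_injective (C := CohTop.Ab X) x
    exact AddCommGrpCat.isZero_of_subsingleton ((extFunctorObj (freeU U) (n + 1)).obj (E.obj j))

/-- `H^q(U, -)` preserves directed colimits for compact quasi-separated `U` -/
theorem preservesColimitsOfShape_cohomology [PrespectralSpace X] (U : Opens X)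
    (hU : IsCompact (U : Set X)) (hqs : IsQuasiSeparated (U : Set X)) (q : ℕ) :
    PreservesColimitsOfShape ι
      ((Sheaf.cohomologyPresheafFunctor (Opens.grothendieckTopology X) q).flip.obj (op U) :
        CohTop.Ab X ⥤ AddCommGrpCat.{u}) := by
  constructor
  intro F
  have h : IsIso (colimit.post F ((Sheaf.cohomologyPresheafFunctor (Opens.grothendieckTopology X)
      q).flip.obj (op U) : CohTop.Ab X ⥤ AddCommGrpCat.{u})) :=
    isIso_post_ext' U hU hqs q F
  exact preservesColimit_of_isIso_post _ _

end Groth.Agent.Helper1.ColimCoh
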