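import Mathlib

set_option autoImplicit false

/-!
# Sheafified presheaf-valued functors preserve a colimit as soon as they do so on a basis
-/

namespace Groth.Agent.Helper1.ColimSheafify

open CategoryTheory Limits TopologicalSpace Opposite

universe u v₁ u₁

variable {Y : TopCat.{u}}

/-- a morphism of abelian presheaves that is bijective on a basis becomes an isomorphism after
sheafification -/
lemma isIso_sheafify_map_of_basis {P Q : (Opens Y)ᵒᵖ ⥤ AddCommGrpCat.{u}} (φ : P ⟶ Q)
    (B : Set (Opens Y)) (hB : Opens.IsBasis B) (h : ∀ V ∈ B, IsIso (φ.app (op V))) :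
    IsIso ((presheafToSheaf (Opens.grothendieckTopology Y) AddCommGrpCat.{u}).map φ) := by
  rw [Opens.isBasis_iff_nbhd] at hB
  have hbij : ∀ V ∈ B, Function.Bijective (φ.app (op V)) := fun V hV => by
    have := h V hV
    exact ConcreteCategory.bijective_of_isIso (φ.app (op V))
  have hinj : Presheaf.IsLocallyInjective (Opens.grothendieckTopology Y) φ := by
    constructor
    intro U x y hxy z hz
    obtain ⟨V, hVB, hzV, hVU⟩ := hB hz
    refine ⟨V, homOfLE hVU, ?_, hzV⟩
    rw [Presheaf.equalizerSieve_apply]
    apply (hbij V hVB).1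
    rw [NatTrans.naturality_apply, NatTrans.naturality_apply, hxy]
  have hsurj : Presheaf.IsLocallySurjective (Opens.grothendieckTopology Y) φ := by
    constructor
    intro U s z hz
    obtain ⟨V, hVB, hzV, hVU⟩ := hB hz
    refine ⟨V, homOfLE hVU, ?_, hzV⟩
    rw [Presheaf.imageSieve_apply]
    exact (hbij V hVB).2 _
  rw [← GrothendieckTopology.W_iff]
  exact GrothendieckTopology.W_of_isLocallyBijective _ φ

variable {A : Type u₁} [Category.{v₁} A] {ι : Type u} [SmallCategory ι]

/-- if `R ⋙ ev_V` preserves the colimit of `F` for `V` in a basis, then `R ⋙ sheafify` preserves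
the colimit of `F` -/
theorem preservesColimit_comp_sheafify (R : A ⥤ ((Opens Y)ᵒᵖ ⥤ AddCommGrpCat.{u})) (F : ι ⥤ A)
    [HasColimit F] (B : Set (Opens Y)) (hB : Opens.IsBasis B)
    (h : ∀ V ∈ B, PreservesColimit F (R ⋙ (evaluation _ _).obj (op V))) :
    PreservesColimit F (R ⋙ presheafToSheaf (Opens.grothendieckTopology Y) AddCommGrpCat.{u}) := by
  have h1 : ∀ V ∈ B, IsIso ((colimit.post F R).app (op V)) := by
    intro V hV
    have := h V hV
    have e := colimit.post_post F R ((evaluation (Opens Y)ᵒᵖ AddCommGrpCat.{u}).obj (op V))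
    have h3 : IsIso (colimit.post F (R ⋙ (evaluation _ _).obj (op V))) := inferInstance
    rw [← e] at h3
    exact @IsIso.of_isIso_comp_left _ _ _ _ _
      (colimit.post (F ⋙ R) ((evaluation _ _).obj (op V)))
      (((evaluation (Opens Y)ᵒᵖ AddCommGrpCat.{u}).obj (op V)).map (colimit.post F R))
      inferInstance h3
  have h2 := isIso_sheafify_map_of_basis (colimit.post F R) B hB h1
  have e := colimit.post_post F R (presheafToSheaf (Opens.grothendieckTopology Y) AddCommGrpCat.{u})
  have h3 : IsIso (colimit.post F
      (R ⋙ presheafToSheaf (Opens.grothendieckTopology Y) AddCommGrpCat.{u})) := by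
    rw [← e]
    infer_instance
  exact preservesColimit_of_isIso_post _ _

end Groth.Agent.Helper1.ColimSheafify
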