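import Groth.Agent.Helper1.SiteDelta
import Groth.Agent.Helper1.ColimSheafify
import Groth.Prelude.Def_CohTop

set_option autoImplicit false

/-!
# `Rᵖ f_*` preserves a colimit as soon as `Hᵖ(f⁻¹V, -)` does for `V` in a basis
-/

namespace Groth.Agent.Helper1.ColimPush

open CategoryTheory Limits TopologicalSpace Opposite
open Groth.Agent.Helper1.SiteCoh Groth.Agent.Helper1.ColimSheafify

universe u
variable {X Y : TopCat.{u}} (f : X ⟶ Y)

/-- the presheaf-valued functor `G ↦ (V ↦ Hᵖ(f⁻¹V, G))` -/
noncomputable abbrev RR (p : ℕ) : CohTop.Ab X ⥤ ((Opens Y)ᵒᵖ ⥤ AddCommGrpCat.{u}) :=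
  cohPre (Opens.grothendieckTopology X) p ⋙
    (Functor.whiskeringLeft (Opens Y)ᵒᵖ (Opens X)ᵒᵖ AddCommGrpCat.{u}).obj (Opens.map f).op

/-- evaluation of `RR` at `V` is `Hᵖ(f⁻¹V, -)` -/
noncomputable def evIso (p : ℕ) (V : Opens Y) :
    RR f p ⋙ (evaluation _ _).obj (op V) ≅
      (cohPre (Opens.grothendieckTopology X) p).flip.obj (op ((Opens.map f).obj V)) :=
  NatIso.ofComponents (fun _ => Iso.refl _) (by
    intro A A' g
    simp only [Iso.refl_hom, Category.comp_id, Category.id_comp]
    rfl)

theorem preservesColimit_Rpush {ι : Type u} [SmallCategory ι] (F : ι ⥤ CohTop.Ab X) (p : ℕ)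
    (h : Opens.IsBasis {V : Opens Y | PreservesColimit F
        ((Sheaf.cohomologyPresheafFunctor (Opens.grothendieckTopology X) p).flip.obj
          (op ((Opens.map f).obj V)))}) :
    PreservesColimit F (CohTop.Rpush f p) := by
  have e : CohTop.Rpush f p ≅ RR f p ⋙
      presheafToSheaf (Opens.grothendieckTopology Y) AddCommGrpCat.{u} :=
    RpushIso (Opens.grothendieckTopology X) (Opens.grothendieckTopology Y) (Opens.map f) p ≪≫
      (Functor.associator _ _ _).symm
  have key : PreservesColimit F (RR f p ⋙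
      presheafToSheaf (Opens.grothendieckTopology Y) AddCommGrpCat.{u}) := by
    refine preservesColimit_comp_sheafify (RR f p) F _ h (fun V hV => ?_)
    have hV' : PreservesColimit F
        ((Sheaf.cohomologyPresheafFunctor.{u} (Opens.grothendieckTopology X) p).flip.obj
          (op ((Opens.map f).obj V))) := hV
    rw [← cohPre_eq] at hV'
    exact preservesColimit_of_natIso F (evIso f p V).symm
  exact preservesColimit_of_natIso F e.symm

end Groth.Agent.Helper1.ColimPush
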