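import Mathlib
import Groth.Prelude.Def_RelSpec2
import Groth.Agent.S0800
import Groth.Agent.Helper9.RpushCmp
import Groth.Agent.Helper3.SheafModLib

/-!
# AM1: the direct image `f_*` with values in modules over the direct-image algebra preserves the
colimits that the direct image of abelian sheaves preserves
-/

set_option autoImplicit false
universe u
open CategoryTheory CategoryTheory.Limits AlgebraicGeometry TopologicalSpace Opposite

namespace Groth.Agent.Helper1.AM
open Groth.Agent.Helper9.RpushCmp

variable {X S : Scheme.{u}} (f : X ⟶ S) [QuasiCompact f] [QuasiSeparated f]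

/-- the underlying abelian sheaf of a module over the direct-image algebra -/
noncomputable abbrev tB : AMod (RelSpec.QCAlg.directImage f) ⥤
    Sheaf (Opens.grothendieckTopology S) AddCommGrpCat.{u} :=
  SheafOfModules.toSheaf (AMod.ringSheaf (RelSpec.QCAlg.directImage f))

/-- the direct image commutes with the underlying abelian sheaves -/
noncomputable def dirImgIso : AMod.dirImg f ⋙ tB f ≅ tA X ⋙ Coh.pushAb f :=
  NatIso.ofComponents (fun F => Iso.refl _) (by intro F G φ; rfl)

/-- the direct image of abelian sheaves along a quasi-compact quasi-separated morphism preserves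
filtered colimits -/
theorem preservesColimitsOfShape_pushAb (J : Type u) [SmallCategory J] [IsFiltered J] :
    PreservesColimitsOfShape J (Coh.pushAb f) := by
  haveI : PreservesColimitsOfShape J (Coh.RpushAb f 0) := Groth.Agent.S0800.result f 0 J
  exact preservesColimitsOfShape_of_natIso (Coh.pushAb f).rightDerivedZeroIsoSelf

/-- a colimit preserved by the direct image of abelian sheaves is preserved by `AMod.dirImg` -/
theorem preservesColimit_dirImg {J : Type u} [SmallCategory J] (D : J ⥤ X.Modules)
    (h : PreservesColimit (D ⋙ tA X) (Coh.pushAb f)) :
    PreservesColimit D (AMod.dirImg f) := by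
  haveI : PreservesColimitsOfSize.{u, u} (tA X) :=
    Groth.Agent.Helper3.SheafModLib.toSheaf_preservesColimits X.ringCatSheaf
  haveI : ReflectsColimitsOfSize.{u, u} (tB f) :=
    Groth.Agent.Helper3.SheafModLib.toSheaf_reflectsColimits _
  haveI : PreservesColimit D (tA X ⋙ Coh.pushAb f) := inferInstance
  haveI : PreservesColimit D (AMod.dirImg f ⋙ tB f) :=
    preservesColimit_of_natIso D (dirImgIso f).symm
  exact preservesColimit_of_reflects_of_preserves (AMod.dirImg f) (tB f)

end Groth.Agent.Helper1.AM
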