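import Mathlib

/-!
# A functor preserving finite coproducts and filtered colimits preserves coproducts
-/

set_option autoImplicit false
open CategoryTheory CategoryTheory.Limits CategoryTheory.Limits.CoproductsFromFiniteFiltered

namespace Groth.Agent.Helper1.CoprodFilt

universe w v v' u u'

variable {C : Type u} [Category.{v} C] {D : Type u'} [Category.{v'} D] (G : C ⥤ D)
  {α : Type w} [HasFiniteCoproducts C] [HasFiniteCoproducts D] [PreservesFiniteCoproducts G]
  (f : α → C)

/-- the comparison for a finite sub-coproduct -/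
noncomputable def θapp0 (S : Finset (Discrete α)) :
    (∐ fun x : S => G.obj ((Discrete.functor f).obj x)) ≅
      G.obj (∐ fun x : S => (Discrete.functor f).obj x) :=
  asIso (sigmaComparison G (fun x : S => (Discrete.functor f).obj x))

theorem nat_aux (S T : Finset (Discrete α)) (h : S ⟶ T) :
    Sigma.desc (fun y : S => Sigma.ι (fun x : T => G.obj ((Discrete.functor f).obj x))
        ⟨y.1, h.down.down y.2⟩) ≫ sigmaComparison G (fun x : T => (Discrete.functor f).obj x) =
      sigmaComparison G (fun x : S => (Discrete.functor f).obj x) ≫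
        G.map (Sigma.desc fun y : S => Sigma.ι (fun x : T => (Discrete.functor f).obj x)
          ⟨y.1, h.down.down y.2⟩) := by
  apply Sigma.hom_ext
  intro x
  simp [← G.map_comp]

/-- the comparison for a finite sub-coproduct -/
noncomputable def θapp (S : Finset (Discrete α)) :
    (liftToFinsetObj (Discrete.functor fun a => G.obj (f a))).obj S ≅
      G.obj ((liftToFinsetObj (Discrete.functor f)).obj S) :=
  θapp0 G f S

/-- the comparison of the finite sub-coproduct diagrams -/
noncomputable def θ : liftToFinsetObj (Discrete.functor fun a => G.obj (f a)) ≅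
    liftToFinsetObj (Discrete.functor f) ⋙ G :=
  NatIso.ofComponents (fun S => θapp G f S) (fun {S T} h => nat_aux G f S T h)

variable [HasColimitsOfShape (Finset (Discrete α)) C] [HasColimitsOfShape (Finset (Discrete α)) D]
  [PreservesColimitsOfShape (Finset (Discrete α)) G]
  [HasCoproduct f] [HasCoproduct (fun a => G.obj (f a))]

theorem leg_aux (a : α) (ha : (Discrete.mk a : Discrete α) ∈ ({Discrete.mk a} : Finset (Discrete α))) :
    Sigma.ι (fun x : ({Discrete.mk a} : Finset (Discrete α)) => G.obj ((Discrete.functor f).obj x))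
        ⟨Discrete.mk a, ha⟩ ≫
      Sigma.desc (fun s : ({Discrete.mk a} : Finset (Discrete α)) => Sigma.ι (fun a => G.obj (f a)) s.1.as) =
    Sigma.ι (fun a => G.obj (f a)) a := by
  simp

theorem leg_aux' (a : α) (ha : (Discrete.mk a : Discrete α) ∈ ({Discrete.mk a} : Finset (Discrete α))) :
    Sigma.ι (fun x : ({Discrete.mk a} : Finset (Discrete α)) => (Discrete.functor f).obj x) ⟨Discrete.mk a, ha⟩ ≫
      Sigma.desc (fun s : ({Discrete.mk a} : Finset (Discrete α)) => Sigma.ι f s.1.as) =
    Sigma.ι f a := by
  simp

theorem isIso_sigmaComparison : IsIso (sigmaComparison G f) := by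
  let e : (∐ fun a => G.obj (f a)) ≅ G.obj (∐ f) := IsColimit.coconePointsIsoOfNatIso
    (isColimitFiniteSubproductsCocone (fun a => G.obj (f a)))
    (isColimitOfPreserves G (isColimitFiniteSubproductsCocone f)) (θ G f)
  have he : e.hom = sigmaComparison G f := by
    apply Sigma.hom_ext
    intro a
    have ha : (Discrete.mk a : Discrete α) ∈ ({Discrete.mk a} : Finset (Discrete α)) := Finset.mem_singleton_self _
    let d₁ : (∐ fun x : ({Discrete.mk a} : Finset (Discrete α)) => G.obj ((Discrete.functor f).obj x)) ⟶
        ∐ fun a => G.obj (f a) :=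
      Sigma.desc (fun s : ({Discrete.mk a} : Finset (Discrete α)) => Sigma.ι (fun a => G.obj (f a)) s.1.as)
    let d₂ : (∐ fun x : ({Discrete.mk a} : Finset (Discrete α)) => (Discrete.functor f).obj x) ⟶ ∐ f :=
      Sigma.desc (fun s : ({Discrete.mk a} : Finset (Discrete α)) => Sigma.ι f s.1.as)
    have h3 : d₁ ≫ e.hom =
        sigmaComparison G (fun x : ({Discrete.mk a} : Finset (Discrete α)) => (Discrete.functor f).obj x) ≫
          G.map d₂ :=
      IsColimit.comp_coconePointsIsoOfNatIso_hom
        (isColimitFiniteSubproductsCocone (fun a => G.obj (f a)))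
        (isColimitOfPreserves G (isColimitFiniteSubproductsCocone f)) (θ G f)
        ({Discrete.mk a} : Finset (Discrete α))
    have h1 : Sigma.ι (fun x : ({Discrete.mk a} : Finset (Discrete α)) =>
        G.obj ((Discrete.functor f).obj x)) ⟨Discrete.mk a, ha⟩ ≫ d₁ = Sigma.ι (fun a => G.obj (f a)) a :=
      leg_aux G f a ha
    have h2 : Sigma.ι (fun x : ({Discrete.mk a} : Finset (Discrete α)) => (Discrete.functor f).obj x)
        ⟨Discrete.mk a, ha⟩ ≫ d₂ = Sigma.ι f a := leg_aux' f a ha
    rw [← h1, Category.assoc, h3, ι_comp_sigmaComparison_assoc, ← G.map_comp, h2,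
      ← ι_comp_sigmaComparison G f a, h1]
  rw [← he]
  infer_instance

end Groth.Agent.Helper1.CoprodFilt
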