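import Mathlib
import Groth.Agent.Helper1.AM1
import Groth.Agent.Helper1.CoprodFilt

/-!
# AM2: the direct image with values in modules over the direct-image algebra preserves coproducts
-/

set_option autoImplicit false
universe u
open CategoryTheory CategoryTheory.Limits AlgebraicGeometry TopologicalSpace Opposite

namespace Groth.Agent.Helper1.AM
open Groth.Agent.Helper9.RpushCmp

variable {X S : Scheme.{u}} (f : X ⟶ S) [QuasiCompact f] [QuasiSeparated f]

/-- the direct image of abelian sheaves along a quasi-compact quasi-separated morphism preserves
coproducts -/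
theorem preservesCoproduct_pushAb {ι : Type u}
    (g : ι → Sheaf (Opens.grothendieckTopology X) AddCommGrpCat.{u}) :
    PreservesColimit (Discrete.functor g) (Coh.pushAb f) := by
  haveI : PreservesColimitsOfShape (Finset (Discrete ι)) (Coh.pushAb f) :=
    preservesColimitsOfShape_pushAb f (Finset (Discrete ι))
  haveI : PreservesFiniteCoproducts (Coh.pushAb f) := inferInstance
  haveI : IsIso (sigmaComparison (Coh.pushAb f) g) :=
    Groth.Agent.Helper1.CoprodFilt.isIso_sigmaComparison (Coh.pushAb f) g
  exact PreservesCoproduct.of_iso_comparison (Coh.pushAb f) g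

theorem preservesCoproduct_dirImg {ι : Type u} (F : ι → X.Modules) :
    PreservesColimit (Discrete.functor F) (AMod.dirImg f) := by
  apply preservesColimit_dirImg f (Discrete.functor F)
  haveI := preservesCoproduct_pushAb f (fun i => (tA X).obj (F i))
  exact preservesColimit_of_iso_diagram (Coh.pushAb f)
    (Discrete.natIso (fun i => Iso.refl _) :
      Discrete.functor (fun i => (tA X).obj (F i)) ≅ Discrete.functor F ⋙ tA X)

end Groth.Agent.Helper1.AM
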