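import Mathlib
import Groth.Agent.Helper4.QcqsMod
import Groth.Agent.Helper4.TwistExt
import Groth.Agent.Helper4.StalkExact

/-!
# AM3: morphisms out of a quasi-coherent module are determined by their values on the sections
over the members of an affine open cover
-/

set_option autoImplicit false
universe u
open CategoryTheory CategoryTheory.Limits AlgebraicGeometry TopologicalSpace Opposite

namespace Groth.Agent.Helper1.AM
open Groth.Agent.Helper4 Groth.Agent.Helper4.QcqsMod Groth.Agent.Helper4.StalkExact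

variable {X : Scheme.{u}}

/-- an additive map commuting with a unit scalar is determined after scaling -/
theorem eq_of_unit_smul {G : X.Modules} {T : X.Opens} (c : Γ(X, T)) (hc : IsUnit c)
    (a b : Γ(G, T)) (h : c • a = c • b) : a = b := by
  obtain ⟨u, rfl⟩ := hc
  have := congrArg (fun z => (↑u⁻¹ : Γ(X, T)) • z) h
  simpa [smul_smul] using this

theorem hom_ext_of_affine_cover {F G : X.Modules} [F.IsQuasicoherent] (φ φ' : F ⟶ G)
    (P : X.Opens → Prop) (hP : ∀ V, P V → IsAffineOpen V) (hcov : ∀ x : X, ∃ V, P V ∧ x ∈ V)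
    (h : ∀ V, P V → ∀ s : Γ(F, V), φ.app V s = φ'.app V s) : φ = φ' := by
  refine Scheme.Modules.hom_ext φ φ' (fun W => ?_)
  ext s
  apply TwistExt.eq_of_cover G W
  intro y hy
  obtain ⟨V, hPV, hyV⟩ := hcov y
  have hV := hP V hPV
  obtain ⟨r, hrle, hyr⟩ := hV.exists_basicOpen_le (V := W ⊓ V) ⟨y, ⟨hy, hyV⟩⟩ hyV
  have hTW : X.basicOpen r ≤ W := hrle.trans inf_le_left
  refine ⟨X.basicOpen r, hTW, hyr, ?_⟩
  rw [← app_res φ (homOfLE hTW) s, ← app_res φ' (homOfLE hTW) s]
  set t := F.presheaf.map (homOfLE hTW).op s with ht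
  obtain ⟨n, m, hm⟩ := (isLocalizingOn_of_isAffineOpen F hV).surj r t
  set c := X.presheaf.map (homOfLE (X.basicOpen_le r)).op (r ^ n) with hc
  have hcu : IsUnit c := by
    rw [hc, map_pow]
    exact (RingedSpace.isUnit_res_basicOpen X.toRingedSpace r).pow n
  apply eq_of_unit_smul c hcu
  rw [← Scheme.Modules.Hom.app_smul, ← Scheme.Modules.Hom.app_smul, hm,
    app_res φ (homOfLE (X.basicOpen_le r)) m, app_res φ' (homOfLE (X.basicOpen_le r)) m,
    h V hPV m]

end Groth.Agent.Helper1.AM
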