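import Mathlib
import Groth.Agent.Helper1.AM3

/-!
# AM4: extension of a linear map of sections over an affine open to the basic opens
-/

set_option autoImplicit false
universe u
open CategoryTheory CategoryTheory.Limits AlgebraicGeometry TopologicalSpace Opposite

namespace Groth.Agent.Helper1.AM
open Groth.Agent.Helper4 Groth.Agent.Helper4.QcqsMod Groth.Agent.Helper4.StalkExact

variable {X : Scheme.{u}} {F G : X.Modules} {V : X.Opens}

section loc
variable (hF : IsLocalizingOn F V) (ψ : Γ(F, V) →+ Γ(G, V))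
  (hψ : ∀ (r : Γ(X, V)) (m : Γ(F, V)), ψ (r • m) = r • ψ m) (h : Γ(X, V))

/-- restriction of functions to the basic open -/
noncomputable abbrev resX : Γ(X, V) →+* Γ(X, X.basicOpen h) :=
  (X.presheaf.map (homOfLE (X.basicOpen_le h)).op).hom

/-- restriction of sections to the basic open -/
noncomputable abbrev resM (M : X.Modules) : Γ(M, V) →+ Γ(M, X.basicOpen h) :=
  (M.presheaf.map (homOfLE (X.basicOpen_le h)).op).hom

theorem resM_smul (M : X.Modules) (r : Γ(X, V)) (m : Γ(M, V)) :
    resM h M (r • m) = resX h r • resM h M m :=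
  Scheme.Modules.map_smul M (homOfLE (X.basicOpen_le h)) r m

theorem isUnit_c (n : ℕ) : IsUnit (resX h (h ^ n)) := by
  rw [map_pow]
  exact (RingedSpace.isUnit_res_basicOpen X.toRingedSpace h).pow n

include hF hψ in
/-- the key independence statement -/
theorem indep {t : Γ(F, X.basicOpen h)} {n k : ℕ} {m m' : Γ(F, V)}
    (hm : resX h (h ^ n) • t = resM h F m) (hm' : resX h (h ^ k) • t = resM h F m') :
    resX h (h ^ k) • resM h G (ψ m) = resX h (h ^ n) • resM h G (ψ m') := by
  have h0 : resM h F (h ^ k • m - h ^ n • m') = 0 := by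
    rw [map_sub, resM_smul, resM_smul, ← hm, ← hm', smul_smul, smul_smul, mul_comm, sub_self]
  obtain ⟨N, hN⟩ := hF.zero h _ h0
  have h1 : h ^ N • (h ^ k • ψ m) = h ^ N • (h ^ n • ψ m') := by
    rw [← hψ, ← hψ, ← hψ, ← hψ, ← sub_eq_zero, ← map_sub, ← smul_sub, hN, map_zero]
  have h2 := congrArg (resM h G) h1
  rw [resM_smul, resM_smul, resM_smul, resM_smul] at h2
  exact eq_of_unit_smul _ (isUnit_c h N) _ _ h2

/-- the extension to the basic open, as a function -/
noncomputable def locFun (t : Γ(F, X.basicOpen h)) : Γ(G, X.basicOpen h) :=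
  ((isUnit_c h (hF.surj h t).choose).unit⁻¹ : (Γ(X, X.basicOpen h))ˣ) •
    resM h G (ψ (hF.surj h t).choose_spec.choose)

include hψ in
theorem locFun_spec {t : Γ(F, X.basicOpen h)} {k : ℕ} {m' : Γ(F, V)}
    (hm' : resX h (h ^ k) • t = resM h F m') :
    resX h (h ^ k) • locFun hF ψ h t = resM h G (ψ m') := by
  have hm := (hF.surj h t).choose_spec.choose_spec
  have hi := indep hF ψ hψ h hm hm'
  unfold locFun
  set n := (hF.surj h t).choose
  set m := (hF.surj h t).choose_spec.choose
  apply eq_of_unit_smul _ (isUnit_c h n)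
  rw [← hi, smul_comm, Units.smul_def, smul_smul (resX h (h ^ n))]
  have : resX h (h ^ n) * ((isUnit_c h n).unit⁻¹ : (Γ(X, X.basicOpen h))ˣ) = 1 :=
    (isUnit_c h n).mul_val_inv
  rw [this, one_smul]

include hψ in
theorem locFun_res (m : Γ(F, V)) : locFun hF ψ h (resM h F m) = resM h G (ψ m) := by
  have := locFun_spec hF ψ hψ h (t := resM h F m) (k := 0) (m' := m) (by simp)
  simpa using this

include hψ in
theorem locFun_add (t₁ t₂ : Γ(F, X.basicOpen h)) :
    locFun hF ψ h (t₁ + t₂) = locFun hF ψ h t₁ + locFun hF ψ h t₂ := by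
  obtain ⟨n₁, m₁, h₁⟩ := hF.surj h t₁
  obtain ⟨n₂, m₂, h₂⟩ := hF.surj h t₂
  have h₁' : resX h (h ^ n₁) • t₁ = resM h F m₁ := h₁
  have h₂' : resX h (h ^ n₂) • t₂ = resM h F m₂ := h₂
  have e : resX h (h ^ (n₁ + n₂)) • (t₁ + t₂) = resM h F (h ^ n₂ • m₁ + h ^ n₁ • m₂) := by
    rw [map_add, resM_smul, resM_smul, ← h₁', ← h₂', smul_add, smul_smul, smul_smul, pow_add,
      map_mul, mul_comm]
  have s := locFun_spec hF ψ hψ h e
  have s₁ := locFun_spec hF ψ hψ h h₁'
  have s₂ := locFun_spec hF ψ hψ h h₂'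
  apply eq_of_unit_smul _ (isUnit_c h (n₁ + n₂))
  rw [s, map_add, hψ, hψ, map_add, resM_smul, resM_smul, ← s₁, ← s₂, smul_add, smul_smul,
    smul_smul, pow_add, map_mul, mul_comm]

/-- the extension to the basic open -/
noncomputable def locMap : Γ(F, X.basicOpen h) →+ Γ(G, X.basicOpen h) where
  toFun := locFun hF ψ h
  map_zero' := by
    have := locFun_res hF ψ hψ h 0
    simpa using this
  map_add' := locFun_add hF ψ hψ h

theorem locMap_res (m : Γ(F, V)) : locMap hF ψ hψ h (resM h F m) = resM h G (ψ m) :=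
  locFun_res hF ψ hψ h m

theorem locMap_spec {t : Γ(F, X.basicOpen h)} {k : ℕ} {m' : Γ(F, V)}
    (hm' : resX h (h ^ k) • t = resM h F m') :
    resX h (h ^ k) • locMap hF ψ hψ h t = resM h G (ψ m') :=
  locFun_spec hF ψ hψ h hm'

end loc

end Groth.Agent.Helper1.AM
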