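import Mathlib
import Groth.Agent.Helper1.AM4

/-!
# AM5: linearity, uniqueness and compatibility of the extension to basic opens
-/

set_option autoImplicit false
universe u
open CategoryTheory CategoryTheory.Limits AlgebraicGeometry TopologicalSpace Opposite

namespace Groth.Agent.Helper1.AM
open Groth.Agent.Helper4 Groth.Agent.Helper4.QcqsMod Groth.Agent.Helper4.StalkExact

variable {X : Scheme.{u}} {F G : X.Modules}

theorem mres_mres (M : X.Modules) {A B C : X.Opens} (h₁ : B ≤ A) (h₂ : C ≤ B) (m : Γ(M, A)) :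
    M.presheaf.map (homOfLE h₂).op (M.presheaf.map (homOfLE h₁).op m) =
      M.presheaf.map (homOfLE (h₂.trans h₁)).op m := by
  rw [← ConcreteCategory.comp_apply, ← M.presheaf.map_comp]
  rfl

theorem xres_xres {A B C : X.Opens} (h₁ : B ≤ A) (h₂ : C ≤ B) (a : Γ(X, A)) :
    X.presheaf.map (homOfLE h₂).op (X.presheaf.map (homOfLE h₁).op a) =
      X.presheaf.map (homOfLE (h₂.trans h₁)).op a := by
  rw [← CommRingCat.comp_apply, ← X.presheaf.map_comp]
  rfl

section
variable {V : X.Opens} (hV : IsAffineOpen V) (hF : IsLocalizingOn F V) (ψ : Γ(F, V) →+ Γ(G, V))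
  (hψ : ∀ (r : Γ(X, V)) (m : Γ(F, V)), ψ (r • m) = r • ψ m) (h : Γ(X, V))

include hV in
/-- the extension is linear over the functions on the basic open -/
theorem locMap_smul (a : Γ(X, X.basicOpen h)) (t : Γ(F, X.basicOpen h)) :
    locMap hF ψ hψ h (a • t) = a • locMap hF ψ hψ h t := by
  letI := (resX h).toAlgebra
  haveI : IsLocalization.Away h Γ(X, X.basicOpen h) := hV.isLocalization_basicOpen h
  obtain ⟨⟨b, ⟨_, k, rfl⟩⟩, hb⟩ := IsLocalization.surj (Submonoid.powers h) a
  have hb' : a * resX h (h ^ k) = resX h b := hb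
  obtain ⟨n, m, hm⟩ := hF.surj h t
  have hm' : resX h (h ^ n) • t = resM h F m := hm
  have e : resX h (h ^ (k + n)) • (a • t) = resM h F (b • m) := by
    rw [resM_smul, ← hb', ← hm', smul_smul, smul_smul, pow_add, map_mul]
    congr 1
    ring
  have s := locMap_spec hF ψ hψ h e
  have s₁ := locMap_spec hF ψ hψ h hm'
  apply eq_of_unit_smul _ (isUnit_c h (k + n))
  rw [s, hψ, resM_smul, ← s₁, ← hb', smul_smul, smul_smul, pow_add, map_mul]
  congr 1
  ring

include hF in
/-- two semilinear maps out of the sections over the basic open agreeing on restrictions agree -/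
theorem locExt {T : X.Opens} (hT : T ≤ X.basicOpen h)
    (θ₁ θ₂ : Γ(F, X.basicOpen h) →+ Γ(G, T))
    (h₁ : ∀ (a : Γ(X, X.basicOpen h)) t, θ₁ (a • t) = X.presheaf.map (homOfLE hT).op a • θ₁ t)
    (h₂ : ∀ (a : Γ(X, X.basicOpen h)) t, θ₂ (a • t) = X.presheaf.map (homOfLE hT).op a • θ₂ t)
    (he : ∀ m : Γ(F, V), θ₁ (resM h F m) = θ₂ (resM h F m)) (t : Γ(F, X.basicOpen h)) :
    θ₁ t = θ₂ t := by
  obtain ⟨n, m, hm⟩ := hF.surj h t
  have hm' : resX h (h ^ n) • t = resM h F m := hm
  have hu : IsUnit (X.presheaf.map (homOfLE hT).op (resX h (h ^ n))) :=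
    (isUnit_c h n).map (X.presheaf.map (homOfLE hT).op).hom
  apply eq_of_unit_smul _ hu
  rw [← h₁, ← h₂, hm', he]

end

section compat
variable {V V' : X.Opens} (hV : IsAffineOpen V) (hV' : IsAffineOpen V') (hVV : V' ≤ V)
  (hF : IsLocalizingOn F V) (hF' : IsLocalizingOn F V')
  (ψ : Γ(F, V) →+ Γ(G, V)) (hψ : ∀ (r : Γ(X, V)) (m : Γ(F, V)), ψ (r • m) = r • ψ m)
  (ψ' : Γ(F, V') →+ Γ(G, V')) (hψ' : ∀ (r : Γ(X, V')) (m : Γ(F, V')), ψ' (r • m) = r • ψ' m)
  (hc : ∀ m : Γ(F, V), G.presheaf.map (homOfLE hVV).op (ψ m) =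
    ψ' (F.presheaf.map (homOfLE hVV).op m))
  (h : Γ(X, V)) (h' : Γ(X, V')) (hD : X.basicOpen h' ≤ X.basicOpen h)

include hV hV' hc in
/-- the extensions attached to comparable data are compatible -/
theorem locMap_compat (t : Γ(F, X.basicOpen h)) :
    G.presheaf.map (homOfLE hD).op (locMap hF ψ hψ h t) =
      locMap hF' ψ' hψ' h' (F.presheaf.map (homOfLE hD).op t) := by
  let θ₁ : Γ(F, X.basicOpen h) →+ Γ(G, X.basicOpen h') :=
    (G.presheaf.map (homOfLE hD).op).hom.comp (locMap hF ψ hψ h)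
  let θ₂ : Γ(F, X.basicOpen h) →+ Γ(G, X.basicOpen h') :=
    (locMap hF' ψ' hψ' h').comp (F.presheaf.map (homOfLE hD).op).hom
  refine locExt hF h hD θ₁ θ₂ ?_ ?_ ?_ t
  · intro a t
    change G.presheaf.map (homOfLE hD).op (locMap hF ψ hψ h (a • t)) = _
    rw [locMap_smul hV, Scheme.Modules.map_smul]
    rfl
  · intro a t
    change locMap hF' ψ' hψ' h' (F.presheaf.map (homOfLE hD).op (a • t)) = _
    rw [Scheme.Modules.map_smul, locMap_smul hV']
    rfl
  · intro m
    change G.presheaf.map (homOfLE hD).op (locMap hF ψ hψ h (resM h F m)) =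
      locMap hF' ψ' hψ' h' (F.presheaf.map (homOfLE hD).op (resM h F m))
    rw [locMap_res]
    have e1 : F.presheaf.map (homOfLE hD).op (resM h F m) =
        resM h' F (F.presheaf.map (homOfLE hVV).op m) := by
      change F.presheaf.map (homOfLE hD).op (F.presheaf.map (homOfLE (X.basicOpen_le h)).op m) =
        F.presheaf.map (homOfLE (X.basicOpen_le h')).op (F.presheaf.map (homOfLE hVV).op m)
      rw [mres_mres, mres_mres]
    rw [e1, locMap_res, ← hc]
    change G.presheaf.map (homOfLE hD).op (G.presheaf.map (homOfLE (X.basicOpen_le h)).op (ψ m)) =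
      G.presheaf.map (homOfLE (X.basicOpen_le h')).op (G.presheaf.map (homOfLE hVV).op (ψ m))
    rw [mres_mres, mres_mres]

end compat

end Groth.Agent.Helper1.AM
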