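import Mathlib

set_option autoImplicit false

namespace Groth.Agent.Helper1.BasisHom

open CategoryTheory AlgebraicGeometry TopologicalSpace Opposite

universe u

variable {X : Scheme.{u}} {ι : Type u} (B : ι → X.Opens) (hB : Opens.IsBasis (Set.range B))
  (F G : X.Modules)

/-- sections of a module agreeing on a cover are equal -/
lemma section_ext_of_cover (G : X.Modules) (U : X.Opens) {κ : Type u} (V : κ → X.Opens)
    (hV : ∀ k, V k ≤ U) (hcov : U ≤ iSup V) (s t : Γ(G, U))
    (h : ∀ k, G.presheaf.map (homOfLE (hV k)).op s = G.presheaf.map (homOfLE (hV k)).op t) :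
    s = t :=
  TopCat.Sheaf.eq_of_locally_eq' (⟨G.presheaf, G.isSheaf⟩ : TopCat.Sheaf Ab X) V U
    (fun k => homOfLE (hV k)) hcov s t h

variable (α : ∀ i, Γ(F, B i) →+ Γ(G, B i))
  (hnat : ∀ (i j : ι) (h : B j ≤ B i) (s : Γ(F, B i)),
    G.presheaf.map (homOfLE h).op (α i s) = α j (F.presheaf.map (homOfLE h).op s))
  (hlin : ∀ (i : ι) (r : Γ(X, B i)) (s : Γ(F, B i)), α i (r • s) = r • α i s)

/-- the natural transformation on the basis -/
noncomputable def basisNat :
    (inducedFunctor B).op ⋙ F.presheaf ⟶ (inducedFunctor B).op ⋙ G.presheaf where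
  app i := AddCommGrpCat.ofHom (α i.unop)
  naturality i j f := by
    apply AddCommGrpCat.hom_ext
    apply AddMonoidHom.ext
    intro s
    exact (hnat i.unop j.unop (leOfHom f.unop.hom) s).symm

/-- the morphism of abelian presheaves -/
noncomputable def preHom : F.presheaf ⟶ G.presheaf :=
  TopCat.Sheaf.restrictHomEquivHom F.presheaf (⟨G.presheaf, G.isSheaf⟩ : TopCat.Sheaf Ab X) hB
    (basisNat B F G α hnat)

lemma preHom_app (i : ι) (s : Γ(F, B i)) :
    (preHom B hB F G α hnat).app (op (B i)) s = α i s := by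
  have h := TopCat.Sheaf.extend_hom_app F.presheaf (⟨G.presheaf, G.isSheaf⟩ : TopCat.Sheaf Ab X) hB
    (basisNat B F G α hnat) i
  exact ConcreteCategory.congr_hom h s

include hB in
lemma le_iSup_basis (U : X.Opens) : U ≤ ⨆ k : {i : ι // B i ≤ U}, B k.1 := by
  intro x hx
  obtain ⟨_, ⟨i, rfl⟩, hxi, hiU⟩ := Opens.isBasis_iff_nbhd.1 hB hx
  exact Opens.mem_iSup.2 ⟨⟨i, hiU⟩, hxi⟩

lemma preHom_res {U V : X.Opens} (h : V ≤ U) (s : Γ(F, U)) :
    G.presheaf.map (homOfLE h).op ((preHom B hB F G α hnat).app (op U) s) =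
      (preHom B hB F G α hnat).app (op V) (F.presheaf.map (homOfLE h).op s) := by
  have nat := (preHom B hB F G α hnat).naturality (homOfLE h).op
  exact (ConcreteCategory.congr_hom nat s).symm

include hlin in
lemma preHom_smul (U : X.Opens) (r : Γ(X, U)) (s : Γ(F, U)) :
    (preHom B hB F G α hnat).app (op U) (r • s) = r • (preHom B hB F G α hnat).app (op U) s := by
  apply section_ext_of_cover G U (fun k : {i : ι // B i ≤ U} => B k.1) (fun k => k.2)
    (le_iSup_basis B hB U)
  intro k
  rw [preHom_res, Scheme.Modules.map_smul, Scheme.Modules.map_smul, preHom_res, preHom_app,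
    preHom_app, hlin]

/-- **a morphism of modules from compatible linear maps on a basis** -/
noncomputable def homOfBasis : F ⟶ G :=
  ⟨PresheafOfModules.homMk (preHom B hB F G α hnat)
    (fun U r s => preHom_smul B hB F G α hnat hlin U.unop r s)⟩

lemma homOfBasis_app (i : ι) (s : Γ(F, B i)) :
    (homOfBasis B hB F G α hnat hlin).app (B i) s = α i s :=
  preHom_app B hB F G α hnat i s

end Groth.Agent.Helper1.BasisHom
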