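import Mathlib
import Groth.Agent.Helper1.AM5
import Groth.Agent.Helper1.BasisHom

/-!
# AM6: a compatible family of linear maps `F(f⁻¹U) → G(f⁻¹U)`, `U` affine, comes from a unique
morphism of modules when `f` is affine and `F` is quasi-coherent
-/

set_option autoImplicit false
universe u
open CategoryTheory CategoryTheory.Limits AlgebraicGeometry TopologicalSpace Opposite

namespace Groth.Agent.Helper1.AM
open Groth.Agent.Helper4 Groth.Agent.Helper4.QcqsMod Groth.Agent.Helper4.StalkExact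

variable {X S : Scheme.{u}} (f : X ⟶ S) [IsAffineHom f] (F G : X.Modules) [F.IsQuasicoherent]

/-- compatible linear maps of sections over the preimages of the affine opens -/
structure SecData where
  ψ : ∀ U : S.affineOpens, Γ(F, f ⁻¹ᵁ U.1) →+ Γ(G, f ⁻¹ᵁ U.1)
  lin : ∀ (U : S.affineOpens) (r : Γ(X, f ⁻¹ᵁ U.1)) (m : Γ(F, f ⁻¹ᵁ U.1)),
    ψ U (r • m) = r • ψ U m
  nat : ∀ (U U' : S.affineOpens) (h : U'.1 ≤ U.1) (m : Γ(F, f ⁻¹ᵁ U.1)),
    G.presheaf.map (homOfLE (f.preimage_mono h)).op (ψ U m) =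
      ψ U' (F.presheaf.map (homOfLE (f.preimage_mono h)).op m)

variable {f F G} (d : SecData f F G)

/-- the index type of the basis -/
abbrev Idx (f : X ⟶ S) : Type u := Σ U : S.affineOpens, Γ(X, f ⁻¹ᵁ U.1)

/-- the basis -/
noncomputable abbrev Bs (f : X ⟶ S) (i : Idx f) : X.Opens := X.basicOpen i.2

theorem hVaff (U : S.affineOpens) : IsAffineOpen (f ⁻¹ᵁ U.1) := U.2.preimage f

include F in
theorem isBasis_Bs : Opens.IsBasis (Set.range (Bs f)) := by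
  rw [Opens.isBasis_iff_nbhd]
  intro W x hx
  obtain ⟨_, ⟨U, hU : IsAffineOpen U, rfl⟩, hxU, -⟩ :=
    S.isBasis_affineOpens.exists_subset_of_mem_open (Set.mem_univ (f x)) isOpen_univ
  have hxV : x ∈ f ⁻¹ᵁ U := hxU
  obtain ⟨r, hrle, hxr⟩ := (hVaff (f := f) ⟨U, hU⟩).exists_basicOpen_le
    (V := W ⊓ f ⁻¹ᵁ U) ⟨x, ⟨hx, hxV⟩⟩ hxV
  exact ⟨X.basicOpen r, ⟨⟨⟨U, hU⟩, r⟩, rfl⟩, hxr, hrle.trans inf_le_left⟩

/-- the maps on the basis -/
noncomputable def αB (i : Idx f) : Γ(F, Bs f i) →+ Γ(G, Bs f i) :=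
  locMap (isLocalizingOn_of_isAffineOpen F (hVaff i.1)) (d.ψ i.1) (d.lin i.1) i.2

theorem αB_lin (i : Idx f) (r : Γ(X, Bs f i)) (s : Γ(F, Bs f i)) :
    αB d i (r • s) = r • αB d i s :=
  locMap_smul (hVaff i.1) _ _ _ _ r s

theorem αB_compat (i j : Idx f) (hU : j.1.1 ≤ i.1.1) (hD : Bs f j ≤ Bs f i) (s : Γ(F, Bs f i)) :
    G.presheaf.map (homOfLE hD).op (αB d i s) = αB d j (F.presheaf.map (homOfLE hD).op s) :=
  locMap_compat (hVaff i.1) (hVaff j.1) (f.preimage_mono hU) _ _ _ _ _ _ (d.nat i.1 j.1 hU)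
    i.2 j.2 hD s

theorem αB_nat (i j : Idx f) (hD : Bs f j ≤ Bs f i) (s : Γ(F, Bs f i)) :
    G.presheaf.map (homOfLE hD).op (αB d i s) = αB d j (F.presheaf.map (homOfLE hD).op s) := by
  apply TwistExt.eq_of_cover G (Bs f j)
  intro y hy
  have hyi : y ∈ f ⁻¹ᵁ i.1.1 := X.basicOpen_le i.2 (hD hy)
  have hyj : y ∈ f ⁻¹ᵁ j.1.1 := X.basicOpen_le j.2 hy
  obtain ⟨_, ⟨U, hU : IsAffineOpen U, rfl⟩, hyU, hUle⟩ :=
    S.isBasis_affineOpens.exists_subset_of_mem_open (show f y ∈ (i.1.1 ⊓ j.1.1 : S.Opens) from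
      ⟨hyi, hyj⟩) (i.1.1 ⊓ j.1.1 : S.Opens).2
  have hyV : y ∈ f ⁻¹ᵁ U := hyU
  obtain ⟨r, hrle, hyr⟩ := (hVaff (f := f) ⟨U, hU⟩).exists_basicOpen_le
    (V := Bs f j ⊓ f ⁻¹ᵁ U) ⟨y, ⟨hy, hyV⟩⟩ hyV
  let k : Idx f := ⟨⟨U, hU⟩, r⟩
  have hkj : Bs f k ≤ Bs f j := hrle.trans inf_le_left
  have hUi : U ≤ i.1.1 := fun z hz => (hUle hz).1
  have hUj : U ≤ j.1.1 := fun z hz => (hUle hz).2
  refine ⟨Bs f k, hkj, hyr, ?_⟩
  rw [mres_mres, αB_compat d i k hUi (hkj.trans hD), αB_compat d j k hUj hkj, mres_mres]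

/-- the glued morphism -/
noncomputable def glue : F ⟶ G :=
  BasisHom.homOfBasis (Bs f) (isBasis_Bs (F := F)) F G (αB d) (fun i j h s => αB_nat d i j h s)
    (fun i r s => αB_lin d i r s)

theorem glue_app (i : Idx f) (s : Γ(F, Bs f i)) : (glue d).app (Bs f i) s = αB d i s :=
  BasisHom.homOfBasis_app (Bs f) (isBasis_Bs (F := F)) F G (αB d) _ _ i s

theorem glue_app_preimage (U : S.affineOpens) (m : Γ(F, f ⁻¹ᵁ U.1)) :
    (glue d).app (f ⁻¹ᵁ U.1) m = d.ψ U m := by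
  let i : Idx f := ⟨U, 1⟩
  have hle : f ⁻¹ᵁ U.1 ≤ Bs f i := (X.basicOpen_one (U := f ⁻¹ᵁ U.1)).ge
  have hle' : Bs f i ≤ f ⁻¹ᵁ U.1 := X.basicOpen_le _
  have key : G.presheaf.map (homOfLE hle').op ((glue d).app (f ⁻¹ᵁ U.1) m) =
      G.presheaf.map (homOfLE hle').op (d.ψ U m) := by
    rw [← app_res (glue d) (homOfLE hle') m, glue_app]
    exact locMap_res _ _ _ _ m
  have := congrArg (G.presheaf.map (homOfLE hle).op) key
  rw [mres_mres, mres_mres] at this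
  have hid : ∀ z : Γ(G, f ⁻¹ᵁ U.1), G.presheaf.map (homOfLE (hle.trans hle')).op z = z := by
    intro z
    have : (homOfLE (hle.trans hle')).op = 𝟙 (op (f ⁻¹ᵁ U.1)) := rfl
    rw [this, G.presheaf.map_id]; rfl
  rwa [hid, hid] at this

end Groth.Agent.Helper1.AM
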