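import Mathlib
import Groth.Agent.Helper1.AM6
import Groth.Prelude.Def_RelSpec2

/-!
# AM7: the direct image with values in modules over the direct-image algebra is fully faithful on
quasi-coherent modules (affine morphisms)
-/

set_option autoImplicit false
universe u
open CategoryTheory CategoryTheory.Limits AlgebraicGeometry TopologicalSpace Opposite

namespace Groth.Agent.Helper1.AM
open Groth.Agent.Helper4 Groth.Agent.Helper4.QcqsMod Groth.Agent.Helper4.StalkExact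

variable {X S : Scheme.{u}} (f : X ⟶ S) [IsAffineHom f] {F G : X.Modules}

/-- the map on sections over `f⁻¹U` of a morphism of direct images -/
noncomputable def secOf (ψ : (AMod.dirImg f).obj F ⟶ (AMod.dirImg f).obj G) (U : S.Opens) :
    Γ(F, f ⁻¹ᵁ U) →+ Γ(G, f ⁻¹ᵁ U) :=
  (ψ.val.app (op U)).hom.toAddMonoidHom

theorem secOf_smul (ψ : (AMod.dirImg f).obj F ⟶ (AMod.dirImg f).obj G) (U : S.Opens)
    (r : Γ(X, f ⁻¹ᵁ U)) (m : Γ(F, f ⁻¹ᵁ U)) : secOf f ψ U (r • m) = r • secOf f ψ U m :=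
  (ψ.val.app (op U)).hom.map_smul r m

theorem secOf_res (ψ : (AMod.dirImg f).obj F ⟶ (AMod.dirImg f).obj G) {U U' : S.Opens}
    (h : U' ≤ U) (m : Γ(F, f ⁻¹ᵁ U)) :
    G.presheaf.map (homOfLE (f.preimage_mono h)).op (secOf f ψ U m) =
      secOf f ψ U' (F.presheaf.map (homOfLE (f.preimage_mono h)).op m) :=
  (PresheafOfModules.naturality_apply ψ.val (homOfLE h).op m).symm

theorem secOf_map (φ : F ⟶ G) (U : S.Opens) (m : Γ(F, f ⁻¹ᵁ U)) :
    secOf f ((AMod.dirImg f).map φ) U m = φ.app (f ⁻¹ᵁ U) m := rfl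

/-- morphisms of direct images agreeing on sections over affine opens are equal -/
theorem dirImg_hom_ext (ψ ψ' : (AMod.dirImg f).obj F ⟶ (AMod.dirImg f).obj G)
    (h : ∀ (U : S.affineOpens) (m : Γ(F, f ⁻¹ᵁ U.1)), secOf f ψ U.1 m = secOf f ψ' U.1 m) :
    ψ = ψ' := by
  apply SheafOfModules.hom_ext
  apply PresheafOfModules.hom_ext
  intro W
  ext m
  change secOf f ψ W.unop m = secOf f ψ' W.unop m
  apply TwistExt.eq_of_cover G (f ⁻¹ᵁ W.unop)
  intro y hy
  obtain ⟨_, ⟨U, hU : IsAffineOpen U, rfl⟩, hyU, hUle⟩ :=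
    S.isBasis_affineOpens.exists_subset_of_mem_open (show f y ∈ W.unop from hy) W.unop.2
  refine ⟨f ⁻¹ᵁ U, f.preimage_mono hUle, hyU, ?_⟩
  rw [secOf_res f ψ hUle, secOf_res f ψ' hUle]
  exact h ⟨U, hU⟩ _

variable [F.IsQuasicoherent]

/-- the section data of a morphism of direct images -/
noncomputable def secData (ψ : (AMod.dirImg f).obj F ⟶ (AMod.dirImg f).obj G) :
    SecData f F G where
  ψ U := secOf f ψ U.1
  lin U r m := secOf_smul f ψ U.1 r m
  nat U U' h m := secOf_res f ψ h m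

theorem dirImg_map_glue (ψ : (AMod.dirImg f).obj F ⟶ (AMod.dirImg f).obj G) :
    (AMod.dirImg f).map (glue (secData f ψ)) = ψ := by
  apply dirImg_hom_ext
  intro U m
  rw [secOf_map]
  exact glue_app_preimage (secData f ψ) U m

theorem dirImg_map_injective : Function.Injective
    ((AMod.dirImg f).map : (F ⟶ G) → ((AMod.dirImg f).obj F ⟶ (AMod.dirImg f).obj G)) := by
  intro φ φ' h
  refine hom_ext_of_affine_cover φ φ' (fun V => ∃ U : S.affineOpens, V = f ⁻¹ᵁ U.1) ?_ ?_ ?_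
  · rintro V ⟨U, rfl⟩
    exact hVaff U
  · intro x
    obtain ⟨_, ⟨U, hU : IsAffineOpen U, rfl⟩, hxU, -⟩ :=
      S.isBasis_affineOpens.exists_subset_of_mem_open (Set.mem_univ (f x)) isOpen_univ
    exact ⟨f ⁻¹ᵁ U, ⟨⟨U, hU⟩, rfl⟩, hxU⟩
  · rintro V ⟨U, rfl⟩ s
    have := congrArg (fun ψ => secOf f ψ U.1 s) h
    simpa only [secOf_map] using this

theorem dirImg_map_bijective : Function.Bijective
    ((AMod.dirImg f).map : (F ⟶ G) → ((AMod.dirImg f).obj F ⟶ (AMod.dirImg f).obj G)) :=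
  ⟨dirImg_map_injective f, fun ψ => ⟨glue (secData f ψ), dirImg_map_glue f ψ⟩⟩

end Groth.Agent.Helper1.AM
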