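import Mathlib
import Groth.Prelude.Def_RelSpec

/-!
# Homomorphisms of quasi-coherent algebras from data on affine opens
-/

set_option autoImplicit false
set_option linter.style.haveILetI false

namespace Groth.Agent.Helper1.QH

open CategoryTheory Limits AlgebraicGeometry TopologicalSpace Opposite RelSpec

universe u

noncomputable section

variable {S : Scheme.{u}}

/-- A family of ring homomorphisms `A(U) → B(U)` over the affine opens, natural for restrictions
between affine opens and compatible with the structure maps. -/
structure AffHom (A B : QCAlg S) where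
  app : ∀ (U : S.Opens) (_ : IsAffineOpen U), A.presheaf.obj (op U) ⟶ B.presheaf.obj (op U)
  naturality : ∀ (U V : S.Opens) (hU : IsAffineOpen U) (hV : IsAffineOpen V) (i : V ≤ U),
    A.presheaf.map (homOfLE i).op ≫ app V hV = app U hU ≫ B.presheaf.map (homOfLE i).op
  str : ∀ (U : S.Opens) (hU : IsAffineOpen U), A.str.app (op U) ≫ app U hU = B.str.app (op U)

namespace AffHom

variable {A B : QCAlg S} (a : AffHom A B)

/-- the natural transformation on the affine site -/
def restrict : (Scheme.AffineZariskiSite.toOpensFunctor S).op ⋙ A.presheaf ⟶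
    (Scheme.AffineZariskiSite.toOpensFunctor S).op ⋙ B.presheaf where
  app U := a.app U.unop.1 U.unop.2
  naturality U V i := by
    change A.presheaf.map (homOfLE (Scheme.AffineZariskiSite.toOpens_mono i.unop.le)).op ≫
        a.app V.unop.1 V.unop.2 =
      a.app U.unop.1 U.unop.2 ≫
        B.presheaf.map (homOfLE (Scheme.AffineZariskiSite.toOpens_mono i.unop.le)).op
    exact a.naturality _ _ _ _ _

/-- the map of presheaves of rings extending the affine data -/
def toPresheafHom : A.presheaf ⟶ B.presheaf :=
  Functor.IsCoverDense.restrictHomEquivHom (G := Scheme.AffineZariskiSite.toOpensFunctor S)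
    (K := Opens.grothendieckTopology S) (ℱ := A.presheaf)
    (ℱ' := (⟨B.presheaf, B.isSheaf⟩ : TopCat.Sheaf CommRingCat.{u} S.carrier)) a.restrict

theorem toPresheafHom_restrict :
    (Scheme.AffineZariskiSite.toOpensFunctor S).op.whiskerLeft a.toPresheafHom = a.restrict :=
  (Functor.IsCoverDense.restrictHomEquivHom (G := Scheme.AffineZariskiSite.toOpensFunctor S)
    (K := Opens.grothendieckTopology S) (ℱ := A.presheaf)
    (ℱ' := (⟨B.presheaf, B.isSheaf⟩ : TopCat.Sheaf CommRingCat.{u} S.carrier))).symm_apply_apply _

theorem toPresheafHom_app (U : S.Opens) (hU : IsAffineOpen U) :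
    a.toPresheafHom.app (op U) = a.app U hU :=
  NatTrans.congr_app a.toPresheafHom_restrict (op ⟨U, hU⟩)

end AffHom

/-- Two maps of presheaves into a sheaf of rings that agree on affine opens are equal. -/
theorem presheafHom_ext_affine {F : TopCat.Presheaf CommRingCat.{u} S.carrier} (B : QCAlg S)
    {f g : F ⟶ B.presheaf}
    (h : ∀ (U : S.Opens) (_ : IsAffineOpen U), f.app (op U) = g.app (op U)) : f = g := by
  apply (Functor.IsCoverDense.restrictHomEquivHom (G := Scheme.AffineZariskiSite.toOpensFunctor S)
    (K := Opens.grothendieckTopology S) (ℱ := F)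
    (ℱ' := (⟨B.presheaf, B.isSheaf⟩ : TopCat.Sheaf CommRingCat.{u} S.carrier))).symm.injective
  ext U : 2
  exact h U.unop.1 U.unop.2

/-- Two homomorphisms of quasi-coherent algebras that agree on affine opens are equal. -/
theorem hom_ext_affine {A B : QCAlg S} {f g : A ⟶ B}
    (h : ∀ (U : S.Opens) (_ : IsAffineOpen U), f.hom.app (op U) = g.hom.app (op U)) : f = g :=
  QCAlg.hom_ext (presheafHom_ext_affine B h)

namespace AffHom

variable {A B : QCAlg S} (a : AffHom A B)

/-- the homomorphism of quasi-coherent algebras extending the affine data -/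
def toHom : A ⟶ B where
  hom := a.toPresheafHom
  comm := by
    apply presheafHom_ext_affine B
    intro U hU
    rw [NatTrans.comp_app, a.toPresheafHom_app U hU, a.str U hU]

@[simp] theorem toHom_app (U : S.Opens) (hU : IsAffineOpen U) :
    a.toHom.hom.app (op U) = a.app U hU := a.toPresheafHom_app U hU

end AffHom

end

end Groth.Agent.Helper1.QH
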