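import Mathlib
import Groth.Agent.Helper1.QH1

/-!
# Morphisms of modules agreeing on affine opens
-/

set_option autoImplicit false
set_option linter.style.haveILetI false

namespace Groth.Agent.Helper1.QH

open CategoryTheory Limits AlgebraicGeometry TopologicalSpace Opposite RelSpec

universe u

noncomputable section

variable {S : Scheme.{u}}

/-- sections of a sheaf of modules are determined by their restrictions to the affine opens -/
theorem section_ext_affine (N : S.Modules) (W : S.Opens) (s t : Γ(N, W))
    (h : ∀ (U : S.Opens) (_ : IsAffineOpen U) (i : U ≤ W),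
      N.presheaf.map (homOfLE i).op s = N.presheaf.map (homOfLE i).op t) : s = t := by
  let ι := {U : S.affineOpens // (U : S.Opens) ≤ W}
  refine TopCat.Sheaf.eq_of_locally_eq' (⟨N.presheaf, N.isSheaf⟩ : TopCat.Sheaf Ab S)
    (fun U : ι => (U.1 : S.Opens)) W (fun U => homOfLE U.2) ?_ s t (fun U => h _ U.1.2 U.2)
  intro x hx
  obtain ⟨_, ⟨U, hU : IsAffineOpen U, rfl⟩, hxU, hUW⟩ :=
    S.isBasis_affineOpens.exists_subset_of_mem_open hx W.2
  exact Opens.mem_iSup.mpr ⟨⟨⟨U, hU⟩, hUW⟩, hxU⟩

/-- Two morphisms of modules that agree on affine opens are equal. -/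
theorem modHom_ext_affine {M N : S.Modules} {f g : M ⟶ N}
    (h : ∀ (U : S.Opens) (_ : IsAffineOpen U), f.app U = g.app U) : f = g := by
  refine Scheme.Modules.hom_ext f g (fun W => ?_)
  ext s
  refine section_ext_affine N W _ _ (fun U hU i => ?_)
  have hf := congrArg (fun k => k.hom s) (f.mapPresheaf.naturality (homOfLE i).op)
  have hg := congrArg (fun k => k.hom s) (g.mapPresheaf.naturality (homOfLE i).op)
  simp only [Scheme.Modules.mapPresheaf_app, AddCommGrpCat.hom_comp, AddMonoidHom.coe_comp,
    Function.comp_apply] at hf hg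
  change N.presheaf.map (homOfLE i).op (f.app W s) = N.presheaf.map (homOfLE i).op (g.app W s)
  erw [← hf, ← hg]
  rw [show f.app (unop (op U)) = g.app (unop (op U)) from h U hU]

end

end Groth.Agent.Helper1.QH
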