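import Mathlib
import Groth.Agent.Helper1.QH2

/-!
# Quasi-coherent algebras from data on the affine opens

A functor `F` on the affine opens with a coequifibered structure map from the structure sheaf
glues to a scheme affine over `S`; its direct-image algebra is a quasi-coherent algebra whose
sections over the affine opens are the `F(U)`.
-/

set_option autoImplicit false
set_option linter.style.haveILetI false

namespace Groth.Agent.Helper1.AQ

open CategoryTheory Limits AlgebraicGeometry TopologicalSpace Opposite RelSpec

universe u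

noncomputable section

variable {S : Scheme.{u}} {F : S.AffineZariskiSiteᵒᵖ ⥤ CommRingCat.{u}}
  {α : (Scheme.AffineZariskiSite.toOpensFunctor S).op ⋙ S.presheaf ⟶ F} (H : α.Coequifibered)

/-- the relative gluing datum -/
def glueData : (Scheme.AffineZariskiSite.directedCover S).RelativeGluingData :=
  Scheme.AffineZariskiSite.relativeGluingData H

instance : ((glueData H).functor ⋙ Scheme.forget).IsLocallyDirected :=
  Scheme.Cover.RelativeGluingData.instIsLocallyDirectedI₀CompFunctorForgetOfIsThin ..

/-- the glued scheme -/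
def spec : Scheme.{u} := (glueData H).glued

/-- the structure morphism -/
def π : spec H ⟶ S := (glueData H).toBase

/-- an affine open as an object of the affine site -/
abbrev aff (U : S.Opens) (hU : IsAffineOpen U) : S.AffineZariskiSite := ⟨U, hU⟩

variable (U : S.Opens) (hU : IsAffineOpen U)

/-- the charts -/
def ι : Spec (F.obj (op (aff U hU))) ⟶ spec H :=
  (glueData H).cover.f (aff U hU)

instance : IsOpenImmersion (ι H U hU) := (glueData H).cover.map_prop _

theorem ι_π :
    ι H U hU ≫ π H = Spec.map (α.app (op (aff U hU))) ≫ hU.fromSpec :=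
  colimit.ι_desc _ _

theorem π_preimage : π H ⁻¹ᵁ U = (ι H U hU).opensRange := by
  simpa using! (glueData H).toBase_preimage_eq_opensRange_ι (aff U hU)

theorem top_le_preimage :
    (⊤ : (Spec (F.obj (op (aff U hU)))).Opens) ≤ ι H U hU ⁻¹ᵁ (π H ⁻¹ᵁ U) := by
  intro x _
  have h1 : (π H) ((ι H U hU) x) = hU.fromSpec ((Spec.map (α.app (op (aff U hU)))) x) := by
    have := congrArg (fun f : Spec (F.obj (op (aff U hU))) ⟶ S => f x) (ι_π H U hU)
    exact this
  change (π H) ((ι H U hU) x) ∈ U
  rw [h1]
  have h2 : hU.fromSpec ((Spec.map (α.app (op (aff U hU)))) x) ∈ Set.range hU.fromSpec := ⟨_, rfl⟩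
  rwa [hU.range_fromSpec] at h2

instance isAffineHom_π : IsAffineHom (π H) where
  isAffine_preimage U hU := by
    rw [π_preimage H U hU]
    exact isAffineOpen_opensRange (ι H U hU)

/-- the identification of the functions over the preimage of `U` with `F(U)` -/
def gammaAff : Γ(spec H, π H ⁻¹ᵁ U) ⟶ F.obj (op (aff U hU)) :=
  (ι H U hU).appLE (π H ⁻¹ᵁ U) ⊤ (top_le_preimage H U hU) ≫
    (Scheme.ΓSpecIso (F.obj (op (aff U hU)))).hom

theorem ι_res {U V : S.AffineZariskiSite} (i : V ⟶ U) :
    Spec.map (F.map i.op) ≫ ι H U.1 U.2 = ι H V.1 V.2 :=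
  colimit.w (glueData H).functor i

end

end Groth.Agent.Helper1.AQ
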