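import Mathlib
import Groth.Agent.Helper1.AQ1

/-!
# Quasi-coherent algebras from data on the affine opens, part 2: sections over affine opens
-/

set_option autoImplicit false
set_option linter.style.haveILetI false

namespace Groth.Agent.Helper1.AQ

open CategoryTheory Limits AlgebraicGeometry TopologicalSpace Opposite RelSpec

universe u

noncomputable section

variable {S : Scheme.{u}} {F : S.AffineZariskiSiteᵒᵖ ⥤ CommRingCat.{u}}
  {α : (Scheme.AffineZariskiSite.toOpensFunctor S).op ⋙ S.presheaf ⟶ F} (H : α.Coequifibered)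

/-- the quasi-coherent algebra attached to the affine data -/
def alg : QCAlg S := QCAlg.directImage (π H)

variable (U : S.Opens) (hU : IsAffineOpen U)

instance isIso_gammaAff : IsIso (gammaAff H U hU) := by
  unfold gammaAff
  have : IsIso ((ι H U hU).appLE (π H ⁻¹ᵁ U) ⊤ (top_le_preimage H U hU)) := by
    rw [Scheme.Hom.appLE]
    have h1 : IsIso ((ι H U hU).app (π H ⁻¹ᵁ U)) :=
      Scheme.Hom.isIso_app (ι H U hU) _ (π_preimage H U hU).le
    have h2 : IsIso ((Spec (F.obj (op (aff U hU)))).presheaf.map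
        (homOfLE (top_le_preimage H U hU)).op) := by
      have e : (ι H U hU ⁻¹ᵁ (π H ⁻¹ᵁ U)) = ⊤ := top_le_iff.mp (top_le_preimage H U hU)
      have : IsIso (homOfLE (top_le_preimage H U hU)) :=
        ⟨⟨homOfLE le_top, Subsingleton.elim _ _, Subsingleton.elim _ _⟩⟩
      infer_instance
    infer_instance
  infer_instance

set_option backward.isDefEq.respectTransparency false in
theorem gammaAff_naturality {U V : S.AffineZariskiSite} (i : V ⟶ U) :
    (spec H).presheaf.map (homOfLE ((π H).preimage_mono
        (Scheme.AffineZariskiSite.toOpens_mono i.le))).op ≫ gammaAff H V.1 V.2 =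
      gammaAff H U.1 U.2 ≫ F.map i.op := by
  simp only [gammaAff, Category.assoc, ← Scheme.ΓSpecIso_naturality]
  simp only [← Category.assoc]
  congr 1
  simp only [Scheme.Hom.appTop, Scheme.Hom.appLE, Category.assoc]
  have h1 := (Scheme.Hom.comp_app (Spec.map (F.map i.op)) (ι H U.1 U.2) (π H ⁻¹ᵁ U.1)).symm
  rw [Scheme.Hom.naturality_assoc, Scheme.Hom.naturality, reassoc_of% h1,
    Scheme.Hom.congr_app (ι_res H i), Category.assoc, ← Functor.map_comp, ← Functor.map_comp]
  rfl

set_option backward.isDefEq.respectTransparency false in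
theorem π_app_gammaAff : (π H).app U ≫ gammaAff H U hU = α.app (op (aff U hU)) := by
  have h1 := Scheme.Hom.congr_app (ι_π H U hU) U
  have h2 := (Scheme.Hom.comp_app (ι H U hU) (π H) U).symm
  have hk : ∀ k : (op ⊤ : (Spec (F.obj (op (aff U hU)))).Opensᵒᵖ) ⟶ op ⊤,
      (Spec (F.obj (op (aff U hU)))).presheaf.map k = 𝟙 _ := fun k => by
    rw [Subsingleton.elim k (𝟙 _)]; exact CategoryTheory.Functor.map_id _ _
  simp only [gammaAff, Scheme.Hom.appLE, Category.assoc]
  rw [reassoc_of% h2, h1, Scheme.Hom.comp_app, hU.fromSpec_app_self]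
  simp only [Category.assoc]
  rw [Scheme.Hom.naturality_assoc]
  simp only [← Functor.map_comp_assoc]
  erw [hk, Category.id_comp]
  rw [← cancel_epi (Scheme.ΓSpecIso Γ(S, U)).hom, Iso.hom_inv_id_assoc]
  erw [Scheme.ΓSpecIso_naturality]
  rfl

end

end Groth.Agent.Helper1.AQ
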