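import Mathlib

/-!
# Artin–Rees for `Hom` modules

For finite modules `P`, `Q` over a Noetherian ring `B` and an ideal `𝔟`:
* a linear map `P → Q` with values in `𝔟ⁿQ` lies in `𝔟ᵏ Hom(P, Q)` as soon as `k + c ≤ n`;
* a linear map `P → Q/(small)` lifts to `P → Q` modulo `𝔟ᵏ`.
-/

set_option autoImplicit false

universe u

namespace Groth.Agent.Helper1.ARHom

open Submodule

section General

variable {B : Type*} [CommRing B] (𝔟 : Ideal B)

lemma apply_mem_smul_top {M N : Type*} [AddCommGroup M] [Module B M] [AddCommGroup N]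
    [Module B N] (φ : M →ₗ[B] N) {I : Ideal B} {x : M} (hx : x ∈ I • (⊤ : Submodule B M)) :
    φ x ∈ I • (⊤ : Submodule B N) :=
  Submodule.smul_top_le_comap_smul_top I φ hx

variable [IsNoetherianRing B]

/-- Artin–Rees for the kernel of a linear map -/
theorem exists_ker {S T : Type*} [AddCommGroup S] [Module B S] [Module.Finite B S]
    [AddCommGroup T] [Module B T] (u : S →ₗ[B] T) :
    ∃ c : ℕ, ∀ n k : ℕ, k + c ≤ n → ∀ x : S, u x = 0 → x ∈ 𝔟 ^ n • (⊤ : Submodule B S) →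
      x ∈ 𝔟 ^ k • LinearMap.ker u := by
  obtain ⟨c, hc⟩ := Ideal.exists_pow_inf_eq_pow_smul 𝔟 (LinearMap.ker u)
  refine ⟨c, fun n k hk x hx hxn => ?_⟩
  have h1 : x ∈ 𝔟 ^ n • (⊤ : Submodule B S) ⊓ LinearMap.ker u := ⟨hxn, hx⟩
  rw [hc n (by omega)] at h1
  have h2 : 𝔟 ^ (n - c) • (𝔟 ^ c • (⊤ : Submodule B S) ⊓ LinearMap.ker u) ≤
      𝔟 ^ k • LinearMap.ker u :=
    Submodule.smul_mono (Ideal.pow_le_pow_right (by omega)) inf_le_right
  exact h2 h1

/-- Artin–Rees for the range of a linear map -/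
theorem exists_range {S T : Type*} [AddCommGroup S] [Module B S]
    [AddCommGroup T] [Module B T] [Module.Finite B T] (u : S →ₗ[B] T) :
    ∃ c : ℕ, ∀ n k : ℕ, k + c ≤ n → ∀ x : S, u x ∈ 𝔟 ^ n • (⊤ : Submodule B T) →
      ∃ y : S, y ∈ 𝔟 ^ k • (⊤ : Submodule B S) ∧ u y = u x := by
  obtain ⟨c, hc⟩ := Ideal.exists_pow_inf_eq_pow_smul 𝔟 (LinearMap.range u)
  refine ⟨c, fun n k hk x hxn => ?_⟩
  have h1 : u x ∈ 𝔟 ^ n • (⊤ : Submodule B T) ⊓ LinearMap.range u := ⟨hxn, ⟨x, rfl⟩⟩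
  rw [hc n (by omega)] at h1
  have h2 : 𝔟 ^ (n - c) • (𝔟 ^ c • (⊤ : Submodule B T) ⊓ LinearMap.range u) ≤
      𝔟 ^ k • LinearMap.range u :=
    Submodule.smul_mono (Ideal.pow_le_pow_right (by omega)) inf_le_right
  have h3 := h2 h1
  rw [← Submodule.map_top, ← Submodule.map_smul''] at h3
  obtain ⟨y, hy, hyx⟩ := h3
  exact ⟨y, hy, hyx⟩

end General

section Free

variable {B : Type*} [CommRing B] {Q : Type*} [AddCommGroup Q] [Module B Q]

/-- a linear map from a finite free module with values in `IQ` lies in `I Hom` -/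
lemma mem_smul_top_of_forall {n : ℕ} (I : Ideal B) (F : (Fin n → B) →ₗ[B] Q)
    (h : ∀ x, F x ∈ I • (⊤ : Submodule B Q)) :
    F ∈ I • (⊤ : Submodule B ((Fin n → B) →ₗ[B] Q)) := by
  classical
  let φ : Fin n → Q →ₗ[B] ((Fin n → B) →ₗ[B] Q) := fun i =>
    { toFun := fun q => (LinearMap.proj i : (Fin n → B) →ₗ[B] B).smulRight q
      map_add' := fun q q' => LinearMap.ext fun y => by
        simp only [LinearMap.smulRight_apply, LinearMap.add_apply, smul_add]
      map_smul' := fun b q => LinearMap.ext fun y => by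
        simp only [LinearMap.smulRight_apply, LinearMap.smul_apply, RingHom.id_apply]
        exact smul_comm _ _ _ }
  have hF : F = ∑ i, φ i (F (Pi.single i 1)) := by
    apply LinearMap.pi_ext'
    intro j
    ext
    simp only [LinearMap.coe_comp, LinearMap.coe_single, Function.comp_apply,
      LinearMap.sum_apply]
    rw [Finset.sum_eq_single j]
    · simp [φ]
    · intro i _ hij
      simp [φ, hij]
    · intro hj
      exact absurd (Finset.mem_univ j) hj
  rw [hF]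
  exact Submodule.sum_mem _ fun i _ => apply_mem_smul_top (φ i) (h _)

end Free

section Hom

variable {B : Type u} [CommRing B] [IsNoetherianRing B] (𝔟 : Ideal B)
variable (P Q : Type u) [AddCommGroup P] [Module B P] [Module.Finite B P]
  [AddCommGroup Q] [Module B Q] [Module.Finite B Q]

/-- a finite presentation of a finite module over a Noetherian ring -/
lemma exists_presentation : ∃ (a b : ℕ) (ρ : (Fin a → B) →ₗ[B] (Fin b → B))
    (g : (Fin b → B) →ₗ[B] P), Function.Surjective g ∧ LinearMap.range ρ = LinearMap.ker g := by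
  obtain ⟨b, g, hg⟩ := Module.Finite.exists_fin' B P
  obtain ⟨a, ρ', hρ'⟩ := Module.Finite.exists_fin' B (LinearMap.ker g)
  refine ⟨a, b, (LinearMap.ker g).subtype ∘ₗ ρ', g, hg, ?_⟩
  rw [LinearMap.range_comp, LinearMap.range_eq_top.2 hρ', Submodule.map_top,
    Submodule.range_subtype]

/-- **Artin–Rees for `Hom`, injectivity part** -/
theorem exists_hom_mem : ∃ c : ℕ, ∀ n k : ℕ, k + c ≤ n → ∀ f : P →ₗ[B] Q,
    (∀ m, f m ∈ 𝔟 ^ n • (⊤ : Submodule B Q)) →
      f ∈ 𝔟 ^ k • (⊤ : Submodule B (P →ₗ[B] Q)) := by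
  obtain ⟨a, b, ρ, g, hg, hρ⟩ := exists_presentation (B := B) P
  let u : ((Fin b → B) →ₗ[B] Q) →ₗ[B] ((Fin a → B) →ₗ[B] Q) := LinearMap.lcomp B Q ρ
  let Φ : (P →ₗ[B] Q) →ₗ[B] ((Fin b → B) →ₗ[B] Q) := LinearMap.lcomp B Q g
  have hgρ : g ∘ₗ ρ = 0 := by
    ext x
    have : ρ (Pi.single x 1) ∈ LinearMap.ker g := hρ ▸ LinearMap.mem_range_self ρ _
    simpa using this
  have hΦinj : Function.Injective Φ := by
    intro f f' hff
    ext m
    obtain ⟨x, rfl⟩ := hg m
    exact LinearMap.congr_fun hff x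
  have hΦ : LinearMap.ker u ≤ LinearMap.range Φ := by
    intro F hF
    have hF' : F ∘ₗ ρ = 0 := hF
    have hker : LinearMap.ker g ≤ LinearMap.ker F := by
      rw [← hρ]
      rintro _ ⟨y, rfl⟩
      exact LinearMap.congr_fun hF' y
    refine ⟨(LinearMap.ker g).liftQ F hker ∘ₗ
      (LinearMap.quotKerEquivOfSurjective g hg).symm.toLinearMap, ?_⟩
    ext x
    show (LinearMap.ker g).liftQ F hker
      ((LinearMap.quotKerEquivOfSurjective g hg).symm (g (Pi.single x 1))) = F (Pi.single x 1)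
    have : (LinearMap.quotKerEquivOfSurjective g hg).symm (g (Pi.single x 1)) =
        (LinearMap.ker g).mkQ (Pi.single x 1) := by
      rw [LinearEquiv.symm_apply_eq]
      rfl
    rw [this]
    rfl
  obtain ⟨c, hc⟩ := exists_ker 𝔟 u
  refine ⟨c, fun n k hk f hf => ?_⟩
  have h1 : u (Φ f) = 0 := by
    show (f ∘ₗ g) ∘ₗ ρ = 0
    rw [LinearMap.comp_assoc, hgρ, LinearMap.comp_zero]
  have h2 : Φ f ∈ 𝔟 ^ n • (⊤ : Submodule B ((Fin b → B) →ₗ[B] Q)) :=
    mem_smul_top_of_forall _ _ fun x => hf (g x)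
  have h3 : Φ f ∈ 𝔟 ^ k • LinearMap.ker u := hc n k hk _ h1 h2
  have h4 : 𝔟 ^ k • LinearMap.ker u ≤
      Submodule.map Φ (𝔟 ^ k • (⊤ : Submodule B (P →ₗ[B] Q))) := by
    rw [Submodule.map_smul'', Submodule.map_top]
    exact Submodule.smul_mono le_rfl hΦ
  obtain ⟨f', hf', hff'⟩ := h4 h3
  rwa [← hΦinj hff']

/-- **Artin–Rees for `Hom`, surjectivity part** -/
theorem exists_hom_lift : ∃ c : ℕ, ∀ n k : ℕ, k + c ≤ n →
    ∀ (Q' : Type u) [AddCommGroup Q'] [Module B Q'] (π : Q →ₗ[B] Q'), Function.Surjective π →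
      LinearMap.ker π ≤ 𝔟 ^ n • (⊤ : Submodule B Q) → ∀ f : P →ₗ[B] Q',
        ∃ f' : P →ₗ[B] Q, ∀ m, π (f' m) - f m ∈ 𝔟 ^ k • (⊤ : Submodule B Q') := by
  obtain ⟨a, b, ρ, g, hg, hρ⟩ := exists_presentation (B := B) P
  let u : ((Fin b → B) →ₗ[B] Q) →ₗ[B] ((Fin a → B) →ₗ[B] Q) := LinearMap.lcomp B Q ρ
  have hgρ : g ∘ₗ ρ = 0 := by
    ext x
    have : ρ (Pi.single x 1) ∈ LinearMap.ker g := hρ ▸ LinearMap.mem_range_self ρ _
    simpa using this
  obtain ⟨c, hc⟩ := exists_range 𝔟 u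
  refine ⟨c, fun n k hk Q' _ _ π hπ hker f => ?_⟩
  -- lift `f ∘ g` to `F : B^b → Q`
  obtain ⟨F, hF⟩ := Module.projective_lifting_property π (f ∘ₗ g) hπ
  have h1 : u F ∈ 𝔟 ^ n • (⊤ : Submodule B ((Fin a → B) →ₗ[B] Q)) := by
    apply mem_smul_top_of_forall
    intro x
    apply hker
    show π (F (ρ x)) = 0
    have : π (F (ρ x)) = (π ∘ₗ F) (ρ x) := rfl
    rw [this, hF]
    show f ((g ∘ₗ ρ) x) = 0
    rw [hgρ, LinearMap.zero_apply, map_zero]
  obtain ⟨F'', hF'', huF⟩ := hc n k hk F h1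
  -- `F - F''` vanishes on the relations
  have h2 : (F - F'') ∘ₗ ρ = 0 := by
    have : u (F - F'') = 0 := by rw [map_sub, huF, sub_self]
    exact this
  have hker' : LinearMap.ker g ≤ LinearMap.ker (F - F'') := by
    rw [← hρ]
    rintro _ ⟨y, rfl⟩
    exact LinearMap.congr_fun h2 y
  let f' : P →ₗ[B] Q := (LinearMap.ker g).liftQ (F - F'') hker' ∘ₗ
    (LinearMap.quotKerEquivOfSurjective g hg).symm.toLinearMap
  have hf' : ∀ x, f' (g x) = F x - F'' x := by
    intro x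
    show (LinearMap.ker g).liftQ (F - F'') hker'
      ((LinearMap.quotKerEquivOfSurjective g hg).symm (g x)) = F x - F'' x
    have : (LinearMap.quotKerEquivOfSurjective g hg).symm (g x) = (LinearMap.ker g).mkQ x := by
      rw [LinearEquiv.symm_apply_eq]
      rfl
    rw [this]
    rfl
  refine ⟨f', fun m => ?_⟩
  obtain ⟨x, rfl⟩ := hg m
  have h3 : π (f' (g x)) - f (g x) = - π (F'' x) := by
    rw [hf', map_sub]
    have : π (F x) = f (g x) := LinearMap.congr_fun hF x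
    rw [this]
    abel
  rw [h3]
  apply Submodule.neg_mem
  apply apply_mem_smul_top π
  exact apply_mem_smul_top (LinearMap.applyₗ x) hF''

end Hom

end Groth.Agent.Helper1.ARHom
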