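import Groth.Agent.Helper1.SerreCritB
import Groth.Agent.Helper3.SheafModLib
import Groth.Agent.Helper4.SubSum

/-!
# Serre's criterion, step 3: the functions generate the unit ideal
-/

set_option autoImplicit false

namespace Groth.Agent.Helper1.SerreCrit

open CategoryTheory Limits Opposite TopologicalSpace AlgebraicGeometry
open Groth.Agent.Helper1.IdealMod Groth.Agent.Helper1.CohTopFun

universe u

variable {X : Scheme.{u}}

/-- the underlying abelian sheaf, as a functor on `X.Modules` -/
noncomputable def toAbF (X : Scheme.{u}) : X.Modules ⥤ CohTop.Ab X :=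
  SheafOfModules.toSheaf X.ringCatSheaf

instance (X : Scheme.{u}) : (toAbF X).Additive :=
  inferInstanceAs (SheafOfModules.toSheaf X.ringCatSheaf).Additive

instance (X : Scheme.{u}) : PreservesFiniteLimits (toAbF X) := by
  haveI := Groth.Agent.Helper3.SheafModLib.toSheaf_preservesLimits X.ringCatSheaf
  exact inferInstanceAs (PreservesFiniteLimits (SheafOfModules.toSheaf X.ringCatSheaf))

instance (X : Scheme.{u}) : PreservesFiniteColimits (toAbF X) := by
  haveI := Groth.Agent.Helper3.SheafModLib.toSheaf_preservesColimits X.ringCatSheaf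
  haveI : PreservesFiniteColimits (SheafOfModules.toSheaf X.ringCatSheaf) :=
    PreservesColimitsOfSize.preservesFiniteColimits _
  exact inferInstanceAs (PreservesFiniteColimits (SheafOfModules.toSheaf X.ringCatSheaf))

/-- global sections of a short exact sequence of modules: the last map is surjective if `H¹` of
the kernel vanishes -/
lemma surjective_app_top (S : ShortComplex X.Modules) (hS : S.ShortExact)
    (h : Subsingleton (Coh.HH X S.X₁ 1)) : Function.Surjective (S.g.app ⊤) := by
  have hS' : (S.map (toAbF X)).ShortExact := hS.map_of_exact (toAbF X)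
  exact MVSurj.surjective_sections_of_H1 (S.map (toAbF X)) hS'
    (@AddCommGrpCat.isZero_of_subsingleton _ h)

/-- multiplication by a global function, as an endomorphism of the structure sheaf -/
noncomputable def mulHom (f : Γ(X, ⊤)) : Coh.structureModule X ⟶ Coh.structureModule X :=
  (SheafOfModules.unitHomEquiv _).symm
    (PresheafOfModules.sectionsMk (M := (Coh.structureModule X).val)
      (fun V => (show (Coh.structureModule X).val.obj V from
        X.presheaf.map (homOfLE (le_top : V.unop ≤ ⊤)).op f))
      (by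
        intro V W g
        show X.presheaf.map g (X.presheaf.map (homOfLE (le_top : V.unop ≤ ⊤)).op f) = _
        rw [← ConcreteCategory.comp_apply, ← X.presheaf.map_comp]
        rfl))

lemma fn_mulHom_app (f : Γ(X, ⊤)) (V : X.Opens) (a : Γ(Coh.structureModule X, V)) :
    fn ((mulHom f).app V a) = fn a * X.presheaf.map (homOfLE (le_top : V ≤ ⊤)).op f := rfl

/-- a submodule of the structure sheaf which contains `1` locally contains `1` globally -/
lemma exists_one_of_locally {J : X.Modules} (i : J ⟶ Coh.structureModule X) [Mono i]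
    (hloc : ∀ x : X, ∃ (W : X.Opens) (_ : x ∈ W) (s : Γ(J, W)), fn (i.app W s) = 1) :
    ∃ j : Γ(J, ⊤), fn (i.app ⊤ j) = 1 := by
  choose W hxW s hs using hloc
  have hcompat : TopCat.Presheaf.IsCompatible (Coh.toAb J).obj W s := by
    intro x y
    show J.presheaf.map (Opens.infLELeft (W x) (W y)).op (s x) =
      J.presheaf.map (Opens.infLERight (W x) (W y)).op (s y)
    apply Groth.Agent.Helper4.AffineDict.app_injective_of_mono i (W x ⊓ W y)
    apply fn_injective
    rw [Groth.Agent.Helper4.StalkExact.app_res, Groth.Agent.Helper4.StalkExact.app_res,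
      fn_res, fn_res, hs, hs, map_one, map_one]
  obtain ⟨j, hj, -⟩ := TopCat.Sheaf.existsUnique_gluing' (Coh.toAb J) W ⊤
    (fun x => homOfLE le_top) (fun x _ => Opens.mem_iSup.2 ⟨x, hxW x⟩) s hcompat
  refine ⟨j, ?_⟩
  refine TopCat.Sheaf.eq_of_locally_eq' X.sheaf W ⊤ (fun x => homOfLE le_top)
    (fun x _ => Opens.mem_iSup.2 ⟨x, hxW x⟩) _ _ ?_
  intro x
  have h1 : X.presheaf.map (homOfLE (le_top : W x ≤ ⊤)).op (fn (i.app ⊤ j)) =
      fn (i.app (W x) (J.presheaf.map (homOfLE (le_top : W x ≤ ⊤)).op j)) := by
    rw [Groth.Agent.Helper4.StalkExact.app_res, fn_res]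
  refine h1.trans ?_
  have h2 : J.presheaf.map (homOfLE (le_top : W x ≤ ⊤)).op j = s x := hj x
  rw [h2, hs]
  exact (map_one _).symm

/-- the key induction: if `J + (f₁, …, fₙ) O_X = O_X` as sheaves, then this holds on global
sections -/
theorem exists_sub_mem_span
    (h : ∀ (I : X.Modules) (i : I ⟶ Coh.structureModule X), Mono i →
      Coh.IsQCoh I → Subsingleton (Coh.HH X I 1)) :
    ∀ (l : List Γ(X, ⊤)) (J : X.Modules) (i : J ⟶ Coh.structureModule X) [Mono i]
      [J.IsQuasicoherent],
      (∀ x : X, (∃ f ∈ l, x ∈ X.basicOpen f) ∨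
        ∃ (W : X.Opens) (_ : x ∈ W) (s : Γ(J, W)), fn (i.app W s) = 1) →
      ∃ j : Γ(J, ⊤), 1 - fn (i.app ⊤ j) ∈ Ideal.span {f | f ∈ l} := by
  intro l
  induction l with
  | nil =>
    intro J i _ _ hloc
    obtain ⟨j, hj⟩ := exists_one_of_locally i (fun x => by
      rcases hloc x with ⟨f, hf, -⟩ | h2
      · simp at hf
      · exact h2)
    exact ⟨j, by rw [hj, sub_self]; exact Ideal.zero_mem _⟩
  | cons f l ih =>
    intro J i _ _ hloc
    -- the sum `J + f O`
    let φ : J ⊞ Coh.structureModule X ⟶ Coh.structureModule X := biprod.desc i (mulHom f)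
    let J' : X.Modules := Abelian.image φ
    let i' : J' ⟶ Coh.structureModule X := Abelian.image.ι φ
    let π : J ⊞ Coh.structureModule X ⟶ J' := Abelian.factorThruImage φ
    have hπi : π ≫ i' = φ := Abelian.image.fac φ
    haveI : (J ⊞ Coh.structureModule X).IsQuasicoherent :=
      Groth.Agent.Helper4.QcohLimits.isQuasicoherent_biprod _ _
    haveI : J'.IsQuasicoherent := Groth.Agent.Helper4.QcohLimits.isQuasicoherent_image φ
    have hφ : ∀ (T : X.Opens) (w : Γ(J ⊞ Coh.structureModule X, T)),
        fn (φ.app T w) = fn (i.app T ((biprod.fst : J ⊞ Coh.structureModule X ⟶ J).app T w)) +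
          fn ((biprod.snd : J ⊞ Coh.structureModule X ⟶ _).app T w) *
            X.presheaf.map (homOfLE (le_top : T ≤ ⊤)).op f := by
      intro T w
      have h1 := Groth.Agent.Helper4.SubSum.biprod_total_app T w
      have h2 := congrArg (fun z => fn (φ.app T z)) h1
      simp only at h2
      rw [← h2, map_add, fn_add]
      have e1 : (biprod.inl : J ⟶ J ⊞ Coh.structureModule X) ≫ φ = i := biprod.inl_desc _ _
      have e2 : (biprod.inr : Coh.structureModule X ⟶ J ⊞ Coh.structureModule X) ≫ φ =
          mulHom f := biprod.inr_desc _ _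
      have e1' : ∀ z, φ.app T ((biprod.inl : J ⟶ J ⊞ Coh.structureModule X).app T z) =
          i.app T z := fun z => congrArg (fun ψ => (Scheme.Modules.Hom.app ψ T) z) e1
      have e2' : ∀ z, φ.app T ((biprod.inr : Coh.structureModule X ⟶
          J ⊞ Coh.structureModule X).app T z) = (mulHom f).app T z :=
        fun z => congrArg (fun ψ => (Scheme.Modules.Hom.app ψ T) z) e2
      rw [e1', e2', fn_mulHom_app]
    have hi'π : ∀ (T : X.Opens) (w : Γ(J ⊞ Coh.structureModule X, T)),
        i'.app T (π.app T w) = φ.app T w :=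
      fun T w => congrArg (fun ψ => (Scheme.Modules.Hom.app ψ T) w) hπi
    -- the hypothesis for `J'`
    have hloc' : ∀ x : X, (∃ g ∈ l, x ∈ X.basicOpen g) ∨
        ∃ (W : X.Opens) (_ : x ∈ W) (s : Γ(J', W)), fn (i'.app W s) = 1 := by
      intro x
      rcases hloc x with ⟨g, hg, hxg⟩ | ⟨W, hxW, s, hs⟩
      · rcases List.mem_cons.1 hg with rfl | hg'
        · right
          have hu : IsUnit (X.presheaf.map (homOfLE (le_top : X.basicOpen g ≤ ⊤)).op g) :=
            RingedSpace.isUnit_res_basicOpen _ g
          obtain ⟨v, hv⟩ := hu.exists_left_inv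
          refine ⟨X.basicOpen g, hxg, π.app _ ((biprod.inr : Coh.structureModule X ⟶
            J ⊞ Coh.structureModule X).app _ (ofFn v)), ?_⟩
          rw [hi'π, hφ]
          have e3 : (biprod.inr : Coh.structureModule X ⟶ J ⊞ Coh.structureModule X) ≫
              (biprod.fst : J ⊞ Coh.structureModule X ⟶ J) = 0 := biprod.inr_fst
          have e4 : (biprod.inr : Coh.structureModule X ⟶ J ⊞ Coh.structureModule X) ≫
              (biprod.snd : J ⊞ Coh.structureModule X ⟶ _) = 𝟙 _ := biprod.inr_snd
          have e3' := congrArg (fun ψ => (Scheme.Modules.Hom.app ψ (X.basicOpen g)) (ofFn v)) e3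
          have e4' := congrArg (fun ψ => (Scheme.Modules.Hom.app ψ (X.basicOpen g)) (ofFn v)) e4
          simp only [Scheme.Modules.Hom.comp_app, ConcreteCategory.comp_apply] at e3' e4'
          rw [e3', e4']
          show fn (i.app _ 0) + v * _ = 1
          rw [map_zero, fn_zero, zero_add, hv]
        · exact Or.inl ⟨g, hg', hxg⟩
      · right
        refine ⟨W, hxW, π.app _ ((biprod.inl : J ⟶ J ⊞ Coh.structureModule X).app _ s), ?_⟩
        rw [hi'π, hφ]
        have e3 : (biprod.inl : J ⟶ J ⊞ Coh.structureModule X) ≫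
            (biprod.fst : J ⊞ Coh.structureModule X ⟶ J) = 𝟙 _ := biprod.inl_fst
        have e4 : (biprod.inl : J ⟶ J ⊞ Coh.structureModule X) ≫
            (biprod.snd : J ⊞ Coh.structureModule X ⟶ _) = 0 := biprod.inl_snd
        have e3' := congrArg (fun ψ => (Scheme.Modules.Hom.app ψ W) s) e3
        have e4' := congrArg (fun ψ => (Scheme.Modules.Hom.app ψ W) s) e4
        simp only [Scheme.Modules.Hom.comp_app, ConcreteCategory.comp_apply] at e3' e4'
        rw [e3', e4']
        show fn (i.app W s) + fn 0 * _ = 1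
        rw [fn_zero, zero_mul, add_zero, hs]
    obtain ⟨j', hj'⟩ := ih J' i' hloc'
    -- the kernel of `J ⊞ O ⟶ J'` is an ideal
    let K : X.Modules := kernel π
    let κ : K ⟶ Coh.structureModule X := kernel.ι π ≫ biprod.snd
    haveI : K.IsQuasicoherent := Groth.Agent.Helper4.QcohLimits.isQuasicoherent_kernel π
    haveI hκ : Mono κ := by
      apply Groth.Agent.Helper4.SubSec.mono_of_app_injective
      intro T
      rw [injective_iff_map_eq_zero]
      intro z hz
      apply Groth.Agent.Helper4.AffineDict.app_injective_of_mono (kernel.ι π) T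
      rw [map_zero]
      obtain ⟨w, hw⟩ : ∃ w, w = (kernel.ι π).app T z := ⟨_, rfl⟩
      rw [← hw]
      have hz' : (biprod.snd : J ⊞ Coh.structureModule X ⟶ _).app T w = 0 := by
        rw [hw]; exact hz
      have hπw : π.app T w = 0 := by
        rw [hw]
        exact congrArg (fun ψ => (Scheme.Modules.Hom.app ψ T) z) (kernel.condition π)
      have hφw : fn (φ.app T w) = 0 := by
        rw [← hi'π, hπw, map_zero, fn_zero]
      rw [hφ, hz', fn_zero, zero_mul, add_zero] at hφw
      have hfst : (biprod.fst : J ⊞ Coh.structureModule X ⟶ J).app T w = 0 := by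
        apply Groth.Agent.Helper4.AffineDict.app_injective_of_mono i T
        rw [map_zero]
        exact fn_injective (hφw.trans fn_zero.symm)
      have h1 := Groth.Agent.Helper4.SubSum.biprod_total_app T w
      rw [hfst, hz', map_zero, map_zero, add_zero] at h1
      exact h1.symm
    let S : ShortComplex X.Modules := ShortComplex.mk (kernel.ι π) π (kernel.condition π)
    have hS : S.ShortExact :=
      { exact := ShortComplex.exact_of_f_is_kernel _ (kernelIsKernel π)
        mono_f := inferInstanceAs (Mono (kernel.ι π))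
        epi_g := inferInstanceAs (Epi (Abelian.factorThruImage φ)) }
    obtain ⟨w, hw⟩ := surjective_app_top S hS (h K κ hκ inferInstance) j'
    have hw' : π.app ⊤ w = j' := hw
    refine ⟨(biprod.fst : J ⊞ Coh.structureModule X ⟶ J).app ⊤ w, ?_⟩
    have h5 : fn (i'.app ⊤ j') = fn (i.app ⊤ ((biprod.fst : J ⊞ Coh.structureModule X ⟶ J).app ⊤ w)) +
        fn ((biprod.snd : J ⊞ Coh.structureModule X ⟶ _).app ⊤ w) * f := by
      rw [← hw', hi'π, hφ]
      congr 1
      have : (homOfLE (le_top : (⊤ : X.Opens) ≤ ⊤)).op = 𝟙 _ := rfl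
      rw [this, X.presheaf.map_id]
      rfl
    have h6 : 1 - fn (i.app ⊤ ((biprod.fst : J ⊞ Coh.structureModule X ⟶ J).app ⊤ w)) =
        (1 - fn (i'.app ⊤ j')) +
          fn ((biprod.snd : J ⊞ Coh.structureModule X ⟶ _).app ⊤ w) * f := by
      rw [h5]; ring
    rw [h6]
    apply Ideal.add_mem
    · exact Ideal.span_mono (fun g (hg : g ∈ l) => List.mem_cons_of_mem f hg) hj'
    · exact Ideal.mul_mem_left _ _ (Ideal.subset_span (List.mem_cons_self))

end Groth.Agent.Helper1.SerreCrit
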