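import Mathlib
import Groth.Prelude.Def_Canon
import Groth.Agent.Helper1.SerreCritC

/-!
# Cohomology of a finite direct sum is finitely generated if that of the summands is
-/

set_option autoImplicit false
set_option linter.style.haveILetI false

namespace Groth.Agent.Helper1.HHSum

open CategoryTheory Limits AlgebraicGeometry Opposite
open Groth.Agent.Helper1.SerreCrit

universe u

section cat

variable {C : Type*} [Category C] [Preadditive C] {k : ℕ} (M : Fin k → C) [HasCoproduct M]

/-- the projections of a finite coproduct -/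
noncomputable def proj (j : Fin k) : ∐ M ⟶ M j :=
  Sigma.desc (fun j' => if h : j' = j then eqToHom (by rw [h]) else 0)

lemma ι_proj (j j' : Fin k) :
    Sigma.ι M j' ≫ proj M j = if h : j' = j then eqToHom (by rw [h]) else 0 := by
  unfold proj
  rw [Sigma.ι_desc]

lemma sum_proj_ι : ∑ j, proj M j ≫ Sigma.ι M j = 𝟙 (∐ M) := by
  apply Sigma.hom_ext
  intro j'
  rw [Preadditive.comp_sum, Category.comp_id]
  rw [Finset.sum_eq_single j']
  · rw [← Category.assoc, ι_proj, dif_pos rfl, eqToHom_refl, Category.id_comp]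
  · intro j _ hj
    rw [← Category.assoc, ι_proj, dif_neg (Ne.symm hj), zero_comp]
  · intro h
    exact absurd (Finset.mem_univ _) h

end cat

lemma hom_sum_apply {P Q : AddCommGrpCat.{u}} {ι : Type*} (T : Finset ι) (f : ι → (P ⟶ Q))
    (x : P) : (∑ j ∈ T, f j).hom x = ∑ j ∈ T, (f j).hom x := by
  classical
  induction T using Finset.induction_on with
  | empty => simp
  | insert a T ha ih =>
    rw [Finset.sum_insert ha, Finset.sum_insert ha, AddCommGrpCat.hom_add, AddMonoidHom.add_apply,
      ih]

variable (A : Type u) [CommRing A] {X : Scheme.{u}} [X.Over (Spec (CommRingCat.of A))]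

/-- the cohomology functor -/
noncomputable abbrev Hn (X : Scheme.{u}) (n : ℕ) : X.Modules ⥤ AddCommGrpCat.{u} :=
  toAbF X ⋙ Sheaf.functorH (Opens.grothendieckTopology X) n

lemma HHlin_apply {F G : X.Modules} (φ : F ⟶ G) (n : ℕ) (x : Coh.HH X F n) :
    Canon.HHlin A φ n x = ((Hn X n).map φ).hom x := rfl

theorem finite_HH_sigma {k : ℕ} (M : Fin k → X.Modules) (n : ℕ)
    (h : ∀ j, Module.Finite A (Coh.HH X (M j) n)) : Module.Finite A (Coh.HH X (∐ M) n) := by
  have key : ∀ x : Coh.HH X (∐ M) n,
      x = ∑ j, Canon.HHlin A (Sigma.ι M j) n (Canon.HHlin A (proj M j) n x) := by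
    intro x
    have h1 : ((Hn X n).map (∑ j, proj M j ≫ Sigma.ι M j)).hom x =
        ((Hn X n).map (𝟙 (∐ M))).hom x :=
      congrArg (fun f => ((Hn X n).map f).hom x) (sum_proj_ι M)
    rw [CategoryTheory.Functor.map_sum, hom_sum_apply, CategoryTheory.Functor.map_id] at h1
    refine Eq.trans ?_ (Eq.trans h1.symm ?_)
    · rfl
    · refine Finset.sum_congr rfl (fun j _ => ?_)
      rw [CategoryTheory.Functor.map_comp]
      rfl
  refine ⟨?_⟩
  have h2 : (⊤ : Submodule A (Coh.HH X (∐ M) n)) =
      ⨆ j, LinearMap.range (Canon.HHlin A (Sigma.ι M j) n) := by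
    apply le_antisymm
    · intro x _
      rw [key x]
      refine Submodule.sum_mem _ (fun j _ => ?_)
      exact Submodule.mem_iSup_of_mem j ⟨_, rfl⟩
    · exact le_top
  rw [h2]
  refine Submodule.fg_iSup _ (fun j => ?_)
  rw [LinearMap.range_eq_map]
  exact Submodule.FG.map _ (h j).1

end Groth.Agent.Helper1.HHSum
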