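import Mathlib

/-!
# A graded Hilbert basis theorem for sequences of modules with commuting operators

`V n` (`n : ℕ`) finite modules over a Noetherian ring `B`, with commuting operators
`T i n : V n → V (n+1)` (`i : Fin r`), generated in degrees `≤ N` (i.e. `V (n+1) = ∑ T_i V n` for
`n ≥ N`).  Then every stable family of submodules `W n ⊆ V n` is generated in bounded degrees.
-/

set_option autoImplicit false
set_option linter.style.haveILetI false

namespace Groth.Agent.Helper1.GrHB

open DirectSum

universe u v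

variable {B : Type u} [CommRing B] {r : ℕ} {V : ℕ → Type v} [∀ n, AddCommGroup (V n)]
  [∀ n, Module B (V n)] (T : Fin r → ∀ n, V n →ₗ[B] V (n + 1))

/-- the operators commute -/
def Comm : Prop := ∀ i j n (x : V n), T i (n + 1) (T j n x) = T j (n + 1) (T i n x)

/-- generated in degrees `≤ N` -/
def GenFrom (N : ℕ) : Prop := ∀ n, N ≤ n → ∀ x : V (n + 1), ∃ y : Fin r → V n, x = ∑ i, T i n (y i)

/-- a stable family of submodules -/
def Stable (W : ∀ n, Submodule B (V n)) : Prop := ∀ i n, ∀ x ∈ W n, T i n x ∈ W (n + 1)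

/-- the family of submodules is generated in degrees `≤ N` -/
def SubGenFrom (W : ∀ n, Submodule B (V n)) (N : ℕ) : Prop :=
  ∀ n, N ≤ n → ∀ x ∈ W (n + 1), ∃ y : Fin r → V n, (∀ i, y i ∈ W n) ∧ x = ∑ i, T i n (y i)

/-- the shift operators on the direct sum -/
noncomputable def τ (i : Fin r) : (⨁ n, V n) →ₗ[B] (⨁ n, V n) :=
  DirectSum.toModule B ℕ (⨁ n, V n) (fun n => (DirectSum.lof B ℕ V (n + 1)).comp (T i n))

lemma τ_lof (i : Fin r) (n : ℕ) (x : V n) :
    τ T i (DirectSum.lof B ℕ V n x) = DirectSum.lof B ℕ V (n + 1) (T i n x) := by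
  unfold τ
  rw [DirectSum.toModule_lof]
  rfl

lemma τ_apply_succ (i : Fin r) (d : ⨁ n, V n) (n : ℕ) : (τ T i d) (n + 1) = T i n (d n) := by
  induction d using DirectSum.induction_on with
  | zero => simp
  | of m x =>
    change (τ T i (DirectSum.lof B ℕ V m x)) (n + 1) = T i n ((DirectSum.lof B ℕ V m x) n)
    rw [τ_lof]
    by_cases h : m = n
    · subst h
      rw [DirectSum.lof_apply, DirectSum.lof_apply]
    · have h' : m + 1 ≠ n + 1 := by omega
      rw [DirectSum.lof_eq_of, DirectSum.lof_eq_of, DirectSum.of_eq_of_ne _ _ _ (Ne.symm h'),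
        DirectSum.of_eq_of_ne _ _ _ (Ne.symm h), map_zero]
  | add d e hd he => simp [hd, he]

lemma τ_apply_zero (i : Fin r) (d : ⨁ n, V n) : (τ T i d) 0 = 0 := by
  induction d using DirectSum.induction_on with
  | zero => simp
  | of m x =>
    change (τ T i (DirectSum.lof B ℕ V m x)) 0 = 0
    rw [τ_lof, DirectSum.lof_eq_of, DirectSum.of_eq_of_ne _ _ _ (Nat.succ_ne_zero m).symm]
  | add d e hd he => simp [hd, he]

variable {T}

lemma τ_comm (hT : Comm T) (i j : Fin r) : τ T i * τ T j = τ T j * τ T i := by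
  apply DirectSum.linearMap_ext
  intro n
  refine LinearMap.ext fun x => ?_
  change τ T i (τ T j (DirectSum.lof B ℕ V n x)) = τ T j (τ T i (DirectSum.lof B ℕ V n x))
  rw [τ_lof, τ_lof, τ_lof, τ_lof, hT]

variable (T)

/-- the subalgebra of endomorphisms generated by the shifts -/
noncomputable abbrev S : Subalgebra B (Module.End B (⨁ n, V n)) :=
  Algebra.adjoin B (Set.range (τ T))

variable {T}

lemma hcomm (hT : Comm T) : ∀ a ∈ Set.range (τ T), ∀ b ∈ Set.range (τ T), a * b = b * a := by
  rintro _ ⟨i, rfl⟩ _ ⟨j, rfl⟩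
  exact τ_comm hT i j

open scoped IsMulCommutative in
/-- the action of the polynomial ring on the direct sum -/
noncomputable def ψ (hT : Comm T) : MvPolynomial (Fin r) B →+* Module.End B (⨁ n, V n) :=
  haveI := Algebra.isMulCommutative_adjoin B (hcomm hT)
  ((S T).val.toRingHom).comp
    (MvPolynomial.aeval (R := B) (S₁ := S T)
      (fun i => (⟨τ T i, Algebra.subset_adjoin ⟨i, rfl⟩⟩ : S T))).toRingHom

lemma ψ_mem (hT : Comm T) (p : MvPolynomial (Fin r) B) : ψ hT p ∈ S T := by
  unfold ψ
  exact SetLike.coe_mem _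

lemma ψ_X (hT : Comm T) (i : Fin r) : ψ hT (MvPolynomial.X i) = τ T i := by
  unfold ψ
  simp

lemma ψ_C (hT : Comm T) (b : B) : ψ hT (MvPolynomial.C b) = algebraMap B _ b := by
  unfold ψ
  simp

/-- a predicate on elements of the direct sum which is preserved by the shifts, sums and scalars
is preserved by every element of `S T`. -/
lemma S_preserves (P : Submodule B (⨁ n, V n)) (hP : ∀ i, ∀ d ∈ P, τ T i d ∈ P)
    {e : Module.End B (⨁ n, V n)} (he : e ∈ S T) : ∀ d ∈ P, e d ∈ P := by
  induction he using Algebra.adjoin_induction with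
  | mem x hx =>
    obtain ⟨i, rfl⟩ := hx
    exact hP i
  | algebraMap b =>
    intro d hd
    rw [Module.algebraMap_end_apply]
    exact P.smul_mem b hd
  | add x y _ _ hx hy =>
    intro d hd
    exact P.add_mem (hx d hd) (hy d hd)
  | mul x y _ _ hx hy =>
    intro d hd
    exact hx _ (hy d hd)

section Main

variable (hT : Comm T)

/-- the polynomial module structure -/
noncomputable abbrev modP : Module (MvPolynomial (Fin r) B) (⨁ n, V n) :=
  Module.compHom (⨁ n, V n) (ψ hT)

/-- a `B`-submodule stable under the shifts is a submodule over the polynomial ring -/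
noncomputable def toP (P : Submodule B (⨁ n, V n)) (hP : ∀ i, ∀ d ∈ P, τ T i d ∈ P) :
    letI := modP hT
    Submodule (MvPolynomial (Fin r) B) (⨁ n, V n) :=
  letI := modP hT
  { carrier := P
    add_mem' := P.add_mem
    zero_mem' := P.zero_mem
    smul_mem' := fun p d hd => S_preserves P hP (ψ_mem hT p) d hd }

lemma smul_def' (p : MvPolynomial (Fin r) B) (d : ⨁ n, V n) :
    letI := modP hT
    p • d = ψ hT p d := rfl

include hT in
theorem isNoetherian [IsNoetherianRing B] (hfin : ∀ n, Module.Finite B (V n)) {N : ℕ}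
    (hgen : GenFrom T N) :
    letI := modP hT
    IsNoetherian (MvPolynomial (Fin r) B) (⨁ n, V n) := by
  letI := modP hT
  classical
  suffices h : Module.Finite (MvPolynomial (Fin r) B) (⨁ n, V n) from
    isNoetherian_of_isNoetherianRing_of_finite _ _
  constructor
  -- generators
  choose g hg using fun n => (hfin n).fg_top
  let gens : Finset (⨁ n, V n) :=
    (Finset.range (N + 1)).biUnion fun n => (g n).image (DirectSum.lof B ℕ V n)
  refine ⟨gens, ?_⟩
  set Q := Submodule.span (MvPolynomial (Fin r) B) (gens : Set (⨁ n, V n)) with hQ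
  -- `Q` is closed under `B`-scalars
  have hB : ∀ (b : B) (d : ⨁ n, V n), d ∈ Q → b • d ∈ Q := by
    intro b d hd
    have : b • d = (MvPolynomial.C b : MvPolynomial (Fin r) B) • d := by
      rw [smul_def', ψ_C, Module.algebraMap_end_apply]
    rw [this]
    exact Q.smul_mem _ hd
  have hX : ∀ (i : Fin r) (d : ⨁ n, V n), d ∈ Q → τ T i d ∈ Q := by
    intro i d hd
    have : τ T i d = (MvPolynomial.X i : MvPolynomial (Fin r) B) • d := by
      rw [smul_def', ψ_X]
    rw [this]
    exact Q.smul_mem _ hd
  let QB : Submodule B (⨁ n, V n) :=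
    { carrier := Q
      add_mem' := Q.add_mem
      zero_mem' := Q.zero_mem
      smul_mem' := fun b d hd => hB b d hd }
  have key : ∀ n (x : V n), DirectSum.lof B ℕ V n x ∈ Q := by
    intro n
    induction n using Nat.strong_induction_on with
    | _ n ih =>
      intro x
      by_cases hn : n ≤ N
      · have hx : x ∈ Submodule.span B (g n : Set (V n)) := by rw [hg n]; trivial
        have : Submodule.span B (g n : Set (V n)) ≤ QB.comap (DirectSum.lof B ℕ V n) := by
          rw [Submodule.span_le]
          intro y hy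
          apply Submodule.subset_span
          simp only [gens, Finset.coe_biUnion, Finset.coe_range, Set.mem_iUnion, Finset.coe_image,
            Set.mem_image, Finset.mem_coe]
          exact ⟨n, by simpa using Nat.lt_succ_of_le hn, y, hy, rfl⟩
        exact this hx
      · obtain ⟨k, rfl⟩ : ∃ k, n = k + 1 := ⟨n - 1, by omega⟩
        obtain ⟨y, rfl⟩ := hgen k (by omega) x
        rw [map_sum]
        apply Q.sum_mem
        intro i _
        rw [← τ_lof]
        exact hX i _ (ih k (by omega) _)
  rw [eq_top_iff]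
  intro d _
  induction d using DirectSum.induction_on with
  | zero => exact Q.zero_mem
  | of n x => exact key n x
  | add d e hd he => exact Q.add_mem (hd trivial) (he trivial)

end Main


section HB

variable (hT : Comm T) (W : ∀ n, Submodule B (V n))

/-- the families lying in `W`, with the degree `n+1` component generated from degree `n` -/
def famSub (n : ℕ) : Submodule B (⨁ n, V n) where
  carrier := {d | (∀ k, d k ∈ W k) ∧
    ∃ y : Fin r → V n, (∀ i, y i ∈ W n) ∧ d (n + 1) = ∑ i, T i n (y i)}
  add_mem' := by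
    rintro d e ⟨hd, y, hy, hdy⟩ ⟨he, z, hz, hez⟩
    refine ⟨fun k => ?_, y + z, fun i => (W n).add_mem (hy i) (hz i), ?_⟩
    · rw [DirectSum.add_apply]; exact (W k).add_mem (hd k) (he k)
    · rw [DirectSum.add_apply, hdy, hez, ← Finset.sum_add_distrib]
      simp
  zero_mem' := ⟨fun k => by rw [DirectSum.zero_apply]; exact (W k).zero_mem, 0,
    fun i => (W n).zero_mem, by simp⟩
  smul_mem' := by
    rintro b d ⟨hd, y, hy, hdy⟩
    refine ⟨fun k => ?_, b • y, fun i => (W n).smul_mem b (hy i), ?_⟩
    · rw [DirectSum.smul_apply]; exact (W k).smul_mem b (hd k)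
    · rw [DirectSum.smul_apply, hdy, Finset.smul_sum]
      simp

variable {W}

lemma famSub_τ (hW : Stable T W) (n : ℕ) (i : Fin r) (d : ⨁ n, V n) (hd : d ∈ famSub (T := T) W n) :
    τ T i d ∈ famSub (T := T) W n := by
  obtain ⟨hd, -⟩ := hd
  refine ⟨fun k => ?_, fun j => if j = i then d n else 0, fun j => ?_, ?_⟩
  · cases k with
    | zero => rw [τ_apply_zero]; exact (W 0).zero_mem
    | succ k => rw [τ_apply_succ]; exact hW i k _ (hd k)
  · by_cases h : j = i
    · simp only [h, if_true]; exact hd n
    · simp only [h, if_false]; exact (W n).zero_mem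
  · rw [τ_apply_succ, Finset.sum_eq_single i]
    · simp
    · intro j _ hj; simp [hj]
    · intro h; exact absurd (Finset.mem_univ i) h

lemma lof_mem_famSub {k n : ℕ} (hk : k ≤ n) (x : V k) (hx : x ∈ W k) :
    DirectSum.lof B ℕ V k x ∈ famSub (T := T) W n := by
  classical
  refine ⟨fun j => ?_, 0, fun i => (W n).zero_mem, ?_⟩
  · by_cases h : k = j
    · subst h; rw [DirectSum.lof_apply]; exact hx
    · rw [DirectSum.lof_eq_of, DirectSum.of_eq_of_ne _ _ _ (Ne.symm h)]; exact (W j).zero_mem
  · have h : k ≠ n + 1 := by omega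
    rw [DirectSum.lof_eq_of, DirectSum.of_eq_of_ne _ _ _ (Ne.symm h)]
    simp

include hT in
/-- **graded Hilbert basis theorem**: a stable family of submodules of a finitely generated system
over a Noetherian ring is generated in bounded degrees. -/
theorem subGenFrom [IsNoetherianRing B] (hfin : ∀ n, Module.Finite B (V n)) {N : ℕ}
    (hgen : GenFrom T N) (hW : Stable T W) : ∃ N', SubGenFrom T W N' := by
  classical
  letI := modP hT
  haveI := isNoetherian hT hfin hgen
  let gen : ℕ → Set (⨁ n, V n) := fun m =>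
    {d | ∃ k, k ≤ m ∧ ∃ x ∈ W k, d = DirectSum.lof B ℕ V k x}
  let C : ℕ →o Submodule (MvPolynomial (Fin r) B) (⨁ n, V n) :=
    ⟨fun m => Submodule.span _ (gen m), fun m m' h => Submodule.span_mono (by
      rintro d ⟨k, hk, x, hx, rfl⟩
      exact ⟨k, hk.trans h, x, hx, rfl⟩)⟩
  obtain ⟨N', hN'⟩ := monotone_stabilizes_iff_noetherian.2 ‹_› C
  refine ⟨N', fun n hn x hx => ?_⟩
  have h1 : DirectSum.lof B ℕ V (n + 1) x ∈ C (n + 1) :=
    Submodule.subset_span ⟨n + 1, le_refl _, x, hx, rfl⟩
  have h2 : C (n + 1) = C n := (hN' (n + 1) (by omega)).symm.trans (hN' n hn)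
  rw [h2] at h1
  have h3 : C n ≤ toP hT (famSub (T := T) W n) (famSub_τ hW n) := by
    apply Submodule.span_le.2
    rintro d ⟨k, hk, y, hy, rfl⟩
    exact lof_mem_famSub hk y hy
  obtain ⟨-, y, hy, hxy⟩ := h3 h1
  rw [DirectSum.lof_apply] at hxy
  exact ⟨y, hy, hxy⟩

end HB

end Groth.Agent.Helper1.GrHB
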