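import Mathlib
import Groth.Agent.Helper1.HHSum
import Groth.Agent.Helper4.FTLift
import Groth.Agent.Lead.PerfLib5
import Groth.Agent.Lead.ParaFLib

/-!
# Finite coproducts of coherent modules are coherent
-/

set_option autoImplicit false
set_option linter.style.haveILetI false

namespace Groth.Agent.Helper1.SerreFin

open CategoryTheory Limits AlgebraicGeometry Opposite
open Groth.Agent.Helper1.HHSum Groth.Agent.Helper4.QcohEpi

universe u

variable {X : Scheme.{u}}

lemma isQuasicoherent_sigma_fin {k : ℕ} (M : Fin k → X.Modules)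
    (hq : ∀ j, (M j).IsQuasicoherent) : (∐ M).IsQuasicoherent :=
  Groth.Agent.Helper4.QcohLimits.isQuasicoherent_colimit (Discrete.functor M) (fun j => hq j.as)

lemma sum_app_apply {F G : X.Modules} {ι : Type*} (T : Finset ι) (f : ι → (F ⟶ G)) (U : X.Opens)
    (z : Γ(F, U)) : (∑ j ∈ T, f j).app U z = ∑ j ∈ T, (f j).app U z := by
  classical
  induction T using Finset.induction_on with
  | empty =>
    rw [Finset.sum_empty, Finset.sum_empty]
    rfl
  | insert a T ha ih =>
    rw [Finset.sum_insert ha, Finset.sum_insert ha, ← ih]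
    rfl

theorem isFiniteType_sigma_fin {k : ℕ} (M : Fin k → X.Modules)
    (hq : ∀ j, (M j).IsQuasicoherent)
    (h : ∀ j, SheafOfModules.IsFiniteType (R := X.ringCatSheaf) (M j)) :
    SheafOfModules.IsFiniteType (R := X.ringCatSheaf) (∐ M) := by
  refine @Groth.Agent.Helper4.FTGlue.isFiniteType_of_finite_sections _ (∐ M)
    (isQuasicoherent_sigma_fin M hq) ?_
  intro x
  obtain ⟨U, hU, hx⟩ := Groth.Agent.Helper4.QcohLimits.exists_affine_nhd x
  refine ⟨U, hU, hx, ?_⟩
  have hfin : ∀ j, Module.Finite Γ(X, U) Γ(M j, U) := fun j =>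
    Groth.Agent.Helper4.SecDict.finite_sections hU (M j) (hq j) (h j)
  have key : ∀ z : Γ(∐ M, U), z = ∑ j, (Sigma.ι M j).app U ((proj M j).app U z) := by
    intro z
    have h1 : (∑ j, proj M j ≫ Sigma.ι M j).app U z = (𝟙 (∐ M) : ∐ M ⟶ ∐ M).app U z :=
      congrArg (fun φ => (Scheme.Modules.Hom.app φ U) z) (sum_proj_ι M)
    rw [sum_app_apply] at h1
    exact h1.symm
  refine ⟨?_⟩
  have h2 : (⊤ : Submodule Γ(X, U) Γ(∐ M, U)) = ⨆ j, LinearMap.range (appLin (Sigma.ι M j) U) := by
    apply le_antisymm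
    · intro z _
      rw [key z]
      refine Submodule.sum_mem _ (fun j _ => ?_)
      exact Submodule.mem_iSup_of_mem j ⟨_, rfl⟩
    · exact le_top
  rw [h2]
  refine Submodule.fg_iSup _ (fun j => ?_)
  rw [LinearMap.range_eq_map]
  exact Submodule.FG.map _ (hfin j).1

theorem isCoh_sigma_fin {k : ℕ} (M : Fin k → X.Modules) (h : ∀ j, Coh.IsCoh (M j)) :
    Coh.IsCoh (∐ M) :=
  ⟨isQuasicoherent_sigma_fin M (fun j => (h j).1),
    isFiniteType_sigma_fin M (fun j => (h j).1) (fun j => (h j).2)⟩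

theorem isCoh_of_isInvertible (L : X.Modules) (hL : PicF.IsInvertible L) : Coh.IsCoh L :=
  Groth.Agent.Lead.PerfLib.isCoh_of_isFinLocFree
    (Groth.Agent.Lead.ParaFLib.isFinLocFree_of_isInvertible L hL)

end Groth.Agent.Helper1.SerreFin
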