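import Mathlib
import Groth.Agent.Helper1.SerreFin1
import Groth.Agent.Helper4.QcohEpi
import Groth.Agent.Helper4.QcohLocal

/-!
# Graded objects with commuting operators in `X.Modules`: generation, sections over affines
-/

set_option autoImplicit false
set_option linter.style.haveILetI false

namespace Groth.Agent.Helper1.GrSh

open CategoryTheory Limits AlgebraicGeometry Opposite
open Groth.Agent.Helper1.HHSum Groth.Agent.Helper1.SerreFin Groth.Agent.Helper4.QcohEpi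

universe u

/-- a graded `O_X`-module `(G_n)_{n ≥ 0}` with `r` commuting operators of degree one -/
structure GrObj (X : Scheme.{u}) (r : ℕ) where
  G : ℕ → X.Modules
  T : Fin r → ∀ n, G n ⟶ G (n + 1)
  comm : ∀ i j n, T j n ≫ T i (n + 1) = T i n ≫ T j (n + 1)

variable {X : Scheme.{u}} {r : ℕ} (𝒢 : GrObj X r)

/-- `G_{n+1} = ∑_i T_i G_n`, categorically -/
def JointlyEpi (n : ℕ) : Prop :=
  ∀ ⦃Z : X.Modules⦄ (f : 𝒢.G (n + 1) ⟶ Z), (∀ i, 𝒢.T i n ≫ f = 0) → f = 0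

/-- `G_{n+1} = ∑_i T_i G_n` on sections over `U` -/
def SecGen (U : X.Opens) (n : ℕ) : Prop :=
  ∀ s : Γ(𝒢.G (n + 1), U), ∃ y : Fin r → Γ(𝒢.G n, U), s = ∑ i, (𝒢.T i n).app U (y i)

/-- finitely generated graded objects: coherent terms, generated in bounded degrees -/
structure IsFG : Prop where
  coh : ∀ n, Coh.IsCoh (𝒢.G n)
  gen : ∃ N, ∀ n, N ≤ n → JointlyEpi 𝒢 n

variable {𝒢}

theorem JointlyEpi.epi_desc {n : ℕ} (h : JointlyEpi 𝒢 n) :
    Epi (Sigma.desc (fun i : Fin r => 𝒢.T i n)) := by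
  apply Preadditive.epi_of_cancel_zero
  intro Z f hf
  apply h
  intro i
  have := congrArg (fun t => Sigma.ι (fun _ : Fin r => 𝒢.G n) i ≫ t) hf
  simpa using this

theorem JointlyEpi.secGen {n : ℕ} (h : JointlyEpi 𝒢 n) (hq : (𝒢.G n).IsQuasicoherent)
    (hq' : (𝒢.G (n + 1)).IsQuasicoherent) {U : X.Opens} (hU : IsAffineOpen U) :
    SecGen 𝒢 U n := by
  intro s
  haveI := h.epi_desc
  haveI : (∐ fun _ : Fin r => 𝒢.G n).IsQuasicoherent :=
    isQuasicoherent_sigma_fin _ (fun _ => hq)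
  obtain ⟨z, rfl⟩ := app_surjective_of_epi (Sigma.desc (fun i : Fin r => 𝒢.T i n)) hU s
  let M : Fin r → X.Modules := fun _ => 𝒢.G n
  have h1 : (∑ j, proj M j ≫ Sigma.ι M j).app U z = (𝟙 (∐ M) : ∐ M ⟶ ∐ M).app U z :=
    congrArg (fun φ => (Scheme.Modules.Hom.app φ U) z) (sum_proj_ι M)
  rw [sum_app_apply] at h1
  refine ⟨fun i => (proj M i).app U z, ?_⟩
  have h2 : (Sigma.desc (fun i : Fin r => 𝒢.T i n)).app U z =
      (Sigma.desc (fun i : Fin r => 𝒢.T i n)).app U (∑ j, (Sigma.ι M j).app U ((proj M j).app U z)) := by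
    congr 1
    exact h1.symm
  rw [h2, map_sum]
  refine Finset.sum_congr rfl fun i _ => ?_
  have h3 : Sigma.ι M i ≫ Sigma.desc (fun i : Fin r => 𝒢.T i n) = 𝒢.T i n := Sigma.ι_desc _ _
  exact congrArg (fun φ => (Scheme.Modules.Hom.app φ U) ((proj M i).app U z)) h3

theorem jointlyEpi_of_secGen {n : ℕ} (hq : (𝒢.G (n + 1)).IsQuasicoherent)
    (h : ∀ x : X, ∃ U : X.Opens, IsAffineOpen U ∧ x ∈ U ∧ SecGen 𝒢 U n) : JointlyEpi 𝒢 n := by
  intro Z f hf
  apply Groth.Agent.Helper4.QcohLocal.eq_zero_of_app_eq_zero_of_affine_cover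
  intro x
  obtain ⟨U, hU, hx, hs⟩ := h x
  refine ⟨U, hU, hx, fun m => ?_⟩
  obtain ⟨y, rfl⟩ := hs m
  rw [map_sum]
  refine Finset.sum_eq_zero fun i _ => ?_
  exact congrArg (fun φ => (Scheme.Modules.Hom.app φ U) (y i)) (hf i)

end Groth.Agent.Helper1.GrSh
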