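import Mathlib
import Groth.Agent.Lead.StalkNhd
import Groth.Agent.Lead.PushStalk

/-!
# Dévissage, part 1: supports and stalks
-/

set_option autoImplicit false
set_option linter.style.haveILetI false

namespace Groth.Agent.Helper1.Dev

open CategoryTheory Limits AlgebraicGeometry
open Groth.Agent.Helper4.StalkDict Groth.Agent.Helper4 Groth.Agent.Lead.FlatLib
  Groth.Agent.Lead.StalkNhd Scheme.Modules

universe u

variable {X : Scheme.{u}}

theorem stalkLin_id (F : X.Modules) (x : X) (t : F.presheaf.stalk x) :
    stalkLin (𝟙 F) x t = t := by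
  obtain ⟨V, hxV, m, rfl⟩ := TopCat.Presheaf.exists_germ_eq _ t
  rw [StalkExact.stalkLin_germ]
  rfl

theorem stalkLin_bijective_of_isIso {F G : X.Modules} (φ : F ⟶ G) [IsIso φ] (x : X) :
    Function.Bijective (stalkLin φ x) := by
  refine Function.bijective_iff_has_inverse.2 ⟨stalkLin (inv φ) x, fun t => ?_, fun t => ?_⟩
  · rw [← stalkLin_comp, IsIso.hom_inv_id, stalkLin_id]
  · rw [← stalkLin_comp, IsIso.inv_hom_id, stalkLin_id]

theorem isZero_of_forall_subsingleton (F : X.Modules)
    (h : ∀ x : X, Subsingleton (F.presheaf.stalk x)) : IsZero F := by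
  rw [IsZero.iff_id_eq_zero]
  apply QcohLocal.eq_zero_of_stalkLin_eq_zero
  intro x t
  haveI := h x
  exact Subsingleton.elim _ _

theorem isZero_of_support_eq_empty (F : X.Modules) (h : CohB1.support F = ∅) : IsZero F := by
  apply isZero_of_forall_subsingleton
  intro x
  by_contra hx
  have : x ∈ CohB1.support F := hx
  rw [h] at this
  exact this

theorem support_eq_empty_of_isZero (F : X.Modules) (h : IsZero F) : CohB1.support F = ∅ := by
  ext x
  simp only [Set.mem_empty_iff_false, iff_false]
  intro hx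
  apply hx
  refine ⟨fun a b => ?_⟩
  have h0 : ∀ c : F.presheaf.stalk x, c = 0 := by
    intro c
    have h1 := stalkLin_id F x c
    rw [h.eq_of_src (𝟙 F) 0, stalkLin_zero] at h1
    exact h1.symm
  rw [h0 a, h0 b]

theorem support_subset_of_mono {F G : X.Modules} (φ : F ⟶ G) [Mono φ] :
    CohB1.support F ⊆ CohB1.support G := by
  intro x hx hG
  exact hx (StalkExact.stalkLin_injective φ x).subsingleton

theorem support_subset_of_epi {F G : X.Modules} (φ : F ⟶ G) [Epi φ] :
    CohB1.support G ⊆ CohB1.support F := by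
  intro x hx hF
  exact hx (EpiStalk.stalkLin_surjective_of_epi φ x).subsingleton

theorem support_eq_of_iso {F G : X.Modules} (e : F ≅ G) : CohB1.support F = CohB1.support G :=
  le_antisymm (support_subset_of_mono e.hom) (support_subset_of_mono e.inv)

theorem support_kernel_subset {F G : X.Modules} (φ : F ⟶ G) :
    CohB1.support (kernel φ) ⊆ CohB1.support F := support_subset_of_mono (kernel.ι φ)

theorem support_cokernel_subset {F G : X.Modules} (φ : F ⟶ G) :
    CohB1.support (cokernel φ) ⊆ CohB1.support G := support_subset_of_epi (cokernel.π φ)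

theorem support_kernel_subset_compl {F G : X.Modules} (φ : F ⟶ G) (V : Set X)
    (h : ∀ z ∈ V, Function.Injective (stalkLin φ z)) : CohB1.support (kernel φ) ⊆ Vᶜ := by
  intro z hz hzV
  exact hz (subsingleton_stalk_kernel φ z (h z hzV))

theorem support_cokernel_subset_compl {F G : X.Modules} (φ : F ⟶ G) (V : Set X)
    (h : ∀ z ∈ V, Function.Surjective (stalkLin φ z)) : CohB1.support (cokernel φ) ⊆ Vᶜ := by
  intro z hz hzV
  exact hz (subsingleton_stalk_cokernel φ z (h z hzV))

/-- the middle term of a short exact sequence is supported on the union of the supports -/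
theorem support_subset_union (S : ShortComplex X.Modules) (hS : S.ShortExact) :
    CohB1.support S.X₂ ⊆ CohB1.support S.X₁ ∪ CohB1.support S.X₃ := by
  intro x hx
  by_contra hcon
  rw [Set.mem_union, not_or] at hcon
  have h1 : Subsingleton (S.X₁.presheaf.stalk x) := by
    by_contra h; exact hcon.1 h
  have h3 : Subsingleton (S.X₃.presheaf.stalk x) := by
    by_contra h; exact hcon.2 h
  apply hx
  haveI := hS.mono_f
  have hex := StalkExact.stalkLin_exact S hS.exact x
  refine ⟨fun a b => ?_⟩
  have h0 : ∀ c : S.X₂.presheaf.stalk x, c = 0 := by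
    intro c
    obtain ⟨d, rfl⟩ := (hex c).1 (Subsingleton.elim _ _)
    rw [Subsingleton.elim d 0, map_zero]
  rw [h0 a, h0 b]

/-- stalks of restricted morphisms -/
theorem stalkLin_bijective_of_restrict {F G : X.Modules} (φ : F ⟶ G) (U : X.Opens) (z : U)
    (h : Function.Bijective (stalkLin ((Scheme.Modules.restrictFunctor U.ι).map φ) z)) :
    Function.Bijective (stalkLin φ (U.ι z)) := by
  constructor
  · intro a b hab
    obtain ⟨a', rfl⟩ := (rsHom_bijective U.ι F z).2 a
    obtain ⟨b', rfl⟩ := (rsHom_bijective U.ι F z).2 b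
    rw [← rsHom_stalkLin, ← rsHom_stalkLin] at hab
    rw [h.1 ((rsHom_bijective U.ι G z).1 hab)]
  · intro b
    obtain ⟨b', rfl⟩ := (rsHom_bijective U.ι G z).2 b
    obtain ⟨a', rfl⟩ := h.2 b'
    exact ⟨rsHom U.ι F z a', (rsHom_stalkLin φ U z a').symm⟩

theorem stalkLin_bijective_of_isIso_restrict {F G : X.Modules} (φ : F ⟶ G) (U : X.Opens)
    (h : IsIso ((Scheme.Modules.restrictFunctor U.ι).map φ)) (z : X) (hz : z ∈ U) :
    Function.Bijective (stalkLin φ z) :=
  stalkLin_bijective_of_restrict φ U ⟨z, hz⟩ (stalkLin_bijective_of_isIso _ _)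

end Groth.Agent.Helper1.Dev
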