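import Mathlib
import Groth.Agent.Helper1.Dev1
import Groth.Agent.Helper1.HHSum
import Groth.Agent.Helper1.SerreFin1
import Groth.Agent.Lead.PerfLib5

/-!
# Dévissage, part 2: exact classes of coherent modules
-/

set_option autoImplicit false
set_option linter.style.haveILetI false

namespace Groth.Agent.Helper1.Dev

open CategoryTheory Limits AlgebraicGeometry
open Groth.Agent.Helper1.HHSum

universe u

variable {X : Scheme.{u}}

/-- an exact class of modules: closed under isomorphisms, contains the zero modules, and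
two-out-of-three in short exact sequences of coherent modules -/
structure ExactClass (K : ObjectProperty X.Modules) : Prop where
  iso : ∀ {M N : X.Modules}, (M ≅ N) → K M → K N
  zero : ∀ M : X.Modules, IsZero M → K M
  two_of_three : ∀ S : ShortComplex X.Modules, S.ShortExact → Coh.IsCoh S.X₁ → Coh.IsCoh S.X₂ →
    Coh.IsCoh S.X₃ →
      (K S.X₁ → K S.X₂ → K S.X₃) ∧ (K S.X₁ → K S.X₃ → K S.X₂) ∧ (K S.X₂ → K S.X₃ → K S.X₁)

section SES

variable {A B : X.Modules} (φ : A ⟶ B)

/-- `0 → ker φ → A → im φ → 0` -/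
noncomputable abbrev kerImSC : ShortComplex X.Modules :=
  ShortComplex.mk (kernel.ι φ) (Abelian.factorThruImage φ) (by
    rw [← cancel_mono (Abelian.image.ι φ), Category.assoc, Abelian.image.fac, kernel.condition,
      zero_comp])

theorem kerImSC_shortExact : (kerImSC φ).ShortExact := by
  have hlim : IsLimit (KernelFork.ofι (kerImSC φ).f (kerImSC φ).zero) :=
    KernelFork.IsLimit.ofι _ _
      (fun {W} g hg => kernel.lift φ g (by
        have : g ≫ Abelian.factorThruImage φ = 0 := hg
        rw [← Abelian.image.fac φ, ← Category.assoc, this, zero_comp]))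
      (fun g hg => kernel.lift_ι _ _ _)
      (fun g hg m hm => by
        rw [← cancel_mono (kernel.ι φ)]
        exact hm.trans (kernel.lift_ι _ _ _).symm)
  exact ShortComplex.ShortExact.mk' (ShortComplex.exact_of_f_is_kernel _ hlim)
    (inferInstanceAs (Mono (kernel.ι φ))) (inferInstanceAs (Epi (Abelian.factorThruImage φ)))

/-- `0 → im φ → B → coker φ → 0` -/
noncomputable abbrev imCokSC : ShortComplex X.Modules :=
  ShortComplex.mk (Abelian.image.ι φ) (cokernel.π φ) (kernel.condition _)

theorem imCokSC_shortExact : (imCokSC φ).ShortExact :=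
  ShortComplex.ShortExact.mk' (ShortComplex.exact_of_f_is_kernel _ (kernelIsKernel (cokernel.π φ)))
    (inferInstanceAs (Mono (kernel.ι (cokernel.π φ)))) (inferInstanceAs (Epi (cokernel.π φ)))

end SES

namespace ExactClass

variable {K : ObjectProperty X.Modules} (hK : ExactClass K)

include hK in
/-- if kernel and cokernel are in the class then source and target are simultaneously in it -/
theorem of_ker_coker [IsLocallyNoetherian X] {A B : X.Modules} (φ : A ⟶ B) (hA : Coh.IsCoh A)
    (hB : Coh.IsCoh B) (hk : K (kernel φ)) (hc : K (cokernel φ)) : K A ↔ K B := by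
  have hck : Coh.IsCoh (kernel φ) := Groth.Agent.Lead.PerfLib.isCoh_kernel hA hB φ
  have hcc : Coh.IsCoh (cokernel φ) := Groth.Agent.Lead.PerfLib.isCoh_cokernel hA hB φ
  have hci : Coh.IsCoh (Abelian.image φ) := Groth.Agent.Lead.PerfLib.isCoh_kernel hB hcc _
  have h1 := hK.two_of_three (kerImSC φ) (kerImSC_shortExact φ) hck hA hci
  have h2 := hK.two_of_three (imCokSC φ) (imCokSC_shortExact φ) hci hB hcc
  constructor
  · intro h
    exact h2.2.1 (h1.1 hk h) hc
  · intro h
    exact h1.2.1 hk (h2.2.2 h hc)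

end ExactClass

section Sigma

variable (M : X.Modules) (n : ℕ)

/-- `M → M^{n+1} → M^n` -/
noncomputable abbrev sigmaSC : ShortComplex X.Modules :=
  ShortComplex.mk (Sigma.ι (fun _ : Fin (n + 1) => M) 0)
    (Sigma.desc (fun j : Fin (n + 1) =>
      if h : j = 0 then 0 else Sigma.ι (fun _ : Fin n => M) (j.pred h))) (by
    rw [Sigma.ι_desc, dif_pos rfl])

noncomputable def sigmaSplitting : (sigmaSC M n).Splitting where
  r := proj (fun _ : Fin (n + 1) => M) 0
  s := Sigma.desc (fun j : Fin n => Sigma.ι (fun _ : Fin (n + 1) => M) j.succ)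
  f_r := by
    show Sigma.ι (fun _ : Fin (n + 1) => M) 0 ≫ proj (fun _ : Fin (n + 1) => M) 0 = 𝟙 M
    rw [ι_proj, dif_pos rfl]
    rfl
  s_g := by
    apply Sigma.hom_ext
    intro j
    show Sigma.ι _ j ≫ Sigma.desc _ ≫ Sigma.desc _ = Sigma.ι _ j ≫ 𝟙 _
    rw [← Category.assoc, Sigma.ι_desc, Sigma.ι_desc, dif_neg (Fin.succ_ne_zero j),
      Category.comp_id]
    simp
  id := by
    apply Sigma.hom_ext
    intro j
    show Sigma.ι _ j ≫ (proj (fun _ : Fin (n + 1) => M) 0 ≫ Sigma.ι (fun _ : Fin (n + 1) => M) 0 +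
      Sigma.desc _ ≫ Sigma.desc _) = Sigma.ι _ j ≫ 𝟙 _
    rw [Preadditive.comp_add, ← Category.assoc, ← Category.assoc, ι_proj, Sigma.ι_desc,
      Category.comp_id]
    by_cases hj : j = 0
    · subst hj
      rw [dif_pos rfl, dif_pos rfl, zero_comp, add_zero]
      exact Category.id_comp _
    · rw [dif_neg hj, dif_neg hj, zero_comp, zero_add, Sigma.ι_desc, Fin.succ_pred]

theorem sigmaSC_shortExact : (sigmaSC M n).ShortExact := (sigmaSplitting M n).shortExact

end Sigma

namespace ExactClass

variable {K : ObjectProperty X.Modules} (hK : ExactClass K)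

include hK in
theorem sigma (M : X.Modules) (hM : Coh.IsCoh M) (h : K M) (n : ℕ) :
    K (∐ fun _ : Fin n => M) := by
  induction n with
  | zero =>
    apply hK.zero
    rw [IsZero.iff_id_eq_zero]
    apply Sigma.hom_ext
    intro j
    exact j.elim0
  | succ n ih =>
    have hc : ∀ k : ℕ, Coh.IsCoh (∐ fun _ : Fin k => M) := fun k =>
      Groth.Agent.Helper1.SerreFin.isCoh_sigma_fin _ (fun _ => hM)
    exact (hK.two_of_three (sigmaSC M n) (sigmaSC_shortExact M n) hM (hc (n + 1)) (hc n)).2.1 h ih

end ExactClass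

end Groth.Agent.Helper1.Dev
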