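import Mathlib
import Groth.Prelude.Def_Canon
import Groth.Agent.Helper1.SerreCritC

/-!
# The long exact cohomology sequence of a short exact sequence of modules, with linear maps
-/

set_option autoImplicit false
set_option linter.style.haveILetI false

namespace Groth.Agent.Helper1.HHLes

open CategoryTheory Limits AlgebraicGeometry Opposite Abelian
open Groth.Agent.Helper1.SerreCrit

universe u

variable (A : Type u) [CommRing A] {X : Scheme.{u}} [X.Over (Spec (CommRingCat.of A))]
variable (S : ShortComplex X.Modules) (hS : S.ShortExact)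

include hS in
lemma shortExact_toAb : (S.map (toAbF X)).ShortExact := hS.map_of_exact (toAbF X)

/-- multiplication by a global function as an endomorphism of the short exact sequence of
abelian sheaves -/
noncomputable def smulSC (c : Coh.Γtop X) : S.map (toAbF X) ⟶ S.map (toAbF X) where
  τ₁ := Coh.smulAb S.X₁ c
  τ₂ := Coh.smulAb S.X₂ c
  τ₃ := Coh.smulAb S.X₃ c
  comm₁₂ := (Canon.toSheaf_map_comp_smulAb S.f c).symm
  comm₂₃ := (Canon.toSheaf_map_comp_smulAb S.g c).symm

/-- the connecting map -/
noncomputable def δ (n : ℕ) : Coh.HH X S.X₃ n →ₗ[A] Coh.HH X S.X₁ (n + 1) where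
  toFun x := Ext.comp (show Ext _ ((S.map (toAbF X)).X₃) n from x)
    (shortExact_toAb S hS).extClass rfl
  map_add' x y := Ext.add_comp _ _ _ _
  map_smul' a x := by
    have hnat := ShortComplex.ShortExact.extClass_naturality (shortExact_toAb S hS)
      (shortExact_toAb S hS) (smulSC S (Coh.toGlobal (X ↘ Spec (CommRingCat.of A)) a))
    show Ext.comp (Ext.comp (show Ext _ ((S.map (toAbF X)).X₃) n from x)
        (Ext.mk₀ (Coh.smulAb S.X₃ (Coh.toGlobal (X ↘ Spec (CommRingCat.of A)) a))) (add_zero n))
        (shortExact_toAb S hS).extClass rfl =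
      Ext.comp (Ext.comp (show Ext _ ((S.map (toAbF X)).X₃) n from x)
        (shortExact_toAb S hS).extClass rfl)
        (Ext.mk₀ (Coh.smulAb S.X₁ (Coh.toGlobal (X ↘ Spec (CommRingCat.of A)) a)))
        (add_zero (n + 1))
    rw [Ext.comp_assoc _ _ _ (add_zero n) (zero_add 1) (by omega),
      Ext.comp_assoc _ _ _ rfl (add_zero 1) (by omega)]
    congr 1
    exact hnat.symm

lemma δ_apply (n : ℕ) (x : Coh.HH X S.X₃ n) :
    δ A S hS n x = Ext.comp (show Ext _ ((S.map (toAbF X)).X₃) n from x)
      (shortExact_toAb S hS).extClass rfl := rfl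

/-- exactness at `Hⁿ(X₃)` -/
theorem exact_g_δ (n : ℕ) : Function.Exact (Canon.HHlin A S.g n) (δ A S hS n) := by
  intro x
  constructor
  · intro hx
    obtain ⟨y, hy⟩ := Ext.covariant_sequence_exact₃ _ (shortExact_toAb S hS)
      (show Ext _ ((S.map (toAbF X)).X₃) n from x) rfl hx
    exact ⟨y, hy⟩
  · rintro ⟨y, rfl⟩
    show Ext.comp (Ext.comp (show Ext _ ((S.map (toAbF X)).X₂) n from y)
      (Ext.mk₀ (S.map (toAbF X)).g) (add_zero n)) (shortExact_toAb S hS).extClass rfl = 0
    rw [Ext.comp_assoc _ _ _ (add_zero n) (zero_add 1) (by omega),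
      (shortExact_toAb S hS).comp_extClass, Ext.comp_zero]

end Groth.Agent.Helper1.HHLes
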