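import Mathlib
import Groth.Agent.Helper1.HHLes

/-!
# The long exact cohomology sequence: the remaining two exactness statements
-/

set_option autoImplicit false
set_option linter.style.haveILetI false

namespace Groth.Agent.Helper1.HHLes

open CategoryTheory Limits AlgebraicGeometry Opposite Abelian
open Groth.Agent.Helper1.SerreCrit

universe u

variable (A : Type u) [CommRing A] {X : Scheme.{u}} [X.Over (Spec (CommRingCat.of A))]
variable (S : ShortComplex X.Modules) (hS : S.ShortExact)

include hS in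
/-- exactness at `Hⁿ(X₂)` -/
theorem exact_f_g (n : ℕ) : Function.Exact (Canon.HHlin A S.f n) (Canon.HHlin A S.g n) := by
  intro x
  constructor
  · intro hx
    obtain ⟨y, hy⟩ := Ext.covariant_sequence_exact₂ _ (shortExact_toAb S hS)
      (show Ext _ ((S.map (toAbF X)).X₂) n from x) hx
    exact ⟨y, hy⟩
  · rintro ⟨y, rfl⟩
    show Ext.comp (Ext.comp (show Ext _ ((S.map (toAbF X)).X₁) n from y)
      (Ext.mk₀ (S.map (toAbF X)).f) (add_zero n)) (Ext.mk₀ (S.map (toAbF X)).g) (add_zero n) = 0
    rw [Ext.comp_assoc_of_third_deg_zero, Ext.mk₀_comp_mk₀, (S.map (toAbF X)).zero, Ext.mk₀_zero,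
      Ext.comp_zero]

/-- exactness at `Hⁿ⁺¹(X₁)` -/
theorem exact_δ_f (n : ℕ) : Function.Exact (δ A S hS n) (Canon.HHlin A S.f (n + 1)) := by
  intro x
  constructor
  · intro hx
    obtain ⟨y, hy⟩ := Ext.covariant_sequence_exact₁ _ (shortExact_toAb S hS)
      (show Ext _ ((S.map (toAbF X)).X₁) (n + 1) from x) hx rfl
    exact ⟨y, hy⟩
  · rintro ⟨y, rfl⟩
    show Ext.comp (Ext.comp (show Ext _ ((S.map (toAbF X)).X₃) n from y)
      (shortExact_toAb S hS).extClass rfl) (Ext.mk₀ (S.map (toAbF X)).f) (add_zero (n + 1)) = 0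
    rw [Ext.comp_assoc_of_third_deg_zero, (shortExact_toAb S hS).extClass_comp, Ext.comp_zero]

end Groth.Agent.Helper1.HHLes
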