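import Mathlib
import Groth.Agent.Helper1.HHLes3
import Groth.Agent.Helper1.Dev2
import Groth.Agent.Helper1.HHSum
import Groth.Prelude.Def_Formal

/-!
# Functoriality of the kernel/image/cokernel short exact sequences, and of the connecting maps
-/

set_option autoImplicit false
set_option linter.style.haveILetI false

namespace Groth.Agent.Helper1.GrSh

open CategoryTheory Limits AlgebraicGeometry Opposite Abelian
open Groth.Agent.Helper1.SerreCrit Groth.Agent.Helper1.HHLes Groth.Agent.Helper1.Dev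
open Groth.Agent.Helper1

universe u

section HHlin

variable (A : Type u) [CommRing A] {X : Scheme.{u}} [X.Over (Spec (CommRingCat.of A))]

lemma HHlin_comp {F G H : X.Modules} (φ : F ⟶ G) (ψ : G ⟶ H) (p : ℕ) (x : Coh.HH X F p) :
    Canon.HHlin A (φ ≫ ψ) p x = Canon.HHlin A ψ p (Canon.HHlin A φ p x) := by
  rw [HHSum.HHlin_apply, HHSum.HHlin_apply, HHSum.HHlin_apply, Functor.map_comp]
  rfl

lemma HHlin_id (F : X.Modules) (p : ℕ) (x : Coh.HH X F p) : Canon.HHlin A (𝟙 F) p x = x := by
  rw [HHSum.HHlin_apply, CategoryTheory.Functor.map_id]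
  rfl

lemma HHlin_zero (F G : X.Modules) (p : ℕ) (x : Coh.HH X F p) :
    Canon.HHlin A (0 : F ⟶ G) p x = 0 := by
  rw [HHSum.HHlin_apply, Functor.map_zero]
  rfl

lemma HHlin_smulMod (F : X.Modules) (a : A) (p : ℕ) (x : Coh.HH X F p) :
    Canon.HHlin A (Formal.smulMod A F a) p x = a • x := rfl

include A in
lemma subsingleton_HH_of_isZero {F : X.Modules} (hF : IsZero F) (p : ℕ) :
    Subsingleton (Coh.HH X F p) := by
  refine ⟨fun x y => ?_⟩
  have h : (𝟙 F : F ⟶ F) = 0 := hF.eq_of_src _ _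
  have hx := HHlin_id A F p x
  have hy := HHlin_id A F p y
  rw [h, HHlin_zero] at hx hy
  rw [← hx, ← hy]

/-- naturality of the connecting map -/
theorem δ_naturality {S S' : ShortComplex X.Modules} (hS : S.ShortExact) (hS' : S'.ShortExact)
    (f : S ⟶ S') (p : ℕ) (x : Coh.HH X S.X₃ p) :
    δ A S' hS' p (Canon.HHlin A f.τ₃ p x) = Canon.HHlin A f.τ₁ (p + 1) (δ A S hS p x) := by
  have hnat := ShortComplex.ShortExact.extClass_naturality (shortExact_toAb S hS)
    (shortExact_toAb S' hS') ((toAbF X).mapShortComplex.map f)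
  show Ext.comp (Ext.comp (show Ext _ ((S.map (toAbF X)).X₃) p from x)
      (Ext.mk₀ ((toAbF X).map f.τ₃)) (add_zero p)) (shortExact_toAb S' hS').extClass rfl =
    Ext.comp (Ext.comp (show Ext _ ((S.map (toAbF X)).X₃) p from x)
      (shortExact_toAb S hS).extClass rfl) (Ext.mk₀ ((toAbF X).map f.τ₁)) (add_zero (p + 1))
  rw [Ext.comp_assoc _ _ _ (add_zero p) (zero_add 1) (by omega),
    Ext.comp_assoc _ _ _ rfl (add_zero 1) (by omega)]
  congr 1
  exact hnat.symm

end HHlin

section Square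

variable {X : Scheme.{u}} {M N M' N' : X.Modules} {φ : M ⟶ N} {φ' : M' ⟶ N'} {a : M ⟶ M'}
  {b : N ⟶ N'} (sq : φ ≫ b = a ≫ φ')

/-- the induced map on kernels -/
noncomputable abbrev kMap : kernel φ ⟶ kernel φ' := kernel.map φ φ' a b sq

/-- the induced map on cokernels -/
noncomputable abbrev cMap : cokernel φ ⟶ cokernel φ' := cokernel.map φ φ' a b sq

/-- the induced map on images -/
noncomputable abbrev iMap : Abelian.image φ ⟶ Abelian.image φ' :=
  kernel.map (cokernel.π φ) (cokernel.π φ') b (cMap sq) (cokernel.π_desc _ _ _)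

@[reassoc]
lemma kMap_ι : kMap sq ≫ kernel.ι φ' = kernel.ι φ ≫ a := kernel.lift_ι _ _ _

@[reassoc]
lemma π_cMap : cokernel.π φ ≫ cMap sq = b ≫ cokernel.π φ' := cokernel.π_desc _ _ _

@[reassoc]
lemma iMap_ι : iMap sq ≫ Abelian.image.ι φ' = Abelian.image.ι φ ≫ b := kernel.lift_ι _ _ _

@[reassoc]
lemma factorThruImage_iMap :
    Abelian.factorThruImage φ ≫ iMap sq = a ≫ Abelian.factorThruImage φ' := by
  rw [← cancel_mono (Abelian.image.ι φ'), Category.assoc, iMap_ι, ← Category.assoc,
    Abelian.image.fac, Category.assoc, Abelian.image.fac, sq]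

/-- the morphism between the kernel–image sequences -/
noncomputable def kerImHom : kerImSC φ ⟶ kerImSC φ' where
  τ₁ := kMap sq
  τ₂ := a
  τ₃ := iMap sq
  comm₁₂ := kMap_ι sq
  comm₂₃ := (factorThruImage_iMap sq).symm

/-- the morphism between the image–cokernel sequences -/
noncomputable def imCokHom : imCokSC φ ⟶ imCokSC φ' where
  τ₁ := iMap sq
  τ₂ := b
  τ₃ := cMap sq
  comm₁₂ := iMap_ι sq
  comm₂₃ := (π_cMap sq).symm

end Square

end Groth.Agent.Helper1.GrSh
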