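import Mathlib
import Groth.Agent.Helper1.GrSh1
import Groth.Agent.Helper1.GrSh2
import Groth.Agent.Helper1.GrHB
import Groth.Agent.Helper4.SecDict
import Groth.Agent.Helper4.StalkExact

/-!
# Kernel and cokernel of the last operator of a finitely generated graded object
-/

set_option autoImplicit false
set_option linter.style.haveILetI false

namespace Groth.Agent.Helper1.GrSh

open CategoryTheory Limits AlgebraicGeometry Opposite Abelian
open Groth.Agent.Helper1.Dev Groth.Agent.Helper4.QcohEpi Groth.Agent.Helper1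

universe u

variable {X : Scheme.{u}} {r : ℕ} (𝒢 : GrObj X (r + 1))

/-- the last operator -/
abbrev GrObj.t (n : ℕ) : 𝒢.G n ⟶ 𝒢.G (n + 1) := 𝒢.T (Fin.last r) n

lemma GrObj.sq (i : Fin r) (n : ℕ) :
    𝒢.t n ≫ 𝒢.T i.castSucc (n + 1) = 𝒢.T i.castSucc n ≫ 𝒢.t (n + 1) :=
  𝒢.comm i.castSucc (Fin.last r) n

/-- the kernel of the last operator, with the remaining operators -/
noncomputable def GrObj.ker : GrObj X r where
  G n := kernel (𝒢.t n)
  T i n := kMap (𝒢.sq i n)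
  comm i j n := by
    rw [← cancel_mono (kernel.ι (𝒢.t (n + 1 + 1))), Category.assoc, Category.assoc, kMap_ι,
      kMap_ι_assoc, kMap_ι, kMap_ι_assoc, 𝒢.comm]

/-- the cokernel of the last operator (shifted by one), with the remaining operators -/
noncomputable def GrObj.cok : GrObj X r where
  G n := cokernel (𝒢.t n)
  T i n := cMap (𝒢.sq i n)
  comm i j n := by
    rw [← cancel_epi (cokernel.π (𝒢.t n)), π_cMap_assoc, π_cMap, π_cMap_assoc, π_cMap,
      ← Category.assoc, ← Category.assoc, 𝒢.comm]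

variable {𝒢}

theorem IsFG.cok [IsLocallyNoetherian X] (h : IsFG 𝒢) : IsFG 𝒢.cok where
  coh n := Groth.Agent.Lead.PerfLib.isCoh_cokernel (h.coh n) (h.coh (n + 1)) _
  gen := by
    obtain ⟨N, hN⟩ := h.gen
    refine ⟨N, fun n hn Z f hf => ?_⟩
    change cokernel (𝒢.t (n + 1)) ⟶ Z at f
    change ∀ i : Fin r, cMap (𝒢.sq i n) ≫ f = 0 at hf
    show f = (0 : cokernel (𝒢.t (n + 1)) ⟶ Z)
    rw [← cancel_epi (cokernel.π (𝒢.t (n + 1))), comp_zero]
    apply hN (n + 1) (by omega)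
    intro i
    refine Fin.lastCases ?_ (fun j => ?_) i
    · rw [← Category.assoc, cokernel.condition, zero_comp]
    · have := hf j
      rw [← Category.assoc, ← π_cMap (𝒢.sq j n), Category.assoc, this, comp_zero]

section Sections

variable (𝒢) (U : X.Opens)

/-- the operators on sections over `U` -/
noncomputable abbrev TU (i : Fin (r + 1)) (n : ℕ) : Γ(𝒢.G n, U) →ₗ[Γ(X, U)] Γ(𝒢.G (n + 1), U) :=
  appLin (𝒢.T i n) U

lemma comm_TU : GrHB.Comm (TU 𝒢 U) := by
  intro i j n x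
  exact congrArg (fun φ => (Scheme.Modules.Hom.app φ U) x) (𝒢.comm i j n)

end Sections

theorem IsFG.exists_secGen_ker [IsLocallyNoetherian X] (h : IsFG 𝒢) {U : X.Opens}
    (hU : IsAffineOpen U) : ∃ N', ∀ n, N' ≤ n → SecGen 𝒢.ker U n := by
  haveI : IsNoetherianRing Γ(X, U) := IsLocallyNoetherian.component_noetherian ⟨U, hU⟩
  obtain ⟨N, hN⟩ := h.gen
  have hfin : ∀ n, Module.Finite Γ(X, U) Γ(𝒢.G n, U) := fun n =>
    Groth.Agent.Helper4.SecDict.finite_sections hU (𝒢.G n) (h.coh n).1 (h.coh n).2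
  have hgen : GrHB.GenFrom (TU 𝒢 U) N := fun n hn x =>
    (hN n hn).secGen (h.coh n).1 (h.coh (n + 1)).1 hU x
  let W : ∀ n, Submodule Γ(X, U) Γ(𝒢.G n, U) := fun n => LinearMap.ker (TU 𝒢 U (Fin.last r) n)
  have hW : GrHB.Stable (TU 𝒢 U) W := by
    intro i n x hx
    change TU 𝒢 U (Fin.last r) (n + 1) (TU 𝒢 U i n x) = 0
    rw [comm_TU 𝒢 U (Fin.last r) i n x]
    have hx' : TU 𝒢 U (Fin.last r) n x = 0 := hx
    rw [hx', map_zero]
  obtain ⟨N', hN'⟩ := GrHB.subGenFrom (comm_TU 𝒢 U) hfin hgen hW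
  refine ⟨N', fun n hn s => ?_⟩
  -- `s` a section of `ker (t (n+1))`
  change Γ(kernel (𝒢.t (n + 1)), U) at s
  have hx : (kernel.ι (𝒢.t (n + 1))).app U s ∈ W (n + 1) :=
    congrArg (fun φ => (Scheme.Modules.Hom.app φ U) s) (kernel.condition (𝒢.t (n + 1)))
  obtain ⟨y, hy, hxy⟩ := hN' n hn _ hx
  -- lift the `y i` to sections of the kernel
  have hex : ∀ i : Fin r, ∃ s' : Γ(kernel (𝒢.t n), U),
      (kernel.ι (𝒢.t n)).app U s' = y i.castSucc := by
    intro i
    let S : ShortComplex X.Modules := ShortComplex.mk (kernel.ι (𝒢.t n)) (𝒢.t n)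
      (kernel.condition _)
    have hS : S.Exact := ShortComplex.exact_of_f_is_kernel _ (kernelIsKernel _)
    haveI : Mono S.f := inferInstanceAs (Mono (kernel.ι (𝒢.t n)))
    exact (Groth.Agent.Helper4.StalkExact.app_exact S hS U (y i.castSucc)).1 (hy i.castSucc)
  choose s' hs' using hex
  refine ⟨s', ?_⟩
  show s = ∑ i, (kMap (𝒢.sq i n)).app U (s' i)
  apply Groth.Agent.Helper4.AffineDict.app_injective_of_mono (kernel.ι (𝒢.t (n + 1))) U
  rw [hxy, map_sum, Fin.sum_univ_castSucc]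
  have hlast : TU 𝒢 U (Fin.last r) n (y (Fin.last r)) = 0 := hy (Fin.last r)
  rw [hlast, add_zero]
  refine Finset.sum_congr rfl fun i _ => ?_
  have h1 : kMap (𝒢.sq i n) ≫ kernel.ι (𝒢.t (n + 1)) = kernel.ι (𝒢.t n) ≫ 𝒢.T i.castSucc n :=
    kMap_ι _
  have h2 := congrArg (fun φ => (Scheme.Modules.Hom.app φ U) (s' i)) h1
  change (kernel.ι (𝒢.t (n + 1))).app U ((kMap (𝒢.sq i n)).app U (s' i)) =
    (𝒢.T i.castSucc n).app U ((kernel.ι (𝒢.t n)).app U (s' i)) at h2
  rw [hs'] at h2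
  exact h2.symm

theorem IsFG.ker [IsNoetherian X] (h : IsFG 𝒢) : IsFG 𝒢.ker where
  coh n := Groth.Agent.Lead.PerfLib.isCoh_kernel (h.coh n) (h.coh (n + 1)) _
  gen := by
    classical
    -- a finite affine cover
    have hcov : ∀ x : X, ∃ U : X.Opens, IsAffineOpen U ∧ x ∈ U := fun x => by
      obtain ⟨U, hU, hx⟩ := Groth.Agent.Helper4.QcohLimits.exists_affine_nhd x
      exact ⟨U, hU, hx⟩
    choose U hU hxU using hcov
    choose N' hN' using fun x => h.exists_secGen_ker (hU x)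
    obtain ⟨t, ht⟩ := isCompact_univ.elim_finite_subcover (fun x => ((U x : X.Opens) : Set X))
      (fun x => (U x).isOpen) (fun x _ => Set.mem_iUnion.2 ⟨x, hxU x⟩)
    refine ⟨t.sup N', fun n hn => ?_⟩
    apply jointlyEpi_of_secGen
    · exact (Groth.Agent.Lead.PerfLib.isCoh_kernel (h.coh (n + 1)) (h.coh (n + 1 + 1)) _).1
    · intro x
      obtain ⟨y, hy⟩ := Set.mem_iUnion.1 (ht (Set.mem_univ x))
      obtain ⟨hyt, hxy⟩ := Set.mem_iUnion.1 hy
      exact ⟨U y, hU y, hxy, hN' y n ((Finset.le_sup hyt).trans hn)⟩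

end Groth.Agent.Helper1.GrSh
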