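import Mathlib
import Groth.Agent.Helper1.GrHB

/-!
# The inductive step for finite generation of graded cohomology (abstract algebra part)
-/

set_option autoImplicit false
set_option linter.style.haveILetI false

namespace Groth.Agent.Helper1.GrHB

universe u v

variable {B : Type u} [CommRing B] {r : ℕ}
  {H HQ HK HC : ℕ → Type v}
  [∀ n, AddCommGroup (H n)] [∀ n, Module B (H n)]
  [∀ n, AddCommGroup (HQ n)] [∀ n, Module B (HQ n)]
  [∀ n, AddCommGroup (HK n)] [∀ n, Module B (HK n)]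
  [∀ n, AddCommGroup (HC n)] [∀ n, Module B (HC n)]
  (T : Fin (r + 1) → ∀ n, H n →ₗ[B] H (n + 1))
  (TQ : Fin r → ∀ n, HQ n →ₗ[B] HQ (n + 1))
  (TK : Fin r → ∀ n, HK n →ₗ[B] HK (n + 1))
  (TC : Fin r → ∀ n, HC n →ₗ[B] HC (n + 1))
  (e : ∀ n, H n →ₗ[B] HQ n) (ι : ∀ n, HQ n →ₗ[B] H (n + 1))
  (π : ∀ n, H (n + 1) →ₗ[B] HC n) (δ : ∀ n, HQ n →ₗ[B] HK n)

/-- the inductive step -/
theorem genFrom_step
    (hιe : ∀ n x, ι n (e n x) = T (Fin.last r) n x)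
    (hE1 : ∀ n x, π n x = 0 → ∃ z, ι n z = x)
    (hE2 : ∀ n z, δ n z = 0 → ∃ u, e n u = z)
    (hι : ∀ (i : Fin r) n z, ι (n + 1) (TQ i n z) = T i.castSucc (n + 1) (ι n z))
    (hπ : ∀ (i : Fin r) n x, π (n + 1) (T i.castSucc (n + 1) x) = TC i n (π n x))
    (hδ : ∀ (i : Fin r) n z, δ (n + 1) (TQ i n z) = TK i n (δ n z))
    {N₁ N₂ : ℕ}
    (hG1 : SubGenFrom TC (fun n => LinearMap.range (π n)) N₁)
    (hG2 : SubGenFrom TK (fun n => LinearMap.range (δ n)) N₂) :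
    GenFrom T (max N₁ N₂ + 1) := by
  intro m hm x
  obtain ⟨n, rfl⟩ : ∃ n, m = n + 1 := ⟨m - 1, by omega⟩
  have hn1 : N₁ ≤ n := by omega
  have hn2 : N₂ ≤ n := by omega
  -- step 1
  obtain ⟨y₀, hy₀, hxy⟩ := hG1 n hn1 (π (n + 1) x) ⟨x, rfl⟩
  choose y hy using hy₀
  have h1 : π (n + 1) (x - ∑ i, T i.castSucc (n + 1) (y i)) = 0 := by
    rw [map_sub, map_sum, hxy, sub_eq_zero]
    refine Finset.sum_congr rfl fun i _ => ?_
    rw [hπ, hy]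
  obtain ⟨z, hz⟩ := hE1 _ _ h1
  -- step 2
  obtain ⟨w₀, hw₀, hzw⟩ := hG2 n hn2 (δ (n + 1) z) ⟨z, rfl⟩
  choose w hw using hw₀
  have h2 : δ (n + 1) (z - ∑ i, TQ i n (w i)) = 0 := by
    rw [map_sub, map_sum, hzw, sub_eq_zero]
    refine Finset.sum_congr rfl fun i _ => ?_
    rw [hδ, hw]
  obtain ⟨u, hu⟩ := hE2 _ _ h2
  refine ⟨Fin.lastCases u (fun i => y i + ι n (w i)), ?_⟩
  rw [Fin.sum_univ_castSucc]
  simp only [Fin.lastCases_last, Fin.lastCases_castSucc, map_add]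
  rw [Finset.sum_add_distrib, ← hιe, hu, map_sub, map_sum, hz]
  have : ∑ i, ι (n + 1) (TQ i n (w i)) = ∑ i, T i.castSucc (n + 1) (ι n (w i)) :=
    Finset.sum_congr rfl fun i _ => hι i n _
  rw [this]
  abel

end Groth.Agent.Helper1.GrHB
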