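import Mathlib

/-!
# Chow's lemma, part 1: the construction
-/

set_option autoImplicit false
set_option linter.style.haveILetI false

namespace Groth.Agent.Helper1.Chow

open CategoryTheory Limits AlgebraicGeometry TopologicalSpace

universe u

variable {X S P : Scheme.{u}} (f : X ⟶ S) (g : P ⟶ S) (U : X.Opens)
  (j : (U : Scheme.{u}) ⟶ P) (hj : j ≫ g = U.ι ≫ f)

/-- the graph morphism `U ⟶ X ×_S P` -/
noncomputable def hh : (U : Scheme.{u}) ⟶ pullback f g := pullback.lift U.ι j hj.symm

@[reassoc (attr := simp)]
theorem hh_fst : hh f g U j hj ≫ pullback.fst f g = U.ι := pullback.lift_fst _ _ _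

@[reassoc (attr := simp)]
theorem hh_snd : hh f g U j hj ≫ pullback.snd f g = j := pullback.lift_snd _ _ _

/-- the scheme theoretic closure of the graph -/
noncomputable abbrev XX : Scheme.{u} := (hh f g U j hj).image

/-- the closed immersion `X' ⟶ X ×_S P` -/
noncomputable def ii : XX f g U j hj ⟶ pullback f g := (hh f g U j hj).imageι

instance : IsClosedImmersion (ii f g U j hj) :=
  inferInstanceAs (IsClosedImmersion (hh f g U j hj).imageι)

/-- the morphism `U ⟶ X'` -/
noncomputable def uu : (U : Scheme.{u}) ⟶ XX f g U j hj := (hh f g U j hj).toImage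

@[reassoc (attr := simp)]
theorem uu_ii : uu f g U j hj ≫ ii f g U j hj = hh f g U j hj :=
  (hh f g U j hj).toImage_imageι

/-- the projection `X' ⟶ X` -/
noncomputable def ππ : XX f g U j hj ⟶ X := ii f g U j hj ≫ pullback.fst f g

/-- the projection `X' ⟶ P` -/
noncomputable def qq : XX f g U j hj ⟶ P := ii f g U j hj ≫ pullback.snd f g

theorem ππ_f : ππ f g U j hj ≫ f = qq f g U j hj ≫ g := by
  unfold ππ qq
  rw [Category.assoc, Category.assoc, pullback.condition]

@[reassoc (attr := simp)]
theorem uu_ππ : uu f g U j hj ≫ ππ f g U j hj = U.ι := by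
  unfold ππ
  rw [uu_ii_assoc, hh_fst]

@[reassoc (attr := simp)]
theorem uu_qq : uu f g U j hj ≫ qq f g U j hj = j := by
  unfold qq
  rw [uu_ii_assoc, hh_snd]

instance [IsProper g] : IsProper (ππ f g U j hj) := by
  unfold ππ
  infer_instance

instance [IsSeparated g] [IsSeparated f] : IsSeparated (qq f g U j hj) := by
  have : IsSeparated (qq f g U j hj ≫ g) := by
    rw [← ππ_f]
    unfold ππ
    infer_instance
  exact IsSeparated.of_comp (qq f g U j hj) g

theorem ker_ii : (ii f g U j hj).ker = (hh f g U j hj).ker :=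
  Scheme.IdealSheafData.ker_subschemeι _

theorem denseRange_uu [QuasiCompact (hh f g U j hj)] : DenseRange (uu f g U j hj) :=
  (inferInstance : IsDominant (hh f g U j hj).toImage).denseRange

end Groth.Agent.Helper1.Chow
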