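import Mathlib
import Groth.Agent.Helper1.Chow1

/-!
# Chow's lemma, part 2: one piece of the cover
-/

set_option autoImplicit false
set_option linter.style.haveILetI false

namespace Groth.Agent.Helper1.Chow

open CategoryTheory Limits AlgebraicGeometry TopologicalSpace

universe u

variable {X S P : Scheme.{u}} (f : X ⟶ S) (g : P ⟶ S) (U : X.Opens)
  (j : (U : Scheme.{u}) ⟶ P) (hj : j ≫ g = U.ι ≫ f)
  (Y : X.Opens) (hUY : U ≤ Y) {P₁ : Scheme.{u}} (g₁ : P₁ ⟶ S)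
  (j₁ : (Y : Scheme.{u}) ⟶ P₁) (hj₁ : j₁ ≫ g₁ = Y.ι ≫ f)
  (p₁ : P ⟶ P₁) (hp₁ : p₁ ≫ g₁ = g) (hjp : j ≫ p₁ = X.homOfLE hUY ≫ j₁)

/-- the open `Y ×_S P` of `X ×_S P` -/
noncomputable def TY : (pullback f g).Opens := pullback.fst f g ⁻¹ᵁ Y

/-- the open immersion `Y ×_S P ⟶ X ×_S P` -/
noncomputable def oo : pullback (j₁ ≫ g₁) (p₁ ≫ g₁) ⟶ pullback f g :=
  pullback.map (j₁ ≫ g₁) (p₁ ≫ g₁) f g Y.ι (𝟙 P) (𝟙 S) (by rw [hj₁, Category.comp_id])
    (by rw [hp₁, Category.comp_id, Category.id_comp])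

instance : IsOpenImmersion (oo f g Y g₁ j₁ hj₁ p₁ hp₁) := by
  unfold oo
  infer_instance

theorem range_oo : Set.range (oo f g Y g₁ j₁ hj₁ p₁ hp₁) = Set.range (TY f g Y).ι := by
  unfold oo
  rw [Scheme.Pullback.range_map, Scheme.Opens.range_ι, Scheme.Opens.range_ι]
  ext x
  constructor
  · intro hx
    exact hx.1
  · intro hx
    exact ⟨hx, ⟨pullback.snd f g x, rfl⟩⟩

/-- the graph of `j₁`, base changed to `P` -/
noncomputable def eY : pullback j₁ p₁ ⟶ (TY f g Y : Scheme.{u}) :=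
  pullback.mapDesc j₁ p₁ g₁ ≫
    (IsOpenImmersion.isoOfRangeEq (oo f g Y g₁ j₁ hj₁ p₁ hp₁) (TY f g Y).ι
      (range_oo f g Y g₁ j₁ hj₁ p₁ hp₁)).hom

instance [IsSeparated g₁] : IsClosedImmersion (eY f g Y g₁ j₁ hj₁ p₁ hp₁) := by
  unfold eY
  infer_instance

@[reassoc]
theorem eY_ι_fst : eY f g Y g₁ j₁ hj₁ p₁ hp₁ ≫ (TY f g Y).ι ≫ pullback.fst f g =
    pullback.fst j₁ p₁ ≫ Y.ι := by
  unfold eY oo
  rw [Category.assoc, IsOpenImmersion.isoOfRangeEq_hom_fac_assoc]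
  unfold pullback.mapDesc
  rw [pullback.lift_fst, pullback.lift_fst_assoc, Category.comp_id]

@[reassoc]
theorem eY_ι_snd : eY f g Y g₁ j₁ hj₁ p₁ hp₁ ≫ (TY f g Y).ι ≫ pullback.snd f g =
    pullback.snd j₁ p₁ := by
  unfold eY oo
  rw [Category.assoc, IsOpenImmersion.isoOfRangeEq_hom_fac_assoc]
  unfold pullback.mapDesc
  rw [pullback.lift_snd, pullback.lift_snd_assoc, Category.comp_id, Category.comp_id]

/-- the graph morphism into the base changed graph -/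
noncomputable def hΓ : (U : Scheme.{u}) ⟶ pullback j₁ p₁ :=
  pullback.lift (X.homOfLE hUY) j hjp.symm

theorem hΓ_eY : hΓ U j Y hUY j₁ p₁ hjp ≫ eY f g Y g₁ j₁ hj₁ p₁ hp₁ ≫ (TY f g Y).ι =
    hh f g U j hj := by
  apply pullback.hom_ext
  · rw [Category.assoc, Category.assoc, eY_ι_fst, hh_fst]
    unfold hΓ
    rw [pullback.lift_fst_assoc, Scheme.homOfLE_ι]
  · rw [Category.assoc, Category.assoc, eY_ι_snd, hh_snd]
    unfold hΓ
    rw [pullback.lift_snd]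

end Groth.Agent.Helper1.Chow
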