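import Mathlib
import Groth.Agent.Helper1.Chow2

/-!
# Chow's lemma, part 3: one piece of the cover (continued)
-/

set_option autoImplicit false
set_option linter.style.haveILetI false

namespace Groth.Agent.Helper1.Chow

open CategoryTheory Limits AlgebraicGeometry TopologicalSpace

universe u

variable {X S P : Scheme.{u}} (f : X ⟶ S) (g : P ⟶ S) (U : X.Opens)
  (j : (U : Scheme.{u}) ⟶ P) (hj : j ≫ g = U.ι ≫ f)
  (Y : X.Opens) (hUY : U ≤ Y) {P₁ : Scheme.{u}} (g₁ : P₁ ⟶ S)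
  (j₁ : (Y : Scheme.{u}) ⟶ P₁) (hj₁ : j₁ ≫ g₁ = Y.ι ≫ f)
  (p₁ : P ⟶ P₁) (hp₁ : p₁ ≫ g₁ = g) (hjp : j ≫ p₁ = X.homOfLE hUY ≫ j₁)

/-- the part of `X'` over `Y` -/
noncomputable abbrev XY : (XX f g U j hj).Opens := ii f g U j hj ⁻¹ᵁ TY f g Y

theorem XY_eq : XY f g U j hj Y = ππ f g U j hj ⁻¹ᵁ Y := rfl

instance : IsClosedImmersion (ii f g U j hj ∣_ TY f g Y) :=
  IsZariskiLocalAtTarget.restrict (inferInstance : IsClosedImmersion (ii f g U j hj)) _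

theorem ker_restrict [QuasiCompact (hh f g U j hj)] :
    (ii f g U j hj ∣_ TY f g Y).ker = (hh f g U j hj ∣_ TY f g Y).ker := by
  ext V : 2
  rw [Scheme.ker_morphismRestrict_ideal, Scheme.ker_morphismRestrict_ideal, ker_ii]

include hjp in
theorem ker_eY_le [QuasiCompact (hh f g U j hj)] :
    (eY f g Y g₁ j₁ hj₁ p₁ hp₁).ker ≤ (ii f g U j hj ∣_ TY f g Y).ker := by
  rw [ker_restrict]
  have h1 : ((hh f g U j hj ⁻¹ᵁ TY f g Y).ι ≫ hΓ U j Y hUY j₁ p₁ hjp) ≫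
      eY f g Y g₁ j₁ hj₁ p₁ hp₁ = hh f g U j hj ∣_ TY f g Y := by
    rw [← cancel_mono (TY f g Y).ι, Category.assoc, Category.assoc, hΓ_eY f g U j hj,
      morphismRestrict_ι]
  rw [← h1]
  exact Scheme.Hom.le_ker_comp _ _

/-- the closed immersion of the part of `X'` over `Y` into the base changed graph -/
noncomputable def ll [IsSeparated g₁] [QuasiCompact (hh f g U j hj)] :
    (XY f g U j hj Y : Scheme.{u}) ⟶ pullback j₁ p₁ :=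
  IsClosedImmersion.lift (eY f g Y g₁ j₁ hj₁ p₁ hp₁) (ii f g U j hj ∣_ TY f g Y)
    (ker_eY_le f g U j hj Y hUY g₁ j₁ hj₁ p₁ hp₁ hjp)

@[reassoc]
theorem ll_eY [IsSeparated g₁] [QuasiCompact (hh f g U j hj)] :
    ll f g U j hj Y hUY g₁ j₁ hj₁ p₁ hp₁ hjp ≫ eY f g Y g₁ j₁ hj₁ p₁ hp₁ =
      ii f g U j hj ∣_ TY f g Y :=
  IsClosedImmersion.lift_fac _ _ _

instance [IsSeparated g₁] [QuasiCompact (hh f g U j hj)] :
    IsClosedImmersion (ll f g U j hj Y hUY g₁ j₁ hj₁ p₁ hp₁ hjp) := by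
  have : IsClosedImmersion (ll f g U j hj Y hUY g₁ j₁ hj₁ p₁ hp₁ hjp ≫
      eY f g Y g₁ j₁ hj₁ p₁ hp₁) := by
    rw [ll_eY]
    infer_instance
  exact IsClosedImmersion.of_comp _ (eY f g Y g₁ j₁ hj₁ p₁ hp₁)

theorem ι_qq [IsSeparated g₁] [QuasiCompact (hh f g U j hj)] :
    (XY f g U j hj Y).ι ≫ qq f g U j hj =
      ll f g U j hj Y hUY g₁ j₁ hj₁ p₁ hp₁ hjp ≫ pullback.snd j₁ p₁ := by
  rw [← eY_ι_snd f g Y g₁ j₁ hj₁ p₁ hp₁, ll_eY_assoc]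
  unfold qq
  rw [← morphismRestrict_ι_assoc]

theorem ι_ππ [IsSeparated g₁] [QuasiCompact (hh f g U j hj)] :
    (XY f g U j hj Y).ι ≫ ππ f g U j hj =
      ll f g U j hj Y hUY g₁ j₁ hj₁ p₁ hp₁ hjp ≫ pullback.fst j₁ p₁ ≫ Y.ι := by
  rw [← eY_ι_fst f g Y g₁ j₁ hj₁ p₁ hp₁, ll_eY_assoc]
  unfold ππ
  rw [← morphismRestrict_ι_assoc]

include hUY hj₁ hp₁ hjp in
theorem isImmersion_ι_qq [IsSeparated g₁] [QuasiCompact (hh f g U j hj)] [IsImmersion j₁] :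
    IsImmersion ((XY f g U j hj Y).ι ≫ qq f g U j hj) := by
  rw [ι_qq f g U j hj Y hUY g₁ j₁ hj₁ p₁ hp₁ hjp]
  infer_instance

end Groth.Agent.Helper1.Chow
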