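import Mathlib
import Groth.Agent.Helper1.Chow3

/-!
# Chow's lemma, part 4: one piece of the cover (the open of `P`)
-/

set_option autoImplicit false
set_option linter.style.haveILetI false

namespace Groth.Agent.Helper1.Chow

open CategoryTheory Limits AlgebraicGeometry TopologicalSpace

universe u

variable {X S P : Scheme.{u}} (f : X ⟶ S) (g : P ⟶ S) (U : X.Opens)
  (j : (U : Scheme.{u}) ⟶ P) (hj : j ≫ g = U.ι ≫ f)
  (Y : X.Opens) (hUY : U ≤ Y) {P₁ : Scheme.{u}} (g₁ : P₁ ⟶ S)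
  (j₁ : (Y : Scheme.{u}) ⟶ P₁) (hj₁ : j₁ ≫ g₁ = Y.ι ≫ f)
  (p₁ : P ⟶ P₁) (hp₁ : p₁ ≫ g₁ = g) (hjp : j ≫ p₁ = X.homOfLE hUY ≫ j₁)

/-- the open of `P` over which the part of `X'` over `Y` is closed -/
noncomputable def WP [IsImmersion j₁] : P.Opens := p₁ ⁻¹ᵁ j₁.coborderRange

theorem range_snd_subset [IsImmersion j₁] :
    Set.range (pullback.snd j₁ p₁) ⊆ (WP Y j₁ p₁ : Set P) := by
  rw [Scheme.Pullback.range_snd]
  intro x hx
  exact subset_coborder hx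

include hUY hj₁ hp₁ hjp in
theorem range_ι_qq_subset [IsSeparated g₁] [QuasiCompact (hh f g U j hj)] [IsImmersion j₁] :
    Set.range ((XY f g U j hj Y).ι ≫ qq f g U j hj) ⊆ (WP Y j₁ p₁ : Set P) := by
  rw [ι_qq f g U j hj Y hUY g₁ j₁ hj₁ p₁ hp₁ hjp]
  rintro _ ⟨x, rfl⟩
  exact range_snd_subset Y j₁ p₁ ⟨_, rfl⟩

include hUY hj₁ hp₁ hjp in
theorem exists_isClosed_range_ι_qq [IsSeparated g₁] [QuasiCompact (hh f g U j hj)]
    [IsImmersion j₁] :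
    ∃ Z : Set P, IsClosed Z ∧
      Set.range ((XY f g U j hj Y).ι ≫ qq f g U j hj) = Z ∩ (WP Y j₁ p₁ : Set P) := by
  rw [ι_qq f g U j hj Y hUY g₁ j₁ hj₁ p₁ hp₁ hjp]
  have hl : IsClosed (Set.range (ll f g U j hj Y hUY g₁ j₁ hj₁ p₁ hp₁ hjp)) :=
    (ll f g U j hj Y hUY g₁ j₁ hj₁ p₁ hp₁ hjp).isClosedEmbedding.isClosed_range
  obtain ⟨Z₀, hZ₀, hZ₀'⟩ :=
    (pullback.snd j₁ p₁).isEmbedding.isInducing.isClosed_iff.1 hl
  refine ⟨Z₀ ∩ p₁ ⁻¹' closure (Set.range j₁),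
    hZ₀.inter (isClosed_closure.preimage p₁.continuous), ?_⟩
  have h1 : Set.range (ll f g U j hj Y hUY g₁ j₁ hj₁ p₁ hp₁ hjp ≫ pullback.snd j₁ p₁) =
      pullback.snd j₁ p₁ '' Set.range (ll f g U j hj Y hUY g₁ j₁ hj₁ p₁ hp₁ hjp) := by
    rw [← Set.range_comp]
    rfl
  rw [h1, ← hZ₀', Set.image_preimage_eq_inter_range, Scheme.Pullback.range_snd]
  have h2 : Set.range j₁ = coborder (Set.range j₁) ∩ closure (Set.range j₁) :=
    coborder_inter_closure.symm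
  ext x
  constructor
  · rintro ⟨hx1, hx2⟩
    have hx3 : p₁ x ∈ Set.range j₁ := hx2
    rw [h2] at hx3
    exact ⟨⟨hx1, hx3.2⟩, hx3.1⟩
  · rintro ⟨⟨hx1, hx2⟩, hx3⟩
    refine ⟨hx1, ?_⟩
    show p₁ x ∈ Set.range j₁
    rw [h2]
    exact ⟨hx3, hx2⟩

end Groth.Agent.Helper1.Chow
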