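import Mathlib
import Groth.Agent.Helper1.Chow4

/-!
# Chow's lemma, part 5: the preimage of the open of `P`
-/

set_option autoImplicit false
set_option linter.style.haveILetI false

namespace Groth.Agent.Helper1.Chow

open CategoryTheory Limits AlgebraicGeometry TopologicalSpace

universe u

variable {X S P : Scheme.{u}} (f : X ⟶ S) (g : P ⟶ S) (U : X.Opens)
  (j : (U : Scheme.{u}) ⟶ P) (hj : j ≫ g = U.ι ≫ f)
  (Y : X.Opens) (hUY : U ≤ Y) {P₁ : Scheme.{u}} (g₁ : P₁ ⟶ S)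
  (j₁ : (Y : Scheme.{u}) ⟶ P₁) (hj₁ : j₁ ≫ g₁ = Y.ι ≫ f)
  (p₁ : P ⟶ P₁) (hp₁ : p₁ ≫ g₁ = g) (hjp : j ≫ p₁ = X.homOfLE hUY ≫ j₁)

include hUY hj₁ hp₁ hjp in
theorem XY_le_preimage [IsSeparated g₁] [QuasiCompact (hh f g U j hj)] [IsImmersion j₁] :
    XY f g U j hj Y ≤ qq f g U j hj ⁻¹ᵁ WP Y j₁ p₁ := by
  intro x hx
  exact range_ι_qq_subset f g U j hj Y hUY g₁ j₁ hj₁ p₁ hp₁ hjp ⟨⟨x, hx⟩, rfl⟩

include hUY in
theorem range_uu_subset (y : U) : uu f g U j hj y ∈ XY f g U j hj Y := by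
  show pullback.fst f g (ii f g U j hj (uu f g U j hj y)) ∈ Y
  rw [← Scheme.Hom.comp_apply, ← Scheme.Hom.comp_apply, uu_ii_assoc, hh_fst]
  exact hUY y.2

include hUY hj₁ hp₁ hjp in
theorem preimage_WP [IsSeparated f] [IsSeparated g] [IsSeparated g₁]
    [QuasiCompact (hh f g U j hj)] [IsImmersion j₁] :
    qq f g U j hj ⁻¹ᵁ WP Y j₁ p₁ = XY f g U j hj Y := by
  have hle := XY_le_preimage f g U j hj Y hUY g₁ j₁ hj₁ p₁ hp₁ hjp
  refine le_antisymm ?_ hle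
  set V := qq f g U j hj ⁻¹ᵁ WP Y j₁ p₁ with hV
  set r := (XY f g U j hj Y).ι ≫ qq f g U j hj with hr
  have hrange := range_ι_qq_subset f g U j hj Y hUY g₁ j₁ hj₁ p₁ hp₁ hjp
  haveI : IsImmersion r := isImmersion_ι_qq f g U j hj Y hUY g₁ j₁ hj₁ p₁ hp₁ hjp
  -- the lift of `r` to `W`
  let rW : (XY f g U j hj Y : Scheme.{u}) ⟶ (WP Y j₁ p₁ : Scheme.{u}) :=
    IsOpenImmersion.lift (WP Y j₁ p₁).ι r (by rw [Scheme.Opens.range_ι]; exact hrange)
  have hrW : rW ≫ (WP Y j₁ p₁).ι = r := IsOpenImmersion.lift_fac _ _ _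
  haveI : IsImmersion rW := by
    haveI : IsImmersion (rW ≫ (WP Y j₁ p₁).ι) := by rw [hrW]; infer_instance
    exact IsImmersion.of_comp rW (WP Y j₁ p₁).ι
  have hclosed : IsClosed (Set.range rW) := by
    obtain ⟨Z, hZ, hZ'⟩ := exists_isClosed_range_ι_qq f g U j hj Y hUY g₁ j₁ hj₁ p₁ hp₁ hjp
    have : Set.range rW = (WP Y j₁ p₁).ι ⁻¹' Z := by
      ext w
      constructor
      · rintro ⟨x, rfl⟩
        have : (WP Y j₁ p₁).ι (rW x) ∈ Set.range r := ⟨x, by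
          rw [← hrW, Scheme.Hom.comp_apply]⟩
        rw [hZ'] at this
        exact this.1
      · intro hw
        have : (WP Y j₁ p₁).ι w ∈ Set.range r := by
          rw [hZ']
          exact ⟨hw, w.2⟩
        obtain ⟨x, hx⟩ := this
        refine ⟨x, ?_⟩
        apply (WP Y j₁ p₁).ι.isEmbedding.injective
        rw [← hx, ← hrW, Scheme.Hom.comp_apply]
    rw [this]
    exact hZ.preimage (WP Y j₁ p₁).ι.continuous
  haveI : IsClosedImmersion rW := IsClosedImmersion.of_isPreimmersion rW hclosed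
  -- the inclusion of the part over `Y` into the preimage of `W`
  let m : (XY f g U j hj Y : Scheme.{u}) ⟶ (V : Scheme.{u}) := (XX f g U j hj).homOfLE hle
  have hm : m ≫ (qq f g U j hj ∣_ WP Y j₁ p₁) = rW := by
    rw [← cancel_mono (WP Y j₁ p₁).ι, Category.assoc, morphismRestrict_ι, hrW,
      Scheme.homOfLE_ι_assoc]
  haveI : IsProper (m ≫ (qq f g U j hj ∣_ WP Y j₁ p₁)) := by rw [hm]; infer_instance
  haveI : IsProper m := IsProper.of_comp m (qq f g U j hj ∣_ WP Y j₁ p₁)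
  have hmc : IsClosed (Set.range m) := m.isClosedMap.isClosed_range
  have hmι : ∀ y, V.ι (m y) = (XY f g U j hj Y).ι y := by
    intro y
    rw [← Scheme.Hom.comp_apply]
    exact congrArg (fun φ : (XY f g U j hj Y : Scheme.{u}) ⟶ XX f g U j hj => φ y)
      (Scheme.homOfLE_ι _ hle)
  -- density
  intro x hx
  by_contra hxY
  have hopen : IsOpen (V.ι '' (Set.range m)ᶜ) := V.ι.isOpenEmbedding.isOpenMap _ hmc.isOpen_compl
  have hne : (V.ι '' (Set.range m)ᶜ).Nonempty := by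
    refine ⟨x, ⟨x, hx⟩, ?_, rfl⟩
    rintro ⟨y, hy⟩
    apply hxY
    have : (XY f g U j hj Y).ι y = x := by
      rw [← hmι y, hy]
      rfl
    rw [← this]
    exact y.2
  obtain ⟨_, hz, y, rfl⟩ := (denseRange_uu f g U j hj).inter_open_nonempty _ hopen hne
  obtain ⟨v, hv, hv'⟩ := hz
  apply hv
  refine ⟨⟨uu f g U j hj y, range_uu_subset f g U j hj Y hUY y⟩, ?_⟩
  apply V.ι.isEmbedding.injective
  rw [hv', hmι]
  rfl

end Groth.Agent.Helper1.Chow
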