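import Mathlib
import Groth.Agent.Helper1.Chow5

/-!
# Chow's lemma, part 6: the projection to `P` is an immersion
-/

set_option autoImplicit false
set_option linter.style.haveILetI false

namespace Groth.Agent.Helper1.Chow

open CategoryTheory Limits AlgebraicGeometry TopologicalSpace

universe u

variable {X S P : Scheme.{u}} (f : X ⟶ S) (g : P ⟶ S) (U : X.Opens)
  (j : (U : Scheme.{u}) ⟶ P) (hj : j ≫ g = U.ι ≫ f)

theorem hasOfPostcomp_isImmersion :
    MorphismProperty.HasOfPostcompProperty @IsImmersion @IsOpenImmersion :=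
  MorphismProperty.HasOfPostcompProperty.of_le (W := @IsImmersion) ⊤ le_top

theorem respectsRight_isImmersion :
    MorphismProperty.RespectsRight @IsImmersion @IsOpenImmersion where
  postcomp i hi f hf := by
    haveI : IsOpenImmersion i := hi
    haveI : IsImmersion f := hf
    infer_instance

theorem isImmersion_qq {ι : Type*} (Y : ι → X.Opens) (hUY : ∀ i, U ≤ Y i)
    (hcov : ⨆ i, Y i = ⊤) (P₁ : ι → Scheme.{u}) (g₁ : ∀ i, P₁ i ⟶ S)
    [∀ i, IsSeparated (g₁ i)] (j₁ : ∀ i, (Y i : Scheme.{u}) ⟶ P₁ i) [∀ i, IsImmersion (j₁ i)]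
    (hj₁ : ∀ i, j₁ i ≫ g₁ i = (Y i).ι ≫ f) (p₁ : ∀ i, P ⟶ P₁ i)
    (hp₁ : ∀ i, p₁ i ≫ g₁ i = g) (hjp : ∀ i, j ≫ p₁ i = X.homOfLE (hUY i) ≫ j₁ i)
    [IsSeparated f] [IsSeparated g] [QuasiCompact (hh f g U j hj)] :
    IsImmersion (qq f g U j hj) := by
  haveI := hasOfPostcomp_isImmersion
  haveI := respectsRight_isImmersion
  apply IsZariskiLocalAtTarget.of_forall_source_exists_preimage (P := @IsImmersion)
  intro x
  have hx : ππ f g U j hj x ∈ ⨆ i, Y i := by rw [hcov]; trivial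
  obtain ⟨i, hi⟩ := Opens.mem_iSup.mp hx
  have hpre := preimage_WP f g U j hj (Y i) (hUY i) (g₁ i) (j₁ i) (hj₁ i) (p₁ i) (hp₁ i) (hjp i)
  refine ⟨WP (Y i) (j₁ i) (p₁ i), ?_, ?_⟩
  · have : x ∈ qq f g U j hj ⁻¹ᵁ WP (Y i) (j₁ i) (p₁ i) := by
      rw [hpre]
      exact hi
    exact this
  · rw [hpre]
    exact isImmersion_ι_qq f g U j hj (Y i) (hUY i) (g₁ i) (j₁ i) (hj₁ i) (p₁ i) (hp₁ i) (hjp i)

end Groth.Agent.Helper1.Chow
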