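import Mathlib

/-!
# Morphisms to `Proj`, part 1: the morphism attached to `ψ : A → Γ(V, ⊤)` with `ψ t` invertible
-/

set_option autoImplicit false
set_option linter.style.haveILetI false

namespace Groth.Agent.Helper1.ProjMor

open CategoryTheory Limits AlgebraicGeometry HomogeneousLocalization

universe u

variable {σ : Type*} {A : Type u} [CommRing A] [SetLike σ A] [AddSubgroupClass σ A]
variable (𝒜 : ℕ → σ) [GradedRing 𝒜]

section awayLift

variable {B : Type u} [CommRing B] (ψ : A →+* B) {t : A} (h : IsUnit (ψ t))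

/-- the ring map `A_(t) → B` induced by `ψ : A → B` with `ψ t` a unit -/
noncomputable def awayLift : Away 𝒜 t →+* B :=
  (IsLocalization.Away.lift (S := Localization.Away t) t h).comp
    (algebraMap (Away 𝒜 t) (Localization.Away t))

theorem awayLift_mk {d : ℕ} (ht : t ∈ 𝒜 d) (n : ℕ) (a : A) (ha : a ∈ 𝒜 (n • d)) :
    awayLift 𝒜 ψ h (Away.mk 𝒜 ht n a ha) * ψ t ^ n = ψ a := by
  have h1 : (algebraMap (Away 𝒜 t) (Localization.Away t)) (Away.mk 𝒜 ht n a ha) *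
      algebraMap A (Localization.Away t) (t ^ n) = algebraMap A (Localization.Away t) a := by
    rw [HomogeneousLocalization.algebraMap_apply, Away.val_mk, Localization.mk_eq_mk']
    exact IsLocalization.mk'_spec _ _ _
  have h2 := congrArg (IsLocalization.Away.lift (S := Localization.Away t) t h) h1
  rw [map_mul, IsLocalization.Away.lift_eq, IsLocalization.Away.lift_eq, map_pow] at h2
  exact h2

theorem awayLift_unique {d : ℕ} (ht : t ∈ 𝒜 d) (θ : Away 𝒜 t →+* B)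
    (hθ : ∀ (n : ℕ) (a : A) (ha : a ∈ 𝒜 (n • d)), θ (Away.mk 𝒜 ht n a ha) * ψ t ^ n = ψ a) :
    θ = awayLift 𝒜 ψ h := by
  ext x
  obtain ⟨n, a, ha, rfl⟩ := Away.mk_surjective 𝒜 ht x
  have h1 := hθ n a ha
  have h2 := awayLift_mk 𝒜 ψ h ht n a ha
  exact (h.pow n).mul_left_injective (h1.trans h2.symm)

end awayLift

variable {V : Scheme.{u}}

/-- the morphism to `Proj` attached to `ψ : A → Γ(V, ⊤)` with `ψ t` invertible -/
noncomputable def toAway (ψ : A →+* Γ(V, ⊤)) {t : A} {d : ℕ} (ht : t ∈ 𝒜 d) (hd : 0 < d)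
    (h : IsUnit (ψ t)) : V ⟶ Proj 𝒜 :=
  V.toSpecΓ ≫ Spec.map (CommRingCat.ofHom (awayLift 𝒜 ψ h)) ≫ Proj.awayι 𝒜 t ht hd

theorem toAway_congr (ψ : A →+* Γ(V, ⊤)) {t t' : A} (e : t = t') {d d' : ℕ} (ht : t ∈ 𝒜 d)
    (hd : 0 < d) (ht' : t' ∈ 𝒜 d') (hd' : 0 < d') (h : IsUnit (ψ t)) (h' : IsUnit (ψ t')) :
    toAway 𝒜 ψ ht hd h = toAway 𝒜 ψ ht' hd' h' := by
  subst e
  rfl

/-- naturality of `toAway` -/
theorem comp_toAway {V' : Scheme.{u}} (g : V' ⟶ V) (ψ : A →+* Γ(V, ⊤)) {t : A} {d : ℕ}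
    (ht : t ∈ 𝒜 d) (hd : 0 < d) (h : IsUnit (ψ t)) :
    g ≫ toAway 𝒜 ψ ht hd h =
      toAway 𝒜 (g.appTop.hom.comp ψ) ht hd (h.map g.appTop.hom) := by
  have key : CommRingCat.ofHom (awayLift 𝒜 ψ h) ≫ g.appTop =
      CommRingCat.ofHom (awayLift 𝒜 (g.appTop.hom.comp ψ) (h.map g.appTop.hom)) := by
    apply CommRingCat.hom_ext
    apply awayLift_unique 𝒜 _ _ ht
    intro n a ha
    show g.appTop.hom (awayLift 𝒜 ψ h (Away.mk 𝒜 ht n a ha)) * (g.appTop.hom (ψ t)) ^ n =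
      g.appTop.hom (ψ a)
    rw [← map_pow, ← map_mul, awayLift_mk]
  unfold toAway
  rw [Scheme.toSpecΓ_naturality_assoc, ← Spec.map_comp_assoc, key]

/-- enlarging the denominator does not change `toAway` -/
theorem toAway_mul (ψ : A →+* Γ(V, ⊤)) {t s : A} {d e : ℕ} (ht : t ∈ 𝒜 d) (hd : 0 < d)
    (hs : s ∈ 𝒜 e) (h : IsUnit (ψ t)) (hs' : IsUnit (ψ s)) :
    toAway 𝒜 ψ ht hd h =
      toAway 𝒜 ψ (SetLike.mul_mem_graded ht hs) (hd.trans_le (d.le_add_right e))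
        (by rw [map_mul]; exact h.mul hs') := by
  have hts : IsUnit (ψ (t * s)) := by rw [map_mul]; exact h.mul hs'
  have key : (awayLift 𝒜 ψ hts).comp (awayMap 𝒜 hs rfl) = awayLift 𝒜 ψ h := by
    apply awayLift_unique 𝒜 _ _ ht
    intro n a ha
    rw [RingHom.comp_apply, awayMap_mk 𝒜 hs rfl n ht a ha]
    have h1 := awayLift_mk 𝒜 ψ hts (SetLike.mul_mem_graded ht hs) n (a * s ^ n)
      (by rw [smul_add]; exact SetLike.mul_mem_graded ha (SetLike.pow_mem_graded n hs))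
    rw [map_mul ψ t s, mul_pow, ← mul_assoc, map_mul, map_pow] at h1
    exact (hs'.pow n).mul_left_injective h1
  unfold toAway
  rw [← Proj.SpecMap_awayMap_awayι 𝒜 ht hd hs rfl, ← Spec.map_comp_assoc, ← CommRingCat.ofHom_comp,
    key]

/-- rescaling `ψ` by a unit (with weight the degree) does not change `toAway` -/
theorem toAway_scale (ψ ψ' : A →+* Γ(V, ⊤)) (u : Γ(V, ⊤))
    (hψ : ∀ (n : ℕ) (a : A), a ∈ 𝒜 n → ψ' a = u ^ n * ψ a) {t : A} {d : ℕ} (ht : t ∈ 𝒜 d)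
    (hd : 0 < d) (h : IsUnit (ψ t)) (h' : IsUnit (ψ' t)) :
    toAway 𝒜 ψ' ht hd h' = toAway 𝒜 ψ ht hd h := by
  have key : awayLift 𝒜 ψ h = awayLift 𝒜 ψ' h' := by
    apply awayLift_unique 𝒜 _ _ ht
    intro n a ha
    rw [hψ d t ht, hψ (n • d) a ha, mul_pow, ← pow_mul, smul_eq_mul, mul_comm d n,
      mul_comm (u ^ (n * d)), ← mul_assoc, awayLift_mk 𝒜 ψ h ht n a ha, mul_comm]
  unfold toAway
  rw [key]

/-- the preimage of a basic open under `toAway` -/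
theorem toAway_preimage_basicOpen (ψ : A →+* Γ(V, ⊤)) {t s : A} {d e : ℕ} (ht : t ∈ 𝒜 d)
    (hd : 0 < d) (hs : s ∈ 𝒜 e) (he : 0 < e) (h : IsUnit (ψ t)) :
    toAway 𝒜 ψ ht hd h ⁻¹ᵁ Proj.basicOpen 𝒜 s = V.basicOpen (ψ s) := by
  unfold toAway
  rw [Scheme.Hom.comp_preimage, Scheme.Hom.comp_preimage,
    Proj.awayι_preimage_basicOpen 𝒜 ht hd hs he, SpecMap_preimage_basicOpen,
    Scheme.toSpecΓ_preimage_basicOpen]
  have h1 := awayLift_mk 𝒜 ψ h ht e (s ^ d)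
    (by convert! SetLike.pow_mem_graded d hs using 2; exact mul_comm _ _)
  change V.basicOpen (awayLift 𝒜 ψ h (Away.isLocalizationElem ht hs)) = _
  have h2 : V.basicOpen (awayLift 𝒜 ψ h (Away.isLocalizationElem ht hs) * ψ t ^ e) =
      V.basicOpen (awayLift 𝒜 ψ h (Away.isLocalizationElem ht hs)) := by
    rw [Scheme.basicOpen_mul, Scheme.basicOpen_of_isUnit _ (h.pow e), inf_top_eq]
  rw [← h2]
  change V.basicOpen (awayLift 𝒜 ψ h (Away.mk 𝒜 ht e (s ^ d) _) * ψ t ^ e) = _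
  rw [h1, map_pow, Scheme.basicOpen_pow _ _ hd]

end Groth.Agent.Helper1.ProjMor
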