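import Mathlib
import Groth.Agent.Helper1.ProjMor1

/-!
# Morphisms to `Proj`, part 2: gluing
-/

set_option autoImplicit false
set_option linter.style.haveILetI false

namespace Groth.Agent.Helper1.ProjMor

open CategoryTheory Limits AlgebraicGeometry HomogeneousLocalization

universe u

variable {σ : Type*} {A : Type u} [CommRing A] [SetLike σ A] [AddSubgroupClass σ A]
variable (𝒜 : ℕ → σ) [GradedRing 𝒜]

variable {V : Scheme.{u}}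

/-- two `toAway` morphisms whose ring maps differ by a unit (weighted by the degree) agree -/
theorem toAway_eq_of_scale (ψ₁ ψ₂ : A →+* Γ(V, ⊤)) (u : Γ(V, ⊤)) (hu : IsUnit u)
    (hψ : ∀ (n : ℕ) (a : A), a ∈ 𝒜 n → ψ₂ a = u ^ n * ψ₁ a) {t₁ t₂ : A} {d₁ d₂ : ℕ}
    (ht₁ : t₁ ∈ 𝒜 d₁) (hd₁ : 0 < d₁) (ht₂ : t₂ ∈ 𝒜 d₂) (hd₂ : 0 < d₂)
    (h₁ : IsUnit (ψ₁ t₁)) (h₂ : IsUnit (ψ₂ t₂)) :
    toAway 𝒜 ψ₁ ht₁ hd₁ h₁ = toAway 𝒜 ψ₂ ht₂ hd₂ h₂ := by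
  have h₁' : IsUnit (ψ₂ t₁) := by rw [hψ d₁ t₁ ht₁]; exact (hu.pow d₁).mul h₁
  have h₂' : IsUnit (ψ₁ t₂) := by
    have := hψ d₂ t₂ ht₂
    rw [this] at h₂
    exact (IsUnit.mul_iff.1 h₂).2
  have h12 : IsUnit (ψ₁ (t₁ * t₂)) := by rw [map_mul]; exact h₁.mul h₂'
  have h12' : IsUnit (ψ₂ (t₁ * t₂)) := by rw [map_mul]; exact h₁'.mul h₂
  have h21' : IsUnit (ψ₂ (t₂ * t₁)) := by rw [map_mul]; exact h₂.mul h₁'
  calc toAway 𝒜 ψ₁ ht₁ hd₁ h₁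
      = toAway 𝒜 ψ₁ (SetLike.mul_mem_graded ht₁ ht₂) (hd₁.trans_le (d₁.le_add_right d₂)) h12 :=
        toAway_mul 𝒜 ψ₁ ht₁ hd₁ ht₂ h₁ h₂'
    _ = toAway 𝒜 ψ₂ (SetLike.mul_mem_graded ht₁ ht₂) (hd₁.trans_le (d₁.le_add_right d₂)) h12' :=
        (toAway_scale 𝒜 ψ₁ ψ₂ u hψ _ _ h12 h12').symm
    _ = toAway 𝒜 ψ₂ (SetLike.mul_mem_graded ht₂ ht₁) (hd₂.trans_le (d₂.le_add_right d₁)) h21' :=
        toAway_congr 𝒜 ψ₂ (mul_comm t₁ t₂) _ _ _ _ _ _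
    _ = toAway 𝒜 ψ₂ ht₂ hd₂ h₂ := (toAway_mul 𝒜 ψ₂ ht₂ hd₂ ht₁ h₂ h₁').symm

variable {X : Scheme.{u}} {E : Type*} (W : E → X.Opens) (hW : TopologicalSpace.IsOpenCover W)
  (ψ : ∀ e, A →+* Γ((W e : Scheme.{u}), ⊤)) (t : E → A) (d : E → ℕ) (ht : ∀ e, t e ∈ 𝒜 (d e))
  (hd : ∀ e, 0 < d e) (hunit : ∀ e, IsUnit (ψ e (t e)))
  (hcompat : ∀ e e', ∃ u : Γ((W e ⊓ W e' : X.Opens), ⊤), IsUnit u ∧
    ∀ (n : ℕ) (a : A), a ∈ 𝒜 n →
      (X.homOfLE (inf_le_right : W e ⊓ W e' ≤ W e')).appTop.hom (ψ e' a) =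
        u ^ n * (X.homOfLE (inf_le_left : W e ⊓ W e' ≤ W e)).appTop.hom (ψ e a))

include hcompat in
theorem glue_compat (e e' : E) :
    X.homOfLE (inf_le_left : W e ⊓ W e' ≤ W e) ≫ toAway 𝒜 (ψ e) (ht e) (hd e) (hunit e) =
      X.homOfLE (inf_le_right : W e ⊓ W e' ≤ W e') ≫
        toAway 𝒜 (ψ e') (ht e') (hd e') (hunit e') := by
  obtain ⟨u, hu, h⟩ := hcompat e e'
  rw [comp_toAway, comp_toAway]
  exact toAway_eq_of_scale 𝒜 _ _ u hu h _ _ _ _ _ _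

/-- the glued morphism -/
noncomputable def glue : X ⟶ Proj 𝒜 :=
  (X.openCoverOfIsOpenCover W hW).glueMorphisms
    (fun e => toAway 𝒜 (ψ e) (ht e) (hd e) (hunit e)) (by
      intro e e'
      let i : pullback ((X.openCoverOfIsOpenCover W hW).f e)
          ((X.openCoverOfIsOpenCover W hW).f e') ≅ (W e ⊓ W e' : X.Opens) :=
        (isPullback_opens_inf _ _).isoPullback.symm
      rw [← cancel_epi i.inv]
      have h1 : i.inv ≫ pullback.fst ((X.openCoverOfIsOpenCover W hW).f e)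
          ((X.openCoverOfIsOpenCover W hW).f e') = X.homOfLE inf_le_left :=
        (isPullback_opens_inf (W e) (W e')).isoPullback_hom_fst
      have h2 : i.inv ≫ pullback.snd ((X.openCoverOfIsOpenCover W hW).f e)
          ((X.openCoverOfIsOpenCover W hW).f e') = X.homOfLE inf_le_right :=
        (isPullback_opens_inf (W e) (W e')).isoPullback_hom_snd
      rw [reassoc_of% h1, reassoc_of% h2]
      exact glue_compat 𝒜 W ψ t d ht hd hunit hcompat e e')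

theorem ι_glue (e : E) :
    (W e).ι ≫ glue 𝒜 W hW ψ t d ht hd hunit hcompat =
      toAway 𝒜 (ψ e) (ht e) (hd e) (hunit e) :=
  (X.openCoverOfIsOpenCover W hW).ι_glueMorphisms _ _ e

end Groth.Agent.Helper1.ProjMor
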