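import Mathlib
import Groth.Agent.Helper1.ProjMor2

/-!
# Morphisms to `Proj`, part 3: properties of the glued morphism
-/

set_option autoImplicit false
set_option linter.style.haveILetI false

namespace Groth.Agent.Helper1.ProjMor

open CategoryTheory Limits AlgebraicGeometry HomogeneousLocalization

universe u

variable {σ : Type*} {A : Type u} [CommRing A] [SetLike σ A] [AddSubgroupClass σ A]
variable (𝒜 : ℕ → σ) [GradedRing 𝒜]

variable {X : Scheme.{u}} {E : Type*} (W : E → X.Opens) (hW : TopologicalSpace.IsOpenCover W)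
  (ψ : ∀ e, A →+* Γ((W e : Scheme.{u}), ⊤)) (t : E → A) (d : E → ℕ) (ht : ∀ e, t e ∈ 𝒜 (d e))
  (hd : ∀ e, 0 < d e) (hunit : ∀ e, IsUnit (ψ e (t e)))
  (hcompat : ∀ e e', ∃ u : Γ((W e ⊓ W e' : X.Opens), ⊤), IsUnit u ∧
    ∀ (n : ℕ) (a : A), a ∈ 𝒜 n →
      (X.homOfLE (inf_le_right : W e ⊓ W e' ≤ W e')).appTop.hom (ψ e' a) =
        u ^ n * (X.homOfLE (inf_le_left : W e ⊓ W e' ≤ W e)).appTop.hom (ψ e a))
  (hpre : ∀ e e', (W e' : Scheme.{u}).basicOpen (ψ e' (t e)) = (W e').ι ⁻¹ᵁ (W e))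

include hpre in
theorem glue_preimage_basicOpen (e : E) :
    glue 𝒜 W hW ψ t d ht hd hunit hcompat ⁻¹ᵁ Proj.basicOpen 𝒜 (t e) = W e := by
  ext x
  obtain ⟨e', hx⟩ : ∃ e', x ∈ W e' := by
    have : x ∈ (⨆ e, W e : X.Opens) := by rw [hW.iSup_eq_top]; trivial
    simpa using this
  have h1 : (W e').ι ⁻¹ᵁ (glue 𝒜 W hW ψ t d ht hd hunit hcompat ⁻¹ᵁ Proj.basicOpen 𝒜 (t e)) =
      (W e' : Scheme.{u}).basicOpen (ψ e' (t e)) := by
    rw [← Scheme.Hom.comp_preimage, ι_glue,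
      toAway_preimage_basicOpen 𝒜 (ψ e') (ht e') (hd e') (ht e) (hd e)]
  have h2 := hpre e e'
  constructor
  · intro hxg
    have h3 : (⟨x, hx⟩ : W e') ∈
        (W e').ι ⁻¹ᵁ (glue 𝒜 W hW ψ t d ht hd hunit hcompat ⁻¹ᵁ Proj.basicOpen 𝒜 (t e)) := hxg
    rw [h1, h2] at h3
    exact h3
  · intro hxe
    have h3 : (⟨x, hx⟩ : W e') ∈ (W e').ι ⁻¹ᵁ (W e) := hxe
    rw [← h2, ← h1] at h3
    exact h3

include hpre in
/-- the glued morphism is a closed immersion if the pieces are affine and the local ring maps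
are surjective -/
theorem isClosedImmersion_glue (hcov : ⨆ e, Proj.basicOpen 𝒜 (t e) = ⊤)
    (haff : ∀ e, IsAffineOpen (W e))
    (hsurj : ∀ e, Function.Surjective (awayLift 𝒜 (ψ e) (hunit e))) :
    IsClosedImmersion (glue 𝒜 W hW ψ t d ht hd hunit hcompat) := by
  apply IsZariskiLocalAtTarget.of_iSup_eq_top (P := @IsClosedImmersion)
    (fun e => Proj.basicOpen 𝒜 (t e)) hcov
  intro e
  have hp := glue_preimage_basicOpen 𝒜 W hW ψ t d ht hd hunit hcompat hpre e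
  let c : (W e : Scheme.{u}) ⟶ Spec (.of (Away 𝒜 (t e))) :=
    (W e : Scheme.{u}).toSpecΓ ≫ Spec.map (CommRingCat.ofHom (awayLift 𝒜 (ψ e) (hunit e)))
  haveI : IsClosedImmersion c := by
    haveI : IsAffine (W e : Scheme.{u}) := haff e
    have h2 : IsClosedImmersion (Spec.map (CommRingCat.ofHom (awayLift 𝒜 (ψ e) (hunit e)))) :=
      IsClosedImmersion.spec_of_surjective
        (CommRingCat.ofHom (awayLift 𝒜 (ψ e) (hunit e))) (hsurj e)
    have h1 : IsClosedImmersion (W e : Scheme.{u}).toSpecΓ := inferInstance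
    exact MorphismProperty.comp_mem _ _ _ h1 h2
  have key : glue 𝒜 W hW ψ t d ht hd hunit hcompat ∣_ Proj.basicOpen 𝒜 (t e) =
      (X.isoOfEq hp).hom ≫ c ≫ (Proj.basicOpenIsoSpec 𝒜 (t e) (ht e) (hd e)).inv := by
    rw [← cancel_mono (Proj.basicOpen 𝒜 (t e)).ι]
    simp only [Category.assoc, morphismRestrict_ι]
    rw [Proj.basicOpenIsoSpec_inv_ι]
    have h1 : c ≫ Proj.awayι 𝒜 (t e) (ht e) (hd e) =
        toAway 𝒜 (ψ e) (ht e) (hd e) (hunit e) := by
      simp only [c, Category.assoc]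
      rfl
    rw [h1, ← ι_glue 𝒜 W hW ψ t d ht hd hunit hcompat e, Scheme.isoOfEq_hom_ι_assoc]
  rw [key]
  infer_instance

end Groth.Agent.Helper1.ProjMor
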