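import Mathlib
import Groth.Agent.Helper1.ProjMor3
import Groth.Prelude.Def_ProjUP

/-!
# Morphisms to `Proj`, part 4: compatibility with the structure morphism
-/

set_option autoImplicit false
set_option linter.style.haveILetI false

namespace Groth.Agent.Helper1.ProjMor

open CategoryTheory Limits AlgebraicGeometry HomogeneousLocalization

universe u

variable {σ : Type*} {A : Type u} [CommRing A] [SetLike σ A] [AddSubgroupClass σ A]
variable (𝒜 : ℕ → σ) [GradedRing 𝒜]

theorem awayLift_fromZero {B : Type u} [CommRing B] (ψ : A →+* B) {t : A} (h : IsUnit (ψ t))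
    (a : 𝒜 0) : awayLift 𝒜 ψ h (fromZeroRingHom 𝒜 (Submonoid.powers t) a) = ψ a := by
  unfold awayLift
  rw [RingHom.comp_apply]
  have h1 : (algebraMap (Away 𝒜 t) (Localization.Away t))
      (fromZeroRingHom 𝒜 (Submonoid.powers t) a) = algebraMap A (Localization.Away t) a := by
    rw [HomogeneousLocalization.algebraMap_apply]
    show Localization.mk (a : A) 1 = _
    exact Localization.mk_one_eq_algebraMap _
  rw [h1, IsLocalization.Away.lift_eq]

variable {V : Scheme.{u}}

theorem toAway_toSpecZero (ψ : A →+* Γ(V, ⊤)) {t : A} {d : ℕ} (ht : t ∈ 𝒜 d) (hd : 0 < d)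
    (h : IsUnit (ψ t)) :
    toAway 𝒜 ψ ht hd h ≫ Proj.toSpecZero 𝒜 =
      V.toSpecΓ ≫ Spec.map (CommRingCat.ofHom (ψ.comp (algebraMap (𝒜 0) A))) := by
  unfold toAway
  rw [Category.assoc, Category.assoc, Proj.awayι_toSpecZero, ← Spec.map_comp,
    ← CommRingCat.ofHom_comp]
  congr 3
  ext a
  exact awayLift_fromZero 𝒜 ψ h a

/-- a morphism to an affine scheme is determined by its map on global sections -/
theorem toSpecΓ_comp_toGlobal {R : Type u} [CommRing R] (q : V ⟶ Spec (CommRingCat.of R)) :
    V.toSpecΓ ≫ Spec.map (CommRingCat.ofHom (ProjUP.toGlobal q)) = q := by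
  have h1 := Scheme.toSpecΓ_naturality q
  have h2 : CommRingCat.ofHom (ProjUP.toGlobal q) =
      (Scheme.ΓSpecIso (CommRingCat.of R)).inv ≫ q.appTop := rfl
  rw [h2, Spec.map_comp, ← reassoc_of% h1]
  simp

end Groth.Agent.Helper1.ProjMor
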