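import Mathlib
import Groth.Agent.Helper1.ProjMor4

/-!
# Morphisms to `Proj`, part 5: functions pulled back from a standard open of `Proj`
-/

set_option autoImplicit false
set_option linter.style.haveILetI false

namespace Groth.Agent.Helper1.ProjMor

open CategoryTheory Limits AlgebraicGeometry HomogeneousLocalization

universe u

variable {σ : Type*} {A : Type u} [CommRing A] [SetLike σ A] [AddSubgroupClass σ A]
variable (𝒜 : ℕ → σ) [GradedRing 𝒜]

theorem toGlobal_comp {Y Y' : Scheme.{u}} {R : Type u} [CommRing R] (h : Y' ⟶ Y)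
    (q : Y ⟶ Spec (CommRingCat.of R)) :
    ProjUP.toGlobal (h ≫ q) = h.appTop.hom.comp (ProjUP.toGlobal q) := by
  unfold ProjUP.toGlobal
  rw [Scheme.Hom.comp_appTop, CommRingCat.hom_comp, RingHom.comp_assoc]

theorem toGlobal_comp_SpecMap {Y : Scheme.{u}} {R R' : Type u} [CommRing R] [CommRing R']
    (q : Y ⟶ Spec (CommRingCat.of R')) (φ : R →+* R') :
    ProjUP.toGlobal (q ≫ Spec.map (CommRingCat.ofHom φ)) = (ProjUP.toGlobal q).comp φ := by
  unfold ProjUP.toGlobal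
  rw [Scheme.Hom.comp_appTop, CommRingCat.hom_comp, RingHom.comp_assoc, RingHom.comp_assoc]
  congr 1
  have h1 := Scheme.ΓSpecIso_inv_naturality (CommRingCat.ofHom φ)
  have h2 := congrArg CommRingCat.Hom.hom h1
  rw [CommRingCat.hom_comp, CommRingCat.hom_comp] at h2
  exact h2.symm

variable {Y : Scheme.{u}} (g : Y ⟶ Proj 𝒜) {t : A} {d : ℕ} (ht : t ∈ 𝒜 d) (hd : 0 < d)
  (hg : Set.range g ⊆ (Proj.basicOpen 𝒜 t : Set (Proj 𝒜)))

/-- the factorization of a morphism landing in `D₊(t)` through `Spec A_(t)` -/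
noncomputable def liftAway : Y ⟶ Spec (.of (Away 𝒜 t)) :=
  IsOpenImmersion.lift (Proj.awayι 𝒜 t ht hd) g (by
    have h1 := congrArg (fun U : (Proj 𝒜).Opens => (U : Set (Proj 𝒜)))
      (Proj.opensRange_awayι 𝒜 t ht hd)
    simp only [Scheme.Hom.coe_opensRange] at h1
    rw [h1]
    exact hg)

@[reassoc]
theorem liftAway_fac : liftAway 𝒜 g ht hd hg ≫ Proj.awayι 𝒜 t ht hd = g :=
  IsOpenImmersion.lift_fac _ _ _

/-- the functions on `Y` pulled back from `D₊(t)` -/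
noncomputable def pullFun : Away 𝒜 t →+* Γ(Y, ⊤) :=
  ProjUP.toGlobal (liftAway 𝒜 g ht hd hg)

theorem eq_toSpecΓ_pullFun :
    g = Y.toSpecΓ ≫ Spec.map (CommRingCat.ofHom (pullFun 𝒜 g ht hd hg)) ≫
      Proj.awayι 𝒜 t ht hd := by
  rw [← Category.assoc]
  unfold pullFun
  rw [toSpecΓ_comp_toGlobal, liftAway_fac]

/-- naturality of `pullFun` -/
theorem pullFun_comp {Y' : Scheme.{u}} (h : Y' ⟶ Y)
    (hg' : Set.range (h ≫ g) ⊆ (Proj.basicOpen 𝒜 t : Set (Proj 𝒜))) :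
    pullFun 𝒜 (h ≫ g) ht hd hg' = h.appTop.hom.comp (pullFun 𝒜 g ht hd hg) := by
  have h1 : liftAway 𝒜 (h ≫ g) ht hd hg' = h ≫ liftAway 𝒜 g ht hd hg := by
    rw [← cancel_mono (Proj.awayι 𝒜 t ht hd), liftAway_fac, Category.assoc, liftAway_fac]
  unfold pullFun
  rw [h1, toGlobal_comp]

/-- `pullFun` and enlarging the denominator -/
theorem pullFun_awayMap {s : A} {e : ℕ} (hs : s ∈ 𝒜 e)
    (hg' : Set.range g ⊆ (Proj.basicOpen 𝒜 (t * s) : Set (Proj 𝒜))) :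
    (pullFun 𝒜 g (SetLike.mul_mem_graded ht hs) (hd.trans_le (d.le_add_right e)) hg').comp
      (awayMap 𝒜 hs rfl) = pullFun 𝒜 g ht hd hg := by
  have h1 : liftAway 𝒜 g ht hd hg =
      liftAway 𝒜 g (SetLike.mul_mem_graded ht hs) (hd.trans_le (d.le_add_right e)) hg' ≫
        Spec.map (CommRingCat.ofHom (awayMap 𝒜 hs rfl)) := by
    rw [← cancel_mono (Proj.awayι 𝒜 t ht hd), liftAway_fac, Category.assoc,
      Proj.SpecMap_awayMap_awayι 𝒜 ht hd hs rfl, liftAway_fac]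
  unfold pullFun
  rw [h1, toGlobal_comp_SpecMap]

/-- the preimage of `D₊(s)` in terms of `pullFun` -/
theorem preimage_basicOpen_eq {s : A} {e : ℕ} (hs : s ∈ 𝒜 e) (he : 0 < e) :
    g ⁻¹ᵁ Proj.basicOpen 𝒜 s =
      Y.basicOpen (pullFun 𝒜 g ht hd hg (Away.isLocalizationElem ht hs)) := by
  conv_lhs => rw [eq_toSpecΓ_pullFun 𝒜 g ht hd hg]
  rw [Scheme.Hom.comp_preimage, Scheme.Hom.comp_preimage,
    Proj.awayι_preimage_basicOpen 𝒜 ht hd hs he, SpecMap_preimage_basicOpen,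
    Scheme.toSpecΓ_preimage_basicOpen]
  rfl

theorem pullFun_congr {t' : A} (e : t = t') {d' : ℕ} (ht' : t' ∈ 𝒜 d') (hd' : 0 < d')
    (hg' : Set.range g ⊆ (Proj.basicOpen 𝒜 t' : Set (Proj 𝒜))) (x : Away 𝒜 t) :
    pullFun 𝒜 g ht hd hg x = pullFun 𝒜 g ht' hd' hg' (e ▸ x) := by
  subst e
  rfl

end Groth.Agent.Helper1.ProjMor
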