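import Mathlib
import Groth.Agent.Helper1.ProjMor5

/-!
# The Segre embedding, part 1: ratios of elements of degree one
-/

set_option autoImplicit false
set_option linter.style.haveILetI false

namespace Groth.Agent.Helper1.Segre

open CategoryTheory Limits AlgebraicGeometry HomogeneousLocalization

universe u

section Ratio

variable {σ : Type*} {A : Type u} [CommRing A] [SetLike σ A] [AddSubgroupClass σ A]
variable (𝒜 : ℕ → σ) [GradedRing 𝒜]

/-- the ratio `s / t` of two elements of degree one -/
noncomputable abbrev ratio {t s : A} (ht : t ∈ 𝒜 1) (hs : s ∈ 𝒜 1) : Away 𝒜 t :=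
  Away.isLocalizationElem ht hs

theorem val_ratio {t s : A} (ht : t ∈ 𝒜 1) (hs : s ∈ 𝒜 1) :
    (ratio 𝒜 ht hs).val = Localization.mk s (⟨t, Submonoid.mem_powers t⟩ : Submonoid.powers t) := by
  unfold ratio Away.isLocalizationElem
  rw [Away.val_mk]
  congr 1
  · exact pow_one s
  · exact Subtype.ext (pow_one t)

theorem ratio_self {t : A} (ht : t ∈ 𝒜 1) : ratio 𝒜 ht ht = 1 := by
  apply HomogeneousLocalization.val_injective
  rw [val_ratio, HomogeneousLocalization.val_one]
  exact Localization.mk_self (⟨t, Submonoid.mem_powers t⟩ : Submonoid.powers t)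

variable {t t' s : A} (ht : t ∈ 𝒜 1) (ht' : t' ∈ 𝒜 1) (hs : s ∈ 𝒜 1)

theorem val_awayMap_ratio_left :
    (awayMap 𝒜 ht' (rfl : t * t' = t * t') (ratio 𝒜 ht hs)).val =
      Localization.mk (s * t') (⟨t * t', Submonoid.mem_powers _⟩ : Submonoid.powers (t * t')) := by
  unfold ratio Away.isLocalizationElem
  rw [awayMap_mk, Away.val_mk]
  congr 1
  · rw [pow_one, pow_one]
  · exact Subtype.ext (pow_one _)

theorem val_awayMap_ratio_right :
    (awayMap 𝒜 ht (mul_comm t t' : t * t' = t' * t) (ratio 𝒜 ht' hs)).val =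
      Localization.mk (s * t) (⟨t * t', Submonoid.mem_powers _⟩ : Submonoid.powers (t * t')) := by
  unfold ratio Away.isLocalizationElem
  rw [awayMap_mk, Away.val_mk]
  congr 1
  · rw [pow_one, pow_one]
  · exact Subtype.ext (pow_one _)

/-- the cocycle relation `s / t' = (t / t') (s / t)` in `A_(t t')` -/
theorem ratio_cocycle :
    awayMap 𝒜 ht (mul_comm t t' : t * t' = t' * t) (ratio 𝒜 ht' hs) =
      awayMap 𝒜 ht (mul_comm t t' : t * t' = t' * t) (ratio 𝒜 ht' ht) *
        awayMap 𝒜 ht' (rfl : t * t' = t * t') (ratio 𝒜 ht hs) := by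
  apply HomogeneousLocalization.val_injective
  rw [HomogeneousLocalization.val_mul, val_awayMap_ratio_right, val_awayMap_ratio_right,
    val_awayMap_ratio_left, Localization.mk_mul, Localization.mk_eq_mk_iff,
    Localization.r_iff_exists]
  refine ⟨1, ?_⟩
  simp only [OneMemClass.coe_one, one_mul, Submonoid.coe_mul]
  ring

/-- `(t / t') (t' / t) = 1` in `A_(t t')` -/
theorem ratio_mul_inv :
    awayMap 𝒜 ht (mul_comm t t' : t * t' = t' * t) (ratio 𝒜 ht' ht) *
      awayMap 𝒜 ht' (rfl : t * t' = t * t') (ratio 𝒜 ht ht') = 1 := by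
  apply HomogeneousLocalization.val_injective
  rw [HomogeneousLocalization.val_mul, val_awayMap_ratio_right, val_awayMap_ratio_left,
    Localization.mk_mul, HomogeneousLocalization.val_one, ← Localization.mk_one,
    Localization.mk_eq_mk_iff, Localization.r_iff_exists]
  refine ⟨1, ?_⟩
  simp only [OneMemClass.coe_one, one_mul, Submonoid.coe_mul, mul_one]
  ring

end Ratio

section Poly

variable {ι : Type*} {R S : Type*} [CommRing R] [CommRing S]

/-- evaluating a homogeneous polynomial at a rescaled point -/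
theorem eval₂Hom_smul_of_isHomogeneous (ρ : R →+* S) (v : ι → S) (u : S)
    (p : MvPolynomial ι R) (n : ℕ) (hp : p.IsHomogeneous n) :
    MvPolynomial.eval₂Hom ρ (fun i => u * v i) p = u ^ n * MvPolynomial.eval₂Hom ρ v p := by
  classical
  rw [MvPolynomial.coe_eval₂Hom, MvPolynomial.coe_eval₂Hom, MvPolynomial.eval₂_eq,
    MvPolynomial.eval₂_eq, Finset.mul_sum]
  refine Finset.sum_congr rfl fun dd hdd => ?_
  have hdeg : dd.degree = n := by
    by_contra hne
    exact (MvPolynomial.mem_support_iff.1 hdd) (hp.coeff_eq_zero hne)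
  have h1 : ∏ i ∈ dd.support, (u * v i) ^ dd i = u ^ n * ∏ i ∈ dd.support, v i ^ dd i := by
    simp_rw [mul_pow]
    rw [Finset.prod_mul_distrib, Finset.prod_pow_eq_pow_sum, ← hdeg]
    rfl
  rw [h1]
  try ring

end Poly

end Groth.Agent.Helper1.Segre
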