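import Mathlib
import Groth.Prelude.Def_FlatMod2
import Groth.Agent.Helper4.QcohLocal
import Groth.Agent.Lead.LocLift

set_option autoImplicit false

/-!
# Epimorphisms out of finite coproducts, and morphisms out of the structure sheaf
-/

namespace Groth.Agent.Helper1.EpiDesc

open CategoryTheory Limits AlgebraicGeometry TopologicalSpace Opposite

universe u

variable {X : Scheme.{u}}

/-- a morphism out of a finite coproduct into a quasi-coherent module is an epimorphism as soon
as, on an affine cover, every section is a sum of images of sections of the summands -/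
theorem epi_sigmaDesc {ι : Type} [Fintype ι] (Fj : ι → X.Modules) (G : X.Modules)
    [G.IsQuasicoherent] (φ : ∀ j, Fj j ⟶ G)
    (h : ∀ x : X, ∃ U : X.Opens, IsAffineOpen U ∧ x ∈ U ∧
      ∀ t : Γ(G, U), ∃ xs : ∀ j, Γ(Fj j, U), t = ∑ j, (φ j).app U (xs j)) :
    Epi (Sigma.desc φ) := by
  apply Groth.Agent.Helper4.QcohLocal.epi_of_app_surjective_of_affine_cover
  intro x
  obtain ⟨U, hU, hx, hsurj⟩ := h x
  refine ⟨U, hU, hx, fun t => ?_⟩
  obtain ⟨xs, rfl⟩ := hsurj t
  refine ⟨∑ j, (Sigma.ι Fj j).app U (xs j), ?_⟩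
  rw [map_sum]
  refine Finset.sum_congr rfl (fun j _ => ?_)
  have h1 : (Sigma.ι Fj j ≫ Sigma.desc φ).app U = (φ j).app U := by
    rw [Sigma.ι_desc]
  rw [← h1]
  rfl

/-- the value of the morphism `O_X ⟶ N` attached to a global section -/
theorem homOfTop_app (N : X.Modules) (t : Γ(N, ⊤)) (U : X.Opens) (r : Γ(X, U)) :
    (Groth.Agent.Lead.LocLift.homOfTop N t).app U r =
      r • N.presheaf.map (homOfLE (le_top : U ≤ ⊤)).op t := by
  have h1 := Groth.Agent.Helper4.StalkExact.app_res (Groth.Agent.Lead.LocLift.homOfTop N t)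
    (homOfLE le_top : U ⟶ ⊤) (1 : Γ(X, ⊤))
  rw [Groth.Agent.Lead.LocLift.homOfTop_app_one] at h1
  rw [← h1]
  have h2 : (Coh.structureModule X).presheaf.map (homOfLE le_top : U ⟶ ⊤).op (1 : Γ(X, ⊤)) =
      (1 : Γ(X, U)) := map_one (X.presheaf.map (homOfLE le_top : U ⟶ ⊤).op).hom
  rw [h2]
  have h3 : r = r • (1 : Γ(X, U)) := by rw [smul_eq_mul, mul_one]
  conv_lhs => rw [h3]
  exact Scheme.Modules.Hom.app_smul (Groth.Agent.Lead.LocLift.homOfTop N t) r (1 : Γ(X, U))

end Groth.Agent.Helper1.EpiDesc
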