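import Mathlib
import Groth.Prelude.Def_GrMod2

set_option autoImplicit false
set_option linter.unusedSectionVars false

/-!
# The sheaves `M(n)~` on `Proj`: graded algebra preliminaries

* `mem_radical_of_forall`: projective Nullstellensatz for elements of positive degree;
* `ann_isHomogeneous`: the annihilator of a homogeneous element is a homogeneous ideal;
* `exists_pow_smul_eq_zero`: a homogeneous element vanishing in `M_x` for all `x ∈ D₊(g)` is
  killed by a power of `g`;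
* `exists_basicOpen_le`: homogeneous basic opens of positive degree form a basis;
* `exists_pow_eq_mul`: `D₊(h) ⊆ D₊(t)` gives `h ^ N = t * c` with `c` homogeneous.
-/

namespace Groth.Agent.Helper1.GrT

open CategoryTheory AlgebraicGeometry TopologicalSpace Opposite

universe u

variable {R A : Type u} [CommRing R] [CommRing A] [Algebra R A] (𝒜 : ℕ → Submodule R A)
  [GradedAlgebra 𝒜]

/-- projective Nullstellensatz for elements of positive degree -/
lemma mem_radical_of_forall (I : Ideal A) (hI : I.IsHomogeneous 𝒜) (g : A) {e : ℕ} (he : 0 < e)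
    (hg : g ∈ 𝒜 e)
    (h : ∀ x : ProjectiveSpectrum 𝒜, I ≤ x.asHomogeneousIdeal.toIdeal →
      g ∈ x.asHomogeneousIdeal) :
    g ∈ I.radical := by
  rw [hI.radical_eq, Ideal.mem_sInf]
  rintro J ⟨hJh, hIJ, hJp⟩
  by_cases hirr : HomogeneousIdeal.irrelevant 𝒜 ≤ ⟨J, hJh⟩
  · exact hirr (HomogeneousIdeal.mem_irrelevant_of_mem 𝒜 he hg)
  · exact h ⟨⟨J, hJh⟩, hJp, hirr⟩ hIJ

variable {M : Type u} [AddCommGroup M] [Module R M] [Module A M] [IsScalarTower R A M]
  (ℳ : ℕ → Submodule R M) [DirectSum.Decomposition ℳ] [SetLike.GradedSMul 𝒜 ℳ]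

/-- the annihilator of a homogeneous element is a homogeneous ideal -/
lemma ann_isHomogeneous {i : ℕ} (m : M) (hm : m ∈ ℳ i) :
    (LinearMap.ker (LinearMap.toSpanSingleton A M m)).IsHomogeneous 𝒜 := by
  classical
  intro j a ha
  rw [LinearMap.mem_ker, LinearMap.toSpanSingleton_apply] at ha ⊢
  have hsum : a • m = ∑ k ∈ DFinsupp.support (DirectSum.decompose 𝒜 a),
      ((DirectSum.decompose 𝒜 a k : A) • m) := by
    conv_lhs => rw [← DirectSum.sum_support_decompose 𝒜 a]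
    rw [Finset.sum_smul]
  have hmem : ∀ k, (DirectSum.decompose 𝒜 a k : A) • m ∈ ℳ (k + i) := fun k =>
    SetLike.GradedSMul.smul_mem (DirectSum.decompose 𝒜 a k).2 hm
  have h1 : ((DirectSum.decompose ℳ (a • m)) (j + i) : M) = (DirectSum.decompose 𝒜 a j : A) • m := by
    rw [hsum, DirectSum.decompose_sum, DFinsupp.finsetSum_apply, AddSubmonoidClass.coe_finsetSum]
    rw [Finset.sum_eq_single j]
    · exact DirectSum.decompose_of_mem_same ℳ (hmem j)
    · intro k _ hk
      exact DirectSum.decompose_of_mem_ne ℳ (hmem k) (by omega)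
    · intro hj
      rw [DFinsupp.notMem_support_iff] at hj
      rw [hj]
      simp
  rw [← h1, ha]
  simp


/-! ### fractions in `M_x` -/

section frac

variable {𝒜}
variable (x : ProjectiveSpectrum 𝒜)

/-- `m / 1` in `M_x` -/
noncomputable abbrev ι₁ (m : M) : GrTilde.LocMod 𝒜 (M := M) x :=
  LocalizedModule.mk m 1

lemma ι₁_add (m m' : M) : ι₁ x (m + m') = ι₁ x m + ι₁ x m' := by
  unfold ι₁
  rw [LocalizedModule.mk_add_mk]
  simp

lemma ι₁_zero : ι₁ x (0 : M) = 0 := LocalizedModule.zero_mk 1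

lemma ι₁_smul (a : A) (m : M) : ι₁ x (a • m) = a • ι₁ x m := by
  unfold ι₁
  rw [LocalizedModule.smul'_mk]

lemma ι₁_sum {ι : Type*} (s : Finset ι) (f : ι → M) :
    ι₁ x (∑ i ∈ s, f i) = ∑ i ∈ s, ι₁ x (f i) := by
  classical
  induction s using Finset.induction_on with
  | empty => simp
  | insert a s ha ih => rw [Finset.sum_insert ha, Finset.sum_insert ha, ι₁_add, ih]

lemma ι₁_eq_zero_iff (m : M) :
    ι₁ x m = 0 ↔ ∃ c : A, c ∉ x.asHomogeneousIdeal ∧ c • m = 0 := by
  unfold ι₁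
  rw [← LocalizedModule.zero_mk (1 : x.asHomogeneousIdeal.toIdeal.primeCompl),
    LocalizedModule.mk_eq]
  constructor
  · rintro ⟨u, hu⟩
    refine ⟨u.1, u.2, ?_⟩
    simpa [Submonoid.smul_def] using hu
  · rintro ⟨c, hc, h⟩
    refine ⟨⟨c, hc⟩, ?_⟩
    simpa [Submonoid.smul_def] using h

/-- multiplication by an element outside `x` is injective on `M_x` -/
lemma smul_injective {t : A} (ht : t ∉ x.asHomogeneousIdeal) :
    Function.Injective (fun v : GrTilde.LocMod 𝒜 (M := M) x => t • v) := by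
  intro v w h
  have h1 : (⟨t, ht⟩ : x.asHomogeneousIdeal.toIdeal.primeCompl) • v =
      (⟨t, ht⟩ : x.asHomogeneousIdeal.toIdeal.primeCompl) • w := h
  exact (IsLocalizedModule.smul_injective
    (LocalizedModule.mkLinearMap x.asHomogeneousIdeal.toIdeal.primeCompl M) ⟨t, ht⟩) h1

lemma eq_mk_iff (v : GrTilde.LocMod 𝒜 (M := M) x) (m : M) {t : A}
    (ht : t ∉ x.asHomogeneousIdeal) :
    v = LocalizedModule.mk m ⟨t, ht⟩ ↔ t • v = ι₁ x m := by
  have key : t • (LocalizedModule.mk m ⟨t, ht⟩ : GrTilde.LocMod 𝒜 (M := M) x) = ι₁ x m := by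
    rw [LocalizedModule.smul'_mk]
    exact LocalizedModule.mk_cancel (⟨t, ht⟩ : x.asHomogeneousIdeal.toIdeal.primeCompl) m
  constructor
  · rintro rfl
    exact key
  · intro h
    apply smul_injective x ht
    change t • v = t • LocalizedModule.mk m ⟨t, ht⟩
    rw [h, key]

end frac

/-- a homogeneous element vanishing in `M_x` for all `x ∈ D₊(g)` is killed by a power of `g` -/
lemma exists_pow_smul_eq_zero {e i : ℕ} (he : 0 < e) (g : A) (hg : g ∈ 𝒜 e) (m : M)
    (hm : m ∈ ℳ i)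
    (h : ∀ x : ProjectiveSpectrum 𝒜, g ∉ x.asHomogeneousIdeal → ι₁ x m = 0) :
    ∃ N : ℕ, g ^ N • m = 0 := by
  have hrad : g ∈ Ideal.radical (LinearMap.ker (LinearMap.toSpanSingleton A M m)) := by
    apply mem_radical_of_forall 𝒜 _ (ann_isHomogeneous 𝒜 ℳ m hm) g he hg
    intro x hx
    by_contra hgx
    obtain ⟨c, hc, hcm⟩ := (ι₁_eq_zero_iff x m).1 (h x hgx)
    apply hc
    apply hx
    rw [LinearMap.mem_ker, LinearMap.toSpanSingleton_apply]
    exact hcm
  obtain ⟨N, hN⟩ := hrad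
  refine ⟨N, ?_⟩
  rwa [LinearMap.mem_ker, LinearMap.toSpanSingleton_apply] at hN

/-- `D₊(h) ⊆ D₊(t)` with `h`, `t` homogeneous, `deg h > 0`, gives `h ^ N = t * c`, `c` homogeneous
of degree `N * deg h - deg t`, `N ≥ 1` -/
lemma exists_pow_eq_mul {e j : ℕ} (he : 0 < e) (h t : A) (hh : h ∈ 𝒜 e) (ht : t ∈ 𝒜 j)
    (hle : ∀ x : ProjectiveSpectrum 𝒜, h ∉ x.asHomogeneousIdeal → t ∉ x.asHomogeneousIdeal) :
    ∃ (N : ℕ) (c : A), 0 < N ∧ j ≤ N * e ∧ c ∈ 𝒜 (N * e - j) ∧ h ^ N = t * c := by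
  classical
  have hrad : h ∈ (Ideal.span {t}).radical := by
    apply mem_radical_of_forall 𝒜 _ _ h he hh
    · intro x hx
      by_contra hhx
      exact hle x hhx (hx (Ideal.subset_span rfl))
    · apply Ideal.homogeneous_span
      rintro _ rfl
      exact ⟨j, ht⟩
  obtain ⟨N, hN⟩ := hrad
  obtain ⟨c', hc'⟩ := Ideal.mem_span_singleton'.1 hN
  -- `c' * t = h ^ N`
  have hdeg : h ^ (N + j + 1) ∈ 𝒜 ((N + j + 1) * e) := by
    have := SetLike.pow_mem_graded (N + j + 1) hh
    simpa [smul_eq_mul] using this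
  have hle' : j ≤ (N + j + 1) * e := by nlinarith
  refine ⟨N + j + 1, (DirectSum.decompose 𝒜 (c' * h ^ (j + 1)) ((N + j + 1) * e - j) : A),
    by omega, hle', SetLike.coe_mem _, ?_⟩
  rw [← DirectSum.coe_decompose_mul_of_left_mem_of_le 𝒜 ht hle']
  have : t * (c' * h ^ (j + 1)) = h ^ (N + j + 1) := by
    rw [show N + j + 1 = N + (j + 1) by ring, pow_add (n := j + 1), ← hc']
    ring
  rw [this, DirectSum.decompose_of_mem_same 𝒜 hdeg]

/-- homogeneous basic opens of positive degree contained in `D₊(f)` form a basis of `D₊(f)` -/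
lemma exists_basicOpen_le {d : ℕ} (hd : 0 < d) (f : A) (hf : f ∈ 𝒜 d)
    (U : Opens (ProjectiveSpectrum.top 𝒜)) (x : ProjectiveSpectrum.top 𝒜) (hxU : x ∈ U)
    (hxf : f ∉ x.asHomogeneousIdeal) :
    ∃ (e : ℕ) (h : A), 0 < e ∧ h ∈ 𝒜 e ∧ h ∉ x.asHomogeneousIdeal ∧
      ∀ y : ProjectiveSpectrum.top 𝒜, h ∉ y.asHomogeneousIdeal →
        y ∈ U ∧ f ∉ y.asHomogeneousIdeal := by
  classical
  obtain ⟨_, ⟨r, rfl⟩, hxr, hrU⟩ :=
    (ProjectiveSpectrum.isTopologicalBasis_basic_opens 𝒜).exists_subset_of_mem_open hxU U.isOpen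
  -- some homogeneous component of `r` is not in `x`
  have hxr' : r ∉ x.asHomogeneousIdeal := hxr
  obtain ⟨k, hk⟩ : ∃ k, (DirectSum.decompose 𝒜 r k : A) ∉ x.asHomogeneousIdeal := by
    by_contra hcon
    push Not at hcon
    apply hxr'
    rw [← DirectSum.sum_support_decompose 𝒜 r]
    exact Ideal.sum_mem _ (fun k _ => hcon k)
  refine ⟨k + d, (DirectSum.decompose 𝒜 r k : A) * f, by omega,
    SetLike.mul_mem_graded (SetLike.coe_mem _) hf, ?_, ?_⟩
  · intro hmem
    rcases x.isPrime.mem_or_mem hmem with h1 | h1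
    · exact hk h1
    · exact hxf h1
  · intro y hy
    have hy1 : (DirectSum.decompose 𝒜 r k : A) ∉ y.asHomogeneousIdeal := fun h1 =>
      hy (Ideal.mul_mem_right _ _ h1)
    have hy2 : f ∉ y.asHomogeneousIdeal := fun h1 => hy (Ideal.mul_mem_left _ _ h1)
    refine ⟨hrU ?_, hy2⟩
    change r ∉ y.asHomogeneousIdeal
    intro hr
    exact hy1 (y.asHomogeneousIdeal.isHomogeneous k hr)

end Groth.Agent.Helper1.GrT
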