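import Mathlib
import Groth.Prelude.Def_GrMod2
import Groth.Agent.Helper1.GrT1

set_option autoImplicit false
set_option linter.unusedSectionVars false

/-!
# The sheaves `M(n)~` on `Proj`: sections over `D₊(f)` are fractions

* `val s y hy`: the value in `M_y` of a section;
* `exists_local_frac`: local normal form `m / h`, `h` homogeneous of positive degree;
* `exists_global_frac`: every section over `D₊(f)` is a fraction `m / f ^ k`.
-/

namespace Groth.Agent.Helper1.GrT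

open CategoryTheory AlgebraicGeometry TopologicalSpace Opposite

universe u

variable {R A : Type u} [CommRing R] [CommRing A] [Algebra R A] (𝒜 : ℕ → Submodule R A)
  [GradedAlgebra 𝒜]
variable {M : Type u} [AddCommGroup M] [Module R M] [Module A M] [IsScalarTower R A M]
  (ℳ : ℕ → Submodule R M) [DirectSum.Decomposition ℳ] [SetLike.GradedSMul 𝒜 ℳ]

variable {𝒜 ℳ} in
/-- the value of a section at a point, as an element of `M_y` -/
noncomputable def val {n : ℤ} {U : Opens (ProjectiveSpectrum.top 𝒜)}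
    (s : GrTilde.sect 𝒜 ℳ n (op U)) (y : ProjectiveSpectrum.top 𝒜) (hy : y ∈ U) :
    GrTilde.LocMod 𝒜 (M := M) y :=
  ((s.1 ⟨y, hy⟩ : GrTilde.tildeAt 𝒜 ℳ n y) : GrTilde.LocMod 𝒜 (M := M) y)

/-- local normal form of a section -/
lemma exists_local_frac (n : ℤ) {U : Opens (ProjectiveSpectrum.top 𝒜)}
    (s : GrTilde.sect 𝒜 ℳ n (op U)) {d : ℕ} (hd : 0 < d) (f : A) (hf : f ∈ 𝒜 d)
    (x : ProjectiveSpectrum.top 𝒜) (hxU : x ∈ U) (hxf : f ∉ x.asHomogeneousIdeal) :
    ∃ (e i : ℕ) (h : A) (m : M), 0 < e ∧ h ∈ 𝒜 e ∧ m ∈ ℳ i ∧ (i : ℤ) = e + n ∧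
      h ∉ x.asHomogeneousIdeal ∧
      (∀ y : ProjectiveSpectrum.top 𝒜, h ∉ y.asHomogeneousIdeal →
        y ∈ U ∧ f ∉ y.asHomogeneousIdeal) ∧
      ∀ (y : ProjectiveSpectrum.top 𝒜) (hy : y ∈ U), h ∉ y.asHomogeneousIdeal →
        h • val s y hy = ι₁ y m := by
  obtain ⟨V, hxV, iVU, i0, j0, m0, t0, nin, hdeg, hval⟩ := s.2 ⟨x, hxU⟩
  obtain ⟨e, h, he, hh, hhx, hsub⟩ := exists_basicOpen_le 𝒜 hd f hf V x hxV hxf
  have hVU : ∀ y, y ∈ V → y ∈ U := fun y hy => leOfHom iVU hy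
  have hval' : ∀ (y : ProjectiveSpectrum.top 𝒜) (hy : y ∈ U) (hyV : y ∈ V),
      t0.1 • val s y hy = ι₁ y m0.1 := by
    intro y hy hyV
    exact (eq_mk_iff y _ m0.1 (nin ⟨y, hyV⟩)).1 (hval ⟨y, hyV⟩)
  rcases hdeg with hdeg | hm0
  · obtain ⟨N, c, hN, hjle, hc, hpow⟩ := exists_pow_eq_mul 𝒜 he h t0.1 hh t0.2
      (fun y hy => nin ⟨y, (hsub y hy).1⟩)
    have hpowmem : h ^ N ∈ 𝒜 (N * e) := by
      have := SetLike.pow_mem_graded N hh
      simpa [smul_eq_mul] using this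
    refine ⟨N * e, N * e - j0 + i0, h ^ N, c • m0.1, Nat.mul_pos hN he, hpowmem,
      SetLike.GradedSMul.smul_mem hc m0.2, by omega, ?_, ?_, ?_⟩
    · exact fun h1 => hhx (x.isPrime.mem_of_pow_mem N h1)
    · intro y hy
      have hy' : h ∉ y.asHomogeneousIdeal := fun h1 =>
        hy (Ideal.pow_mem_of_mem _ h1 N hN)
      exact ⟨hVU y (hsub y hy').1, (hsub y hy').2⟩
    · intro y hy hhy
      have hy' : h ∉ y.asHomogeneousIdeal := fun h1 =>
        hhy (Ideal.pow_mem_of_mem _ h1 N hN)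
      rw [hpow, mul_comm, mul_smul, hval' y hy (hsub y hy').1]
      exact (ι₁_smul y c m0.1).symm
  · set K : ℕ := n.natAbs + 1 with hK
    have hpowmem : h ^ K ∈ 𝒜 (K * e) := by
      have := SetLike.pow_mem_graded K hh
      simpa [smul_eq_mul] using this
    have hKe : (0 : ℤ) ≤ (K * e : ℕ) + n := by
      have h1 : K ≤ K * e := Nat.le_mul_of_pos_right K he
      push_cast at h1 ⊢
      have h2 : (K : ℤ) ≤ (K : ℤ) * (e : ℤ) := by exact_mod_cast h1
      omega
    refine ⟨K * e, (((K * e : ℕ) : ℤ) + n).toNat, h ^ K, 0, Nat.mul_pos (by omega) he, hpowmem,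
      zero_mem _, by omega, ?_, ?_, ?_⟩
    · exact fun h1 => hhx (x.isPrime.mem_of_pow_mem K h1)
    · intro y hy
      have hy' : h ∉ y.asHomogeneousIdeal := fun h1 =>
        hy (Ideal.pow_mem_of_mem _ h1 K (by omega))
      exact ⟨hVU y (hsub y hy').1, (hsub y hy').2⟩
    · intro y hy hhy
      have hy' : h ∉ y.asHomogeneousIdeal := fun h1 =>
        hhy (Ideal.pow_mem_of_mem _ h1 K (by omega))
      have h1 : t0.1 • val s y hy = 0 := by
        refine (hval' y hy (hsub y hy').1).trans ?_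
        rw [hm0]
        exact ι₁_zero y
      have h2 : val s y hy = 0 := by
        apply smul_injective y (nin ⟨y, (hsub y hy').1⟩)
        change t0.1 • val s y hy = t0.1 • 0
        rw [h1, smul_zero]
      rw [h2, smul_zero]
      exact (ι₁_zero y).symm


/-- `D₊(f)` is quasi-compact for `f` homogeneous of positive degree -/
lemma isCompact_dPlus {d : ℕ} (hd : 0 < d) (f : A) (hf : f ∈ 𝒜 d) :
    IsCompact ((ProjectiveSpectrum.basicOpen 𝒜 f).1 : Set (ProjectiveSpectrum 𝒜)) :=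
  (Proj.isAffineOpen_basicOpen 𝒜 f hf hd).isCompact

/-- **every section of `M(n)~` over `D₊(f)` is a fraction `m / f ^ k`** -/
theorem exists_global_frac_aux (n : ℤ) {d : ℕ} (hd : 0 < d) (f : A) (hf : f ∈ 𝒜 d)
    (U : Opens (ProjectiveSpectrum.top 𝒜)) (hU : U = ProjectiveSpectrum.basicOpen 𝒜 f)
    (s : GrTilde.sect 𝒜 ℳ n (op U)) :
    ∃ (k i : ℕ) (m : M), m ∈ ℳ i ∧ (i : ℤ) = k * d + n ∧
      ∀ (y : ProjectiveSpectrum.top 𝒜) (hy : y ∈ U),
        f ^ k • val s y hy = ι₁ y m := by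
  classical
  -- local data
  have hloc : ∀ x : U, ∃ (e i : ℕ) (h : A) (m : M), 0 < e ∧ h ∈ 𝒜 e ∧ m ∈ ℳ i ∧
      (i : ℤ) = e + n ∧ h ∉ x.1.asHomogeneousIdeal ∧
      (∀ y : ProjectiveSpectrum.top 𝒜, h ∉ y.asHomogeneousIdeal →
        y ∈ U ∧ f ∉ y.asHomogeneousIdeal) ∧
      ∀ (y : ProjectiveSpectrum.top 𝒜) (hy : y ∈ U), h ∉ y.asHomogeneousIdeal →
        h • val s y hy = ι₁ y m := fun x =>
    exists_local_frac 𝒜 ℳ n s hd f hf x.1 x.2
      ((ProjectiveSpectrum.mem_basicOpen 𝒜 f x.1).1 (hU ▸ x.2))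
  choose e i h m he hh hm hdeg hhx hsub hval using hloc
  -- finite subcover
  obtain ⟨t, ht⟩ := (isCompact_dPlus 𝒜 hd f hf).elim_finite_subcover
    (fun x : U => ((ProjectiveSpectrum.basicOpen 𝒜 (h x)).1 : Set (ProjectiveSpectrum 𝒜)))
    (fun x => (ProjectiveSpectrum.basicOpen 𝒜 (h x)).2)
    (fun y hy => Set.mem_iUnion.2 ⟨⟨y, hU ▸ hy⟩, hhx ⟨y, hU ▸ hy⟩⟩)
  have hcov : ∀ y : ProjectiveSpectrum.top 𝒜, y ∈ U → ∃ x ∈ t, h x ∉ y.asHomogeneousIdeal := by
    intro y hy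
    obtain ⟨x, hx, hy'⟩ := Set.mem_iUnion₂.1 (ht (hU ▸ hy))
    exact ⟨x, hx, hy'⟩
  -- compatibility on overlaps
  have hov : ∀ x x' : U, ∃ N : ℕ, (h x * h x') ^ N • (h x' • m x - h x • m x') = 0 := by
    intro x x'
    have hdd : e x' + i x = e x + i x' := by
      have h1 := hdeg x
      have h2 := hdeg x'
      omega
    have hmem : h x' • m x - h x • m x' ∈ ℳ (e x' + i x) := by
      apply sub_mem
      · exact SetLike.GradedSMul.smul_mem (hh x') (hm x)
      · rw [hdd]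
        exact SetLike.GradedSMul.smul_mem (hh x) (hm x')
    apply exists_pow_smul_eq_zero 𝒜 ℳ (Nat.add_pos_left (he x) (e x')) (h x * h x')
      (SetLike.mul_mem_graded (hh x) (hh x')) _ hmem
    intro y hy
    have hy1 : h x ∉ y.asHomogeneousIdeal := fun h1 => hy (Ideal.mul_mem_right _ _ h1)
    have hy2 : h x' ∉ y.asHomogeneousIdeal := fun h1 => hy (Ideal.mul_mem_left _ _ h1)
    have hyU : y ∈ U := (hsub x y hy1).1
    have e1 := hval x y hyU hy1
    have e2 := hval x' y hyU hy2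
    have e3 : ι₁ y (h x' • m x - h x • m x') = ι₁ y (h x' • m x) - ι₁ y (h x • m x') := by
      rw [eq_sub_iff_add_eq]
      refine (ι₁_add y _ _).symm.trans ?_
      rw [sub_add_cancel]
    refine e3.trans ?_
    rw [sub_eq_zero]
    refine (ι₁_smul y _ _).trans ?_
    refine Eq.trans ?_ (ι₁_smul y _ _).symm
    rw [← e1, ← e2, smul_comm]
  choose Nf hNf using hov
  set N : ℕ := (t ×ˢ t).sup (fun p => Nf p.1 p.2) with hN
  have hNle : ∀ x ∈ t, ∀ x' ∈ t, Nf x x' ≤ N := by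
    intro x hx x' hx'
    exact Finset.le_sup (f := fun p : U × U => Nf p.1 p.2) (Finset.mk_mem_product hx hx')
  -- normalized data
  have hD1 : ∀ x ∈ t, ∀ x' ∈ t,
      (h x' ^ (N + 1)) • (h x ^ N • m x) = (h x ^ (N + 1)) • (h x' ^ N • m x') := by
    intro x hx x' hx'
    have h0 : (h x * h x') ^ N • (h x' • m x - h x • m x') = 0 := by
      obtain ⟨r, hr⟩ := Nat.exists_eq_add_of_le (hNle x hx x' hx')
      rw [hr, pow_add, mul_comm, mul_smul, hNf x x', smul_zero]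
    rw [smul_sub, sub_eq_zero] at h0
    calc (h x' ^ (N + 1)) • (h x ^ N • m x)
        = (h x * h x') ^ N • h x' • m x := by
          rw [smul_smul, smul_smul]
          congr 1
          ring
      _ = (h x * h x') ^ N • h x • m x' := h0
      _ = (h x ^ (N + 1)) • (h x' ^ N • m x') := by
          rw [smul_smul, smul_smul]
          congr 1
          ring
  have hD2 : ∀ (x : U) (y : ProjectiveSpectrum.top 𝒜) (hy : y ∈ U), h x ∉ y.asHomogeneousIdeal →
      (h x ^ (N + 1)) • val s y hy = ι₁ y (h x ^ N • m x) := by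
    intro x y hy hxy
    rw [pow_succ, mul_smul, hval x y hy hxy]
    exact (ι₁_smul y _ _).symm
  -- `f` is in the radical of the ideal generated by the `h x ^ (N + 1)`
  have hrad : f ∈ (Ideal.span (Set.range (fun x : t => h x.1 ^ (N + 1)))).radical := by
    apply mem_radical_of_forall 𝒜 _ _ f hd hf
    · intro y hy
      by_contra hfy
      have hyU : y ∈ U := hU ▸ (ProjectiveSpectrum.mem_basicOpen 𝒜 f y).2 hfy
      obtain ⟨x, hx, hxy⟩ := hcov y hyU
      apply hxy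
      apply y.isPrime.mem_of_pow_mem (N + 1)
      exact hy (Ideal.subset_span ⟨⟨x, hx⟩, rfl⟩)
    · apply Ideal.homogeneous_span
      rintro _ ⟨x, rfl⟩
      exact ⟨(N + 1) * e x.1, by
        have := SetLike.pow_mem_graded (N + 1) (hh x.1)
        simpa [smul_eq_mul] using this⟩
  obtain ⟨K, hK⟩ := hrad
  obtain ⟨c, hc⟩ := (Ideal.mem_span_range_iff_exists_fun (R := A)).1 hK
  -- make the exponent large
  set K' : ℕ := t.sup (fun x => (N + 1) * e x) + n.natAbs with hK'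
  set L : ℕ := K + K' with hL
  have hLe : ∀ x ∈ t, (N + 1) * e x ≤ L * d := by
    intro x hx
    have h1 : (N + 1) * e x ≤ t.sup (fun x => (N + 1) * e x) :=
      Finset.le_sup (f := fun x => (N + 1) * e x) hx
    have h2 : K' ≤ K' * d := Nat.le_mul_of_pos_right K' hd
    have h3 : K' * d ≤ L * d := Nat.mul_le_mul_right d (by omega)
    omega
  have hLn : (0 : ℤ) ≤ ((L * d : ℕ) : ℤ) + n := by
    have h2 : K' ≤ K' * d := Nat.le_mul_of_pos_right K' hd
    have h3 : K' * d ≤ L * d := Nat.mul_le_mul_right d (by omega)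
    omega
  have hfL : f ^ L ∈ 𝒜 (L * d) := by
    have := SetLike.pow_mem_graded L hf
    simpa [smul_eq_mul] using this
  have hpmem : ∀ x : U, h x ^ (N + 1) ∈ 𝒜 ((N + 1) * e x) := by
    intro x
    have := SetLike.pow_mem_graded (N + 1) (hh x)
    simpa [smul_eq_mul] using this
  -- homogeneous coefficients
  set c' : t → A := fun x =>
    (DirectSum.decompose 𝒜 (f ^ K' * c x) (L * d - (N + 1) * e x.1) : A) with hc'
  have hc'mem : ∀ x : t, c' x ∈ 𝒜 (L * d - (N + 1) * e x.1) := fun x => SetLike.coe_mem _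
  have hsum : ∑ x : t, c' x * h x.1 ^ (N + 1) = f ^ L := by
    have h1 : f ^ L = ∑ x : t, h x.1 ^ (N + 1) * (f ^ K' * c x) := by
      rw [hL, pow_add, ← hc, Finset.sum_mul]
      refine Finset.sum_congr rfl (fun x _ => ?_)
      ring
    have h2 : (DirectSum.decompose 𝒜 (f ^ L) (L * d) : A) = f ^ L :=
      DirectSum.decompose_of_mem_same 𝒜 hfL
    rw [← h2]
    conv_rhs => rw [h1]
    rw [DirectSum.decompose_sum, DFinsupp.finsetSum_apply, AddSubmonoidClass.coe_finsetSum]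
    refine Finset.sum_congr rfl (fun x _ => ?_)
    rw [DirectSum.coe_decompose_mul_of_left_mem_of_le 𝒜 (hpmem x.1) (hLe x.1 x.2), mul_comm]
  -- the global numerator
  set iT : ℕ := (((L * d : ℕ) : ℤ) + n).toNat with hiT
  set mm : M := ∑ x : t, c' x • (h x.1 ^ N • m x.1) with hmm
  have hmmmem : mm ∈ ℳ iT := by
    apply Submodule.sum_mem
    intro x _
    have h1 : h x.1 ^ N • m x.1 ∈ ℳ (N * e x.1 + i x.1) := by
      have := SetLike.pow_mem_graded N (hh x.1)
      have h2 : h x.1 ^ N ∈ 𝒜 (N * e x.1) := by simpa [smul_eq_mul] using this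
      exact SetLike.GradedSMul.smul_mem h2 (hm x.1)
    have h2 := SetLike.GradedSMul.smul_mem (hc'mem x) h1
    have h3 : L * d - (N + 1) * e x.1 + (N * e x.1 + i x.1) = iT := by
      have h4 := hdeg x.1
      have h5 := hLe x.1 x.2
      have h6 : (N + 1) * e x.1 = N * e x.1 + e x.1 := by ring
      omega
    rw [← h3]
    exact h2
  refine ⟨L, iT, mm, hmmmem, by
    have : ((L * d : ℕ) : ℤ) = (L : ℤ) * (d : ℤ) := by push_cast; ring
    omega, ?_⟩
  intro y hy
  obtain ⟨x, hx, hxy⟩ := hcov y hy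
  have hxy' : h x ^ (N + 1) ∉ y.asHomogeneousIdeal := fun h1 =>
    hxy (y.isPrime.mem_of_pow_mem (N + 1) h1)
  apply smul_injective y hxy'
  change (h x ^ (N + 1)) • (f ^ L • val s y hy) = (h x ^ (N + 1)) • ι₁ y mm
  rw [smul_comm, hD2 x y hy hxy]
  refine (ι₁_smul y _ _).symm.trans ?_
  refine Eq.trans ?_ (ι₁_smul y _ _)
  congr 1
  rw [hmm, Finset.smul_sum, ← hsum, Finset.sum_smul]
  refine Finset.sum_congr rfl (fun x' _ => ?_)
  rw [mul_smul, smul_comm (h x ^ (N + 1)) (c' x'), hD1 x'.1 x'.2 x hx]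


/-- **every section of `M(n)~` over `D₊(f)` is a fraction `m / f ^ k`** -/
theorem exists_global_frac (n : ℤ) {d : ℕ} (hd : 0 < d) (f : A) (hf : f ∈ 𝒜 d)
    (s : GrTilde.sect 𝒜 ℳ n (op (ProjectiveSpectrum.basicOpen 𝒜 f))) :
    ∃ (k i : ℕ) (m : M), m ∈ ℳ i ∧ (i : ℤ) = k * d + n ∧
      ∀ (y : ProjectiveSpectrum.top 𝒜) (hy : y ∈ ProjectiveSpectrum.basicOpen 𝒜 f),
        f ^ k • val s y hy = ι₁ y m :=
  exists_global_frac_aux 𝒜 ℳ n hd f hf _ rfl s

end Groth.Agent.Helper1.GrT
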