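import Mathlib
import Groth.Prelude.Def_GrMod2
import Groth.Agent.Helper1.GrT2

set_option autoImplicit false
set_option linter.unusedSectionVars false

/-!
# The sheaves `M(n)~` on `Proj`: sections over `D₊(g)` as the degree `n` part of `M_g`

* `fracSect`: the section defined by one fraction;
* `sect_ext`: sections are determined by their values;
* `ev`: the maps `M_g → M_y`, `y ∈ D₊(g)`, for any localization `τ : M → L` of `M` at `g`;
* `Deg`: the degree `n` part of `L = M_g`;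
* `sectEquiv : Deg ≃+ Γ(D₊(g), M(n)~)`.
-/

namespace Groth.Agent.Helper1.GrT

open CategoryTheory AlgebraicGeometry TopologicalSpace Opposite

universe u

variable {R A : Type u} [CommRing R] [CommRing A] [Algebra R A] (𝒜 : ℕ → Submodule R A)
  [GradedAlgebra 𝒜]
variable {M : Type u} [AddCommGroup M] [Module R M] [Module A M] [IsScalarTower R A M]
  (ℳ : ℕ → Submodule R M) [DirectSum.Decomposition ℳ] [SetLike.GradedSMul 𝒜 ℳ]

variable {𝒜 ℳ} in
lemma sect_ext {n : ℤ} {U : Opens (ProjectiveSpectrum.top 𝒜)}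
    (s s' : GrTilde.sect 𝒜 ℳ n (op U))
    (h : ∀ (y : ProjectiveSpectrum.top 𝒜) (hy : y ∈ U), val s y hy = val s' y hy) : s = s' := by
  apply Subtype.ext
  funext y
  apply Subtype.ext
  exact h y.1 y.2

variable {𝒜 ℳ} in
lemma val_add {n : ℤ} {U : Opens (ProjectiveSpectrum.top 𝒜)}
    (s s' : GrTilde.sect 𝒜 ℳ n (op U)) (y : ProjectiveSpectrum.top 𝒜) (hy : y ∈ U) :
    val (s + s') y hy = val s y hy + val s' y hy := rfl

variable {𝒜 ℳ} in
lemma val_zero {n : ℤ} {U : Opens (ProjectiveSpectrum.top 𝒜)}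
    (y : ProjectiveSpectrum.top 𝒜) (hy : y ∈ U) :
    val (0 : GrTilde.sect 𝒜 ℳ n (op U)) y hy = 0 := rfl

variable {𝒜 ℳ} in
lemma val_res {n : ℤ} {U V : Opens (ProjectiveSpectrum.top 𝒜)} (h : V ≤ U)
    (s : GrTilde.sect 𝒜 ℳ n (op U)) (y : ProjectiveSpectrum.top 𝒜) (hy : y ∈ V) :
    val (GrTilde.res 𝒜 ℳ n (homOfLE h).op s) y hy = val s y (h hy) := rfl

/-- the value of the section defined by one fraction -/
noncomputable def fracAt (n : ℤ) {i j : ℕ} (m : M) (hm : m ∈ ℳ i) (t : A) (ht : t ∈ 𝒜 j)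
    (hij : (i : ℤ) = j + n) (y : ProjectiveSpectrum 𝒜) (hy : t ∉ y.asHomogeneousIdeal) :
    GrTilde.tildeAt 𝒜 ℳ n y :=
  ⟨LocalizedModule.mk m ⟨t, hy⟩,
      Submodule.subset_span ⟨i, j, ⟨m, hm⟩, ⟨t, ht⟩, hy, hij, rfl⟩⟩

/-- the section defined by one fraction -/
noncomputable def fracSect (n : ℤ) {i j : ℕ} (m : M) (hm : m ∈ ℳ i) (t : A) (ht : t ∈ 𝒜 j)
    (hij : (i : ℤ) = j + n) (U : Opens (ProjectiveSpectrum.top 𝒜))
    (hU : ∀ y : ProjectiveSpectrum.top 𝒜, y ∈ U → t ∉ y.asHomogeneousIdeal) :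
    GrTilde.sect 𝒜 ℳ n (op U) :=
  ⟨fun y => fracAt 𝒜 ℳ n m hm t ht hij y.1 (hU y.1 y.2),
    fun y => ⟨U, y.2, 𝟙 _, i, j, ⟨m, hm⟩, ⟨t, ht⟩, fun z => hU z.1 z.2, Or.inl hij,
      fun _ => rfl⟩⟩

lemma val_fracSect (n : ℤ) {i j : ℕ} (m : M) (hm : m ∈ ℳ i) (t : A) (ht : t ∈ 𝒜 j)
    (hij : (i : ℤ) = j + n) (U : Opens (ProjectiveSpectrum.top 𝒜))
    (hU : ∀ y : ProjectiveSpectrum.top 𝒜, y ∈ U → t ∉ y.asHomogeneousIdeal)
    (y : ProjectiveSpectrum.top 𝒜) (hy : y ∈ U) :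
    t • val (fracSect 𝒜 ℳ n m hm t ht hij U hU) y hy = ι₁ y m :=
  (eq_mk_iff y _ m (hU y hy)).1 rfl

section loc

variable (g : A) {L : Type u} [AddCommGroup L] [Module A L] (τ : M →ₗ[A] L)
  [IsLocalizedModule (Submonoid.powers g) τ]

variable {𝒜} in
/-- evaluation `M_g → M_y` for `y ∈ D₊(g)` -/
noncomputable def ev (y : ProjectiveSpectrum 𝒜) (hy : g ∉ y.asHomogeneousIdeal) :
    L →ₗ[A] GrTilde.LocMod 𝒜 (M := M) y :=
  IsLocalizedModule.lift (Submonoid.powers g) τ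
    (LocalizedModule.mkLinearMap y.asHomogeneousIdeal.toIdeal.primeCompl M)
    (fun x => IsLocalizedModule.map_units (S := y.asHomogeneousIdeal.toIdeal.primeCompl)
      (LocalizedModule.mkLinearMap y.asHomogeneousIdeal.toIdeal.primeCompl M)
      ⟨x.1, by
        obtain ⟨k, hk⟩ := x.2
        rw [← hk]
        exact fun h => hy (y.isPrime.mem_of_pow_mem k h)⟩)

variable {𝒜} in
lemma ev_τ (y : ProjectiveSpectrum 𝒜) (hy : g ∉ y.asHomogeneousIdeal) (m : M) :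
    ev g τ y hy (τ m) = ι₁ y m :=
  IsLocalizedModule.lift_apply _ _ _ _ _

variable {𝒜} in
lemma ev_of_smul (y : ProjectiveSpectrum 𝒜) (hy : g ∉ y.asHomogeneousIdeal) (v : L) (k : ℕ)
    (m : M) (h : g ^ k • v = τ m) : g ^ k • ev g τ y hy v = ι₁ y m := by
  rw [← map_smul, h, ev_τ]

/-- `τ m = 0` iff a power of `g` kills `m` -/
lemma τ_eq_zero_iff (m : M) : τ m = 0 ↔ ∃ N : ℕ, g ^ N • m = 0 := by
  rw [IsLocalizedModule.eq_zero_iff (Submonoid.powers g)]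
  constructor
  · rintro ⟨⟨_, N, rfl⟩, h⟩
    exact ⟨N, h⟩
  · rintro ⟨N, h⟩
    exact ⟨⟨g ^ N, N, rfl⟩, h⟩

include τ in
/-- multiplication by `g ^ k` is injective on `M_g` -/
lemma smul_pow_injective (k : ℕ) : Function.Injective (fun v : L => g ^ k • v) := by
  intro v w h
  exact (IsLocalizedModule.smul_injective τ (⟨g ^ k, k, rfl⟩ : Submonoid.powers g)) h

/-- every element of `M_g` is a fraction -/
lemma exists_smul_eq_τ (v : L) : ∃ (k : ℕ) (m : M), g ^ k • v = τ m := by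
  obtain ⟨⟨m, ⟨_, k, rfl⟩⟩, h⟩ := IsLocalizedModule.surj (Submonoid.powers g) τ v
  exact ⟨k, m, h⟩

/-- existence of fractions -/
lemma exists_eq_of_τ (k : ℕ) (m : M) : ∃ v : L, g ^ k • v = τ m := by
  have := IsLocalizedModule.map_units τ (⟨g ^ k, k, rfl⟩ : Submonoid.powers g)
  obtain ⟨v, hv⟩ := ((Module.End.isUnit_iff _).1 this).2 (τ m)
  exact ⟨v, hv⟩

variable {e : ℕ} (he : 0 < e) (hg : g ∈ 𝒜 e)

include he hg in
lemma pow_mem_graded' (k : ℕ) : g ^ k ∈ 𝒜 (k * e) := by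
  have := SetLike.pow_mem_graded k hg
  simpa [smul_eq_mul] using this

/-- the degree `n` part of `M_g` -/
def Deg (n : ℤ) : AddSubgroup L where
  carrier := {v | ∃ (k i : ℕ) (m : M), m ∈ ℳ i ∧ (i : ℤ) = k * e + n ∧ g ^ k • v = τ m}
  zero_mem' := by
    obtain ⟨K, hK⟩ : ∃ K : ℕ, -n ≤ (K : ℤ) := ⟨n.natAbs, by omega⟩
    refine ⟨K, (((K * e : ℕ) : ℤ) + n).toNat, 0, zero_mem _, ?_, by simp⟩
    have h1 : K ≤ K * e := Nat.le_mul_of_pos_right _ he
    have h2 : (K : ℤ) ≤ ((K * e : ℕ) : ℤ) := by exact_mod_cast h1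
    have h3 : ((K * e : ℕ) : ℤ) = (K : ℤ) * (e : ℤ) := by push_cast; ring
    rw [Int.toNat_of_nonneg (by omega), h3]
  add_mem' := by
    rintro v w ⟨k, i, m, hm, hi, hv⟩ ⟨k', i', m', hm', hi', hw⟩
    refine ⟨k + k', k' * e + i, g ^ k' • m + g ^ k • m', ?_, by push_cast; rw [hi]; ring, ?_⟩
    · apply add_mem
      · exact SetLike.GradedSMul.smul_mem (pow_mem_graded' 𝒜 g he hg k') hm
      · have h1 : k' * e + i = k * e + i' := by
          have : ((k' * e + i : ℕ) : ℤ) = ((k * e + i' : ℕ) : ℤ) := by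
            push_cast
            rw [hi, hi']
            ring
          exact_mod_cast this
        rw [h1]
        exact SetLike.GradedSMul.smul_mem (pow_mem_graded' 𝒜 g he hg k) hm'
    · rw [smul_add, map_add, map_smul, map_smul, ← hv, ← hw, smul_smul, smul_smul, ← pow_add,
        ← pow_add, add_comm k' k]
  neg_mem' := by
    rintro v ⟨k, i, m, hm, hi, hv⟩
    exact ⟨k, i, -m, neg_mem hm, hi, by rw [smul_neg, hv, map_neg]⟩

lemma mem_Deg (n : ℤ) (v : L) : v ∈ Deg 𝒜 ℳ g τ he hg n ↔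
    ∃ (k i : ℕ) (m : M), m ∈ ℳ i ∧ (i : ℤ) = k * e + n ∧ g ^ k • v = τ m := Iff.rfl


/-- values of elements of `Deg` are fractions of degree `n` -/
lemma ev_eq_mk (v : L) (y : ProjectiveSpectrum 𝒜) (hy : g ∉ y.asHomogeneousIdeal)
    (k : ℕ) (m : M) (h : g ^ k • v = τ m) :
    ev g τ y hy v = LocalizedModule.mk m
      (⟨g ^ k, fun h1 => hy (y.isPrime.mem_of_pow_mem k h1)⟩ :
        y.asHomogeneousIdeal.toIdeal.primeCompl) :=
  (eq_mk_iff y (ev g τ y hy v) m _).2 (ev_of_smul g τ y hy v k m h)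

lemma ev_mem (n : ℤ) (v : L) (hv : v ∈ Deg 𝒜 ℳ g τ he hg n) (y : ProjectiveSpectrum 𝒜)
    (hy : g ∉ y.asHomogeneousIdeal) : ev g τ y hy v ∈ GrTilde.tildeAt 𝒜 ℳ n y := by
  obtain ⟨k, i, m, hm, hi, h⟩ := hv
  rw [ev_eq_mk 𝒜 g τ v y hy k m h]
  exact Submodule.subset_span ⟨i, k * e, ⟨m, hm⟩, ⟨g ^ k, pow_mem_graded' 𝒜 g he hg k⟩, _,
    by push_cast; exact hi, rfl⟩

/-- the section of `M(n)~` over `U ⊆ D₊(g)` defined by an element of degree `n` of `M_g` -/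
noncomputable def toSect (n : ℤ) (U : Opens (ProjectiveSpectrum.top 𝒜))
    (hU : ∀ y : ProjectiveSpectrum.top 𝒜, y ∈ U → g ∉ y.asHomogeneousIdeal) :
    Deg 𝒜 ℳ g τ he hg n →+ GrTilde.sect 𝒜 ℳ n (op U) where
  toFun v := ⟨fun y => (⟨ev g τ y.1 (hU y.1 y.2) v.1, ev_mem 𝒜 ℳ g τ he hg n v.1 v.2 y.1 (hU y.1 y.2)⟩ :
      GrTilde.tildeAt 𝒜 ℳ n y.1), by
    obtain ⟨k, i, m, hm, hi, h⟩ := v.2
    intro y
    exact ⟨U, y.2, 𝟙 _, i, k * e, ⟨m, hm⟩, ⟨g ^ k, pow_mem_graded' 𝒜 g he hg k⟩,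
      fun z h1 => hU z.1 z.2 (z.1.isPrime.mem_of_pow_mem k h1), Or.inl (by push_cast; exact hi),
      fun z => ev_eq_mk 𝒜 g τ v.1 z.1 (hU z.1 z.2) k m h⟩⟩
  map_zero' := by
    apply sect_ext
    intro y hy
    change ev g τ y (hU y hy) 0 = 0
    exact map_zero _
  map_add' v w := by
    apply sect_ext
    intro y hy
    change ev g τ y (hU y hy) (v.1 + w.1) = ev g τ y (hU y hy) v.1 + ev g τ y (hU y hy) w.1
    exact map_add _ _ _

lemma val_toSect (n : ℤ) (U : Opens (ProjectiveSpectrum.top 𝒜))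
    (hU : ∀ y : ProjectiveSpectrum.top 𝒜, y ∈ U → g ∉ y.asHomogeneousIdeal)
    (v : Deg 𝒜 ℳ g τ he hg n) (y : ProjectiveSpectrum.top 𝒜) (hy : y ∈ U) :
    val (toSect 𝒜 ℳ g τ he hg n U hU v) y hy = ev g τ y (hU y hy) v.1 := rfl

/-- **sections of `M(n)~` over `D₊(g)` are the elements of degree `n` of `M_g`** -/
theorem toSect_bijective (n : ℤ) (U : Opens (ProjectiveSpectrum.top 𝒜))
    (hU : U = ProjectiveSpectrum.basicOpen 𝒜 g) :
    Function.Bijective (toSect 𝒜 ℳ g τ he hg n U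
      (fun y hy => (ProjectiveSpectrum.mem_basicOpen 𝒜 g y).1 (hU ▸ hy))) := by
  have hU' : ∀ y : ProjectiveSpectrum.top 𝒜, y ∈ U → g ∉ y.asHomogeneousIdeal :=
    fun y hy => (ProjectiveSpectrum.mem_basicOpen 𝒜 g y).1 (hU ▸ hy)
  constructor
  · rw [injective_iff_map_eq_zero]
    intro v hv
    obtain ⟨k, i, m, hm, hi, h⟩ := v.2
    have h0 : ∀ y : ProjectiveSpectrum 𝒜, g ∉ y.asHomogeneousIdeal → ι₁ y m = 0 := by
      intro y hy
      have hyU : y ∈ U := hU ▸ (ProjectiveSpectrum.mem_basicOpen 𝒜 g y).2 hy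
      have h1 : val (toSect 𝒜 ℳ g τ he hg n U hU' v) y hyU = 0 := by
        rw [hv]
        rfl
      have h1' : ev g τ y hy v.1 = 0 := h1
      rw [← ev_of_smul g τ y hy v.1 k m h, h1', smul_zero]
    obtain ⟨N, hN⟩ := exists_pow_smul_eq_zero 𝒜 ℳ he g hg m hm h0
    have h2 : τ m = 0 := (τ_eq_zero_iff g τ m).2 ⟨N, hN⟩
    apply Subtype.ext
    apply smul_pow_injective g τ k
    change g ^ k • v.1 = g ^ k • 0
    rw [h, h2, smul_zero]
  · intro s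
    obtain ⟨k, i, m, hm, hi, hval⟩ := exists_global_frac_aux 𝒜 ℳ n he g hg U hU s
    obtain ⟨v, hv⟩ := exists_eq_of_τ g τ k m
    refine ⟨⟨v, k, i, m, hm, hi, hv⟩, ?_⟩
    apply sect_ext
    intro y hy
    have hgk : g ^ k ∉ y.asHomogeneousIdeal := fun h1 =>
      hU' y hy (y.isPrime.mem_of_pow_mem k h1)
    apply smul_injective y hgk
    change g ^ k • ev g τ y (hU' y hy) v = g ^ k • val s y hy
    rw [hval y hy]
    exact ev_of_smul g τ y (hU' y hy) v k m hv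

end loc

end Groth.Agent.Helper1.GrT
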