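import Mathlib
import Groth.Prelude.Def_GrMod2
import Groth.Agent.Helper1.GrT3
import Groth.Agent.Helper4.QcohGlue

set_option autoImplicit false
set_option linter.unusedSectionVars false
set_option linter.style.haveILetI false

/-!
# The sheaves `M(n)~` on `Proj` are quasi-coherent
-/

namespace Groth.Agent.Helper1.GrT

open CategoryTheory AlgebraicGeometry TopologicalSpace Opposite

universe u

variable {R A : Type u} [CommRing R] [CommRing A] [Algebra R A] (𝒜 : ℕ → Submodule R A)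
  [GradedAlgebra 𝒜]
variable {M : Type u} [AddCommGroup M] [Module R M] [Module A M] [IsScalarTower R A M]
  (ℳ : ℕ → Submodule R M) [DirectSum.Decomposition ℳ] [SetLike.GradedSMul 𝒜 ℳ]

variable {𝒜} in
/-- a fraction in `A_y` -/
noncomputable def mkO (y : ProjectiveSpectrum 𝒜) (a t : A) (ht : t ∉ y.asHomogeneousIdeal) :
    Twist.Loc 𝒜 y := Localization.mk a ⟨t, ht⟩

/-- evaluation of a section of the structure sheaf at a point -/
noncomputable def evO (U : (Proj 𝒜).Opens) (y : Proj 𝒜) (hy : y ∈ U) :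
    Γ(Proj 𝒜, U) →+* Twist.A0 𝒜 y :=
  (Proj.stalkIso' 𝒜 y).toRingHom.comp ((Proj 𝒜).presheaf.germ U y hy).hom

lemma evO_apply (U : (Proj 𝒜).Opens) (y : Proj 𝒜) (hy : y ∈ U) (c : Γ(Proj 𝒜, U)) :
    evO 𝒜 U y hy c = (show Twist.O (𝒜 := 𝒜) (op U) from c).1 ⟨y, hy⟩ :=
  Proj.stalkIso'_germ 𝒜 U y hy c

lemma evO_res {U V : (Proj 𝒜).Opens} (h : V ≤ U) (y : Proj 𝒜) (hy : y ∈ V)
    (c : Γ(Proj 𝒜, U)) :
    evO 𝒜 V y hy ((Proj 𝒜).presheaf.map (homOfLE h).op c) = evO 𝒜 U y (h hy) c := by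
  rw [evO_apply, evO_apply]
  rfl

lemma mem_basicOpen_iff (U : (Proj 𝒜).Opens) (c : Γ(Proj 𝒜, U)) (y : Proj 𝒜) (hy : y ∈ U) :
    y ∈ (Proj 𝒜).basicOpen c ↔ IsUnit (evO 𝒜 U y hy c).val := by
  haveI : (y.asHomogeneousIdeal.toIdeal).IsPrime := y.isPrime
  refine (Scheme.mem_basicOpen _ _ _ hy).trans ?_
  refine Iff.trans ?_ (HomogeneousLocalization.isUnit_iff_isUnit_val _ _ _).symm
  exact (MulEquiv.isUnit_map (Proj.stalkIso' 𝒜 y).toMulEquiv).symm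

/-- sections of the structure sheaf over `D₊(f)` are fractions `a / f ^ k` -/
lemma exists_frac_O {d : ℕ} (hd : 0 < d) (f : A) (hf : f ∈ 𝒜 d)
    (c : Γ(Proj 𝒜, Proj.basicOpen 𝒜 f)) :
    ∃ (k : ℕ) (a : A), a ∈ 𝒜 (k * d) ∧ ∀ (y : Proj 𝒜) (hy : y ∈ Proj.basicOpen 𝒜 f),
      (evO 𝒜 _ y hy c).val =
        mkO y a (f ^ k) (fun h1 => hy (y.isPrime.mem_of_pow_mem k h1)) := by
  obtain ⟨z, rfl⟩ : ∃ z, (Proj.basicOpenIsoAway 𝒜 f hf hd).hom z = c :=
    ⟨(Proj.basicOpenIsoAway 𝒜 f hf hd).inv c, by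
      rw [← ConcreteCategory.comp_apply, Iso.inv_hom_id]; rfl⟩
  obtain ⟨k, a, ha, rfl⟩ := HomogeneousLocalization.Away.mk_surjective 𝒜 hf z
  refine ⟨k, a, by simpa [smul_eq_mul] using ha, fun y hy => ?_⟩
  rw [evO_apply]
  refine (ProjectiveSpectrum.Proj.awayToSection_apply 𝒜 f _ ⟨y, hy⟩).trans ?_
  rw [HomogeneousLocalization.Away.val_mk, Localization.mk_eq_mk', IsLocalization.map_mk']
  unfold mkO
  rw [Localization.mk_eq_mk']
  rfl

variable {𝒜} in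
lemma smul_mkO_smul (y : ProjectiveSpectrum 𝒜) (a t : A) (ht : t ∉ y.asHomogeneousIdeal)
    (v : GrTilde.LocMod 𝒜 (M := M) y) : t • (mkO y a t ht • v) = a • v := by
  induction v using LocalizedModule.induction_on with
  | h m s =>
    unfold mkO
    rw [LocalizedModule.mk_smul_mk, LocalizedModule.smul'_mk, LocalizedModule.smul'_mk,
      LocalizedModule.mk_eq]
    refine ⟨1, ?_⟩
    simp only [one_smul, Submonoid.smul_def, Submonoid.coe_mul, smul_smul]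
    congr 1
    ring

variable {𝒜} in
lemma mkO_pow (y : ProjectiveSpectrum 𝒜) (a t : A) (ht : t ∉ y.asHomogeneousIdeal) (N : ℕ) :
    (mkO y a t ht) ^ N = mkO y (a ^ N) (t ^ N) (fun h => ht (y.isPrime.mem_of_pow_mem N h)) := by
  unfold mkO
  rw [Localization.mk_pow]
  rfl

variable {𝒜} in
lemma isUnit_mkO (y : ProjectiveSpectrum 𝒜) (a t : A) (ht : t ∉ y.asHomogeneousIdeal) :
    IsUnit (mkO y a t ht) ↔ a ∉ y.asHomogeneousIdeal := by
  unfold mkO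
  rw [Localization.mk_eq_mk']
  exact IsLocalization.AtPrime.isUnit_mk'_iff _ _ _ _

set_option synthInstance.maxHeartbeats 400000 in
lemma val_pow_smul (n : ℤ) (U : (Proj 𝒜).Opens) (c : Γ(Proj 𝒜, U)) (N : ℕ)
    (s : Γ(GrTilde.tilde 𝒜 ℳ n, U)) (y : Proj 𝒜) (hy : y ∈ U) :
    val (𝒜 := 𝒜) (ℳ := ℳ) (n := n) (U := U) (c ^ N • s) y hy =
      ((evO 𝒜 U y hy c).val) ^ N • val (𝒜 := 𝒜) (ℳ := ℳ) (n := n) (U := U) s y hy := by
  have h1 : val (𝒜 := 𝒜) (ℳ := ℳ) (n := n) (U := U) (c ^ N • s) y hy =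
      (evO 𝒜 U y hy (c ^ N)).val • val (𝒜 := 𝒜) (ℳ := ℳ) (n := n) (U := U) s y hy := by
    rw [evO_apply]
    rfl
  rw [h1, map_pow, HomogeneousLocalization.val_pow]

set_option synthInstance.maxHeartbeats 400000 in
lemma val_smul (n : ℤ) (U : (Proj 𝒜).Opens) (c : Γ(Proj 𝒜, U))
    (s : Γ(GrTilde.tilde 𝒜 ℳ n, U)) (y : Proj 𝒜) (hy : y ∈ U) :
    val (𝒜 := 𝒜) (ℳ := ℳ) (n := n) (U := U) (c • s) y hy =
      (evO 𝒜 U y hy c).val • val (𝒜 := 𝒜) (ℳ := ℳ) (n := n) (U := U) s y hy := by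
  rw [evO_apply]
  rfl

/-- the scheme-theoretic basic open of `a / f ^ k` is `D₊(a f)` -/
lemma basicOpen_eq (f : A)
    (c : Γ(Proj 𝒜, Proj.basicOpen 𝒜 f)) (k : ℕ) (a : A)
    (hc : ∀ (y : Proj 𝒜) (hy : y ∈ Proj.basicOpen 𝒜 f),
      (evO 𝒜 _ y hy c).val =
        mkO y a (f ^ k) (fun h1 => hy (y.isPrime.mem_of_pow_mem k h1))) :
    (Proj 𝒜).basicOpen c = ProjectiveSpectrum.basicOpen 𝒜 (a * f) := by
  apply le_antisymm
  · intro y hy
    have hyU : y ∈ Proj.basicOpen 𝒜 f := (Proj 𝒜).basicOpen_le c hy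
    have h1 := (mem_basicOpen_iff 𝒜 _ c y hyU).1 hy
    rw [hc y hyU] at h1
    replace h1 := (isUnit_mkO y a (f ^ k) _).1 h1
    intro h2
    rcases y.isPrime.mem_or_mem h2 with h3 | h3
    · exact h1 h3
    · exact hyU h3
  · intro y hy
    have hyf : f ∉ y.asHomogeneousIdeal := fun h1 => hy (Ideal.mul_mem_left _ _ h1)
    have hya : a ∉ y.asHomogeneousIdeal := fun h1 => hy (Ideal.mul_mem_right _ _ h1)
    have hyU : y ∈ Proj.basicOpen 𝒜 f := hyf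
    apply (mem_basicOpen_iff 𝒜 _ c y hyU).2
    rw [hc y hyU]
    exact (isUnit_mkO y a (f ^ k) _).2 hya


variable {𝒜} in
/-- pointwise computation for the `zero` part -/
lemma pointwise_zero (y : ProjectiveSpectrum 𝒜) (v : GrTilde.LocMod 𝒜 (M := M) y) (f a : A)
    (k j N : ℕ) (hf : f ∉ y.asHomogeneousIdeal) (m : M) (h1 : f ^ j • v = ι₁ y m)
    (h2 : (a * f) ^ N • m = 0) :
    (mkO y a (f ^ k) (fun h => hf (y.isPrime.mem_of_pow_mem k h))) ^ N • v = 0 := by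
  rw [mkO_pow]
  have hf1 : f ^ (k * N + j + N) ∉ y.asHomogeneousIdeal := fun h1 =>
    hf (y.isPrime.mem_of_pow_mem _ h1)
  apply smul_injective y hf1
  change f ^ (k * N + j + N) • (mkO y (a ^ N) ((f ^ k) ^ N) _ • v) = f ^ (k * N + j + N) • 0
  have e1 : f ^ (k * N + j + N) = (f ^ N * f ^ j) * (f ^ k) ^ N := by
    rw [← pow_mul, ← pow_add, ← pow_add]
    congr 1
    ring
  rw [e1, mul_smul, smul_mkO_smul, smul_zero, mul_smul, smul_comm (f ^ j) (a ^ N), h1]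
  have e2 : f ^ N • a ^ N • ι₁ y m = ι₁ y ((a * f) ^ N • m) := by
    rw [mul_pow, mul_smul, ι₁_smul, ι₁_smul, smul_comm]
  rw [e2, h2, ι₁_zero]

variable {𝒜} in
/-- pointwise computation for the `surj` part -/
lemma pointwise_surj (y : ProjectiveSpectrum 𝒜) (v : GrTilde.LocMod 𝒜 (M := M) y) (f a : A)
    (k j : ℕ) (hf : f ∉ y.asHomogeneousIdeal) (m : M) (h : (a * f) ^ j • v = ι₁ y m) :
    f ^ (k * j + j) •
      ((mkO y a (f ^ k) (fun h => hf (y.isPrime.mem_of_pow_mem k h))) ^ j • v) = ι₁ y m := by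
  rw [mkO_pow]
  have e1 : f ^ (k * j + j) = f ^ j * (f ^ k) ^ j := by
    rw [← pow_mul, ← pow_add]
    congr 1
    ring
  rw [e1, mul_smul, smul_mkO_smul, smul_smul, ← mul_pow, mul_comm f a]
  exact h

open Groth.Agent.Helper4.QcqsMod in
/-- `M(n)~` is localizing on `D₊(f)` -/
theorem isLocalizingOn (n : ℤ) {d : ℕ} (hd : 0 < d) (f : A) (hf : f ∈ 𝒜 d) :
    IsLocalizingOn (GrTilde.tilde 𝒜 ℳ n) (Proj.basicOpen 𝒜 f) := by
  constructor
  · intro c s hs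
    obtain ⟨k, a, ha, hc⟩ := exists_frac_O 𝒜 hd f hf c
    obtain ⟨j, i, m, hm, hi, hval⟩ := exists_global_frac 𝒜 ℳ n hd f hf s
    have hXc := basicOpen_eq 𝒜 f c k a hc
    have h0 : ∀ y : ProjectiveSpectrum 𝒜, a * f ∉ y.asHomogeneousIdeal → ι₁ y m = 0 := by
      intro y hy
      have hyf : f ∉ y.asHomogeneousIdeal := fun h1 => hy (Ideal.mul_mem_left _ _ h1)
      have hyU : y ∈ ProjectiveSpectrum.basicOpen 𝒜 f := hyf
      have hyc : y ∈ (Proj 𝒜).basicOpen c := by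
        rw [hXc]
        exact hy
      have h1 : val (𝒜 := 𝒜) (ℳ := ℳ) (n := n) s y hyU = 0 := by
        have := congrArg (fun t : GrTilde.sect 𝒜 ℳ n (op ((Proj 𝒜).basicOpen c)) =>
          val t y hyc) hs
        exact this
      refine (hval y hyU).symm.trans ?_
      refine (congrArg (fun v => f ^ j • v) h1).trans ?_
      exact smul_zero _
    obtain ⟨N, hN⟩ := exists_pow_smul_eq_zero 𝒜 ℳ (Nat.add_pos_right (k * d) hd) (a * f)
      (SetLike.mul_mem_graded ha hf) m hm h0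
    refine ⟨N, ?_⟩
    apply sect_ext (𝒜 := 𝒜) (ℳ := ℳ) (n := n)
    intro y hy
    refine (val_pow_smul 𝒜 ℳ n _ c N s y hy).trans ?_
    rw [hc y hy]
    exact pointwise_zero y _ f a k j N hy m (hval y hy) hN
  · intro c t
    obtain ⟨k, a, ha, hc⟩ := exists_frac_O 𝒜 hd f hf c
    have hXc := basicOpen_eq 𝒜 f c k a hc
    obtain ⟨j, i, m, hm, hi, hval⟩ := exists_global_frac_aux 𝒜 ℳ n
      (Nat.add_pos_right (k * d) hd) (a * f) (SetLike.mul_mem_graded ha hf) _ hXc t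
    have hfmem : f ^ (k * j + j) ∈ 𝒜 ((k * j + j) * d) := pow_mem_graded' 𝒜 f hd hf _
    have hi' : (i : ℤ) = ((k * j + j) * d : ℕ) + n := by
      rw [hi]
      push_cast
      ring
    refine ⟨j, fracSect 𝒜 ℳ n m hm (f ^ (k * j + j)) hfmem hi' (Proj.basicOpen 𝒜 f)
      (fun y hy h1 => hy (y.isPrime.mem_of_pow_mem _ h1)), ?_⟩
    apply sect_ext (𝒜 := 𝒜) (ℳ := ℳ) (n := n)
    intro y hy
    have hyU : y ∈ Proj.basicOpen 𝒜 f := (Proj 𝒜).basicOpen_le c hy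
    have hf1 : f ^ (k * j + j) ∉ y.asHomogeneousIdeal := fun h1 =>
      hyU (y.isPrime.mem_of_pow_mem _ h1)
    apply smul_injective y hf1
    change f ^ (k * j + j) • val _ y hy = f ^ (k * j + j) • val _ y hy
    have e0 : val (𝒜 := 𝒜) (ℳ := ℳ) (n := n) ((GrTilde.tilde 𝒜 ℳ n).presheaf.map
        (homOfLE ((Proj 𝒜).basicOpen_le c)).op
        (fracSect 𝒜 ℳ n m hm (f ^ (k * j + j)) hfmem hi' (Proj.basicOpen 𝒜 f)
          (fun y hy h1 => hy (y.isPrime.mem_of_pow_mem _ h1)))) y hy =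
        val (fracSect 𝒜 ℳ n m hm (f ^ (k * j + j)) hfmem hi' (Proj.basicOpen 𝒜 f)
          (fun y hy h1 => hy (y.isPrime.mem_of_pow_mem _ h1))) y hyU := rfl
    refine Eq.trans ?_ (congrArg (fun v => f ^ (k * j + j) • v) e0.symm)
    refine Eq.trans ?_ (val_fracSect 𝒜 ℳ n m hm (f ^ (k * j + j)) hfmem hi' _ _ y hyU).symm
    refine (congrArg (fun v => f ^ (k * j + j) • v)
      (val_smul 𝒜 ℳ n _ _ t y hy)).trans ?_
    rw [evO_res 𝒜 ((Proj 𝒜).basicOpen_le c) y hy, map_pow, HomogeneousLocalization.val_pow,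
      hc y hyU]
    exact pointwise_surj y _ f a k j hyU m (hval y hy)


/-- every point of `Proj` lies in some `D₊(f)` with `f` homogeneous of positive degree -/
lemma exists_pos_deg_notMem (x : ProjectiveSpectrum 𝒜) :
    ∃ (d : ℕ) (f : A), 0 < d ∧ f ∈ 𝒜 d ∧ f ∉ x.asHomogeneousIdeal := by
  by_contra hcon
  push Not at hcon
  apply x.not_irrelevant_le
  rw [HomogeneousIdeal.irrelevant_le]
  intro i hi f hf
  exact hcon i f hi hf

/-- **`M(n)~` is quasi-coherent** -/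
theorem isQuasicoherent_tilde (n : ℤ) : (GrTilde.tilde 𝒜 ℳ n).IsQuasicoherent := by
  apply Groth.Agent.Helper4.QcohGlue.isQuasicoherent_of_isLocalizingOn
  intro x
  obtain ⟨d, f, hd, hf, hx⟩ := exists_pos_deg_notMem 𝒜 x
  exact ⟨Proj.basicOpen 𝒜 f, Proj.isAffineOpen_basicOpen 𝒜 f hf hd, hx,
    isLocalizingOn 𝒜 ℳ n hd f hf⟩

end Groth.Agent.Helper1.GrT
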