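import Mathlib
import Groth.Prelude.Def_GrMod2
import Groth.Agent.Helper1.GrT4
import Groth.Agent.Helper4.QcohLimits

set_option autoImplicit false
set_option linter.unusedSectionVars false

/-!
# The twisting sheaf `O(n)` is the sheaf `A(n)~` of the graded module `A`
-/

namespace Groth.Agent.Helper1.TwistIso

open CategoryTheory AlgebraicGeometry TopologicalSpace Opposite

universe u

variable {R A : Type u} [CommRing R] [CommRing A] [Algebra R A] (𝒜 : ℕ → Submodule R A)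
  [GradedAlgebra 𝒜]

lemma smul_eq_mul' (x : ProjectiveSpectrum 𝒜) (p : Twist.Loc 𝒜 x)
    (q : GrTilde.LocMod 𝒜 (M := A) x) :
    p • q = (p * (q : Twist.Loc 𝒜 x) : Twist.Loc 𝒜 x) := by
  induction p using Localization.induction_on with
  | H p =>
  induction q using LocalizedModule.induction_on with
  | h b t =>
  obtain ⟨a, s⟩ := p
  have h1 : (Localization.mk a s : Twist.Loc 𝒜 x) •
      (LocalizedModule.mk b t : GrTilde.LocMod 𝒜 (M := A) x) =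
      LocalizedModule.mk (a • b) (s * t) := LocalizedModule.mk_smul_mk a b s t
  have h2 : (Localization.mk a s : Twist.Loc 𝒜 x) * (Localization.mk b t : Twist.Loc 𝒜 x) =
      Localization.mk (a * b) (s * t) := Localization.mk_mul a b s t
  exact h1.trans h2.symm

lemma a0_smul_eq (x : ProjectiveSpectrum 𝒜) (c : Twist.A0 𝒜 x) (q : Twist.Loc 𝒜 x) :
    (c • (q : GrTilde.LocMod 𝒜 (M := A) x) : GrTilde.LocMod 𝒜 (M := A) x) =
      (c • q : Twist.Loc 𝒜 x) := by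
  rw [GrTilde.a0_smul_def, smul_eq_mul']

lemma mem_tildeAt_of_mem_twistAt (n : ℤ) (x : ProjectiveSpectrum 𝒜) (q : Twist.Loc 𝒜 x)
    (hq : q ∈ Twist.twistAt 𝒜 n x) : q ∈ GrTilde.tildeAt 𝒜 𝒜 n x := by
  unfold Twist.twistAt at hq
  induction hq using Submodule.span_induction with
  | mem q hq =>
    obtain ⟨i, j, a, s, hs, hij, rfl⟩ := hq
    exact Submodule.subset_span ⟨i, j, a, s, hs, hij, rfl⟩
  | zero => exact Submodule.zero_mem _
  | add p q _ _ hp hq => exact Submodule.add_mem _ hp hq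
  | smul c q _ hq =>
    rw [← a0_smul_eq]
    exact Submodule.smul_mem _ c hq

lemma mem_twistAt_of_mem_tildeAt (n : ℤ) (x : ProjectiveSpectrum 𝒜)
    (q : GrTilde.LocMod 𝒜 (M := A) x)
    (hq : q ∈ GrTilde.tildeAt 𝒜 𝒜 n x) : q ∈ Twist.twistAt 𝒜 n x := by
  unfold GrTilde.tildeAt at hq
  induction hq using Submodule.span_induction with
  | mem q hq =>
    obtain ⟨i, j, a, s, hs, hij, rfl⟩ := hq
    exact Submodule.subset_span ⟨i, j, a, s, hs, hij, rfl⟩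
  | zero => exact Submodule.zero_mem _
  | add p q _ _ hp hq => exact Submodule.add_mem _ hp hq
  | smul c q _ hq =>
    rw [a0_smul_eq]
    exact Submodule.smul_mem _ c hq

/-- the map on sections -/
def toTilde (n : ℤ) (U : (Opens (ProjectiveSpectrum.top 𝒜))ᵒᵖ) (f : Twist.sectN (𝒜 := 𝒜) n U) :
    GrTilde.sect 𝒜 𝒜 n U :=
  ⟨fun x => ⟨(f.1 x).1, mem_tildeAt_of_mem_twistAt 𝒜 n x.1 _ (f.1 x).2⟩, fun x => by
    obtain ⟨V, hxV, i, i', j, a, s, hs, hij, hval⟩ := f.2 x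
    exact ⟨V, hxV, i, i', j, a, s, hs, hij, hval⟩⟩

/-- the inverse map on sections -/
def ofTilde (n : ℤ) (U : (Opens (ProjectiveSpectrum.top 𝒜))ᵒᵖ) (f : GrTilde.sect 𝒜 𝒜 n U) :
    Twist.sectN (𝒜 := 𝒜) n U :=
  ⟨fun x => ⟨(f.1 x).1, mem_twistAt_of_mem_tildeAt 𝒜 n x.1 _ (f.1 x).2⟩, fun x => by
    obtain ⟨V, hxV, i, i', j, a, s, hs, hij, hval⟩ := f.2 x
    exact ⟨V, hxV, i, i', j, a, s, hs, hij, hval⟩⟩

/-- the forward morphism of abelian presheaves -/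
noncomputable def fwdPre (n : ℤ) : (Twist.twist 𝒜 n).presheaf ⟶ (GrTilde.tilde 𝒜 𝒜 n).presheaf where
  app U := AddCommGrpCat.ofHom
    { toFun := toTilde 𝒜 n U
      map_zero' := rfl
      map_add' := fun _ _ => rfl }
  naturality _ _ _ := rfl

/-- the backward morphism of abelian presheaves -/
noncomputable def bwdPre (n : ℤ) : (GrTilde.tilde 𝒜 𝒜 n).presheaf ⟶ (Twist.twist 𝒜 n).presheaf where
  app U := AddCommGrpCat.ofHom
    { toFun := ofTilde 𝒜 n U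
      map_zero' := rfl
      map_add' := fun _ _ => rfl }
  naturality _ _ _ := rfl
lemma toTilde_smul (n : ℤ) (U : (Opens (ProjectiveSpectrum.top 𝒜))ᵒᵖ) (c : Twist.O (𝒜 := 𝒜) U)
    (f : Twist.sectN (𝒜 := 𝒜) n U) : toTilde 𝒜 n U (c • f) = c • toTilde 𝒜 n U f := by
  apply Subtype.ext
  funext x
  apply Subtype.ext
  have h1 : ((c.1 x • f.1 x : Twist.twistAt 𝒜 n x.1) : Twist.Loc 𝒜 x.1) =
      (c.1 x).val * ((f.1 x).1 : Twist.Loc 𝒜 x.1) := Twist.coe_smul_val n x.1 (c.1 x) (f.1 x)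
  have h2 : (((c • toTilde 𝒜 n U f : GrTilde.sect 𝒜 𝒜 n U).1 x : GrTilde.tildeAt 𝒜 𝒜 n x.1) :
      GrTilde.LocMod 𝒜 (M := A) x.1) = (c.1 x).val • ((f.1 x).1 : GrTilde.LocMod 𝒜 (M := A) x.1) :=
    GrTilde.coe_smul_val n x.1 (c.1 x) _
  exact h1.trans ((smul_eq_mul' 𝒜 x.1 _ _).symm.trans h2.symm)

lemma ofTilde_smul (n : ℤ) (U : (Opens (ProjectiveSpectrum.top 𝒜))ᵒᵖ) (c : Twist.O (𝒜 := 𝒜) U)
    (f : GrTilde.sect 𝒜 𝒜 n U) : ofTilde 𝒜 n U (c • f) = c • ofTilde 𝒜 n U f := by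
  apply Subtype.ext
  funext x
  apply Subtype.ext
  have h1 : ((c.1 x • f.1 x : GrTilde.tildeAt 𝒜 𝒜 n x.1) : GrTilde.LocMod 𝒜 (M := A) x.1) =
      (c.1 x).val • ((f.1 x).1 : GrTilde.LocMod 𝒜 (M := A) x.1) :=
    GrTilde.coe_smul_val n x.1 (c.1 x) (f.1 x)
  have h2 : (((c • ofTilde 𝒜 n U f : Twist.sectN (𝒜 := 𝒜) n U).1 x : Twist.twistAt 𝒜 n x.1) :
      Twist.Loc 𝒜 x.1) = (c.1 x).val * ((f.1 x).1 : Twist.Loc 𝒜 x.1) :=
    Twist.coe_smul_val n x.1 (c.1 x) _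
  exact h1.trans ((smul_eq_mul' 𝒜 x.1 _ _).trans h2.symm)

/-- the forward morphism -/
noncomputable def fwd (n : ℤ) : Twist.twist 𝒜 n ⟶ GrTilde.tilde 𝒜 𝒜 n :=
  ⟨PresheafOfModules.homMk (fwdPre 𝒜 n) (fun U c f => toTilde_smul 𝒜 n U c f)⟩

/-- the backward morphism -/
noncomputable def bwd (n : ℤ) : GrTilde.tilde 𝒜 𝒜 n ⟶ Twist.twist 𝒜 n :=
  ⟨PresheafOfModules.homMk (bwdPre 𝒜 n) (fun U c f => ofTilde_smul 𝒜 n U c f)⟩

/-- **`O(n) ≅ A(n)~`** -/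
noncomputable def twistIsoTilde (n : ℤ) : Twist.twist 𝒜 n ≅ GrTilde.tilde 𝒜 𝒜 n where
  hom := fwd 𝒜 n
  inv := bwd 𝒜 n
  hom_inv_id := by
    apply Scheme.Modules.hom_ext
    intro U
    ext f
    rfl
  inv_hom_id := by
    apply Scheme.Modules.hom_ext
    intro U
    ext f
    rfl

theorem isQuasicoherent_twist (n : ℤ) : (Twist.twist 𝒜 n).IsQuasicoherent := by
  have := Groth.Agent.Helper1.GrT.isQuasicoherent_tilde 𝒜 𝒜 n
  exact Groth.Agent.Helper4.QcohLimits.isQuasicoherent_of_iso (twistIsoTilde 𝒜 n).symm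

end Groth.Agent.Helper1.TwistIso
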