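import Mathlib
import Groth.Prelude.Def_GrMod2
import Groth.Agent.Helper1.GrT4

set_option autoImplicit false
set_option linter.unusedSectionVars false

/-!
# The sheaves `M(n)~` on `Proj`: vanishing criteria
-/

namespace Groth.Agent.Helper1.GrT

open CategoryTheory CategoryTheory.Limits AlgebraicGeometry TopologicalSpace Opposite

universe u

variable {R A : Type u} [CommRing R] [CommRing A] [Algebra R A] (𝒜 : ℕ → Submodule R A)
  [GradedAlgebra 𝒜]
variable {M : Type u} [AddCommGroup M] [Module R M] [Module A M] [IsScalarTower R A M]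
  (ℳ : ℕ → Submodule R M) [DirectSum.Decomposition ℳ] [SetLike.GradedSMul 𝒜 ℳ]

/-- a module all of whose sections vanish is zero -/
lemma isZero_of_sections_eq_zero (n : ℤ)
    (h : ∀ (V : (Proj 𝒜).Opens) (s : GrTilde.sect 𝒜 ℳ n (op V)), s = 0) :
    IsZero (GrTilde.tilde 𝒜 ℳ n) := by
  rw [IsZero.iff_id_eq_zero]
  apply Scheme.Modules.hom_ext
  intro V
  ext s
  exact h V s

lemma sections_eq_zero_of_isZero (n : ℤ) (h : IsZero (GrTilde.tilde 𝒜 ℳ n))
    (V : (Proj 𝒜).Opens) (s : GrTilde.sect 𝒜 ℳ n (op V)) : s = 0 := by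
  have h1 := h.eq_of_src (𝟙 _) 0
  have h2 := congrArg (fun φ : GrTilde.tilde 𝒜 ℳ n ⟶ GrTilde.tilde 𝒜 ℳ n =>
    (Scheme.Modules.Hom.app φ V).hom (show Γ(GrTilde.tilde 𝒜 ℳ n, V) from s)) h1
  exact h2

/-- if every element of `M` is killed by a power of every homogeneous element of positive
degree, then `M(n)~ = 0` -/
theorem isZero_tilde_of_torsion (n : ℤ)
    (h : ∀ (z : M) (d : ℕ) (f : A), 0 < d → f ∈ 𝒜 d → ∃ k : ℕ, f ^ k • z = 0) :
    IsZero (GrTilde.tilde 𝒜 ℳ n) := by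
  apply isZero_of_sections_eq_zero
  intro V s
  apply sect_ext
  intro y hy
  obtain ⟨d, f, hd, hf, hyf⟩ := exists_pos_deg_notMem 𝒜 y
  obtain ⟨e, i, h', m, he, hh, hm, hi, hhy, hsub, hval⟩ :=
    exists_local_frac 𝒜 ℳ n s hd f hf y hy hyf
  obtain ⟨k, hk⟩ := h m d f hd hf
  have h0 : ι₁ y m = 0 :=
    (ι₁_eq_zero_iff y m).2 ⟨f ^ k, fun h1 => hyf (y.isPrime.mem_of_pow_mem k h1), hk⟩
  apply smul_injective y hhy
  change h' • val s y hy = h' • val (0 : GrTilde.sect 𝒜 ℳ n (op V)) y hy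
  refine (hval y hy hhy).trans ?_
  rw [h0]
  exact (smul_zero _).symm

/-- if `M(0)~ = 0` then homogeneous elements are killed by powers of degree one elements -/
lemma exists_pow_smul_eq_zero_of_isZero (h : IsZero (GrTilde.tilde 𝒜 ℳ 0)) {i : ℕ} (z : M)
    (hz : z ∈ ℳ i) (a : A) (ha : a ∈ 𝒜 1) : ∃ N : ℕ, a ^ N • z = 0 := by
  have hai : a ^ i ∈ 𝒜 i := by
    have := pow_mem_graded' 𝒜 a Nat.one_pos ha i
    simpa using this
  apply exists_pow_smul_eq_zero 𝒜 ℳ Nat.one_pos a ha z hz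
  intro y hy
  have hU : ∀ y : ProjectiveSpectrum.top 𝒜, y ∈ ProjectiveSpectrum.basicOpen 𝒜 a →
      a ^ i ∉ y.asHomogeneousIdeal := fun y hy h1 => hy (y.isPrime.mem_of_pow_mem i h1)
  have h1 := sections_eq_zero_of_isZero 𝒜 ℳ 0 h (ProjectiveSpectrum.basicOpen 𝒜 a)
    (fracSect 𝒜 ℳ 0 z hz (a ^ i) hai (by simp) (ProjectiveSpectrum.basicOpen 𝒜 a) hU)
  have h2 := val_fracSect 𝒜 ℳ 0 z hz (a ^ i) hai (by simp) (ProjectiveSpectrum.basicOpen 𝒜 a)
    hU y hy
  rw [h1] at h2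
  refine h2.symm.trans ?_
  exact smul_zero _

/-- if `S₊` is generated in degree one and `M(0)~ = 0`, every element of `M` is killed by a power
of every homogeneous element of positive degree -/
theorem torsion_of_isZero_tilde
    (hgen : (HomogeneousIdeal.irrelevant 𝒜).toIdeal = Ideal.span (𝒜 1 : Set A))
    (h : IsZero (GrTilde.tilde 𝒜 ℳ 0)) (z : M) (d : ℕ) (f : A) (hd : 0 < d) (hf : f ∈ 𝒜 d) :
    ∃ k : ℕ, f ^ k • z = 0 := by
  classical
  -- homogeneous case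
  have hom : ∀ (i : ℕ) (z : M), z ∈ ℳ i → ∃ k : ℕ, f ^ k • z = 0 := by
    intro i z hz
    have hle : Ideal.span (𝒜 1 : Set A) ≤
        Ideal.radical (LinearMap.ker (LinearMap.toSpanSingleton A M z)) := by
      rw [Ideal.span_le]
      intro a ha
      obtain ⟨N, hN⟩ := exists_pow_smul_eq_zero_of_isZero 𝒜 ℳ h z hz a ha
      refine ⟨N, ?_⟩
      rw [LinearMap.mem_ker, LinearMap.toSpanSingleton_apply]
      exact hN
    have hf' : f ∈ (HomogeneousIdeal.irrelevant 𝒜).toIdeal :=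
      HomogeneousIdeal.mem_irrelevant_of_mem 𝒜 hd hf
    rw [hgen] at hf'
    obtain ⟨k, hk⟩ := hle hf'
    refine ⟨k, ?_⟩
    rwa [LinearMap.mem_ker, LinearMap.toSpanSingleton_apply] at hk
  -- general case
  have hk : ∀ i : ℕ, ∃ k : ℕ, f ^ k • (DirectSum.decompose ℳ z i : M) = 0 := fun i =>
    hom i _ (SetLike.coe_mem _)
  choose k hk using hk
  set K : ℕ := (DFinsupp.support (DirectSum.decompose ℳ z)).sup k with hK
  refine ⟨K, ?_⟩
  conv_lhs => rw [← DirectSum.sum_support_decompose ℳ z]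
  rw [Finset.smul_sum]
  apply Finset.sum_eq_zero
  intro i hi
  obtain ⟨r, hr⟩ := Nat.exists_eq_add_of_le (Finset.le_sup (f := k) hi)
  rw [hK, hr, pow_add, mul_comm, mul_smul, hk i, smul_zero]

end Groth.Agent.Helper1.GrT
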