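import Mathlib
import Groth.Prelude.Def_GrMod2
import Groth.Agent.Helper1.GrT5

set_option autoImplicit false
set_option linter.unusedSectionVars false
set_option linter.style.haveILetI false

/-!
# Graded modules: components of `a • m`, powers of the irrelevant ideal, (TF) and (TN)
-/

namespace Groth.Agent.Helper1.GrT

open CategoryTheory AlgebraicGeometry TopologicalSpace Opposite DirectSum

universe u

variable {R A : Type u} [CommRing R] [CommRing A] [Algebra R A] (𝒜 : ℕ → Submodule R A)
  [GradedAlgebra 𝒜]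
variable {M : Type u} [AddCommGroup M] [Module R M] [Module A M] [IsScalarTower R A M]
  (ℳ : ℕ → Submodule R M) [DirectSum.Decomposition ℳ] [SetLike.GradedSMul 𝒜 ℳ]

/-- the homogeneous components of `a • m` for `m` homogeneous -/
lemma decompose_smul_of_mem (a : A) {i : ℕ} (m : M) (hm : m ∈ ℳ i) (j : ℕ) :
    ((DirectSum.decompose ℳ (a • m)) (j + i) : M) = (DirectSum.decompose 𝒜 a j : A) • m := by
  classical
  have hsum : a • m = ∑ k ∈ DFinsupp.support (DirectSum.decompose 𝒜 a),
      ((DirectSum.decompose 𝒜 a k : A) • m) := by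
    conv_lhs => rw [← DirectSum.sum_support_decompose 𝒜 a]
    rw [Finset.sum_smul]
  have hmem : ∀ k, (DirectSum.decompose 𝒜 a k : A) • m ∈ ℳ (k + i) := fun k =>
    SetLike.GradedSMul.smul_mem (DirectSum.decompose 𝒜 a k).2 hm
  rw [hsum, DirectSum.decompose_sum, DFinsupp.finsetSum_apply, AddSubmonoidClass.coe_finsetSum]
  by_cases hj : j ∈ DFinsupp.support (DirectSum.decompose 𝒜 a)
  · rw [Finset.sum_eq_single j]
    · exact DirectSum.decompose_of_mem_same ℳ (hmem j)
    · intro k _ hkj
      exact DirectSum.decompose_of_mem_ne ℳ (hmem k) (fun h => hkj (Nat.add_right_cancel h))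
    · intro h; exact absurd hj h
  · rw [DFinsupp.notMem_support_iff] at hj
    rw [hj, ZeroMemClass.coe_zero, zero_smul]
    apply Finset.sum_eq_zero
    intro k hk
    have hkj : k ≠ j := by
      rintro rfl
      rw [DFinsupp.mem_support_iff] at hk
      exact hk hj
    exact DirectSum.decompose_of_mem_ne ℳ (hmem k) (fun h => hkj (Nat.add_right_cancel h))

lemma decompose_smul_of_mem' (a : A) {i : ℕ} (m : M) (hm : m ∈ ℳ i) (k : ℕ) (hk : i ≤ k) :
    ((DirectSum.decompose ℳ (a • m)) k : M) = (DirectSum.decompose 𝒜 a (k - i) : A) • m := by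
  have := decompose_smul_of_mem 𝒜 ℳ a m hm (k - i)
  rwa [Nat.sub_add_cancel hk] at this

/-- if `S₊` is generated in degree one, then `S_t ⊆ (S₊)^t` -/
lemma mem_irrelevant_pow
    (hgen : (HomogeneousIdeal.irrelevant 𝒜).toIdeal = Ideal.span (𝒜 1 : Set A)) :
    ∀ (t : ℕ) (b : A), b ∈ 𝒜 t → b ∈ (HomogeneousIdeal.irrelevant 𝒜).toIdeal ^ t := by
  classical
  intro t
  induction t with
  | zero => intro b _; simp
  | succ t ih =>
    intro b hb
    have hb' : b ∈ (HomogeneousIdeal.irrelevant 𝒜).toIdeal :=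
      HomogeneousIdeal.mem_irrelevant_of_mem 𝒜 (Nat.succ_pos t) hb
    rw [hgen] at hb'
    obtain ⟨c, hc, hsum⟩ := Submodule.mem_span_set.1 hb'
    have h1 : b = ((DirectSum.decompose 𝒜 b (t + 1) : 𝒜 (t + 1)) : A) :=
      (DirectSum.decompose_of_mem_same 𝒜 hb).symm
    rw [h1, ← hsum, Finsupp.sum, DirectSum.decompose_sum, DFinsupp.finsetSum_apply,
      AddSubmonoidClass.coe_finsetSum]
    apply Ideal.sum_mem
    intro a ha
    have ha1 : a ∈ 𝒜 1 := hc ha
    rw [smul_eq_mul, DirectSum.coe_decompose_mul_of_right_mem 𝒜 (t + 1) ha1]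
    rw [if_pos (by omega), pow_succ]
    apply Ideal.mul_mem_mul
    · exact ih _ (SetLike.coe_mem _)
    · rw [hgen]
      exact Ideal.subset_span ha1

end Groth.Agent.Helper1.GrT
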