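import Mathlib
import Groth.Prelude.Def_GrMod2
import Groth.Agent.Helper1.GrT4
import Groth.Agent.Helper1.GrT11

set_option autoImplicit false
set_option linter.unusedSectionVars false
set_option linter.style.haveILetI false

/-!
# Fraction calculus for sections of `M~` over `D₊(f)`
-/

namespace Groth.Agent.Helper1.GrT

open CategoryTheory AlgebraicGeometry TopologicalSpace Opposite DirectSum

universe u

variable {R A : Type u} [CommRing R] [CommRing A] [Algebra R A] (𝒜 : ℕ → Submodule R A)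
  [GradedAlgebra 𝒜]
variable {M : Type u} [AddCommGroup M] [Module R M] [Module A M] [IsScalarTower R A M]
  (ℳ : ℕ → Submodule R M) [DirectSum.Decomposition ℳ] [SetLike.GradedSMul 𝒜 ℳ]

variable (f : A)

/-- the section `s` of `M~` over `D₊(f)` is the fraction `x / f ^ l` -/
def IsFr (s : Γ(GrTilde.tilde 𝒜 ℳ 0, Proj.basicOpen 𝒜 f)) (x : M) (l : ℕ) : Prop :=
  ∀ (y : ProjectiveSpectrum.top 𝒜) (hy : y ∈ ProjectiveSpectrum.basicOpen 𝒜 f),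
    f ^ l • val (𝒜 := 𝒜) (ℳ := ℳ) (n := 0) (U := ProjectiveSpectrum.basicOpen 𝒜 f) s y hy = ι₁ y x

variable {𝒜 ℳ f}

lemma pow_notMem {y : ProjectiveSpectrum.top 𝒜} (hy : y ∈ ProjectiveSpectrum.basicOpen 𝒜 f) (l : ℕ) :
    f ^ l ∉ y.asHomogeneousIdeal := fun h => hy (y.isPrime.mem_of_pow_mem l h)

lemma IsFr.unique {s s' : Γ(GrTilde.tilde 𝒜 ℳ 0, Proj.basicOpen 𝒜 f)} {x : M} {l : ℕ}
    (h : IsFr 𝒜 ℳ f s x l) (h' : IsFr 𝒜 ℳ f s' x l) : s = s' := by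
  refine sect_ext (𝒜 := 𝒜) (ℳ := ℳ) (n := 0) (U := ProjectiveSpectrum.basicOpen 𝒜 f) s s'
    (fun y hy => ?_)
  apply smul_injective y (pow_notMem hy l)
  exact (h y hy).trans (h' y hy).symm

lemma IsFr.add {s s' : Γ(GrTilde.tilde 𝒜 ℳ 0, Proj.basicOpen 𝒜 f)} {x x' : M} {l : ℕ}
    (h : IsFr 𝒜 ℳ f s x l) (h' : IsFr 𝒜 ℳ f s' x' l) : IsFr 𝒜 ℳ f (s + s') (x + x') l := by
  intro y hy
  have : val (𝒜 := 𝒜) (ℳ := ℳ) (n := 0) (U := ProjectiveSpectrum.basicOpen 𝒜 f) (s + s') y hy =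
      val (𝒜 := 𝒜) (ℳ := ℳ) (n := 0) (U := ProjectiveSpectrum.basicOpen 𝒜 f) s y hy +
      val (𝒜 := 𝒜) (ℳ := ℳ) (n := 0) (U := ProjectiveSpectrum.basicOpen 𝒜 f) s' y hy := rfl
  rw [this, smul_add, h y hy, h' y hy, ι₁_add]

lemma IsFr.zero (l : ℕ) : IsFr 𝒜 ℳ f 0 0 l := by
  intro y hy
  have : val (𝒜 := 𝒜) (ℳ := ℳ) (n := 0) (U := ProjectiveSpectrum.basicOpen 𝒜 f)
      (0 : Γ(GrTilde.tilde 𝒜 ℳ 0, Proj.basicOpen 𝒜 f)) y hy = 0 := rfl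
  rw [this, smul_zero, ι₁_zero]

lemma IsFr.sum {ι : Type*} (t : Finset ι) (s : ι → Γ(GrTilde.tilde 𝒜 ℳ 0, Proj.basicOpen 𝒜 f))
    (x : ι → M) (l : ℕ) (h : ∀ i ∈ t, IsFr 𝒜 ℳ f (s i) (x i) l) :
    IsFr 𝒜 ℳ f (∑ i ∈ t, s i) (∑ i ∈ t, x i) l := by
  classical
  induction t using Finset.induction_on with
  | empty => simpa using IsFr.zero (𝒜 := 𝒜) (ℳ := ℳ) (f := f) l
  | insert a t ha ih =>
    rw [Finset.sum_insert ha, Finset.sum_insert ha]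
    exact (h a (Finset.mem_insert_self a t)).add
      (ih (fun i hi => h i (Finset.mem_insert_of_mem hi)))

lemma IsFr.mul_pow {s : Γ(GrTilde.tilde 𝒜 ℳ 0, Proj.basicOpen 𝒜 f)} {x : M} {l : ℕ}
    (h : IsFr 𝒜 ℳ f s x l) (j : ℕ) : IsFr 𝒜 ℳ f s (f ^ j • x) (l + j) := by
  intro y hy
  rw [pow_add, mul_comm, mul_smul, h y hy, ι₁_smul]

lemma IsFr.congr {s : Γ(GrTilde.tilde 𝒜 ℳ 0, Proj.basicOpen 𝒜 f)} {x x' : M} {l l' : ℕ}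
    (h : IsFr 𝒜 ℳ f s x l) (hx : x = x') (hl : l = l') : IsFr 𝒜 ℳ f s x' l' := by
  subst hx; subst hl; exact h

variable (𝒜 ℳ f)

/-- existence of the fraction `x / f ^ l` -/
lemma exists_isFr {e : ℕ} (hf : f ∈ 𝒜 e) (x : M) (l : ℕ) (hx : x ∈ ℳ (l * e)) :
    ∃ s : Γ(GrTilde.tilde 𝒜 ℳ 0, Proj.basicOpen 𝒜 f), IsFr 𝒜 ℳ f s x l := by
  have hfl : f ^ l ∈ 𝒜 (l * e) := by
    have := SetLike.pow_mem_graded l hf
    simpa [smul_eq_mul] using this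
  refine ⟨fracSect 𝒜 ℳ 0 x hx (f ^ l) hfl (by simp) (ProjectiveSpectrum.basicOpen 𝒜 f)
    (fun y hy => pow_notMem hy l), ?_⟩
  intro y hy
  exact val_fracSect 𝒜 ℳ 0 x hx (f ^ l) hfl (by simp) (ProjectiveSpectrum.basicOpen 𝒜 f)
    (fun y hy => pow_notMem hy l) y hy

/-- every section is a fraction -/
lemma exists_isFr_of_section {e : ℕ} (he : 0 < e) (hf : f ∈ 𝒜 e)
    (s : Γ(GrTilde.tilde 𝒜 ℳ 0, Proj.basicOpen 𝒜 f)) :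
    ∃ (l : ℕ) (x : M), x ∈ ℳ (l * e) ∧ IsFr 𝒜 ℳ f s x l := by
  obtain ⟨k, i, m, hm, hi, h⟩ := exists_global_frac 𝒜 ℳ 0 he f hf s
  have hi' : i = k * e := by
    have : (i : ℤ) = ((k * e : ℕ) : ℤ) := by push_cast; linarith
    exact_mod_cast this
  subst hi'
  exact ⟨k, m, hm, h⟩

/-- the element `a / f ^ k` of `Γ(D₊(f), O)` -/
noncomputable def mkB {e : ℕ} (hf : f ∈ 𝒜 e) (k : ℕ) (a : A) (ha : a ∈ 𝒜 (k • e)) :
    Γ(Proj 𝒜, Proj.basicOpen 𝒜 f) :=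
  (Proj.awayToSection 𝒜 f).hom (HomogeneousLocalization.Away.mk 𝒜 hf k a ha)

lemma evO_mkB {e : ℕ} (hf : f ∈ 𝒜 e) (k : ℕ) (a : A) (ha : a ∈ 𝒜 (k • e))
    (y : Proj 𝒜) (hy : y ∈ Proj.basicOpen 𝒜 f) :
    (evO 𝒜 _ y hy (mkB 𝒜 f hf k a ha)).val = mkO y a (f ^ k) (pow_notMem hy k) := by
  rw [evO_apply]
  refine (ProjectiveSpectrum.Proj.awayToSection_apply 𝒜 f _ ⟨y, hy⟩).trans ?_
  rw [HomogeneousLocalization.Away.val_mk, Localization.mk_eq_mk', IsLocalization.map_mk']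
  unfold mkO
  rw [Localization.mk_eq_mk']
  rfl

variable {𝒜 ℳ f}

set_option synthInstance.maxHeartbeats 400000 in
lemma IsFr.smul {e : ℕ} (hf : f ∈ 𝒜 e) {s : Γ(GrTilde.tilde 𝒜 ℳ 0, Proj.basicOpen 𝒜 f)} {x : M}
    {l : ℕ} (h : IsFr 𝒜 ℳ f s x l) (k : ℕ) (a : A) (ha : a ∈ 𝒜 (k • e)) :
    IsFr 𝒜 ℳ f (mkB 𝒜 f hf k a ha • s) (a • x) (k + l) := by
  intro y hy
  have h0 : val (𝒜 := 𝒜) (ℳ := ℳ) (n := 0) (U := ProjectiveSpectrum.basicOpen 𝒜 f)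
      (mkB 𝒜 f hf k a ha • s) y hy = mkO y a (f ^ k) (pow_notMem hy k) •
      val (𝒜 := 𝒜) (ℳ := ℳ) (n := 0) (U := ProjectiveSpectrum.basicOpen 𝒜 f) s y hy := by
    have h2 := val_smul 𝒜 ℳ 0 (Proj.basicOpen 𝒜 f) (mkB 𝒜 f hf k a ha) s y hy
    rw [evO_mkB] at h2
    exact h2
  rw [h0, pow_add, mul_smul]
  have h1 : f ^ l • (mkO y a (f ^ k) (pow_notMem hy k) •
      val (𝒜 := 𝒜) (ℳ := ℳ) (n := 0) (U := ProjectiveSpectrum.basicOpen 𝒜 f) s y hy) =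
      mkO y a (f ^ k) (pow_notMem hy k) • (f ^ l •
      val (𝒜 := 𝒜) (ℳ := ℳ) (n := 0) (U := ProjectiveSpectrum.basicOpen 𝒜 f) s y hy) :=
    smul_comm _ _ _
  rw [h1, h y hy, smul_mkO_smul, ι₁_smul]

end Groth.Agent.Helper1.GrT
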