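import Mathlib
import Groth.Prelude.Def_GrMod2
import Groth.Agent.Helper1.GrT12

set_option autoImplicit false
set_option linter.unusedSectionVars false

/-!
# Fractions as sections of the structure sheaf of `Proj`
-/

namespace Groth.Agent.Helper1.ProjO

open CategoryTheory AlgebraicGeometry TopologicalSpace Opposite
open Groth.Agent.Helper1.GrT

universe u

variable {R A : Type u} [CommRing R] [CommRing A] [Algebra R A] (𝒜 : ℕ → Submodule R A)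
  [GradedAlgebra 𝒜]

/-- the section `a / b` of the structure sheaf of `Proj` over an open on which `b` vanishes
nowhere -/
noncomputable def frO (W : (Proj 𝒜).Opens) {i : ℕ} (a b : A) (ha : a ∈ 𝒜 i) (hb : b ∈ 𝒜 i)
    (hW : ∀ y : ProjectiveSpectrum.top 𝒜, y ∈ W → b ∉ y.asHomogeneousIdeal) : Γ(Proj 𝒜, W) :=
  (show Twist.O (𝒜 := 𝒜) (op W) from
    ⟨fun y => HomogeneousLocalization.mk ⟨i, ⟨a, ha⟩, ⟨b, hb⟩, hW y.1 y.2⟩,
      fun y => ⟨W, y.2, 𝟙 _, i, ⟨a, ha⟩, ⟨b, hb⟩, fun z => hW z.1 z.2, fun _ => rfl⟩⟩)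

lemma evO_frO (W : (Proj 𝒜).Opens) {i : ℕ} (a b : A) (ha : a ∈ 𝒜 i) (hb : b ∈ 𝒜 i)
    (hW : ∀ y : ProjectiveSpectrum.top 𝒜, y ∈ W → b ∉ y.asHomogeneousIdeal)
    (y : Proj 𝒜) (hy : y ∈ W) :
    (evO 𝒜 W y hy (frO 𝒜 W a b ha hb hW)).val = mkO y a b (hW y hy) := by
  rw [evO_apply]
  rfl

/-- sections of the structure sheaf are determined by their values -/
lemma O_ext (W : (Proj 𝒜).Opens) (c c' : Γ(Proj 𝒜, W))
    (h : ∀ (y : Proj 𝒜) (hy : y ∈ W), (evO 𝒜 W y hy c).val = (evO 𝒜 W y hy c').val) : c = c' := by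
  have h1 : ∀ (y : Proj 𝒜) (hy : y ∈ W), (show Twist.O (𝒜 := 𝒜) (op W) from c).1 ⟨y, hy⟩ =
      (show Twist.O (𝒜 := 𝒜) (op W) from c').1 ⟨y, hy⟩ := by
    intro y hy
    have := h y hy
    rw [evO_apply, evO_apply] at this
    exact HomogeneousLocalization.val_injective _ this
  apply Subtype.ext
  funext y
  exact h1 y.1 y.2

lemma evO_val_mul (W : (Proj 𝒜).Opens) (c c' : Γ(Proj 𝒜, W)) (y : Proj 𝒜) (hy : y ∈ W) :
    (evO 𝒜 W y hy (c * c')).val = (evO 𝒜 W y hy c).val * (evO 𝒜 W y hy c').val := by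
  rw [map_mul, HomogeneousLocalization.val_mul]

lemma evO_val_pow (W : (Proj 𝒜).Opens) (c : Γ(Proj 𝒜, W)) (n : ℕ) (y : Proj 𝒜) (hy : y ∈ W) :
    (evO 𝒜 W y hy (c ^ n)).val = (evO 𝒜 W y hy c).val ^ n := by
  rw [map_pow, HomogeneousLocalization.val_pow]

lemma evO_val_one (W : (Proj 𝒜).Opens) (y : Proj 𝒜) (hy : y ∈ W) :
    (evO 𝒜 W y hy (1 : Γ(Proj 𝒜, W))).val = 1 := by
  rw [map_one, HomogeneousLocalization.val_one]

variable {𝒜}

lemma mkO_mul (y : ProjectiveSpectrum 𝒜) (a b a' b' : A) (hb : b ∉ y.asHomogeneousIdeal)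
    (hb' : b' ∉ y.asHomogeneousIdeal) :
    mkO y a b hb * mkO y a' b' hb' = mkO y (a * a') (b * b')
      (fun h => (y.isPrime.mem_or_mem h).elim hb hb') := by
  unfold mkO
  rw [Localization.mk_mul]
  rfl

lemma mkO_eq_of (y : ProjectiveSpectrum 𝒜) (a b a' b' : A) (hb : b ∉ y.asHomogeneousIdeal)
    (hb' : b' ∉ y.asHomogeneousIdeal) (h : a * b' = a' * b) : mkO y a b hb = mkO y a' b' hb' := by
  unfold mkO
  rw [Localization.mk_eq_mk_iff, Localization.r_iff_exists]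
  refine ⟨1, ?_⟩
  simp only [OneMemClass.coe_one, one_mul]
  rw [mul_comm b' a, h, mul_comm]

lemma mkO_self (y : ProjectiveSpectrum 𝒜) (b : A) (hb : b ∉ y.asHomogeneousIdeal) :
    mkO y b b hb = 1 := by
  unfold mkO
  exact Localization.mk_self (⟨b, hb⟩ : y.asHomogeneousIdeal.toIdeal.primeCompl)

variable (𝒜)

lemma frO_res {W W' : (Proj 𝒜).Opens} (h : W' ≤ W) {i : ℕ} (a b : A) (ha : a ∈ 𝒜 i)
    (hb : b ∈ 𝒜 i) (hW : ∀ y : ProjectiveSpectrum.top 𝒜, y ∈ W → b ∉ y.asHomogeneousIdeal) :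
    (Proj 𝒜).presheaf.map (homOfLE h).op (frO 𝒜 W a b ha hb hW) =
      frO 𝒜 W' a b ha hb (fun y hy => hW y (h hy)) := by
  apply O_ext
  intro y hy
  rw [evO_res, evO_frO, evO_frO]

/-- the basic criterion for equalities between fractions -/
lemma frO_eq_of (W : (Proj 𝒜).Opens) {i j : ℕ} (a b a' b' : A) (ha : a ∈ 𝒜 i) (hb : b ∈ 𝒜 i)
    (ha' : a' ∈ 𝒜 j) (hb' : b' ∈ 𝒜 j)
    (hW : ∀ y : ProjectiveSpectrum.top 𝒜, y ∈ W → b ∉ y.asHomogeneousIdeal)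
    (hW' : ∀ y : ProjectiveSpectrum.top 𝒜, y ∈ W → b' ∉ y.asHomogeneousIdeal)
    (h : a * b' = a' * b) : frO 𝒜 W a b ha hb hW = frO 𝒜 W a' b' ha' hb' hW' := by
  apply O_ext
  intro y hy
  rw [evO_frO, evO_frO]
  exact mkO_eq_of y a b a' b' _ _ h

lemma frO_mul (W : (Proj 𝒜).Opens) {i j : ℕ} (a b a' b' : A) (ha : a ∈ 𝒜 i) (hb : b ∈ 𝒜 i)
    (ha' : a' ∈ 𝒜 j) (hb' : b' ∈ 𝒜 j)
    (hW : ∀ y : ProjectiveSpectrum.top 𝒜, y ∈ W → b ∉ y.asHomogeneousIdeal)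
    (hW' : ∀ y : ProjectiveSpectrum.top 𝒜, y ∈ W → b' ∉ y.asHomogeneousIdeal) :
    frO 𝒜 W a b ha hb hW * frO 𝒜 W a' b' ha' hb' hW' =
      frO 𝒜 W (a * a') (b * b') (SetLike.mul_mem_graded ha ha') (SetLike.mul_mem_graded hb hb')
        (fun y hy h => (y.isPrime.mem_or_mem h).elim (hW y hy) (hW' y hy)) := by
  apply O_ext
  intro y hy
  rw [evO_val_mul, evO_frO, evO_frO, evO_frO]
  exact mkO_mul y a b a' b' _ _

lemma frO_self (W : (Proj 𝒜).Opens) {i : ℕ} (b : A) (hb : b ∈ 𝒜 i)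
    (hW : ∀ y : ProjectiveSpectrum.top 𝒜, y ∈ W → b ∉ y.asHomogeneousIdeal) :
    frO 𝒜 W b b hb hb hW = 1 := by
  apply O_ext
  intro y hy
  rw [evO_frO, evO_val_one]
  exact mkO_self y b _

lemma frO_add (W : (Proj 𝒜).Opens) {i : ℕ} (a a' b : A) (ha : a ∈ 𝒜 i) (ha' : a' ∈ 𝒜 i)
    (hb : b ∈ 𝒜 i)
    (hW : ∀ y : ProjectiveSpectrum.top 𝒜, y ∈ W → b ∉ y.asHomogeneousIdeal) :
    frO 𝒜 W (a + a') b (Submodule.add_mem _ ha ha') hb hW =
      frO 𝒜 W a b ha hb hW + frO 𝒜 W a' b ha' hb hW := by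
  apply O_ext
  intro y hy
  rw [map_add, HomogeneousLocalization.val_add, evO_frO, evO_frO, evO_frO]
  unfold mkO
  rw [Localization.add_mk_self]

lemma frO_zero (W : (Proj 𝒜).Opens) {i : ℕ} (b : A) (hb : b ∈ 𝒜 i)
    (hW : ∀ y : ProjectiveSpectrum.top 𝒜, y ∈ W → b ∉ y.asHomogeneousIdeal) :
    frO 𝒜 W 0 b (Submodule.zero_mem _) hb hW = 0 := by
  apply O_ext
  intro y hy
  rw [evO_frO, map_zero, HomogeneousLocalization.val_zero]
  unfold mkO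
  exact Localization.mk_zero _

end Groth.Agent.Helper1.ProjO
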