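import Mathlib
import Groth.Prelude.Def_GrMod2
import Groth.Agent.Helper1.GrT4
import Groth.Agent.Helper4.TensorLift

set_option autoImplicit false
set_option linter.unusedSectionVars false

/-!
# Multiplication `M(m)~ × A(n)~ → M(m+n)~` on sections
-/

namespace Groth.Agent.Helper1.TwistMul

open CategoryTheory AlgebraicGeometry TopologicalSpace Opposite
open Groth.Agent.Helper1.GrT

universe u

variable {R A : Type u} [CommRing R] [CommRing A] [Algebra R A] (𝒜 : ℕ → Submodule R A)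
  [GradedAlgebra 𝒜]
variable {M : Type u} [AddCommGroup M] [Module R M] [Module A M] [IsScalarTower R A M]
  (ℳ : ℕ → Submodule R M) [DirectSum.Decomposition ℳ] [SetLike.GradedSMul 𝒜 ℳ]

/-- an element of `A_x` seen in the localized module of `A` -/
abbrev toLoc (x : ProjectiveSpectrum 𝒜) (a : GrTilde.LocMod 𝒜 (M := A) x) : Twist.Loc 𝒜 x := a

lemma a0_smul_toLoc (x : ProjectiveSpectrum 𝒜) (c : Twist.A0 𝒜 x)
    (a : GrTilde.LocMod 𝒜 (M := A) x) :
    toLoc 𝒜 x (c • a) = c.val * toLoc 𝒜 x a := by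
  rw [GrTilde.a0_smul_def]
  induction a using LocalizedModule.induction_on with
  | h b t =>
  generalize c.val = p
  induction p using Localization.induction_on with
  | H p =>
  obtain ⟨a, s⟩ := p
  have h1 : (Localization.mk a s : Twist.Loc 𝒜 x) •
      (LocalizedModule.mk b t : GrTilde.LocMod 𝒜 (M := A) x) =
      LocalizedModule.mk (a • b) (s * t) := LocalizedModule.mk_smul_mk a b s t
  have h2 : (Localization.mk a s : Twist.Loc 𝒜 x) * (Localization.mk b t : Twist.Loc 𝒜 x) =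
      Localization.mk (a * b) (s * t) := Localization.mk_mul a b s t
  exact h1.trans h2.symm

lemma mul_mem_tildeAt (m n k : ℤ) (hk : k = m + n) (x : ProjectiveSpectrum 𝒜)
    (q : GrTilde.LocMod 𝒜 (M := M) x) (hq : q ∈ GrTilde.tildeAt 𝒜 ℳ m x)
    (a : GrTilde.LocMod 𝒜 (M := A) x) (ha : a ∈ GrTilde.tildeAt 𝒜 𝒜 n x) :
    toLoc 𝒜 x a • q ∈ GrTilde.tildeAt 𝒜 ℳ k x := by
  unfold GrTilde.tildeAt at ha
  induction ha using Submodule.span_induction with
  | mem a ha =>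
    obtain ⟨i', j', a0, t0, ht0, hij', rfl⟩ := ha
    unfold GrTilde.tildeAt at hq
    induction hq using Submodule.span_induction with
    | mem q hq =>
      obtain ⟨i, j, u0, s0, hs0, hij, rfl⟩ := hq
      have h1 : toLoc 𝒜 x (LocalizedModule.mk a0.1 ⟨t0.1, ht0⟩) •
          (LocalizedModule.mk u0.1 ⟨s0.1, hs0⟩ : GrTilde.LocMod 𝒜 (M := M) x) =
          LocalizedModule.mk (a0.1 • u0.1) (⟨t0.1, ht0⟩ * ⟨s0.1, hs0⟩) :=
        LocalizedModule.mk_smul_mk a0.1 u0.1 ⟨t0.1, ht0⟩ ⟨s0.1, hs0⟩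
      rw [h1]
      exact Submodule.subset_span ⟨i' + i, j' + j,
        ⟨a0.1 • u0.1, SetLike.GradedSMul.smul_mem a0.2 u0.2⟩,
        ⟨t0.1 * s0.1, SetLike.mul_mem_graded t0.2 s0.2⟩,
        fun h => (x.isPrime.mem_or_mem h).elim ht0 hs0, by push_cast; rw [hk]; omega, rfl⟩
    | zero => rw [smul_zero]; exact Submodule.zero_mem _
    | add p q _ _ hp hq => rw [smul_add]; exact Submodule.add_mem _ hp hq
    | smul c q _ hq =>
      rw [GrTilde.a0_smul_def, smul_comm, ← GrTilde.a0_smul_def]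
      exact Submodule.smul_mem _ c hq
  | zero =>
    show (0 : Twist.Loc 𝒜 x) • q ∈ _
    rw [zero_smul]; exact Submodule.zero_mem _
  | add a b _ _ ha hb =>
    show (toLoc 𝒜 x a + toLoc 𝒜 x b) • q ∈ _
    rw [add_smul]; exact Submodule.add_mem _ ha hb
  | smul c a _ ha =>
    rw [a0_smul_toLoc, mul_smul, ← GrTilde.a0_smul_def]
    exact Submodule.smul_mem _ c ha

/-- the product of two sections -/
noncomputable def mulSect (m n k : ℤ) (hk : k = m + n) (U : Opens (ProjectiveSpectrum.top 𝒜))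
    (u : GrTilde.sect 𝒜 ℳ m (op U)) (a : GrTilde.sect 𝒜 𝒜 n (op U)) :
    GrTilde.sect 𝒜 ℳ k (op U) :=
  ⟨fun x => ⟨toLoc 𝒜 x.1 (a.1 x).1 • (u.1 x).1,
      mul_mem_tildeAt 𝒜 ℳ m n k hk x.1 _ (u.1 x).2 _ (a.1 x).2⟩,
    fun x => by
      obtain ⟨V, hxV, iV, i, j, u0, s0, hs0, hij, hval⟩ := u.2 x
      obtain ⟨V', hxV', iV', i', j', a0, t0, ht0, hij', hval'⟩ := a.2 x
      refine ⟨V ⊓ V', ⟨hxV, hxV'⟩, Opens.infLELeft _ _ ≫ iV, i' + i, j' + j,
        ⟨a0.1 • u0.1, SetLike.GradedSMul.smul_mem a0.2 u0.2⟩,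
        ⟨t0.1 * s0.1, SetLike.mul_mem_graded t0.2 s0.2⟩,
        fun y h => (y.1.isPrime.mem_or_mem h).elim (ht0 ⟨y.1, y.2.2⟩) (hs0 ⟨y.1, y.2.1⟩), ?_, ?_⟩
      · rcases hij with h | h
        · rcases hij' with h' | h'
          · left
            push_cast
            rw [hk]
            omega
          · right
            show a0.1 • u0.1 = 0
            rw [h', zero_smul]
        · right
          show a0.1 • u0.1 = 0
          rw [h, smul_zero]
      · intro y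
        have e1 := hval ⟨y.1, y.2.1⟩
        have e2 := hval' ⟨y.1, y.2.2⟩
        show toLoc 𝒜 y.1 (a.1 ⟨y.1, _⟩).1 • (u.1 ⟨y.1, _⟩).1 = _
        refine Eq.trans (congrArg₂ (fun (p : Twist.Loc 𝒜 y.1)
          (q : GrTilde.LocMod 𝒜 (M := M) y.1) => p • q) e2 e1) ?_
        exact LocalizedModule.mk_smul_mk a0.1 u0.1 ⟨t0.1, _⟩ ⟨s0.1, _⟩⟩

lemma val_mulSect (m n k : ℤ) (hk : k = m + n) (U : Opens (ProjectiveSpectrum.top 𝒜))
    (u : GrTilde.sect 𝒜 ℳ m (op U)) (a : GrTilde.sect 𝒜 𝒜 n (op U))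
    (y : ProjectiveSpectrum.top 𝒜) (hy : y ∈ U) :
    val (mulSect 𝒜 ℳ m n k hk U u a) y hy = toLoc 𝒜 y (val a y hy) • val u y hy := rfl

open Groth.Agent.Helper4.TensorLift in
/-- the multiplication as a bilinear family -/
noncomputable def bil (m n k : ℤ) (hk : k = m + n) :
    Bil (GrTilde.tilde 𝒜 ℳ m) (GrTilde.tilde 𝒜 𝒜 n) (GrTilde.tilde 𝒜 ℳ k) where
  f V u a := mulSect 𝒜 ℳ m n k hk V u a
  add_left V u u' a := by
    apply sect_ext
    intro y hy
    exact smul_add _ _ _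
  add_right V u a a' := by
    apply sect_ext
    intro y hy
    exact add_smul (toLoc 𝒜 y (val a y hy)) (toLoc 𝒜 y (val a' y hy)) (val u y hy)
  smul_left V r u a := by
    apply sect_ext
    intro y hy
    refine Eq.trans ?_ (val_smul 𝒜 ℳ k V r _ y hy).symm
    rw [val_mulSect, val_mulSect]
    refine Eq.trans (congrArg (fun v => toLoc 𝒜 y (val a y hy) • v)
      (val_smul 𝒜 ℳ m V r u y hy)) ?_
    exact smul_comm _ _ _
  smul_right V r u a := by
    apply sect_ext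
    intro y hy
    refine Eq.trans ?_ (val_smul 𝒜 ℳ k V r _ y hy).symm
    rw [val_mulSect, val_mulSect]
    have h1 : toLoc 𝒜 y (val (𝒜 := 𝒜) (ℳ := 𝒜) (n := n) (U := V) (r • a) y hy) =
        (evO 𝒜 V y hy r).val * toLoc 𝒜 y (val a y hy) := by
      refine Eq.trans (congrArg (toLoc 𝒜 y) (val_smul 𝒜 𝒜 n V r a y hy)) ?_
      exact a0_smul_toLoc 𝒜 y _ _
    rw [h1, mul_smul]
  map i u a := rfl

end Groth.Agent.Helper1.TwistMul
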