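import Mathlib
import Groth.Prelude.Def_GrMod2
import Groth.Agent.Helper1.TwistMul1
import Groth.Agent.Helper1.ProjO

set_option autoImplicit false
set_option linter.unusedSectionVars false

/-!
# Degree-zero sections of `A~` are sections of the structure sheaf; invertible sections of `A(n)~`
-/

namespace Groth.Agent.Helper1.TwistMul

open CategoryTheory AlgebraicGeometry TopologicalSpace Opposite
open Groth.Agent.Helper1.GrT Groth.Agent.Helper1.ProjO

universe u

variable {R A : Type u} [CommRing R] [CommRing A] [Algebra R A] (𝒜 : ℕ → Submodule R A)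
  [GradedAlgebra 𝒜]
variable {M : Type u} [AddCommGroup M] [Module R M] [Module A M] [IsScalarTower R A M]
  (ℳ : ℕ → Submodule R M) [DirectSum.Decomposition ℳ] [SetLike.GradedSMul 𝒜 ℳ]

lemma toLoc_smul (x : ProjectiveSpectrum 𝒜) (p : Twist.Loc 𝒜 x)
    (q : GrTilde.LocMod 𝒜 (M := A) x) : toLoc 𝒜 x (p • q) = p * toLoc 𝒜 x q := by
  induction q using LocalizedModule.induction_on with
  | h b t =>
  induction p using Localization.induction_on with
  | H p =>
  obtain ⟨a, s⟩ := p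
  have h1 : (Localization.mk a s : Twist.Loc 𝒜 x) •
      (LocalizedModule.mk b t : GrTilde.LocMod 𝒜 (M := A) x) =
      LocalizedModule.mk (a • b) (s * t) := LocalizedModule.mk_smul_mk a b s t
  have h2 : (Localization.mk a s : Twist.Loc 𝒜 x) * (Localization.mk b t : Twist.Loc 𝒜 x) =
      Localization.mk (a * b) (s * t) := Localization.mk_mul a b s t
  exact h1.trans h2.symm

/-- degree-zero fractions lie in the degree-zero homogeneous localization -/
lemma exists_a0 (x : ProjectiveSpectrum 𝒜) (c : GrTilde.LocMod 𝒜 (M := A) x)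
    (hc : c ∈ GrTilde.tildeAt 𝒜 𝒜 0 x) : ∃ c0 : Twist.A0 𝒜 x, c0.val = toLoc 𝒜 x c := by
  unfold GrTilde.tildeAt at hc
  induction hc using Submodule.span_induction with
  | mem c hc =>
    obtain ⟨i, j, a0, t0, ht0, hij, rfl⟩ := hc
    have hij' : i = j := by omega
    subst hij'
    exact ⟨HomogeneousLocalization.mk ⟨i, a0, t0, ht0⟩, HomogeneousLocalization.val_mk _⟩
  | zero => exact ⟨0, HomogeneousLocalization.val_zero⟩
  | add p q _ _ hp hq =>
    obtain ⟨p0, hp0⟩ := hp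
    obtain ⟨q0, hq0⟩ := hq
    refine ⟨p0 + q0, ?_⟩
    rw [HomogeneousLocalization.val_add, hp0, hq0]
  | smul c q _ hq =>
    obtain ⟨q0, hq0⟩ := hq
    refine ⟨c * q0, ?_⟩
    rw [HomogeneousLocalization.val_mul, hq0]
    exact (a0_smul_toLoc 𝒜 x c q).symm

/-- a degree-zero section of `A~` as a section of the structure sheaf -/
noncomputable def toO (V : (Proj 𝒜).Opens) (s : GrTilde.sect 𝒜 𝒜 0 (op V)) : Γ(Proj 𝒜, V) :=
  (show Twist.O (𝒜 := 𝒜) (op V) from
    ⟨fun y => Classical.choose (exists_a0 𝒜 y.1 (s.1 y).1 (s.1 y).2), fun y => by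
      obtain ⟨V', hyV', iV', i, j, a0, t0, ht0, hij, hval⟩ := s.2 y
      rcases hij with h | h
      · have hij' : i = j := by omega
        subst hij'
        refine ⟨V', hyV', iV', i, a0, t0, ht0, fun z => ?_⟩
        apply HomogeneousLocalization.val_injective
        refine (Classical.choose_spec (exists_a0 𝒜 _ (s.1 (iV' z)).1 (s.1 (iV' z)).2)).trans ?_
        refine Eq.trans ?_ (HomogeneousLocalization.val_mk _).symm
        exact congrArg (toLoc 𝒜 z.1) (hval z)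
      · refine ⟨V', hyV', iV', j, 0, t0, ht0, fun z => ?_⟩
        apply HomogeneousLocalization.val_injective
        refine (Classical.choose_spec (exists_a0 𝒜 _ (s.1 (iV' z)).1 (s.1 (iV' z)).2)).trans ?_
        refine Eq.trans ?_ (HomogeneousLocalization.val_mk _).symm
        refine (congrArg (toLoc 𝒜 z.1) (hval z)).trans ?_
        show (LocalizedModule.mk a0.1 _ : GrTilde.LocMod 𝒜 (M := A) z.1) = Localization.mk 0 _
        rw [h, Localization.mk_zero]
        exact LocalizedModule.zero_mk _⟩)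

lemma evO_toO (V : (Proj 𝒜).Opens) (s : GrTilde.sect 𝒜 𝒜 0 (op V)) (y : Proj 𝒜) (hy : y ∈ V) :
    (evO 𝒜 V y hy (toO 𝒜 V s)).val = toLoc 𝒜 y (val s y hy) := by
  rw [evO_apply]
  exact Classical.choose_spec (exists_a0 𝒜 y (s.1 ⟨y, hy⟩).1 (s.1 ⟨y, hy⟩).2)

/-- an invertible section of `A(n)~` over `W`, with its inverse -/
structure InvPair (n : ℤ) (W : (Proj 𝒜).Opens) where
  e : GrTilde.sect 𝒜 𝒜 n (op W)
  e' : GrTilde.sect 𝒜 𝒜 (-n) (op W)
  mul : ∀ (y : Proj 𝒜) (hy : y ∈ W),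
    toLoc 𝒜 y (val e y hy) * toLoc 𝒜 y (val e' y hy) = 1

/-- the invertible section `a / b` -/
noncomputable def InvPair.ofFrac (n : ℤ) (W : (Proj 𝒜).Opens) {i j : ℕ} (a b : A) (ha : a ∈ 𝒜 i)
    (hb : b ∈ 𝒜 j) (hij : (i : ℤ) = j + n)
    (hWa : ∀ y : ProjectiveSpectrum.top 𝒜, y ∈ W → a ∉ y.asHomogeneousIdeal)
    (hWb : ∀ y : ProjectiveSpectrum.top 𝒜, y ∈ W → b ∉ y.asHomogeneousIdeal) :
    InvPair 𝒜 n W where
  e := fracSect 𝒜 𝒜 n a ha b hb hij W hWb
  e' := fracSect 𝒜 𝒜 (-n) b hb a ha (by omega) W hWa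
  mul y hy := by
    show mkO y a b (hWb y hy) * mkO y b a (hWa y hy) = 1
    rw [mkO_mul, ← mkO_self y 1 (fun h => y.isPrime.ne_top ((Ideal.eq_top_iff_one _).mpr h))]
    apply mkO_eq_of
    ring

variable {𝒜} in
/-- restriction of an invertible section -/
noncomputable def InvPair.res {n : ℤ} {W V : (Proj 𝒜).Opens} (P : InvPair 𝒜 n W) (h : V ≤ W) :
    InvPair 𝒜 n V where
  e := GrTilde.res 𝒜 𝒜 n (homOfLE h).op P.e
  e' := GrTilde.res 𝒜 𝒜 (-n) (homOfLE h).op P.e'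
  mul y hy := P.mul y (h hy)

variable {𝒜} in
lemma InvPair.mul' {n : ℤ} {W : (Proj 𝒜).Opens} (P : InvPair 𝒜 n W) (y : Proj 𝒜) (hy : y ∈ W) :
    toLoc 𝒜 y (val P.e' y hy) * toLoc 𝒜 y (val P.e y hy) = 1 := by
  rw [mul_comm]; exact P.mul y hy

variable {𝒜} in
lemma InvPair.cancel1 {n : ℤ} {W : (Proj 𝒜).Opens} (P : InvPair 𝒜 n W) (m k : ℤ)
    (hk : k = m + n) (hm : m = k + -n) (u : GrTilde.sect 𝒜 ℳ m (op W)) :
    mulSect 𝒜 ℳ k (-n) m hm W (mulSect 𝒜 ℳ m n k hk W u P.e) P.e' = u := by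
  apply sect_ext
  intro y hy
  rw [val_mulSect, val_mulSect, ← mul_smul, P.mul' y hy, one_smul]

variable {𝒜} in
lemma InvPair.cancel2 {n : ℤ} {W : (Proj 𝒜).Opens} (P : InvPair 𝒜 n W) (m k : ℤ)
    (hk : k = m + n) (hm : m = k + -n) (s : GrTilde.sect 𝒜 ℳ k (op W)) :
    mulSect 𝒜 ℳ m n k hk W (mulSect 𝒜 ℳ k (-n) m hm W s P.e') P.e = s := by
  apply sect_ext
  intro y hy
  rw [val_mulSect, val_mulSect, ← mul_smul, P.mul y hy, one_smul]

lemma ring_aux {S : Type*} [CommRing S] (p a e : S) (h : p * e = 1) : a = p * a * e := by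
  rw [mul_right_comm, h, one_mul]

variable {𝒜} in
/-- the invertible section as a section of the sheaf -/
noncomputable def InvPair.eΓ {n : ℤ} {W : (Proj 𝒜).Opens} (P : InvPair 𝒜 n W) :
    Γ(GrTilde.tilde 𝒜 𝒜 n, W) := P.e

variable {𝒜} in
/-- every section of `A(n)~` is a multiple of the invertible section -/
lemma InvPair.eq_smul {n : ℤ} {W : (Proj 𝒜).Opens} (P : InvPair 𝒜 n W)
    (a : Γ(GrTilde.tilde 𝒜 𝒜 n, W)) :
    a = (toO 𝒜 W (mulSect 𝒜 𝒜 n (-n) 0 (by omega) W a P.e') : Γ(Proj 𝒜, W)) •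
      P.eΓ := by
  apply sect_ext
  intro y hy
  refine Eq.trans ?_ (val_smul 𝒜 𝒜 n W _ _ y hy).symm
  rw [evO_toO, val_mulSect]
  show toLoc 𝒜 y (val a y hy) = toLoc 𝒜 y (_ • val P.e y hy)
  rw [toLoc_smul, toLoc_smul]
  exact ring_aux _ _ _ (P.mul' y hy)

end Groth.Agent.Helper1.TwistMul
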