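import Mathlib
import Groth.Prelude.Def_GrMod2
import Groth.Agent.Helper1.TwistMul2

set_option autoImplicit false
set_option linter.unusedSectionVars false

/-!
# `M(m)~ ⊗ A(n)~ ≅ M(m+n)~` where `A(n)~` is locally generated by invertible fractions
-/

namespace Groth.Agent.Helper1.TwistMul

open CategoryTheory AlgebraicGeometry TopologicalSpace Opposite
open Groth.Agent.Helper1.GrT Groth.Agent.Helper1.ProjO
open Groth.Agent.Helper4.TensorLift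

universe u

variable {R A : Type u} [CommRing R] [CommRing A] [Algebra R A] (𝒜 : ℕ → Submodule R A)
  [GradedAlgebra 𝒜]
variable {M : Type u} [AddCommGroup M] [Module R M] [Module A M] [IsScalarTower R A M]
  (ℳ : ℕ → Submodule R M) [DirectSum.Decomposition ℳ] [SetLike.GradedSMul 𝒜 ℳ]

variable {𝒜} in
/-- every tensor is a pure tensor with the invertible section -/
lemma InvPair.exists_pure {n : ℤ} {W : (Proj 𝒜).Opens} (P : InvPair 𝒜 n W) (m : ℤ)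
    (x : TT (GrTilde.tilde 𝒜 ℳ m) (GrTilde.tilde 𝒜 𝒜 n) W) :
    ∃ u : Γ(GrTilde.tilde 𝒜 ℳ m, W),
      x = pure (GrTilde.tilde 𝒜 ℳ m) (GrTilde.tilde 𝒜 𝒜 n) W u P.eΓ := by
  induction x using TensorProduct.induction_on with
  | zero => exact ⟨0, (TensorProduct.zero_tmul _ _).symm⟩
  | tmul u a =>
    refine ⟨(toO 𝒜 W (mulSect 𝒜 𝒜 n (-n) 0 (by omega) W a P.e') : Γ(Proj 𝒜, W)) •
      (show Γ(GrTilde.tilde 𝒜 ℳ m, W) from u), ?_⟩
    rw [pure_smul_left, ← pure_smul_right, ← P.eq_smul]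
    rfl
  | add x y hx hy =>
    obtain ⟨u, rfl⟩ := hx
    obtain ⟨v, rfl⟩ := hy
    exact ⟨u + v, (pure_add_left _ _ _ _ _ _).symm⟩

variable {𝒜} in
lemma InvPair.lin_bijective {n : ℤ} {W : (Proj 𝒜).Opens} (P : InvPair 𝒜 n W) (m k : ℤ)
    (hk : k = m + n) : Function.Bijective ((bil 𝒜 ℳ m n k hk).lin W) := by
  have hm : m = k + -n := by omega
  constructor
  · intro x y hxy
    obtain ⟨u, rfl⟩ := P.exists_pure ℳ m x
    obtain ⟨v, rfl⟩ := P.exists_pure ℳ m y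
    rw [Bil.lin_pure, Bil.lin_pure] at hxy
    have h1 : mulSect 𝒜 ℳ m n k hk W u P.e = mulSect 𝒜 ℳ m n k hk W v P.e := hxy
    have h2 := congrArg (fun s => mulSect 𝒜 ℳ k (-n) m hm W s P.e') h1
    simp only [P.cancel1 ℳ m k hk hm] at h2
    rw [show u = v from h2]
  · intro s
    refine ⟨pure _ _ W (mulSect 𝒜 ℳ k (-n) m hm W s P.e') P.eΓ, ?_⟩
    rw [Bil.lin_pure]
    exact P.cancel2 ℳ m k hk hm s

/-- **the multiplication map `M(m)~ ⊗ A(n)~ ⟶ M(m+n)~` is an isomorphism** when `Proj` is covered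
by opens carrying an invertible section of `A(n)~` -/
theorem isIso_lift (m n k : ℤ) (hk : k = m + n)
    (hcov : ∀ p : Proj 𝒜, ∃ W : (Proj 𝒜).Opens, p ∈ W ∧ Nonempty (InvPair 𝒜 n W)) :
    IsIso (bil 𝒜 ℳ m n k hk).lift := by
  apply Bil.isIso_lift
  · intro V x y hxy p hp
    obtain ⟨W, hpW, ⟨P⟩⟩ := hcov p
    refine ⟨V ⊓ W, homOfLE inf_le_left, ⟨hp, hpW⟩, ?_⟩
    apply ((P.res (inf_le_right : V ⊓ W ≤ W)).lin_bijective ℳ m k hk).1
    rw [Bil.lin_map, Bil.lin_map, hxy]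
  · intro V s p hp
    obtain ⟨W, hpW, ⟨P⟩⟩ := hcov p
    refine ⟨V ⊓ W, homOfLE inf_le_left, ⟨hp, hpW⟩, ?_⟩
    exact ((P.res (inf_le_right : V ⊓ W ≤ W)).lin_bijective ℳ m k hk).2 _

/-- the isomorphism `M(m)~ ⊗ A(n)~ ≅ M(m+n)~` -/
noncomputable def tensorIso (m n k : ℤ) (hk : k = m + n)
    (hcov : ∀ p : Proj 𝒜, ∃ W : (Proj 𝒜).Opens, p ∈ W ∧ Nonempty (InvPair 𝒜 n W)) :
    CohB1.tensorMod (GrTilde.tilde 𝒜 ℳ m) (GrTilde.tilde 𝒜 𝒜 n) ≅ GrTilde.tilde 𝒜 ℳ k :=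
  haveI := isIso_lift 𝒜 ℳ m n k hk hcov
  asIso (bil 𝒜 ℳ m n k hk).lift

end Groth.Agent.Helper1.TwistMul
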