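import Mathlib
import Groth.Prelude.Def_GrMod2
import Groth.Agent.Helper1.TwistMul3
import Groth.Agent.Helper1.EpiDesc
import Groth.Agent.Helper1.TwistIso
import Groth.Agent.Helper4.GenLoc
import Groth.Agent.Helper4.TensorRes

set_option autoImplicit false
set_option linter.unusedSectionVars false

/-!
# An invertible section trivializes `A(n)~`
-/

namespace Groth.Agent.Helper1.TwistMul

open CategoryTheory AlgebraicGeometry TopologicalSpace Opposite
open Groth.Agent.Helper1.GrT Groth.Agent.Helper1.ProjO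
open Groth.Agent.Helper4.TensorLift

universe u

variable {R A : Type u} [CommRing R] [CommRing A] [Algebra R A] (𝒜 : ℕ → Submodule R A)
  [GradedAlgebra 𝒜]

variable {𝒜} in
lemma InvPair.smul_bijective {n : ℤ} {V : (Proj 𝒜).Opens} (P : InvPair 𝒜 n V) :
    Function.Bijective (fun c : Γ(Proj 𝒜, V) => c • P.eΓ) := by
  constructor
  · intro c c' h
    apply O_ext
    intro y hy
    have h1 := congrArg (fun s : Γ(GrTilde.tilde 𝒜 𝒜 n, V) =>
      toLoc 𝒜 y (val (𝒜 := 𝒜) (ℳ := 𝒜) (n := n) (U := V) s y hy)) h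
    simp only [] at h1
    have h2 : ∀ c : Γ(Proj 𝒜, V),
        toLoc 𝒜 y (val (𝒜 := 𝒜) (ℳ := 𝒜) (n := n) (U := V) (c • P.eΓ) y hy) =
        (evO 𝒜 V y hy c).val * toLoc 𝒜 y (val P.e y hy) := by
      intro c
      refine (congrArg (toLoc 𝒜 y) (val_smul 𝒜 𝒜 n V c P.eΓ y hy)).trans ?_
      exact toLoc_smul 𝒜 y _ _
    rw [h2, h2] at h1
    have h3 := congrArg (fun z => z * toLoc 𝒜 y (val P.e' y hy)) h1
    simp only [mul_assoc, P.mul y hy, mul_one] at h3
    exact h3
  · intro a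
    exact ⟨_, (P.eq_smul a).symm⟩

variable {𝒜} in
/-- an invertible section of `A(n)~` over `W` trivializes the restriction to `W` -/
theorem InvPair.nonempty_iso {n : ℤ} {W : (Proj 𝒜).Opens} (P : InvPair 𝒜 n W) :
    Nonempty ((GrTilde.tilde 𝒜 𝒜 n).restrict W.ι ≅ Coh.structureModule (W : Scheme.{u})) := by
  have hle : W.ι ''ᵁ ⊤ ≤ W := (Scheme.Opens.ι_image_top W).le
  let N := (GrTilde.tilde 𝒜 𝒜 n).restrict W.ι
  let t : Γ(N, ⊤) := (P.res hle).eΓ
  let φ := Groth.Agent.Lead.LocLift.homOfTop N t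
  suffices IsIso φ from ⟨(asIso φ).symm⟩
  apply Groth.Agent.Helper4.GenLoc.isIso_of_app_bijective
  intro U
  have hU : W.ι ''ᵁ U ≤ W := by
    rintro _ ⟨y, _, rfl⟩
    exact y.2
  have h1 : ∀ r : Γ((W : Scheme.{u}), U), φ.app U r =
      ((W.ι.appIso U).inv r) • (P.res hU).eΓ := by
    intro r
    rw [EpiDesc.homOfTop_app]
    rfl
  have h2 : Function.Bijective (fun r : Γ((W : Scheme.{u}), U) => (W.ι.appIso U).inv r) :=
    (ConcreteCategory.isIso_iff_bijective (W.ι.appIso U).inv).mp inferInstance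
  have h3 := (P.res hU).smul_bijective.comp h2
  have h4 : ⇑(ConcreteCategory.hom (Scheme.Modules.Hom.app φ U)) =
      (fun c : Γ(Proj 𝒜, W.ι ''ᵁ U) => c • (P.res hU).eΓ) ∘
        fun r : Γ((W : Scheme.{u}), U) => (W.ι.appIso U).inv r := funext h1
  rw [h4]
  exact h3

/-- the same for the twisting sheaf -/
theorem InvPair.nonempty_iso_twist {n : ℤ} {W : (Proj 𝒜).Opens} (P : InvPair 𝒜 n W) :
    Nonempty ((Twist.twist 𝒜 n).restrict W.ι ≅ Coh.structureModule (W : Scheme.{u})) := by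
  obtain ⟨e⟩ := P.nonempty_iso
  exact ⟨(Scheme.Modules.restrictFunctor W.ι).mapIso (TwistIso.twistIsoTilde 𝒜 n) ≪≫ e⟩

end Groth.Agent.Helper1.TwistMul
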