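import Mathlib
import Groth.Prelude.Def_GrMod2
import Groth.Agent.Helper1.TwistMul4
import Groth.Prelude.Def_PicGrp

set_option autoImplicit false
set_option linter.unusedSectionVars false

/-!
# Invertible sections `(a/b)^n` and the resulting isomorphisms
-/

namespace Groth.Agent.Helper1.TwistMul

open CategoryTheory AlgebraicGeometry TopologicalSpace Opposite
open Groth.Agent.Helper1.GrT Groth.Agent.Helper1.ProjO
open Groth.Agent.Helper4.TensorLift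

universe u

variable {R A : Type u} [CommRing R] [CommRing A] [Algebra R A] (𝒜 : ℕ → Submodule R A)
  [GradedAlgebra 𝒜]
variable {M : Type u} [AddCommGroup M] [Module R M] [Module A M] [IsScalarTower R A M]
  (ℳ : ℕ → Submodule R M) [DirectSum.Decomposition ℳ] [SetLike.GradedSMul 𝒜 ℳ]

/-- the invertible section `(a/b)^n` of `A(nd)~` where `deg a = deg b + d` -/
theorem nonempty_invPair_fracPow (W : (Proj 𝒜).Opens) {i j d : ℕ} (a b : A) (ha : a ∈ 𝒜 i)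
    (hb : b ∈ 𝒜 j) (hij : i = j + d) (n : ℤ)
    (hWa : ∀ y : ProjectiveSpectrum.top 𝒜, y ∈ W → a ∉ y.asHomogeneousIdeal)
    (hWb : ∀ y : ProjectiveSpectrum.top 𝒜, y ∈ W → b ∉ y.asHomogeneousIdeal) :
    Nonempty (InvPair 𝒜 (n * d) W) := by
  by_cases hn : 0 ≤ n
  · obtain ⟨N, rfl⟩ := Int.eq_ofNat_of_zero_le hn
    refine ⟨InvPair.ofFrac 𝒜 _ W (a ^ N) (b ^ N) (SetLike.pow_mem_graded N ha)
      (SetLike.pow_mem_graded N hb) ?_
      (fun y hy h => hWa y hy (y.isPrime.mem_of_pow_mem N h))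
      (fun y hy h => hWb y hy (y.isPrime.mem_of_pow_mem N h))⟩
    rw [hij]
    simp only [smul_eq_mul]
    push_cast
    ring
  · obtain ⟨N, hN⟩ := Int.eq_ofNat_of_zero_le (show 0 ≤ -n by omega)
    have hn' : n = -(N : ℤ) := by omega
    subst hn'
    refine ⟨InvPair.ofFrac 𝒜 _ W (b ^ N) (a ^ N) (SetLike.pow_mem_graded N hb)
      (SetLike.pow_mem_graded N ha) ?_
      (fun y hy h => hWb y hy (y.isPrime.mem_of_pow_mem N h))
      (fun y hy h => hWa y hy (y.isPrime.mem_of_pow_mem N h))⟩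
    rw [hij]
    simp only [smul_eq_mul]
    push_cast
    ring

/-- over `D₊(f)`, `f` of degree `d`, the sheaf `A(nd)~` has the invertible section `f^n` -/
theorem nonempty_invPair_of_le_basicOpen (W : (Proj 𝒜).Opens) {d : ℕ} (f : A) (hf : f ∈ 𝒜 d)
    (hW : W ≤ Proj.basicOpen 𝒜 f) (n : ℤ) : Nonempty (InvPair 𝒜 (n * d) W) :=
  nonempty_invPair_fracPow 𝒜 W f 1 hf SetLike.GradedOne.one_mem (by omega) n
    (fun y hy => hW hy)
    (fun y _ h => y.isPrime.ne_top ((Ideal.eq_top_iff_one _).mpr h))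

/-- degree one -/
theorem nonempty_invPair_of_degOne (W : (Proj 𝒜).Opens) (f : A) (hf : f ∈ 𝒜 1)
    (hW : W ≤ Proj.basicOpen 𝒜 f) (n : ℤ) : Nonempty (InvPair 𝒜 n W) := by
  have h := nonempty_invPair_of_le_basicOpen 𝒜 W f hf hW n
  rwa [Nat.cast_one, mul_one] at h

theorem cover_of_iSup (hcov : (⨆ f : 𝒜 1, Proj.basicOpen 𝒜 (f : A)) = ⊤) (n : ℤ)
    (p : Proj 𝒜) : ∃ W : (Proj 𝒜).Opens, p ∈ W ∧ Nonempty (InvPair 𝒜 n W) := by
  have hp : p ∈ (⨆ f : 𝒜 1, Proj.basicOpen 𝒜 (f : A)) := by rw [hcov]; trivial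
  obtain ⟨f, hf⟩ := Opens.mem_iSup.mp hp
  exact ⟨Proj.basicOpen 𝒜 (f : A), hf, nonempty_invPair_of_degOne 𝒜 _ f.1 f.2 le_rfl n⟩

theorem iSup_eq_top_of_hgen
    (hgen : (HomogeneousIdeal.irrelevant 𝒜).toIdeal = Ideal.span (𝒜 1 : Set A)) :
    (⨆ f : 𝒜 1, Proj.basicOpen 𝒜 (f : A)) = ⊤ := by
  apply Proj.iSup_basicOpen_eq_top 𝒜 (fun f : 𝒜 1 => (f : A))
  rw [hgen]
  apply Ideal.span_mono
  intro x hx
  exact ⟨⟨x, hx⟩, rfl⟩

/-- `M(m)~ ⊗ O(n) ≅ M(m+n)~` when `Proj` is covered by the `D₊(f)`, `f` of degree one -/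
theorem nonempty_tensor_twist_iso (hcov : (⨆ f : 𝒜 1, Proj.basicOpen 𝒜 (f : A)) = ⊤)
    (m n k : ℤ) (hk : k = m + n) :
    Nonempty (CohB1.tensorMod (GrTilde.tilde 𝒜 ℳ m) (Twist.twist 𝒜 n) ≅ GrTilde.tilde 𝒜 ℳ k) :=
  ⟨PicGrp.tensorModIso (Iso.refl _) (TwistIso.twistIsoTilde 𝒜 n) ≪≫
    tensorIso 𝒜 ℳ m n k hk (cover_of_iSup 𝒜 hcov n)⟩

/-- `O(m) ⊗ O(n) ≅ O(m+n)` when `Proj` is covered by the `D₊(f)`, `f` of degree one -/
theorem nonempty_twist_tensor_twist_iso (hcov : (⨆ f : 𝒜 1, Proj.basicOpen 𝒜 (f : A)) = ⊤)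
    (m n k : ℤ) (hk : k = m + n) :
    Nonempty (CohB1.tensorMod (Twist.twist 𝒜 m) (Twist.twist 𝒜 n) ≅ Twist.twist 𝒜 k) :=
  ⟨PicGrp.tensorModIso (TwistIso.twistIsoTilde 𝒜 m) (TwistIso.twistIsoTilde 𝒜 n) ≪≫
    tensorIso 𝒜 𝒜 m n k hk (cover_of_iSup 𝒜 hcov n) ≪≫ (TwistIso.twistIsoTilde 𝒜 k).symm⟩

/-- invertibility of the twisting sheaves -/
theorem isInvertible_twist (hcov : (⨆ f : 𝒜 1, Proj.basicOpen 𝒜 (f : A)) = ⊤) (n : ℤ) :
    PicF.IsInvertible (Twist.twist 𝒜 n) := by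
  intro y
  obtain ⟨W, hyW, ⟨P⟩⟩ := cover_of_iSup 𝒜 hcov n y
  exact ⟨W, hyW, P.nonempty_iso_twist⟩

end Groth.Agent.Helper1.TwistMul
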