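import Mathlib
import Groth.Prelude.Def_GrMod2
import Groth.Agent.Helper1.TwistMul5

set_option autoImplicit false
set_option linter.unusedSectionVars false

/-!
# `O(0) ≅ O` and `O(n) ≅ O(1)^{⊗ n}`
-/

namespace Groth.Agent.Helper1.TwistMul

open CategoryTheory AlgebraicGeometry TopologicalSpace Opposite
open Groth.Agent.Helper1.GrT Groth.Agent.Helper1.ProjO
open Groth.Agent.Helper4.TensorLift

universe u

variable {R A : Type u} [CommRing R] [CommRing A] [Algebra R A] (𝒜 : ℕ → Submodule R A)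
  [GradedAlgebra 𝒜]

variable {𝒜} in
/-- a global invertible section trivializes `A(n)~` -/
theorem InvPair.isIso_homOfTop {n : ℤ} (P : InvPair 𝒜 n ⊤) :
    IsIso (Groth.Agent.Lead.LocLift.homOfTop (GrTilde.tilde 𝒜 𝒜 n) P.eΓ) := by
  apply Groth.Agent.Helper4.GenLoc.isIso_of_app_bijective
  intro U
  have h1 : ∀ r : Γ(Proj 𝒜, U),
      (Groth.Agent.Lead.LocLift.homOfTop (GrTilde.tilde 𝒜 𝒜 n) P.eΓ).app U r =
      r • (P.res (le_top : U ≤ ⊤)).eΓ := by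
    intro r
    rw [EpiDesc.homOfTop_app]
    rfl
  have h4 : ⇑(ConcreteCategory.hom (Scheme.Modules.Hom.app
      (Groth.Agent.Lead.LocLift.homOfTop (GrTilde.tilde 𝒜 𝒜 n) P.eΓ) U)) =
      (fun c : Γ(Proj 𝒜, U) => c • (P.res (le_top : U ≤ ⊤)).eΓ) := funext h1
  rw [h4]
  exact (P.res (le_top : U ≤ ⊤)).smul_bijective

/-- `O(0) ≅ O` -/
theorem nonempty_twist_zero_iso :
    Nonempty (Twist.twist 𝒜 0 ≅ Coh.structureModule (Proj 𝒜)) := by
  have h1 : ∀ y : ProjectiveSpectrum.top 𝒜, y ∈ (⊤ : (Proj 𝒜).Opens) →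
      (1 : A) ∉ y.asHomogeneousIdeal :=
    fun y _ h => y.isPrime.ne_top ((Ideal.eq_top_iff_one _).mpr h)
  let P : InvPair 𝒜 0 ⊤ := InvPair.ofFrac 𝒜 0 ⊤ 1 1 SetLike.GradedOne.one_mem
    SetLike.GradedOne.one_mem (by simp) h1 h1
  haveI := P.isIso_homOfTop
  exact ⟨TwistIso.twistIsoTilde 𝒜 0 ≪≫
    (asIso (Groth.Agent.Lead.LocLift.homOfTop (GrTilde.tilde 𝒜 𝒜 0) P.eΓ)).symm⟩

/-- `O(n) ≅ O(1)^{⊗ n}` -/
theorem nonempty_twist_iso_tensorPow (hcov : (⨆ f : 𝒜 1, Proj.basicOpen 𝒜 (f : A)) = ⊤)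
    (n : ℕ) : Nonempty (Twist.twist 𝒜 (n : ℤ) ≅ CohB1.tensorPow (Twist.twist 𝒜 1) n) := by
  induction n with
  | zero => exact nonempty_twist_zero_iso 𝒜
  | succ n ih =>
    obtain ⟨e⟩ := ih
    obtain ⟨e'⟩ := nonempty_twist_tensor_twist_iso 𝒜 hcov (n : ℤ) 1 ((n + 1 : ℕ) : ℤ)
      (by push_cast; ring)
    exact ⟨e'.symm ≪≫ PicGrp.tensorModIso e (Iso.refl _)⟩

end Groth.Agent.Helper1.TwistMul
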