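import Mathlib
import Groth.Prelude.Def_GrMod2
import Groth.Agent.Helper1.TwistMul6
import Groth.Agent.Helper4.AmpleBasis

set_option autoImplicit false
set_option linter.unusedSectionVars false

/-!
# Variants: general covers by opens carrying invertible sections; generators of arbitrary degrees
-/

namespace Groth.Agent.Helper1.TwistMul

open CategoryTheory AlgebraicGeometry TopologicalSpace Opposite
open Groth.Agent.Helper1.GrT Groth.Agent.Helper1.ProjO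
open Groth.Agent.Helper4.TensorLift

universe u

variable {R A : Type u} [CommRing R] [CommRing A] [Algebra R A] (𝒜 : ℕ → Submodule R A)
  [GradedAlgebra 𝒜]

theorem nonempty_twist_tensor_twist_iso_right (m n k : ℤ) (hk : k = m + n)
    (hcov : ∀ p : Proj 𝒜, ∃ W : (Proj 𝒜).Opens, p ∈ W ∧ Nonempty (InvPair 𝒜 n W)) :
    Nonempty (CohB1.tensorMod (Twist.twist 𝒜 m) (Twist.twist 𝒜 n) ≅ Twist.twist 𝒜 k) :=
  ⟨PicGrp.tensorModIso (TwistIso.twistIsoTilde 𝒜 m) (TwistIso.twistIsoTilde 𝒜 n) ≪≫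
    tensorIso 𝒜 𝒜 m n k hk hcov ≪≫ (TwistIso.twistIsoTilde 𝒜 k).symm⟩

theorem nonempty_twist_tensor_twist_iso_left (m n k : ℤ) (hk : k = m + n)
    (hcov : ∀ p : Proj 𝒜, ∃ W : (Proj 𝒜).Opens, p ∈ W ∧ Nonempty (InvPair 𝒜 m W)) :
    Nonempty (CohB1.tensorMod (Twist.twist 𝒜 m) (Twist.twist 𝒜 n) ≅ Twist.twist 𝒜 k) := by
  obtain ⟨e⟩ := nonempty_twist_tensor_twist_iso_right 𝒜 n m k (by omega) hcov
  exact ⟨Groth.Agent.Helper4.AmpleBasis.braidIso _ _ ≪≫ e⟩

/-- `Proj` is covered by the `D₊(f i)` when the `f i` generate the algebra -/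
theorem iSup_basicOpen_eq_top_of_adjoin {ι : Type*} (f : ι → A) (deg : ι → ℕ)
    (hf : ∀ i, f i ∈ 𝒜 (deg i)) (hgen : Algebra.adjoin R (Set.range f) = ⊤) :
    (⨆ i, Proj.basicOpen 𝒜 (f i)) = ⊤ := by
  apply Proj.iSup_basicOpen_eq_top' 𝒜 f (fun i => ⟨deg i, hf i⟩)
  rw [eq_top_iff]
  intro x hx0
  clear hx0
  have hx : x ∈ Algebra.adjoin R (Set.range f) := by rw [hgen]; trivial
  induction hx using Algebra.adjoin_induction with
  | mem x hx => exact Algebra.subset_adjoin hx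
  | algebraMap r =>
    have : algebraMap R A r = algebraMap (𝒜 0) A ⟨algebraMap R A r,
        SetLike.algebraMap_mem_graded 𝒜 r⟩ := rfl
    rw [this]
    exact Subalgebra.algebraMap_mem _ _
  | add x y _ _ hx hy => exact Subalgebra.add_mem _ hx hy
  | mul x y _ _ hx hy => exact Subalgebra.mul_mem _ hx hy

/-- an invertible section of degree `a * lcm` on each `D₊(f i)` -/
theorem cover_of_lcm {s : ℕ} (f : Fin s → A) (deg : Fin s → ℕ)
    (hf : ∀ i, f i ∈ 𝒜 (deg i)) (hgen : Algebra.adjoin R (Set.range f) = ⊤) (a : ℤ)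
    (p : Proj 𝒜) : ∃ W : (Proj 𝒜).Opens, p ∈ W ∧
      Nonempty (InvPair 𝒜 (a * (Finset.univ.lcm deg : ℕ)) W) := by
  have hp : p ∈ (⨆ i, Proj.basicOpen 𝒜 (f i)) := by
    rw [iSup_basicOpen_eq_top_of_adjoin 𝒜 f deg hf hgen]; trivial
  obtain ⟨i, hi⟩ := Opens.mem_iSup.mp hp
  refine ⟨Proj.basicOpen 𝒜 (f i), hi, ?_⟩
  obtain ⟨c, hc⟩ : deg i ∣ Finset.univ.lcm deg := Finset.dvd_lcm (Finset.mem_univ i)
  have h := nonempty_invPair_of_le_basicOpen 𝒜 (Proj.basicOpen 𝒜 (f i)) (f i) (hf i) le_rfl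
    (a * c)
  have e : a * (c : ℤ) * (deg i : ℤ) = a * (Finset.univ.lcm deg : ℕ) := by
    rw [hc]; push_cast; ring
  rwa [e] at h

end Groth.Agent.Helper1.TwistMul
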