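import Mathlib
import Groth.Agent.Helper1.Segre1
import Groth.Agent.Helper1.TwistMul7

/-!
# The Segre embedding, part 2: the local data on `P^n ×_R P^m`
-/

set_option autoImplicit false
set_option linter.style.haveILetI false

namespace Groth.Agent.Helper1.Segre

open CategoryTheory Limits AlgebraicGeometry HomogeneousLocalization
open Groth.Agent.Helper1.ProjMor

universe u

section General

variable {σ : Type*} {A : Type u} [CommRing A] [SetLike σ A] [AddSubgroupClass σ A]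
variable (𝒜 : ℕ → σ) [GradedRing 𝒜]

theorem range_ι_comp_subset {Y Z : Scheme.{u}} (f : Y ⟶ Z) (U : Z.Opens) (W' : Y.Opens)
    (h : W' ≤ f ⁻¹ᵁ U) : Set.range (W'.ι ≫ f) ⊆ (U : Set Z) := by
  rintro _ ⟨y, rfl⟩
  exact h y.2

theorem pullFun_congr_hom {Y : Scheme.{u}} {g g' : Y ⟶ Proj 𝒜} (e : g = g') {t : A} {d : ℕ}
    (ht : t ∈ 𝒜 d) (hd : 0 < d) (hg : Set.range g ⊆ (Proj.basicOpen 𝒜 t : Set (Proj 𝒜)))
    (hg' : Set.range g' ⊆ (Proj.basicOpen 𝒜 t : Set (Proj 𝒜))) :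
    pullFun 𝒜 g ht hd hg = pullFun 𝒜 g' ht hd hg' := by
  subst e
  rfl

theorem pullFun_awayMap' {Y : Scheme.{u}} (g : Y ⟶ Proj 𝒜) {t s x : A} {d e : ℕ}
    (ht : t ∈ 𝒜 d) (hd : 0 < d)
    (hg : Set.range g ⊆ (Proj.basicOpen 𝒜 t : Set (Proj 𝒜)))
    (hs : s ∈ 𝒜 e) (hx : x = t * s) (hxm : x ∈ 𝒜 (d + e))
    (hg' : Set.range g ⊆ (Proj.basicOpen 𝒜 x : Set (Proj 𝒜))) :
    (pullFun 𝒜 g hxm (hd.trans_le (d.le_add_right e)) hg').comp (awayMap 𝒜 hs hx) =
      pullFun 𝒜 g ht hd hg := by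
  subst hx
  exact pullFun_awayMap 𝒜 g ht hd hg hs hg'

end General

variable (R : Type u) [CommRing R] (n m : ℕ)

/-- the product of two projective spaces over `R` -/
noncomputable abbrev PP : Scheme.{u} :=
  pullback (CohB1.ProjSpace.toSpec n R) (CohB1.ProjSpace.toSpec m R)

/-- the first projection, as a morphism to `Proj` -/
noncomputable def p₁ : PP R n m ⟶ Proj (CohB1.polyGrading n R) :=
  pullback.fst (CohB1.ProjSpace.toSpec n R) (CohB1.ProjSpace.toSpec m R)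

/-- the second projection, as a morphism to `Proj` -/
noncomputable def p₂ : PP R n m ⟶ Proj (CohB1.polyGrading m R) :=
  pullback.snd (CohB1.ProjSpace.toSpec n R) (CohB1.ProjSpace.toSpec m R)

/-- the structure morphism of the product -/
noncomputable def qq : PP R n m ⟶ Spec (CommRingCat.of R) :=
  pullback.fst (CohB1.ProjSpace.toSpec n R) (CohB1.ProjSpace.toSpec m R) ≫
    CohB1.ProjSpace.toSpec n R

variable {R} in
theorem hX {k : ℕ} (i : Fin (k + 1)) :
    (MvPolynomial.X i : MvPolynomial (Fin (k + 1)) R) ∈ CohB1.polyGrading k R 1 :=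
  MvPolynomial.isHomogeneous_X R i

theorem iSup_basicOpen_X (k : ℕ) :
    (⨆ i : Fin (k + 1), Proj.basicOpen (CohB1.polyGrading k R)
      (MvPolynomial.X i : MvPolynomial (Fin (k + 1)) R)) = ⊤ :=
  Groth.Agent.Helper1.TwistMul.iSup_basicOpen_eq_top_of_adjoin (CohB1.polyGrading k R)
    (fun i : Fin (k + 1) => (MvPolynomial.X i : MvPolynomial (Fin (k + 1)) R)) (fun _ => 1)
    (fun i => hX i) MvPolynomial.adjoin_range_X

/-- the standard opens of the product -/
noncomputable def W (e : Fin (n + 1) × Fin (m + 1)) : (PP R n m).Opens :=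
  p₁ R n m ⁻¹ᵁ Proj.basicOpen (CohB1.polyGrading n R) (MvPolynomial.X e.1) ⊓
    p₂ R n m ⁻¹ᵁ Proj.basicOpen (CohB1.polyGrading m R) (MvPolynomial.X e.2)

theorem isOpenCover_W : TopologicalSpace.IsOpenCover (W R n m) := by
  rw [TopologicalSpace.IsOpenCover, eq_top_iff]
  intro x _
  have h1 : p₁ R n m x ∈ (⨆ i : Fin (n + 1), Proj.basicOpen (CohB1.polyGrading n R)
      (MvPolynomial.X i : MvPolynomial (Fin (n + 1)) R)) := by
    rw [iSup_basicOpen_X]; trivial
  have h2 : p₂ R n m x ∈ (⨆ i : Fin (m + 1), Proj.basicOpen (CohB1.polyGrading m R)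
      (MvPolynomial.X i : MvPolynomial (Fin (m + 1)) R)) := by
    rw [iSup_basicOpen_X]; trivial
  rw [TopologicalSpace.Opens.mem_iSup] at h1 h2 ⊢
  obtain ⟨i, hi⟩ := h1
  obtain ⟨j, hj⟩ := h2
  exact ⟨(i, j), hi, hj⟩

end Groth.Agent.Helper1.Segre
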