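import Mathlib
import Groth.Agent.Helper1.Segre2

/-!
# The Segre embedding, part 3: pulled back ratios on opens
-/

set_option autoImplicit false
set_option linter.style.haveILetI false

namespace Groth.Agent.Helper1.Segre

open CategoryTheory Limits AlgebraicGeometry HomogeneousLocalization
open Groth.Agent.Helper1.ProjMor

universe u

section General

variable {σ : Type*} {A : Type u} [CommRing A] [SetLike σ A] [AddSubgroupClass σ A]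
variable (𝒜 : ℕ → σ) [GradedRing 𝒜]
variable {Y : Scheme.{u}} (f : Y ⟶ Proj 𝒜)

/-- functions on an open `W'` of `Y` pulled back from `D₊(t)` along `f` -/
noncomputable def pf (W' : Y.Opens) {t : A} {d : ℕ} (ht : t ∈ 𝒜 d) (hd : 0 < d)
    (h : W' ≤ f ⁻¹ᵁ Proj.basicOpen 𝒜 t) : Away 𝒜 t →+* Γ((W' : Scheme.{u}), ⊤) :=
  pullFun 𝒜 (W'.ι ≫ f) ht hd (range_ι_comp_subset f _ W' h)

theorem pf_res {W' W'' : Y.Opens} (hle : W'' ≤ W') {t : A} {d : ℕ} (ht : t ∈ 𝒜 d) (hd : 0 < d)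
    (h : W' ≤ f ⁻¹ᵁ Proj.basicOpen 𝒜 t) :
    (Y.homOfLE hle).appTop.hom.comp (pf 𝒜 f W' ht hd h) = pf 𝒜 f W'' ht hd (hle.trans h) := by
  unfold pf
  have h1 : Set.range (Y.homOfLE hle ≫ W'.ι ≫ f) ⊆ (Proj.basicOpen 𝒜 t : Set (Proj 𝒜)) := by
    rw [Scheme.homOfLE_ι_assoc]
    exact range_ι_comp_subset f _ W'' (hle.trans h)
  rw [← pullFun_comp 𝒜 (W'.ι ≫ f) ht hd _ (Y.homOfLE hle) h1]
  exact pullFun_congr_hom 𝒜 (Scheme.homOfLE_ι_assoc Y hle f) ht hd _ _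

theorem pf_awayMap (W' : Y.Opens) {t s x : A} {d e : ℕ} (ht : t ∈ 𝒜 d) (hd : 0 < d)
    (h : W' ≤ f ⁻¹ᵁ Proj.basicOpen 𝒜 t) (hs : s ∈ 𝒜 e) (hx : x = t * s) (hxm : x ∈ 𝒜 (d + e))
    (h' : W' ≤ f ⁻¹ᵁ Proj.basicOpen 𝒜 x) :
    (pf 𝒜 f W' hxm (hd.trans_le (d.le_add_right e)) h').comp (awayMap 𝒜 hs hx) =
      pf 𝒜 f W' ht hd h :=
  pullFun_awayMap' 𝒜 (W'.ι ≫ f) ht hd _ hs hx hxm _

theorem pf_basicOpen (W' : Y.Opens) {t s : A} {d e : ℕ} (ht : t ∈ 𝒜 d) (hd : 0 < d)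
    (h : W' ≤ f ⁻¹ᵁ Proj.basicOpen 𝒜 t) (hs : s ∈ 𝒜 e) (he : 0 < e) :
    (W' : Scheme.{u}).basicOpen (pf 𝒜 f W' ht hd h (Away.isLocalizationElem ht hs)) =
      W'.ι ⁻¹ᵁ (f ⁻¹ᵁ Proj.basicOpen 𝒜 s) := by
  rw [← Scheme.Hom.comp_preimage]
  exact (preimage_basicOpen_eq 𝒜 (W'.ι ≫ f) ht hd _ hs he).symm

variable (W₂ : Y.Opens) {t t' s : A} (ht : t ∈ 𝒜 1) (ht' : t' ∈ 𝒜 1) (hs : s ∈ 𝒜 1)
  (h : W₂ ≤ f ⁻¹ᵁ Proj.basicOpen 𝒜 t) (h' : W₂ ≤ f ⁻¹ᵁ Proj.basicOpen 𝒜 t')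

include h h' in
theorem le_preimage_mul : W₂ ≤ f ⁻¹ᵁ Proj.basicOpen 𝒜 (t * t') := by
  rw [Proj.basicOpen_mul]
  exact le_inf h h'

/-- the cocycle relation for pulled back ratios -/
theorem pf_ratio_cocycle :
    pf 𝒜 f W₂ ht' one_pos h' (ratio 𝒜 ht' hs) =
      pf 𝒜 f W₂ ht' one_pos h' (ratio 𝒜 ht' ht) * pf 𝒜 f W₂ ht one_pos h (ratio 𝒜 ht hs) := by
  have hm := le_preimage_mul 𝒜 f W₂ h h'
  have e1 := pf_awayMap 𝒜 f W₂ ht one_pos h ht' rfl (SetLike.mul_mem_graded ht ht') hm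
  have e2 := pf_awayMap 𝒜 f W₂ ht' one_pos h' ht (mul_comm t t')
    (SetLike.mul_mem_graded ht ht') hm
  rw [← e1, ← e2]
  simp only [RingHom.comp_apply]
  rw [ratio_cocycle 𝒜 ht ht' hs, map_mul]

theorem pf_ratio_mul_inv :
    pf 𝒜 f W₂ ht' one_pos h' (ratio 𝒜 ht' ht) * pf 𝒜 f W₂ ht one_pos h (ratio 𝒜 ht ht') = 1 := by
  have hm := le_preimage_mul 𝒜 f W₂ h h'
  have e1 := pf_awayMap 𝒜 f W₂ ht one_pos h ht' rfl (SetLike.mul_mem_graded ht ht') hm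
  have e2 := pf_awayMap 𝒜 f W₂ ht' one_pos h' ht (mul_comm t t')
    (SetLike.mul_mem_graded ht ht') hm
  rw [← e1, ← e2]
  simp only [RingHom.comp_apply]
  rw [← map_mul, ratio_mul_inv 𝒜 ht ht', map_one]

end General

end Groth.Agent.Helper1.Segre
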