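import Mathlib
import Groth.Agent.Helper1.Segre3

/-!
# The Segre embedding, part 4: the gluing data on `P^n ×_R P^m`
-/

set_option autoImplicit false
set_option linter.style.haveILetI false

namespace Groth.Agent.Helper1.Segre

open CategoryTheory Limits AlgebraicGeometry HomogeneousLocalization
open Groth.Agent.Helper1.ProjMor

universe u

variable (R : Type u) [CommRing R] (n m : ℕ)

/-- the index bijection -/
def idx : Fin (n + 1) × Fin (m + 1) ≃ Fin (n * m + n + m + 1) :=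
  finProdFinEquiv.trans (finCongr (by ring))

theorem W_le₁ (e : Fin (n + 1) × Fin (m + 1)) :
    W R n m e ≤ p₁ R n m ⁻¹ᵁ Proj.basicOpen (CohB1.polyGrading n R) (MvPolynomial.X e.1) :=
  inf_le_left

theorem W_le₂ (e : Fin (n + 1) × Fin (m + 1)) :
    W R n m e ≤ p₂ R n m ⁻¹ᵁ Proj.basicOpen (CohB1.polyGrading m R) (MvPolynomial.X e.2) :=
  inf_le_right

/-- the functions `X_k / X_i` on `W (i, j)` -/
noncomputable def aa (e : Fin (n + 1) × Fin (m + 1)) (k : Fin (n + 1)) :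
    Γ((W R n m e : Scheme.{u}), ⊤) :=
  pf (CohB1.polyGrading n R) (p₁ R n m) (W R n m e) (hX e.1) one_pos (W_le₁ R n m e)
    (ratio (CohB1.polyGrading n R) (hX e.1) (hX k))

/-- the functions `Y_l / Y_j` on `W (i, j)` -/
noncomputable def bb (e : Fin (n + 1) × Fin (m + 1)) (l : Fin (m + 1)) :
    Γ((W R n m e : Scheme.{u}), ⊤) :=
  pf (CohB1.polyGrading m R) (p₂ R n m) (W R n m e) (hX e.2) one_pos (W_le₂ R n m e)
    (ratio (CohB1.polyGrading m R) (hX e.2) (hX l))

/-- the functions `X_k Y_l / X_i Y_j` on `W (i, j)` -/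
noncomputable def vv (e : Fin (n + 1) × Fin (m + 1)) (κ : Fin (n * m + n + m + 1)) :
    Γ((W R n m e : Scheme.{u}), ⊤) :=
  aa R n m e ((idx n m).symm κ).1 * bb R n m e ((idx n m).symm κ).2

/-- the local ring maps of the Segre embedding -/
noncomputable def ψψ (e : Fin (n + 1) × Fin (m + 1)) :
    MvPolynomial (Fin (n * m + n + m + 1)) R →+* Γ((W R n m e : Scheme.{u}), ⊤) :=
  MvPolynomial.eval₂Hom (ProjUP.toGlobal ((W R n m e).ι ≫ qq R n m)) (vv R n m e)

theorem ψψ_X (e : Fin (n + 1) × Fin (m + 1)) (κ : Fin (n * m + n + m + 1)) :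
    ψψ R n m e (MvPolynomial.X κ) = vv R n m e κ := by
  unfold ψψ
  rw [MvPolynomial.coe_eval₂Hom, MvPolynomial.eval₂_X]

theorem ψψ_X_idx (e e' : Fin (n + 1) × Fin (m + 1)) :
    ψψ R n m e' (MvPolynomial.X (idx n m e)) = aa R n m e' e.1 * bb R n m e' e.2 := by
  rw [ψψ_X]
  unfold vv
  rw [Equiv.symm_apply_apply]

theorem aa_self (e : Fin (n + 1) × Fin (m + 1)) : aa R n m e e.1 = 1 := by
  unfold aa
  rw [ratio_self, map_one]

theorem bb_self (e : Fin (n + 1) × Fin (m + 1)) : bb R n m e e.2 = 1 := by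
  unfold bb
  rw [ratio_self, map_one]

theorem hunit (e : Fin (n + 1) × Fin (m + 1)) :
    IsUnit (ψψ R n m e (MvPolynomial.X (idx n m e))) := by
  rw [ψψ_X_idx, aa_self, bb_self, mul_one]
  exact isUnit_one

theorem hpre (e e' : Fin (n + 1) × Fin (m + 1)) :
    (W R n m e' : Scheme.{u}).basicOpen (ψψ R n m e' (MvPolynomial.X (idx n m e))) =
      (W R n m e').ι ⁻¹ᵁ (W R n m e) := by
  rw [ψψ_X_idx, Scheme.basicOpen_mul]
  unfold aa bb
  rw [pf_basicOpen _ _ _ _ _ _ _ one_pos, pf_basicOpen _ _ _ _ _ _ _ one_pos]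
  rfl

end Groth.Agent.Helper1.Segre
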