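import Mathlib
import Groth.Agent.Helper1.Segre4

/-!
# The Segre embedding, part 5: compatibility of the gluing data
-/

set_option autoImplicit false
set_option linter.style.haveILetI false

namespace Groth.Agent.Helper1.Segre

open CategoryTheory Limits AlgebraicGeometry HomogeneousLocalization
open Groth.Agent.Helper1.ProjMor

universe u

variable (R : Type u) [CommRing R] (n m : ℕ)

theorem res_aa (e e' : Fin (n + 1) × Fin (m + 1)) (k : Fin (n + 1)) :
    ((PP R n m).homOfLE (inf_le_right : W R n m e ⊓ W R n m e' ≤ W R n m e')).appTop.hom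
        (aa R n m e' k) =
      ((PP R n m).homOfLE (inf_le_right : W R n m e ⊓ W R n m e' ≤ W R n m e')).appTop.hom
        (aa R n m e' e.1) *
      ((PP R n m).homOfLE (inf_le_left : W R n m e ⊓ W R n m e' ≤ W R n m e)).appTop.hom
        (aa R n m e k) := by
  unfold aa
  have h1 := fun x => congrArg (fun φ => φ x) (pf_res (CohB1.polyGrading n R) (p₁ R n m)
    (inf_le_right : W R n m e ⊓ W R n m e' ≤ W R n m e') (hX e'.1) one_pos (W_le₁ R n m e'))
  have h2 := fun x => congrArg (fun φ => φ x) (pf_res (CohB1.polyGrading n R) (p₁ R n m)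
    (inf_le_left : W R n m e ⊓ W R n m e' ≤ W R n m e) (hX e.1) one_pos (W_le₁ R n m e))
  simp only [RingHom.comp_apply] at h1 h2
  rw [h1, h1, h2]
  exact pf_ratio_cocycle (CohB1.polyGrading n R) (p₁ R n m) (W R n m e ⊓ W R n m e')
    (hX e.1) (hX e'.1) (hX k) _ _

theorem res_bb (e e' : Fin (n + 1) × Fin (m + 1)) (l : Fin (m + 1)) :
    ((PP R n m).homOfLE (inf_le_right : W R n m e ⊓ W R n m e' ≤ W R n m e')).appTop.hom
        (bb R n m e' l) =
      ((PP R n m).homOfLE (inf_le_right : W R n m e ⊓ W R n m e' ≤ W R n m e')).appTop.hom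
        (bb R n m e' e.2) *
      ((PP R n m).homOfLE (inf_le_left : W R n m e ⊓ W R n m e' ≤ W R n m e)).appTop.hom
        (bb R n m e l) := by
  unfold bb
  have h1 := fun x => congrArg (fun φ => φ x) (pf_res (CohB1.polyGrading m R) (p₂ R n m)
    (inf_le_right : W R n m e ⊓ W R n m e' ≤ W R n m e') (hX e'.2) one_pos (W_le₂ R n m e'))
  have h2 := fun x => congrArg (fun φ => φ x) (pf_res (CohB1.polyGrading m R) (p₂ R n m)
    (inf_le_left : W R n m e ⊓ W R n m e' ≤ W R n m e) (hX e.2) one_pos (W_le₂ R n m e))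
  simp only [RingHom.comp_apply] at h1 h2
  rw [h1, h1, h2]
  exact pf_ratio_cocycle (CohB1.polyGrading m R) (p₂ R n m) (W R n m e ⊓ W R n m e')
    (hX e.2) (hX e'.2) (hX l) _ _

theorem isUnit_res_aa (e e' : Fin (n + 1) × Fin (m + 1)) :
    IsUnit (((PP R n m).homOfLE (inf_le_right : W R n m e ⊓ W R n m e' ≤ W R n m e')).appTop.hom
        (aa R n m e' e.1)) := by
  unfold aa
  have h1 := fun x => congrArg (fun φ => φ x) (pf_res (CohB1.polyGrading n R) (p₁ R n m)
    (inf_le_right : W R n m e ⊓ W R n m e' ≤ W R n m e') (hX e'.1) one_pos (W_le₁ R n m e'))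
  simp only [RingHom.comp_apply] at h1
  rw [h1]
  exact IsUnit.of_mul_eq_one _ (pf_ratio_mul_inv (CohB1.polyGrading n R) (p₁ R n m)
    (W R n m e ⊓ W R n m e') (hX e.1) (hX e'.1) (inf_le_left.trans (W_le₁ R n m e))
    (inf_le_right.trans (W_le₁ R n m e')))

theorem isUnit_res_bb (e e' : Fin (n + 1) × Fin (m + 1)) :
    IsUnit (((PP R n m).homOfLE (inf_le_right : W R n m e ⊓ W R n m e' ≤ W R n m e')).appTop.hom
        (bb R n m e' e.2)) := by
  unfold bb
  have h1 := fun x => congrArg (fun φ => φ x) (pf_res (CohB1.polyGrading m R) (p₂ R n m)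
    (inf_le_right : W R n m e ⊓ W R n m e' ≤ W R n m e') (hX e'.2) one_pos (W_le₂ R n m e'))
  simp only [RingHom.comp_apply] at h1
  rw [h1]
  exact IsUnit.of_mul_eq_one _ (pf_ratio_mul_inv (CohB1.polyGrading m R) (p₂ R n m)
    (W R n m e ⊓ W R n m e') (hX e.2) (hX e'.2) (inf_le_left.trans (W_le₂ R n m e))
    (inf_le_right.trans (W_le₂ R n m e')))

theorem hcompat (e e' : Fin (n + 1) × Fin (m + 1)) :
    ∃ u : Γ((W R n m e ⊓ W R n m e' : (PP R n m).Opens), ⊤), IsUnit u ∧
    ∀ (k : ℕ) (a : MvPolynomial (Fin (n * m + n + m + 1)) R),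
      a ∈ CohB1.polyGrading (n * m + n + m) R k →
      ((PP R n m).homOfLE (inf_le_right : W R n m e ⊓ W R n m e' ≤ W R n m e')).appTop.hom
          (ψψ R n m e' a) =
        u ^ k * ((PP R n m).homOfLE (inf_le_left : W R n m e ⊓ W R n m e' ≤ W R n m e)).appTop.hom
          (ψψ R n m e a) := by
  refine ⟨((PP R n m).homOfLE (inf_le_right : W R n m e ⊓ W R n m e' ≤ W R n m e')).appTop.hom
        (aa R n m e' e.1) *
      ((PP R n m).homOfLE (inf_le_right : W R n m e ⊓ W R n m e' ≤ W R n m e')).appTop.hom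
        (bb R n m e' e.2), (isUnit_res_aa R n m e e').mul (isUnit_res_bb R n m e e'), ?_⟩
  intro k a ha
  unfold ψψ
  rw [MvPolynomial.map_eval₂Hom, MvPolynomial.map_eval₂Hom,
    ← toGlobal_comp, ← toGlobal_comp, Scheme.homOfLE_ι_assoc, Scheme.homOfLE_ι_assoc,
    ← eval₂Hom_smul_of_isHomogeneous _ _ _ a k ha]
  congr 2
  funext κ
  unfold vv
  rw [map_mul, map_mul, res_aa R n m e e', res_bb R n m e e']
  ring

end Groth.Agent.Helper1.Segre
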