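import Mathlib
import Groth.Agent.Helper1.Segre5

/-!
# The Segre embedding, part 6: products of affine opens
-/

set_option autoImplicit false
set_option linter.style.haveILetI false

namespace Groth.Agent.Helper1.Segre

open CategoryTheory Limits AlgebraicGeometry HomogeneousLocalization
open Groth.Agent.Helper1.ProjMor

universe u

/-- a pushout of commutative rings is generated by the images of the two legs -/
theorem subring_eq_top_of_isPushout {A B C P : CommRingCat.{u}} {f : A ⟶ B} {g : A ⟶ C}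
    {inl : B ⟶ P} {inr : C ⟶ P} (h : IsPushout f g inl inr) (T : Subring P)
    (hl : ∀ b, inl.hom b ∈ T) (hr : ∀ c, inr.hom c ∈ T) : T = ⊤ := by
  let inl' : B ⟶ CommRingCat.of T := CommRingCat.ofHom (inl.hom.codRestrict T hl)
  let inr' : C ⟶ CommRingCat.of T := CommRingCat.ofHom (inr.hom.codRestrict T hr)
  let ι : CommRingCat.of T ⟶ P := CommRingCat.ofHom T.subtype
  have hι : Mono ι :=
    ConcreteCategory.mono_of_injective _ Subtype.val_injective
  have w : f ≫ inl' = g ≫ inr' := by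
    rw [← cancel_mono ι]
    exact h.w
  let d : P ⟶ CommRingCat.of T := h.desc inl' inr' w
  have hd : d ≫ ι = 𝟙 P := by
    apply h.hom_ext
    · rw [← Category.assoc, h.inl_desc, Category.comp_id]; rfl
    · rw [← Category.assoc, h.inr_desc, Category.comp_id]; rfl
  rw [eq_top_iff]
  intro x _
  have h1 : ι.hom (d.hom x) = x := by
    have := congrArg (fun φ => φ.hom x) hd
    simpa using this
  rw [← h1]
  exact (d.hom x).2

variable {X Y S U₁ U₂ : Scheme.{u}} (f : X ⟶ S) (g : Y ⟶ S) (i₁ : U₁ ⟶ X) (i₂ : U₂ ⟶ Y)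
  [IsOpenImmersion i₁] [IsOpenImmersion i₂] [IsAffine S] [IsAffine U₁] [IsAffine U₂]
  (W' : (pullback f g).Opens)
  (hW : (W' : Set ↥(pullback f g)) =
    pullback.fst f g ⁻¹' Set.range i₁ ∩ pullback.snd f g ⁻¹' Set.range i₂)

/-- the open immersion from the product of the affine opens -/
noncomputable abbrev μμ : pullback (i₁ ≫ f) (i₂ ≫ g) ⟶ pullback f g :=
  pullback.map (i₁ ≫ f) (i₂ ≫ g) f g i₁ i₂ (𝟙 S) (by simp) (by simp)

include hW in
theorem opensRange_μμ : (μμ f g i₁ i₂).opensRange = W' := by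
  apply TopologicalSpace.Opens.ext
  rw [Scheme.Hom.coe_opensRange, hW]
  exact Scheme.Pullback.range_map _ _ _ _ _ _ _ _ _

include hW in
theorem isAffineOpen_of_range : IsAffineOpen W' := by
  rw [← opensRange_μμ f g i₁ i₂ W' hW]
  exact isAffineOpen_opensRange _

include hW in
/-- the sections over the product of two affine opens are generated by the two factors -/
theorem subring_eq_top_of_range (a : (W' : Scheme.{u}) ⟶ U₁) (b : (W' : Scheme.{u}) ⟶ U₂)
    (ha : a ≫ i₁ = W'.ι ≫ pullback.fst f g) (hb : b ≫ i₂ = W'.ι ≫ pullback.snd f g)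
    (T : Subring Γ((W' : Scheme.{u}), ⊤))
    (hl : ∀ x, a.appTop.hom x ∈ T) (hr : ∀ x, b.appTop.hom x ∈ T) : T = ⊤ := by
  have hr' : Set.range (μμ f g i₁ i₂) = Set.range W'.ι := by
    rw [Scheme.Opens.range_ι]
    have := opensRange_μμ f g i₁ i₂ W' hW
    rw [← this]
    rfl
  let iso : pullback (i₁ ≫ f) (i₂ ≫ g) ≅ (W' : Scheme.{u}) :=
    IsOpenImmersion.isoOfRangeEq (μμ f g i₁ i₂) W'.ι hr'
  have hiso : iso.hom ≫ W'.ι = μμ f g i₁ i₂ := IsOpenImmersion.isoOfRangeEq_hom_fac _ _ _
  have h1 : iso.hom ≫ a = pullback.fst (i₁ ≫ f) (i₂ ≫ g) := by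
    rw [← cancel_mono i₁, Category.assoc, ha, reassoc_of% hiso]
    exact pullback.lift_fst _ _ _
  have h2 : iso.hom ≫ b = pullback.snd (i₁ ≫ f) (i₂ ≫ g) := by
    rw [← cancel_mono i₂, Category.assoc, hb, reassoc_of% hiso]
    exact pullback.lift_snd _ _ _
  have hpb : IsPullback a b (i₁ ≫ f) (i₂ ≫ g) :=
    IsPullback.of_iso (IsPullback.of_hasPullback (i₁ ≫ f) (i₂ ≫ g)) iso (Iso.refl _) (Iso.refl _)
      (Iso.refl _) (by simpa using h1.symm) (by simpa using h2.symm) (by simp) (by simp)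
  exact subring_eq_top_of_isPushout (isPushout_appTop_of_isPullback hpb) T hl hr

end Groth.Agent.Helper1.Segre
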