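import Mathlib
import Groth.Agent.Helper1.Segre6

/-!
# The Segre embedding, part 7: generators of the standard affine charts of projective space
-/

set_option autoImplicit false
set_option linter.style.haveILetI false

namespace Groth.Agent.Helper1.Segre

open CategoryTheory Limits AlgebraicGeometry HomogeneousLocalization
open Groth.Agent.Helper1.ProjMor

universe u

section General

variable {σ : Type*} {A : Type u} [CommRing A] [SetLike σ A] [AddSubgroupClass σ A]
variable (𝒜 : ℕ → σ) [GradedRing 𝒜]

theorem pullFun_fromZero {Y : Scheme.{u}} (g : Y ⟶ Proj 𝒜) {t : A} {d : ℕ} (ht : t ∈ 𝒜 d)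
    (hd : 0 < d) (hg : Set.range g ⊆ (Proj.basicOpen 𝒜 t : Set (Proj 𝒜))) (a : 𝒜 0) :
    pullFun 𝒜 g ht hd hg (fromZeroRingHom 𝒜 (Submonoid.powers t) a) =
      ProjUP.toGlobal (g ≫ Proj.toSpecZero 𝒜) a := by
  have h1 : g ≫ Proj.toSpecZero 𝒜 = liftAway 𝒜 g ht hd hg ≫
      Spec.map (CommRingCat.ofHom (fromZeroRingHom 𝒜 (Submonoid.powers t))) := by
    rw [← Proj.awayι_toSpecZero 𝒜 t ht hd, liftAway_fac_assoc]
  rw [h1, toGlobal_comp_SpecMap]
  rfl

end General

variable (R : Type u) [CommRing R]

/-- dehomogenization -/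
noncomputable def dehom (k : ℕ) (i : Fin (k + 1)) :
    MvPolynomial (Fin (k + 1)) R →+* Away (CohB1.polyGrading k R) (MvPolynomial.X i) :=
  MvPolynomial.eval₂Hom
    ((fromZeroRingHom (CohB1.polyGrading k R) (Submonoid.powers (MvPolynomial.X i))).comp
      (algebraMap R (CohB1.polyGrading k R 0)))
    (fun l => ratio (CohB1.polyGrading k R) (hX i) (hX l))

theorem mk_eq_dehom (k : ℕ) (i : Fin (k + 1)) (n : ℕ) (a : MvPolynomial (Fin (k + 1)) R)
    (ha : a ∈ CohB1.polyGrading k R (n • 1)) :
    Away.mk (CohB1.polyGrading k R) (hX i) n a ha = dehom R k i a := by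
  apply HomogeneousLocalization.val_injective
  have h0 : (dehom R k i a).val =
      algebraMap (Away (CohB1.polyGrading k R) (MvPolynomial.X i))
        (Localization.Away (MvPolynomial.X i : MvPolynomial (Fin (k + 1)) R)) (dehom R k i a) :=
    (HomogeneousLocalization.algebraMap_apply _).symm
  rw [h0, Away.val_mk]
  unfold dehom
  rw [MvPolynomial.map_eval₂Hom]
  set u : Localization.Away (MvPolynomial.X i : MvPolynomial (Fin (k + 1)) R) :=
    Localization.mk 1 ⟨MvPolynomial.X i, Submonoid.mem_powers _⟩ with hu
  have h1 : (fun l : Fin (k + 1) =>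
      algebraMap (Away (CohB1.polyGrading k R) (MvPolynomial.X i))
        (Localization.Away (MvPolynomial.X i : MvPolynomial (Fin (k + 1)) R))
        (ratio (CohB1.polyGrading k R) (hX i) (hX l))) =
      fun l => u * algebraMap (MvPolynomial (Fin (k + 1)) R)
        (Localization.Away (MvPolynomial.X i : MvPolynomial (Fin (k + 1)) R))
        (MvPolynomial.X l) := by
    funext l
    rw [HomogeneousLocalization.algebraMap_apply, val_ratio, hu,
      ← Localization.mk_one_eq_algebraMap, Localization.mk_mul, one_mul, mul_one]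
  have hn : a.IsHomogeneous n := by simpa using ha
  rw [h1, eval₂Hom_smul_of_isHomogeneous _ _ _ a n hn]
  have h2 : MvPolynomial.eval₂Hom
      ((algebraMap (Away (CohB1.polyGrading k R) (MvPolynomial.X i))
        (Localization.Away (MvPolynomial.X i : MvPolynomial (Fin (k + 1)) R))).comp
        ((fromZeroRingHom (CohB1.polyGrading k R) (Submonoid.powers (MvPolynomial.X i))).comp
          (algebraMap R (CohB1.polyGrading k R 0))))
      (fun l => algebraMap (MvPolynomial (Fin (k + 1)) R)
        (Localization.Away (MvPolynomial.X i : MvPolynomial (Fin (k + 1)) R))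
        (MvPolynomial.X l)) =
      algebraMap (MvPolynomial (Fin (k + 1)) R)
        (Localization.Away (MvPolynomial.X i : MvPolynomial (Fin (k + 1)) R)) := by
    apply MvPolynomial.ringHom_ext
    · intro c
      rw [MvPolynomial.coe_eval₂Hom, MvPolynomial.eval₂_C]
      simp only [RingHom.comp_apply]
      rw [HomogeneousLocalization.algebraMap_apply]
      show Localization.mk _ 1 = _
      rw [Localization.mk_one_eq_algebraMap]
      rfl
    · intro l
      rw [MvPolynomial.coe_eval₂Hom, MvPolynomial.eval₂_X]
  rw [h2, hu, Localization.mk_pow, ← Localization.mk_one_eq_algebraMap, Localization.mk_mul,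
    one_pow, one_mul, mul_one]
  rfl

/-- the standard chart is generated by the ratios of the variables -/
theorem away_gen (k : ℕ) (i : Fin (k + 1))
    (T : Subring (Away (CohB1.polyGrading k R) (MvPolynomial.X i)))
    (hC : ∀ c : R, fromZeroRingHom (CohB1.polyGrading k R) (Submonoid.powers (MvPolynomial.X i))
      (algebraMap R (CohB1.polyGrading k R 0) c) ∈ T)
    (hr : ∀ l, ratio (CohB1.polyGrading k R) (hX i) (hX l) ∈ T) : T = ⊤ := by
  have h1 : ∀ a, dehom R k i a ∈ T := by
    intro a
    induction a using MvPolynomial.induction_on with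
    | C c =>
      unfold dehom
      rw [MvPolynomial.coe_eval₂Hom, MvPolynomial.eval₂_C]
      exact hC c
    | add p q hp hq => rw [map_add]; exact T.add_mem hp hq
    | mul_X p l hp =>
      rw [map_mul]
      refine T.mul_mem hp ?_
      unfold dehom
      rw [MvPolynomial.coe_eval₂Hom, MvPolynomial.eval₂_X]
      exact hr l
  rw [eq_top_iff]
  intro x _
  obtain ⟨n, a, ha, rfl⟩ := Away.mk_surjective (CohB1.polyGrading k R) (hX i) x
  rw [mk_eq_dehom]
  exact h1 a

end Groth.Agent.Helper1.Segre
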