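import Mathlib
import Groth.Agent.Helper1.Segre7

/-!
# The Segre embedding, part 8: the Segre embedding over an affine base
-/

set_option autoImplicit false
set_option linter.style.haveILetI false

namespace Groth.Agent.Helper1.Segre

open CategoryTheory Limits AlgebraicGeometry HomogeneousLocalization
open Groth.Agent.Helper1.ProjMor

universe u

variable (R : Type u) [CommRing R] (n m : ℕ)

theorem hXN (e : Fin (n + 1) × Fin (m + 1)) :
    (MvPolynomial.X (idx n m e) : MvPolynomial (Fin (n * m + n + m + 1)) R) ∈
      CohB1.polyGrading (n * m + n + m) R 1 :=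
  hX _

/-- the Segre morphism over `Spec R` -/
noncomputable def segre : PP R n m ⟶ Proj (CohB1.polyGrading (n * m + n + m) R) :=
  glue (CohB1.polyGrading (n * m + n + m) R) (W R n m) (isOpenCover_W R n m) (ψψ R n m)
    (fun e => MvPolynomial.X (idx n m e)) (fun _ => 1) (hXN R n m) (fun _ => one_pos)
    (hunit R n m) (hcompat R n m)

theorem hcov : ⨆ e : Fin (n + 1) × Fin (m + 1),
    Proj.basicOpen (CohB1.polyGrading (n * m + n + m) R)
      (MvPolynomial.X (idx n m e) : MvPolynomial (Fin (n * m + n + m + 1)) R) = ⊤ := by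
  rw [← iSup_basicOpen_X R (n * m + n + m)]
  exact (idx n m).iSup_comp (g := fun κ => Proj.basicOpen (CohB1.polyGrading (n * m + n + m) R)
      (MvPolynomial.X κ : MvPolynomial (Fin (n * m + n + m + 1)) R))

/-- the standard charts of projective space -/
noncomputable def chart (k : ℕ) (i : Fin (k + 1)) :
    Spec (.of (Away (CohB1.polyGrading k R) (MvPolynomial.X i))) ⟶ CohB1.ProjSpace k R :=
  Proj.awayι (CohB1.polyGrading k R) (MvPolynomial.X i) (hX i) one_pos

instance (k : ℕ) (i : Fin (k + 1)) : IsOpenImmersion (chart R k i) := by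
  unfold chart CohB1.ProjSpace
  infer_instance

theorem range_chart (k : ℕ) (i : Fin (k + 1)) :
    Set.range (chart R k i) =
      (Proj.basicOpen (CohB1.polyGrading k R) (MvPolynomial.X i) :
        Set (Proj (CohB1.polyGrading k R))) := by
  have h1 := congrArg (fun U : (Proj (CohB1.polyGrading k R)).Opens =>
      (U : Set (Proj (CohB1.polyGrading k R))))
      (Proj.opensRange_awayι (CohB1.polyGrading k R) (MvPolynomial.X i) (hX i) one_pos)
  simp only [Scheme.Hom.coe_opensRange] at h1
  exact h1

theorem coe_W (e : Fin (n + 1) × Fin (m + 1)) :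
    (W R n m e : Set ↥(PP R n m)) =
      pullback.fst (CohB1.ProjSpace.toSpec n R) (CohB1.ProjSpace.toSpec m R) ⁻¹'
        Set.range (chart R n e.1) ∩
      pullback.snd (CohB1.ProjSpace.toSpec n R) (CohB1.ProjSpace.toSpec m R) ⁻¹'
        Set.range (chart R m e.2) := by
  rw [range_chart, range_chart]
  rfl

theorem haff (e : Fin (n + 1) × Fin (m + 1)) : IsAffineOpen (W R n m e) :=
  isAffineOpen_of_range (CohB1.ProjSpace.toSpec n R) (CohB1.ProjSpace.toSpec m R)
    (chart R n e.1) (chart R m e.2) (W R n m e) (coe_W R n m e)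

end Groth.Agent.Helper1.Segre
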