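import Mathlib
import Groth.Agent.Helper1.Segre8

/-!
# The Segre embedding, part 9: surjectivity on the charts
-/

set_option autoImplicit false
set_option linter.style.haveILetI false

namespace Groth.Agent.Helper1.Segre

open CategoryTheory Limits AlgebraicGeometry HomogeneousLocalization
open Groth.Agent.Helper1.ProjMor

universe u

variable (R : Type u) [CommRing R] (n m : ℕ)

/-- the structure morphism of the product, through the second factor -/
theorem qq_eq : qq R n m = p₂ R n m ≫ CohB1.ProjSpace.toSpec m R :=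
  pullback.condition

theorem pf₁_C (e : Fin (n + 1) × Fin (m + 1)) (c : R) :
    pf (CohB1.polyGrading n R) (p₁ R n m) (W R n m e) (hX e.1) one_pos (W_le₁ R n m e)
      (fromZeroRingHom (CohB1.polyGrading n R) (Submonoid.powers (MvPolynomial.X e.1))
        (algebraMap R (CohB1.polyGrading n R 0) c)) =
      ProjUP.toGlobal ((W R n m e).ι ≫ qq R n m) c := by
  unfold pf
  rw [pullFun_fromZero]
  have h1 : (W R n m e).ι ≫ qq R n m =
      (((W R n m e).ι ≫ p₁ R n m) ≫ Proj.toSpecZero (CohB1.polyGrading n R)) ≫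
        Spec.map (CommRingCat.ofHom (algebraMap R (CohB1.polyGrading n R 0))) := by
    simp only [Category.assoc]
    rfl
  rw [h1, toGlobal_comp_SpecMap]
  rfl

theorem pf₂_C (e : Fin (n + 1) × Fin (m + 1)) (c : R) :
    pf (CohB1.polyGrading m R) (p₂ R n m) (W R n m e) (hX e.2) one_pos (W_le₂ R n m e)
      (fromZeroRingHom (CohB1.polyGrading m R) (Submonoid.powers (MvPolynomial.X e.2))
        (algebraMap R (CohB1.polyGrading m R 0) c)) =
      ProjUP.toGlobal ((W R n m e).ι ≫ qq R n m) c := by
  unfold pf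
  rw [pullFun_fromZero]
  have h1 : (W R n m e).ι ≫ qq R n m =
      (((W R n m e).ι ≫ p₂ R n m) ≫ Proj.toSpecZero (CohB1.polyGrading m R)) ≫
        Spec.map (CommRingCat.ofHom (algebraMap R (CohB1.polyGrading m R 0))) := by
    rw [qq_eq]
    simp only [Category.assoc]
    rfl
  rw [h1, toGlobal_comp_SpecMap]
  rfl

/-- the local ring map of the Segre embedding -/
noncomputable abbrev θθ (e : Fin (n + 1) × Fin (m + 1)) :
    Away (CohB1.polyGrading (n * m + n + m) R) (MvPolynomial.X (idx n m e)) →+*
      Γ((W R n m e : Scheme.{u}), ⊤) :=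
  awayLift (CohB1.polyGrading (n * m + n + m) R) (ψψ R n m e) (hunit R n m e)

theorem toGlobal_mem_range (e : Fin (n + 1) × Fin (m + 1)) (c : R) :
    ProjUP.toGlobal ((W R n m e).ι ≫ qq R n m) c ∈ (θθ R n m e).range := by
  refine ⟨fromZeroRingHom (CohB1.polyGrading (n * m + n + m) R) _
    (algebraMap R (CohB1.polyGrading (n * m + n + m) R 0) c), ?_⟩
  rw [awayLift_fromZero]
  unfold ψψ
  rw [SetLike.GradeZero.coe_algebraMap, MvPolynomial.algebraMap_eq, MvPolynomial.coe_eval₂Hom,
    MvPolynomial.eval₂_C]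

theorem vv_mem_range (e : Fin (n + 1) × Fin (m + 1)) (κ : Fin (n * m + n + m + 1)) :
    vv R n m e κ ∈ (θθ R n m e).range := by
  refine ⟨Away.mk (CohB1.polyGrading (n * m + n + m) R) (hXN R n m e) 1 (MvPolynomial.X κ)
    (by simpa using hX κ), ?_⟩
  have h1 := awayLift_mk (CohB1.polyGrading (n * m + n + m) R) (ψψ R n m e) (hunit R n m e)
    (hXN R n m e) 1 (MvPolynomial.X κ) (by simpa using hX κ)
  rw [ψψ_X_idx, aa_self, bb_self, mul_one, one_pow, mul_one, ψψ_X] at h1
  exact h1

theorem aa_mem_range (e : Fin (n + 1) × Fin (m + 1)) (k : Fin (n + 1)) :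
    aa R n m e k ∈ (θθ R n m e).range := by
  have h := vv_mem_range R n m e (idx n m (k, e.2))
  unfold vv at h
  rw [Equiv.symm_apply_apply] at h
  simp only at h
  rw [bb_self, mul_one] at h
  exact h

theorem bb_mem_range (e : Fin (n + 1) × Fin (m + 1)) (l : Fin (m + 1)) :
    bb R n m e l ∈ (θθ R n m e).range := by
  have h := vv_mem_range R n m e (idx n m (e.1, l))
  unfold vv at h
  rw [Equiv.symm_apply_apply] at h
  simp only at h
  rw [aa_self, one_mul] at h
  exact h

theorem pf₁_mem_range (e : Fin (n + 1) × Fin (m + 1))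
    (y : Away (CohB1.polyGrading n R) (MvPolynomial.X e.1)) :
    pf (CohB1.polyGrading n R) (p₁ R n m) (W R n m e) (hX e.1) one_pos (W_le₁ R n m e) y ∈
      (θθ R n m e).range := by
  have h := away_gen R n e.1 ((θθ R n m e).range.comap
    (pf (CohB1.polyGrading n R) (p₁ R n m) (W R n m e) (hX e.1) one_pos (W_le₁ R n m e)))
    (fun c => by
      rw [Subring.mem_comap, pf₁_C]
      exact toGlobal_mem_range R n m e c)
    (fun l => by
      rw [Subring.mem_comap]
      exact aa_mem_range R n m e l)
  have : y ∈ (θθ R n m e).range.comap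
    (pf (CohB1.polyGrading n R) (p₁ R n m) (W R n m e) (hX e.1) one_pos (W_le₁ R n m e)) := by
    rw [h]; trivial
  exact this

theorem pf₂_mem_range (e : Fin (n + 1) × Fin (m + 1))
    (y : Away (CohB1.polyGrading m R) (MvPolynomial.X e.2)) :
    pf (CohB1.polyGrading m R) (p₂ R n m) (W R n m e) (hX e.2) one_pos (W_le₂ R n m e) y ∈
      (θθ R n m e).range := by
  have h := away_gen R m e.2 ((θθ R n m e).range.comap
    (pf (CohB1.polyGrading m R) (p₂ R n m) (W R n m e) (hX e.2) one_pos (W_le₂ R n m e)))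
    (fun c => by
      rw [Subring.mem_comap, pf₂_C]
      exact toGlobal_mem_range R n m e c)
    (fun l => by
      rw [Subring.mem_comap]
      exact bb_mem_range R n m e l)
  have : y ∈ (θθ R n m e).range.comap
    (pf (CohB1.polyGrading m R) (p₂ R n m) (W R n m e) (hX e.2) one_pos (W_le₂ R n m e)) := by
    rw [h]; trivial
  exact this

theorem hsurj (e : Fin (n + 1) × Fin (m + 1)) : Function.Surjective (θθ R n m e) := by
  have hT : (θθ R n m e).range = ⊤ := by
    apply subring_eq_top_of_range (CohB1.ProjSpace.toSpec n R) (CohB1.ProjSpace.toSpec m R)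
      (chart R n e.1) (chart R m e.2) (W R n m e) (coe_W R n m e)
      (liftAway (CohB1.polyGrading n R) ((W R n m e).ι ≫ p₁ R n m) (hX e.1) one_pos
        (range_ι_comp_subset (p₁ R n m) _ (W R n m e) (W_le₁ R n m e)))
      (liftAway (CohB1.polyGrading m R) ((W R n m e).ι ≫ p₂ R n m) (hX e.2) one_pos
        (range_ι_comp_subset (p₂ R n m) _ (W R n m e) (W_le₂ R n m e)))
      (liftAway_fac _ _ _ _ _) (liftAway_fac _ _ _ _ _)
    · intro x
      have hx : x = (Scheme.ΓSpecIso _).inv.hom ((Scheme.ΓSpecIso _).hom.hom x) := by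
        simp
      rw [hx]
      exact pf₁_mem_range R n m e _
    · intro x
      have hx : x = (Scheme.ΓSpecIso _).inv.hom ((Scheme.ΓSpecIso _).hom.hom x) := by
        simp
      rw [hx]
      exact pf₂_mem_range R n m e _
  intro y
  have : y ∈ (θθ R n m e).range := by rw [hT]; trivial
  exact this

end Groth.Agent.Helper1.Segre
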