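import Mathlib
import Groth.Agent.Helper1.Segre9

/-!
# The Segre embedding, part 10: the Segre embedding over an affine base is a closed immersion
-/

set_option autoImplicit false
set_option linter.style.haveILetI false

namespace Groth.Agent.Helper1.Segre

open CategoryTheory Limits AlgebraicGeometry HomogeneousLocalization
open Groth.Agent.Helper1.ProjMor

universe u

variable (R : Type u) [CommRing R] (n m : ℕ)

theorem isClosedImmersion_segre : IsClosedImmersion (segre R n m) :=
  isClosedImmersion_glue (CohB1.polyGrading (n * m + n + m) R) (W R n m) (isOpenCover_W R n m)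
    (ψψ R n m) (fun e => MvPolynomial.X (idx n m e)) (fun _ => 1) (hXN R n m) (fun _ => one_pos)
    (hunit R n m) (hcompat R n m) (hpre R n m) (hcov R n m) (haff R n m) (hsurj R n m)

theorem ι_segre (e : Fin (n + 1) × Fin (m + 1)) :
    (W R n m e).ι ≫ segre R n m =
      toAway (CohB1.polyGrading (n * m + n + m) R) (ψψ R n m e) (hXN R n m e) one_pos
        (hunit R n m e) :=
  ι_glue (CohB1.polyGrading (n * m + n + m) R) (W R n m) (isOpenCover_W R n m)
    (ψψ R n m) (fun e => MvPolynomial.X (idx n m e)) (fun _ => 1) (hXN R n m) (fun _ => one_pos)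
    (hunit R n m) (hcompat R n m) e

/-- the Segre morphism, as a morphism of projective spaces -/
noncomputable def segre' : PP R n m ⟶ CohB1.ProjSpace (n * m + n + m) R := segre R n m

instance : IsClosedImmersion (segre' R n m) := isClosedImmersion_segre R n m

theorem segre'_toSpec : segre' R n m ≫ CohB1.ProjSpace.toSpec (n * m + n + m) R = qq R n m := by
  apply ((PP R n m).openCoverOfIsOpenCover (W R n m) (isOpenCover_W R n m)).hom_ext
  intro e
  show (W R n m e).ι ≫ segre R n m ≫ Proj.toSpecZero (CohB1.polyGrading (n * m + n + m) R) ≫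
    Spec.map (CommRingCat.ofHom (algebraMap R (CohB1.polyGrading (n * m + n + m) R 0))) =
    (W R n m e).ι ≫ qq R n m
  rw [reassoc_of% ι_segre R n m e, reassoc_of% toAway_toSpecZero, ← Spec.map_comp,
    ← CommRingCat.ofHom_comp]
  conv_rhs => rw [← toSpecΓ_comp_toGlobal ((W R n m e).ι ≫ qq R n m)]
  congr 3
  ext c
  simp only [RingHom.comp_apply]
  unfold ψψ
  rw [SetLike.GradeZero.algebraMap_apply, SetLike.GradeZero.coe_algebraMap,
    MvPolynomial.algebraMap_eq, MvPolynomial.coe_eval₂Hom, MvPolynomial.eval₂_C]

end Groth.Agent.Helper1.Segre
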