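import Mathlib
import Groth.Agent.Helper1.Segre10
import Groth.Agent.Helper6.HProj

/-!
# The Segre embedding, part 11: the Segre embedding over an arbitrary base
-/

set_option autoImplicit false
set_option linter.style.haveILetI false

namespace Groth.Agent.Helper1.Segre

open CategoryTheory Limits AlgebraicGeometry

universe u

/-- the projection from projective space over `S` to projective space over the integers -/
noncomputable def prZ (k : ℕ) (S : Scheme.{u}) :
    CohB1.ProjSpaceOver k S ⟶ CohB1.ProjSpace k (ULift.{u} ℤ) :=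
  pullback.fst (CohB1.ProjSpace.toSpec k (ULift.{u} ℤ)) (specULiftZIsTerminal.from S)

theorem hom_ext_PSO {k : ℕ} {S K : Scheme.{u}} (a b : K ⟶ CohB1.ProjSpaceOver k S)
    (h1 : a ≫ prZ k S = b ≫ prZ k S)
    (h2 : a ≫ CohB1.ProjSpaceOver.toBase k S = b ≫ CohB1.ProjSpaceOver.toBase k S) : a = b :=
  pullback.hom_ext h1 h2

/-- a morphism to projective space over `S` -/
noncomputable def liftPSO {k : ℕ} {S K : Scheme.{u}} (a : K ⟶ CohB1.ProjSpace k (ULift.{u} ℤ))
    (b : K ⟶ S) : K ⟶ CohB1.ProjSpaceOver k S :=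
  pullback.lift a b (specULiftZIsTerminal.hom_ext _ _)

@[reassoc (attr := simp)]
theorem liftPSO_prZ {k : ℕ} {S K : Scheme.{u}} (a : K ⟶ CohB1.ProjSpace k (ULift.{u} ℤ))
    (b : K ⟶ S) : liftPSO a b ≫ prZ k S = a :=
  pullback.lift_fst _ _ _

@[reassoc (attr := simp)]
theorem liftPSO_toBase {k : ℕ} {S K : Scheme.{u}} (a : K ⟶ CohB1.ProjSpace k (ULift.{u} ℤ))
    (b : K ⟶ S) : liftPSO a b ≫ CohB1.ProjSpaceOver.toBase k S = b :=
  pullback.lift_snd _ _ _

variable (S : Scheme.{u}) (n m : ℕ)

/-- the product of two projective spaces over `S` -/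
noncomputable abbrev PPS : Scheme.{u} :=
  pullback (CohB1.ProjSpaceOver.toBase n S) (CohB1.ProjSpaceOver.toBase m S)

/-- the morphism to the product over the integers -/
noncomputable def toPPZ : PPS S n m ⟶ PP (ULift.{u} ℤ) n m :=
  pullback.lift
    (pullback.fst (CohB1.ProjSpaceOver.toBase n S) (CohB1.ProjSpaceOver.toBase m S) ≫ prZ n S)
    (pullback.snd (CohB1.ProjSpaceOver.toBase n S) (CohB1.ProjSpaceOver.toBase m S) ≫ prZ m S)
    (specULiftZIsTerminal.hom_ext _ _)

/-- the Segre morphism over `S` -/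
noncomputable def segreS : PPS S n m ⟶ CohB1.ProjSpaceOver (n * m + n + m) S :=
  liftPSO (toPPZ S n m ≫ segre' (ULift.{u} ℤ) n m)
    (pullback.fst (CohB1.ProjSpaceOver.toBase n S) (CohB1.ProjSpaceOver.toBase m S) ≫
      CohB1.ProjSpaceOver.toBase n S)

theorem segreS_toBase :
    segreS S n m ≫ CohB1.ProjSpaceOver.toBase (n * m + n + m) S =
      pullback.fst (CohB1.ProjSpaceOver.toBase n S) (CohB1.ProjSpaceOver.toBase m S) ≫
        CohB1.ProjSpaceOver.toBase n S :=
  liftPSO_toBase _ _

theorem segreS_prZ :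
    segreS S n m ≫ prZ (n * m + n + m) S = toPPZ S n m ≫ segre' (ULift.{u} ℤ) n m :=
  liftPSO_prZ _ _

instance mono_segreS : Mono (segreS S n m) := by
  constructor
  intro K u v huv
  have h1 : u ≫ toPPZ S n m = v ≫ toPPZ S n m := by
    rw [← cancel_mono (segre' (ULift.{u} ℤ) n m), Category.assoc, Category.assoc, ← segreS_prZ,
      reassoc_of% huv]
  have h2 : u ≫ pullback.fst (CohB1.ProjSpaceOver.toBase n S)
        (CohB1.ProjSpaceOver.toBase m S) ≫ CohB1.ProjSpaceOver.toBase n S =
      v ≫ pullback.fst (CohB1.ProjSpaceOver.toBase n S)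
        (CohB1.ProjSpaceOver.toBase m S) ≫ CohB1.ProjSpaceOver.toBase n S := by
    rw [← segreS_toBase, reassoc_of% huv]
  have h3 := congrArg (fun k => k ≫ pullback.fst (CohB1.ProjSpace.toSpec n (ULift.{u} ℤ))
    (CohB1.ProjSpace.toSpec m (ULift.{u} ℤ))) h1
  have h4 := congrArg (fun k => k ≫ pullback.snd (CohB1.ProjSpace.toSpec n (ULift.{u} ℤ))
    (CohB1.ProjSpace.toSpec m (ULift.{u} ℤ))) h1
  simp only [Category.assoc] at h3 h4
  unfold toPPZ at h3 h4
  rw [pullback.lift_fst] at h3
  rw [pullback.lift_snd] at h4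
  apply pullback.hom_ext
  · apply hom_ext_PSO
    · simpa only [Category.assoc] using h3
    · simpa only [Category.assoc] using h2
  · apply hom_ext_PSO
    · simpa only [Category.assoc] using h4
    · have hc : pullback.snd (CohB1.ProjSpaceOver.toBase n S) (CohB1.ProjSpaceOver.toBase m S) ≫
          CohB1.ProjSpaceOver.toBase m S =
          pullback.fst (CohB1.ProjSpaceOver.toBase n S) (CohB1.ProjSpaceOver.toBase m S) ≫
            CohB1.ProjSpaceOver.toBase n S := pullback.condition.symm
      rw [Category.assoc, Category.assoc, hc]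
      exact h2

instance isClosedImmersion_segreS : IsClosedImmersion (segreS S n m) := by
  rw [IsClosedImmersion.iff_isProper_and_mono]
  refine ⟨?_, inferInstance⟩
  haveI := Groth.Agent.Helper6.HProj.isProper_toBase n S
  haveI := Groth.Agent.Helper6.HProj.isProper_toBase m S
  haveI := Groth.Agent.Helper6.HProj.isProper_toBase (n * m + n + m) S
  haveI : IsProper (segreS S n m ≫ CohB1.ProjSpaceOver.toBase (n * m + n + m) S) := by
    rw [segreS_toBase]
    infer_instance
  exact IsProper.of_comp (segreS S n m) (CohB1.ProjSpaceOver.toBase (n * m + n + m) S)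

end Groth.Agent.Helper1.Segre
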