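import Mathlib
import Groth.Agent.Helper1.Segre11

/-!
# Chow's lemma, part 7: finite products of projective spaces over a base
-/

set_option autoImplicit false
set_option linter.style.haveILetI false

namespace Groth.Agent.Helper1.Chow

open CategoryTheory Limits AlgebraicGeometry TopologicalSpace
open Groth.Agent.Helper1.Segre

universe u

/-- a finite product of projective spaces over `S`, with a closed immersion into a projective
space over `S` -/
structure MultiProj (S : Scheme.{u}) {n : ℕ} (d : Fin n → ℕ) where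
  /-- the product -/
  P : Scheme.{u}
  /-- the structure morphism -/
  g : P ⟶ S
  /-- the dimension of the ambient projective space -/
  M : ℕ
  /-- the Segre embedding -/
  c : P ⟶ CohB1.ProjSpaceOver M S
  hc : IsClosedImmersion c
  c_toBase : c ≫ CohB1.ProjSpaceOver.toBase M S = g
  /-- the projections -/
  p : ∀ i, P ⟶ CohB1.ProjSpaceOver (d i) S
  p_toBase : ∀ i, p i ≫ CohB1.ProjSpaceOver.toBase (d i) S = g
  lift : ∀ (V : Scheme.{u}) (a : ∀ i, V ⟶ CohB1.ProjSpaceOver (d i) S) (b : V ⟶ S),
    (∀ i, a i ≫ CohB1.ProjSpaceOver.toBase (d i) S = b) →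
      ∃ l : V ⟶ P, l ≫ g = b ∧ ∀ i, l ≫ p i = a i

theorem MultiProj.isProper {S : Scheme.{u}} {n : ℕ} {d : Fin n → ℕ} (D : MultiProj S d) :
    IsProper D.g := by
  haveI := D.hc
  haveI := Groth.Agent.Helper6.HProj.isProper_toBase D.M S
  rw [← D.c_toBase]
  infer_instance

/-- one factor -/
noncomputable def MultiProj.one (S : Scheme.{u}) (d : Fin 1 → ℕ) : MultiProj S d where
  P := CohB1.ProjSpaceOver (d 0) S
  g := CohB1.ProjSpaceOver.toBase (d 0) S
  M := d 0
  c := 𝟙 _
  hc := inferInstance
  c_toBase := Category.id_comp _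
  p := fun i => Fin.cases (motive := fun i => CohB1.ProjSpaceOver (d 0) S ⟶
    CohB1.ProjSpaceOver (d i) S) (𝟙 _) (fun i => i.elim0) i
  p_toBase := fun i => by
    refine Fin.cases ?_ (fun i => i.elim0) i
    exact Category.id_comp _
  lift := fun V a b h => ⟨a 0, h 0, fun i => by
    refine Fin.cases ?_ (fun i => i.elim0) i
    exact Category.comp_id _⟩

/-- adding a factor -/
noncomputable def MultiProj.cons (S : Scheme.{u}) {n : ℕ} (d : Fin (n + 1) → ℕ)
    (D : MultiProj S (Fin.tail d)) : MultiProj S d where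
  P := pullback (CohB1.ProjSpaceOver.toBase (d 0) S) D.g
  g := pullback.fst (CohB1.ProjSpaceOver.toBase (d 0) S) D.g ≫ CohB1.ProjSpaceOver.toBase (d 0) S
  M := d 0 * D.M + d 0 + D.M
  c := pullback.map (CohB1.ProjSpaceOver.toBase (d 0) S) D.g
      (CohB1.ProjSpaceOver.toBase (d 0) S) (CohB1.ProjSpaceOver.toBase D.M S) (𝟙 _) D.c (𝟙 _)
      ((Category.comp_id _).trans (Category.id_comp _).symm)
      ((Category.comp_id _).trans D.c_toBase.symm) ≫ segreS S (d 0) D.M
  hc := by
    haveI := D.hc
    haveI : IsClosedImmersion (pullback.map (CohB1.ProjSpaceOver.toBase (d 0) S) D.g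
      (CohB1.ProjSpaceOver.toBase (d 0) S) (CohB1.ProjSpaceOver.toBase D.M S) (𝟙 _) D.c (𝟙 _)
      ((Category.comp_id _).trans (Category.id_comp _).symm)
      ((Category.comp_id _).trans D.c_toBase.symm)) :=
      MorphismProperty.pullbackMap (P := @IsClosedImmersion) inferInstance D.hc
        (Category.id_comp _).symm D.c_toBase.symm
    infer_instance
  c_toBase := by
    rw [Category.assoc, segreS_toBase, pullback.lift_fst_assoc, Category.assoc, Category.id_comp]
  p := fun i => Fin.cases
    (motive := fun i => pullback (CohB1.ProjSpaceOver.toBase (d 0) S) D.g ⟶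
      CohB1.ProjSpaceOver (d i) S)
    (pullback.fst (CohB1.ProjSpaceOver.toBase (d 0) S) D.g)
    (fun i => pullback.snd (CohB1.ProjSpaceOver.toBase (d 0) S) D.g ≫ D.p i) i
  p_toBase := fun i => by
    refine Fin.cases ?_ (fun i => ?_) i
    · rfl
    · show (pullback.snd (CohB1.ProjSpaceOver.toBase (d 0) S) D.g ≫ D.p i) ≫ _ = _
      rw [Category.assoc]
      refine (congrArg (fun k => pullback.snd (CohB1.ProjSpaceOver.toBase (d 0) S) D.g ≫ k)
        (D.p_toBase i)).trans ?_
      exact pullback.condition.symm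
  lift := fun V a b h => by
    obtain ⟨l, hl, hl'⟩ := D.lift V (fun i => a i.succ) b (fun i => h i.succ)
    refine ⟨pullback.lift (a 0) l ((h 0).trans hl.symm), ?_, fun i => ?_⟩
    · rw [pullback.lift_fst_assoc]
      exact h 0
    · refine Fin.cases ?_ (fun i => ?_) i
      · exact pullback.lift_fst _ _ _
      · show pullback.lift (a 0) l _ ≫ pullback.snd _ _ ≫ D.p i = _
        rw [pullback.lift_snd_assoc]
        exact hl' i

theorem nonempty_multiProj (S : Scheme.{u}) : ∀ (n : ℕ) (d : Fin (n + 1) → ℕ),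
    Nonempty (MultiProj S d) := by
  intro n
  induction n with
  | zero => exact fun d => ⟨MultiProj.one S d⟩
  | succ n ih =>
    intro d
    obtain ⟨D⟩ := ih (Fin.tail d)
    exact ⟨MultiProj.cons S d D⟩

end Groth.Agent.Helper1.Chow
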