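import Mathlib
import Groth.Agent.Helper1.Segre11

/-!
# Chow's lemma, part 8: affine schemes of finite type are quasi-projective
-/

set_option autoImplicit false
set_option linter.style.haveILetI false

namespace Groth.Agent.Helper1.Chow

open CategoryTheory Limits AlgebraicGeometry TopologicalSpace HomogeneousLocalization
open Groth.Agent.Helper1.Segre Groth.Agent.Helper1.ProjMor

universe u

theorem toGlobal_toSpecΓ_comp {Y : Scheme.{u}} {R : Type u} [CommRing R] (θ : R →+* Γ(Y, ⊤)) :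
    ProjUP.toGlobal (Y.toSpecΓ ≫ Spec.map (CommRingCat.ofHom θ)) = θ := by
  rw [toGlobal_comp_SpecMap]
  have h1 : ProjUP.toGlobal Y.toSpecΓ = RingHom.id _ := by
    ext z
    unfold ProjUP.toGlobal
    rw [RingHom.comp_apply, Scheme.toSpecΓ_appTop]
    simp
  rw [h1, RingHom.id_comp]

section Affine

variable {Y S : Scheme.{u}} [IsAffine Y] (b : Y ⟶ S) (V : S.Opens) (hV : IsAffineOpen V)
  (bV : Y ⟶ (V : Scheme.{u})) (hbV : bV ≫ V.ι = b) (d : ℕ) (β : Fin d → Γ(Y, ⊤))

/-- the ring map defining the morphism to projective space -/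
noncomputable def ψa : MvPolynomial (Fin (d + 1)) (ULift.{u} ℤ) →+* Γ(Y, ⊤) :=
  MvPolynomial.eval₂Hom ((Int.castRingHom Γ(Y, ⊤)).comp (ULift.ringEquiv : ULift.{u} ℤ ≃+* ℤ).toRingHom)
    (Fin.cases 1 β)

theorem ψa_X0 : ψa d β (MvPolynomial.X 0) = 1 := by
  unfold ψa
  rw [MvPolynomial.coe_eval₂Hom, MvPolynomial.eval₂_X]
  rfl

theorem ψa_Xsucc (i : Fin d) : ψa d β (MvPolynomial.X i.succ) = β i := by
  unfold ψa
  rw [MvPolynomial.coe_eval₂Hom, MvPolynomial.eval₂_X]
  rfl

theorem isUnit_ψa : IsUnit (ψa d β (MvPolynomial.X 0)) := by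
  rw [ψa_X0]; exact isUnit_one

/-- the morphism to the standard affine chart -/
noncomputable def a₀ : Y ⟶ Spec (.of (Away (CohB1.polyGrading d (ULift.{u} ℤ))
    (MvPolynomial.X (0 : Fin (d + 1))))) :=
  Y.toSpecΓ ≫ Spec.map (CommRingCat.ofHom
    (awayLift (CohB1.polyGrading d (ULift.{u} ℤ)) (ψa d β) (isUnit_ψa d β)))

theorem toGlobal_a₀ : ProjUP.toGlobal (a₀ d β) =
    awayLift (CohB1.polyGrading d (ULift.{u} ℤ)) (ψa d β) (isUnit_ψa d β) :=
  toGlobal_toSpecΓ_comp _

theorem β_mem_range (i : Fin d) : β i ∈ (a₀ d β).appTop.hom.range := by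
  refine ⟨(Scheme.ΓSpecIso _).inv.hom (Away.mk (CohB1.polyGrading d (ULift.{u} ℤ))
    (hX (0 : Fin (d + 1))) 1 (MvPolynomial.X i.succ) (by simpa using hX i.succ)), ?_⟩
  have h1 := awayLift_mk (CohB1.polyGrading d (ULift.{u} ℤ)) (ψa d β) (isUnit_ψa d β)
    (hX (0 : Fin (d + 1))) 1 (MvPolynomial.X i.succ) (by simpa using hX i.succ)
  rw [ψa_X0, one_pow, mul_one, ψa_Xsucc, ← toGlobal_a₀] at h1
  exact h1

/-- the product of the standard affine chart with `V` -/
noncomputable abbrev ZZ : Scheme.{u} :=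
  pullback (chart (ULift.{u} ℤ) d 0 ≫ CohB1.ProjSpace.toSpec d (ULift.{u} ℤ))
    (V.ι ≫ specULiftZIsTerminal.from S)

/-- the open immersion into projective space over `S` -/
noncomputable def om : ZZ V d ⟶ CohB1.ProjSpaceOver d S :=
  pullback.map _ _ (CohB1.ProjSpace.toSpec d (ULift.{u} ℤ)) (specULiftZIsTerminal.from S)
    (chart (ULift.{u} ℤ) d 0) V.ι (𝟙 _) (by simp) (by simp)

instance : IsOpenImmersion (om (S := S) V d) := by
  unfold om
  exact Scheme.pullback_map_isOpenImmersion _ _ _ _ _ _ _ _ _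

/-- the closed immersion into the product of the chart with `V` -/
noncomputable def cl : Y ⟶ ZZ V d :=
  pullback.lift (a₀ d β) bV (specULiftZIsTerminal.hom_ext _ _)

include hV in
theorem isClosedImmersion_cl
    (hgen : ∀ T : Subring Γ(Y, ⊤), (∀ r, bV.appTop.hom r ∈ T) → (∀ i, β i ∈ T) → T = ⊤) :
    IsClosedImmersion (cl V bV d β) := by
  haveI : IsAffine (V : Scheme.{u}) := hV
  apply IsClosedImmersion.of_surjective_of_isAffine
  have hT : (cl V bV d β).appTop.hom.range = ⊤ := by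
    apply hgen
    · intro r
      have h1 : cl V bV d β ≫ pullback.snd _ _ = bV := pullback.lift_snd _ _ _
      refine ⟨(pullback.snd (chart (ULift.{u} ℤ) d 0 ≫ CohB1.ProjSpace.toSpec d (ULift.{u} ℤ))
        (V.ι ≫ specULiftZIsTerminal.from S)).appTop.hom r, ?_⟩
      have h2 : bV.appTop = (pullback.snd (chart (ULift.{u} ℤ) d 0 ≫
          CohB1.ProjSpace.toSpec d (ULift.{u} ℤ)) (V.ι ≫ specULiftZIsTerminal.from S)).appTop ≫
          (cl V bV d β).appTop := by
        rw [← Scheme.Hom.comp_appTop, h1]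
      exact (congrArg (fun φ => φ.hom r) h2).symm
    · intro i
      obtain ⟨z, hz⟩ := β_mem_range d β i
      have h1 : cl V bV d β ≫ pullback.fst _ _ = a₀ d β := pullback.lift_fst _ _ _
      refine ⟨(pullback.fst (chart (ULift.{u} ℤ) d 0 ≫ CohB1.ProjSpace.toSpec d (ULift.{u} ℤ))
        (V.ι ≫ specULiftZIsTerminal.from S)).appTop.hom z, ?_⟩
      have h2 : (a₀ d β).appTop = (pullback.fst (chart (ULift.{u} ℤ) d 0 ≫
          CohB1.ProjSpace.toSpec d (ULift.{u} ℤ)) (V.ι ≫ specULiftZIsTerminal.from S)).appTop ≫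
          (cl V bV d β).appTop := by
        rw [← Scheme.Hom.comp_appTop, h1]
      rw [← hz]
      exact (congrArg (fun φ => φ.hom z) h2).symm
  intro y
  have : y ∈ (cl V bV d β).appTop.hom.range := by rw [hT]; trivial
  exact this

/-- the immersion into projective space over `S` -/
noncomputable def jj : Y ⟶ CohB1.ProjSpaceOver d S := cl V bV d β ≫ om V d

include hbV in
theorem jj_toBase : jj V bV d β ≫ CohB1.ProjSpaceOver.toBase d S = b := by
  unfold jj om cl
  rw [Category.assoc]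
  show _ ≫ _ ≫ pullback.snd _ _ = _
  rw [pullback.lift_snd, pullback.lift_snd_assoc, hbV]

include hV in
theorem isImmersion_jj
    (hgen : ∀ T : Subring Γ(Y, ⊤), (∀ r, bV.appTop.hom r ∈ T) → (∀ i, β i ∈ T) → T = ⊤) :
    IsImmersion (jj V bV d β) := by
  haveI := isClosedImmersion_cl V hV bV d β hgen
  unfold jj
  infer_instance

end Affine

end Groth.Agent.Helper1.Chow
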