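import Mathlib
import Groth.Agent.Helper1.Chow8

/-!
# Chow's lemma, part 9: local immersions into projective space
-/

set_option autoImplicit false
set_option linter.style.haveILetI false

namespace Groth.Agent.Helper1.Chow

open CategoryTheory Limits AlgebraicGeometry TopologicalSpace

universe u

theorem exists_affine_immersion {X S : Scheme.{u}} (f : X ⟶ S) [LocallyOfFiniteType f] (x : X) :
    ∃ (Y : X.Opens) (d : ℕ) (j₁ : (Y : Scheme.{u}) ⟶ CohB1.ProjSpaceOver d S),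
      x ∈ Y ∧ IsAffineOpen Y ∧ IsImmersion j₁ ∧
        j₁ ≫ CohB1.ProjSpaceOver.toBase d S = Y.ι ≫ f := by
  obtain ⟨V, hVaff, hxV, -⟩ : ∃ V : S.Opens, IsAffineOpen V ∧ f x ∈ V ∧ V ≤ ⊤ :=
    Opens.isBasis_iff_nbhd.1 S.isBasis_affineOpens (show f x ∈ (⊤ : S.Opens) from trivial)
  obtain ⟨Y, hYaff, hxY, hYle⟩ : ∃ Y : X.Opens, IsAffineOpen Y ∧ x ∈ Y ∧ Y ≤ f ⁻¹ᵁ V :=
    Opens.isBasis_iff_nbhd.1 X.isBasis_affineOpens (show x ∈ f ⁻¹ᵁ V from hxV)
  haveI : IsAffine (Y : Scheme.{u}) := hYaff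
  haveI : IsAffine (V : Scheme.{u}) := hVaff
  let bV : (Y : Scheme.{u}) ⟶ (V : Scheme.{u}) := f.resLE V Y hYle
  have hbV : bV ≫ V.ι = Y.ι ≫ f := Scheme.Hom.resLE_comp_ι f hYle
  have hft : RingHom.FiniteType bV.appTop.hom :=
    (HasRingHomProperty.iff_of_isAffine (P := @LocallyOfFiniteType)).mp inferInstance
  letI := bV.appTop.hom.toAlgebra
  have hft' : Algebra.FiniteType Γ((V : Scheme.{u}), ⊤) Γ((Y : Scheme.{u}), ⊤) := hft
  obtain ⟨d, π₀, hπ₀⟩ := Algebra.FiniteType.iff_quotient_mvPolynomial''.mp hft'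
  let β : Fin d → Γ((Y : Scheme.{u}), ⊤) := fun i => π₀ (MvPolynomial.X i)
  have hgen : ∀ T : Subring Γ((Y : Scheme.{u}), ⊤), (∀ r, bV.appTop.hom r ∈ T) →
      (∀ i, β i ∈ T) → T = ⊤ := by
    intro T h1 h2
    have key : ∀ p, π₀ p ∈ T := by
      intro p
      induction p using MvPolynomial.induction_on with
      | C r =>
        have : π₀ (MvPolynomial.C r) = bV.appTop.hom r := by
          rw [← MvPolynomial.algebraMap_eq, AlgHom.commutes]
          rfl
        rw [this]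
        exact h1 r
      | add p q hp hq => rw [map_add]; exact T.add_mem hp hq
      | mul_X p i hp => rw [map_mul]; exact T.mul_mem hp (h2 i)
    rw [eq_top_iff]
    intro y _
    obtain ⟨p, rfl⟩ := hπ₀ y
    exact key p
  exact ⟨Y, d, jj V bV d β, hxY, hYaff, isImmersion_jj V hVaff bV d β hgen,
    jj_toBase (Y.ι ≫ f) V bV hbV d β⟩

end Groth.Agent.Helper1.Chow
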