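import Mathlib
import Groth.Agent.Helper1.Chow6
import Groth.Agent.Helper1.Chow7
import Groth.Agent.Helper1.Chow9

/-!
# Chow's lemma, part 10: the irreducible case
-/

set_option autoImplicit false
set_option linter.style.haveILetI false

namespace Groth.Agent.Helper1.Chow

open CategoryTheory Limits AlgebraicGeometry TopologicalSpace

universe u

theorem quasiCompact_ι {X : Scheme.{u}} [QuasiSeparatedSpace X] (U : X.Opens)
    (hU : IsCompact (U : Set X)) : QuasiCompact U.ι := by
  constructor
  intro V hVo hVc
  rw [U.ι.isEmbedding.isCompact_iff, Set.image_preimage_eq_inter_range, Scheme.Opens.range_ι]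
  exact QuasiSeparatedSpace.inter_isCompact V U hVo hVc U.isOpen hU

theorem surjective_ππ {X S P : Scheme.{u}} (f : X ⟶ S) (g : P ⟶ S) (U : X.Opens)
    (j : (U : Scheme.{u}) ⟶ P) (hj : j ≫ g = U.ι ≫ f) [IsProper g] (hU : Dense (U : Set X)) :
    Function.Surjective (ππ f g U j hj) := by
  have hc : IsClosed (Set.range (ππ f g U j hj)) := (ππ f g U j hj).isClosedMap.isClosed_range
  have hsub : (U : Set X) ⊆ Set.range (ππ f g U j hj) := by
    intro x hx
    refine ⟨uu f g U j hj ⟨x, hx⟩, ?_⟩
    rw [← Scheme.Hom.comp_apply, uu_ππ]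
    rfl
  have : Set.range (ππ f g U j hj) = Set.univ := by
    rw [← hc.closure_eq]
    exact Set.eq_univ_of_univ_subset (hU.closure_eq ▸ closure_mono hsub)
  intro x
  have hx : x ∈ Set.range (ππ f g U j hj) := by rw [this]; trivial
  exact hx

theorem finset_inf_nonempty {X : Type*} [TopologicalSpace X] [PreirreducibleSpace X]
    {ι : Type*} (s : Finset ι) (Y : ι → Opens X) (hY : ∀ i, (Y i : Set X).Nonempty)
    [Nonempty X] : ((s.inf Y : Opens X) : Set X).Nonempty := by
  classical
  induction s using Finset.induction_on with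
  | empty =>
    rw [Finset.inf_empty]
    exact Set.univ_nonempty
  | insert a s _ ih =>
    rw [Finset.inf_insert]
    exact nonempty_preirreducible_inter (Y a).isOpen (s.inf Y).isOpen (hY a) ih

end Groth.Agent.Helper1.Chow
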