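import Groth.Agent.Helper1.SiteCoh
import Groth.Agent.Helper1.Horseshoe

set_option autoImplicit false

/-!
# Higher direct images on sites as sheafified cohomology presheaves
-/

namespace Groth.Agent.Helper1.SiteCoh
open CategoryTheory Opposite Limits Abelian Groth.Agent.Helper1.DeltaCmp

universe u
variable {C D : Type u} [SmallCategory C] [SmallCategory D]
  (J : GrothendieckTopology C) (K : GrothendieckTopology D) (v : D ⥤ C) [v.IsContinuous K J]

/-- an exact functor preserves long exact sequences -/
lemma HasLES.comp {A B B' : Type*} [Category A] [Category B] [Category B'] [Abelian A] [Abelian B]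
    [Abelian B'] {T : ℕ → A ⥤ B} {S : ShortComplex A} (h : HasLES T S) (Φ : B ⥤ B')
    [Φ.PreservesZeroMorphisms] [Φ.PreservesHomology] : HasLES (fun n => T n ⋙ Φ) S := by
  intro n
  obtain ⟨δ, w₁, w₂, e₁, e₂⟩ := h n
  exact ⟨Φ.map δ, ((ShortComplex.mk _ _ w₁).map Φ).zero, ((ShortComplex.mk _ _ w₂).map Φ).zero,
    e₁.map Φ, e₂.map Φ⟩

/-- sheafified pullback of presheaves along `v` -/
noncomputable abbrev Φ : (Cᵒᵖ ⥤ AddCommGrpCat.{u}) ⥤ Sheaf K AddCommGrpCat.{u} :=
  (Functor.whiskeringLeft Dᵒᵖ Cᵒᵖ AddCommGrpCat.{u}).obj v.op ⋙ presheafToSheaf K AddCommGrpCat.{u}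

instance : PreservesFiniteLimits (Φ K v) := inferInstance
instance : PreservesFiniteColimits (Φ K v) := inferInstance

/-- pushforward followed by forgetting to presheaves is forgetting followed by precomposition -/
noncomputable def pushForgetIso :
    CohSite.push J K v ⋙ sheafToPresheaf K AddCommGrpCat.{u} ≅
      sheafToPresheaf J AddCommGrpCat.{u} ⋙
        (Functor.whiskeringLeft Dᵒᵖ Cᵒᵖ AddCommGrpCat.{u}).obj v.op :=
  NatIso.ofComponents (fun F => Iso.refl _) (by
    intro F G φ
    simp only [Iso.refl_hom, Category.comp_id, Category.id_comp]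
    rfl)

instance : PreservesLimitsOfSize.{u, u} (CohSite.push J K v) := by
  have : PreservesLimitsOfSize.{u, u}
      (CohSite.push J K v ⋙ sheafToPresheaf K AddCommGrpCat.{u}) :=
    preservesLimits_of_natIso (pushForgetIso J K v).symm
  exact ⟨fun {L} _ => ⟨fun {F} => preservesLimit_of_reflects_of_preserves _
    (sheafToPresheaf K AddCommGrpCat.{u})⟩⟩

instance : PreservesFiniteLimits (CohSite.push J K v) := PreservesLimits.preservesFiniteLimits _

/-- `F ↦` sheafification of `V ↦ Hⁿ(v(V), F)` -/
noncomputable abbrev TSeq (n : ℕ) : Ab J ⥤ Ab K :=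
  Sheaf.cohomologyPresheafFunctor.{u} J n ⋙ Φ K v

/-- `f_* F` is the sheafification of `V ↦ H⁰(v(V), F)` -/
noncomputable def push0Iso : CohSite.Rpush J K v 0 ≅ TSeq J K v 0 :=
  (CohSite.push J K v).rightDerivedZeroIsoSelf ≪≫
    (Functor.rightUnitor _).symm ≪≫
    Functor.isoWhiskerLeft (CohSite.push J K v)
      (asIso (sheafificationAdjunction K AddCommGrpCat.{u}).counit).symm ≪≫
    (Functor.associator _ _ _).symm ≪≫
    Functor.isoWhiskerRight (pushForgetIso J K v) (presheafToSheaf K AddCommGrpCat.{u}) ≪≫
    Functor.associator _ _ _ ≪≫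
    Functor.isoWhiskerRight (coh0Iso (J := J)).symm (Φ K v)

theorem nonempty_iso_Rpush (n : ℕ) (F : Ab J) :
    Nonempty ((CohSite.Rpush J K v n).obj F ≅ (TSeq J K v n).obj F) := by
  have key : ∀ F : Ab J, True →
      Nonempty (Effacement (fun n => CohSite.Rpush J K v n) (fun n => TSeq J K v n)
        (fun _ => True) F) := by
    intro F _
    obtain ⟨S, hS, hI, rfl⟩ : ∃ (S : ShortComplex (Ab J)) (_ : S.ShortExact)
        (_ : Injective S.X₂), S.X₁ = F := by
      refine ⟨ShortComplex.mk (Injective.ι F) (cokernel.π (Injective.ι F)) (cokernel.condition _),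
        ?_, ?_, rfl⟩
      · exact { exact := ShortComplex.exact_cokernel _
                mono_f := by dsimp; infer_instance
                epi_g := by dsimp; infer_instance }
      · dsimp; infer_instance
    exact ⟨{
      S := S
      iso := rfl
      mem := trivial
      zero := fun n => Functor.isZero_rightDerived_obj_injective_succ _ _ _
      zero' := fun n => Functor.map_isZero (Φ K v) (isZero_cohomologyPresheaf_of_injective _ n)
      les := Horseshoe.hasLES_rightDerived (CohSite.push J K v) S hS
      les' := HasLES.comp (hasLES_cohomologyPresheaf S hS) (Φ K v) }⟩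
  exact nonempty_iso (fun _ => True) (push0Iso J K v) key n F trivial

/-- the short exact sequence `0 → F → I → I/F → 0` with `I` injective -/
lemma exists_injSC (F : Ab J) : ∃ (S : ShortComplex (Ab J)) (_ : S.ShortExact)
    (_ : Injective S.X₂), S.X₁ = F := by
  refine ⟨ShortComplex.mk (Injective.ι F) (cokernel.π (Injective.ι F)) (cokernel.condition _),
    ?_, ?_, rfl⟩
  · exact { exact := ShortComplex.exact_cokernel _
            mono_f := by dsimp; infer_instance
            epi_g := by dsimp; infer_instance }
  · dsimp; infer_instance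

/-- the right derived functors of the forgetful functor to presheaves are the cohomology
presheaves -/
theorem nonempty_iso_rightDerived_sheafToPresheaf (n : ℕ) (F : Ab J) :
    Nonempty (((sheafToPresheaf J AddCommGrpCat.{u}).rightDerived n).obj F ≅
      (Sheaf.cohomologyPresheafFunctor.{u} J n).obj F) := by
  have key : ∀ F : Ab J, True →
      Nonempty (Effacement (fun n => (sheafToPresheaf J AddCommGrpCat.{u}).rightDerived n)
        (fun n => Sheaf.cohomologyPresheafFunctor.{u} J n) (fun _ => True) F) := by
    intro F _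
    obtain ⟨S, hS, hI, rfl⟩ := exists_injSC J F
    exact ⟨{
      S := S
      iso := rfl
      mem := trivial
      zero := fun n => Functor.isZero_rightDerived_obj_injective_succ _ _ _
      zero' := fun n => isZero_cohomologyPresheaf_of_injective _ n
      les := Horseshoe.hasLES_rightDerived (sheafToPresheaf J AddCommGrpCat.{u}) S hS
      les' := hasLES_cohomologyPresheaf S hS }⟩
  exact nonempty_iso (fun _ => True)
    ((sheafToPresheaf J AddCommGrpCat.{u}).rightDerivedZeroIsoSelf ≪≫ (coh0Iso (J := J)).symm)
    key n F trivial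

end Groth.Agent.Helper1.SiteCoh
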