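import Groth.Agent.Helper1.SerreD
import Groth.Agent.S0461

/-!
# Higher direct images of quasi-coherent modules along affine morphisms vanish
-/

set_option autoImplicit false

namespace Groth.Agent.Helper1.Serre

open CategoryTheory Limits Opposite TopologicalSpace AlgebraicGeometry Abelian

universe u

section sheafify

variable {Y : TopCat.{u}}

/-- a presheaf of abelian groups vanishing on a basis has zero sheafification -/
lemma isZero_sheafify_of_basis (P : (Opens Y)ᵒᵖ ⥤ AddCommGrpCat.{u}) (B : Set (Opens Y))
    (hB : Opens.IsBasis B) (hP : ∀ V ∈ B, Subsingleton (P.obj (op V))) :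
    IsZero ((presheafToSheaf (Opens.grothendieckTopology Y) AddCommGrpCat.{u}).obj P) := by
  rw [IsZero.iff_id_eq_zero]
  apply ((sheafificationAdjunction (Opens.grothendieckTopology Y)
    AddCommGrpCat.{u}).homEquiv P _).injective
  -- every morphism from `P` to a sheaf vanishes
  have key : ∀ (G : CohTop.Ab Y) (ψ : P ⟶ G.obj), ψ = 0 := by
    intro G ψ
    ext V s
    induction V using Opposite.rec with | _ V => ?_
    obtain ⟨Us, hUs, hV⟩ := Opens.isBasis_iff_cover.1 hB V
    have hle : ∀ W : Us, (W : Opens Y) ≤ V := by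
      intro W
      rw [hV]
      exact le_sSup W.2
    refine TopCat.Sheaf.eq_of_locally_eq' G (fun W : Us => (W : Opens Y)) V
      (fun W => homOfLE (hle W)) ?_ _ _ ?_
    · rw [hV, sSup_eq_iSup']
    · intro W
      have h1 := NatTrans.naturality_apply ψ (homOfLE (hle W)).op s
      have h2 : P.map (homOfLE (hle W)).op s = 0 :=
        (hP _ (hUs W.2)).elim _ _
      rw [h2, map_zero] at h1
      show G.obj.map (homOfLE (hle W)).op (ψ.app (op V) s) =
        G.obj.map (homOfLE (hle W)).op ((0 : P ⟶ G.obj).app (op V) s)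
      rw [← h1]
      show 0 = G.obj.map _ 0
      rw [map_zero]
  exact (key _ _).trans (key _ _).symm

end sheafify

variable {X S : Scheme.{u}}

/-- **relative Serre vanishing** -/
theorem isZero_RpushAb_of_isAffineHom (f : X ⟶ S) [IsAffineHom f] (M : X.Modules)
    [M.IsQuasicoherent] (i : ℕ) : IsZero ((Coh.RpushAb f (i + 1)).obj (Coh.toAb M)) := by
  obtain ⟨e⟩ := Groth.Agent.S0461.result f.base (Coh.toAb M) (i + 1)
  refine IsZero.of_iso ?_ e
  apply isZero_sheafify_of_basis _ {V | IsAffineOpen V} S.isBasis_affineOpens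
  intro V hV
  have hV' : IsAffineOpen (f ⁻¹ᵁ V) := hV.preimage f
  exact subsingleton_HU_of_isAffineOpen M hV' i

end Groth.Agent.Helper1.Serre
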