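import Groth.Agent.Helper1.PushLin
import Groth.Agent.Helper1.SerreE

/-!
# `Hⁱ(X, M) ≃ₗ[A] Hⁱ(S, f_* M)` for an affine morphism `f : X ⟶ S` of `A`-schemes, `M` quasi-coherent
-/

set_option autoImplicit false

namespace Groth.Agent.Helper1.AffLin

open CategoryTheory Limits AlgebraicGeometry Opposite
open Groth.Agent.Helper1.CohTopFun

universe u

variable {X S : Scheme.{u}} (f : X ⟶ S)

/-- pushforward of scalar multiplication -/
lemma push_smulAb (M : X.Modules) (r : Coh.Γtop S) :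
    (CohTop.push f.base).map (Coh.smulAb M (f.appTop.hom r)) =
      Coh.smulAb ((Coh.push f).obj M) r := by
  apply Sheaf.hom_ext
  ext U m
  show Coh.resTop X (op (f ⁻¹ᵁ U.unop)) (f.appTop.hom r) • (show M.val.obj (op (f ⁻¹ᵁ U.unop)) from m) =
    (f.app U.unop (Coh.resTop S U r)) • (show M.val.obj (op (f ⁻¹ᵁ U.unop)) from m)
  congr 1
  have := f.naturality (homOfLE (le_top : U.unop ≤ ⊤)).op
  exact (congrArg (fun φ => φ.hom r) this).symm

lemma toGlobal_comp (A : Type u) [CommRing A] (g : S ⟶ Spec (CommRingCat.of A)) (a : A) :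
    Coh.toGlobal (f ≫ g) a = f.appTop.hom (Coh.toGlobal g a) := by
  show ((f ≫ g).appTop).hom ((Scheme.ΓSpecIso (CommRingCat.of A)).inv.hom a) =
    f.appTop.hom (g.appTop.hom ((Scheme.ΓSpecIso (CommRingCat.of A)).inv.hom a))
  rw [Scheme.Hom.comp_appTop]
  rfl

/-- **`A`-linear degenerate Leray** for affine morphisms -/
theorem nonempty_HH_linearEquiv (A : Type u) [CommRing A] [X.Over (Spec (CommRingCat.of A))]
    [S.Over (Spec (CommRingCat.of A))] [IsAffineHom f]
    (hf : f ≫ (S ↘ Spec (CommRingCat.of A)) = X ↘ Spec (CommRingCat.of A))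
    (M : X.Modules) [Coh.IsQCoh M] (i : ℕ) :
    Nonempty (Coh.HH X M i ≃ₗ[A] Coh.HH S ((Coh.push f).obj M) i) := by
  obtain ⟨ψ, hψ⟩ := exists_iso_H_push_of_acyclic_eq f.base i (Coh.toAb M)
    (fun a : A => Coh.smulAb M (Coh.toGlobal (X ↘ Spec (CommRingCat.of A)) a))
    (fun q => Groth.Agent.Helper1.Serre.isZero_RpushAb_of_isAffineHom f M q)
  refine ⟨{ ψ.addCommGroupIsoToAddEquiv with map_smul' := fun a x => ?_ }⟩
  have h1 := ConcreteCategory.congr_hom (hψ a) x
  have h2 : Coh.smulAb M (Coh.toGlobal (X ↘ Spec (CommRingCat.of A)) a) =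
      Coh.smulAb M (f.appTop.hom (Coh.toGlobal (S ↘ Spec (CommRingCat.of A)) a)) := by
    rw [← toGlobal_comp, hf]
  have h3 := push_smulAb f M (Coh.toGlobal (S ↘ Spec (CommRingCat.of A)) a)
  rw [← h2] at h3
  show ψ.hom (Sheaf.H.map (Coh.smulAb M (Coh.toGlobal (X ↘ Spec (CommRingCat.of A)) a)) i x) =
    Sheaf.H.map (Coh.smulAb ((Coh.push f).obj M)
      (Coh.toGlobal (S ↘ Spec (CommRingCat.of A)) a)) i (ψ.hom x)
  rw [← h3]
  exact h1

end Groth.Agent.Helper1.AffLin
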