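import Mathlib
import Groth.Agent.Helper1.HHLes

/-!
# Finiteness of cohomology along an epimorphism
-/

set_option autoImplicit false
set_option linter.style.haveILetI false

namespace Groth.Agent.Helper1.HHLes

open CategoryTheory Limits AlgebraicGeometry Opposite Abelian

universe u

variable (A : Type u) [CommRing A] {X : Scheme.{u}} [X.Over (Spec (CommRingCat.of A))]
variable {E F : X.Modules} (g : E ⟶ F)

/-- the kernel sequence of a morphism -/
noncomputable abbrev kerSC : ShortComplex X.Modules :=
  ShortComplex.mk (kernel.ι g) g (kernel.condition g)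

lemma kerSC_shortExact [Epi g] : (kerSC g).ShortExact :=
  ShortComplex.ShortExact.mk' (ShortComplex.exact_of_f_is_kernel _ (kernelIsKernel g))
    (inferInstanceAs (Mono (kernel.ι g))) (inferInstanceAs (Epi g))

/-- the connecting map of the kernel sequence -/
noncomputable def δker [Epi g] (n : ℕ) : Coh.HH X F n →ₗ[A] Coh.HH X (kernel g) (n + 1) :=
  δ A (kerSC g) (kerSC_shortExact g) n

theorem exact_δker [Epi g] (n : ℕ) : Function.Exact (Canon.HHlin A g n) (δker A g n) :=
  exact_g_δ A (kerSC g) (kerSC_shortExact g) n

/-- finiteness of the cohomology of a quotient -/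
theorem finite_of_epi [IsNoetherianRing A] [Epi g] (n : ℕ)
    (hE : Module.Finite A (Coh.HH X E n))
    (hK : Module.Finite A (Coh.HH X (kernel g) (n + 1))) : Module.Finite A (Coh.HH X F n) := by
  have hex := exact_δker A g n
  haveI : IsNoetherian A (Coh.HH X (kernel g) (n + 1)) :=
    isNoetherian_of_isNoetherianRing_of_finite A _
  refine ⟨Submodule.fg_of_fg_map_of_fg_inf_ker (δker A g n) ?_ ?_⟩
  · exact IsNoetherian.noetherian _
  · rw [top_inf_eq, LinearMap.exact_iff.1 hex, LinearMap.range_eq_map]
    exact hE.1.map _

end Groth.Agent.Helper1.HHLes
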