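import Groth.Agent.Helper1.ProjTop7
import Groth.Prelude.Def_Canon

/-!
# The top cohomology of `O(d)` on projective space: statements for `CohB1.ProjSpace`
-/

set_option autoImplicit false
set_option linter.style.haveILetI false

namespace Groth.Agent.Helper1.ProjTop

open CategoryTheory AlgebraicGeometry TopologicalSpace Opposite MvPolynomial
open Groth.Agent.Helper1.GrT Groth.Agent.Helper1.MVTop Groth.Agent.Helper1.PolyTop
open Groth.Agent.Helper1.KoszulPoly Groth.Agent.Helper1.ProjSpR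

universe u

section general

variable (A : Type u) [CommRing A] {X : Scheme.{u}} [X.Over (Spec (CommRingCat.of A))]

/-- an isomorphism of modules induces a linear equivalence on cohomology -/
noncomputable def HHlinEquiv {F G : X.Modules} (φ : F ≅ G) (n : ℕ) :
    Coh.HH X F n ≃ₗ[A] Coh.HH X G n :=
  LinearEquiv.ofLinear (Canon.HHlin A φ.hom n) (Canon.HHlin A φ.inv n)
    (by
      ext x
      show Sheaf.H.map ((SheafOfModules.toSheaf X.ringCatSheaf).map φ.hom) n
        (Sheaf.H.map ((SheafOfModules.toSheaf X.ringCatSheaf).map φ.inv) n x) = x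
      rw [← Sheaf.H.map_comp_apply]
      have h := ((SheafOfModules.toSheaf X.ringCatSheaf).mapIso φ).inv_hom_id
      show Sheaf.H.map (((SheafOfModules.toSheaf X.ringCatSheaf).mapIso φ).inv ≫
        ((SheafOfModules.toSheaf X.ringCatSheaf).mapIso φ).hom) n x = x
      rw [h, Sheaf.H.map_id_apply])
    (by
      ext x
      show Sheaf.H.map ((SheafOfModules.toSheaf X.ringCatSheaf).map φ.inv) n
        (Sheaf.H.map ((SheafOfModules.toSheaf X.ringCatSheaf).map φ.hom) n x) = x
      rw [← Sheaf.H.map_comp_apply]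
      have h := ((SheafOfModules.toSheaf X.ringCatSheaf).mapIso φ).hom_inv_id
      show Sheaf.H.map (((SheafOfModules.toSheaf X.ringCatSheaf).mapIso φ).hom ≫
        ((SheafOfModules.toSheaf X.ringCatSheaf).mapIso φ).inv) n x = x
      rw [h, Sheaf.H.map_id_apply])

end general

variable (r : ℕ) (R : Type u) [CommRing R] (d : ℤ)

attribute [local instance] overR

theorem nonempty_top_tilde (kk : ℕ) (hd : d = -((r : ℤ) + 1 + kk)) :
    Nonempty (Coh.HH (Proj (𝒜 r R)) (GrTilde.tilde (𝒜 r R) (𝒜 r R) d) r ≃ₗ[R] ↥(𝒜 r R kk)) := by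
  have key : ∀ q, q = r →
      Nonempty (Coh.HH (Proj (𝒜 r R)) (GrTilde.tilde (𝒜 r R) (𝒜 r R) d) q ≃ₗ[R] ↥(𝒜 r R kk)) →
      Nonempty (Coh.HH (Proj (𝒜 r R)) (GrTilde.tilde (𝒜 r R) (𝒜 r R) d) r ≃ₗ[R] ↥(𝒜 r R kk)) := by
    intro q hq
    subst hq
    exact id
  exact key _ (length_initList (V r R)) (nonempty_top_tilde_aux r R d kk hd)

theorem subsingleton_top_tilde (hr : 0 < r) (hd : -((r : ℤ) + 1) < d) :
    Subsingleton (Coh.HH (Proj (𝒜 r R)) (GrTilde.tilde (𝒜 r R) (𝒜 r R) d) r) := by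
  have key : ∀ q, q = r →
      Subsingleton (Coh.HH (Proj (𝒜 r R)) (GrTilde.tilde (𝒜 r R) (𝒜 r R) d) q) →
      Subsingleton (Coh.HH (Proj (𝒜 r R)) (GrTilde.tilde (𝒜 r R) (𝒜 r R) d) r) := by
    intro q hq
    subst hq
    exact id
  refine key _ (length_initList (V r R)) ?_
  refine subsingleton_of_forall_eq 0 (fun x => ?_)
  obtain ⟨s, rfl⟩ := topM_surjective r R d x
  exact topM_eq_zero_of_PsiI_eq_zero r R d hr s (PsiI_eq_zero_of_lt r R d hd s)

/-- **the top cohomology of `O(-(r+1+k))` on `P^r`** -/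
theorem nonempty_top (kk : ℕ) :
    Nonempty (Coh.HH (CohB1.ProjSpace r R) (Twist.twistProjSpace r R (-((r : ℤ) + 1 + kk))) r ≃ₗ[R]
      ↥(MvPolynomial.homogeneousSubmodule (Fin (r + 1)) R kk)) := by
  obtain ⟨e⟩ := nonempty_top_tilde r R (-((r : ℤ) + 1 + kk)) kk rfl
  exact ⟨(HHlinEquiv R (X := Proj (𝒜 r R))
    (Groth.Agent.Helper1.TwistIso.twistIsoTilde (𝒜 r R) (-((r : ℤ) + 1 + kk))) r).trans e⟩

/-- vanishing of the top cohomology of `O(d)` on `P^r`, `d > -(r+1)` -/
theorem subsingleton_top (hr : 0 < r) (hd : -((r : ℤ) + 1) < d) :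
    Subsingleton (Coh.HH (CohB1.ProjSpace r R) (Twist.twistProjSpace r R d) r) := by
  have := subsingleton_top_tilde r R d hr hd
  exact (HHlinEquiv R (X := Proj (𝒜 r R))
    (Groth.Agent.Helper1.TwistIso.twistIsoTilde (𝒜 r R) d) r).toEquiv.subsingleton

end Groth.Agent.Helper1.ProjTop
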