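import Mathlib
import Groth.Agent.Helper1.HHLes3
import Groth.Agent.Helper1.HHLes2
import Groth.Agent.Helper1.HHSum
import Groth.Agent.Helper1.ProjTop8

set_option autoImplicit false
set_option linter.style.haveILetI false

/-!
# Cohomology vanishing along a finite left resolution
-/

namespace Groth.Agent.Helper1.KzChase

open CategoryTheory Limits AlgebraicGeometry Opposite
open Groth.Agent.Helper1.HHLes Groth.Agent.Helper1.ProjTop Groth.Agent.Helper1.HHSum

universe u

/-- the cohomology of a zero object vanishes -/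
theorem subsingleton_HH_of_isZero {X : Scheme.{u}} {F : X.Modules} (hF : IsZero F) (n : ℕ) :
    Subsingleton (Coh.HH X F n) := by
  refine ⟨fun x y => ?_⟩
  have h1 : ∀ z : Coh.HH X F n, z = 0 := by
    intro z
    have h2 : ((Hn X n).map (𝟙 F)).hom z = z := by
      rw [CategoryTheory.Functor.map_id]
      rfl
    have h3 : (𝟙 F : F ⟶ F) = 0 := hF.eq_of_src _ _
    rw [h3, CategoryTheory.Functor.map_zero] at h2
    exact h2.symm
  rw [h1 x, h1 y]

/-- the middle term of an exact sequence with vanishing ends vanishes -/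
theorem subsingleton_of_exact (B : Type u) [CommRing B] {M₁ M₂ M₃ : Type*} [AddCommGroup M₁] [AddCommGroup M₂]
    [AddCommGroup M₃] [Module B M₁] [Module B M₂] [Module B M₃]
    (f : M₁ →ₗ[B] M₂) (g : M₂ →ₗ[B] M₃) (h : Function.Exact f g)
    [Subsingleton M₁] [Subsingleton M₃] : Subsingleton M₂ := by
  refine ⟨fun x y => ?_⟩
  have h1 : ∀ z : M₂, z = 0 := by
    intro z
    obtain ⟨w, hw⟩ := (h z).1 (Subsingleton.elim _ _)
    rw [← hw, Subsingleton.elim w 0, map_zero]
  rw [h1 x, h1 y]

variable (B : Type u) [CommRing B] {X : Scheme.{u}} [X.Over (Spec (CommRingCat.of B))]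
variable (C : ℕ → X.Modules) (d : ∀ p, C (p + 1) ⟶ C p)
  (hd : ∀ p, d (p + 1) ≫ d p = 0)
  (hex : ∀ p, (ShortComplex.mk (d (p + 1)) (d p) (hd p)).Exact)
  (r : ℕ) (hzero : ∀ p, r < p → IsZero (C p))

include B hex in
/-- one step of the induction -/
theorem step (p n : ℕ) (h1 : Subsingleton (Coh.HH X (C (p + 2)) n))
    (h2 : Subsingleton (Coh.HH X (kernel (d (p + 1))) (n + 1))) :
    Subsingleton (Coh.HH X (kernel (d p)) n) := by
  let g : C (p + 2) ⟶ kernel (d p) := kernel.lift (d p) (d (p + 1)) (hd p)
  haveI : Epi g := (ShortComplex.exact_iff_epi_kernel_lift _).1 (hex p)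
  have hg : g ≫ kernel.ι (d p) = d (p + 1) := kernel.lift_ι _ _ _
  let e : kernel g ≅ kernel (d (p + 1)) :=
    (kernelCompMono g (kernel.ι (d p))).symm ≪≫ kernelIsoOfEq hg
  haveI : Subsingleton (Coh.HH X (kernel g) (n + 1)) :=
    (HHlinEquiv B e (n + 1)).toEquiv.subsingleton
  exact subsingleton_of_exact B _ _ (exact_δker B g n)

include B hex hzero in
/-- the cohomology of the kernels vanishes -/
theorem subsingleton_HH_kernel (i : ℕ)
    (hvan : ∀ p, Subsingleton (Coh.HH X (C (p + 2)) (i + p + 1))) (p : ℕ) :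
    Subsingleton (Coh.HH X (kernel (d p)) (i + p + 1)) := by
  have key : ∀ m p : ℕ, r ≤ p + m → Subsingleton (Coh.HH X (kernel (d p)) (i + p + 1)) := by
    intro m
    induction m with
    | zero =>
      intro p hp
      apply subsingleton_HH_of_isZero
      have hz : IsZero (C (p + 1)) := hzero (p + 1) (by omega)
      exact IsZero.of_mono (kernel.ι (d p)) hz
    | succ m ih =>
      intro p hp
      have h2 := ih (p + 1) (by omega)
      exact step B C d hd hex p (i + p + 1) (hvan p) h2
  exact key r p (by omega)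

include B hex hzero in
/-- **vanishing along a resolution** -/
theorem subsingleton_HH_of_resolution [Epi (d 0)] (i : ℕ)
    (hvan : ∀ p, Subsingleton (Coh.HH X (C (p + 1)) (i + p))) :
    Subsingleton (Coh.HH X (C 0) i) := by
  haveI := subsingleton_HH_kernel B C d hd hex r hzero i (fun p => hvan (p + 1)) 0
  haveI := hvan 0
  exact subsingleton_of_exact B _ _ (exact_δker B (d 0) i)

include B hex hzero in
/-- **surjectivity on `H⁰` along a resolution** -/
theorem surjective_HHlin_of_resolution [Epi (d 0)]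
    (hvan : ∀ p, Subsingleton (Coh.HH X (C (p + 2)) (p + 1))) :
    Function.Surjective (Canon.HHlin B (d 0) 0) := by
  haveI : Subsingleton (Coh.HH X (kernel (d 0)) (0 + 0 + 1)) :=
    subsingleton_HH_kernel B C d hd hex r hzero 0
      (fun p => by rw [zero_add]; exact hvan p) 0
  intro y
  exact (exact_δker B (d 0) 0 y).1 (Subsingleton.elim _ _)

end Groth.Agent.Helper1.KzChase
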