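import Mathlib

set_option autoImplicit false

/-!
# The Koszul complex on functions of finite subsets of `ℕ`: Clifford relations

For a module `N` over a commutative ring `A` we consider `Finset ℕ → N` (the "total exterior
algebra with coefficients in `N`"), the exterior multiplications `E j` and the contractions `ι j`
and prove the Clifford relations.  The Koszul differential for `x : ℕ → A` and `r` variables is
`d r = ∑ j < r, x j • ι j`; we prove `d ∘ d = 0` and `d ∘ E j + E j ∘ d = x j`.
-/

namespace Groth.Agent.Helper1.KzAlg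

open Finset

/-- the sign `(-1)^{#{i ∈ J, i < j}}` -/
def sgn (j : ℕ) (J : Finset ℕ) : ℤ := (-1) ^ (J.filter (· < j)).card

lemma sgn_mul_self (j : ℕ) (J : Finset ℕ) : sgn j J * sgn j J = 1 := by
  unfold sgn
  rw [← mul_pow]
  simp

lemma sgn_insert_of_ne {i j : ℕ} (h : i ≠ j) (J : Finset ℕ) (hj : j ∉ J) :
    sgn i (insert j J) = (if j < i then -1 else 1) * sgn i J := by
  unfold sgn
  rw [Finset.filter_insert]
  split_ifs with hlt
  · rw [Finset.card_insert_of_notMem (fun hm => hj (Finset.mem_of_mem_filter _ hm)), pow_succ]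
    ring
  · rw [one_mul]

lemma sgn_insert_self (j : ℕ) (J : Finset ℕ) : sgn j (insert j J) = sgn j J := by
  unfold sgn
  rw [Finset.filter_insert, if_neg (lt_irrefl j)]

lemma sgn_erase_self (j : ℕ) (J : Finset ℕ) : sgn j (J.erase j) = sgn j J := by
  unfold sgn
  congr 2
  ext a
  simp only [Finset.mem_filter, Finset.mem_erase]
  constructor
  · rintro ⟨⟨-, h1⟩, h2⟩
    exact ⟨h1, h2⟩
  · rintro ⟨h1, h2⟩
    exact ⟨⟨fun h => by omega, h1⟩, h2⟩

lemma sgn_erase_of_ne {i j : ℕ} (h : i ≠ j) (J : Finset ℕ) (hj : j ∈ J) :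
    sgn i (J.erase j) = (if j < i then -1 else 1) * sgn i J := by
  have h1 := sgn_insert_of_ne h (J.erase j) (Finset.notMem_erase j J)
  rw [Finset.insert_erase hj] at h1
  rw [h1, ← mul_assoc]
  split_ifs <;> simp

variable {A : Type*} [CommRing A] {N : Type*} [AddCommGroup N] [Module A N]

/-- exterior multiplication by the `j`-th basis vector -/
def E (j : ℕ) : (Finset ℕ → N) →ₗ[A] (Finset ℕ → N) where
  toFun v I := if j ∈ I then sgn j (I.erase j) • v (I.erase j) else 0
  map_add' v w := by
    funext I
    simp only [Pi.add_apply]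
    split_ifs
    · rw [smul_add]
    · rw [add_zero]
  map_smul' a v := by
    funext I
    simp only [Pi.smul_apply, RingHom.id_apply]
    split_ifs
    · rw [smul_comm]
    · rw [smul_zero]

/-- contraction with the `j`-th coordinate -/
def ι (j : ℕ) : (Finset ℕ → N) →ₗ[A] (Finset ℕ → N) where
  toFun v J := if j ∈ J then 0 else sgn j J • v (insert j J)
  map_add' v w := by
    funext I
    simp only [Pi.add_apply]
    split_ifs
    · rw [add_zero]
    · rw [smul_add]
  map_smul' a v := by
    funext I
    simp only [Pi.smul_apply, RingHom.id_apply]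
    split_ifs
    · rw [smul_zero]
    · rw [smul_comm]

lemma E_apply (j : ℕ) (v : Finset ℕ → N) (I : Finset ℕ) :
    E (A := A) j v I = if j ∈ I then sgn j (I.erase j) • v (I.erase j) else 0 := rfl

lemma ι_apply (j : ℕ) (v : Finset ℕ → N) (J : Finset ℕ) :
    ι (A := A) j v J = if j ∈ J then 0 else sgn j J • v (insert j J) := rfl

lemma sgn_smul_sgn_smul (j : ℕ) (J : Finset ℕ) (n : N) : sgn j J • sgn j J • n = n := by
  rw [← mul_smul, sgn_mul_self, one_smul]

/-- `ι_j E_j + E_j ι_j = 1` -/
theorem ι_E_self (j : ℕ) (v : Finset ℕ → N) :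
    ι (A := A) j (E (A := A) j v) + E (A := A) j (ι (A := A) j v) = v := by
  funext I
  rw [Pi.add_apply, ι_apply j (E (A := A) j v) I, E_apply j (ι (A := A) j v) I]
  by_cases hj : j ∈ I
  · rw [if_pos hj, if_pos hj, zero_add, ι_apply j v (I.erase j),
      if_neg (Finset.notMem_erase j I), Finset.insert_erase hj, sgn_smul_sgn_smul]
  · rw [if_neg hj, if_neg hj, add_zero, E_apply j v (insert j I),
      if_pos (Finset.mem_insert_self j I), Finset.erase_insert hj, sgn_smul_sgn_smul]

/-- `ι_i E_j + E_j ι_i = 0` for `i ≠ j` -/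
theorem ι_E_of_ne {i j : ℕ} (h : i ≠ j) (v : Finset ℕ → N) :
    ι (A := A) i (E (A := A) j v) + E (A := A) j (ι (A := A) i v) = 0 := by
  funext I
  rw [Pi.add_apply, Pi.zero_apply, ι_apply i (E (A := A) j v) I, E_apply j (ι (A := A) i v) I]
  by_cases hi : i ∈ I
  · rw [if_pos hi, zero_add]
    by_cases hj : j ∈ I
    · rw [if_pos hj, ι_apply i v (I.erase j), if_pos (Finset.mem_erase.2 ⟨h, hi⟩), smul_zero]
    · rw [if_neg hj]
  · rw [if_neg hi, E_apply j v (insert i I)]
    by_cases hj : j ∈ I
    · have hj' : j ∈ insert i I := Finset.mem_insert_of_mem hj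
      have hi' : i ∉ I.erase j := fun hm => hi (Finset.mem_of_mem_erase hm)
      rw [if_pos hj', if_pos hj, ι_apply i v (I.erase j), if_neg hi']
      have e1 : (insert i I).erase j = insert i (I.erase j) :=
        Finset.erase_insert_of_ne h
      rw [e1, ← mul_smul, ← mul_smul]
      have hs1 : sgn i I = (if j < i then -1 else 1) * sgn i (I.erase j) := by
        have := sgn_insert_of_ne h (I.erase j) (Finset.notMem_erase j I)
        rwa [Finset.insert_erase hj] at this
      have hs2 : sgn j (insert i (I.erase j)) = (if i < j then -1 else 1) * sgn j (I.erase j) :=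
        sgn_insert_of_ne (Ne.symm h) (I.erase j) hi'
      rw [hs1, hs2, ← add_smul]
      have : ((if j < i then (-1 : ℤ) else 1) * sgn i (I.erase j) *
          ((if i < j then -1 else 1) * sgn j (I.erase j)) +
          sgn j (I.erase j) * sgn i (I.erase j)) = 0 := by
        rcases lt_or_gt_of_ne h with hlt | hlt
        · rw [if_neg (by omega), if_pos hlt]; ring
        · rw [if_pos hlt, if_neg (by omega)]; ring
      rw [this, zero_smul]
    · have hj' : j ∉ insert i I := by
        rw [Finset.mem_insert]
        rintro (h' | h')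
        · exact h h'.symm
        · exact hj h'
      rw [if_neg hj', if_neg hj, smul_zero, add_zero]

/-- `ι_j ι_j = 0` -/
theorem ι_ι_self (j : ℕ) (v : Finset ℕ → N) : ι (A := A) j (ι (A := A) j v) = 0 := by
  funext I
  rw [Pi.zero_apply, ι_apply j (ι (A := A) j v) I]
  split_ifs with hj
  · rfl
  · rw [ι_apply j v (insert j I), if_pos (Finset.mem_insert_self j I), smul_zero]

/-- `ι_i ι_j + ι_j ι_i = 0` for `i ≠ j` -/
theorem ι_ι_of_ne {i j : ℕ} (h : i ≠ j) (v : Finset ℕ → N) :
    ι (A := A) i (ι (A := A) j v) + ι (A := A) j (ι (A := A) i v) = 0 := by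
  funext I
  rw [Pi.add_apply, Pi.zero_apply, ι_apply i (ι (A := A) j v) I, ι_apply j (ι (A := A) i v) I]
  by_cases hi : i ∈ I
  · rw [if_pos hi, zero_add]
    by_cases hj : j ∈ I
    · rw [if_pos hj]
    · rw [if_neg hj, ι_apply i v (insert j I), if_pos (Finset.mem_insert_of_mem hi), smul_zero]
  · rw [if_neg hi]
    by_cases hj : j ∈ I
    · rw [if_pos hj, add_zero, ι_apply j v (insert i I), if_pos (Finset.mem_insert_of_mem hj),
        smul_zero]
    · rw [if_neg hj]
      have hj' : j ∉ insert i I := by
        rw [Finset.mem_insert]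
        rintro (h' | h')
        · exact h h'.symm
        · exact hj h'
      have hi' : i ∉ insert j I := by
        rw [Finset.mem_insert]
        rintro (h' | h')
        · exact h h'
        · exact hi h'
      rw [ι_apply j v (insert i I), if_neg hj', ι_apply i v (insert j I), if_neg hi',
        Finset.insert_comm j i I, ← mul_smul,
        ← mul_smul, ← add_smul, sgn_insert_of_ne (Ne.symm h) I hi, sgn_insert_of_ne h I hj]
      have : (sgn i I * ((if i < j then -1 else 1) * sgn j I) +
          sgn j I * ((if j < i then -1 else 1) * sgn i I)) = 0 := by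
        rcases lt_or_gt_of_ne h with hlt | hlt
        · rw [if_pos hlt, if_neg (by omega)]; ring
        · rw [if_neg (by omega), if_pos hlt]; ring
      rw [this, zero_smul]

variable (x : ℕ → A)

/-- the Koszul differential in the first `r` variables -/
def d (r : ℕ) : (Finset ℕ → N) →ₗ[A] (Finset ℕ → N) :=
  ∑ j ∈ Finset.range r, x j • ι (A := A) j

lemma d_succ (r : ℕ) : d (N := N) x (r + 1) = d x r + x r • ι (A := A) r := by
  unfold d
  rw [Finset.sum_range_succ]

lemma d_apply (r : ℕ) (v : Finset ℕ → N) :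
    d x r v = ∑ j ∈ Finset.range r, x j • ι (A := A) j v := by
  unfold d
  rw [LinearMap.sum_apply]
  rfl

/-- `ι_i d + d ι_i = 0` -/
theorem ι_d (i r : ℕ) (v : Finset ℕ → N) :
    ι (A := A) i (d x r v) + d x r (ι (A := A) i v) = 0 := by
  rw [d_apply, d_apply, map_sum, ← Finset.sum_add_distrib]
  apply Finset.sum_eq_zero
  intro j _
  rw [map_smul, ← smul_add]
  by_cases h : i = j
  · subst h
    rw [ι_ι_self, add_zero, smul_zero]
  · rw [ι_ι_of_ne h, smul_zero]

/-- `d ∘ d = 0` -/
theorem d_d (r : ℕ) (v : Finset ℕ → N) : d x r (d x r v) = 0 := by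
  induction r with
  | zero => simp [d]
  | succ r ih =>
    rw [d_succ]
    simp only [LinearMap.add_apply, LinearMap.smul_apply, map_add, map_smul]
    rw [ih, zero_add, ι_ι_self, smul_zero, add_zero, ← smul_add, ι_d, smul_zero]

/-- `d E_j + E_j d = x_j` for `j < r` -/
theorem d_E (r j : ℕ) (hj : j < r) (v : Finset ℕ → N) :
    d x r (E (A := A) j v) + E (A := A) j (d x r v) = x j • v := by
  rw [d_apply, d_apply, map_sum, ← Finset.sum_add_distrib]
  rw [Finset.sum_eq_single j]
  · rw [map_smul, ← smul_add, ι_E_self]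
  · intro i _ hij
    rw [map_smul, ← smul_add, ι_E_of_ne hij, smul_zero]
  · intro h
    exact absurd (Finset.mem_range.2 hj) h

end Groth.Agent.Helper1.KzAlg
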