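import Mathlib
import Groth.Agent.Helper1.KzClifford

set_option autoImplicit false

/-!
# The graded pieces of the Koszul complex on `Finset ℕ → N`
-/

namespace Groth.Agent.Helper1.KzAlg

open Finset

universe u

variable {A : Type u} [CommRing A] {N : Type u} [AddCommGroup N] [Module A N]

/-- the part of exterior degree `p` in the first `r` variables -/
def Kp (A : Type u) [CommRing A] (N : Type u) [AddCommGroup N] [Module A N] (r : ℕ) (p : ℤ) :
    Submodule A (Finset ℕ → N) where
  carrier := {v | ∀ I : Finset ℕ, ¬ (I ⊆ Finset.range r ∧ (I.card : ℤ) = p) → v I = 0}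
  add_mem' := by
    intro v w hv hw I hI
    rw [Pi.add_apply, hv I hI, hw I hI, add_zero]
  zero_mem' := fun _ _ => rfl
  smul_mem' := by
    intro a v hv I hI
    rw [Pi.smul_apply, hv I hI, smul_zero]

lemma mem_Kp {r : ℕ} {p : ℤ} {v : Finset ℕ → N} :
    v ∈ Kp A N r p ↔ ∀ I : Finset ℕ, ¬ (I ⊆ Finset.range r ∧ (I.card : ℤ) = p) → v I = 0 :=
  Iff.rfl

lemma ι_mem {r : ℕ} {p q : ℤ} (h : q + 1 = p) (j : ℕ) {v : Finset ℕ → N} (hv : v ∈ Kp A N r p) :
    ι (A := A) j v ∈ Kp A N r q := by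
  intro I hI
  rw [ι_apply]
  split_ifs with hj
  · rfl
  · rw [hv (insert j I), smul_zero]
    rintro ⟨h1, h2⟩
    apply hI
    refine ⟨(Finset.subset_insert j I).trans h1, ?_⟩
    rw [Finset.card_insert_of_notMem hj] at h2
    push_cast at h2
    omega

lemma E_mem {r : ℕ} {p q : ℤ} (h : q = p + 1) (j : ℕ) (hj : j < r) {v : Finset ℕ → N}
    (hv : v ∈ Kp A N r p) : E (A := A) j v ∈ Kp A N r q := by
  intro I hI
  rw [E_apply]
  split_ifs with hjI
  · rw [hv (I.erase j), smul_zero]
    rintro ⟨h1, h2⟩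
    apply hI
    refine ⟨?_, ?_⟩
    · intro a ha
      by_cases haj : a = j
      · rw [haj]; exact Finset.mem_range.2 hj
      · exact h1 (Finset.mem_erase.2 ⟨haj, ha⟩)
    · have := Finset.card_erase_add_one hjI
      omega
  · rfl

variable (x : ℕ → A)

lemma d_mem {r : ℕ} {p q : ℤ} (h : q + 1 = p) (s : ℕ) {v : Finset ℕ → N} (hv : v ∈ Kp A N r p) :
    d x s v ∈ Kp A N r q := by
  rw [d_apply]
  apply Submodule.sum_mem
  intro j _
  exact Submodule.smul_mem _ _ (ι_mem h j hv)

/-- the Koszul differential on the graded pieces -/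
def dR (r : ℕ) (p q : ℤ) (h : q + 1 = p) : Kp A N r p →ₗ[A] Kp A N r q :=
  (d x r).restrict (fun _ hv => d_mem x h r hv)

/-- the homotopy on the graded pieces -/
def ER (r : ℕ) (j : ℕ) (hj : j < r) (p q : ℤ) (h : q = p + 1) : Kp A N r p →ₗ[A] Kp A N r q :=
  (E (A := A) j).restrict (fun _ hv => E_mem h j hj hv)

lemma dR_coe (r : ℕ) (p q : ℤ) (h : q + 1 = p) (v : Kp A N r p) :
    ((dR x r p q h v : Kp A N r q) : Finset ℕ → N) = d x r v.1 := rfl

lemma ER_coe (r : ℕ) (j : ℕ) (hj : j < r) (p q : ℤ) (h : q = p + 1) (v : Kp A N r p) :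
    ((ER (A := A) (N := N) r j hj p q h v : Kp A N r q) : Finset ℕ → N) = E (A := A) j v.1 := rfl

theorem dR_dR (r : ℕ) (p q s : ℤ) (h : q + 1 = p) (h' : s + 1 = q) (v : Kp A N r p) :
    dR x r q s h' (dR x r p q h v) = 0 := by
  apply Subtype.ext
  rw [dR_coe, dR_coe]
  exact d_d x r v.1

theorem dR_ER (r : ℕ) (j : ℕ) (hj : j < r) (p q s : ℤ) (h : q = p + 1) (h' : s + 1 = p)
    (v : Kp A N r p) :
    dR x r q p (by omega) (ER r j hj p q h v) + ER r j hj s p (by omega) (dR x r p s h' v) =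
      x j • v := by
  apply Subtype.ext
  rw [Submodule.coe_add, dR_coe, ER_coe, ER_coe, dR_coe]
  exact d_E x r j hj v.1

/-- the graded pieces vanish outside `0 ≤ p ≤ r` -/
lemma eq_zero_of_lt {r : ℕ} {p : ℤ} (hp : p < 0 ∨ (r : ℤ) < p) (v : Kp A N r p) : v = 0 := by
  apply Subtype.ext
  funext I
  apply v.2
  rintro ⟨h1, h2⟩
  have := Finset.card_le_card h1
  rw [Finset.card_range] at this
  omega

/-- the inclusion of the summand indexed by `I` -/
def incl (r : ℕ) (p : ℤ) (I : Finset ℕ) (hI : I ⊆ Finset.range r ∧ (I.card : ℤ) = p) :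
    N →ₗ[A] Kp A N r p where
  toFun n := ⟨fun J => if J = I then n else 0, by
    intro J hJ
    by_cases h : J = I
    · subst h
      exact absurd hI hJ
    · exact if_neg h⟩
  map_add' n m := by
    apply Subtype.ext
    funext J
    show (if J = I then n + m else 0) = (if J = I then n else 0) + (if J = I then m else 0)
    split_ifs
    · rfl
    · rw [add_zero]
  map_smul' a n := by
    apply Subtype.ext
    funext J
    show (if J = I then a • n else 0) = a • (if J = I then n else 0)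
    split_ifs
    · rfl
    · rw [smul_zero]

lemma incl_coe (r : ℕ) (p : ℤ) (I : Finset ℕ) (hI : I ⊆ Finset.range r ∧ (I.card : ℤ) = p)
    (n : N) (J : Finset ℕ) :
    ((incl (A := A) r p I hI n : Kp A N r p) : Finset ℕ → N) J = if J = I then n else 0 := rfl

/-- the projection to the summand indexed by `I` -/
def proj (r : ℕ) (p : ℤ) (I : Finset ℕ) : Kp A N r p →ₗ[A] N where
  toFun v := v.1 I
  map_add' _ _ := rfl
  map_smul' _ _ := rfl

lemma proj_incl (r : ℕ) (p : ℤ) (I J : Finset ℕ)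
    (hI : I ⊆ Finset.range r ∧ (I.card : ℤ) = p) (n : N) :
    proj (A := A) r p J (incl r p I hI n) = if J = I then n else 0 := rfl

/-- the index set of the summands -/
def idx (r p : ℕ) : Finset (Finset ℕ) := Finset.powersetCard p (Finset.range r)

lemma mem_idx {r p : ℕ} {I : Finset ℕ} :
    I ∈ idx r p ↔ I ⊆ Finset.range r ∧ ((I.card : ℤ) = (p : ℤ)) := by
  unfold idx
  rw [Finset.mem_powersetCard]
  constructor
  · rintro ⟨h1, h2⟩
    exact ⟨h1, by exact_mod_cast h2⟩
  · rintro ⟨h1, h2⟩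
    exact ⟨h1, by exact_mod_cast h2⟩

lemma card_idx (r p : ℕ) : (idx r p).card = Nat.choose r p := by
  unfold idx
  rw [Finset.card_powersetCard, Finset.card_range]

theorem sum_incl_proj (r p : ℕ) (v : Kp A N r (p : ℤ)) :
    ∑ I ∈ (idx r p).attach, incl r (p : ℤ) I.1 (mem_idx.1 I.2) (proj r (p : ℤ) I.1 v) = v := by
  apply Subtype.ext
  funext J
  rw [Submodule.coe_sum, Finset.sum_apply]
  by_cases hJ : J ∈ idx r p
  · rw [Finset.sum_eq_single ⟨J, hJ⟩]
    · rw [incl_coe, if_pos rfl]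
      rfl
    · intro I _ hIJ
      rw [incl_coe, if_neg]
      intro h
      apply hIJ
      exact Subtype.ext h.symm
    · intro h
      exact absurd (Finset.mem_attach _ _) h
  · rw [v.2 J (fun h => hJ (mem_idx.2 h))]
    apply Finset.sum_eq_zero
    intro I _
    rw [incl_coe, if_neg]
    intro h
    apply hJ
    rw [h]
    exact I.2

end Groth.Agent.Helper1.KzAlg
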