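import Mathlib
import Groth.Agent.Helper1.KzDeg

set_option autoImplicit false

/-!
# The internal grading on the graded pieces of the Koszul complex
-/

namespace Groth.Agent.Helper1.KzAlg

open Finset

universe u

variable {R A : Type u} [CommRing R] [CommRing A] [Algebra R A] (𝒜 : ℕ → Submodule R A)
  [GradedAlgebra 𝒜]
variable {N : Type u} [AddCommGroup N] [Module R N] [Module A N] [IsScalarTower R A N]
  (𝒩 : ℕ → Submodule R N) [SetLike.GradedSMul 𝒜 𝒩]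

/-- the internal grading -/
def gr (r : ℕ) (p : ℤ) (i : ℕ) : Submodule R (Kp A N r p) where
  carrier := {v | ∀ I : Finset ℕ, v.1 I ∈ 𝒩 i}
  add_mem' := by
    intro v w hv hw I
    exact Submodule.add_mem _ (hv I) (hw I)
  zero_mem' := fun _ => Submodule.zero_mem _
  smul_mem' := by
    intro c v hv I
    exact Submodule.smul_mem _ c (hv I)

lemma mem_gr {r : ℕ} {p : ℤ} {i : ℕ} {v : Kp A N r p} :
    v ∈ gr 𝒩 r p i ↔ ∀ I : Finset ℕ, v.1 I ∈ 𝒩 i := Iff.rfl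

instance gradedSMul_gr (r : ℕ) (p : ℤ) : SetLike.GradedSMul 𝒜 (gr (A := A) 𝒩 r p) where
  smul_mem := by
    intro i j a v ha hv I
    exact SetLike.GradedSMul.smul_mem ha (hv I)

variable {𝒩}

lemma ι_mem_gr (j : ℕ) (i : ℕ) (v : Finset ℕ → N) (hv : ∀ I : Finset ℕ, v I ∈ 𝒩 i)
    (I : Finset ℕ) : ι (A := A) j v I ∈ 𝒩 i := by
  rw [ι_apply]
  split_ifs
  · exact Submodule.zero_mem _
  · exact (𝒩 i).toAddSubgroup.zsmul_mem (hv _) _

lemma E_mem_gr (j : ℕ) (i : ℕ) (v : Finset ℕ → N) (hv : ∀ I : Finset ℕ, v I ∈ 𝒩 i)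
    (I : Finset ℕ) : E (A := A) j v I ∈ 𝒩 i := by
  rw [E_apply]
  split_ifs
  · exact (𝒩 i).toAddSubgroup.zsmul_mem (hv _) _
  · exact Submodule.zero_mem _

variable (x : ℕ → A) (hx : ∀ j, x j ∈ 𝒜 1)

include hx in
lemma smul_mem_gr (j : ℕ) (i : ℕ) (n : N) (hn : n ∈ 𝒩 i) : x j • n ∈ 𝒩 (i + 1) := by
  have := SetLike.GradedSMul.smul_mem (A := 𝒜) (B := 𝒩) (hx j) hn
  rwa [vadd_eq_add, add_comm] at this

include hx in
lemma dR_mem_gr (r : ℕ) (p q : ℤ) (h : q + 1 = p) (i : ℕ) (v : Kp A N r p)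
    (hv : v ∈ gr 𝒩 r p i) : dR x r p q h v ∈ gr 𝒩 r q (i + 1) := by
  intro I
  rw [dR_coe, d_apply, Finset.sum_apply]
  apply Submodule.sum_mem
  intro j _
  rw [Pi.smul_apply]
  exact smul_mem_gr 𝒜 x hx j i _ (ι_mem_gr j i v.1 hv I)

lemma ER_mem_gr (r : ℕ) (j : ℕ) (hj : j < r) (p q : ℤ) (h : q = p + 1) (i : ℕ) (v : Kp A N r p)
    (hv : v ∈ gr 𝒩 r p i) : ER (A := A) r j hj p q h v ∈ gr 𝒩 r q (i + 0) := by
  intro I
  rw [ER_coe]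
  exact E_mem_gr j i v.1 hv I

lemma incl_mem_gr (r : ℕ) (p : ℤ) (I : Finset ℕ) (hI : I ⊆ Finset.range r ∧ (I.card : ℤ) = p)
    (i : ℕ) (n : N) (hn : n ∈ 𝒩 i) : incl (A := A) r p I hI n ∈ gr 𝒩 r p (i + 0) := by
  intro J
  rw [incl_coe]
  split_ifs
  · exact hn
  · exact Submodule.zero_mem _

lemma proj_mem_gr (r : ℕ) (p : ℤ) (I : Finset ℕ) (i : ℕ) (v : Kp A N r p)
    (hv : v ∈ gr 𝒩 r p i) : proj (A := A) r p I v ∈ 𝒩 (i + 0) := hv I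

include hx in
lemma smulx_mem_gr (r : ℕ) (p : ℤ) (j : ℕ) (i : ℕ) (v : Kp A N r p)
    (hv : v ∈ gr 𝒩 r p i) : x j • v ∈ gr 𝒩 r p (i + 1) := by
  intro I
  exact smul_mem_gr 𝒜 x hx j i _ (hv I)

end Groth.Agent.Helper1.KzAlg
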