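import Mathlib
import Groth.Prelude.Def_GrMod2
import Groth.Agent.Helper1.GrT4

set_option autoImplicit false
set_option linter.unusedSectionVars false

/-!
# Functoriality of `M ↦ M(n)~` for graded linear maps (with a shift of degrees)
-/

namespace Groth.Agent.Helper1.TildeMap

open CategoryTheory AlgebraicGeometry TopologicalSpace Opposite
open Groth.Agent.Helper1.GrT

universe u

variable {R A : Type u} [CommRing R] [CommRing A] [Algebra R A] (𝒜 : ℕ → Submodule R A)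
  [GradedAlgebra 𝒜]
variable {M : Type u} [AddCommGroup M] [Module R M] [Module A M]
  (ℳ : ℕ → Submodule R M) [SetLike.GradedSMul 𝒜 ℳ]
variable {N : Type u} [AddCommGroup N] [Module R N] [Module A N]
  (𝒩 : ℕ → Submodule R N) [SetLike.GradedSMul 𝒜 𝒩]
variable (g : M →ₗ[A] N) (k : ℕ) (hg : ∀ (i : ℕ) (x : M), x ∈ ℳ i → g x ∈ 𝒩 (i + k))

/-- the map on the localizations -/
noncomputable def locMap (y : ProjectiveSpectrum 𝒜) :
    GrTilde.LocMod 𝒜 (M := M) y →ₗ[Twist.Loc 𝒜 y] GrTilde.LocMod 𝒜 (M := N) y :=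
  LocalizedModule.map y.asHomogeneousIdeal.toIdeal.primeCompl g

lemma locMap_mk (y : ProjectiveSpectrum 𝒜) (m : M)
    (t : y.asHomogeneousIdeal.toIdeal.primeCompl) :
    locMap 𝒜 g y (LocalizedModule.mk m t) = LocalizedModule.mk (g m) t :=
  LocalizedModule.map_mk _ g m t

lemma locMap_a0_smul (y : ProjectiveSpectrum 𝒜) (c : Twist.A0 𝒜 y)
    (q : GrTilde.LocMod 𝒜 (M := M) y) : locMap 𝒜 g y (c • q) = c • locMap 𝒜 g y q := by
  rw [GrTilde.a0_smul_def, GrTilde.a0_smul_def, map_smul]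

include hg in
lemma locMap_mem (n m : ℤ) (hm : m = n + k) (y : ProjectiveSpectrum 𝒜)
    (q : GrTilde.LocMod 𝒜 (M := M) y) (hq : q ∈ GrTilde.tildeAt 𝒜 ℳ n y) :
    locMap 𝒜 g y q ∈ GrTilde.tildeAt 𝒜 𝒩 m y := by
  unfold GrTilde.tildeAt at hq
  induction hq using Submodule.span_induction with
  | mem q hq =>
    obtain ⟨i, j, a, s, hs, hij, rfl⟩ := hq
    rw [locMap_mk]
    exact Submodule.subset_span ⟨i + k, j, ⟨g a.1, hg i a.1 a.2⟩, s, hs,
      by push_cast; rw [hm]; omega, rfl⟩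
  | zero => rw [map_zero]; exact Submodule.zero_mem _
  | add p q _ _ hp hq => rw [map_add]; exact Submodule.add_mem _ hp hq
  | smul c q _ hq =>
    rw [locMap_a0_smul]
    exact Submodule.smul_mem _ c hq

/-- the map on sections -/
noncomputable def sectMap (n m : ℤ) (hm : m = n + k)
    (U : (Opens (ProjectiveSpectrum.top 𝒜))ᵒᵖ) (f : GrTilde.sect 𝒜 ℳ n U) :
    GrTilde.sect 𝒜 𝒩 m U :=
  ⟨fun x => ⟨locMap 𝒜 g x.1 (f.1 x).1, locMap_mem 𝒜 ℳ 𝒩 g k hg n m hm x.1 _ (f.1 x).2⟩,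
    fun x => by
      obtain ⟨V, hxV, i, i', j, a, s, hs, hij, hval⟩ := f.2 x
      refine ⟨V, hxV, i, i' + k, j, ⟨g a.1, hg i' a.1 a.2⟩, s, hs, ?_, ?_⟩
      · rcases hij with h | h
        · left
          push_cast
          rw [hm, h]
          ring
        · right
          show g a.1 = 0
          rw [h, map_zero]
      · intro z
        show locMap 𝒜 g _ _ = _
        have := hval z
        rw [this, locMap_mk]⟩

lemma sectMap_smul (n m : ℤ) (hm : m = n + k) (U : (Opens (ProjectiveSpectrum.top 𝒜))ᵒᵖ)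
    (c : Twist.O (𝒜 := 𝒜) U) (f : GrTilde.sect 𝒜 ℳ n U) :
    sectMap 𝒜 ℳ 𝒩 g k hg n m hm U (c • f) = c • sectMap 𝒜 ℳ 𝒩 g k hg n m hm U f := by
  apply Subtype.ext
  funext x
  apply Subtype.ext
  have h1 : ((c.1 x • f.1 x : GrTilde.tildeAt 𝒜 ℳ n x.1) : GrTilde.LocMod 𝒜 (M := M) x.1) =
      (c.1 x).val • ((f.1 x).1 : GrTilde.LocMod 𝒜 (M := M) x.1) :=
    GrTilde.coe_smul_val n x.1 (c.1 x) (f.1 x)
  have h2 : (((c • sectMap 𝒜 ℳ 𝒩 g k hg n m hm U f : GrTilde.sect 𝒜 𝒩 m U).1 x :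
      GrTilde.tildeAt 𝒜 𝒩 m x.1) : GrTilde.LocMod 𝒜 (M := N) x.1) =
      (c.1 x).val • (locMap 𝒜 g x.1 (f.1 x).1 : GrTilde.LocMod 𝒜 (M := N) x.1) :=
    GrTilde.coe_smul_val m x.1 (c.1 x) _
  refine Eq.trans ?_ h2.symm
  show locMap 𝒜 g x.1 ((c.1 x • f.1 x : GrTilde.tildeAt 𝒜 ℳ n x.1) :
    GrTilde.LocMod 𝒜 (M := M) x.1) = _
  rw [h1, map_smul]

/-- the morphism of abelian presheaves -/
noncomputable def preMap (n m : ℤ) (hm : m = n + k) :
    (GrTilde.tilde 𝒜 ℳ n).presheaf ⟶ (GrTilde.tilde 𝒜 𝒩 m).presheaf where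
  app U := AddCommGrpCat.ofHom
    { toFun := sectMap 𝒜 ℳ 𝒩 g k hg n m hm U
      map_zero' := by
        apply Subtype.ext
        funext x
        apply Subtype.ext
        exact map_zero (locMap 𝒜 g x.1)
      map_add' := fun f f' => by
        apply Subtype.ext
        funext x
        apply Subtype.ext
        exact map_add (locMap 𝒜 g x.1) _ _ }
  naturality _ _ _ := rfl

/-- **the morphism `M(n)~ ⟶ N(n+k)~` induced by a graded map of degree `k`** -/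
noncomputable def tildeMap (n m : ℤ) (hm : m = n + k) :
    GrTilde.tilde 𝒜 ℳ n ⟶ GrTilde.tilde 𝒜 𝒩 m :=
  ⟨PresheafOfModules.homMk (preMap 𝒜 ℳ 𝒩 g k hg n m hm)
    (fun U c f => sectMap_smul 𝒜 ℳ 𝒩 g k hg n m hm U c f)⟩

lemma val_tildeMap (n m : ℤ) (hm : m = n + k) (U : (Proj 𝒜).Opens)
    (u : Γ(GrTilde.tilde 𝒜 ℳ n, U)) (y : ProjectiveSpectrum.top 𝒜) (hy : y ∈ U) :
    val (𝒜 := 𝒜) (ℳ := 𝒩) (n := m) (U := U)
      ((tildeMap 𝒜 ℳ 𝒩 g k hg n m hm).app U u) y hy =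
      locMap 𝒜 g y (val (𝒜 := 𝒜) (ℳ := ℳ) (n := n) (U := U) u y hy) := rfl

end Groth.Agent.Helper1.TildeMap
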