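import Mathlib
import Groth.Prelude.Def_GrMod2
import Groth.Agent.Helper1.TildeMap

set_option autoImplicit false
set_option linter.unusedSectionVars false

/-!
# Functoriality and additivity of `tildeMap`
-/

namespace Groth.Agent.Helper1.TildeFun

open CategoryTheory AlgebraicGeometry TopologicalSpace Opposite
open Groth.Agent.Helper1.GrT Groth.Agent.Helper1.TildeMap

universe u

variable {R A : Type u} [CommRing R] [CommRing A] [Algebra R A] (𝒜 : ℕ → Submodule R A)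
  [GradedAlgebra 𝒜]
variable {M : Type u} [AddCommGroup M] [Module R M] [Module A M]
  (ℳ : ℕ → Submodule R M) [SetLike.GradedSMul 𝒜 ℳ]
variable {N : Type u} [AddCommGroup N] [Module R N] [Module A N]
  (𝒩 : ℕ → Submodule R N) [SetLike.GradedSMul 𝒜 𝒩]
variable {P : Type u} [AddCommGroup P] [Module R P] [Module A P]
  (𝒬 : ℕ → Submodule R P) [SetLike.GradedSMul 𝒜 𝒬]

lemma locMap_comp (g : M →ₗ[A] N) (g' : N →ₗ[A] P) (y : ProjectiveSpectrum 𝒜)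
    (q : GrTilde.LocMod 𝒜 (M := M) y) :
    locMap 𝒜 (g' ∘ₗ g) y q = locMap 𝒜 g' y (locMap 𝒜 g y q) := by
  induction q using LocalizedModule.induction_on with
  | h m t => rw [locMap_mk, locMap_mk, locMap_mk]; rfl

lemma locMap_id (y : ProjectiveSpectrum 𝒜) (q : GrTilde.LocMod 𝒜 (M := M) y) :
    locMap 𝒜 (LinearMap.id : M →ₗ[A] M) y q = q := by
  induction q using LocalizedModule.induction_on with
  | h m t => rw [locMap_mk]; rfl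

lemma locMap_add (g g' : M →ₗ[A] N) (y : ProjectiveSpectrum 𝒜)
    (q : GrTilde.LocMod 𝒜 (M := M) y) :
    locMap 𝒜 (g + g') y q = locMap 𝒜 g y q + locMap 𝒜 g' y q := by
  unfold locMap
  rw [map_add]
  rfl

lemma locMap_zero (y : ProjectiveSpectrum 𝒜) (q : GrTilde.LocMod 𝒜 (M := M) y) :
    locMap 𝒜 (0 : M →ₗ[A] N) y q = 0 := by
  unfold locMap
  rw [map_zero]
  rfl

lemma locMap_smul (a : A) (g : M →ₗ[A] N) (y : ProjectiveSpectrum 𝒜)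
    (q : GrTilde.LocMod 𝒜 (M := M) y) :
    locMap 𝒜 (a • g) y q = a • locMap 𝒜 g y q := by
  unfold locMap
  rw [map_smul]
  rfl

variable {𝒜 ℳ} in
/-- extensionality of sections (without the decomposition hypotheses) -/
lemma sect_ext' {n : ℤ} {U : Opens (ProjectiveSpectrum.top 𝒜)}
    (s s' : GrTilde.sect 𝒜 ℳ n (op U))
    (h : ∀ (y : ProjectiveSpectrum.top 𝒜) (hy : y ∈ U), val s y hy = val s' y hy) : s = s' := by
  apply Subtype.ext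
  funext y
  apply Subtype.ext
  exact h y.1 y.2

/-- extensionality for morphisms into a tilde -/
lemma hom_ext_val {n m : ℤ} (φ ψ : GrTilde.tilde 𝒜 ℳ n ⟶ GrTilde.tilde 𝒜 𝒩 m)
    (h : ∀ (U : (Proj 𝒜).Opens) (u : Γ(GrTilde.tilde 𝒜 ℳ n, U)) (y : ProjectiveSpectrum.top 𝒜)
      (hy : y ∈ U),
      val (𝒜 := 𝒜) (ℳ := 𝒩) (n := m) (U := U) (φ.app U u) y hy =
        val (𝒜 := 𝒜) (ℳ := 𝒩) (n := m) (U := U) (ψ.app U u) y hy) : φ = ψ := by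
  apply Scheme.Modules.hom_ext
  intro U
  ext u
  exact sect_ext' _ _ (h U u)

variable (g : M →ₗ[A] N) (k : ℕ) (hg : ∀ (i : ℕ) (x : M), x ∈ ℳ i → g x ∈ 𝒩 (i + k))
variable (g' : N →ₗ[A] P) (k' : ℕ) (hg' : ∀ (i : ℕ) (x : N), x ∈ 𝒩 i → g' x ∈ 𝒬 (i + k'))

theorem tildeMap_comp (n m l : ℤ) (hm : m = n + k) (hl : l = m + k')
    (hgg : ∀ (i : ℕ) (x : M), x ∈ ℳ i → (g' ∘ₗ g) x ∈ 𝒬 (i + (k + k')))
    (hl' : l = n + ((k + k' : ℕ) : ℤ)) :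
    tildeMap 𝒜 ℳ 𝒩 g k hg n m hm ≫ tildeMap 𝒜 𝒩 𝒬 g' k' hg' m l hl =
      tildeMap 𝒜 ℳ 𝒬 (g' ∘ₗ g) (k + k') hgg n l hl' := by
  apply hom_ext_val
  intro U u y hy
  rw [val_tildeMap]
  exact (locMap_comp 𝒜 g g' y _).symm

theorem tildeMap_congr (g₂ : M →ₗ[A] N) (h : g = g₂)
    (hg₂ : ∀ (i : ℕ) (x : M), x ∈ ℳ i → g₂ x ∈ 𝒩 (i + k)) (n m : ℤ) (hm : m = n + k) :
    tildeMap 𝒜 ℳ 𝒩 g k hg n m hm = tildeMap 𝒜 ℳ 𝒩 g₂ k hg₂ n m hm := by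
  subst h
  rfl

theorem tildeMap_id (n m : ℤ) (hm : m = n + (0 : ℕ))
    (h0 : ∀ (i : ℕ) (x : M), x ∈ ℳ i → (LinearMap.id : M →ₗ[A] M) x ∈ ℳ (i + 0)) :
    tildeMap 𝒜 ℳ ℳ (LinearMap.id : M →ₗ[A] M) 0 h0 n m hm =
      eqToHom (by rw [hm]; simp) := by
  have hmn : m = n := by rw [hm]; simp
  subst hmn
  rw [eqToHom_refl]
  apply hom_ext_val
  intro U u y hy
  rw [val_tildeMap]
  exact locMap_id 𝒜 y _

theorem tildeMap_add (g₂ : M →ₗ[A] N)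
    (hg₂ : ∀ (i : ℕ) (x : M), x ∈ ℳ i → g₂ x ∈ 𝒩 (i + k))
    (hadd : ∀ (i : ℕ) (x : M), x ∈ ℳ i → (g + g₂) x ∈ 𝒩 (i + k)) (n m : ℤ) (hm : m = n + k) :
    tildeMap 𝒜 ℳ 𝒩 (g + g₂) k hadd n m hm =
      tildeMap 𝒜 ℳ 𝒩 g k hg n m hm + tildeMap 𝒜 ℳ 𝒩 g₂ k hg₂ n m hm := by
  apply hom_ext_val
  intro U u y hy
  rw [val_tildeMap]
  exact locMap_add 𝒜 g g₂ y _

theorem tildeMap_zero (h0 : ∀ (i : ℕ) (x : M), x ∈ ℳ i → (0 : M →ₗ[A] N) x ∈ 𝒩 (i + k))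
    (n m : ℤ) (hm : m = n + k) :
    tildeMap 𝒜 ℳ 𝒩 (0 : M →ₗ[A] N) k h0 n m hm = 0 := by
  apply hom_ext_val
  intro U u y hy
  rw [val_tildeMap]
  exact locMap_zero 𝒜 y _

end Groth.Agent.Helper1.TildeFun
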