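import Groth.Agent.Helper4.H1Twist
import Groth.Agent.Helper4.EpiStalk
import Groth.Agent.Helper4.SubSec
import Mathlib

/-!
# Tensoring with an invertible module is exact

For an invertible `O_X`-module `B` on a scheme `X`, the functor `- ⊗ B`
(`DCoh.tensorRightMod B`, on morphisms `KoszTw.tensorMap · (𝟙 B)`) preserves short exact sequences,
hence finite limits and colimits.
-/

set_option autoImplicit false
open CategoryTheory Limits AlgebraicGeometry TopologicalSpace Opposite
universe u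

namespace Groth.Agent.Helper1.TwistExact

open Groth.Agent.Helper4.TensorAssoc Groth.Agent.Helper4.IdealTwist Groth.Agent.Helper4.TwistExt
  Groth.Agent.Helper4.StalkExact Groth.Agent.Helper4.SubSec Groth.Agent.Helper4.TwistLocal
  Groth.Agent.Helper4.GenLoc Groth.Agent.Helper4.EpiStalk

variable {X : Scheme.{u}}

/-- a section which is locally in the image of a monomorphism is in the image -/
theorem mem_range_of_locally {A C : X.Modules} (i : A ⟶ C) [Mono i] (T : X.Opens) (x : Γ(C, T))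
    (h : ∀ y ∈ T, ∃ (W : X.Opens) (hW : W ≤ T), y ∈ W ∧
      ∃ t : Γ(A, W), i.app W t = C.presheaf.map (homOfLE hW).op x) :
    ∃ t : Γ(A, T), i.app T t = x := by
  rw [← cokernel_π_app_eq_zero_iff i T x]
  apply eq_of_cover
  intro y hy
  obtain ⟨W, hW, hyW, t, ht⟩ := h y hy
  refine ⟨W, hW, hyW, ?_⟩
  rw [← app_res (cokernel.π i) (homOfLE hW) x, ← ht, map_zero]
  exact (cokernel_π_app_eq_zero_iff i W _).mpr ⟨t, rfl⟩

/-- a morphism of modules along which sections lift locally is an epimorphism -/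
theorem epi_of_local_lift {F G : X.Modules} (p : F ⟶ G)
    (h : ∀ (T : X.Opens) (t : Γ(G, T)) (x : X), x ∈ T → ∃ (W : X.Opens) (hW : W ≤ T), x ∈ W ∧
      ∃ s : Γ(F, W), p.app W s = G.presheaf.map (homOfLE hW).op t) : Epi p := by
  suffices Epi ((SheafOfModules.toSheaf X.ringCatSheaf).map p) from
    (SheafOfModules.toSheaf X.ringCatSheaf).epi_of_epi_map this
  have h1 : TopCat.Presheaf.IsLocallySurjective
      ((SheafOfModules.toSheaf X.ringCatSheaf).map p).hom := by
    rw [TopCat.Presheaf.isLocallySurjective_iff]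
    intro T t x hx
    obtain ⟨W, hW, hxW, s, hs⟩ := h T t x hx
    exact ⟨W, hW, ⟨s, hs⟩, hxW⟩
  exact (TopCat.Sheaf.isLocallySurjective_iff_epi
    ((SheafOfModules.toSheaf X.ringCatSheaf).map p)).mp h1

section Psi

variable (A B : X.Modules) (U : X.Opens)
  (ε : B.restrict U.ι ≅ Coh.structureModule (U : Scheme.{u}))

theorem Psi_zero (W' : (U : Scheme.{u}).Opens) : Psi A B U ε W' 0 = 0 := by
  unfold Psi
  refine Eq.trans (congrArg _ (Eq.trans (congrArg _ (map_zero _)) (map_zero _))) (map_zero _)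

end Psi

/-- tensoring with an invertible module preserves epimorphisms -/
theorem epi_tensorMap {A A' : X.Modules} (φ : A ⟶ A') [Epi φ] (B : X.Modules)
    (hB : PicF.IsInvertible B) : Epi (KoszTw.tensorMap φ (𝟙 B)) := by
  apply epi_of_local_lift
  intro T t x hx
  obtain ⟨U, hxU, -, ⟨ε⟩⟩ := exists_affine_triv B hB x
  obtain ⟨W', hW'⟩ : ∃ W' : (U : Scheme.{u}).Opens, T ⊓ U = U.ι ''ᵁ W' :=
    ⟨U.ι ⁻¹ᵁ (T ⊓ U), (image_preimage_of_le' _ inf_le_right).symm⟩
  have hW₀T : U.ι ''ᵁ W' ≤ T := hW' ▸ inf_le_left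
  have hxW₀ : x ∈ U.ι ''ᵁ W' := hW' ▸ ⟨hx, hxU⟩
  obtain ⟨t₀, ht₀d⟩ : ∃ t₀, t₀ = (CohB1.tensorMod A' B).presheaf.map (homOfLE hW₀T).op t := ⟨_, rfl⟩
  have ht₀ := eq_tmul_gen A' B U ε W' t₀
  obtain ⟨W, hWW₀, hxW, s, hs⟩ :=
    exists_local_lift_of_epi φ (U.ι ''ᵁ W') (Psi A' B U ε W' t₀) x hxW₀
  refine ⟨W, hWW₀.trans hW₀T, hxW,
    SecTwist.tmul A B W s (B.presheaf.map (homOfLE hWW₀).op (gen B U ε W')), ?_⟩
  rw [KoszTw.tensorMap_tmul, hs]
  have h2 : (CohB1.tensorMod A' B).presheaf.map (homOfLE (hWW₀.trans hW₀T)).op t =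
      (CohB1.tensorMod A' B).presheaf.map (homOfLE hWW₀).op t₀ := by
    rw [ht₀d, ← ConcreteCategory.comp_apply, ← Functor.map_comp]
    rfl
  rw [h2]
  conv_rhs => rw [ht₀]
  rw [tmul_res]
  rfl

/-- the key local lifting for exactness in the middle, over a trivializing open -/
theorem exists_preimage_of_le {S : ShortComplex X.Modules} (hS : S.Exact) [Mono S.f]
    (B : X.Modules) (U : X.Opens) (ε : B.restrict U.ι ≅ Coh.structureModule (U : Scheme.{u}))
    (W' : (U : Scheme.{u}).Opens) (w : Γ(CohB1.tensorMod S.X₂ B, U.ι ''ᵁ W'))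
    (hw : (KoszTw.tensorMap S.g (𝟙 B)).app (U.ι ''ᵁ W') w = 0) :
    ∃ t : Γ(CohB1.tensorMod S.X₁ B, U.ι ''ᵁ W'),
      (KoszTw.tensorMap S.f (𝟙 B)).app (U.ι ''ᵁ W') t = w := by
  have h1 := Psi_tensorMap S.X₂ S.X₃ B U ε S.g W' w
  rw [hw, Psi_zero] at h1
  obtain ⟨k, hk⟩ := (app_exact S hS (U.ι ''ᵁ W') (Psi S.X₂ B U ε W' w)).1 h1.symm
  obtain ⟨t, ht⟩ := (Psi_bijective S.X₁ B U ε W').2 k
  refine ⟨t, (Psi_bijective S.X₂ B U ε W').1 ?_⟩
  rw [Psi_tensorMap, ht, hk]

/-- exactness in the middle on sections, for the twisted sequence -/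
theorem exists_preimage {S : ShortComplex X.Modules} (hS : S.Exact) [Mono S.f]
    (B : X.Modules) (hB : PicF.IsInvertible B) (T : X.Opens)
    (w : Γ(CohB1.tensorMod S.X₂ B, T))
    (hw : (KoszTw.tensorMap S.g (𝟙 B)).app T w = 0) :
    ∃ t : Γ(CohB1.tensorMod S.X₁ B, T), (KoszTw.tensorMap S.f (𝟙 B)).app T t = w := by
  have := Groth.Agent.Helper4.H1Twist.mono_tensorMap S.f B hB
  apply mem_range_of_locally
  intro y hy
  obtain ⟨U, hyU, -, ⟨ε⟩⟩ := exists_affine_triv B hB y
  obtain ⟨W', hW'⟩ : ∃ W' : (U : Scheme.{u}).Opens, T ⊓ U = U.ι ''ᵁ W' :=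
    ⟨U.ι ⁻¹ᵁ (T ⊓ U), (image_preimage_of_le' _ inf_le_right).symm⟩
  have hWT : U.ι ''ᵁ W' ≤ T := hW' ▸ inf_le_left
  refine ⟨U.ι ''ᵁ W', hWT, hW' ▸ ⟨hy, hyU⟩, ?_⟩
  apply exists_preimage_of_le hS B U ε W'
  rw [app_res, hw, map_zero]

theorem tensorMap_comp_eq_zero {A₁ A₂ A₃ : X.Modules} (f : A₁ ⟶ A₂) (g : A₂ ⟶ A₃) (h : f ≫ g = 0)
    (B : X.Modules) : KoszTw.tensorMap f (𝟙 B) ≫ KoszTw.tensorMap g (𝟙 B) = 0 := by
  have h1 : (DCoh.tensorRightMod B).map f ≫ (DCoh.tensorRightMod B).map g = 0 := by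
    rw [← Functor.map_comp, h, Functor.map_zero]
  have e1 := KoszTw.tensorRightMod_map f B
  have e2 := KoszTw.tensorRightMod_map g B
  exact (congrArg₂ (fun (a : CohB1.tensorMod A₁ B ⟶ CohB1.tensorMod A₂ B)
    (b : CohB1.tensorMod A₂ B ⟶ CohB1.tensorMod A₃ B) => a ≫ b) e1 e2).symm.trans h1

/-- the twist of the kernel is the kernel of the twist -/
theorem exists_iso_kernel {S : ShortComplex X.Modules} (hS : S.Exact) [Mono S.f]
    (B : X.Modules) (hB : PicF.IsInvertible B) :
    ∃ e : CohB1.tensorMod S.X₁ B ≅ kernel (KoszTw.tensorMap S.g (𝟙 B)),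
      e.hom ≫ kernel.ι _ = KoszTw.tensorMap S.f (𝟙 B) := by
  have := Groth.Agent.Helper4.H1Twist.mono_tensorMap S.f B hB
  apply exists_iso_of_sections
  · intro T s
    apply (exists_kernel_section_iff _ T _).2
    have h0 := tensorMap_comp_eq_zero S.f S.g S.zero B
    have := congrArg (fun γ => (Scheme.Modules.Hom.app γ T) s) h0
    exact this
  · intro T t
    exact exists_preimage hS B hB T _ ((exists_kernel_section_iff _ T _).1 ⟨t, rfl⟩)

/-- a complex whose first map is a kernel of the second (up to iso) is exact -/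
theorem exact_of_iso_kernel {C : Type*} [Category C] [Abelian C] {A₁ A₂ A₃ : C} (f : A₁ ⟶ A₂)
    (g : A₂ ⟶ A₃) (w : f ≫ g = 0) (e : A₁ ≅ kernel g) (he : e.hom ≫ kernel.ι g = f) :
    (ShortComplex.mk f g w).Exact := by
  have hK : (ShortComplex.mk (kernel.ι g) g (kernel.condition g)).Exact :=
    ShortComplex.exact_of_f_is_kernel _ (kernelIsKernel g)
  have iso : ShortComplex.mk f g w ≅ ShortComplex.mk (kernel.ι g) g (kernel.condition g) :=
    ShortComplex.isoMk e (Iso.refl _) (Iso.refl _) (by simp [he]) (by simp)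
  exact (ShortComplex.exact_iff_of_iso iso).2 hK

/-- **tensoring with an invertible module preserves short exact sequences** -/
theorem shortExact_map_tensorRightMod {S : ShortComplex X.Modules} (hS : S.ShortExact)
    (B : X.Modules) (hB : PicF.IsInvertible B) : (S.map (DCoh.tensorRightMod B)).ShortExact := by
  have := hS.mono_f
  have := hS.epi_g
  have hm : Mono ((DCoh.tensorRightMod B).map S.f) := by
    rw [KoszTw.tensorRightMod_map]
    exact Groth.Agent.Helper4.H1Twist.mono_tensorMap S.f B hB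
  have he : Epi ((DCoh.tensorRightMod B).map S.g) := by
    rw [KoszTw.tensorRightMod_map]
    exact epi_tensorMap S.g B hB
  obtain ⟨e, he'⟩ : ∃ e : CohB1.tensorMod S.X₁ B ≅ kernel ((DCoh.tensorRightMod B).map S.g),
      e.hom ≫ kernel.ι _ = (DCoh.tensorRightMod B).map S.f := by
    rw [KoszTw.tensorRightMod_map, KoszTw.tensorRightMod_map]
    exact exists_iso_kernel hS.exact B hB
  exact ShortComplex.ShortExact.mk' (exact_of_iso_kernel _ _ _ e he') hm he

theorem preservesFiniteLimits_tensorRightMod (B : X.Modules) (hB : PicF.IsInvertible B) :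
    PreservesFiniteLimits (DCoh.tensorRightMod B) := by
  have h := ((Functor.exact_tfae (DCoh.tensorRightMod B)).out 0 3).1
    (fun _ hS => shortExact_map_tensorRightMod hS B hB)
  exact h.1

theorem preservesFiniteColimits_tensorRightMod (B : X.Modules) (hB : PicF.IsInvertible B) :
    PreservesFiniteColimits (DCoh.tensorRightMod B) := by
  have h := ((Functor.exact_tfae (DCoh.tensorRightMod B)).out 0 3).1
    (fun _ hS => shortExact_map_tensorRightMod hS B hB)
  exact h.2

/-- the twist of the kernel of an epimorphism is the kernel of the twist -/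
theorem nonempty_kernel_tensorMap_iso {E F : X.Modules} (g : E ⟶ F) (B : X.Modules)
    (hB : PicF.IsInvertible B) :
    Nonempty (kernel (KoszTw.tensorMap g (𝟙 B)) ≅ CohB1.tensorMod (kernel g) B) := by
  let S : ShortComplex X.Modules := ShortComplex.mk (kernel.ι g) g (kernel.condition g)
  have hS : S.Exact := ShortComplex.exact_of_f_is_kernel _ (kernelIsKernel g)
  haveI : Mono S.f := inferInstanceAs (Mono (kernel.ι g))
  obtain ⟨e, -⟩ := exists_iso_kernel hS B hB
  exact ⟨e.symm⟩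

/-- tensoring commutes with finite coproducts -/
theorem nonempty_sigma_tensor_iso {k : ℕ} (G : Fin k → X.Modules) (B : X.Modules) :
    Nonempty (CohB1.tensorMod (∐ G) B ≅ ∐ fun j => CohB1.tensorMod (G j) B) :=
  ⟨PreservesCoproduct.iso (DCoh.tensorRightMod B) G⟩

end Groth.Agent.Helper1.TwistExact
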