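import Mathlib
import Groth.Agent.Helper1.TildeFun
import Groth.Agent.Helper1.TwistExact

set_option autoImplicit false
set_option linter.unusedSectionVars false

/-!
# Exactness of `tilde` on sequences of graded modules which are exact up to a homotopy by
degree-one elements covering `Proj`
-/

namespace Groth.Agent.Helper1.TildeExact

open CategoryTheory Limits AlgebraicGeometry TopologicalSpace Opposite
open Groth.Agent.Helper1.GrT Groth.Agent.Helper1.TildeMap Groth.Agent.Helper1.TildeFun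

universe u

/-- a short complex of modules along which kernel sections lift locally is exact -/
theorem exact_of_local_lift {X : Scheme.{u}} (S : ShortComplex X.Modules)
    (h : ∀ (T : X.Opens) (t : Γ(S.X₂, T)), S.g.app T t = 0 → ∀ x : X, x ∈ T →
      ∃ (W : X.Opens) (hW : W ≤ T), x ∈ W ∧
        ∃ r : Γ(S.X₁, W), S.f.app W r = S.X₂.presheaf.map (homOfLE hW).op t) : S.Exact := by
  rw [S.exact_iff_epi_kernel_lift]
  apply Groth.Agent.Helper1.TwistExact.epi_of_local_lift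
  intro T k x hx
  have ht : S.g.app T ((kernel.ι S.g).app T k) = 0 := by
    have h1 : (kernel.ι S.g ≫ S.g).app T k = 0 := by
      rw [kernel.condition]
      rfl
    exact h1
  obtain ⟨W, hW, hxW, r, hr⟩ := h T _ ht x hx
  refine ⟨W, hW, hxW, r, ?_⟩
  apply Groth.Agent.Helper4.AffineDict.app_injective_of_mono (kernel.ι S.g) W
  have h2 : (kernel.ι S.g).app W ((kernel.lift S.g S.f S.zero).app W r) = S.f.app W r := by
    have h3 : (kernel.lift S.g S.f S.zero ≫ kernel.ι S.g).app W r = S.f.app W r := by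
      rw [kernel.lift_ι]
    exact h3
  rw [h2, hr]
  exact (Groth.Agent.Helper4.StalkExact.app_res (kernel.ι S.g) (homOfLE hW) k).symm

variable {R A : Type u} [CommRing R] [CommRing A] [Algebra R A] (𝒜 : ℕ → Submodule R A)
  [GradedAlgebra 𝒜]
variable {M : Type u} [AddCommGroup M] [Module R M] [Module A M]
  (ℳ : ℕ → Submodule R M) [SetLike.GradedSMul 𝒜 ℳ]
variable {N : Type u} [AddCommGroup N] [Module R N] [Module A N]
  (𝒩 : ℕ → Submodule R N) [SetLike.GradedSMul 𝒜 𝒩]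
variable {Q : Type u} [AddCommGroup Q] [Module R Q] [Module A Q]
  (𝒬 : ℕ → Submodule R Q) [SetLike.GradedSMul 𝒜 𝒬]

variable (f : M →ₗ[A] N) (hf : ∀ (i : ℕ) (x : M), x ∈ ℳ i → f x ∈ 𝒩 (i + 1))
variable (g : N →ₗ[A] Q) (hg : ∀ (i : ℕ) (x : N), x ∈ 𝒩 i → g x ∈ 𝒬 (i + 1))
variable (hfg : ∀ m : M, g (f m) = 0)

include hfg in
theorem tildeMap_comp_eq_zero (a b c : ℤ) (hb : b = a + (1 : ℕ)) (hc : c = b + (1 : ℕ)) :
    tildeMap 𝒜 ℳ 𝒩 f 1 hf a b hb ≫ tildeMap 𝒜 𝒩 𝒬 g 1 hg b c hc = 0 := by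
  have h0 : g ∘ₗ f = 0 := by
    ext m
    exact hfg m
  have hgg : ∀ (i : ℕ) (x : M), x ∈ ℳ i → (g ∘ₗ f) x ∈ 𝒬 (i + (1 + 1)) := by
    intro i x _
    rw [h0]
    exact Submodule.zero_mem _
  rw [tildeMap_comp 𝒜 ℳ 𝒩 𝒬 f 1 hf g 1 hg a b c hb hc hgg (by rw [hc, hb]; push_cast; ring)]
  have hz : ∀ (i : ℕ) (x : M), x ∈ ℳ i → (0 : M →ₗ[A] Q) x ∈ 𝒬 (i + (1 + 1)) :=
    fun i x _ => Submodule.zero_mem _
  rw [tildeMap_congr 𝒜 ℳ 𝒬 (g ∘ₗ f) (1 + 1) hgg 0 h0 hz]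
  exact tildeMap_zero 𝒜 ℳ 𝒬 (1 + 1) hz _ _ _

variable {ι : Type} (x : ι → A) (hx : ∀ j, x j ∈ 𝒜 1)
  (hcov : ∀ y : ProjectiveSpectrum 𝒜, ∃ j, x j ∉ y.asHomogeneousIdeal)
  (h : ι → N →ₗ[A] M) (hh : ∀ (j : ι) (i : ℕ) (z : N), z ∈ 𝒩 i → h j z ∈ ℳ i)
  (h' : ι → Q →ₗ[A] N)
  (hrel : ∀ (j : ι) (z : N), f (h j z) + h' j (g z) = x j • z)

include hx hcov hh hrel in
/-- **exactness of `tilde` for sequences with homotopies** -/
theorem exact_tildeMap (a b c : ℤ) (hb : b = a + (1 : ℕ)) (hc : c = b + (1 : ℕ)) :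
    (ShortComplex.mk (tildeMap 𝒜 ℳ 𝒩 f 1 hf a b hb) (tildeMap 𝒜 𝒩 𝒬 g 1 hg b c hc)
      (tildeMap_comp_eq_zero 𝒜 ℳ 𝒩 𝒬 f hf g hg hfg a b c hb hc)).Exact := by
  apply exact_of_local_lift
  intro T t ht y hy
  obtain ⟨j, hj⟩ := hcov y
  obtain ⟨V, hyV, iV, i', jj, a0, s0, hs0, hij, hval⟩ :=
    (show GrTilde.sect 𝒜 𝒩 b (op T) from t).2 ⟨y, hy⟩
  -- the open neighbourhood
  let W : (Proj 𝒜).Opens := V ⊓ Proj.basicOpen 𝒜 (x j)
  have hWT : W ≤ T := inf_le_left.trans (leOfHom iV)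
  have hyW : y ∈ W := ⟨hyV, (Proj.mem_basicOpen 𝒜 (x j) y).2 hj⟩
  have hWx : ∀ z : ProjectiveSpectrum.top 𝒜, z ∈ W → x j ∉ z.asHomogeneousIdeal :=
    fun z hz => (Proj.mem_basicOpen 𝒜 (x j) z).1 hz.2
  have hWs : ∀ z : ProjectiveSpectrum.top 𝒜, z ∈ W → s0.1 ∉ z.asHomogeneousIdeal :=
    fun z hz => hs0 ⟨z, hz.1⟩
  -- values of `t` on `W`
  have hvalt : ∀ (z : ProjectiveSpectrum.top 𝒜) (hz : z ∈ W),
      val (𝒜 := 𝒜) (ℳ := 𝒩) (n := b) (U := T) t z (hWT hz) =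
        LocalizedModule.mk a0.1 ⟨s0.1, hWs z hz⟩ := fun z hz => hval ⟨z, hz.1⟩
  -- the vanishing of `g a0` at the points of `W`
  have hzero : ∀ (z : ProjectiveSpectrum.top 𝒜) (hz : z ∈ W),
      ∃ u : A, u ∉ z.asHomogeneousIdeal ∧ u • g a0.1 = 0 := by
    intro z hz
    have h1 : val (𝒜 := 𝒜) (ℳ := 𝒬) (n := c) (U := T)
        ((tildeMap 𝒜 𝒩 𝒬 g 1 hg b c hc).app T t) z (hWT hz) = 0 := by
      have : (tildeMap 𝒜 𝒩 𝒬 g 1 hg b c hc).app T t = 0 := ht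
      rw [this]
      rfl
    rw [val_tildeMap, hvalt z hz, locMap_mk,
      ← LocalizedModule.zero_mk (1 : z.asHomogeneousIdeal.toIdeal.primeCompl),
      LocalizedModule.mk_eq] at h1
    obtain ⟨u, hu⟩ := h1
    refine ⟨u.1, u.2, ?_⟩
    simpa [Submonoid.smul_def] using hu
  -- the key pointwise identity
  have hkey : ∀ (z : ProjectiveSpectrum.top 𝒜) (hz : z ∈ W),
      (LocalizedModule.mk (f (h j a0.1)) ⟨x j * s0.1, fun hm =>
          (z.isPrime.mem_or_mem hm).elim (hWx z hz) (hWs z hz)⟩ :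
          GrTilde.LocMod 𝒜 (M := N) z) =
        LocalizedModule.mk a0.1 ⟨s0.1, hWs z hz⟩ := by
    intro z hz
    obtain ⟨u, hu, hu0⟩ := hzero z hz
    rw [LocalizedModule.mk_eq]
    refine ⟨⟨u, hu⟩, ?_⟩
    show u • s0.1 • f (h j a0.1) = u • (x j * s0.1) • a0.1
    have h2 : u • f (h j a0.1) = u • x j • a0.1 := by
      have := hrel j a0.1
      have h3 : u • (f (h j a0.1) + h' j (g a0.1)) = u • x j • a0.1 := by rw [this]
      rw [smul_add, ← map_smul (h' j) u (g a0.1), hu0, map_zero, add_zero] at h3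
      exact h3
    rw [smul_comm u s0.1, h2, mul_smul, smul_comm (x j) s0.1, smul_comm u s0.1]
  rcases hij with hij | hij
  · -- the generic case
    have hdeg : ((i' : ℕ) : ℤ) = ((1 + jj : ℕ) : ℤ) + a := by
      rw [hij, hb]; push_cast; ring
    let r : GrTilde.sect 𝒜 ℳ a (op W) :=
      fracSect 𝒜 ℳ a (h j a0.1) (hh j i' a0.1 a0.2) (x j * s0.1)
        (SetLike.mul_mem_graded (hx j) s0.2) hdeg W
        (fun z hz hm => (z.isPrime.mem_or_mem hm).elim (hWx z hz) (hWs z hz))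
    refine ⟨W, hWT, hyW, r, ?_⟩
    apply sect_ext'
    intro z hz
    rw [val_tildeMap]
    refine Eq.trans ?_ (hvalt z hz).symm
    refine Eq.trans ?_ (hkey z hz)
    exact locMap_mk 𝒜 f z _ _
  · -- the zero case
    refine ⟨W, hWT, hyW, 0, ?_⟩
    apply sect_ext'
    intro z hz
    refine Eq.trans ?_ (hvalt z hz).symm
    rw [hij, map_zero]
    exact (LocalizedModule.zero_mk _).symm

end Groth.Agent.Helper1.TildeExact
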