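import Mathlib
import Groth.Agent.Helper1.KzGr
import Groth.Agent.Helper1.TildeExact

set_option autoImplicit false
set_option linter.unusedSectionVars false

/-!
# The Koszul complex of sheaves `… → M(a-1)~^{(r choose 1)} → M(a)~ → 0` on `Proj`
-/

namespace Groth.Agent.Helper1.KzSheaf

open CategoryTheory Limits AlgebraicGeometry TopologicalSpace Opposite
open Groth.Agent.Helper1.GrT Groth.Agent.Helper1.TildeMap Groth.Agent.Helper1.TildeFun
  Groth.Agent.Helper1.TildeExact Groth.Agent.Helper1.KzAlg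

universe u

variable {R A : Type u} [CommRing R] [CommRing A] [Algebra R A] (𝒜 : ℕ → Submodule R A)
  [GradedAlgebra 𝒜]
variable {N : Type u} [AddCommGroup N] [Module R N] [Module A N] [IsScalarTower R A N]
  (𝒩 : ℕ → Submodule R N) [SetLike.GradedSMul 𝒜 𝒩]
variable (x : ℕ → A) (hx : ∀ j, x j ∈ 𝒜 1) (r : ℕ)

/-- the terms of the Koszul complex of sheaves -/
noncomputable abbrev C (p a : ℤ) : (Proj 𝒜).Modules :=
  GrTilde.tilde 𝒜 (gr (A := A) 𝒩 r p) a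

/-- the differential -/
noncomputable def dC (p q : ℤ) (h : q + 1 = p) (a b : ℤ) (hb : b = a + (1 : ℕ)) :
    C 𝒜 𝒩 r p a ⟶ C 𝒜 𝒩 r q b :=
  tildeMap 𝒜 (gr (A := A) 𝒩 r p) (gr (A := A) 𝒩 r q) (dR x r p q h) 1
    (fun i v hv => dR_mem_gr 𝒜 x hx r p q h i v hv) a b hb

theorem dC_comp (p q s : ℤ) (h : q + 1 = p) (h' : s + 1 = q) (a b c : ℤ) (hb : b = a + (1 : ℕ))
    (hc : c = b + (1 : ℕ)) :
    dC 𝒜 𝒩 x hx r p q h a b hb ≫ dC 𝒜 𝒩 x hx r q s h' b c hc = 0 :=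
  tildeMap_comp_eq_zero 𝒜 _ _ _ _ _ _ _ (fun v => dR_dR x r p q s h h' v) a b c hb hc

/-- **exactness of the Koszul complex of sheaves** -/
theorem exact_dC (hcov : ∀ y : ProjectiveSpectrum 𝒜, ∃ j, j < r ∧ x j ∉ y.asHomogeneousIdeal)
    (p q s : ℤ) (h : q + 1 = p) (h' : s + 1 = q) (a b c : ℤ) (hb : b = a + (1 : ℕ))
    (hc : c = b + (1 : ℕ)) :
    (ShortComplex.mk (dC 𝒜 𝒩 x hx r p q h a b hb) (dC 𝒜 𝒩 x hx r q s h' b c hc)
      (dC_comp 𝒜 𝒩 x hx r p q s h h' a b c hb hc)).Exact := by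
  apply exact_tildeMap 𝒜 (gr (A := A) 𝒩 r p) (gr (A := A) 𝒩 r q) (gr (A := A) 𝒩 r s)
    (dR x r p q h) _ (dR x r q s h') _ (fun v => dR_dR x r p q s h h' v)
    (ι := Fin r) (fun j => x j.1) (fun j => hx j.1)
    (fun y => by
      obtain ⟨j, hj, hjy⟩ := hcov y
      exact ⟨⟨j, hj⟩, hjy⟩)
    (fun j => ER (A := A) (N := N) r j.1 j.2 q p (by omega))
    (fun j i z hz => ER_mem_gr r j.1 j.2 q p (by omega) i z hz)
    (fun j => ER (A := A) (N := N) r j.1 j.2 s q (by omega))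
    (fun j z => dR_ER x r j.1 j.2 q p s (by omega) h' z)

end Groth.Agent.Helper1.KzSheaf
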