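import Mathlib
import Groth.Agent.Helper1.KzSheaf

set_option autoImplicit false
set_option linter.unusedSectionVars false

/-!
# The terms of the Koszul complex of sheaves are finite direct sums of copies of `M(a)~`
-/

namespace Groth.Agent.Helper1.KzSheaf

open CategoryTheory Limits AlgebraicGeometry TopologicalSpace Opposite
open Groth.Agent.Helper1.GrT Groth.Agent.Helper1.TildeMap Groth.Agent.Helper1.TildeFun
  Groth.Agent.Helper1.TildeExact Groth.Agent.Helper1.KzAlg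

universe u v

section general

variable {𝒞 : Type u} [Category.{v} 𝒞] [Preadditive 𝒞]

/-- an object with a complete system of `c` orthogonal "idempotents" factoring through `Y` is a
coproduct of `c` copies of `Y` -/
theorem nonempty_iso_sigma_of_total {Z Y : 𝒞} (c : ℕ) [HasCoproduct (fun _ : Fin c => Y)]
    (i : Fin c → (Y ⟶ Z)) (p : Fin c → (Z ⟶ Y))
    (hip : ∀ k l, i k ≫ p l = if k = l then 𝟙 Y else 0)
    (htot : ∑ k, p k ≫ i k = 𝟙 Z) : Nonempty (Z ≅ ∐ fun _ : Fin c => Y) := by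
  refine ⟨⟨∑ k, p k ≫ Sigma.ι (fun _ : Fin c => Y) k, Sigma.desc i, ?_, ?_⟩⟩
  · rw [Preadditive.sum_comp]
    rw [← htot]
    apply Finset.sum_congr rfl
    intro k _
    rw [Category.assoc, Sigma.ι_desc]
  · apply Sigma.hom_ext
    intro l
    rw [Sigma.ι_desc_assoc, Preadditive.comp_sum, Category.comp_id]
    rw [Finset.sum_eq_single l]
    · rw [← Category.assoc, hip, if_pos rfl, Category.id_comp]
    · intro k _ hkl
      rw [← Category.assoc, hip, if_neg (Ne.symm hkl), zero_comp]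
    · intro h
      exact absurd (Finset.mem_univ l) h

end general

variable {R A : Type u} [CommRing R] [CommRing A] [Algebra R A] (𝒜 : ℕ → Submodule R A)
  [GradedAlgebra 𝒜]

section sum

variable {M : Type u} [AddCommGroup M] [Module R M] [Module A M]
  (ℳ : ℕ → Submodule R M) [SetLike.GradedSMul 𝒜 ℳ]
variable {N : Type u} [AddCommGroup N] [Module R N] [Module A N]
  (𝒩 : ℕ → Submodule R N) [SetLike.GradedSMul 𝒜 𝒩]

theorem tildeMap_sum {ι : Type*} (s : Finset ι) (k : ℕ) (g : ι → M →ₗ[A] N)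
    (hg : ∀ (j : ι) (i : ℕ) (x : M), x ∈ ℳ i → g j x ∈ 𝒩 (i + k))
    (hsum : ∀ (i : ℕ) (x : M), x ∈ ℳ i → (∑ j ∈ s, g j) x ∈ 𝒩 (i + k))
    (n m : ℤ) (hm : m = n + k) :
    tildeMap 𝒜 ℳ 𝒩 (∑ j ∈ s, g j) k hsum n m hm =
      ∑ j ∈ s, tildeMap 𝒜 ℳ 𝒩 (g j) k (hg j) n m hm := by
  classical
  induction s using Finset.induction_on with
  | empty =>
    refine (tildeMap_congr 𝒜 ℳ 𝒩 _ k hsum 0 Finset.sum_empty
      (fun i x _ => Submodule.zero_mem _) n m hm).trans ?_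
    rw [Finset.sum_empty]
    exact tildeMap_zero 𝒜 ℳ 𝒩 k _ n m hm
  | insert a s ha ih =>
    have hs' : ∀ (i : ℕ) (x : M), x ∈ ℳ i → (∑ j ∈ s, g j) x ∈ 𝒩 (i + k) := by
      intro i x hx
      rw [LinearMap.sum_apply]
      exact Submodule.sum_mem _ (fun j _ => hg j i x hx)
    have hadd : ∀ (i : ℕ) (x : M), x ∈ ℳ i → (g a + ∑ j ∈ s, g j) x ∈ 𝒩 (i + k) := by
      intro i x hx
      exact Submodule.add_mem _ (hg a i x hx) (hs' i x hx)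
    refine (tildeMap_congr 𝒜 ℳ 𝒩 _ k hsum _ (Finset.sum_insert ha) hadd n m hm).trans ?_
    rw [tildeMap_add 𝒜 ℳ 𝒩 (g a) k (hg a) _ hs' hadd n m hm, ih hs', Finset.sum_insert ha]

end sum

variable {N : Type u} [AddCommGroup N] [Module R N] [Module A N] [IsScalarTower R A N]
  (𝒩 : ℕ → Submodule R N) [SetLike.GradedSMul 𝒜 𝒩]
variable (r : ℕ)

/-- the terms outside the range `0 ≤ p ≤ r` vanish -/
theorem isZero_C (p a : ℤ) (hp : p < 0 ∨ (r : ℤ) < p) : IsZero (C 𝒜 𝒩 r p a) := by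
  rw [IsZero.iff_id_eq_zero]
  have h0 : ∀ (i : ℕ) (v : Kp A N r p), v ∈ gr (A := A) 𝒩 r p i →
      (LinearMap.id : Kp A N r p →ₗ[A] Kp A N r p) v ∈ gr (A := A) 𝒩 r p (i + 0) :=
    fun i v hv => hv
  have h1 := tildeMap_id 𝒜 (gr (A := A) 𝒩 r p) a a (by simp) h0
  rw [eqToHom_refl] at h1
  rw [← show tildeMap 𝒜 (gr (A := A) 𝒩 r p) (gr (A := A) 𝒩 r p) LinearMap.id 0 h0 a a (by simp) =
    𝟙 (C 𝒜 𝒩 r p a) from h1]
  have hid : (LinearMap.id : Kp A N r p →ₗ[A] Kp A N r p) = 0 := by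
    ext v : 1
    rw [eq_zero_of_lt hp v]
    rfl
  refine (tildeMap_congr 𝒜 _ _ _ 0 h0 0 hid (fun i v _ => Submodule.zero_mem _) a a
    (by simp)).trans ?_
  exact tildeMap_zero 𝒜 _ _ 0 _ a a _

/-- the inclusion of a summand -/
noncomputable def inclC (p : ℕ) (a : ℤ) (I : idx r p) :
    GrTilde.tilde 𝒜 𝒩 a ⟶ C 𝒜 𝒩 r (p : ℤ) a :=
  tildeMap 𝒜 𝒩 (gr (A := A) 𝒩 r (p : ℤ)) (incl r (p : ℤ) I.1 (mem_idx.1 I.2)) 0
    (fun i n hn => incl_mem_gr r (p : ℤ) I.1 (mem_idx.1 I.2) i n hn) a a (by simp)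

/-- the projection to a summand -/
noncomputable def projC (p : ℕ) (a : ℤ) (I : idx r p) :
    C 𝒜 𝒩 r (p : ℤ) a ⟶ GrTilde.tilde 𝒜 𝒩 a :=
  tildeMap 𝒜 (gr (A := A) 𝒩 r (p : ℤ)) 𝒩 (proj r (p : ℤ) I.1) 0
    (fun i v hv => proj_mem_gr r (p : ℤ) I.1 i v hv) a a (by simp)

theorem inclC_projC (p : ℕ) (a : ℤ) (I J : idx r p) :
    inclC 𝒜 𝒩 r p a I ≫ projC 𝒜 𝒩 r p a J = if I = J then 𝟙 _ else 0 := by
  unfold inclC projC
  have hgg : ∀ (i : ℕ) (n : N), n ∈ 𝒩 i →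
      (proj (A := A) r (p : ℤ) J.1 ∘ₗ incl r (p : ℤ) I.1 (mem_idx.1 I.2)) n ∈ 𝒩 (i + (0 + 0)) := by
    intro i n hn
    show proj (A := A) r (p : ℤ) J.1 (incl r (p : ℤ) I.1 (mem_idx.1 I.2) n) ∈ 𝒩 i
    rw [proj_incl]
    split_ifs
    · exact hn
    · exact Submodule.zero_mem _
  refine (tildeMap_comp 𝒜 𝒩 (gr (A := A) 𝒩 r (p : ℤ)) 𝒩 _ 0 _ _ 0 _ a a a (by simp) (by simp)
    hgg (by simp)).trans ?_
  by_cases hIJ : I = J
  · rw [if_pos hIJ]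
    have hid : (proj (A := A) r (p : ℤ) J.1 ∘ₗ incl r (p : ℤ) I.1 (mem_idx.1 I.2)) =
        (LinearMap.id : N →ₗ[A] N) := by
      ext n
      show proj (A := A) r (p : ℤ) J.1 (incl r (p : ℤ) I.1 (mem_idx.1 I.2) n) = n
      rw [proj_incl, if_pos (by rw [hIJ])]
    have h0 : ∀ (i : ℕ) (n : N), n ∈ 𝒩 i → (LinearMap.id : N →ₗ[A] N) n ∈ 𝒩 (i + (0 + 0)) :=
      fun i n hn => hn
    refine (tildeMap_congr 𝒜 𝒩 𝒩 _ (0 + 0) hgg _ hid h0 a a (by simp)).trans ?_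
    have := tildeMap_id 𝒜 𝒩 a a (by simp) h0
    rw [eqToHom_refl] at this
    exact this
  · rw [if_neg hIJ]
    have hz : (proj (A := A) r (p : ℤ) J.1 ∘ₗ incl r (p : ℤ) I.1 (mem_idx.1 I.2)) =
        (0 : N →ₗ[A] N) := by
      ext n
      show proj (A := A) r (p : ℤ) J.1 (incl r (p : ℤ) I.1 (mem_idx.1 I.2) n) = 0
      rw [proj_incl, if_neg]
      intro h
      exact hIJ (Subtype.ext h.symm)
    refine (tildeMap_congr 𝒜 𝒩 𝒩 _ (0 + 0) hgg 0 hz (fun i n _ => Submodule.zero_mem _) a a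
      (by simp)).trans ?_
    exact tildeMap_zero 𝒜 𝒩 𝒩 (0 + 0) _ a a _

theorem sum_projC_inclC (p : ℕ) (a : ℤ) :
    ∑ I ∈ (idx r p).attach, projC 𝒜 𝒩 r p a I ≫ inclC 𝒜 𝒩 r p a I = 𝟙 _ := by
  unfold inclC projC
  have hgg : ∀ (I : idx r p) (i : ℕ) (v : Kp A N r (p : ℤ)), v ∈ gr (A := A) 𝒩 r (p : ℤ) i →
      (incl r (p : ℤ) I.1 (mem_idx.1 I.2) ∘ₗ proj (A := A) r (p : ℤ) I.1) v ∈
        gr (A := A) 𝒩 r (p : ℤ) (i + (0 + 0)) :=
    fun I i v hv => incl_mem_gr r (p : ℤ) I.1 (mem_idx.1 I.2) i _ (hv I.1)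
  have h1 : ∀ I ∈ (idx r p).attach,
      tildeMap 𝒜 (gr (A := A) 𝒩 r (p : ℤ)) 𝒩 (proj r (p : ℤ) I.1) 0
        (fun i v hv => proj_mem_gr r (p : ℤ) I.1 i v hv) a a (by simp) ≫
      tildeMap 𝒜 𝒩 (gr (A := A) 𝒩 r (p : ℤ)) (incl r (p : ℤ) I.1 (mem_idx.1 I.2)) 0
        (fun i n hn => incl_mem_gr r (p : ℤ) I.1 (mem_idx.1 I.2) i n hn) a a (by simp) =
      tildeMap 𝒜 (gr (A := A) 𝒩 r (p : ℤ)) (gr (A := A) 𝒩 r (p : ℤ))
        (incl r (p : ℤ) I.1 (mem_idx.1 I.2) ∘ₗ proj (A := A) r (p : ℤ) I.1) (0 + 0) (hgg I)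
        a a (by simp) := by
    intro I _
    exact tildeMap_comp 𝒜 (gr (A := A) 𝒩 r (p : ℤ)) 𝒩 (gr (A := A) 𝒩 r (p : ℤ)) _ 0 _ _ 0 _
      a a a (by simp) (by simp) (hgg I) (by simp)
  refine (Finset.sum_congr rfl h1).trans ?_
  have hsum : ∀ (i : ℕ) (v : Kp A N r (p : ℤ)), v ∈ gr (A := A) 𝒩 r (p : ℤ) i →
      (∑ I ∈ (idx r p).attach,
        (incl r (p : ℤ) I.1 (mem_idx.1 I.2) ∘ₗ proj (A := A) r (p : ℤ) I.1)) v ∈
        gr (A := A) 𝒩 r (p : ℤ) (i + (0 + 0)) := by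
    intro i v hv
    rw [LinearMap.sum_apply]
    exact Submodule.sum_mem _ (fun I _ => hgg I i v hv)
  rw [← tildeMap_sum 𝒜 (gr (A := A) 𝒩 r (p : ℤ)) (gr (A := A) 𝒩 r (p : ℤ)) (idx r p).attach
    (0 + 0) _ hgg hsum a a (by simp)]
  have hid : (∑ I ∈ (idx r p).attach,
      (incl r (p : ℤ) I.1 (mem_idx.1 I.2) ∘ₗ proj (A := A) r (p : ℤ) I.1)) =
      (LinearMap.id : Kp A N r (p : ℤ) →ₗ[A] Kp A N r (p : ℤ)) := by
    ext v : 1
    rw [LinearMap.sum_apply]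
    exact sum_incl_proj r p v
  have h0 : ∀ (i : ℕ) (v : Kp A N r (p : ℤ)), v ∈ gr (A := A) 𝒩 r (p : ℤ) i →
      (LinearMap.id : Kp A N r (p : ℤ) →ₗ[A] Kp A N r (p : ℤ)) v ∈
        gr (A := A) 𝒩 r (p : ℤ) (i + (0 + 0)) := fun i v hv => hv
  refine (tildeMap_congr 𝒜 _ _ _ (0 + 0) hsum _ hid h0 a a (by simp)).trans ?_
  have := tildeMap_id 𝒜 (gr (A := A) 𝒩 r (p : ℤ)) a a (by simp) h0
  rw [eqToHom_refl] at this
  exact this

/-- **the terms are direct sums of `(r choose p)` copies of `M(a)~`** -/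
theorem nonempty_C_iso_sigma (p : ℕ) (a : ℤ) :
    Nonempty (C 𝒜 𝒩 r (p : ℤ) a ≅ ∐ fun _ : Fin (Nat.choose r p) => GrTilde.tilde 𝒜 𝒩 a) := by
  classical
  let e : Fin (Nat.choose r p) ≃ idx r p :=
    (finCongr (card_idx r p).symm).trans (idx r p).equivFin.symm
  apply nonempty_iso_sigma_of_total (Nat.choose r p)
    (fun k => inclC 𝒜 𝒩 r p a (e k)) (fun k => projC 𝒜 𝒩 r p a (e k))
  · intro k l
    rw [inclC_projC]
    by_cases hkl : k = l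
    · rw [if_pos hkl, if_pos (by rw [hkl])]
    · rw [if_neg hkl, if_neg (fun h => hkl (e.injective h))]
  · rw [← sum_projC_inclC 𝒜 𝒩 r p a]
    rw [← Finset.univ_eq_attach]
    exact Fintype.sum_equiv e _ _ (fun k => rfl)

end Groth.Agent.Helper1.KzSheaf
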