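import Mathlib

set_option autoImplicit false

namespace Groth.Agent.Helper1.DirLim

universe u v w
variable {A : Type u} [CommRing A]
variable {G G' G'' : ℕ → Type v} [∀ i, AddCommGroup (G i)] [∀ i, Module A (G i)]
  [∀ i, AddCommGroup (G' i)] [∀ i, Module A (G' i)]
  [∀ i, AddCommGroup (G'' i)] [∀ i, Module A (G'' i)]
  (f : ∀ i j, i ≤ j → G i →ₗ[A] G j) (f' : ∀ i j, i ≤ j → G' i →ₗ[A] G' j)
  (f'' : ∀ i j, i ≤ j → G'' i →ₗ[A] G'' j)



/-- exactness of direct limits -/
theorem exact_map [DirectedSystem G'' (f'' · · ·)]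
    (α : ∀ i, G i →ₗ[A] G' i) (hα : ∀ i j h, α j ∘ₗ f i j h = f' i j h ∘ₗ α i)
    (β : ∀ i, G' i →ₗ[A] G'' i) (hβ : ∀ i j h, β j ∘ₗ f' i j h = f'' i j h ∘ₗ β i)
    (hex : ∀ i, Function.Exact (α i) (β i)) :
    Function.Exact (Module.DirectLimit.map α hα : Module.DirectLimit G f →ₗ[A] Module.DirectLimit G' f')
      (Module.DirectLimit.map β hβ : Module.DirectLimit G' f' →ₗ[A] Module.DirectLimit G'' f'') := by
  intro x
  constructor
  · intro hx
    obtain ⟨i, xi, rfl⟩ := Module.DirectLimit.exists_of x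
    rw [Module.DirectLimit.map_apply_of] at hx
    obtain ⟨j, hij, hj⟩ := Module.DirectLimit.of.zero_exact hx
    have h1 : β j (f' i j hij xi) = 0 := by
      have := congrArg (fun g => g xi) (hβ i j hij)
      simp only [LinearMap.comp_apply] at this
      rw [this, hj]
    obtain ⟨y, hy⟩ := (hex j _).1 h1
    refine ⟨Module.DirectLimit.of A ℕ G f j y, ?_⟩
    rw [Module.DirectLimit.map_apply_of, hy, Module.DirectLimit.of_f]
  · rintro ⟨y, rfl⟩
    obtain ⟨i, yi, rfl⟩ := Module.DirectLimit.exists_of y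
    rw [Module.DirectLimit.map_apply_of, Module.DirectLimit.map_apply_of, (hex i _).2 ⟨yi, rfl⟩, map_zero]

/-- the direct limit is zero iff every element dies at a later stage -/
lemma subsingleton_iff [DirectedSystem G (f · · ·)] :
    Subsingleton (Module.DirectLimit G f) ↔ ∀ i (x : G i), ∃ j, ∃ h : i ≤ j, f i j h x = 0 := by
  constructor
  · intro hs i x
    exact Module.DirectLimit.of.zero_exact (Subsingleton.elim _ _)
  · intro h
    refine ⟨fun x y => ?_⟩
    suffices h0 : ∀ z : Module.DirectLimit G f, z = 0 by rw [h0 x, h0 y]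
    intro z
    obtain ⟨i, zi, rfl⟩ := Module.DirectLimit.exists_of z
    obtain ⟨j, hij, hj⟩ := h i zi
    rw [← Module.DirectLimit.of_f (hij := hij), hj, map_zero]

end Groth.Agent.Helper1.DirLim
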