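import Mathlib

/-!
# The long exact homology sequence of a mapping cone, in terms of `homologyMap`
-/


set_option autoImplicit false

namespace Groth.Agent.Helper1.KoszulCone
open CategoryTheory Limits CochainComplex HomologicalComplex

universe v u
variable {C : Type u} [Category.{v} C] [Abelian C]

local notation "HF" => HomotopyCategory.homologyFunctor C (ComplexShape.up ℤ)

/-- the image in the homotopy category -/
noncomputable abbrev qo (X : CochainComplex C ℤ) :=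
  (HomotopyCategory.quotient C (ComplexShape.up ℤ)).obj X

/-- the image in the homotopy category -/
noncomputable abbrev qm {X Y : CochainComplex C ℤ} (f : X ⟶ Y) : qo X ⟶ qo Y :=
  (HomotopyCategory.quotient C (ComplexShape.up ℤ)).map f

/-- the comparison iso -/
noncomputable def e (n : ℤ) (X : CochainComplex C ℤ) :
    (HF n).obj (qo X) ≅ X.homology n :=
  (HomotopyCategory.homologyFunctorFactors C (ComplexShape.up ℤ) n).app X

lemma e_nat {X Y : CochainComplex C ℤ} (f : X ⟶ Y) (n : ℤ) :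
    (HF n).map (qm f) ≫ (e n Y).hom = (e n X).hom ≫ homologyMap f n :=
  (HomotopyCategory.homologyFunctorFactors C (ComplexShape.up ℤ) n).hom.naturality f

lemma conj {X Y : CochainComplex C ℤ} (f : X ⟶ Y) (n : ℤ) :
    homologyMap f n = (e n X).inv ≫ (HF n).map (qm f) ≫ (e n Y).hom := by
  rw [e_nat, Iso.inv_hom_id_assoc]

variable {F G : CochainComplex C ℤ} (φ : F ⟶ G)

/-- the connecting map in the homotopy category -/
noncomputable def hδ (n₀ n₁ : ℤ) (h : n₀ + 1 = n₁) :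
    (HF n₀).obj (qo (mappingCone φ)) ⟶ (HF n₁).obj (qo F) :=
  (HF 0).homologySequenceδ (mappingCone.triangleh φ) n₀ n₁ h

lemma h_w₂ (n : ℤ) : (HF n).map (qm φ) ≫ (HF n).map (qm (mappingCone.inr φ)) = 0 :=
  (HF 0).homologySequence_comp
    (mappingCone.triangleh φ) (HomotopyCategory.mappingCone_triangleh_distinguished φ) n

lemma h_exact₂ (n : ℤ) : (ShortComplex.mk _ _ (h_w₂ φ n)).Exact :=
  (HF 0).homologySequence_exact₂
    (mappingCone.triangleh φ) (HomotopyCategory.mappingCone_triangleh_distinguished φ) n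

lemma h_w₃ (n₀ n₁ : ℤ) (h : n₀ + 1 = n₁) :
    (HF n₀).map (qm (mappingCone.inr φ)) ≫ hδ φ n₀ n₁ h = 0 :=
  (HF 0).comp_homologySequenceδ
    (mappingCone.triangleh φ) (HomotopyCategory.mappingCone_triangleh_distinguished φ) n₀ n₁ h

lemma h_exact₃ (n₀ n₁ : ℤ) (h : n₀ + 1 = n₁) : (ShortComplex.mk _ _ (h_w₃ φ n₀ n₁ h)).Exact :=
  (HF 0).homologySequence_exact₃
    (mappingCone.triangleh φ) (HomotopyCategory.mappingCone_triangleh_distinguished φ) n₀ n₁ h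

lemma h_w₁ (n₀ n₁ : ℤ) (h : n₀ + 1 = n₁) :
    hδ φ n₀ n₁ h ≫ (HF n₁).map (qm φ) = 0 :=
  (HF 0).homologySequenceδ_comp
    (mappingCone.triangleh φ) (HomotopyCategory.mappingCone_triangleh_distinguished φ) n₀ n₁ h

lemma h_exact₁ (n₀ n₁ : ℤ) (h : n₀ + 1 = n₁) : (ShortComplex.mk _ _ (h_w₁ φ n₀ n₁ h)).Exact :=
  (HF 0).homologySequence_exact₁
    (mappingCone.triangleh φ) (HomotopyCategory.mappingCone_triangleh_distinguished φ) n₀ n₁ h

/-- the connecting map `H^{n₀}(cone φ) ⟶ H^{n₁}(F)` -/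
noncomputable def coneδ (n₀ n₁ : ℤ) (h : n₀ + 1 = n₁) :
    (mappingCone φ).homology n₀ ⟶ F.homology n₁ :=
  (e n₀ (mappingCone φ)).inv ≫ hδ φ n₀ n₁ h ≫ (e n₁ F).hom

lemma w₂ (n : ℤ) : homologyMap φ n ≫ homologyMap (mappingCone.inr φ) n = 0 := by
  rw [conj, conj]
  simp only [Category.assoc, Iso.hom_inv_id_assoc]
  rw [reassoc_of% (h_w₂ φ n), zero_comp, comp_zero]

lemma exact₂ (n : ℤ) :
    (ShortComplex.mk (homologyMap φ n) (homologyMap (mappingCone.inr φ) n) (w₂ φ n)).Exact := by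
  refine ShortComplex.exact_of_iso ?_ (h_exact₂ φ n)
  exact ShortComplex.isoMk (e n F) (e n G) (e n (mappingCone φ))
    (e_nat φ n).symm (e_nat _ n).symm

lemma w₃ (n₀ n₁ : ℤ) (h : n₀ + 1 = n₁) :
    homologyMap (mappingCone.inr φ) n₀ ≫ coneδ φ n₀ n₁ h = 0 := by
  rw [conj, coneδ]
  simp only [Category.assoc, Iso.hom_inv_id_assoc]
  rw [reassoc_of% (h_w₃ φ n₀ n₁ h), zero_comp, comp_zero]

lemma exact₃ (n₀ n₁ : ℤ) (h : n₀ + 1 = n₁) :
    (ShortComplex.mk (homologyMap (mappingCone.inr φ) n₀) (coneδ φ n₀ n₁ h) (w₃ φ n₀ n₁ h)).Exact := by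
  refine ShortComplex.exact_of_iso ?_ (h_exact₃ φ n₀ n₁ h)
  refine ShortComplex.isoMk (e n₀ G) (e n₀ (mappingCone φ)) (e n₁ F)
    (e_nat _ n₀).symm ?_
  dsimp [coneδ]
  rw [Iso.hom_inv_id_assoc]

lemma w₁ (n₀ n₁ : ℤ) (h : n₀ + 1 = n₁) :
    coneδ φ n₀ n₁ h ≫ homologyMap φ n₁ = 0 := by
  rw [conj, coneδ]
  simp only [Category.assoc, Iso.hom_inv_id_assoc]
  rw [reassoc_of% (h_w₁ φ n₀ n₁ h), zero_comp, comp_zero]

lemma exact₁ (n₀ n₁ : ℤ) (h : n₀ + 1 = n₁) :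
    (ShortComplex.mk (coneδ φ n₀ n₁ h) (homologyMap φ n₁) (w₁ φ n₀ n₁ h)).Exact := by
  refine ShortComplex.exact_of_iso ?_ (h_exact₁ φ n₀ n₁ h)
  refine ShortComplex.isoMk (e n₀ (mappingCone φ)) (e n₁ F) (e n₁ G)
    ?_ (e_nat _ n₁).symm
  dsimp [coneδ]
  rw [Iso.hom_inv_id_assoc]

section naturality

variable {K₁ L₁ K₂ L₂ : CochainComplex C ℤ} (φ₁ : K₁ ⟶ L₁) (φ₂ : K₂ ⟶ L₂)
  (a : K₁ ⟶ K₂) (b : L₁ ⟶ L₂) (comm : φ₁ ≫ b = a ≫ φ₂)

lemma hδ_naturality (n₀ n₁ : ℤ) (h : n₀ + 1 = n₁) :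
    (HF n₀).map (qm (mappingCone.map φ₁ φ₂ a b comm)) ≫ hδ φ₂ n₀ n₁ h =
      hδ φ₁ n₀ n₁ h ≫ (HF n₁).map (qm a) :=
  (HF 0).homologySequenceδ_naturality (mappingCone.triangleh φ₁) (mappingCone.triangleh φ₂)
    ((HomotopyCategory.quotient C (ComplexShape.up ℤ)).mapTriangle.map
      (mappingCone.triangleMap φ₁ φ₂ a b comm)) n₀ n₁ h

lemma coneδ_naturality (n₀ n₁ : ℤ) (h : n₀ + 1 = n₁) :
    homologyMap (mappingCone.map φ₁ φ₂ a b comm) n₀ ≫ coneδ φ₂ n₀ n₁ h =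
      coneδ φ₁ n₀ n₁ h ≫ homologyMap a n₁ := by
  rw [conj, conj, coneδ, coneδ]
  simp only [Category.assoc, Iso.hom_inv_id_assoc]
  rw [reassoc_of% (hδ_naturality φ₁ φ₂ a b comm n₀ n₁ h)]

end naturality

end Groth.Agent.Helper1.KoszulCone
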