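import Mathlib
import Groth.Prelude.Def_ega3
import Groth.Agent.Helper1.KoszulCone

set_option autoImplicit false

namespace Groth.Agent.Helper1.Koszul
open CategoryTheory Limits CochainComplex HomologicalComplex HomComplex CohIII

universe u
variable {A : Type u} [CommRing A]

lemma homologyMap_smul' {ι : Type} {c : ComplexShape ι}
    {K L : HomologicalComplex (ModuleCat.{u} A) c} (a : A) (φ : K ⟶ L) (i : ι) :
    homologyMap (a • φ) i = a • homologyMap φ i := by
  unfold homologyMap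
  have : (shortComplexFunctor (ModuleCat.{u} A) c i).map (a • φ) =
      a • (shortComplexFunctor (ModuleCat.{u} A) c i).map φ := by
    ext <;> rfl
  rw [this, ShortComplex.homologyMap_smul]
  rfl

lemma koszulCx_nil (M : ModuleCat.{u} A) :
    koszulCx M [] = (HomologicalComplex.single (ModuleCat.{u} A) (ComplexShape.up ℤ) 0).obj M := rfl

lemma koszulCx_cons (M : ModuleCat.{u} A) (f : A) (fs : List A) :
    koszulCx M (f :: fs) = mappingCone (f • 𝟙 (koszulCx M fs)) := rfl

lemma smul_id_comm {K L : CochainComplex (ModuleCat.{u} A) ℤ} (f : A) (g : K ⟶ L) :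
    (f • 𝟙 K) ≫ g = g ≫ (f • 𝟙 L) := by
  rw [Linear.smul_comp, Linear.comp_smul, Category.id_comp, Category.comp_id]

/-- functoriality of the Koszul complex in the module -/
noncomputable def kmap {M N : ModuleCat.{u} A} (g : M ⟶ N) :
    ∀ fs : List A, koszulCx M fs ⟶ koszulCx N fs
  | [] => (HomologicalComplex.single (ModuleCat.{u} A) (ComplexShape.up ℤ) 0).map g
  | f :: fs => mappingCone.map (f • 𝟙 (koszulCx M fs)) (f • 𝟙 (koszulCx N fs))
      (kmap g fs) (kmap g fs) (smul_id_comm f _)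

lemma kmap_id (M : ModuleCat.{u} A) : ∀ fs : List A, kmap (𝟙 M) fs = 𝟙 _
  | [] => (HomologicalComplex.single (ModuleCat.{u} A) (ComplexShape.up ℤ) 0).map_id M
  | f :: fs => by
    simp only [kmap]
    have := kmap_id M fs
    simp only [this]
    exact mappingCone.map_id _

lemma kmap_comp {M N P : ModuleCat.{u} A} (g : M ⟶ N) (h : N ⟶ P) :
    ∀ fs : List A, kmap (g ≫ h) fs = kmap g fs ≫ kmap h fs
  | [] => (HomologicalComplex.single (ModuleCat.{u} A) (ComplexShape.up ℤ) 0).map_comp g h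
  | f :: fs => by
    simp only [kmap]
    have := kmap_comp g h fs
    simp only [this]
    exact mappingCone.map_comp _ _ _ _ _ _ _ _ _

lemma cone_map_zero {C : Type*} [Category C] [Preadditive C] [HasBinaryBiproducts C]
    {K₁ L₁ K₂ L₂ : CochainComplex C ℤ} (φ₁ : K₁ ⟶ L₁) (φ₂ : K₂ ⟶ L₂)
    (comm : φ₁ ≫ (0 : L₁ ⟶ L₂) = (0 : K₁ ⟶ K₂) ≫ φ₂) :
    mappingCone.map φ₁ φ₂ 0 0 comm = 0 := by
  refine HomologicalComplex.hom_ext _ _ (fun n => ?_)
  rw [mappingCone.ext_from_iff _ (n + 1) n rfl]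
  simp [mappingCone.map]

lemma kmap_zero {M N : ModuleCat.{u} A} : ∀ fs : List A, kmap (0 : M ⟶ N) fs = 0
  | [] => (HomologicalComplex.single (ModuleCat.{u} A) (ComplexShape.up ℤ) 0).map_zero M N
  | f :: fs => by
    simp only [kmap]
    have := kmap_zero (M := M) (N := N) fs
    simp only [this]
    exact cone_map_zero _ _ _

/-- the Koszul complex vanishes in positive degrees -/
lemma isZero_X_of_pos (M : ModuleCat.{u} A) : ∀ (fs : List A) (n : ℤ), 0 < n →
    IsZero ((koszulCx M fs).X n)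
  | [], n, hn => HomologicalComplex.isZero_single_obj_X _ _ _ _ (by omega)
  | f :: fs, n, hn => by
    rw [koszulCx_cons, mappingCone.isZero_X_iff]
    exact ⟨isZero_X_of_pos M fs _ (by omega), isZero_X_of_pos M fs _ hn⟩

/-- the Koszul complex vanishes in degrees below `-r` -/
lemma isZero_X_of_lt (M : ModuleCat.{u} A) : ∀ (fs : List A) (n : ℤ), n < -(fs.length : ℤ) →
    IsZero ((koszulCx M fs).X n)
  | [], n, hn => HomologicalComplex.isZero_single_obj_X _ _ _ _ (by simp at hn; omega)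
  | f :: fs, n, hn => by
    rw [koszulCx_cons, mappingCone.isZero_X_iff]
    simp only [List.length_cons, Nat.cast_add, Nat.cast_one] at hn
    exact ⟨isZero_X_of_lt M fs _ (by omega), isZero_X_of_lt M fs _ (by omega)⟩

lemma isZero_homology_of_isZero_X {K : CochainComplex (ModuleCat.{u} A) ℤ} (n : ℤ)
    (h : IsZero (K.X n)) : IsZero (K.homology n) := by
  have : K.ExactAt n := ShortComplex.exact_of_isZero_X₂ _ h
  exact this.isZero_homology

section cone

lemma ofHom_smul {F G : CochainComplex (ModuleCat.{u} A) ℤ} (a : A) (φ : F ⟶ G) :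
    Cochain.ofHom (a • φ) = a • Cochain.ofHom φ := by
  ext p
  simp [Cochain.ofHom_v, Cochain.smul_v]

variable (K : CochainComplex (ModuleCat.{u} A) ℤ) (f : A)

/-- multiplication by `f` on the cone of `f` is null-homotopic -/
noncomputable def coneHomotopySelf : Homotopy (f • 𝟙 (mappingCone (f • 𝟙 K))) 0 :=
  mappingCone.descHomotopy (f • 𝟙 K) _ _ 0 (mappingCone.inl _) (by simp [ofHom_smul]) (by simp [ofHom_smul])

/-- a null-homotopy of `a • 𝟙 K` induces one on the cone of `f • 𝟙 K` -/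
noncomputable def coneHomotopyOf (a : A) (H : Homotopy (a • 𝟙 K) 0) :
    Homotopy (a • 𝟙 (mappingCone (f • 𝟙 K))) 0 :=
  mappingCone.descHomotopy (f • 𝟙 K) _ _
    (-((Cochain.equivHomotopy _ _ H).1.comp (mappingCone.inl (f • 𝟙 K)) (by norm_num)))
    ((Cochain.equivHomotopy _ _ H).1.comp (Cochain.ofHom (mappingCone.inr (f • 𝟙 K))) (add_zero _))
    (by
      have hz := (Cochain.equivHomotopy _ _ H).2
      simp only [ofHom_smul, Cochain.ofHom_zero, Cochain.comp_zero, add_zero, Cochain.smul_comp,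
        Cochain.comp_smul, Cochain.id_comp, Cochain.comp_id, Cochain.equivHomotopy_apply_coe, δ_neg]
      rw [δ_comp (Cochain.ofHomotopy H) (mappingCone.inl (f • 𝟙 K)) (by norm_num : (-1 : ℤ) + (-1) = -2)
        0 0 (-1) (by norm_num) (by norm_num) (by norm_num), mappingCone.δ_inl, δ_ofHomotopy]
      simp [ofHom_smul]) (by
      have hz := (Cochain.equivHomotopy _ _ H).2
      simp [ofHom_smul])

/-- the ideal of scalars acting null-homotopically -/
def nullIdeal : Ideal A where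
  carrier := {a | Nonempty (Homotopy (a • 𝟙 K) 0)}
  zero_mem' := ⟨Homotopy.ofEq (zero_smul _ _)⟩
  add_mem' := by
    rintro a b ⟨ha⟩ ⟨hb⟩
    exact ⟨(Homotopy.ofEq (add_smul a b (𝟙 K))).trans ((ha.add hb).trans (Homotopy.ofEq (add_zero 0)))⟩
  smul_mem' := by
    rintro c a ⟨ha⟩
    refine ⟨(Homotopy.ofEq ?_).trans ((ha.compLeft (c • 𝟙 K)).trans (Homotopy.ofEq comp_zero))⟩
    rw [Linear.smul_comp, Category.id_comp, smul_smul, smul_eq_mul]

lemma mem_nullIdeal (a : A) : a ∈ nullIdeal K ↔ Nonempty (Homotopy (a • 𝟙 K) 0) := Iff.rfl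

end cone

/-- every element of the ideal `(xs)` acts null-homotopically on the Koszul complex -/
theorem span_le_nullIdeal (M : ModuleCat.{u} A) :
    ∀ xs : List A, Ideal.span {x | x ∈ xs} ≤ nullIdeal (koszulCx M xs)
  | [] => by
    have : {x : A | x ∈ ([] : List A)} = ∅ := by ext; simp
    rw [this, Ideal.span_empty]
    exact bot_le
  | f :: fs => by
    rw [Ideal.span_le]
    intro x hx
    rcases List.mem_cons.1 hx with rfl | hx
    · exact ⟨coneHomotopySelf (koszulCx M fs) x⟩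
    · obtain ⟨H⟩ := span_le_nullIdeal M fs (Ideal.subset_span hx)
      exact ⟨coneHomotopyOf (koszulCx M fs) f x H⟩

lemma smul_homology_eq_zero (M : ModuleCat.{u} A) (xs : List A) (a : A)
    (ha : a ∈ Ideal.span {x | x ∈ xs}) (n : ℤ) (z : (koszulCx M xs).homology n) : a • z = 0 := by
  obtain ⟨H⟩ := span_le_nullIdeal M xs ha
  have h1 : homologyMap (a • 𝟙 (koszulCx M xs)) n = homologyMap 0 n := H.homologyMap_eq n
  rw [homologyMap_smul', homologyMap_id, homologyMap_zero] at h1
  have := congrArg (fun g => g.hom z) h1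
  exact this

section coneles

variable (K : CochainComplex (ModuleCat.{u} A) ℤ) (f : A)

/-- `H^n(K) → H^n(cone)` -/
noncomputable def ι (n : ℤ) : K.homology n ⟶ (mappingCone (f • 𝟙 K)).homology n :=
  homologyMap (mappingCone.inr (f • 𝟙 K)) n

/-- `H^n(cone) → H^{n+1}(K)` -/
noncomputable def bd (n₀ n₁ : ℤ) (h : n₀ + 1 = n₁) :
    (mappingCone (f • 𝟙 K)).homology n₀ ⟶ K.homology n₁ :=
  KoszulCone.coneδ (f • 𝟙 K) n₀ n₁ h

lemma ι_smul (n : ℤ) (x : K.homology n) : (ι K f n).hom (f • x) = 0 := by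
  have h := KoszulCone.w₂ (f • 𝟙 K) n
  rw [homologyMap_smul', homologyMap_id] at h
  have := congrArg (fun g => g.hom x) h
  exact this

lemma exists_of_ι_eq_zero (n : ℤ) (y : K.homology n) (hy : (ι K f n).hom y = 0) :
    ∃ x : K.homology n, f • x = y := by
  have h := KoszulCone.exact₂ (f • 𝟙 K) n
  rw [ShortComplex.moduleCat_exact_iff] at h
  obtain ⟨x, hx⟩ := h y hy
  refine ⟨x, ?_⟩
  rw [← hx]
  have h2 : homologyMap (f • 𝟙 K) n = f • 𝟙 _ := by rw [homologyMap_smul', homologyMap_id]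
  have := congrArg (fun g => g.hom x) h2
  exact this.symm

lemma bd_ι (n₀ n₁ : ℤ) (h : n₀ + 1 = n₁) (x : K.homology n₀) :
    (bd K f n₀ n₁ h).hom ((ι K f n₀).hom x) = 0 := by
  have := congrArg (fun g => g.hom x) (KoszulCone.w₃ (f • 𝟙 K) n₀ n₁ h)
  exact this

lemma exists_of_bd_eq_zero (n₀ n₁ : ℤ) (h : n₀ + 1 = n₁) (y : (mappingCone (f • 𝟙 K)).homology n₀)
    (hy : (bd K f n₀ n₁ h).hom y = 0) : ∃ x : K.homology n₀, (ι K f n₀).hom x = y := by
  have h' := KoszulCone.exact₃ (f • 𝟙 K) n₀ n₁ h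
  rw [ShortComplex.moduleCat_exact_iff] at h'
  exact h' y hy

lemma smul_bd (n₀ n₁ : ℤ) (h : n₀ + 1 = n₁) (y : (mappingCone (f • 𝟙 K)).homology n₀) :
    f • (bd K f n₀ n₁ h).hom y = 0 := by
  have h' := KoszulCone.w₁ (f • 𝟙 K) n₀ n₁ h
  rw [homologyMap_smul', homologyMap_id] at h'
  have := congrArg (fun g => g.hom y) h'
  exact this

lemma exists_of_smul_eq_zero (n₀ n₁ : ℤ) (h : n₀ + 1 = n₁) (z : K.homology n₁)
    (hz : f • z = 0) : ∃ y, (bd K f n₀ n₁ h).hom y = z := by
  have h' := KoszulCone.exact₁ (f • 𝟙 K) n₀ n₁ h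
  rw [ShortComplex.moduleCat_exact_iff] at h'
  refine h' z ?_
  have h2 : homologyMap (f • 𝟙 K) n₁ = f • 𝟙 _ := by rw [homologyMap_smul', homologyMap_id]
  have := congrArg (fun g => g.hom z) h2
  exact this.trans hz

end coneles

end Groth.Agent.Helper1.Koszul
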