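import Mathlib
import Groth.Prelude.Def_ega3
import Groth.Agent.Helper1.KoszulBasic

set_option autoImplicit false

/-!
# Exactness of the Koszul complex in the module variable
-/

namespace Groth.Agent.Helper1.Koszul
open CategoryTheory Limits CochainComplex HomologicalComplex HomComplex CohIII

universe u
variable {A : Type u} [CommRing A]

section conemap

variable {K₁ K₂ : CochainComplex (ModuleCat.{u} A) ℤ} (φ₁ : K₁ ⟶ K₁) (φ₂ : K₂ ⟶ K₂)
  (a : K₁ ⟶ K₂) (comm : φ₁ ≫ a = a ≫ φ₂)

lemma map_f_fst (n m : ℤ) (h : n + 1 = m) :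
    (mappingCone.map φ₁ φ₂ a a comm).f n ≫ (mappingCone.fst φ₂).1.v n m h =
      (mappingCone.fst φ₁).1.v n m h ≫ a.f m := by
  subst h
  simp [mappingCone.map, mappingCone.desc_f _ _ _ _ n (n + 1) rfl]

lemma map_f_snd (n : ℤ) :
    (mappingCone.map φ₁ φ₂ a a comm).f n ≫ (mappingCone.snd φ₂).v n n (add_zero n) =
      (mappingCone.snd φ₁).v n n (add_zero n) ≫ a.f n := by
  simp [mappingCone.map, mappingCone.desc_f _ _ _ _ n (n + 1) rfl]

lemma inl_map_f (n m : ℤ) (h : n + 1 = m) :
    (mappingCone.inl φ₁).v m n (by omega) ≫ (mappingCone.map φ₁ φ₂ a a comm).f n =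
      a.f m ≫ (mappingCone.inl φ₂).v m n (by omega) := by
  subst h
  simp [mappingCone.map]

lemma inr_map_f (n : ℤ) :
    (mappingCone.inr φ₁).f n ≫ (mappingCone.map φ₁ φ₂ a a comm).f n =
      a.f n ≫ (mappingCone.inr φ₂).f n := by
  simp [mappingCone.map]

end conemap

section degses

/-- degreewise short exactness -/
def DegSES {K₁ K₂ K₃ : CochainComplex (ModuleCat.{u} A) ℤ} (a : K₁ ⟶ K₂) (b : K₂ ⟶ K₃)
    (n : ℤ) : Prop :=
  Function.Injective (a.f n).hom ∧ Function.Exact (a.f n).hom (b.f n).hom ∧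
    Function.Surjective (b.f n).hom

lemma cone_decomp {K : CochainComplex (ModuleCat.{u} A) ℤ} (φ : K ⟶ K) (n m : ℤ) (h : n + 1 = m)
    (x : (mappingCone φ).X n) :
    x = ((mappingCone.inl φ).v m n (by omega)).hom (((mappingCone.fst φ).1.v n m h).hom x) +
      ((mappingCone.inr φ).f n).hom (((mappingCone.snd φ).v n n (add_zero n)).hom x) := by
  have := congrArg (fun g => g.hom x) (mappingCone.id_X φ n m h)
  exact this.symm

variable {K₁ K₂ K₃ : CochainComplex (ModuleCat.{u} A) ℤ} (φ₁ : K₁ ⟶ K₁) (φ₂ : K₂ ⟶ K₂)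
  (φ₃ : K₃ ⟶ K₃) (a : K₁ ⟶ K₂) (b : K₂ ⟶ K₃) (ca : φ₁ ≫ a = a ≫ φ₂) (cb : φ₂ ≫ b = b ≫ φ₃)

include ca cb in
lemma degSES_cone (n m : ℤ) (h : n + 1 = m) (hn : DegSES a b n) (hm : DegSES a b m) :
    DegSES (mappingCone.map φ₁ φ₂ a a ca) (mappingCone.map φ₂ φ₃ b b cb) n := by
  obtain ⟨in_n, ex_n, su_n⟩ := hn
  obtain ⟨in_m, ex_m, su_m⟩ := hm
  have fstA := fun x => congrArg (fun g => g.hom x) (map_f_fst φ₁ φ₂ a ca n m h)
  have sndA := fun x => congrArg (fun g => g.hom x) (map_f_snd φ₁ φ₂ a ca n)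
  have inlA := fun x => congrArg (fun g => g.hom x) (inl_map_f φ₁ φ₂ a ca n m h)
  have inrA := fun x => congrArg (fun g => g.hom x) (inr_map_f φ₁ φ₂ a ca n)
  have fstB := fun x => congrArg (fun g => g.hom x) (map_f_fst φ₂ φ₃ b cb n m h)
  have sndB := fun x => congrArg (fun g => g.hom x) (map_f_snd φ₂ φ₃ b cb n)
  have inlB := fun x => congrArg (fun g => g.hom x) (inl_map_f φ₂ φ₃ b cb n m h)
  have inrB := fun x => congrArg (fun g => g.hom x) (inr_map_f φ₂ φ₃ b cb n)
  simp only [ModuleCat.hom_comp, LinearMap.comp_apply] at fstA sndA inlA inrA fstB sndB inlB inrB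
  refine ⟨?_, ?_, ?_⟩
  · rw [injective_iff_map_eq_zero]
    intro x hx
    rw [cone_decomp φ₁ n m h x]
    have h1 : ((mappingCone.fst φ₁).1.v n m h).hom x = 0 := by
      apply in_m
      rw [← fstA, hx, map_zero, map_zero]
    have h2 : ((mappingCone.snd φ₁).v n n (add_zero n)).hom x = 0 := by
      apply in_n
      rw [← sndA, hx, map_zero, map_zero]
    rw [h1, h2, map_zero, map_zero, add_zero]
  · intro y
    constructor
    · intro hy
      have h1 : (b.f m).hom (((mappingCone.fst φ₂).1.v n m h).hom y) = 0 := by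
        rw [← fstB, hy, map_zero]
      have h2 : (b.f n).hom (((mappingCone.snd φ₂).v n n (add_zero n)).hom y) = 0 := by
        rw [← sndB, hy, map_zero]
      obtain ⟨u, hu⟩ := (ex_m _).1 h1
      obtain ⟨v, hv⟩ := (ex_n _).1 h2
      refine ⟨((mappingCone.inl φ₁).v m n (by omega)).hom u + ((mappingCone.inr φ₁).f n).hom v, ?_⟩
      rw [map_add, inlA, inrA, hu, hv]
      exact (cone_decomp φ₂ n m h y).symm
    · rintro ⟨x, rfl⟩
      rw [cone_decomp φ₁ n m h x, map_add, map_add, inlA, inrA, inlB, inrB]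
      rw [(ex_m _).2 ⟨_, rfl⟩, (ex_n _).2 ⟨_, rfl⟩, map_zero, map_zero, add_zero]
  · intro y
    obtain ⟨u, hu⟩ := su_m (((mappingCone.fst φ₃).1.v n m h).hom y)
    obtain ⟨v, hv⟩ := su_n (((mappingCone.snd φ₃).v n n (add_zero n)).hom y)
    refine ⟨((mappingCone.inl φ₂).v m n (by omega)).hom u + ((mappingCone.inr φ₂).f n).hom v, ?_⟩
    rw [map_add, inlB, inrB, hu, hv]
    exact (cone_decomp φ₃ n m h y).symm

end degses

section main

variable (S : ShortComplex (ModuleCat.{u} A)) (hS : S.ShortExact)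

include hS in
lemma degSES_single (n : ℤ) :
    DegSES ((HomologicalComplex.single (ModuleCat.{u} A) (ComplexShape.up ℤ) 0).map S.f)
      ((HomologicalComplex.single (ModuleCat.{u} A) (ComplexShape.up ℤ) 0).map S.g) n := by
  have hinj : Function.Injective S.f.hom := (ModuleCat.mono_iff_injective _).1 hS.mono_f
  have hsurj : Function.Surjective S.g.hom := (ModuleCat.epi_iff_surjective _).1 hS.epi_g
  have hex : Function.Exact S.f.hom S.g.hom :=
    (ShortComplex.ShortExact.moduleCat_exact_iff_function_exact S).1 hS.exact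
  by_cases hn : n = 0
  · subst hn
    have hf := fun x => congrArg (fun g => g.hom x)
      (HomologicalComplex.single_map_f_self (c := ComplexShape.up ℤ) 0 S.f)
    have hg := fun x => congrArg (fun g => g.hom x)
      (HomologicalComplex.single_map_f_self (c := ComplexShape.up ℤ) 0 S.g)
    simp only [ModuleCat.hom_comp, LinearMap.comp_apply] at hf hg
    have e1 := fun (M : ModuleCat.{u} A) =>
      (HomologicalComplex.singleObjXSelf (ComplexShape.up ℤ) (0 : ℤ) M).toLinearEquiv
    have hhom : ∀ (M : ModuleCat.{u} A) x, (HomologicalComplex.singleObjXSelf (ComplexShape.up ℤ)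
      (0 : ℤ) M).inv.hom ((HomologicalComplex.singleObjXSelf (ComplexShape.up ℤ)
      (0 : ℤ) M).hom.hom x) = x := fun M x => by
        rw [← LinearMap.comp_apply, ← ModuleCat.hom_comp, Iso.hom_inv_id]; rfl
    have hinv : ∀ (M : ModuleCat.{u} A) x, (HomologicalComplex.singleObjXSelf (ComplexShape.up ℤ)
      (0 : ℤ) M).hom.hom ((HomologicalComplex.singleObjXSelf (ComplexShape.up ℤ)
      (0 : ℤ) M).inv.hom x) = x := fun M x => by
        rw [← LinearMap.comp_apply, ← ModuleCat.hom_comp, Iso.inv_hom_id]; rfl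
    refine ⟨?_, ?_, ?_⟩
    · intro x y hxy
      rw [hf, hf] at hxy
      have h1 := congrArg (HomologicalComplex.singleObjXSelf (ComplexShape.up ℤ)
        (0 : ℤ) S.X₂).hom.hom hxy
      rw [hinv, hinv] at h1
      have h2 := hinj h1
      have h3 := congrArg (HomologicalComplex.singleObjXSelf (ComplexShape.up ℤ)
        (0 : ℤ) S.X₁).inv.hom h2
      rwa [hhom, hhom] at h3
    · intro y
      rw [hg]
      constructor
      · intro hy
        have h1 := congrArg (HomologicalComplex.singleObjXSelf (ComplexShape.up ℤ)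
          (0 : ℤ) S.X₃).hom.hom hy
        rw [hinv, map_zero] at h1
        obtain ⟨x, hx⟩ := (hex _).1 h1
        refine ⟨(HomologicalComplex.singleObjXSelf (ComplexShape.up ℤ) (0 : ℤ) S.X₁).inv.hom x, ?_⟩
        rw [hf, hinv, hx, hhom]
      · rintro ⟨x, rfl⟩
        rw [hf, hinv, (hex _).2 ⟨_, rfl⟩, map_zero]
    · intro z
      obtain ⟨y, hy⟩ := hsurj ((HomologicalComplex.singleObjXSelf (ComplexShape.up ℤ)
        (0 : ℤ) S.X₃).hom.hom z)
      refine ⟨(HomologicalComplex.singleObjXSelf (ComplexShape.up ℤ) (0 : ℤ) S.X₂).inv.hom y, ?_⟩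
      rw [hg, hinv, hy, hhom]
  · have h1 : Subsingleton (((HomologicalComplex.single (ModuleCat.{u} A) (ComplexShape.up ℤ) 0).obj
        S.X₁).X n) := ModuleCat.isZero_iff_subsingleton.1
          (HomologicalComplex.isZero_single_obj_X _ _ _ _ hn)
    have h2 : Subsingleton (((HomologicalComplex.single (ModuleCat.{u} A) (ComplexShape.up ℤ) 0).obj
        S.X₂).X n) := ModuleCat.isZero_iff_subsingleton.1
          (HomologicalComplex.isZero_single_obj_X _ _ _ _ hn)
    have h3 : Subsingleton (((HomologicalComplex.single (ModuleCat.{u} A) (ComplexShape.up ℤ) 0).obj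
        S.X₃).X n) := ModuleCat.isZero_iff_subsingleton.1
          (HomologicalComplex.isZero_single_obj_X _ _ _ _ hn)
    refine ⟨fun x y _ => Subsingleton.elim _ _, fun y => ⟨fun _ => ⟨0, Subsingleton.elim _ _⟩,
      fun _ => Subsingleton.elim _ _⟩, fun y => ⟨0, Subsingleton.elim _ _⟩⟩

include hS in
theorem degSES_kmap : ∀ (fs : List A) (n : ℤ), DegSES (kmap S.f fs) (kmap S.g fs) n
  | [], n => degSES_single S hS n
  | f :: fs, n =>
    degSES_cone (f • 𝟙 _) (f • 𝟙 _) (f • 𝟙 _) (kmap S.f fs) (kmap S.g fs) (smul_id_comm f _)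
      (smul_id_comm f _) n (n + 1) rfl (degSES_kmap fs n) (degSES_kmap fs (n + 1))

/-- the short complex of Koszul complexes attached to a short complex of modules -/
noncomputable def kS (fs : List A) : ShortComplex (CochainComplex (ModuleCat.{u} A) ℤ) :=
  ShortComplex.mk (kmap S.f fs) (kmap S.g fs) (by rw [← kmap_comp, S.zero, kmap_zero])

include hS in
theorem kS_shortExact (fs : List A) : (kS S fs).ShortExact := by
  apply HomologicalComplex.shortExact_of_degreewise_shortExact
  intro n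
  obtain ⟨h1, h2, h3⟩ := degSES_kmap S hS fs n
  refine ShortComplex.ShortExact.mk' ?_ ?_ ?_
  · rw [ShortComplex.ShortExact.moduleCat_exact_iff_function_exact]
    exact h2
  · exact (ModuleCat.mono_iff_injective _).2 h1
  · exact (ModuleCat.epi_iff_surjective _).2 h3

end main

/-- functoriality of `kS` -/
noncomputable def kSmap {S S' : ShortComplex (ModuleCat.{u} A)} (φ : S ⟶ S') (fs : List A) :
    kS S fs ⟶ kS S' fs where
  τ₁ := kmap φ.τ₁ fs
  τ₂ := kmap φ.τ₂ fs
  τ₃ := kmap φ.τ₃ fs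
  comm₁₂ := by
    dsimp [kS]
    rw [← kmap_comp, ← kmap_comp, φ.comm₁₂]
  comm₂₃ := by
    dsimp [kS]
    rw [← kmap_comp, ← kmap_comp, φ.comm₂₃]

end Groth.Agent.Helper1.Koszul
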