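import Mathlib
import Groth.Prelude.Def_ega3
import Groth.Agent.Helper1.KoszulExact

set_option autoImplicit false

/-!
# Koszul cohomology of regular sequences
-/

namespace Groth.Agent.Helper1.Koszul
open CategoryTheory Limits CochainComplex HomologicalComplex HomComplex CohIII Pointwise

universe u
variable {A : Type u} [CommRing A]

lemma single_map_smul {M N : ModuleCat.{u} A} (c : A) (g : M ⟶ N) :
    (HomologicalComplex.single (ModuleCat.{u} A) (ComplexShape.up ℤ) 0).map (c • g) =
      c • (HomologicalComplex.single (ModuleCat.{u} A) (ComplexShape.up ℤ) 0).map g := by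
  refine HomologicalComplex.hom_ext _ _ (fun n => ?_)
  by_cases hn : n = 0
  · subst hn
    rw [HomologicalComplex.smul_f_apply, HomologicalComplex.single_map_f_self,
      HomologicalComplex.single_map_f_self, Linear.smul_comp, Linear.comp_smul]
  · exact (HomologicalComplex.isZero_single_obj_X _ _ _ _ hn).eq_of_tgt _ _

lemma cone_map_smul {K₁ L₁ K₂ L₂ : CochainComplex (ModuleCat.{u} A) ℤ} (φ₁ : K₁ ⟶ L₁) (φ₂ : K₂ ⟶ L₂)
    (a : K₁ ⟶ K₂) (b : L₁ ⟶ L₂) (comm : φ₁ ≫ b = a ≫ φ₂) (c : A)
    (comm' : φ₁ ≫ (c • b) = (c • a) ≫ φ₂) :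
    mappingCone.map φ₁ φ₂ (c • a) (c • b) comm' = c • mappingCone.map φ₁ φ₂ a b comm := by
  refine HomologicalComplex.hom_ext _ _ (fun n => ?_)
  rw [mappingCone.ext_from_iff _ (n + 1) n rfl]
  simp [mappingCone.map, ofHom_smul]

lemma kmap_smul {M N : ModuleCat.{u} A} (c : A) (g : M ⟶ N) :
    ∀ fs : List A, kmap (c • g) fs = c • kmap g fs
  | [] => single_map_smul c g
  | f :: fs => by
    simp only [kmap]
    have := kmap_smul c g fs
    simp only [this]
    exact cone_map_smul _ _ _ _ _ c _

lemma kmap_smul_id (M : ModuleCat.{u} A) (c : A) (fs : List A) :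
    kmap (c • 𝟙 M) fs = c • 𝟙 (koszulCx M fs) := by
  rw [kmap_smul, kmap_id]

section regular

variable (M : Type u) [AddCommGroup M] [Module A M] (f : A)

/-- the short complex `M --f--> M → M/fM` -/
noncomputable def regSC : ShortComplex (ModuleCat.{u} A) :=
  ShortComplex.mk (f • 𝟙 (ModuleCat.of A M))
    (ModuleCat.ofHom (Submodule.mkQ (f • (⊤ : Submodule A M)))) (by
      ext x
      change Submodule.Quotient.mk (f • x) = 0
      rw [Submodule.Quotient.mk_eq_zero]
      exact Submodule.smul_mem_pointwise_smul x f ⊤ Submodule.mem_top)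

lemma regSC_shortExact (hf : IsSMulRegular M f) : (regSC M f).ShortExact := by
  refine ShortComplex.ShortExact.mk' ?_ ?_ ?_
  · rw [ShortComplex.ShortExact.moduleCat_exact_iff_function_exact]
    intro (y : M)
    change (Submodule.Quotient.mk y : M ⧸ f • (⊤ : Submodule A M)) = 0 ↔ ∃ x : M, f • x = y
    rw [Submodule.Quotient.mk_eq_zero, Submodule.mem_smul_pointwise_iff_exists]
    constructor
    · rintro ⟨x, -, hx⟩
      exact ⟨x, hx⟩
    · rintro ⟨x, hx⟩
      exact ⟨x, Submodule.mem_top, hx⟩
  · rw [ModuleCat.mono_iff_injective]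
    exact hf
  · rw [ModuleCat.epi_iff_surjective]
    exact Submodule.mkQ_surjective _

/-- for an `M`-regular element `f`: `K(f :: fs; M)` is quasi-isomorphic to `K(fs; M/fM)` -/
theorem nonempty_homology_iso_of_regular (hf : IsSMulRegular M f) (fs : List A) (n : ℤ) :
    Nonempty ((koszulCx (ModuleCat.of A M) (f :: fs)).homology n ≅
      (koszulCx (ModuleCat.of A (QuotSMulTop f M)) fs).homology n) := by
  have hS := kS_shortExact (regSC M f) (regSC_shortExact M f hf) fs
  have key : ∀ (ψ : koszulCx (ModuleCat.of A M) fs ⟶ koszulCx (ModuleCat.of A M) fs)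
      (hψ : kmap (regSC M f).f fs = ψ),
      Nonempty ((mappingCone ψ).homology n ≅
        (koszulCx (ModuleCat.of A (QuotSMulTop f M)) fs).homology n) := by
    rintro _ rfl
    have hq := mappingCone.quasiIso_descShortComplex hS
    have hq' : QuasiIsoAt (mappingCone.descShortComplex (kS (regSC M f) fs)) n := inferInstance
    rw [quasiIsoAt_iff_isIso_homologyMap] at hq'
    exact ⟨@asIso _ _ _ _ (homologyMap (mappingCone.descShortComplex (kS (regSC M f) fs)) n) hq'⟩
  exact key (f • 𝟙 _) (kmap_smul_id _ f fs)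

end regular

/-- Koszul cohomology of a weakly regular sequence vanishes outside the top degree -/
theorem isZero_homology_of_isWeaklyRegular : ∀ (fs : List A) (M : Type u) [AddCommGroup M]
    [Module A M], RingTheory.Sequence.IsWeaklyRegular M fs → ∀ n : ℤ, n ≠ 0 →
    IsZero ((koszulCx (ModuleCat.of A M) fs).homology n)
  | [], M, _, _, _, n, hn =>
    isZero_homology_of_isZero_X n (HomologicalComplex.isZero_single_obj_X _ _ _ _ hn)
  | f :: fs, M, _, _, h, n, hn => by
    rw [RingTheory.Sequence.isWeaklyRegular_cons_iff] at h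
    obtain ⟨e⟩ := nonempty_homology_iso_of_regular M f h.1 fs n
    exact IsZero.of_iso (isZero_homology_of_isWeaklyRegular fs (QuotSMulTop f M) h.2 n hn) e

end Groth.Agent.Helper1.Koszul
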