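import Mathlib
import Groth.Prelude.Def_ega3
import Groth.Agent.Helper1.KoszulBasic

set_option autoImplicit false

/-!
# Top Koszul cohomology: `H^r(x; M) ≅ M/(x)M`
-/

namespace Groth.Agent.Helper1.Koszul
open CategoryTheory Limits CochainComplex HomologicalComplex HomComplex CohIII

universe u
variable {A : Type u} [CommRing A]

section

variable (K : CochainComplex (ModuleCat.{u} A) ℤ) (f : A)

lemma ι_surjective (n₀ n₁ : ℤ) (h : n₀ + 1 = n₁) (hz : IsZero (K.homology n₁)) :
    Function.Surjective (ι K f n₀).hom := by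
  intro y
  haveI := ModuleCat.isZero_iff_subsingleton.1 hz
  exact exists_of_bd_eq_zero K f n₀ n₁ h y (Subsingleton.elim _ _)

lemma ker_ι (n : ℤ) : LinearMap.ker (ι K f n).hom =
    LinearMap.range (f • LinearMap.id : K.homology n →ₗ[A] K.homology n) := by
  ext x
  rw [LinearMap.mem_ker, LinearMap.mem_range]
  constructor
  · intro hx
    obtain ⟨x', hx'⟩ := exists_of_ι_eq_zero K f n x hx
    exact ⟨x', hx'⟩
  · rintro ⟨x', rfl⟩
    exact ι_smul K f n x'

/-- if `H^{n+1}(K) = 0` then `H^n(cone(f)) ≅ H^n(K)/f` -/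
noncomputable def coneTopEquiv (n₀ n₁ : ℤ) (h : n₀ + 1 = n₁) (hz : IsZero (K.homology n₁)) :
    (mappingCone (f • 𝟙 K)).homology n₀ ≃ₗ[A]
      (K.homology n₀ ⧸ LinearMap.range (f • LinearMap.id : K.homology n₀ →ₗ[A] K.homology n₀)) :=
  ((ι K f n₀).hom.quotKerEquivOfSurjective (ι_surjective K f n₀ n₁ h hz)).symm.trans
    (Submodule.quotEquivOfEq _ _ (ker_ι K f n₀))

end

section algebra

variable {M N : Type u} [AddCommGroup M] [Module A M] [AddCommGroup N] [Module A N]

/-- `(M/IM)/f ≅ M/(f, I)M` -/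
lemma nonempty_quot_equiv (I : Ideal A) (f : A) (e : N ≃ₗ[A] M ⧸ (I • (⊤ : Submodule A M))) :
    Nonempty ((N ⧸ LinearMap.range (f • LinearMap.id : N →ₗ[A] N)) ≃ₗ[A]
      M ⧸ ((Ideal.span {f} ⊔ I) • (⊤ : Submodule A M))) := by
  have hle : I • (⊤ : Submodule A M) ≤ (Ideal.span {f} ⊔ I) • (⊤ : Submodule A M) :=
    Submodule.smul_mono_left le_sup_right
  let q : N →ₗ[A] M ⧸ ((Ideal.span {f} ⊔ I) • (⊤ : Submodule A M)) :=
    (Submodule.factor hle).comp e.toLinearMap
  have hq : Function.Surjective q :=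
    (Submodule.factor_surjective hle).comp e.surjective
  have hker : LinearMap.ker q = LinearMap.range (f • LinearMap.id : N →ₗ[A] N) := by
    ext x
    rw [LinearMap.mem_ker, LinearMap.mem_range]
    constructor
    · intro hx
      obtain ⟨m, hm⟩ := Submodule.Quotient.mk_surjective _ (e x)
      have h1 : m ∈ (Ideal.span {f} ⊔ I) • (⊤ : Submodule A M) := by
        rw [← Submodule.Quotient.mk_eq_zero]
        have : q x = Submodule.factor hle (e x) := rfl
        rw [this, ← hm] at hx
        exact hx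
      rw [Submodule.sup_smul, Submodule.mem_sup] at h1
      obtain ⟨a, ha, b, hb, hab⟩ := h1
      rw [Submodule.ideal_span_singleton_smul, Submodule.mem_smul_pointwise_iff_exists] at ha
      obtain ⟨m', -, rfl⟩ := ha
      refine ⟨e.symm (Submodule.Quotient.mk m'), ?_⟩
      apply e.injective
      rw [LinearMap.smul_apply, LinearMap.id_apply, map_smul, e.apply_symm_apply, ← hm, ← hab,
        Submodule.Quotient.mk_add, (Submodule.Quotient.mk_eq_zero _).2 hb, add_zero,
        Submodule.Quotient.mk_smul]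
    · rintro ⟨y, rfl⟩
      change q (f • y) = 0
      rw [map_smul]
      obtain ⟨m, hm⟩ := Submodule.Quotient.mk_surjective _ (q y)
      rw [← hm, ← Submodule.Quotient.mk_smul, Submodule.Quotient.mk_eq_zero]
      exact Submodule.smul_mem_smul (Ideal.mem_sup_left (Ideal.subset_span rfl)) Submodule.mem_top
  exact ⟨(Submodule.quotEquivOfEq _ _ hker.symm).trans (q.quotKerEquivOfSurjective hq)⟩

end algebra

section top

/-- homology in equal degrees -/
noncomputable def homologyIsoOfEq (K : CochainComplex (ModuleCat.{u} A) ℤ) {i j : ℤ} (h : i = j) :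
    K.homology i ≅ K.homology j := by
  subst h
  exact Iso.refl _

lemma isZero_homology_one (M : ModuleCat.{u} A) (fs : List A) :
    IsZero ((koszulCx M fs).homology 1) :=
  isZero_homology_of_isZero_X 1 (isZero_X_of_pos M fs 1 one_pos)

/-- top Koszul cohomology, in degree `0` of the cochain complex -/
theorem nonempty_homology_zero_equiv (M : Type u) [AddCommGroup M] [Module A M] :
    ∀ xs : List A, Nonempty ((koszulCx (ModuleCat.of A M) xs).homology 0 ≃ₗ[A]
      (M ⧸ (Ideal.ofList xs • (⊤ : Submodule A M))))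
  | [] => by
    have e1 := (HomologicalComplex.singleObjHomologySelfIso (ComplexShape.up ℤ) 0
      (ModuleCat.of A M)).toLinearEquiv
    have h0 : Ideal.ofList ([] : List A) • (⊤ : Submodule A M) = ⊥ := by
      rw [Ideal.ofList_nil, Submodule.bot_smul]
    exact ⟨e1.trans (Submodule.quotEquivOfEqBot _ h0).symm⟩
  | f :: fs => by
    obtain ⟨e⟩ := nonempty_homology_zero_equiv M fs
    obtain ⟨e'⟩ := nonempty_quot_equiv (Ideal.ofList fs) f e
    have e1 := coneTopEquiv (koszulCx (ModuleCat.of A M) fs) f 0 1 (zero_add 1)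
      (isZero_homology_one _ fs)
    rw [Ideal.ofList_cons]
    exact ⟨e1.trans e'⟩

end top

end Groth.Agent.Helper1.Koszul
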