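import Mathlib
import Groth.Prelude.Def_ega3
import Groth.Agent.Helper1.KoszulReg
import Groth.Agent.Helper1.KoszulTop
import Groth.Agent.Helper2.DepthRees

set_option autoImplicit false

/-!
# Depth sensitivity of the Koszul complex
-/

namespace Groth.Agent.Helper1.Koszul
open CategoryTheory Limits CochainComplex HomologicalComplex HomComplex CohIII Pointwise

universe u
variable {A : Type u} [CommRing A]

section modles

variable (S : ShortComplex (ModuleCat.{u} A)) (hS : S.ShortExact) (fs : List A)

/-- connecting map of Koszul cohomology for a short exact sequence of modules -/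
noncomputable def δK (i j : ℤ) (hij : i + 1 = j) :
    (koszulCx S.X₃ fs).homology i ⟶ (koszulCx S.X₁ fs).homology j :=
  (kS_shortExact S hS fs).δ i j hij

lemma modles_exact₁ (i j : ℤ) (hij : i + 1 = j) (x : (koszulCx S.X₁ fs).homology j)
    (hx : (homologyMap (kmap S.f fs) j).hom x = 0) :
    ∃ z, (δK S hS fs i j hij).hom z = x := by
  have h := (kS_shortExact S hS fs).homology_exact₁ i j hij
  rw [ShortComplex.moduleCat_exact_iff] at h
  exact h x hx

include hS in
lemma modles_exact₂ (i : ℤ) (y : (koszulCx S.X₂ fs).homology i)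
    (hy : (homologyMap (kmap S.g fs) i).hom y = 0) :
    ∃ x, (homologyMap (kmap S.f fs) i).hom x = y := by
  have h := (kS_shortExact S hS fs).homology_exact₂ i
  rw [ShortComplex.moduleCat_exact_iff] at h
  exact h y hy

lemma modles_exact₃ (i j : ℤ) (hij : i + 1 = j) (z : (koszulCx S.X₃ fs).homology i)
    (hz : (δK S hS fs i j hij).hom z = 0) :
    ∃ y, (homologyMap (kmap S.g fs) i).hom y = z := by
  have h := (kS_shortExact S hS fs).homology_exact₃ i j hij
  rw [ShortComplex.moduleCat_exact_iff] at h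
  exact h z hz

end modles

section regles

variable {M M' : ModuleCat.{u} A} (y : A) (g : M ⟶ M') (w : (y • 𝟙 M) ≫ g = 0)
  (hS : (ShortComplex.mk (y • 𝟙 M) g w).ShortExact) (fs : List A)

/-- connecting map for `0 → M --y--> M → M' → 0` -/
noncomputable def δy (i j : ℤ) (hij : i + 1 = j) :
    (koszulCx M' fs).homology i ⟶ (koszulCx M fs).homology j :=
  δK _ hS fs i j hij

lemma δy_exact₁ (i j : ℤ) (hij : i + 1 = j) (x : (koszulCx M fs).homology j)
    (hx : y • x = 0) : ∃ z, (δy y g w hS fs i j hij).hom z = x := by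
  refine modles_exact₁ _ hS fs i j hij x ?_
  have h1 : kmap (ShortComplex.mk (y • 𝟙 M) g w).f fs = y • 𝟙 _ := kmap_smul_id _ y fs
  have h2 : homologyMap (kmap (ShortComplex.mk (y • 𝟙 M) g w).f fs) j = y • 𝟙 _ := by
    rw [h1, homologyMap_smul', homologyMap_id]
  have := congrArg (fun k => k.hom x) h2
  exact this.trans hx

lemma δy_exact₃ (i j : ℤ) (hij : i + 1 = j) (z : (koszulCx M' fs).homology i)
    (hz : (δy y g w hS fs i j hij).hom z = 0) :
    ∃ x : (koszulCx M fs).homology i, (homologyMap (kmap g fs) i).hom x = z :=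
  modles_exact₃ _ hS fs i j hij z hz

end regles

section bottom

variable (K : CochainComplex (ModuleCat.{u} A) ℤ) (f : A)

lemma bd_injective (n₀ n₁ : ℤ) (h : n₀ + 1 = n₁) (hz : IsZero (K.homology n₀)) :
    Function.Injective (bd K f n₀ n₁ h).hom := by
  rw [injective_iff_map_eq_zero]
  intro y hy
  obtain ⟨x, rfl⟩ := exists_of_bd_eq_zero K f n₀ n₁ h y hy
  haveI := ModuleCat.isZero_iff_subsingleton.1 hz
  rw [Subsingleton.elim x 0, map_zero]

/-- if `H^{n}(K) = 0` then `H^n(cone(f)) ≅ ker(f | H^{n+1}(K))` -/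
noncomputable def coneBotEquiv (n₀ n₁ : ℤ) (h : n₀ + 1 = n₁) (hz : IsZero (K.homology n₀)) :
    (mappingCone (f • 𝟙 K)).homology n₀ ≃ₗ[A]
      LinearMap.ker (f • LinearMap.id : K.homology n₁ →ₗ[A] K.homology n₁) :=
  LinearEquiv.ofBijective
    ((bd K f n₀ n₁ h).hom.codRestrict _ (fun y => by
      rw [LinearMap.mem_ker, LinearMap.smul_apply, LinearMap.id_apply]
      exact smul_bd K f n₀ n₁ h y))
    ⟨fun y y' hyy' => bd_injective K f n₀ n₁ h hz (congrArg Subtype.val hyy'), by
      rintro ⟨z, hz'⟩
      rw [LinearMap.mem_ker, LinearMap.smul_apply, LinearMap.id_apply] at hz'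
      obtain ⟨y, hy⟩ := exists_of_smul_eq_zero K f n₀ n₁ h z hz'
      exact ⟨y, Subtype.ext hy⟩⟩

end bottom

section killed

variable (N : Type u) [AddCommGroup N] [Module A N]

/-- the elements killed by all members of a list -/
def killed (fs : List A) : Submodule A N where
  carrier := {n | ∀ x ∈ fs, x • n = 0}
  zero_mem' := fun x _ => smul_zero x
  add_mem' := fun {a b} ha hb x hx => by rw [smul_add, ha x hx, hb x hx, add_zero]
  smul_mem' := fun c a ha x hx => by rw [smul_comm, ha x hx, smul_zero]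

lemma mem_killed (fs : List A) (n : N) : n ∈ killed N fs ↔ ∀ x ∈ fs, x • n = 0 := Iff.rfl

/-- a linear equivalence restricts to the kernels of multiplication by `f` -/
noncomputable def kerSmulEquiv {N₁ N₂ : Type u} [AddCommGroup N₁] [Module A N₁] [AddCommGroup N₂]
    [Module A N₂] (e : N₁ ≃ₗ[A] N₂) (f : A) :
    LinearMap.ker (f • LinearMap.id : N₁ →ₗ[A] N₁) ≃ₗ[A]
      LinearMap.ker (f • LinearMap.id : N₂ →ₗ[A] N₂) :=
  LinearEquiv.ofSubmodules e _ _ (by
    ext y
    simp only [Submodule.mem_map, LinearMap.mem_ker, LinearMap.smul_apply, LinearMap.id_apply]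
    constructor
    · rintro ⟨x, hx, rfl⟩
      rw [← map_smul]
      change e (f • x) = 0
      rw [hx, map_zero]
    · intro hy
      refine ⟨e.symm y, ?_, e.apply_symm_apply y⟩
      rw [← map_smul, hy, map_zero])

/-- `ker(f | N[fs]) ≅ N[f :: fs]` -/
noncomputable def killedConsEquiv (f : A) (fs : List A) :
    LinearMap.ker (f • LinearMap.id : killed N fs →ₗ[A] killed N fs) ≃ₗ[A] killed N (f :: fs) where
  toFun x := ⟨x.1.1, fun y hy => by
    rcases List.mem_cons.1 hy with rfl | hy
    · have := x.2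
      rw [LinearMap.mem_ker, LinearMap.smul_apply, LinearMap.id_apply] at this
      exact congrArg Subtype.val this
    · exact x.1.2 y hy⟩
  map_add' x y := rfl
  map_smul' c x := rfl
  invFun x := ⟨⟨x.1, fun y hy => x.2 y (List.mem_cons_of_mem _ hy)⟩, by
    rw [LinearMap.mem_ker, LinearMap.smul_apply, LinearMap.id_apply]
    exact Subtype.ext (x.2 f List.mem_cons_self)⟩
  left_inv x := rfl
  right_inv x := rfl

/-- bottom Koszul cohomology: `H^0(fs; N) = {n | fs n = 0}` -/
theorem nonempty_homology_bot_equiv :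
    ∀ fs : List A, Nonempty ((koszulCx (ModuleCat.of A N) fs).homology (-(fs.length : ℤ)) ≃ₗ[A]
      killed N fs)
  | [] => by
    have e0 := (homologyIsoOfEq (koszulCx (ModuleCat.of A N) [])
      (show -((([] : List A).length : ℕ) : ℤ) = 0 by simp)).toLinearEquiv
    have e1 := (HomologicalComplex.singleObjHomologySelfIso (ComplexShape.up ℤ) 0
      (ModuleCat.of A N)).toLinearEquiv
    have htop : killed N ([] : List A) = ⊤ := by
      ext n
      simp [mem_killed]
    exact ⟨(e0.trans e1).trans ((LinearEquiv.ofTop _ htop).symm)⟩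
  | f :: fs => by
    obtain ⟨e⟩ := nonempty_homology_bot_equiv fs
    have hz : IsZero ((koszulCx (ModuleCat.of A N) fs).homology (-(fs.length : ℤ) - 1)) :=
      isZero_homology_of_isZero_X _ (isZero_X_of_lt _ fs _ (by omega))
    have e1 := coneBotEquiv (koszulCx (ModuleCat.of A N) fs) f (-(fs.length : ℤ) - 1)
      (-(fs.length : ℤ)) (by omega) hz
    have e0 := (homologyIsoOfEq (koszulCx (ModuleCat.of A N) (f :: fs))
      (show -(((f :: fs).length : ℕ) : ℤ) = -(fs.length : ℤ) - 1 by
        simp only [List.length_cons, Nat.cast_add, Nat.cast_one]; omega)).toLinearEquiv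
    exact ⟨((e0.trans e1).trans (kerSmulEquiv e f)).trans (killedConsEquiv N f fs)⟩

end killed

section depth

open RingTheory.Sequence

lemma isZero_homology_congr (K : CochainComplex (ModuleCat.{u} A) ℤ) {i j : ℤ} (h : i = j) :
    IsZero (K.homology i) ↔ IsZero (K.homology j) := by
  subst h
  rfl

variable [IsNoetherianRing A] (xs : List A)

/-- if every element of `(xs)` is a zero-divisor on the nonzero finite module `M` then
`H^0(xs; M) ≠ 0` -/
lemma not_isZero_homology_bot (M : Type u) [AddCommGroup M] [Module A M] [Module.Finite A M]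
    (hzd : ∀ r ∈ Ideal.span {x | x ∈ xs}, ¬ IsSMulRegular M r) :
    ¬ IsZero ((koszulCx (ModuleCat.of A M) xs).homology (-(xs.length : ℤ))) := by
  set a := Ideal.span {x | x ∈ xs} with ha
  have hns : ¬ Subsingleton ((A ⧸ a) →ₗ[A] M) := by
    rw [IsSMulRegular.subsingleton_linearMap_iff]
    rintro ⟨r, hr, hreg⟩
    rw [Ideal.annihilator_quotient] at hr
    exact hzd r hr hreg
  rw [not_subsingleton_iff_nontrivial] at hns
  obtain ⟨φ, hφ⟩ := exists_ne (0 : (A ⧸ a) →ₗ[A] M)
  have hn : φ (Ideal.Quotient.mk a 1) ≠ 0 := by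
    intro h0
    apply hφ
    ext
    simpa using h0
  have hk : φ (Ideal.Quotient.mk a 1) ∈ killed M xs := by
    intro x hx
    have hxa : x ∈ a := Ideal.subset_span (show x ∈ {x | x ∈ xs} from hx)
    have h1 : x • (Ideal.Quotient.mk a 1) = 0 := by
      rw [← Ideal.Quotient.eq_zero_iff_mem.2 hxa]
      simp [Algebra.smul_def]
    rw [← map_smul, h1, map_zero]
  obtain ⟨e⟩ := nonempty_homology_bot_equiv M xs
  intro hz
  haveI := ModuleCat.isZero_iff_subsingleton.1 hz
  have : (⟨_, hk⟩ : killed M xs) = 0 := e.symm.injective (Subsingleton.elim _ _)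
  exact hn (congrArg Subtype.val this)

theorem depth_sensitivity_aux : ∀ (ys : List A) (M : Type u) [AddCommGroup M] [Module A M]
    [Module.Finite A M], Ideal.span {x | x ∈ xs} • (⊤ : Submodule A M) ≠ ⊤ →
    IsWeaklyRegular M ys → (∀ y ∈ ys, y ∈ Ideal.span {x | x ∈ xs}) →
    (∀ r ∈ Ideal.span {x | x ∈ xs}, ¬ IsWeaklyRegular M (ys ++ [r])) →
    (∀ n : ℤ, n < (ys.length : ℤ) - xs.length →
      IsZero ((koszulCx (ModuleCat.of A M) xs).homology n)) ∧
    ¬ IsZero ((koszulCx (ModuleCat.of A M) xs).homology ((ys.length : ℤ) - xs.length))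
  | [], M, _, _, _, hIM, _, _, hmax => by
    have h0 : (([] : List A).length : ℤ) - (xs.length : ℤ) = -(xs.length : ℤ) := by simp
    constructor
    · intro n hn
      rw [h0] at hn
      exact isZero_homology_of_isZero_X _ (isZero_X_of_lt _ xs n hn)
    · rw [isZero_homology_congr _ h0]
      apply not_isZero_homology_bot xs M
      intro r hr hreg
      apply hmax r hr
      rw [List.nil_append, isWeaklyRegular_singleton_iff]
      exact hreg
  | y :: ys, M, _, _, _, hIM, hreg, hmem, hmax => by
    rw [isWeaklyRegular_cons_iff] at hreg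
    obtain ⟨hy, hreg'⟩ := hreg
    have hya : y ∈ Ideal.span {x | x ∈ xs} := hmem y List.mem_cons_self
    have hIM' : Ideal.span {x | x ∈ xs} • (⊤ : Submodule A (QuotSMulTop y M)) ≠ ⊤ :=
      Groth.Agent.Helper2.DepthRees.smul_top_quotSMulTop_ne_top hya hIM
    have hmax' : ∀ r ∈ Ideal.span {x | x ∈ xs},
        ¬ IsWeaklyRegular (QuotSMulTop y M) (ys ++ [r]) := by
      intro r hr h
      apply hmax r hr
      rw [List.cons_append, isWeaklyRegular_cons_iff]
      exact ⟨hy, h⟩
    obtain ⟨ih1, ih2⟩ := depth_sensitivity_aux ys (QuotSMulTop y M) hIM' hreg'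
      (fun z hz => hmem z (List.mem_cons_of_mem _ hz)) hmax'
    have hS := regSC_shortExact M y hy
    have hvan : ∀ n : ℤ, n < ((y :: ys).length : ℤ) - xs.length →
        IsZero ((koszulCx (ModuleCat.of A M) xs).homology n) := by
      intro n hn
      rw [ModuleCat.isZero_iff_subsingleton]
      refine ⟨fun x x' => ?_⟩
      suffices h0 : ∀ x : (koszulCx (ModuleCat.of A M) xs).homology n, x = 0 by
        rw [h0 x, h0 x']
      intro x
      obtain ⟨z, hz⟩ := δy_exact₁ y _ _ hS xs (n - 1) n (by omega) x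
        (smul_homology_eq_zero _ xs y hya n x)
      have hz0 : IsZero ((koszulCx (ModuleCat.of A (QuotSMulTop y M)) xs).homology (n - 1)) := by
        apply ih1
        simp only [List.length_cons, Nat.cast_add, Nat.cast_one] at hn
        omega
      haveI := ModuleCat.isZero_iff_subsingleton.1 hz0
      rw [← hz, Subsingleton.elim z 0, map_zero]
    refine ⟨hvan, ?_⟩
    intro hzero
    apply ih2
    rw [ModuleCat.isZero_iff_subsingleton]
    refine ⟨fun z z' => ?_⟩
    suffices h0 : ∀ z : (koszulCx (ModuleCat.of A (QuotSMulTop y M)) xs).homology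
        ((ys.length : ℤ) - xs.length), z = 0 by
      rw [h0 z, h0 z']
    intro z
    have hlen : ((ys.length : ℤ) - xs.length) + 1 = ((y :: ys).length : ℤ) - xs.length := by
      simp only [List.length_cons, Nat.cast_add, Nat.cast_one]
      omega
    haveI := ModuleCat.isZero_iff_subsingleton.1 hzero
    obtain ⟨w, hw⟩ := δy_exact₃ y _ _ hS xs _ _ hlen z (Subsingleton.elim _ _)
    have hw0 : IsZero ((koszulCx (ModuleCat.of A M) xs).homology ((ys.length : ℤ) - xs.length)) := by
      apply hvan
      omega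
    haveI := ModuleCat.isZero_iff_subsingleton.1 hw0
    rw [← hw, Subsingleton.elim w 0, map_zero]

/-- depth sensitivity of the Koszul complex -/
theorem depth_sensitivity (M : Type u) [AddCommGroup M] [Module A M] [Module.Finite A M]
    (hIM : Ideal.span {x | x ∈ xs} • (⊤ : Submodule A M) ≠ ⊤) :
    ∃ t : ℕ, LocCoh.idealDepth (Ideal.span {x | x ∈ xs}) M = t ∧ t ≤ xs.length ∧
      (∀ n : ℤ, n < (t : ℤ) - xs.length → IsZero ((koszulCx (ModuleCat.of A M) xs).homology n)) ∧
      ¬ IsZero ((koszulCx (ModuleCat.of A M) xs).homology ((t : ℤ) - xs.length)) := by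
  obtain ⟨ys, -, hreg, hmem, hmax⟩ :=
    Groth.Agent.Helper2.DepthRees.exists_maximal_extension (Ideal.span {x | x ∈ xs}) M hIM []
      (IsWeaklyRegular.nil A M) (by simp)
  have hlen := Groth.Agent.Helper2.DepthRees.length_eq_idealDepth_of_maximal
    (Ideal.span {x | x ∈ xs}) M hIM ys hreg hmem hmax
  obtain ⟨h1, h2⟩ := depth_sensitivity_aux xs ys M hIM hreg hmem hmax
  refine ⟨ys.length, hlen.symm, ?_, h1, h2⟩
  by_contra hcon
  rw [not_le] at hcon
  apply h2
  exact isZero_homology_of_isZero_X _ (isZero_X_of_pos _ xs _ (by omega))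

end depth

end Groth.Agent.Helper1.Koszul
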