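import Mathlib
import Groth.Prelude.Def_ega3
import Groth.Agent.Helper1.KoszulExact

set_option autoImplicit false

/-!
# Functoriality of the transition maps between Koszul complexes of powers
-/

namespace Groth.Agent.Helper1.Koszul
open CategoryTheory Limits CochainComplex HomologicalComplex HomComplex CohIII

universe u
variable {A : Type u} [CommRing A]

lemma cone_map_congr {C : Type*} [Category C] [Preadditive C] [HasBinaryBiproducts C]
    {K₁ L₁ K₂ L₂ : CochainComplex C ℤ} (φ₁ : K₁ ⟶ L₁) (φ₂ : K₂ ⟶ L₂)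
    {a a' : K₁ ⟶ K₂} {b b' : L₁ ⟶ L₂} (ha : a = a') (hb : b = b')
    (comm : φ₁ ≫ b = a ≫ φ₂) (comm' : φ₁ ≫ b' = a' ≫ φ₂) :
    mappingCone.map φ₁ φ₂ a b comm = mappingCone.map φ₁ φ₂ a' b' comm' := by
  subst ha hb
  rfl

lemma koszulTrans_nil (M : ModuleCat.{u} A) (n m : ℕ) (h : n ≤ m) :
    koszulTrans M n m h [] = 𝟙 _ := rfl

lemma koszulTrans_cons (M : ModuleCat.{u} A) (n m : ℕ) (h : n ≤ m) (f : A) (fs : List A) :
    koszulTrans M n m h (f :: fs) =
      mappingCone.map (f ^ n • 𝟙 (koszulCx M (fs.map (· ^ n))))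
        (f ^ m • 𝟙 (koszulCx M (fs.map (· ^ m)))) (koszulTrans M n m h fs)
        (f ^ (m - n) • koszulTrans M n m h fs) (by
          simp only [Linear.smul_comp, Linear.comp_smul, Category.id_comp, Category.comp_id,
            smul_smul, ← pow_add, Nat.sub_add_cancel h]) := rfl

lemma koszulTrans_self (M : ModuleCat.{u} A) (n : ℕ) :
    ∀ fs : List A, koszulTrans M n n le_rfl fs = 𝟙 _
  | [] => rfl
  | f :: fs => by
    rw [koszulTrans_cons]
    have h1 := koszulTrans_self M n fs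
    have h2 : f ^ (n - n) • koszulTrans M n n le_rfl fs = 𝟙 _ := by
      rw [h1, Nat.sub_self, pow_zero, one_smul]
    rw [cone_map_congr _ _ h1 h2 _ (by rw [Category.comp_id, Category.id_comp])]
    exact mappingCone.map_id _

lemma koszulTrans_trans (M : ModuleCat.{u} A) (n m k : ℕ) (h : n ≤ m) (h' : m ≤ k) :
    ∀ fs : List A, koszulTrans M n m h fs ≫ koszulTrans M m k h' fs =
      koszulTrans M n k (h.trans h') fs
  | [] => Category.id_comp _
  | f :: fs => by
    have c₁ : (f ^ n • 𝟙 (koszulCx M (fs.map (· ^ n)))) ≫ (f ^ (m - n) • koszulTrans M n m h fs) =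
        koszulTrans M n m h fs ≫ (f ^ m • 𝟙 (koszulCx M (fs.map (· ^ m)))) := by
      simp only [Linear.smul_comp, Linear.comp_smul, Category.id_comp, Category.comp_id,
        smul_smul, ← pow_add, Nat.sub_add_cancel h]
    have c₂ : (f ^ m • 𝟙 (koszulCx M (fs.map (· ^ m)))) ≫ (f ^ (k - m) • koszulTrans M m k h' fs) =
        koszulTrans M m k h' fs ≫ (f ^ k • 𝟙 (koszulCx M (fs.map (· ^ k)))) := by
      simp only [Linear.smul_comp, Linear.comp_smul, Category.id_comp, Category.comp_id,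
        smul_smul, ← pow_add, Nat.sub_add_cancel h']
    have e := mappingCone.map_comp _ _ _ _ _ c₁ _ _ c₂
    refine e.symm.trans (cone_map_congr _ _ (koszulTrans_trans M n m k h h' fs) ?_ _ _)
    rw [Linear.smul_comp, Linear.comp_smul, smul_smul, koszulTrans_trans M n m k h h' fs,
      ← pow_add]
    congr 2
    omega

lemma kmap_trans {M N : ModuleCat.{u} A} (g : M ⟶ N) (n m : ℕ) (h : n ≤ m) :
    ∀ fs : List A, kmap g (fs.map (· ^ n)) ≫ koszulTrans N n m h fs =
      koszulTrans M n m h fs ≫ kmap g (fs.map (· ^ m))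
  | [] => by
    change kmap g [] ≫ 𝟙 _ = 𝟙 _ ≫ kmap g []
    rw [Category.comp_id, Category.id_comp]
  | f :: fs => by
    have c₁ : (f ^ n • 𝟙 (koszulCx M (fs.map (· ^ n)))) ≫ kmap g (fs.map (· ^ n)) =
        kmap g (fs.map (· ^ n)) ≫ (f ^ n • 𝟙 (koszulCx N (fs.map (· ^ n)))) := smul_id_comm _ _
    have c₂ : (f ^ n • 𝟙 (koszulCx N (fs.map (· ^ n)))) ≫ (f ^ (m - n) • koszulTrans N n m h fs) =
        koszulTrans N n m h fs ≫ (f ^ m • 𝟙 (koszulCx N (fs.map (· ^ m)))) := by
      simp only [Linear.smul_comp, Linear.comp_smul, Category.id_comp, Category.comp_id,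
        smul_smul, ← pow_add, Nat.sub_add_cancel h]
    have c₃ : (f ^ n • 𝟙 (koszulCx M (fs.map (· ^ n)))) ≫ (f ^ (m - n) • koszulTrans M n m h fs) =
        koszulTrans M n m h fs ≫ (f ^ m • 𝟙 (koszulCx M (fs.map (· ^ m)))) := by
      simp only [Linear.smul_comp, Linear.comp_smul, Category.id_comp, Category.comp_id,
        smul_smul, ← pow_add, Nat.sub_add_cancel h]
    have c₄ : (f ^ m • 𝟙 (koszulCx M (fs.map (· ^ m)))) ≫ kmap g (fs.map (· ^ m)) =
        kmap g (fs.map (· ^ m)) ≫ (f ^ m • 𝟙 (koszulCx N (fs.map (· ^ m)))) := smul_id_comm _ _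
    have e₁ := mappingCone.map_comp _ _ _ _ _ c₁ _ _ c₂
    have e₂ := mappingCone.map_comp _ _ _ _ _ c₃ _ _ c₄
    refine e₁.symm.trans (Eq.trans (cone_map_congr _ _ (kmap_trans g n m h fs) ?_ _ _) e₂)
    rw [Linear.comp_smul, Linear.smul_comp, kmap_trans g n m h fs]

end Groth.Agent.Helper1.Koszul
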