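import Mathlib
import Groth.Prelude.Def_ega3
import Groth.Agent.Helper1.KoszulTrans
import Groth.Agent.Helper1.KoszulDepth
import Groth.Agent.Helper1.DirLim
import Groth.Agent.Helper1.DeltaFunctor

set_option autoImplicit false

/-!
# The direct limit of the Koszul cohomology of the powers, as a δ-functor
-/

namespace Groth.Agent.Helper1.Koszul
open CategoryTheory Limits CochainComplex HomologicalComplex HomComplex CohIII

universe u
variable {A : Type u} [CommRing A]

section lim

variable (fs : List A) (M : ModuleCat.{u} A) (j : ℤ)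

/-- level `n` Koszul cohomology of the powers -/
noncomputable abbrev Hn (n : ℕ) : ModuleCat.{u} A := (koszulCx M (fs.map (· ^ n))).homology j

/-- transition maps -/
noncomputable def tr (n m : ℕ) (h : n ≤ m) : Hn fs M j n →ₗ[A] Hn fs M j m :=
  (homologyMap (koszulTrans M n m h fs) j).hom

instance : DirectedSystem (fun n => Hn fs M j n) (fun n m h => tr fs M j n m h) where
  map_self n x := by
    change (homologyMap (koszulTrans M n n le_rfl fs) j).hom x = x
    rw [koszulTrans_self, homologyMap_id]
    rfl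
  map_map k m n hnm hmk x := by
    change (homologyMap (koszulTrans M m k hmk fs) j).hom
      ((homologyMap (koszulTrans M n m hnm fs) j).hom x) =
      (homologyMap (koszulTrans M n k (hnm.trans hmk) fs) j).hom x
    rw [← koszulTrans_trans M n m k hnm hmk fs, homologyMap_comp]
    rfl

/-- the direct limit of the Koszul cohomology of the powers, in cochain degree `j` -/
noncomputable abbrev HLim : Type u := Module.DirectLimit (fun n => Hn fs M j n) (tr fs M j)

variable {M} {N : ModuleCat.{u} A} (g : M ⟶ N)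

/-- functoriality at level `n` -/
noncomputable def Hmap (n : ℕ) : Hn fs M j n →ₗ[A] Hn fs N j n :=
  (homologyMap (kmap g (fs.map (· ^ n))) j).hom

lemma Hmap_tr (n m : ℕ) (h : n ≤ m) :
    Hmap fs j g m ∘ₗ tr fs M j n m h = tr fs N j n m h ∘ₗ Hmap fs j g n := by
  ext x
  change (homologyMap (kmap g (fs.map (· ^ m))) j).hom
      ((homologyMap (koszulTrans M n m h fs) j).hom x) =
    (homologyMap (koszulTrans N n m h fs) j).hom
      ((homologyMap (kmap g (fs.map (· ^ n))) j).hom x)
  rw [← LinearMap.comp_apply, ← LinearMap.comp_apply, ← ModuleCat.hom_comp, ← ModuleCat.hom_comp,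
    ← homologyMap_comp, ← homologyMap_comp, kmap_trans]

/-- functoriality of the limit -/
noncomputable def HLimMap : HLim fs M j →ₗ[A] HLim fs N j :=
  Module.DirectLimit.map (Hmap fs j g) (Hmap_tr fs j g)

lemma Hmap_id (n : ℕ) : Hmap fs j (𝟙 M) n = LinearMap.id := by
  unfold Hmap
  rw [kmap_id, homologyMap_id]
  rfl

lemma Hmap_comp {P : ModuleCat.{u} A} (g' : N ⟶ P) (n : ℕ) :
    Hmap fs j (g ≫ g') n = Hmap fs j g' n ∘ₗ Hmap fs j g n := by
  unfold Hmap
  rw [kmap_comp, homologyMap_comp]
  rfl

lemma HLimMap_id : HLimMap fs j (𝟙 M) = LinearMap.id := by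
  unfold HLimMap
  have : Hmap fs j (𝟙 M) = fun n => LinearMap.id := funext (Hmap_id fs j)
  simp only [this]
  exact Module.DirectLimit.map_id

lemma HLimMap_comp {P : ModuleCat.{u} A} (g' : N ⟶ P) :
    HLimMap fs j (g ≫ g') = HLimMap fs j g' ∘ₗ HLimMap fs j g := by
  unfold HLimMap
  rw [Module.DirectLimit.map_comp]
  congr 1
  funext n
  exact Hmap_comp fs j g g' n

variable (A) in
/-- the functor `M ↦ lim_n H^j(K(M; fs^n))` -/
noncomputable def Tfun : ModuleCat.{u} A ⥤ ModuleCat.{u} A where
  obj M := ModuleCat.of A (HLim fs M j)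
  map g := ModuleCat.ofHom (HLimMap fs j g)
  map_id M := by
    rw [HLimMap_id]
    rfl
  map_comp g g' := by
    rw [HLimMap_comp]
    rfl

end lim

section delta

variable (fs : List A) (S : ShortComplex (ModuleCat.{u} A)) (hS : S.ShortExact)

/-- the morphism of short complexes of Koszul complexes induced by the transition maps -/
noncomputable def kStrans (n m : ℕ) (h : n ≤ m) :
    kS S (fs.map (· ^ n)) ⟶ kS S (fs.map (· ^ m)) where
  τ₁ := koszulTrans S.X₁ n m h fs
  τ₂ := koszulTrans S.X₂ n m h fs
  τ₃ := koszulTrans S.X₃ n m h fs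
  comm₁₂ := (kmap_trans S.f n m h fs).symm
  comm₂₃ := (kmap_trans S.g n m h fs).symm

/-- connecting maps at level `n` -/
noncomputable def δn (i j : ℤ) (hij : i + 1 = j) (n : ℕ) : Hn fs S.X₃ i n →ₗ[A] Hn fs S.X₁ j n :=
  (δK S hS (fs.map (· ^ n)) i j hij).hom

lemma δn_tr (i j : ℤ) (hij : i + 1 = j) (n m : ℕ) (h : n ≤ m) :
    δn fs S hS i j hij m ∘ₗ tr fs S.X₃ i n m h = tr fs S.X₁ j n m h ∘ₗ δn fs S hS i j hij n := by
  have := HomologicalComplex.HomologySequence.δ_naturality (kStrans fs S n m h)
    (kS_shortExact S hS (fs.map (· ^ n))) (kS_shortExact S hS (fs.map (· ^ m))) i j hij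
  ext x
  have h2 := congrArg (fun k => k.hom x) this
  exact h2.symm

/-- the connecting map in the limit -/
noncomputable def δlim (i j : ℤ) (hij : i + 1 = j) : HLim fs S.X₃ i →ₗ[A] HLim fs S.X₁ j :=
  Module.DirectLimit.map (δn fs S hS i j hij) (δn_tr fs S hS i j hij)

lemma exact₃_lim (i j : ℤ) (hij : i + 1 = j) :
    Function.Exact (HLimMap fs i S.g) (δlim fs S hS i j hij) := by
  apply DirLim.exact_map
  intro n
  have h := (kS_shortExact S hS (fs.map (· ^ n))).homology_exact₃ i j hij
  rw [ShortComplex.ShortExact.moduleCat_exact_iff_function_exact] at h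
  exact h

lemma exact₁_lim (i j : ℤ) (hij : i + 1 = j) :
    Function.Exact (δlim fs S hS i j hij) (HLimMap fs j S.f) := by
  apply DirLim.exact_map
  intro n
  have h := (kS_shortExact S hS (fs.map (· ^ n))).homology_exact₁ i j hij
  rw [ShortComplex.ShortExact.moduleCat_exact_iff_function_exact] at h
  exact h

include hS in
lemma exact₂_lim (i : ℤ) :
    Function.Exact (HLimMap fs i S.f) (HLimMap fs i S.g) := by
  apply DirLim.exact_map
  intro n
  have h := (kS_shortExact S hS (fs.map (· ^ n))).homology_exact₂ i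
  rw [ShortComplex.ShortExact.moduleCat_exact_iff_function_exact] at h
  exact h

lemma δlim_naturality {S S' : ShortComplex (ModuleCat.{u} A)} (φ : S ⟶ S') (hS : S.ShortExact)
    (hS' : S'.ShortExact) (i j : ℤ) (hij : i + 1 = j) :
    HLimMap fs j φ.τ₁ ∘ₗ δlim fs S hS i j hij = δlim fs S' hS' i j hij ∘ₗ HLimMap fs i φ.τ₃ := by
  unfold HLimMap δlim
  rw [Module.DirectLimit.map_comp, Module.DirectLimit.map_comp]
  congr 1
  funext n
  have := HomologicalComplex.HomologySequence.δ_naturality (kSmap φ (fs.map (· ^ n)))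
    (kS_shortExact S hS (fs.map (· ^ n))) (kS_shortExact S' hS' (fs.map (· ^ n))) i j hij
  ext x
  have h2 := congrArg (fun k => k.hom x) this
  exact h2

end delta

section deltafunctor

open Groth.Agent.Helper1.DeltaFun

variable (fs : List A)

omit [CommRing A] in
lemma deg_succ (p : ℕ) : ((p : ℤ) - fs.length) + 1 = ((p + 1 : ℕ) : ℤ) - fs.length := by
  push_cast
  ring

/-- the limit Koszul cohomology as a δ-functor -/
noncomputable def koszulDelta : DeltaFunctor (ModuleCat.{u} A) (ModuleCat.{u} A) where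
  T p := Tfun A fs ((p : ℤ) - fs.length)
  δ S hS p := ModuleCat.ofHom (δlim fs S hS _ _ (deg_succ fs p))
  δ_nat φ hS hS' p := by
    ext x
    exact congrArg (fun k => k x) (δlim_naturality fs φ hS hS' _ _ (deg_succ fs p))
  w₃ S hS p := by
    ext x
    exact (exact₃_lim fs S hS _ _ (deg_succ fs p)).apply_apply_eq_zero x
  w₁ S hS p := by
    ext x
    exact (exact₁_lim fs S hS _ _ (deg_succ fs p)).apply_apply_eq_zero x
  exact₃ S hS p := by
    rw [ShortComplex.ShortExact.moduleCat_exact_iff_function_exact]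
    exact exact₃_lim fs S hS _ _ (deg_succ fs p)
  exact₁ S hS p := by
    rw [ShortComplex.ShortExact.moduleCat_exact_iff_function_exact]
    exact exact₁_lim fs S hS _ _ (deg_succ fs p)

end deltafunctor

end Groth.Agent.Helper1.Koszul
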