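import Mathlib
import Groth.Prelude.Def_DRing3

set_option autoImplicit false

/-!
# `Γ_I(E)` is injective for an injective module `E` over a Noetherian ring
-/

namespace Groth.Agent.Helper1.GammaInj
open CategoryTheory

universe u
variable {R : Type u} [CommRing R] (I : Ideal R) {E : Type u} [AddCommGroup E] [Module R E]

/-- elements of `𝔞` whose image is killed by `I^n` -/
def killed (𝔞 : Ideal R) (g : 𝔞 →ₗ[R] DRing.torsionSub I E) (n : ℕ) : Submodule R 𝔞 where
  carrier := {x | ∀ a ∈ I ^ n, a • g x = 0}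
  zero_mem' := fun a _ => by rw [map_zero, smul_zero]
  add_mem' := fun {x y} hx hy a ha => by rw [map_add, smul_add, hx a ha, hy a ha, add_zero]
  smul_mem' := fun c x hx a ha => by rw [map_smul, smul_comm, hx a ha, smul_zero]

lemma killed_mono (𝔞 : Ideal R) (g : 𝔞 →ₗ[R] DRing.torsionSub I E) : Monotone (killed I 𝔞 g) :=
  fun _ _ h _ hx a ha => hx a (Ideal.pow_le_pow_right h ha)

lemma exists_uniform [IsNoetherianRing R] (𝔞 : Ideal R) (g : 𝔞 →ₗ[R] DRing.torsionSub I E) :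
    ∃ n : ℕ, ∀ (x : 𝔞) (a : R), a ∈ I ^ n → a • g x = 0 := by
  obtain ⟨n, hn⟩ := monotone_stabilizes_iff_noetherian.mpr
    (inferInstance : IsNoetherian R 𝔞) ⟨killed I 𝔞 g, killed_mono I 𝔞 g⟩
  refine ⟨n, fun x a ha => ?_⟩
  obtain ⟨m, hm⟩ := (g x).2
  have hx : x ∈ killed I 𝔞 g (max n m) := fun b hb => by
    apply Subtype.ext
    exact hm b (Ideal.pow_le_pow_right (le_max_right n m) hb)
  have : killed I 𝔞 g n = killed I 𝔞 g (max n m) := hn _ (le_max_left n m)
  rw [← this] at hx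
  exact hx a ha

/-- Baer's criterion for `Γ_I(E)` -/
theorem baer_torsionSub [IsNoetherianRing R] [Module.Injective R E] :
    Module.Baer R (DRing.torsionSub I E) := by
  intro 𝔞 g
  obtain ⟨n, hn⟩ := exists_uniform I 𝔞 g
  obtain ⟨k, hk⟩ := Ideal.exists_pow_inf_eq_pow_smul I (𝔞 : Submodule R R)
  -- elements of `𝔞 ∩ I^(n+k)` are killed by `g`
  have hzero : ∀ (x : R) (hx : x ∈ 𝔞), x ∈ I ^ (n + k) → g ⟨x, hx⟩ = 0 := by
    intro x hx hxI
    have h1 : x ∈ I ^ (n + k) • (⊤ : Submodule R R) ⊓ 𝔞 := by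
      refine ⟨?_, hx⟩
      rw [Ideal.smul_top_eq_map, Algebra.algebraMap_self, Ideal.map_id]
      exact hxI
    rw [hk (n + k) (Nat.le_add_left k n), Nat.add_sub_cancel] at h1
    have h2 : ∀ y ∈ I ^ n • (I ^ k • (⊤ : Submodule R R) ⊓ 𝔞), ∃ (hy : y ∈ 𝔞), g ⟨y, hy⟩ = 0 := by
      intro y hy
      refine Submodule.smul_induction_on hy ?_ ?_
      · intro a ha z hz
        refine ⟨𝔞.smul_mem a hz.2, ?_⟩
        have : (⟨a • z, 𝔞.smul_mem a hz.2⟩ : 𝔞) = a • ⟨z, hz.2⟩ := rfl
        rw [this, map_smul]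
        exact hn _ a ha
      · rintro y z ⟨hy', ey⟩ ⟨hz', ez⟩
        refine ⟨𝔞.add_mem hy' hz', ?_⟩
        have : (⟨y + z, 𝔞.add_mem hy' hz'⟩ : 𝔞) = ⟨y, hy'⟩ + ⟨z, hz'⟩ := rfl
        rw [this, map_add, ey, ez, add_zero]
    obtain ⟨_, e⟩ := h2 x h1
    exact e
  -- the map `𝔞 → R/I^(n+k)` and factorization
  let f : 𝔞 →ₗ[R] R ⧸ I ^ (n + k) := (I ^ (n + k)).mkQ.comp 𝔞.subtype
  let g' : 𝔞 →ₗ[R] E := (DRing.torsionSub I E).subtype.comp g
  have hker : LinearMap.ker f ≤ LinearMap.ker g' := by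
    intro x hx
    rw [LinearMap.mem_ker] at hx ⊢
    have hxI : (x : R) ∈ I ^ (n + k) := (Submodule.Quotient.mk_eq_zero _).1 hx
    show ((g x : DRing.torsionSub I E) : E) = 0
    have := hzero x.1 x.2 hxI
    rw [show (⟨x.1, x.2⟩ : 𝔞) = x from rfl] at this
    rw [this]
    rfl
  let fbar : (𝔞 ⧸ LinearMap.ker f) →ₗ[R] R ⧸ I ^ (n + k) := (LinearMap.ker f).liftQ f le_rfl
  let gbar : (𝔞 ⧸ LinearMap.ker f) →ₗ[R] E := (LinearMap.ker f).liftQ g' hker
  have hfbar : Function.Injective fbar := by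
    rw [← LinearMap.ker_eq_bot]
    exact Submodule.ker_liftQ_eq_bot _ _ _ le_rfl
  obtain ⟨G, hG⟩ := Module.Injective.out (R := R) (Q := E) fbar hfbar gbar
  let h0 : R →ₗ[R] E := G.comp (I ^ (n + k)).mkQ
  have hmem : ∀ r : R, h0 r ∈ DRing.torsionSub I E := by
    intro r
    refine ⟨n + k, fun a ha => ?_⟩
    show a • G (Submodule.Quotient.mk r) = 0
    rw [← map_smul, ← Submodule.Quotient.mk_smul,
      (Submodule.Quotient.mk_eq_zero _).2
        (show a • r ∈ I ^ (n + k) from Ideal.mul_mem_right r _ ha), map_zero]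
  refine ⟨h0.codRestrict (DRing.torsionSub I E) hmem, fun x hx => ?_⟩
  apply Subtype.ext
  show G (Submodule.Quotient.mk x) = (g ⟨x, hx⟩ : E)
  have := hG (Submodule.Quotient.mk ⟨x, hx⟩)
  exact this

/-- `Γ_I(E)` is an injective module -/
theorem injective_torsionSub [IsNoetherianRing R] [Module.Injective R E] :
    Module.Injective R (DRing.torsionSub I E) :=
  (baer_torsionSub I).injective

/-- `Γ_I(E)` is an injective object -/
theorem injective_gammaI_obj [IsNoetherianRing R] (E : ModuleCat.{u} R) [Injective E] :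
    Injective ((DRing.gammaI I).obj E) := by
  have : Module.Injective R E := Module.injective_module_of_injective_object R E
  have := injective_torsionSub I (E := E)
  exact Module.injective_object_of_injective_module R (DRing.torsionSub I E)

end Groth.Agent.Helper1.GammaInj
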