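import Mathlib
import Groth.Prelude.Def_ega3
import Groth.Agent.Helper1.KoszulLim
import Groth.Prelude.Def_DRing3

set_option autoImplicit false

/-!
# Bottom Koszul cohomology, naturally: `lim_n H^0(fs^n; M) ≅ Γ_{(fs)}(M)`
-/

namespace Groth.Agent.Helper1.Koszul
open CategoryTheory Limits CochainComplex HomologicalComplex HomComplex CohIII

universe u
variable {A : Type u} [CommRing A]

lemma homologyIsoOfEq_naturality {K L : CochainComplex (ModuleCat.{u} A) ℤ} (φ : K ⟶ L) {i j : ℤ}
    (h : i = j) :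
    homologyMap φ i ≫ (homologyIsoOfEq L h).hom = (homologyIsoOfEq K h).hom ≫ homologyMap φ j := by
  subst h
  simp [homologyIsoOfEq]

/-- the bottom map `H^{-r}(K(M; fs)) ⟶ M` -/
noncomputable def botMap (M : ModuleCat.{u} A) : ∀ (fs : List A) (d : ℤ), d = -(fs.length : ℤ) →
    ((koszulCx M fs).homology d ⟶ M)
  | [], d, hd => (homologyIsoOfEq (koszulCx M []) (show d = 0 by simpa using hd)).hom ≫
      (HomologicalComplex.singleObjHomologySelfIso (ComplexShape.up ℤ) 0 M).hom
  | f :: fs, d, hd => bd (koszulCx M fs) f d (d + 1) rfl ≫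
      botMap M fs (d + 1) (by
        simp only [List.length_cons, Nat.cast_add, Nat.cast_one] at hd
        omega)

lemma comp_square {C : Type*} [Category C] {X Y Z X' Y' Z' : C} (a : X ⟶ X') (u : X ⟶ Y)
    (u' : X' ⟶ Y') (b : Y ⟶ Y') (v : Y ⟶ Z) (v' : Y' ⟶ Z') (c : Z ⟶ Z')
    (h1 : a ≫ u' = u ≫ b) (h2 : b ≫ v' = v ≫ c) : a ≫ (u' ≫ v') = (u ≫ v) ≫ c := by
  rw [← Category.assoc, h1, Category.assoc, h2, Category.assoc]

lemma bd_naturality {K L : CochainComplex (ModuleCat.{u} A) ℤ} (f f' : A) (a : K ⟶ L) (b : K ⟶ L)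
    (comm : (f • 𝟙 K) ≫ b = a ≫ (f' • 𝟙 L)) (n₀ n₁ : ℤ) (h : n₀ + 1 = n₁) :
    homologyMap (mappingCone.map (f • 𝟙 K) (f' • 𝟙 L) a b comm) n₀ ≫ bd L f' n₀ n₁ h =
      bd K f n₀ n₁ h ≫ homologyMap a n₁ :=
  KoszulCone.coneδ_naturality _ _ a b comm n₀ n₁ h

lemma botMap_naturality {M N : ModuleCat.{u} A} (g : M ⟶ N) :
    ∀ (fs : List A) (d : ℤ) (hd : d = -(fs.length : ℤ)),
      homologyMap (kmap g fs) d ≫ botMap N fs d hd = botMap M fs d hd ≫ g
  | [], d, hd => by
    have h1 := homologyIsoOfEq_naturality (kmap g []) (show d = 0 by simpa using hd)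
    have h2 := HomologicalComplex.singleObjHomologySelfIso_hom_naturality g
      (c := ComplexShape.up ℤ) (j := (0 : ℤ))
    exact comp_square _ _ _ _ _ _ _ h1 h2
  | f :: fs, d, hd => by
    have h1 := bd_naturality f f (kmap g fs) (kmap g fs) (smul_id_comm f _) d (d + 1) rfl
    have ih := botMap_naturality g fs (d + 1) (by
        simp only [List.length_cons, Nat.cast_add, Nat.cast_one] at hd
        omega)
    exact comp_square _ _ _ _ _ _ _ h1 ih

lemma comp_tri {C : Type*} [Category C] {X Y Z X' Y' : C} (a : X ⟶ X') (u : X ⟶ Y)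
    (u' : X' ⟶ Y') (b : Y ⟶ Y') (v : Y ⟶ Z) (v' : Y' ⟶ Z)
    (h1 : a ≫ u' = u ≫ b) (h2 : b ≫ v' = v) : a ≫ (u' ≫ v') = u ≫ v := by
  rw [← Category.assoc, h1, Category.assoc, h2]

lemma botMap_trans (M : ModuleCat.{u} A) (n m : ℕ) (h : n ≤ m) :
    ∀ (fs : List A) (d : ℤ) (hn : d = -((fs.map (· ^ n)).length : ℤ))
      (hm : d = -((fs.map (· ^ m)).length : ℤ)),
      homologyMap (koszulTrans M n m h fs) d ≫ botMap M (fs.map (· ^ m)) d hm =
        botMap M (fs.map (· ^ n)) d hn
  | [], d, hn, hm => by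
    have : homologyMap (koszulTrans M n m h []) d = 𝟙 _ := homologyMap_id _ d
    rw [this, Category.id_comp]
    rfl
  | f :: fs, d, hn, hm => by
    have c : (f ^ n • 𝟙 (koszulCx M (fs.map (· ^ n)))) ≫ (f ^ (m - n) • koszulTrans M n m h fs) =
        koszulTrans M n m h fs ≫ (f ^ m • 𝟙 (koszulCx M (fs.map (· ^ m)))) := by
      simp only [Linear.smul_comp, Linear.comp_smul, Category.id_comp, Category.comp_id,
        smul_smul, ← pow_add, Nat.sub_add_cancel h]
    have h1 := bd_naturality (f ^ n) (f ^ m) (koszulTrans M n m h fs)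
      (f ^ (m - n) • koszulTrans M n m h fs) c d (d + 1) rfl
    have ih := botMap_trans M n m h fs (d + 1) (by
        simp only [List.map_cons, List.length_cons, Nat.cast_add, Nat.cast_one] at hn
        omega) (by
        simp only [List.map_cons, List.length_cons, Nat.cast_add, Nat.cast_one] at hm
        omega)
    exact comp_tri _ _ _ _ _ _ h1 ih

section image

variable (K : CochainComplex (ModuleCat.{u} A) ℤ) (f : A) {M : ModuleCat.{u} A}

lemma bd_comp_injective (n₀ n₁ : ℤ) (h : n₀ + 1 = n₁) (hz : IsZero (K.homology n₀))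
    (β : K.homology n₁ ⟶ M) (hβ : Function.Injective β.hom) :
    Function.Injective (bd K f n₀ n₁ h ≫ β).hom := by
  rw [ModuleCat.hom_comp]
  exact hβ.comp (bd_injective K f n₀ n₁ h hz)

lemma range_bd_comp (n₀ n₁ : ℤ) (h : n₀ + 1 = n₁)
    (β : K.homology n₁ ⟶ M) (hβ : Function.Injective β.hom) (x : M) :
    x ∈ LinearMap.range (bd K f n₀ n₁ h ≫ β).hom ↔
      x ∈ LinearMap.range β.hom ∧ f • x = 0 := by
  rw [ModuleCat.hom_comp]
  constructor
  · rintro ⟨y, rfl⟩
    refine ⟨⟨_, rfl⟩, ?_⟩
    rw [LinearMap.comp_apply, ← map_smul, smul_bd, map_zero]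
  · rintro ⟨⟨z, rfl⟩, hz⟩
    have : f • z = 0 := hβ (by rw [map_smul, hz, map_zero])
    obtain ⟨y, rfl⟩ := exists_of_smul_eq_zero K f n₀ n₁ h z this
    exact ⟨y, rfl⟩

end image

lemma botMap_nil_isIso (M : ModuleCat.{u} A) (d : ℤ) (hd : d = -(([] : List A).length : ℤ)) :
    IsIso (botMap M [] d hd) := by
  let e1 : (koszulCx M []).homology d ≅ (koszulCx M []).homology 0 :=
    homologyIsoOfEq (koszulCx M []) (show d = 0 by simpa using hd)
  let e2 : (koszulCx M []).homology 0 ≅ M :=
    HomologicalComplex.singleObjHomologySelfIso (ComplexShape.up ℤ) 0 M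
  have : botMap M [] d hd = (e1 ≪≫ e2).hom := rfl
  rw [this]
  infer_instance

lemma botMap_injective (M : ModuleCat.{u} A) :
    ∀ (fs : List A) (d : ℤ) (hd : d = -(fs.length : ℤ)), Function.Injective (botMap M fs d hd).hom
  | [], d, hd => by
    have : IsIso (botMap M [] d hd) := botMap_nil_isIso M d hd
    exact ((ConcreteCategory.isIso_iff_bijective (botMap M [] d hd)).1 this).1
  | f :: fs, d, hd => by
    have hlt : d < -(fs.length : ℤ) := by
      simp only [List.length_cons, Nat.cast_add, Nat.cast_one] at hd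
      omega
    exact bd_comp_injective (koszulCx M fs) f d (d + 1) rfl
      (isZero_homology_of_isZero_X _ (isZero_X_of_lt M fs d hlt)) _
      (botMap_injective M fs (d + 1) _)

lemma mem_range_botMap (M : ModuleCat.{u} A) :
    ∀ (fs : List A) (d : ℤ) (hd : d = -(fs.length : ℤ)) (x : M),
      x ∈ LinearMap.range (botMap M fs d hd).hom ↔ ∀ y ∈ fs, y • x = 0
  | [], d, hd, x => by
    have : IsIso (botMap M [] d hd) := botMap_nil_isIso M d hd
    have hs := ((ConcreteCategory.isIso_iff_bijective (botMap M [] d hd)).1 this).2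
    constructor
    · intro _ y hy
      simp at hy
    · intro _
      obtain ⟨z, hz⟩ := hs x
      exact ⟨z, hz⟩
  | f :: fs, d, hd, x => by
    have h1 := range_bd_comp (koszulCx M fs) f d (d + 1) rfl
      (botMap M fs (d + 1) (by
        simp only [List.length_cons, Nat.cast_add, Nat.cast_one] at hd
        omega)) (botMap_injective M fs (d + 1) _) x
    have h2 := mem_range_botMap M fs (d + 1) (by
        simp only [List.length_cons, Nat.cast_add, Nat.cast_one] at hd
        omega) x
    refine h1.trans ?_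
    rw [h2]
    constructor
    · rintro ⟨h3, h4⟩ y hy
      rcases List.mem_cons.1 hy with rfl | hy
      · exact h4
      · exact h3 y hy
    · intro h3
      exact ⟨fun y hy => h3 y (List.mem_cons_of_mem _ hy), h3 f List.mem_cons_self⟩

section torsion

lemma mem_torsionSub_span_iff (fs : List A) (M : Type u) [AddCommGroup M] [Module A M] (x : M) :
    x ∈ DRing.torsionSub (Ideal.span {a | a ∈ fs}) M ↔ ∃ n : ℕ, ∀ f ∈ fs, f ^ n • x = 0 := by
  constructor
  · rintro ⟨n, hn⟩
    exact ⟨n, fun f hf => hn _ (Ideal.pow_mem_pow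
      (Ideal.subset_span (show f ∈ {a | a ∈ fs} from hf)) n)⟩
  · rintro ⟨n, hn⟩
    induction fs with
    | nil =>
      refine ⟨1, fun a ha => ?_⟩
      have h0 : {a : A | a ∈ ([] : List A)} = ∅ := by ext; simp
      rw [pow_one, h0, Ideal.span_empty, Ideal.mem_bot] at ha
      rw [ha, zero_smul]
    | cons f fs ih =>
      obtain ⟨N, hN⟩ := ih (fun g hg => hn g (List.mem_cons_of_mem _ hg))
      refine ⟨n + N, fun a ha => ?_⟩
      have h1 : Ideal.span {a | a ∈ f :: fs} = Ideal.span {f} ⊔ Ideal.span {a | a ∈ fs} := by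
        rw [← Ideal.span_union]
        congr 1
        ext y
        simp
      rw [h1] at ha
      have h2 := Ideal.sup_pow_add_le_pow_sup_pow (I := Ideal.span {f})
        (J := Ideal.span {a | a ∈ fs}) (n := n) (m := N) ha
      obtain ⟨b, hb, c, hc, rfl⟩ := Submodule.mem_sup.1 h2
      rw [Ideal.span_singleton_pow, Ideal.mem_span_singleton] at hb
      obtain ⟨e, rfl⟩ := hb
      rw [add_smul, hN c hc, add_zero, mul_comm, mul_smul, hn f List.mem_cons_self, smul_zero]

end torsion

section botlim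

variable (fs : List A) (M : ModuleCat.{u} A) (d : ℤ) (hd : d = -(fs.length : ℤ))

include hd in
lemma hd_pow (n : ℕ) : d = -((fs.map (· ^ n)).length : ℤ) := by
  rw [List.length_map]
  exact hd

/-- the bottom maps at level `n` -/
noncomputable def botN (n : ℕ) : Hn fs M d n →ₗ[A] M :=
  (botMap M (fs.map (· ^ n)) d (hd_pow fs d hd n)).hom

lemma botN_tr (n m : ℕ) (h : n ≤ m) (x : Hn fs M d n) :
    botN fs M d hd m (tr fs M d n m h x) = botN fs M d hd n x := by
  have := botMap_trans M n m h fs d (hd_pow fs d hd n) (hd_pow fs d hd m)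
  exact congrArg (fun k => k.hom x) this

/-- the limit of the bottom maps -/
noncomputable def botLim : HLim fs M d →ₗ[A] M :=
  Module.DirectLimit.lift A ℕ _ _ (botN fs M d hd) (botN_tr fs M d hd)

lemma botLim_injective : Function.Injective (botLim fs M d hd) := by
  apply Module.DirectLimit.lift_injective
  intro n
  exact botMap_injective M _ d _

lemma range_botLim : LinearMap.range (botLim fs M d hd) =
    DRing.torsionSub (Ideal.span {a | a ∈ fs}) M := by
  ext x
  rw [mem_torsionSub_span_iff]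
  constructor
  · rintro ⟨z, rfl⟩
    obtain ⟨n, zn, rfl⟩ := Module.DirectLimit.exists_of z
    refine ⟨n, fun f hf => ?_⟩
    have h1 : botLim fs M d hd (Module.DirectLimit.of A ℕ _ _ n zn) = botN fs M d hd n zn :=
      Module.DirectLimit.lift_of _ _ _
    rw [h1]
    have h2 := (mem_range_botMap M (fs.map (· ^ n)) d (hd_pow fs d hd n) _).1 ⟨zn, rfl⟩
    exact h2 (f ^ n) (List.mem_map.2 ⟨f, hf, rfl⟩)
  · rintro ⟨n, hn⟩
    have h2 := (mem_range_botMap M (fs.map (· ^ n)) d (hd_pow fs d hd n) x).2 (by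
      intro y hy
      obtain ⟨f, hf, rfl⟩ := List.mem_map.1 hy
      exact hn f hf)
    obtain ⟨zn, hzn⟩ := h2
    refine ⟨Module.DirectLimit.of A ℕ _ _ n zn, ?_⟩
    have h1 : botLim fs M d hd (Module.DirectLimit.of A ℕ _ _ n zn) = botN fs M d hd n zn :=
      Module.DirectLimit.lift_of _ _ _
    rw [h1]
    exact hzn

/-- `lim_n H^0(fs^n; M) ≅ Γ_{(fs)}(M)` -/
noncomputable def botLimEquiv :
    HLim fs M d ≃ₗ[A] DRing.torsionSub (Ideal.span {a | a ∈ fs}) M :=
  (LinearEquiv.ofInjective (botLim fs M d hd) (botLim_injective fs M d hd)).trans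
    (LinearEquiv.ofEq _ _ (range_botLim fs M d hd))

lemma botLimEquiv_apply (z : HLim fs M d) :
    ((botLimEquiv fs M d hd z : DRing.torsionSub (Ideal.span {a | a ∈ fs}) M) : M) =
      botLim fs M d hd z := rfl

variable {M} in
lemma botLim_naturality {N : ModuleCat.{u} A} (g : M ⟶ N) (z : HLim fs M d) :
    botLim fs N d hd (HLimMap fs d g z) = g.hom (botLim fs M d hd z) := by
  obtain ⟨n, zn, rfl⟩ := Module.DirectLimit.exists_of z
  have h1 : botLim fs M d hd (Module.DirectLimit.of A ℕ _ _ n zn) = botN fs M d hd n zn :=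
    Module.DirectLimit.lift_of _ _ _
  have h2 : HLimMap fs d g (Module.DirectLimit.of A ℕ _ _ n zn) =
      Module.DirectLimit.of A ℕ _ _ n (Hmap fs d g n zn) :=
    Module.DirectLimit.map_apply_of _ _ _
  have h3 : botLim fs N d hd (Module.DirectLimit.of A ℕ _ _ n (Hmap fs d g n zn)) =
      botN fs N d hd n (Hmap fs d g n zn) :=
    Module.DirectLimit.lift_of _ _ _
  rw [h1, h2, h3]
  have := botMap_naturality g (fs.map (· ^ n)) d (hd_pow fs d hd n)
  exact congrArg (fun k => k.hom zn) this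

/-- the natural isomorphism in degree zero -/
noncomputable def botIso : Tfun A fs d ≅ DRing.gammaI (Ideal.span {a | a ∈ fs}) :=
  NatIso.ofComponents (fun M => (botLimEquiv fs M d hd).toModuleIso) (by
    intro M N g
    ext z
    apply Subtype.ext
    exact botLim_naturality fs d hd g z)

end botlim

end Groth.Agent.Helper1.Koszul
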