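import Mathlib

set_option autoImplicit false

/-!
# Long exact sequence of right derived functors attached to a sequence of functors
`F ⟶ G ⟶ H` which is short exact on injective objects
-/

namespace Groth.Agent.Helper1.FunLES
open CategoryTheory Limits

universe v u v' u'
variable {A : Type u} [Category.{v} A] [Abelian A] {B : Type u'} [Category.{v'} B] [Abelian B]
variable {F G H : A ⥤ B} [F.Additive] [G.Additive] [H.Additive]
  (α : F ⟶ G) (β : G ⟶ H) (w : α ≫ β = 0)

/-- evaluation of the complex of functors at an object -/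
def sc (X : A) : ShortComplex B :=
  ShortComplex.mk (α.app X) (β.app X) (by rw [← NatTrans.comp_app, w]; rfl)

/-- evaluation of the complex of functors at a complex -/
noncomputable def scK (K : CochainComplex A ℕ) : ShortComplex (CochainComplex B ℕ) :=
  ShortComplex.mk ((NatTrans.mapHomologicalComplex α _).app K)
    ((NatTrans.mapHomologicalComplex β _).app K) (by
      ext i
      exact (sc α β w (K.X i)).zero)

lemma scK_shortExact (K : CochainComplex A ℕ) (hK : ∀ i, (sc α β w (K.X i)).ShortExact) :
    (scK α β w K).ShortExact :=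
  HomologicalComplex.shortExact_of_degreewise_shortExact _ (fun i => hK i)

/-- functoriality of `scK` -/
noncomputable def scKMap {K L : CochainComplex A ℕ} (φ : K ⟶ L) : scK α β w K ⟶ scK α β w L where
  τ₁ := (F.mapHomologicalComplex _).map φ
  τ₂ := (G.mapHomologicalComplex _).map φ
  τ₃ := (H.mapHomologicalComplex _).map φ
  comm₁₂ := ((NatTrans.mapHomologicalComplex α _).naturality φ)
  comm₂₃ := ((NatTrans.mapHomologicalComplex β _).naturality φ)

variable (h : ∀ (I : A) [Injective I], (sc α β w I).ShortExact)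

include h in
lemma shortExact_res {X : A} (I : InjectiveResolution X) : (scK α β w I.cocomplex).ShortExact :=
  scK_shortExact α β w _ (fun i => h (I.cocomplex.X i))

/-- connecting map computed on a resolution -/
noncomputable def δI {X : A} (I : InjectiveResolution X) (n : ℕ) :
    (HomologicalComplex.homologyFunctor B _ n).obj ((H.mapHomologicalComplex _).obj I.cocomplex) ⟶
    (HomologicalComplex.homologyFunctor B _ (n + 1)).obj
      ((F.mapHomologicalComplex _).obj I.cocomplex) :=
  (shortExact_res α β w h I).δ n (n + 1) rfl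

lemma δI_naturality {X Y : A} (I : InjectiveResolution X) (J : InjectiveResolution Y)
    (φ : I.cocomplex ⟶ J.cocomplex) (n : ℕ) :
    δI α β w h I n ≫ (F.mapHomologicalComplex _ ⋙
        HomologicalComplex.homologyFunctor _ _ (n + 1)).map φ =
      (H.mapHomologicalComplex _ ⋙ HomologicalComplex.homologyFunctor _ _ n).map φ ≫
        δI α β w h J n :=
  HomologicalComplex.HomologySequence.δ_naturality (scKMap α β w φ) (shortExact_res α β w h I)
    (shortExact_res α β w h J) n (n + 1) rfl

variable [HasInjectiveResolutions A]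

/-- the connecting morphism at an object -/
noncomputable def δapp (n : ℕ) (X : A) : (H.rightDerived n).obj X ⟶ (F.rightDerived (n + 1)).obj X :=
  ((injectiveResolution X).isoRightDerivedObj H n).hom ≫ δI α β w h (injectiveResolution X) n ≫
    ((injectiveResolution X).isoRightDerivedObj F (n + 1)).inv

/-- the connecting natural transformation -/
noncomputable def δ (n : ℕ) : H.rightDerived n ⟶ F.rightDerived (n + 1) where
  app X := δapp α β w h n X
  naturality X Y f := by
    let I := injectiveResolution X
    let J := injectiveResolution Y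
    let φ : I.cocomplex ⟶ J.cocomplex := InjectiveResolution.desc f J I
    have comm : I.ι.f 0 ≫ φ.f 0 = f ≫ J.ι.f 0 := by
      have := InjectiveResolution.desc_commutes_zero f J I
      simpa using this
    dsimp only [δapp]
    rw [Category.assoc, Category.assoc,
      InjectiveResolution.isoRightDerivedObj_inv_naturality f I J φ comm F (n + 1),
      InjectiveResolution.isoRightDerivedObj_hom_naturality_assoc f I J φ comm H n,
      ← Category.assoc (δI α β w h I n), δI_naturality α β w h I J φ n, Category.assoc]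
    rfl

lemma δ_app (n : ℕ) (X : A) : (δ α β w h n).app X =
    ((injectiveResolution X).isoRightDerivedObj H n).hom ≫ δI α β w h (injectiveResolution X) n ≫
    ((injectiveResolution X).isoRightDerivedObj F (n + 1)).inv := rfl

/-- transport of exactness along conjugation by isomorphisms -/
lemma exact_of_conj {C : Type*} [Category C] [HasZeroMorphisms C] {X₁ X₂ X₃ Y₁ Y₂ Y₃ : C}
    (e₁ : X₁ ≅ Y₁) (e₂ : X₂ ≅ Y₂) (e₃ : X₃ ≅ Y₃) (f : X₁ ⟶ X₂) (g : X₂ ⟶ X₃) (f' : Y₁ ⟶ Y₂)
    (g' : Y₂ ⟶ Y₃) (hf : f = e₁.hom ≫ f' ≫ e₂.inv) (hg : g = e₂.hom ≫ g' ≫ e₃.inv)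
    (w' : f' ≫ g' = 0) (hex : (ShortComplex.mk f' g' w').Exact) :
    ∃ w : f ≫ g = 0, (ShortComplex.mk f g w).Exact := by
  have w : f ≫ g = 0 := by
    subst hf hg
    simp [reassoc_of% w']
  refine ⟨w, ShortComplex.exact_of_iso (ShortComplex.isoMk e₁.symm e₂.symm e₃.symm ?_ ?_) hex⟩
  · subst hf
    simp
  · subst hg
    simp

section exactness

variable (n : ℕ) (X : A)

include w h in
lemma les₂ : ∃ w' : (NatTrans.rightDerived α n).app X ≫ (NatTrans.rightDerived β n).app X = 0,
    (ShortComplex.mk _ _ w').Exact := by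
  let I := injectiveResolution X
  exact exact_of_conj (I.isoRightDerivedObj F n) (I.isoRightDerivedObj G n)
    (I.isoRightDerivedObj H n) _ _ _ _ (I.rightDerived_app_eq α n) (I.rightDerived_app_eq β n)
    _ ((shortExact_res α β w h I).homology_exact₂ n)

lemma les₃ : ∃ w' : (NatTrans.rightDerived β n).app X ≫ (δ α β w h n).app X = 0,
    (ShortComplex.mk _ _ w').Exact := by
  let I := injectiveResolution X
  exact exact_of_conj (I.isoRightDerivedObj G n) (I.isoRightDerivedObj H n)
    (I.isoRightDerivedObj F (n + 1)) _ _ _ _ (I.rightDerived_app_eq β n) (δ_app α β w h n X)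
    _ ((shortExact_res α β w h I).homology_exact₃ n (n + 1) rfl)

lemma les₁ : ∃ w' : (δ α β w h n).app X ≫ (NatTrans.rightDerived α (n + 1)).app X = 0,
    (ShortComplex.mk _ _ w').Exact := by
  let I := injectiveResolution X
  exact exact_of_conj (I.isoRightDerivedObj H n) (I.isoRightDerivedObj F (n + 1))
    (I.isoRightDerivedObj G (n + 1)) _ _ _ _ (δ_app α β w h n X) (I.rightDerived_app_eq α (n + 1))
    _ ((shortExact_res α β w h I).homology_exact₁ n (n + 1) rfl)

include h in
lemma mono₀ : Mono ((NatTrans.rightDerived α 0).app X) := by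
  let I := injectiveResolution X
  rw [I.rightDerived_app_eq α 0]
  have hS := shortExact_res α β w h I
  have := hS.mono_f
  have : Mono ((HomologicalComplex.homologyFunctor B (ComplexShape.up ℕ) 0).map
      ((NatTrans.mapHomologicalComplex α (ComplexShape.up ℕ)).app I.cocomplex)) :=
    HomologicalComplex.mono_homologyMap_of_mono_of_not_rel (scK α β w I.cocomplex).f 0 (by
      intro i hi
      exact Nat.succ_ne_zero i hi)
  infer_instance

/-- if `RⁿG` and `Rⁿ⁺¹G` vanish at `X` then the connecting map is an isomorphism at `X` -/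
lemma isIso_δ_app (h0 : IsZero ((G.rightDerived n).obj X))
    (h1 : IsZero ((G.rightDerived (n + 1)).obj X)) : IsIso ((δ α β w h n).app X) := by
  obtain ⟨w₃, e₃⟩ := les₃ α β w h n X
  obtain ⟨w₁, e₁⟩ := les₁ α β w h n X
  have hm : Mono ((δ α β w h n).app X) := e₃.mono_g (h0.eq_of_src _ _)
  have he : Epi ((δ α β w h n).app X) := e₁.epi_f (h1.eq_of_tgt _ _)
  exact isIso_of_mono_of_epi _

end exactness

/-- if `G` is acyclic in degrees `n`, `n+1` then `RⁿH ≅ Rⁿ⁺¹F` -/
noncomputable def isoOfIsZero (n : ℕ) (h0 : ∀ X, IsZero ((G.rightDerived n).obj X))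
    (h1 : ∀ X, IsZero ((G.rightDerived (n + 1)).obj X)) :
    H.rightDerived n ≅ F.rightDerived (n + 1) :=
  haveI : ∀ X, IsIso ((δ α β w h n).app X) := fun X => isIso_δ_app α β w h n X (h0 X) (h1 X)
  haveI : IsIso (δ α β w h n) := NatIso.isIso_of_isIso_app _
  asIso (δ α β w h n)

lemma exact_of_evaluation {K : Type*} [Category K] {A : Type*} [Category A] [Abelian A]
    (S : ShortComplex (K ⥤ A))
    (h : ∀ q, (S.map ((evaluation K A).obj q)).Exact) : S.Exact := by
  simp only [ShortComplex.exact_iff_isZero_homology] at h ⊢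
  rw [Functor.isZero_iff]
  intro q
  exact IsZero.of_iso (h q) (S.mapHomologyIso ((evaluation K A).obj q)).symm

omit [HasInjectiveResolutions A] in
lemma toRightDerivedZero'_naturality_natTrans {X : A} (I : InjectiveResolution X) :
    α.app X ≫ I.toRightDerivedZero' G = I.toRightDerivedZero' F ≫
      HomologicalComplex.cyclesMap ((NatTrans.mapHomologicalComplex α _).app I.cocomplex) 0 := by
  rw [← cancel_mono (HomologicalComplex.iCycles _ _), Category.assoc, Category.assoc,
    InjectiveResolution.toRightDerivedZero'_comp_iCycles, HomologicalComplex.cyclesMap_i,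
    InjectiveResolution.toRightDerivedZero'_comp_iCycles_assoc]
  exact (α.naturality _).symm

lemma conj_aux {C : Type*} [Category C] {FX GX cF cG hF hG RF RG : C} (a : FX ⟶ GX)
    (tF : FX ⟶ cF) (tG : GX ⟶ cG) (c : cF ⟶ cG) (πF : cF ⟶ hF) (πG : cG ⟶ hG) (m : hF ⟶ hG)
    (eF : RF ≅ hF) (eG : RG ≅ hG) (h1 : a ≫ tG = tF ≫ c) (h2 : πF ≫ m = c ≫ πG) :
    a ≫ (tG ≫ πG ≫ eG.inv) = (tF ≫ πF ≫ eF.inv) ≫ (eF.hom ≫ m ≫ eG.inv) := by
  simp only [Category.assoc, Iso.inv_hom_id_assoc]
  rw [reassoc_of% h1, reassoc_of% h2]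

lemma toRightDerivedZero_naturality (X : A) :
    α.app X ≫ G.toRightDerivedZero.app X =
      F.toRightDerivedZero.app X ≫ (NatTrans.rightDerived α 0).app X := by
  let I := injectiveResolution X
  rw [I.toRightDerivedZero_eq G, I.toRightDerivedZero_eq F, I.rightDerived_app_eq α 0]
  exact conj_aux _ _ _ _ _ _ _ _ _ (toRightDerivedZero'_naturality_natTrans α I)
    (HomologicalComplex.homologyπ_naturality
      ((NatTrans.mapHomologicalComplex α (ComplexShape.up ℕ)).app I.cocomplex) 0)

/-- the map `H ⟶ R¹F` -/
noncomputable def γ : H ⟶ F.rightDerived 1 := H.toRightDerivedZero ≫ δ α β w h 0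

lemma β_γ : β ≫ γ α β w h = 0 := by
  ext X
  obtain ⟨w₃, -⟩ := les₃ α β w h 0 X
  rw [NatTrans.comp_app]
  dsimp only [γ]
  rw [NatTrans.comp_app, ← Category.assoc, toRightDerivedZero_naturality β X, Category.assoc, w₃,
    comp_zero]
  rfl

include α w h in
/-- `R¹F ≅ coker(G ⟶ H)` when `G`, `H` are left exact and `R¹G = 0` -/
theorem nonempty_iso_cokernel [PreservesFiniteLimits G] [PreservesFiniteLimits H]
    (h1 : ∀ X, IsZero ((G.rightDerived 1).obj X)) :
    Nonempty (F.rightDerived 1 ≅ cokernel β) := by
  let S : ShortComplex (A ⥤ B) := ShortComplex.mk β (γ α β w h) (β_γ α β w h)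
  have hS : S.Exact := by
    apply exact_of_evaluation
    intro X
    obtain ⟨w₃, e₃⟩ := les₃ α β w h 0 X
    obtain ⟨_, e⟩ := exact_of_conj (asIso (G.toRightDerivedZero.app X))
      (asIso (H.toRightDerivedZero.app X)) (Iso.refl _) (β.app X) ((γ α β w h).app X) _ _
      (by
        rw [← Category.assoc, asIso_hom, ← toRightDerivedZero_naturality β X, Category.assoc,
          asIso_inv, IsIso.hom_inv_id, Category.comp_id])
      (by
        rw [Iso.refl_inv, Category.comp_id, asIso_hom]
        rfl) w₃ e₃
    exact e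
  have hepi : Epi S.g := by
    rw [NatTrans.epi_iff_epi_app]
    intro X
    obtain ⟨w₁, e₁⟩ := les₁ α β w h 0 X
    have : Epi ((δ α β w h 0).app X) := e₁.epi_f ((h1 X).eq_of_tgt _ _)
    change Epi (H.toRightDerivedZero.app X ≫ (δ α β w h 0).app X)
    infer_instance
  exact ⟨IsColimit.coconePointUniqueUpToIso hS.gIsCokernel (colimit.isColimit _)⟩

omit [F.Additive] [H.Additive] in
/-- an exact functor has no higher derived functors -/
lemma isZero_rightDerived_of_exact [PreservesFiniteLimits G]
    [PreservesFiniteColimits G] (n : ℕ) (X : A) : IsZero ((G.rightDerived (n + 1)).obj X) := by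
  let I := injectiveResolution X
  refine IsZero.of_iso ?_ (I.isoRightDerivedObj G (n + 1))
  erw [← HomologicalComplex.exactAt_iff_isZero_homology]
  exact (I.cocomplex_exactAt_succ n).map G

end Groth.Agent.Helper1.FunLES
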