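import Mathlib
import Groth.Agent.Helper1.DeltaComp
import Groth.Agent.Helper1.DeltaHom
import Groth.Agent.Helper1.FunLES

set_option autoImplicit false

/-!
# Derived functors of `L ⋙ P` for an exact endofunctor `L` equipped with `η : 𝟭 ⟶ L`
-/

namespace Groth.Agent.Helper1.DeltaFun
open CategoryTheory Limits

universe v u v'' u''
variable {A : Type u} [Category.{v} A] [Abelian A] {C : Type u''} [Category.{v''} C] [Abelian C]
  [EnoughInjectives A]

section

variable (L : A ⥤ A) [L.Additive]
  (hL : ∀ S : ShortComplex A, S.ShortExact → (S.map L).ShortExact)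
  (P : A ⥤ C) [P.Additive] [PreservesFiniteLimits P]
  (hacyc : ∀ (I : A) [Injective I] (n : ℕ), IsZero ((P.rightDerived (n + 1)).obj (L.obj I)))

include hL in
lemma preservesFiniteLimits_of_shortExact : PreservesFiniteLimits L := by
  rw [Functor.preservesFiniteLimits_iff_forall_exact_map_and_mono]
  intro S hS
  exact ⟨(hL S hS).exact, (hL S hS).mono_f⟩

/-- the δ-functor `L ⋙ R^•P` -/
noncomputable abbrev precompDelta : DeltaFunctor A C := (rightDerivedDelta P).precomp L hL

include hacyc in
lemma precompDelta_effaceable : (precompDelta L hL P).Effaceable := fun I _ n => hacyc I n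

/-- `Rⁿ(L ⋙ P) ≅ L ⋙ RⁿP`, compatible with connecting morphisms -/
noncomputable def compIso [PreservesFiniteLimits (L ⋙ P)] (n : ℕ) :
    (L ⋙ P).rightDerived n ≅ L ⋙ P.rightDerived n :=
  isoOfEffaceable (T := rightDerivedDelta (L ⋙ P)) (T' := precompDelta L hL P)
    (rightDerivedDelta_effaceable _) (precompDelta_effaceable L hL P hacyc)
    ((L ⋙ P).rightDerivedZeroIsoSelf ≪≫ Functor.isoWhiskerLeft L P.rightDerivedZeroIsoSelf.symm) n

variable (η : 𝟭 A ⟶ L)

/-- `P ⟶ L ⋙ P` induced by `η` -/
def whiskerη : P ⟶ L ⋙ P where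
  app M := P.map (η.app M)
  naturality M N f := by
    dsimp
    rw [← P.map_comp, ← P.map_comp]
    congr 1
    exact η.naturality f

/-- the morphism of δ-functors `R^•P ⟶ L ⋙ R^•P` induced by `η` -/
noncomputable def ηHom : (rightDerivedDelta P).Hom (precompDelta L hL P) where
  app n :=
    { app := fun M => (P.rightDerived n).map (η.app M)
      naturality := fun M N f => by
        change (P.rightDerived n).map f ≫ (P.rightDerived n).map (η.app N) =
          (P.rightDerived n).map (η.app M) ≫ (P.rightDerived n).map (L.map f)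
        rw [← Functor.map_comp, ← Functor.map_comp]
        congr 1
        exact η.naturality f }
  comm S hS n := by
    let φ : S ⟶ S.map L :=
      { τ₁ := η.app S.X₁
        τ₂ := η.app S.X₂
        τ₃ := η.app S.X₃
        comm₁₂ := (η.naturality S.f).symm
        comm₂₃ := (η.naturality S.g).symm }
    exact (rightDerivedDelta P).δ_nat φ hS (hL S hS) n

/-- under `compIso`, the derived transformations of `whiskerη` are `RⁿP(η)` -/
theorem rightDerived_whiskerη_compIso [PreservesFiniteLimits (L ⋙ P)] (n : ℕ) (M : A) :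
    (NatTrans.rightDerived (whiskerη L P η) n).app M ≫ (compIso L hL P hacyc n).hom.app M =
      (P.rightDerived n).map (η.app M) := by
  have key := DeltaFunctor.Hom.eq_of_zero (rightDerivedDelta_effaceable P)
    ((rightDerivedDeltaHom (whiskerη L P η)).comp
      (extHom (T := rightDerivedDelta (L ⋙ P)) (T' := precompDelta L hL P)
        (rightDerivedDelta_effaceable _)
        ((L ⋙ P).rightDerivedZeroIsoSelf ≪≫
          Functor.isoWhiskerLeft L P.rightDerivedZeroIsoSelf.symm).hom))
    (ηHom L hL P η) ?_ n
  · exact congrArg (fun t => t.app M) key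
  · ext X : 2
    simp only [DeltaFunctor.Hom.comp_app, rightDerivedDeltaHom_app, extHom_app_zero,
      NatTrans.comp_app, Iso.trans_hom, Functor.isoWhiskerLeft_hom, Iso.symm_hom,
      Functor.whiskerLeft_app, Functor.rightDerivedZeroIsoSelf_inv]
    change (NatTrans.rightDerived (whiskerη L P η) 0).app X ≫
      (L ⋙ P).rightDerivedZeroIsoSelf.hom.app X ≫ P.toRightDerivedZero.app (L.obj X) =
        (P.rightDerived 0).map (η.app X)
    have h1 := FunLES.toRightDerivedZero_naturality (whiskerη L P η) X
    have h2 : (NatTrans.rightDerived (whiskerη L P η) 0).app X ≫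
        (L ⋙ P).rightDerivedZeroIsoSelf.hom.app X =
        P.rightDerivedZeroIsoSelf.hom.app X ≫ (whiskerη L P η).app X := by
      rw [← cancel_mono ((L ⋙ P).rightDerivedZeroIsoSelf.inv.app X), Category.assoc,
        Category.assoc, ← NatTrans.comp_app, Iso.hom_inv_id, NatTrans.id_app, Category.comp_id,
        Functor.rightDerivedZeroIsoSelf_inv, h1, ← Category.assoc,
        ← Functor.rightDerivedZeroIsoSelf_inv, ← NatTrans.comp_app, Iso.hom_inv_id,
        NatTrans.id_app, Category.id_comp]
    rw [reassoc_of% h2]
    change P.rightDerivedZeroIsoSelf.hom.app X ≫ P.map (η.app X) ≫ _ = _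
    rw [P.toRightDerivedZero.naturality (η.app X), ← Category.assoc,
      ← Functor.rightDerivedZeroIsoSelf_inv]
    have h3 : P.rightDerivedZeroIsoSelf.hom.app X ≫ P.rightDerivedZeroIsoSelf.inv.app X = 𝟙 _ := by
      rw [← NatTrans.comp_app, Iso.hom_inv_id, NatTrans.id_app]
    erw [h3, Category.id_comp]

end

end Groth.Agent.Helper1.DeltaFun
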