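import Mathlib
import Groth.Agent.Helper1.DeltaFunctor2

set_option autoImplicit false

/-!
# Mathlib's projective-resolution `Ext` functor as a δ-functor in the second variable
-/

namespace Groth.Agent.Helper1.ExtOld
open CategoryTheory Limits Opposite

section general

variable {V : Type*} [Category V] [Abelian V] {ι : Type*} {c : ComplexShape ι}

lemma iso_conj {C : Type*} [Category C] {X Y X' Y' : C} (e : X ≅ Y) (e' : X' ≅ Y') (a : Y ⟶ Y')
    (b : X ⟶ X') (h : e.hom ≫ a = b ≫ e'.hom) : a ≫ e'.inv = e.inv ≫ b := by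
  rw [Iso.comp_inv_eq, Category.assoc, Iso.eq_inv_comp, h]

lemma homologyUnop_hom_naturality {K K' : HomologicalComplex Vᵒᵖ c} (ψ : K' ⟶ K) (i : ι) :
    (HomologicalComplex.homologyUnop K i).hom ≫ (HomologicalComplex.homologyMap ψ i).unop  =
        HomologicalComplex.homologyMap ((HomologicalComplex.unopFunctor V c).map ψ.op) i ≫
         (HomologicalComplex.homologyUnop K' i).hom := by
  have h := HomologicalComplex.homologyOp_hom_naturality
    ((HomologicalComplex.unopFunctor V c).map ψ.op) i
  have h' := congrArg Quiver.Hom.unop h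
  exact h'

lemma homologyUnop_inv_naturality {K K' : HomologicalComplex Vᵒᵖ c} (ψ : K' ⟶ K) (i : ι) :
    (HomologicalComplex.homologyMap ψ i).unop ≫ (HomologicalComplex.homologyUnop K' i).inv =
      (HomologicalComplex.homologyUnop K i).inv ≫
        HomologicalComplex.homologyMap ((HomologicalComplex.unopFunctor V c).map ψ.op) i :=
  iso_conj _ _ _ _ (homologyUnop_hom_naturality ψ i)

lemma op_conj_aux {V : Type*} [Category V] {L L' Hm Hm' : Vᵒᵖ} {W W' : V}
    (e : L ≅ Hm) (e' : L' ≅ Hm') (m : Hm' ⟶ Hm) (d : L' ⟶ L) (hd : d = e'.hom ≫ m ≫ e.inv)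
    (u : W ≅ unop Hm) (u' : W' ≅ unop Hm') (b : W ⟶ W') (hb : m.unop ≫ u'.inv = u.inv ≫ b) :
    d.unop ≫ (e'.inv.unop ≫ u'.inv) = (e.inv.unop ≫ u.inv) ≫ b := by
  subst hd
  simp only [unop_comp, Category.assoc]
  have h : e'.hom.unop ≫ e'.inv.unop = 𝟙 _ := by rw [← unop_comp, Iso.inv_hom_id, unop_id]
  rw [reassoc_of% h, hb]

lemma eq_conj_of_comm {V : Type*} [Category V] {L L' Hm Hm' : V} (e : L ≅ Hm) (e' : L' ≅ Hm')
    (m : Hm' ⟶ Hm) (d : L' ⟶ L) (h : d ≫ e.hom = e'.hom ≫ m) : d = e'.hom ≫ m ≫ e.inv := by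
  rw [← Category.assoc, ← h, Category.assoc, Iso.hom_inv_id, Category.comp_id]

end general

variable {R : Type*} [Ring R] {C : Type*} [Category C] [Abelian C] [Linear R C]

/-- functoriality of `Hom(P, Y)` in `Y` -/
noncomputable def homCxMap (X : ChainComplex C ℕ) {Y Y' : C} (f : Y ⟶ Y') :
    X.linearYonedaObj R Y ⟶ X.linearYonedaObj R Y' :=
  (HomologicalComplex.unopFunctor _ _).map
    ((NatTrans.mapHomologicalComplex (NatTrans.rightOp ((linearYoneda R C).map f)) _).app X).op

/-- functoriality of `Hom(P, Y)` in `P` -/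
noncomputable def homCxMap' {X X' : ChainComplex C ℕ} (φ : X' ⟶ X) (Y : C) :
    X.linearYonedaObj R Y ⟶ X'.linearYonedaObj R Y :=
  (HomologicalComplex.unopFunctor _ _).map
    (((((linearYoneda R C).obj Y).rightOp.mapHomologicalComplex _).map φ)).op

lemma homCxMap_f (X : ChainComplex C ℕ) {Y Y' : C} (f : Y ⟶ Y') (i : ℕ) :
    (homCxMap (R := R) X f).f i = ModuleCat.ofHom (Linear.rightComp R (X.X i) f) := rfl

lemma homCxMap'_f {X X' : ChainComplex C ℕ} (φ : X' ⟶ X) (Y : C) (i : ℕ) :
    (homCxMap' (R := R) φ Y).f i = ModuleCat.ofHom (Linear.leftComp R Y (φ.f i)) := rfl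

variable (R) in
/-- the functor `Y ↦ Hom(P, Y)` to cochain complexes -/
noncomputable def homCx (X : ChainComplex C ℕ) : C ⥤ CochainComplex (ModuleCat R) ℕ where
  obj Y := X.linearYonedaObj R Y
  map f := homCxMap X f
  map_id Y := by
    ext i x
    exact Category.comp_id _
  map_comp f g := by
    ext i x
    exact (Category.assoc _ _ _).symm

variable (R) in
/-- the natural transformation induced by a chain map -/
noncomputable def homCxNat {X X' : ChainComplex C ℕ} (φ : X' ⟶ X) : homCx R X ⟶ homCx R X' where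
  app Y := homCxMap' φ Y
  naturality Y Y' f := by
    ext i x
    exact (Category.assoc _ _ _).symm

instance (X : ChainComplex C ℕ) : (homCx R X).PreservesZeroMorphisms where
  map_zero Y Y' := by
    ext i x
    exact comp_zero

instance (X : ChainComplex C ℕ) : (homCx R X).Additive where
  map_add {Y Y' f g} := by
    ext i x
    exact Preadditive.comp_add _ _ _ _ _ _

lemma homCx_shortExact (X : ChainComplex C ℕ) (hX : ∀ i, Projective (X.X i))
    (S : ShortComplex C) (hS : S.ShortExact) : (S.map (homCx R X)).ShortExact := by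
  apply HomologicalComplex.shortExact_of_degreewise_shortExact
  intro i
  have := hS.mono_f
  have := hS.epi_g
  have := hX i
  refine ShortComplex.ShortExact.mk' ?_ ?_ ?_
  · rw [ShortComplex.moduleCat_exact_iff]
    intro (a : X.X i ⟶ S.X₂) (ha : a ≫ S.g = 0)
    exact ⟨hS.exact.lift a ha, hS.exact.lift_f a ha⟩
  · rw [ModuleCat.mono_iff_injective]
    intro (a : X.X i ⟶ S.X₁) (b : X.X i ⟶ S.X₁) (hab : a ≫ S.f = b ≫ S.f)
    exact (cancel_mono S.f).1 hab
  · rw [ModuleCat.epi_iff_surjective]
    intro (a : X.X i ⟶ S.X₃)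
    exact ⟨Projective.factorThru a S.g, Projective.factorThru_comp a S.g⟩

/-- `Hom(P, I)` is exact in positive degrees when `P` is and `I` is injective -/
lemma homCx_exactAt_succ (X : ChainComplex C ℕ) (n : ℕ) (hX : X.ExactAt (n + 1)) (I : C)
    [Injective I] : ((homCx R X).obj I).ExactAt (n + 1) := by
  rw [HomologicalComplex.exactAt_iff' _ n (n + 1) (n + 2) (by simp) (by simp)]
  rw [HomologicalComplex.exactAt_iff' _ (n + 2) (n + 1) n (by simp) (by simp)] at hX
  rw [ShortComplex.moduleCat_exact_iff]
  intro (b : X.X (n + 1) ⟶ I) (hb : X.d (n + 2) (n + 1) ≫ b = 0)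
  exact ⟨hX.descToInjective b hb, hX.comp_descToInjective b hb⟩

section

variable [EnoughProjectives C] {X : C} (P : ProjectiveResolution X)

lemma isoExt_naturality_right (n : ℕ) {Y Y' : C} (f : Y ⟶ Y') :
    ((Ext R C n).obj (op X)).map f ≫ (P.isoExt n Y').hom =
      (P.isoExt n Y).hom ≫ HomologicalComplex.homologyMap (homCxMap (R := R) P.complex f) n :=
  op_conj_aux (P.isoLeftDerivedObj ((linearYoneda R C).obj Y).rightOp n)
    (P.isoLeftDerivedObj ((linearYoneda R C).obj Y').rightOp n) _ _
    (P.leftDerived_app_eq (NatTrans.rightOp ((linearYoneda R C).map f)) n)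
    (HomologicalComplex.homologyUnop _ _) (HomologicalComplex.homologyUnop _ _) _
    (homologyUnop_inv_naturality _ n)

lemma isoExt_naturality_left {X' : C} (g : X' ⟶ X)
    (P' : ProjectiveResolution X') (φ : P'.complex ⟶ P.complex)
    (comm : φ.f 0 ≫ P.π.f 0 = P'.π.f 0 ≫ g) (n : ℕ) (Y : C) :
    ((Ext R C n).map g.op).app Y ≫ (P'.isoExt n Y).hom =
      (P.isoExt n Y).hom ≫ HomologicalComplex.homologyMap (homCxMap' (R := R) φ Y) n :=
  op_conj_aux (P.isoLeftDerivedObj ((linearYoneda R C).obj Y).rightOp n)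
    (P'.isoLeftDerivedObj ((linearYoneda R C).obj Y).rightOp n) _
    ((((linearYoneda R C).obj Y).rightOp.leftDerived n).map g)
    (eq_conj_of_comm _ _ _ _
      (ProjectiveResolution.isoLeftDerivedObj_hom_naturality g P' P φ comm _ n))
    (HomologicalComplex.homologyUnop _ _) (HomologicalComplex.homologyUnop _ _) _
    (homologyUnop_inv_naturality _ n)

/-- `Extⁿ(X, -)` computed by a projective resolution, as an isomorphism of functors -/
noncomputable def extIso (n : ℕ) :
    (Ext R C n).obj (op X) ≅
      homCx R P.complex ⋙ HomologicalComplex.homologyFunctor _ (ComplexShape.up ℕ) n :=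
  NatIso.ofComponents (fun Y => P.isoExt n Y) (fun f => isoExt_naturality_right P n f)

open Groth.Agent.Helper1.DeltaFun

/-- `Ext^•(X, -)` as a δ-functor -/
noncomputable def extDelta : DeltaFunctor C (ModuleCat R) :=
  (ofComplex (homCx R P.complex) (homCx_shortExact _ P.projective)).ofIso
    (fun n => (Ext R C n).obj (op X)) (extIso P)

lemma extDelta_T (n : ℕ) : (extDelta (R := R) P).T n = (Ext R C n).obj (op X) := rfl

lemma extDelta_effaceable : (extDelta (R := R) P).Effaceable := by
  apply DeltaFunctor.ofIso_effaceable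
  intro I _ n
  change IsZero (((homCx R P.complex).obj I).homology (n + 1))
  rw [← HomologicalComplex.exactAt_iff_isZero_homology]
  exact homCx_exactAt_succ _ n (P.complex_exactAt_succ n) I

/-- functoriality in the first variable -/
noncomputable def extDeltaHom {X' : C} (g : X' ⟶ X) (P' : ProjectiveResolution X') :
    (extDelta (R := R) P).Hom (extDelta (R := R) P') :=
  (ofComplexHom (homCx_shortExact _ P.projective) (homCx_shortExact _ P'.projective)
    (homCxNat R (ProjectiveResolution.lift g P' P))).ofIso _ _ (extIso P) (extIso P')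
    (fun n => (Ext R C n).map g.op) (fun n => by
      ext Y : 2
      exact isoExt_naturality_left P g P' (ProjectiveResolution.lift g P' P)
        (by simpa using ProjectiveResolution.lift_commutes_zero g P' P) n Y)

lemma extDeltaHom_app {X' : C} (g : X' ⟶ X) (P' : ProjectiveResolution X') (n : ℕ) :
    (extDeltaHom (R := R) P g P').app n = (Ext R C n).map g.op := rfl

end

end Groth.Agent.Helper1.ExtOld
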