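import Mathlib
import Groth.Agent.Helper1.ExtOld

set_option autoImplicit false

/-!
# `Ext⁰(X, -) ≅ Hom(X, -)` for Mathlib's projective-resolution `Ext`
-/

namespace Groth.Agent.Helper1.ExtOld
open CategoryTheory Limits Opposite

variable {R : Type*} [Ring R] {C : Type*} [Category C] [Abelian C] [Linear R C]
variable {X : C} (P : ProjectiveResolution X) (Y : C)

/-- the augmentation `Hom(X, Y) ⟶ Hom(P₀, Y)` -/
noncomputable def aug : ModuleCat.of R (X ⟶ Y) ⟶ (P.complex.linearYonedaObj R Y).X 0 :=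
  ModuleCat.ofHom (Linear.leftComp R Y (P.π.f 0))

lemma aug_apply (a : X ⟶ Y) : (aug (R := R) P Y).hom a = P.π.f 0 ≫ a := rfl

lemma aug_d : aug (R := R) P Y ≫ (P.complex.linearYonedaObj R Y).d 0 1 = 0 := by
  ext (a : X ⟶ Y)
  show P.complex.d 1 0 ≫ P.π.f 0 ≫ a = 0
  rw [← Category.assoc, P.complex_d_comp_π_f_zero, zero_comp]

/-- the map to cycles -/
noncomputable def toCycles :
    ModuleCat.of R (X ⟶ Y) ⟶ (P.complex.linearYonedaObj R Y).cycles 0 :=
  (P.complex.linearYonedaObj R Y).liftCycles (aug P Y) 1 (by simp) (aug_d P Y)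

instance : IsIso (toCycles (R := R) P Y) := by
  dsimp only [toCycles]
  rw [CochainComplex.isIso_liftCycles_iff]
  constructor
  · rw [ShortComplex.moduleCat_exact_iff]
    intro (b : P.complex.X 0 ⟶ Y) (hb : P.complex.d 1 0 ≫ b = 0)
    haveI : Epi (P.π.f 0) := inferInstance
    exact ⟨P.exact₀.desc b hb, P.exact₀.g_desc b hb⟩
  · rw [ModuleCat.mono_iff_injective]
    intro (a : X ⟶ Y) (a' : X ⟶ Y) (h : P.π.f 0 ≫ a = P.π.f 0 ≫ a')
    exact (cancel_epi (P.π.f 0)).1 h

/-- `Hom(X, Y) ≅ H⁰(Hom(P, Y))` -/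
noncomputable def h0Iso :
    ModuleCat.of R (X ⟶ Y) ≅ (P.complex.linearYonedaObj R Y).homology 0 :=
  asIso (toCycles P Y) ≪≫ CochainComplex.isoHomologyπ₀ _

lemma h0Iso_hom : (h0Iso (R := R) P Y).hom =
    toCycles P Y ≫ (P.complex.linearYonedaObj R Y).homologyπ 0 := rfl

lemma h0Iso_naturality_right {Y Y' : C} (f : Y ⟶ Y') :
    ModuleCat.ofHom (Linear.rightComp R X f) ≫ (h0Iso (R := R) P Y').hom =
      (h0Iso P Y).hom ≫ HomologicalComplex.homologyMap (homCxMap (R := R) P.complex f) 0 := by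
  rw [h0Iso_hom, h0Iso_hom, Category.assoc, HomologicalComplex.homologyπ_naturality,
    ← Category.assoc, ← Category.assoc]
  congr 1
  rw [← cancel_mono (HomologicalComplex.iCycles _ 0)]
  dsimp only [toCycles]
  rw [Category.assoc, Category.assoc, HomologicalComplex.liftCycles_i,
    HomologicalComplex.cyclesMap_i, HomologicalComplex.liftCycles_i_assoc]
  ext (a : X ⟶ Y)
  exact (Category.assoc (P.π.f 0) a f).symm

lemma h0Iso_naturality_left {X' : C} (g : X' ⟶ X)
    (P' : ProjectiveResolution X') (φ : P'.complex ⟶ P.complex)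
    (comm : φ.f 0 ≫ P.π.f 0 = P'.π.f 0 ≫ g) :
    ModuleCat.ofHom (Linear.leftComp R Y g) ≫ (h0Iso (R := R) P' Y).hom =
      (h0Iso P Y).hom ≫ HomologicalComplex.homologyMap (homCxMap' (R := R) φ Y) 0 := by
  rw [h0Iso_hom, h0Iso_hom, Category.assoc, HomologicalComplex.homologyπ_naturality,
    ← Category.assoc, ← Category.assoc]
  congr 1
  rw [← cancel_mono (HomologicalComplex.iCycles _ 0)]
  dsimp only [toCycles]
  rw [Category.assoc, Category.assoc, HomologicalComplex.liftCycles_i,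
    HomologicalComplex.cyclesMap_i, HomologicalComplex.liftCycles_i_assoc]
  ext (a : X ⟶ Y)
  show P'.π.f 0 ≫ g ≫ a = φ.f 0 ≫ P.π.f 0 ≫ a
  exact ((Category.assoc _ _ _).symm.trans (congrArg (· ≫ a) comm.symm)).trans
    (Category.assoc _ _ _)

lemma two_iso_aux {V : Type*} [Category V] {E E' H H' L L' : V} (e : E ≅ H) (e' : E' ≅ H')
    (u : L ≅ H) (u' : L' ≅ H') (d : E ⟶ E') (m : H ⟶ H') (p : L ⟶ L')
    (h1 : d ≫ e'.hom = e.hom ≫ m) (h2 : p ≫ u'.hom = u.hom ≫ m) :
    d ≫ (e'.hom ≫ u'.inv) = (e.hom ≫ u.inv) ≫ p := by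
  rw [← Category.assoc, h1, Category.assoc, Category.assoc]
  congr 1
  rw [Iso.comp_inv_eq, Category.assoc, h2, Iso.inv_hom_id_assoc]

section

variable [EnoughProjectives C]

/-- `Ext⁰(X, -) ≅ Hom(X, -)` -/
noncomputable def ext0Iso : (Ext R C 0).obj (op X) ≅ (linearCoyoneda R C).obj (op X) :=
  NatIso.ofComponents (fun Y => P.isoExt 0 Y ≪≫ (h0Iso P Y).symm) (fun {Y Y'} f =>
    two_iso_aux (P.isoExt 0 Y) (P.isoExt 0 Y') (h0Iso P Y) (h0Iso P Y') _ _ _
      (isoExt_naturality_right P 0 f) (h0Iso_naturality_right P f))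

lemma ext0Iso_hom_app (Y : C) :
    (ext0Iso (R := R) P).hom.app Y = (P.isoExt 0 Y).hom ≫ (h0Iso P Y).inv := rfl

lemma ext0Iso_naturality_left {X' : C} (g : X' ⟶ X) (P' : ProjectiveResolution X') :
    (Ext R C 0).map g.op ≫ (ext0Iso (R := R) P').hom =
      (ext0Iso P).hom ≫ (linearCoyoneda R C).map g.op := by
  ext Y : 2
  exact two_iso_aux (P.isoExt 0 Y) (P'.isoExt 0 Y) (h0Iso P Y) (h0Iso P' Y) _ _ _
    (isoExt_naturality_left P g P' (ProjectiveResolution.lift g P' P)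
      (by simpa using ProjectiveResolution.lift_commutes_zero g P' P) 0 Y)
    (h0Iso_naturality_left P Y g P' (ProjectiveResolution.lift g P' P)
      (by simpa using ProjectiveResolution.lift_commutes_zero g P' P))

end

end Groth.Agent.Helper1.ExtOld
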