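import Mathlib
import Groth.Agent.Helper1.ExtOld
import Groth.Agent.Helper1.DeltaColim

set_option autoImplicit false

/-!
# Mathlib's `localCohomology` as a δ-functor
-/

namespace Groth.Agent.Helper1.LocCohDelta
open CategoryTheory Limits Opposite
open Groth.Agent.Helper1.DeltaFun Groth.Agent.Helper1.ExtOld

universe u

variable {R : Type u} [CommRing R]

instance : HasExactColimitsOfShape (ℕᵒᵖᵒᵖ) (ModuleCat.{u} R) := by
  have : HasFilteredColimitsOfSize.{0, 0} (ModuleCat.{u} R) :=
    hasFilteredColimitsOfSize_of_univLE.{0, 0, u, u}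
  have : AB5OfSize.{0, 0} (ModuleCat.{u} R) :=
    AB5OfSize_of_univLE.{0, 0, u, u} (ModuleCat.{u} R)
  infer_instance

variable {D : Type} [SmallCategory D] (I : D ⥤ Ideal R)

/-- chosen projective resolutions of the `R/I_d` -/
noncomputable def res (d : D) : ProjectiveResolution ((localCohomology.ringModIdeals I).obj d) :=
  projectiveResolution _

/-- the diagram of δ-functors `d ↦ Ext^•(R/I_d, -)` -/
noncomputable def lcDiagram : DeltaDiagram Dᵒᵖ (ModuleCat.{u} R) (ModuleCat.{u} R) where
  T n := localCohomology.diagram I n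
  δ e S hS n := (extDelta (R := R) (res I e.unop)).δ S hS n
  δ_nat e _ _ φ hS hS' n := (extDelta (R := R) (res I e.unop)).δ_nat φ hS hS' n
  δ_natE {e e'} f S hS n :=
    (extDeltaHom (R := R) (res I e.unop) ((localCohomology.ringModIdeals I).map f.unop)
      (res I e'.unop)).comm S hS n
  w₃ e S hS n := (extDelta (R := R) (res I e.unop)).w₃ S hS n
  w₁ e S hS n := (extDelta (R := R) (res I e.unop)).w₁ S hS n
  exact₃ e S hS n := (extDelta (R := R) (res I e.unop)).exact₃ S hS n
  exact₁ e S hS n := (extDelta (R := R) (res I e.unop)).exact₁ S hS n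

/-- Mathlib's local cohomology functors `H^•_J`, as a δ-functor -/
noncomputable def lcDelta (J : Ideal R) : DeltaFunctor (ModuleCat.{u} R) (ModuleCat.{u} R) :=
  (lcDiagram (localCohomology.idealPowersDiagram J)).colim

lemma lcDelta_T (J : Ideal R) (n : ℕ) : (lcDelta J).T n = localCohomology J n := rfl

lemma lcDelta_effaceable (J : Ideal R) : (lcDelta J).Effaceable :=
  DeltaDiagram.colim_effaceable _ (fun e I _ n =>
    extDelta_effaceable (R := R) (res (localCohomology.idealPowersDiagram J) e.unop) I n)

end Groth.Agent.Helper1.LocCohDelta
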