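import Mathlib
import Groth.Agent.Helper1.ExtOldZero
import Groth.Agent.Helper1.LocCohDelta
import Groth.Prelude.Def_DRing3

set_option autoImplicit false

/-!
# `H⁰_J ≅ Γ_J`
-/

namespace Groth.Agent.Helper1.LocCohDelta
open CategoryTheory Limits Opposite
open Groth.Agent.Helper1.DeltaFun Groth.Agent.Helper1.ExtOld

universe u

variable {R : Type u} [CommRing R] (J : Ideal R)

/-- evaluation at `1 ∈ R/J^k` -/
noncomputable def ev1 (k : ℕ) :
    (linearCoyoneda R (ModuleCat.{u} R)).obj (op (ModuleCat.of R (R ⧸ J ^ k))) ⟶ DRing.gammaI J where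
  app M := ModuleCat.ofHom
    { toFun := fun (φ : ModuleCat.of R (R ⧸ J ^ k) ⟶ M) =>
        (⟨φ.hom (Ideal.Quotient.mk _ 1), ⟨k, fun a ha => by
          rw [← map_smul]
          have : a • (Ideal.Quotient.mk (J ^ k) 1) = 0 := by
            rw [← Ideal.Quotient.mk_eq_mk, ← Submodule.Quotient.mk_smul, smul_eq_mul, mul_one]
            exact (Submodule.Quotient.mk_eq_zero _).2 ha
          rw [this, map_zero]⟩⟩ : DRing.torsionSub J M)
      map_add' := fun φ ψ => rfl
      map_smul' := fun r φ => rfl }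
  naturality M N f := rfl

/-- the diagram `k ↦ Hom(R/J^k, -)` -/
noncomputable abbrev homDiagram : (ℕᵒᵖ)ᵒᵖ ⥤ ModuleCat.{u} R ⥤ ModuleCat.{u} R :=
  (localCohomology.ringModIdeals (localCohomology.idealPowersDiagram J)).op ⋙
    linearCoyoneda R (ModuleCat.{u} R)

/-- the cocone `Hom(R/J^k, -) ⟶ Γ_J` -/
noncomputable def homCocone : Cocone (homDiagram J) where
  pt := DRing.gammaI J
  ι :=
    { app := fun e => ev1 J (unop (unop e))
      naturality := fun e e' f => by
        ext M φ
        rfl }

/-- a map out of `R/J^k` is determined by the image of `1` -/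
lemma hom_ext_one {k : ℕ} {M : ModuleCat.{u} R} (φ ψ : ModuleCat.of R (R ⧸ J ^ k) ⟶ M)
    (h : φ.hom (Ideal.Quotient.mk _ 1) = ψ.hom (Ideal.Quotient.mk _ 1)) : φ = ψ := by
  apply ModuleCat.hom_ext
  apply Submodule.linearMap_qext
  apply LinearMap.ext_ring
  exact h

/-- the cocone `Hom(R/J^k, -) ⟶ Γ_J` is a colimit -/
noncomputable def homCoconeIsColimit : IsColimit (homCocone J) := by
  refine evaluationJointlyReflectsColimits _ (fun M => ?_)
  have : PreservesFilteredColimitsOfSize.{0, 0} (forget (ModuleCat.{u} R)) :=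
    preservesSmallestFilteredColimits_of_preservesFilteredColimits _
  have : ReflectsColimit (homDiagram J ⋙ (evaluation _ _).obj M) (forget (ModuleCat.{u} R)) :=
    reflectsColimit_of_reflectsIsomorphisms _ _
  apply isColimitOfReflects (forget (ModuleCat.{u} R))
  apply Types.FilteredColimit.isColimitOf
  · intro (x : DRing.torsionSub J M)
    obtain ⟨k, hk⟩ := x.2
    let φ : ModuleCat.of R (R ⧸ J ^ k) ⟶ M :=
      ModuleCat.ofHom (Submodule.liftQ (J ^ k) (LinearMap.toSpanSingleton R M x.1) (fun a ha => by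
        rw [LinearMap.mem_ker, LinearMap.toSpanSingleton_apply]
        exact hk a ha))
    refine ⟨op (op k), φ, ?_⟩
    apply Subtype.ext
    show x.1 = (1 : R) • x.1
    rw [one_smul]
  · intro i j (φ : ModuleCat.of R (R ⧸ J ^ (unop (unop i))) ⟶ M)
      (ψ : ModuleCat.of R (R ⧸ J ^ (unop (unop j))) ⟶ M) h
    have h' : φ.hom (Ideal.Quotient.mk _ 1) = ψ.hom (Ideal.Quotient.mk _ 1) :=
      congrArg Subtype.val h
    refine ⟨op (op (max (unop (unop i)) (unop (unop j)))),
      (homOfLE (le_max_left _ _)).op.op, (homOfLE (le_max_right _ _)).op.op, ?_⟩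
    apply hom_ext_one
    exact h'

/-- `Ext⁰(R/J^k, -) ≅ Hom(R/J^k, -)`, naturally in `k` -/
noncomputable def diagramZeroIso :
    localCohomology.diagram (localCohomology.idealPowersDiagram J) 0 ≅ homDiagram J :=
  NatIso.ofComponents (fun e => ext0Iso (R := R) (res _ e.unop)) (fun {e e'} f =>
    ext0Iso_naturality_left (res _ e.unop)
      ((localCohomology.ringModIdeals (localCohomology.idealPowersDiagram J)).map f.unop)
      (res _ e'.unop))

/-- `H⁰_J ≅ Γ_J` -/
noncomputable def lcZeroIso : localCohomology J 0 ≅ DRing.gammaI J :=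
  HasColimit.isoOfNatIso (diagramZeroIso J) ≪≫
    (colimit.isColimit _).coconePointUniqueUpToIso (homCoconeIsColimit J)

/-- `Γ_J` is left exact (same argument as `Helper5/GammaLex`) -/
instance gammaI_preservesFiniteLimits : PreservesFiniteLimits (DRing.gammaI J) := by
  rw [Functor.preservesFiniteLimits_iff_forall_exact_map_and_mono]
  intro S hS
  have hmono : Function.Injective S.f.hom := by
    have := hS.mono_f
    exact (ModuleCat.mono_iff_injective S.f).mp this
  have hex := (ShortComplex.moduleCat_exact_iff S).mp hS.exact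
  constructor
  · rw [ShortComplex.moduleCat_exact_iff]
    rintro ⟨b, n, hn⟩ hb
    have hb' : S.g.hom b = 0 := congrArg Subtype.val hb
    obtain ⟨a, ha⟩ := hex b hb'
    refine ⟨⟨a, n, fun r hr => ?_⟩, Subtype.ext ha⟩
    apply hmono
    rw [map_smul, ha, map_zero]
    exact hn r hr
  · rw [ModuleCat.mono_iff_injective]
    rintro ⟨a, ha⟩ ⟨a', ha'⟩ h
    apply Subtype.ext
    apply hmono
    exact congrArg Subtype.val h

/-- `H^i_J ≅ R^i Γ_J` as functors -/
theorem nonempty_lc_iso_rightDerived (i : ℕ) :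
    Nonempty (localCohomology J i ≅ (DRing.gammaI J).rightDerived i) :=
  nonempty_iso_of_effaceable (lcDelta J) (rightDerivedDelta (DRing.gammaI J))
    (lcDelta_effaceable J) (rightDerivedDelta_effaceable _)
    (lcZeroIso J ≪≫ (DRing.gammaI J).rightDerivedZeroIsoSelf.symm) i

end Groth.Agent.Helper1.LocCohDelta
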