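import Mathlib
import Groth.Agent.Helper1.LocCohZero
import Groth.Agent.Helper1.GammaInj
import Groth.Agent.Helper1.Horseshoe

set_option autoImplicit false

/-!
# Basic properties of Mathlib's local cohomology: long exact sequence, vanishing on injectives and
on torsion modules
-/

namespace Groth.Agent.Helper1.LocCohDelta
open CategoryTheory Limits Opposite
open Groth.Agent.Helper1.DeltaFun

universe u

variable {R : Type u} [CommRing R] (J : Ideal R)

/-- a chosen natural isomorphism `H^i_J ≅ R^i Γ_J` -/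
noncomputable def lcIso (i : ℕ) : localCohomology J i ≅ (DRing.gammaI J).rightDerived i :=
  (nonempty_lc_iso_rightDerived J i).some

/-- local cohomology vanishes on injectives in positive degrees -/
lemma isZero_lc_injective (E : ModuleCat.{u} R) [Injective E] (n : ℕ) :
    IsZero ((localCohomology J (n + 1)).obj E) :=
  lcDelta_effaceable J E n

/-- the connecting morphisms -/
noncomputable def lcδ (S : ShortComplex (ModuleCat.{u} R)) (hS : S.ShortExact) (n : ℕ) :
    (localCohomology J n).obj S.X₃ ⟶ (localCohomology J (n + 1)).obj S.X₁ :=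
  (lcDelta J).δ S hS n

lemma lc_w₃ (S : ShortComplex (ModuleCat.{u} R)) (hS : S.ShortExact) (n : ℕ) :
    (localCohomology J n).map S.g ≫ lcδ J S hS n = 0 := (lcDelta J).w₃ S hS n

lemma lc_w₁ (S : ShortComplex (ModuleCat.{u} R)) (hS : S.ShortExact) (n : ℕ) :
    lcδ J S hS n ≫ (localCohomology J (n + 1)).map S.f = 0 := (lcDelta J).w₁ S hS n

lemma lc_exact₃ (S : ShortComplex (ModuleCat.{u} R)) (hS : S.ShortExact) (n : ℕ) :
    (ShortComplex.mk _ _ (lc_w₃ J S hS n)).Exact := (lcDelta J).exact₃ S hS n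

lemma lc_exact₁ (S : ShortComplex (ModuleCat.{u} R)) (hS : S.ShortExact) (n : ℕ) :
    (ShortComplex.mk _ _ (lc_w₁ J S hS n)).Exact := (lcDelta J).exact₁ S hS n

lemma lc_δ_nat {S S' : ShortComplex (ModuleCat.{u} R)} (φ : S ⟶ S') (hS : S.ShortExact)
    (hS' : S'.ShortExact) (n : ℕ) :
    lcδ J S hS n ≫ (localCohomology J (n + 1)).map φ.τ₁ =
      (localCohomology J n).map φ.τ₃ ≫ lcδ J S' hS' n := (lcDelta J).δ_nat φ hS hS' n

lemma lc_w₂ (S : ShortComplex (ModuleCat.{u} R)) (n : ℕ) :
    (localCohomology J n).map S.f ≫ (localCohomology J n).map S.g = 0 := by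
  rw [← Functor.map_comp, S.zero]
  have : (localCohomology J n).PreservesZeroMorphisms :=
    Functor.preservesZeroMorphisms_of_iso (lcIso J n).symm
  exact Functor.map_zero _ _ _

lemma lc_exact₂ (S : ShortComplex (ModuleCat.{u} R)) (hS : S.ShortExact) (n : ℕ) :
    (ShortComplex.mk _ _ (lc_w₂ J S n)).Exact := by
  obtain ⟨w, h⟩ := Horseshoe.exact_rightDerived_map (DRing.gammaI J) S hS n
  refine ShortComplex.exact_of_iso (ShortComplex.isoMk ((lcIso J n).app S.X₁).symm
    ((lcIso J n).app S.X₂).symm ((lcIso J n).app S.X₃).symm ?_ ?_) h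
  · exact ((lcIso J n).inv.naturality S.f).symm
  · exact ((lcIso J n).inv.naturality S.g).symm

lemma mono_conj_aux {C : Type*} [Category C] {X Y X' Y' : C} (f : X ⟶ Y) (f' : X' ⟶ Y')
    (e₁ : X ≅ X') (e₂ : Y ≅ Y') (h : f ≫ e₂.hom = e₁.hom ≫ f') [Mono f'] : Mono f := by
  have h1 : Mono (f ≫ e₂.hom) := by
    rw [h]
    exact mono_comp _ _
  exact mono_of_mono f e₂.hom

lemma lc_mono₀ (S : ShortComplex (ModuleCat.{u} R)) (hS : S.ShortExact) :
    Mono ((localCohomology J 0).map S.f) := by
  have := Horseshoe.mono_rightDerived_zero_map (DRing.gammaI J) S hS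
  exact mono_conj_aux _ (((DRing.gammaI J).rightDerived 0).map S.f) ((lcIso J 0).app S.X₁)
    ((lcIso J 0).app S.X₂) ((lcIso J 0).hom.naturality S.f)

/-- every element is `J`-power-torsion -/
def IsTors (N : ModuleCat.{u} R) : Prop := ∀ x : N, x ∈ DRing.torsionSub J N

lemma isTors_gammaI_obj (E : ModuleCat.{u} R) : IsTors J ((DRing.gammaI J).obj E) := by
  intro (x : DRing.torsionSub J E)
  obtain ⟨n, hn⟩ := x.2
  exact ⟨n, fun a ha => Subtype.ext (hn a ha)⟩

lemma isTors_of_epi {M N : ModuleCat.{u} R} (f : M ⟶ N) [Epi f] (hM : IsTors J M) : IsTors J N := by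
  intro y
  obtain ⟨x, rfl⟩ := (ModuleCat.epi_iff_surjective f).1 inferInstance y
  exact DRing.map_mem_torsionSub J f.hom (hM x)

lemma epi_gammaI_map {M N : ModuleCat.{u} R} (f : M ⟶ N) [Epi f] (hM : IsTors J M) :
    Epi ((DRing.gammaI J).map f) := by
  rw [ModuleCat.epi_iff_surjective]
  rintro ⟨y, hy⟩
  obtain ⟨x, rfl⟩ := (ModuleCat.epi_iff_surjective f).1 inferInstance y
  exact ⟨⟨x, hM x⟩, rfl⟩

lemma epi_lc_zero_map {M N : ModuleCat.{u} R} (f : M ⟶ N) [Epi f] (hM : IsTors J M) :
    Epi ((localCohomology J 0).map f) := by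
  have := epi_gammaI_map J f hM
  have e : (localCohomology J 0).map f = (lcZeroIso J).hom.app M ≫
      (DRing.gammaI J).map f ≫ (lcZeroIso J).inv.app N := by
    rw [← (lcZeroIso J).hom.naturality_assoc, Iso.hom_inv_id_app, Category.comp_id]
  rw [e]
  have h1 : Epi ((DRing.gammaI J).map f ≫ (lcZeroIso J).inv.app N) := epi_comp _ _
  exact epi_comp _ _

lemma isZero_of_epi_zero {C : Type*} [Category C] [HasZeroMorphisms C] {X Y : C} (f : X ⟶ Y)
    [Epi f] (h : f = 0) : IsZero Y := by
  rw [IsZero.iff_id_eq_zero, ← cancel_epi f, h, zero_comp, zero_comp]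

section torsion

variable [IsNoetherianRing R]

/-- the embedding of a torsion module into a torsion injective -/
noncomputable def torsEmb (N : ModuleCat.{u} R) (hN : IsTors J N) :
    N ⟶ (DRing.gammaI J).obj (Injective.under N) :=
  ModuleCat.ofHom ((Injective.ι N).hom.codRestrict
    (DRing.torsionSub J (Injective.under (C := ModuleCat.{u} R) N))
    (fun x => DRing.map_mem_torsionSub J (Injective.ι N).hom (hN x)))

instance (N : ModuleCat.{u} R) (hN : IsTors J N) : Mono (torsEmb J N hN) := by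
  rw [ModuleCat.mono_iff_injective]
  intro x y h
  have : Mono (Injective.ι N) := inferInstance
  have h' : (Injective.ι N).hom x = (Injective.ι N).hom y := congrArg Subtype.val h
  exact (ModuleCat.mono_iff_injective (Injective.ι N)).1 this h'

/-- the short exact sequence `0 → N → Γ_J(E(N)) → Q → 0` -/
noncomputable def torsSC (N : ModuleCat.{u} R) (hN : IsTors J N) : ShortComplex (ModuleCat.{u} R) :=
  ShortComplex.mk (torsEmb J N hN) (cokernel.π (torsEmb J N hN)) (cokernel.condition _)

lemma torsSC_shortExact (N : ModuleCat.{u} R) (hN : IsTors J N) : (torsSC J N hN).ShortExact where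
  exact := ShortComplex.exact_cokernel _
  mono_f := by dsimp [torsSC]; infer_instance
  epi_g := by dsimp [torsSC]; infer_instance

instance (N : ModuleCat.{u} R) (hN : IsTors J N) : Injective (torsSC J N hN).X₂ :=
  GammaInj.injective_gammaI_obj J _

lemma isTors_torsSC_X₃ (N : ModuleCat.{u} R) (hN : IsTors J N) : IsTors J (torsSC J N hN).X₃ :=
  haveI : Epi (torsSC J N hN).g := (torsSC_shortExact J N hN).epi_g
  isTors_of_epi J (torsSC J N hN).g (isTors_gammaI_obj J _)

/-- local cohomology of a power-torsion module vanishes in positive degrees -/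
theorem isZero_lc_of_isTors (p : ℕ) :
    ∀ (N : ModuleCat.{u} R), IsTors J N → IsZero ((localCohomology J (p + 1)).obj N) := by
  induction p with
  | zero =>
    intro N hN
    have hS := torsSC_shortExact J N hN
    have := hS.epi_g
    have hepi : Epi ((localCohomology J 0).map (torsSC J N hN).g) :=
      epi_lc_zero_map J _ (isTors_gammaI_obj J _)
    have hδ0 : lcδ J _ hS 0 = 0 := by
      rw [← cancel_epi ((localCohomology J 0).map (torsSC J N hN).g), lc_w₃, comp_zero]
    have hδepi : Epi (lcδ J _ hS 0) :=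
      (lc_exact₁ J _ hS 0).epi_f ((isZero_lc_injective J (torsSC J N hN).X₂ 0).eq_of_tgt _ _)
    exact @isZero_of_epi_zero _ _ _ _ _ (lcδ J _ hS 0) hδepi hδ0
  | succ p ih =>
    intro N hN
    have hS := torsSC_shortExact J N hN
    have hδepi : Epi (lcδ J _ hS (p + 1)) :=
      (lc_exact₁ J _ hS (p + 1)).epi_f
        ((isZero_lc_injective J (torsSC J N hN).X₂ (p + 1)).eq_of_tgt _ _)
    have h0 : lcδ J _ hS (p + 1) = 0 := (ih _ (isTors_torsSC_X₃ J N hN)).eq_of_src _ _
    exact @isZero_of_epi_zero _ _ _ _ _ (lcδ J _ hS (p + 1)) hδepi h0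

end torsion

/-- `H⁰_J(N) ≃ N` for a power-torsion module -/
noncomputable def lcZeroEquivOfIsTors (N : ModuleCat.{u} R) (hN : IsTors J N) :
    (localCohomology J 0).obj N ≃ₗ[R] N :=
  ((lcZeroIso J).app N).toLinearEquiv ≪≫ₗ
    LinearEquiv.ofTop (DRing.torsionSub J N) (eq_top_iff.2 fun x _ => hN x)

end Groth.Agent.Helper1.LocCohDelta
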