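import Mathlib
import Groth.Agent.Helper1.LocCohBasic
import Groth.Agent.Helper1.DeltaHom
import Groth.Agent.Helper1.FunLES
import Groth.Prelude.Def_DualLC

set_option autoImplicit false

/-!
# The canonical comparison `H^•_J ≅ R^•Γ_J` as an isomorphism of δ-functors, and its
compatibility with the comparison maps `HmapOfLE`
-/

namespace Groth.Agent.Helper1.LocCohDelta
open CategoryTheory Limits Opposite
open Groth.Agent.Helper1.DeltaFun Groth.Agent.Helper1.ExtOld

universe u

variable {R : Type u} [CommRing R]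

/-- the canonical morphism of δ-functors `H^•_J ⟶ R^•Γ_J` -/
noncomputable def lcCmp (J : Ideal R) : (lcDelta J).Hom (rightDerivedDelta (DRing.gammaI J)) :=
  extHom (lcDelta_effaceable J) ((lcZeroIso J).hom ≫ (DRing.gammaI J).rightDerivedZeroIsoSelf.inv)

/-- the canonical isomorphism `H^n_J ≅ R^nΓ_J` -/
noncomputable def lcIsoδ (J : Ideal R) (n : ℕ) :
    localCohomology J n ≅ (DRing.gammaI J).rightDerived n :=
  isoOfEffaceable (T := lcDelta J) (T' := rightDerivedDelta (DRing.gammaI J))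
    (lcDelta_effaceable J) (rightDerivedDelta_effaceable _)
    (lcZeroIso J ≪≫ (DRing.gammaI J).rightDerivedZeroIsoSelf.symm) n

lemma lcIsoδ_hom (J : Ideal R) (n : ℕ) : (lcIsoδ J n).hom = (lcCmp J).app n := rfl

lemma lcIsoδ_comm (J : Ideal R) (S : ShortComplex (ModuleCat.{u} R)) (hS : S.ShortExact) (n : ℕ) :
    lcδ J S hS n ≫ (lcIsoδ J (n + 1)).hom.app S.X₁ =
      (lcIsoδ J n).hom.app S.X₃ ≫ (rightDerivedDelta (DRing.gammaI J)).δ S hS n :=
  (lcCmp J).comm S hS n

section hmap

variable {I I' : Ideal R} (h : I ≤ I')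

/-- the inclusion `Γ_{I'} ⟶ Γ_I` for `I ≤ I'` -/
def gammaLE : DRing.gammaI I' ⟶ DRing.gammaI I where
  app M := ModuleCat.ofHom (Submodule.inclusion (fun x hx => by
    obtain ⟨n, hn⟩ := hx
    exact ⟨n, fun a ha => hn a (Ideal.pow_right_mono h n ha)⟩))
  naturality _ _ _ := rfl

lemma gammaLE_ι : gammaLE h ≫ DRing.gammaIι I = DRing.gammaIι I' := rfl

/-- the morphism of diagrams of δ-functors inducing `HmapOfLE` -/
noncomputable def hmapDiagramHom :
    (lcDiagram (localCohomology.idealPowersDiagram I')).Hom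
      (lcDiagram (localCohomology.idealPowersDiagram I)) where
  app n := Functor.whiskerRight (NatTrans.op (Dual2.quotMapOfLE h)) (Ext R (ModuleCat.{u} R) n)
  comm e S hS n :=
    (extDeltaHom (R := R) (res (localCohomology.idealPowersDiagram I') e.unop)
      ((Dual2.quotMapOfLE h).app e.unop) (res (localCohomology.idealPowersDiagram I) e.unop)).comm
        S hS n

/-- `HmapOfLE` as a morphism of δ-functors -/
noncomputable def hmapHom : (lcDelta I').Hom (lcDelta I) := (hmapDiagramHom h).colim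

lemma hmapHom_app (n : ℕ) : (hmapHom h).app n = Dual2.HmapOfLE h n := rfl

lemma hmap_comm (S : ShortComplex (ModuleCat.{u} R)) (hS : S.ShortExact) (n : ℕ) :
    lcδ I' S hS n ≫ (Dual2.HmapOfLE h (n + 1)).app S.X₁ =
      (Dual2.HmapOfLE h n).app S.X₃ ≫ lcδ I S hS n :=
  (hmapHom h).comm S hS n

lemma ι_iso_aux {K : Type*} [Category K] {C : Type*} [Category C] {F G : K ⥤ C} [HasColimit F]
    [HasColimit G] (e : F ≅ G) (c : Cocone G) (hc : IsColimit c) (j : K) :
    colimit.ι F j ≫ (HasColimit.isoOfNatIso e ≪≫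
      (colimit.isColimit G).coconePointUniqueUpToIso hc).hom = e.hom.app j ≫ c.ι.app j := by
  rw [Iso.trans_hom, HasColimit.isoOfNatIso_ι_hom_assoc,
    colimit.comp_coconePointUniqueUpToIso_hom]

lemma colimMap_aux {K : Type*} [Category K] {C : Type*} [Category C] {F F' : K ⥤ C} [HasColimit F]
    [HasColimit F'] (τ : F' ⟶ F) {Γ Γ' : C} (z : colimit F ⟶ Γ) (z' : colimit F' ⟶ Γ') (g : Γ' ⟶ Γ)
    (h : ∀ j, τ.app j ≫ colimit.ι F j ≫ z = (colimit.ι F' j ≫ z') ≫ g) :
    colimMap τ ≫ z = z' ≫ g := by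
  apply colimit.hom_ext
  intro j
  rw [ι_colimMap_assoc, h, Category.assoc]

lemma ι_lcZeroIso_hom (J : Ideal R) (e : (ℕᵒᵖ)ᵒᵖ) :
    colimit.ι (localCohomology.diagram (localCohomology.idealPowersDiagram J) 0) e ≫
      (lcZeroIso J).hom =
    (ext0Iso (R := R) (res (localCohomology.idealPowersDiagram J) e.unop)).hom ≫
      ev1 J (unop (unop e)) :=
  ι_iso_aux (diagramZeroIso J) (homCocone J) (homCoconeIsColimit J) e

lemma hmap_zero : Dual2.HmapOfLE h 0 ≫ (lcZeroIso I).hom = (lcZeroIso I').hom ≫ gammaLE h := by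
  refine colimMap_aux _ _ _ _ (fun e => ?_)
  have h1 := ext0Iso_naturality_left (R := R) (res (localCohomology.idealPowersDiagram I') e.unop)
    ((Dual2.quotMapOfLE h).app e.unop) (res (localCohomology.idealPowersDiagram I) e.unop)
  have h2 : (linearCoyoneda R (ModuleCat.{u} R)).map ((Dual2.quotMapOfLE h).app e.unop).op ≫
      ev1 I (unop (unop e)) = ev1 I' (unop (unop e)) ≫ gammaLE h := by
    ext M φ
    rfl
  have h3 := ι_lcZeroIso_hom I e
  have h4 := ι_lcZeroIso_hom I' e
  refine Eq.trans (congrArg (fun t => _ ≫ t) h3) ?_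
  refine Eq.trans ?_ (congrArg (fun t => t ≫ gammaLE h) h4).symm
  refine Eq.trans (Category.assoc _ _ _).symm ?_
  refine Eq.trans (congrArg (fun t => t ≫ ev1 I (unop (unop e))) h1) ?_
  exact (Category.assoc _ _ _).trans ((congrArg (fun t => _ ≫ t) h2).trans
    (Category.assoc _ _ _).symm)

/-- compatibility of `HmapOfLE` with the derived functors of the inclusion `Γ_{I'} ⟶ Γ_I` -/
theorem hmap_lcIsoδ (n : ℕ) :
    Dual2.HmapOfLE h n ≫ (lcIsoδ I n).hom =
      (lcIsoδ I' n).hom ≫ NatTrans.rightDerived (gammaLE h) n := by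
  refine DeltaFunctor.Hom.eq_of_zero (lcDelta_effaceable I') ((hmapHom h).comp (lcCmp I))
    ((lcCmp I').comp (rightDerivedDeltaHom (gammaLE h))) ?_ n
  show Dual2.HmapOfLE h 0 ≫ ((lcZeroIso I).hom ≫ (DRing.gammaI I).rightDerivedZeroIsoSelf.inv) =
    ((lcZeroIso I').hom ≫ (DRing.gammaI I').rightDerivedZeroIsoSelf.inv) ≫
      NatTrans.rightDerived (gammaLE h) 0
  rw [reassoc_of% (hmap_zero h), Category.assoc]
  congr 1
  ext X : 2
  simp only [NatTrans.comp_app, Functor.rightDerivedZeroIsoSelf_inv]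
  exact FunLES.toRightDerivedZero_naturality (gammaLE h) X

end hmap

end Groth.Agent.Helper1.LocCohDelta
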