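import Mathlib
import Groth.Prelude.Def_DerCA
import Groth.Prelude.Def_DRing3

set_option autoImplicit false

/-!
# The localization endofunctor `M ↦ M_S` of `ModuleCat R`: exactness, preservation of injectives
(Noetherian), surjectivity of `E → E_b` for injective `E`
-/

namespace Groth.Agent.Helper1.LocFun
open CategoryTheory Limits

universe u

variable {R : Type u} [CommRing R] (S : Submonoid R)

lemma locFunctor_map_hom {M N : ModuleCat.{u} R} (g : M ⟶ N) :
    ((DerCA.locFunctor S).map g).hom =
      IsLocalizedModule.map S (LocalizedModule.mkLinearMap S M) (LocalizedModule.mkLinearMap S N)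
        g.hom := rfl

lemma map_shortExact (T : ShortComplex (ModuleCat.{u} R)) (hT : T.ShortExact) :
    (T.map (DerCA.locFunctor S)).ShortExact where
  exact := by
    rw [ShortComplex.ShortExact.moduleCat_exact_iff_function_exact]
    exact IsLocalizedModule.map_exact S (LocalizedModule.mkLinearMap S T.X₁)
      (LocalizedModule.mkLinearMap S T.X₂) (LocalizedModule.mkLinearMap S T.X₃) T.f.hom T.g.hom
      ((ShortComplex.ShortExact.moduleCat_exact_iff_function_exact T).1 hT.exact)
  mono_f := by
    have := hT.mono_f
    exact (ModuleCat.mono_iff_injective ((DerCA.locFunctor S).map T.f)).2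
      (IsLocalizedModule.map_injective S (LocalizedModule.mkLinearMap S T.X₁)
        (LocalizedModule.mkLinearMap S T.X₂) T.f.hom
        ((ModuleCat.mono_iff_injective T.f).1 inferInstance))
  epi_g := by
    have := hT.epi_g
    exact (ModuleCat.epi_iff_surjective ((DerCA.locFunctor S).map T.g)).2
      (IsLocalizedModule.map_surjective S (LocalizedModule.mkLinearMap S T.X₂)
        (LocalizedModule.mkLinearMap S T.X₃) T.g.hom
        ((ModuleCat.epi_iff_surjective T.g).1 inferInstance))

instance : PreservesFiniteLimits (DerCA.locFunctor (R := R) S) := by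
  rw [Functor.preservesFiniteLimits_iff_forall_exact_map_and_mono]
  intro T hT
  have h := map_shortExact S T hT
  exact ⟨h.exact, h.mono_f⟩

instance : PreservesFiniteColimits (DerCA.locFunctor (R := R) S) := by
  rw [Functor.preservesFiniteColimits_iff_forall_exact_map_and_epi]
  intro T hT
  have h := map_shortExact S T hT
  exact ⟨h.exact, h.epi_g⟩

/-- over a Noetherian ring, the localization of an injective module is an injective module (over
the original ring) -/
theorem injective_localizedModule [IsNoetherianRing R] (E : Type u) [AddCommGroup E] [Module R E]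
    [Module.Injective R E] : Module.Injective R (LocalizedModule S E) := by
  apply Module.Baer.injective
  intro J g
  have : Module.FinitePresentation R J := Module.finitePresentation_of_finite R J
  obtain ⟨h, s, hs⟩ := Module.FinitePresentation.exists_lift_of_isLocalizedModule S
    (LocalizedModule.mkLinearMap S E) g
  obtain ⟨h', hh'⟩ := Module.Baer.of_injective (R := R) (Q := E) inferInstance J h
  refine ⟨LinearMap.toSpanSingleton R (LocalizedModule S E) (LocalizedModule.mk (h' 1) s), ?_⟩
  intro x hx
  have h1 : LocalizedModule.mkLinearMap S E (h ⟨x, hx⟩) = s • g ⟨x, hx⟩ := by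
    have := LinearMap.congr_fun hs ⟨x, hx⟩
    simpa using this
  rw [LinearMap.toSpanSingleton_apply, LocalizedModule.smul'_mk, ← map_smul, smul_eq_mul, mul_one,
    hh' x hx]
  have h2 : s • LocalizedModule.mk (h ⟨x, hx⟩) s = s • g ⟨x, hx⟩ := by
    rw [← h1, LocalizedModule.mkLinearMap_apply, Submonoid.smul_def, LocalizedModule.smul'_mk,
      ← Submonoid.smul_def, LocalizedModule.mk_cancel]
  exact ((Module.End.isUnit_iff _).1
    (IsLocalizedModule.map_units (LocalizedModule.mkLinearMap S E) s)).1 h2

end Groth.Agent.Helper1.LocFun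

namespace Groth.Agent.Helper1.LocFun
open CategoryTheory Limits

universe u

variable {R : Type u} [CommRing R] (S : Submonoid R)

instance injective_locFunctor_obj [IsNoetherianRing R] (E : ModuleCat.{u} R) [Injective E] :
    Injective ((DerCA.locFunctor S).obj E) := by
  have : Module.Injective R E := Module.injective_module_of_injective_object R E
  have := injective_localizedModule S E
  exact Module.injective_object_of_injective_module R (LocalizedModule S E)

/-- annihilators of the powers of `b` -/
def annPow (b : R) : ℕ →o Submodule R R where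
  toFun m := LinearMap.ker (LinearMap.toSpanSingleton R R (b ^ m))
  monotone' := by
    intro m m' hmm' r hr
    rw [LinearMap.mem_ker, LinearMap.toSpanSingleton_apply, smul_eq_mul] at hr ⊢
    obtain ⟨k, rfl⟩ := Nat.exists_eq_add_of_le hmm'
    rw [pow_add, ← mul_assoc, hr, zero_mul]

lemma mem_annPow (b : R) (m : ℕ) (r : R) : r ∈ annPow b m ↔ r * b ^ m = 0 := by
  change r ∈ LinearMap.ker (LinearMap.toSpanSingleton R R (b ^ m)) ↔ _
  rw [LinearMap.mem_ker, LinearMap.toSpanSingleton_apply, smul_eq_mul]

/-- for an injective module `E` over a Noetherian ring, `E → E_b` is surjective -/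
theorem mk_surjective_of_injective [IsNoetherianRing R] (b : R) (E : Type u) [AddCommGroup E]
    [Module R E] [Module.Injective R E] :
    Function.Surjective (LocalizedModule.mkLinearMap (Submonoid.powers b) E) := by
  obtain ⟨N, hN⟩ := monotone_stabilizes_iff_noetherian.2 (inferInstance : IsNoetherian R R)
    (annPow b)
  intro z
  induction z using LocalizedModule.induction_on with
  | h x s =>
    obtain ⟨_, ⟨n, rfl⟩⟩ := s
    let c : R := b ^ (n + N)
    let K : Submodule R R := annPow b (n + N)
    let φ : (R ⧸ K) →ₗ[R] R := K.liftQ (LinearMap.toSpanSingleton R R c) le_rfl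
    have hφ : Function.Injective φ := by
      rw [← LinearMap.ker_eq_bot]
      exact Submodule.ker_liftQ_eq_bot' K _ rfl
    let ψ : (R ⧸ K) →ₗ[R] E := K.liftQ (LinearMap.toSpanSingleton R E (b ^ N • x)) (by
      intro r hr
      have h1 : r ∈ annPow b N := by
        rw [hN (n + N) (Nat.le_add_left N n)]
        exact hr
      rw [mem_annPow] at h1
      rw [LinearMap.mem_ker, LinearMap.toSpanSingleton_apply, smul_smul, h1, zero_smul])
    obtain ⟨h, hh⟩ := Module.Injective.out (R := R) (Q := E) φ hφ ψ
    refine ⟨h 1, ?_⟩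
    have h1 : h c = b ^ N • x := by
      have := hh (Submodule.Quotient.mk 1)
      rw [Submodule.liftQ_apply, Submodule.liftQ_apply, LinearMap.toSpanSingleton_apply,
        LinearMap.toSpanSingleton_apply, one_smul, one_smul] at this
      exact this
    have h2 : h c = c • h 1 := by
      rw [← map_smul, smul_eq_mul, mul_one]
    rw [LocalizedModule.mkLinearMap_apply, LocalizedModule.mk_eq]
    refine ⟨⟨b ^ N, N, rfl⟩, ?_⟩
    simp only [Submonoid.smul_def, one_smul]
    rw [← h1, h2, smul_smul, ← pow_add, add_comm N n]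

variable {S} in
/-- `x/1 = 0` in `M_b` iff `x` is killed by a power of `b` -/
lemma mk_eq_zero_iff (b : R) {M : Type u} [AddCommGroup M] [Module R M] (x : M) :
    LocalizedModule.mkLinearMap (Submonoid.powers b) M x = 0 ↔ ∃ n : ℕ, b ^ n • x = 0 := by
  rw [IsLocalizedModule.eq_zero_iff (Submonoid.powers b)]
  constructor
  · rintro ⟨⟨_, ⟨n, rfl⟩⟩, h⟩
    exact ⟨n, h⟩
  · rintro ⟨n, h⟩
    exact ⟨⟨b ^ n, n, rfl⟩, h⟩

lemma mem_torsionSub_span_singleton (b : R) {M : Type u} [AddCommGroup M] [Module R M] (x : M) :
    x ∈ DRing.torsionSub (Ideal.span {b}) M ↔ ∃ n : ℕ, b ^ n • x = 0 := by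
  constructor
  · rintro ⟨n, hn⟩
    exact ⟨n, hn _ (Ideal.pow_mem_pow (Ideal.mem_span_singleton_self b) n)⟩
  · rintro ⟨n, hn⟩
    refine ⟨n, fun a ha => ?_⟩
    rw [Ideal.span_singleton_pow, Ideal.mem_span_singleton'] at ha
    obtain ⟨c, rfl⟩ := ha
    rw [mul_smul, hn, smul_zero]

lemma torsionSub_anti {I I' : Ideal R} (h : I ≤ I') {M : Type u} [AddCommGroup M] [Module R M] :
    DRing.torsionSub I' M ≤ DRing.torsionSub I M := by
  rintro x ⟨n, hn⟩
  exact ⟨n, fun a ha => hn a (Ideal.pow_right_mono h n ha)⟩

lemma mem_torsionSub_sup (I J : Ideal R) {M : Type u} [AddCommGroup M] [Module R M] (x : M) :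
    x ∈ DRing.torsionSub (I ⊔ J) M ↔ x ∈ DRing.torsionSub I M ∧ x ∈ DRing.torsionSub J M := by
  constructor
  · intro hx
    exact ⟨torsionSub_anti le_sup_left hx, torsionSub_anti le_sup_right hx⟩
  · rintro ⟨⟨n, hn⟩, ⟨m, hm⟩⟩
    refine ⟨n + m, fun a ha => ?_⟩
    have ha' := Ideal.sup_pow_add_le_pow_sup_pow ha
    obtain ⟨y, hy, z, hz, rfl⟩ := Submodule.mem_sup.1 ha'
    rw [add_smul, hn y hy, hm z hz, add_zero]

end Groth.Agent.Helper1.LocFun
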