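import Mathlib
import Groth.Agent.Helper1.LocCohCmp
import Groth.Agent.Helper1.CompDerived
import Groth.Agent.Helper1.LocFun

set_option autoImplicit false

/-!
# The long exact sequence `⋯ → H^i_{a+(b)}(M) → H^i_a(M) → H^i_a(M_b) → H^{i+1}_{a+(b)}(M) → ⋯`
-/

namespace Groth.Agent.Helper1.LocCohLES
open CategoryTheory Limits Opposite
open Groth.Agent.Helper1.DeltaFun Groth.Agent.Helper1.LocCohDelta Groth.Agent.Helper1.LocFun
open Groth.Agent.Helper1.FunLES

universe u

variable {R : Type u} [CommRing R] (a : Ideal R) (b : R)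

/-- localization at `b` -/
noncomputable abbrev L : ModuleCat.{u} R ⥤ ModuleCat.{u} R := DerCA.locFunctor (Submonoid.powers b)

/-- the localization maps -/
noncomputable abbrev η : 𝟭 (ModuleCat.{u} R) ⟶ L b := DerCA.locUnit (Submonoid.powers b)

lemma η_app_hom (M : ModuleCat.{u} R) :
    ((η b).app M).hom = LocalizedModule.mkLinearMap (Submonoid.powers b) M := rfl

/-- `Γ_{a+(b)} ⟶ Γ_a` -/
noncomputable abbrev α : DRing.gammaI (a ⊔ Ideal.span {b}) ⟶ DRing.gammaI a :=
  gammaLE (le_sup_left : a ≤ a ⊔ Ideal.span {b})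

/-- `Γ_a ⟶ Γ_a((-)_b)` -/
noncomputable abbrev β : DRing.gammaI a ⟶ L b ⋙ DRing.gammaI a := whiskerη (L b) (DRing.gammaI a) (η b)

lemma β_app_apply (M : ModuleCat.{u} R) (x : DRing.torsionSub a M) :
    @Subtype.val (LocalizedModule (Submonoid.powers b) M)
      (fun z => z ∈ DRing.torsionSub a (LocalizedModule (Submonoid.powers b) M))
      (((β a b).app M).hom x) =
      LocalizedModule.mkLinearMap (Submonoid.powers b) M x.1 := rfl

lemma α_β : α a b ≫ β a b = 0 := by
  ext M ⟨x, hx⟩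
  apply Subtype.ext
  change LocalizedModule.mkLinearMap (Submonoid.powers b) M x = 0
  rw [mk_eq_zero_iff]
  exact (mem_torsionSub_span_singleton b x).1 (((mem_torsionSub_sup a _ x).1 hx).2)

variable [IsNoetherianRing R]

/-- if `a^m` kills `x / b^n` then some `b^k x` is killed by `a^m` -/
lemma exists_pow_smul_mem_torsionSub {E : Type u} [AddCommGroup E] [Module R E] (x : E) (n : ℕ)
    (hz : LocalizedModule.mk x (⟨b ^ n, n, rfl⟩ : Submonoid.powers b) ∈
      DRing.torsionSub a (LocalizedModule (Submonoid.powers b) E)) :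
    ∃ k : ℕ, b ^ k • x ∈ DRing.torsionSub a E := by
  obtain ⟨m, hm⟩ := hz
  obtain ⟨s, hs⟩ : (a ^ m).FG := IsNoetherian.noetherian _
  have h1 : ∀ c ∈ s, ∃ k : ℕ, b ^ k • c • x = 0 := by
    intro c hc
    have h2 := hm c (hs ▸ Submodule.subset_span hc)
    rw [LocalizedModule.smul'_mk, ← LocalizedModule.zero_mk (⟨b ^ n, n, rfl⟩ : Submonoid.powers b),
      LocalizedModule.mk_eq] at h2
    obtain ⟨⟨_, ⟨k, rfl⟩⟩, hu⟩ := h2
    refine ⟨k + n, ?_⟩
    simp only [Submonoid.smul_def, smul_zero] at hu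
    rw [pow_add, mul_smul]
    exact hu
  choose! k hk using h1
  refine ⟨s.sup k, m, fun c hc => ?_⟩
  rw [← hs] at hc
  induction hc using Submodule.span_induction with
  | mem c hc =>
    have hle : k c ≤ s.sup k := Finset.le_sup hc
    obtain ⟨j, hj⟩ := Nat.exists_eq_add_of_le hle
    rw [smul_comm, hj, pow_add, mul_comm, mul_smul, hk c hc, smul_zero]
  | zero => rw [zero_smul]
  | add c d _ _ hc hd => rw [add_smul, hc, hd, add_zero]
  | smul r c _ hc => rw [smul_eq_mul, mul_smul, hc, smul_zero]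

/-- for injective `E`, `Γ_a(E) → Γ_a(E_b)` is surjective -/
lemma β_surjective (E : ModuleCat.{u} R) [Injective E] :
    Function.Surjective ((β a b).app E).hom := by
  have hE : Module.Injective R E := Module.injective_module_of_injective_object R E
  have hN : Module.Injective R (DRing.torsionSub a E) := GammaInj.injective_torsionSub (R := R) (E := E) a
  rintro ⟨z, hz⟩
  induction z using LocalizedModule.induction_on with
  | h x s =>
    obtain ⟨_, ⟨n, rfl⟩⟩ := s
    obtain ⟨k, hk⟩ := exists_pow_smul_mem_torsionSub a b x n hz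
    obtain ⟨y, hy⟩ := mk_surjective_of_injective b (DRing.torsionSub a E)
      (LocalizedModule.mk ⟨b ^ k • x, hk⟩ ⟨b ^ (n + k), n + k, rfl⟩)
    rw [LocalizedModule.mkLinearMap_apply, LocalizedModule.mk_eq] at hy
    obtain ⟨⟨_, ⟨l, rfl⟩⟩, hu⟩ := hy
    refine ⟨y, Subtype.ext ?_⟩
    rw [β_app_apply, LocalizedModule.mkLinearMap_apply]
    show (LocalizedModule.mk (y : E) 1 : LocalizedModule (Submonoid.powers b) E) =
      LocalizedModule.mk x (⟨b ^ n, n, rfl⟩ : Submonoid.powers b)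
    rw [LocalizedModule.mk_eq]
    refine ⟨⟨b ^ (l + k), l + k, rfl⟩, ?_⟩
    have hu' := congrArg Subtype.val hu
    simp only [Submonoid.smul_def, one_smul, Submodule.coe_smul] at hu' ⊢
    rw [smul_smul, ← pow_add] at hu'
    rw [smul_smul, ← pow_add]
    have e1 : l + k + n = l + (n + k) := by ring
    rw [e1, hu', smul_smul, ← pow_add]

lemma sc_shortExact (E : ModuleCat.{u} R) [Injective E] :
    (sc (α a b) (β a b) (α_β a b) E).ShortExact where
  exact := by
    rw [ShortComplex.moduleCat_exact_iff]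
    rintro ⟨y, hy⟩ h0
    have h1 : LocalizedModule.mkLinearMap (Submonoid.powers b) E y = 0 :=
      congrArg Subtype.val h0
    rw [mk_eq_zero_iff] at h1
    refine ⟨⟨y, (mem_torsionSub_sup a _ y).2 ⟨hy, (mem_torsionSub_span_singleton b y).2 h1⟩⟩, rfl⟩
  mono_f := (ModuleCat.mono_iff_injective _).2 (fun x y hxy => by
    have h := congrArg Subtype.val hxy
    exact Subtype.ext h)
  epi_g := (ModuleCat.epi_iff_surjective _).2 (β_surjective a b E)

end Groth.Agent.Helper1.LocCohLES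

namespace Groth.Agent.Helper1.LocCohLES
open CategoryTheory Limits Opposite
open Groth.Agent.Helper1.DeltaFun Groth.Agent.Helper1.LocCohDelta Groth.Agent.Helper1.LocFun
open Groth.Agent.Helper1.FunLES

universe u

/-- transport of exactness along a commutative ladder of isomorphisms -/
lemma exact_of_comm {C : Type*} [Category C] [HasZeroMorphisms C] {X₁ X₂ X₃ Y₁ Y₂ Y₃ : C}
    (e₁ : X₁ ≅ Y₁) (e₂ : X₂ ≅ Y₂) (e₃ : X₃ ≅ Y₃) (f : X₁ ⟶ X₂) (g : X₂ ⟶ X₃) (f' : Y₁ ⟶ Y₂)
    (g' : Y₂ ⟶ Y₃) (hf : f ≫ e₂.hom = e₁.hom ≫ f') (hg : g ≫ e₃.hom = e₂.hom ≫ g')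
    (w' : f' ≫ g' = 0) (hex : (ShortComplex.mk f' g' w').Exact) :
    ∃ w : f ≫ g = 0, (ShortComplex.mk f g w).Exact := by
  refine exact_of_conj e₁ e₂ e₃ f g f' g' ?_ ?_ w' hex
  · rw [← Category.assoc, ← hf, Category.assoc, Iso.hom_inv_id, Category.comp_id]
  · rw [← Category.assoc, ← hg, Category.assoc, Iso.hom_inv_id, Category.comp_id]

variable {R : Type u} [CommRing R] [IsNoetherianRing R] (a : Ideal R) (b : R)

lemma hL : ∀ S : ShortComplex (ModuleCat.{u} R), S.ShortExact → (S.map (L b)).ShortExact :=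
  fun S hS => map_shortExact _ S hS

lemma hacyc (I : ModuleCat.{u} R) [Injective I] (n : ℕ) :
    IsZero (((DRing.gammaI a).rightDerived (n + 1)).obj ((L b).obj I)) :=
  Functor.isZero_rightDerived_obj_injective_succ _ n _

/-- `H^n_a(M_b) ≅ R^n(Γ_a ∘ (-)_b)(M)` -/
noncomputable def eC (n : ℕ) (M : ModuleCat.{u} R) :
    (localCohomology a n).obj ((L b).obj M) ≅ ((L b ⋙ DRing.gammaI a).rightDerived n).obj M :=
  (lcIsoδ a n).app ((L b).obj M) ≪≫
    ((compIso (L b) (hL b) (DRing.gammaI a) (hacyc a b) n).app M).symm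

lemma v_comm (n : ℕ) (M : ModuleCat.{u} R) :
    (localCohomology a n).map ((η b).app M) ≫ (eC a b n M).hom =
      (lcIsoδ a n).hom.app M ≫ (NatTrans.rightDerived (β a b) n).app M := by
  have h1 := (lcIsoδ a n).hom.naturality ((η b).app M)
  have h2 := rightDerived_whiskerη_compIso (L b) (hL b) (DRing.gammaI a) (hacyc a b) (η b) n M
  dsimp only [eC, Iso.trans_hom, Iso.app_hom, Iso.symm_hom, Iso.app_inv]
  rw [reassoc_of% h1, ← h2, Category.assoc, ← NatTrans.comp_app, Iso.hom_inv_id, NatTrans.id_app,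
    Category.comp_id]

lemma u_comm (n : ℕ) (M : ModuleCat.{u} R) :
    (Dual2.HmapOfLE (le_sup_left : a ≤ a ⊔ Ideal.span {b}) n).app M ≫ (lcIsoδ a n).hom.app M =
      (lcIsoδ (a ⊔ Ideal.span {b}) n).hom.app M ≫ (NatTrans.rightDerived (α a b) n).app M := by
  rw [← NatTrans.comp_app, hmap_lcIsoδ, NatTrans.comp_app]

/-- the connecting morphism `H^n_a(M_b) ⟶ H^{n+1}_{a+(b)}(M)` -/
noncomputable def conn (n : ℕ) (M : ModuleCat.{u} R) :
    (localCohomology a n).obj ((L b).obj M) ⟶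
      (localCohomology (a ⊔ Ideal.span {b}) (n + 1)).obj M :=
  (eC a b n M).hom ≫ (δ (α a b) (β a b) (α_β a b) (fun E _ => sc_shortExact a b E) n).app M ≫
    (lcIsoδ (a ⊔ Ideal.span {b}) (n + 1)).inv.app M

lemma conn_comm (n : ℕ) (M : ModuleCat.{u} R) :
    conn a b n M ≫ (lcIsoδ (a ⊔ Ideal.span {b}) (n + 1)).hom.app M =
      (eC a b n M).hom ≫
        (δ (α a b) (β a b) (α_β a b) (fun E _ => sc_shortExact a b E) n).app M := by
  dsimp only [conn]
  rw [Category.assoc, Category.assoc, ← NatTrans.comp_app, Iso.inv_hom_id, NatTrans.id_app,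
    Category.comp_id]

/-- exactness at `H^n_a(M)` -/
theorem exact₂ (n : ℕ) (M : ModuleCat.{u} R) :
    ∃ w : (Dual2.HmapOfLE (le_sup_left : a ≤ a ⊔ Ideal.span {b}) n).app M ≫
        (localCohomology a n).map ((η b).app M) = 0, (ShortComplex.mk _ _ w).Exact := by
  obtain ⟨w', hw'⟩ := les₂ (α a b) (β a b) (α_β a b) (fun E _ => sc_shortExact a b E) n M
  exact exact_of_comm ((lcIsoδ (a ⊔ Ideal.span {b}) n).app M) ((lcIsoδ a n).app M) (eC a b n M)
    _ _ _ _ (u_comm a b n M) (v_comm a b n M) w' hw'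

/-- exactness at `H^n_a(M_b)` -/
theorem exact₃ (n : ℕ) (M : ModuleCat.{u} R) :
    ∃ w : (localCohomology a n).map ((η b).app M) ≫ conn a b n M = 0,
      (ShortComplex.mk _ _ w).Exact := by
  obtain ⟨w', hw'⟩ := les₃ (α a b) (β a b) (α_β a b) (fun E _ => sc_shortExact a b E) n M
  exact exact_of_comm ((lcIsoδ a n).app M) (eC a b n M)
    ((lcIsoδ (a ⊔ Ideal.span {b}) (n + 1)).app M)
    _ _ _ _ (v_comm a b n M) (conn_comm a b n M) w' hw'

/-- exactness at `H^{n+1}_{a+(b)}(M)` -/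
theorem exact₁ (n : ℕ) (M : ModuleCat.{u} R) :
    ∃ w : conn a b n M ≫
        (Dual2.HmapOfLE (le_sup_left : a ≤ a ⊔ Ideal.span {b}) (n + 1)).app M = 0,
      (ShortComplex.mk _ _ w).Exact := by
  obtain ⟨w', hw'⟩ := les₁ (α a b) (β a b) (α_β a b) (fun E _ => sc_shortExact a b E) n M
  exact exact_of_comm (eC a b n M) ((lcIsoδ (a ⊔ Ideal.span {b}) (n + 1)).app M)
    ((lcIsoδ a (n + 1)).app M)
    _ _ _ _ (conn_comm a b n M) (u_comm a b (n + 1) M) w' hw'

/-- `H⁰_{a+(b)}(M) → H⁰_a(M)` is a monomorphism -/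
theorem mono_hmap_zero (M : ModuleCat.{u} R) :
    Mono ((Dual2.HmapOfLE (le_sup_left : a ≤ a ⊔ Ideal.span {b}) 0).app M) := by
  have := mono₀ (α a b) (β a b) (α_β a b) (fun E _ => sc_shortExact a b E) M
  exact mono_conj_aux _ _ ((lcIsoδ (a ⊔ Ideal.span {b}) 0).app M) ((lcIsoδ a 0).app M)
    (u_comm a b 0 M)

end Groth.Agent.Helper1.LocCohLES
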