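import Mathlib
import Groth.Agent.Helper1.LocCohLES
import Groth.Prelude.Def_Wider

set_option autoImplicit false

/-!
# Cohomological dimension bounds: `cd(a + (b)) ≤ cd(a) + 1`, `cd(x₁,…,x_r) ≤ r`
-/

namespace Groth.Agent.Helper1.LocCohCd
open CategoryTheory Limits Opposite
open Groth.Agent.Helper1.LocCohDelta Groth.Agent.Helper1.LocCohLES

universe u

variable {R : Type u} [CommRing R] [IsNoetherianRing R]

lemma cdLE_bot : LocCoh.CdLE R (⊥ : Ideal R) 0 := by
  intro M _ _ i hi
  obtain ⟨p, rfl⟩ : ∃ p, i = p + 1 := ⟨i - 1, by omega⟩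
  have h : IsTors (⊥ : Ideal R) (ModuleCat.of R M) := by
    intro x
    refine ⟨1, fun a ha => ?_⟩
    rw [pow_one, Ideal.mem_bot] at ha
    rw [ha, zero_smul]
  exact ModuleCat.isZero_iff_subsingleton.1 (isZero_lc_of_isTors _ p _ h)

lemma cdLE_sup_span_singleton (a : Ideal R) (b : R) (d : ℕ) (h : LocCoh.CdLE R a d) :
    LocCoh.CdLE R (a ⊔ Ideal.span {b}) (d + 1) := by
  intro M _ _ i hi
  obtain ⟨n, rfl⟩ : ∃ n, i = n + 1 := ⟨i - 1, by omega⟩
  obtain ⟨w, e⟩ := exact₁ a b n (ModuleCat.of R M)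
  have h1 : IsZero ((localCohomology a n).obj ((L b).obj (ModuleCat.of R M))) :=
    ModuleCat.isZero_iff_subsingleton.2
      (h (LocalizedModule (Submonoid.powers b) M) n (by omega))
  have h3 : IsZero ((localCohomology a (n + 1)).obj (ModuleCat.of R M)) :=
    ModuleCat.isZero_iff_subsingleton.2 (h M (n + 1) (by omega))
  exact ModuleCat.isZero_iff_subsingleton.1 (e.isZero_of_both_isZero h1 h3)

theorem cdLE_span_finset (s : Finset R) : LocCoh.CdLE R (Ideal.span (s : Set R)) s.card := by
  classical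
  induction s using Finset.induction_on with
  | empty =>
    rw [Finset.coe_empty, Ideal.span_empty, Finset.card_empty]
    exact cdLE_bot
  | insert b s hb ih =>
    rw [Finset.coe_insert, Ideal.span_insert, sup_comm, Finset.card_insert_of_notMem hb]
    exact cdLE_sup_span_singleton _ b _ ih

end Groth.Agent.Helper1.LocCohCd
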