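import Mathlib
import Groth.Agent.Helper1.ExtOld
import Groth.Prelude.Def_Wider

set_option autoImplicit false

/-!
# Every element of `H^i_I(M)` is killed by a power of `I` (no Noetherian hypothesis)
-/

namespace Groth.Agent.Helper1.LocCohTors
open CategoryTheory Limits Opposite
open Groth.Agent.Helper1.ExtOld

universe u

section ext

variable {R : Type u} [CommRing R]

lemma homologyMap_smul' {C : Type*} [Category C] [Abelian C] [Linear R C] {ι : Type*}
    {c : ComplexShape ι} {K L : HomologicalComplex C c} (φ : K ⟶ L) (a : R) (i : ι) :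
    HomologicalComplex.homologyMap (a • φ) i = a • HomologicalComplex.homologyMap φ i := by
  exact ShortComplex.homologyMap_smul ((HomologicalComplex.shortComplexFunctor C c i).map φ) a

/-- if `a` kills `X` then it kills `Extⁿ(X, Y)` -/
theorem ext_smul_eq_zero {X : ModuleCat.{u} R} (a : R) (ha : a • 𝟙 X = 0) (n : ℕ)
    (Y : ModuleCat.{u} R) (y : ((Ext R (ModuleCat.{u} R) n).obj (op X)).obj Y) : a • y = 0 := by
  let P := projectiveResolution X
  have h1 := isoExt_naturality_left (R := R) P (a • 𝟙 X) P (a • 𝟙 P.complex)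
    (by simp) n Y
  have h2 := isoExt_naturality_left (R := R) P (0 : X ⟶ X) P (0 : P.complex ⟶ P.complex)
    (by simp) n Y
  rw [ha] at h1
  have h3 : HomologicalComplex.homologyMap (homCxMap' (R := R) (a • 𝟙 P.complex) Y) n =
      HomologicalComplex.homologyMap (homCxMap' (R := R) (0 : P.complex ⟶ P.complex) Y) n := by
    rw [← cancel_epi (P.isoExt n Y).hom, ← h1, ← h2]
  have h4 : homCxMap' (R := R) (a • 𝟙 P.complex) Y = a • 𝟙 _ := by
    ext i (x : P.complex.X i ⟶ Y)
    show (a • 𝟙 (P.complex.X i)) ≫ x = a • x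
    rw [Linear.smul_comp, Category.id_comp]
  have h5 : homCxMap' (R := R) (0 : P.complex ⟶ P.complex) Y = 0 := by
    ext i (x : P.complex.X i ⟶ Y)
    show (0 : P.complex.X i ⟶ P.complex.X i) ≫ x = 0
    exact zero_comp
  rw [h4, h5, homologyMap_smul', HomologicalComplex.homologyMap_id,
    HomologicalComplex.homologyMap_zero] at h3
  have h6 : a • (P.isoExt n Y).toLinearEquiv y = 0 := by
    have := congrArg (fun t => t.hom ((P.isoExt n Y).toLinearEquiv y)) h3
    simp only [ModuleCat.hom_smul, LinearMap.smul_apply, ModuleCat.hom_id, LinearMap.id_apply,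
      ModuleCat.hom_zero, LinearMap.zero_apply] at this
    exact this
  rw [← map_smul] at h6
  exact (P.isoExt n Y).toLinearEquiv.map_eq_zero_iff.1 h6

end ext

end Groth.Agent.Helper1.LocCohTors

namespace Groth.Agent.Helper1.LocCohTors
open CategoryTheory Limits Opposite

universe u

variable {R : Type u} [CommRing R] (I : Ideal R)

instance instPresSmall : PreservesFilteredColimitsOfSize.{0,0} (forget (ModuleCat.{u} R)) :=
  preservesSmallestFilteredColimits_of_preservesFilteredColimits _

/-- the colimit cocone of the local cohomology diagram evaluated at `M` -/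
noncomputable def coconeAt (i : ℕ) (M : ModuleCat.{u} R) :
    Cocone (localCohomology.diagram (localCohomology.idealPowersDiagram I) i ⋙
      (evaluation _ _).obj M) :=
  ((evaluation _ _).obj M).mapCocone (colimit.cocone _)

/-- it is a colimit -/
noncomputable def isColimitAt (i : ℕ) (M : ModuleCat.{u} R) : IsColimit (coconeAt I i M) :=
  isColimitOfPreserves ((evaluation _ _).obj M) (colimit.isColimit _)

/-- the legs -/
noncomputable def ι (i : ℕ) (M : ModuleCat.{u} R) (k : ℕ) :
    ((Ext R (ModuleCat.{u} R) i).obj (op (ModuleCat.of R (R ⧸ I ^ k)))).obj M →ₗ[R]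
      (localCohomology I i).obj M :=
  ((colimit.ι (localCohomology.diagram (localCohomology.idealPowersDiagram I) i)
    (op (op k))).app M).hom

theorem exists_rep (i : ℕ) (M : ModuleCat.{u} R) (x : (localCohomology I i).obj M) :
    ∃ (k : ℕ) (y : ((Ext R (ModuleCat.{u} R) i).obj (op (ModuleCat.of R (R ⧸ I ^ k)))).obj M),
      ι I i M k y = x := by
  obtain ⟨j, y, hy⟩ := Concrete.isColimit_exists_rep _ (isColimitAt I i M) x
  exact ⟨j.unop.unop, y, hy⟩

lemma smul_id_quot (k : ℕ) (a : R) (ha : a ∈ I ^ k) :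
    a • 𝟙 (ModuleCat.of R (R ⧸ I ^ k)) = 0 := by
  apply ModuleCat.hom_ext
  apply LinearMap.ext
  intro x
  obtain ⟨x, rfl⟩ := Ideal.Quotient.mk_surjective x
  show a • (Ideal.Quotient.mk (I ^ k) x) = 0
  rw [← Ideal.Quotient.mk_eq_mk, ← Submodule.Quotient.mk_smul, Submodule.Quotient.mk_eq_zero]
  exact Ideal.mul_mem_right _ _ ha

/-- every element of `H^i_I(M)` is killed by a power of `I` -/
theorem isPowerTorsion (i : ℕ) (M : ModuleCat.{u} R) :
    LocCoh.IsPowerTorsion I ((localCohomology I i).obj M) := by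
  intro x
  obtain ⟨k, y, rfl⟩ := exists_rep I i M x
  refine ⟨k, fun a ha => ?_⟩
  rw [← map_smul, ext_smul_eq_zero a (smul_id_quot I k a ha) i M y, map_zero]

end Groth.Agent.Helper1.LocCohTors
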