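import Mathlib
import Groth.Agent.Helper1.LocCohLES
import Groth.Agent.Helper1.LocCohTors

set_option autoImplicit false

/-!
# `R`-linearity of local cohomology functors; `H^i_a(M_b)` is the localization of `H^i_a(M)`
-/

namespace Groth.Agent.Helper1.DeltaFun
open CategoryTheory Limits

universe u

variable {R : Type u} [CommRing R]

/-- an effaceable δ-functor on modules which is compatible with scalars in degree `0` is
compatible with scalars in all degrees -/
theorem DeltaFunctor.map_smul_id (T : DeltaFunctor (ModuleCat.{u} R) (ModuleCat.{u} R))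
    (hT : T.Effaceable) (r : R)
    (h0 : ∀ M : ModuleCat.{u} R, (T.T 0).map (r • 𝟙 M) = r • 𝟙 _) (n : ℕ) (M : ModuleCat.{u} R) :
    (T.T n).map (r • 𝟙 M) = r • 𝟙 _ := by
  let φ : T.Hom T :=
    { app := fun n =>
        { app := fun M => (T.T n).map (r • 𝟙 M)
          naturality := fun M N f => by
            rw [← Functor.map_comp, ← Functor.map_comp]
            congr 1
            rw [Linear.comp_smul, Linear.smul_comp, Category.comp_id, Category.id_comp] }
      comm := fun S hS n => by
        let ψ : S ⟶ S :=
          { τ₁ := r • 𝟙 _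
            τ₂ := r • 𝟙 _
            τ₃ := r • 𝟙 _
            comm₁₂ := by
              rw [Linear.comp_smul, Linear.smul_comp, Category.comp_id, Category.id_comp]
            comm₂₃ := by
              rw [Linear.comp_smul, Linear.smul_comp, Category.comp_id, Category.id_comp] }
        exact T.δ_nat ψ hS hS n }
  let ψ : T.Hom T :=
    { app := fun n =>
        { app := fun M => r • 𝟙 _
          naturality := fun M N f => by
            rw [Linear.comp_smul, Linear.smul_comp, Category.comp_id, Category.id_comp] }
      comm := fun S hS n => by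
        change T.δ S hS n ≫ (r • 𝟙 _) = (r • 𝟙 _) ≫ T.δ S hS n
        rw [Linear.comp_smul, Linear.smul_comp, Category.comp_id, Category.id_comp] }
  have key := DeltaFunctor.Hom.eq_of_zero hT φ ψ (by
    ext M : 2
    exact h0 M) n
  exact congrArg (fun t => t.app M) key

theorem DeltaFunctor.map_smul (T : DeltaFunctor (ModuleCat.{u} R) (ModuleCat.{u} R))
    (hT : T.Effaceable) (r : R)
    (h0 : ∀ M : ModuleCat.{u} R, (T.T 0).map (r • 𝟙 M) = r • 𝟙 _) (n : ℕ) {M N : ModuleCat.{u} R}
    (f : M ⟶ N) : (T.T n).map (r • f) = r • (T.T n).map f := by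
  have h1 : r • f = f ≫ (r • 𝟙 N) := by rw [Linear.comp_smul, Category.comp_id]
  rw [h1, Functor.map_comp, DeltaFunctor.map_smul_id T hT r h0 n N, Linear.comp_smul,
    Category.comp_id]

end Groth.Agent.Helper1.DeltaFun

namespace Groth.Agent.Helper1.LocCohDelta
open CategoryTheory Limits Opposite
open Groth.Agent.Helper1.DeltaFun

universe u

variable {R : Type u} [CommRing R] (J : Ideal R)

lemma lc_zero_map_smul_id (r : R) (M : ModuleCat.{u} R) :
    (localCohomology J 0).map (r • 𝟙 M) = r • 𝟙 _ := by
  have h1 := (lcZeroIso J).hom.naturality (r • 𝟙 M)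
  have h2 : (DRing.gammaI J).map (r • 𝟙 M) = r • 𝟙 _ := by
    ext x
    rfl
  rw [h2, Linear.comp_smul, Category.comp_id] at h1
  apply (Iso.cancel_iso_hom_right _ _ ((lcZeroIso J).app M)).1
  rw [Iso.app_hom, h1, Linear.smul_comp, Category.id_comp]

/-- local cohomology functors are `R`-linear -/
theorem lc_map_smul (r : R) (n : ℕ) {M N : ModuleCat.{u} R} (f : M ⟶ N) :
    (localCohomology J n).map (r • f) = r • (localCohomology J n).map f :=
  DeltaFunctor.map_smul (lcDelta J) (lcDelta_effaceable J) r (lc_zero_map_smul_id J r) n f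

end Groth.Agent.Helper1.LocCohDelta

namespace Groth.Agent.Helper1.LocCohDelta
open CategoryTheory Limits Opposite

universe u

variable {R : Type u} [CommRing R] (J : Ideal R)

lemma lc_map_zero (n : ℕ) (M N : ModuleCat.{u} R) :
    (localCohomology J n).map (0 : M ⟶ N) = 0 := by
  have := lc_map_smul J (0 : R) n (0 : M ⟶ N)
  rw [zero_smul, zero_smul] at this
  exact this

/-- an element killing `M` kills `H^n_J(M)` -/
lemma smul_lc_eq_zero (n : ℕ) (M : ModuleCat.{u} R) (s : R) (hs : ∀ m : M, s • m = 0)
    (x : (localCohomology J n).obj M) : s • x = 0 := by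
  have h1 : s • 𝟙 M = 0 := by
    ext m
    exact hs m
  have h2 := lc_map_smul J s n (𝟙 M)
  rw [h1, lc_map_zero, CategoryTheory.Functor.map_id] at h2
  have := congrArg (fun t => t.hom x) h2
  simp only [ModuleCat.hom_zero, LinearMap.zero_apply, ModuleCat.hom_smul, LinearMap.smul_apply,
    ModuleCat.hom_id, LinearMap.id_apply] at this
  exact this.symm

end Groth.Agent.Helper1.LocCohDelta
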