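import Mathlib
import Groth.Agent.Helper1.LocCohCd
import Groth.Agent.Helper1.LocCohLinear

set_option autoImplicit false

/-!
# Injective modules over an `R`-algebra are `Γ_I`-acyclic over `R`
-/

namespace Groth.Agent.Helper1.LocCohRestr
open CategoryTheory Limits Opposite
open Groth.Agent.Helper1.LocCohDelta Groth.Agent.Helper1.LocCohLES Groth.Agent.Helper1.LocFun
open Groth.Agent.Helper1.FunLES

universe u

section div

variable {R : Type u} [CommRing R]

/-- divisibility in injective modules over a Noetherian ring -/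
theorem exists_pow_smul_eq [IsNoetherianRing R] (b : R) (E : Type u) [AddCommGroup E] [Module R E]
    [Module.Injective R E] (x : E) (n : ℕ) : ∃ (y : E) (l : ℕ), b ^ (l + n) • y = b ^ l • x := by
  obtain ⟨y, hy⟩ := mk_surjective_of_injective b E
    (LocalizedModule.mk x (⟨b ^ n, n, rfl⟩ : Submonoid.powers b))
  rw [LocalizedModule.mkLinearMap_apply, LocalizedModule.mk_eq] at hy
  obtain ⟨⟨_, ⟨l, rfl⟩⟩, hu⟩ := hy
  refine ⟨y, l, ?_⟩
  simp only [Submonoid.smul_def, one_smul] at hu
  rw [pow_add, mul_smul]
  exact hu

end div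

section base

variable {R : Type u} [CommRing R] {R' : Type u} [CommRing R'] [Algebra R R'] (I : Ideal R)
  (M' : Type u) [AddCommGroup M'] [Module R' M'] [Module R M'] [IsScalarTower R R' M']

/-- `Γ_{IR'}(M') = Γ_I(M')` as sets -/
lemma mem_torsionSub_map_iff (x : M') :
    x ∈ DRing.torsionSub (I.map (algebraMap R R')) M' ↔ x ∈ DRing.torsionSub I M' := by
  constructor
  · rintro ⟨n, hn⟩
    refine ⟨n, fun c hc => ?_⟩
    rw [← algebraMap_smul R' c x]
    apply hn
    rw [← Ideal.map_pow]
    exact Ideal.mem_map_of_mem _ hc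
  · rintro ⟨n, hn⟩
    refine ⟨n, fun c hc => ?_⟩
    rw [← Ideal.map_pow] at hc
    induction hc using Submodule.span_induction with
    | mem c hc =>
      obtain ⟨d, hd, rfl⟩ := hc
      rw [algebraMap_smul]
      exact hn d hd
    | zero => rw [zero_smul]
    | add c d _ _ hc hd => rw [add_smul, hc, hd, add_zero]
    | smul r c _ hc => rw [smul_eq_mul, mul_smul, hc, smul_zero]

end base

section surj

variable {R : Type u} [CommRing R] [IsNoetherianRing R] (a : Ideal R) (b : R)

/-- `Γ_a(E) → Γ_a(E_b)` is surjective as soon as `Γ_a(E)` is `b`-divisible in the weak sense -/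
lemma β_surjective_of_div (E : ModuleCat.{u} R)
    (hdiv : ∀ (x : E) (_ : x ∈ DRing.torsionSub a E) (n : ℕ),
      ∃ y ∈ DRing.torsionSub a E, ∃ l : ℕ, b ^ (l + n) • y = b ^ l • x) :
    Function.Surjective ((β a b).app E).hom := by
  rintro ⟨z, hz⟩
  induction z using LocalizedModule.induction_on with
  | h x s =>
    obtain ⟨_, ⟨n, rfl⟩⟩ := s
    obtain ⟨k, hk⟩ := exists_pow_smul_mem_torsionSub a b x n hz
    obtain ⟨y, hy, l, hl⟩ := hdiv (b ^ k • x) hk (n + k)
    refine ⟨⟨y, hy⟩, Subtype.ext ?_⟩
    rw [β_app_apply, LocalizedModule.mkLinearMap_apply]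
    show (LocalizedModule.mk (y : E) 1 : LocalizedModule (Submonoid.powers b) E) =
      LocalizedModule.mk x (⟨b ^ n, n, rfl⟩ : Submonoid.powers b)
    rw [LocalizedModule.mk_eq]
    refine ⟨⟨b ^ (l + k), l + k, rfl⟩, ?_⟩
    simp only [Submonoid.smul_def, one_smul]
    rw [smul_smul, ← pow_add]
    have e1 : l + k + n = l + (n + k) := by ring
    rw [e1, hl, smul_smul, ← pow_add]

end surj

end Groth.Agent.Helper1.LocCohRestr

namespace Groth.Agent.Helper1.LocCohRestr
open CategoryTheory Limits Opposite
open Groth.Agent.Helper1.LocCohDelta Groth.Agent.Helper1.LocCohLES Groth.Agent.Helper1.LocFun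
open Groth.Agent.Helper1.FunLES

universe u

variable {R : Type u} [CommRing R] [IsNoetherianRing R] {R' : Type u} [CommRing R']
  [IsNoetherianRing R'] [Algebra R R']

/-- weak `b`-divisibility of `Γ_a(E')` for an injective module over an `R`-algebra -/
lemma hdiv_of_injective (a : Ideal R) (b : R) (E' : Type u) [AddCommGroup E'] [Module R' E']
    [Module R E'] [IsScalarTower R R' E'] [Module.Injective R' E']
    (x : E') (hx : x ∈ DRing.torsionSub a E') (n : ℕ) :
    ∃ y ∈ DRing.torsionSub a E', ∃ l : ℕ, b ^ (l + n) • y = b ^ l • x := by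
  have hN : Module.Injective R' (DRing.torsionSub (a.map (algebraMap R R')) E') :=
    GammaInj.injective_torsionSub (R := R') (E := E') _
  obtain ⟨y, l, hl⟩ := exists_pow_smul_eq (algebraMap R R' b)
    (DRing.torsionSub (a.map (algebraMap R R')) E')
    ⟨x, (mem_torsionSub_map_iff a E' x).2 hx⟩ n
  refine ⟨y.1, (mem_torsionSub_map_iff a E' y.1).1 y.2, l, ?_⟩
  have := congrArg Subtype.val hl
  simp only [Submodule.coe_smul, ← map_pow, algebraMap_smul] at this
  exact this

lemma epi_lc_zero_map_η (a : Ideal R) (b : R) (E : ModuleCat.{u} R)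
    (hsurj : Function.Surjective ((β a b).app E).hom) :
    Epi ((localCohomology a 0).map ((η b).app E)) := by
  have h1 := (lcZeroIso a).hom.naturality ((η b).app E)
  have h2 : Epi ((DRing.gammaI a).map ((η b).app E)) :=
    (ModuleCat.epi_iff_surjective _).2 hsurj
  have h3 : (localCohomology a 0).map ((η b).app E) =
      (lcZeroIso a).hom.app E ≫ (DRing.gammaI a).map ((η b).app E) ≫
        (lcZeroIso a).inv.app ((L b).obj E) := by
    rw [← reassoc_of% h1, ← NatTrans.comp_app, Iso.hom_inv_id, NatTrans.id_app, Category.comp_id]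
  rw [h3]
  infer_instance

theorem isZero_lc_restrict (s : Finset R) :
    ∀ (E' : Type u) [AddCommGroup E'] [Module R' E'] [Module R E'] [IsScalarTower R R' E']
      [Module.Injective R' E'] (n : ℕ),
      IsZero ((localCohomology (Ideal.span (s : Set R)) (n + 1)).obj (ModuleCat.of R E')) := by
  classical
  induction s using Finset.induction_on with
  | empty =>
    intro E' _ _ _ _ _ n
    rw [Finset.coe_empty, Ideal.span_empty]
    exact ModuleCat.isZero_iff_subsingleton.2 (LocCohCd.cdLE_bot E' (n + 1) (by omega))
  | insert b s hb ih =>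
    rw [Finset.coe_insert, Ideal.span_insert, sup_comm]
    intro E' _ _ _ _ _ n
    set a : Ideal R := Ideal.span (s : Set R) with ha
    let M : ModuleCat.{u} R := ModuleCat.of R E'
    obtain ⟨w1, e1⟩ := exact₁ a b n M
    have h3 : IsZero ((localCohomology a (n + 1)).obj M) := ih E' n
    cases n with
    | zero =>
      obtain ⟨w3, -⟩ := exact₃ a b 0 M
      have hepi := epi_lc_zero_map_η a b M
        (β_surjective_of_div a b M (fun x hx n => hdiv_of_injective (R' := R') a b E' x hx n))
      have h0 : conn a b 0 M = 0 := by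
        rw [← cancel_epi ((localCohomology a 0).map ((η b).app M)), w3, comp_zero]
      exact e1.isZero_of_both_zeros h0 (h3.eq_of_tgt _ _)
    | succ m =>
      let E'' := LocalizedModule (Submonoid.powers (algebraMap R R' b)) E'
      have hinj : Module.Injective R' E'' := injective_localizedModule _ E'
      have hloc : IsLocalizedModule (Submonoid.powers b)
          ((LocalizedModule.mkLinearMap (Submonoid.powers (algebraMap R R' b)) E').restrictScalars
            R) := IsLocalizedModule.restrictScalars_powers b _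
      let e : LocalizedModule (Submonoid.powers b) E' ≃ₗ[R] E'' :=
        IsLocalizedModule.iso (Submonoid.powers b)
          ((LocalizedModule.mkLinearMap (Submonoid.powers (algebraMap R R' b)) E').restrictScalars
            R)
      have h1 : IsZero ((localCohomology a (m + 1)).obj ((L b).obj M)) :=
        IsZero.of_iso (ih E'' m) ((localCohomology a (m + 1)).mapIso e.toModuleIso)
      exact e1.isZero_of_both_isZero h1 h3

end Groth.Agent.Helper1.LocCohRestr
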