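import Mathlib
import Groth.Prelude.Def_ega3
import Groth.Agent.Helper1.KoszulBot
import Groth.Agent.Helper1.GammaInj
import Groth.Agent.Helper1.LocCohRestr

set_option autoImplicit false

/-!
# Effaceability of the limit Koszul cohomology (injective modules over Noetherian rings)
-/

namespace Groth.Agent.Helper1.Koszul
open CategoryTheory Limits CochainComplex HomologicalComplex HomComplex CohIII

universe u
variable {A : Type u} [CommRing A]

lemma ι_naturality {K L : CochainComplex (ModuleCat.{u} A) ℤ} (f f' : A) (a : K ⟶ L) (b : K ⟶ L)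
    (comm : (f • 𝟙 K) ≫ b = a ≫ (f' • 𝟙 L)) (n : ℤ) :
    ι K f n ≫ homologyMap (mappingCone.map (f • 𝟙 K) (f' • 𝟙 L) a b comm) n =
      homologyMap b n ≫ ι L f' n := by
  unfold ι
  rw [← homologyMap_comp, ← homologyMap_comp]
  congr 1
  exact (mappingCone.triangleMap (f • 𝟙 K) (f' • 𝟙 L) a b comm).comm₂

section step

variable {K L : CochainComplex (ModuleCat.{u} A) ℤ} (f f' c : A) (t : K ⟶ L)
  (comm : (f • 𝟙 K) ≫ (c • t) = t ≫ (f' • 𝟙 L)) (j j' : ℤ) (hj : j + 1 = j')

/-- if `bd y` dies under `t` then the image of `y` comes from `H^j(L)` -/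
lemma exists_of_bd_trans_eq_zero (y : (mappingCone (f • 𝟙 K)).homology j)
    (h0 : (homologyMap t j').hom ((bd K f j j' hj).hom y) = 0) :
    ∃ x : L.homology j, (ι L f' j).hom x =
      (homologyMap (mappingCone.map (f • 𝟙 K) (f' • 𝟙 L) t (c • t) comm) j).hom y := by
  apply exists_of_bd_eq_zero L f' j j' hj
  have := bd_naturality f f' t (c • t) comm j j' hj
  have h1 := congrArg (fun k => k.hom y) this
  simp only [ModuleCat.hom_comp, LinearMap.comp_apply] at h1
  rw [h1, h0]

/-- the image of `ι x` under the transition is `ι (c • t x)` -/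
lemma trans_ι (x : K.homology j) :
    (homologyMap (mappingCone.map (f • 𝟙 K) (f' • 𝟙 L) t (c • t) comm) j).hom ((ι K f j).hom x) =
      (ι L f' j).hom (c • (homologyMap t j).hom x) := by
  have := ι_naturality f f' t (c • t) comm j
  have h1 := congrArg (fun k => k.hom x) this
  simp only [ModuleCat.hom_comp, LinearMap.comp_apply] at h1
  rw [h1, homologyMap_smul']
  rfl

end step

section efface

/-- every class dies at a later stage -/
def Dies (fs : List A) (M : ModuleCat.{u} A) (j : ℤ) : Prop :=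
  ∀ (n : ℕ) (x : Hn fs M j n), ∃ m, ∃ h : n ≤ m, tr fs M j n m h x = 0

lemma subsingleton_HLim_iff (fs : List A) (M : ModuleCat.{u} A) (j : ℤ) :
    Subsingleton (HLim fs M j) ↔ Dies fs M j :=
  DirLim.subsingleton_iff (tr fs M j)

lemma trans_comm (M : ModuleCat.{u} A) (f : A) (fs : List A) (n m : ℕ) (h : n ≤ m) :
    (f ^ n • 𝟙 (koszulCx M (fs.map (· ^ n)))) ≫ (f ^ (m - n) • koszulTrans M n m h fs) =
      koszulTrans M n m h fs ≫ (f ^ m • 𝟙 (koszulCx M (fs.map (· ^ m)))) := by
  simp only [Linear.smul_comp, Linear.comp_smul, Category.id_comp, Category.comp_id,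
    smul_smul, ← pow_add, Nat.sub_add_cancel h]

variable [IsNoetherianRing A] (M : Type u) [AddCommGroup M] [Module A M] [Module.Injective A M]

/-- the divisibility step in bottom degree -/
lemma exists_div_bot (f : A) (fs : List A) (j : ℤ) (hj : j = -(fs.length : ℤ)) (m : ℕ)
    (x : Hn fs (ModuleCat.of A M) j m) :
    ∃ k, ∃ h : m ≤ k, ∃ x' : Hn fs (ModuleCat.of A M) j k,
      f ^ k • x' = f ^ (k - m) • tr fs (ModuleCat.of A M) j m k h x := by
  set u : M := botN fs (ModuleCat.of A M) j hj m x with hu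
  have hukill := (mem_range_botMap (ModuleCat.of A M) (fs.map (· ^ m)) j (hd_pow fs j hj m) u).1
    ⟨x, rfl⟩
  have hutors : u ∈ DRing.torsionSub (Ideal.span {a | a ∈ fs}) M := by
    rw [mem_torsionSub_span_iff]
    exact ⟨m, fun g hg => hukill (g ^ m) (List.mem_map.2 ⟨g, hg, rfl⟩)⟩
  haveI : Module.Injective A (DRing.torsionSub (Ideal.span {a | a ∈ fs}) M) :=
    GammaInj.injective_torsionSub (R := A) (E := M) _
  obtain ⟨⟨y', hy'⟩, l, hl⟩ := LocCohRestr.exists_pow_smul_eq f
    (DRing.torsionSub (Ideal.span {a | a ∈ fs}) M) ⟨u, hutors⟩ m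
  have hl' : f ^ (l + m) • y' = f ^ l • u := congrArg Subtype.val hl
  obtain ⟨k', hk'⟩ := (mem_torsionSub_span_iff fs M y').1 hy'
  set k := max (l + m) k' with hk
  have hmk : m ≤ k := le_trans (Nat.le_add_left m l) (le_max_left _ _)
  have hkill : ∀ g ∈ fs.map (· ^ k), g • y' = 0 := by
    intro g hg
    obtain ⟨g₀, hg₀, rfl⟩ := List.mem_map.1 hg
    have : k = (k - k') + k' := (Nat.sub_add_cancel (le_max_right _ _)).symm
    change g₀ ^ k • y' = 0
    rw [this, pow_add, mul_smul, hk' g₀ hg₀, smul_zero]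
  obtain ⟨x', hx'⟩ := (mem_range_botMap (ModuleCat.of A M) (fs.map (· ^ k)) j
    (hd_pow fs j hj k) y').2 hkill
  refine ⟨k, hmk, x', ?_⟩
  apply botMap_injective (ModuleCat.of A M) (fs.map (· ^ k)) j (hd_pow fs j hj k)
  rw [map_smul, map_smul, hx']
  have h1 : (botMap (ModuleCat.of A M) (fs.map (· ^ k)) j (hd_pow fs j hj k)).hom
      (tr fs (ModuleCat.of A M) j m k hmk x) = u := botN_tr fs (ModuleCat.of A M) j hj m k hmk x
  rw [h1]
  have e1 : k = (k - (l + m)) + (l + m) := (Nat.sub_add_cancel (le_max_left _ _)).symm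
  have e2 : k - m = (k - (l + m)) + l := by omega
  rw [e2, pow_add, mul_smul, ← hl', ← mul_smul, ← pow_add, ← e1]

omit [IsNoetherianRing A] in
/-- generic cone step -/
lemma dies_cone_step (f : A) (fs : List A) (N : ModuleCat.{u} A) (j : ℤ)
    (h1 : Dies fs N (j + 1))
    (h2 : ∀ (m : ℕ) (x : Hn fs N j m), ∃ k, ∃ h : m ≤ k, ∃ x' : Hn fs N j k,
      f ^ k • x' = f ^ (k - m) • tr fs N j m k h x) :
    Dies (f :: fs) N j := by
  intro n y
  obtain ⟨m, hnm, hm⟩ := h1 n ((bd (koszulCx N (fs.map (· ^ n))) (f ^ n) j (j + 1) rfl).hom y)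
  obtain ⟨x, hx⟩ := exists_of_bd_trans_eq_zero (f ^ n) (f ^ m) (f ^ (m - n))
    (koszulTrans N n m hnm fs) (trans_comm N f fs n m hnm) j (j + 1) rfl y hm
  obtain ⟨k, hmk, x', hx'⟩ := h2 m x
  refine ⟨k, hnm.trans hmk, ?_⟩
  have h3 := trans_ι (f ^ m) (f ^ k) (f ^ (k - m)) (koszulTrans N m k hmk fs)
    (trans_comm N f fs m k hmk) j x
  have hx'' : f ^ k • x' = f ^ (k - m) • (homologyMap (koszulTrans N m k hmk fs) j).hom x := hx'
  rw [hx, ← hx'', ι_smul] at h3
  have h4 : tr (f :: fs) N j m k hmk (tr (f :: fs) N j n m hnm y) =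
      tr (f :: fs) N j n k (hnm.trans hmk) y :=
    DirectedSystem.map_map (f := fun n m h => tr (f :: fs) N j n m h) hnm hmk y
  rw [← h4]
  exact h3

/-- effaceability: the limit Koszul cohomology of an injective module vanishes above the
bottom degree -/
theorem dies_of_injective : ∀ (fs : List A) (j : ℤ), -(fs.length : ℤ) < j →
    Dies fs (ModuleCat.of A M) j
  | [], j, hj => by
    intro n x
    have hz : IsZero ((koszulCx (ModuleCat.of A M) []).homology j) :=
      isZero_homology_of_isZero_X j (HomologicalComplex.isZero_single_obj_X _ _ _ _ (by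
        simp at hj
        omega))
    refine ⟨n, le_rfl, ?_⟩
    haveI : Subsingleton ((koszulCx (ModuleCat.of A M) []).homology j) :=
      ModuleCat.isZero_iff_subsingleton.1 hz
    exact Subsingleton.elim (α := (koszulCx (ModuleCat.of A M) []).homology j) _ _
  | f :: fs, j, hj => by
    have hj' : -(fs.length : ℤ) < j + 1 := by
      simp only [List.length_cons, Nat.cast_add, Nat.cast_one] at hj
      omega
    apply dies_cone_step f fs _ j (dies_of_injective fs (j + 1) hj')
    by_cases hjr : j = -(fs.length : ℤ)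
    · intro m x
      exact exists_div_bot M f fs j hjr m x
    · have hj'' : -(fs.length : ℤ) < j := by
        simp only [List.length_cons, Nat.cast_add, Nat.cast_one] at hj
        omega
      intro m x
      obtain ⟨k, hmk, hk⟩ := dies_of_injective fs j hj'' m x
      exact ⟨k, hmk, 0, by rw [hk, smul_zero, smul_zero]⟩

end efface

end Groth.Agent.Helper1.Koszul
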