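import Mathlib
import Groth.Prelude.Def_ega3
import Groth.Agent.Helper1.KoszulEfface

set_option autoImplicit false

/-!
# The top map `M → H^r(fs; M)` and its behaviour under the transition maps
-/

namespace Groth.Agent.Helper1.Koszul
open CategoryTheory Limits CochainComplex HomologicalComplex HomComplex CohIII

universe u
variable {A : Type u} [CommRing A]

/-- the top map `M ⟶ H^r(fs; M)` (cochain degree `0`) -/
noncomputable def topMap (M : ModuleCat.{u} A) : ∀ fs : List A, M ⟶ (koszulCx M fs).homology 0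
  | [] => (HomologicalComplex.singleObjHomologySelfIso (ComplexShape.up ℤ) 0 M).inv
  | f :: fs => topMap M fs ≫ ι (koszulCx M fs) f 0

lemma topMap_surjective (M : ModuleCat.{u} A) :
    ∀ fs : List A, Function.Surjective (topMap M fs).hom
  | [] => by
    have : IsIso (topMap M []) := by
      let e : M ≅ (koszulCx M []).homology 0 :=
        (HomologicalComplex.singleObjHomologySelfIso (ComplexShape.up ℤ) 0 M).symm
      have he : topMap M [] = e.hom := rfl
      rw [he]
      infer_instance
    exact ((ConcreteCategory.isIso_iff_bijective (topMap M [])).1 this).2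
  | f :: fs => by
    have h1 := topMap_surjective M fs
    have h2 := ι_surjective (koszulCx M fs) f 0 1 (zero_add 1) (isZero_homology_one M fs)
    have : (topMap M (f :: fs)).hom = (ι (koszulCx M fs) f 0).hom ∘ₗ (topMap M fs).hom := rfl
    rw [this]
    exact h2.comp h1

lemma comp_tri' {C : Type*} [Category C] [Preadditive C] [Linear A C] {X Y Y' Z Z' : C}
    (u : X ⟶ Y) (v : Y ⟶ Z) (a : Z ⟶ Z') (b : Y ⟶ Y') (u' : X ⟶ Y') (v' : Y' ⟶ Z') (c P : A)
    (h1 : v ≫ a = (c • b) ≫ v') (h2 : u ≫ b = P • u') :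
    (u ≫ v) ≫ a = (c * P) • (u' ≫ v') := by
  rw [Category.assoc, h1, Linear.smul_comp, Linear.comp_smul, ← Category.assoc, h2,
    Linear.smul_comp, smul_smul]

lemma topMap_trans (M : ModuleCat.{u} A) (n m : ℕ) (h : n ≤ m) :
    ∀ fs : List A, topMap M (fs.map (· ^ n)) ≫ homologyMap (koszulTrans M n m h fs) 0 =
      (fs.prod ^ (m - n)) • topMap M (fs.map (· ^ m))
  | [] => by
    have : homologyMap (koszulTrans M n m h []) 0 = 𝟙 _ := homologyMap_id _ 0
    rw [this, Category.comp_id, List.prod_nil, one_pow, one_smul]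
    rfl
  | f :: fs => by
    have h1 := ι_naturality (f ^ n) (f ^ m) (koszulTrans M n m h fs)
      (f ^ (m - n) • koszulTrans M n m h fs) (trans_comm M f fs n m h) 0
    rw [homologyMap_smul'] at h1
    have ih := topMap_trans M n m h fs
    rw [List.prod_cons, mul_pow]
    exact comp_tri' _ _ _ _ _ _ _ _ h1 ih

/-- vanishing criterion for the top limit Koszul cohomology -/
theorem dies_top_of_prod_pow_mem (fs : List A) (M : ModuleCat.{u} A)
    (h : ∀ t : ℕ, ∃ s, t ≤ s ∧ fs.prod ^ (s - t) ∈ Ideal.span {x | x ∈ fs.map (· ^ s)}) :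
    Dies fs M 0 := by
  intro n x
  obtain ⟨m₀, rfl⟩ := topMap_surjective M (fs.map (· ^ n)) x
  obtain ⟨s, hns, hs⟩ := h n
  refine ⟨s, hns, ?_⟩
  have h1 := congrArg (fun k => k.hom m₀) (topMap_trans M n s hns fs)
  have h2 : tr fs M 0 n s hns ((topMap M (fs.map (· ^ n))).hom m₀) =
      fs.prod ^ (s - n) • (topMap M (fs.map (· ^ s))).hom m₀ := h1
  rw [h2]
  exact smul_homology_eq_zero M (fs.map (· ^ s)) _ hs 0 _

end Groth.Agent.Helper1.Koszul
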