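import Mathlib
import Groth.Prelude.Def_ega3
import Groth.Agent.Helper1.KoszulTopMap
import Groth.Agent.Helper1.KoszulTop

/-!
# Additive maps out of a direct limit of modules; the kernel of the top map
-/

set_option autoImplicit false

namespace Groth.Agent.Helper1.DirLim

universe u v w
variable {B : Type u} [CommRing B]
variable {G : ℕ → Type v} [∀ i, AddCommGroup (G i)] [∀ i, Module B (G i)]
  (f : ∀ i j, i ≤ j → G i →ₗ[B] G j) [DirectedSystem G (f · · ·)]
  {P : Type w} [AddCommGroup P] (g : ∀ i, G i →+ P) (hg : ∀ i j h x, g j (f i j h x) = g i x)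

include hg in
/-- compatible additive maps induce an additive map out of the direct limit -/
theorem exists_addMonoidHom :
    ∃ Φ : Module.DirectLimit G f →+ P, ∀ i x, Φ (Module.DirectLimit.of B ℕ G f i x) = g i x := by
  let φ : Module.DirectLimit G f → P := fun z =>
    _root_.DirectLimit.lift f (fun i x => g i x) (fun i j h x => (hg i j h x).symm)
      (Module.DirectLimit.linearEquiv G f z)
  have hφ : ∀ i x, φ (Module.DirectLimit.of B ℕ G f i x) = g i x := by
    intro i x
    change _root_.DirectLimit.lift f (fun i x => g i x) _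
      (Module.DirectLimit.linearEquiv G f (Module.DirectLimit.of B ℕ G f i x)) = g i x
    rw [Module.DirectLimit.linearEquiv_of]
    rfl
  refine ⟨{ toFun := φ, map_zero' := ?_, map_add' := ?_ }, hφ⟩
  · have : (0 : Module.DirectLimit G f) = Module.DirectLimit.of B ℕ G f 0 0 := by rw [map_zero]
    rw [this, hφ, map_zero]
  · intro z w
    obtain ⟨i, x, y, rfl, rfl⟩ := Module.DirectLimit.exists_of₂ z w
    rw [← map_add, hφ, hφ, hφ, map_add]

lemma injective_of_forall_injective (Φ : Module.DirectLimit G f →+ P)
    (hΦ : ∀ i x, Φ (Module.DirectLimit.of B ℕ G f i x) = g i x)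
    (hinj : ∀ i, Function.Injective (g i)) : Function.Injective Φ := by
  rw [injective_iff_map_eq_zero]
  intro z hz
  obtain ⟨i, x, rfl⟩ := Module.DirectLimit.exists_of z
  rw [hΦ] at hz
  have : x = 0 := hinj i (by rw [hz, map_zero])
  rw [this, map_zero]

end Groth.Agent.Helper1.DirLim

namespace Groth.Agent.Helper1.Koszul
open CategoryTheory Limits CochainComplex HomologicalComplex HomComplex CohIII

universe u
variable {A : Type u} [CommRing A]

/-- the kernel of the top map is `(fs) M` -/
theorem ker_topMap (M : ModuleCat.{u} A) : ∀ fs : List A,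
    LinearMap.ker (topMap M fs).hom = Ideal.span {x | x ∈ fs} • (⊤ : Submodule A M)
  | [] => by
    have h0 : {x : A | x ∈ ([] : List A)} = ∅ := by ext; simp
    rw [h0, Ideal.span_empty, Submodule.bot_smul]
    have : IsIso (topMap M []) := by
      let e : M ≅ (koszulCx M []).homology 0 :=
        (HomologicalComplex.singleObjHomologySelfIso (ComplexShape.up ℤ) 0 M).symm
      have he : topMap M [] = e.hom := rfl
      rw [he]
      infer_instance
    exact LinearMap.ker_eq_bot.2 ((ConcreteCategory.isIso_iff_bijective (topMap M [])).1 this).1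
  | f :: fs => by
    have ih := ker_topMap M fs
    have hs := topMap_surjective M fs
    have hcomp : ∀ x, (topMap M (f :: fs)).hom x =
        (ι (koszulCx M fs) f 0).hom ((topMap M fs).hom x) := fun x => rfl
    have hspan : Ideal.span {x | x ∈ f :: fs} = Ideal.span {f} ⊔ Ideal.span {x | x ∈ fs} := by
      rw [← Ideal.span_union]
      congr 1
      ext y
      simp
    rw [hspan, Submodule.sup_smul, ← ih]
    ext x
    have hx0 : x ∈ LinearMap.ker (topMap M (f :: fs)).hom ↔
        (topMap M fs).hom x ∈ LinearMap.ker (ι (koszulCx M fs) f 0).hom := Iff.rfl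
    rw [hx0, ker_ι]
    constructor
    · rintro ⟨y, hy⟩
      obtain ⟨x', rfl⟩ := hs y
      have h1 : (topMap M fs).hom (x - f • x') = 0 := by
        rw [map_sub, map_smul]
        rw [← hy]
        simp
      rw [Submodule.mem_sup]
      refine ⟨f • x', ?_, x - f • x', h1, by abel⟩
      exact Submodule.smul_mem_smul (Ideal.mem_span_singleton_self f) Submodule.mem_top
    · intro hx
      rw [Submodule.mem_sup] at hx
      obtain ⟨y, hy, z, hz, rfl⟩ := hx
      rw [map_add, LinearMap.mem_ker.1 hz, add_zero]
      -- `y ∈ (f) M`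
      have : ∃ y', f • y' = y := by
        refine Submodule.smul_induction_on hy ?_ ?_
        · intro r hr n _
          obtain ⟨c, rfl⟩ := Ideal.mem_span_singleton'.1 hr
          exact ⟨c • n, by rw [smul_smul, mul_comm]⟩
        · rintro a b ⟨a', rfl⟩ ⟨b', rfl⟩
          exact ⟨a' + b', smul_add _ _ _⟩
      obtain ⟨y', rfl⟩ := this
      exact ⟨(topMap M fs).hom y', by simp⟩

end Groth.Agent.Helper1.Koszul
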