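import Mathlib

/-!
# The reflection maps on a polynomial ring used to compute the top local cohomology
-/

set_option autoImplicit false

namespace Groth.Agent.Helper1.KoszulPoly
open MvPolynomial

universe u
variable {σ : Type} [Fintype σ] [DecidableEq σ] {A : Type u} [CommRing A]

/-- the box of exponents `< n` -/
noncomputable def box (σ : Type) [Fintype σ] [DecidableEq σ] (n : ℕ) : Finset (σ →₀ ℕ) :=
  (Fintype.piFinset (fun _ : σ => Finset.range n)).map
    (Finsupp.equivFunOnFinite (α := σ) (M := ℕ)).symm.toEmbedding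

lemma mem_box (n : ℕ) (γ : σ →₀ ℕ) : γ ∈ box σ n ↔ ∀ j, γ j < n := by
  unfold box
  rw [Finset.mem_map_equiv, Fintype.mem_piFinset]
  simp

/-- reflection of exponents -/
noncomputable def ρ (n : ℕ) (γ : σ →₀ ℕ) : σ →₀ ℕ :=
  (Finsupp.equivFunOnFinite (α := σ) (M := ℕ)).symm (fun j => n - 1 - γ j)

@[simp] lemma ρ_apply (n : ℕ) (γ : σ →₀ ℕ) (j : σ) : ρ n γ j = n - 1 - γ j := rfl

lemma ρ_mem (n : ℕ) (γ : σ →₀ ℕ) (hn : 0 < n) : ρ n γ ∈ box σ n := by
  rw [mem_box]
  intro j
  rw [ρ_apply]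
  omega

lemma ρ_ρ (n : ℕ) (γ : σ →₀ ℕ) (h : γ ∈ box σ n) : ρ n (ρ n γ) = γ := by
  rw [mem_box] at h
  ext j
  rw [ρ_apply, ρ_apply]
  have := h j
  omega

lemma pos_of_mem_box [Nonempty σ] (n : ℕ) (γ : σ →₀ ℕ) (h : γ ∈ box σ n) : 0 < n := by
  rw [mem_box] at h
  have := h (Classical.arbitrary σ)
  omega

/-- the reflection map -/
noncomputable def Φ (n : ℕ) : MvPolynomial σ A →ₗ[A] MvPolynomial σ A :=
  ∑ γ ∈ box σ n, (monomial γ : A →ₗ[A] MvPolynomial σ A) ∘ₗ (lcoeff A (ρ n γ))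

lemma Φ_apply (n : ℕ) (p : MvPolynomial σ A) :
    Φ n p = ∑ γ ∈ box σ n, monomial γ (coeff (ρ n γ) p) := by
  unfold Φ
  rw [LinearMap.sum_apply]
  rfl

lemma coeff_Φ (n : ℕ) (p : MvPolynomial σ A) (γ : σ →₀ ℕ) :
    coeff γ (Φ n p) = if γ ∈ box σ n then coeff (ρ n γ) p else 0 := by
  rw [Φ_apply, coeff_sum]
  simp only [coeff_monomial]
  rw [Finset.sum_ite_eq' (box σ n) γ]

variable [Nonempty σ]

lemma Φ_eq_zero_iff (n : ℕ) (p : MvPolynomial σ A) :
    Φ n p = 0 ↔ ∀ β ∈ box σ n, coeff β p = 0 := by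
  constructor
  · intro h β hβ
    have h1 := coeff_Φ n p (ρ n β)
    rw [h, coeff_zero, if_pos (ρ_mem n β (pos_of_mem_box n β hβ)), ρ_ρ n β hβ] at h1
    exact h1.symm
  · intro h
    ext γ
    rw [coeff_Φ, coeff_zero]
    split_ifs with hγ
    · exact h _ (ρ_mem n γ (pos_of_mem_box n γ hγ))
    · rfl

/-- the monomial ideal `(X_j^n)` -/
lemma mem_span_pow_iff (n : ℕ) (p : MvPolynomial σ A) :
    p ∈ Ideal.span (Set.range fun j : σ => (X j : MvPolynomial σ A) ^ n) ↔
      ∀ β ∈ box σ n, coeff β p = 0 := by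
  have hset : (Set.range fun j : σ => (X j : MvPolynomial σ A) ^ n) =
      (fun s => monomial s (1 : A)) '' (Set.range fun j : σ => Finsupp.single j n) := by
    ext x
    simp only [Set.mem_range, Set.mem_image, exists_exists_eq_and, X_pow_eq_monomial]
  rw [hset, mem_ideal_span_monomial_image]
  constructor
  · intro h β hβ
    by_contra hne
    obtain ⟨_, ⟨j, rfl⟩, hj⟩ := h β (mem_support_iff.2 hne)
    rw [mem_box] at hβ
    have h1 := hj j
    rw [Finsupp.single_eq_same] at h1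
    have := hβ j
    omega
  · intro h β hβ
    have hβ' : β ∉ box σ n := fun hb => (mem_support_iff.1 hβ) (h β hb)
    rw [mem_box] at hβ'
    push Not at hβ'
    obtain ⟨j, hj⟩ := hβ'
    refine ⟨_, ⟨j, rfl⟩, ?_⟩
    intro i
    by_cases hij : j = i
    · subst hij
      show (Finsupp.single j n) j ≤ β j
      rw [Finsupp.single_eq_same]
      exact hj
    · show (Finsupp.single j n) i ≤ β i
      rw [Finsupp.single_eq_of_ne' hij]
      exact Nat.zero_le _

lemma Φ_eq_zero_iff_mem (n : ℕ) (p : MvPolynomial σ A) :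
    Φ n p = 0 ↔ p ∈ Ideal.span (Set.range fun j : σ => (X j : MvPolynomial σ A) ^ n) := by
  rw [Φ_eq_zero_iff, mem_span_pow_iff]

/-- the all ones exponent -/
noncomputable def ones (σ : Type) [Fintype σ] : σ →₀ ℕ :=
  (Finsupp.equivFunOnFinite (α := σ) (M := ℕ)).symm (fun _ => 1)

@[simp] lemma ones_apply (j : σ) : ones σ j = 1 := rfl

lemma prod_X : (∏ j : σ, (X j : MvPolynomial σ A)) = monomial (ones σ) 1 := by
  have h : ones σ = ∑ j : σ, Finsupp.single j 1 := by
    ext i
    rw [ones_apply, Finsupp.coe_finsetSum, Finset.sum_apply]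
    simp [Finsupp.single_apply]
  rw [h, monomial_sum_one]
  rfl

lemma Φ_prod_pow_mul (n m : ℕ) (h : n ≤ m) (p : MvPolynomial σ A) :
    Φ m ((∏ j : σ, (X j : MvPolynomial σ A)) ^ (m - n) * p) = Φ n p := by
  rw [prod_X, monomial_pow, one_pow]
  ext γ
  rw [coeff_Φ, coeff_Φ, coeff_monomial_mul', one_mul]
  by_cases hγ : γ ∈ box σ n
  · have hγm : γ ∈ box σ m := by
      rw [mem_box] at hγ ⊢
      intro j
      have := hγ j
      omega
    rw [if_pos hγ, if_pos hγm]
    rw [mem_box] at hγ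
    have hle : (m - n) • ones σ ≤ ρ m γ := by
      intro j
      rw [Finsupp.smul_apply, ones_apply, ρ_apply, smul_eq_mul, mul_one]
      have := hγ j
      omega
    rw [if_pos hle]
    congr 1
    ext j
    rw [Finsupp.tsub_apply, Finsupp.smul_apply, ones_apply, ρ_apply, ρ_apply, smul_eq_mul, mul_one]
    have := hγ j
    omega
  · rw [if_neg hγ]
    split_ifs with hγm hle
    · exfalso
      rw [mem_box] at hγ hγm
      push Not at hγ
      obtain ⟨j, hj⟩ := hγ
      have h1 := hle j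
      rw [Finsupp.smul_apply, ones_apply, ρ_apply, smul_eq_mul, mul_one] at h1
      have := hγm j
      omega
    · rfl
    · rfl

lemma Φ_Φ (n : ℕ) (q : MvPolynomial σ A) (hq : ∀ β ∈ q.support, β ∈ box σ n) :
    Φ n (Φ n q) = q := by
  ext γ
  rw [coeff_Φ]
  split_ifs with hγ
  · rw [coeff_Φ, if_pos (ρ_mem n γ (pos_of_mem_box n γ hγ)), ρ_ρ n γ hγ]
  · by_contra hne
    exact hγ (hq γ (mem_support_iff.2 (Ne.symm hne)))

lemma exists_box (q : MvPolynomial σ A) : ∃ n, ∀ β ∈ q.support, β ∈ box σ n := by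
  refine ⟨q.totalDegree + 1, fun β hβ => ?_⟩
  rw [mem_box]
  intro j
  have h1 := le_totalDegree hβ
  have h2 : β j ≤ β.sum fun _ e => e := by
    by_cases hj : j ∈ β.support
    · exact Finset.single_le_sum (f := fun i => β i) (fun _ _ => Nat.zero_le _) hj
    · rw [Finsupp.notMem_support_iff.1 hj]
      exact Nat.zero_le _
  omega

lemma Φ_C_mul (n : ℕ) (a : A) (p : MvPolynomial σ A) : Φ n (C a * p) = a • Φ n p := by
  rw [← smul_eq_C_mul, map_smul]

end Groth.Agent.Helper1.KoszulPoly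

namespace Groth.Agent.Helper1.KoszulPoly
open MvPolynomial

universe u
variable {A : Type u} [CommRing A]

lemma single_le_iff {σ : Type} [DecidableEq σ] (j : σ) (n : ℕ) (β : σ →₀ ℕ) :
    Finsupp.single j n ≤ β ↔ n ≤ β j := by
  constructor
  · intro h
    have := h j
    rwa [Finsupp.single_eq_same] at this
  · intro h i
    by_cases hij : j = i
    · subst hij
      rwa [Finsupp.single_eq_same]
    · rw [Finsupp.single_eq_of_ne' hij]
      exact Nat.zero_le _

/-- the powers of the variables form a weakly regular sequence -/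
theorem isWeaklyRegular_X_pow (k n : ℕ) :
    RingTheory.Sequence.IsWeaklyRegular (MvPolynomial (Fin k) A)
      (List.ofFn (fun j : Fin k => (X j : MvPolynomial (Fin k) A) ^ n)) := by
  constructor
  intro i hi
  rw [List.length_ofFn] at hi
  rw [isSMulRegular_quotient_iff_mem_of_smul_mem]
  have hJ : (Ideal.ofList ((List.ofFn (fun j : Fin k => (X j : MvPolynomial (Fin k) A) ^ n)).take i) •
      (⊤ : Submodule (MvPolynomial (Fin k) A) (MvPolynomial (Fin k) A))) =
      Ideal.span ((fun s => monomial s (1 : A)) ''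
        {s | ∃ j : Fin k, j.val < i ∧ s = Finsupp.single j n}) := by
    rw [smul_eq_mul, Ideal.mul_top]
    unfold Ideal.ofList
    congr 1
    ext x
    simp only [Set.mem_setOf_eq, Set.mem_image]
    rw [List.mem_take_iff_getElem]
    constructor
    · rintro ⟨m, hm, rfl⟩
      rw [List.length_ofFn] at hm
      have hmk : m < k := by omega
      refine ⟨Finsupp.single ⟨m, hmk⟩ n, ⟨⟨m, hmk⟩, by simp only; omega, rfl⟩, ?_⟩
      rw [List.getElem_ofFn, X_pow_eq_monomial]
    · rintro ⟨s, ⟨j, hj, rfl⟩, rfl⟩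
      refine ⟨j.val, by rw [List.length_ofFn]; have := j.2; omega, ?_⟩
      rw [List.getElem_ofFn, X_pow_eq_monomial]
  rw [hJ]
  intro x hx
  rw [mem_ideal_span_monomial_image] at hx ⊢
  intro β hβ
  rw [List.getElem_ofFn, X_pow_eq_monomial, smul_eq_mul] at hx
  have h1 : Finsupp.single (⟨i, hi⟩ : Fin k) n + β ∈
      (monomial (Finsupp.single (⟨i, hi⟩ : Fin k) n) (1 : A) * x).support := by
    rw [mem_support_iff, coeff_monomial_mul, one_mul]
    exact mem_support_iff.1 hβ
  obtain ⟨_, ⟨j, hj, rfl⟩, hle⟩ := hx _ h1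
  refine ⟨_, ⟨j, hj, rfl⟩, ?_⟩
  rw [single_le_iff] at hle ⊢
  have hne : (⟨i, hi⟩ : Fin k) ≠ j := by
    intro h
    rw [← h] at hj
    simp at hj
  rwa [Finsupp.add_apply, Finsupp.single_eq_of_ne' hne, zero_add] at hle

end Groth.Agent.Helper1.KoszulPoly
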