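import Mathlib
import Groth.Prelude.Def_ega3
import Groth.Agent.Helper1.KoszulPoly1
import Groth.Agent.Helper1.KoszulPoly2
import Groth.Agent.Helper1.KoszulReg
import Groth.Agent.Helper1.KoszulLim

/-!
# Limit Koszul cohomology of a polynomial ring with respect to the variables
-/

set_option autoImplicit false

namespace Groth.Agent.Helper1.KoszulPoly
open CategoryTheory Limits CochainComplex HomologicalComplex HomComplex CohIII MvPolynomial
open Groth.Agent.Helper1.Koszul Groth.Agent.Helper1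

universe u

lemma exists_factor {X Y Z : Type*} [AddCommGroup X] [AddCommGroup Y] [AddCommGroup Z]
    (τ : X →+ Y) (hτ : Function.Surjective τ) (φ : X →+ Z) (h : ∀ x, τ x = 0 → φ x = 0) :
    ∃ g : Y →+ Z, ∀ x, g (τ x) = φ x := by
  refine ⟨τ.liftOfRightInverse (Function.surjInv hτ) (Function.rightInverse_surjInv hτ)
    ⟨φ, fun x hx => h x hx⟩, fun x => ?_⟩
  exact τ.liftOfRightInverse_comp_apply _ _ _ x

variable (A : Type u) [CommRing A] (r : ℕ)

/-- the list of variables -/
noncomputable def fsX : List (MvPolynomial (Fin (r + 1)) A) :=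
  List.ofFn (fun j : Fin (r + 1) => (X j : MvPolynomial (Fin (r + 1)) A))

/-- the polynomial ring as a module over itself -/
noncomputable abbrev MS : ModuleCat.{u} (MvPolynomial (Fin (r + 1)) A) :=
  ModuleCat.of (MvPolynomial (Fin (r + 1)) A) (MvPolynomial (Fin (r + 1)) A)

lemma fsX_map_pow (n : ℕ) : (fsX A r).map (· ^ n) =
    List.ofFn (fun j : Fin (r + 1) => (X j : MvPolynomial (Fin (r + 1)) A) ^ n) := by
  unfold fsX
  rw [List.map_ofFn]
  rfl

lemma fsX_length : (fsX A r).length = r + 1 := by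
  unfold fsX
  rw [List.length_ofFn]

lemma fsX_prod : (fsX A r).prod = ∏ j : Fin (r + 1), (X j : MvPolynomial (Fin (r + 1)) A) := by
  unfold fsX
  rw [List.prod_ofFn]

/-- vanishing of the limit Koszul cohomology outside the top degree -/
theorem subsingleton_HLim (j : ℤ) (hj : j ≠ 0) : Subsingleton (HLim (fsX A r) (MS A r) j) := by
  rw [subsingleton_HLim_iff]
  intro n x
  refine ⟨n, le_rfl, ?_⟩
  have h1 : IsZero ((koszulCx (MS A r) ((fsX A r).map (· ^ n))).homology j) := by
    rw [fsX_map_pow]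
    exact isZero_homology_of_isWeaklyRegular _ (MvPolynomial (Fin (r + 1)) A)
      (isWeaklyRegular_X_pow (r + 1) n) j hj
  have : Subsingleton ((koszulCx (MS A r) ((fsX A r).map (· ^ n))).homology j) :=
    ModuleCat.isZero_iff_subsingleton.1 h1
  exact Subsingleton.elim _ _

section top

/-- the top maps at level `n` -/
noncomputable def τ (n : ℕ) : MvPolynomial (Fin (r + 1)) A →ₗ[MvPolynomial (Fin (r + 1)) A]
    Hn (fsX A r) (MS A r) 0 n :=
  (topMap (MS A r) ((fsX A r).map (· ^ n))).hom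

lemma τ_surjective (n : ℕ) : Function.Surjective (τ A r n) :=
  topMap_surjective (MS A r) _

lemma τ_eq_zero_iff (n : ℕ) (p : MvPolynomial (Fin (r + 1)) A) :
    τ A r n p = 0 ↔ Φ n p = 0 := by
  rw [Φ_eq_zero_iff_mem]
  have h1 := ker_topMap (MS A r) ((fsX A r).map (· ^ n))
  have h2 : p ∈ LinearMap.ker (topMap (MS A r) ((fsX A r).map (· ^ n))).hom ↔ τ A r n p = 0 :=
    Iff.rfl
  rw [← h2, h1, smul_eq_mul, Ideal.mul_top, fsX_map_pow]
  have h3 : {x | x ∈ List.ofFn (fun j : Fin (r + 1) => (X j : MvPolynomial (Fin (r + 1)) A) ^ n)} =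
      Set.range fun j : Fin (r + 1) => (X j : MvPolynomial (Fin (r + 1)) A) ^ n := by
    ext x
    rw [Set.mem_setOf_eq, List.mem_ofFn, Set.mem_range]
  rw [h3]

lemma τ_tr (n m : ℕ) (h : n ≤ m) (p : MvPolynomial (Fin (r + 1)) A) :
    tr (fsX A r) (MS A r) 0 n m h (τ A r n p) =
      τ A r m ((∏ j : Fin (r + 1), (X j : MvPolynomial (Fin (r + 1)) A)) ^ (m - n) * p) := by
  have h1 := congrArg (fun k => k.hom p) (topMap_trans (MS A r) n m h (fsX A r))
  have h2 : tr (fsX A r) (MS A r) 0 n m h (τ A r n p) =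
      (fsX A r).prod ^ (m - n) • τ A r m p := h1
  rw [h2, fsX_prod, ← map_smul, smul_eq_mul]

/-- the comparison maps at level `n` -/
noncomputable def gN (n : ℕ) : Hn (fsX A r) (MS A r) 0 n →+ MvPolynomial (Fin (r + 1)) A :=
  (exists_factor (τ A r n).toAddMonoidHom (τ_surjective A r n) (Φ n).toAddMonoidHom
    (fun x hx => (τ_eq_zero_iff A r n x).1 hx)).choose

lemma gN_τ (n : ℕ) (p : MvPolynomial (Fin (r + 1)) A) : gN A r n (τ A r n p) = Φ n p :=
  (exists_factor (τ A r n).toAddMonoidHom (τ_surjective A r n) (Φ n).toAddMonoidHom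
    (fun x hx => (τ_eq_zero_iff A r n x).1 hx)).choose_spec p

lemma gN_injective (n : ℕ) : Function.Injective (gN A r n) := by
  rw [injective_iff_map_eq_zero]
  intro h hh
  obtain ⟨p, rfl⟩ := τ_surjective A r n h
  rw [gN_τ] at hh
  exact (τ_eq_zero_iff A r n p).2 hh

lemma gN_tr (n m : ℕ) (h : n ≤ m) (x : Hn (fsX A r) (MS A r) 0 n) :
    gN A r m (tr (fsX A r) (MS A r) 0 n m h x) = gN A r n x := by
  obtain ⟨p, rfl⟩ := τ_surjective A r n x
  rw [τ_tr, gN_τ, gN_τ, Φ_prod_pow_mul n m h]

/-- the comparison map on the limit -/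
noncomputable def gLim : HLim (fsX A r) (MS A r) 0 →+ MvPolynomial (Fin (r + 1)) A :=
  (DirLim.exists_addMonoidHom (tr (fsX A r) (MS A r) 0) (gN A r) (gN_tr A r)).choose

lemma gLim_of (n : ℕ) (x : Hn (fsX A r) (MS A r) 0 n) :
    gLim A r (Module.DirectLimit.of _ ℕ _ (tr (fsX A r) (MS A r) 0) n x) = gN A r n x :=
  (DirLim.exists_addMonoidHom (tr (fsX A r) (MS A r) 0) (gN A r) (gN_tr A r)).choose_spec n x

lemma gLim_injective : Function.Injective (gLim A r) :=
  DirLim.injective_of_forall_injective (tr (fsX A r) (MS A r) 0) (gN A r) (gLim A r)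
    (gLim_of A r) (gN_injective A r)

lemma gLim_surjective : Function.Surjective (gLim A r) := by
  intro q
  obtain ⟨n, hn⟩ := exists_box q
  refine ⟨Module.DirectLimit.of _ ℕ _ (tr (fsX A r) (MS A r) 0) n (τ A r n (Φ n q)), ?_⟩
  rw [gLim_of, gN_τ, Φ_Φ n q hn]

lemma gLim_smul (a : A) (z : HLim (fsX A r) (MS A r) 0) :
    gLim A r ((C a : MvPolynomial (Fin (r + 1)) A) • z) = a • gLim A r z := by
  obtain ⟨n, x, rfl⟩ := Module.DirectLimit.exists_of z
  obtain ⟨p, rfl⟩ := τ_surjective A r n x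
  rw [← map_smul, ← map_smul, gLim_of, gLim_of, smul_eq_mul, gN_τ, gN_τ, Φ_C_mul]

/-- the top limit Koszul cohomology of the polynomial ring is a free module over the base -/
theorem free_HLim (j : ℤ) (hj : j = 0) :
    Module.Free A (RestrictScalars A (MvPolynomial (Fin (r + 1)) A)
      (HLim (fsX A r) (MS A r) j)) := by
  subst hj
  let e₀ : RestrictScalars A (MvPolynomial (Fin (r + 1)) A) (HLim (fsX A r) (MS A r) 0) →ₗ[A]
      MvPolynomial (Fin (r + 1)) A :=
    { toFun := fun z => gLim A r (RestrictScalars.addEquiv A _ _ z)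
      map_add' := fun z w => by rw [map_add, map_add]
      map_smul' := fun a z => by
        rw [RingHom.id_apply, ← gLim_smul]
        rfl }
  have hbij : Function.Bijective e₀ := by
    constructor
    · intro z w hzw
      exact (RestrictScalars.addEquiv A _ _).injective (gLim_injective A r hzw)
    · intro q
      obtain ⟨z, hz⟩ := gLim_surjective A r q
      exact ⟨(RestrictScalars.addEquiv A _ _).symm z, hz⟩
  exact Module.Free.of_equiv (LinearEquiv.ofBijective e₀ hbij).symm

end top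

end Groth.Agent.Helper1.KoszulPoly
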