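import Groth.Agent.Helper1.CohTopCech
import Groth.Agent.S0453

/-!
# Exactness of restriction to an open subspace, and the comparison `Hⁿ(U, F) ≅ Hⁿ(U, F|_U)`
-/

namespace Groth.Agent.Helper1.CohTopFun

open CategoryTheory Limits Opposite TopologicalSpace Abelian
open Groth.Agent.Lead.CohTopB
open Groth.Agent.Helper1.DeltaCmp
open Groth.Agent.Helper1.CechTop
open Groth.Agent.Helper1.CohTopExt

universe u

/-- an additive left exact functor between abelian categories which preserves epimorphisms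
preserves finite colimits -/
lemma preservesFiniteColimits_of_epi {A B : Type*} [Category A] [Category B] [Abelian A] [Abelian B]
    (G : A ⥤ B) [G.Additive] [PreservesFiniteLimits G]
    (h : ∀ {P Q : A} (f : P ⟶ Q), Epi f → Epi (G.map f)) : PreservesFiniteColimits G := by
  rw [Functor.preservesFiniteColimits_iff_forall_exact_map_and_epi]
  intro S hS
  refine ⟨?_, h S.g hS.epi_g⟩
  exact ((Functor.preservesFiniteLimits_iff_forall_exact_map_and_mono G).1 inferInstance S hS).1

variable {X : TopCat.{u}} (U : Opens X)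

/-- the image in `X` of an open of the subspace `U` -/
noncomputable abbrev jObj (V : Opens (TopCat.of U)) : Opens X :=
  U.isOpenEmbedding.isOpenMap.functor.obj V

lemma jObj_le (V : Opens (TopCat.of U)) : jObj U V ≤ U := by
  rintro _ ⟨y, -, rfl⟩
  exact y.2

lemma jObj_top : jObj U ⊤ = U := by
  apply le_antisymm (jObj_le U ⊤)
  intro x hx
  exact ⟨⟨x, hx⟩, trivial, rfl⟩

lemma mem_jObj {V : Opens (TopCat.of U)} (x : U) : (x : X) ∈ jObj U V ↔ x ∈ V := by
  constructor
  · rintro ⟨y, hy, hxy⟩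
    have : y = x := Subtype.ext hxy
    exact this ▸ hy
  · intro hx
    exact ⟨x, hx, rfl⟩

lemma restr_epi {F G : CohTop.Ab X} (φ : F ⟶ G) (hφ : Epi φ) :
    Epi ((CohTop.restrFunctor U).map φ) := by
  refine (TopCat.Sheaf.isLocallySurjective_iff_epi ((CohTop.restrFunctor U).map φ)).mp ?_
  rw [TopCat.Presheaf.isLocallySurjective_iff]
  have h1 := (TopCat.Presheaf.isLocallySurjective_iff φ.hom).mp
    ((TopCat.Sheaf.isLocallySurjective_iff_epi φ).mpr hφ)
  intro V s x hx
  obtain ⟨W, hW, ⟨t, ht⟩, hxW⟩ := h1 (jObj U V) s x.1 ((mem_jObj U x).2 hx)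
  let V' : Opens (TopCat.of U) := (Opens.map (U.inclusion')).obj W ⊓ V
  have hV'W : jObj U V' ≤ W := by
    rintro _ ⟨y, hy, rfl⟩
    exact hy.1
  have hV'V : V' ≤ V := inf_le_right
  refine ⟨V', hV'V, ⟨F.obj.map (homOfLE hV'W).op t, ?_⟩, ⟨hxW, hx⟩⟩
  have h2 := NatTrans.naturality_apply φ.hom (homOfLE hV'W).op t
  show φ.hom.app (op (jObj U V')) (F.obj.map (homOfLE hV'W).op t) =
    G.obj.map (U.isOpenEmbedding.isOpenMap.functor.map (homOfLE hV'V)).op s
  rw [h2, ht]
  show G.obj.map _ (G.obj.map _ s) = _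
  rw [← ConcreteCategory.comp_apply, ← G.obj.map_comp]
  rfl

instance : PreservesFiniteColimits (CohTop.restrFunctor U) :=
  preservesFiniteColimits_of_epi _ (fun φ hφ => restr_epi U φ hφ)

instance isFlasque_restr (F : CohTop.Ab X) [hF : TopCat.Sheaf.IsFlasque F] :
    TopCat.Sheaf.IsFlasque (CohTop.restr F U) where
  epi {V V'} i := hF.epi (U.isOpenEmbedding.isOpenMap.functor.map i.unop).op

/-- the constant sheaf `ℤ` -/
noncomputable abbrev constZ (Y : TopCat.{u}) : CohTop.Ab Y :=
  (constantSheaf (Opens.grothendieckTopology Y) AddCommGrpCat.{u}).obj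
    (AddCommGrpCat.of (ULift.{u} ℤ))

/-- the derived functors of `F ↦ Γ(U, F|_U)` -/
noncomputable abbrev HrSeq (n : ℕ) : CohTop.Ab X ⥤ AddCommGrpCat.{u} :=
  extSeq (CohTop.restrFunctor U) (constZ (TopCat.of U)) n

/-- `F(j ⊤) ≃+ F(U)` -/
noncomputable def topEquiv (F : CohTop.Ab X) :
    (CohTop.restr F U).obj.obj (op ⊤) ≃+ F.obj.obj (op U) :=
  (F.obj.mapIso (eqToIso (congrArg op (jObj_top U)))).addCommGroupIsoToAddEquiv

lemma topEquiv_apply (F : CohTop.Ab X) (a : (CohTop.restr F U).obj.obj (op ⊤)) :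
    topEquiv U F a = F.obj.map (eqToHom (congrArg op (jObj_top U))) a := rfl

/-- `H⁰(U, F|_U) ≅ F(U)`, naturally in `F` -/
noncomputable def restr0Iso : HrSeq U 0 ≅ sectionsFunctor U :=
  NatIso.ofComponents (fun F =>
    ((Sheaf.H.equiv₀ (CohTop.restr F U) isTerminalTop).trans (topEquiv U F)).toAddCommGrpIso)
    (by
      intro F G φ
      apply AddCommGrpCat.hom_ext
      apply AddMonoidHom.ext
      intro x
      show topEquiv U G (Sheaf.H.equiv₀ (CohTop.restr G U) isTerminalTop
          (Sheaf.H.map ((CohTop.restrFunctor U).map φ) 0 x)) =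
        φ.hom.app (op U) (topEquiv U F (Sheaf.H.equiv₀ (CohTop.restr F U) isTerminalTop x))
      rw [← Sheaf.H.equiv₀_naturality, topEquiv_apply, topEquiv_apply]
      exact (NatTrans.naturality_apply φ.hom (eqToHom (congrArg op (jObj_top U))) _).symm)

lemma isZero_HrSeq_of_injective (I : CohTop.Ab X) [Injective I] (n : ℕ) :
    IsZero ((HrSeq U (n + 1)).obj I) := by
  have : TopCat.Sheaf.IsFlasque I := isFlasque_of_injective I
  have : Subsingleton ((HrSeq U (n + 1)).obj I) := Groth.Agent.S0453.result (CohTop.restr I U) n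
  exact AddCommGrpCat.isZero_of_subsingleton _

theorem nonempty_iso_HU_restr (n : ℕ) (F : CohTop.Ab X) :
    Nonempty ((HUSeq U n).obj F ≅ (HrSeq U n).obj F) := by
  have e : HUSeq U 0 ≅ HrSeq U 0 := ext0Iso U ≪≫ (restr0Iso U).symm
  have key : ∀ F : CohTop.Ab X, True →
      Nonempty (Effacement (fun n => HUSeq U n) (fun n => HrSeq U n) (fun _ => True) F) := by
    intro F _
    obtain ⟨S, hS, hI, rfl⟩ : ∃ (S : ShortComplex (CohTop.Ab X)) (_ : S.ShortExact)
        (_ : Injective S.X₂), S.X₁ = F := ⟨injSC F, injSC_shortExact F, inferInstance, rfl⟩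
    have l1 : HasLES (fun n => HUSeq U n) S :=
      hasLES_extSeq (𝟭 (CohTop.Ab X)) (freeU U) S hS
    have l2 : HasLES (fun n => HrSeq U n) S :=
      hasLES_extSeq (CohTop.restrFunctor U) (constZ (TopCat.of U)) S hS
    exact ⟨{
      S := S
      iso := rfl
      mem := trivial
      zero := fun n => isZero_HUSeq_of_injective _ _ n
      zero' := fun n => isZero_HrSeq_of_injective U _ n
      les := l1
      les' := l2 }⟩
  exact nonempty_iso (fun _ => True) e key n F trivial

end Groth.Agent.Helper1.CohTopFun
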