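import Groth.Agent.Helper1.CechBasic
import Groth.Prelude.Def_CohTop

/-!
# Čech complexes for families of opens of a topological space
-/

namespace Groth.Agent.Helper1.CechTop

open CategoryTheory Limits Opposite TopologicalSpace
open Groth.Agent.Helper1.Cech

universe u

variable {X : TopCat.{u}} {ι : Type u} (U : ι → Opens X)

lemma prodU_le {n : ℕ} (x : Fin (n + 1) → ι) (k : Fin (n + 1)) : prodU U x ≤ U (x k) :=
  (Pi.π (U ∘ x) k).le

lemma le_prodU {n : ℕ} (x : Fin (n + 1) → ι) {W : Opens X} (h : ∀ k, W ≤ U (x k)) :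
    W ≤ prodU U x :=
  (Pi.lift (fun k => homOfLE (h k)) : W ⟶ prodU U x).le

lemma prodU_le_iSup {n : ℕ} (x : Fin (n + 1) → ι) : prodU U x ≤ iSup U :=
  (prodU_le U x 0).trans (le_iSup U _)

lemma prodU_eq {n : ℕ} (x : Fin (n + 1) → ι) : prodU U x = ⨅ k, U (x k) :=
  le_antisymm (le_iInf (prodU_le U x)) (le_prodU U x (fun k => iInf_le _ k))

lemma prodU_face_le {n : ℕ} (j : Fin (n + 2)) (x : Fin (n + 2) → ι) :
    prodU U x ≤ prodU U (x ∘ j.succAbove) := (face U j x).le

variable (P : (Opens X)ᵒᵖ ⥤ AddCommGrpCat.{u})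

/-- restriction of a component of a cochain to a smaller open -/
noncomputable def rc {n : ℕ} (c : (cx U P).X n) (x : Fin (n + 1) → ι) (W : Opens X)
    (h : W ≤ prodU U x) : P.obj (op W) :=
  P.map (homOfLE h).op (comp U P n x c)

variable {U P}

lemma rc_congr {n : ℕ} (c : (cx U P).X n) {x x' : Fin (n + 1) → ι} (hx : x = x') (W : Opens X)
    (h : W ≤ prodU U x) (h' : W ≤ prodU U x') : rc U P c x W h = rc U P c x' W h' := by
  subst hx
  rfl

lemma rc_self {n : ℕ} (c : (cx U P).X n) (x : Fin (n + 1) → ι) :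
    rc U P c x (prodU U x) le_rfl = comp U P n x c := by
  unfold rc
  have : (homOfLE (le_refl (prodU U x))).op = 𝟙 _ := rfl
  rw [this, P.map_id]
  rfl

lemma map_rc {n : ℕ} (c : (cx U P).X n) (x : Fin (n + 1) → ι) {W W' : Opens X}
    (h : W ≤ prodU U x) (f : W' ⟶ W) :
    P.map f.op (rc U P c x W h) = rc U P c x W' (f.le.trans h) := by
  unfold rc
  rw [← ConcreteCategory.comp_apply, ← P.map_comp]
  rfl

lemma rc_add {n : ℕ} (c c' : (cx U P).X n) (x : Fin (n + 1) → ι) (W : Opens X)
    (h : W ≤ prodU U x) : rc U P (c + c') x W h = rc U P c x W h + rc U P c' x W h := by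
  unfold rc
  rw [map_add, map_add]

lemma rc_zero {n : ℕ} (x : Fin (n + 1) → ι) (W : Opens X)
    (h : W ≤ prodU U x) : rc U P (0 : (cx U P).X n) x W h = 0 := by
  unfold rc
  rw [map_zero, map_zero]

lemma rc_sub {n : ℕ} (c c' : (cx U P).X n) (x : Fin (n + 1) → ι) (W : Opens X)
    (h : W ≤ prodU U x) : rc U P (c - c') x W h = rc U P c x W h - rc U P c' x W h := by
  unfold rc
  rw [map_sub, map_sub]

lemma ext_rc {n : ℕ} {c c' : (cx U P).X n}
    (h : ∀ x, rc U P c x (prodU U x) le_rfl = rc U P c' x (prodU U x) le_rfl) : c = c' := by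
  apply Cech.ext
  intro x
  rw [← rc_self, ← rc_self, h]

/-- the differential, restricted to a small open -/
lemma rc_d {n : ℕ} (c : (cx U P).X n) (z : Fin (n + 2) → ι) (W : Opens X)
    (h : W ≤ prodU U z) :
    rc U P ((cx U P).d n (n + 1) c) z W h =
      ∑ j : Fin (n + 2), (-1 : ℤ) ^ (j : ℕ) •
        rc U P c (z ∘ j.succAbove) W (h.trans (prodU_face_le U j z)) := by
  unfold rc
  rw [comp_d, map_sum]
  refine Finset.sum_congr rfl (fun j _ => ?_)
  rw [map_zsmul, ← ConcreteCategory.comp_apply, ← P.map_comp]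
  rfl

/-- functoriality in the presheaf -/
lemma rc_map {Q : (Opens X)ᵒᵖ ⥤ AddCommGrpCat.{u}} (φ : P ⟶ Q) {n : ℕ} (c : (cx U P).X n)
    (x : Fin (n + 1) → ι) (W : Opens X) (h : W ≤ prodU U x) :
    rc U Q (((cechComplexFunctor U).map φ).f n c) x W h = φ.app (op W) (rc U P c x W h) := by
  unfold rc
  rw [Cech.comp_map]
  exact (NatTrans.naturality_apply φ (homOfLE h).op _).symm


section aug

variable (U P) (T : Opens X) (hT : ∀ i, U i ≤ T)

include hT in
lemma prodU_le_of {n : ℕ} (x : Fin (n + 1) → ι) : prodU U x ≤ T :=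
  (prodU_le U x 0).trans (hT _)

/-- the augmentation `P(T) → Č⁰(U, P)` -/
noncomputable def aug (a : P.obj (op T)) : (cx U P).X 0 :=
  Cech.mk (fun x => P.map (homOfLE (prodU_le_of U T hT x)).op a)

variable {U P T}

lemma rc_aug (a : P.obj (op T)) (x : Fin 1 → ι) (W : Opens X) (h : W ≤ prodU U x) :
    rc U P (aug U P T hT a) x W h = P.map (homOfLE (h.trans (prodU_le_of U T hT x))).op a := by
  unfold rc aug
  rw [comp_mk, ← ConcreteCategory.comp_apply, ← P.map_comp]
  rfl

lemma d_aug (a : P.obj (op T)) : (cx U P).d 0 1 (aug U P T hT a) = 0 := by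
  apply ext_rc
  intro z
  rw [rc_d, rc_zero, Fin.sum_univ_two, rc_aug, rc_aug]
  simp

lemma aug_add (a a' : P.obj (op T)) :
    aug U P T hT (a + a') = aug U P T hT a + aug U P T hT a' := by
  apply ext_rc
  intro x
  rw [rc_add, rc_aug, rc_aug, rc_aug, map_add]

lemma aug_sub (a a' : P.obj (op T)) :
    aug U P T hT (a - a') = aug U P T hT a - aug U P T hT a' := by
  apply ext_rc
  intro x
  rw [rc_sub, rc_aug, rc_aug, rc_aug, map_sub]

lemma aug_map {Q : (Opens X)ᵒᵖ ⥤ AddCommGrpCat.{u}} (φ : P ⟶ Q) (a : P.obj (op T)) :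
    ((cechComplexFunctor U).map φ).f 0 (aug U P T hT a) = aug U Q T hT (φ.app (op T) a) := by
  apply ext_rc
  intro x
  rw [rc_map, rc_aug, rc_aug]
  exact NatTrans.naturality_apply φ _ _

end aug

section sheaf

variable (F : CohTop.Ab X)

lemma iSup_le_iSup_prodU : iSup U ≤ iSup (fun x : Fin 1 → ι => prodU U x) := by
  refine iSup_le (fun i => ?_)
  exact (le_prodU U (fun _ => i) (fun _ => le_rfl)).trans
    (le_iSup (fun x : Fin 1 → ι => prodU U x) _)

lemma aug_injective' (T : Opens X) (hT : ∀ i, U i ≤ T) (hcover : T ≤ iSup U)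
    {a a' : F.obj.obj (op T)}
    (h : aug U F.obj T hT a = aug U F.obj T hT a') : a = a' := by
  refine TopCat.Sheaf.eq_of_locally_eq' F (fun x : Fin 1 → ι => prodU U x) T
    (fun x => homOfLE (prodU_le_of U T hT x)) (hcover.trans (iSup_le_iSup_prodU)) a a' ?_
  intro x
  have := congrArg (fun c => rc U F.obj c x (prodU U x) le_rfl) h
  simp only [rc_aug] at this
  exact this

lemma exists_aug_of_cocycle' (T : Opens X) (hT : ∀ i, U i ≤ T) (hcover : T ≤ iSup U)
    (b : (cx U F.obj).X 0) (hb : (cx U F.obj).d 0 1 b = 0) :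
    ∃ a : F.obj.obj (op T), aug U F.obj T hT a = b := by
  have hcomp : TopCat.Presheaf.IsCompatible F.obj (fun x : Fin 1 → ι => prodU U x)
      (fun x => comp U F.obj 0 x b) := by
    intro x y
    let z : Fin 2 → ι := ![x 0, y 0]
    have hz : prodU U x ⊓ prodU U y ≤ prodU U z := by
      apply le_prodU
      intro k
      fin_cases k
      · exact inf_le_left.trans (prodU_le U x 0)
      · exact inf_le_right.trans (prodU_le U y 0)
    have h0 : z ∘ (0 : Fin 2).succAbove = y := by
      funext k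
      fin_cases k
      rfl
    have h1 : z ∘ (1 : Fin 2).succAbove = x := by
      funext k
      fin_cases k
      rfl
    have := congrArg (fun c => rc U F.obj c z (prodU U x ⊓ prodU U y) hz) hb
    simp only [rc_d, rc_zero] at this
    rw [Fin.sum_univ_two, rc_congr b h0 _ _ (inf_le_right), rc_congr b h1 _ _ (inf_le_left)] at this
    simp only [Fin.val_zero, pow_zero, one_smul, Fin.val_one, pow_one, neg_smul] at this
    rw [add_neg_eq_zero] at this
    exact this.symm
  obtain ⟨a, ha, -⟩ := TopCat.Sheaf.existsUnique_gluing' F (fun x : Fin 1 → ι => prodU U x) T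
    (fun x => homOfLE (prodU_le_of U T hT x)) (hcover.trans (iSup_le_iSup_prodU)) _ hcomp
  refine ⟨a, ?_⟩
  apply ext_rc
  intro x
  rw [rc_aug, rc_self]
  exact ha x

lemma aug_injective {a a' : F.obj.obj (op (iSup U))}
    (h : aug U F.obj (iSup U) (le_iSup U) a = aug U F.obj (iSup U) (le_iSup U) a') : a = a' :=
  aug_injective' F (iSup U) (le_iSup U) le_rfl h

lemma exists_aug_of_cocycle (b : (cx U F.obj).X 0) (hb : (cx U F.obj).d 0 1 b = 0) :
    ∃ a : F.obj.obj (op (iSup U)), aug U F.obj (iSup U) (le_iSup U) a = b :=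
  exists_aug_of_cocycle' F (iSup U) (le_iSup U) le_rfl b hb

end sheaf

end Groth.Agent.Helper1.CechTop
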