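import Mathlib
import Groth.Agent.Helper1.CechTop
import Groth.Agent.Helper1.CechLES

set_option autoImplicit false

/-!
# The Čech complex of a family of opens augmented by the global sections

`augCx U P` is the complex `P(⊤) → Č⁰(U, P) → Č¹(U, P) → ⋯` (with `P(⊤)` in degree `0`).
Its cohomology is the kernel (degree `0`) and cokernel (degree `1`, for sheaves) of
`P(⊤) → P(⋃ U)`, and `Ȟ^p(U, P)` in degree `p + 1` for `p ≥ 1`.
-/

namespace Groth.Agent.Helper1.CechAug

open CategoryTheory Limits Opposite TopologicalSpace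
open Groth.Agent.Helper1.Cech Groth.Agent.Helper1.CechTop

section general

universe v u
variable {V : Type u} [Category.{v} V] [HasZeroMorphisms V]

/-- morphisms between augmented complexes -/
def augmentMap {C C' : CochainComplex V ℕ} {X X' : V} (f : X ⟶ C.X 0) (w : f ≫ C.d 0 1 = 0)
    (f' : X' ⟶ C'.X 0) (w' : f' ≫ C'.d 0 1 = 0) (g : X ⟶ X') (φ : C ⟶ C')
    (comm : f ≫ φ.f 0 = g ≫ f') : C.augment f w ⟶ C'.augment f' w' where
  f := fun | 0 => g | n + 1 => φ.f n
  comm' := fun i j hij => by
    obtain rfl : i + 1 = j := hij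
    cases i with
    | zero => exact comm.symm
    | succ n => exact φ.comm n (n + 1)

@[simp] lemma augmentMap_f_zero {C C' : CochainComplex V ℕ} {X X' : V} (f : X ⟶ C.X 0)
    (w : f ≫ C.d 0 1 = 0) (f' : X' ⟶ C'.X 0) (w' : f' ≫ C'.d 0 1 = 0) (g : X ⟶ X') (φ : C ⟶ C')
    (comm : f ≫ φ.f 0 = g ≫ f') : (augmentMap f w f' w' g φ comm).f 0 = g := rfl

@[simp] lemma augmentMap_f_succ {C C' : CochainComplex V ℕ} {X X' : V} (f : X ⟶ C.X 0)
    (w : f ≫ C.d 0 1 = 0) (f' : X' ⟶ C'.X 0) (w' : f' ≫ C'.d 0 1 = 0) (g : X ⟶ X') (φ : C ⟶ C')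
    (comm : f ≫ φ.f 0 = g ≫ f') (n : ℕ) :
    (augmentMap f w f' w' g φ comm).f (n + 1) = φ.f n := rfl

end general

universe u

variable {X : TopCat.{u}} {ι : Type u} (U : ι → Opens X)

section presheaf

variable (P : (Opens X)ᵒᵖ ⥤ AddCommGrpCat.{u})

/-- the augmentation from the global sections, as a morphism of groups -/
noncomputable def augTop : P.obj (op ⊤) ⟶ (cx U P).X 0 :=
  AddCommGrpCat.ofHom
    { toFun := aug U P ⊤ (fun _ => le_top)
      map_zero' := by
        have := aug_sub (U := U) (P := P) (T := ⊤) (fun _ => le_top) 0 0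
        rwa [sub_self, sub_self] at this
      map_add' := aug_add (U := U) (P := P) (T := ⊤) (fun _ => le_top) }

lemma augTop_apply (a : P.obj (op ⊤)) : augTop U P a = aug U P ⊤ (fun _ => le_top) a := rfl

lemma augTop_d : augTop U P ≫ (cx U P).d 0 1 = 0 := by
  apply AddCommGrpCat.hom_ext
  apply AddMonoidHom.ext
  intro a
  exact d_aug (U := U) (P := P) (T := ⊤) (fun _ => le_top) a

/-- the augmented Čech complex -/
noncomputable def augCx : CochainComplex AddCommGrpCat.{u} ℕ :=
  (cx U P).augment (augTop U P) (augTop_d U P)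

lemma augCx_X_zero : (augCx U P).X 0 = P.obj (op ⊤) := rfl
lemma augCx_X_succ (n : ℕ) : (augCx U P).X (n + 1) = (cx U P).X n := rfl
lemma augCx_d_zero : (augCx U P).d 0 1 = augTop U P := rfl
lemma augCx_d_succ (n m : ℕ) : (augCx U P).d (n + 1) (m + 1) = (cx U P).d n m := rfl

variable {P}

lemma augTop_naturality {Q : (Opens X)ᵒᵖ ⥤ AddCommGrpCat.{u}} (φ : P ⟶ Q) :
    augTop U P ≫ ((cechComplexFunctor U).map φ).f 0 = φ.app (op ⊤) ≫ augTop U Q := by
  apply AddCommGrpCat.hom_ext
  apply AddMonoidHom.ext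
  intro a
  exact aug_map (U := U) (T := ⊤) (fun _ => le_top) φ a

/-- functoriality of the augmented Čech complex -/
noncomputable def augMap {Q : (Opens X)ᵒᵖ ⥤ AddCommGrpCat.{u}} (φ : P ⟶ Q) :
    augCx U P ⟶ augCx U Q :=
  augmentMap _ _ _ _ (φ.app (op ⊤)) ((cechComplexFunctor U).map φ) (augTop_naturality U φ)

lemma augMap_f_zero {Q : (Opens X)ᵒᵖ ⥤ AddCommGrpCat.{u}} (φ : P ⟶ Q) :
    (augMap U φ).f 0 = φ.app (op ⊤) := rfl

lemma augMap_f_succ {Q : (Opens X)ᵒᵖ ⥤ AddCommGrpCat.{u}} (φ : P ⟶ Q) (n : ℕ) :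
    (augMap U φ).f (n + 1) = ((cechComplexFunctor U).map φ).f n := rfl

end presheaf

/-- the augmented Čech complex functor -/
noncomputable def augFunctor :
    ((Opens X)ᵒᵖ ⥤ AddCommGrpCat.{u}) ⥤ CochainComplex AddCommGrpCat.{u} ℕ where
  obj P := augCx U P
  map φ := augMap U φ
  map_id P := by
    refine HomologicalComplex.hom_ext _ _ (fun n => ?_)
    cases n with
    | zero => rfl
    | succ n =>
      rw [augMap_f_succ, (cechComplexFunctor U).map_id]
      rfl
  map_comp φ ψ := by
    refine HomologicalComplex.hom_ext _ _ (fun n => ?_)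
    cases n with
    | zero => rfl
    | succ n =>
      rw [augMap_f_succ, (cechComplexFunctor U).map_comp]
      rfl

instance : (augFunctor U).Additive where
  map_add {P Q φ ψ} := by
    refine HomologicalComplex.hom_ext _ _ (fun n => ?_)
    cases n with
    | zero => rfl
    | succ n =>
      change ((cechComplexFunctor U).map (φ + ψ)).f n = _
      rw [(cechComplexFunctor U).map_add]
      rfl

/-- sectionwise exactness on `⊤` and on the finite intersections gives a short exact sequence of
augmented Čech complexes -/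
lemma shortExact_map_aug (S : ShortComplex ((Opens X)ᵒᵖ ⥤ AddCommGrpCat.{u}))
    (htop : (S.map ((evaluation _ _).obj (op ⊤))).ShortExact) (h : SectionwiseExact U S) :
    (S.map (augFunctor U)).ShortExact := by
  apply HomologicalComplex.shortExact_of_degreewise_shortExact
  intro n
  cases n with
  | zero => exact htop
  | succ n =>
    exact shortExact_ab _ (map_f_injective h n) (map_exact h n) (map_g_surjective h n)


section homology

universe w

/-- homology of a complex of abelian groups, concretely -/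
noncomputable def hEquiv (K : CochainComplex AddCommGrpCat.{w} ℕ) (i j k : ℕ)
    (hi : (ComplexShape.up ℕ).prev j = i) (hk : (ComplexShape.up ℕ).next j = k) :
    K.homology j ≃+ ((K.d j k).hom.ker ⧸ AddMonoidHom.range (K.sc' i j k).abToCycles) :=
  ((K.homologyIsoSc' i j k hi hk) ≪≫ (K.sc' i j k).abHomologyIso).addCommGroupIsoToAddEquiv

variable (C : CochainComplex AddCommGrpCat.{w} ℕ) {G : AddCommGrpCat.{w}} (f : G ⟶ C.X 0)
  (w : f ≫ C.d 0 1 = 0)

/-- the augmentation into the cocycles -/
noncomputable def toCyc : G →+ (C.d 0 1).hom.ker :=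
  f.hom.codRestrict _ (fun x => by
    rw [AddMonoidHom.mem_ker, ← ConcreteCategory.comp_apply, w]
    rfl)

lemma toCyc_coe (x : G) : ((toCyc C f w x : (C.d 0 1).hom.ker) : C.X 0) = f x := rfl

/-- `H¹` of an augmented complex -/
noncomputable def h1Equiv :
    (C.augment f w).homology 1 ≃+ (C.d 0 1).hom.ker ⧸ (toCyc C f w).range :=
  hEquiv (C.augment f w) 0 1 2 (by simp) (by simp)

/-- `H⁰` of an augmented complex -/
noncomputable def h0Equiv : (C.augment f w).homology 0 ≃+ f.hom.ker := by
  refine (hEquiv (C.augment f w) 0 0 1 (by simp) (by simp)).trans ?_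
  have h : AddMonoidHom.range ((C.augment f w).sc' 0 0 1).abToCycles = ⊥ := by
    rw [eq_bot_iff]
    rintro _ ⟨x, rfl⟩
    rw [AddSubgroup.mem_bot]
    apply Subtype.ext
    change ((C.augment f w).d 0 0) x = 0
    rw [(C.augment f w).shape 0 0 (by simp)]
    rfl
  exact (QuotientAddGroup.quotientAddEquivOfEq h).trans QuotientAddGroup.quotientBot

/-- `H^{p+2}` of an augmented complex -/
noncomputable def augHomologyIso (p : ℕ) :
    (C.augment f w).homology (p + 2) ≅ C.homology (p + 1) :=
  (C.augment f w).homologyIsoSc' (p + 1) (p + 2) (p + 3) (by simp) (by simp) ≪≫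
    ShortComplex.homologyMapIso (ShortComplex.isoMk (Iso.refl _) (Iso.refl _) (Iso.refl _)
      ((Category.id_comp (C.d p (p + 1))).trans (Category.comp_id (C.d p (p + 1))).symm)
      ((Category.id_comp (C.d (p + 1) (p + 2))).trans
        (Category.comp_id (C.d (p + 1) (p + 2))).symm)) ≪≫
    (C.homologyIsoSc' p (p + 1) (p + 2) (by simp) (by simp)).symm

end homology

section sheaf

variable (F : CohTop.Ab X) (W : Opens X) (hW : ∀ i, U i ≤ W) (hcov : W ≤ iSup U)

include hW in
lemma aug_res (a : F.obj.obj (op ⊤)) :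
    aug U F.obj W hW (F.obj.map (homOfLE (le_top : W ≤ ⊤)).op a) =
      aug U F.obj ⊤ (fun _ => le_top) a := by
  apply ext_rc
  intro x
  rw [rc_aug, rc_aug, ← ConcreteCategory.comp_apply, ← F.obj.map_comp]
  rfl

include hcov in
/-- `H⁰` of the augmented Čech complex of a sheaf: sections over `⊤` vanishing on `⋃ U` -/
noncomputable def h0EquivSheaf :
    (augCx U F.obj).homology 0 ≃+ (F.obj.map (homOfLE (le_top : W ≤ ⊤)).op).hom.ker := by
  refine (h0Equiv (cx U F.obj) (augTop U F.obj) (augTop_d U F.obj)).trans ?_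
  apply AddEquiv.addSubgroupCongr
  ext a
  rw [AddMonoidHom.mem_ker, AddMonoidHom.mem_ker]
  change aug U F.obj ⊤ (fun _ => le_top) a = 0 ↔ F.obj.map (homOfLE (le_top : W ≤ ⊤)).op a = 0
  rw [← aug_res U F W hW]
  have h0 : aug U F.obj W hW 0 = 0 := by
    have := aug_sub (U := U) (P := F.obj) (T := W) hW 0 0
    rwa [sub_self, sub_self] at this
  constructor
  · intro h
    exact aug_injective' F W hW hcov (h.trans h0.symm)
  · intro h
    rw [h, h0]

include hcov in
/-- `H¹` of the augmented Čech complex of a sheaf: the cokernel of the restriction from `⊤` to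
`⋃ U` -/
noncomputable def h1EquivSheaf :
    (augCx U F.obj).homology 1 ≃+
      (F.obj.obj (op W) ⧸ (F.obj.map (homOfLE (le_top : W ≤ ⊤)).op).hom.range) := by
  refine (h1Equiv (cx U F.obj) (augTop U F.obj) (augTop_d U F.obj)).trans ?_
  symm
  let e0 : F.obj.obj (op W) →+ ((cx U F.obj).d 0 1).hom.ker :=
    { toFun := fun a => ⟨aug U F.obj W hW a, d_aug hW a⟩
      map_zero' := by
        apply Subtype.ext
        have := aug_sub (U := U) (P := F.obj) (T := W) hW 0 0
        rwa [sub_self, sub_self] at this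
      map_add' := fun a b => Subtype.ext (aug_add hW a b) }
  have hbij : Function.Bijective e0 := by
    constructor
    · intro a b hab
      exact aug_injective' F W hW hcov (congrArg Subtype.val hab)
    · rintro ⟨b, hb⟩
      obtain ⟨a, ha⟩ := exists_aug_of_cocycle' F W hW hcov b hb
      exact ⟨a, Subtype.ext ha⟩
  let e : F.obj.obj (op W) ≃+ ((cx U F.obj).d 0 1).hom.ker := AddEquiv.ofBijective e0 hbij
  refine QuotientAddGroup.congr _ _ e ?_
  ext z
  constructor
  · rintro ⟨_, ⟨a, rfl⟩, rfl⟩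
    refine ⟨a, ?_⟩
    apply Subtype.ext
    exact (aug_res U F W hW a).symm
  · rintro ⟨a, rfl⟩
    refine ⟨_, ⟨a, rfl⟩, ?_⟩
    apply Subtype.ext
    exact aug_res U F W hW a

/-- `H^{p+2}` of the augmented Čech complex is `Ȟ^{p+1}` -/
noncomputable def hSuccIso (P : (Opens X)ᵒᵖ ⥤ AddCommGrpCat.{u}) (p : ℕ) :
    (augCx U P).homology (p + 2) ≅ (cx U P).homology (p + 1) :=
  augHomologyIso (cx U P) (augTop U P) (augTop_d U P) p

end sheaf

end Groth.Agent.Helper1.CechAug
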