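import Mathlib
import Groth.Agent.Helper1.CechAug

set_option autoImplicit false

/-!
# Comparison of Čech complexes on different sites, and the Čech complex of a direct image

* `cxMap`: a chain map between Čech complexes from compatible maps on the components;
* for a continuous map `f : X ⟶ Y`, a family `U` of opens of `Y` and a presheaf `P` on `X`:
  the (augmented) Čech complex of `f_* P` for `U` is isomorphic to the (augmented) Čech complex of
  `P` for the family `f⁻¹ U`.
-/

namespace Groth.Agent.Helper1.CechPush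

open CategoryTheory Limits Opposite TopologicalSpace
open Groth.Agent.Helper1.Cech Groth.Agent.Helper1.CechTop Groth.Agent.Helper1.CechAug

section general

universe w v v' u u'

variable {D : Type u} [Category.{v} D] [HasFiniteProducts D]
  {D' : Type u'} [Category.{v'} D'] [HasFiniteProducts D'] {ι : Type w}
  (U : ι → D) (U' : ι → D') (Q : Dᵒᵖ ⥤ AddCommGrpCat.{w}) (P : D'ᵒᵖ ⥤ AddCommGrpCat.{w})
  (θ : ∀ (n : ℕ) (x : Fin (n + 1) → ι), Q.obj (op (prodU U x)) ⟶ P.obj (op (prodU U' x)))

/-- the map on cochains induced by maps on components, as an additive map -/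
noncomputable def cxMapAdd (n : ℕ) : (cx U Q).X n →+ (cx U' P).X n where
  toFun c := Cech.mk (fun x => θ n x (comp U Q n x c))
  map_zero' := by
    apply Cech.ext
    intro x
    rw [comp_mk, map_zero, map_zero, map_zero]
  map_add' c c' := by
    apply Cech.ext
    intro x
    rw [comp_mk, map_add, map_add, map_add, comp_mk, comp_mk]

/-- the map on cochains induced by maps on components -/
noncomputable def cxMapF (n : ℕ) : (cx U Q).X n ⟶ (cx U' P).X n :=
  AddCommGrpCat.ofHom (cxMapAdd U U' Q P θ n)

lemma comp_cxMapF (n : ℕ) (x : Fin (n + 1) → ι) (c : (cx U Q).X n) :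
    comp U' P n x (cxMapF U U' Q P θ n c) = θ n x (comp U Q n x c) :=
  comp_mk _ _

lemma cxMapF_bijective (n : ℕ) (hθ : ∀ x, Function.Bijective (θ n x)) :
    Function.Bijective (cxMapF U U' Q P θ n) := by
  constructor
  · intro c c' h
    apply Cech.ext
    intro x
    apply (hθ x).1
    rw [← comp_cxMapF, ← comp_cxMapF, h]
  · intro c
    have : ∀ x, ∃ a, θ n x a = comp U' P n x c := fun x => (hθ x).2 _
    choose a ha using this
    refine ⟨Cech.mk a, ?_⟩
    apply Cech.ext
    intro x
    rw [comp_cxMapF, comp_mk, ha]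

variable (hθ : ∀ (n : ℕ) (j : Fin (n + 2)) (x : Fin (n + 2) → ι),
    Q.map (face U j x).op ≫ θ (n + 1) x = θ n (x ∘ j.succAbove) ≫ P.map (face U' j x).op)

/-- the chain map between Čech complexes induced by compatible maps on components -/
noncomputable def cxMap : cx U Q ⟶ cx U' P where
  f := cxMapF U U' Q P θ
  comm' i j hij := by
    obtain rfl : i + 1 = j := hij
    apply AddCommGrpCat.hom_ext
    apply AddMonoidHom.ext
    intro c
    apply Cech.ext
    intro x
    change comp U' P (i + 1) x ((cx U' P).d i (i + 1) (cxMapF U U' Q P θ i c)) =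
      comp U' P (i + 1) x (cxMapF U U' Q P θ (i + 1) ((cx U Q).d i (i + 1) c))
    rw [comp_cxMapF, comp_d, comp_d, map_sum]
    refine Finset.sum_congr rfl (fun j _ => ?_)
    rw [map_zsmul, comp_cxMapF]
    congr 1
    exact (ConcreteCategory.congr_hom (hθ i j x) (comp U Q i (x ∘ j.succAbove) c)).symm

lemma cxMap_f (n : ℕ) : (cxMap U U' Q P θ hθ).f n = cxMapF U U' Q P θ n := rfl

end general

section push

universe u

variable {X Y : TopCat.{u}} (f : X ⟶ Y) {ι : Type u} (U : ι → Opens Y) (U' : ι → Opens X)
  (hU : ∀ i, U' i = (Opens.map f).obj (U i)) (P : (Opens X)ᵒᵖ ⥤ AddCommGrpCat.{u})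

include hU in
lemma prodU_le_map {n : ℕ} (x : Fin (n + 1) → ι) :
    prodU U' x ≤ (Opens.map f).obj (prodU U x) := by
  intro p hp
  have h1 : ∀ k, p ∈ U' (x k) := fun k => prodU_le U' x k hp
  have h2 : f p ∈ prodU U x := by
    rw [prodU_eq, ← SetLike.mem_coe, Opens.coe_iInf]
    simp only [Set.mem_iInter, SetLike.mem_coe]
    intro k
    have := h1 k
    rw [hU] at this
    exact this
  exact h2

include hU in
lemma map_le_prodU {n : ℕ} (x : Fin (n + 1) → ι) :
    (Opens.map f).obj (prodU U x) ≤ prodU U' x := by
  apply le_prodU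
  intro k
  rw [hU]
  exact (Opens.map f).monotone (prodU_le U x k)

/-- the components of the comparison -/
noncomputable def θ (n : ℕ) (x : Fin (n + 1) → ι) :
    ((Opens.map f).op ⋙ P).obj (op (prodU U x)) ⟶ P.obj (op (prodU U' x)) :=
  P.map (homOfLE (prodU_le_map f U U' hU x)).op

lemma θ_bijective (n : ℕ) (x : Fin (n + 1) → ι) : Function.Bijective (θ f U U' hU P n x) := by
  have : IsIso (θ f U U' hU P n x) := by
    refine ⟨P.map (homOfLE (map_le_prodU f U U' hU x)).op, ?_, ?_⟩
    · unfold θ
      rw [← P.map_comp]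
      exact P.map_id _
    · unfold θ
      rw [← P.map_comp]
      exact P.map_id _
  exact ConcreteCategory.bijective_of_isIso _

lemma θ_comm (n : ℕ) (j : Fin (n + 2)) (x : Fin (n + 2) → ι) :
    ((Opens.map f).op ⋙ P).map (face U j x).op ≫ θ f U U' hU P (n + 1) x =
      θ f U U' hU P n (x ∘ j.succAbove) ≫ P.map (face U' j x).op := by
  unfold θ
  rw [Functor.comp_map, ← P.map_comp, ← P.map_comp]
  rfl

/-- the comparison of Čech complexes -/
noncomputable def pushMap : cx U ((Opens.map f).op ⋙ P) ⟶ cx U' P :=
  cxMap U U' _ P (θ f U U' hU P) (θ_comm f U U' hU P)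

/-- the comparison in degree `-1` -/
noncomputable def θtop : ((Opens.map f).op ⋙ P).obj (op ⊤) ⟶ P.obj (op ⊤) :=
  P.map (homOfLE (le_top : (⊤ : Opens X) ≤ (Opens.map f).obj ⊤)).op

lemma θtop_bijective : Function.Bijective (θtop f P) := by
  have : IsIso (θtop f P) := by
    refine ⟨P.map (homOfLE (fun _ _ => trivial : (Opens.map f).obj ⊤ ≤ (⊤ : Opens X))).op, ?_, ?_⟩
    · unfold θtop
      rw [← P.map_comp]
      exact P.map_id _
    · unfold θtop
      rw [← P.map_comp]
      exact P.map_id _
  exact ConcreteCategory.bijective_of_isIso _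

lemma augTop_comm :
    augTop U ((Opens.map f).op ⋙ P) ≫ (pushMap f U U' hU P).f 0 = θtop f P ≫ augTop U' P := by
  apply AddCommGrpCat.hom_ext
  apply AddMonoidHom.ext
  intro a
  apply ext_rc
  intro x
  change rc U' P (cxMapF U U' _ P (θ f U U' hU P) 0 (augTop U _ a)) x (prodU U' x) le_rfl =
    rc U' P (augTop U' P (θtop f P a)) x (prodU U' x) le_rfl
  rw [rc_self, comp_cxMapF, augTop_apply, augTop_apply, rc_aug, ← rc_self, rc_aug]
  unfold θ θtop
  rw [← ConcreteCategory.comp_apply, ← ConcreteCategory.comp_apply, Functor.comp_map,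
    ← P.map_comp, ← P.map_comp]
  rfl

/-- the comparison of augmented Čech complexes -/
noncomputable def pushAugMap : augCx U ((Opens.map f).op ⋙ P) ⟶ augCx U' P :=
  augmentMap _ _ _ _ (θtop f P) (pushMap f U U' hU P) (augTop_comm f U U' hU P)

instance : IsIso (pushMap f U U' hU P) := by
  have : ∀ n, IsIso ((pushMap f U U' hU P).f n) := fun n =>
    (ConcreteCategory.isIso_iff_bijective _).2
      (cxMapF_bijective U U' _ P (θ f U U' hU P) n (θ_bijective f U U' hU P n))
  exact HomologicalComplex.Hom.isIso_of_components _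

instance : IsIso (pushAugMap f U U' hU P) := by
  have : ∀ n, IsIso ((pushAugMap f U U' hU P).f n) := by
    intro n
    cases n with
    | zero => exact (ConcreteCategory.isIso_iff_bijective _).2 (θtop_bijective f P)
    | succ n =>
      exact (ConcreteCategory.isIso_iff_bijective _).2
        (cxMapF_bijective U U' _ P (θ f U U' hU P) n (θ_bijective f U U' hU P n))
  exact HomologicalComplex.Hom.isIso_of_components _

/-- Čech cohomology of a direct image -/
noncomputable def pushHomologyIso (n : ℕ) :
    (cx U ((Opens.map f).op ⋙ P)).homology n ≅ (cx U' P).homology n :=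
  (HomologicalComplex.homologyFunctor _ _ n).mapIso (asIso (pushMap f U U' hU P))

/-- augmented Čech cohomology of a direct image -/
noncomputable def pushAugHomologyIso (n : ℕ) :
    (augCx U ((Opens.map f).op ⋙ P)).homology n ≅ (augCx U' P).homology n :=
  (HomologicalComplex.homologyFunctor _ _ n).mapIso (asIso (pushAugMap f U U' hU P))

end push

end Groth.Agent.Helper1.CechPush
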