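import Mathlib
import Groth.Agent.Helper9.LimHom

set_option autoImplicit false

/-!
# Homology of a direct sum decomposition of a complex of abelian groups

If chain maps `φ n : K n ⟶ L` of complexes of abelian groups induce bijections
`⨁ n, (K n).X q ≃ L.X q` in every degree, they induce bijections
`⨁ n, (K n).homology q ≃ L.homology q`.
-/

namespace Groth.Agent.Helper1.DSHom

open CategoryTheory Limits DirectSum
open Groth.Agent.Helper9.LimHom

universe u

section general

variable {J : Type*} [DecidableEq J] {α β γ : J → Type*} [∀ i, AddCommGroup (α i)]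
  [∀ i, AddCommGroup (β i)] [∀ i, AddCommGroup (γ i)]

lemma map_injective (f : ∀ i, α i →+ β i) (hf : ∀ i, Function.Injective (f i)) :
    Function.Injective (DirectSum.map f) := by
  intro x y h
  apply DirectSum.ext
  intro i
  apply hf i
  rw [← DirectSum.map_apply, ← DirectSum.map_apply, h]

lemma map_surjective (f : ∀ i, α i →+ β i) (hf : ∀ i, Function.Surjective (f i)) :
    Function.Surjective (DirectSum.map f) := by
  intro y
  induction y using DirectSum.induction_on with
  | zero => exact ⟨0, map_zero _⟩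
  | of i b =>
    obtain ⟨a, rfl⟩ := hf i b
    exact ⟨DirectSum.of α i a, DirectSum.map_of f i a⟩
  | add x y hx hy =>
    obtain ⟨a, rfl⟩ := hx
    obtain ⟨b, rfl⟩ := hy
    exact ⟨a + b, map_add _ _ _⟩

lemma map_exact (f : ∀ i, α i →+ β i) (g : ∀ i, β i →+ γ i)
    (h : ∀ i (b : β i), g i b = 0 → ∃ a, f i a = b) (y : ⨁ i, β i)
    (hy : DirectSum.map g y = 0) : ∃ x, DirectSum.map f x = y := by
  classical
  have h1 : ∀ i, ∃ a, f i a = y i := by
    intro i
    apply h
    rw [← DirectSum.map_apply, hy]
    rfl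
  choose a ha using h1
  refine ⟨∑ i ∈ DFinsupp.support y, DirectSum.of α i (a i), ?_⟩
  rw [map_sum]
  conv_rhs => rw [← DirectSum.sum_support_of y]
  refine Finset.sum_congr rfl (fun i _ => ?_)
  rw [DirectSum.map_of, ha]

end general

section cx

variable {J : Type} [DecidableEq J] {ι' : Type*} {c : ComplexShape ι'}
  (K : J → HomologicalComplex AddCommGrpCat.{u} c) (L : HomologicalComplex AddCommGrpCat.{u} c)
  (φ : ∀ n, K n ⟶ L)

/-- the comparison map on cochains -/
noncomputable def ΦX (q : ι') : (⨁ n, ((K n).X q : AddCommGrpCat.{u})) →+ (L.X q : AddCommGrpCat.{u}) :=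
  DirectSum.toAddMonoid (fun n => ((φ n).f q).hom)

/-- the comparison map on cycles -/
noncomputable def ΦZ (q : ι') :
    (⨁ n, ((K n).cycles q : AddCommGrpCat.{u})) →+ (L.cycles q : AddCommGrpCat.{u}) :=
  DirectSum.toAddMonoid (fun n => (HomologicalComplex.cyclesMap (φ n) q).hom)

/-- the comparison map on homology -/
noncomputable def ΦH (q : ι') :
    (⨁ n, ((K n).homology q : AddCommGrpCat.{u})) →+ (L.homology q : AddCommGrpCat.{u}) :=
  DirectSum.toAddMonoid (fun n => (HomologicalComplex.homologyMap (φ n) q).hom)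

lemma N1 (q : ι') (zz : ⨁ n, ((K n).cycles q : AddCommGrpCat.{u})) :
    (L.iCycles q).hom (ΦZ K L φ q zz) =
      ΦX K L φ q (DirectSum.map (fun n => ((K n).iCycles q).hom) zz) := by
  induction zz using DirectSum.induction_on with
  | zero => simp
  | of n z =>
    rw [DirectSum.map_of]
    unfold ΦZ ΦX
    rw [DirectSum.toAddMonoid_of, DirectSum.toAddMonoid_of]
    exact cyclesMap_i_apply (φ n) q z
  | add x y hx hy => rw [map_add, map_add, map_add, map_add, hx, hy]

lemma N2 (q : ι') (zz : ⨁ n, ((K n).cycles q : AddCommGrpCat.{u})) :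
    (L.homologyπ q).hom (ΦZ K L φ q zz) =
      ΦH K L φ q (DirectSum.map (fun n => ((K n).homologyπ q).hom) zz) := by
  induction zz using DirectSum.induction_on with
  | zero => simp
  | of n z =>
    rw [DirectSum.map_of]
    unfold ΦZ ΦH
    rw [DirectSum.toAddMonoid_of, DirectSum.toAddMonoid_of]
    exact (homologyπ_nat_apply (φ n) q z).symm
  | add x y hx hy => rw [map_add, map_add, map_add, map_add, hx, hy]

lemma N3 (q q' : ι') (x : ⨁ n, ((K n).X q : AddCommGrpCat.{u})) :
    (L.d q q').hom (ΦX K L φ q x) =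
      ΦX K L φ q' (DirectSum.map (fun n => ((K n).d q q').hom) x) := by
  induction x using DirectSum.induction_on with
  | zero => simp
  | of n z =>
    rw [DirectSum.map_of]
    unfold ΦX
    rw [DirectSum.toAddMonoid_of, DirectSum.toAddMonoid_of]
    exact comm_apply (φ n) q q' z
  | add x y hx hy => rw [map_add, map_add, map_add, map_add, hx, hy]

lemma N4 (p q : ι') (x : ⨁ n, ((K n).X p : AddCommGrpCat.{u})) :
    (L.toCycles p q).hom (ΦX K L φ p x) =
      ΦZ K L φ q (DirectSum.map (fun n => ((K n).toCycles p q).hom) x) := by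
  induction x using DirectSum.induction_on with
  | zero => simp
  | of n z =>
    rw [DirectSum.map_of]
    unfold ΦX ΦZ
    rw [DirectSum.toAddMonoid_of, DirectSum.toAddMonoid_of]
    exact (toCycles_nat_apply (φ n) p q z).symm
  | add x y hx hy => rw [map_add, map_add, map_add, map_add, hx, hy]

variable (hφ : ∀ q, Function.Bijective (ΦX K L φ q))

include hφ in
lemma ΦZ_bijective (q : ι') : Function.Bijective (ΦZ K L φ q) := by
  constructor
  · rw [injective_iff_map_eq_zero]
    intro zz hzz
    have h1 : ΦX K L φ q (DirectSum.map (fun n => ((K n).iCycles q).hom) zz) = 0 := by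
      rw [← N1, hzz, map_zero]
    have h2 := (hφ q).1 (h1.trans (map_zero _).symm)
    exact map_injective _ (fun n => iCycles_injective (K n) q) (h2.trans (map_zero _).symm)
  · intro z
    obtain ⟨x, hx⟩ := (hφ q).2 ((L.iCycles q).hom z)
    have h1 : DirectSum.map (fun n => ((K n).d q (c.next q)).hom) x = 0 := by
      apply (hφ (c.next q)).1
      rw [← N3, hx, iCycles_d_apply, map_zero]
    obtain ⟨zz, hzz⟩ := map_exact (fun n => ((K n).iCycles q).hom)
      (fun n => ((K n).d q (c.next q)).hom)
      (fun n b hb => exists_cycle (K n) q (c.next q) rfl b hb) x h1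
    refine ⟨zz, ?_⟩
    apply iCycles_injective L q
    rw [N1, hzz, hx]

include hφ in
/-- **homology of a direct sum decomposition** -/
theorem ΦH_bijective (q : ι') : Function.Bijective (ΦH K L φ q) := by
  constructor
  · rw [injective_iff_map_eq_zero]
    intro hh hhh
    obtain ⟨zz, rfl⟩ := map_surjective (fun n => ((K n).homologyπ q).hom)
      (fun n => homologyπ_surjective (K n) q) hh
    rw [← N2] at hhh
    obtain ⟨w, hw⟩ := exists_boundary L (c.prev q) q rfl _ hhh
    obtain ⟨ww, rfl⟩ := (hφ (c.prev q)).2 w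
    rw [N4] at hw
    have h1 := (ΦZ_bijective K L φ hφ q).1 hw
    rw [← h1]
    apply DirectSum.ext
    intro n
    rw [DirectSum.map_apply, DirectSum.map_apply]
    exact toCycles_homologyπ_apply (K n) (c.prev q) q _
  · intro h
    obtain ⟨z, rfl⟩ := homologyπ_surjective L q h
    obtain ⟨zz, rfl⟩ := (ΦZ_bijective K L φ hφ q).2 z
    exact ⟨_, (N2 K L φ q zz).symm⟩

end cx

end Groth.Agent.Helper1.DSHom
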