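import Mathlib
import Groth.Agent.Helper1.CechAug

set_option autoImplicit false

/-!
# Acyclicity of the augmented Čech complex when restriction to one member of the family is
bijective on all the relevant opens
-/

namespace Groth.Agent.Helper1.CechAug

open CategoryTheory Limits Opposite TopologicalSpace
open Groth.Agent.Helper1.Cech Groth.Agent.Helper1.CechTop

universe u

variable {X : TopCat.{u}} {ι : Type u} (U : ι → Opens X)
  (P : (Opens X)ᵒᵖ ⥤ AddCommGrpCat.{u}) (j : ι)

lemma cons_comp_succAbove_zero {n : ℕ} (z : Fin (n + 1) → ι) :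
    (Fin.cons j z : Fin (n + 2) → ι) ∘ (0 : Fin (n + 2)).succAbove = z := by
  funext k
  simp [Fin.succAbove_zero]

lemma cons_comp_succAbove_succ {n : ℕ} (z : Fin (n + 2) → ι) (k : Fin (n + 2)) :
    (Fin.cons j z : Fin (n + 3) → ι) ∘ k.succ.succAbove =
      (Fin.cons j (z ∘ k.succAbove) : Fin (n + 2) → ι) := by
  funext l
  refine Fin.cases ?_ (fun l' => ?_) l
  · simp
  · simp [Fin.succ_succAbove_succ]

lemma inf_le_prodU_cons {n : ℕ} (x : Fin (n + 1) → ι) :
    prodU U x ⊓ U j ≤ prodU U (Fin.cons j x : Fin (n + 2) → ι) := by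
  apply le_prodU
  intro k
  refine Fin.cases ?_ (fun k' => ?_) k
  · simpa using (inf_le_right : prodU U x ⊓ U j ≤ U j)
  · simpa using (inf_le_left : prodU U x ⊓ U j ≤ prodU U x).trans (prodU_le U x k')

variable (H : ∀ (n : ℕ) (x : Fin (n + 1) → ι),
    Function.Bijective (P.map (homOfLE (inf_le_left : prodU U x ⊓ U j ≤ prodU U x)).op))
  (Htop : Function.Bijective (P.map (homOfLE (inf_le_left : (⊤ : Opens X) ⊓ U j ≤ ⊤)).op))

include H in
/-- acyclicity in Čech degrees `≥ 1` -/
lemma exists_of_cocycle_succ (n : ℕ) (c : (cx U P).X (n + 1))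
    (hc : (cx U P).d (n + 1) (n + 2) c = 0) :
    ∃ b : (cx U P).X n, (cx U P).d n (n + 1) b = c := by
  have hβ : ∀ x : Fin (n + 1) → ι, ∃ β : P.obj (op (prodU U x)),
      P.map (homOfLE (inf_le_left : prodU U x ⊓ U j ≤ prodU U x)).op β =
        rc U P c (Fin.cons j x) (prodU U x ⊓ U j) (inf_le_prodU_cons U j x) :=
    fun x => (H n x).2 _
  choose β hβ using hβ
  refine ⟨Cech.mk β, ?_⟩
  apply ext_rc
  intro z
  apply (H (n + 1) z).1
  rw [map_rc, map_rc, rc_d]
  -- the cocycle condition at `cons j z`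
  have h0 := congrArg (fun c' => rc U P c' (Fin.cons j z) (prodU U z ⊓ U j)
    (inf_le_prodU_cons U j z)) hc
  simp only [rc_zero] at h0
  rw [rc_d, Fin.sum_univ_succ] at h0
  have e0 : rc U P c ((Fin.cons j z : Fin (n + 3) → ι) ∘ (0 : Fin (n + 3)).succAbove)
      (prodU U z ⊓ U j) ((inf_le_prodU_cons U j z).trans (prodU_face_le U 0 _)) =
      rc U P c z (prodU U z ⊓ U j) inf_le_left :=
    rc_congr c (cons_comp_succAbove_zero j z) _ _ _
  rw [e0] at h0
  simp only [Fin.val_zero, pow_zero, one_smul] at h0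
  rw [eq_neg_of_add_eq_zero_left h0, ← Finset.sum_neg_distrib]
  refine Finset.sum_congr rfl (fun k _ => ?_)
  have e1 : rc U P c ((Fin.cons j z : Fin (n + 3) → ι) ∘ k.succ.succAbove)
      (prodU U z ⊓ U j) ((inf_le_prodU_cons U j z).trans (prodU_face_le U k.succ _)) =
      rc U P c (Fin.cons j (z ∘ k.succAbove)) (prodU U z ⊓ U j)
        ((inf_le_inf_right _ (prodU_face_le U k z)).trans (inf_le_prodU_cons U j _)) :=
    rc_congr c (cons_comp_succAbove_succ j z k) _ _ _
  rw [e1, Fin.val_succ, pow_succ, mul_neg_one, neg_smul, neg_neg]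
  congr 1
  -- the component of `mk β`
  have e2 : rc U P (Cech.mk β) (z ∘ k.succAbove) (prodU U z ⊓ U j)
      (inf_le_left.trans (prodU_face_le U k z)) =
      P.map (homOfLE (inf_le_inf_right _ (prodU_face_le U k z))).op
        (P.map (homOfLE (inf_le_left : prodU U (z ∘ k.succAbove) ⊓ U j ≤ _)).op
          (β (z ∘ k.succAbove))) := by
    unfold rc
    rw [comp_mk, ← ConcreteCategory.comp_apply, ← P.map_comp]
    rfl
  rw [e2, hβ, map_rc]

include H Htop in
/-- acyclicity in Čech degree `0` (augmented) -/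
lemma exists_of_cocycle_zero (c : (cx U P).X 0) (hc : (cx U P).d 0 1 c = 0) :
    ∃ b : P.obj (op ⊤), augTop U P b = c := by
  let x0 : Fin 1 → ι := fun _ => j
  have hx0 : (⊤ : Opens X) ⊓ U j ≤ prodU U x0 := le_prodU U x0 (fun _ => inf_le_right)
  obtain ⟨b, hb⟩ := Htop.2 (rc U P c x0 (⊤ ⊓ U j) hx0)
  refine ⟨b, ?_⟩
  rw [augTop_apply]
  apply ext_rc
  intro x
  apply (H 0 x).1
  rw [map_rc, map_rc, rc_aug]
  have e1 : P.map (homOfLE ((inf_le_left : prodU U x ⊓ U j ≤ prodU U x).trans
      (prodU_le_of U ⊤ (fun _ => le_top) x))).op b =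
      P.map (homOfLE (inf_le_inf_right _ le_top : prodU U x ⊓ U j ≤ ⊤ ⊓ U j)).op
        (P.map (homOfLE (inf_le_left : (⊤ : Opens X) ⊓ U j ≤ ⊤)).op b) := by
    rw [← ConcreteCategory.comp_apply, ← P.map_comp]
    rfl
  rw [e1, hb, map_rc]
  -- the cocycle condition at `![x 0, j]`
  let z : Fin 2 → ι := ![x 0, j]
  have hz : prodU U x ⊓ U j ≤ prodU U z := by
    apply le_prodU
    intro k
    fin_cases k
    · exact inf_le_left.trans (prodU_le U x 0)
    · exact inf_le_right
  have h0 : z ∘ (0 : Fin 2).succAbove = x0 := by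
    funext k
    fin_cases k
    rfl
  have h1 : z ∘ (1 : Fin 2).succAbove = x := by
    funext k
    fin_cases k
    rfl
  have h2 := congrArg (fun c' => rc U P c' z (prodU U x ⊓ U j) hz) hc
  simp only [rc_d, rc_zero] at h2
  rw [Fin.sum_univ_two, rc_congr c h0 _ _ (inf_le_right.trans (le_prodU U x0 (fun _ => le_rfl))),
    rc_congr c h1 _ _ inf_le_left] at h2
  simp only [Fin.val_zero, pow_zero, one_smul, Fin.val_one, pow_one, neg_smul] at h2
  rw [add_neg_eq_zero] at h2
  exact h2

include Htop in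
/-- acyclicity in degree `0` of the augmented complex -/
lemma eq_zero_of_augTop_eq_zero (a : P.obj (op ⊤)) (ha : augTop U P a = 0) : a = 0 := by
  let x0 : Fin 1 → ι := fun _ => j
  have hx0 : (⊤ : Opens X) ⊓ U j ≤ prodU U x0 := le_prodU U x0 (fun _ => inf_le_right)
  apply Htop.1
  rw [map_zero]
  have h := congrArg (fun c' => rc U P c' x0 (⊤ ⊓ U j) hx0) ha
  simp only [rc_zero] at h
  rw [augTop_apply, rc_aug] at h
  exact h

include H Htop in
/-- the augmented Čech complex is acyclic -/
theorem isZero_homology_of_bijective (n : ℕ) : IsZero ((augCx U P).homology n) := by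
  cases n with
  | zero =>
    have e := h0Equiv (cx U P) (augTop U P) (augTop_d U P)
    have : Subsingleton (augTop U P).hom.ker := by
      constructor
      rintro ⟨a, ha⟩ ⟨a', ha'⟩
      apply Subtype.ext
      change a = a'
      rw [eq_zero_of_augTop_eq_zero U P j Htop a ha, eq_zero_of_augTop_eq_zero U P j Htop a' ha']
    have : Subsingleton ((augCx U P).homology 0) := e.toEquiv.subsingleton
    exact AddCommGrpCat.isZero_of_subsingleton _
  | succ n =>
    apply isZero_homology_of_exists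
    cases n with
    | zero => exact fun c hc => exists_of_cocycle_zero U P j H Htop c hc
    | succ n => exact fun c hc => exists_of_cocycle_succ U P j H n c hc

end Groth.Agent.Helper1.CechAug
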