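import Mathlib
import Groth.Agent.Helper1.DeltaFunctor

set_option autoImplicit false

/-!
# Dévissage for δ-functors on modules: torsion / localizations

Let `fs` be a finite list of elements of a commutative ring `A` and `T` a cohomological δ-functor
on `A`-modules which is exact in the middle, vanishes (in all degrees) on modules on which some
`f ∈ fs` acts bijectively, and vanishes in positive degrees on modules all of whose elements are
killed by powers of every `f ∈ fs`.  Then `T^{n+1}(M) ≅ T^n(C(M))` where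
`C(M) = coker (M → ∏_f M_f)`.  Consequently two such δ-functors which agree objectwise in degree
`0` agree objectwise in all degrees.
-/

namespace Groth.Agent.Helper1.TorsLoc
open CategoryTheory Limits
open Groth.Agent.Helper1.DeltaFun

universe u v' u'
variable {A : Type u} [CommRing A]

/-- the product of the localizations `M_f`, `f ∈ fs`, defined recursively -/
noncomputable def Pobj (M : ModuleCat.{u} A) : List A → ModuleCat.{u} A
  | [] => ModuleCat.of A PUnit.{u + 1}
  | f :: fs => ModuleCat.of A (LocalizedModule (Submonoid.powers f) M × Pobj M fs)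

/-- the canonical map `M → ∏_f M_f` -/
noncomputable def φ (M : ModuleCat.{u} A) : ∀ fs : List A, M ⟶ Pobj M fs
  | [] => 0
  | f :: fs => ModuleCat.ofHom
      (LinearMap.prod (LocalizedModule.mkLinearMap (Submonoid.powers f) M) (φ M fs).hom)

lemma φ_cons_apply (M : ModuleCat.{u} A) (f : A) (fs : List A) (x : M) :
    (φ M (f :: fs)).hom x =
      (LocalizedModule.mkLinearMap (Submonoid.powers f) M x, (φ M fs).hom x) := rfl

/-- elements of the kernel of `φ` are killed by powers of all `f ∈ fs` -/
lemma exists_pow_smul_of_φ_eq_zero (M : ModuleCat.{u} A) : ∀ (fs : List A) (x : M),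
    (φ M fs).hom x = 0 → ∀ f ∈ fs, ∃ k : ℕ, f ^ k • x = 0
  | [], x, _, f, hf => by simp at hf
  | g :: fs, x, hx, f, hf => by
    rw [φ_cons_apply] at hx
    have h1 : LocalizedModule.mkLinearMap (Submonoid.powers g) M x = 0 := congrArg Prod.fst hx
    have h2 : (φ M fs).hom x = 0 := congrArg Prod.snd hx
    rcases List.mem_cons.1 hf with rfl | hf'
    · obtain ⟨⟨_, k, rfl⟩, hk⟩ :=
        (IsLocalizedModule.eq_zero_iff (Submonoid.powers f)
          (LocalizedModule.mkLinearMap (Submonoid.powers f) M)).1 h1
      exact ⟨k, hk⟩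
    · exact exists_pow_smul_of_φ_eq_zero M fs x h2 f hf'

/-- the cokernel of `M → ∏_f M_f` -/
noncomputable def Cof (fs : List A) (M : ModuleCat.{u} A) : ModuleCat.{u} A :=
  ModuleCat.of A ((Pobj M fs) ⧸ LinearMap.range (φ M fs).hom)

/-- the first short exact sequence `0 → ker φ → M → im φ → 0` -/
noncomputable abbrev S₁ (fs : List A) (M : ModuleCat.{u} A) : ShortComplex (ModuleCat.{u} A) :=
  (LinearMap.rangeRestrict (φ M fs).hom).shortComplexKer

lemma S₁_shortExact (fs : List A) (M : ModuleCat.{u} A) : (S₁ fs M).ShortExact :=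
  LinearMap.shortExact_shortComplexKer (LinearMap.surjective_rangeRestrict _)

/-- the second short exact sequence `0 → im φ → ∏ M_f → C → 0` -/
noncomputable abbrev S₂ (fs : List A) (M : ModuleCat.{u} A) : ShortComplex (ModuleCat.{u} A) where
  X₁ := ModuleCat.of A (LinearMap.range (φ M fs).hom)
  X₂ := Pobj M fs
  X₃ := Cof fs M
  f := ModuleCat.ofHom (LinearMap.range (φ M fs).hom).subtype
  g := ModuleCat.ofHom (LinearMap.range (φ M fs).hom).mkQ
  zero := by
    ext x
    exact (Submodule.Quotient.mk_eq_zero _).2 x.2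

lemma S₂_shortExact (fs : List A) (M : ModuleCat.{u} A) : (S₂ fs M).ShortExact := by
  apply ModuleCat.shortComplex_shortExact
  · intro y
    constructor
    · intro hy
      have hy' : y ∈ LinearMap.range (φ M fs).hom := (Submodule.Quotient.mk_eq_zero _).1 hy
      exact ⟨⟨y, hy'⟩, rfl⟩
    · rintro ⟨x, rfl⟩
      exact (Submodule.Quotient.mk_eq_zero _).2 x.2
  · exact Subtype.val_injective
  · exact Submodule.mkQ_surjective _

variable {B : Type u'} [Category.{v'} B] [Abelian B]

/-- the hypotheses of the dévissage -/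
structure Dev (T : DeltaFunctor (ModuleCat.{u} A) B) [∀ n, (T.T n).PreservesZeroMorphisms]
    (fs : List A) : Prop where
  exact₂ : ∀ (S : ShortComplex (ModuleCat.{u} A)), S.ShortExact → ∀ n, (S.map (T.T n)).Exact
  bij : ∀ (N : ModuleCat.{u} A) (f : A), f ∈ fs → Function.Bijective (fun x : N => f • x) →
    ∀ n, IsZero ((T.T n).obj N)
  tors : ∀ (N : ModuleCat.{u} A), (∀ f ∈ fs, ∀ x : N, ∃ k : ℕ, f ^ k • x = 0) →
    ∀ n, IsZero ((T.T (n + 1)).obj N)

variable (T : DeltaFunctor (ModuleCat.{u} A) B) [∀ n, (T.T n).PreservesZeroMorphisms]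
  {fs : List A} (h : Dev T fs)

include h in
lemma isZero_Pobj (M : ModuleCat.{u} A) (n : ℕ) : ∀ (gs : List A), (∀ g ∈ gs, g ∈ fs) →
    IsZero ((T.T n).obj (Pobj M gs))
  | [], _ => by
    have hz : IsZero (Pobj M []) := by
      rw [ModuleCat.isZero_iff_subsingleton]
      exact inferInstanceAs (Subsingleton PUnit)
    exact (T.T n).map_isZero hz
  | g :: gs, hg => by
    have ih := isZero_Pobj M n gs (fun g' hg' => hg g' (List.mem_cons_of_mem _ hg'))
    let Mg : Type u := LocalizedModule (Submonoid.powers g) M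
    let S : ShortComplex (ModuleCat.{u} A) :=
      ShortComplex.mk (ModuleCat.ofHom (LinearMap.inl A Mg (Pobj M gs)))
        (ModuleCat.ofHom (LinearMap.snd A Mg (Pobj M gs))) (by ext x; rfl)
    have hS : S.ShortExact := by
      apply ModuleCat.shortComplex_shortExact
      · exact Function.Exact.inl_snd
      · exact LinearMap.inl_injective
      · exact LinearMap.snd_surjective
    have hg0 : IsZero ((T.T n).obj (ModuleCat.of A Mg)) := by
      apply h.bij _ g (hg g List.mem_cons_self)
      have hu := IsLocalizedModule.map_units (LocalizedModule.mkLinearMap (Submonoid.powers g) M)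
        ⟨g, Submonoid.mem_powers g⟩
      rw [Module.End.isUnit_iff] at hu
      exact hu
    have hex := h.exact₂ S hS n
    have hm : Mono (S.map (T.T n)).g := hex.mono_g (hg0.eq_of_src _ _)
    exact @IsZero.of_mono_eq_zero _ _ _ _ _ (S.map (T.T n)).g hm (ih.eq_of_tgt _ _)

include h in
/-- the shift isomorphism of the dévissage -/
theorem shift (M : ModuleCat.{u} A) (n : ℕ) :
    Nonempty ((T.T (n + 1)).obj M ≅ (T.T n).obj (Cof fs M)) := by
  -- first step
  have hK : ∀ k, IsZero ((T.T (k + 1)).obj (S₁ fs M).X₁) := by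
    intro k
    apply h.tors
    intro f hf x
    obtain ⟨k, hk⟩ := exists_pow_smul_of_φ_eq_zero M fs x.1 (by
      have := x.2
      rw [LinearMap.mem_ker] at this
      exact congrArg Subtype.val this) f hf
    exact ⟨k, Subtype.ext hk⟩
  have h1 : IsIso ((T.T (n + 1)).map (S₁ fs M).g) := by
    have hex := h.exact₂ _ (S₁_shortExact fs M) (n + 1)
    have : Mono ((T.T (n + 1)).map (S₁ fs M).g) := hex.mono_g ((hK n).eq_of_src _ _)
    have : Epi ((T.T (n + 1)).map (S₁ fs M).g) :=
      (T.exact₃ _ (S₁_shortExact fs M) (n + 1)).epi_f ((hK (n + 1)).eq_of_tgt _ _)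
    exact isIso_of_mono_of_epi _
  -- second step
  have hP : ∀ k, IsZero ((T.T k).obj (S₂ fs M).X₂) := fun k =>
    isZero_Pobj T h M k fs (fun _ hg => hg)
  have h2 : IsIso (T.δ _ (S₂_shortExact fs M) n) := by
    have : Mono (T.δ _ (S₂_shortExact fs M) n) :=
      (T.exact₃ _ (S₂_shortExact fs M) n).mono_g ((hP n).eq_of_src _ _)
    have : Epi (T.δ _ (S₂_shortExact fs M) n) :=
      (T.exact₁ _ (S₂_shortExact fs M) n).epi_f ((hP (n + 1)).eq_of_tgt _ _)
    exact isIso_of_mono_of_epi _
  exact ⟨asIso ((T.T (n + 1)).map (S₁ fs M).g) ≪≫ (asIso (T.δ _ (S₂_shortExact fs M) n)).symm⟩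

section compare

variable {B' : Type*} [Category B'] [Abelian B']
  (T' : DeltaFunctor (ModuleCat.{u} A) B') [∀ n, (T'.T n).PreservesZeroMorphisms]
  (h' : Dev T' fs)

include h h' in
/-- two dévissable δ-functors which agree objectwise in degree `0` (for a relation `R` invariant
under isomorphisms) agree objectwise in all degrees -/
theorem compare (R : B → B' → Prop)
    (hR : ∀ {X X' : B} {Y Y' : B'}, (X ≅ X') → (Y ≅ Y') → R X Y → R X' Y')
    (h0 : ∀ M, R ((T.T 0).obj M) ((T'.T 0).obj M)) :
    ∀ (n : ℕ) (M : ModuleCat.{u} A), R ((T.T n).obj M) ((T'.T n).obj M) := by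
  intro n
  induction n with
  | zero => exact h0
  | succ n ih =>
    intro M
    obtain ⟨e⟩ := shift T h M n
    obtain ⟨e'⟩ := shift T' h' M n
    exact hR e.symm e'.symm (ih (Cof fs M))

end compare

end Groth.Agent.Helper1.TorsLoc
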