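import Mathlib
import Groth.Prelude.Def_ega3
import Groth.Agent.Helper1.KoszulReg
import Groth.Agent.Helper1.KoszulEfface
import Groth.Agent.Helper1.TorsLoc

set_option autoImplicit false

/-!
# The limit Koszul cohomology satisfies the hypotheses of the torsion/localization dévissage
(no Noetherian hypotheses)
-/

namespace Groth.Agent.Helper1.Koszul
open CategoryTheory Limits CochainComplex HomologicalComplex HomComplex CohIII
open Groth.Agent.Helper1.DeltaFun Groth.Agent.Helper1.TorsLoc

universe u
variable {A : Type u} [CommRing A]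

lemma Hmap_zero (fs : List A) (j : ℤ) {M N : ModuleCat.{u} A} (n : ℕ) :
    Hmap fs j (0 : M ⟶ N) n = 0 := by
  unfold Hmap
  rw [kmap_zero, homologyMap_zero]
  rfl

lemma HLimMap_zero (fs : List A) (j : ℤ) {M N : ModuleCat.{u} A} :
    HLimMap fs j (0 : M ⟶ N) = 0 := by
  apply LinearMap.ext
  intro z
  obtain ⟨n, zn, rfl⟩ := Module.DirectLimit.exists_of z
  have h2 : HLimMap fs j (0 : M ⟶ N) (Module.DirectLimit.of A ℕ _ _ n zn) =
      Module.DirectLimit.of A ℕ _ _ n (Hmap fs j (0 : M ⟶ N) n zn) :=
    Module.DirectLimit.map_apply_of _ _ _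
  rw [h2, Hmap_zero, LinearMap.zero_apply, map_zero, LinearMap.zero_apply]

instance (fs : List A) (j : ℤ) : (Tfun A fs j).PreservesZeroMorphisms where
  map_zero M N := by
    change ModuleCat.ofHom (HLimMap fs j (0 : M ⟶ N)) = 0
    rw [HLimMap_zero]
    rfl

instance (fs : List A) (n : ℕ) : ((koszulDelta fs).T n).PreservesZeroMorphisms :=
  inferInstanceAs (Tfun A fs ((n : ℤ) - fs.length)).PreservesZeroMorphisms

/-- if `a` acts bijectively on `N` and kills the Koszul cohomology, the latter vanishes -/
lemma homology_eq_zero_of_bijective (N : ModuleCat.{u} A) (xs : List A) (a : A)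
    (ha : a ∈ Ideal.span {x | x ∈ xs}) (hbij : Function.Bijective (fun x : N => a • x)) (j : ℤ)
    (z : (koszulCx N xs).homology j) : z = 0 := by
  let e : N ≃ₗ[A] N := LinearEquiv.ofBijective (a • LinearMap.id) hbij
  let v : N ⟶ N := ModuleCat.ofHom e.symm.toLinearMap
  have hv : (a • 𝟙 N) ≫ v = 𝟙 N := by
    ext x
    exact e.symm_apply_apply x
  have h1 : a • kmap v xs = 𝟙 (koszulCx N xs) := by
    rw [← kmap_id, ← hv, kmap_comp, kmap_smul_id, Linear.smul_comp, Category.id_comp]
  have h2 : homologyMap (a • kmap v xs) j = 𝟙 _ := by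
    rw [h1, homologyMap_id]
  rw [homologyMap_smul'] at h2
  have h3 := congrArg (fun g => g.hom z) h2
  have h4 : a • (homologyMap (kmap v xs) j).hom z = z := h3
  rw [← h4, ← map_smul, smul_homology_eq_zero N xs a ha j z, map_zero]

lemma pow_mem_span_map (fs : List A) (f : A) (hf : f ∈ fs) (n : ℕ) :
    f ^ n ∈ Ideal.span {x | x ∈ fs.map (· ^ n)} :=
  Ideal.subset_span (List.mem_map.2 ⟨f, hf, rfl⟩)

lemma subsingleton_HLim_of_bijective (fs : List A) (N : ModuleCat.{u} A) (f : A) (hf : f ∈ fs)
    (hbij : Function.Bijective (fun x : N => f • x)) (j : ℤ) : Subsingleton (HLim fs N j) := by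
  rw [subsingleton_HLim_iff]
  have hb : ∀ n : ℕ, Function.Bijective (fun x : N => f ^ n • x) := by
    intro n
    have : (fun x : N => f ^ n • x) = (fun x : N => f • x)^[n] := by
      funext x
      induction n with
      | zero => simp
      | succ n ih => rw [Function.iterate_succ_apply', ← ih, pow_succ', mul_smul]
    rw [this]
    exact hbij.iterate n
  intro n x
  refine ⟨n, le_rfl, ?_⟩
  have hx : x = 0 := homology_eq_zero_of_bijective N (fs.map (· ^ n)) (f ^ n)
    (pow_mem_span_map fs f hf n) (hb n) j x
  rw [hx, map_zero]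

/-- torsion modules have no limit Koszul cohomology above the bottom degree -/
theorem dies_of_torsion (N : ModuleCat.{u} A) : ∀ (fs : List A) (j : ℤ),
    (∀ g ∈ fs, ∀ x : N, ∃ k : ℕ, g ^ k • x = 0) → -(fs.length : ℤ) < j → Dies fs N j
  | [], j, _, hj => by
    intro n x
    have hz : IsZero ((koszulCx N []).homology j) :=
      isZero_homology_of_isZero_X j (HomologicalComplex.isZero_single_obj_X _ _ _ _ (by
        simp at hj
        omega))
    refine ⟨n, le_rfl, ?_⟩
    have : Subsingleton ((koszulCx N []).homology j) :=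
      ModuleCat.isZero_iff_subsingleton.1 hz
    exact Subsingleton.elim (α := (koszulCx N []).homology j) _ _
  | f :: fs, j, htors, hj => by
    have htors' : ∀ g ∈ fs, ∀ x : N, ∃ k : ℕ, g ^ k • x = 0 :=
      fun g hg => htors g (List.mem_cons_of_mem _ hg)
    have hj' : -(fs.length : ℤ) < j + 1 := by
      simp only [List.length_cons, Nat.cast_add, Nat.cast_one] at hj
      omega
    apply dies_cone_step f fs _ j (dies_of_torsion N fs (j + 1) htors' hj')
    by_cases hjr : j = -(fs.length : ℤ)
    · intro m x
      obtain ⟨l, hl⟩ := htors f List.mem_cons_self (botN fs N j hjr m x)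
      refine ⟨m + l, Nat.le_add_right m l, 0, ?_⟩
      rw [smul_zero]
      apply botMap_injective N (fs.map (· ^ (m + l))) j (hd_pow fs j hjr (m + l))
      rw [map_zero, map_smul]
      have h1 : (botMap N (fs.map (· ^ (m + l))) j (hd_pow fs j hjr (m + l))).hom
          (tr fs N j m (m + l) (Nat.le_add_right m l) x) = botN fs N j hjr m x :=
        botN_tr fs N j hjr m (m + l) (Nat.le_add_right m l) x
      rw [h1, Nat.add_sub_cancel_left, hl]
    · have hj'' : -(fs.length : ℤ) < j := by
        simp only [List.length_cons, Nat.cast_add, Nat.cast_one] at hj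
        omega
      intro m x
      obtain ⟨k, hmk, hk⟩ := dies_of_torsion N fs j htors' hj'' m x
      exact ⟨k, hmk, 0, by rw [hk, smul_zero, smul_zero]⟩

/-- the limit Koszul cohomology satisfies the hypotheses of the dévissage -/
theorem koszulDelta_dev (fs : List A) : Dev (koszulDelta fs) fs where
  exact₂ S hS n := by
    rw [ShortComplex.ShortExact.moduleCat_exact_iff_function_exact]
    exact exact₂_lim fs S hS _
  bij N f hf hbij n := by
    rw [ModuleCat.isZero_iff_subsingleton]
    exact subsingleton_HLim_of_bijective fs N f hf hbij _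
  tors N htors n := by
    rw [ModuleCat.isZero_iff_subsingleton]
    exact (subsingleton_HLim_iff fs N _).2
      (dies_of_torsion N fs _ htors (by push_cast; omega))

end Groth.Agent.Helper1.Koszul
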