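import Mathlib

set_option autoImplicit false

/-!
# Sections of `M~` over basic opens of `Spec R`: exactness, restriction to `D(f)` when `f` acts
bijectively, vanishing for torsion modules, the kernel of the restriction from `⊤`.
-/

namespace Groth.Agent.Helper1.TildeLoc

open CategoryTheory Limits Opposite TopologicalSpace AlgebraicGeometry AlgebraicGeometry.tilde

universe u
variable {R : CommRingCat.{u}}

/-- basic opens of `Spec R`, with the type `(Spec R).Opens` -/
def bO (g : R) : (Spec R).Opens := PrimeSpectrum.basicOpen g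

lemma bO_mul (f g : R) : bO (f * g) = bO f ⊓ bO g := PrimeSpectrum.basicOpen_mul f g

lemma bO_one : bO (1 : R) = ⊤ := PrimeSpectrum.basicOpen_one

lemma bO_mul_le_left (f g : R) : bO (f * g) ≤ bO f := PrimeSpectrum.basicOpen_mul_le_left f g

lemma bO_mul_le_right (f g : R) : bO (f * g) ≤ bO g := PrimeSpectrum.basicOpen_mul_le_right f g

/-- the localization map `M → Γ(M~, W)` -/
noncomputable abbrev tO (M : ModuleCat.{u} R) (W : (Spec R).Opens) : M →ₗ[R] Γ(tilde M, W) :=
  (toOpen M W).hom

/-- restriction of sections of `M~`, as a linear map -/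
noncomputable abbrev resL (M : ModuleCat.{u} R) {W W' : (Spec R).Opens} (h : W' ≤ W) :
    Γ(tilde M, W) →ₗ[R] Γ(tilde M, W') :=
  ((modulesSpecToSheaf.obj (tilde M)).presheaf.map (homOfLE h).op).hom

/-- the map on sections induced by a morphism of modules, as a linear map -/
noncomputable abbrev appL {M N : ModuleCat.{u} R} (f : M ⟶ N) (W : (Spec R).Opens) :
    Γ(tilde M, W) →ₗ[R] Γ(tilde N, W) :=
  ((modulesSpecToSheaf.map (tilde.map f)).1.app (op W)).hom

instance instLoc (M : ModuleCat.{u} R) (g : R) :
    IsLocalizedModule (Submonoid.powers g) (tO M (bO g)) :=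
  inferInstanceAs (IsLocalizedModule.Away g (toOpen M (PrimeSpectrum.basicOpen g)).hom)

lemma resL_apply (M : ModuleCat.{u} R) {W W' : (Spec R).Opens} (h : W' ≤ W) (y : Γ(tilde M, W)) :
    resL M h y = (tilde M).presheaf.map (homOfLE h).op y := rfl

lemma appL_apply {M N : ModuleCat.{u} R} (f : M ⟶ N) (W : (Spec R).Opens) (y : Γ(tilde M, W)) :
    appL f W y = (tilde.map f).app W y := rfl

lemma resL_tO (M : ModuleCat.{u} R) {W W' : (Spec R).Opens} (h : W' ≤ W) (x : M) :
    resL M h (tO M W x) = tO M W' x :=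
  congr($(toOpen_res M W W' (homOfLE h)) x)

lemma appL_tO {M N : ModuleCat.{u} R} (f : M ⟶ N) (W : (Spec R).Opens) (x : M) :
    appL f W (tO M W x) = tO N W (f.hom x) :=
  congr($(toOpen_map_app f W) x)

lemma smul_injective (M : ModuleCat.{u} R) {W : (Spec R).Opens} (g : R)
    (hW : W ≤ bO g) (k : ℕ) :
    Function.Injective (fun y : Γ(tilde M, W) => g ^ k • y) :=
  ((Scheme.Modules.isSMulRegular_of_le_basicOpen (M := tilde M) hW).pow k)

lemma smul_surjective (M : ModuleCat.{u} R) {W : (Spec R).Opens} (g : R)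
    (hW : W ≤ bO g) (k : ℕ) :
    Function.Surjective (fun y : Γ(tilde M, W) => g ^ k • y) := by
  have h1 := Scheme.Modules.isUnit_algebraMap_end_of_le_basicOpen (M := tilde M) g hW
  have h2 : IsUnit (algebraMap R (Module.End R Γ(tilde M, W)) (g ^ k)) := by
    rw [map_pow]
    exact h1.pow k
  rw [Module.End.isUnit_iff] at h2
  exact h2.surjective

section exact

variable {M N : ModuleCat.{u} R} (f : M ⟶ N) (g : R)

lemma appL_eq_map :
    appL f (bO g) =
      IsLocalizedModule.map (Submonoid.powers g) (tO M (bO g))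
        (tO N (bO g)) f.hom := by
  apply IsLocalizedModule.linearMap_ext (Submonoid.powers g) (tO M (bO g))
    (tO N (bO g))
  ext x
  rw [LinearMap.comp_apply, LinearMap.comp_apply, appL_tO, IsLocalizedModule.map_apply]

lemma appL_injective (hf : Function.Injective f.hom) :
    Function.Injective (appL f (bO g)) := by
  rw [appL_eq_map]
  exact IsLocalizedModule.map_injective _ _ _ _ hf

lemma appL_surjective (hf : Function.Surjective f.hom) :
    Function.Surjective (appL f (bO g)) := by
  rw [appL_eq_map]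
  exact IsLocalizedModule.map_surjective _ _ _ _ hf

lemma appL_exact {P : ModuleCat.{u} R} (f' : N ⟶ P) (h : Function.Exact f.hom f'.hom) :
    Function.Exact (appL f (bO g)) (appL f' (bO g)) := by
  rw [appL_eq_map, appL_eq_map]
  exact IsLocalizedModule.map_exact _ _ _ _ _ _ h

end exact

section bij

variable (N : ModuleCat.{u} R) (f g : R) (hbij : Function.Bijective (fun x : N => f • x))

include hbij in
lemma pow_bijective (k : ℕ) : Function.Bijective (fun x : N => f ^ k • x) := by
  have : (fun x : N => f ^ k • x) = (fun x : N => f • x)^[k] := by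
    funext x
    induction k with
    | zero => simp
    | succ k ih => rw [Function.iterate_succ_apply', ← ih, pow_succ', mul_smul]
  rw [this]
  exact hbij.iterate k

include hbij in
/-- if `f` acts bijectively on `N`, then restriction from `D(g)` to `D(g f)` is bijective on
sections of `N~` -/
theorem resL_bijective {W W' : (Spec R).Opens} (hW : W = bO g)
    (hW' : W' = bO (g * f)) (h : W' ≤ W) :
    Function.Bijective (resL N h) := by
  subst hW hW'
  constructor
  · rw [injective_iff_map_eq_zero]
    intro y hy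
    obtain ⟨⟨n, ⟨_, k, rfl⟩⟩, hn⟩ := IsLocalizedModule.surj (Submonoid.powers g)
      (tO N (bO g)) y
    have hn' : g ^ k • y = tO N (bO g) n := hn
    have h1 : tO N (bO (g * f)) n = 0 := by
      rw [← resL_tO N h, ← hn', map_smul, hy, smul_zero]
    obtain ⟨⟨_, m, rfl⟩, hm⟩ := (IsLocalizedModule.eq_zero_iff (Submonoid.powers (g * f))
      (tO N (bO (g * f)))).1 h1
    have hm' : f ^ m • (g ^ m • n) = 0 := by
      have : (g * f) ^ m • n = 0 := hm
      rwa [mul_pow, mul_comm, mul_smul] at this
    have h2 : g ^ m • n = 0 := by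
      apply (pow_bijective N f hbij m).1
      change f ^ m • (g ^ m • n) = f ^ m • 0
      rw [hm', smul_zero]
    have h3 : g ^ (m + k) • y = 0 := by
      rw [pow_add, mul_smul, hn', ← map_smul, h2, _root_.map_zero]
    apply smul_injective N g le_rfl (m + k)
    change g ^ (m + k) • y = g ^ (m + k) • 0
    rw [h3, smul_zero]
  · intro z
    obtain ⟨⟨n, ⟨_, k, rfl⟩⟩, hn⟩ := IsLocalizedModule.surj (Submonoid.powers (g * f))
      (tO N (bO (g * f))) z
    have hn' : (g * f) ^ k • z = tO N (bO (g * f)) n := hn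
    obtain ⟨n', hn''⟩ := (pow_bijective N f hbij k).2 n
    have hn3 : f ^ k • n' = n := hn''
    obtain ⟨y, hy⟩ := smul_surjective N g (le_refl (bO g)) k
      (tO N (bO g) n')
    have hy' : g ^ k • y = tO N (bO g) n' := hy
    refine ⟨y, ?_⟩
    apply smul_injective N (g * f) le_rfl k
    change (g * f) ^ k • resL N h y = (g * f) ^ k • z
    rw [hn', ← map_smul, mul_pow, mul_comm (g ^ k) (f ^ k), mul_smul, hy', ← map_smul, hn3, resL_tO]

end bij

section tors

/-- sections of `N~` over an open contained in `D(f)` vanish if `N` is `f`-power torsion -/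
lemma subsingleton_of_torsion (N : ModuleCat.{u} R) (f g : R)
    (htors : ∀ x : N, ∃ k : ℕ, f ^ k • x = 0) :
    Subsingleton Γ(tilde N, bO (g * f)) := by
  rw [IsLocalizedModule.subsingleton_iff (Submonoid.powers (g * f))
    (tO N (bO (g * f)))]
  intro x
  obtain ⟨k, hk⟩ := htors x
  refine ⟨(g * f) ^ k, ⟨k, rfl⟩, ?_⟩
  rw [mul_pow, mul_smul, hk, smul_zero]

end tors

section ker

/-- the kernel of `M → Γ(M~, D(f))` -/
lemma tO_eq_zero_iff (M : ModuleCat.{u} R) (f : R) (x : M) :
    tO M (bO f) x = 0 ↔ ∃ k : ℕ, f ^ k • x = 0 := by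
  rw [IsLocalizedModule.eq_zero_iff (Submonoid.powers f)]
  constructor
  · rintro ⟨⟨_, k, rfl⟩, hk⟩
    exact ⟨k, hk⟩
  · rintro ⟨k, hk⟩
    exact ⟨⟨_, k, rfl⟩, hk⟩

lemma tO_top_bijective (M : ModuleCat.{u} R) : Function.Bijective (tO M ⊤) :=
  ConcreteCategory.bijective_of_isIso (toOpen M ⊤)

end ker

end Groth.Agent.Helper1.TildeLoc
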