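import Mathlib
import Groth.Agent.Helper1.TildeLoc
import Groth.Agent.Helper1.CechAug
import Groth.Agent.Helper1.CechContract
import Groth.Agent.Helper1.TorsLoc
import Groth.Agent.Helper1.KoszulDev
import Groth.Agent.Helper1.KoszulBot

set_option autoImplicit false

/-!
# The augmented Čech complex of `M~` for the basic opens `D(f)`, `f ∈ fs`, as a δ-functor in `M`
satisfying the hypotheses of the torsion/localization dévissage
-/

namespace Groth.Agent.Helper1.CechTilde

open CategoryTheory Limits Opposite TopologicalSpace AlgebraicGeometry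
open Groth.Agent.Helper1.TildeLoc Groth.Agent.Helper1.CechAug Groth.Agent.Helper1.Cech
  Groth.Agent.Helper1.CechTop Groth.Agent.Helper1.DeltaFun Groth.Agent.Helper1.TorsLoc

universe u
variable {A : Type u} [CommRing A]

/-- the family of basic opens `D(f)`, `f ∈ fs` -/
noncomputable def UU (fs : List A) :
    ULift.{u} (Fin fs.length) → Opens (Spec (CommRingCat.of A)).carrier :=
  fun i => bO (R := CommRingCat.of A) (fs.get i.down)

/-- the product of the elements with given indices -/
noncomputable def gx (fs : List A) {n : ℕ} (x : Fin n → ULift.{u} (Fin fs.length)) : A :=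
  ∏ k, fs.get (x k).down

lemma iInf_bO {n : ℕ} (h : Fin n → A) :
    (⨅ k, bO (R := CommRingCat.of A) (h k)) = bO (R := CommRingCat.of A) (∏ k, h k) := by
  apply SetLike.coe_injective
  rw [Opens.coe_iInf]
  ext p
  simp only [Set.mem_iInter, SetLike.mem_coe]
  change (∀ k, h k ∉ (show PrimeSpectrum A from p).asIdeal) ↔
    (∏ k, h k) ∉ (show PrimeSpectrum A from p).asIdeal
  rw [Ideal.IsPrime.prod_mem_iff]
  simp

lemma prodU_eq_bO (fs : List A) {n : ℕ} (x : Fin (n + 1) → ULift.{u} (Fin fs.length)) :
    prodU (UU fs) x = bO (R := CommRingCat.of A) (gx fs x) := by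
  rw [prodU_eq]
  exact iInf_bO (fun k => fs.get (x k).down)

variable (A) in
/-- the presheaf of abelian groups of `M~`, functorially in `M` -/
noncomputable def TP : ModuleCat.{u} A ⥤
    ((Opens (Spec (CommRingCat.of A)).carrier)ᵒᵖ ⥤ AddCommGrpCat.{u}) :=
  tilde.functor (CommRingCat.of A) ⋙ Scheme.Modules.toPresheaf (Spec (CommRingCat.of A))

instance (X : Scheme.{u}) : (Scheme.Modules.toPresheaf X).Additive where
  map_add := by
    intros
    rfl

instance : (TP A).Additive where
  map_add := by
    intro M N f g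
    have h1 : (TP A).map (f + g) = (Scheme.Modules.toPresheaf _).map (tilde.map (f + g)) := rfl
    have h2 : (TP A).map f = (Scheme.Modules.toPresheaf _).map (tilde.map f) := rfl
    have h3 : (TP A).map g = (Scheme.Modules.toPresheaf _).map (tilde.map g) := rfl
    rw [h1, h2, h3, tilde.map_add, Functor.map_add]
    rfl

lemma TP_map_app {M N : ModuleCat.{u} A} (f : M ⟶ N) (W : (Spec (CommRingCat.of A)).Opens)
    (y : ((TP A).obj M).obj (op W)) :
    ((TP A).map f).app (op W) y = appL (R := CommRingCat.of A) f W y := rfl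

lemma sections_shortExact (S : ShortComplex (ModuleCat.{u} A)) (hS : S.ShortExact)
    (W : (Spec (CommRingCat.of A)).Opens) (g : A) (hW : W = bO (R := CommRingCat.of A) g) :
    ((S.map (TP A)).map ((evaluation _ _).obj (op W))).ShortExact := by
  subst hW
  have hex : Function.Exact S.f.hom S.g.hom :=
    (ShortComplex.ShortExact.moduleCat_exact_iff_function_exact S).1 hS.exact
  apply shortExact_ab
  · exact appL_injective (R := CommRingCat.of A) S.f g hS.moduleCat_injective_f
  · intro y hy
    exact (appL_exact (R := CommRingCat.of A) S.f g S.g hex y).1 hy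
  · exact appL_surjective (R := CommRingCat.of A) S.g g hS.moduleCat_surjective_g

/-- the augmented Čech complex of `M~`, functorially in `M` -/
noncomputable def K (fs : List A) : ModuleCat.{u} A ⥤ CochainComplex AddCommGrpCat.{u} ℕ :=
  TP A ⋙ augFunctor (UU fs)

instance (fs : List A) : (K fs).Additive := by
  unfold K
  infer_instance

lemma hK (fs : List A) (S : ShortComplex (ModuleCat.{u} A)) (hS : S.ShortExact) :
    (S.map (K fs)).ShortExact := by
  apply shortExact_map_aug (UU fs) (S.map (TP A))
  · exact sections_shortExact S hS ⊤ 1 bO_one.symm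
  · intro n x
    exact sections_shortExact S hS _ _ (prodU_eq_bO fs x)

/-- the Čech δ-functor -/
noncomputable def cechDelta (fs : List A) : DeltaFunctor (ModuleCat.{u} A) AddCommGrpCat.{u} :=
  ofComplex (K fs) (hK fs)


instance (fs : List A) (n : ℕ) : ((cechDelta fs).T n).PreservesZeroMorphisms :=
  inferInstanceAs
    (K fs ⋙ HomologicalComplex.homologyFunctor _ (ComplexShape.up ℕ) n).PreservesZeroMorphisms

lemma TP_obj_map (N : ModuleCat.{u} A) {W W' : (Spec (CommRingCat.of A)).Opens} (h : W' ≤ W)
    (y : ((TP A).obj N).obj (op W)) :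
    ((TP A).obj N).map (homOfLE h).op y = resL (R := CommRingCat.of A) N h y := rfl

lemma res_bijective (N : ModuleCat.{u} A) (f g : A)
    (hbij : Function.Bijective (fun x : N => f • x)) (W W' : (Spec (CommRingCat.of A)).Opens)
    (hW : W = bO (R := CommRingCat.of A) g) (hW' : W' = W ⊓ bO (R := CommRingCat.of A) f)
    (h : W' ≤ W) : Function.Bijective (((TP A).obj N).map (homOfLE h).op) := by
  have hW'' : W' = bO (R := CommRingCat.of A) (g * f) := by
    rw [hW', hW, bO_mul]
  exact resL_bijective (R := CommRingCat.of A) N f g hbij hW hW'' h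

lemma isZero_homology_of_isZero_X (C : CochainComplex AddCommGrpCat.{u} ℕ) (n : ℕ)
    (h : IsZero (C.X n)) : IsZero (C.homology n) := by
  have : C.ExactAt n := ShortComplex.exact_of_isZero_X₂ _ h
  exact this.isZero_homology

lemma gx_succ (fs : List A) {n : ℕ} (x : Fin (n + 1) → ULift.{u} (Fin fs.length)) :
    gx fs x = gx fs (fun k : Fin n => x k.succ) * fs.get (x 0).down := by
  unfold gx
  rw [Fin.prod_univ_succ, mul_comm]

lemma subsingleton_sections_of_torsion (fs : List A) (N : ModuleCat.{u} A)
    (htors : ∀ f ∈ fs, ∀ x : N, ∃ k : ℕ, f ^ k • x = 0) {n : ℕ}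
    (x : Fin (n + 1) → ULift.{u} (Fin fs.length)) :
    Subsingleton (((TP A).obj N).obj (op (prodU (UU fs) x))) := by
  rw [prodU_eq_bO, gx_succ]
  exact subsingleton_of_torsion (R := CommRingCat.of A) N _ _
    (htors _ (List.get_mem fs (x 0).down))

lemma exists_uniform_pow {M : Type*} [AddCommGroup M] [Module A M] (x : M) :
    ∀ fs : List A, (∀ f ∈ fs, ∃ k : ℕ, f ^ k • x = 0) → ∃ n : ℕ, ∀ f ∈ fs, f ^ n • x = 0
  | [], _ => ⟨0, fun f hf => by simp at hf⟩
  | g :: fs, h => by
    obtain ⟨n, hn⟩ := exists_uniform_pow x fs (fun f hf => h f (List.mem_cons_of_mem _ hf))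
    obtain ⟨k, hk⟩ := h g List.mem_cons_self
    refine ⟨max k n, fun f hf => ?_⟩
    rcases List.mem_cons.1 hf with rfl | hf'
    · rw [← Nat.sub_add_cancel (le_max_left k n), pow_add, mul_smul, hk, smul_zero]
    · rw [← Nat.sub_add_cancel (le_max_right k n), pow_add, mul_smul, hn f hf', smul_zero]

lemma tO_eq_zero_iff' (M : ModuleCat.{u} A) (f : A) (W : (Spec (CommRingCat.of A)).Opens)
    (hW : W = bO (R := CommRingCat.of A) f) (m : M) :
    tO (R := CommRingCat.of A) M W m = 0 ↔ ∃ k : ℕ, f ^ k • m = 0 := by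
  subst hW
  exact tO_eq_zero_iff (R := CommRingCat.of A) M f m

lemma gx_one (fs : List A) (x : Fin 1 → ULift.{u} (Fin fs.length)) :
    gx fs x = fs.get (x 0).down := by
  unfold gx
  simp

/-- the augmentation kills `tO m` iff `m` is torsion -/
lemma augTop_tO_eq_zero_iff (fs : List A) (M : ModuleCat.{u} A) (m : M) :
    augTop (UU fs) ((TP A).obj M) (tO (R := CommRingCat.of A) M ⊤ m) = 0 ↔
      ∀ f ∈ fs, ∃ k : ℕ, f ^ k • m = 0 := by
  have key : ∀ x : Fin 1 → ULift.{u} (Fin fs.length),
      rc (UU fs) ((TP A).obj M) (augTop (UU fs) ((TP A).obj M)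
        (tO (R := CommRingCat.of A) M ⊤ m)) x (prodU (UU fs) x) le_rfl =
        tO (R := CommRingCat.of A) M (prodU (UU fs) x) m := by
    intro x
    rw [augTop_apply, rc_aug]
    exact resL_tO (R := CommRingCat.of A) M _ m
  constructor
  · intro h f hf
    obtain ⟨i, hi⟩ := List.mem_iff_get.1 hf
    let x0 : Fin 1 → ULift.{u} (Fin fs.length) := fun _ => ⟨i⟩
    have h1 := key x0
    rw [h, rc_zero] at h1
    have h2 := (tO_eq_zero_iff' M (gx fs x0) _ (prodU_eq_bO fs x0) m).1 h1.symm
    rw [gx_one] at h2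
    rw [← hi]
    exact h2
  · intro h
    apply ext_rc
    intro x
    rw [key x, rc_zero]
    refine (tO_eq_zero_iff' M (gx fs x) _ (prodU_eq_bO fs x) m).2 ?_
    rw [gx_one]
    exact h _ (List.get_mem fs (x 0).down)

/-- `H⁰` of the augmented Čech complex of `M~` is the torsion submodule -/
noncomputable def h0Tors (fs : List A) (M : ModuleCat.{u} A) :
    (augCx (UU fs) ((TP A).obj M)).homology 0 ≃+
      DRing.torsionSub (Ideal.span {a | a ∈ fs}) M := by
  refine (h0Equiv (cx (UU fs) ((TP A).obj M)) (augTop (UU fs) ((TP A).obj M))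
    (augTop_d (UU fs) ((TP A).obj M))).trans ?_
  symm
  have hmem : ∀ m : M, m ∈ DRing.torsionSub (Ideal.span {a | a ∈ fs}) M ↔
      augTop (UU fs) ((TP A).obj M) (tO (R := CommRingCat.of A) M ⊤ m) = 0 := by
    intro m
    rw [augTop_tO_eq_zero_iff, Koszul.mem_torsionSub_span_iff]
    constructor
    · rintro ⟨n, hn⟩ f hf
      exact ⟨n, hn f hf⟩
    · exact exists_uniform_pow m fs
  let e0 : DRing.torsionSub (Ideal.span {a | a ∈ fs}) M →+
      (augTop (UU fs) ((TP A).obj M)).hom.ker :=
    { toFun := fun m => ⟨tO (R := CommRingCat.of A) M ⊤ m.1, (hmem m.1).1 m.2⟩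
      map_zero' := Subtype.ext (map_zero _)
      map_add' := fun a b => Subtype.ext (map_add _ _ _) }
  refine AddEquiv.ofBijective e0 ⟨?_, ?_⟩
  · intro a b hab
    apply Subtype.ext
    exact (tO_top_bijective (R := CommRingCat.of A) M).1 (congrArg Subtype.val hab)
  · rintro ⟨y, hy⟩
    obtain ⟨m, rfl⟩ := (tO_top_bijective (R := CommRingCat.of A) M).2 y
    exact ⟨⟨m, (hmem m).2 hy⟩, rfl⟩

/-- the Čech δ-functor satisfies the hypotheses of the dévissage -/
theorem cechDelta_dev (fs : List A) : Dev (cechDelta fs) fs where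
  exact₂ S hS n := (hK fs S hS).homology_exact₂ n
  bij N f hf hbij n := by
    obtain ⟨i, hi⟩ := List.mem_iff_get.1 hf
    have hU : UU fs ⟨i⟩ = bO (R := CommRingCat.of A) f := by
      unfold UU
      rw [hi]
    apply isZero_homology_of_bijective (UU fs) ((TP A).obj N) ⟨i⟩
    · intro m x
      exact res_bijective N f (gx fs x) hbij _ _ (prodU_eq_bO fs x) (by rw [hU]) _
    · exact res_bijective N f 1 hbij ⊤ _ bO_one.symm (by rw [hU]) _
  tors N htors n := by
    apply isZero_homology_of_isZero_X
    have hs : Subsingleton ((cx (UU fs) ((TP A).obj N)).X n) := by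
      constructor
      intro c c'
      apply Cech.ext
      intro x
      have := subsingleton_sections_of_torsion fs N htors x
      exact Subsingleton.elim _ _
    exact @AddCommGrpCat.isZero_of_subsingleton ((cx (UU fs) ((TP A).obj N)).X n) hs

/-- **the Koszul–Čech comparison on `Spec A`**: the cohomology of the augmented Čech complex of
`M~` for the basic opens `D(f)`, `f ∈ fs`, is the limit Koszul cohomology -/
theorem nonempty_addEquiv_koszulHLim (fs : List A) (M : ModuleCat.{u} A) (i : ℕ) :
    Nonempty ((augCx (UU fs) ((TP A).obj M)).homology i ≃+ CohIII.koszulHLim fs M i) := by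
  have key := TorsLoc.compare (cechDelta fs) (cechDelta_dev fs) (Koszul.koszulDelta fs)
    (Koszul.koszulDelta_dev fs) (fun X Y => Nonempty (X ≃+ Y))
    (fun {X X' Y Y'} e e' ⟨r⟩ => ⟨e.symm.addCommGroupIsoToAddEquiv.trans
      (r.trans e'.toLinearEquiv.toAddEquiv)⟩)
    (fun M => ⟨(h0Tors fs M).trans
      (Koszul.botLimEquiv fs M _ (by simp)).symm.toAddEquiv⟩) i M
  exact key

end Groth.Agent.Helper1.CechTilde
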