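import Mathlib
import Groth.Prelude.Def_GrMod2
import Groth.Agent.Helper1.GrT3

set_option autoImplicit false
set_option linter.unusedSectionVars false

/-!
# `M_g` is the direct sum of its homogeneous parts
-/

namespace Groth.Agent.Helper1.GrT

open CategoryTheory AlgebraicGeometry TopologicalSpace Opposite DirectSum

universe u

variable {R A : Type u} [CommRing R] [CommRing A] [Algebra R A] (𝒜 : ℕ → Submodule R A)
  [GradedAlgebra 𝒜]
variable {M : Type u} [AddCommGroup M] [Module R M] [Module A M] [IsScalarTower R A M]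
  (ℳ : ℕ → Submodule R M) [DirectSum.Decomposition ℳ] [SetLike.GradedSMul 𝒜 ℳ]

/-- homogeneous elements of pairwise distinct degrees with zero sum all vanish -/
lemma eq_zero_of_sum_eq_zero {ι : Type*} (S : Finset ι) (deg : ι → ℕ)
    (hdeg : ∀ a ∈ S, ∀ b ∈ S, deg a = deg b → a = b) (y : ι → M)
    (hy : ∀ a ∈ S, y a ∈ ℳ (deg a)) (hsum : ∑ a ∈ S, y a = 0) : ∀ a ∈ S, y a = 0 := by
  classical
  intro a ha
  have h1 : ((DirectSum.decompose ℳ (∑ b ∈ S, y b)) (deg a) : M) = y a := by
    rw [DirectSum.decompose_sum, DFinsupp.finsetSum_apply, AddSubmonoidClass.coe_finsetSum,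
      Finset.sum_eq_single a]
    · exact DirectSum.decompose_of_mem_same ℳ (hy a ha)
    · intro b hb hba
      exact DirectSum.decompose_of_mem_ne ℳ (hy b hb) (fun h => hba (hdeg b hb a ha h))
    · intro h
      exact absurd ha h
  rw [← h1, hsum]
  simp

section loc

variable (g : A) {L : Type u} [AddCommGroup L] [Module A L] (τ : M →ₗ[A] L)
  [IsLocalizedModule (Submonoid.powers g) τ] {e : ℕ} (he : 0 < e) (hg : g ∈ 𝒜 e)

/-- representations with a larger exponent -/
lemma Deg_rep_ge (n : ℤ) (v : L) (hv : v ∈ Deg 𝒜 ℳ g τ he hg n) :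
    ∃ k : ℕ, ∀ K : ℕ, k ≤ K → ∃ (i : ℕ) (m : M), m ∈ ℳ i ∧ (i : ℤ) = K * e + n ∧
      g ^ K • v = τ m := by
  obtain ⟨k, i, m, hm, hi, h⟩ := hv
  refine ⟨k, fun K hK => ?_⟩
  obtain ⟨r, rfl⟩ := Nat.exists_eq_add_of_le hK
  refine ⟨r * e + i, g ^ r • m,
    SetLike.GradedSMul.smul_mem (pow_mem_graded' 𝒜 g he hg r) hm, by push_cast; rw [hi]; ring, ?_⟩
  rw [add_comm k r, pow_add, mul_smul, h, map_smul]

/-- **`M_g` is the direct sum of its homogeneous parts** -/
theorem Deg_bijective :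
    Function.Bijective (DirectSum.coeAddMonoidHom (fun n : ℤ => Deg 𝒜 ℳ g τ he hg n)) := by
  classical
  constructor
  · rw [injective_iff_map_eq_zero]
    intro x hx
    -- uniform exponent
    have hrep := fun n : ℤ => Deg_rep_ge 𝒜 ℳ g τ he hg n (x n).1 (x n).2
    choose k hk using hrep
    set S := DFinsupp.support x with hS
    set K : ℕ := S.sup k with hKdef
    have hK : ∀ n ∈ S, k n ≤ K := fun n hn => Finset.le_sup (f := k) hn
    have hrep' : ∀ n : ℤ, ∃ (i : ℕ) (m : M), n ∈ S → (m ∈ ℳ i ∧ (i : ℤ) = K * e + n ∧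
        g ^ K • (x n).1 = τ m) := by
      intro n
      by_cases hn : n ∈ S
      · obtain ⟨i, m, h1, h2, h3⟩ := hk n K (hK n hn)
        exact ⟨i, m, fun _ => ⟨h1, h2, h3⟩⟩
      · exact ⟨0, 0, fun h => absurd h hn⟩
    choose i m hm using hrep'
    have hsum : ∑ n ∈ S, (x n).1 = 0 := by
      have := hx
      rw [← DirectSum.sum_support_of x, map_sum] at this
      simpa [DirectSum.coeAddMonoidHom_of] using this
    have h1 : τ (∑ n ∈ S, m n) = 0 := by
      rw [map_sum]
      have : ∑ n ∈ S, τ (m n) = ∑ n ∈ S, g ^ K • (x n).1 :=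
        Finset.sum_congr rfl (fun n hn => ((hm n hn).2.2).symm)
      rw [this, ← Finset.smul_sum, hsum, smul_zero]
    obtain ⟨N, hN⟩ := (τ_eq_zero_iff g τ _).1 h1
    rw [Finset.smul_sum] at hN
    have h2 := eq_zero_of_sum_eq_zero ℳ S (fun n => N * e + i n)
      (fun a ha b hb hab => by
        have h3 := (hm a ha).2.1
        have h4 := (hm b hb).2.1
        have : (i a : ℤ) = i b := by omega
        omega)
      (fun n => g ^ N • m n)
      (fun n hn => SetLike.GradedSMul.smul_mem (pow_mem_graded' 𝒜 g he hg N) (hm n hn).1) hN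
    apply DirectSum.ext
    intro n
    by_cases hn : n ∈ S
    · apply Subtype.ext
      apply smul_pow_injective g τ K
      change g ^ K • (x n).1 = g ^ K • 0
      rw [(hm n hn).2.2, smul_zero, τ_eq_zero_iff g τ]
      exact ⟨N, h2 n hn⟩
    · rw [hS, DFinsupp.notMem_support_iff] at hn
      rw [hn]
      rfl
  · intro v
    obtain ⟨k, m, hv⟩ := exists_smul_eq_τ g τ v
    -- decompose `m`
    have hcomp : ∀ i : ℕ, ∃ w : L, g ^ k • w = τ (DirectSum.decompose ℳ m i : M) :=
      fun i => exists_eq_of_τ g τ k _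
    choose w hw using hcomp
    have hwmem : ∀ i : ℕ, w i ∈ Deg 𝒜 ℳ g τ he hg ((i : ℤ) - k * e) := fun i =>
      ⟨k, i, _, SetLike.coe_mem _, by ring, hw i⟩
    refine ⟨∑ i ∈ DFinsupp.support (DirectSum.decompose ℳ m),
      DirectSum.of (fun n : ℤ => Deg 𝒜 ℳ g τ he hg n) ((i : ℤ) - k * e) ⟨w i, hwmem i⟩, ?_⟩
    rw [map_sum]
    apply smul_pow_injective g τ k
    change g ^ k • _ = g ^ k • v
    rw [hv, Finset.smul_sum]
    conv_rhs => rw [← DirectSum.sum_support_decompose ℳ m, map_sum]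
    refine Finset.sum_congr rfl (fun i _ => ?_)
    rw [DirectSum.coeAddMonoidHom_of]
    exact hw i

end loc

end Groth.Agent.Helper1.GrT
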