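import Mathlib
import Groth.Prelude.Def_GrMod2
import Groth.Agent.Helper1.GrT7

set_option autoImplicit false
set_option linter.unusedSectionVars false
set_option linter.style.haveILetI false

/-!
# The comparison maps `Γ(D₊(g), M(n)~) → M_g`

For a localization `τ : M → L` of `M` at a homogeneous element `g` of positive degree:
* `θ : Γ(D₊(g), M(n)~) →+ L`, injective with image the degree `n` part;
* `θ_sum_bijective`: `L` is the direct sum of the `Γ(D₊(g), M(n)~)`, `n ∈ ℤ`;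
* `θ_res`: compatibility with restrictions.
-/

namespace Groth.Agent.Helper1.GrT

open CategoryTheory AlgebraicGeometry TopologicalSpace Opposite DirectSum

universe u

section general

/-- a direct sum of equivalences is bijective -/
lemma map_equiv_bijective {J : Type*} [DecidableEq J] {α β : J → Type*}
    [∀ i, AddCommMonoid (α i)] [∀ i, AddCommMonoid (β i)] (f : ∀ i, α i ≃+ β i) :
    Function.Bijective (DirectSum.map (fun i => (f i).toAddMonoidHom)) := by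
  constructor
  · intro x y hxy
    apply DirectSum.ext
    intro n
    have := congrArg (fun z => z n) hxy
    simp only [DirectSum.map_apply] at this
    exact (f n).injective this
  · intro y
    induction y using DirectSum.induction_on with
    | zero => exact ⟨0, map_zero _⟩
    | of n b =>
      refine ⟨DirectSum.of _ n ((f n).symm b), ?_⟩
      rw [DirectSum.map_of]
      congr 1
      exact (f n).apply_symm_apply b
    | add x y hx hy =>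
      obtain ⟨a, rfl⟩ := hx
      obtain ⟨b, rfl⟩ := hy
      exact ⟨a + b, map_add _ _ _⟩

/-- `toAddMonoid` of maps factoring through subgroups -/
lemma toAddMonoid_eq_coe_comp_map {J : Type*} [DecidableEq J] {α : J → Type*}
    [∀ i, AddCommMonoid (α i)] {L : Type*} [AddCommGroup L] (D : J → AddSubgroup L)
    (f : ∀ i, α i →+ D i) (x : ⨁ i, α i) :
    DirectSum.toAddMonoid (fun i => (D i).subtype.comp (f i)) x =
      DirectSum.coeAddMonoidHom D (DirectSum.map f x) := by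
  induction x using DirectSum.induction_on with
  | zero => simp
  | of n b =>
    rw [DirectSum.toAddMonoid_of, DirectSum.map_of, DirectSum.coeAddMonoidHom_of]
    rfl
  | add x y hx hy => rw [map_add, map_add, map_add, hx, hy]

end general

variable {R A : Type u} [CommRing R] [CommRing A] [Algebra R A] (𝒜 : ℕ → Submodule R A)
  [GradedAlgebra 𝒜]
variable {M : Type u} [AddCommGroup M] [Module R M] [Module A M] [IsScalarTower R A M]
  (ℳ : ℕ → Submodule R M) [DirectSum.Decomposition ℳ] [SetLike.GradedSMul 𝒜 ℳ]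

section theta

variable (g : A) {L : Type u} [AddCommGroup L] [Module A L] (τ : M →ₗ[A] L)
  [IsLocalizedModule (Submonoid.powers g) τ] {e : ℕ} (he : 0 < e) (hg : g ∈ 𝒜 e) (n : ℤ)
  (W : Opens (ProjectiveSpectrum.top 𝒜)) (hW : W = ProjectiveSpectrum.basicOpen 𝒜 g)

/-- sections over `W = D₊(g)` from elements of degree `n` -/
noncomputable def toSectW : Deg 𝒜 ℳ g τ he hg n →+ GrTilde.sect 𝒜 ℳ n (op W) :=
  toSect 𝒜 ℳ g τ he hg n W
    (fun y hy => (ProjectiveSpectrum.mem_basicOpen 𝒜 g y).1 (hW ▸ hy))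

lemma toSectW_bijective : Function.Bijective (toSectW 𝒜 ℳ g τ he hg n W hW) :=
  toSect_bijective 𝒜 ℳ g τ he hg n W hW

/-- the inverse of `toSectW` as an equivalence -/
noncomputable def eqv : GrTilde.sect 𝒜 ℳ n (op W) ≃+ Deg 𝒜 ℳ g τ he hg n :=
  (AddEquiv.ofBijective _ (toSectW_bijective 𝒜 ℳ g τ he hg n W hW)).symm

/-- **the comparison map** `Γ(D₊(g), M(n)~) → M_g` -/
noncomputable def θ : GrTilde.sect 𝒜 ℳ n (op W) →+ L :=
  (AddSubgroup.subtype (Deg 𝒜 ℳ g τ he hg n)).comp (eqv 𝒜 ℳ g τ he hg n W hW).toAddMonoidHom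

lemma θ_mem (s : GrTilde.sect 𝒜 ℳ n (op W)) :
    θ 𝒜 ℳ g τ he hg n W hW s ∈ Deg 𝒜 ℳ g τ he hg n :=
  (eqv 𝒜 ℳ g τ he hg n W hW s).2

lemma toSectW_θ (s : GrTilde.sect 𝒜 ℳ n (op W)) :
    toSectW 𝒜 ℳ g τ he hg n W hW ⟨θ 𝒜 ℳ g τ he hg n W hW s, θ_mem 𝒜 ℳ g τ he hg n W hW s⟩ = s :=
  (AddEquiv.ofBijective _ (toSectW_bijective 𝒜 ℳ g τ he hg n W hW)).apply_symm_apply s

lemma θ_eq (s : GrTilde.sect 𝒜 ℳ n (op W)) (v : L) (hv : v ∈ Deg 𝒜 ℳ g τ he hg n)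
    (h : toSectW 𝒜 ℳ g τ he hg n W hW ⟨v, hv⟩ = s) : θ 𝒜 ℳ g τ he hg n W hW s = v := by
  have h1 := toSectW_θ 𝒜 ℳ g τ he hg n W hW s
  rw [← h] at h1
  have h2 := (toSectW_bijective 𝒜 ℳ g τ he hg n W hW).1 h1
  rw [← h]
  exact congrArg Subtype.val h2

lemma θ_injective : Function.Injective (θ 𝒜 ℳ g τ he hg n W hW) := by
  intro s t h
  rw [← toSectW_θ 𝒜 ℳ g τ he hg n W hW s, ← toSectW_θ 𝒜 ℳ g τ he hg n W hW t]
  congr 1
  exact Subtype.ext h

/-- values of `θ s` -/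
lemma ev_θ (s : GrTilde.sect 𝒜 ℳ n (op W)) (y : ProjectiveSpectrum.top 𝒜) (hy : y ∈ W)
    (hyg : g ∉ y.asHomogeneousIdeal) :
    ev g τ y hyg (θ 𝒜 ℳ g τ he hg n W hW s) = val s y hy := by
  have h1 := toSectW_θ 𝒜 ℳ g τ he hg n W hW s
  have h2 := congrArg (fun t => val t y hy) h1
  exact h2

end theta

section sum

variable (g : A) {L : Type u} [AddCommGroup L] [Module A L] (τ : M →ₗ[A] L)
    [IsLocalizedModule (Submonoid.powers g) τ] {e : ℕ} (he : 0 < e) (hg : g ∈ 𝒜 e)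
    (W : Opens (ProjectiveSpectrum.top 𝒜)) (hW : W = ProjectiveSpectrum.basicOpen 𝒜 g)

lemma θ_sum_surjective : Function.Surjective (DirectSum.toAddMonoid
      (fun n : ℤ => θ 𝒜 ℳ g τ he hg n W hW)) := by
  have hb : Function.Bijective (DirectSum.coeAddMonoidHom
      (fun n : ℤ => Deg 𝒜 ℳ g τ he hg n)) := Deg_bijective 𝒜 ℳ g τ he hg
  have h : ∀ y : ⨁ n : ℤ, Deg 𝒜 ℳ g τ he hg n,
        ∃ x : ⨁ n : ℤ, GrTilde.sect 𝒜 ℳ n (op W),
        DirectSum.toAddMonoid (fun n : ℤ => θ 𝒜 ℳ g τ he hg n W hW) x =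
          DirectSum.coeAddMonoidHom (fun n : ℤ => Deg 𝒜 ℳ g τ he hg n) y := by
    intro y
    induction y using DirectSum.induction_on with
    | zero =>
      refine ⟨0, ?_⟩
      rw [map_zero, map_zero]
    | of n b =>
      refine ⟨DirectSum.of (fun n : ℤ => GrTilde.sect 𝒜 ℳ n (op W)) n
        (toSectW 𝒜 ℳ g τ he hg n W hW b), ?_⟩
      refine (DirectSum.toAddMonoid_of (fun n : ℤ => θ 𝒜 ℳ g τ he hg n W hW) n _).trans ?_
      refine Eq.trans ?_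
        (DirectSum.coeAddMonoidHom_of (fun n : ℤ => Deg 𝒜 ℳ g τ he hg n) n b).symm
      exact θ_eq 𝒜 ℳ g τ he hg n W hW _ b.1 b.2 rfl
    | add x y hx hy =>
      obtain ⟨a, ha⟩ := hx
      obtain ⟨b, hb'⟩ := hy
      refine ⟨a + b, ?_⟩
      have e1 := map_add (DirectSum.toAddMonoid (fun n : ℤ => θ 𝒜 ℳ g τ he hg n W hW)) a b
      have e2 := map_add (DirectSum.coeAddMonoidHom (fun n : ℤ => Deg 𝒜 ℳ g τ he hg n)) x y
      exact e1.trans ((congrArg₂ (· + ·) ha hb').trans e2.symm)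
  intro v
  obtain ⟨y, hy⟩ := hb.2 v
  obtain ⟨x, hx⟩ := h y
  exact ⟨x, hx.trans hy⟩

lemma θ_sum_injective : Function.Injective (DirectSum.toAddMonoid
      (fun n : ℤ => θ 𝒜 ℳ g τ he hg n W hW)) := by
  have hb : Function.Bijective (DirectSum.coeAddMonoidHom
      (fun n : ℤ => Deg 𝒜 ℳ g τ he hg n)) := Deg_bijective 𝒜 ℳ g τ he hg
  have hE := map_equiv_bijective (α := fun n : ℤ => GrTilde.sect 𝒜 ℳ n (op W))
    (β := fun n : ℤ => Deg 𝒜 ℳ g τ he hg n) (fun n : ℤ => eqv 𝒜 ℳ g τ he hg n W hW)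
  have hcomp : ∀ x, DirectSum.toAddMonoid (fun n : ℤ => θ 𝒜 ℳ g τ he hg n W hW) x =
      DirectSum.coeAddMonoidHom (fun n : ℤ => Deg 𝒜 ℳ g τ he hg n)
        (DirectSum.map (fun n => (eqv 𝒜 ℳ g τ he hg n W hW).toAddMonoidHom) x) := by
    intro x
    have hθ : (fun n : ℤ => θ 𝒜 ℳ g τ he hg n W hW) =
        (fun n : ℤ => (Deg 𝒜 ℳ g τ he hg n).subtype.comp
          (eqv 𝒜 ℳ g τ he hg n W hW).toAddMonoidHom) := by
      funext n
      unfold θ
      rfl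
    rw [hθ]
    exact toAddMonoid_eq_coe_comp_map (α := fun n : ℤ => GrTilde.sect 𝒜 ℳ n (op W))
      (fun n : ℤ => Deg 𝒜 ℳ g τ he hg n)
      (fun n => (eqv 𝒜 ℳ g τ he hg n W hW).toAddMonoidHom) x
  intro x y hxy
  have h1 := (hcomp x).symm.trans (hxy.trans (hcomp y))
  exact hE.1 (hb.1 h1)

/-- the maps `θ` identify `M_g` with the direct sum of the `Γ(D₊(g), M(n)~)` -/
theorem θ_sum_bijective : Function.Bijective (DirectSum.toAddMonoid
      (fun n : ℤ => θ 𝒜 ℳ g τ he hg n W hW)) :=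
  ⟨θ_sum_injective 𝒜 ℳ g τ he hg W hW, θ_sum_surjective 𝒜 ℳ g τ he hg W hW⟩

end sum

/-- compatibility of `θ` with restriction -/
theorem θ_res (g1 g2 c : A) (hgc : g2 = c * g1) {L1 L2 : Type u} [AddCommGroup L1] [Module A L1]
    [AddCommGroup L2] [Module A L2] (τ1 : M →ₗ[A] L1) (τ2 : M →ₗ[A] L2)
    [IsLocalizedModule (Submonoid.powers g1) τ1] [IsLocalizedModule (Submonoid.powers g2) τ2]
    (ρ : L1 →ₗ[A] L2) (hρ : ∀ m, ρ (τ1 m) = τ2 m)
    {e1 e2 ec : ℕ} (he1 : 0 < e1) (he2 : 0 < e2) (hg1 : g1 ∈ 𝒜 e1) (hg2 : g2 ∈ 𝒜 e2)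
    (hc : c ∈ 𝒜 ec) (hee : e2 = ec + e1) (n : ℤ)
    (W1 W2 : Opens (ProjectiveSpectrum.top 𝒜)) (hW1 : W1 = ProjectiveSpectrum.basicOpen 𝒜 g1)
    (hW2 : W2 = ProjectiveSpectrum.basicOpen 𝒜 g2) (h21 : W2 ≤ W1)
    (s : GrTilde.sect 𝒜 ℳ n (op W1)) :
    θ 𝒜 ℳ g2 τ2 he2 hg2 n W2 hW2 (GrTilde.res 𝒜 ℳ n (homOfLE h21).op s) =
      ρ (θ 𝒜 ℳ g1 τ1 he1 hg1 n W1 hW1 s) := by
  set v1 := θ 𝒜 ℳ g1 τ1 he1 hg1 n W1 hW1 s with hv1
  obtain ⟨k, i, m, hm, hi, hv⟩ := θ_mem 𝒜 ℳ g1 τ1 he1 hg1 n W1 hW1 s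
  have hv2 : g2 ^ k • ρ v1 = τ2 (c ^ k • m) := by
    rw [hgc, mul_pow, mul_smul, ← map_smul ρ, hv, hρ, map_smul]
  have hmem : ρ v1 ∈ Deg 𝒜 ℳ g2 τ2 he2 hg2 n := by
    refine ⟨k, k * ec + i, c ^ k • m, ?_, ?_, hv2⟩
    · have hck : c ^ k ∈ 𝒜 (k * ec) := by
        have := SetLike.pow_mem_graded k hc
        simpa [smul_eq_mul] using this
      exact SetLike.GradedSMul.smul_mem hck hm
    · rw [hee]
      push_cast
      rw [hi]
      ring
  apply θ_eq 𝒜 ℳ g2 τ2 he2 hg2 n W2 hW2 _ _ hmem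
  apply sect_ext
  intro y hy
  have hy2 : g2 ∉ y.asHomogeneousIdeal := (ProjectiveSpectrum.mem_basicOpen 𝒜 g2 y).1 (hW2 ▸ hy)
  have hy1 : g1 ∉ y.asHomogeneousIdeal :=
    (ProjectiveSpectrum.mem_basicOpen 𝒜 g1 y).1 (hW1 ▸ h21 hy)
  have hyk : g2 ^ k ∉ y.asHomogeneousIdeal := fun h => hy2 (y.isPrime.mem_of_pow_mem k h)
  have hyk1 : g1 ^ k ∉ y.asHomogeneousIdeal := fun h => hy1 (y.isPrime.mem_of_pow_mem k h)
  change ev g2 τ2 y hy2 (ρ v1) = val s y (h21 hy)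
  rw [← ev_θ 𝒜 ℳ g1 τ1 he1 hg1 n W1 hW1 s y (h21 hy) hy1]
  apply smul_injective y hyk1
  change g1 ^ k • ev g2 τ2 y hy2 (ρ v1) = g1 ^ k • ev g1 τ1 y hy1 v1
  rw [ev_of_smul g1 τ1 y hy1 v1 k m hv, ← map_smul, ← map_smul, hv, hρ]
  exact ev_τ g2 τ2 y hy2 m

end Groth.Agent.Helper1.GrT
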