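import Mathlib
import Groth.Prelude.Def_GrMod2
import Groth.Agent.Helper1.GrT8
import Groth.Agent.Helper1.CechTilde

set_option autoImplicit false
set_option linter.unusedSectionVars false
set_option linter.style.haveILetI false

/-!
# Comparison of `Γ(D₊(g), M(n)~)` on `Proj` with `Γ(D(g), M~)` on `Spec`
-/

namespace Groth.Agent.Helper1.GrT

open CategoryTheory AlgebraicGeometry TopologicalSpace Opposite DirectSum
open Groth.Agent.Helper1.TildeLoc

universe u

/-- the module structure on sections of a module on `Spec R` (instance search helper) -/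
@[reducible] noncomputable def modInst (R : CommRingCat.{u}) (N : (Spec R).Modules)
    (W : (Spec R).Opens) : Module R Γ(N, W) := inferInstance

section spec

variable {A : Type u} [CommRing A] (M : Type u) [AddCommGroup M] [Module A M]

/-- sections of `M~` on `Spec A` -/
abbrev LS (W' : (Spec (CommRingCat.of A)).Opens) : Type u :=
  Γ(tilde (R := CommRingCat.of A) (ModuleCat.of A M), W')

noncomputable instance instModLS (W' : (Spec (CommRingCat.of A)).Opens) : Module A (LS M W') :=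
  modInst (CommRingCat.of A) _ W'

/-- the localization map `M → Γ(W', M~)` -/
noncomputable def τS (W' : (Spec (CommRingCat.of A)).Opens) : M →ₗ[A] LS M W' :=
  tO (R := CommRingCat.of A) (ModuleCat.of A M) W'

lemma isLoc (g : A) (W' : (Spec (CommRingCat.of A)).Opens)
    (hW' : W' = bO (R := CommRingCat.of A) g) :
    IsLocalizedModule (Submonoid.powers g) (τS M W') := by
  subst hW'
  exact instLoc (R := CommRingCat.of A) (ModuleCat.of A M) g

/-- restriction of sections of `M~`, as an `A`-linear map -/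
noncomputable def resS {W1 W2 : (Spec (CommRingCat.of A)).Opens} (h : W2 ≤ W1) :
    LS M W1 →ₗ[A] LS M W2 :=
  resL (R := CommRingCat.of A) (ModuleCat.of A M) h

lemma resS_τS {W1 W2 : (Spec (CommRingCat.of A)).Opens} (h : W2 ≤ W1) (m : M) :
    resS M h (τS M W1 m) = τS M W2 m :=
  resL_tO (R := CommRingCat.of A) (ModuleCat.of A M) h m

end spec

variable {R A : Type u} [CommRing R] [CommRing A] [Algebra R A] (𝒜 : ℕ → Submodule R A)
  [GradedAlgebra 𝒜]
variable {M : Type u} [AddCommGroup M] [Module R M] [Module A M] [IsScalarTower R A M]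
  (ℳ : ℕ → Submodule R M) [DirectSum.Decomposition ℳ] [SetLike.GradedSMul 𝒜 ℳ]

/-- **the comparison map** `Γ(D₊(g), M(n)~) → Γ(D(g), M~)` -/
noncomputable def θS (g : A) {e : ℕ} (he : 0 < e) (hg : g ∈ 𝒜 e) (n : ℤ)
    (W : Opens (ProjectiveSpectrum.top 𝒜)) (hW : W = ProjectiveSpectrum.basicOpen 𝒜 g)
    (W' : (Spec (CommRingCat.of A)).Opens) (hW' : W' = bO (R := CommRingCat.of A) g) :
    GrTilde.sect 𝒜 ℳ n (op W) →+ LS M W' :=
  haveI := isLoc M g W' hW'
  θ 𝒜 ℳ g (τS M W') he hg n W hW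

theorem θS_sum_bijective (g : A) {e : ℕ} (he : 0 < e) (hg : g ∈ 𝒜 e)
    (W : Opens (ProjectiveSpectrum.top 𝒜)) (hW : W = ProjectiveSpectrum.basicOpen 𝒜 g)
    (W' : (Spec (CommRingCat.of A)).Opens) (hW' : W' = bO (R := CommRingCat.of A) g) :
    Function.Bijective (DirectSum.toAddMonoid
      (fun n : ℤ => θS 𝒜 ℳ g he hg n W hW W' hW')) := by
  haveI := isLoc M g W' hW'
  exact θ_sum_bijective 𝒜 ℳ g (τS M W') he hg W hW

theorem θS_res (g1 g2 c : A) (hgc : g2 = c * g1)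
    {e1 e2 ec : ℕ} (he1 : 0 < e1) (he2 : 0 < e2) (hg1 : g1 ∈ 𝒜 e1) (hg2 : g2 ∈ 𝒜 e2)
    (hc : c ∈ 𝒜 ec) (hee : e2 = ec + e1) (n : ℤ)
    (W1 W2 : Opens (ProjectiveSpectrum.top 𝒜)) (hW1 : W1 = ProjectiveSpectrum.basicOpen 𝒜 g1)
    (hW2 : W2 = ProjectiveSpectrum.basicOpen 𝒜 g2) (h21 : W2 ≤ W1)
    (W1' W2' : (Spec (CommRingCat.of A)).Opens) (hW1' : W1' = bO (R := CommRingCat.of A) g1)
    (hW2' : W2' = bO (R := CommRingCat.of A) g2) (h21' : W2' ≤ W1')
    (s : GrTilde.sect 𝒜 ℳ n (op W1)) :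
    θS 𝒜 ℳ g2 he2 hg2 n W2 hW2 W2' hW2' (GrTilde.res 𝒜 ℳ n (homOfLE h21).op s) =
      resS M h21' (θS 𝒜 ℳ g1 he1 hg1 n W1 hW1 W1' hW1' s) := by
  haveI := isLoc M g1 W1' hW1'
  haveI := isLoc M g2 W2' hW2'
  exact θ_res 𝒜 ℳ g1 g2 c hgc (τS M W1') (τS M W2') (resS M h21') (resS_τS M h21')
    he1 he2 hg1 hg2 hc hee n W1 W2 hW1 hW2 h21 s

end Groth.Agent.Helper1.GrT
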