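import Mathlib
import Groth.Prelude.Def_GrMod2
import Groth.Agent.Helper1.GrT9
import Groth.Agent.Helper1.GrT4
import Groth.Agent.Helper1.CechPush
import Groth.Agent.Helper1.DSHom

set_option autoImplicit false
set_option linter.unusedSectionVars false
set_option linter.style.haveILetI false

/-!
# Čech complexes of the `M(n)~` on `Proj` and of `M~` on `Spec`
-/

namespace Groth.Agent.Helper1.GrT

open CategoryTheory AlgebraicGeometry TopologicalSpace Opposite DirectSum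
open Groth.Agent.Helper1.TildeLoc Groth.Agent.Helper1.Cech Groth.Agent.Helper1.CechTop
  Groth.Agent.Helper1.CechAug Groth.Agent.Helper1.CechTilde Groth.Agent.Helper1.CechPush

universe u

variable {R A : Type u} [CommRing R] [CommRing A] [Algebra R A] (𝒜 : ℕ → Submodule R A)
  [GradedAlgebra 𝒜]
variable {M : Type u} [AddCommGroup M] [Module R M] [Module A M] [IsScalarTower R A M]
  (ℳ : ℕ → Submodule R M) [DirectSum.Decomposition ℳ] [SetLike.GradedSMul 𝒜 ℳ]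

lemma iInf_basicOpen {n : ℕ} (h : Fin n → A) :
    (⨅ k, (ProjectiveSpectrum.basicOpen 𝒜 (h k) : Opens (ProjectiveSpectrum.top 𝒜))) =
      ProjectiveSpectrum.basicOpen 𝒜 (∏ k, h k) := by
  apply SetLike.coe_injective
  rw [Opens.coe_iInf]
  ext p
  simp only [Set.mem_iInter, SetLike.mem_coe]
  change (∀ k, h k ∉ p.asHomogeneousIdeal) ↔ (∏ k, h k) ∉ p.asHomogeneousIdeal
  constructor
  · intro hk hprod
    obtain ⟨k, -, hk'⟩ := (Ideal.IsPrime.prod_mem_iff (hp := p.isPrime)).1 hprod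
    exact hk k hk'
  · intro hprod k hk
    exact hprod ((Ideal.IsPrime.prod_mem_iff (hp := p.isPrime)).2 ⟨k, Finset.mem_univ k, hk⟩)

variable (fs : List A) (d : ULift.{u} (Fin fs.length) → ℕ) (hd : ∀ i, 0 < d i)
  (hfd : ∀ i : ULift.{u} (Fin fs.length), fs.get i.down ∈ 𝒜 (d i))

/-- the opens `D₊(f_i)` of `Proj` -/
noncomputable def UP : ULift.{u} (Fin fs.length) → Opens (ProjectiveSpectrum.top 𝒜) :=
  fun i => ProjectiveSpectrum.basicOpen 𝒜 (fs.get i.down)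

lemma prodU_UP {p : ℕ} (x : Fin (p + 1) → ULift.{u} (Fin fs.length)) :
    prodU (UP 𝒜 fs) x = ProjectiveSpectrum.basicOpen 𝒜 (gx fs x) := by
  rw [prodU_eq]
  exact iInf_basicOpen 𝒜 (fun k => fs.get (x k).down)

include hfd in
lemma gx_mem {p : ℕ} (x : Fin (p + 1) → ULift.{u} (Fin fs.length)) :
    gx fs x ∈ 𝒜 (∑ k, d (x k)) :=
  SetLike.prod_mem_graded 𝒜 (fun k => d (x k)) (fun k => fs.get (x k).down)
    (fun k _ => hfd (x k))

include hd in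
lemma deg_pos {p : ℕ} (x : Fin (p + 1) → ULift.{u} (Fin fs.length)) :
    0 < ∑ k, d (x k) :=
  lt_of_lt_of_le (hd (x 0)) (Finset.single_le_sum (f := fun k => d (x k))
    (fun k _ => Nat.zero_le _) (Finset.mem_univ 0))

/-- the presheaf of abelian groups of `M(n)~` -/
noncomputable abbrev QP (n : ℤ) : (Opens (ProjectiveSpectrum.top 𝒜))ᵒᵖ ⥤ AddCommGrpCat.{u} :=
  (Coh.toAb (GrTilde.tilde 𝒜 ℳ n)).obj

/-- the presheaf of abelian groups of `M~` on `Spec A` -/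
noncomputable abbrev PS : (Opens (Spec (CommRingCat.of A)).carrier)ᵒᵖ ⥤ AddCommGrpCat.{u} :=
  (TP A).obj (ModuleCat.of A M)

/-- the comparison maps on components -/
noncomputable def Θ (n : ℤ) (p : ℕ) (x : Fin (p + 1) → ULift.{u} (Fin fs.length)) :
    (QP 𝒜 ℳ n).obj (op (prodU (UP 𝒜 fs) x)) ⟶
      (PS (A := A) (M := M)).obj (op (prodU (UU fs) x)) :=
  AddCommGrpCat.ofHom (θS 𝒜 ℳ (gx fs x) (deg_pos fs d hd x) (gx_mem 𝒜 fs d hfd x) n
    (prodU (UP 𝒜 fs) x) (prodU_UP 𝒜 fs x) (prodU (UU fs) x) (prodU_eq_bO fs x))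


lemma Θ_apply (n : ℤ) (p : ℕ) (x : Fin (p + 1) → ULift.{u} (Fin fs.length))
    (s : (QP 𝒜 ℳ n).obj (op (prodU (UP 𝒜 fs) x))) :
    Θ 𝒜 ℳ fs d hd hfd n p x s =
      θS 𝒜 ℳ (gx fs x) (deg_pos fs d hd x) (gx_mem 𝒜 fs d hfd x) n
        (prodU (UP 𝒜 fs) x) (prodU_UP 𝒜 fs x) (prodU (UU fs) x) (prodU_eq_bO fs x) s := rfl

lemma gx_succAbove {p : ℕ} (j : Fin (p + 2)) (x : Fin (p + 2) → ULift.{u} (Fin fs.length)) :
    gx fs x = fs.get (x j).down * gx fs (x ∘ j.succAbove) := by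
  unfold gx
  rw [Fin.prod_univ_succAbove _ j]
  rfl

lemma Θ_comm (n : ℤ) (p : ℕ) (j : Fin (p + 2)) (x : Fin (p + 2) → ULift.{u} (Fin fs.length)) :
    (QP 𝒜 ℳ n).map (face (UP 𝒜 fs) j x).op ≫ Θ 𝒜 ℳ fs d hd hfd n (p + 1) x =
      Θ 𝒜 ℳ fs d hd hfd n p (x ∘ j.succAbove) ≫
        (PS (A := A) (M := M)).map (face (UU fs) j x).op := by
  apply AddCommGrpCat.hom_ext
  apply AddMonoidHom.ext
  intro s
  have hee : ∑ k, d (x k) = d (x j) + ∑ k, d ((x ∘ j.succAbove) k) := by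
    rw [Fin.sum_univ_succAbove _ j]
    rfl
  exact θS_res 𝒜 ℳ (gx fs (x ∘ j.succAbove)) (gx fs x) (fs.get (x j).down)
    (gx_succAbove fs j x) (deg_pos fs d hd (x ∘ j.succAbove)) (deg_pos fs d hd x)
    (gx_mem 𝒜 fs d hfd (x ∘ j.succAbove)) (gx_mem 𝒜 fs d hfd x) (hfd (x j)) hee n
    (prodU (UP 𝒜 fs) (x ∘ j.succAbove)) (prodU (UP 𝒜 fs) x)
    (prodU_UP 𝒜 fs (x ∘ j.succAbove)) (prodU_UP 𝒜 fs x) (face (UP 𝒜 fs) j x).le
    (prodU (UU fs) (x ∘ j.succAbove)) (prodU (UU fs) x)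
    (prodU_eq_bO fs (x ∘ j.succAbove)) (prodU_eq_bO fs x) (face (UU fs) j x).le s

/-- the chain maps from the Čech complexes of the `M(n)~` to the Čech complex of `M~` -/
noncomputable def φC (n : ℤ) : cx (UP 𝒜 fs) (QP 𝒜 ℳ n) ⟶ cx (UU fs) (PS (A := A) (M := M)) :=
  cxMap (UP 𝒜 fs) (UU fs) (QP 𝒜 ℳ n) (PS (A := A) (M := M)) (Θ 𝒜 ℳ fs d hd hfd n)
    (Θ_comm 𝒜 ℳ fs d hd hfd n)

/-- the total comparison on the `x`-component -/
noncomputable def TX (q : ℕ) (x : Fin (q + 1) → ULift.{u} (Fin fs.length)) :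
    (⨁ n : ℤ, ((QP 𝒜 ℳ n).obj (op (prodU (UP 𝒜 fs) x)) : AddCommGrpCat.{u})) →+
      ((PS (A := A) (M := M)).obj (op (prodU (UU fs) x)) : AddCommGrpCat.{u}) :=
  DirectSum.toAddMonoid (fun n : ℤ => (Θ 𝒜 ℳ fs d hd hfd n q x).hom)

lemma TX_bijective (q : ℕ) (x : Fin (q + 1) → ULift.{u} (Fin fs.length)) :
    Function.Bijective (TX 𝒜 ℳ fs d hd hfd q x) :=
  θS_sum_bijective 𝒜 ℳ (gx fs x) (deg_pos fs d hd x) (gx_mem 𝒜 fs d hfd x)
    (prodU (UP 𝒜 fs) x) (prodU_UP 𝒜 fs x) (prodU (UU fs) x) (prodU_eq_bO fs x)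

lemma comp_ΦX (q : ℕ) (x : Fin (q + 1) → ULift.{u} (Fin fs.length))
    (c : ⨁ n : ℤ, ((cx (UP 𝒜 fs) (QP 𝒜 ℳ n)).X q : AddCommGrpCat.{u})) :
    comp (UU fs) (PS (A := A) (M := M)) q x
      (DSHom.ΦX (fun n : ℤ => cx (UP 𝒜 fs) (QP 𝒜 ℳ n)) (cx (UU fs) (PS (A := A) (M := M)))
        (φC 𝒜 ℳ fs d hd hfd) q c) =
    TX 𝒜 ℳ fs d hd hfd q x
      (DirectSum.map (fun n : ℤ => (comp (UP 𝒜 fs) (QP 𝒜 ℳ n) q x).hom) c) := by
  induction c using DirectSum.induction_on with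
  | zero => simp
  | of n z =>
    rw [DirectSum.map_of]
    unfold DSHom.ΦX TX
    rw [DirectSum.toAddMonoid_of, DirectSum.toAddMonoid_of]
    exact comp_cxMapF (UP 𝒜 fs) (UU fs) (QP 𝒜 ℳ n) (PS (A := A) (M := M))
      (Θ 𝒜 ℳ fs d hd hfd n) q x z
  | add a b ha hb => rw [map_add, map_add, map_add, map_add, ha, hb]

theorem ΦX_bijective (q : ℕ) :
    Function.Bijective
      (DSHom.ΦX (fun n : ℤ => cx (UP 𝒜 fs) (QP 𝒜 ℳ n)) (cx (UU fs) (PS (A := A) (M := M)))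
        (φC 𝒜 ℳ fs d hd hfd) q) := by
  constructor
  · rw [injective_iff_map_eq_zero]
    intro c hc
    apply DirectSum.ext
    intro n
    apply Cech.ext
    intro x
    have h1 := comp_ΦX 𝒜 ℳ fs d hd hfd q x c
    rw [hc, map_zero] at h1
    have h2 := (TX_bijective 𝒜 ℳ fs d hd hfd q x).1 (h1.symm.trans (map_zero _).symm)
    have h3 := congrArg (fun z => z n) h2
    simp only [DirectSum.map_apply] at h3
    rw [h3]
    simp
  · intro y
    have h1 : ∀ x : Fin (q + 1) → ULift.{u} (Fin fs.length), ∃ b,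
        TX 𝒜 ℳ fs d hd hfd q x b = comp (UU fs) (PS (A := A) (M := M)) q x y :=
      fun x => (TX_bijective 𝒜 ℳ fs d hd hfd q x).2 _
    choose b hb using h1
    letI : ∀ (n : ℤ) (x : Fin (q + 1) → ULift.{u} (Fin fs.length))
      (z : ((QP 𝒜 ℳ n).obj (op (prodU (UP 𝒜 fs) x)) : AddCommGrpCat.{u})),
        Decidable (z ≠ 0) := fun _ _ _ => Classical.dec _
    let S : Finset ℤ := Finset.univ.biUnion (fun x => DFinsupp.support (b x))
    let c : ⨁ n : ℤ, ((cx (UP 𝒜 fs) (QP 𝒜 ℳ n)).X q : AddCommGrpCat.{u}) :=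
      ∑ n ∈ S, DirectSum.of (fun n : ℤ => ((cx (UP 𝒜 fs) (QP 𝒜 ℳ n)).X q : AddCommGrpCat.{u})) n
        (Cech.mk (fun x => b x n))
    refine ⟨c, ?_⟩
    apply Cech.ext
    intro x
    rw [comp_ΦX, ← hb x]
    congr 1
    change (DirectSum.map fun n => AddCommGrpCat.Hom.hom (comp (UP 𝒜 fs) (QP 𝒜 ℳ n) q x))
      (∑ n ∈ S, DirectSum.of (fun n : ℤ => ((cx (UP 𝒜 fs) (QP 𝒜 ℳ n)).X q : AddCommGrpCat.{u})) n
        (Cech.mk (fun x => b x n))) = b x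
    rw [map_sum]
    conv_rhs => rw [← DirectSum.sum_support_of (b x)]
    have hsub : DFinsupp.support (b x) ⊆ S := by
      intro n hn
      exact Finset.mem_biUnion.2 ⟨x, Finset.mem_univ x, hn⟩
    rw [← Finset.sum_subset hsub]
    · refine Finset.sum_congr rfl (fun n _ => ?_)
      rw [DirectSum.map_of]
      congr 1
      exact comp_mk _ x
    · intro n _ hn
      rw [DFinsupp.notMem_support_iff] at hn
      rw [DirectSum.map_of]
      have : (comp (UP 𝒜 fs) (QP 𝒜 ℳ n) q x).hom (Cech.mk (fun x => b x n)) = 0 :=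
        (comp_mk _ x).trans hn
      rw [this, map_zero]

end Groth.Agent.Helper1.GrT
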