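import Groth.Agent.Helper1.CohTopFun
import Groth.Prelude.Def_Coh

/-!
# `H^p(U, M|_U)` (prelude's `Coh.HHon`) versus `CohTop.HU`, for general `X`, `M`, `U`

Stated for variables so that the (expensive) definitional unfolding is checked by the kernel
only once, in general form.
-/

set_option autoImplicit false

namespace Groth.Agent.Helper1.HHonHU

open CategoryTheory AlgebraicGeometry TopologicalSpace Opposite

universe u

theorem nonempty_HHon_HU (X : Scheme.{u}) (M : X.Modules) (U : X.Opens) (p : ℕ) :
    Nonempty (Coh.HHon X M U p ≃+ CohTop.HU (Coh.toAb M) p U) := by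
  obtain ⟨e1⟩ := Groth.Agent.Helper1.CohTopFun.nonempty_iso_HU_restr
    (X := X.carrier) U p (Coh.toAb M)
  exact ⟨e1.symm.addCommGroupIsoToAddEquiv⟩

end Groth.Agent.Helper1.HHonHU
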