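import Groth.Agent.Helper1.Cartan

/-!
# Cartan's criterion relative to a basis and a class of coverings
-/

namespace Groth.Agent.Helper1.Cartan

open CategoryTheory Limits Opposite TopologicalSpace Abelian
open Groth.Agent.Lead.CohTopB
open Groth.Agent.Helper1.DeltaCmp
open Groth.Agent.Helper1.Cech
open Groth.Agent.Helper1.CechTop
open Groth.Agent.Helper1.CohTopExt
open Groth.Agent.Helper1.CohTopCech

universe u

theorem cartan_basis {X : TopCat.{u}} (F : CohTop.Ab X)
    (B : Set (Opens X)) (Cov : ∀ (ι : Type u), (ι → Opens X) → Prop)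
    (h1 : ∀ (ι : Type u) (V : ι → Opens X), Cov ι V →
      iSup V ∈ B ∧ ∀ (p : ℕ) (a : Fin (p + 1) → ι), (iInf fun k => V (a k)) ∈ B)
    (h2 : ∀ U ∈ B, ∀ (κ : Type u) (W : κ → Opens X), iSup W = U →
      ∃ (ι : Type u) (V : ι → Opens X), Cov ι V ∧ iSup V = U ∧ ∀ i, ∃ k, V i ≤ W k)
    (h3 : ∀ (ι : Type u) (V : ι → Opens X), Cov ι V → ∀ p : ℕ, IsZero (CohTop.cechH F.obj V (p + 1)))
    (U : Opens X) (hU : U ∈ B) (p : ℕ) : Subsingleton (CohTop.HU F (p + 1) U) := by
  -- the class of sheaves with vanishing Čech cohomology on `Cov`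
  let 𝒞 : CohTop.Ab X → Prop := fun G => ∀ (ι : Type u) (V : ι → Opens X), Cov ι V →
    ∀ p : ℕ, IsZero (CohTop.cechH G.obj V (p + 1))
  have hsurj : ∀ (S : ShortComplex (CohTop.Ab X)), S.ShortExact → 𝒞 S.X₁ → ∀ W ∈ B,
      Function.Surjective (S.g.hom.app (Opposite.op W)) := by
    intro S hS hC W hW
    apply surjective_of_refine S hS W
    intro κ W' hW'
    obtain ⟨ι, V, hV, hVU, hr⟩ := h2 W hW κ W' hW'
    choose r hr using hr
    exact ⟨ι, V, r, hVU, hr, hC ι V hV 0⟩
  have hQ : ∀ (S : ShortComplex (CohTop.Ab X)), S.ShortExact → 𝒞 S.X₁ → Injective S.X₂ →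
      𝒞 S.X₃ := by
    intro S hS hC hI ι V hV p
    have hsec : SectionwiseExact V (S.map (sheafToPresheaf _ _)) := by
      intro m x
      refine shortExact_sections hS _ (hsurj S hS hC _ ?_)
      rw [prodU_eq]
      exact (h1 ι V hV).2 m x
    have hC' := shortExact_map_cech hsec
    have hex := hC'.homology_exact₃ (p + 1) (p + 2) rfl
    exact hex.isZero_X₂ ((isZero_cech_of_injective V S.X₂ p).eq_of_src _ _)
      ((hC ι V hV (p + 1)).eq_of_tgt _ _)
  have main : ∀ (p : ℕ) (G : CohTop.Ab X), 𝒞 G → ∀ W ∈ B,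
      Subsingleton (Ext (freeU W) G (p + 1)) := by
    intro p
    induction p with
    | zero =>
      intro G hG W hW
      refine subsingleton_of_forall_eq 0 (fun x => ?_)
      obtain ⟨S, hS, hI, rfl⟩ : ∃ (S : ShortComplex (CohTop.Ab X)) (_ : S.ShortExact)
          (_ : Injective S.X₂), S.X₁ = G := ⟨injSC G, injSC_shortExact G, inferInstance, rfl⟩
      have h0 : x.comp (Ext.mk₀ S.f) (add_zero 1) = 0 := Ext.eq_zero_of_injective _
      obtain ⟨x₃, hx₃⟩ := Ext.covariant_sequence_exact₁ _ hS x h0 (zero_add 1)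
      obtain ⟨q, rfl⟩ := (Ext.mk₀_bijective _ S.X₃).2 x₃
      obtain ⟨t, ht⟩ := hsurj S hS hG W hW (homEquiv W _ q)
      have hq : (homEquiv W _).symm t ≫ S.g = q := by
        apply (homEquiv W _).injective
        rw [homEquiv_comp, Equiv.apply_symm_apply]
        exact ht
      rw [← hx₃, ← hq, ← Ext.mk₀_comp_mk₀, Ext.comp_assoc_of_second_deg_zero,
        hS.comp_extClass, Ext.comp_zero]
    | succ p ih =>
      intro G hG W hW
      refine subsingleton_of_forall_eq 0 (fun x => ?_)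
      obtain ⟨S, hS, hI, rfl⟩ : ∃ (S : ShortComplex (CohTop.Ab X)) (_ : S.ShortExact)
          (_ : Injective S.X₂), S.X₁ = G := ⟨injSC G, injSC_shortExact G, inferInstance, rfl⟩
      have h0 : x.comp (Ext.mk₀ S.f) (add_zero _) = 0 := Ext.eq_zero_of_injective _
      obtain ⟨x₃, hx₃⟩ := Ext.covariant_sequence_exact₁ _ hS x h0 rfl
      have := ih S.X₃ (hQ S hS hG hI) W hW
      rw [← hx₃, Subsingleton.elim x₃ 0, Ext.zero_comp]
  exact main p F h3 U hU


end Groth.Agent.Helper1.Cartan
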