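import Groth.Agent.Helper1.SerreC
import Groth.Agent.Helper1.CartanBasis
import Groth.Agent.Helper1.CohTopFun

/-!
# Serre vanishing: quasi-coherent modules have no higher cohomology over affine opens
-/

set_option autoImplicit false

namespace Groth.Agent.Helper1.Serre

open CategoryTheory Limits Opposite TopologicalSpace AlgebraicGeometry Abelian
open Groth.Agent.Helper1.Cech Groth.Agent.Helper1.CechTop
open Groth.Agent.Helper1.DeltaCmp Groth.Agent.Helper1.CohTopExt Groth.Agent.Helper1.CohTopFun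
open Groth.Agent.Helper1.CohTopCech Groth.Agent.Lead.CohTopB

universe u

section bridge

variable {X : TopCat.{u}}

/-- global cohomology as a sequence of functors -/
noncomputable abbrev HgSeq (n : ℕ) : CohTop.Ab X ⥤ AddCommGrpCat.{u} :=
  extSeq (𝟭 (CohTop.Ab X)) (constZ X) n

/-- `H⁰(X, F) ≅ F(⊤)`, naturally in `F` -/
noncomputable def glob0Iso : HgSeq (X := X) 0 ≅ sectionsFunctor (⊤ : Opens X) :=
  NatIso.ofComponents (fun F => (Sheaf.H.equiv₀ F isTerminalTop).toAddCommGrpIso)
    (by
      intro F G φ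
      apply AddCommGrpCat.hom_ext
      apply AddMonoidHom.ext
      intro x
      show Sheaf.H.equiv₀ G isTerminalTop (Sheaf.H.map φ 0 x) =
        φ.hom.app (op ⊤) (Sheaf.H.equiv₀ F isTerminalTop x)
      rw [← Sheaf.H.equiv₀_naturality])

lemma isZero_HgSeq_of_injective (I : CohTop.Ab X) [Injective I] (n : ℕ) :
    IsZero ((HgSeq (n + 1)).obj I) := by
  have : Subsingleton ((HgSeq (n + 1)).obj I) :=
    subsingleton_of_forall_eq 0 fun x => Ext.eq_zero_of_injective (C := CohTop.Ab X) x
  exact AddCommGrpCat.isZero_of_subsingleton _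

theorem nonempty_iso_HU_top (n : ℕ) (F : CohTop.Ab X) :
    Nonempty ((HUSeq (⊤ : Opens X) n).obj F ≅ (HgSeq n).obj F) := by
  have e : HUSeq (⊤ : Opens X) 0 ≅ HgSeq 0 := ext0Iso ⊤ ≪≫ glob0Iso.symm
  have key : ∀ F : CohTop.Ab X, True →
      Nonempty (Effacement (fun n => HUSeq (⊤ : Opens X) n) (fun n => HgSeq n)
        (fun _ => True) F) := by
    intro F _
    obtain ⟨S, hS, hI, rfl⟩ : ∃ (S : ShortComplex (CohTop.Ab X)) (_ : S.ShortExact)
        (_ : Injective S.X₂), S.X₁ = F := ⟨injSC F, injSC_shortExact F, inferInstance, rfl⟩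
    have l1 : HasLES (fun n => HUSeq (⊤ : Opens X) n) S :=
      hasLES_extSeq (𝟭 (CohTop.Ab X)) (freeU ⊤) S hS
    have l2 : HasLES (fun n => HgSeq n) S :=
      hasLES_extSeq (𝟭 (CohTop.Ab X)) (constZ X) S hS
    exact ⟨{
      S := S
      iso := rfl
      mem := trivial
      zero := fun n => isZero_HUSeq_of_injective _ _ n
      zero' := fun n => isZero_HgSeq_of_injective _ n
      les := l1
      les' := l2 }⟩
  exact nonempty_iso (fun _ => True) e key n F trivial

end bridge

variable {X : Scheme.{u}}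

/-- standard coverings of affine opens by basic opens -/
def StdCov (X : Scheme.{u}) (ι : Type u) (V : ι → X.Opens) : Prop :=
  Finite ι ∧ ∃ (U : X.Opens) (_ : IsAffineOpen U) (g : ι → Γ(X, U)),
    V = bV g ∧ Ideal.span (Set.range g) = ⊤

lemma iSup_bV_eq {U : X.Opens} (hU : IsAffineOpen U) {ι : Type u} (g : ι → Γ(X, U))
    (hg : Ideal.span (Set.range g) = ⊤) : iSup (bV g) = U := by
  have := (hU.iSup_basicOpen_eq_self_iff (s := Set.range g)).2 hg
  exact (iSup_range' (fun f : Γ(X, U) => X.basicOpen f) g).symm.trans this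

/-- **Serre vanishing** over affine opens -/
theorem subsingleton_HU_of_isAffineOpen (M : X.Modules) [M.IsQuasicoherent] {U : X.Opens}
    (hU : IsAffineOpen U) (p : ℕ) : Subsingleton (CohTop.HU (Coh.toAb M) (p + 1) U) := by
  refine Cartan.cartan_basis (Coh.toAb M) {U | IsAffineOpen U} (StdCov X) ?_ ?_ ?_ U hU p
  · rintro ι V ⟨hfin, U, hU, g, rfl, hg⟩
    refine ⟨?_, fun p a => ?_⟩
    · rw [iSup_bV_eq hU g hg]
      exact hU
    · exact isAffineOpen_iInf_basicOpen hU (fun k => g (a k))
  · intro U hU κ W hWU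
    let S : Set Γ(X, U) := {f | ∃ k, X.basicOpen f ≤ W k}
    have hS : Ideal.span S = ⊤ := by
      rw [← hU.self_le_iSup_basicOpen_iff]
      intro x hx
      have hx' : x ∈ iSup W := by
        rw [hWU]
        exact hx
      obtain ⟨k, hk⟩ := Opens.mem_iSup.1 hx'
      obtain ⟨f, hf, hxf⟩ := hU.exists_basicOpen_le (V := W k) ⟨x, hk⟩ hx
      exact Opens.mem_iSup.2 ⟨⟨f, k, hf⟩, hxf⟩
    obtain ⟨s', hs'S, hs'⟩ := (Ideal.span_eq_top_iff_finite S).1 hS
    refine ⟨{x // x ∈ s'}, bV (fun i : {x // x ∈ s'} => i.1), ⟨inferInstance, U, hU, _, rfl, ?_⟩,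
      ?_, ?_⟩
    · have : Set.range (fun i : {x // x ∈ s'} => i.1) = (s' : Set Γ(X, U)) := Subtype.range_coe
      rw [this]
      exact hs'
    · apply iSup_bV_eq hU
      have : Set.range (fun i : {x // x ∈ s'} => i.1) = (s' : Set Γ(X, U)) := Subtype.range_coe
      rw [this]
      exact hs'
    · intro i
      exact hs'S i.2
  · rintro ι V ⟨hfin, U, hU, g, rfl, hg⟩ p
    haveI := Fintype.ofFinite ι
    exact isZero_cechH M hU g hg p

/-- **Serre vanishing**: quasi-coherent modules on affine schemes have no higher cohomology -/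
theorem subsingleton_HH_of_isAffine [IsAffine X] (M : X.Modules) [M.IsQuasicoherent] (p : ℕ) :
    Subsingleton (Coh.HH X M (p + 1)) := by
  have h1 : Subsingleton ((HUSeq (⊤ : Opens X) (p + 1)).obj (Coh.toAb M)) :=
    subsingleton_HU_of_isAffineOpen M (isAffineOpen_top X) p
  obtain ⟨e⟩ := nonempty_iso_HU_top (p + 1) (Coh.toAb M)
  exact e.addCommGroupIsoToAddEquiv.symm.toEquiv.subsingleton

end Groth.Agent.Helper1.Serre
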