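import Groth.Agent.Helper1.CohTopExt
import Groth.Agent.Helper1.CechInjA

/-!
# Comparison of Čech cohomology and derived functor cohomology on a class of sheaves
-/

namespace Groth.Agent.Helper1.CohTopCech

open CategoryTheory Limits Opposite TopologicalSpace Abelian
open Groth.Agent.Lead.CohTopB
open Groth.Agent.Helper1.DeltaCmp
open Groth.Agent.Helper1.Cech
open Groth.Agent.Helper1.CechTop
open Groth.Agent.Helper1.CohTopExt

universe u

variable {X : TopCat.{u}}

lemma injective_app_of_mono {F G : CohTop.Ab X} (f : F ⟶ G) [Mono f] (W : Opens X) :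
    Function.Injective (f.hom.app (op W)) := by
  have h1 : Mono ((sheafToPresheaf _ _).map f) := inferInstance
  rw [NatTrans.mono_iff_mono_app] at h1
  exact (AddCommGrpCat.mono_iff_injective _).1 (h1 (op W))

/-- sections of a short exact sequence of sheaves over `W` form a short exact sequence as soon as
the last map is surjective -/
lemma shortExact_sections {S : ShortComplex (CohTop.Ab X)} (hS : S.ShortExact) (W : Opens X)
    (hsurj : Function.Surjective (S.g.hom.app (op W))) :
    ((S.map (sheafToPresheaf _ _)).map ((evaluation _ _).obj (op W))).ShortExact := by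
  have := hS.mono_f
  apply shortExact_ab
  · exact injective_app_of_mono S.f W
  · intro y hy
    exact TopCat.Sheaf.sections_exact_of_left_exact hS.1 hS.2 y hy
  · exact hsurj

/-- if `H¹(W, X₁) = 0`, then `X₂(W) → X₃(W)` is surjective -/
lemma surjective_of_ext_one {S : ShortComplex (CohTop.Ab X)} (hS : S.ShortExact) (W : Opens X)
    (h : Subsingleton (Ext (freeU W) S.X₁ 1)) : Function.Surjective (S.g.hom.app (op W)) := by
  intro q
  let φ : freeU W ⟶ S.X₃ := (homEquiv W S.X₃).symm q
  obtain ⟨x₂, hx₂⟩ := Ext.covariant_sequence_exact₃ (freeU W) hS (Ext.mk₀ φ) (zero_add 1)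
    (Subsingleton.elim _ _)
  obtain ⟨ψ, rfl⟩ := (Ext.mk₀_bijective _ _).2 x₂
  rw [Ext.mk₀_comp_mk₀] at hx₂
  have hψ : ψ ≫ S.g = φ := (Ext.mk₀_bijective _ _).1 hx₂
  refine ⟨homEquiv W S.X₂ ψ, ?_⟩
  rw [← homEquiv_comp, hψ]
  exact Equiv.apply_symm_apply _ _

lemma injective_presheaf (I : CohTop.Ab X) [Injective I] : Injective I.obj := by
  have hI : Injective ((sheafToPresheaf (Opens.grothendieckTopology X) AddCommGrpCat.{u}).obj I) :=
    Injective.injective_of_adjoint
      (sheafificationAdjunction (Opens.grothendieckTopology X) AddCommGrpCat.{u}) I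
  exact hI

variable {ι : Type u} (U : ι → Opens X)

lemma isZero_cech_of_injective (I : CohTop.Ab X) [Injective I] (n : ℕ) :
    IsZero ((cechHSh U (n + 1)).obj I) := by
  have := injective_presheaf I
  show IsZero ((cx U I.obj).homology (n + 1))
  apply isZero_homology_of_exists
  intro c hc
  have := @CechInj.exists_of_cocycle_self (Opens X) _ _ _ ι U I.obj _ n
  exact this c hc

/-- The comparison theorem: let `𝒜` be a class of abelian sheaves such that for every short exact
sequence `0 → F → I → Q → 0` with `F` in `𝒜` and `I` injective, `Q` is in `𝒜` and the sequence is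
exact on sections over all finite intersections of members of `U`.  Then Čech cohomology of `U`
agrees with cohomology over `⋃ U` on `𝒜`. -/
theorem cech_iso_of_class (𝒜 : CohTop.Ab X → Prop)
    (h𝒜 : ∀ (S : ShortComplex (CohTop.Ab X)), S.ShortExact → 𝒜 S.X₁ → Injective S.X₂ →
      𝒜 S.X₃ ∧ SectionwiseExact U (S.map (sheafToPresheaf _ _))) :
    ∀ (n : ℕ) (F : CohTop.Ab X), 𝒜 F →
      Nonempty ((cechHSh U n).obj F ≅ (HUSeq (iSup U) n).obj F) := by
  have e : cechHSh U 0 ≅ HUSeq (iSup U) 0 := (h0Iso U).symm ≪≫ (ext0Iso (iSup U)).symm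
  have key : ∀ F, 𝒜 F →
      Nonempty (Effacement (fun n => cechHSh U n) (fun n => HUSeq (iSup U) n) 𝒜 F) := by
    intro F hF
    obtain ⟨S, hS, hI, rfl⟩ : ∃ (S : ShortComplex (CohTop.Ab X)) (_ : S.ShortExact)
        (_ : Injective S.X₂), S.X₁ = F := ⟨injSC F, injSC_shortExact F, inferInstance, rfl⟩
    obtain ⟨h1, h2⟩ := h𝒜 S hS hF hI
    have l1 : HasLES (fun n => cechHSh U n) S :=
      hasLES_cech (U := U) (sheafToPresheaf (Opens.grothendieckTopology X) AddCommGrpCat.{u}) S h2
    have l2 : HasLES (fun n => HUSeq (iSup U) n) S :=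
      hasLES_extSeq (𝟭 (CohTop.Ab X)) (freeU (iSup U)) S hS
    exact ⟨{
      S := S
      iso := rfl
      mem := h1
      zero := fun n => isZero_cech_of_injective U _ n
      zero' := fun n => isZero_HUSeq_of_injective _ _ n
      les := l1
      les' := l2 }⟩
  exact nonempty_iso 𝒜 e key

end Groth.Agent.Helper1.CohTopCech
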