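import Groth.Agent.Helper1.ProjH04
import Groth.Agent.Helper1.KoszulPoly3
import Groth.Agent.S4479

/-!
# Vanishing of the middle cohomology of `O(d)` on projective space
-/

set_option autoImplicit false
set_option linter.style.haveILetI false

namespace Groth.Agent.Helper1.ProjTop

open CategoryTheory AlgebraicGeometry TopologicalSpace Opposite MvPolynomial Limits
open Groth.Agent.Helper1.GrT Groth.Agent.Helper1.MVTop Groth.Agent.Helper1.PolyTop
open Groth.Agent.Helper1.KoszulPoly Groth.Agent.Helper1.ProjSpR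

universe u

section general

/-- cohomology of the restriction to the whole space -/
theorem nonempty_HHon_top (X : Scheme.{u}) (M : X.Modules) (U : X.Opens) (hU : U = ⊤) (p : ℕ) :
    Nonempty (Coh.HHon X M U p ≃+ Coh.HH X M p) := by
  obtain ⟨e1⟩ := Groth.Agent.Helper1.CohTopFun.nonempty_iso_HU_restr
    (X := X.carrier) U p (Coh.toAb M)
  have e2 : Coh.HHon X M U p ≃+ CohTop.HU (Coh.toAb M) p U :=
    e1.symm.addCommGroupIsoToAddEquiv
  subst hU
  exact ⟨e2.trans (globEquiv (Coh.toAb M) p).symm⟩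

end general

variable (r : ℕ) (R : Type u) [CommRing R]

lemma iSup_basicOpen_fsX :
    (⨆ i : Fin (fsX R r).length, Proj.basicOpen (𝒜 r R) ((fsX R r).get i)) = ⊤ := by
  rw [eq_top_iff]
  intro x _
  have hx : x ∈ Scup (V r R (Fin.last r)) (initList (V r R)) := by
    rw [Scup_eq_top]
    trivial
  obtain ⟨j, hj⟩ := (mem_Scup_family (V r R) x).1 hx
  have hlen : (fsX R r).length = r + 1 := fsX_length R r
  refine Opens.mem_iSup.2 ⟨⟨j.1, by rw [hlen]; exact j.2⟩, ?_⟩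
  have hget : (fsX R r).get ⟨j.1, by rw [hlen]; exact j.2⟩ =
      (X j : MvPolynomial (Fin (r + 1)) R) := by
    unfold fsX
    rw [List.get_eq_getElem, List.getElem_ofFn]
  rw [hget]
  exact hj

theorem subsingleton_mid_tilde (d : ℤ) (p : ℕ) (hp : 1 ≤ p) (hpr : p ≠ r) :
    Subsingleton (Coh.HH (Proj (𝒜 r R)) (GrTilde.tilde (𝒜 r R) (𝒜 r R) d) p) := by
  have hfs : ∀ a ∈ fsX R r, ∃ e : ℕ, 0 < e ∧ a ∈ 𝒜 r R e := by
    intro a ha
    unfold fsX at ha
    obtain ⟨j, rfl⟩ := (List.mem_ofFn' _ a).1 ha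
    exact ⟨1, Nat.one_pos, X_mem r R j⟩
  obtain ⟨E⟩ := Groth.Agent.S4479.result (𝒜 r R) (fsX R r) hfs (𝒜 r R) p hp
  have hK : Subsingleton (CohIII.koszulHLim (fsX R r)
      (ModuleCat.of (MvPolynomial (Fin (r + 1)) R) (MvPolynomial (Fin (r + 1)) R)) (p + 1)) := by
    have hj : (((p + 1 : ℕ) : ℤ) - ((fsX R r).length : ℤ)) ≠ 0 := by
      rw [fsX_length]
      push_cast
      omega
    exact subsingleton_HLim R r _ hj
  have hD : Subsingleton (DirectSum ℤ (fun n : ℤ => Coh.HHon (Proj (𝒜 r R))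
      (GrTilde.tilde (𝒜 r R) (𝒜 r R) n)
      (⨆ i : Fin (fsX R r).length, Proj.basicOpen (𝒜 r R) ((fsX R r).get i)) p)) :=
    E.toEquiv.subsingleton
  have hd : Subsingleton (Coh.HHon (Proj (𝒜 r R)) (GrTilde.tilde (𝒜 r R) (𝒜 r R) d)
      (⨆ i : Fin (fsX R r).length, Proj.basicOpen (𝒜 r R) ((fsX R r).get i)) p) := by
    refine ⟨fun a b => ?_⟩
    apply DirectSum.of_injective (β := fun n : ℤ => Coh.HHon (Proj (𝒜 r R))
      (GrTilde.tilde (𝒜 r R) (𝒜 r R) n)
      (⨆ i : Fin (fsX R r).length, Proj.basicOpen (𝒜 r R) ((fsX R r).get i)) p) d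
    exact Subsingleton.elim _ _
  obtain ⟨e⟩ := nonempty_HHon_top (Proj (𝒜 r R)) (GrTilde.tilde (𝒜 r R) (𝒜 r R) d) _
    (iSup_basicOpen_fsX r R) p
  exact e.symm.toEquiv.subsingleton

attribute [local instance] overR

theorem subsingleton_mid (d : ℤ) (p : ℕ) (hp : 1 ≤ p) (hpr : p ≠ r) :
    Subsingleton (Coh.HH (CohB1.ProjSpace r R) (Twist.twistProjSpace r R d) p) := by
  have := subsingleton_mid_tilde r R d p hp hpr
  exact (HHlinEquiv R (X := Proj (𝒜 r R))
    (Groth.Agent.Helper1.TwistIso.twistIsoTilde (𝒜 r R) d) p).toEquiv.subsingleton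

end Groth.Agent.Helper1.ProjTop
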