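import Mathlib
import Groth.Prelude.Def_GrMod2
import Groth.Agent.Helper1.ProjO
import Groth.Agent.Helper1.BasisHom

set_option autoImplicit false
set_option linter.unusedSectionVars false

/-!
# Restriction maps and fractions on opens of `Proj`: small calculus
-/

namespace Groth.Agent.Helper1.ProjQc

open CategoryTheory AlgebraicGeometry TopologicalSpace Opposite
open Groth.Agent.Helper1.GrT Groth.Agent.Helper1.ProjO

universe u

section general

variable {X : Scheme.{u}} (F : X.Modules)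

/-- restriction of sections of a module -/
noncomputable def res {U V : X.Opens} (h : V ≤ U) : Γ(F, U) →+ Γ(F, V) :=
  (F.presheaf.map (homOfLE h).op).hom

/-- restriction of functions -/
noncomputable def resO {U V : X.Opens} (h : V ≤ U) : Γ(X, U) →+* Γ(X, V) :=
  (X.presheaf.map (homOfLE h).op).hom

lemma res_res {U V W : X.Opens} (h : V ≤ U) (h' : W ≤ V) (t : Γ(F, U)) :
    res F h' (res F h t) = res F (h'.trans h) t := by
  unfold res
  rw [← ConcreteCategory.comp_apply, ← Functor.map_comp]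
  rfl

lemma res_self {U : X.Opens} (h : U ≤ U) (t : Γ(F, U)) : res F h t = t := by
  unfold res
  have : (homOfLE h).op = 𝟙 (op U) := Subsingleton.elim _ _
  rw [this, F.presheaf.map_id]
  rfl

lemma res_smul {U V : X.Opens} (h : V ≤ U) (r : Γ(X, U)) (t : Γ(F, U)) :
    res F h (r • t) = resO h r • res F h t :=
  Scheme.Modules.map_smul F (homOfLE h) r t

lemma resO_resO {U V W : X.Opens} (h : V ≤ U) (h' : W ≤ V) (r : Γ(X, U)) :
    resO h' (resO h r) = resO (h'.trans h) r := by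
  unfold resO
  rw [← ConcreteCategory.comp_apply, ← Functor.map_comp]
  rfl

/-- restriction between equal opens is bijective -/
lemma res_bijective_of_eq {U V : X.Opens} (h : V ≤ U) (h' : U ≤ V) :
    Function.Bijective (res F h) := by
  constructor
  · intro t t' htt
    have := congrArg (res F h') htt
    rwa [res_res, res_res, res_self, res_self] at this
  · intro t
    exact ⟨res F h' t, by rw [res_res, res_self]⟩

end general

variable {R A : Type u} [CommRing R] [CommRing A] [Algebra R A] (𝒜 : ℕ → Submodule R A)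
  [GradedAlgebra 𝒜]

/-- `b` vanishes nowhere on `W` -/
abbrev NV (W : (Proj 𝒜).Opens) (b : A) : Prop :=
  ∀ y : ProjectiveSpectrum.top 𝒜, y ∈ W → b ∉ y.asHomogeneousIdeal

variable {𝒜}

lemma NV.mul {W : (Proj 𝒜).Opens} {a b : A} (ha : NV 𝒜 W a) (hb : NV 𝒜 W b) : NV 𝒜 W (a * b) :=
  fun y hy h => (y.isPrime.mem_or_mem h).elim (ha y hy) (hb y hy)

lemma NV.pow {W : (Proj 𝒜).Opens} {a : A} (ha : NV 𝒜 W a) (n : ℕ) : NV 𝒜 W (a ^ n) :=
  fun y hy h => ha y hy (y.isPrime.mem_of_pow_mem n h)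

lemma NV.mono {W W' : (Proj 𝒜).Opens} (h : W' ≤ W) {a : A} (ha : NV 𝒜 W a) : NV 𝒜 W' a :=
  fun y hy => ha y (h hy)

lemma NV.basicOpen (f : A) : NV 𝒜 (Proj.basicOpen 𝒜 f) f :=
  fun y hy => (ProjectiveSpectrum.mem_basicOpen 𝒜 f y).1 hy

lemma NV.of_mul_left {W : (Proj 𝒜).Opens} {a b : A} (h : NV 𝒜 W (a * b)) : NV 𝒜 W a :=
  fun y hy ha => h y hy (Ideal.mul_mem_right b _ ha)

lemma NV.of_mul_right {W : (Proj 𝒜).Opens} {a b : A} (h : NV 𝒜 W (a * b)) : NV 𝒜 W b :=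
  fun y hy hb => h y hy (Ideal.mul_mem_left _ a hb)

lemma NV.one (W : (Proj 𝒜).Opens) : NV 𝒜 W (1 : A) :=
  fun y _ h => y.isPrime.ne_top ((Ideal.eq_top_iff_one _).2 h)

lemma NV.le_basicOpen {W : (Proj 𝒜).Opens} {a : A} (h : NV 𝒜 W a) : W ≤ Proj.basicOpen 𝒜 a :=
  fun y hy => (ProjectiveSpectrum.mem_basicOpen 𝒜 a y).2 (h y hy)

lemma pow_mem' {f : A} {e : ℕ} (hf : f ∈ 𝒜 e) (l : ℕ) : f ^ l ∈ 𝒜 (l * e) := by
  have := SetLike.pow_mem_graded l hf
  simpa [smul_eq_mul] using this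

lemma pow_mem1 {f : A} (hf : f ∈ 𝒜 1) (l : ℕ) : f ^ l ∈ 𝒜 l := by
  have := pow_mem' hf l
  simpa using this

variable (𝒜)

lemma resO_frO {W W' : (Proj 𝒜).Opens} (h : W' ≤ W) {i : ℕ} (a b : A) (ha : a ∈ 𝒜 i)
    (hb : b ∈ 𝒜 i) (hW : NV 𝒜 W b) :
    resO h (frO 𝒜 W a b ha hb hW) = frO 𝒜 W' a b ha hb (hW.mono h) :=
  frO_res 𝒜 h a b ha hb hW

lemma res_frO_smul (F : (Proj 𝒜).Modules) {W W' : (Proj 𝒜).Opens} (h : W' ≤ W) {i : ℕ} (a b : A)
    (ha : a ∈ 𝒜 i) (hb : b ∈ 𝒜 i) (hW : NV 𝒜 W b) (t : Γ(F, W)) :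
    res F h (frO 𝒜 W a b ha hb hW • t) = frO 𝒜 W' a b ha hb (hW.mono h) • res F h t := by
  rw [res_smul, resO_frO]

lemma frO_mul_inv (W : (Proj 𝒜).Opens) {i : ℕ} (a b : A) (ha : a ∈ 𝒜 i) (hb : b ∈ 𝒜 i)
    (hWa : NV 𝒜 W a) (hWb : NV 𝒜 W b) :
    frO 𝒜 W a b ha hb hWb * frO 𝒜 W b a hb ha hWa = 1 := by
  rw [frO_mul]
  rw [frO_eq_of 𝒜 W (a * b) (b * a) (a * b) (a * b) _ _ (SetLike.mul_mem_graded ha hb)
    (SetLike.mul_mem_graded ha hb) _ (hWa.mul hWb) (by ring)]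
  exact frO_self 𝒜 W _ _ _

/-- cancel an invertible fraction -/
lemma frO_smul_cancel (F : (Proj 𝒜).Modules) (W : (Proj 𝒜).Opens) {i : ℕ} (a b : A)
    (ha : a ∈ 𝒜 i) (hb : b ∈ 𝒜 i) (hWa : NV 𝒜 W a) (hWb : NV 𝒜 W b) (t t' : Γ(F, W))
    (h : frO 𝒜 W a b ha hb hWb • t = frO 𝒜 W a b ha hb hWb • t') : t = t' := by
  have := congrArg (fun z => frO 𝒜 W b a hb ha hWa • z) h
  simp only [smul_smul] at this
  rwa [mul_comm, frO_mul_inv, one_smul, one_smul] at this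

end Groth.Agent.Helper1.ProjQc
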