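import Mathlib
import Groth.Prelude.Def_GrMod2
import Groth.Agent.Helper1.ProjQc1
import Groth.Agent.Helper1.GrT12
import Groth.Agent.Helper4.QcohLocal

set_option autoImplicit false
set_option linter.unusedSectionVars false

/-!
# Realizations of a graded module in an `O`-module on `Proj`, and the induced morphism `M~ ⟶ F`
-/

namespace Groth.Agent.Helper1.ProjQc

open CategoryTheory AlgebraicGeometry TopologicalSpace Opposite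
open Groth.Agent.Helper1.GrT Groth.Agent.Helper1.ProjO

universe u

variable {R A : Type u} [CommRing R] [CommRing A] [Algebra R A] (𝒜 : ℕ → Submodule R A)
  [GradedAlgebra 𝒜]
variable {M : Type u} [AddCommGroup M] [Module R M] [Module A M] [IsScalarTower R A M]
  (ℳ : ℕ → Submodule R M) [DirectSum.Decomposition ℳ] [SetLike.GradedSMul 𝒜 ℳ]
variable (s : Finset A) (hs1 : ∀ f ∈ s, f ∈ 𝒜 1)
variable (F : (Proj 𝒜).Modules)

/-- a realization of the graded module `M` in `F`: compatible "dehomogenization" maps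
`M → Γ(D₊(f), F)` for the degree one elements `f ∈ s` -/
structure Rlz where
  /-- the maps -/
  e : ∀ f : s, M →+ Γ(F, Proj.basicOpen 𝒜 f.1)
  e_smul : ∀ (f : s) (d : ℕ) (a : A) (ha : a ∈ 𝒜 d) (x : M),
    e f (a • x) = frO 𝒜 (Proj.basicOpen 𝒜 f.1) a (f.1 ^ d) ha (pow_mem1 (hs1 f.1 f.2) d)
      ((NV.basicOpen f.1).pow d) • e f x
  coc : ∀ (f g : s) (n : ℕ) (x : M) (_ : x ∈ ℳ n),
    res F (inf_le_left : Proj.basicOpen 𝒜 f.1 ⊓ Proj.basicOpen 𝒜 g.1 ≤ Proj.basicOpen 𝒜 f.1)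
        (e f x) =
      frO 𝒜 (Proj.basicOpen 𝒜 f.1 ⊓ Proj.basicOpen 𝒜 g.1) (g.1 ^ n) (f.1 ^ n)
        (pow_mem1 (hs1 g.1 g.2) n) (pow_mem1 (hs1 f.1 f.2) n)
        (((NV.basicOpen f.1).mono inf_le_left).pow n) •
      res F (inf_le_right : Proj.basicOpen 𝒜 f.1 ⊓ Proj.basicOpen 𝒜 g.1 ≤ Proj.basicOpen 𝒜 g.1)
        (e g x)

variable {𝒜 ℳ s hs1 F}

lemma ι₁_neg' (y : ProjectiveSpectrum 𝒜) (m : M) : ι₁ y (-m) = -ι₁ y m := by
  rw [eq_neg_iff_add_eq_zero, ← ι₁_add, neg_add_cancel, ι₁_zero]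

lemma ι₁_sub' (y : ProjectiveSpectrum 𝒜) (m m' : M) : ι₁ y (m - m') = ι₁ y m - ι₁ y m' := by
  rw [sub_eq_add_neg, ι₁_add, ι₁_neg', ← sub_eq_add_neg]

/-- abstract cancellation -/
lemma alg_aux {B T : Type*} [CommRing B] [AddCommGroup T] [Module B T] (c1 c1' c2 c2' : B)
    (X X' : T) (i1 : c1 * c1' = 1) (i2 : c2 * c2' = 1) (he : c2' • X = c1' • X') :
    c1 • X = c2 • X' := by
  calc c1 • X = (c1 * (c2 * c2')) • X := by rw [i2, mul_one]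
    _ = (c1 * c2) • (c2' • X) := by rw [smul_smul, mul_assoc]
    _ = (c1 * c2) • (c1' • X') := by rw [he]
    _ = (c2 * (c1 * c1')) • X' := by rw [smul_smul]; congr 1; ring
    _ = c2 • X' := by rw [i1, mul_one]

section key

variable (Z : Rlz 𝒜 ℳ s hs1 F)

include hs1 in
lemma mul_mem_w (f : s) {d : ℕ} {h : A} (hh : h ∈ 𝒜 d) : f.1 * h ∈ 𝒜 (1 + d) :=
  SetLike.mul_mem_graded (hs1 f.1 f.2) hh

lemma nv_w (f : s) (h : A) : NV 𝒜 (Proj.basicOpen 𝒜 (f.1 * h)) f.1 :=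
  (NV.basicOpen (f.1 * h)).of_mul_left

/-- the value of the morphism on the fraction `x / (f h) ^ l` -/
noncomputable def aval (f : s) {d : ℕ} {h : A} (hh : h ∈ 𝒜 d) (l : ℕ) (x : M) :
    Γ(F, Proj.basicOpen 𝒜 (f.1 * h)) :=
  frO 𝒜 (Proj.basicOpen 𝒜 (f.1 * h)) (f.1 ^ (l * (1 + d))) ((f.1 * h) ^ l)
      (pow_mem1 (hs1 f.1 f.2) _) (pow_mem' (mul_mem_w (hs1 := hs1) f hh) l)
      ((NV.basicOpen (f.1 * h)).pow l) •
    res F (nv_w f h).le_basicOpen (Z.e f x)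

lemma aval_add (f : s) {d : ℕ} {h : A} (hh : h ∈ 𝒜 d) (l : ℕ) (x x' : M) :
    aval Z f hh l (x + x') = aval Z f hh l x + aval Z f hh l x' := by
  unfold aval
  rw [map_add, map_add, smul_add]

include Z in
theorem key (f f' : s) {d d' : ℕ} {h h' : A} (hh : h ∈ 𝒜 d) (hh' : h' ∈ 𝒜 d')
    (hle : Proj.basicOpen 𝒜 (f'.1 * h') ≤ Proj.basicOpen 𝒜 (f.1 * h))
    (u : Γ(GrTilde.tilde 𝒜 ℳ 0, Proj.basicOpen 𝒜 (f.1 * h))) (l : ℕ) (x : M)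
    (hx : x ∈ ℳ (l * (1 + d))) (hu : IsFr 𝒜 ℳ (f.1 * h) u x l)
    (l' : ℕ) (x' : M) (hx' : x' ∈ ℳ (l' * (1 + d')))
    (hu' : IsFr 𝒜 ℳ (f'.1 * h') (res (GrTilde.tilde 𝒜 ℳ 0) hle u) x' l') :
    res F hle (aval Z f hh l x) = aval Z f' hh' l' x' := by
  have hf := hs1 f.1 f.2
  have hf' := hs1 f'.1 f'.2
  have hw : f.1 * h ∈ 𝒜 (1 + d) := mul_mem_w (hs1 := hs1) f hh
  have hw' : f'.1 * h' ∈ 𝒜 (1 + d') := mul_mem_w (hs1 := hs1) f' hh'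
  -- nonvanishing on W'
  have nw' : NV 𝒜 (Proj.basicOpen 𝒜 (f'.1 * h')) (f'.1 * h') := NV.basicOpen _
  have nf' : NV 𝒜 (Proj.basicOpen 𝒜 (f'.1 * h')) f'.1 := nw'.of_mul_left
  have nw : NV 𝒜 (Proj.basicOpen 𝒜 (f'.1 * h')) (f.1 * h) := (NV.basicOpen (f.1 * h)).mono hle
  have nf : NV 𝒜 (Proj.basicOpen 𝒜 (f'.1 * h')) f.1 := nw.of_mul_left
  -- the difference is killed
  have hzmem : (f'.1 * h') ^ l' • x - (f.1 * h) ^ l • x' ∈ ℳ (l' * (1 + d') + l * (1 + d)) := by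
    apply Submodule.sub_mem
    · exact SetLike.GradedSMul.smul_mem (A := 𝒜) (B := ℳ) (pow_mem' hw' l') hx
    · have := SetLike.GradedSMul.smul_mem (A := 𝒜) (B := ℳ) (pow_mem' hw l) hx'
      rwa [vadd_eq_add, add_comm] at this
  have hz : ∀ y : ProjectiveSpectrum 𝒜, (f'.1 * h') ∉ y.asHomogeneousIdeal →
      ι₁ y ((f'.1 * h') ^ l' • x - (f.1 * h) ^ l • x') = 0 := by
    intro y hy
    have hy' : y ∈ ProjectiveSpectrum.basicOpen 𝒜 (f'.1 * h') :=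
      (ProjectiveSpectrum.mem_basicOpen 𝒜 _ y).2 hy
    have h1 := hu y (hle hy')
    have h2 := hu' y hy'
    have h3 : val (𝒜 := 𝒜) (ℳ := ℳ) (n := 0) (U := ProjectiveSpectrum.basicOpen 𝒜 (f'.1 * h'))
        (res (GrTilde.tilde 𝒜 ℳ 0) hle u) y hy' =
        val (𝒜 := 𝒜) (ℳ := ℳ) (n := 0) (U := ProjectiveSpectrum.basicOpen 𝒜 (f.1 * h)) u y
          (hle hy') := rfl
    rw [h3] at h2
    rw [ι₁_sub', ι₁_smul, ι₁_smul, ← h1, ← h2, smul_comm, sub_self]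
  obtain ⟨N, hN⟩ := exists_pow_smul_eq_zero 𝒜 ℳ (by omega : 0 < 1 + d') (f'.1 * h') hw' _ hzmem hz
  -- apply `e f'`
  have hc : Z.e f' ((f'.1 * h') ^ N • ((f'.1 * h') ^ l' • x)) =
      Z.e f' ((f'.1 * h') ^ N • ((f.1 * h) ^ l • x')) := by
    rw [← sub_eq_zero, ← map_sub, ← smul_sub, hN, map_zero]
  rw [Z.e_smul f' _ _ (pow_mem' hw' N), Z.e_smul f' _ _ (pow_mem' hw' l'),
    Z.e_smul f' _ _ (pow_mem' hw' N), Z.e_smul f' _ _ (pow_mem' hw l)] at hc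
  -- restrict to `W'`
  have hd := congrArg (res F nf'.le_basicOpen) hc
  rw [res_frO_smul, res_frO_smul, res_frO_smul, res_frO_smul] at hd
  have he := frO_smul_cancel 𝒜 F _ _ _ _ _ (nw'.pow N) (nf'.pow _) _ _ hd
  -- the cocycle condition
  have hinf : Proj.basicOpen 𝒜 (f'.1 * h') ≤ Proj.basicOpen 𝒜 f.1 ⊓ Proj.basicOpen 𝒜 f'.1 :=
    le_inf nf.le_basicOpen nf'.le_basicOpen
  have hcoc := congrArg (res F hinf) (Z.coc f f' _ x hx)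
  rw [res_res, res_frO_smul, res_res] at hcoc
  -- the goal
  unfold aval
  rw [res_frO_smul, res_res, hcoc, smul_smul, frO_mul]
  rw [frO_eq_of 𝒜 _ (f.1 ^ (l * (1 + d)) * f'.1 ^ (l * (1 + d)))
    ((f.1 * h) ^ l * f.1 ^ (l * (1 + d))) (f'.1 ^ (l * (1 + d)) * f.1 ^ (l * (1 + d)))
    ((f.1 * h) ^ l * f.1 ^ (l * (1 + d))) _ _
    (SetLike.mul_mem_graded (pow_mem1 hf' _) (pow_mem1 hf _))
    (SetLike.mul_mem_graded (pow_mem' hw l) (pow_mem1 hf _)) _ ((nw.pow l).mul (nf.pow _))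
    (by ring)]
  rw [← frO_mul 𝒜 _ (f'.1 ^ (l * (1 + d))) ((f.1 * h) ^ l) (f.1 ^ (l * (1 + d)))
    (f.1 ^ (l * (1 + d))) (pow_mem1 hf' _) (pow_mem' hw l) (pow_mem1 hf _) (pow_mem1 hf _)
    (nw.pow l) (nf.pow _), frO_self, mul_one]
  exact alg_aux _ _ _ _ _ _
    (frO_mul_inv 𝒜 _ _ _ (pow_mem1 hf' _) (pow_mem' hw l) (nf'.pow _) (nw.pow l))
    (frO_mul_inv 𝒜 _ _ _ (pow_mem1 hf' _) (pow_mem' hw' l') (nf'.pow _) (nw'.pow l')) he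

end key


/-! ### the morphism -/

section morphism

variable (𝒜 s) in
/-- the index type of the basis of `Proj` used for the construction -/
def Idx : Type u := Σ (_ : s) (d : ℕ), 𝒜 d

variable (𝒜 s) in
/-- the basis -/
abbrev Bop (i : Idx 𝒜 s) : (Proj 𝒜).Opens := Proj.basicOpen 𝒜 (i.1.1 * i.2.2.1)

include hs1 in
theorem isBasis_Bop (hs : (HomogeneousIdeal.irrelevant 𝒜).toIdeal = Ideal.span (s : Set A)) :
    Opens.IsBasis (Set.range (Bop 𝒜 s)) := by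
  rw [Opens.isBasis_iff_nbhd]
  intro V x hxV
  obtain ⟨f, hfs, hxf⟩ : ∃ f ∈ s, f ∉ (show ProjectiveSpectrum 𝒜 from x).asHomogeneousIdeal := by
    by_contra hcon
    push Not at hcon
    apply (show ProjectiveSpectrum 𝒜 from x).not_irrelevant_le
    have : (HomogeneousIdeal.irrelevant 𝒜).toIdeal ≤
        (show ProjectiveSpectrum 𝒜 from x).asHomogeneousIdeal.toIdeal := by
      rw [hs, Ideal.span_le]
      exact fun f hf => hcon f hf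
    exact this
  obtain ⟨e, h, he, hh, hxh, hall⟩ := exists_basicOpen_le 𝒜 Nat.one_pos f (hs1 f hfs) V x hxV hxf
  refine ⟨Bop 𝒜 s ⟨⟨f, hfs⟩, e, ⟨h, hh⟩⟩, ⟨_, rfl⟩, ?_, ?_⟩
  · exact (ProjectiveSpectrum.mem_basicOpen 𝒜 _ _).2
      (fun hm => ((show ProjectiveSpectrum 𝒜 from x).isPrime.mem_or_mem hm).elim hxf hxh)
  · intro y hy
    exact (hall y ((NV.basicOpen (f * h)).of_mul_right y hy)).1

variable (Z : Rlz 𝒜 ℳ s hs1 F)

/-- the map on sections over a basic open, as a function -/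
noncomputable def αfun (i : Idx 𝒜 s) (u : Γ(GrTilde.tilde 𝒜 ℳ 0, Bop 𝒜 s i)) : Γ(F, Bop 𝒜 s i) :=
  aval Z i.1 i.2.2.2
    (Classical.choose (exists_isFr_of_section 𝒜 ℳ (i.1.1 * i.2.2.1) (by omega : 0 < 1 + i.2.1)
      (mul_mem_w (hs1 := hs1) i.1 i.2.2.2) u))
    (Classical.choose (Classical.choose_spec (exists_isFr_of_section 𝒜 ℳ (i.1.1 * i.2.2.1)
      (by omega : 0 < 1 + i.2.1) (mul_mem_w (hs1 := hs1) i.1 i.2.2.2) u)))

lemma αfun_eq (i : Idx 𝒜 s) (u : Γ(GrTilde.tilde 𝒜 ℳ 0, Bop 𝒜 s i)) (l : ℕ) (x : M)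
    (hx : x ∈ ℳ (l * (1 + i.2.1))) (hu : IsFr 𝒜 ℳ (i.1.1 * i.2.2.1) u x l) :
    αfun Z i u = aval Z i.1 i.2.2.2 l x := by
  obtain ⟨hx0, hu0⟩ := Classical.choose_spec (Classical.choose_spec
    (exists_isFr_of_section 𝒜 ℳ (i.1.1 * i.2.2.1)
      (by omega : 0 < 1 + i.2.1) (mul_mem_w (hs1 := hs1) i.1 i.2.2.2) u))
  have hu' : IsFr 𝒜 ℳ (i.1.1 * i.2.2.1) (res (GrTilde.tilde 𝒜 ℳ 0) (le_refl _) u) x l := by
    rw [res_self]; exact hu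
  have := key Z i.1 i.1 i.2.2.2 i.2.2.2 (le_refl _) u _ _ hx0 hu0 l x hx hu'
  rw [res_self] at this
  exact this

/-- the map on sections over a basic open -/
noncomputable def α (i : Idx 𝒜 s) : Γ(GrTilde.tilde 𝒜 ℳ 0, Bop 𝒜 s i) →+ Γ(F, Bop 𝒜 s i) where
  toFun := αfun Z i
  map_zero' := by
    rw [αfun_eq Z i 0 0 0 (Submodule.zero_mem _) (IsFr.zero 0)]
    unfold aval
    rw [map_zero, map_zero, smul_zero]
  map_add' u u' := by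
    obtain ⟨l, x, hx, hu⟩ := exists_isFr_of_section 𝒜 ℳ (i.1.1 * i.2.2.1)
      (by omega : 0 < 1 + i.2.1) (mul_mem_w (hs1 := hs1) i.1 i.2.2.2) u
    obtain ⟨l', x', hx', hu'⟩ := exists_isFr_of_section 𝒜 ℳ (i.1.1 * i.2.2.1)
      (by omega : 0 < 1 + i.2.1) (mul_mem_w (hs1 := hs1) i.1 i.2.2.2) u'
    have hw := mul_mem_w (hs1 := hs1) i.1 i.2.2.2
    have h1 : IsFr 𝒜 ℳ (i.1.1 * i.2.2.1) u ((i.1.1 * i.2.2.1) ^ l' • x) (l + l') := hu.mul_pow l'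
    have h2 : IsFr 𝒜 ℳ (i.1.1 * i.2.2.1) u' ((i.1.1 * i.2.2.1) ^ l • x') (l + l') :=
      (hu'.mul_pow l).congr rfl (add_comm _ _)
    have m1 : (i.1.1 * i.2.2.1) ^ l' • x ∈ ℳ ((l + l') * (1 + i.2.1)) := by
      have := SetLike.GradedSMul.smul_mem (A := 𝒜) (B := ℳ) (pow_mem' hw l') hx
      rw [vadd_eq_add] at this
      convert this using 2
      ring
    have m2 : (i.1.1 * i.2.2.1) ^ l • x' ∈ ℳ ((l + l') * (1 + i.2.1)) := by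
      have := SetLike.GradedSMul.smul_mem (A := 𝒜) (B := ℳ) (pow_mem' hw l) hx'
      rw [vadd_eq_add] at this
      convert this using 2
      ring
    rw [αfun_eq Z i (u + u') _ _ (Submodule.add_mem _ m1 m2) (h1.add h2),
      αfun_eq Z i u _ _ m1 h1, αfun_eq Z i u' _ _ m2 h2, aval_add]

lemma α_eq (i : Idx 𝒜 s) (u : Γ(GrTilde.tilde 𝒜 ℳ 0, Bop 𝒜 s i)) (l : ℕ) (x : M)
    (hx : x ∈ ℳ (l * (1 + i.2.1))) (hu : IsFr 𝒜 ℳ (i.1.1 * i.2.2.1) u x l) :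
    α Z i u = aval Z i.1 i.2.2.2 l x := αfun_eq Z i u l x hx hu

lemma α_nat (i j : Idx 𝒜 s) (h : Bop 𝒜 s j ≤ Bop 𝒜 s i)
    (u : Γ(GrTilde.tilde 𝒜 ℳ 0, Bop 𝒜 s i)) :
    F.presheaf.map (homOfLE h).op (α Z i u) =
      α Z j ((GrTilde.tilde 𝒜 ℳ 0).presheaf.map (homOfLE h).op u) := by
  obtain ⟨l, x, hx, hu⟩ := exists_isFr_of_section 𝒜 ℳ (i.1.1 * i.2.2.1)
    (by omega : 0 < 1 + i.2.1) (mul_mem_w (hs1 := hs1) i.1 i.2.2.2) u
  obtain ⟨l', x', hx', hu'⟩ := exists_isFr_of_section 𝒜 ℳ (j.1.1 * j.2.2.1)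
    (by omega : 0 < 1 + j.2.1) (mul_mem_w (hs1 := hs1) j.1 j.2.2.2)
    (res (GrTilde.tilde 𝒜 ℳ 0) h u)
  have := key Z i.1 j.1 i.2.2.2 j.2.2.2 h u l x hx hu l' x' hx' hu'
  rw [α_eq Z i u l x hx hu]
  refine this.trans ?_
  exact (α_eq Z j (res (GrTilde.tilde 𝒜 ℳ 0) h u) l' x' hx' hu').symm


set_option maxHeartbeats 800000 in
lemma α_lin (i : Idx 𝒜 s) (r : Γ(Proj 𝒜, Bop 𝒜 s i))
    (u : Γ(GrTilde.tilde 𝒜 ℳ 0, Bop 𝒜 s i)) : α Z i (r • u) = r • α Z i u := by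
  have hf := hs1 i.1.1 i.1.2
  have hw := mul_mem_w (hs1 := hs1) i.1 i.2.2.2
  have he : 0 < 1 + i.2.1 := by omega
  obtain ⟨l, x, hx, hu⟩ := exists_isFr_of_section 𝒜 ℳ (i.1.1 * i.2.2.1) he hw u
  obtain ⟨k, a, ha, hr⟩ := exists_frac_O 𝒜 he (i.1.1 * i.2.2.1) hw r
  have ha' : a ∈ 𝒜 (k • (1 + i.2.1)) := by simpa [smul_eq_mul] using ha
  have hr1 : r = mkB 𝒜 (i.1.1 * i.2.2.1) hw k a ha' := by
    apply O_ext
    intro y hy
    rw [hr y hy, evO_mkB]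
  have hr2 : r = frO 𝒜 (Proj.basicOpen 𝒜 (i.1.1 * i.2.2.1)) a ((i.1.1 * i.2.2.1) ^ k) ha
      (pow_mem' hw k) ((NV.basicOpen _).pow k) := by
    apply O_ext
    intro y hy
    rw [hr y hy]
    exact (evO_frO 𝒜 (Proj.basicOpen 𝒜 (i.1.1 * i.2.2.1)) a ((i.1.1 * i.2.2.1) ^ k) ha
      (pow_mem' hw k) ((NV.basicOpen _).pow k) y hy).symm
  have hfr := hu.smul hw k a ha'
  have hmem : a • x ∈ ℳ ((k + l) * (1 + i.2.1)) := by
    have := SetLike.GradedSMul.smul_mem (A := 𝒜) (B := ℳ) ha hx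
    rw [vadd_eq_add] at this
    convert this using 2
    ring
  have h1 := α_eq Z i (r • u) (k + l) (a • x) hmem (by rw [hr1]; exact hfr)
  rw [h1, α_eq Z i u l x hx hu]
  unfold aval
  have nw : NV 𝒜 (Proj.basicOpen 𝒜 (i.1.1 * i.2.2.1)) (i.1.1 * i.2.2.1) := NV.basicOpen _
  have nf : NV 𝒜 (Proj.basicOpen 𝒜 (i.1.1 * i.2.2.1)) i.1.1 := nw.of_mul_left
  rw [Z.e_smul i.1 _ a ha x, res_frO_smul, smul_smul, frO_mul]
  rw [hr2, smul_smul]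
  erw [frO_mul]
  congr 1
  apply frO_eq_of
  ring

/-- **the morphism `M~ ⟶ F` defined by a realization** -/
noncomputable def φ (hs : (HomogeneousIdeal.irrelevant 𝒜).toIdeal = Ideal.span (s : Set A)) :
    GrTilde.tilde 𝒜 ℳ 0 ⟶ F :=
  Groth.Agent.Helper1.BasisHom.homOfBasis (Bop 𝒜 s) (isBasis_Bop (hs1 := hs1) hs)
    (GrTilde.tilde 𝒜 ℳ 0) F (α Z) (α_nat Z) (α_lin Z)

lemma φ_app (hs : (HomogeneousIdeal.irrelevant 𝒜).toIdeal = Ideal.span (s : Set A))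
    (i : Idx 𝒜 s) (u : Γ(GrTilde.tilde 𝒜 ℳ 0, Bop 𝒜 s i)) :
    (φ Z hs).app (Bop 𝒜 s i) u = α Z i u :=
  Groth.Agent.Helper1.BasisHom.homOfBasis_app (Bop 𝒜 s) (isBasis_Bop (hs1 := hs1) hs)
    (GrTilde.tilde 𝒜 ℳ 0) F (α Z) (α_nat Z) (α_lin Z) i u

end morphism


/-! ### the criterion for `φ` to be an isomorphism -/

section iso

/-- a fraction whose numerator is killed by a nowhere vanishing element is zero -/
lemma IsFr.eq_zero_of_smul_eq_zero {w : A} {u : Γ(GrTilde.tilde 𝒜 ℳ 0, Proj.basicOpen 𝒜 w)}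
    {x : M} {l : ℕ} (hu : IsFr 𝒜 ℳ w u x l) (c : A) (hc : NV 𝒜 (Proj.basicOpen 𝒜 w) c)
    (hcx : c • x = 0) : u = 0 := by
  refine sect_ext (𝒜 := 𝒜) (ℳ := ℳ) (n := 0) (U := ProjectiveSpectrum.basicOpen 𝒜 w) u 0
    (fun y hy => ?_)
  have hnot : c * w ^ l ∉ y.asHomogeneousIdeal :=
    (hc.mul ((NV.basicOpen w).pow l)) y hy
  apply smul_injective y hnot
  change (c * w ^ l) • val (𝒜 := 𝒜) (ℳ := ℳ) (n := 0) (U := ProjectiveSpectrum.basicOpen 𝒜 w) u y hy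
    = (c * w ^ l) • val (𝒜 := 𝒜) (ℳ := ℳ) (n := 0) (U := ProjectiveSpectrum.basicOpen 𝒜 w) 0 y hy
  have h0 : val (𝒜 := 𝒜) (ℳ := ℳ) (n := 0) (U := ProjectiveSpectrum.basicOpen 𝒜 w)
      (0 : Γ(GrTilde.tilde 𝒜 ℳ 0, Proj.basicOpen 𝒜 w)) y hy = 0 := rfl
  have e1 : (c * w ^ l) • val (𝒜 := 𝒜) (ℳ := ℳ) (n := 0)
      (U := ProjectiveSpectrum.basicOpen 𝒜 w) u y hy = 0 := by
    rw [mul_smul, hu y hy, ← ι₁_smul, hcx, ι₁_zero]
  exact e1.trans ((congrArg (fun v => (c * w ^ l) • v) h0).trans (smul_zero _)).symm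

variable (Z : Rlz 𝒜 ℳ s hs1 F)

/-- the index of `D₊(f)` -/
def idx1 (f : s) : Idx 𝒜 s := ⟨f, 0, ⟨1, SetLike.GradedOne.one_mem⟩⟩

lemma nv_idx1 (f : s) : NV 𝒜 (Proj.basicOpen 𝒜 f.1) (f.1 * 1) := by
  rw [mul_one]; exact NV.basicOpen _

set_option maxHeartbeats 800000 in
theorem app_bijective (hs : (HomogeneousIdeal.irrelevant 𝒜).toIdeal = Ideal.span (s : Set A))
    (f : s)
    (h1 : ∀ (n : ℕ) (x : M), x ∈ ℳ n → Z.e f x = 0 → ∃ k : ℕ, f.1 ^ k • x = 0)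
    (h2 : ∀ (t : Γ(F, Proj.basicOpen 𝒜 f.1)), ∃ (n : ℕ) (x : M), x ∈ ℳ n ∧ Z.e f x = t) :
    Function.Bijective ((φ Z hs).app (Bop 𝒜 s (idx1 f))) := by
  have hf := hs1 f.1 f.2
  have hw : f.1 * 1 ∈ 𝒜 (1 + 0) := mul_mem_w (hs1 := hs1) f SetLike.GradedOne.one_mem
  have nw : NV 𝒜 (Proj.basicOpen 𝒜 (f.1 * 1)) (f.1 * 1) := NV.basicOpen _
  have nf : NV 𝒜 (Proj.basicOpen 𝒜 (f.1 * 1)) f.1 := nw.of_mul_left
  have hbij : Function.Bijective (res F nf.le_basicOpen) :=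
    res_bijective_of_eq F nf.le_basicOpen (nv_idx1 f).le_basicOpen
  have hα : ∀ u, (φ Z hs).app (Bop 𝒜 s (idx1 f)) u = α Z (idx1 f) u := φ_app Z hs (idx1 f)
  -- the key vanishing statement
  have hzero : ∀ u, α Z (idx1 f) u = 0 → u = 0 := by
    intro u hu0
    obtain ⟨l, x, hx, hu⟩ := exists_isFr_of_section 𝒜 ℳ (f.1 * 1) (by omega : 0 < 1 + 0) hw u
    rw [α_eq Z (idx1 f) u l x hx hu] at hu0
    unfold aval at hu0
    have h3 : res F nf.le_basicOpen (Z.e f x) = 0 := by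
      apply frO_smul_cancel 𝒜 F _ _ _ _ _ (nf.pow _) (nw.pow l)
      rw [smul_zero]
      exact hu0
    have h4 : Z.e f x = 0 := hbij.1 (by rw [h3, map_zero])
    obtain ⟨k, hk⟩ := h1 _ x hx h4
    exact IsFr.eq_zero_of_smul_eq_zero hu (f.1 ^ k) (nf.pow k) hk
  constructor
  · intro u u' huu
    rw [hα, hα] at huu
    have : α Z (idx1 f) (u - u') = 0 := by rw [map_sub, huu, sub_self]
    exact sub_eq_zero.1 (hzero _ this)
  · intro t'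
    obtain ⟨t, ht⟩ := hbij.2 t'
    obtain ⟨n, x, hx, hxt⟩ := h2 t
    have hx' : x ∈ ℳ (n * (1 + 0)) := by simpa using hx
    obtain ⟨u, hu⟩ := exists_isFr 𝒜 ℳ (f.1 * 1) hw x n hx'
    refine ⟨u, ?_⟩
    rw [hα, α_eq Z (idx1 f) u n x hx' hu]
    unfold aval
    have hone : frO 𝒜 (Proj.basicOpen 𝒜 (f.1 * 1)) (f.1 ^ (n * (1 + 0))) ((f.1 * 1) ^ n)
        (pow_mem1 hf _) (pow_mem' hw n) (nw.pow n) = 1 := by
      rw [frO_eq_of 𝒜 _ _ _ (1 : A) (1 : A) _ _ SetLike.GradedOne.one_mem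
        SetLike.GradedOne.one_mem _ (NV.one _) (by ring)]
      exact frO_self 𝒜 _ _ _ _
    change frO 𝒜 (Proj.basicOpen 𝒜 (f.1 * 1)) (f.1 ^ (n * (1 + 0))) ((f.1 * 1) ^ n)
        (pow_mem1 hf _) (pow_mem' hw n) (nw.pow n) • res F nf.le_basicOpen (Z.e f x) = t'
    rw [hone, one_smul, hxt, ht]

theorem isIso_φ [F.IsQuasicoherent]
    (hs : (HomogeneousIdeal.irrelevant 𝒜).toIdeal = Ideal.span (s : Set A))
    (h1 : ∀ (f : s) (n : ℕ) (x : M), x ∈ ℳ n → Z.e f x = 0 → ∃ k : ℕ, f.1 ^ k • x = 0)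
    (h2 : ∀ (f : s) (t : Γ(F, Proj.basicOpen 𝒜 f.1)), ∃ (n : ℕ) (x : M), x ∈ ℳ n ∧ Z.e f x = t) :
    IsIso (φ Z hs) := by
  have := isQuasicoherent_tilde 𝒜 ℳ 0
  apply Groth.Agent.Helper4.QcohLocal.isIso_of_app_bijective_of_affine_cover
  intro x
  obtain ⟨f, hfs, hxf⟩ : ∃ f ∈ s, f ∉ (show ProjectiveSpectrum 𝒜 from x).asHomogeneousIdeal := by
    by_contra hcon
    push Not at hcon
    apply (show ProjectiveSpectrum 𝒜 from x).not_irrelevant_le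
    have : (HomogeneousIdeal.irrelevant 𝒜).toIdeal ≤
        (show ProjectiveSpectrum 𝒜 from x).asHomogeneousIdeal.toIdeal := by
      rw [hs, Ideal.span_le]
      exact fun f hf => hcon f hf
    exact this
  refine ⟨Bop 𝒜 s (idx1 ⟨f, hfs⟩), ?_, ?_, app_bijective Z hs ⟨f, hfs⟩ (h1 _) (h2 _)⟩
  · exact Proj.isAffineOpen_basicOpen 𝒜 (f * 1)
      (mul_mem_w (hs1 := hs1) ⟨f, hfs⟩ SetLike.GradedOne.one_mem) (by omega : 0 < 1 + 0)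
  · refine (ProjectiveSpectrum.mem_basicOpen 𝒜 _ _).2 ?_
    intro hm
    apply hxf
    have hm' : f * 1 ∈ (show ProjectiveSpectrum 𝒜 from x).asHomogeneousIdeal := hm
    rwa [mul_one] at hm'

end iso

end Groth.Agent.Helper1.ProjQc
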