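import Mathlib

set_option autoImplicit false
set_option linter.unusedSectionVars false

/-!
# The grading induced on a homogeneous submodule of a graded module
-/

namespace Groth.Agent.Helper1.SubGr

open DirectSum

universe u

variable {R A : Type u} [CommRing R] [CommRing A] [Algebra R A] (𝒜 : ℕ → Submodule R A)
  [GradedAlgebra 𝒜]
variable {M : Type u} [AddCommGroup M] [Module R M] [Module A M] [IsScalarTower R A M]
  (ℳ : ℕ → Submodule R M) [DirectSum.Decomposition ℳ] [SetLike.GradedSMul 𝒜 ℳ]
variable (N : Submodule A M)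

/-- the induced grading on a submodule -/
def gr (i : ℕ) : Submodule R N := (ℳ i).comap ((N.subtype).restrictScalars R)

lemma mem_gr (i : ℕ) (x : N) : x ∈ gr ℳ N i ↔ (x : M) ∈ ℳ i := Iff.rfl

instance gradedSMul : SetLike.GradedSMul 𝒜 (gr ℳ N) :=
  ⟨fun {_ _ _ _} ha hx => SetLike.GradedSMul.smul_mem (A := 𝒜) (B := ℳ) ha hx⟩

/-- the comparison of the pieces -/
def incl (i : ℕ) : gr ℳ N i →+ ℳ i where
  toFun x := ⟨x.1.1, x.2⟩
  map_zero' := rfl
  map_add' _ _ := rfl

lemma incl_injective (i : ℕ) : Function.Injective (incl ℳ N i) := by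
  intro x y h
  apply Subtype.ext
  apply Subtype.ext
  exact congrArg (fun z : ℳ i => (z : M)) h

lemma coe_comm (y : ⨁ i, gr ℳ N i) :
    ((DirectSum.coeAddMonoidHom (gr ℳ N) y : N) : M) =
      DirectSum.coeAddMonoidHom ℳ (DirectSum.map (incl ℳ N) y) := by
  induction y using DirectSum.induction_on with
  | zero => simp
  | of i x =>
    rw [DirectSum.coeAddMonoidHom_of, DirectSum.map_of, DirectSum.coeAddMonoidHom_of]
    rfl
  | add y y' h h' =>
    rw [map_add, map_add, map_add, Submodule.coe_add, h, h']

theorem isInternal (hN : ∀ x ∈ N, ∀ i, (decompose ℳ x i : M) ∈ N) :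
    DirectSum.IsInternal (gr ℳ N) := by
  classical
  constructor
  · rw [injective_iff_map_eq_zero]
    intro y hy
    have h1 : DirectSum.coeAddMonoidHom ℳ (DirectSum.map (incl ℳ N) y) = 0 := by
      rw [← coe_comm, hy]; rfl
    have h2 : DirectSum.map (incl ℳ N) y = 0 :=
      (injective_iff_map_eq_zero _).1 (DirectSum.Decomposition.isInternal ℳ).injective _ h1
    have h3 : Function.Injective (DirectSum.map (incl ℳ N)) :=
      (DirectSum.map_injective _).2 (incl_injective ℳ N)
    exact h3 (by rw [h2, map_zero])
  · intro x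
    refine ⟨∑ i ∈ (decompose ℳ (x : M)).support,
      DirectSum.of (fun i => gr ℳ N i) i ⟨⟨decompose ℳ (x : M) i, hN x.1 x.2 i⟩,
        (decompose ℳ (x : M) i).2⟩, ?_⟩
    apply Subtype.ext
    rw [map_sum]
    simp only [DirectSum.coeAddMonoidHom_of]
    rw [AddSubmonoidClass.coe_finset_sum]
    exact DirectSum.sum_support_decompose ℳ (x : M)

/-- the induced decomposition of a homogeneous submodule -/
noncomputable def decomposition (hN : ∀ x ∈ N, ∀ i, (decompose ℳ x i : M) ∈ N) :
    DirectSum.Decomposition (gr ℳ N) :=
  (isInternal ℳ N hN).chooseDecomposition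

include 𝒜 in
/-- the span of homogeneous elements is a homogeneous submodule -/
theorem span_homogeneous (T : Set M) (hT : ∀ t ∈ T, ∃ i, t ∈ ℳ i) (x : M)
    (hx : x ∈ Submodule.span A T) (i : ℕ) : (decompose ℳ x i : M) ∈ Submodule.span A T := by
  classical
  induction hx using Submodule.span_induction generalizing i with
  | mem t ht =>
    obtain ⟨j, hj⟩ := hT t ht
    by_cases hij : j = i
    · subst hij
      rw [DirectSum.decompose_of_mem_same ℳ hj]
      exact Submodule.subset_span ht
    · rw [DirectSum.decompose_of_mem_ne ℳ hj hij]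
      exact Submodule.zero_mem _
  | zero => simp
  | add x y _ _ hx hy =>
    rw [DirectSum.decompose_add, DirectSum.add_apply, Submodule.coe_add]
    exact Submodule.add_mem _ (hx i) (hy i)
  | smul a x _ hx =>
    -- decompose a
    induction a using DirectSum.Decomposition.inductionOn 𝒜 generalizing i with
    | zero => simp
    | @homogeneous d a =>
      -- x = sum of its components
      have hxs : x = ∑ j ∈ (decompose ℳ x).support, (decompose ℳ x j : M) :=
        (DirectSum.sum_support_decompose ℳ x).symm
      rw [hxs, Finset.smul_sum, DirectSum.decompose_sum, DFinsupp.finset_sum_apply,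
        AddSubmonoidClass.coe_finset_sum]
      refine Submodule.sum_mem _ (fun j _ => ?_)
      have hmem : (a : A) • (decompose ℳ x j : M) ∈ ℳ (d + j) :=
        SetLike.GradedSMul.smul_mem (A := 𝒜) (B := ℳ) a.2 (decompose ℳ x j).2
      by_cases hij : d + j = i
      · subst hij
        rw [DirectSum.decompose_of_mem_same ℳ hmem]
        exact Submodule.smul_mem _ _ (hx j)
      · rw [DirectSum.decompose_of_mem_ne ℳ hmem hij]
        exact Submodule.zero_mem _
    | add a b ha hb =>
      rw [add_smul, DirectSum.decompose_add, DirectSum.add_apply, Submodule.coe_add]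
      exact Submodule.add_mem _ (ha i) (hb i)

end Groth.Agent.Helper1.SubGr
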