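import Mathlib
import Groth.Prelude.Def_GrMod2
import Groth.Agent.Helper1.ProjQc2
import Groth.Agent.Helper1.SubGr

set_option autoImplicit false
set_option linter.unusedSectionVars false

namespace Groth.Agent.Helper1.ProjQc

open CategoryTheory AlgebraicGeometry TopologicalSpace Opposite Polynomial
open Groth.Agent.Helper1.GrT Groth.Agent.Helper1.ProjO

universe u

variable {R A : Type u} [CommRing R] [CommRing A] [Algebra R A] (𝒜 : ℕ → Submodule R A)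
  [GradedAlgebra 𝒜]
variable (s : Finset A) (hs1 : ∀ f ∈ s, f ∈ 𝒜 1)
variable (F : (Proj 𝒜).Modules)

/-- the product of the rings of functions on the `D₊(f)` -/
abbrev BB : Type u := ∀ f : s, Γ(Proj 𝒜, Proj.basicOpen 𝒜 f.1)

/-- the product of the modules of sections on the `D₊(f)` -/
abbrev TT : Type u := ∀ f : s, Γ(F, Proj.basicOpen 𝒜 f.1)

noncomputable example : CommRing (BB 𝒜 s) := inferInstance
noncomputable example : Module (BB 𝒜 s) (TT 𝒜 s F) := inferInstance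

/-- the family of fractions `a / f ^ d` -/
noncomputable def cf (d : ℕ) (a : A) (ha : a ∈ 𝒜 d) : BB 𝒜 s := fun f =>
  frO 𝒜 (Proj.basicOpen 𝒜 f.1) a (f.1 ^ d) ha (pow_mem1 (hs1 f.1 f.2) d)
    ((NV.basicOpen f.1).pow d)

lemma cf_zero (d : ℕ) : cf 𝒜 s hs1 d 0 (Submodule.zero_mem _) = 0 := by
  funext f
  exact frO_zero 𝒜 _ _ _ _

lemma cf_add (d : ℕ) (a b : A) (ha : a ∈ 𝒜 d) (hb : b ∈ 𝒜 d) :
    cf 𝒜 s hs1 d (a + b) (Submodule.add_mem _ ha hb) = cf 𝒜 s hs1 d a ha + cf 𝒜 s hs1 d b hb := by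
  funext f
  exact frO_add 𝒜 _ _ _ _ _ _ _ _

lemma cf_one : cf 𝒜 s hs1 0 1 SetLike.GradedOne.one_mem = 1 := by
  funext f
  unfold cf
  rw [frO_eq_of 𝒜 _ _ _ (1 : A) (1 : A) _ _ SetLike.GradedOne.one_mem
        SetLike.GradedOne.one_mem _ (NV.one _) (by ring)]
  exact frO_self 𝒜 _ _ _ _

lemma cf_mul (i j : ℕ) (a b : A) (ha : a ∈ 𝒜 i) (hb : b ∈ 𝒜 j) :
    cf 𝒜 s hs1 (i + j) (a * b) (SetLike.mul_mem_graded ha hb) =
      cf 𝒜 s hs1 i a ha * cf 𝒜 s hs1 j b hb := by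
  funext f
  unfold cf
  rw [Pi.mul_apply, frO_mul]
  apply frO_eq_of
  ring

/-- the graded pieces of the ring homomorphism `A → B[X]` -/
noncomputable def ψd (d : ℕ) : 𝒜 d →+ (BB 𝒜 s)[X] where
  toFun a := monomial d (cf 𝒜 s hs1 d a.1 a.2)
  map_zero' := by
    have := cf_zero 𝒜 s hs1 d
    simp only [ZeroMemClass.coe_zero]
    rw [this, map_zero]
  map_add' a b := by
    have := cf_add 𝒜 s hs1 d a.1 b.1 a.2 b.2
    simp only [AddMemClass.coe_add]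
    rw [this, map_add]

/-- the "dehomogenization" ring homomorphism `A → (∏ Γ(D₊(f), O))[X]`, `a ↦ (a / f ^ d) X ^ d` -/
noncomputable def ψ : A →+* (BB 𝒜 s)[X] :=
  (DirectSum.toSemiring (ψd 𝒜 s hs1) (by
      change monomial 0 (cf 𝒜 s hs1 0 1 _) = 1
      rw [cf_one]; rfl)
    (by
      intro i j a b
      change monomial (i + j) (cf 𝒜 s hs1 (i + j) (a.1 * b.1) _) =
        monomial i (cf 𝒜 s hs1 i a.1 a.2) * monomial j (cf 𝒜 s hs1 j b.1 b.2)
      rw [cf_mul, monomial_mul_monomial])).comp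
  (DirectSum.decomposeRingEquiv 𝒜).toRingHom

lemma ψ_of_mem (d : ℕ) (a : A) (ha : a ∈ 𝒜 d) :
    ψ 𝒜 s hs1 a = monomial d (cf 𝒜 s hs1 d a ha) := by
  unfold ψ
  rw [RingHom.comp_apply]
  change DirectSum.toSemiring _ _ _ (DirectSum.decompose 𝒜 a) = _
  rw [DirectSum.decompose_of_mem 𝒜 ha, DirectSum.toSemiring_of]
  rfl


/-! ### the ambient graded module `K = (∏ Γ(D₊(f), F))[X]` -/

/-- the ambient module -/
def KK (_hs1 : ∀ f ∈ s, f ∈ 𝒜 1) : Type u := PolynomialModule (BB 𝒜 s) (TT 𝒜 s F)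

noncomputable instance : AddCommGroup (KK 𝒜 s F hs1) :=
  inferInstanceAs (AddCommGroup (PolynomialModule (BB 𝒜 s) (TT 𝒜 s F)))

noncomputable instance instModuleKK : Module A (KK 𝒜 s F hs1) :=
  Module.compHom (PolynomialModule (BB 𝒜 s) (TT 𝒜 s F)) (ψ 𝒜 s hs1)

noncomputable instance instModuleRKK : Module R (KK 𝒜 s F hs1) :=
  Module.compHom (KK 𝒜 s F hs1) (algebraMap R A)

instance : IsScalarTower R A (KK 𝒜 s F hs1) :=
  IsScalarTower.of_algebraMap_smul (fun _ _ => rfl)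

variable {𝒜 s F hs1}

/-- coefficients -/
noncomputable def co (P : KK 𝒜 s F hs1) (n : ℕ) : TT 𝒜 s F :=
  (PolynomialModule.coeff (R := BB 𝒜 s) (M := TT 𝒜 s F) P) n

lemma co_add (P Q : KK 𝒜 s F hs1) (n : ℕ) : co (P + Q) n = co P n + co Q n := rfl

lemma co_zero (n : ℕ) : co (0 : KK 𝒜 s F hs1) n = 0 := rfl

lemma co_ext (P Q : KK 𝒜 s F hs1) (h : ∀ n, co P n = co Q n) : P = Q := by
  apply PolynomialModule.ext (R := BB 𝒜 s) (M := TT 𝒜 s F)
  exact Finsupp.ext h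

lemma smul_def' (a : A) (P : KK 𝒜 s F hs1) :
    a • P = (ψ 𝒜 s hs1 a • (show PolynomialModule (BB 𝒜 s) (TT 𝒜 s F) from P) :
      PolynomialModule (BB 𝒜 s) (TT 𝒜 s F)) := rfl

lemma co_smul (d : ℕ) (a : A) (ha : a ∈ 𝒜 d) (P : KK 𝒜 s F hs1) (n : ℕ) :
    co (a • P) n = if d ≤ n then cf 𝒜 s hs1 d a ha • co P (n - d) else 0 := by
  unfold co
  rw [smul_def', ψ_of_mem 𝒜 s hs1 d a ha]
  exact PolynomialModule.monomial_smul_apply d _ _ n

variable (𝒜 s F hs1) in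
/-- monomials -/
noncomputable def sg (n : ℕ) (t : TT 𝒜 s F) : KK 𝒜 s F hs1 :=
  PolynomialModule.single (BB 𝒜 s) n t

lemma co_sg (n : ℕ) (t : TT 𝒜 s F) (j : ℕ) :
    co (sg 𝒜 s hs1 F n t) j = if n = j then t else 0 := by
  unfold co sg
  rw [PolynomialModule.coeff_single, Finsupp.single_apply]

lemma co_sg_same (n : ℕ) (t : TT 𝒜 s F) : co (sg 𝒜 s hs1 F n t) n = t := by
  rw [co_sg, if_pos rfl]

lemma co_sg_ne (n : ℕ) (t : TT 𝒜 s F) (j : ℕ) (h : n ≠ j) : co (sg 𝒜 s hs1 F n t) j = 0 := by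
  rw [co_sg, if_neg h]

/-- the support -/
noncomputable def supp (P : KK 𝒜 s F hs1) : Finset ℕ :=
  (PolynomialModule.coeff (R := BB 𝒜 s) (M := TT 𝒜 s F) P).support

lemma mem_supp (P : KK 𝒜 s F hs1) (n : ℕ) : n ∈ supp P ↔ co P n ≠ 0 := Finsupp.mem_support_iff

lemma co_sum {ι : Type*} (t : Finset ι) (Q : ι → KK 𝒜 s F hs1) (n : ℕ) :
    co (∑ i ∈ t, Q i) n = ∑ i ∈ t, co (Q i) n := by
  classical
  induction t using Finset.induction_on with
  | empty => simp [co_zero]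
  | insert a t ha ih => rw [Finset.sum_insert ha, Finset.sum_insert ha, co_add, ih]

lemma sum_sg (P : KK 𝒜 s F hs1) : ∑ n ∈ supp P, sg 𝒜 s hs1 F n (co P n) = P := by
  classical
  apply co_ext
  intro j
  rw [co_sum]
  by_cases hj : j ∈ supp P
  · rw [Finset.sum_eq_single j]
    · exact co_sg_same j _
    · intro b _ hb
      exact co_sg_ne b _ j hb
    · intro h; exact absurd hj h
  · rw [Finset.sum_eq_zero]
    · rw [mem_supp, not_not] at hj
      exact hj.symm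
    · intro b hb
      apply co_sg_ne
      rintro rfl
      exact hj hb

variable (𝒜 s F hs1) in
/-- the grading of `K` -/
def gK (n : ℕ) : Submodule R (KK 𝒜 s F hs1) where
  carrier := {P | ∀ j, j ≠ n → co P j = 0}
  zero_mem' := fun j _ => co_zero j
  add_mem' := by
    intro P Q hP hQ j hj
    rw [co_add, hP j hj, hQ j hj, add_zero]
  smul_mem' := by
    intro r P hP j hj
    change co (algebraMap R A r • P) j = 0
    rw [co_smul 0 _ (SetLike.algebraMap_mem_graded 𝒜 r), if_pos (Nat.zero_le _)]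
    have : co P (j - 0) = 0 := hP _ (by simpa using hj)
    rw [this, smul_zero]

lemma mem_gK (n : ℕ) (P : KK 𝒜 s F hs1) : P ∈ gK 𝒜 s hs1 F n ↔ ∀ j, j ≠ n → co P j = 0 := Iff.rfl

lemma sg_mem (n : ℕ) (t : TT 𝒜 s F) : sg 𝒜 s hs1 F n t ∈ gK 𝒜 s hs1 F n :=
  fun j hj => co_sg_ne n t j (Ne.symm hj)

instance : SetLike.GradedSMul 𝒜 (gK 𝒜 s hs1 F) := by
  refine ⟨fun {d n a P} ha hP j hj => ?_⟩
  rw [co_smul d a ha]
  split_ifs with h
  · have : co P (j - d) = 0 := by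
      apply hP
      rw [vadd_eq_add] at hj
      omega
    rw [this, smul_zero]
  · rfl

lemma co_coe (y : DirectSum ℕ (fun n => gK 𝒜 s hs1 F n)) (n : ℕ) :
    co (DirectSum.coeAddMonoidHom (gK 𝒜 s hs1 F) y) n = co (y n : KK 𝒜 s F hs1) n := by
  classical
  induction y using DirectSum.induction_on with
  | zero => rfl
  | of i x =>
    rw [DirectSum.coeAddMonoidHom_of]
    by_cases h : i = n
    · subst h
      rw [DirectSum.of_eq_same]
    · rw [DirectSum.of_eq_of_ne _ _ _ (Ne.symm h)]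
      exact x.2 n (Ne.symm h)
  | add y y' h h' =>
    rw [map_add, co_add, h, h', DirectSum.add_apply]
    rfl

theorem isInternal_gK : DirectSum.IsInternal (gK 𝒜 s hs1 F) := by
  classical
  constructor
  · rw [injective_iff_map_eq_zero]
    intro y hy
    apply DirectSum.ext
    intro n
    rw [DirectSum.zero_apply]
    apply Subtype.ext
    apply co_ext
    intro j
    by_cases hj : j = n
    · subst hj
      rw [← co_coe, hy]
      rfl
    · exact (y n).2 j hj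
  · intro P
    refine ⟨∑ n ∈ supp P, DirectSum.of (fun n => gK 𝒜 s hs1 F n) n
      ⟨sg 𝒜 s hs1 F n (co P n), sg_mem n _⟩, ?_⟩
    rw [map_sum]
    simp only [DirectSum.coeAddMonoidHom_of]
    exact sum_sg P

noncomputable instance : DirectSum.Decomposition (gK 𝒜 s hs1 F) :=
  isInternal_gK.chooseDecomposition

lemma decompose_eq (P : KK 𝒜 s F hs1) (n : ℕ) :
    (DirectSum.decompose (gK 𝒜 s hs1 F) P n : KK 𝒜 s F hs1) = sg 𝒜 s hs1 F n (co P n) := by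
  apply co_ext
  intro j
  by_cases hj : j = n
  · subst hj
    rw [co_sg_same, ← co_coe]
    congr 1
    exact (DirectSum.decompose (gK 𝒜 s hs1 F)).left_inv P
  · rw [co_sg_ne _ _ _ (Ne.symm hj)]
    exact (DirectSum.decompose (gK 𝒜 s hs1 F) P n).2 j hj

lemma eq_sg_of_mem (n : ℕ) (P : KK 𝒜 s F hs1) (hP : P ∈ gK 𝒜 s hs1 F n) :
    P = sg 𝒜 s hs1 F n (co P n) := by
  apply co_ext
  intro j
  by_cases hj : j = n
  · subst hj
    rw [co_sg_same]
  · rw [co_sg_ne _ _ _ (Ne.symm hj)]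
    exact hP j hj


/-! ### the cocycle condition and the module `Γ_*(F)` -/

variable (𝒜 s hs1 F) in
/-- the cocycle condition at level `n` -/
def Coc (n : ℕ) (t : TT 𝒜 s F) : Prop :=
  ∀ f g : s,
    res F (inf_le_left : Proj.basicOpen 𝒜 f.1 ⊓ Proj.basicOpen 𝒜 g.1 ≤ Proj.basicOpen 𝒜 f.1)
        (t f) =
      frO 𝒜 (Proj.basicOpen 𝒜 f.1 ⊓ Proj.basicOpen 𝒜 g.1) (g.1 ^ n) (f.1 ^ n)
        (pow_mem1 (hs1 g.1 g.2) n) (pow_mem1 (hs1 f.1 f.2) n)
        (((NV.basicOpen f.1).mono inf_le_left).pow n) •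
      res F (inf_le_right : Proj.basicOpen 𝒜 f.1 ⊓ Proj.basicOpen 𝒜 g.1 ≤ Proj.basicOpen 𝒜 g.1)
        (t g)

lemma Coc.zero (n : ℕ) : Coc 𝒜 s hs1 F n 0 := by
  intro f g
  rw [Pi.zero_apply, Pi.zero_apply, map_zero, map_zero, smul_zero]

lemma Coc.add {n : ℕ} {t t' : TT 𝒜 s F} (h : Coc 𝒜 s hs1 F n t) (h' : Coc 𝒜 s hs1 F n t') :
    Coc 𝒜 s hs1 F n (t + t') := by
  intro f g
  rw [Pi.add_apply, Pi.add_apply, map_add, map_add, smul_add, h f g, h' f g]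

lemma Coc.smul {n : ℕ} {t : TT 𝒜 s F} (h : Coc 𝒜 s hs1 F n t) (d : ℕ) (a : A) (ha : a ∈ 𝒜 d) :
    Coc 𝒜 s hs1 F (d + n) (cf 𝒜 s hs1 d a ha • t) := by
  intro f g
  have hf := hs1 f.1 f.2
  have hg := hs1 g.1 g.2
  have nf : NV 𝒜 (Proj.basicOpen 𝒜 f.1 ⊓ Proj.basicOpen 𝒜 g.1) f.1 :=
    (NV.basicOpen f.1).mono inf_le_left
  have ng : NV 𝒜 (Proj.basicOpen 𝒜 f.1 ⊓ Proj.basicOpen 𝒜 g.1) g.1 :=
    (NV.basicOpen g.1).mono inf_le_right
  rw [Pi.smul_apply', Pi.smul_apply']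
  unfold cf
  rw [res_frO_smul, res_frO_smul, h f g, smul_smul, smul_smul, frO_mul, frO_mul]
  congr 1
  apply frO_eq_of
  ring

variable (𝒜 s hs1 F) in
/-- the graded module `Γ_*(F) = ⊕ Γ(X, F(n))`, as a submodule of `K` -/
def Msub : Submodule A (KK 𝒜 s F hs1) where
  carrier := {P | ∀ n, Coc 𝒜 s hs1 F n (co P n)}
  zero_mem' := fun n => Coc.zero n
  add_mem' := by
    intro P Q hP hQ n
    rw [co_add]
    exact (hP n).add (hQ n)
  smul_mem' := by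
    intro a P hP
    induction a using DirectSum.Decomposition.inductionOn 𝒜 with
    | zero =>
      intro n
      rw [zero_smul]
      exact Coc.zero n
    | @homogeneous d a =>
      intro n
      rw [co_smul d a.1 a.2]
      split_ifs with h
      · obtain ⟨m, rfl⟩ := Nat.exists_eq_add_of_le h
        rw [Nat.add_sub_cancel_left]
        exact (hP m).smul d a.1 a.2
      · exact Coc.zero n
    | add a b ha hb =>
      intro n
      rw [add_smul, co_add]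
      exact (ha n).add (hb n)

lemma mem_Msub (P : KK 𝒜 s F hs1) : P ∈ Msub 𝒜 s hs1 F ↔ ∀ n, Coc 𝒜 s hs1 F n (co P n) := Iff.rfl

lemma Msub_homogeneous (P : KK 𝒜 s F hs1) (hP : P ∈ Msub 𝒜 s hs1 F) (i : ℕ) :
    (DirectSum.decompose (gK 𝒜 s hs1 F) P i : KK 𝒜 s F hs1) ∈ Msub 𝒜 s hs1 F := by
  rw [decompose_eq]
  intro n
  rw [co_sg]
  split_ifs with h
  · subst h; exact hP i
  · exact Coc.zero n

lemma sg_mem_Msub (n : ℕ) (t : TT 𝒜 s F) (ht : Coc 𝒜 s hs1 F n t) :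
    sg 𝒜 s hs1 F n t ∈ Msub 𝒜 s hs1 F := by
  intro j
  rw [co_sg]
  split_ifs with h
  · subst h; exact ht
  · exact Coc.zero j

/-! ### the realization -/

/-- evaluation at `X = 1` -/
noncomputable def ev1 (P : KK 𝒜 s F hs1) : TT 𝒜 s F :=
  PolynomialModule.eval (R := BB 𝒜 s) (M := TT 𝒜 s F) 1
    (show PolynomialModule (BB 𝒜 s) (TT 𝒜 s F) from P)

lemma ev1_add (P Q : KK 𝒜 s F hs1) : ev1 (P + Q) = ev1 P + ev1 Q :=
  map_add (PolynomialModule.eval (R := BB 𝒜 s) (M := TT 𝒜 s F) 1) _ _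

lemma ev1_zero : ev1 (0 : KK 𝒜 s F hs1) = 0 :=
  map_zero (PolynomialModule.eval (R := BB 𝒜 s) (M := TT 𝒜 s F) 1)

lemma ev1_sg (n : ℕ) (t : TT 𝒜 s F) : ev1 (sg 𝒜 s hs1 F n t) = t := by
  unfold ev1 sg
  rw [PolynomialModule.eval_single, one_pow, one_smul]

lemma ev1_smul (d : ℕ) (a : A) (ha : a ∈ 𝒜 d) (P : KK 𝒜 s F hs1) :
    ev1 (a • P) = cf 𝒜 s hs1 d a ha • ev1 P := by
  unfold ev1
  rw [smul_def', ψ_of_mem 𝒜 s hs1 d a ha]
  refine (PolynomialModule.eval_smul _ _ _).trans ?_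
  rw [eval_monomial, one_pow, mul_one]

variable (𝒜 s hs1 F) in
/-- evaluation at `X = 1`, followed by the projection to `Γ(D₊(f), F)` -/
noncomputable def eK (f : s) : KK 𝒜 s F hs1 →+ Γ(F, Proj.basicOpen 𝒜 f.1) where
  toFun P := ev1 P f
  map_zero' := by rw [ev1_zero]; rfl
  map_add' P Q := by rw [ev1_add]; rfl

lemma eK_sg (f : s) (n : ℕ) (t : TT 𝒜 s F) : eK 𝒜 s hs1 F f (sg 𝒜 s hs1 F n t) = t f := by
  change ev1 _ f = _
  rw [ev1_sg]

lemma eK_smul (f : s) (d : ℕ) (a : A) (ha : a ∈ 𝒜 d) (P : KK 𝒜 s F hs1) :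
    eK 𝒜 s hs1 F f (a • P) = cf 𝒜 s hs1 d a ha f • eK 𝒜 s hs1 F f P := by
  change ev1 _ f = _ • ev1 _ f
  rw [ev1_smul d a ha]
  rfl

lemma eK_of_mem (f : s) (n : ℕ) (P : KK 𝒜 s F hs1) (hP : P ∈ gK 𝒜 s hs1 F n) :
    eK 𝒜 s hs1 F f P = co P n f := by
  conv_lhs => rw [eq_sg_of_mem n P hP]
  exact eK_sg f n _

variable (𝒜 s hs1 F) in
/-- the realization of a homogeneous submodule of `Γ_*(F)` -/
noncomputable def rlz (N : Submodule A (KK 𝒜 s F hs1)) (hN : N ≤ Msub 𝒜 s hs1 F) :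
    Rlz 𝒜 (SubGr.gr (gK 𝒜 s hs1 F) N) s hs1 F where
  e f := (eK 𝒜 s hs1 F f).comp N.subtype.toAddMonoidHom
  e_smul f d a ha x := eK_smul f d a ha x.1
  coc f g n x hx := by
    change res F _ (eK 𝒜 s hs1 F f x.1) = _ • res F _ (eK 𝒜 s hs1 F g x.1)
    rw [eK_of_mem f n x.1 hx, eK_of_mem g n x.1 hx]
    exact hN x.2 n f g

end Groth.Agent.Helper1.ProjQc
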