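import Mathlib
import Groth.Prelude.Def_GrMod2
import Groth.Agent.Helper1.ProjQc3
import Groth.Agent.Helper4.QcqsMod

set_option autoImplicit false
set_option linter.unusedSectionVars false

namespace Groth.Agent.Helper1.ProjQc

open CategoryTheory AlgebraicGeometry TopologicalSpace Opposite Polynomial
open Groth.Agent.Helper1.GrT Groth.Agent.Helper1.ProjO

universe u

variable {R A : Type u} [CommRing R] [CommRing A] [Algebra R A] (𝒜 : ℕ → Submodule R A)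
  [GradedAlgebra 𝒜]

/-! ### more on fractions -/

lemma basicOpen_frO (W : (Proj 𝒜).Opens) {i : ℕ} (a b : A) (ha : a ∈ 𝒜 i) (hb : b ∈ 𝒜 i)
    (hW : NV 𝒜 W b) :
    (Proj 𝒜).basicOpen (frO 𝒜 W a b ha hb hW) = W ⊓ Proj.basicOpen 𝒜 a := by
  apply le_antisymm
  · intro y hy
    have hyW : y ∈ W := (Proj 𝒜).basicOpen_le _ hy
    refine ⟨hyW, ?_⟩
    have h1 := (mem_basicOpen_iff 𝒜 W _ y hyW).1 hy
    rw [evO_frO] at h1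
    exact (ProjectiveSpectrum.mem_basicOpen 𝒜 a y).2 ((isUnit_mkO y a b _).1 h1)
  · rintro y ⟨hyW, hya⟩
    refine (mem_basicOpen_iff 𝒜 W _ y hyW).2 ?_
    rw [evO_frO]
    exact (isUnit_mkO y a b _).2 ((ProjectiveSpectrum.mem_basicOpen 𝒜 a y).1 hya)

lemma frO_pow (W : (Proj 𝒜).Opens) {i : ℕ} (a b : A) (ha : a ∈ 𝒜 i) (hb : b ∈ 𝒜 i)
    (hW : NV 𝒜 W b) (k : ℕ) :
    (frO 𝒜 W a b ha hb hW) ^ k = frO 𝒜 W (a ^ k) (b ^ k) (pow_mem' ha k) (pow_mem' hb k)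
      (hW.pow k) := by
  apply O_ext
  intro y hy
  rw [evO_val_pow, evO_frO, evO_frO]
  exact mkO_pow y a b _ k

/-- product of two fractions, with the result in a prescribed form -/
lemma frO_mul_eq (W : (Proj 𝒜).Opens) {i j k : ℕ} (a b a' b' a'' b'' : A) (ha : a ∈ 𝒜 i)
    (hb : b ∈ 𝒜 i) (ha' : a' ∈ 𝒜 j) (hb' : b' ∈ 𝒜 j) (ha'' : a'' ∈ 𝒜 k) (hb'' : b'' ∈ 𝒜 k)
    (hW : NV 𝒜 W b) (hW' : NV 𝒜 W b') (hW'' : NV 𝒜 W b'')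
    (h : a * a' * b'' = a'' * (b * b')) :
    frO 𝒜 W a b ha hb hW * frO 𝒜 W a' b' ha' hb' hW' = frO 𝒜 W a'' b'' ha'' hb'' hW'' := by
  rw [frO_mul]
  exact frO_eq_of 𝒜 W _ _ _ _ _ _ _ _ _ _ h


variable {𝒜}
variable {s : Finset A} {hs1 : ∀ f ∈ s, f ∈ 𝒜 1} {F : (Proj 𝒜).Modules}

open Groth.Agent.Helper4.QcqsMod

/-! ### condition (1): injectivity -/

theorem cond1_aux [F.IsQuasicoherent] (f g : s) (n : ℕ) (t : TT 𝒜 s F)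
    (ht : Coc 𝒜 s hs1 F n t) (h0 : t f = 0) :
    ∃ k0, ∀ k, k0 ≤ k → cf 𝒜 s hs1 k (f.1 ^ k) (pow_mem1 (hs1 f.1 f.2) k) g • t g = 0 := by
  have hf := hs1 f.1 f.2
  have hg := hs1 g.1 g.2
  have hloc := isLocalizingOn_of_isAffineOpen F
    (Proj.isAffineOpen_basicOpen 𝒜 g.1 hg Nat.one_pos)
  have hbo : (Proj 𝒜).basicOpen (frO 𝒜 (Proj.basicOpen 𝒜 g.1) f.1 g.1 hf hg (NV.basicOpen g.1)) =
      Proj.basicOpen 𝒜 g.1 ⊓ Proj.basicOpen 𝒜 f.1 := basicOpen_frO 𝒜 _ _ _ _ _ _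
  have hz : res F ((Proj 𝒜).basicOpen_le
      (frO 𝒜 (Proj.basicOpen 𝒜 g.1) f.1 g.1 hf hg (NV.basicOpen g.1))) (t g) = 0 := by
    have h1 := ht g f
    rw [h0, map_zero, smul_zero] at h1
    have := congrArg (res F (le_of_eq hbo)) h1
    rwa [res_res, map_zero] at this
  obtain ⟨k0, hk0⟩ := hloc.zero _ (t g) hz
  refine ⟨k0, fun k hk => ?_⟩
  obtain ⟨j, rfl⟩ := Nat.exists_eq_add_of_le hk
  have hcf : cf 𝒜 s hs1 (k0 + j) (f.1 ^ (k0 + j)) (pow_mem1 hf _) g =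
      (frO 𝒜 (Proj.basicOpen 𝒜 g.1) f.1 g.1 hf hg (NV.basicOpen g.1)) ^ (k0 + j) := by
    rw [frO_pow]
    unfold cf
    apply frO_eq_of
    rfl
  rw [hcf, pow_add, mul_comm, mul_smul, hk0, smul_zero]

theorem cond1 [F.IsQuasicoherent] (f : s) (n : ℕ) (P : KK 𝒜 s F hs1)
    (hP : P ∈ Msub 𝒜 s hs1 F) (hPn : P ∈ gK 𝒜 s hs1 F n) (h0 : eK 𝒜 s hs1 F f P = 0) :
    ∃ k : ℕ, f.1 ^ k • P = 0 := by
  classical
  have hf := hs1 f.1 f.2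
  rw [eK_of_mem f n P hPn] at h0
  have h1 := fun g : s => cond1_aux f g n (co P n) (hP n) h0
  choose k0 hk0 using h1
  refine ⟨Finset.univ.sup k0, ?_⟩
  apply co_ext
  intro j
  rw [co_smul _ _ (pow_mem1 hf _), co_zero]
  split_ifs with h
  · by_cases hj : j - Finset.univ.sup k0 = n
    · rw [hj]
      funext g
      rw [Pi.smul_apply']
      exact hk0 g _ (Finset.le_sup (Finset.mem_univ g))
    · rw [hPn _ hj, smul_zero]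
  · rfl


/-! ### condition (2): surjectivity -/

variable (hs1) in
/-- the relation `y|_{D₊(g) ∩ D₊(f)} = (f/g)^k t|_{D₊(g) ∩ D₊(f)}` -/
def Arel (f g : s) (t : Γ(F, Proj.basicOpen 𝒜 f.1)) (k : ℕ) (y : Γ(F, Proj.basicOpen 𝒜 g.1)) :
    Prop :=
  res F (inf_le_left : Proj.basicOpen 𝒜 g.1 ⊓ Proj.basicOpen 𝒜 f.1 ≤ Proj.basicOpen 𝒜 g.1) y =
    frO 𝒜 (Proj.basicOpen 𝒜 g.1 ⊓ Proj.basicOpen 𝒜 f.1) (f.1 ^ k) (g.1 ^ k)
      (pow_mem1 (hs1 f.1 f.2) k) (pow_mem1 (hs1 g.1 g.2) k)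
      (((NV.basicOpen g.1).mono inf_le_left).pow k) •
    res F (inf_le_right : Proj.basicOpen 𝒜 g.1 ⊓ Proj.basicOpen 𝒜 f.1 ≤ Proj.basicOpen 𝒜 f.1) t

theorem cond2_step1 [F.IsQuasicoherent] (f g : s) (t : Γ(F, Proj.basicOpen 𝒜 f.1)) :
    ∃ k0, ∀ k, k0 ≤ k → ∃ y, Arel hs1 f g t k y := by
  have hf := hs1 f.1 f.2
  have hg := hs1 g.1 g.2
  have hloc := isLocalizingOn_of_isAffineOpen F
    (Proj.isAffineOpen_basicOpen 𝒜 g.1 hg Nat.one_pos)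
  have hbo : (Proj 𝒜).basicOpen (frO 𝒜 (Proj.basicOpen 𝒜 g.1) f.1 g.1 hf hg (NV.basicOpen g.1)) =
      Proj.basicOpen 𝒜 g.1 ⊓ Proj.basicOpen 𝒜 f.1 := basicOpen_frO 𝒜 _ _ _ _ _ _
  have hbf : (Proj 𝒜).basicOpen (frO 𝒜 (Proj.basicOpen 𝒜 g.1) f.1 g.1 hf hg (NV.basicOpen g.1)) ≤
      Proj.basicOpen 𝒜 f.1 := le_trans (le_of_eq hbo) inf_le_right
  obtain ⟨k0, y0, h0⟩ := hloc.surj _ (res F hbf t)
  change resO _ _ • res F hbf t = res F _ y0 at h0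
  have h1 := congrArg (res F (le_of_eq hbo.symm)) h0
  rw [res_smul, resO_resO, res_res, res_res, frO_pow, resO_frO] at h1
  have ng : NV 𝒜 (Proj.basicOpen 𝒜 g.1 ⊓ Proj.basicOpen 𝒜 f.1) g.1 :=
    (NV.basicOpen g.1).mono inf_le_left
  refine ⟨k0, fun k hk => ?_⟩
  obtain ⟨j, rfl⟩ := Nat.exists_eq_add_of_le hk
  refine ⟨cf 𝒜 s hs1 j (f.1 ^ j) (pow_mem1 hf j) g • y0, ?_⟩
  unfold Arel cf
  rw [res_frO_smul, ← h1, smul_smul]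
  congr 1
  apply frO_mul_eq
  ring


include hs1 in
lemma mul_mem2 (g g' : s) : g.1 * g'.1 ∈ 𝒜 (1 + 1) :=
  SetLike.mul_mem_graded (hs1 g.1 g.2) (hs1 g'.1 g'.2)

lemma nv2 (g g' : s) : NV 𝒜 (Proj.basicOpen 𝒜 g.1 ⊓ Proj.basicOpen 𝒜 g'.1) (g.1 * g'.1) :=
  ((NV.basicOpen g.1).mono inf_le_left).mul ((NV.basicOpen g'.1).mono inf_le_right)

variable (hs1) in
/-- the defect of the cocycle condition -/
noncomputable def delta (g g' : s) (k : ℕ) (y : Γ(F, Proj.basicOpen 𝒜 g.1))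
    (y' : Γ(F, Proj.basicOpen 𝒜 g'.1)) :
    Γ(F, Proj.basicOpen 𝒜 g.1 ⊓ Proj.basicOpen 𝒜 g'.1) :=
  res F (inf_le_left : Proj.basicOpen 𝒜 g.1 ⊓ Proj.basicOpen 𝒜 g'.1 ≤ Proj.basicOpen 𝒜 g.1) y -
    frO 𝒜 (Proj.basicOpen 𝒜 g.1 ⊓ Proj.basicOpen 𝒜 g'.1) (g'.1 ^ k) (g.1 ^ k)
      (pow_mem1 (hs1 g'.1 g'.2) k) (pow_mem1 (hs1 g.1 g.2) k)
      (((NV.basicOpen g.1).mono inf_le_left).pow k) •
    res F (inf_le_right : Proj.basicOpen 𝒜 g.1 ⊓ Proj.basicOpen 𝒜 g'.1 ≤ Proj.basicOpen 𝒜 g'.1) y'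

theorem cond2_step2 [F.IsQuasicoherent] (f g g' : s) (t : Γ(F, Proj.basicOpen 𝒜 f.1)) (k : ℕ)
    (y : Γ(F, Proj.basicOpen 𝒜 g.1)) (y' : Γ(F, Proj.basicOpen 𝒜 g'.1))
    (hy : Arel hs1 f g t k y) (hy' : Arel hs1 f g' t k y') :
    ∃ K0, ∀ K, K0 ≤ K →
      frO 𝒜 (Proj.basicOpen 𝒜 g.1 ⊓ Proj.basicOpen 𝒜 g'.1) ((f.1 * f.1) ^ K) ((g.1 * g'.1) ^ K)
        (pow_mem' (mul_mem2 (hs1 := hs1) f f) K) (pow_mem' (mul_mem2 (hs1 := hs1) g g') K)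
        ((nv2 g g').pow K) • delta hs1 g g' k y y' = 0 := by
  have hf := hs1 f.1 f.2
  have hg := hs1 g.1 g.2
  have hg' := hs1 g'.1 g'.2
  have haff : IsAffineOpen (Proj.basicOpen 𝒜 g.1 ⊓ Proj.basicOpen 𝒜 g'.1) := by
    rw [← Proj.basicOpen_mul]
    exact Proj.isAffineOpen_basicOpen 𝒜 (g.1 * g'.1) (mul_mem2 (hs1 := hs1) g g')
      (by omega : 0 < 1 + 1)
  have hloc := isLocalizingOn_of_isAffineOpen F haff
  have hbo := basicOpen_frO 𝒜 (Proj.basicOpen 𝒜 g.1 ⊓ Proj.basicOpen 𝒜 g'.1) (f.1 * f.1)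
    (g.1 * g'.1) (mul_mem2 (hs1 := hs1) f f) (mul_mem2 (hs1 := hs1) g g') (nv2 g g')
  -- the triple intersection
  have hb3 : (Proj 𝒜).basicOpen (frO 𝒜 (Proj.basicOpen 𝒜 g.1 ⊓ Proj.basicOpen 𝒜 g'.1)
      (f.1 * f.1) (g.1 * g'.1) (mul_mem2 (hs1 := hs1) f f) (mul_mem2 (hs1 := hs1) g g')
      (nv2 g g')) ≤
      (Proj.basicOpen 𝒜 g.1 ⊓ Proj.basicOpen 𝒜 g'.1) ⊓ Proj.basicOpen 𝒜 f.1 := by
    rw [hbo]
    exact inf_le_inf le_rfl (NV.basicOpen (f.1 * f.1)).of_mul_left.le_basicOpen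
  -- nonvanishing on the triple intersection
  have n3g : NV 𝒜 ((Proj.basicOpen 𝒜 g.1 ⊓ Proj.basicOpen 𝒜 g'.1) ⊓ Proj.basicOpen 𝒜 f.1) g.1 :=
    (NV.basicOpen g.1).mono (inf_le_left.trans inf_le_left)
  have n3g' : NV 𝒜 ((Proj.basicOpen 𝒜 g.1 ⊓ Proj.basicOpen 𝒜 g'.1) ⊓ Proj.basicOpen 𝒜 f.1) g'.1 :=
    (NV.basicOpen g'.1).mono (inf_le_left.trans inf_le_right)
  have hz3 : res F (inf_le_left : (Proj.basicOpen 𝒜 g.1 ⊓ Proj.basicOpen 𝒜 g'.1) ⊓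
      Proj.basicOpen 𝒜 f.1 ≤ Proj.basicOpen 𝒜 g.1 ⊓ Proj.basicOpen 𝒜 g'.1)
      (delta hs1 g g' k y y') = 0 := by
    unfold delta
    rw [map_sub, res_res, res_frO_smul, res_res]
    have e1 := congrArg (res F (le_inf (inf_le_left.trans inf_le_left) inf_le_right :
      (Proj.basicOpen 𝒜 g.1 ⊓ Proj.basicOpen 𝒜 g'.1) ⊓ Proj.basicOpen 𝒜 f.1 ≤
        Proj.basicOpen 𝒜 g.1 ⊓ Proj.basicOpen 𝒜 f.1)) hy
    have e2 := congrArg (res F (le_inf (inf_le_left.trans inf_le_right) inf_le_right :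
      (Proj.basicOpen 𝒜 g.1 ⊓ Proj.basicOpen 𝒜 g'.1) ⊓ Proj.basicOpen 𝒜 f.1 ≤
        Proj.basicOpen 𝒜 g'.1 ⊓ Proj.basicOpen 𝒜 f.1)) hy'
    rw [res_res, res_frO_smul, res_res] at e1 e2
    rw [e1, e2, smul_smul, sub_eq_zero]
    congr 1
    symm
    apply frO_mul_eq
    ring
  have hz : res F ((Proj 𝒜).basicOpen_le (frO 𝒜 (Proj.basicOpen 𝒜 g.1 ⊓ Proj.basicOpen 𝒜 g'.1)
      (f.1 * f.1) (g.1 * g'.1) (mul_mem2 (hs1 := hs1) f f) (mul_mem2 (hs1 := hs1) g g')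
      (nv2 g g'))) (delta hs1 g g' k y y') = 0 := by
    have := congrArg (res F hb3) hz3
    rwa [res_res, map_zero] at this
  obtain ⟨K0, hK0⟩ := hloc.zero _ _ hz
  refine ⟨K0, fun K hK => ?_⟩
  obtain ⟨j, rfl⟩ := Nat.exists_eq_add_of_le hK
  rw [← frO_pow 𝒜 _ (f.1 * f.1) (g.1 * g'.1) (mul_mem2 (hs1 := hs1) f f)
    (mul_mem2 (hs1 := hs1) g g') (nv2 g g'), pow_add, mul_comm, mul_smul, hK0, smul_zero]


set_option maxHeartbeats 1000000 in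
theorem cond2 [F.IsQuasicoherent] (f : s) (t : Γ(F, Proj.basicOpen 𝒜 f.1)) :
    ∃ (n : ℕ) (P : KK 𝒜 s F hs1), P ∈ Msub 𝒜 s hs1 F ∧ P ∈ gK 𝒜 s hs1 F n ∧
      eK 𝒜 s hs1 F f P = t := by
  classical
  have hf := hs1 f.1 f.2
  -- step 1
  have h1 := fun g : s => cond2_step1 (hs1 := hs1) f g t
  choose k0 hk0 using h1
  have h1' : ∀ g : s, ∃ y, Arel hs1 f g t (Finset.univ.sup k0) y :=
    fun g => hk0 g _ (Finset.le_sup (Finset.mem_univ g))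
  choose y hy using h1'
  obtain ⟨k, hk⟩ : ∃ k, k = Finset.univ.sup k0 := ⟨_, rfl⟩
  rw [← hk] at hy
  -- step 2
  have h2 := fun p : s × s => cond2_step2 f p.1 p.2 t k (y p.1) (y p.2) (hy p.1) (hy p.2)
  choose K0 hK0 using h2
  obtain ⟨K, hK⟩ : ∃ K, K = Finset.univ.sup K0 := ⟨_, rfl⟩
  have h2' : ∀ g g' : s,
      frO 𝒜 (Proj.basicOpen 𝒜 g.1 ⊓ Proj.basicOpen 𝒜 g'.1) ((f.1 * f.1) ^ K) ((g.1 * g'.1) ^ K)
        (pow_mem' (mul_mem2 (hs1 := hs1) f f) K) (pow_mem' (mul_mem2 (hs1 := hs1) g g') K)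
        ((nv2 g g').pow K) • delta hs1 g g' k (y g) (y g') = 0 := by
    intro g g'
    exact hK0 (g, g') K (hK ▸ Finset.le_sup (Finset.mem_univ (g, g')))
  -- step 3
  have hcoc : Coc 𝒜 s hs1 F (2 * K + k)
      (fun g => cf 𝒜 s hs1 (2 * K) (f.1 ^ (2 * K)) (pow_mem1 hf _) g • y g) := by
    intro g g'
    have hg := hs1 g.1 g.2
    have hg' := hs1 g'.1 g'.2
    have ng : NV 𝒜 (Proj.basicOpen 𝒜 g.1 ⊓ Proj.basicOpen 𝒜 g'.1) g.1 :=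
      (NV.basicOpen g.1).mono inf_le_left
    have ng' : NV 𝒜 (Proj.basicOpen 𝒜 g.1 ⊓ Proj.basicOpen 𝒜 g'.1) g'.1 :=
      (NV.basicOpen g'.1).mono inf_le_right
    have hd := h2' g g'
    unfold delta at hd
    rw [smul_sub, sub_eq_zero, smul_smul] at hd
    change res F _ (frO 𝒜 _ _ _ _ _ _ • y g) = _ • res F _ (frO 𝒜 _ _ _ _ _ _ • y g')
    rw [res_frO_smul, res_frO_smul, smul_smul]
    have e1 : frO 𝒜 (Proj.basicOpen 𝒜 g.1 ⊓ Proj.basicOpen 𝒜 g'.1) (f.1 ^ (2 * K)) (g.1 ^ (2 * K))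
        (pow_mem1 hf _) (pow_mem1 hg _) (ng.pow _) =
        frO 𝒜 (Proj.basicOpen 𝒜 g.1 ⊓ Proj.basicOpen 𝒜 g'.1) (g'.1 ^ K) (g.1 ^ K)
          (pow_mem1 hg' _) (pow_mem1 hg _) (ng.pow _) *
        frO 𝒜 (Proj.basicOpen 𝒜 g.1 ⊓ Proj.basicOpen 𝒜 g'.1) ((f.1 * f.1) ^ K) ((g.1 * g'.1) ^ K)
          (pow_mem' (mul_mem2 (hs1 := hs1) f f) K) (pow_mem' (mul_mem2 (hs1 := hs1) g g') K)
          ((nv2 g g').pow K) := by
      symm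
      apply frO_mul_eq
      ring
    rw [e1, mul_smul, hd, smul_smul]
    congr 1
    rw [frO_mul, frO_mul, frO_mul]
    apply frO_eq_of
    ring
  refine ⟨2 * K + k, sg 𝒜 s hs1 F (2 * K + k) _, sg_mem_Msub _ _ hcoc, sg_mem _ _, ?_⟩
  rw [eK_sg]
  -- `y f = t`
  have hyf := hy f
  unfold Arel at hyf
  rw [frO_self, one_smul] at hyf
  have hinj := (res_bijective_of_eq F (inf_le_left : Proj.basicOpen 𝒜 f.1 ⊓ Proj.basicOpen 𝒜 f.1 ≤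
    Proj.basicOpen 𝒜 f.1) (le_inf le_rfl le_rfl)).1
  have hyt : y f = t := hinj hyf
  unfold cf
  rw [frO_self, one_smul, hyt]

end Groth.Agent.Helper1.ProjQc
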