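import Mathlib
import Groth.Agent.S3550
import Groth.Agent.S4479
import Groth.Agent.Helper2.Graded
import Groth.Agent.Helper1.KoszulBasic
import Groth.Agent.Helper1.SerreD

set_option autoImplicit false

/-!
# Cohomology of quasi-coherent modules on `Proj S` vanishes above the number of generators
-/

namespace Groth.Agent.Helper1.ProjVanish

open CategoryTheory AlgebraicGeometry

universe u

variable {R A : Type u} [CommRing R] [CommRing A] [Algebra R A] (𝒜 : ℕ → Submodule R A)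
  [GradedAlgebra 𝒜]

/-- generation as an algebra implies that the generators span the irrelevant ideal -/
theorem irrelevant_eq_span_of_adjoin {ι : Type*} (g : ι → A) (hg1 : ∀ i, g i ∈ 𝒜 1)
    (hgen : Algebra.adjoin R (Set.range g) = ⊤) :
    (HomogeneousIdeal.irrelevant 𝒜).toIdeal = Ideal.span (Set.range g) := by
  rw [Groth.Agent.Helper2.irrelevant_eq_span_iff_adjoin_eq_top 𝒜 (Set.range g)
    (by rintro _ ⟨i, rfl⟩; exact ⟨1, Nat.one_pos, hg1 i⟩)]
  rw [eq_top_iff]
  have key : ∀ x ∈ Algebra.adjoin R (Set.range g),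
      x ∈ Algebra.adjoin (𝒜 0) (Set.range g) := by
    intro x hx
    induction hx using Algebra.adjoin_induction with
    | mem x hx => exact Algebra.subset_adjoin hx
    | algebraMap a =>
      exact Subalgebra.algebraMap_mem _
        (⟨algebraMap R A a, SetLike.algebraMap_mem_graded 𝒜 a⟩ : 𝒜 0)
    | add x y _ _ hx hy => exact Subalgebra.add_mem _ hx hy
    | mul x y _ _ hx hy => exact Subalgebra.mul_mem _ hx hy
  intro x _
  exact key x (by rw [hgen]; trivial)

/-- **vanishing above the number of generators** -/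
theorem subsingleton_HH (r : ℕ) (g : Fin (r + 1) → A) (hg1 : ∀ i, g i ∈ 𝒜 1)
    (hsp : (HomogeneousIdeal.irrelevant 𝒜).toIdeal = Ideal.span (Set.range g))
    (F : (Proj 𝒜).Modules) (hF : Coh.IsQCoh F) (q : ℕ) (hq : r < q) :
    Subsingleton (Coh.HH (Proj 𝒜) F q) := by
  classical
  let s : Finset A := Finset.univ.image g
  have hs1 : ∀ f ∈ s, f ∈ 𝒜 1 := by
    intro f hf
    obtain ⟨i, _, rfl⟩ := Finset.mem_image.1 hf
    exact hg1 i
  have hsr : (s : Set A) = Set.range g := by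
    ext x
    simp [s]
  have hs : (HomogeneousIdeal.irrelevant 𝒜).toIdeal = Ideal.span (s : Set A) := by
    rw [hsr]; exact hsp
  obtain ⟨M, _, _, _, _, ℳ, _, _, ⟨e⟩⟩ := Groth.Agent.S3550.result 𝒜 s hs1 hs F hF
  let fs : List A := List.ofFn g
  have hfs : ∀ a ∈ fs, ∃ d : ℕ, 0 < d ∧ a ∈ 𝒜 d := by
    intro a ha
    obtain ⟨i, rfl⟩ := (List.mem_ofFn' g a).1 ha
    exact ⟨1, Nat.one_pos, hg1 i⟩
  have hlen : fs.length = r + 1 := List.length_ofFn
  obtain ⟨E⟩ := Groth.Agent.S4479.result 𝒜 fs hfs ℳ q (by omega)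
  have hK : Subsingleton (CohIII.koszulHLim fs (ModuleCat.of A M) (q + 1)) := by
    have hz : ∀ n : ℕ, Subsingleton (CohIII.koszulHPow fs (ModuleCat.of A M) (q + 1) n) := by
      intro n
      apply ModuleCat.subsingleton_of_isZero
      apply Groth.Agent.Helper1.Koszul.isZero_homology_of_isZero_X
      apply Groth.Agent.Helper1.Koszul.isZero_X_of_pos
      rw [hlen]
      push_cast
      omega
    constructor
    intro a b
    unfold CohIII.koszulHLim at a b
    obtain ⟨i, x, rfl⟩ := Module.DirectLimit.exists_of a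
    obtain ⟨j, y, rfl⟩ := Module.DirectLimit.exists_of b
    rw [Subsingleton.elim x 0, Subsingleton.elim y 0, map_zero, map_zero]
  have hD := E.toEquiv.subsingleton
  have h0 : Subsingleton (Coh.HHon (Proj 𝒜) (GrTilde.tilde 𝒜 ℳ 0)
      (⨆ i : Fin fs.length, Proj.basicOpen 𝒜 (fs.get i)) q) := by
    constructor
    intro a b
    have := Subsingleton.elim
      (DirectSum.of (fun n : ℤ => Coh.HHon (Proj 𝒜) (GrTilde.tilde 𝒜 ℳ n)
        (⨆ i : Fin fs.length, Proj.basicOpen 𝒜 (fs.get i)) q) 0 a)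
      (DirectSum.of (fun n : ℤ => Coh.HHon (Proj 𝒜) (GrTilde.tilde 𝒜 ℳ n)
        (⨆ i : Fin fs.length, Proj.basicOpen 𝒜 (fs.get i)) q) 0 b)
    exact DirectSum.of_injective 0 this
  have hU : (⨆ i : Fin fs.length, Proj.basicOpen 𝒜 (fs.get i)) = ⊤ := by
    apply Proj.iSup_basicOpen_eq_top
    rw [hsp]
    apply Ideal.span_mono
    rintro _ ⟨i, rfl⟩
    exact ⟨Fin.cast hlen.symm i, (List.get_ofFn g _).trans (congrArg g (Fin.ext rfl))⟩
  obtain ⟨e1⟩ := Groth.Agent.Helper1.CohTopFun.nonempty_iso_HU_restr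
    (X := (Proj 𝒜).carrier) (⨆ i : Fin fs.length, Proj.basicOpen 𝒜 (fs.get i)) q
    (Coh.toAb (GrTilde.tilde 𝒜 ℳ 0))
  have h1 : Subsingleton ((Groth.Agent.Helper1.CohTopExt.HUSeq
      (⨆ i : Fin fs.length, Proj.basicOpen 𝒜 (fs.get i)) q).obj
      (Coh.toAb (GrTilde.tilde 𝒜 ℳ 0))) :=
    @Equiv.subsingleton _ _ e1.addCommGroupIsoToAddEquiv.toEquiv h0
  rw [hU] at h1
  obtain ⟨e2⟩ := Groth.Agent.Helper1.Serre.nonempty_iso_HU_top q (Coh.toAb (GrTilde.tilde 𝒜 ℳ 0))
  have h2 : Subsingleton (Coh.HH (Proj 𝒜) (GrTilde.tilde 𝒜 ℳ 0) q) :=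
    @Equiv.subsingleton _ _ e2.addCommGroupIsoToAddEquiv.symm.toEquiv h1
  have e3 : (Groth.Agent.Helper1.Serre.HgSeq q).obj (Coh.toAb (GrTilde.tilde 𝒜 ℳ 0)) ≅
      (Groth.Agent.Helper1.Serre.HgSeq q).obj (Coh.toAb F) :=
    (Groth.Agent.Helper1.Serre.HgSeq q).mapIso
      ((SheafOfModules.toSheaf (Proj 𝒜).ringCatSheaf).mapIso e)
  exact @Equiv.subsingleton _ _ e3.addCommGroupIsoToAddEquiv.symm.toEquiv h2

end Groth.Agent.Helper1.ProjVanish
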