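import Mathlib
import Groth.Prelude.Def_GrMod2
import Groth.Agent.Helper1.ProjQc4
import Groth.Agent.Helper4.SecDict

set_option autoImplicit false
set_option linter.unusedSectionVars false

namespace Groth.Agent.Helper1.ProjQc

open CategoryTheory AlgebraicGeometry TopologicalSpace Opposite Polynomial
open Groth.Agent.Helper1.GrT Groth.Agent.Helper1.ProjO

universe u

variable {R A : Type u} [CommRing R] [CommRing A] [Algebra R A] {𝒜 : ℕ → Submodule R A}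
  [GradedAlgebra 𝒜]
variable {s : Finset A} {hs1 : ∀ f ∈ s, f ∈ 𝒜 1} {F : (Proj 𝒜).Modules}

/-- the set of sections over `D₊(f)` realized by homogeneous elements of `N` -/
def Real (N : Submodule A (KK 𝒜 s F hs1)) (f : s) (t : Γ(F, Proj.basicOpen 𝒜 f.1)) : Prop :=
  ∃ (n : ℕ) (x : KK 𝒜 s F hs1), x ∈ N ∧ x ∈ gK 𝒜 s hs1 F n ∧ eK 𝒜 s hs1 F f x = t

lemma Real.zero (N : Submodule A (KK 𝒜 s F hs1)) (f : s) : Real N f 0 :=
  ⟨0, 0, N.zero_mem, Submodule.zero_mem _, map_zero _⟩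

lemma eK_pow_smul (f : s) (k : ℕ) (x : KK 𝒜 s F hs1) :
    eK 𝒜 s hs1 F f (f.1 ^ k • x) = eK 𝒜 s hs1 F f x := by
  rw [eK_smul f k (f.1 ^ k) (pow_mem1 (hs1 f.1 f.2) k)]
  unfold cf
  rw [frO_self, one_smul]

lemma Real.add {N : Submodule A (KK 𝒜 s F hs1)} {f : s} {t t' : Γ(F, Proj.basicOpen 𝒜 f.1)}
    (h : Real N f t) (h' : Real N f t') : Real N f (t + t') := by
  obtain ⟨n, x, hxN, hxn, rfl⟩ := h
  obtain ⟨n', x', hxN', hxn', rfl⟩ := h'
  have hf := hs1 f.1 f.2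
  refine ⟨n' + n, f.1 ^ n' • x + f.1 ^ n • x', ?_, ?_, ?_⟩
  · exact N.add_mem (N.smul_mem _ hxN) (N.smul_mem _ hxN')
  · apply Submodule.add_mem
    · exact SetLike.GradedSMul.smul_mem (A := 𝒜) (B := gK 𝒜 s hs1 F) (pow_mem1 hf n') hxn
    · have := SetLike.GradedSMul.smul_mem (A := 𝒜) (B := gK 𝒜 s hs1 F) (pow_mem1 hf n) hxn'
      rwa [vadd_eq_add, add_comm] at this
  · rw [map_add, eK_pow_smul, eK_pow_smul]

lemma Real.smul {N : Submodule A (KK 𝒜 s F hs1)} {f : s} {t : Γ(F, Proj.basicOpen 𝒜 f.1)}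
    (h : Real N f t) (r : Γ(Proj 𝒜, Proj.basicOpen 𝒜 f.1)) : Real N f (r • t) := by
  obtain ⟨n, x, hxN, hxn, rfl⟩ := h
  have hf := hs1 f.1 f.2
  obtain ⟨k, a, ha, hr⟩ := exists_frac_O 𝒜 Nat.one_pos f.1 hf r
  have ha' : a ∈ 𝒜 k := by simpa using ha
  have hr2 : r = cf 𝒜 s hs1 k a ha' f := by
    apply O_ext
    intro y hy
    rw [hr y hy]
    exact (evO_frO 𝒜 (Proj.basicOpen 𝒜 f.1) a (f.1 ^ k) ha' (pow_mem1 hf k)
      ((NV.basicOpen _).pow k) y hy).symm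
  refine ⟨k + n, a • x, N.smul_mem _ hxN, ?_, ?_⟩
  · exact SetLike.GradedSMul.smul_mem (A := 𝒜) (B := gK 𝒜 s hs1 F) ha' hxn
  · rw [eK_smul f k a ha', hr2]

theorem exists_fg [F.IsQuasicoherent]
    (hFT : SheafOfModules.IsFiniteType (R := (Proj 𝒜).ringCatSheaf) F) :
    ∃ N : Submodule A (KK 𝒜 s F hs1), N ≤ Msub 𝒜 s hs1 F ∧ N.FG ∧
      (∀ x ∈ N, ∀ i, (DirectSum.decompose (gK 𝒜 s hs1 F) x i : KK 𝒜 s F hs1) ∈ N) ∧
      ∀ (f : s) (t : Γ(F, Proj.basicOpen 𝒜 f.1)), Real N f t := by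
  classical
  -- finite generation of the modules of sections
  have hfin : ∀ f : s, ∃ T : Finset Γ(F, Proj.basicOpen 𝒜 f.1),
      Submodule.span Γ(Proj 𝒜, Proj.basicOpen 𝒜 f.1) (T : Set Γ(F, Proj.basicOpen 𝒜 f.1)) = ⊤ := by
    intro f
    have := Groth.Agent.Helper4.SecDict.finite_sections
      (Proj.isAffineOpen_basicOpen 𝒜 f.1 (hs1 f.1 f.2) Nat.one_pos) F inferInstance hFT
    exact this.fg_top
  choose T hT using hfin
  -- lifts of the generators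
  have hlift : ∀ (f : s) (t : Γ(F, Proj.basicOpen 𝒜 f.1)),
      ∃ (n : ℕ) (P : KK 𝒜 s F hs1), P ∈ Msub 𝒜 s hs1 F ∧ P ∈ gK 𝒜 s hs1 F n ∧
        eK 𝒜 s hs1 F f P = t := fun f t => cond2 (hs1 := hs1) f t
  choose n P hPM hPn hPt using hlift
  let G : Set (KK 𝒜 s F hs1) := ⋃ f : s, (fun t => P f t) '' (T f : Set Γ(F, Proj.basicOpen 𝒜 f.1))
  have hGfin : G.Finite := Set.finite_iUnion (fun f => (Finset.finite_toSet (T f)).image _)
  refine ⟨Submodule.span A G, ?_, ?_, ?_, ?_⟩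
  · rw [Submodule.span_le]
    intro x hx
    obtain ⟨f, hx⟩ := Set.mem_iUnion.1 hx
    obtain ⟨t, _, rfl⟩ := hx
    exact hPM f t
  · exact Submodule.fg_span hGfin
  · apply SubGr.span_homogeneous 𝒜 (gK 𝒜 s hs1 F) G
    intro x hx
    obtain ⟨f, hx⟩ := Set.mem_iUnion.1 hx
    obtain ⟨t, _, rfl⟩ := hx
    exact ⟨n f t, hPn f t⟩
  · intro f t
    have ht : t ∈ Submodule.span Γ(Proj 𝒜, Proj.basicOpen 𝒜 f.1)
        (T f : Set Γ(F, Proj.basicOpen 𝒜 f.1)) := by rw [hT f]; trivial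
    induction ht using Submodule.span_induction with
    | mem t ht =>
      exact ⟨n f t, P f t, Submodule.subset_span (Set.mem_iUnion.2 ⟨f, ⟨t, ht, rfl⟩⟩), hPn f t,
        hPt f t⟩
    | zero => exact Real.zero _ f
    | add t t' _ _ h h' => exact h.add h'
    | smul r t _ h => exact h.smul r

end Groth.Agent.Helper1.ProjQc
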