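import Mathlib
import Groth.Agent.Helper1.SerreFin1
import Groth.Agent.Helper1.HHLes
import Groth.Agent.Helper1.ProjMid
import Groth.Agent.Helper1.TwistMul5
import Groth.Agent.Helper3.ProjNoeth
import Groth.Agent.S0844
import Groth.Agent.S0022
import Groth.Agent.S3551

/-!
# Serre's finiteness theorem on projective space over a Noetherian ring
-/

set_option autoImplicit false
set_option linter.style.haveILetI false

namespace Groth.Agent.Helper1.SerreFin

open CategoryTheory Limits AlgebraicGeometry Opposite MvPolynomial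
open Groth.Agent.Helper1.HHSum Groth.Agent.Helper1.HHLes Groth.Agent.Helper1.ProjTop

universe u

variable (n : ℕ) (R : Type u) [CommRing R]

/-- the cohomology of `O(d)` on `P^n_R` is finitely generated -/
theorem finite_HH_twist (d : ℤ) (q : ℕ) :
    Module.Finite R (Coh.HH (CohB1.ProjSpace n R) (Twist.twistProjSpace n R d) q) := by
  by_cases h0 : q = 0 ∧ 0 ≤ d
  · obtain ⟨rfl, hd⟩ := h0
    obtain ⟨dd, rfl⟩ := Int.eq_ofNat_of_zero_le hd
    obtain ⟨e⟩ := nonempty_H0 n R dd
    haveI : Module.Finite R ↥(homogeneousSubmodule (Fin (n + 1)) R dd) :=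
      Module.Finite.iff_fg.2 (homogeneousSubmodule_fg _ _ dd)
    exact Module.Finite.equiv e.symm
  · by_cases hn : q = n ∧ d ≤ -((n : ℤ) + 1)
    · obtain ⟨rfl, hd⟩ := hn
      obtain ⟨kk, hk⟩ : ∃ kk : ℕ, d = -((q : ℤ) + 1 + kk) :=
        ⟨(-((q : ℤ) + 1) - d).toNat, by omega⟩
      subst hk
      obtain ⟨e⟩ := nonempty_top q R kk
      haveI : Module.Finite R ↥(homogeneousSubmodule (Fin (q + 1)) R kk) :=
        Module.Finite.iff_fg.2 (homogeneousSubmodule_fg _ _ kk)
      exact Module.Finite.equiv e.symm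
    · haveI := Groth.Agent.S0844.result R n d q h0 hn
      infer_instance

lemma hcov_poly : (⨆ f : CohB1.polyGrading n R 1,
    Proj.basicOpen (CohB1.polyGrading n R) (f : MvPolynomial (Fin (n + 1)) R)) = ⊤ := by
  rw [eq_top_iff]
  intro x _
  have hx : x ∈ MVTop.Scup (V n R (Fin.last n)) (MVTop.initList (V n R)) := by
    rw [Scup_eq_top]
    trivial
  obtain ⟨j, hj⟩ := (MVTop.mem_Scup_family (V n R) x).1 hx
  exact TopologicalSpace.Opens.mem_iSup.2 ⟨⟨X j, X_mem n R j⟩, hj⟩

theorem isCoh_twist (d : ℤ) : Coh.IsCoh (Twist.twistProjSpace n R d) :=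
  isCoh_of_isInvertible _
    (Groth.Agent.Helper1.TwistMul.isInvertible_twist (CohB1.polyGrading n R) (hcov_poly n R) d)

end Groth.Agent.Helper1.SerreFin
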