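import Mathlib
import Groth.Agent.Helper1.SerreFin2
import Groth.Agent.Helper1.HHLes2

/-!
# Serre's finiteness theorem on projective space over a Noetherian ring: the induction
-/

set_option autoImplicit false
set_option linter.style.haveILetI false

namespace Groth.Agent.Helper1.SerreFin

open CategoryTheory Limits AlgebraicGeometry Opposite MvPolynomial
open Groth.Agent.Helper1.HHSum Groth.Agent.Helper1.HHLes Groth.Agent.Helper1.ProjTop

universe u

variable (n : ℕ) (R : Type u) [CommRing R]

set_option maxHeartbeats 1600000 in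
set_option synthInstance.maxHeartbeats 400000 in
theorem finite_HH_aux [IsNoetherianRing R] : ∀ (m i : ℕ), n + 1 ≤ i + m →
    ∀ F : (CohB1.ProjSpace n R).Modules, Coh.IsCoh F →
      Module.Finite R (Coh.HH (CohB1.ProjSpace n R) F i) := by
  intro m
  induction m with
  | zero =>
    intro i hi F hF
    haveI : Coh.IsQCoh F := hF.1
    haveI := Groth.Agent.S0022.result n R F i (by omega)
    infer_instance
  | succ m ih =>
    intro i hi F hF
    classical
    let s : Finset (MvPolynomial (Fin (n + 1)) R) :=
      Finset.univ.image (fun j : Fin (n + 1) => (X j : MvPolynomial (Fin (n + 1)) R))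
    have hs1 : ∀ f ∈ s, f ∈ CohB1.polyGrading n R 1 := by
      intro f hf
      obtain ⟨j, -, rfl⟩ := Finset.mem_image.1 hf
      exact X_mem n R j
    have hs : (HomogeneousIdeal.irrelevant (CohB1.polyGrading n R)).toIdeal =
        Ideal.span (s : Set (MvPolynomial (Fin (n + 1)) R)) := by
      have := Groth.Agent.Helper1.ProjVanish.irrelevant_eq_span_of_adjoin (CohB1.polyGrading n R)
        (fun j : Fin (n + 1) => (X j : MvPolynomial (Fin (n + 1)) R)) (X_mem n R)
        (MvPolynomial.adjoin_range_X)
      rw [this]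
      congr 1
      ext f
      simp [s]
    obtain ⟨N, _, _, _, _, 𝒩, _, _, hNfin, ⟨e⟩⟩ :=
      Groth.Agent.S3551.result (CohB1.polyGrading n R) s hs1 hs F hF.1 hF.2
    obtain ⟨n₀, hn₀⟩ := Groth.Agent.Helper1.TwistEpi.exists_epi_twists_to_tilde
      (CohB1.polyGrading n R) s hs1 hs 𝒩
    obtain ⟨k, p, hp⟩ := hn₀ n₀ le_rfl
    let E : (CohB1.ProjSpace n R).Modules :=
      ∐ fun _ : Fin k => Twist.twistProjSpace n R (-(n₀ : ℤ))
    let g : E ⟶ F := p ≫ e.hom
    haveI : Epi p := hp
    haveI : Epi g := epi_comp p e.hom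
    have hEcoh : Coh.IsCoh E := isCoh_sigma_fin _ (fun _ => isCoh_twist n R _)
    haveI : IsNoetherianRing (MvPolynomial (Fin (n + 1)) R) := inferInstance
    haveI : IsNoetherian (CohB1.ProjSpace n R) :=
      Groth.Agent.Helper3.ProjNoeth.main (CohB1.polyGrading n R)
    have hK : Coh.IsCoh (kernel g) := Groth.Agent.Lead.PerfLib.isCoh_kernel hEcoh hF g
    have hE : Module.Finite R (Coh.HH (CohB1.ProjSpace n R) E i) :=
      finite_HH_sigma R _ i (fun _ => finite_HH_twist n R _ i)
    have hK1 : Module.Finite R (Coh.HH (CohB1.ProjSpace n R) (kernel g) (i + 1)) :=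
      ih (i + 1) (by omega) _ hK
    exact finite_of_epi R g i hE hK1

/-- **Serre's finiteness theorem** on `P^n_R`, `R` Noetherian -/
theorem finite_HH [IsNoetherianRing R] (F : (CohB1.ProjSpace n R).Modules) (hF : Coh.IsCoh F)
    (i : ℕ) : Module.Finite R (Coh.HH (CohB1.ProjSpace n R) F i) :=
  finite_HH_aux n R (n + 1) i (by omega) F hF

end Groth.Agent.Helper1.SerreFin
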