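import Mathlib
import Groth.Agent.Helper1.SerreFin3
import Groth.Agent.Helper1.TwistExact
import Groth.Agent.Lead.QcohTensor
import Groth.Agent.S0844

/-!
# Serre vanishing on projective space over a Noetherian ring (tensor form)

For a coherent module `F` on `P^n_R`, `R` Noetherian, and `i ≥ 1`, the cohomology
`H^i(P^n_R, F ⊗ O(d))` vanishes for all sufficiently large `d`.
-/

set_option autoImplicit false
set_option linter.style.haveILetI false

namespace Groth.Agent.Helper1.SerreVan

open CategoryTheory Limits AlgebraicGeometry Opposite MvPolynomial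
open Groth.Agent.Helper1.HHSum Groth.Agent.Helper1.HHLes Groth.Agent.Helper1.ProjTop
open Groth.Agent.Helper1.SerreFin Groth.Agent.Helper1.TwistExact

universe u

/-- the cohomology of a finite coproduct vanishes if that of the summands does -/
theorem subsingleton_HH_sigma {X : Scheme.{u}} {k : ℕ} (M : Fin k → X.Modules) (n : ℕ)
    (h : ∀ j, Subsingleton (Coh.HH X (M j) n)) : Subsingleton (Coh.HH X (∐ M) n) := by
  have key : ∀ x : Coh.HH X (∐ M) n, x = 0 := by
    intro x
    have h1 : ((Hn X n).map (∑ j, proj M j ≫ Sigma.ι M j)).hom x =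
        ((Hn X n).map (𝟙 (∐ M))).hom x :=
      congrArg (fun f => ((Hn X n).map f).hom x) (sum_proj_ι M)
    rw [CategoryTheory.Functor.map_sum, hom_sum_apply, CategoryTheory.Functor.map_id] at h1
    refine Eq.trans ?_ (Eq.trans h1.symm ?_)
    · rfl
    · refine Finset.sum_eq_zero (fun j _ => ?_)
      rw [CategoryTheory.Functor.map_comp]
      have h3 : ((Hn X n).map (proj M j)).hom x = 0 := (h j).elim _ _
      show ((Hn X n).map (Sigma.ι M j)).hom (((Hn X n).map (proj M j)).hom x) = 0
      rw [h3, map_zero]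
  exact ⟨fun x y => (key x).trans (key y).symm⟩

variable (n : ℕ) (R : Type u) [CommRing R]

/-- the higher cohomology of `O(d)`, `d > -(n+1)`, vanishes -/
theorem subsingleton_HH_twist (d : ℤ) (i : ℕ) (hi : 1 ≤ i) (hd : -((n : ℤ) + 1) < d) :
    Subsingleton (Coh.HH (CohB1.ProjSpace n R) (Twist.twistProjSpace n R d) i) :=
  Groth.Agent.S0844.result R n d i (fun h => by omega) (fun h => by omega)

theorem isInvertible_twist (d : ℤ) : PicF.IsInvertible (Twist.twistProjSpace n R d) :=
  Groth.Agent.Helper1.TwistMul.isInvertible_twist (CohB1.polyGrading n R) (hcov_poly n R) d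

set_option maxHeartbeats 1600000 in
set_option synthInstance.maxHeartbeats 400000 in
theorem vanishing_aux [IsNoetherianRing R] : ∀ (m i : ℕ), 1 ≤ i → n + 1 ≤ i + m →
    ∀ F : (CohB1.ProjSpace n R).Modules, Coh.IsCoh F → ∃ d₀ : ℤ, ∀ d : ℤ, d₀ ≤ d →
      Subsingleton (Coh.HH (CohB1.ProjSpace n R)
        (CohB1.tensorMod F (Twist.twistProjSpace n R d)) i) := by
  intro m
  induction m with
  | zero =>
    intro i _ hi F hF
    refine ⟨0, fun d _ => ?_⟩
    haveI : F.IsQuasicoherent := hF.1
    haveI : (Twist.twistProjSpace n R d).IsQuasicoherent := (isCoh_twist n R d).1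
    haveI : Coh.IsQCoh (CohB1.tensorMod F (Twist.twistProjSpace n R d)) :=
      Groth.Agent.Lead.QcohTensor.isQuasicoherent_tensorMod F (Twist.twistProjSpace n R d)
    exact Groth.Agent.S0022.result n R _ i (by omega)
  | succ m ih =>
    intro i hi1 hi F hF
    classical
    let s : Finset (MvPolynomial (Fin (n + 1)) R) :=
      Finset.univ.image (fun j : Fin (n + 1) => (X j : MvPolynomial (Fin (n + 1)) R))
    have hs1 : ∀ f ∈ s, f ∈ CohB1.polyGrading n R 1 := by
      intro f hf
      obtain ⟨j, -, rfl⟩ := Finset.mem_image.1 hf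
      exact X_mem n R j
    have hs : (HomogeneousIdeal.irrelevant (CohB1.polyGrading n R)).toIdeal =
        Ideal.span (s : Set (MvPolynomial (Fin (n + 1)) R)) := by
      have := Groth.Agent.Helper1.ProjVanish.irrelevant_eq_span_of_adjoin (CohB1.polyGrading n R)
        (fun j : Fin (n + 1) => (X j : MvPolynomial (Fin (n + 1)) R)) (X_mem n R)
        (MvPolynomial.adjoin_range_X)
      rw [this]
      congr 1
      ext f
      simp [s]
    obtain ⟨N, _, _, _, _, 𝒩, _, _, hNfin, ⟨e⟩⟩ :=
      Groth.Agent.S3551.result (CohB1.polyGrading n R) s hs1 hs F hF.1 hF.2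
    obtain ⟨n₀, hn₀⟩ := Groth.Agent.Helper1.TwistEpi.exists_epi_twists_to_tilde
      (CohB1.polyGrading n R) s hs1 hs 𝒩
    obtain ⟨k, p, hp⟩ := hn₀ n₀ le_rfl
    let E : (CohB1.ProjSpace n R).Modules :=
      ∐ fun _ : Fin k => Twist.twistProjSpace n R (-(n₀ : ℤ))
    let g : E ⟶ F := p ≫ e.hom
    haveI : Epi p := hp
    haveI : Epi g := epi_comp p e.hom
    have hEcoh : Coh.IsCoh E := isCoh_sigma_fin _ (fun _ => isCoh_twist n R _)
    haveI : IsNoetherianRing (MvPolynomial (Fin (n + 1)) R) := inferInstance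
    haveI : IsNoetherian (CohB1.ProjSpace n R) :=
      Groth.Agent.Helper3.ProjNoeth.main (CohB1.polyGrading n R)
    have hK : Coh.IsCoh (kernel g) := Groth.Agent.Lead.PerfLib.isCoh_kernel hEcoh hF g
    obtain ⟨d₁, hd₁⟩ := ih (i + 1) (by omega) (by omega) _ hK
    refine ⟨max d₁ ((n₀ : ℤ) - n), fun d hd => ?_⟩
    have hB := isInvertible_twist n R d
    haveI : Epi (KoszTw.tensorMap g (𝟙 (Twist.twistProjSpace n R d))) :=
      epi_tensorMap g _ hB
    -- the kernel
    obtain ⟨eK⟩ := nonempty_kernel_tensorMap_iso g _ hB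
    haveI hK1 : Subsingleton (Coh.HH (CohB1.ProjSpace n R)
        (kernel (KoszTw.tensorMap g (𝟙 (Twist.twistProjSpace n R d)))) (i + 1)) := by
      haveI := hd₁ d (le_trans (le_max_left _ _) hd)
      exact (HHlinEquiv R (X := CohB1.ProjSpace n R) eK (i + 1)).toEquiv.subsingleton
    -- the middle term
    obtain ⟨eE⟩ := nonempty_sigma_tensor_iso (fun _ : Fin k => Twist.twistProjSpace n R (-(n₀ : ℤ)))
      (Twist.twistProjSpace n R d)
    haveI hE1 : Subsingleton (Coh.HH (CohB1.ProjSpace n R)
        (CohB1.tensorMod E (Twist.twistProjSpace n R d)) i) := by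
      haveI : Subsingleton (Coh.HH (CohB1.ProjSpace n R)
          (∐ fun _ : Fin k => CohB1.tensorMod (Twist.twistProjSpace n R (-(n₀ : ℤ)))
            (Twist.twistProjSpace n R d)) i) := by
        apply subsingleton_HH_sigma
        intro _
        obtain ⟨e2⟩ : Nonempty (CohB1.tensorMod (Twist.twistProjSpace n R (-(n₀ : ℤ)))
            (Twist.twistProjSpace n R d) ≅ Twist.twistProjSpace n R (-(n₀ : ℤ) + d)) :=
          Groth.Agent.Helper1.TwistMul.nonempty_twist_tensor_twist_iso
            (CohB1.polyGrading n R) (hcov_poly n R) (-(n₀ : ℤ)) d (-(n₀ : ℤ) + d) rfl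
        haveI := subsingleton_HH_twist n R (-(n₀ : ℤ) + d) i hi1
          (by have := le_trans (le_max_right _ _) hd; omega)
        exact (HHlinEquiv R (X := CohB1.ProjSpace n R) e2 i).toEquiv.subsingleton
      exact (HHlinEquiv R (X := CohB1.ProjSpace n R) eE i).toEquiv.subsingleton
    -- the long exact sequence
    have hex := exact_δker R (KoszTw.tensorMap g (𝟙 (Twist.twistProjSpace n R d))) i
    refine ⟨fun x y => ?_⟩
    have h0 : ∀ x : Coh.HH (CohB1.ProjSpace n R)
        (CohB1.tensorMod F (Twist.twistProjSpace n R d)) i, x = 0 := by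
      intro x
      obtain ⟨y, rfl⟩ := (hex x).1 (Subsingleton.elim _ _)
      rw [Subsingleton.elim y 0, map_zero]
    rw [h0 x, h0 y]

/-- **Serre vanishing** on `P^n_R`, `R` Noetherian, uniformly in the cohomological degree -/
theorem vanishing [IsNoetherianRing R] (F : (CohB1.ProjSpace n R).Modules) (hF : Coh.IsCoh F) :
    ∃ d₀ : ℤ, ∀ d : ℤ, d₀ ≤ d → ∀ i : ℕ, 1 ≤ i →
      Subsingleton (Coh.HH (CohB1.ProjSpace n R)
        (CohB1.tensorMod F (Twist.twistProjSpace n R d)) i) := by
  have h1 : ∀ i : ℕ, 1 ≤ i → ∃ d₀ : ℤ, ∀ d : ℤ, d₀ ≤ d →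
      Subsingleton (Coh.HH (CohB1.ProjSpace n R)
        (CohB1.tensorMod F (Twist.twistProjSpace n R d)) i) :=
    fun i hi => vanishing_aux n R (n + 1) i hi (by omega) F hF
  choose! D hD using h1
  refine ⟨(Finset.range (n + 1)).sup' ⟨0, Finset.mem_range.2 (by omega)⟩ D, fun d hd i hi => ?_⟩
  by_cases hin : i ≤ n
  · exact hD i hi d (le_trans (Finset.le_sup' D (Finset.mem_range.2 (by omega))) hd)
  · haveI : F.IsQuasicoherent := hF.1
    haveI : (Twist.twistProjSpace n R d).IsQuasicoherent := (isCoh_twist n R d).1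
    haveI : Coh.IsQCoh (CohB1.tensorMod F (Twist.twistProjSpace n R d)) :=
      Groth.Agent.Lead.QcohTensor.isQuasicoherent_tensorMod F (Twist.twistProjSpace n R d)
    exact Groth.Agent.S0022.result n R _ i (by omega)

end Groth.Agent.Helper1.SerreVan
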