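import Mathlib
import Groth.Agent.Helper1.KzSheaf2
import Groth.Agent.Helper1.KzChase
import Groth.Agent.Helper1.SerreVan

set_option autoImplicit false
set_option linter.unusedSectionVars false
set_option linter.style.haveILetI false

/-!
# Cohomology vanishing from the Koszul resolution on `Proj`
-/

namespace Groth.Agent.Helper1.KzMain

open CategoryTheory Limits AlgebraicGeometry TopologicalSpace Opposite
open Groth.Agent.Helper1.GrT Groth.Agent.Helper1.TildeMap Groth.Agent.Helper1.TildeFun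
  Groth.Agent.Helper1.TildeExact Groth.Agent.Helper1.KzAlg Groth.Agent.Helper1.KzSheaf
  Groth.Agent.Helper1.KzChase Groth.Agent.Helper1.HHSum Groth.Agent.Helper1.ProjTop

universe u

/-- the cohomology of a retract of an object with vanishing cohomology vanishes -/
theorem subsingleton_HH_of_retract {X : Scheme.{u}} {F G : X.Modules} (i : F ⟶ G) (p : G ⟶ F)
    (hip : i ≫ p = 𝟙 F) (n : ℕ) (hG : Subsingleton (Coh.HH X G n)) :
    Subsingleton (Coh.HH X F n) := by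
  refine ⟨fun x y => ?_⟩
  have h1 : ∀ z : Coh.HH X F n, z = 0 := by
    intro z
    have h2 : ((Hn X n).map (i ≫ p)).hom z = z := by
      rw [hip, CategoryTheory.Functor.map_id]
      rfl
    rw [CategoryTheory.Functor.map_comp] at h2
    have h3 : ((Hn X n).map i).hom z = 0 := hG.elim _ _
    rw [← h2]
    show ((Hn X n).map p).hom (((Hn X n).map i).hom z) = 0
    rw [h3, map_zero]
  rw [h1 x, h1 y]

variable {R A : Type u} [CommRing R] [CommRing A] [Algebra R A] (𝒜 : ℕ → Submodule R A)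
  [GradedAlgebra 𝒜]
variable {N : Type u} [AddCommGroup N] [Module R N] [Module A N] [IsScalarTower R A N]
  (𝒩 : ℕ → Submodule R N) [SetLike.GradedSMul 𝒜 𝒩]
variable (x : ℕ → A) (hx : ∀ j, x j ∈ 𝒜 1) (r : ℕ)
  (hcov : ∀ y : ProjectiveSpectrum 𝒜, ∃ j, j < r ∧ x j ∉ y.asHomogeneousIdeal)
variable (B : Type u) [CommRing B] [(Proj 𝒜).Over (Spec (CommRingCat.of B))]

/-- the terms of the resolution of `M(s)~` -/
noncomputable abbrev Cs (s : ℤ) (p : ℕ) : (Proj 𝒜).Modules := C 𝒜 𝒩 r (p : ℤ) (s - p)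

/-- the differentials of the resolution of `M(s)~` -/
noncomputable abbrev ds (s : ℤ) (p : ℕ) : Cs 𝒜 𝒩 r s (p + 1) ⟶ Cs 𝒜 𝒩 r s p :=
  dC 𝒜 𝒩 x hx r ((p + 1 : ℕ) : ℤ) (p : ℤ) (by push_cast; ring) (s - (p + 1 : ℕ)) (s - p)
    (by push_cast; ring)

lemma ds_comp (s : ℤ) (p : ℕ) : ds 𝒜 𝒩 x hx r s (p + 1) ≫ ds 𝒜 𝒩 x hx r s p = 0 :=
  dC_comp 𝒜 𝒩 x hx r _ _ _ _ _ _ _ _ _ _

include hcov in
lemma ds_exact (s : ℤ) (p : ℕ) :
    (ShortComplex.mk (ds 𝒜 𝒩 x hx r s (p + 1)) (ds 𝒜 𝒩 x hx r s p)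
      (ds_comp 𝒜 𝒩 x hx r s p)).Exact :=
  exact_dC 𝒜 𝒩 x hx r hcov _ _ _ _ _ _ _ _ _ _

include hcov in
lemma ds_epi (s : ℤ) : Epi (ds 𝒜 𝒩 x hx r s 0) := by
  have h := exact_dC 𝒜 𝒩 x hx r hcov ((0 + 1 : ℕ) : ℤ) ((0 : ℕ) : ℤ) (-1) (by norm_num)
    (by norm_num) (s - (0 + 1 : ℕ)) (s - (0 : ℕ)) (s - (0 : ℕ) + (1 : ℕ))
    (by push_cast; ring) rfl
  refine (ShortComplex.exact_iff_epi _ ?_).1 h
  exact (isZero_C 𝒜 𝒩 r (-1) _ (Or.inl (by omega))).eq_of_tgt _ _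

lemma Cs_isZero (s : ℤ) (p : ℕ) (hp : r < p) : IsZero (Cs 𝒜 𝒩 r s p) :=
  isZero_C 𝒜 𝒩 r _ _ (Or.inr (by exact_mod_cast hp))

include B in
lemma subsingleton_HH_Cs (s : ℤ) (p q : ℕ)
    (h : Subsingleton (Coh.HH (Proj 𝒜) (GrTilde.tilde 𝒜 𝒩 (s - p)) q)) :
    Subsingleton (Coh.HH (Proj 𝒜) (Cs 𝒜 𝒩 r s p) q) := by
  obtain ⟨e⟩ := nonempty_C_iso_sigma 𝒜 𝒩 r p (s - p)
  haveI : Subsingleton (Coh.HH (Proj 𝒜)
      (∐ fun _ : Fin (Nat.choose r p) => GrTilde.tilde 𝒜 𝒩 (s - p)) q) :=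
    Groth.Agent.Helper1.SerreVan.subsingleton_HH_sigma _ q (fun _ => h)
  exact (HHlinEquiv B e q).toEquiv.subsingleton

include hx hcov B in
/-- **vanishing of cohomology from the Koszul resolution** -/
theorem subsingleton_HH_tilde (s : ℤ) (i : ℕ)
    (hvan : ∀ p : ℕ, p < r →
      Subsingleton (Coh.HH (Proj 𝒜) (GrTilde.tilde 𝒜 𝒩 (s - ((p + 1 : ℕ) : ℤ))) (i + p))) :
    Subsingleton (Coh.HH (Proj 𝒜) (GrTilde.tilde 𝒜 𝒩 s) i) := by
  haveI := ds_epi 𝒜 𝒩 x hx r hcov s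
  have h0 : Subsingleton (Coh.HH (Proj 𝒜) (Cs 𝒜 𝒩 r s 0) i) := by
    apply subsingleton_HH_of_resolution B (Cs 𝒜 𝒩 r s) (ds 𝒜 𝒩 x hx r s)
      (ds_comp 𝒜 𝒩 x hx r s) (ds_exact 𝒜 𝒩 x hx r hcov s) r (Cs_isZero 𝒜 𝒩 r s) i
    intro p
    by_cases hp : p < r
    · exact subsingleton_HH_Cs 𝒜 𝒩 r B s (p + 1) (i + p) (hvan p hp)
    · exact subsingleton_HH_of_isZero (Cs_isZero 𝒜 𝒩 r s (p + 1) (by omega)) _
  -- `M(s)~` is a retract of the zeroth term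
  have hI : (∅ : Finset ℕ) ∈ idx r 0 := by
    rw [mem_idx]
    exact ⟨Finset.empty_subset _, by simp⟩
  have h1 := inclC_projC 𝒜 𝒩 r 0 (s - (0 : ℕ)) ⟨∅, hI⟩ ⟨∅, hI⟩
  rw [if_pos rfl] at h1
  have h2 := subsingleton_HH_of_retract _ _ h1 i h0
  have e : s - ((0 : ℕ) : ℤ) = s := by simp
  rw [e] at h2
  exact h2

end Groth.Agent.Helper1.KzMain
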