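import Mathlib
import Groth.Agent.Helper1.KzMain

set_option autoImplicit false
set_option linter.unusedSectionVars false
set_option linter.style.haveILetI false

/-!
# Global sections of `M(s)~` are combinations `∑ x_j u_j` of sections of `M(s-1)~`
(under the vanishing of the relevant cohomology groups)
-/

namespace Groth.Agent.Helper1.KzMult

open CategoryTheory Limits AlgebraicGeometry TopologicalSpace Opposite
open Groth.Agent.Helper1.GrT Groth.Agent.Helper1.TildeMap Groth.Agent.Helper1.TildeFun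
  Groth.Agent.Helper1.TildeExact Groth.Agent.Helper1.KzAlg Groth.Agent.Helper1.KzSheaf
  Groth.Agent.Helper1.KzChase Groth.Agent.Helper1.KzMain Groth.Agent.Helper1.HHSum

universe u

/-- surjectivity on `H⁰` gives surjectivity on global sections -/
theorem surjective_app_top (B : Type u) [CommRing B] {X : Scheme.{u}}
    [X.Over (Spec (CommRingCat.of B))] {F G : X.Modules} (φ : F ⟶ G)
    (h : Function.Surjective (Canon.HHlin B φ 0)) : Function.Surjective (φ.app ⊤) := by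
  intro t
  let F' := (SheafOfModules.toSheaf X.ringCatSheaf).obj F
  let G' := (SheafOfModules.toSheaf X.ringCatSheaf).obj G
  let φ' : F' ⟶ G' := (SheafOfModules.toSheaf X.ringCatSheaf).map φ
  obtain ⟨x, hx⟩ := h ((Sheaf.H.equiv₀ G' isTerminalTop).symm t)
  refine ⟨Sheaf.H.equiv₀ F' isTerminalTop x, ?_⟩
  have h1 := Sheaf.H.equiv₀_naturality (F := F') (G := G') isTerminalTop φ' x
  have h2 : Sheaf.H.map φ' 0 x = (Sheaf.H.equiv₀ G' isTerminalTop).symm t := hx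
  rw [h2, AddEquiv.apply_symm_apply] at h1
  exact h1

variable {R A : Type u} [CommRing R] [CommRing A] [Algebra R A] (𝒜 : ℕ → Submodule R A)
  [GradedAlgebra 𝒜]
variable {N : Type u} [AddCommGroup N] [Module R N] [Module A N] [IsScalarTower R A N]
  (𝒩 : ℕ → Submodule R N) [SetLike.GradedSMul 𝒜 𝒩]
variable (x : ℕ → A) (hx : ∀ j, x j ∈ 𝒜 1) (r : ℕ)
  (hcov : ∀ y : ProjectiveSpectrum 𝒜, ∃ j, j < r ∧ x j ∉ y.asHomogeneousIdeal)
variable (B : Type u) [CommRing B] [(Proj 𝒜).Over (Spec (CommRingCat.of B))]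

lemma val_cast {a b : ℤ} (h : a = b) (U : (Proj 𝒜).Opens) (t : Γ(GrTilde.tilde 𝒜 𝒩 a, U))
    (y : ProjectiveSpectrum.top 𝒜) (hy : y ∈ U) :
    val (𝒜 := 𝒜) (ℳ := 𝒩) (n := b) (U := U) (h ▸ t) y hy =
      val (𝒜 := 𝒜) (ℳ := 𝒩) (n := a) (U := U) t y hy := by
  subst h
  rfl

lemma singleton_mem_idx (j : ℕ) (hj : j < r) : ({j} : Finset ℕ) ∈ idx r 1 := by
  rw [mem_idx]
  refine ⟨?_, by simp⟩
  intro a ha
  rw [Finset.mem_singleton] at ha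
  rw [ha]
  exact Finset.mem_range.2 hj

lemma empty_mem_idx : (∅ : Finset ℕ) ∈ idx r 0 := by
  rw [mem_idx]
  exact ⟨Finset.empty_subset _, by simp⟩

/-- the component at `∅` of the differential `K₁ → K₀` -/
lemma proj_empty_dR (v : Kp A N r ((0 + 1 : ℕ) : ℤ)) :
    proj (A := A) r ((0 : ℕ) : ℤ) ∅ (dR x r ((0 + 1 : ℕ) : ℤ) ((0 : ℕ) : ℤ) (by norm_num) v) =
      ∑ j ∈ Finset.range r, x j • proj (A := A) r ((0 + 1 : ℕ) : ℤ) {j} v := by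
  show (d x r v.1) ∅ = ∑ j ∈ Finset.range r, x j • v.1 {j}
  rw [d_apply, Finset.sum_apply]
  apply Finset.sum_congr rfl
  intro j _
  rw [Pi.smul_apply, ι_apply, if_neg (Finset.notMem_empty j)]
  have h1 : sgn j ∅ = 1 := by
    unfold sgn
    simp
  rw [h1, one_smul]
  rfl

include hx hcov B in
/-- **every global section of `M(s)~` is `∑ x_j u_j`** -/
theorem exists_sum_smul (s s1 : ℤ) (hs1 : s = s1 + (1 : ℕ))
    (hvan : ∀ p : ℕ, p + 1 < r → Subsingleton (Coh.HH (Proj 𝒜)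
      (GrTilde.tilde 𝒜 𝒩 (s - ((p + 2 : ℕ) : ℤ))) (p + 1)))
    (t : Γ(GrTilde.tilde 𝒜 𝒩 s, ⊤)) :
    ∃ u : ℕ → Γ(GrTilde.tilde 𝒜 𝒩 s1, ⊤), ∀ (y : ProjectiveSpectrum.top 𝒜)
      (hy : y ∈ (⊤ : (Proj 𝒜).Opens)),
      val (𝒜 := 𝒜) (ℳ := 𝒩) (n := s) (U := ⊤) t y hy =
        ∑ j ∈ Finset.range r, x j • val (𝒜 := 𝒜) (ℳ := 𝒩) (n := s1) (U := ⊤) (u j) y hy := by
  have e0 : s - ((0 : ℕ) : ℤ) = s := by simp
  have e1 : s - ((0 + 1 : ℕ) : ℤ) = s1 := by rw [hs1]; push_cast; ring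
  haveI := ds_epi 𝒜 𝒩 x hx r hcov s
  -- surjectivity of the differential on global sections
  have hsurj : Function.Surjective ((ds 𝒜 𝒩 x hx r s 0).app ⊤) := by
    apply surjective_app_top B
    apply surjective_HHlin_of_resolution B (Cs 𝒜 𝒩 r s) (ds 𝒜 𝒩 x hx r s)
      (ds_comp 𝒜 𝒩 x hx r s) (ds_exact 𝒜 𝒩 x hx r hcov s) r (Cs_isZero 𝒜 𝒩 r s)
    intro p
    by_cases hp : p + 1 < r
    · exact subsingleton_HH_Cs 𝒜 𝒩 r B s (p + 2) (p + 1) (hvan p hp)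
    · exact subsingleton_HH_of_isZero (Cs_isZero 𝒜 𝒩 r s (p + 2) (by omega)) _
  -- the section of the zeroth term
  let t0 : Γ(GrTilde.tilde 𝒜 𝒩 (s - ((0 : ℕ) : ℤ)), ⊤) := e0.symm ▸ t
  obtain ⟨w, hw⟩ := hsurj ((inclC 𝒜 𝒩 r 0 (s - ((0 : ℕ) : ℤ)) ⟨∅, empty_mem_idx r⟩).app ⊤ t0)
  refine ⟨fun j => if hj : j < r then
    e1 ▸ ((projC 𝒜 𝒩 r (0 + 1) (s - ((0 + 1 : ℕ) : ℤ)) ⟨{j}, singleton_mem_idx r j hj⟩).app ⊤ w)
    else 0, ?_⟩
  intro y hy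
  -- values
  have hv1 : val (𝒜 := 𝒜) (ℳ := 𝒩) (n := s) (U := ⊤) t y hy =
      val (𝒜 := 𝒜) (ℳ := 𝒩) (n := s - ((0 : ℕ) : ℤ)) (U := ⊤) t0 y hy :=
    (val_cast 𝒜 𝒩 e0.symm ⊤ t y hy).symm
  have hv2 : val (𝒜 := 𝒜) (ℳ := 𝒩) (n := s - ((0 : ℕ) : ℤ)) (U := ⊤) t0 y hy =
      locMap 𝒜 (proj (A := A) r ((0 : ℕ) : ℤ) ∅) y
        (locMap 𝒜 (incl (A := A) (N := N) r ((0 : ℕ) : ℤ) ∅ (mem_idx.1 (empty_mem_idx r))) y
          (val (𝒜 := 𝒜) (ℳ := 𝒩) (n := s - ((0 : ℕ) : ℤ)) (U := ⊤) t0 y hy)) := by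
    rw [← locMap_comp]
    have hid : (proj (A := A) r ((0 : ℕ) : ℤ) ∅ ∘ₗ
        incl (A := A) (N := N) r ((0 : ℕ) : ℤ) ∅ (mem_idx.1 (empty_mem_idx r))) =
        LinearMap.id := by
      ext n
      show proj (A := A) r ((0 : ℕ) : ℤ) ∅
        (incl r ((0 : ℕ) : ℤ) ∅ (mem_idx.1 (empty_mem_idx r)) n) = n
      rw [proj_incl, if_pos rfl]
    rw [hid, locMap_id]
  have hv3 : locMap 𝒜 (incl (A := A) (N := N) r ((0 : ℕ) : ℤ) ∅ (mem_idx.1 (empty_mem_idx r))) y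
      (val (𝒜 := 𝒜) (ℳ := 𝒩) (n := s - ((0 : ℕ) : ℤ)) (U := ⊤) t0 y hy) =
      locMap 𝒜 (dR x r ((0 + 1 : ℕ) : ℤ) ((0 : ℕ) : ℤ) (by norm_num)) y
        (val (𝒜 := 𝒜) (ℳ := gr (A := A) 𝒩 r ((0 + 1 : ℕ) : ℤ)) (n := s - ((0 + 1 : ℕ) : ℤ))
          (U := ⊤) w y hy) := by
    have := congrArg (fun q => val (𝒜 := 𝒜) (ℳ := gr (A := A) 𝒩 r ((0 : ℕ) : ℤ))
      (n := s - ((0 : ℕ) : ℤ)) (U := ⊤) q y hy) hw
    exact this.symm
  rw [hv1, hv2, hv3, ← locMap_comp]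
  have hcomp : (proj (A := A) r ((0 : ℕ) : ℤ) ∅ ∘ₗ
      dR x r ((0 + 1 : ℕ) : ℤ) ((0 : ℕ) : ℤ) (by norm_num)) =
      ∑ j ∈ Finset.range r, x j • proj (A := A) (N := N) r ((0 + 1 : ℕ) : ℤ) {j} := by
    ext v
    rw [LinearMap.comp_apply, proj_empty_dR, LinearMap.sum_apply]
    rfl
  rw [hcomp]
  have hsum : ∀ (T : Finset ℕ) (q : GrTilde.LocMod 𝒜 (M := Kp A N r ((0 + 1 : ℕ) : ℤ)) y),
      locMap 𝒜 (∑ j ∈ T, x j • proj (A := A) (N := N) r ((0 + 1 : ℕ) : ℤ) {j}) y q =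
        ∑ j ∈ T, x j • locMap 𝒜 (proj (A := A) (N := N) r ((0 + 1 : ℕ) : ℤ) {j}) y q := by
    intro T q
    classical
    induction T using Finset.induction_on with
    | empty =>
      rw [Finset.sum_empty, Finset.sum_empty]
      exact locMap_zero 𝒜 y q
    | insert a T ha ih =>
      rw [Finset.sum_insert ha, Finset.sum_insert ha, locMap_add, ih, locMap_smul]
  rw [hsum]
  apply Finset.sum_congr rfl
  intro j hj
  have hjr : j < r := Finset.mem_range.1 hj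
  congr 1
  show _ = val (𝒜 := 𝒜) (ℳ := 𝒩) (n := s1) (U := ⊤) (if hj : j < r then
    e1 ▸ ((projC 𝒜 𝒩 r (0 + 1) (s - ((0 + 1 : ℕ) : ℤ)) ⟨{j}, singleton_mem_idx r j hj⟩).app ⊤ w)
    else 0) y hy
  rw [dif_pos hjr, val_cast 𝒜 𝒩 e1]
  rfl

end Groth.Agent.Helper1.KzMult
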