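import Mathlib
import Groth.Agent.Helper1.KzMult

set_option autoImplicit false
set_option linter.unusedSectionVars false
set_option linter.style.haveILetI false

/-!
# Global sections of `M(d+e)~` are generated by products `a · v`, `a ∈ A_e`, `v ∈ Γ(M(d)~)`
(under the vanishing of the relevant cohomology groups)
-/

namespace Groth.Agent.Helper1.KzMult

open CategoryTheory Limits AlgebraicGeometry TopologicalSpace Opposite
open Groth.Agent.Helper1.GrT Groth.Agent.Helper1.TildeMap Groth.Agent.Helper1.TildeFun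
  Groth.Agent.Helper1.TildeExact Groth.Agent.Helper1.KzAlg Groth.Agent.Helper1.KzSheaf
  Groth.Agent.Helper1.KzChase Groth.Agent.Helper1.KzMain Groth.Agent.Helper1.HHSum

universe u

variable {R A : Type u} [CommRing R] [CommRing A] [Algebra R A] (𝒜 : ℕ → Submodule R A)
  [GradedAlgebra 𝒜]
variable {N : Type u} [AddCommGroup N] [Module R N] [Module A N] [IsScalarTower R A N]
  (𝒩 : ℕ → Submodule R N) [SetLike.GradedSMul 𝒜 𝒩]
variable (x : ℕ → A) (hx : ∀ j, x j ∈ 𝒜 1) (r : ℕ)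
  (hcov : ∀ y : ProjectiveSpectrum 𝒜, ∃ j, j < r ∧ x j ∉ y.asHomogeneousIdeal)
variable (B : Type u) [CommRing B] [(Proj 𝒜).Over (Spec (CommRingCat.of B))]

/-- multiplication by a homogeneous element of degree `e` -/
noncomputable def mulA (e : ℕ) (a : A) (ha : a ∈ 𝒜 e) (d s : ℤ) (hs : s = d + e) :
    GrTilde.tilde 𝒜 𝒩 d ⟶ GrTilde.tilde 𝒜 𝒩 s :=
  tildeMap 𝒜 𝒩 𝒩 (a • (LinearMap.id : N →ₗ[A] N)) e
    (fun i n hn => by
      have := SetLike.GradedSMul.smul_mem (A := 𝒜) (B := 𝒩) ha hn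
      rw [vadd_eq_add, add_comm] at this
      exact this) d s hs

lemma val_mulA (e : ℕ) (a : A) (ha : a ∈ 𝒜 e) (d s : ℤ) (hs : s = d + e) (U : (Proj 𝒜).Opens)
    (v : Γ(GrTilde.tilde 𝒜 𝒩 d, U)) (y : ProjectiveSpectrum.top 𝒜) (hy : y ∈ U) :
    val (𝒜 := 𝒜) (ℳ := 𝒩) (n := s) (U := U) ((mulA 𝒜 𝒩 e a ha d s hs).app U v) y hy =
      a • val (𝒜 := 𝒜) (ℳ := 𝒩) (n := d) (U := U) v y hy := by
  unfold mulA
  rw [val_tildeMap, locMap_smul, locMap_id]

/-- the subgroup of global sections generated by the products `a · v` -/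
noncomputable def S (s d : ℤ) (e : ℕ) : AddSubgroup Γ(GrTilde.tilde 𝒜 𝒩 s, ⊤) :=
  AddSubgroup.closure {t | ∃ (a : A) (_ : a ∈ 𝒜 e) (v : Γ(GrTilde.tilde 𝒜 𝒩 d, ⊤)),
    ∀ (y : ProjectiveSpectrum.top 𝒜) (hy : y ∈ (⊤ : (Proj 𝒜).Opens)),
      val (𝒜 := 𝒜) (ℳ := 𝒩) (n := s) (U := ⊤) t y hy =
        a • val (𝒜 := 𝒜) (ℳ := 𝒩) (n := d) (U := ⊤) v y hy}

include hx in
/-- multiplication by `x_j` maps `S e` to `S (e+1)` -/
lemma mulA_mem_S (s1 s d : ℤ) (e : ℕ) (hs : s = s1 + (1 : ℕ)) (j : ℕ)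
    (u : Γ(GrTilde.tilde 𝒜 𝒩 s1, ⊤)) (hu : u ∈ S 𝒜 𝒩 s1 d e) :
    (mulA 𝒜 𝒩 1 (x j) (hx j) s1 s hs).app ⊤ u ∈ S 𝒜 𝒩 s d (e + 1) := by
  unfold S at hu
  induction hu using AddSubgroup.closure_induction with
  | mem t ht =>
    obtain ⟨a, ha, v, hv⟩ := ht
    apply AddSubgroup.subset_closure
    refine ⟨x j * a, ?_, v, ?_⟩
    · have := SetLike.mul_mem_graded (hx j) ha
      rwa [add_comm] at this
    · intro y hy
      refine (val_mulA 𝒜 𝒩 1 (x j) (hx j) s1 s hs ⊤ t y hy).trans ?_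
      exact (congrArg (fun q => x j • q) (hv y hy)).trans (mul_smul _ _ _).symm
  | zero =>
    rw [map_zero]
    exact AddSubgroup.zero_mem _
  | add t t' _ _ ht ht' =>
    rw [map_add]
    exact AddSubgroup.add_mem _ ht ht'
  | neg t _ ht =>
    rw [map_neg]
    exact AddSubgroup.neg_mem _ ht

lemma val_finset_sum {ι : Type*} (T : Finset ι) (n : ℤ) (U : (Proj 𝒜).Opens)
    (u : ι → Γ(GrTilde.tilde 𝒜 𝒩 n, U)) (y : ProjectiveSpectrum.top 𝒜) (hy : y ∈ U) :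
    val (𝒜 := 𝒜) (ℳ := 𝒩) (n := n) (U := U) (∑ i ∈ T, u i) y hy =
      ∑ i ∈ T, val (𝒜 := 𝒜) (ℳ := 𝒩) (n := n) (U := U) (u i) y hy := by
  classical
  induction T using Finset.induction_on with
  | empty => rw [Finset.sum_empty, Finset.sum_empty]; rfl
  | insert a T ha ih =>
    rw [Finset.sum_insert ha, Finset.sum_insert ha, ← ih]
    rfl

include hx hcov B in
/-- **generation of the global sections of `M(d+e)~` by `A_e · Γ(M(d)~)`** -/
theorem mem_S (d : ℤ) : ∀ (e : ℕ) (s : ℤ) (_ : s = d + e),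
    (∀ e' : ℕ, e' < e → ∀ p : ℕ, p + 1 < r → Subsingleton (Coh.HH (Proj 𝒜)
      (GrTilde.tilde 𝒜 𝒩 (d + e' + 1 - ((p + 2 : ℕ) : ℤ))) (p + 1))) →
    ∀ t : Γ(GrTilde.tilde 𝒜 𝒩 s, ⊤), t ∈ S 𝒜 𝒩 s d e := by
  intro e
  induction e with
  | zero =>
    intro s hs _ t
    have hsd : s = d := by rw [hs]; simp
    apply AddSubgroup.subset_closure
    refine ⟨1, SetLike.GradedOne.one_mem, hsd ▸ t, ?_⟩
    intro y hy
    refine Eq.trans ?_ (one_smul A _).symm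
    exact (val_cast 𝒜 𝒩 hsd ⊤ t y hy).symm
  | succ e ih =>
    intro s hs hvan t
    have hs1 : s = (d + e) + (1 : ℕ) := by rw [hs]; push_cast; ring
    obtain ⟨u, hu⟩ := exists_sum_smul 𝒜 𝒩 x hx r hcov B s (d + e) hs1
      (fun p hp => by
        have := hvan e (Nat.lt_succ_self e) p hp
        rw [hs1]
        exact this) t
    have ht : t = ∑ j ∈ Finset.range r, (mulA 𝒜 𝒩 1 (x j) (hx j) (d + e) s hs1).app ⊤ (u j) := by
      apply sect_ext'
      intro y hy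
      refine (hu y hy).trans ?_
      refine Eq.trans ?_ (val_finset_sum 𝒜 𝒩 _ s ⊤ _ y hy).symm
      apply Finset.sum_congr rfl
      intro j _
      exact (val_mulA 𝒜 𝒩 1 (x j) (hx j) (d + e) s hs1 ⊤ (u j) y hy).symm
    rw [ht]
    apply AddSubgroup.sum_mem
    intro j _
    apply mulA_mem_S 𝒜 𝒩 x hx (d + e) s d e hs1 j (u j)
    exact ih (d + e) rfl (fun e' he' p hp => hvan e' (Nat.lt_succ_of_lt he') p hp) (u j)

end Groth.Agent.Helper1.KzMult
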