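import Mathlib
import Groth.Agent.Helper1.GrT11

set_option autoImplicit false
set_option linter.unusedSectionVars false

/-!
# Homogeneous generators of a finitely generated graded module
-/

namespace Groth.Agent.Helper1.GrGen

open DirectSum
open Groth.Agent.Helper1.GrT

universe u

variable {R A : Type u} [CommRing R] [CommRing A] [Algebra R A] (𝒜 : ℕ → Submodule R A)
  [GradedAlgebra 𝒜]
variable {N : Type u} [AddCommGroup N] [Module R N] [Module A N] [IsScalarTower R A N]
  (𝒩 : ℕ → Submodule R N) [DirectSum.Decomposition 𝒩] [SetLike.GradedSMul 𝒜 𝒩]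

/-- a finitely generated graded module has finitely many homogeneous generators -/
theorem exists_homogeneous_gens [Module.Finite A N] :
    ∃ (m : ℕ) (y : Fin m → N) (d : Fin m → ℕ), (∀ i, y i ∈ 𝒩 (d i)) ∧
      Submodule.span A (Set.range y) = ⊤ := by
  classical
  obtain ⟨G, hG⟩ := (Module.Finite.fg_top : (⊤ : Submodule A N).FG)
  let T : Finset N := G.biUnion (fun x => (decompose 𝒩 x).support.image
    (fun i => (decompose 𝒩 x i : N)))
  have hTh : ∀ t ∈ T, ∃ i, t ∈ 𝒩 i := by
    intro t ht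
    obtain ⟨x, _, ht⟩ := Finset.mem_biUnion.1 ht
    obtain ⟨i, _, rfl⟩ := Finset.mem_image.1 ht
    exact ⟨i, (decompose 𝒩 x i).2⟩
  have hTs : Submodule.span A (T : Set N) = ⊤ := by
    rw [eq_top_iff, ← hG, Submodule.span_le]
    intro x hx
    rw [← DirectSum.sum_support_decompose 𝒩 x]
    refine Submodule.sum_mem _ (fun i hi => Submodule.subset_span ?_)
    exact Finset.mem_biUnion.2 ⟨x, hx, Finset.mem_image.2 ⟨i, hi, rfl⟩⟩
  let e := T.equivFin
  choose! dg hdg using hTh
  refine ⟨T.card, fun i => (e.symm i).1, fun i => dg (e.symm i).1,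
    fun i => hdg _ (e.symm i).2, ?_⟩
  have hr : Set.range (fun i => ((e.symm i).1 : N)) = (T : Set N) := by
    ext t
    constructor
    · rintro ⟨i, rfl⟩
      exact (e.symm i).2
    · intro ht
      exact ⟨e ⟨t, ht⟩, by simp⟩
  rw [hr, hTs]

/-- homogeneous elements are combinations of homogeneous generators with homogeneous
coefficients -/
theorem exists_homogeneous_coeffs {m : ℕ} (y : Fin m → N) (d : Fin m → ℕ)
    (hy : ∀ i, y i ∈ 𝒩 (d i)) (hspan : Submodule.span A (Set.range y) = ⊤)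
    (l : ℕ) (hl : ∀ i, d i ≤ l) (x : N) (hx : x ∈ 𝒩 l) :
    ∃ a : Fin m → A, (∀ i, a i ∈ 𝒜 (l - d i)) ∧ x = ∑ i, a i • y i := by
  classical
  have hx' : x ∈ Submodule.span A (Set.range y) := by rw [hspan]; trivial
  obtain ⟨b, rfl⟩ := (Submodule.mem_span_range_iff_exists_fun A).1 hx'
  refine ⟨fun i => (decompose 𝒜 (b i) (l - d i) : A), fun i => (decompose 𝒜 (b i) (l - d i)).2, ?_⟩
  have h1 : (decompose 𝒩 (∑ i, b i • y i) l : N) = ∑ i, b i • y i :=
    DirectSum.decompose_of_mem_same 𝒩 hx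
  rw [← h1, DirectSum.decompose_sum, DFinsupp.finset_sum_apply, AddSubmonoidClass.coe_finset_sum]
  refine Finset.sum_congr rfl (fun i _ => ?_)
  exact decompose_smul_of_mem' 𝒜 𝒩 (b i) (y i) (hy i) l (hl i)

end Groth.Agent.Helper1.GrGen
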