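import Mathlib
import Groth.Prelude.Def_GrMod2
import Groth.Prelude.Def_FlatMod2
import Groth.Agent.Helper1.ProjQc1
import Groth.Agent.Helper1.TildeMap
import Groth.Agent.Helper1.TwistIso
import Groth.Agent.Helper1.EpiDesc
import Groth.Agent.Helper1.GrGen

set_option autoImplicit false
set_option linter.unusedSectionVars false

namespace Groth.Agent.Helper1.TwistEpi

open CategoryTheory Limits AlgebraicGeometry TopologicalSpace Opposite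
open Groth.Agent.Helper1.GrT Groth.Agent.Helper1.ProjO Groth.Agent.Helper1.ProjQc

universe u

variable {R A : Type u} [CommRing R] [CommRing A] [Algebra R A] (𝒜 : ℕ → Submodule R A)
  [GradedAlgebra 𝒜]
variable (s : Finset A) (hs1 : ∀ f ∈ s, f ∈ 𝒜 1)
  (hs : (HomogeneousIdeal.irrelevant 𝒜).toIdeal = Ideal.span (s : Set A))

include hs in
lemma exists_notMem (x : Proj 𝒜) :
    ∃ f ∈ s, f ∉ (show ProjectiveSpectrum 𝒜 from x).asHomogeneousIdeal := by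
  by_contra hcon
  push Not at hcon
  apply (show ProjectiveSpectrum 𝒜 from x).not_irrelevant_le
  have : (HomogeneousIdeal.irrelevant 𝒜).toIdeal ≤
      (show ProjectiveSpectrum 𝒜 from x).asHomogeneousIdeal.toIdeal := by
    rw [hs, Ideal.span_le]
    exact fun f hf => hcon f hf
  exact this

/-- the global section `a / 1` of `A(n)~`, for `a` of degree `n` -/
noncomputable def gsec (n : ℕ) (a : A) (ha : a ∈ 𝒜 n) : Γ(GrTilde.tilde 𝒜 𝒜 (n : ℤ), ⊤) :=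
  fracSect 𝒜 𝒜 (n : ℤ) a ha 1 SetLike.GradedOne.one_mem (by simp) ⊤
    (fun y _ => NV.one (⊤ : (Proj 𝒜).Opens) y trivial)

lemma val_gsec (n : ℕ) (a : A) (ha : a ∈ 𝒜 n) (y : ProjectiveSpectrum.top 𝒜)
    (hy : y ∈ (⊤ : (Proj 𝒜).Opens)) :
    val (𝒜 := 𝒜) (ℳ := 𝒜) (n := (n : ℤ)) (U := ⊤) (gsec 𝒜 n a ha) y hy = ι₁ y a := by
  have := val_fracSect 𝒜 𝒜 (n : ℤ) a ha 1 SetLike.GradedOne.one_mem (by simp) ⊤
    (fun y _ => NV.one (⊤ : (Proj 𝒜).Opens) y trivial) y hy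
  rwa [one_smul] at this

include hs hs1 in
theorem exists_epi_free_to_tilde (n : ℕ) :
    ∃ (k : ℕ) (p : FlatMod.freeMod (Proj 𝒜) k ⟶ GrTilde.tilde 𝒜 𝒜 (n : ℤ)), Epi p := by
  classical
  let e : Fin s.card ≃ s := s.equivFin.symm
  let ψ : Fin s.card → (Coh.structureModule (Proj 𝒜) ⟶ GrTilde.tilde 𝒜 𝒜 (n : ℤ)) := fun j =>
    Groth.Agent.Lead.LocLift.homOfTop _ (gsec 𝒜 n ((e j).1 ^ n) (pow_mem1 (hs1 _ (e j).2) n))
  have := isQuasicoherent_tilde 𝒜 𝒜 (n : ℤ)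
  refine ⟨s.card, Sigma.desc ψ, Groth.Agent.Helper1.EpiDesc.epi_sigmaDesc _ _ ψ ?_⟩
  intro x
  obtain ⟨f, hfs, hxf⟩ := exists_notMem 𝒜 s hs x
  have hf := hs1 f hfs
  refine ⟨Proj.basicOpen 𝒜 f, Proj.isAffineOpen_basicOpen 𝒜 f hf Nat.one_pos,
    (ProjectiveSpectrum.mem_basicOpen 𝒜 f _).2 hxf, fun t => ?_⟩
  obtain ⟨l, i, m, hm, hi, hval⟩ := exists_global_frac 𝒜 𝒜 (n : ℤ) Nat.one_pos f hf t
  have hi' : i = l + n := by
    push_cast at hi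
    omega
  subst hi'
  obtain ⟨r, hr⟩ : ∃ r : Γ(Coh.structureModule (Proj 𝒜), Proj.basicOpen 𝒜 f),
      r = frO 𝒜 (Proj.basicOpen 𝒜 f) m (f ^ (l + n)) hm (pow_mem1 hf _)
        ((NV.basicOpen f).pow _) := ⟨_, rfl⟩
  refine ⟨Pi.single (e.symm ⟨f, hfs⟩) r, ?_⟩
  rw [Finset.sum_eq_single (e.symm ⟨f, hfs⟩)]
  · rw [Pi.single_eq_same]
    refine Eq.trans ?_ (Groth.Agent.Helper1.EpiDesc.homOfTop_app _ _ _ _).symm
    refine sect_ext (𝒜 := 𝒜) (ℳ := 𝒜) (n := (n : ℤ)) (U := ProjectiveSpectrum.basicOpen 𝒜 f) _ _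
      (fun y hy => ?_)
    apply smul_injective y (pow_notMem hy (l + n))
    show f ^ (l + n) • val (𝒜 := 𝒜) (ℳ := 𝒜) (n := (n : ℤ))
        (U := ProjectiveSpectrum.basicOpen 𝒜 f) t y hy = f ^ (l + n) • _
    have h1 : val (𝒜 := 𝒜) (ℳ := 𝒜) (n := (n : ℤ)) (U := ProjectiveSpectrum.basicOpen 𝒜 f)
        ((GrTilde.tilde 𝒜 𝒜 (n : ℤ)).presheaf.map (homOfLE (le_top :
          Proj.basicOpen 𝒜 f ≤ ⊤)).op (gsec 𝒜 n ((e (e.symm ⟨f, hfs⟩)).1 ^ n)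
            (pow_mem1 (hs1 _ (e (e.symm ⟨f, hfs⟩)).2) n))) y hy =
        ι₁ y ((e (e.symm ⟨f, hfs⟩)).1 ^ n) :=
      val_gsec 𝒜 n _ (pow_mem1 (hs1 _ (e (e.symm ⟨f, hfs⟩)).2) n) y trivial
    have h2 := val_smul 𝒜 𝒜 (n : ℤ) (Proj.basicOpen 𝒜 f) r
      ((GrTilde.tilde 𝒜 𝒜 (n : ℤ)).presheaf.map (homOfLE (le_top :
          Proj.basicOpen 𝒜 f ≤ ⊤)).op (gsec 𝒜 n ((e (e.symm ⟨f, hfs⟩)).1 ^ n)
            (pow_mem1 (hs1 _ (e (e.symm ⟨f, hfs⟩)).2) n))) y hy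
    have h3 : (evO 𝒜 (Proj.basicOpen 𝒜 f) y hy r).val =
        mkO y m (f ^ (l + n)) (pow_notMem hy _) := by
      rw [hr]
      exact evO_frO 𝒜 _ _ _ _ _ _ y hy
    have h2' := h2.trans (congrArg₂ (fun a b => a • b) h3 h1)
    refine Eq.trans ?_ (congrArg (fun v => f ^ (l + n) • v) h2'.symm)
    refine Eq.trans ?_ (smul_mkO_smul y m (f ^ (l + n)) _ _).symm
    have e1 : f ^ (l + n) • val (𝒜 := 𝒜) (ℳ := 𝒜) (n := (n : ℤ))
        (U := ProjectiveSpectrum.basicOpen 𝒜 f) t y hy = f ^ n • ι₁ y m := by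
      have : f ^ (l + n) = f ^ n * f ^ l := by rw [pow_add, mul_comm]
      rw [this, mul_smul]
      exact congrArg (fun v => f ^ n • v) (hval y hy)
    refine e1.trans ?_
    refine (ι₁_smul y (f ^ n) m).symm.trans ?_
    refine Eq.trans ?_ (ι₁_smul y m _)
    rw [e.apply_symm_apply, smul_eq_mul, smul_eq_mul, mul_comm]
  · intro j _ hj
    rw [Pi.single_eq_of_ne hj]
    exact map_zero _
  · intro h
    exact absurd (Finset.mem_univ _) h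


/-! ### quotients of sums of negative twists -/

variable {N : Type u} [AddCommGroup N] [Module R N] [Module A N] [IsScalarTower R A N]
  (𝒩 : ℕ → Submodule R N) [DirectSum.Decomposition 𝒩] [SetLike.GradedSMul 𝒜 𝒩]

/-- `val` as an additive map -/
noncomputable def valHom (n : ℤ) (U : (Proj 𝒜).Opens) (y : ProjectiveSpectrum.top 𝒜)
    (hy : y ∈ U) : Γ(GrTilde.tilde 𝒜 𝒩 n, U) →+ GrTilde.LocMod 𝒜 (M := N) y where
  toFun u := val (𝒜 := 𝒜) (ℳ := 𝒩) (n := n) (U := U) u y hy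
  map_zero' := rfl
  map_add' _ _ := rfl

lemma val_sum' {ι : Type*} (T : Finset ι) (n : ℤ) (U : (Proj 𝒜).Opens)
    (u : ι → Γ(GrTilde.tilde 𝒜 𝒩 n, U)) (y : ProjectiveSpectrum.top 𝒜) (hy : y ∈ U) :
    val (𝒜 := 𝒜) (ℳ := 𝒩) (n := n) (U := U) (∑ i ∈ T, u i) y hy =
      ∑ i ∈ T, val (𝒜 := 𝒜) (ℳ := 𝒩) (n := n) (U := U) (u i) y hy :=
  map_sum (valHom 𝒜 𝒩 n U y hy) u T

/-- multiplication by a homogeneous element `z` of degree `n`, as a morphism `O(-n) ⟶ N~` -/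
noncomputable def mulBy (n : ℕ) (z : N) (hz : z ∈ 𝒩 n) :
    Twist.twist 𝒜 (-(n : ℤ)) ⟶ GrTilde.tilde 𝒜 𝒩 0 :=
  (Groth.Agent.Helper1.TwistIso.twistIsoTilde 𝒜 (-(n : ℤ))).hom ≫
    Groth.Agent.Helper1.TildeMap.tildeMap 𝒜 𝒜 𝒩 (LinearMap.toSpanSingleton A N z) n
      (fun i a ha => by
        rw [LinearMap.toSpanSingleton_apply]
        exact SetLike.GradedSMul.smul_mem (A := 𝒜) (B := 𝒩) ha hz) (-(n : ℤ)) 0 (by ring)

/-- the value of `mulBy` on a fraction -/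
lemma val_mulBy (n : ℕ) (z : N) (hz : z ∈ 𝒩 n) (U : (Proj 𝒜).Opens)
    (w : Γ(GrTilde.tilde 𝒜 𝒜 (-(n : ℤ)), U)) (y : ProjectiveSpectrum.top 𝒜) (hy : y ∈ U)
    (b t : A) (ht : t ∉ y.asHomogeneousIdeal)
    (hw : t • val (𝒜 := 𝒜) (ℳ := 𝒜) (n := -(n : ℤ)) (U := U) w y hy = ι₁ y b) :
    t • val (𝒜 := 𝒜) (ℳ := 𝒩) (n := 0) (U := U)
      ((mulBy 𝒜 𝒩 n z hz).app U
        ((Groth.Agent.Helper1.TwistIso.twistIsoTilde 𝒜 (-(n : ℤ))).inv.app U w)) y hy =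
      ι₁ y (b • z) := by
  have h1 : val (𝒜 := 𝒜) (ℳ := 𝒩) (n := 0) (U := U)
      ((mulBy 𝒜 𝒩 n z hz).app U
        ((Groth.Agent.Helper1.TwistIso.twistIsoTilde 𝒜 (-(n : ℤ))).inv.app U w)) y hy =
      Groth.Agent.Helper1.TildeMap.locMap 𝒜 (LinearMap.toSpanSingleton A N z) y
        (val (𝒜 := 𝒜) (ℳ := 𝒜) (n := -(n : ℤ)) (U := U) w y hy) := rfl
  rw [h1]
  have h2 : val (𝒜 := 𝒜) (ℳ := 𝒜) (n := -(n : ℤ)) (U := U) w y hy =
      LocalizedModule.mk b ⟨t, ht⟩ := (eq_mk_iff y _ b ht).2 hw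
  have h3 := Groth.Agent.Helper1.TildeMap.locMap_mk 𝒜 (LinearMap.toSpanSingleton A N z) y b
    ⟨t, ht⟩
  refine (congrArg (fun v => t • Groth.Agent.Helper1.TildeMap.locMap 𝒜
    (LinearMap.toSpanSingleton A N z) y v) h2).trans ?_
  refine (congrArg (fun v => t • v) h3).trans ?_
  exact (eq_mk_iff y _ (b • z) ht).1 rfl


set_option maxHeartbeats 1000000 in
include hs hs1 in
theorem exists_epi_twists_to_tilde [Module.Finite A N] :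
    ∃ n₀ : ℕ, ∀ n : ℕ, n₀ ≤ n →
      ∃ (k : ℕ) (p : (∐ fun _ : Fin k => Twist.twist 𝒜 (-(n : ℤ))) ⟶ GrTilde.tilde 𝒜 𝒩 0),
        Epi p := by
  classical
  obtain ⟨m, gy, d, hgy, hspan⟩ := Groth.Agent.Helper1.GrGen.exists_homogeneous_gens (A := A) 𝒩
  refine ⟨Finset.univ.sup d, fun n hn => ?_⟩
  have hdn : ∀ i, d i ≤ n := fun i => (Finset.le_sup (Finset.mem_univ i)).trans hn
  -- the elements `z`
  have hz : ∀ j : s × Fin m, j.1.1 ^ (n - d j.2) • gy j.2 ∈ 𝒩 n := by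
    intro j
    have := SetLike.GradedSMul.smul_mem (A := 𝒜) (B := 𝒩)
      (pow_mem1 (hs1 _ j.1.2) (n - d j.2)) (hgy j.2)
    rw [vadd_eq_add, Nat.sub_add_cancel (hdn j.2)] at this
    exact this
  let e : Fin (Fintype.card (s × Fin m)) ≃ s × Fin m := (Fintype.equivFin (s × Fin m)).symm
  let ψ : Fin (Fintype.card (s × Fin m)) →
      (Twist.twist 𝒜 (-(n : ℤ)) ⟶ GrTilde.tilde 𝒜 𝒩 0) := fun j =>
    mulBy 𝒜 𝒩 n _ (hz (e j))
  have := isQuasicoherent_tilde 𝒜 𝒩 0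
  refine ⟨Fintype.card (s × Fin m), Sigma.desc ψ,
    Groth.Agent.Helper1.EpiDesc.epi_sigmaDesc _ _ ψ ?_⟩
  intro x
  obtain ⟨f, hfs, hxf⟩ := exists_notMem 𝒜 s hs x
  have hf := hs1 f hfs
  refine ⟨Proj.basicOpen 𝒜 f, Proj.isAffineOpen_basicOpen 𝒜 f hf Nat.one_pos,
    (ProjectiveSpectrum.mem_basicOpen 𝒜 f _).2 hxf, fun t => ?_⟩
  obtain ⟨l0, x0, hx0, hfr0⟩ := exists_isFr_of_section 𝒜 𝒩 f Nat.one_pos hf t
  have hfr : IsFr 𝒜 𝒩 f t (f ^ n • x0) (l0 + n) := hfr0.mul_pow n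
  have hxl : f ^ n • x0 ∈ 𝒩 (l0 + n) := by
    have := SetLike.GradedSMul.smul_mem (A := 𝒜) (B := 𝒩) (pow_mem1 hf n) hx0
    rw [vadd_eq_add, mul_one, add_comm] at this
    exact this
  obtain ⟨a, ha, hax⟩ := Groth.Agent.Helper1.GrGen.exists_homogeneous_coeffs 𝒜 𝒩 gy d hgy hspan
    (l0 + n) (fun i => (hdn i).trans (Nat.le_add_left _ _)) _ hxl
  -- the sections of `A(-n)~`
  have hnum : ∀ i, a i * f ^ d i ∈ 𝒜 (l0 + n) := by
    intro i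
    have := SetLike.mul_mem_graded (ha i) (pow_mem1 hf (d i))
    rwa [Nat.sub_add_cancel ((hdn i).trans (Nat.le_add_left _ _))] at this
  let w : Fin m → Γ(GrTilde.tilde 𝒜 𝒜 (-(n : ℤ)), Proj.basicOpen 𝒜 f) := fun i =>
    fracSect 𝒜 𝒜 (-(n : ℤ)) (a i * f ^ d i) (hnum i) (f ^ (l0 + n + n)) (pow_mem1 hf _)
      (by push_cast; ring) (Proj.basicOpen 𝒜 f) (fun y hy => pow_notMem hy _)
  have hw : ∀ (i : Fin m) (y : ProjectiveSpectrum.top 𝒜)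
      (hy : y ∈ ProjectiveSpectrum.basicOpen 𝒜 f),
      f ^ (l0 + n + n) • val (𝒜 := 𝒜) (ℳ := 𝒜) (n := -(n : ℤ))
        (U := ProjectiveSpectrum.basicOpen 𝒜 f) (w i) y hy = ι₁ y (a i * f ^ d i) := by
    intro i y hy
    exact val_fracSect 𝒜 𝒜 (-(n : ℤ)) (a i * f ^ d i) (hnum i) (f ^ (l0 + n + n))
      (pow_mem1 hf _) (by push_cast; ring) (Proj.basicOpen 𝒜 f) (fun y hy => pow_notMem hy _) y hy
  refine ⟨fun j => if (e j).1 = ⟨f, hfs⟩ then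
    (Groth.Agent.Helper1.TwistIso.twistIsoTilde 𝒜 (-(n : ℤ))).inv.app (Proj.basicOpen 𝒜 f)
      (w (e j).2) else 0, ?_⟩
  -- reindex the sum
  have hsum : (∑ j, (ψ j).app (Proj.basicOpen 𝒜 f)
      (if (e j).1 = ⟨f, hfs⟩ then
        (Groth.Agent.Helper1.TwistIso.twistIsoTilde 𝒜 (-(n : ℤ))).inv.app (Proj.basicOpen 𝒜 f)
          (w (e j).2) else 0)) =
      ∑ i : Fin m, (mulBy 𝒜 𝒩 n _ (hz (⟨f, hfs⟩, i))).app (Proj.basicOpen 𝒜 f)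
        ((Groth.Agent.Helper1.TwistIso.twistIsoTilde 𝒜 (-(n : ℤ))).inv.app (Proj.basicOpen 𝒜 f)
          (w i)) := by
    rw [← Equiv.sum_comp e.symm]
    simp only [Equiv.apply_symm_apply, ψ]
    rw [Fintype.sum_prod_type, Finset.sum_eq_single (⟨f, hfs⟩ : s)]
    · refine Finset.sum_congr rfl (fun i _ => ?_)
      rw [if_pos rfl]
    · intro f' _ hf'
      refine Finset.sum_eq_zero (fun i _ => ?_)
      rw [if_neg hf']
      exact map_zero _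
    · intro h
      exact absurd (Finset.mem_univ _) h
  rw [hsum]
  refine sect_ext (𝒜 := 𝒜) (ℳ := 𝒩) (n := 0) (U := ProjectiveSpectrum.basicOpen 𝒜 f) _ _
    (fun y hy => ?_)
  apply smul_injective y (pow_notMem hy (l0 + n + n))
  show f ^ (l0 + n + n) • val (𝒜 := 𝒜) (ℳ := 𝒩) (n := 0)
      (U := ProjectiveSpectrum.basicOpen 𝒜 f) t y hy = f ^ (l0 + n + n) • _
  have e2 := val_sum' 𝒜 𝒩 Finset.univ 0 (Proj.basicOpen 𝒜 f)
    (fun i : Fin m => (mulBy 𝒜 𝒩 n _ (hz (⟨f, hfs⟩, i))).app (Proj.basicOpen 𝒜 f)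
        ((Groth.Agent.Helper1.TwistIso.twistIsoTilde 𝒜 (-(n : ℤ))).inv.app (Proj.basicOpen 𝒜 f)
          (w i))) y hy
  refine Eq.trans ?_ (congrArg (fun v => f ^ (l0 + n + n) • v) e2.symm)
  rw [Finset.smul_sum]
  have e3 : ∀ i : Fin m, f ^ (l0 + n + n) • val (𝒜 := 𝒜) (ℳ := 𝒩) (n := 0)
      (U := ProjectiveSpectrum.basicOpen 𝒜 f)
      ((mulBy 𝒜 𝒩 n _ (hz (⟨f, hfs⟩, i))).app (Proj.basicOpen 𝒜 f)
        ((Groth.Agent.Helper1.TwistIso.twistIsoTilde 𝒜 (-(n : ℤ))).inv.app (Proj.basicOpen 𝒜 f)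
          (w i))) y hy = ι₁ y ((a i * f ^ d i) • (f ^ (n - d i) • gy i)) := fun i =>
    val_mulBy 𝒜 𝒩 n _ (hz (⟨f, hfs⟩, i)) (Proj.basicOpen 𝒜 f) (w i) y hy _ _
      (pow_notMem hy _) (hw i y hy)
  refine Eq.trans ?_ (Finset.sum_congr rfl (fun i _ => (e3 i).symm))
  refine Eq.trans ?_ (ι₁_sum y Finset.univ _)
  have e4 : ∑ i : Fin m, (a i * f ^ d i) • (f ^ (n - d i) • gy i) = f ^ n • (f ^ n • x0) := by
    rw [hax, Finset.smul_sum]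
    refine Finset.sum_congr rfl (fun i _ => ?_)
    rw [smul_smul, smul_smul]
    congr 1
    have : f ^ n = f ^ d i * f ^ (n - d i) := by rw [← pow_add, Nat.add_sub_cancel' (hdn i)]
    rw [this]
    ring
  refine Eq.trans ?_ (congrArg (fun v => ι₁ y v) e4.symm)
  refine Eq.trans ?_ (ι₁_smul y (f ^ n) (f ^ n • x0)).symm
  have e5 : f ^ (l0 + n + n) = f ^ n * f ^ (l0 + n) := by rw [← pow_add, add_comm]
  rw [e5, mul_smul]
  exact congrArg (fun v => f ^ n • v) (hfr y hy)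

end Groth.Agent.Helper1.TwistEpi
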