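import Mathlib
import Groth.Agent.Helper1.KzMult2
import Groth.Agent.Helper1.TwistMul5
import Groth.Agent.Helper1.TwistEpi

set_option autoImplicit false
set_option linter.unusedSectionVars false
set_option linter.style.haveILetI false

/-!
# Surjectivity of the multiplication map `Γ(F) ⊗ Γ(G) → Γ(F ⊗ G)` for `F ≅ M(d)~`, `G ≅ A(e)~`
-/

namespace Groth.Agent.Helper1.KzMult

open CategoryTheory Limits AlgebraicGeometry TopologicalSpace Opposite
open Groth.Agent.Helper1.GrT Groth.Agent.Helper1.TildeMap Groth.Agent.Helper1.TildeFun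
  Groth.Agent.Helper1.TwistMul Groth.Agent.Helper4.TensorLift

universe u

variable {R A : Type u} [CommRing R] [CommRing A] [Algebra R A] (𝒜 : ℕ → Submodule R A)
  [GradedAlgebra 𝒜]
variable {N : Type u} [AddCommGroup N] [Module R N] [Module A N] [IsScalarTower R A N]
  (𝒩 : ℕ → Submodule R N) [DirectSum.Decomposition 𝒩] [SetLike.GradedSMul 𝒜 𝒩]

lemma toLoc_ι₁_smul (y : ProjectiveSpectrum 𝒜) (a : A) (q : GrTilde.LocMod 𝒜 (M := N) y) :
    toLoc 𝒜 y (ι₁ y a) • q = a • q := by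
  induction q using LocalizedModule.induction_on with
  | h m t =>
    have h1 : (Localization.mk a (1 : y.asHomogeneousIdeal.toIdeal.primeCompl) : Twist.Loc 𝒜 y) •
        (LocalizedModule.mk m t : GrTilde.LocMod 𝒜 (M := N) y) =
        LocalizedModule.mk (a • m) (1 * t) := LocalizedModule.mk_smul_mk a m 1 t
    rw [one_mul] at h1
    exact h1.trans (LocalizedModule.smul'_mk a m t).symm

variable (hcov : (⨆ f : 𝒜 1, Proj.basicOpen 𝒜 (f : A)) = ⊤)

include hcov in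
/-- **the multiplication map on global sections is surjective if the global sections of `M(d+e)~`
are generated by the products** -/
theorem exists_tt_eq (F G : (Proj 𝒜).Modules) (d s : ℤ) (e : ℕ) (hs : s = d + e)
    (eF : F ≅ GrTilde.tilde 𝒜 𝒩 d) (eG : G ≅ GrTilde.tilde 𝒜 𝒜 (e : ℤ))
    (hS : ∀ t : Γ(GrTilde.tilde 𝒜 𝒩 s, ⊤), t ∈ S 𝒜 𝒩 s d e)
    (σ : Γ(CohB1.tensorMod F G, ⊤)) : ∃ z : TT F G ⊤, tt F G ⊤ z = σ := by
  -- the comparison isomorphism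
  let b := bil 𝒜 𝒩 d (e : ℤ) s hs
  haveI : IsIso b.lift := isIso_lift 𝒜 𝒩 d (e : ℤ) s hs (cover_of_iSup 𝒜 hcov (e : ℤ))
  haveI : IsIso (KoszTw.tensorMap eF.hom eG.hom) := by
    refine ⟨KoszTw.tensorMap eF.inv eG.inv, ?_, ?_⟩
    · rw [← KoszTw.tensorMap_comp, eF.hom_inv_id, eG.hom_inv_id, KoszTw.tensorMap_id]
    · rw [← KoszTw.tensorMap_comp, eF.inv_hom_id, eG.inv_hom_id, KoszTw.tensorMap_id]
  let ψ : CohB1.tensorMod F G ⟶ GrTilde.tilde 𝒜 𝒩 s := KoszTw.tensorMap eF.hom eG.hom ≫ b.lift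
  haveI : IsIso ψ := IsIso.comp_isIso
  have hinj : Function.Injective (ψ.app ⊤) := by
    intro a a' haa'
    have h1 : (ψ ≫ inv ψ).app ⊤ a = (ψ ≫ inv ψ).app ⊤ a' :=
      congrArg (fun q => (inv ψ).app ⊤ q) haa'
    rw [IsIso.hom_inv_id] at h1
    exact h1
  -- every element of `S` is in the image of the range of `tt`
  have key : ∀ t : Γ(GrTilde.tilde 𝒜 𝒩 s, ⊤), t ∈ S 𝒜 𝒩 s d e →
      ∃ z : TT F G ⊤, ψ.app ⊤ (tt F G ⊤ z) = t := by
    intro t ht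
    unfold S at ht
    induction ht using AddSubgroup.closure_induction with
    | mem t ht =>
      obtain ⟨a, ha, v, hv⟩ := ht
      refine ⟨pure F G ⊤ (eF.inv.app ⊤ v) (eG.inv.app ⊤ (TwistEpi.gsec 𝒜 e a ha)), ?_⟩
      rw [← tmul_eq']
      have h1 : ψ.app ⊤ (SecTwist.tmul F G ⊤ (eF.inv.app ⊤ v)
          (eG.inv.app ⊤ (TwistEpi.gsec 𝒜 e a ha))) =
          b.lift.app ⊤ ((KoszTw.tensorMap eF.hom eG.hom).app ⊤
            (SecTwist.tmul F G ⊤ (eF.inv.app ⊤ v) (eG.inv.app ⊤ (TwistEpi.gsec 𝒜 e a ha)))) := rfl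
      rw [h1, KoszTw.tensorMap_tmul]
      have h2 : eF.hom.app ⊤ (eF.inv.app ⊤ v) = v := by
        have : (eF.inv ≫ eF.hom).app ⊤ v = v := by rw [eF.inv_hom_id]; rfl
        exact this
      have h3 : eG.hom.app ⊤ (eG.inv.app ⊤ (TwistEpi.gsec 𝒜 e a ha)) = TwistEpi.gsec 𝒜 e a ha := by
        have : (eG.inv ≫ eG.hom).app ⊤ (TwistEpi.gsec 𝒜 e a ha) = TwistEpi.gsec 𝒜 e a ha := by
          rw [eG.inv_hom_id]; rfl
        exact this
      rw [h2, h3, Bil.lift_tmul]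
      apply sect_ext'
      intro y hy
      refine Eq.trans ?_ (hv y hy).symm
      show toLoc 𝒜 y (val (𝒜 := 𝒜) (ℳ := 𝒜) (n := (e : ℤ)) (U := ⊤) (TwistEpi.gsec 𝒜 e a ha) y hy) •
        val (𝒜 := 𝒜) (ℳ := 𝒩) (n := d) (U := ⊤) v y hy = _
      rw [TwistEpi.val_gsec]
      exact toLoc_ι₁_smul 𝒜 y a _
    | zero =>
      refine ⟨0, ?_⟩
      rw [tt_zero, map_zero]
    | add t t' _ _ ht ht' =>
      obtain ⟨z, hz⟩ := ht
      obtain ⟨z', hz'⟩ := ht'
      refine ⟨z + z', ?_⟩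
      rw [tt_add, map_add, hz, hz']
    | neg t _ ht =>
      obtain ⟨z, hz⟩ := ht
      refine ⟨-z, ?_⟩
      have h1 : tt F G ⊤ (-z) = -tt F G ⊤ z := map_neg (ttAdd F G ⊤) z
      rw [h1, map_neg, hz]
  obtain ⟨z, hz⟩ := key (ψ.app ⊤ σ) (hS _)
  exact ⟨z, hinj hz⟩

end Groth.Agent.Helper1.KzMult
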