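import Mathlib
import Groth.Prelude.Def_GrMod2
import Groth.Prelude.Def_FlatMod2
import Groth.Agent.Helper1.TwistEpi

set_option autoImplicit false
set_option linter.unusedSectionVars false

/-!
# `N(n)~` is a quotient of a finite free module for `n ≫ 0`
-/

namespace Groth.Agent.Helper1.TwistEpi

open CategoryTheory Limits AlgebraicGeometry TopologicalSpace Opposite
open Groth.Agent.Helper1.GrT Groth.Agent.Helper1.ProjO Groth.Agent.Helper1.ProjQc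

universe u

variable {R A : Type u} [CommRing R] [CommRing A] [Algebra R A] (𝒜 : ℕ → Submodule R A)
  [GradedAlgebra 𝒜]
variable (s : Finset A) (hs1 : ∀ f ∈ s, f ∈ 𝒜 1)
  (hs : (HomogeneousIdeal.irrelevant 𝒜).toIdeal = Ideal.span (s : Set A))
variable {N : Type u} [AddCommGroup N] [Module R N] [Module A N] [IsScalarTower R A N]
  (𝒩 : ℕ → Submodule R N) [DirectSum.Decomposition 𝒩] [SetLike.GradedSMul 𝒜 𝒩]

/-- the global section `z / 1` of `N(n)~`, for `z` of degree `n` -/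
noncomputable def gsecN (n : ℕ) (z : N) (hz : z ∈ 𝒩 n) : Γ(GrTilde.tilde 𝒜 𝒩 (n : ℤ), ⊤) :=
  fracSect 𝒜 𝒩 (n : ℤ) z hz 1 SetLike.GradedOne.one_mem (by simp) ⊤
    (fun y _ => NV.one (⊤ : (Proj 𝒜).Opens) y trivial)

lemma val_gsecN (n : ℕ) (z : N) (hz : z ∈ 𝒩 n) (y : ProjectiveSpectrum.top 𝒜)
    (hy : y ∈ (⊤ : (Proj 𝒜).Opens)) :
    val (𝒜 := 𝒜) (ℳ := 𝒩) (n := (n : ℤ)) (U := ⊤) (gsecN 𝒜 𝒩 n z hz) y hy = ι₁ y z := by
  have := val_fracSect 𝒜 𝒩 (n : ℤ) z hz 1 SetLike.GradedOne.one_mem (by simp) ⊤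
    (fun y _ => NV.one (⊤ : (Proj 𝒜).Opens) y trivial) y hy
  rwa [one_smul] at this

set_option maxHeartbeats 1000000 in
include hs hs1 in
theorem exists_epi_free_to_tildeN [Module.Finite A N] :
    ∃ n₀ : ℕ, ∀ n : ℕ, n₀ ≤ n →
      ∃ (k : ℕ) (p : FlatMod.freeMod (Proj 𝒜) k ⟶ GrTilde.tilde 𝒜 𝒩 (n : ℤ)), Epi p := by
  classical
  obtain ⟨m, gy, d, hgy, hspan⟩ := Groth.Agent.Helper1.GrGen.exists_homogeneous_gens (A := A) 𝒩
  refine ⟨Finset.univ.sup d, fun n hn => ?_⟩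
  have hdn : ∀ i, d i ≤ n := fun i => (Finset.le_sup (Finset.mem_univ i)).trans hn
  -- the elements `z`
  have hz : ∀ j : s × Fin m, j.1.1 ^ (n - d j.2) • gy j.2 ∈ 𝒩 n := by
    intro j
    have := SetLike.GradedSMul.smul_mem (A := 𝒜) (B := 𝒩)
      (pow_mem1 (hs1 _ j.1.2) (n - d j.2)) (hgy j.2)
    rw [vadd_eq_add, Nat.sub_add_cancel (hdn j.2)] at this
    exact this
  let e : Fin (Fintype.card (s × Fin m)) ≃ s × Fin m := (Fintype.equivFin (s × Fin m)).symm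
  let ψ : Fin (Fintype.card (s × Fin m)) →
      (Coh.structureModule (Proj 𝒜) ⟶ GrTilde.tilde 𝒜 𝒩 (n : ℤ)) := fun j =>
    Groth.Agent.Lead.LocLift.homOfTop _ (gsecN 𝒜 𝒩 n _ (hz (e j)))
  have := isQuasicoherent_tilde 𝒜 𝒩 (n : ℤ)
  refine ⟨Fintype.card (s × Fin m), Sigma.desc ψ,
    Groth.Agent.Helper1.EpiDesc.epi_sigmaDesc _ _ ψ ?_⟩
  intro x
  obtain ⟨f, hfs, hxf⟩ := exists_notMem 𝒜 s hs x
  have hf := hs1 f hfs
  refine ⟨Proj.basicOpen 𝒜 f, Proj.isAffineOpen_basicOpen 𝒜 f hf Nat.one_pos,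
    (ProjectiveSpectrum.mem_basicOpen 𝒜 f _).2 hxf, fun t => ?_⟩
  obtain ⟨l, i, m0, hm0, hi, hval⟩ := exists_global_frac 𝒜 𝒩 (n : ℤ) Nat.one_pos f hf t
  have hi' : i = l + n := by
    push_cast at hi
    omega
  subst hi'
  obtain ⟨a, ha, hax⟩ := Groth.Agent.Helper1.GrGen.exists_homogeneous_coeffs 𝒜 𝒩 gy d hgy hspan
    (l + n) (fun i => (hdn i).trans (Nat.le_add_left _ _)) _ hm0
  have hnum : ∀ i, a i * f ^ d i ∈ 𝒜 (l + n) := by
    intro i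
    have := SetLike.mul_mem_graded (ha i) (pow_mem1 hf (d i))
    rwa [Nat.sub_add_cancel ((hdn i).trans (Nat.le_add_left _ _))] at this
  let r : Fin m → Γ(Coh.structureModule (Proj 𝒜), Proj.basicOpen 𝒜 f) := fun i =>
    frO 𝒜 (Proj.basicOpen 𝒜 f) (a i * f ^ d i) (f ^ (l + n)) (hnum i) (pow_mem1 hf _)
      ((NV.basicOpen f).pow _)
  refine ⟨fun j => if (e j).1 = ⟨f, hfs⟩ then r (e j).2 else 0, ?_⟩
  -- reindex the sum
  have hsum : (∑ j, (ψ j).app (Proj.basicOpen 𝒜 f)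
      (if (e j).1 = ⟨f, hfs⟩ then r (e j).2 else 0)) =
      ∑ i : Fin m, (Groth.Agent.Lead.LocLift.homOfTop _
        (gsecN 𝒜 𝒩 n _ (hz (⟨f, hfs⟩, i)))).app (Proj.basicOpen 𝒜 f) (r i) := by
    rw [← Equiv.sum_comp e.symm]
    simp only [Equiv.apply_symm_apply, ψ]
    rw [Fintype.sum_prod_type, Finset.sum_eq_single (⟨f, hfs⟩ : s)]
    · refine Finset.sum_congr rfl (fun i _ => ?_)
      rw [if_pos rfl]
    · intro f' _ hf'
      refine Finset.sum_eq_zero (fun i _ => ?_)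
      rw [if_neg hf']
      exact map_zero _
    · intro h
      exact absurd (Finset.mem_univ _) h
  rw [hsum]
  refine sect_ext (𝒜 := 𝒜) (ℳ := 𝒩) (n := (n : ℤ)) (U := ProjectiveSpectrum.basicOpen 𝒜 f) _ _
    (fun y hy => ?_)
  apply smul_injective y (pow_notMem hy (l + n))
  show f ^ (l + n) • val (𝒜 := 𝒜) (ℳ := 𝒩) (n := (n : ℤ))
      (U := ProjectiveSpectrum.basicOpen 𝒜 f) t y hy = f ^ (l + n) • _
  have e2 := val_sum' 𝒜 𝒩 Finset.univ (n : ℤ) (Proj.basicOpen 𝒜 f)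
    (fun i : Fin m => (Groth.Agent.Lead.LocLift.homOfTop _
        (gsecN 𝒜 𝒩 n _ (hz (⟨f, hfs⟩, i)))).app (Proj.basicOpen 𝒜 f) (r i)) y hy
  refine Eq.trans ?_ (congrArg (fun v => f ^ (l + n) • v) e2.symm)
  rw [Finset.smul_sum]
  have e3 : ∀ i : Fin m, f ^ (l + n) • val (𝒜 := 𝒜) (ℳ := 𝒩) (n := (n : ℤ))
      (U := ProjectiveSpectrum.basicOpen 𝒜 f)
      ((Groth.Agent.Lead.LocLift.homOfTop _
        (gsecN 𝒜 𝒩 n _ (hz (⟨f, hfs⟩, i)))).app (Proj.basicOpen 𝒜 f) (r i)) y hy =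
      ι₁ y ((a i * f ^ d i) • (f ^ (n - d i) • gy i)) := by
    intro i
    have h0 := Groth.Agent.Helper1.EpiDesc.homOfTop_app (GrTilde.tilde 𝒜 𝒩 (n : ℤ))
      (gsecN 𝒜 𝒩 n _ (hz (⟨f, hfs⟩, i))) (Proj.basicOpen 𝒜 f) (r i)
    have h1 : val (𝒜 := 𝒜) (ℳ := 𝒩) (n := (n : ℤ)) (U := ProjectiveSpectrum.basicOpen 𝒜 f)
        ((GrTilde.tilde 𝒜 𝒩 (n : ℤ)).presheaf.map (homOfLE (le_top :
          Proj.basicOpen 𝒜 f ≤ ⊤)).op (gsecN 𝒜 𝒩 n _ (hz (⟨f, hfs⟩, i)))) y hy =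
        ι₁ y (f ^ (n - d i) • gy i) :=
      val_gsecN 𝒜 𝒩 n _ (hz (⟨f, hfs⟩, i)) y trivial
    have h2 := val_smul 𝒜 𝒩 (n : ℤ) (Proj.basicOpen 𝒜 f) (r i)
      ((GrTilde.tilde 𝒜 𝒩 (n : ℤ)).presheaf.map (homOfLE (le_top :
          Proj.basicOpen 𝒜 f ≤ ⊤)).op (gsecN 𝒜 𝒩 n _ (hz (⟨f, hfs⟩, i)))) y hy
    have h3 : (evO 𝒜 (Proj.basicOpen 𝒜 f) y hy (r i)).val =
        mkO y (a i * f ^ d i) (f ^ (l + n)) (pow_notMem hy _) :=
      evO_frO 𝒜 _ _ _ _ _ _ y hy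
    have h2' := h2.trans (congrArg₂ (fun a b => a • b) h3 h1)
    refine (congrArg (fun v => f ^ (l + n) • val (𝒜 := 𝒜) (ℳ := 𝒩) (n := (n : ℤ))
      (U := ProjectiveSpectrum.basicOpen 𝒜 f) v y hy) h0).trans ?_
    refine (congrArg (fun v => f ^ (l + n) • v) h2').trans ?_
    refine (smul_mkO_smul y (a i * f ^ d i) (f ^ (l + n)) _ _).trans ?_
    exact (ι₁_smul y _ _).symm
  refine Eq.trans ?_ (Finset.sum_congr rfl (fun i _ => (e3 i).symm))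
  refine Eq.trans ?_ (ι₁_sum y Finset.univ _)
  have e4 : ∑ i : Fin m, (a i * f ^ d i) • (f ^ (n - d i) • gy i) = f ^ n • m0 := by
    rw [hax, Finset.smul_sum]
    refine Finset.sum_congr rfl (fun i _ => ?_)
    rw [smul_smul, smul_smul]
    congr 1
    have : f ^ n = f ^ d i * f ^ (n - d i) := by rw [← pow_add, Nat.add_sub_cancel' (hdn i)]
    rw [this]
    ring
  refine Eq.trans ?_ (congrArg (fun v => ι₁ y v) e4.symm)
  refine Eq.trans ?_ (ι₁_smul y (f ^ n) m0).symm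
  have e5 : f ^ (l + n) = f ^ n * f ^ l := by rw [← pow_add, add_comm]
  rw [e5, mul_smul]
  exact congrArg (fun v => f ^ n • v) (hval y hy)

end Groth.Agent.Helper1.TwistEpi
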