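import Mathlib
import Groth.Agent.Helper1.KzMult3
import Groth.Agent.Helper1.TwistEpi2
import Groth.Agent.Helper1.EpiDesc
import Groth.Agent.Helper1.TwistExact
import Groth.Prelude.Def_Curv2

set_option autoImplicit false
set_option linter.unusedSectionVars false
set_option linter.style.haveILetI false

/-!
# `M(m)~` is globally generated as soon as `Γ(M(m+e)~) = A_e · Γ(M(m)~)` for all `e`
-/

namespace Groth.Agent.Helper1.KzMult

open CategoryTheory Limits AlgebraicGeometry TopologicalSpace Opposite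
open Groth.Agent.Helper1.GrT Groth.Agent.Helper1.TildeMap Groth.Agent.Helper1.TildeFun
  Groth.Agent.Helper1.TwistMul Groth.Agent.Helper1.ProjO Groth.Agent.Helper1.TwistEpi

universe u

variable {R A : Type u} [CommRing R] [CommRing A] [Algebra R A] (𝒜 : ℕ → Submodule R A)
  [GradedAlgebra 𝒜]
variable {N : Type u} [AddCommGroup N] [Module R N] [Module A N] [IsScalarTower R A N]
  (𝒩 : ℕ → Submodule R N) [DirectSum.Decomposition 𝒩] [SetLike.GradedSMul 𝒜 𝒩]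

/-- the canonical morphism from the free module on the global sections -/
noncomputable def gsMap (m : ℤ) :
    (SheafOfModules.free (Γ(GrTilde.tilde 𝒜 𝒩 m, ⊤)) : (Proj 𝒜).Modules) ⟶
      GrTilde.tilde 𝒜 𝒩 m :=
  Sigma.desc (fun σ => Groth.Agent.Lead.LocLift.homOfTop (GrTilde.tilde 𝒜 𝒩 m) σ)

lemma ιFree_gsMap (m : ℤ) (σ : Γ(GrTilde.tilde 𝒜 𝒩 m, ⊤)) :
    SheafOfModules.ιFree σ ≫ gsMap 𝒜 𝒩 m =
      Groth.Agent.Lead.LocLift.homOfTop (GrTilde.tilde 𝒜 𝒩 m) σ :=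
  Sigma.ι_desc _ _

/-- the inclusion of a summand of the free module, as a morphism of `Scheme.Modules` -/
noncomputable def ιF (m : ℤ) (σ : Γ(GrTilde.tilde 𝒜 𝒩 m, ⊤)) :
    Coh.structureModule (Proj 𝒜) ⟶
      (SheafOfModules.free (Γ(GrTilde.tilde 𝒜 𝒩 m, ⊤)) : (Proj 𝒜).Modules) :=
  SheafOfModules.ιFree σ

lemma gsMap_app (m : ℤ) (σ : Γ(GrTilde.tilde 𝒜 𝒩 m, ⊤)) (W : (Proj 𝒜).Opens)
    (c : Γ(Proj 𝒜, W)) :
    Scheme.Modules.Hom.app (gsMap 𝒜 𝒩 m) W (Scheme.Modules.Hom.app (ιF 𝒜 𝒩 m σ) W c) =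
      c • (GrTilde.tilde 𝒜 𝒩 m).presheaf.map (homOfLE (le_top : W ≤ ⊤)).op σ := by
  have h1 : Scheme.Modules.Hom.app (gsMap 𝒜 𝒩 m) W (Scheme.Modules.Hom.app (ιF 𝒜 𝒩 m σ) W c) =
      Scheme.Modules.Hom.app (ιF 𝒜 𝒩 m σ ≫ gsMap 𝒜 𝒩 m) W c := rfl
  have h2 : ιF 𝒜 𝒩 m σ ≫ gsMap 𝒜 𝒩 m =
      Groth.Agent.Lead.LocLift.homOfTop (GrTilde.tilde 𝒜 𝒩 m) σ := ιFree_gsMap 𝒜 𝒩 m σ
  rw [h1, h2]
  exact Groth.Agent.Helper1.EpiDesc.homOfTop_app _ σ W c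

end Groth.Agent.Helper1.KzMult
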