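import Mathlib
import Groth.Agent.Helper1.KzGG

set_option autoImplicit false
set_option linter.unusedSectionVars false
set_option linter.style.haveILetI false

/-!
# `M(m)~` is globally generated as soon as `Γ(M(m+e)~) = A_e · Γ(M(m)~)` for all `e`
-/

namespace Groth.Agent.Helper1.KzMult

open CategoryTheory Limits AlgebraicGeometry TopologicalSpace Opposite
open Groth.Agent.Helper1.GrT Groth.Agent.Helper1.TildeMap Groth.Agent.Helper1.TildeFun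
  Groth.Agent.Helper1.TwistMul Groth.Agent.Helper1.ProjO Groth.Agent.Helper1.TwistEpi

universe u

variable {R A : Type u} [CommRing R] [CommRing A] [Algebra R A] (𝒜 : ℕ → Submodule R A)
  [GradedAlgebra 𝒜]
variable {N : Type u} [AddCommGroup N] [Module R N] [Module A N] [IsScalarTower R A N]
  (𝒩 : ℕ → Submodule R N) [DirectSum.Decomposition 𝒩] [SetLike.GradedSMul 𝒜 𝒩]

set_option maxHeartbeats 1000000 in
/-- **the canonical map from the free module on the global sections is an epimorphism** -/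
theorem epi_gsMap (m : ℤ)
    (hS : ∀ (e : ℕ) (s : ℤ) (_ : s = m + e) (t : Γ(GrTilde.tilde 𝒜 𝒩 s, ⊤)),
      t ∈ S 𝒜 𝒩 s m e) :
    Epi (gsMap 𝒜 𝒩 m) := by
  apply Groth.Agent.Helper1.TwistExact.epi_of_local_lift
  intro T t x hxT
  obtain ⟨d, f, hd, hf, hxf⟩ := exists_pos_deg_notMem 𝒜 x
  obtain ⟨e, i, h, m0, he, hh, hm0, hi, hhx, hsub, hval⟩ :=
    exists_local_frac 𝒜 𝒩 m (U := T) t hd f hf x hxT hxf
  have hWT : Proj.basicOpen 𝒜 h ≤ T := fun y hy => (hsub y hy).1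
  have hW : ∀ y : ProjectiveSpectrum.top 𝒜, y ∈ Proj.basicOpen 𝒜 h →
      h ∉ y.asHomogeneousIdeal := fun y hy => hy
  refine ⟨Proj.basicOpen 𝒜 h, hWT, hhx, ?_⟩
  have hie : (i : ℤ) = m + e := by omega
  -- key claim
  have key : ∀ τ : Γ(GrTilde.tilde 𝒜 𝒩 (i : ℤ), ⊤), τ ∈ S 𝒜 𝒩 (i : ℤ) m e →
      ∃ q : Γ((SheafOfModules.free (Γ(GrTilde.tilde 𝒜 𝒩 m, ⊤)) : (Proj 𝒜).Modules),
          Proj.basicOpen 𝒜 h),
        ∀ (z : ProjectiveSpectrum.top 𝒜) (hz : z ∈ Proj.basicOpen 𝒜 h),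
          h • val (𝒜 := 𝒜) (ℳ := 𝒩) (n := m) (U := Proj.basicOpen 𝒜 h)
            (Scheme.Modules.Hom.app (gsMap 𝒜 𝒩 m) (Proj.basicOpen 𝒜 h) q) z hz =
          val (𝒜 := 𝒜) (ℳ := 𝒩) (n := (i : ℤ)) (U := ⊤) τ z trivial := by
    intro τ hτ
    unfold S at hτ
    induction hτ using AddSubgroup.closure_induction with
    | mem τ hτ =>
      obtain ⟨a, ha, v, hv⟩ := hτ
      refine ⟨Scheme.Modules.Hom.app (ιF 𝒜 𝒩 m v) (Proj.basicOpen 𝒜 h)
        (frO 𝒜 (Proj.basicOpen 𝒜 h) a h ha hh hW), ?_⟩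
      intro z hz
      refine Eq.trans ?_ (hv z trivial).symm
      have h0 := gsMap_app 𝒜 𝒩 m v (Proj.basicOpen 𝒜 h) (frO 𝒜 (Proj.basicOpen 𝒜 h) a h ha hh hW)
      have h2 := val_smul 𝒜 𝒩 m (Proj.basicOpen 𝒜 h) (frO 𝒜 (Proj.basicOpen 𝒜 h) a h ha hh hW)
        ((GrTilde.tilde 𝒜 𝒩 m).presheaf.map (homOfLE (le_top :
          Proj.basicOpen 𝒜 h ≤ ⊤)).op v) z hz
      have h3 : (evO 𝒜 (Proj.basicOpen 𝒜 h) z hz
          (frO 𝒜 (Proj.basicOpen 𝒜 h) a h ha hh hW)).val = mkO z a h (hW z hz) :=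
        evO_frO 𝒜 _ _ _ _ _ _ z hz
      have h1 : val (𝒜 := 𝒜) (ℳ := 𝒩) (n := m) (U := Proj.basicOpen 𝒜 h)
          ((GrTilde.tilde 𝒜 𝒩 m).presheaf.map (homOfLE (le_top :
            Proj.basicOpen 𝒜 h ≤ ⊤)).op v) z hz =
          val (𝒜 := 𝒜) (ℳ := 𝒩) (n := m) (U := ⊤) v z trivial := rfl
      have h2' := h2.trans (congrArg₂ (fun a b => a • b) h3 h1)
      refine (congrArg (fun w => h • val (𝒜 := 𝒜) (ℳ := 𝒩) (n := m)
        (U := Proj.basicOpen 𝒜 h) w z hz) h0).trans ?_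
      refine (congrArg (fun w => h • w) h2').trans ?_
      exact smul_mkO_smul z a h _ _
    | zero =>
      refine ⟨0, fun z hz => ?_⟩
      rw [map_zero]
      exact smul_zero h
    | add τ τ' _ _ hq hq' =>
      obtain ⟨q, hq⟩ := hq
      obtain ⟨q', hq'⟩ := hq'
      refine ⟨q + q', fun z hz => ?_⟩
      rw [map_add]
      refine Eq.trans (smul_add h _ _) ?_
      exact congrArg₂ (· + ·) (hq z hz) (hq' z hz)
    | neg τ _ hq =>
      obtain ⟨q, hq⟩ := hq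
      refine ⟨-q, fun z hz => ?_⟩
      rw [map_neg]
      refine Eq.trans (smul_neg h _) ?_
      exact congrArg (fun w => -w) (hq z hz)
  obtain ⟨q, hq⟩ := key (gsecN 𝒜 𝒩 i m0 hm0) (hS e (i : ℤ) hie _)
  refine ⟨q, ?_⟩
  refine sect_ext (𝒜 := 𝒜) (ℳ := 𝒩) (n := m) (U := Proj.basicOpen 𝒜 h) _ _ (fun z hz => ?_)
  apply smul_injective z (hW z hz)
  show h • _ = h • _
  refine (hq z hz).trans ?_
  refine (val_gsecN 𝒜 𝒩 i m0 hm0 z trivial).trans ?_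
  exact (hval z (hWT hz) (hW z hz)).symm

/-- **global generation of `M(m)~`** -/
theorem isGloballyGenerated_tilde (m : ℤ)
    (hS : ∀ (e : ℕ) (s : ℤ) (_ : s = m + e) (t : Γ(GrTilde.tilde 𝒜 𝒩 s, ⊤)),
      t ∈ S 𝒜 𝒩 s m e) :
    Curv2.IsGloballyGenerated (GrTilde.tilde 𝒜 𝒩 m) :=
  ⟨_, gsMap 𝒜 𝒩 m, epi_gsMap 𝒜 𝒩 m hS⟩

end Groth.Agent.Helper1.KzMult
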