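import Mathlib
import Groth.Agent.Helper1.KzMain
import Groth.Agent.Helper1.SerreFin3

set_option autoImplicit false
set_option linter.unusedSectionVars false
set_option linter.style.haveILetI false

/-!
# The Koszul resolution on projective space: cohomological consequences
-/

namespace Groth.Agent.Helper1.KzPn

open CategoryTheory Limits AlgebraicGeometry TopologicalSpace Opposite MvPolynomial
open Groth.Agent.Helper1.KzMain Groth.Agent.Helper1.ProjTop Groth.Agent.Helper1.SerreFin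

universe u

variable (n : ℕ) (R : Type u) [CommRing R]

/-- the variables, indexed by `ℕ` -/
noncomputable def xs (j : ℕ) : MvPolynomial (Fin (n + 1)) R :=
  if h : j < n + 1 then X ⟨j, h⟩ else 0

lemma xs_mem (j : ℕ) : xs n R j ∈ CohB1.polyGrading n R 1 := by
  unfold xs
  split_ifs with h
  · exact X_mem n R ⟨j, h⟩
  · exact Submodule.zero_mem _

lemma xs_cov (y : ProjectiveSpectrum (CohB1.polyGrading n R)) :
    ∃ j, j < n + 1 ∧ xs n R j ∉ y.asHomogeneousIdeal := by
  have hy : y ∈ MVTop.Scup (V n R (Fin.last n)) (MVTop.initList (V n R)) := by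
    rw [Scup_eq_top]
    trivial
  obtain ⟨j, hj⟩ := (MVTop.mem_Scup_family (V n R) y).1 hy
  refine ⟨j.1, j.2, ?_⟩
  unfold xs
  rw [dif_pos j.2]
  exact hj

/-- a coherent module on `P^n_R` and all its twists are `M(s)~` for a graded module `M` -/
theorem exists_tilde_iso (F : (CohB1.ProjSpace n R).Modules) (hF : Coh.IsCoh F) :
    ∃ (N : Type u) (_ : AddCommGroup N) (_ : Module R N)
      (_ : Module (MvPolynomial (Fin (n + 1)) R) N)
      (_ : IsScalarTower R (MvPolynomial (Fin (n + 1)) R) N)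
      (𝒩 : ℕ → Submodule R N) (_ : DirectSum.Decomposition 𝒩)
      (_ : SetLike.GradedSMul (CohB1.polyGrading n R) 𝒩),
      Module.Finite (MvPolynomial (Fin (n + 1)) R) N ∧
      ∀ s : ℤ, Nonempty (CohB1.tensorMod F (Twist.twistProjSpace n R s) ≅
        GrTilde.tilde (CohB1.polyGrading n R) 𝒩 s) := by
  classical
  let s : Finset (MvPolynomial (Fin (n + 1)) R) :=
    Finset.univ.image (fun j : Fin (n + 1) => (X j : MvPolynomial (Fin (n + 1)) R))
  have hs1 : ∀ f ∈ s, f ∈ CohB1.polyGrading n R 1 := by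
    intro f hf
    obtain ⟨j, -, rfl⟩ := Finset.mem_image.1 hf
    exact X_mem n R j
  have hs : (HomogeneousIdeal.irrelevant (CohB1.polyGrading n R)).toIdeal =
      Ideal.span (s : Set (MvPolynomial (Fin (n + 1)) R)) := by
    have := Groth.Agent.Helper1.ProjVanish.irrelevant_eq_span_of_adjoin (CohB1.polyGrading n R)
      (fun j : Fin (n + 1) => (X j : MvPolynomial (Fin (n + 1)) R)) (X_mem n R)
      (MvPolynomial.adjoin_range_X)
    rw [this]
    congr 1
    ext f
    simp [s]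
  obtain ⟨N, i1, i2, i3, i4, 𝒩, i5, i6, hNfin, ⟨e⟩⟩ :=
    Groth.Agent.S3551.result (CohB1.polyGrading n R) s hs1 hs F hF.1 hF.2
  refine ⟨N, i1, i2, i3, i4, 𝒩, i5, i6, hNfin, fun t => ?_⟩
  obtain ⟨e2⟩ := Groth.Agent.Helper1.TwistMul.nonempty_tensor_twist_iso
    (CohB1.polyGrading n R) 𝒩 (hcov_poly n R) 0 t t (by ring)
  exact ⟨PicGrp.tensorModIso e.symm (Iso.refl _) ≪≫ e2⟩

/-- **the Koszul vanishing criterion** on `P^n_R`: `H^i(F(s)) = 0` as soon as
`H^{i+p}(F(s-p-1)) = 0` for `p = 0, …, n` -/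
theorem subsingleton_HH_of_koszul (F : (CohB1.ProjSpace n R).Modules) (hF : Coh.IsCoh F)
    (s : ℤ) (i : ℕ)
    (hvan : ∀ p : ℕ, p < n + 1 → Subsingleton (Coh.HH (CohB1.ProjSpace n R)
      (CohB1.tensorMod F (Twist.twistProjSpace n R (s - ((p + 1 : ℕ) : ℤ)))) (i + p))) :
    Subsingleton (Coh.HH (CohB1.ProjSpace n R)
      (CohB1.tensorMod F (Twist.twistProjSpace n R s)) i) := by
  obtain ⟨N, i1, i2, i3, i4, 𝒩, i5, i6, -, he⟩ := exists_tilde_iso n R F hF
  obtain ⟨e⟩ := he s
  haveI : Subsingleton (Coh.HH (CohB1.ProjSpace n R)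
      (GrTilde.tilde (CohB1.polyGrading n R) 𝒩 s) i) := by
    apply subsingleton_HH_tilde (CohB1.polyGrading n R) 𝒩 (xs n R) (xs_mem n R) (n + 1)
      (xs_cov n R) R s i
    intro p hp
    obtain ⟨e'⟩ := he (s - ((p + 1 : ℕ) : ℤ))
    haveI := hvan p hp
    exact (HHlinEquiv R (X := CohB1.ProjSpace n R) e' (i + p)).symm.toEquiv.subsingleton
  exact (HHlinEquiv R (X := CohB1.ProjSpace n R) e i).toEquiv.subsingleton

end Groth.Agent.Helper1.KzPn
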