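import Mathlib
import Groth.Agent.Helper1.KzPn
import Groth.Agent.Lead.QcohTensor
import Groth.Prelude.Def_Curv2

set_option autoImplicit false
set_option linter.unusedSectionVars false
set_option linter.style.haveILetI false

/-!
# Castelnuovo–Mumford regularity propagates (via the Koszul resolution, no hyperplane sections)
-/

namespace Groth.Agent.Helper1.KzReg

open CategoryTheory Limits AlgebraicGeometry TopologicalSpace Opposite MvPolynomial
open Groth.Agent.Helper1.KzPn Groth.Agent.Helper1.SerreFin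

universe u

variable (n : ℕ) (R : Type u) [CommRing R]

/-- twists of coherent modules are quasi-coherent -/
theorem isQCoh_twist (F : (CohB1.ProjSpace n R).Modules) (hF : Coh.IsCoh F) (d : ℤ) :
    Coh.IsQCoh (CohB1.tensorMod F (Twist.twistProjSpace n R d)) := by
  have hB := isCoh_twist n R d
  haveI : F.IsQuasicoherent := hF.1
  haveI : (Twist.twistProjSpace n R d).IsQuasicoherent := hB.1
  exact Groth.Agent.Lead.QcohTensor.isQuasicoherent_tensorMod F _

/-- vanishing above the dimension for twists -/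
theorem subsingleton_HH_twist_of_gt (F : (CohB1.ProjSpace n R).Modules) (hF : Coh.IsCoh F) (d : ℤ)
    (i : ℕ) (hi : n < i) :
    Subsingleton (Coh.HH (CohB1.ProjSpace n R)
      (CohB1.tensorMod F (Twist.twistProjSpace n R d)) i) := by
  haveI := isQCoh_twist n R F hF d
  exact Groth.Agent.S0022.result n R _ i hi

/-- `m`-regularity in the form: `H^i(F(m-i)) = 0` for all `i ≥ 1` -/
def IsReg (F : (CohB1.ProjSpace n R).Modules) (m : ℤ) : Prop :=
  ∀ i : ℕ, 1 ≤ i → Subsingleton (Coh.HH (CohB1.ProjSpace n R)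
    (CohB1.tensorMod F (Twist.twistProjSpace n R (m - i))) i)

/-- **`m`-regular implies `(m+1)`-regular** -/
theorem isReg_succ (F : (CohB1.ProjSpace n R).Modules) (hF : Coh.IsCoh F) (m : ℤ)
    (h : IsReg n R F m) : IsReg n R F (m + 1) := by
  intro i hi
  apply subsingleton_HH_of_koszul n R F hF (m + 1 - i) i
  intro p _
  have e : m + 1 - (i : ℤ) - ((p + 1 : ℕ) : ℤ) = m - ((i + p : ℕ) : ℤ) := by
    push_cast; ring
  rw [e]
  exact h (i + p) (by omega)

theorem isReg_add (F : (CohB1.ProjSpace n R).Modules) (hF : Coh.IsCoh F) (m : ℤ)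
    (h : IsReg n R F m) (k : ℕ) : IsReg n R F (m + k) := by
  induction k with
  | zero => simpa using h
  | succ k ih =>
    have := isReg_succ n R F hF _ ih
    have e : m + ((k + 1 : ℕ) : ℤ) = m + (k : ℤ) + 1 := by push_cast; ring
    rw [e]
    exact this

/-- regularity up to the dimension suffices -/
theorem isReg_of_le (F : (CohB1.ProjSpace n R).Modules) (hF : Coh.IsCoh F) (m : ℤ)
    (h : ∀ i : ℕ, 1 ≤ i → i ≤ n → Subsingleton (Coh.HH (CohB1.ProjSpace n R)
      (CohB1.tensorMod F (Twist.twistProjSpace n R (m - i))) i)) : IsReg n R F m := by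
  intro i hi
  by_cases hin : i ≤ n
  · exact h i hi hin
  · exact subsingleton_HH_twist_of_gt n R F hF _ i (by omega)

/-- **regularity propagates**: `H^i(F(r)) = 0` for `i ≥ 1`, `r ≥ m - i` -/
theorem subsingleton_HH_of_isReg (F : (CohB1.ProjSpace n R).Modules) (hF : Coh.IsCoh F) (m : ℤ)
    (h : IsReg n R F m) (i : ℕ) (hi : 1 ≤ i) (r : ℤ) (hr : m - i ≤ r) :
    Subsingleton (Coh.HH (CohB1.ProjSpace n R)
      (CohB1.tensorMod F (Twist.twistProjSpace n R r)) i) := by
  obtain ⟨k, hk⟩ : ∃ k : ℕ, r = m - i + k := ⟨(r - (m - i)).toNat, by omega⟩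
  have h1 := isReg_add n R F hF m h k i hi
  have e : m + (k : ℤ) - (i : ℤ) = r := by rw [hk]; ring
  rw [e] at h1
  exact h1

end Groth.Agent.Helper1.KzReg
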