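import Mathlib
import Groth.Agent.Helper1.KzMult3
import Groth.Agent.Helper1.KzReg
import Groth.Agent.Helper1.TwistIso

set_option autoImplicit false
set_option linter.unusedSectionVars false
set_option linter.style.haveILetI false

/-!
# Surjectivity of the multiplication maps `H⁰(F(d)) ⊗ H⁰(O(e)) → H⁰(F(d) ⊗ O(e))` for regular `F`
-/

namespace Groth.Agent.Helper1.KzMultPn

open CategoryTheory Limits AlgebraicGeometry TopologicalSpace Opposite MvPolynomial
open Groth.Agent.Helper1.KzPn Groth.Agent.Helper1.KzReg Groth.Agent.Helper1.KzMult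
  Groth.Agent.Helper1.ProjTop Groth.Agent.Helper1.SerreFin Groth.Agent.Helper4.TensorLift

universe u

variable (n : ℕ) (R : Type u) [CommRing R]

/-- **surjectivity of the multiplication map for an `m`-regular module, `d ≥ m`** -/
theorem surjective_toSheafify (F : (CohB1.ProjSpace n R).Modules) (hF : Coh.IsCoh F) (m d : ℤ)
    (hd : m ≤ d) (h : IsReg n R F m) (e : ℕ) :
    Function.Surjective
      ((toSheafify (Opens.grothendieckTopology (CohB1.ProjSpace n R))
        (CohB1.tensorPre (CohB1.tensorMod F (Twist.twistProjSpace n R d))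
          (Twist.twistProjSpace n R (e : ℤ))).presheaf).app (Opposite.op ⊤)) := by
  obtain ⟨N, i1, i2, i3, i4, 𝒩, i5, i6, -, he⟩ := exists_tilde_iso n R F hF
  obtain ⟨eF⟩ := he d
  have hS : ∀ t : Γ(GrTilde.tilde (CohB1.polyGrading n R) 𝒩 (d + e), ⊤),
      t ∈ S (CohB1.polyGrading n R) 𝒩 (d + e) d e := by
    apply mem_S (CohB1.polyGrading n R) 𝒩 (xs n R) (xs_mem n R) (n + 1) (xs_cov n R) R d e
      (d + e) rfl
    intro e' _ p _
    obtain ⟨e1⟩ := he (d + e' + 1 - ((p + 2 : ℕ) : ℤ))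
    obtain ⟨k', hk'⟩ : ∃ k' : ℕ, d + e' = m + k' := ⟨(d + e' - m).toNat, by omega⟩
    have h1 := isReg_add n R F hF m h k' (p + 1) (by omega)
    have e2 : m + (k' : ℤ) - ((p + 1 : ℕ) : ℤ) = d + e' + 1 - ((p + 2 : ℕ) : ℤ) := by
      rw [← hk']; push_cast; ring
    rw [e2] at h1
    exact (HHlinEquiv R (X := CohB1.ProjSpace n R) e1 (p + 1)).symm.toEquiv.subsingleton
  intro σ
  obtain ⟨z, hz⟩ := exists_tt_eq (CohB1.polyGrading n R) 𝒩 (hcov_poly n R)
    (CohB1.tensorMod F (Twist.twistProjSpace n R d)) (Twist.twistProjSpace n R (e : ℤ))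
    d (d + e) e rfl eF
    (Groth.Agent.Helper1.TwistIso.twistIsoTilde (CohB1.polyGrading n R) (e : ℤ)) hS σ
  exact ⟨z, hz⟩

end Groth.Agent.Helper1.KzMultPn
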