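import Mathlib
import Groth.Agent.Helper1.KzGG2
import Groth.Agent.Helper1.KzMultPn
import Groth.Agent.Helper4.CounitEpi

set_option autoImplicit false
set_option linter.unusedSectionVars false
set_option linter.style.haveILetI false

/-!
# An `m`-regular coherent module on `P^n_R` has `F(d)` globally generated for `d ≥ m`
-/

namespace Groth.Agent.Helper1.KzMultPn

open CategoryTheory Limits AlgebraicGeometry TopologicalSpace Opposite MvPolynomial
open Groth.Agent.Helper1.KzPn Groth.Agent.Helper1.KzReg Groth.Agent.Helper1.KzMult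
  Groth.Agent.Helper1.ProjTop Groth.Agent.Helper1.SerreFin

universe u

variable (n : ℕ) (R : Type u) [CommRing R]

/-- the generation statement `Γ(M(d+e)~) = A_e · Γ(M(d)~)` for the graded module of an
`m`-regular coherent module, `d ≥ m` -/
theorem mem_S_of_isReg (F : (CohB1.ProjSpace n R).Modules) (hF : Coh.IsCoh F) (m : ℤ)
    (h : IsReg n R F m)
    {N : Type u} [AddCommGroup N] [Module R N] [Module (MvPolynomial (Fin (n + 1)) R) N]
    [IsScalarTower R (MvPolynomial (Fin (n + 1)) R) N]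
    (𝒩 : ℕ → Submodule R N) [DirectSum.Decomposition 𝒩]
    [SetLike.GradedSMul (CohB1.polyGrading n R) 𝒩]
    (he : ∀ s : ℤ, Nonempty (CohB1.tensorMod F (Twist.twistProjSpace n R s) ≅
        GrTilde.tilde (CohB1.polyGrading n R) 𝒩 s))
    (d : ℤ) (hd : m ≤ d) (e : ℕ) (s : ℤ) (hs : s = d + e)
    (t : Γ(GrTilde.tilde (CohB1.polyGrading n R) 𝒩 s, ⊤)) :
    t ∈ S (CohB1.polyGrading n R) 𝒩 s d e := by
  apply mem_S (CohB1.polyGrading n R) 𝒩 (xs n R) (xs_mem n R) (n + 1) (xs_cov n R) R d e s hs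
  intro e' _ p _
  obtain ⟨e1⟩ := he (d + e' + 1 - ((p + 2 : ℕ) : ℤ))
  obtain ⟨k', hk'⟩ : ∃ k' : ℕ, d + e' = m + k' := ⟨(d + e' - m).toNat, by omega⟩
  have h1 := isReg_add n R F hF m h k' (p + 1) (by omega)
  have e2 : m + (k' : ℤ) - ((p + 1 : ℕ) : ℤ) = d + e' + 1 - ((p + 2 : ℕ) : ℤ) := by
    rw [← hk']; push_cast; ring
  rw [e2] at h1
  exact (HHlinEquiv R (X := CohB1.ProjSpace n R) e1 (p + 1)).symm.toEquiv.subsingleton

/-- **Mumford: an `m`-regular coherent module has `F(d)` globally generated for `d ≥ m`** -/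
theorem isGloballyGenerated_of_isReg (F : (CohB1.ProjSpace n R).Modules) (hF : Coh.IsCoh F)
    (m d : ℤ) (hd : m ≤ d) (h : IsReg n R F m) :
    Curv2.IsGloballyGenerated (CohB1.tensorMod F (Twist.twistProjSpace n R d)) := by
  obtain ⟨N, i1, i2, i3, i4, 𝒩, i5, i6, -, he⟩ := exists_tilde_iso n R F hF
  obtain ⟨eF⟩ := he d
  refine Groth.Agent.Helper4.CounitEpi.isGloballyGenerated_of_iso eF.symm ?_
  apply isGloballyGenerated_tilde (CohB1.polyGrading n R) 𝒩 d
  intro e s hs t
  exact mem_S_of_isReg n R F hF m h 𝒩 he d hd e s hs t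

end Groth.Agent.Helper1.KzMultPn
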