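import Mathlib
import Groth.Agent.Helper1.KzMult
import Groth.Agent.Helper1.EpiDesc
import Groth.Prelude.Def_Curv2

set_option autoImplicit false
set_option linter.unusedSectionVars false
set_option linter.style.haveILetI false

/-!
# Generation by finitely many global sections
-/

namespace Groth.Agent.Helper1.KzLin

open CategoryTheory Limits AlgebraicGeometry TopologicalSpace Opposite
open Groth.Agent.Lead.LocLift

universe u

variable {X : Scheme.{u}}

/-- composing the morphism of a global section with a morphism of modules -/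
theorem homOfTop_comp {N Q : X.Modules} (t : Γ(N, ⊤)) (g : N ⟶ Q) :
    homOfTop N t ≫ g = homOfTop Q (g.app ⊤ t) := by
  apply hom_unit_ext
  rw [homOfTop_app_one]
  have h1 : (homOfTop N t ≫ g).app ⊤ (1 : Γ(X, ⊤)) = g.app ⊤ ((homOfTop N t).app ⊤ (1 : Γ(X, ⊤))) := rfl
  rw [h1, homOfTop_app_one]

theorem homOfTop_zero (Q : X.Modules) : homOfTop Q (0 : Γ(Q, ⊤)) = 0 := by
  apply hom_unit_ext
  rw [homOfTop_app_one]
  rfl

/-- the inclusion of a summand of a free module, as a morphism of `Scheme.Modules` -/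
noncomputable def ιF (ι : Type u) (i : ι) :
    Coh.structureModule X ⟶ (SheafOfModules.free ι : X.Modules) :=
  SheafOfModules.ιFree i

theorem free_hom_ext_zero {ι : Type u} {Q : X.Modules}
    (f : (SheafOfModules.free ι : X.Modules) ⟶ Q) (h : ∀ i, ιF ι i ≫ f = 0) : f = 0 := by
  refine (SheafOfModules.isColimitFreeCofan (R := X.ringCatSheaf) ι).hom_ext (fun ⟨i⟩ => ?_)
  exact (h i).trans comp_zero.symm

/-- the morphism `O^b ⟶ M` given by `b` global sections -/
noncomputable def secMap (M : X.Modules) {b : ℕ} (σ : Fin b → Γ(M, ⊤)) :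
    (∐ fun _ : Fin b => Coh.structureModule X) ⟶ M :=
  Sigma.desc (fun j => homOfTop M (σ j))

theorem ι_secMap (M : X.Modules) {b : ℕ} (σ : Fin b → Γ(M, ⊤)) (j : Fin b) :
    Sigma.ι (fun _ : Fin b => Coh.structureModule X) j ≫ secMap M σ = homOfTop M (σ j) :=
  Sigma.ι_desc _ _

/-- if finitely many global sections span all global sections, then the corresponding morphism
`O^b ⟶ M` is surjective on global sections -/
theorem secMap_app_top_surjective (M : X.Modules) {b : ℕ} (σ : Fin b → Γ(M, ⊤))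
    (hspan : ∀ t : Γ(M, ⊤), ∃ c : Fin b → Γ(X, ⊤), t = ∑ j, c j • σ j) :
    Function.Surjective ((secMap M σ).app ⊤) := by
  intro t
  obtain ⟨c, rfl⟩ := hspan t
  refine ⟨∑ j, (Sigma.ι (fun _ : Fin b => Coh.structureModule X) j).app ⊤ (c j), ?_⟩
  rw [map_sum]
  refine Finset.sum_congr rfl (fun j _ => ?_)
  have h1 : (secMap M σ).app ⊤ ((Sigma.ι (fun _ : Fin b => Coh.structureModule X) j).app ⊤ (c j)) =
      (Sigma.ι (fun _ : Fin b => Coh.structureModule X) j ≫ secMap M σ).app ⊤ (c j) := rfl
  rw [h1, ι_secMap, Groth.Agent.Helper1.EpiDesc.homOfTop_app]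
  congr 1
  change M.presheaf.map (𝟙 _) (σ j) = σ j
  simp

/-- a globally generated module whose global sections are spanned by finitely many of them is
generated by these -/
theorem epi_secMap (M : X.Modules) (hM : Curv2.IsGloballyGenerated M) {b : ℕ}
    (σ : Fin b → Γ(M, ⊤))
    (hspan : ∀ t : Γ(M, ⊤), ∃ c : Fin b → Γ(X, ⊤), t = ∑ j, c j • σ j) :
    Epi (secMap M σ) := by
  obtain ⟨ι, p, hp⟩ := hM
  apply Preadditive.epi_of_cancel_zero
  intro Q g hg
  -- `g` kills the `σ j`
  have h1 : ∀ j, g.app ⊤ (σ j) = 0 := by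
    intro j
    have h2 : homOfTop M (σ j) ≫ g = 0 := by
      rw [← ι_secMap, Category.assoc, hg, comp_zero]
    rw [homOfTop_comp] at h2
    have h3 := congrArg (fun φ : Coh.structureModule X ⟶ Q =>
      (Scheme.Modules.Hom.app φ ⊤) (1 : Γ(X, ⊤))) h2
    simp only [homOfTop_app_one] at h3
    exact h3
  -- hence all global sections
  have h4 : ∀ t : Γ(M, ⊤), g.app ⊤ t = 0 := by
    intro t
    obtain ⟨c, rfl⟩ := hspan t
    rw [map_sum]
    refine Finset.sum_eq_zero (fun j _ => ?_)
    have h5 : g.app ⊤ (c j • σ j) = c j • g.app ⊤ (σ j) :=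
      Scheme.Modules.Hom.app_smul g (c j) (σ j)
    rw [h5, h1, smul_zero]
  -- hence `p ≫ g = 0`
  have h6 : p ≫ g = 0 := by
    apply free_hom_ext_zero
    intro i
    have h7 : ιF ι i ≫ p = homOfTop M ((ιF ι i ≫ p).app ⊤ (1 : Γ(X, ⊤))) := by
      apply hom_unit_ext
      rw [homOfTop_app_one]
    refine (Category.assoc _ _ _).symm.trans ?_
    refine (congrArg (fun q => q ≫ g) h7).trans ?_
    refine (homOfTop_comp _ g).trans ?_
    rw [h4]
    exact homOfTop_zero Q
  exact (cancel_epi p).1 (h6.trans comp_zero.symm)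

end Groth.Agent.Helper1.KzLin
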