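import Mathlib
import Groth.Agent.Helper1.KzLin1

set_option autoImplicit false
set_option linter.unusedSectionVars false
set_option linter.style.haveILetI false

/-!
# `H⁰` versus global sections: surjectivity and finite generation
-/

namespace Groth.Agent.Helper1.KzLin

open CategoryTheory Limits AlgebraicGeometry TopologicalSpace Opposite
open Groth.Agent.Lead.LocLift

universe u

variable (B : Type u) [CommRing B] {X : Scheme.{u}} [X.Over (Spec (CommRingCat.of B))]

/-- surjectivity on global sections gives surjectivity on `H⁰` -/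
theorem surjective_HHlin_of_app_top {F G : X.Modules} (φ : F ⟶ G)
    (h : Function.Surjective (φ.app ⊤)) : Function.Surjective (Canon.HHlin B φ 0) := by
  intro y
  let F' := (SheafOfModules.toSheaf X.ringCatSheaf).obj F
  let G' := (SheafOfModules.toSheaf X.ringCatSheaf).obj G
  let φ' : F' ⟶ G' := (SheafOfModules.toSheaf X.ringCatSheaf).map φ
  obtain ⟨t, ht⟩ := h (Sheaf.H.equiv₀ G' isTerminalTop y)
  refine ⟨(Sheaf.H.equiv₀ F' isTerminalTop).symm t, ?_⟩
  have h1 := Sheaf.H.equiv₀_symm_naturality (F := F') (G := G') isTerminalTop φ' t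
  have h2 : φ'.hom.app (op ⊤) t = Sheaf.H.equiv₀ G' isTerminalTop y := ht
  rw [h2, AddEquiv.symm_apply_apply] at h1
  exact h1

/-- the comparison `H⁰ ≃ Γ(⊤)` is compatible with multiplication by global functions -/
theorem equiv₀_smul (M : X.Modules) (r : Coh.Γtop X) (x : Coh.HH X M 0) :
    Sheaf.H.equiv₀ ((SheafOfModules.toSheaf X.ringCatSheaf).obj M) isTerminalTop (r • x) =
      @HSMul.hSMul Γ(X, ⊤) Γ(M, ⊤) Γ(M, ⊤) _ r
        (Sheaf.H.equiv₀ ((SheafOfModules.toSheaf X.ringCatSheaf).obj M) isTerminalTop x) := by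
  have h1 := Sheaf.H.equiv₀_naturality (F := (SheafOfModules.toSheaf X.ringCatSheaf).obj M)
    (G := (SheafOfModules.toSheaf X.ringCatSheaf).obj M) isTerminalTop (Coh.smulAb M r) x
  refine h1.symm.trans ?_
  rw [Coh.smulAb_app]
  congr 1
  change (X.ringCatSheaf.obj.map (𝟙 _)).hom r = r
  simp

/-- if `H⁰(X, M)` is a finite module over the base ring, finitely many global sections span all
global sections over the global functions -/
theorem exists_span_of_finite (M : X.Modules) [Module.Finite B (Coh.HH X M 0)] :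
    ∃ (b : ℕ) (σ : Fin b → Γ(M, ⊤)), ∀ t : Γ(M, ⊤), ∃ c : Fin b → Γ(X, ⊤), t = ∑ j, c j • σ j := by
  obtain ⟨b, s, hs⟩ := Module.Finite.exists_fin (R := B) (M := Coh.HH X M 0)
  let e := Sheaf.H.equiv₀ ((SheafOfModules.toSheaf X.ringCatSheaf).obj M) isTerminalTop
  refine ⟨b, fun j => e (s j), fun t => ?_⟩
  have h1 : e.symm t ∈ Submodule.span B (Set.range s) := by rw [hs]; trivial
  obtain ⟨a, ha⟩ := (Submodule.mem_span_range_iff_exists_fun B).1 h1
  refine ⟨fun j => Coh.toGlobal (X ↘ Spec (CommRingCat.of B)) (a j), ?_⟩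
  have h2 : t = e (∑ j, a j • s j) := by rw [ha, AddEquiv.apply_symm_apply]
  rw [h2, map_sum]
  refine Finset.sum_congr rfl (fun j _ => ?_)
  exact equiv₀_smul M (Coh.toGlobal (X ↘ Spec (CommRingCat.of B)) (a j)) (s j)

end Groth.Agent.Helper1.KzLin
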