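import Mathlib
import Groth.Agent.Helper1.KzLin2
import Groth.Agent.Helper1.KzGGPn
import Groth.Agent.Helper1.SerreVan
import Groth.Agent.Helper1.TwistMul6
import Groth.Agent.Helper4.AmpleBasis

set_option autoImplicit false
set_option linter.unusedSectionVars false
set_option linter.style.haveILetI false

/-!
# Utilities on twists on `P^n_R`
-/

namespace Groth.Agent.Helper1.KzLin

open CategoryTheory Limits AlgebraicGeometry TopologicalSpace Opposite
open Groth.Agent.Helper1.SerreFin Groth.Agent.Helper1.SerreVan Groth.Agent.Helper1.ProjTop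
  Groth.Agent.Helper1.TwistExact

universe u

variable (n : ℕ) (R : Type u) [CommRing R]

local notation "𝕆(" d ")" => Twist.twistProjSpace n R d

/-- `(M ⊗ O(a)) ⊗ O(b) ≅ M ⊗ O(a+b)` -/
theorem tw_tw_iso (M : (CohB1.ProjSpace n R).Modules) (a b c : ℤ) (h : c = a + b) :
    Nonempty (CohB1.tensorMod (CohB1.tensorMod M 𝕆(a)) 𝕆(b) ≅ CohB1.tensorMod M 𝕆(c)) := by
  obtain ⟨e⟩ := Groth.Agent.Helper1.TwistMul.nonempty_twist_tensor_twist_iso
    (CohB1.polyGrading n R) (hcov_poly n R) a b c h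
  exact ⟨Groth.Agent.Helper4.TensorAssoc.assocIso M _ _ (isInvertible_twist n R a)
    (isInvertible_twist n R b) ≪≫ PicGrp.tensorModIso (Iso.refl M) e⟩

/-- `O(0) ≅ O` -/
theorem tw_zero : Nonempty (𝕆(0) ≅ Coh.structureModule (CohB1.ProjSpace n R)) :=
  Groth.Agent.Helper1.TwistMul.nonempty_twist_zero_iso (CohB1.polyGrading n R)

/-- `M ⊗ O(0) ≅ M` -/
theorem tw_zero_iso (M : (CohB1.ProjSpace n R).Modules) :
    Nonempty (CohB1.tensorMod M 𝕆(0) ≅ M) := by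
  obtain ⟨e⟩ := tw_zero n R
  exact ⟨PicGrp.tensorModIso (Iso.refl M) e ≪≫ SecTwist.unitorR M⟩

/-- `O^b ⊗ O(a) ≅ O(a)^b` -/
theorem sigmaO_tw_iso (b : ℕ) (a : ℤ) :
    Nonempty (CohB1.tensorMod (∐ fun _ : Fin b => Coh.structureModule (CohB1.ProjSpace n R)) 𝕆(a) ≅
      ∐ fun _ : Fin b => 𝕆(a)) := by
  obtain ⟨e⟩ := nonempty_sigma_tensor_iso
    (fun _ : Fin b => Coh.structureModule (CohB1.ProjSpace n R)) 𝕆(a)
  exact ⟨e ≪≫ Sigma.mapIso (fun _ => Groth.Agent.Helper4.AmpleBasis.unitorL 𝕆(a))⟩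

/-- `O(c)^b ⊗ O(a) ≅ O(c + a)^b` -/
theorem sigmaTw_tw_iso (b : ℕ) (c a d : ℤ) (h : d = c + a) :
    Nonempty (CohB1.tensorMod (∐ fun _ : Fin b => 𝕆(c)) 𝕆(a) ≅ ∐ fun _ : Fin b => 𝕆(d)) := by
  obtain ⟨e⟩ := nonempty_sigma_tensor_iso (fun _ : Fin b => 𝕆(c)) 𝕆(a)
  obtain ⟨e'⟩ := Groth.Agent.Helper1.TwistMul.nonempty_twist_tensor_twist_iso
    (CohB1.polyGrading n R) (hcov_poly n R) c a d h
  exact ⟨e ≪≫ Sigma.mapIso (fun _ => e')⟩

/-- the higher cohomology of `O(d)^b` vanishes for `d > -(n+1)` -/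
theorem subsingleton_HH_sigmaTw (b : ℕ) (d : ℤ) (i : ℕ) (hi : 1 ≤ i) (hd : -((n : ℤ) + 1) < d) :
    Subsingleton (Coh.HH (CohB1.ProjSpace n R) (∐ fun _ : Fin b => 𝕆(d)) i) := by
  apply subsingleton_HH_sigma
  intro _
  exact subsingleton_HH_twist n R d i hi hd

/-- the higher cohomology of `O^b` vanishes -/
theorem subsingleton_HH_sigmaO (b : ℕ) (i : ℕ) (hi : 1 ≤ i) :
    Subsingleton (Coh.HH (CohB1.ProjSpace n R)
      (∐ fun _ : Fin b => Coh.structureModule (CohB1.ProjSpace n R)) i) := by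
  apply subsingleton_HH_sigma
  intro _
  obtain ⟨e⟩ := tw_zero n R
  haveI := subsingleton_HH_twist n R 0 i hi (by omega)
  exact (HHlinEquiv R (X := CohB1.ProjSpace n R) e i).symm.toEquiv.subsingleton

/-- coherence of twists -/
theorem isCoh_tw (F : (CohB1.ProjSpace n R).Modules) (hF : Coh.IsCoh F) (d : ℤ) :
    Coh.IsCoh (CohB1.tensorMod F 𝕆(d)) := by
  have hB := isCoh_twist n R d
  haveI : F.IsQuasicoherent := hF.1
  haveI : (Twist.twistProjSpace n R d).IsQuasicoherent := hB.1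
  exact ⟨Groth.Agent.Lead.QcohTensor.isQuasicoherent_tensorMod F _,
    Groth.Agent.Lead.QcohTensor.isFT_tensorMod F _ hF.2 hB.2⟩

end Groth.Agent.Helper1.KzLin
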