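import Mathlib
import Groth.Agent.Helper4.TensorAssoc

set_option autoImplicit false
set_option linter.unusedSectionVars false
set_option linter.style.haveILetI false

/-!
# Tensoring with a frame of an invertible module is bijective on sections
-/

namespace Groth.Agent.Helper1.PF

open CategoryTheory Limits AlgebraicGeometry TopologicalSpace Opposite TensorProduct
open Groth.Agent.Helper4.TensorLift Groth.Agent.Helper4.TwistExt Groth.Agent.Helper4.TensorAssoc
  Groth.Agent.Helper4.GenLoc

universe u

variable {Z : Scheme.{u}}

section Coord

variable {B : Z.Modules} {T : Z.Opens} {e : Γ(B, T)} (hfr : IsFrame B T e) {V : Z.Opens}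
  (hV : V ≤ T)

include hfr in
theorem frame_smul_inj (r r' : Γ(Z, V))
    (h : r • B.presheaf.map (homOfLE hV).op e = r' • B.presheaf.map (homOfLE hV).op e) :
    r = r' := by
  have h1 : (r - r') • B.presheaf.map (homOfLE hV).op e = 0 := by
    rw [sub_smul, h, sub_self]
  exact sub_eq_zero.1 ((hfr V hV).2 _ h1)

/-- the coordinate of a section with respect to a frame -/
noncomputable def coord (b : Γ(B, V)) : Γ(Z, V) := Classical.choose ((hfr V hV).1 b)

theorem coord_spec (b : Γ(B, V)) :
    b = coord hfr hV b • B.presheaf.map (homOfLE hV).op e :=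
  Classical.choose_spec ((hfr V hV).1 b)

theorem coord_add (b b' : Γ(B, V)) : coord hfr hV (b + b') = coord hfr hV b + coord hfr hV b' := by
  apply frame_smul_inj hfr hV
  rw [← coord_spec, add_smul, ← coord_spec, ← coord_spec]

theorem coord_smul (r : Γ(Z, V)) (b : Γ(B, V)) :
    coord hfr hV (r • b) = r * coord hfr hV b := by
  apply frame_smul_inj hfr hV
  rw [← coord_spec, mul_smul, ← coord_spec]

theorem coord_frame : coord hfr hV (B.presheaf.map (homOfLE hV).op e) = 1 := by
  apply frame_smul_inj hfr hV
  rw [← coord_spec, one_smul]

theorem coord_zero : coord hfr hV (0 : Γ(B, V)) = 0 := by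
  apply frame_smul_inj hfr hV
  rw [← coord_spec, zero_smul]

end Coord

variable (A B : Z.Modules) (T : Z.Opens)
  (e : Γ(B, T)) (hfr : IsFrame B T e) {V : Z.Opens} (hV : V ≤ T)

include hfr in
/-- every element of the presheaf tensor product over a small open is a pure tensor with the
frame -/
theorem exists_pure_frame (x : TT A B V) :
    ∃ a : Γ(A, V), x = pure A B V a (B.presheaf.map (homOfLE hV).op e) := by
  induction x using TensorProduct.induction_on with
  | zero =>
    refine ⟨0, ?_⟩
    exact (TensorProduct.zero_tmul (R := RR Z V) (SS A V) (N := SS B V)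
      (B.presheaf.map (homOfLE hV).op e)).symm
  | tmul a b =>
    refine ⟨coord hfr hV b • (show Γ(A, V) from a), ?_⟩
    rw [pure_smul_left, ← pure_smul_right, ← coord_spec hfr hV b]
    rfl
  | add x y hx hy =>
    obtain ⟨a, rfl⟩ := hx
    obtain ⟨a', rfl⟩ := hy
    exact ⟨a + a', (pure_add_left A B _ a a' _).symm⟩

/-- the contraction `a ⊗ b ↦ coord(b) • a` -/
noncomputable def contract : TT A B V →+ Γ(A, V) :=
  TensorProduct.liftAddHom (R := RR Z V) (M := SS A V) (N := SS B V)
    { toFun := fun a =>
        { toFun := fun b => (coord hfr hV b • (show Γ(A, V) from a) : Γ(A, V))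
          map_zero' := by
            show coord hfr hV (0 : Γ(B, V)) • (show Γ(A, V) from a) = 0
            rw [coord_zero, zero_smul]
          map_add' := fun b b' => by
            show coord hfr hV ((show Γ(B, V) from b) + (show Γ(B, V) from b')) •
              (show Γ(A, V) from a) = _
            rw [coord_add, add_smul] }
      map_zero' := by
        ext b
        show coord hfr hV (show Γ(B, V) from b) • (0 : Γ(A, V)) = 0
        rw [smul_zero]
      map_add' := fun a a' => by
        ext b
        show coord hfr hV (show Γ(B, V) from b) •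
          ((show Γ(A, V) from a) + (show Γ(A, V) from a')) = _
        rw [smul_add]
        rfl }
    (by
      intro r a b
      show coord hfr hV (show Γ(B, V) from b) • ((show Γ(Z, V) from r) • (show Γ(A, V) from a)) =
        coord hfr hV ((show Γ(Z, V) from r) • (show Γ(B, V) from b)) • (show Γ(A, V) from a)
      rw [coord_smul, smul_smul, mul_comm])

theorem contract_pure (a : Γ(A, V)) (b : Γ(B, V)) :
    contract A B T e hfr hV (pure A B V a b) = coord hfr hV b • a := rfl

include hfr in
/-- **tensoring with a frame is bijective on sections over small opens** -/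
theorem tmul_frame_bijective (T₁ : Z.Opens)
    (ε : B.restrict T₁.ι ≅ Coh.structureModule (T₁ : Scheme.{u})) (hV₁ : V ≤ T₁) :
    Function.Bijective (fun a : Γ(A, V) =>
      SecTwist.tmul A B V a (B.presheaf.map (homOfLE hV).op e)) := by
  have htt := tt_bijective_of_le A B T₁ ε hV₁
  constructor
  · intro a a' h
    have h1 : pure A B V a (B.presheaf.map (homOfLE hV).op e) =
        pure A B V a' (B.presheaf.map (homOfLE hV).op e) := htt.1 h
    have h2 := congrArg (contract A B T e hfr hV) h1
    rw [contract_pure, contract_pure, coord_frame, one_smul, one_smul] at h2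
    exact h2
  · intro σ
    obtain ⟨x, rfl⟩ := htt.2 σ
    obtain ⟨a, rfl⟩ := exists_pure_frame A B T e hfr hV x
    exact ⟨a, rfl⟩

end Groth.Agent.Helper1.PF
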