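import Mathlib
import Groth.Agent.Helper1.PF1
import Groth.Agent.Helper4.PullTensor
import Groth.Agent.Helper4.AffineIso

set_option autoImplicit false
set_option linter.unusedSectionVars false
set_option linter.style.haveILetI false

/-!
# The projection formula `f_* F ⊗ L ≅ f_* (F ⊗ f^* L)` for an invertible module `L`
-/

namespace Groth.Agent.Helper1.PF

open CategoryTheory Limits AlgebraicGeometry TopologicalSpace Opposite
open Groth.Agent.Helper4.TensorLift Groth.Agent.Helper4.TwistExt Groth.Agent.Helper4.TensorAssoc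
  Groth.Agent.Helper4.GenLoc Groth.Agent.Helper4.PullTensor Groth.Agent.Helper4.PullMate
  Groth.Agent.Helper4.PullUnit

universe u

variable {X Y : Scheme.{u}} (f : X ⟶ Y) (F : X.Modules) (L : Y.Modules)

/-- the projection morphism -/
noncomputable def projMap :
    CohB1.tensorMod ((Scheme.Modules.pushforward f).obj F) L ⟶
      (Scheme.Modules.pushforward f).obj (CohB1.tensorMod F ((Scheme.Modules.pullback f).obj L)) :=
  pushTensor f (𝟙 ((Scheme.Modules.pushforward f).obj F)) (η f L)

theorem projMap_tmul (V : Y.Opens) (a : Γ((Scheme.Modules.pushforward f).obj F, V)) (b : Γ(L, V)) :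
    (projMap f F L).app V (SecTwist.tmul _ L V a b) =
      SecTwist.tmul F ((Scheme.Modules.pullback f).obj L) (f ⁻¹ᵁ V) a ((η f L).app V b) :=
  pushTensor_tmul f _ _ V a b

theorem IsFrame.res {Z : Scheme.{u}} {B : Z.Modules} {T T₃ : Z.Opens} {e : Γ(B, T)}
    (h : IsFrame B T e) (h₃ : T₃ ≤ T) : IsFrame B T₃ (B.presheaf.map (homOfLE h₃).op e) := by
  intro V hV
  have h1 := h V (hV.trans h₃)
  have h2 : B.presheaf.map (homOfLE hV).op (B.presheaf.map (homOfLE h₃).op e) =
      B.presheaf.map (homOfLE (hV.trans h₃)).op e := map_map_eq B _ _ _ e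
  rw [h2]
  exact h1

end Groth.Agent.Helper1.PF
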