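import Mathlib
import Groth.Agent.Helper1.PF2

set_option autoImplicit false
set_option linter.unusedSectionVars false
set_option linter.style.haveILetI false

/-!
# The projection formula: frames of the pullback
-/

namespace Groth.Agent.Helper1.PF

open CategoryTheory Limits AlgebraicGeometry TopologicalSpace Opposite
open Groth.Agent.Helper4.TensorLift Groth.Agent.Helper4.TwistExt Groth.Agent.Helper4.TensorAssoc
  Groth.Agent.Helper4.GenLoc Groth.Agent.Helper4.PullTensor Groth.Agent.Helper4.PullMate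
  Groth.Agent.Helper4.PullUnit

universe u

variable {X Y : Scheme.{u}} (f : X ⟶ Y) (L : Y.Modules)

set_option maxHeartbeats 1000000 in
/-- compatible frames of `L` over `T` and of `f^* L` over `f⁻¹ T` -/
theorem exists_frames (T : Y.Opens) (ε : L.restrict T.ι ≅ Coh.structureModule (T : Scheme.{u})) :
    ∃ (T₂ : Y.Opens) (e : Γ(L, T₂)) (T₂' : X.Opens)
      (e' : Γ((Scheme.Modules.pullback f).obj L, T₂')),
      T ≤ T₂ ∧ IsFrame L T₂ e ∧ f ⁻¹ᵁ T ≤ T₂' ∧
      IsFrame ((Scheme.Modules.pullback f).obj L) T₂' e' ∧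
      ∀ (V : Y.Opens) (hV : V ≤ T₂) (hV' : f ⁻¹ᵁ V ≤ T₂'),
        (η f L).app V (L.presheaf.map (homOfLE hV).op e) =
          ((Scheme.Modules.pullback f).obj L).presheaf.map (homOfLE hV').op e' := by
  -- the opens
  set O₃ : ((f ⁻¹ᵁ T : X.Opens) : Scheme.{u}).Opens :=
    (f ∣_ T) ⁻¹ᵁ (T.ι ⁻¹ᵁ (T.ι ''ᵁ ⊤)) with hO₃
  have hO₃top : O₃ = ⊤ := preimage_eq_top f T
  have hle₃ : (f ⁻¹ᵁ T).ι ''ᵁ O₃ ≤ (f ⁻¹ᵁ T).ι ''ᵁ ⊤ := by
    rw [hO₃top]
  -- the frame of the pullback over the full preimage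
  have hfr₁ := isFrame_of_triv ((Scheme.Modules.pullback f).obj L) (f ⁻¹ᵁ T)
    (frameIso f T L ε).symm
  have hfr₂ := IsFrame.res hfr₁ hle₃
  -- it restricts to the evaluation of `frameIso` on `O₃`
  have hres : ((Scheme.Modules.pullback f).obj L).presheaf.map (homOfLE hle₃).op
      ((frameIso f T L ε).symm.inv.app ⊤ (one _ ⊤)) =
      (frameIso f T L ε).hom.app O₃ (one _ O₃) := by
    have h1 := Groth.Agent.Helper4.StalkExact.app_res (frameIso f T L ε).hom
      (homOfLE (le_top : O₃ ≤ ⊤)) (one _ ⊤)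
    have h2 : (Coh.structureModule ((f ⁻¹ᵁ T : X.Opens) : Scheme.{u})).presheaf.map
        (homOfLE (le_top : O₃ ≤ ⊤)).op (one _ ⊤) = one _ O₃ :=
      map_one (((f ⁻¹ᵁ T : X.Opens) : Scheme.{u}).presheaf.map (homOfLE (le_top : O₃ ≤ ⊤)).op).hom
    rw [h2] at h1
    rw [h1]
    rfl
  rw [hres] at hfr₂
  refine ⟨T.ι ''ᵁ ⊤, frameSec T L ε, (f ⁻¹ᵁ T).ι ''ᵁ O₃,
    (frameIso f T L ε).hom.app O₃ (one _ O₃), ?_, isFrame_of_triv L T ε, ?_, hfr₂, ?_⟩
  · rw [Scheme.Opens.ι_image_top]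
  · rw [hO₃top, Scheme.Opens.ι_image_top]
  · intro V hV hV'
    have hfe := frame_eval f T L ε
    rw [hfe]
    have h3 := Groth.Agent.Helper4.StalkExact.app_res (η f L) (homOfLE hV) (frameSec T L ε)
    refine h3.trans ?_
    exact (map_map_eq ((Scheme.Modules.pullback f).obj L) _ _ _ _).symm

end Groth.Agent.Helper1.PF
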