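import Mathlib
import Groth.Agent.Helper1.PF3

set_option autoImplicit false
set_option linter.unusedSectionVars false
set_option linter.style.haveILetI false

/-!
# The projection formula `f_* F ⊗ L ≅ f_* (F ⊗ f^* L)` for an invertible module `L`
-/

namespace Groth.Agent.Helper1.PF

open CategoryTheory Limits AlgebraicGeometry TopologicalSpace Opposite
open Groth.Agent.Helper4.TensorLift Groth.Agent.Helper4.TwistExt Groth.Agent.Helper4.TensorAssoc
  Groth.Agent.Helper4.GenLoc Groth.Agent.Helper4.PullTensor Groth.Agent.Helper4.PullMate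
  Groth.Agent.Helper4.PullUnit

universe u

variable {X Y : Scheme.{u}} (f : X ⟶ Y) (F : X.Modules) (L : Y.Modules)

set_option maxHeartbeats 1000000 in
/-- **the projection morphism is an isomorphism for invertible `L`** -/
theorem isIso_projMap (hL : PicF.IsInvertible L) : IsIso (projMap f F L) := by
  apply Groth.Agent.Helper4.AffineIso.isIso_of_isIso_restrict
  intro y
  obtain ⟨T, hyT, ⟨ε⟩⟩ := hL y
  refine ⟨T, hyT, ?_⟩
  rw [isIso_restrict_iff]
  intro V hVT
  obtain ⟨T₂, e, T₂', e', hT₂, hfr, hT₂', hfr', hcomp⟩ := exists_frames f L T ε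
  have hV₂ : V ≤ T₂ := hVT.trans hT₂
  have hpre : f ⁻¹ᵁ V ≤ f ⁻¹ᵁ T := fun x hx => hVT hx
  have hV' : f ⁻¹ᵁ V ≤ T₂' := hpre.trans hT₂'
  have hY := tmul_frame_bijective ((Scheme.Modules.pushforward f).obj F) L T₂ e hfr hV₂ T ε hVT
  have hX := tmul_frame_bijective F ((Scheme.Modules.pullback f).obj L) T₂' e' hfr' hV'
    (f ⁻¹ᵁ T) (frameIso f T L ε).symm hpre
  have hc : (fun σ => (projMap f F L).app V σ) ∘
      (fun a : Γ((Scheme.Modules.pushforward f).obj F, V) =>
        SecTwist.tmul ((Scheme.Modules.pushforward f).obj F) L V a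
          (L.presheaf.map (homOfLE hV₂).op e)) =
      (fun a : Γ(F, f ⁻¹ᵁ V) =>
        SecTwist.tmul F ((Scheme.Modules.pullback f).obj L) (f ⁻¹ᵁ V) a
          (((Scheme.Modules.pullback f).obj L).presheaf.map (homOfLE hV').op e')) := by
    funext a
    show (projMap f F L).app V (SecTwist.tmul _ L V a (L.presheaf.map (homOfLE hV₂).op e)) = _
    rw [projMap_tmul, hcomp V hV₂ hV']
  have h2 : Function.Bijective ((fun σ => (projMap f F L).app V σ) ∘
      (fun a : Γ((Scheme.Modules.pushforward f).obj F, V) =>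
        SecTwist.tmul ((Scheme.Modules.pushforward f).obj F) L V a
          (L.presheaf.map (homOfLE hV₂).op e))) := by
    rw [hc]
    exact hX
  exact (Function.Bijective.of_comp_iff _ hY).1 h2

/-- **the projection formula** -/
noncomputable def projIso (hL : PicF.IsInvertible L) :
    CohB1.tensorMod ((Scheme.Modules.pushforward f).obj F) L ≅
      (Scheme.Modules.pushforward f).obj (CohB1.tensorMod F ((Scheme.Modules.pullback f).obj L)) :=
  @asIso _ _ _ _ (projMap f F L) (isIso_projMap f F L hL)

end Groth.Agent.Helper1.PF
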