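import Mathlib
import Groth.Agent.Helper1.Horseshoe
import Groth.Agent.Helper1.ExtLES

set_option autoImplicit false

/-!
# Consequences of the long exact sequence of right derived functors
-/

namespace Groth.Agent.Helper1.DerLES
open CategoryTheory Limits Abelian Groth.Agent.Helper1.DeltaCmp Groth.Agent.Helper1.Horseshoe

universe w v u v' u'
variable {C : Type u} [Category.{v} C] [Abelian C] [HasInjectiveResolutions C]
  {D : Type u'} [Category.{v'} D] [Abelian D] (F : C ⥤ D) [F.Additive]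

/-- vanishing of `Rⁿ⁺¹F(X₃)` from `Rⁿ⁺¹F(X₂) = 0 = Rⁿ⁺²F(X₁)` -/
lemma isZero_rightDerived_X₃ (S : ShortComplex C) (hS : S.ShortExact) (n : ℕ)
    (h₂ : IsZero ((F.rightDerived (n + 1)).obj S.X₂))
    (h₁ : IsZero ((F.rightDerived (n + 2)).obj S.X₁)) :
    IsZero ((F.rightDerived (n + 1)).obj S.X₃) := by
  obtain ⟨δ, w₁, w₂, e₁, e₂⟩ := hasLES_rightDerived F S hS (n + 1)
  exact e₁.isZero_of_both_zeros (h₂.eq_of_src _ _) (h₁.eq_of_tgt _ _)

/-- vanishing of `Rⁿ⁺²F(X₁)` from `Rⁿ⁺¹F(X₃) = 0 = Rⁿ⁺²F(X₂)` -/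
lemma isZero_rightDerived_X₁ (S : ShortComplex C) (hS : S.ShortExact) (n : ℕ)
    (h₃ : IsZero ((F.rightDerived (n + 1)).obj S.X₃))
    (h₂ : IsZero ((F.rightDerived (n + 2)).obj S.X₂)) :
    IsZero ((F.rightDerived (n + 2)).obj S.X₁) := by
  obtain ⟨δ, w₁, w₂, e₁, e₂⟩ := hasLES_rightDerived F S hS (n + 1)
  exact e₂.isZero_of_both_zeros (h₃.eq_of_src _ _) (h₂.eq_of_tgt _ _)

variable [PreservesFiniteLimits F]

/-- `F(g)` is an epimorphism if `R¹F(X₁) = 0`. -/
lemma epi_map_g (S : ShortComplex C) (hS : S.ShortExact)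
    (h : IsZero ((F.rightDerived 1).obj S.X₁)) : Epi (F.map S.g) := by
  obtain ⟨δ, w₁, w₂, e₁, e₂⟩ := hasLES_rightDerived F S hS 0
  have h1 : Epi ((F.rightDerived 0).map S.g) := e₁.epi_f (h.eq_of_tgt _ _)
  have nat := F.rightDerivedZeroIsoSelf.hom.naturality S.g
  have h2 : Epi ((F.rightDerived 0).map S.g ≫ F.rightDerivedZeroIsoSelf.hom.app S.X₃) :=
    epi_comp _ _
  rw [nat] at h2
  exact epi_of_epi (F.rightDerivedZeroIsoSelf.hom.app S.X₂) _

/-- `F` keeps a short exact sequence short exact if `R¹F(X₁) = 0`. -/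
lemma shortExact_map (S : ShortComplex C) (hS : S.ShortExact)
    (h : IsZero ((F.rightDerived 1).obj S.X₁)) : (S.map F).ShortExact := by
  have := hS.mono_f
  have := epi_map_g F S hS h
  have : Mono (S.map F).f := inferInstanceAs (Mono (F.map S.f))
  have : Epi (S.map F).g := inferInstanceAs (Epi (F.map S.g))
  exact ShortComplex.ShortExact.mk (hS.exact.map_of_mono_of_preservesKernel F inferInstance
    inferInstance)

end Groth.Agent.Helper1.DerLES

namespace Groth.Agent.Helper1.DeltaCmp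

open CategoryTheory Limits Abelian

universe w v₁ v₂ u₁ u₂

variable {A : Type u₁} [Category.{v₁} A] [Abelian A] {B : Type u₂} [Category.{v₂} B] [Abelian B]
  [HasExt.{w} B]

lemma hasLES_extSeq' (G : A ⥤ B) [G.Additive]
    (P : B) (S : ShortComplex A) (hS' : (S.map G).ShortExact) : HasLES (extSeq G P) S := by
  intro n
  obtain ⟨w₁, h₁⟩ := exists_of_exact (Ext.covariant_sequence_exact₃' P hS' n (n + 1) rfl)
  obtain ⟨w₂, h₂⟩ := exists_of_exact (Ext.covariant_sequence_exact₁' P hS' n (n + 1) rfl)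
  exact ⟨AddCommGrpCat.ofHom (hS'.extClass.postcomp P rfl), w₁, w₂, h₁, h₂⟩

end Groth.Agent.Helper1.DeltaCmp
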