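import Mathlib
import Groth.Agent.Helper1.ExtLES

set_option autoImplicit false

/-!
# Objects acyclic for `Ext(P, -)` and exact sequences
-/

namespace Groth.Agent.Helper1.ExtAcyc
open CategoryTheory Limits Abelian Groth.Agent.Helper1.DeltaCmp

universe w v u
variable {B : Type u} [Category.{v} B] [Abelian B] [HasExt.{w} B] (P : B)

/-- `X` is acyclic for `Ext(P, -)` -/
def Acyc (X : B) : Prop := ∀ p : ℕ, Subsingleton (Ext.{w} P X (p + 1))

variable {P}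

lemma subsingleton_iff_forall_eq_zero {M : Type*} [AddGroup M] :
    Subsingleton M ↔ ∀ x : M, x = 0 :=
  ⟨fun h x => h.elim _ _, fun h => ⟨fun x y => (h x).trans (h y).symm⟩⟩

lemma acyc_X₃ {S : ShortComplex B} (hS : S.ShortExact) (h₁ : Acyc P S.X₁) (h₂ : Acyc P S.X₂) :
    Acyc P S.X₃ := by
  intro p
  rw [subsingleton_iff_forall_eq_zero]
  intro x
  obtain ⟨x₂, hx₂⟩ := Ext.covariant_sequence_exact₃ P hS x (rfl : p + 1 + 1 = p + 2)
    ((h₁ (p + 1)).elim _ _)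
  rw [← hx₂, (h₂ p).elim x₂ 0, Ext.zero_comp]

lemma acyc_X₂ {S : ShortComplex B} (hS : S.ShortExact) (h₁ : Acyc P S.X₁) (h₃ : Acyc P S.X₃) :
    Acyc P S.X₂ := by
  intro p
  rw [subsingleton_iff_forall_eq_zero]
  intro x
  obtain ⟨x₁, hx₁⟩ := Ext.covariant_sequence_exact₂ P hS x ((h₃ p).elim _ _)
  rw [← hx₁, (h₁ p).elim x₁ 0, Ext.zero_comp]

lemma acyc_of_iso {X Y : B} (e : X ≅ Y) (h : Acyc P X) : Acyc P Y := by
  intro p
  have : Subsingleton ((extFunctorObj P (p + 1)).obj X) := h p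
  exact (((extFunctorObj P (p + 1)).mapIso e).addCommGroupIsoToAddEquiv.symm.toEquiv).subsingleton

lemma acyc_of_isZero {X : B} (h : IsZero X) : Acyc P X := by
  intro p
  have h' : IsZero ((extFunctorObj P (p + 1)).obj X) := Functor.map_isZero _ h
  exact AddCommGrpCat.subsingleton_of_isZero h'

/-- surjectivity of `Hom(P, X₂) → Hom(P, X₃)` when `Ext¹(P, X₁) = 0` -/
lemma surjective_g {S : ShortComplex B} (hS : S.ShortExact) (h : Subsingleton (Ext.{w} P S.X₁ 1))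
    (x₃ : Ext.{w} P S.X₃ 0) : ∃ x₂ : Ext.{w} P S.X₂ 0, x₂.comp (Ext.mk₀ S.g) (add_zero 0) = x₃ :=
  Ext.covariant_sequence_exact₃ P hS x₃ (zero_add 1) (h.elim _ _)

/-- the four term exact sequence `0 → A → B → C → E → 0` with `A, B, E` acyclic -/
theorem four_term {A₀ A₁ A₂ A₃ : B} (a : A₀ ⟶ A₁) (b : A₁ ⟶ A₂) (c : A₂ ⟶ A₃) [Mono a] [Epi c]
    (w₁ : a ≫ b = 0) (w₂ : b ≫ c = 0) (e₁ : (ShortComplex.mk a b w₁).Exact)
    (e₂ : (ShortComplex.mk b c w₂).Exact)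
    (h₀ : Acyc P A₀) (h₁ : Acyc P A₁) (h₃ : Acyc P A₃) :
    Acyc P A₂ ∧ Epi ((extFunctorObj P 0).map c) ∧
      ∃ w : (extFunctorObj P 0).map b ≫ (extFunctorObj P 0).map c = 0,
        (ShortComplex.mk _ _ w).Exact := by
  -- the image of `b`
  let K := Abelian.image b
  let π : A₁ ⟶ K := Abelian.factorThruImage b
  let ι : K ⟶ A₂ := Abelian.image.ι b
  have hπι : π ≫ ι = b := Abelian.image.fac b
  have wK₁ : a ≫ π = 0 := by
    rw [← cancel_mono ι, Category.assoc, hπι, w₁, zero_comp]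
  have wK₂ : ι ≫ c = 0 := by
    rw [← cancel_epi π, reassoc_of% hπι, w₂, comp_zero]
  let S₁ : ShortComplex B := ShortComplex.mk a π wK₁
  let S₂ : ShortComplex B := ShortComplex.mk ι c wK₂
  have hS₁ : S₁.ShortExact := by
    have : Mono S₁.f := inferInstanceAs (Mono a)
    have : Epi S₁.g := inferInstanceAs (Epi π)
    refine ShortComplex.ShortExact.mk ?_
    let φ : S₁ ⟶ ShortComplex.mk a b w₁ :=
      { τ₁ := 𝟙 _, τ₂ := 𝟙 _, τ₃ := ι
        comm₁₂ := by simp [S₁]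
        comm₂₃ := by simp [S₁, hπι] }
    have : Epi φ.τ₁ := inferInstanceAs (Epi (𝟙 _))
    have : IsIso φ.τ₂ := inferInstanceAs (IsIso (𝟙 _))
    have : Mono φ.τ₃ := inferInstanceAs (Mono ι)
    exact (ShortComplex.exact_iff_of_epi_of_isIso_of_mono φ).2 e₁
  have hS₂ : S₂.ShortExact := by
    have : Mono S₂.f := inferInstanceAs (Mono ι)
    have : Epi S₂.g := inferInstanceAs (Epi c)
    refine ShortComplex.ShortExact.mk ?_
    let φ : ShortComplex.mk b c w₂ ⟶ S₂ :=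
      { τ₁ := π, τ₂ := 𝟙 _, τ₃ := 𝟙 _
        comm₁₂ := by simp [S₂, hπι]
        comm₂₃ := by simp [S₂] }
    have : Epi φ.τ₁ := inferInstanceAs (Epi π)
    have : IsIso φ.τ₂ := inferInstanceAs (IsIso (𝟙 _))
    have : Mono φ.τ₃ := inferInstanceAs (Mono (𝟙 _))
    exact (ShortComplex.exact_iff_of_epi_of_isIso_of_mono φ).1 e₂
  have hK : Acyc P K := acyc_X₃ hS₁ h₀ h₁
  have hA₂ : Acyc P A₂ := acyc_X₂ hS₂ hK h₃
  refine ⟨hA₂, ?_, ?_, ?_⟩
  · rw [AddCommGrpCat.epi_iff_surjective]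
    intro x₃
    obtain ⟨x₂, hx₂⟩ := surjective_g hS₂ (hK 0) x₃
    exact ⟨x₂, hx₂⟩
  · rw [← Functor.map_comp, w₂, Functor.map_zero]
  · rw [ShortComplex.ab_exact_iff]
    intro (x₂ : Ext.{w} P A₂ 0) hx₂
    obtain ⟨y, hy⟩ := Ext.covariant_sequence_exact₂ P hS₂ x₂ hx₂
    obtain ⟨z, hz⟩ := surjective_g hS₁ (h₀ 0) y
    refine ⟨z, ?_⟩
    show z.comp (Ext.mk₀ b) (add_zero 0) = x₂
    rw [← hy, ← hz, ← hπι, ← Ext.mk₀_comp_mk₀, Ext.comp_assoc_of_third_deg_zero]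

end Groth.Agent.Helper1.ExtAcyc

namespace Groth.Agent.Helper1.ExtAcyc
open CategoryTheory Limits Abelian Groth.Agent.Helper1.DeltaCmp

universe w v u v₁ u₁
variable {A : Type u₁} [Category.{v₁} A] [Abelian A]
  {B : Type u} [Category.{v} B] [Abelian B] [HasExt.{w} B]

/-- Composite of a δ-functor with `Hom(P, -)` on a short complex whose middle term is `T`-acyclic
and whose values are `Ext(P, -)`-acyclic. -/
theorem effacement_comp (S : ShortComplex A) (T : ℕ → A ⥤ B) (P : B)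
    (hles : HasLES T S)
    (hex : ∃ w : (T 0).map S.f ≫ (T 0).map S.g = 0,
      (ShortComplex.mk ((T 0).map S.f) ((T 0).map S.g) w).Exact)
    (hmono : Mono ((T 0).map S.f))
    (hz : ∀ n, IsZero ((T (n + 1)).obj S.X₂))
    (h₁ : ∀ q, Acyc P ((T q).obj S.X₁)) (h₂ : Acyc P ((T 0).obj S.X₂)) :
    (∀ q, Acyc P ((T q).obj S.X₃)) ∧ HasLES (fun n => T n ⋙ extFunctorObj P 0) S := by
  have hzG : ∀ n, IsZero ((extFunctorObj P 0).obj ((T (n + 1)).obj S.X₂)) :=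
    fun n => Functor.map_isZero _ (hz n)
  constructor
  · intro q
    cases q with
    | zero =>
      obtain ⟨δ, w₁, w₂, ex₁, ex₂⟩ := hles 0
      obtain ⟨w₀, ex₀⟩ := hex
      have : Epi δ := ex₂.epi_f ((hz 0).eq_of_tgt _ _)
      exact (four_term ((T 0).map S.f) ((T 0).map S.g) δ w₀ w₁ ex₀ ex₁ (h₁ 0) h₂ (h₁ 1)).1
    | succ q =>
      obtain ⟨e⟩ := nonempty_iso_succ hles hz q
      exact acyc_of_iso e.symm (h₁ (q + 2))
  · intro n
    cases n with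
    | zero =>
      obtain ⟨δ, w₁, w₂, ex₁, ex₂⟩ := hles 0
      obtain ⟨w₀, ex₀⟩ := hex
      have : Epi δ := ex₂.epi_f ((hz 0).eq_of_tgt _ _)
      obtain ⟨-, hepi, w', ex'⟩ :=
        four_term ((T 0).map S.f) ((T 0).map S.g) δ w₀ w₁ ex₀ ex₁ (h₁ 0) h₂ (h₁ 1)
      refine ⟨(extFunctorObj P 0).map δ, w', (hzG 0).eq_of_tgt _ _, ex', ?_⟩
      exact (ShortComplex.exact_iff_epi _ ((hzG 0).eq_of_tgt _ _)).2 hepi
    | succ n =>
      obtain ⟨δ, w₁, w₂, ex₁, ex₂⟩ := hles (n + 1)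
      have : Epi δ := ex₂.epi_f ((hz (n + 1)).eq_of_tgt _ _)
      have : Mono δ := ex₁.mono_g ((hz n).eq_of_src _ _)
      have : IsIso δ := isIso_of_mono_of_epi δ
      refine ⟨(extFunctorObj P 0).map δ, (hzG n).eq_of_src _ _, (hzG (n + 1)).eq_of_tgt _ _, ?_, ?_⟩
      · exact (ShortComplex.exact_iff_mono _ ((hzG n).eq_of_src _ _)).2 inferInstance
      · exact (ShortComplex.exact_iff_epi _ ((hzG (n + 1)).eq_of_tgt _ _)).2 inferInstance

end Groth.Agent.Helper1.ExtAcyc
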