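import Groth.Agent.Helper1.CohTopPush
import Groth.Agent.Helper1.DerLES
import Groth.Agent.Helper1.ExtAcyc

/-!
# Degenerate Leray: `Hⁿ(X, F) ≅ Hⁿ(Y, f_* F)` when `R^q f_* F = 0` for `q > 0`
-/

namespace Groth.Agent.Helper1.CohTopFun

open CategoryTheory Limits Opposite TopologicalSpace Abelian
open Groth.Agent.Lead.CohTopB
open Groth.Agent.Helper1.DeltaCmp
open Groth.Agent.Helper1.CechTop
open Groth.Agent.Helper1.CohTopExt

universe u

variable {X Y : TopCat.{u}} (f : X ⟶ Y)

theorem nonempty_iso_H_push_of_acyclic (n : ℕ) (F : CohTop.Ab X)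
    (h : ∀ q : ℕ, IsZero ((CohTop.Rpush f (q + 1)).obj F)) :
    Nonempty ((HSeq n).obj F ≅ (HpSeq f n).obj F) := by
  have e : HSeq (X := X) 0 ≅ HpSeq f 0 := h0Iso ≪≫ (hp0Iso f).symm
  have key : ∀ F : CohTop.Ab X, (∀ q : ℕ, IsZero ((CohTop.Rpush f (q + 1)).obj F)) →
      Nonempty (Effacement (fun n => HSeq n) (fun n => HpSeq f n)
        (fun F => ∀ q : ℕ, IsZero ((CohTop.Rpush f (q + 1)).obj F)) F) := by
    intro F hF
    obtain ⟨S, hS, hI, rfl⟩ : ∃ (S : ShortComplex (CohTop.Ab X)) (_ : S.ShortExact)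
        (_ : Injective S.X₂), S.X₁ = F := ⟨injSC F, injSC_shortExact F, inferInstance, rfl⟩
    have l1 : HasLES (fun n => HSeq n) S :=
      hasLES_extSeq (𝟭 (CohTop.Ab X)) (constZ X) S hS
    have l2 : HasLES (fun n => HpSeq f n) S :=
      hasLES_extSeq' (CohTop.push f) (constZ Y) S
        (DerLES.shortExact_map (CohTop.push f) S hS (hF 0))
    exact ⟨{
      S := S
      iso := rfl
      mem := fun q => DerLES.isZero_rightDerived_X₃ (CohTop.push f) S hS q
        (Functor.isZero_rightDerived_obj_injective_succ _ _ _) (hF (q + 1))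
      zero := fun n => isZero_HSeq_of_injective _ n
      zero' := fun n => isZero_HpSeq_of_injective f _ n
      les := l1
      les' := l2 }⟩
  exact nonempty_iso _ e key n F h

end Groth.Agent.Helper1.CohTopFun

namespace Groth.Agent.Helper1.CohTopFun

open CategoryTheory Limits Opposite TopologicalSpace Abelian
open Groth.Agent.Lead.CohTopB
open Groth.Agent.Helper1.DeltaCmp
open Groth.Agent.Helper1.CechTop
open Groth.Agent.Helper1.CohTopExt
open Groth.Agent.Helper1.ExtAcyc

universe u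

variable {X Y : TopCat.{u}} (f : X ⟶ Y)

/-- `F ↦ Γ(Y, Rⁿ f_* F)` -/
noncomputable abbrev HRSeq (n : ℕ) : CohTop.Ab X ⥤ AddCommGrpCat.{u} :=
  CohTop.Rpush f n ⋙ extFunctorObj (constZ Y) 0

/-- `Γ(Y, R⁰ f_* F) ≅ F(X)`, naturally in `F` -/
noncomputable def hr0Iso : HRSeq f 0 ≅ sectionsFunctor ⊤ :=
  Functor.isoWhiskerRight (CohTop.push f).rightDerivedZeroIsoSelf _ ≪≫ hp0Iso f

theorem nonempty_iso_H_sections_Rpush (n : ℕ) (F : CohTop.Ab X)
    (h : ∀ q : ℕ, Acyc (constZ Y) ((CohTop.Rpush f q).obj F)) :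
    Nonempty ((HSeq n).obj F ≅ (HRSeq f n).obj F) := by
  have e : HSeq (X := X) 0 ≅ HRSeq f 0 := h0Iso ≪≫ (hr0Iso f).symm
  have key : ∀ F : CohTop.Ab X, (∀ q : ℕ, Acyc (constZ Y) ((CohTop.Rpush f q).obj F)) →
      Nonempty (Effacement (fun n => HSeq n) (fun n => HRSeq f n)
        (fun F => ∀ q : ℕ, Acyc (constZ Y) ((CohTop.Rpush f q).obj F)) F) := by
    intro F hF
    obtain ⟨S, hS, hI, rfl⟩ : ∃ (S : ShortComplex (CohTop.Ab X)) (_ : S.ShortExact)
        (_ : Injective S.X₂), S.X₁ = F := ⟨injSC F, injSC_shortExact F, inferInstance, rfl⟩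
    have l1 : HasLES (fun n => HSeq n) S :=
      hasLES_extSeq (𝟭 (CohTop.Ab X)) (constZ X) S hS
    have hz : ∀ n, IsZero ((CohTop.Rpush f (n + 1)).obj S.X₂) :=
      fun n => Functor.isZero_rightDerived_obj_injective_succ _ _ _
    have h₂ : Acyc (constZ Y) ((CohTop.Rpush f 0).obj S.X₂) := by
      refine acyc_of_iso ((CohTop.push f).rightDerivedZeroIsoSelf.app S.X₂).symm ?_
      intro p
      have : TopCat.Sheaf.IsFlasque S.X₂ := isFlasque_of_injective S.X₂
      have : TopCat.Sheaf.IsFlasque ((CohTop.push f).obj S.X₂) :=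
        TopCat.Sheaf.IsFlasque.pushforward_isFlasque S.X₂ f
      exact Groth.Agent.S0453.result ((CohTop.push f).obj S.X₂) p
    obtain ⟨hQ, l2⟩ := effacement_comp S (fun n => CohTop.Rpush f n) (constZ Y)
      (Horseshoe.hasLES_rightDerived (CohTop.push f) S hS)
      (Horseshoe.exact_rightDerived_map (CohTop.push f) S hS 0)
      (Horseshoe.mono_rightDerived_zero_map (CohTop.push f) S hS) hz hF h₂
    exact ⟨{
      S := S
      iso := rfl
      mem := hQ
      zero := fun n => isZero_HSeq_of_injective _ n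
      zero' := fun n => Functor.map_isZero (extFunctorObj (constZ Y) 0) (hz n)
      les := l1
      les' := l2 }⟩
  exact nonempty_iso _ e key n F h

end Groth.Agent.Helper1.CohTopFun
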