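import Mathlib
import Groth.Agent.Helper1.PF4
import Groth.Agent.Helper1.KzLin3
import Groth.Agent.S0012
import Groth.Agent.S0019
import Groth.Agent.Lead.StalkPull

set_option autoImplicit false
set_option linter.unusedSectionVars false
set_option linter.style.haveILetI false

/-!
# Transfer of cohomology of twists along an affine morphism to projective space
-/

namespace Groth.Agent.Helper1.ClTr

open CategoryTheory Limits AlgebraicGeometry TopologicalSpace Opposite
open Groth.Agent.Helper1.SerreVan Groth.Agent.Helper1.SerreFin Groth.Agent.Helper1.ProjTop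
  Groth.Agent.Helper1.PF

universe u

variable (n : ℕ) (R : Type u) [CommRing R] {X : Scheme.{u}} (i : X ⟶ CohB1.ProjSpace n R)

local notation "𝕆(" d ")" => Twist.twistProjSpace n R d

/-- `F(d) = F ⊗ i^* O(d)` -/
noncomputable abbrev tw (F : X.Modules) (d : ℤ) : X.Modules :=
  CohB1.tensorMod F ((Scheme.Modules.pullback i).obj 𝕆(d))

theorem isQCoh_tw (F : X.Modules) (hF : Coh.IsQCoh F) (d : ℤ) : Coh.IsQCoh (tw n R i F d) := by
  haveI : F.IsQuasicoherent := hF
  haveI : (Twist.twistProjSpace n R d).IsQuasicoherent := (isCoh_twist n R d).1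
  haveI : ((Scheme.Modules.pullback i).obj (Twist.twistProjSpace n R d)).IsQuasicoherent :=
    Groth.Agent.Lead.StalkPull.isQuasicoherent_pullbackObj i _
  exact Groth.Agent.Lead.QcohTensor.isQuasicoherent_tensorMod F _

/-- `i_*(F(d)) ≅ (i_* F)(d)` -/
noncomputable def pushTwIso (F : X.Modules) (d : ℤ) :
    (Coh.push i).obj (tw n R i F d) ≅ CohB1.tensorMod ((Coh.push i).obj F) 𝕆(d) :=
  (projIso i F 𝕆(d) (isInvertible_twist n R d)).symm

/-- `H^j(X, F(d)) ≃ H^j(P, (i_* F)(d))` -/
theorem nonempty_HH_addEquiv [IsAffineHom i] (F : X.Modules) (hF : Coh.IsQCoh F) (d : ℤ) (j : ℕ) :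
    Nonempty (Coh.HH X (tw n R i F d) j ≃+
      Coh.HH (CohB1.ProjSpace n R) (CohB1.tensorMod ((Coh.push i).obj F) 𝕆(d)) j) := by
  haveI := isQCoh_tw n R i F hF d
  obtain ⟨e⟩ := Groth.Agent.S0012.result i (tw n R i F d) j
  exact ⟨e.trans (HHlinEquiv R (X := CohB1.ProjSpace n R) (pushTwIso n R i F d) j).toAddEquiv⟩

theorem subsingleton_HH_tw_iff [IsAffineHom i] (F : X.Modules) (hF : Coh.IsQCoh F) (d : ℤ)
    (j : ℕ) :
    Subsingleton (Coh.HH X (tw n R i F d) j) ↔
      Subsingleton (Coh.HH (CohB1.ProjSpace n R)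
        (CohB1.tensorMod ((Coh.push i).obj F) 𝕆(d)) j) := by
  obtain ⟨e⟩ := nonempty_HH_addEquiv n R i F hF d j
  exact ⟨fun _ => e.symm.toEquiv.subsingleton, fun _ => e.toEquiv.subsingleton⟩

/-- the pushforward of a coherent module along a closed immersion into `P^n_R` is coherent -/
theorem isCoh_push [IsNoetherianRing R] [IsClosedImmersion i] (F : X.Modules) (hF : Coh.IsCoh F) :
    Coh.IsCoh ((Coh.push i).obj F) := by
  haveI : IsNoetherianRing (MvPolynomial (Fin (n + 1)) R) := inferInstance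
  haveI : IsNoetherian (CohB1.ProjSpace n R) :=
    Groth.Agent.Helper3.ProjNoeth.main (CohB1.polyGrading n R)
  exact Groth.Agent.S0019.result i F hF

/-- **Serre vanishing on a closed subscheme of `P^n_R`** -/
theorem vanishing [IsNoetherianRing R] [IsClosedImmersion i] (F : X.Modules) (hF : Coh.IsCoh F) :
    ∃ d₀ : ℤ, ∀ d : ℤ, d₀ ≤ d → ∀ j : ℕ, 1 ≤ j → Subsingleton (Coh.HH X (tw n R i F d) j) := by
  obtain ⟨d₀, hd₀⟩ := Groth.Agent.Helper1.SerreVan.vanishing n R _ (isCoh_push n R i F hF)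
  refine ⟨d₀, fun d hd j hj => ?_⟩
  rw [subsingleton_HH_tw_iff n R i F hF.1 d j]
  exact hd₀ d hd j hj

end Groth.Agent.Helper1.ClTr
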