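import Mathlib
import Groth.Agent.Helper1.ClTr
import Groth.Agent.Helper1.KzGGPn
import Groth.Agent.Helper4.QAffCounit
import Groth.Agent.Helper4.PullAmple

set_option autoImplicit false
set_option linter.unusedSectionVars false
set_option linter.style.haveILetI false

/-!
# Castelnuovo–Mumford regularity on closed subschemes of `P^n_R`
-/

namespace Groth.Agent.Helper1.ClTr

open CategoryTheory Limits AlgebraicGeometry TopologicalSpace Opposite
open Groth.Agent.Helper1.SerreVan Groth.Agent.Helper1.SerreFin Groth.Agent.Helper1.ProjTop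
  Groth.Agent.Helper1.PF Groth.Agent.Helper1.KzReg Groth.Agent.Helper1.KzMultPn

universe u

variable (n : ℕ) (R : Type u) [CommRing R] {X : Scheme.{u}} (i : X ⟶ CohB1.ProjSpace n R)

local notation "𝕆(" d ")" => Twist.twistProjSpace n R d

/-- regularity on `X`: `H^q(X, F(m - q)) = 0` for `q ≥ 1` -/
def IsRegX (F : X.Modules) (m : ℤ) : Prop :=
  ∀ q : ℕ, 1 ≤ q → Subsingleton (Coh.HH X (tw n R i F (m - q)) q)

theorem isRegX_iff [IsAffineHom i] (F : X.Modules) (hF : Coh.IsQCoh F) (m : ℤ) :
    IsRegX n R i F m ↔ IsReg n R ((Coh.push i).obj F) m := by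
  constructor
  · intro h q hq
    exact (subsingleton_HH_tw_iff n R i F hF (m - q) q).1 (h q hq)
  · intro h q hq
    exact (subsingleton_HH_tw_iff n R i F hF (m - q) q).2 (h q hq)

/-- the counit `i^* i_* M ⟶ M` is an epimorphism for `i` affine and `M` quasi-coherent -/
theorem epi_counit [IsAffineHom i] (M : X.Modules) (hM : Coh.IsQCoh M) :
    Epi ((Scheme.Modules.pullbackPushforwardAdjunction i).counit.app M) :=
  ((Groth.Agent.Helper4.QAffCounit.isQuasiAffine_iff_separated_and_counit_epi i).1
    (Groth.Agent.Helper4.PullAmple.isQuasiAffine_of_isAffineHom i)).2 M hM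

/-- global generation descends from `i_* M` to `M` -/
theorem isGloballyGenerated_of_push [IsAffineHom i] (M : X.Modules) (hM : Coh.IsQCoh M)
    (h : Curv2.IsGloballyGenerated ((Coh.push i).obj M)) : Curv2.IsGloballyGenerated M :=
  Groth.Agent.Helper4.CounitEpi.isGloballyGenerated_of_epi _ (epi_counit n R i M hM)
    (Groth.Agent.Helper4.CounitEpi.isGloballyGenerated_pullback i h)

/-- **Mumford's theorem on a closed subscheme of `P^n_R`** -/
theorem isRegX_and_gg [IsNoetherianRing R] [IsClosedImmersion i] (F : X.Modules)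
    (hF : Coh.IsCoh F) (m : ℤ) (h : IsRegX n R i F m) (n' : ℤ) (hn' : m ≤ n') :
    IsRegX n R i F n' ∧ Curv2.IsGloballyGenerated (tw n R i F n') := by
  have hG := isCoh_push n R i F hF
  have hreg : IsReg n R ((Coh.push i).obj F) m := (isRegX_iff n R i F hF.1 m).1 h
  constructor
  · rw [isRegX_iff n R i F hF.1 n']
    obtain ⟨k, rfl⟩ : ∃ k : ℕ, n' = m + k := ⟨(n' - m).toNat, by omega⟩
    exact isReg_add n R _ hG m hreg k
  · apply isGloballyGenerated_of_push n R i _ (isQCoh_tw n R i F hF.1 n')
    have hgg := isGloballyGenerated_of_isReg n R _ hG m n' hn' hreg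
    exact Groth.Agent.Helper4.CounitEpi.isGloballyGenerated_of_iso (pushTwIso n R i F n').symm hgg

end Groth.Agent.Helper1.ClTr
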