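import Mathlib
import Groth.Agent.Helper1.ClTr2
import Groth.Agent.Helper1.AffLin

set_option autoImplicit false
set_option linter.unusedSectionVars false
set_option linter.style.haveILetI false

/-!
# `R`-linear transfer of cohomology of twists along an affine morphism to projective space
-/

namespace Groth.Agent.Helper1.ClTr

open CategoryTheory Limits AlgebraicGeometry TopologicalSpace Opposite
open Groth.Agent.Helper1.SerreVan Groth.Agent.Helper1.SerreFin Groth.Agent.Helper1.ProjTop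
  Groth.Agent.Helper1.PF Groth.Agent.Helper1.KzReg Groth.Agent.Helper1.KzMultPn

universe u

variable (n : ℕ) (R : Type u) [CommRing R] {X : Scheme.{u}} [X.Over (Spec (CommRingCat.of R))]
  (i : X ⟶ CohB1.ProjSpace n R)
  (hi : i ≫ CohB1.ProjSpace.toSpec n R = X ↘ Spec (CommRingCat.of R))

local notation "𝕆(" d ")" => Twist.twistProjSpace n R d

include hi in
/-- `H^j(X, F) ≃ₗ[R] H^j(P, i_* F)` -/
theorem nonempty_HH_linearEquiv_push [IsAffineHom i] (F : X.Modules) (hF : Coh.IsQCoh F) (j : ℕ) :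
    Nonempty (Coh.HH X F j ≃ₗ[R] Coh.HH (CohB1.ProjSpace n R) ((Coh.push i).obj F) j) := by
  haveI : Coh.IsQCoh F := hF
  exact Groth.Agent.Helper1.AffLin.nonempty_HH_linearEquiv i R hi F j

include hi in
/-- `H^j(X, F(d)) ≃ₗ[R] H^j(P, (i_* F)(d))` -/
theorem nonempty_HH_linearEquiv [IsAffineHom i] (F : X.Modules) (hF : Coh.IsQCoh F) (d : ℤ)
    (j : ℕ) :
    Nonempty (Coh.HH X (tw n R i F d) j ≃ₗ[R]
      Coh.HH (CohB1.ProjSpace n R) (CohB1.tensorMod ((Coh.push i).obj F) 𝕆(d)) j) := by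
  obtain ⟨e⟩ := nonempty_HH_linearEquiv_push n R i hi (tw n R i F d) (isQCoh_tw n R i F hF d) j
  exact ⟨e.trans (HHlinEquiv R (X := CohB1.ProjSpace n R) (pushTwIso n R i F d) j)⟩

include hi in
/-- finiteness of cohomology on closed subschemes of `P^n_R` -/
theorem finite_HH_tw [IsNoetherianRing R] [IsClosedImmersion i] (F : X.Modules)
    (hF : Coh.IsCoh F) (d : ℤ) (j : ℕ) : Module.Finite R (Coh.HH X (tw n R i F d) j) := by
  obtain ⟨e⟩ := nonempty_HH_linearEquiv n R i hi F hF.1 d j
  have hc : Coh.IsCoh (CohB1.tensorMod ((Coh.push i).obj F) 𝕆(d)) :=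
    Groth.Agent.Helper1.KzLin.isCoh_tw n R _ (isCoh_push n R i F hF) d
  haveI := finite_HH n R _ hc j
  exact Module.Finite.equiv e.symm

include hi in
theorem finite_HH_push [IsNoetherianRing R] [IsClosedImmersion i] (F : X.Modules)
    (hF : Coh.IsCoh F) (j : ℕ) : Module.Finite R (Coh.HH X F j) := by
  obtain ⟨e⟩ := nonempty_HH_linearEquiv_push n R i hi F hF.1 j
  haveI := finite_HH n R _ (isCoh_push n R i F hF) j
  exact Module.Finite.equiv e.symm

end Groth.Agent.Helper1.ClTr
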