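import Mathlib
import Groth.Agent.Helper1.KzMultPn
import Groth.Agent.Helper1.KzLin2

set_option autoImplicit false
set_option linter.unusedSectionVars false
set_option linter.style.haveILetI false

/-!
# Generation of the global sections of a tensor product by pure tensors
-/

namespace Groth.Agent.Helper1.KzExt

open CategoryTheory Limits AlgebraicGeometry TopologicalSpace Opposite
open Groth.Agent.Helper4.TensorLift

universe u

variable {X : Scheme.{u}}

/-- every global section of `C ⊗ B` is a sum of pure tensors of global sections -/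
def PureGen (C B : X.Modules) : Prop :=
  ∀ σ : Γ(CohB1.tensorMod C B, ⊤), σ ∈ AddSubgroup.closure
    {τ : Γ(CohB1.tensorMod C B, ⊤) | ∃ (c : Γ(C, ⊤)) (a : Γ(B, ⊤)), τ = SecTwist.tmul C B ⊤ c a}

/-- the property is invariant under isomorphisms in the first variable -/
theorem PureGen.of_iso {C C' B : X.Modules} (e : C ≅ C') (h : PureGen C B) : PureGen C' B := by
  intro σ'
  have h1 : (KoszTw.tensorMap e.hom (𝟙 B)).app ⊤ ((KoszTw.tensorMap e.inv (𝟙 B)).app ⊤ σ') = σ' := by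
    have h2 : KoszTw.tensorMap e.inv (𝟙 B) ≫ KoszTw.tensorMap e.hom (𝟙 B) = 𝟙 _ := by
      rw [← KoszTw.tensorMap_comp, e.inv_hom_id, Category.comp_id, KoszTw.tensorMap_id]
    have h3 : (KoszTw.tensorMap e.inv (𝟙 B) ≫ KoszTw.tensorMap e.hom (𝟙 B)).app ⊤ σ' = σ' := by
      rw [h2]; rfl
    exact h3
  rw [← h1]
  have key : ∀ σ : Γ(CohB1.tensorMod C B, ⊤), σ ∈ AddSubgroup.closure
      {τ : Γ(CohB1.tensorMod C B, ⊤) | ∃ (c : Γ(C, ⊤)) (a : Γ(B, ⊤)),
        τ = SecTwist.tmul C B ⊤ c a} →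
      (KoszTw.tensorMap e.hom (𝟙 B)).app ⊤ σ ∈ AddSubgroup.closure
        {τ : Γ(CohB1.tensorMod C' B, ⊤) | ∃ (c : Γ(C', ⊤)) (a : Γ(B, ⊤)),
          τ = SecTwist.tmul C' B ⊤ c a} := by
    intro σ hσ
    induction hσ using AddSubgroup.closure_induction with
    | mem τ hτ =>
      obtain ⟨c, a, rfl⟩ := hτ
      apply AddSubgroup.subset_closure
      refine ⟨e.hom.app ⊤ c, a, ?_⟩
      rw [KoszTw.tensorMap_tmul]
      rfl
    | zero => rw [map_zero]; exact AddSubgroup.zero_mem _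
    | add τ τ' _ _ h h' => rw [map_add]; exact AddSubgroup.add_mem _ h h'
    | neg τ _ h => rw [map_neg]; exact AddSubgroup.neg_mem _ h
  exact key _ (h _)

/-- if the global sections of `C ⊗ B` are generated by pure tensors and `g : D ⟶ C` is surjective
on global sections, so is `g ⊗ B` -/
theorem PureGen.surjective {C D B : X.Modules} (h : PureGen C B) (g : D ⟶ C)
    (hg : Function.Surjective (g.app ⊤)) :
    Function.Surjective ((KoszTw.tensorMap g (𝟙 B)).app ⊤) := by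
  intro σ
  have key : ∀ σ : Γ(CohB1.tensorMod C B, ⊤), σ ∈ AddSubgroup.closure
      {τ : Γ(CohB1.tensorMod C B, ⊤) | ∃ (c : Γ(C, ⊤)) (a : Γ(B, ⊤)),
        τ = SecTwist.tmul C B ⊤ c a} →
      ∃ ρ, (KoszTw.tensorMap g (𝟙 B)).app ⊤ ρ = σ := by
    intro σ hσ
    induction hσ using AddSubgroup.closure_induction with
    | mem τ hτ =>
      obtain ⟨c, a, rfl⟩ := hτ
      obtain ⟨d, rfl⟩ := hg c
      refine ⟨SecTwist.tmul D B ⊤ d a, ?_⟩
      rw [KoszTw.tensorMap_tmul]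
      rfl
    | zero => exact ⟨0, map_zero _⟩
    | add τ τ' _ _ h h' =>
      obtain ⟨ρ, hρ⟩ := h
      obtain ⟨ρ', hρ'⟩ := h'
      exact ⟨ρ + ρ', by rw [map_add, hρ, hρ']⟩
    | neg τ _ h =>
      obtain ⟨ρ, hρ⟩ := h
      exact ⟨-ρ, by rw [map_neg, hρ]⟩
  exact key σ (h σ)

/-- the range of `tt` is generated by pure tensors -/
theorem tt_mem_closure (C B : X.Modules) (z : TT C B ⊤) :
    tt C B ⊤ z ∈ AddSubgroup.closure
      {τ : Γ(CohB1.tensorMod C B, ⊤) | ∃ (c : Γ(C, ⊤)) (a : Γ(B, ⊤)),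
        τ = SecTwist.tmul C B ⊤ c a} := by
  induction z using TensorProduct.induction_on with
  | zero =>
    have h0 : tt C B ⊤ (0 : TT C B ⊤) = 0 := tt_zero C B ⊤
    exact h0 ▸ AddSubgroup.zero_mem _
  | tmul c a =>
    apply AddSubgroup.subset_closure
    exact ⟨c, a, rfl⟩
  | add z z' h h' =>
    have h0 : tt C B ⊤ ((z : TT C B ⊤) + (z' : TT C B ⊤)) = tt C B ⊤ z + tt C B ⊤ z' :=
      tt_add C B ⊤ z z'
    exact h0 ▸ AddSubgroup.add_mem _ h h'

theorem pureGen_of_tt_surjective (C B : X.Modules)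
    (h : ∀ σ : Γ(CohB1.tensorMod C B, ⊤), ∃ z : TT C B ⊤, tt C B ⊤ z = σ) : PureGen C B := by
  intro σ
  obtain ⟨z, rfl⟩ := h σ
  exact tt_mem_closure C B z

end Groth.Agent.Helper1.KzExt
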