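import Mathlib
import Groth.Agent.Helper1.KzLin3
import Groth.Agent.Helper1.HHLes3
import Groth.Agent.Helper1.HHLes2
import Groth.Agent.Helper1.SerreFin3

set_option autoImplicit false
set_option linter.unusedSectionVars false
set_option linter.style.haveILetI false

/-!
# Regularity and linear presentations on `P^n_R`
-/

namespace Groth.Agent.Helper1.KzLin

open CategoryTheory Limits AlgebraicGeometry TopologicalSpace Opposite
open Groth.Agent.Helper1.SerreFin Groth.Agent.Helper1.SerreVan Groth.Agent.Helper1.ProjTop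
  Groth.Agent.Helper1.TwistExact Groth.Agent.Helper1.HHLes Groth.Agent.Helper1.KzReg
  Groth.Agent.Helper1.KzMultPn

universe u

section General

variable (A : Type u) [CommRing A] {X : Scheme.{u}} [X.Over (Spec (CommRingCat.of A))]

/-- vanishing of the cohomology of a kernel -/
theorem subsingleton_HH_kernel {E F : X.Modules} (g : E ⟶ F) [Epi g] (i : ℕ)
    (hsurj : Function.Surjective (Canon.HHlin A g i))
    (hE : Subsingleton (Coh.HH X E (i + 1))) : Subsingleton (Coh.HH X (kernel g) (i + 1)) := by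
  have h1 := exact_g_δ A (kerSC g) (kerSC_shortExact g) i
  have h2 := exact_δ_f A (kerSC g) (kerSC_shortExact g) i
  have h0 : ∀ x : Coh.HH X (kernel g) (i + 1), x = 0 := by
    intro x
    obtain ⟨y, rfl⟩ := (h2 x).1 (Subsingleton.elim _ _)
    obtain ⟨z, rfl⟩ := hsurj y
    exact (h1 _).2 ⟨z, rfl⟩
  exact ⟨fun x y => (h0 x).trans (h0 y).symm⟩

include A in
/-- vanishing of the cohomology of a quotient -/
theorem subsingleton_HH_of_epi {E F : X.Modules} (g : E ⟶ F) [Epi g] (i : ℕ)
    (hE : Subsingleton (Coh.HH X E i))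
    (hK : Subsingleton (Coh.HH X (kernel g) (i + 1))) : Subsingleton (Coh.HH X F i) := by
  have hex := exact_δker A g i
  have h0 : ∀ x : Coh.HH X F i, x = 0 := by
    intro x
    obtain ⟨y, rfl⟩ := (hex x).1 (Subsingleton.elim _ _)
    rw [Subsingleton.elim y 0, map_zero]
  exact ⟨fun x y => (h0 x).trans (h0 y).symm⟩

end General

variable (n : ℕ) (R : Type u) [CommRing R]

local notation "𝕆(" d ")" => Twist.twistProjSpace n R d

/-- an epimorphism `O(-m)^b ⟶ F` with `(m+1)`-regular kernel forces `F` to be `m`-regular -/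
theorem subsingleton_HH_of_epi_kernel [IsNoetherianRing R] (F : (CohB1.ProjSpace n R).Modules)
    (hF : Coh.IsCoh F) (m : ℤ) (b : ℕ) (φ : (∐ fun _ : Fin b => 𝕆(-m)) ⟶ F) [Epi φ]
    (hK : ∀ i : ℕ, 1 ≤ i → i ≤ n → Subsingleton (Coh.HH (CohB1.ProjSpace n R)
      (CohB1.tensorMod (kernel φ) 𝕆(m + 1 - i)) i))
    (i : ℕ) (hi : 1 ≤ i) (hin : i ≤ n) :
    Subsingleton (Coh.HH (CohB1.ProjSpace n R) (CohB1.tensorMod F 𝕆(m - i)) i) := by
  haveI : IsNoetherianRing (MvPolynomial (Fin (n + 1)) R) := inferInstance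
  haveI : IsNoetherian (CohB1.ProjSpace n R) :=
    Groth.Agent.Helper3.ProjNoeth.main (CohB1.polyGrading n R)
  have hEcoh : Coh.IsCoh (∐ fun _ : Fin b => 𝕆(-m)) :=
    isCoh_sigma_fin _ (fun _ => isCoh_twist n R _)
  have hKcoh : Coh.IsCoh (kernel φ) := Groth.Agent.Lead.PerfLib.isCoh_kernel hEcoh hF φ
  have hB := isInvertible_twist n R (m - i)
  haveI : Epi (KoszTw.tensorMap φ (𝟙 𝕆(m - i))) := epi_tensorMap φ _ hB
  obtain ⟨eK⟩ := nonempty_kernel_tensorMap_iso φ _ hB
  apply subsingleton_HH_of_epi R (KoszTw.tensorMap φ (𝟙 𝕆(m - i))) i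
  · obtain ⟨eE⟩ := sigmaTw_tw_iso n R b (-m) (m - i) (-(i : ℤ)) (by ring)
    haveI := subsingleton_HH_sigmaTw n R b (-(i : ℤ)) i hi (by omega)
    exact (HHlinEquiv R (X := CohB1.ProjSpace n R) eE i).toEquiv.subsingleton
  · haveI : Subsingleton (Coh.HH (CohB1.ProjSpace n R)
        (CohB1.tensorMod (kernel φ) 𝕆(m - i)) (i + 1)) := by
      by_cases h1 : i + 1 ≤ n
      · have := hK (i + 1) (by omega) h1
        have e : m + 1 - ((i + 1 : ℕ) : ℤ) = m - i := by push_cast; ring
        rw [e] at this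
        exact this
      · exact subsingleton_HH_twist_of_gt n R _ hKcoh _ (i + 1) (by omega)
    exact (HHlinEquiv R (X := CohB1.ProjSpace n R) eK (i + 1)).toEquiv.subsingleton

end Groth.Agent.Helper1.KzLin
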