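import Mathlib
import Groth.Agent.Helper1.KzExt1
import Groth.Agent.Helper1.KzLin4

set_option autoImplicit false
set_option linter.unusedSectionVars false
set_option linter.style.haveILetI false

/-!
# Iterated twists of a short exact sequence on `P^n_R`
-/

namespace Groth.Agent.Helper1.KzExt

open CategoryTheory Limits AlgebraicGeometry TopologicalSpace Opposite
open Groth.Agent.Helper4.TensorLift Groth.Agent.Helper1.KzReg Groth.Agent.Helper1.KzMultPn
  Groth.Agent.Helper1.KzLin Groth.Agent.Helper1.SerreVan Groth.Agent.Helper1.TwistExact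
  Groth.Agent.Helper1.HHLes

universe u

variable (n : ℕ) (R : Type u) [CommRing R]

local notation "𝕆(" d ")" => Twist.twistProjSpace n R d

/-- for an `m`-regular module and `d ≥ m`, the global sections of `F(d) ⊗ O(e)` are generated by
pure tensors -/
theorem pureGen_of_isReg (F : (CohB1.ProjSpace n R).Modules) (hF : Coh.IsCoh F) (m d : ℤ)
    (hd : m ≤ d) (h : IsReg n R F m) (e : ℕ) :
    PureGen (CohB1.tensorMod F 𝕆(d)) 𝕆((e : ℤ)) := by
  apply pureGen_of_tt_surjective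
  intro σ
  obtain ⟨z, hz⟩ := surjective_toSheafify n R F hF m d hd h e σ
  exact ⟨z, hz⟩

/-- the iterated twists `S(m), S(m)(1), S(m)(1)(1), …` of a short complex -/
noncomputable def TS (S : ShortComplex (CohB1.ProjSpace n R).Modules) (m : ℤ) :
    ℕ → ShortComplex (CohB1.ProjSpace n R).Modules
  | 0 => S.map (DCoh.tensorRightMod 𝕆(m))
  | t + 1 => (TS S m t).map (DCoh.tensorRightMod 𝕆(1))

theorem TS_shortExact (S : ShortComplex (CohB1.ProjSpace n R).Modules) (hS : S.ShortExact)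
    (m : ℤ) : ∀ t, (TS n R S m t).ShortExact
  | 0 => shortExact_map_tensorRightMod hS _ (isInvertible_twist n R m)
  | t + 1 => shortExact_map_tensorRightMod (TS_shortExact S hS m t) _ (isInvertible_twist n R 1)

theorem TS_succ_g (S : ShortComplex (CohB1.ProjSpace n R).Modules) (m : ℤ) (t : ℕ) :
    (TS n R S m (t + 1)).g = KoszTw.tensorMap (TS n R S m t).g (𝟙 𝕆(1)) :=
  KoszTw.tensorRightMod_map _ _

/-- the iterated twist of a module -/
noncomputable def TM (M : (CohB1.ProjSpace n R).Modules) (m : ℤ) :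
    ℕ → (CohB1.ProjSpace n R).Modules
  | 0 => CohB1.tensorMod M 𝕆(m)
  | t + 1 => CohB1.tensorMod (TM M m t) 𝕆(1)

theorem TM_iso (M : (CohB1.ProjSpace n R).Modules) (m : ℤ) :
    ∀ t : ℕ, Nonempty (TM n R M m t ≅ CohB1.tensorMod M 𝕆(m + t))
  | 0 => by
    have e : m + ((0 : ℕ) : ℤ) = m := by simp
    rw [e]
    exact ⟨Iso.refl _⟩
  | t + 1 => by
    obtain ⟨e⟩ := TM_iso M m t
    obtain ⟨e'⟩ := tw_tw_iso n R M (m + t) 1 (m + ((t + 1 : ℕ) : ℤ)) (by push_cast; ring)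
    exact ⟨PicGrp.tensorModIso e (Iso.refl _) ≪≫ e'⟩

theorem TS_X₁ (S : ShortComplex (CohB1.ProjSpace n R).Modules) (m : ℤ) :
    ∀ t, (TS n R S m t).X₁ = TM n R S.X₁ m t
  | 0 => rfl
  | t + 1 => by
    show CohB1.tensorMod (TS n R S m t).X₁ 𝕆(1) = CohB1.tensorMod (TM n R S.X₁ m t) 𝕆(1)
    rw [TS_X₁ S m t]

theorem TS_X₂ (S : ShortComplex (CohB1.ProjSpace n R).Modules) (m : ℤ) :
    ∀ t, (TS n R S m t).X₂ = TM n R S.X₂ m t
  | 0 => rfl
  | t + 1 => by
    show CohB1.tensorMod (TS n R S m t).X₂ 𝕆(1) = CohB1.tensorMod (TM n R S.X₂ m t) 𝕆(1)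
    rw [TS_X₂ S m t]

theorem TS_X₃ (S : ShortComplex (CohB1.ProjSpace n R).Modules) (m : ℤ) :
    ∀ t, (TS n R S m t).X₃ = TM n R S.X₃ m t
  | 0 => rfl
  | t + 1 => by
    show CohB1.tensorMod (TS n R S m t).X₃ 𝕆(1) = CohB1.tensorMod (TM n R S.X₃ m t) 𝕆(1)
    rw [TS_X₃ S m t]

end Groth.Agent.Helper1.KzExt
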