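import Mathlib
import Groth.Agent.Helper1.KzExt2

set_option autoImplicit false
set_option linter.unusedSectionVars false
set_option linter.style.haveILetI false

/-!
# Mumford's extension lemma: vanishing and monotonicity
-/

namespace Groth.Agent.Helper1.KzExt

open CategoryTheory Limits AlgebraicGeometry TopologicalSpace Opposite
open Groth.Agent.Helper4.TensorLift Groth.Agent.Helper1.KzReg Groth.Agent.Helper1.KzMultPn
  Groth.Agent.Helper1.KzLin Groth.Agent.Helper1.SerreVan Groth.Agent.Helper1.TwistExact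
  Groth.Agent.Helper1.HHLes Groth.Agent.Helper1.ProjTop Groth.Agent.Helper1.SerreFin

universe u

section General

variable (A : Type u) [CommRing A] {X : Scheme.{u}} [X.Over (Spec (CommRingCat.of A))]
variable (T : ShortComplex X.Modules) (hT : T.ShortExact)

include hT in
theorem surjective_f_of_subsingleton (i : ℕ) (h : Subsingleton (Coh.HH X T.X₃ i)) :
    Function.Surjective (Canon.HHlin A T.f i) := by
  intro y
  exact (exact_f_g A T hT i y).1 (Subsingleton.elim _ _)

include hT in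
theorem injective_f_of_subsingleton (i : ℕ) (h : Subsingleton (Coh.HH X T.X₃ i)) :
    Function.Injective (Canon.HHlin A T.f (i + 1)) := by
  rw [injective_iff_map_eq_zero]
  intro x hx
  obtain ⟨y, rfl⟩ := (exact_δ_f A T hT i x).1 hx
  rw [Subsingleton.elim y 0, map_zero]

include hT in
theorem injective_f_of_surjective_g (h : Function.Surjective (Canon.HHlin A T.g 0)) :
    Function.Injective (Canon.HHlin A T.f 1) := by
  rw [injective_iff_map_eq_zero]
  intro x hx
  obtain ⟨y, rfl⟩ := (exact_δ_f A T hT 0 x).1 hx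
  obtain ⟨z, rfl⟩ := h y
  exact (exact_g_δ A T hT 0 _).2 ⟨z, rfl⟩

include hT in
theorem surjective_g_of_injective_f (h : Function.Injective (Canon.HHlin A T.f 1)) :
    Function.Surjective (Canon.HHlin A T.g 0) := by
  intro y
  apply (exact_g_δ A T hT 0 y).1
  apply h
  rw [map_zero]
  exact (exact_δ_f A T hT 0 _).2 ⟨y, rfl⟩

end General

variable (n : ℕ) (k : Type u) [Field k]

local notation "𝕆(" d ")" => Twist.twistProjSpace n k d
local notation "ℙ" => CohB1.ProjSpace n k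

variable (F : (CohB1.ProjSpace n k).Modules) (hF : Coh.IsCoh F)
  (ι : CohB1.tensorMod F (Twist.twistProjSpace n k (-1)) ⟶ F) [Mono ι] (m : ℤ)

/-- the basic short exact sequence `0 → F(-1) → F → G → 0` -/
noncomputable abbrev S0 : ShortComplex (CohB1.ProjSpace n k).Modules :=
  ShortComplex.mk ι (cokernel.π ι) (cokernel.condition ι)

theorem S0_shortExact : (S0 n k F ι).ShortExact :=
  ShortComplex.ShortExact.mk' (ShortComplex.exact_of_g_is_cokernel _ (cokernelIsCokernel ι))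
    (inferInstanceAs (Mono ι)) (inferInstanceAs (Epi (cokernel.π ι)))

/-- the twisted sequences -/
noncomputable abbrev Sj (j : ℤ) : ShortComplex (CohB1.ProjSpace n k).Modules :=
  (S0 n k F ι).map (DCoh.tensorRightMod 𝕆(j))

theorem Sj_shortExact (j : ℤ) : (Sj n k F ι j).ShortExact :=
  shortExact_map_tensorRightMod (S0_shortExact n k F ι) _ (isInvertible_twist n k j)

theorem Sj_X₁_iso (j j' : ℤ) (h : j' = j - 1) :
    Nonempty ((Sj n k F ι j).X₁ ≅ CohB1.tensorMod F 𝕆(j')) := by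
  show Nonempty (CohB1.tensorMod (CohB1.tensorMod F 𝕆(-1)) 𝕆(j) ≅ CohB1.tensorMod F 𝕆(j'))
  exact tw_tw_iso n k F (-1) j j' (by rw [h]; ring)

include hF in
theorem isCoh_coker : Coh.IsCoh (cokernel ι) := by
  have h1 : Coh.IsCoh (CohB1.tensorMod F 𝕆(-1)) := isCoh_tw n k F hF (-1)
  exact Groth.Agent.Lead.PerfLib.isCoh_cokernel h1 hF ι

include hF in
/-- the step of the descending induction for (i) -/
theorem vanishing_step (hG : IsReg n k (cokernel ι) m) (i : ℕ) (hi : 1 ≤ i) (j : ℤ)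
    (hj : m - (i + 1 : ℕ) ≤ j)
    (h : Subsingleton (Coh.HH ℙ (CohB1.tensorMod F 𝕆(j + 1)) (i + 1))) :
    Subsingleton (Coh.HH ℙ (CohB1.tensorMod F 𝕆(j)) (i + 1)) := by
  have hGc := isCoh_coker n k F hF ι
  have h1 : Subsingleton (Coh.HH ℙ (Sj n k F ι (j + 1)).X₃ i) :=
    subsingleton_HH_of_isReg n k _ hGc m hG i hi (j + 1) (by push_cast at hj; omega)
  have h2 := injective_f_of_subsingleton k (Sj n k F ι (j + 1)) (Sj_shortExact n k F ι (j + 1)) i h1
  haveI : Subsingleton (Coh.HH ℙ (Sj n k F ι (j + 1)).X₂ (i + 1)) := h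
  haveI : Subsingleton (Coh.HH ℙ (Sj n k F ι (j + 1)).X₁ (i + 1)) :=
    ⟨fun x y => h2 (Subsingleton.elim _ _)⟩
  obtain ⟨e⟩ := Sj_X₁_iso n k F ι (j + 1) j (by ring)
  exact (HHlinEquiv k (X := ℙ) e (i + 1)).symm.toEquiv.subsingleton

include hF in
/-- **(i)**: `H^i(F(j)) = 0` for `i ≥ 2`, `j ≥ m - i` -/
theorem vanishing_ge_two (hG : IsReg n k (cokernel ι) m) (i : ℕ) (hi : 2 ≤ i) (j : ℤ)
    (hj : m - i ≤ j) : Subsingleton (Coh.HH ℙ (CohB1.tensorMod F 𝕆(j)) i) := by
  obtain ⟨d₀, hd₀⟩ := vanishing n k F hF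
  obtain ⟨i', rfl⟩ : ∃ i', i = i' + 1 := ⟨i - 1, by omega⟩
  have key : ∀ (t : ℕ) (j : ℤ), m - (i' + 1 : ℕ) ≤ j → d₀ ≤ j + t →
      Subsingleton (Coh.HH ℙ (CohB1.tensorMod F 𝕆(j)) (i' + 1)) := by
    intro t
    induction t with
    | zero =>
      intro j _ hj2
      exact hd₀ j (by simpa using hj2) (i' + 1) (by omega)
    | succ t ih =>
      intro j hj1 hj2
      apply vanishing_step n k F hF ι m hG i' (by omega) j hj1
      exact ih (j + 1) (by omega) (by push_cast at hj2; omega)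
  exact key (d₀ - j).toNat j hj (by omega)

include hF in
/-- **(ii)**: `h^1(F(j)) ≤ h^1(F(j-1))` for `j ≥ m - 1` -/
theorem finrank_H1_le (hG : IsReg n k (cokernel ι) m) (j : ℤ) (hj : m - 1 ≤ j) :
    Module.finrank k (Coh.HH ℙ (CohB1.tensorMod F 𝕆(j)) 1) ≤
      Module.finrank k (Coh.HH ℙ (CohB1.tensorMod F 𝕆(j - 1)) 1) := by
  have hGc := isCoh_coker n k F hF ι
  have h1 : Subsingleton (Coh.HH ℙ (Sj n k F ι j).X₃ 1) :=
    subsingleton_HH_of_isReg n k _ hGc m hG 1 le_rfl j (by push_cast; omega)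
  have h2 := surjective_f_of_subsingleton k (Sj n k F ι j) (Sj_shortExact n k F ι j) 1 h1
  obtain ⟨e⟩ := Sj_X₁_iso n k F ι j (j - 1) rfl
  haveI : Module.Finite k (Coh.HH ℙ (CohB1.tensorMod F 𝕆(j - 1)) 1) :=
    finite_HH n k _ (isCoh_tw n k F hF (j - 1)) 1
  haveI : Module.Finite k (Coh.HH ℙ (Sj n k F ι j).X₁ 1) :=
    Module.Finite.equiv (HHlinEquiv k (X := ℙ) e 1).symm
  have h3 := LinearMap.finrank_le_finrank_of_surjective h2
  rw [(HHlinEquiv k (X := ℙ) e 1).finrank_eq] at h3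
  exact h3

end Groth.Agent.Helper1.KzExt
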