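import Mathlib
import Groth.Agent.Helper1.KzExt3

set_option autoImplicit false
set_option linter.unusedSectionVars false
set_option linter.style.haveILetI false

/-!
# Mumford's extension lemma: the strict decrease of `h¹`
-/

namespace Groth.Agent.Helper1.KzExt

open CategoryTheory Limits AlgebraicGeometry TopologicalSpace Opposite
open Groth.Agent.Helper4.TensorLift Groth.Agent.Helper1.KzReg Groth.Agent.Helper1.KzMultPn
  Groth.Agent.Helper1.KzLin Groth.Agent.Helper1.SerreVan Groth.Agent.Helper1.TwistExact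
  Groth.Agent.Helper1.HHLes Groth.Agent.Helper1.ProjTop Groth.Agent.Helper1.SerreFin
  Groth.Agent.Helper1.KzMult

universe u

variable (n : ℕ) (k : Type u) [Field k]

local notation "𝕆(" d ")" => Twist.twistProjSpace n k d
local notation "ℙ" => CohB1.ProjSpace n k

variable (F : (CohB1.ProjSpace n k).Modules) (hF : Coh.IsCoh F)
  (ι : CohB1.tensorMod F (Twist.twistProjSpace n k (-1)) ⟶ F) [Mono ι] (m : ℤ)

/-- the iterated twists of the basic sequence -/
noncomputable abbrev Tt (t : ℕ) : ShortComplex (CohB1.ProjSpace n k).Modules :=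
  TS n k (S0 n k F ι) m t

theorem Tt_shortExact (t : ℕ) : (Tt n k F ι m t).ShortExact :=
  TS_shortExact n k _ (S0_shortExact n k F ι) m t

theorem Tt_iso₁ (t : ℕ) (j : ℤ) (hj : j = m + t - 1) :
    Nonempty ((Tt n k F ι m t).X₁ ≅ CohB1.tensorMod F 𝕆(j)) := by
  obtain ⟨e1⟩ := TM_iso n k (S0 n k F ι).X₁ m t
  obtain ⟨e2⟩ := tw_tw_iso n k F (-1) (m + t) j (by rw [hj]; ring)
  exact ⟨eqToIso (TS_X₁ n k (S0 n k F ι) m t) ≪≫ e1 ≪≫ e2⟩

theorem Tt_iso₂ (t : ℕ) (j : ℤ) (hj : j = m + t) :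
    Nonempty ((Tt n k F ι m t).X₂ ≅ CohB1.tensorMod F 𝕆(j)) := by
  obtain ⟨e1⟩ := TM_iso n k (S0 n k F ι).X₂ m t
  subst hj
  exact ⟨eqToIso (TS_X₂ n k (S0 n k F ι) m t) ≪≫ e1⟩

theorem Tt_iso₃ (t : ℕ) (j : ℤ) (hj : j = m + t) :
    Nonempty ((Tt n k F ι m t).X₃ ≅ CohB1.tensorMod (cokernel ι) 𝕆(j)) := by
  obtain ⟨e1⟩ := TM_iso n k (S0 n k F ι).X₃ m t
  subst hj
  exact ⟨eqToIso (TS_X₃ n k (S0 n k F ι) m t) ≪≫ e1⟩

/-- `h¹(F(j))` -/
noncomputable def h1 (j : ℤ) : ℕ := Module.finrank k (Coh.HH ℙ (CohB1.tensorMod F 𝕆(j)) 1)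

include hF in
theorem finite_H1 (j : ℤ) : Module.Finite k (Coh.HH ℙ (CohB1.tensorMod F 𝕆(j)) 1) :=
  finite_HH n k _ (isCoh_tw n k F hF j) 1

include hF in
theorem subsingleton_of_h1_eq_zero (j : ℤ) (h : h1 n k F j = 0) :
    Subsingleton (Coh.HH ℙ (CohB1.tensorMod F 𝕆(j)) 1) := by
  haveI := finite_H1 n k F hF j
  exact Module.finrank_zero_iff.1 h

include hF in
theorem finrank_X₁ (t : ℕ) (j : ℤ) (hj : j = m + t - 1) :
    Module.finrank k (Coh.HH ℙ (Tt n k F ι m t).X₁ 1) = h1 n k F j := by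
  obtain ⟨e⟩ := Tt_iso₁ n k F ι m t j hj
  exact (HHlinEquiv k (X := ℙ) e 1).finrank_eq

include hF in
theorem finrank_X₂ (t : ℕ) (j : ℤ) (hj : j = m + t) :
    Module.finrank k (Coh.HH ℙ (Tt n k F ι m t).X₂ 1) = h1 n k F j := by
  obtain ⟨e⟩ := Tt_iso₂ n k F ι m t j hj
  exact (HHlinEquiv k (X := ℙ) e 1).finrank_eq

include hF in
theorem finite_X₁ (t : ℕ) : Module.Finite k (Coh.HH ℙ (Tt n k F ι m t).X₁ 1) := by
  obtain ⟨e⟩ := Tt_iso₁ n k F ι m t _ rfl
  haveI := finite_H1 n k F hF (m + t - 1)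
  exact Module.Finite.equiv (HHlinEquiv k (X := ℙ) e 1).symm

include hF in
theorem finite_X₂ (t : ℕ) : Module.Finite k (Coh.HH ℙ (Tt n k F ι m t).X₂ 1) := by
  obtain ⟨e⟩ := Tt_iso₂ n k F ι m t _ rfl
  haveI := finite_H1 n k F hF (m + t)
  exact Module.Finite.equiv (HHlinEquiv k (X := ℙ) e 1).symm

include hF in
/-- (A) `H¹(f)` is surjective -/
theorem Tt_f_surjective (hG : IsReg n k (cokernel ι) m) (t : ℕ) :
    Function.Surjective (Canon.HHlin k (Tt n k F ι m t).f 1) := by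
  apply surjective_f_of_subsingleton k _ (Tt_shortExact n k F ι m t) 1
  obtain ⟨e⟩ := Tt_iso₃ n k F ι m t _ rfl
  haveI := subsingleton_HH_of_isReg n k _ (isCoh_coker n k F hF ι) m hG 1 le_rfl (m + t)
    (by push_cast; omega)
  exact (HHlinEquiv k (X := ℙ) e 1).toEquiv.subsingleton

include hF in
/-- (B) surjectivity of `H⁰(g)` propagates -/
theorem P_succ (hG : IsReg n k (cokernel ι) m) (t : ℕ)
    (hP : Function.Surjective (Canon.HHlin k (Tt n k F ι m t).g 0)) :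
    Function.Surjective (Canon.HHlin k (Tt n k F ι m (t + 1)).g 0) := by
  have hpg : PureGen (Tt n k F ι m t).X₃ 𝕆(1) := by
    obtain ⟨e⟩ := Tt_iso₃ n k F ι m t _ rfl
    have h0 := pureGen_of_isReg n k (cokernel ι) (isCoh_coker n k F hF ι) m (m + t) (by omega)
      hG 1
    have h0' : PureGen (CohB1.tensorMod (cokernel ι) 𝕆(m + t)) 𝕆(1) := by
      simpa using h0
    exact h0'.of_iso e.symm
  have h1 := surjective_app_top k (Tt n k F ι m t).g hP
  have h2 := hpg.surjective (Tt n k F ι m t).g h1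
  have h3 := surjective_HHlin_of_app_top k _ h2
  have e := TS_succ_g n k (S0 n k F ι) m t
  rw [e]
  exact h3

end Groth.Agent.Helper1.KzExt
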