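import Mathlib
import Groth.Agent.Helper1.KzExt4

set_option autoImplicit false
set_option linter.unusedSectionVars false
set_option linter.style.haveILetI false

/-!
# Mumford's extension lemma: conclusion
-/

namespace Groth.Agent.Helper1.KzExt

open CategoryTheory Limits AlgebraicGeometry TopologicalSpace Opposite
open Groth.Agent.Helper4.TensorLift Groth.Agent.Helper1.KzReg Groth.Agent.Helper1.KzMultPn
  Groth.Agent.Helper1.KzLin Groth.Agent.Helper1.SerreVan Groth.Agent.Helper1.TwistExact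
  Groth.Agent.Helper1.HHLes Groth.Agent.Helper1.ProjTop Groth.Agent.Helper1.SerreFin
  Groth.Agent.Helper1.KzMult

universe u

variable (n : ℕ) (k : Type u) [Field k]

local notation "𝕆(" d ")" => Twist.twistProjSpace n k d
local notation "ℙ" => CohB1.ProjSpace n k

variable (F : (CohB1.ProjSpace n k).Modules) (hF : Coh.IsCoh F)
  (ι : CohB1.tensorMod F (Twist.twistProjSpace n k (-1)) ⟶ F) [Mono ι] (m : ℤ)

include hF in
theorem P_add (hG : IsReg n k (cokernel ι) m) (t : ℕ)
    (hP : Function.Surjective (Canon.HHlin k (Tt n k F ι m t).g 0)) :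
    ∀ s : ℕ, Function.Surjective (Canon.HHlin k (Tt n k F ι m (t + s)).g 0)
  | 0 => hP
  | s + 1 => P_succ n k F hF ι m hG (t + s) (P_add hG t hP s)

include hF in
theorem h1_eq_of_P (hG : IsReg n k (cokernel ι) m) (t : ℕ)
    (hP : Function.Surjective (Canon.HHlin k (Tt n k F ι m t).g 0)) :
    h1 n k F (m + t) = h1 n k F (m + t - 1) := by
  have hinj := injective_f_of_surjective_g k _ (Tt_shortExact n k F ι m t) hP
  have hsurj := Tt_f_surjective n k F hF ι m hG t
  have h := (LinearEquiv.ofBijective (Canon.HHlin k (Tt n k F ι m t).f 1) ⟨hinj, hsurj⟩).finrank_eq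
  rw [finrank_X₁ n k F hF ι m t (m + t - 1) rfl, finrank_X₂ n k F hF ι m t (m + t) rfl] at h
  exact h.symm

include hF in
theorem P_of_h1_eq (hG : IsReg n k (cokernel ι) m) (t : ℕ)
    (h : h1 n k F (m + t) = h1 n k F (m + t - 1)) :
    Function.Surjective (Canon.HHlin k (Tt n k F ι m t).g 0) := by
  apply surjective_g_of_injective_f k _ (Tt_shortExact n k F ι m t)
  haveI := finite_X₁ n k F hF ι m t
  haveI := finite_X₂ n k F hF ι m t
  have hdim : Module.finrank k (Coh.HH ℙ (Tt n k F ι m t).X₁ 1) =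
      Module.finrank k (Coh.HH ℙ (Tt n k F ι m t).X₂ 1) := by
    rw [finrank_X₁ n k F hF ι m t (m + t - 1) rfl, finrank_X₂ n k F hF ι m t (m + t) rfl, h]
  exact (LinearMap.injective_iff_surjective_of_finrank_eq_finrank hdim).2
    (Tt_f_surjective n k F hF ι m hG t)

include hF in
theorem vanish_of_P (hG : IsReg n k (cokernel ι) m) (t : ℕ)
    (hP : Function.Surjective (Canon.HHlin k (Tt n k F ι m t).g 0)) (j : ℤ)
    (hj : m + t - 1 ≤ j) : Subsingleton (Coh.HH ℙ (CohB1.tensorMod F 𝕆(j)) 1) := by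
  obtain ⟨d₀, hd₀⟩ := vanishing n k F hF
  have hc : ∀ s : ℕ, h1 n k F (m + ((t + s : ℕ) : ℤ)) = h1 n k F (m + t - 1) := by
    intro s
    induction s with
    | zero => exact h1_eq_of_P n k F hF ι m hG t hP
    | succ s ih =>
      have h2 := h1_eq_of_P n k F hF ι m hG (t + (s + 1)) (P_add n k F hF ι m hG t hP (s + 1))
      have e : m + ((t + (s + 1) : ℕ) : ℤ) - 1 = m + ((t + s : ℕ) : ℤ) := by push_cast; ring
      rw [e] at h2
      exact h2.trans ih
  have hz : h1 n k F (m + t - 1) = 0 := by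
    rw [← hc (d₀ - (m + t)).toNat]
    haveI := hd₀ (m + ((t + (d₀ - (m + t)).toNat : ℕ) : ℤ)) (by push_cast; omega) 1 le_rfl
    exact Module.finrank_zero_of_subsingleton
  apply subsingleton_of_h1_eq_zero n k F hF
  rcases eq_or_lt_of_le hj with h | h
  · rw [← h]; exact hz
  · obtain ⟨s, hs⟩ : ∃ s : ℕ, j = m + ((t + s : ℕ) : ℤ) := ⟨(j - (m + t)).toNat, by
      push_cast; omega⟩
    rw [hs, hc s, hz]

include hF in
theorem Q (hG : IsReg n k (cokernel ι) m) : ∀ t : ℕ,
    h1 n k F (m - 1 + t) + t ≤ h1 n k F (m - 1) ∨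
      ∀ j : ℤ, m - 1 + t ≤ j → Subsingleton (Coh.HH ℙ (CohB1.tensorMod F 𝕆(j)) 1)
  | 0 => Or.inl (by simp)
  | t + 1 => by
    rcases Q hG t with h | h
    · have hle : h1 n k F (m + t) ≤ h1 n k F (m + t - 1) :=
        finrank_H1_le n k F hF ι m hG (m + t) (by omega)
      rcases eq_or_lt_of_le hle with heq | hlt
      · right
        intro j hj
        exact vanish_of_P n k F hF ι m hG t (P_of_h1_eq n k F hF ι m hG t heq) j
          (by push_cast at hj; omega)
      · left
        have e1 : m - 1 + ((t + 1 : ℕ) : ℤ) = m + t := by push_cast; ring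
        have e2 : m - 1 + (t : ℤ) = m + t - 1 := by ring
        rw [e1]
        rw [e2] at h
        omega
    · right
      intro j hj
      exact h j (by push_cast at hj; omega)

include hF in
theorem h1_antitone (hG : IsReg n k (cokernel ι) m) (j : ℤ) (hj : m - 1 ≤ j) :
    ∀ s : ℕ, h1 n k F (j + s) ≤ h1 n k F j
  | 0 => by simp
  | s + 1 => by
    have h2 : h1 n k F (j + ((s + 1 : ℕ) : ℤ)) ≤ h1 n k F (j + ((s + 1 : ℕ) : ℤ) - 1) :=
      finrank_H1_le n k F hF ι m hG _ (by push_cast; omega)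
    have e : j + ((s + 1 : ℕ) : ℤ) - 1 = j + s := by push_cast; ring
    rw [e] at h2
    exact h2.trans (h1_antitone hG j hj s)

include hF in
/-- **(iii)**: `H¹(F(j)) = 0` for `j ≥ m - 1 + h¹(F(m-1))` -/
theorem vanishing_H1 (hG : IsReg n k (cokernel ι) m) (j : ℤ)
    (hj : m - 1 + (h1 n k F (m - 1) : ℤ) ≤ j) :
    Subsingleton (Coh.HH ℙ (CohB1.tensorMod F 𝕆(j)) 1) := by
  rcases Q n k F hF ι m hG (h1 n k F (m - 1)) with h | h
  · have hz : h1 n k F (m - 1 + (h1 n k F (m - 1) : ℤ)) = 0 := by omega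
    obtain ⟨s, hs⟩ : ∃ s : ℕ, j = m - 1 + (h1 n k F (m - 1) : ℤ) + s :=
      ⟨(j - (m - 1 + (h1 n k F (m - 1) : ℤ))).toNat, by omega⟩
    apply subsingleton_of_h1_eq_zero n k F hF
    have := h1_antitone n k F hF ι m hG (m - 1 + (h1 n k F (m - 1) : ℤ)) (by omega) s
    rw [hs]
    omega
  · exact h j hj

end Groth.Agent.Helper1.KzExt
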