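import Mathlib
import Groth.Agent.Helper1.ClTr3
import Groth.Agent.Helper1.KzExt5

set_option autoImplicit false
set_option linter.unusedSectionVars false
set_option linter.style.haveILetI false

/-!
# Mumford's extension lemma on a closed subscheme of `P^n_k`
-/

namespace Groth.Agent.Helper1.ClTr

open CategoryTheory Limits AlgebraicGeometry TopologicalSpace Opposite
open Groth.Agent.Helper1.SerreVan Groth.Agent.Helper1.SerreFin Groth.Agent.Helper1.ProjTop
  Groth.Agent.Helper1.PF Groth.Agent.Helper1.KzReg Groth.Agent.Helper1.KzMultPn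
  Groth.Agent.Helper1.SerreCrit

universe u

section Push

variable {X Y : Scheme.{u}} (i : X ⟶ Y)

instance (Y : Scheme.{u}) : (toAbF Y).Faithful :=
  inferInstanceAs (SheafOfModules.toSheaf Y.ringCatSheaf).Faithful

instance : (Coh.push i).IsRightAdjoint :=
  (Scheme.Modules.pullbackPushforwardAdjunction i).isRightAdjoint

/-- pushforward along a closed immersion preserves epimorphisms -/
theorem epi_push_map [IsClosedImmersion i] {F G : X.Modules} (g : F ⟶ G) [Epi g] :
    Epi ((Coh.push i).map g) := by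
  have h1 : Epi ((toAbF X).map g) := inferInstance
  have h2 := Groth.Agent.Helper1.CohTopFun.push_epi_of_isClosedEmbedding i.base
    i.isClosedEmbedding _ h1
  have h3 : Epi ((toAbF Y).map ((Coh.push i).map g)) := h2
  exact (toAbF Y).epi_of_epi_map h3

/-- pushforward along a closed immersion preserves short exact sequences -/
theorem shortExact_push [IsClosedImmersion i] (S : ShortComplex X.Modules) (hS : S.ShortExact) :
    (S.map (Coh.push i)).ShortExact := by
  have := hS.mono_f
  have := hS.epi_g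
  have : Mono (S.map (Coh.push i)).f := inferInstanceAs (Mono ((Coh.push i).map S.f))
  have : Epi (S.map (Coh.push i)).g := epi_push_map i S.g
  exact ShortComplex.ShortExact.mk
    (hS.exact.map_of_mono_of_preservesKernel (Coh.push i) inferInstance inferInstance)

end Push

section Ext

variable (n : ℕ) (k : Type u) [Field k]

theorem isReg_of_iso {F F' : (CohB1.ProjSpace n k).Modules} (e : F ≅ F') (m : ℤ)
    (h : IsReg n k F m) : IsReg n k F' m := by
  intro q hq
  haveI : Subsingleton (Coh.HH (CohB1.ProjSpace n k)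
      ((DCoh.tensorRightMod (Twist.twistProjSpace n k (m - q))).obj F) q) := h q hq
  exact (HHlinEquiv k (X := CohB1.ProjSpace n k)
    ((DCoh.tensorRightMod (Twist.twistProjSpace n k (m - q))).mapIso e) q).symm.toEquiv.subsingleton

variable {X : Scheme.{u}} [X.Over (Spec (CommRingCat.of k))]
  (i : X ⟶ CohB1.ProjSpace n k) [IsClosedImmersion i]
  (hi : i ≫ CohB1.ProjSpace.toSpec n k = X ↘ Spec (CommRingCat.of k))
  (F G : X.Modules) (hF : Coh.IsCoh F) (hG : Coh.IsCoh G)
  (f : tw n k i F (-1) ⟶ F) (g : F ⟶ G) (hfg : f ≫ g = 0)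
  (hS : (ShortComplex.mk f g hfg).ShortExact)

/-- the pushed-forward map `(i_*F)(-1) ⟶ i_*F` -/
noncomputable def ι' : CohB1.tensorMod ((Coh.push i).obj F) (Twist.twistProjSpace n k (-1)) ⟶
    (Coh.push i).obj F :=
  (pushTwIso n k i F (-1)).inv ≫ (Coh.push i).map f

include hS in
theorem mono_ι' : Mono (ι' n k i F f) := by
  have h := shortExact_push i _ hS
  have : Mono ((Coh.push i).map f) := h.mono_f
  exact mono_comp _ _

include hS in
theorem nonempty_coker_iso : Nonempty (cokernel (ι' n k i F f) ≅ (Coh.push i).obj G) := by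
  have h := shortExact_push i _ hS
  have : Epi ((ShortComplex.mk f g hfg).map (Coh.push i)).g := h.epi_g
  have hc := h.exact.gIsCokernel
  have e1 : cokernel ((Coh.push i).map f) ≅ (Coh.push i).obj G :=
    (colimit.isColimit _).coconePointUniqueUpToIso hc
  exact ⟨cokernelEpiComp (pushTwIso n k i F (-1)).inv ((Coh.push i).map f) ≪≫ e1⟩

include hi hF hG hS in
/-- **Mumford's extension lemma on a closed subscheme of `P^n_k`** -/
theorem ext_main (m : ℤ) (hGm : IsRegX n k i G m) :
    (∀ (q : ℕ) (j : ℤ), 2 ≤ q → m - q ≤ j → Subsingleton (Coh.HH X (tw n k i F j) q)) ∧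
    (∀ j : ℤ, m - 1 ≤ j → Module.finrank k (Coh.HH X (tw n k i F j) 1) ≤
      Module.finrank k (Coh.HH X (tw n k i F (j - 1)) 1)) ∧
    (∀ j : ℤ, m - 1 + (Module.finrank k (Coh.HH X (tw n k i F (m - 1)) 1) : ℤ) ≤ j →
      Subsingleton (Coh.HH X (tw n k i F j) 1)) := by
  haveI := mono_ι' n k i F G f g hfg hS
  obtain ⟨e⟩ := nonempty_coker_iso n k i F G f g hfg hS
  have hF' := isCoh_push n k i F hF
  have hreg : IsReg n k (cokernel (ι' n k i F f)) m :=
    isReg_of_iso n k e.symm m ((isRegX_iff n k i G hG.1 m).1 hGm)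
  have hfr : ∀ j : ℤ, Module.finrank k (Coh.HH X (tw n k i F j) 1) =
      Module.finrank k (Coh.HH (CohB1.ProjSpace n k)
        (CohB1.tensorMod ((Coh.push i).obj F) (Twist.twistProjSpace n k j)) 1) := by
    intro j
    obtain ⟨e⟩ := nonempty_HH_linearEquiv n k i hi F hF.1 j 1
    exact e.finrank_eq
  refine ⟨?_, ?_, ?_⟩
  · intro q j hq hj
    rw [subsingleton_HH_tw_iff n k i F hF.1 j q]
    exact Groth.Agent.Helper1.KzExt.vanishing_ge_two n k _ hF' (ι' n k i F f) m hreg q hq j hj
  · intro j hj
    rw [hfr, hfr]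
    exact Groth.Agent.Helper1.KzExt.finrank_H1_le n k _ hF' (ι' n k i F f) m hreg j hj
  · intro j hj
    rw [subsingleton_HH_tw_iff n k i F hF.1 j 1]
    rw [hfr] at hj
    exact Groth.Agent.Helper1.KzExt.vanishing_H1 n k _ hF' (ι' n k i F f) m hreg j hj

end Ext

end Groth.Agent.Helper1.ClTr
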