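import Mathlib
import Groth.Agent.Helper1.Dev2
import Groth.Agent.Helper4.SubInf6
import Groth.Agent.Helper4.FTLift
import Groth.Agent.Helper4.FTRestrict

/-!
# Dévissage, part 3: extension of the graph of a local isomorphism
-/

set_option autoImplicit false
set_option linter.style.haveILetI false

namespace Groth.Agent.Helper1.Dev

open CategoryTheory Limits AlgebraicGeometry
open Groth.Agent.Helper4.StalkDict Groth.Agent.Helper4 Scheme.Modules

universe u

variable {X : Scheme.{u}}

theorem isCoh_biprod {E₁ E₂ : X.Modules} (h₁ : Coh.IsCoh E₁) (h₂ : Coh.IsCoh E₂) :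
    Coh.IsCoh (E₁ ⊞ E₂ : X.Modules) := by
  haveI : E₁.IsQuasicoherent := h₁.1
  haveI : E₂.IsQuasicoherent := h₂.1
  exact ⟨QcohLimits.isQuasicoherent_biprod _ _, FTLift.isFiniteType_biprod _ _ h₁.2 h₂.2⟩

theorem isCoh_restrict {E : X.Modules} (h : Coh.IsCoh E) (V : X.Opens) :
    Coh.IsCoh (E.restrict V.ι) := by
  haveI : E.IsQuasicoherent := h.1
  exact ⟨Scheme.Modules.isQuasicoherent_restrictFunctor V.ι E, FTRestrict.isFT_restrict V.ι E h.2⟩

/-- **the graph trick**: two coherent modules which are isomorphic over an open `V` are both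
targets of morphisms from a coherent module which are isomorphisms at the points of `V` -/
theorem exists_graph_extension [IsNoetherian X] (E₁ E₂ : X.Modules) (h₁ : Coh.IsCoh E₁)
    (h₂ : Coh.IsCoh E₂) (V : X.Opens) (u : E₁.restrict V.ι ≅ E₂.restrict V.ι) :
    ∃ (H : X.Modules) (v : H ⟶ E₁) (w : H ⟶ E₂), Coh.IsCoh H ∧
      ∀ z ∈ V, Function.Bijective (stalkLin v z) ∧ Function.Bijective (stalkLin w z) := by
  have hE := isCoh_biprod h₁ h₂
  haveI : Coh.IsQCoh (E₁ ⊞ E₂ : X.Modules) := hE.1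
  have hR := isCoh_restrict h₁ V
  haveI : Coh.IsQCoh (E₁.restrict V.ι) := hR.1
  let R := Scheme.Modules.restrictFunctor V.ι
  let γ : E₁.restrict V.ι ⟶ (E₁ ⊞ E₂ : X.Modules).restrict V.ι :=
    R.map biprod.inl + u.hom ≫ R.map biprod.inr
  have hγ1 : γ ≫ R.map biprod.fst = 𝟙 _ := by
    show (R.map biprod.inl + u.hom ≫ R.map biprod.inr) ≫ R.map biprod.fst = 𝟙 _
    rw [Preadditive.add_comp, Category.assoc, ← R.map_comp, ← R.map_comp, biprod.inl_fst,
      biprod.inr_fst, R.map_zero, comp_zero, add_zero, R.map_id]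
  have hγ2 : γ ≫ R.map biprod.snd = u.hom := by
    show (R.map biprod.inl + u.hom ≫ R.map biprod.inr) ≫ R.map biprod.snd = u.hom
    rw [Preadditive.add_comp, Category.assoc, ← R.map_comp, ← R.map_comp, biprod.inl_snd,
      biprod.inr_snd, R.map_zero, zero_add, R.map_id, Category.comp_id]
  haveI : Mono γ := mono_of_mono_fac hγ1
  have hX : ∀ x : X, ∃ U : X.Opens, x ∈ U ∧ TopologicalSpace.NoetherianSpace (U : Set X) :=
    fun x => ⟨⊤, trivial, inferInstance⟩
  obtain ⟨H, i', e, hmono, hq, hft, hcomp⟩ := Groth.Agent.Helper4.SubInf.exists_extension_locallyNoetherian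
    hX V (E₁ ⊞ E₂ : X.Modules) (E₁.restrict V.ι) hR.2 γ
  refine ⟨H, i' ≫ biprod.fst, i' ≫ biprod.snd, ⟨hq, hft⟩, fun z hz => ⟨?_, ?_⟩⟩
  · apply stalkLin_bijective_of_isIso_restrict _ V _ z hz
    have : R.map (i' ≫ biprod.fst) = e.hom := by
      rw [R.map_comp, ← hcomp, Category.assoc, hγ1, Category.comp_id]
    rw [this]
    infer_instance
  · apply stalkLin_bijective_of_isIso_restrict _ V _ z hz
    have : R.map (i' ≫ biprod.snd) = e.hom ≫ u.hom := by
      rw [R.map_comp, ← hcomp, Category.assoc, hγ2]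
    rw [this]
    infer_instance

end Groth.Agent.Helper1.Dev
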