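import Mathlib
import Groth.Agent.Helper1.Dev3
import Groth.Agent.Helper4.FinLocFree
import Groth.Agent.Helper4.SecDict
import Groth.Agent.Helper4.FinLocFree6

/-!
# Dévissage, part 4: the integral case
-/

set_option autoImplicit false
set_option linter.style.haveILetI false

namespace Groth.Agent.Helper1.Dev

open CategoryTheory Limits AlgebraicGeometry
open Groth.Agent.Helper4.StalkDict Groth.Agent.Helper4 Groth.Agent.Helper4.FinLocFree
  Groth.Agent.Lead.StalkNhd Groth.Agent.Lead.FlatLib Scheme.Modules Groth.Agent.Helper1.HHSum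

universe u

variable {Z : Scheme.{u}} [IsIntegral Z] [IsNoetherian Z]

/-- generic freeness -/
theorem exists_isFreeAlong (E : Z.Modules) (hE : Coh.IsCoh E) :
    ∃ (V : Z.Opens) (n : ℕ), genericPoint Z ∈ V ∧ IsFreeAlong E V.ι n := by
  obtain ⟨U, hU, hx⟩ := QcohLimits.exists_affine_nhd (genericPoint Z)
  haveI : E.IsQuasicoherent := hE.1
  haveI : IsNoetherianRing Γ(Z, U) := IsLocallyNoetherian.component_noetherian ⟨U, hU⟩
  haveI : Module.Finite Γ(Z, U) Γ(E, U) := SecDict.finite_sections hU E hE.1 hE.2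
  have hfp : Module.FinitePresentation Γ(Z, U) Γ(E, U) := Module.finitePresentation_of_finite _ _
  have hfree : Module.Free (Z.presheaf.stalk (genericPoint Z)) (E.presheaf.stalk (genericPoint Z)) :=
    Module.Free.of_divisionRing (K := Z.functionField) _
  exact exists_isFreeAlong_of_fp_of_free_stalk E hU (genericPoint Z) hx hfp hfree

variable {K : ObjectProperty Z.Modules} (hK : ExactClass K)
  (hsmall : ∀ E : Z.Modules, Coh.IsCoh E → Subsingleton (E.presheaf.stalk (genericPoint Z)) → K E)

include hK hsmall in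
/-- modules which are isomorphic near the generic point are simultaneously in the class -/
theorem iff_of_iso_restrict (E₁ E₂ : Z.Modules) (h₁ : Coh.IsCoh E₁) (h₂ : Coh.IsCoh E₂)
    (V : Z.Opens) (hV : genericPoint Z ∈ V) (u : E₁.restrict V.ι ≅ E₂.restrict V.ι) :
    K E₁ ↔ K E₂ := by
  obtain ⟨H, v, w, hH, hvw⟩ := exists_graph_extension E₁ E₂ h₁ h₂ V u
  obtain ⟨hv, hw⟩ := hvw _ hV
  have e1 : K H ↔ K E₁ := hK.of_ker_coker v hH h₁
    (hsmall _ (Groth.Agent.Lead.PerfLib.isCoh_kernel hH h₁ v) (subsingleton_stalk_kernel v _ hv.1))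
    (hsmall _ (Groth.Agent.Lead.PerfLib.isCoh_cokernel hH h₁ v)
      (subsingleton_stalk_cokernel v _ hv.2))
  have e2 : K H ↔ K E₂ := hK.of_ker_coker w hH h₂
    (hsmall _ (Groth.Agent.Lead.PerfLib.isCoh_kernel hH h₂ w) (subsingleton_stalk_kernel w _ hw.1))
    (hsmall _ (Groth.Agent.Lead.PerfLib.isCoh_cokernel hH h₂ w)
      (subsingleton_stalk_cokernel w _ hw.2))
  exact e1.symm.trans e2

theorem isCoh_structureModule (Y : Scheme.{u}) : Coh.IsCoh (Coh.structureModule Y) :=
  Groth.Agent.Lead.PerfLib.isCoh_of_isFinLocFree FinLocFree6.isFinLocFree_unit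

theorem isCoh_freeMod (Y : Scheme.{u}) (n : ℕ) : Coh.IsCoh (FlatMod.freeMod Y n) :=
  Groth.Agent.Helper1.SerreFin.isCoh_sigma_fin _ (fun _ => isCoh_structureModule Y)

include hK hsmall in
/-- the integral case, once the structure sheaf is known to be in the class -/
theorem integral_main (hO : K (Coh.structureModule Z)) (E : Z.Modules) (hE : Coh.IsCoh E) :
    K E := by
  obtain ⟨V, n, hV, ⟨e⟩⟩ := exists_isFreeAlong E hE
  have hF : K (FlatMod.freeMod Z n) := hK.sigma _ (isCoh_structureModule Z) hO n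
  exact (iff_of_iso_restrict hK hsmall E (FlatMod.freeMod Z n) hE (isCoh_freeMod Z n) V hV
    (e ≪≫ (restrictFreeIso V.ι n).symm)).2 hF

theorem subsingleton_stalk_of_isZero_restrict (G : Z.Modules) (V : Z.Opens) (z : Z) (hz : z ∈ V)
    (h : IsZero (G.restrict V.ι)) : Subsingleton (G.presheaf.stalk z) := by
  have h1 : Subsingleton ((G.restrict V.ι).presheaf.stalk (⟨z, hz⟩ : V)) := by
    by_contra hcon
    have : (⟨z, hz⟩ : V) ∈ CohB1.support (G.restrict V.ι) := hcon
    rw [support_eq_empty_of_isZero _ h] at this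
    exact this
  exact (rsHom_bijective V.ι G ⟨z, hz⟩).2.subsingleton

include hK hsmall in
/-- a module in the class with nonzero generic stalk forces the structure sheaf into the class,
if the class is closed under direct summands -/
theorem structure_of_summand
    (hsum : ∀ (M N : Z.Modules) (i : N ⟶ M) (r : M ⟶ N), i ≫ r = 𝟙 N → Coh.IsCoh M →
      Coh.IsCoh N → K M → K N)
    (G : Z.Modules) (hG : Coh.IsCoh G) (hKG : K G)
    (hne : ¬ Subsingleton (G.presheaf.stalk (genericPoint Z))) : K (Coh.structureModule Z) := by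
  obtain ⟨V, q, hV, ⟨e⟩⟩ := exists_isFreeAlong G hG
  have hq : 0 < q := by
    by_contra h0
    have hq0 : q = 0 := by omega
    subst hq0
    apply hne
    apply subsingleton_stalk_of_isZero_restrict G V _ hV
    refine IsZero.of_iso ?_ e
    rw [IsZero.iff_id_eq_zero]
    apply Sigma.hom_ext
    intro j
    exact j.elim0
  have hF : K (FlatMod.freeMod Z q) :=
    (iff_of_iso_restrict hK hsmall G (FlatMod.freeMod Z q) hG (isCoh_freeMod Z q) V hV
      (e ≪≫ (restrictFreeIso V.ι q).symm)).1 hKG
  refine hsum (FlatMod.freeMod Z q) (Coh.structureModule Z)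
    (Sigma.ι (fun _ : Fin q => Coh.structureModule Z) ⟨0, hq⟩)
    (proj (fun _ : Fin q => Coh.structureModule Z) ⟨0, hq⟩) ?_ (isCoh_freeMod Z q)
    (isCoh_structureModule Z) hF
  rw [ι_proj, dif_pos rfl]
  rfl

end Groth.Agent.Helper1.Dev
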