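import Mathlib
import Groth.Agent.Helper1.Dev4
import Groth.Agent.Helper1.ClExt
import Groth.Agent.Lead.Thick5
import Groth.Agent.Helper4.IdealKill
import Groth.Agent.Helper4.QcohEpi
import Groth.Agent.S0019

/-!
# Dévissage, part 5: modules killed by the ideal of a closed immersion
-/

set_option autoImplicit false
set_option linter.style.haveILetI false

namespace Groth.Agent.Helper1.Dev

open CategoryTheory Limits AlgebraicGeometry TopologicalSpace
open Groth.Agent.Helper4.StalkDict Groth.Agent.Helper4 Groth.Agent.Lead.Thick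
  Groth.Agent.Lead.StalkNhd Groth.Agent.Lead.FlatLib Scheme.Modules Groth.Agent.Lead.PushStalk

universe u

variable {X Z : Scheme.{u}} (i : Z ⟶ X) [IsClosedImmersion i]

/-- pushforwards along a closed immersion are killed by its ideal -/
theorem kills_push (M : Z.Modules) : Kills i ((Scheme.Modules.pushforward i).obj M) 1 := by
  intro U _ a ha m
  rw [pow_one] at ha
  rw [push_smul]
  have : (i.app U).hom a = 0 := ha
  rw [this]
  exact zero_smul Γ(Z, i ⁻¹ᵁ U) (show Γ(M, i ⁻¹ᵁ U) from m)

theorem support_push_subset (M : Z.Modules) :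
    CohB1.support ((Scheme.Modules.pushforward i).obj M) ⊆ Set.range i := by
  intro x hx
  by_contra hcon
  exact hx (subsingleton_stalk_of_notMem_range i M i.isClosedEmbedding.isClosed_range x hcon)

/-- a module killed by a power of the ideal of `i` is supported on the range of `i` -/
theorem support_subset_range_of_kills (F : X.Modules) (n : ℕ) (h : Kills i F n) :
    CohB1.support F ⊆ Set.range i := by
  intro x hx
  by_contra hcon
  apply hx
  refine ⟨fun a b => ?_⟩
  suffices h0 : ∀ t : F.presheaf.stalk x, t = 0 by rw [h0 a, h0 b]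
  intro t
  obtain ⟨V, hxV, m, rfl⟩ := TopCat.Presheaf.exists_germ_eq _ t
  obtain ⟨_, ⟨W, hW : IsAffineOpen W, rfl⟩, hxW, hWV⟩ :=
    X.isBasis_affineOpens.exists_subset_of_mem_open hxV V.isOpen
  have hxs : x ∉ (i.ker.support : Set X) := by
    rw [Scheme.Hom.support_ker, i.isClosedEmbedding.isClosed_range.closure_eq]
    exact hcon
  have hxs' : x ∉ X.zeroLocus (U := W) ((i.ker).ideal ⟨W, hW⟩ : Set Γ(X, W)) := fun hc =>
    hxs ((Scheme.IdealSheafData.mem_support_iff_of_mem (U := ⟨W, hW⟩) hxW).2 hc)
  rw [Scheme.mem_zeroLocus_iff] at hxs'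
  push_neg at hxs'
  obtain ⟨a, ha, hxa⟩ := hxs'
  rw [Scheme.Hom.ker_apply] at ha
  have hkill : (a ^ n) • (F.presheaf.map (homOfLE hWV).op m) = 0 :=
    h W hW (a ^ n) (Ideal.pow_mem_pow ha n) _
  rw [← TopCat.Presheaf.germ_res_apply F.presheaf (homOfLE hWV) x hxW m]
  have hu : IsUnit (X.presheaf.germ W x hxW a) := by
    rwa [Scheme.mem_basicOpen _ _ _ hxW] at hxa
  have h2 := congrArg (F.presheaf.germ W x hxW) hkill
  rw [germ_smul, map_pow, map_zero] at h2
  exact ((hu.pow n).smul_eq_zero).1 h2

end Groth.Agent.Helper1.Dev
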