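import Groth.Agent.Helper1.SerreCritC

/-!
# Serre's criterion for affineness
-/

set_option autoImplicit false

namespace Groth.Agent.Helper1.SerreCrit

open CategoryTheory Limits Opposite TopologicalSpace AlgebraicGeometry
open Groth.Agent.Helper1.IdealMod Groth.Agent.Helper1.CohTopFun

universe u

variable {X : Scheme.{u}}

/-- **Serre's criterion** (S0009) -/
theorem isAffine_of_H1_ideals [CompactSpace X]
    (h : ∀ (I : X.Modules) (i : I ⟶ Coh.structureModule X), Mono i →
      Coh.IsQCoh I → Subsingleton (Coh.HH X I 1)) : IsAffine X := by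
  classical
  obtain ⟨s, hs, hcov⟩ := exists_finset_affine_basicOpen h
  let J : X.Modules := kernel (𝟙 (Coh.structureModule X))
  let i : J ⟶ Coh.structureModule X := kernel.ι _
  haveI : J.IsQuasicoherent := Groth.Agent.Helper4.QcohLimits.isQuasicoherent_kernel _
  obtain ⟨j, hj⟩ := exists_sub_mem_span h s.toList J i (fun x => by
    obtain ⟨f, hf, hxf⟩ := hcov x
    exact Or.inl ⟨f, Finset.mem_toList.2 hf, hxf⟩)
  have hij : i.app ⊤ j = 0 := by
    have h1 : i ≫ 𝟙 _ = 0 := kernel.condition _
    rw [Category.comp_id] at h1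
    rw [h1]
    rfl
  rw [hij, fn_zero, sub_zero] at hj
  apply isAffine_of_isAffineOpen_basicOpen {f | f ∈ s.toList}
  · exact (Ideal.eq_top_iff_one _).2 hj
  · intro f hf
    exact hs f (Finset.mem_toList.1 hf)

end Groth.Agent.Helper1.SerreCrit
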