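import Groth.Agent.Helper1.CohTopLeray
import Groth.Agent.Helper1.SitePush
import Groth.Agent.S0456

/-!
# Higher direct images commute with restriction to opens of the base
-/

namespace Groth.Agent.Helper1.CohTopFun

open CategoryTheory Limits Opposite TopologicalSpace Abelian
open Groth.Agent.Lead.CohTopB
open Groth.Agent.Helper1.DeltaCmp

universe u
variable {X Y : TopCat.{u}} (f : X ⟶ Y) (V : Opens Y)

/-- the restriction of `f` over `V` -/
noncomputable abbrev gV : TopCat.of ((Opens.map f).obj V) ⟶ TopCat.of V :=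
  TopCat.ofHom ⟨(V : Set Y).restrictPreimage f, f.hom.continuous.restrictPreimage⟩

instance : (CohTop.push (gV f V)).Additive := CohTop.instAdditiveAbPush _

instance : PreservesFiniteLimits (CohTop.push (gV f V)) :=
  (inferInstance : ∀ {X Y : TopCat.{u}} (f : X ⟶ Y), PreservesFiniteLimits (CohTop.push f)) _

lemma map_jObj (W : Opens (TopCat.of V)) :
    (Opens.map f).obj (jObj V W) = jObj ((Opens.map f).obj V) ((Opens.map (gV f V)).obj W) := by
  ext x
  constructor
  · rintro ⟨y, hy, hxy⟩
    have hx : x ∈ (Opens.map f).obj V := by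
      show f x ∈ V
      rw [← hxy]; exact y.2
    refine ⟨⟨x, hx⟩, ?_, rfl⟩
    show (gV f V) ⟨x, hx⟩ ∈ W
    have : (gV f V) ⟨x, hx⟩ = y := Subtype.ext hxy.symm
    rw [this]; exact hy
  · rintro ⟨y, hy, rfl⟩
    exact ⟨(gV f V) y, hy, rfl⟩

/-- `(f_* F)|_V ≅ g_* (F|_{f⁻¹V})` -/
noncomputable def pushRestrIsoApp (F : CohTop.Ab X) :
    (CohTop.push f ⋙ CohTop.restrFunctor V).obj F ≅
      (CohTop.restrFunctor ((Opens.map f).obj V) ⋙ CohTop.push (gV f V)).obj F :=
  (fullyFaithfulSheafToPresheaf _ _).preimageIso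
    (NatIso.ofComponents (fun W => F.obj.mapIso (eqToIso (congrArg op (map_jObj f V W.unop))))
      (by
        intro W W' i
        show F.obj.map _ ≫ F.obj.map _ = F.obj.map _ ≫ F.obj.map _
        rw [← F.obj.map_comp, ← F.obj.map_comp]
        congr 1))

/-- `(f_* F)|_V ≅ g_* (F|_{f⁻¹V})`, naturally in `F` -/
noncomputable def pushRestrIso :
    CohTop.push f ⋙ CohTop.restrFunctor V ≅
      CohTop.restrFunctor ((Opens.map f).obj V) ⋙ CohTop.push (gV f V) :=
  NatIso.ofComponents (fun F => pushRestrIsoApp f V F)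
    (by
      intro F G φ
      apply (sheafToPresheaf _ _).map_injective
      ext W : 2
      simp only [Functor.map_comp, pushRestrIsoApp, Functor.FullyFaithful.preimageIso_hom]
      exact (φ.hom.naturality _).symm)

theorem nonempty_iso_restr_Rpush (n : ℕ) (F : CohTop.Ab X) :
    Nonempty ((CohTop.restrFunctor V).obj ((CohTop.Rpush f n).obj F) ≅
      (CohTop.Rpush (gV f V) n).obj ((CohTop.restrFunctor ((Opens.map f).obj V)).obj F)) := by
  have e : CohTop.Rpush f 0 ⋙ CohTop.restrFunctor V ≅
      CohTop.restrFunctor ((Opens.map f).obj V) ⋙ CohTop.Rpush (gV f V) 0 :=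
    Functor.isoWhiskerRight (CohTop.push f).rightDerivedZeroIsoSelf _ ≪≫ pushRestrIso f V ≪≫
      Functor.isoWhiskerLeft _ (CohTop.push (gV f V)).rightDerivedZeroIsoSelf.symm
  have key : ∀ F : CohTop.Ab X, True →
      Nonempty (Effacement (fun n => CohTop.Rpush f n ⋙ CohTop.restrFunctor V)
        (fun n => CohTop.restrFunctor ((Opens.map f).obj V) ⋙ CohTop.Rpush (gV f V) n)
        (fun _ => True) F) := by
    intro F _
    obtain ⟨S, hS, hI, rfl⟩ : ∃ (S : ShortComplex (CohTop.Ab X)) (_ : S.ShortExact)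
        (_ : Injective S.X₂), S.X₁ = F := ⟨injSC F, injSC_shortExact F, inferInstance, rfl⟩
    have hS' : (S.map (CohTop.restrFunctor ((Opens.map f).obj V))).ShortExact :=
      hS.map_of_exact _
    have l2 : HasLES (fun n => CohTop.restrFunctor ((Opens.map f).obj V) ⋙
        CohTop.Rpush (gV f V) n) S :=
      Horseshoe.hasLES_rightDerived (CohTop.push (gV f V)) _ hS'
    exact ⟨{
      S := S
      iso := rfl
      mem := trivial
      zero := fun n => Functor.map_isZero (CohTop.restrFunctor V)
        (Functor.isZero_rightDerived_obj_injective_succ _ _ _)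
      zero' := fun n => by
        have : TopCat.Sheaf.IsFlasque S.X₂ := isFlasque_of_injective S.X₂
        exact Groth.Agent.S0456.result (gV f V) (CohTop.restr S.X₂ ((Opens.map f).obj V)) n
      les := SiteCoh.HasLES.comp (Horseshoe.hasLES_rightDerived (CohTop.push f) S hS)
        (CohTop.restrFunctor V)
      les' := l2 }⟩
  exact nonempty_iso (fun _ => True) e key n F trivial

end Groth.Agent.Helper1.CohTopFun
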