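import Groth.Agent.Helper1.SerreCritD
import Groth.Agent.Helper1.CohTopBase
import Groth.Agent.Helper1.SerreD
import Groth.Agent.Helper4.SubExt

/-!
# The relative form of Serre's criterion
-/

set_option autoImplicit false

namespace Groth.Agent.Helper1.SerreCrit

open CategoryTheory Limits Opposite TopologicalSpace AlgebraicGeometry Abelian
open Groth.Agent.Lead.CohTopB
open Groth.Agent.Helper1.DeltaCmp
open Groth.Agent.Helper1.IdealMod Groth.Agent.Helper1.CohTopFun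
open Groth.Agent.Helper1.CohTopExt

universe u

section top

variable {A B : TopCat.{u}} (g : A ⟶ B)

/-- `H¹(A, F) ≅ H¹(B, g_* F)` when `R¹ g_* F = 0` -/
theorem nonempty_iso_H1_push (F : CohTop.Ab A) (h : IsZero ((CohTop.Rpush g 1).obj F)) :
    Nonempty ((HSeq 1).obj F ≅ (HpSeq g 1).obj F) := by
  obtain ⟨S, hS, hI, rfl⟩ : ∃ (S : ShortComplex (CohTop.Ab A)) (_ : S.ShortExact)
      (_ : Injective S.X₂), S.X₁ = F := ⟨injSC F, injSC_shortExact F, inferInstance, rfl⟩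
  have e : HSeq (X := A) 0 ≅ HpSeq g 0 := h0Iso ≪≫ (hp0Iso g).symm
  have l1 : HasLES (fun n => HSeq n) S :=
    hasLES_extSeq (𝟭 (CohTop.Ab A)) (constZ A) S hS
  have l2 : HasLES (fun n => HpSeq g n) S :=
    hasLES_extSeq' (CohTop.push g) (constZ B) S
      (DerLES.shortExact_map (CohTop.push g) S hS h)
  obtain ⟨i₁⟩ := nonempty_iso_cokernel l1 (isZero_HSeq_of_injective _ 0)
  obtain ⟨i₂⟩ := nonempty_iso_cokernel l2 (isZero_HpSeq_of_injective g _ 0)
  refine ⟨i₁ ≪≫ ?_ ≪≫ i₂.symm⟩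
  exact cokernel.mapIso _ _ (e.app _) (e.app _) (e.hom.naturality S.g)

end top

variable {X Y : Scheme.{u}}

/-- `H¹(f⁻¹V, J) = 0` for `V` affine when `R¹ f_* J = 0` -/
theorem subsingleton_H1_restrict_preimage (f : X ⟶ Y) [QuasiCompact f] [QuasiSeparated f]
    (J : X.Modules) [J.IsQuasicoherent] (hR : IsZero ((Coh.RpushAb f 1).obj (Coh.toAb J)))
    (V : Y.Opens) (hV : IsAffineOpen V) :
    Subsingleton (Coh.HH (↑(f ⁻¹ᵁ V)) (J.restrict (f ⁻¹ᵁ V).ι) 1) := by
  obtain ⟨e1⟩ := nonempty_iso_restr_Rpush f.base V 1 (Coh.toAb J)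
  have hz : IsZero ((CohTop.Rpush (gV f.base V) 1).obj
      ((CohTop.restrFunctor ((Opens.map f.base).obj V)).obj (Coh.toAb J))) :=
    IsZero.of_iso (Functor.map_isZero (CohTop.restrFunctor V) hR) e1.symm
  obtain ⟨e2⟩ := nonempty_iso_H1_push (gV f.base V) _ hz
  let e3 := (pushRestrIso f.base V).app (Coh.toAb J)
  haveI : IsAffine (↑V : Scheme.{u}) := hV
  haveI : ((Scheme.Modules.pushforward f).obj J).IsQuasicoherent :=
    Groth.Agent.Helper4.QcohGlue.isQuasicoherent_pushforward f J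
  have h4 : Subsingleton (Coh.HH (↑V) (((Scheme.Modules.pushforward f).obj J).restrict V.ι) 1) :=
    Serre.subsingleton_HH_of_isAffine _ 0
  have h5 : IsZero ((HSeq 1).obj ((CohTop.push f.base ⋙ CohTop.restrFunctor V).obj (Coh.toAb J))) :=
    @AddCommGrpCat.isZero_of_subsingleton _ h4
  have h6 : IsZero ((HSeq 1).obj ((CohTop.restrFunctor ((Opens.map f.base).obj V)).obj
      (Coh.toAb J))) :=
    IsZero.of_iso (IsZero.of_iso h5 ((HSeq 1).mapIso e3).symm) e2
  exact AddCommGrpCat.subsingleton_of_isZero h6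

lemma subsingleton_HH_of_iso {M N : X.Modules} (e : M ≅ N) (n : ℕ)
    (h : Subsingleton (Coh.HH X M n)) : Subsingleton (Coh.HH X N n) := by
  have h1 : IsZero ((toAbF X ⋙ HSeq n).obj M) := @AddCommGrpCat.isZero_of_subsingleton _ h
  have h2 : IsZero ((toAbF X ⋙ HSeq n).obj N) :=
    IsZero.of_iso h1 ((toAbF X ⋙ HSeq n).mapIso e).symm
  exact AddCommGrpCat.subsingleton_of_isZero h2

/-- **relative Serre criterion** (S0029) -/
theorem isAffineHom_of_R1 (f : X ⟶ Y) [QuasiCompact f] [QuasiSeparatedSpace X]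
    (h : ∀ (I : X.Modules) (i : I ⟶ Coh.structureModule X), Mono i → Coh.IsQCoh I →
      IsZero ((Coh.RpushAb f 1).obj (Coh.toAb I))) : IsAffineHom f := by
  constructor
  intro V hV
  show IsAffine (↑(f ⁻¹ᵁ V) : Scheme.{u})
  haveI : CompactSpace (↑(f ⁻¹ᵁ V) : Scheme.{u}) :=
    isCompact_iff_compactSpace.1 (f.isCompact_preimage hV.isCompact)
  apply isAffine_of_H1_ideals
  intro J' i' hi' hJ'
  haveI := hi'
  haveI : J'.IsQuasicoherent := hJ'
  haveI : QuasiCompact (f ⁻¹ᵁ V).ι := inferInstance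
  let i'' : J' ⟶ (Coh.structureModule X).restrict (f ⁻¹ᵁ V).ι :=
    i' ≫ (Scheme.Modules.restrictUnitIso (f ⁻¹ᵁ V).ι).inv
  haveI : Mono i'' := mono_comp _ _
  haveI hKq : (Groth.Agent.Helper4.SubExt.K (f ⁻¹ᵁ V).ι (Coh.structureModule X)
      i'').IsQuasicoherent :=
    Groth.Agent.Helper4.SubExt.isQuasicoherent_K (f ⁻¹ᵁ V).ι _ i''
  obtain ⟨e, -⟩ := Groth.Agent.Helper4.SubExt.exists_restrict_K_iso (f ⁻¹ᵁ V).ι
    (Coh.structureModule X) i''
  have hK := subsingleton_H1_restrict_preimage f _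
    (h _ (Groth.Agent.Helper4.SubExt.Kι (f ⁻¹ᵁ V).ι (Coh.structureModule X) i'')
      inferInstance hKq) V hV
  exact subsingleton_HH_of_iso e 1 hK

end Groth.Agent.Helper1.SerreCrit
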