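import Mathlib
import Groth.Agent.Helper1.Dev5
import Groth.Agent.Lead.StalkPull
import Groth.Agent.Lead.LimPres
import Groth.Agent.Lead.Thick2

/-!
# Dévissage, part 6: reduction to modules killed by the ideal
-/

set_option autoImplicit false
set_option linter.style.haveILetI false

namespace Groth.Agent.Helper1.Dev

open CategoryTheory Limits AlgebraicGeometry TopologicalSpace
open Groth.Agent.Helper4.StalkDict Groth.Agent.Helper4 Groth.Agent.Lead.Thick
  Groth.Agent.Lead.StalkNhd Groth.Agent.Lead.FlatLib Scheme.Modules Groth.Agent.Lead.PushStalk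

universe u

variable {X Z : Scheme.{u}}

theorem isCoh_pullback (g : Z ⟶ X) (F : X.Modules) (hF : Coh.IsCoh F) :
    Coh.IsCoh ((Scheme.Modules.pullback g).obj F) := by
  haveI : F.IsQuasicoherent := hF.1
  exact ⟨Groth.Agent.Lead.StalkPull.isQuasicoherent_pullbackObj g F,
    Groth.Agent.Lead.LimPres.isFT_pullback g F hF.2⟩

theorem isCoh_push (i : Z ⟶ X) [IsClosedImmersion i] [IsLocallyNoetherian X] (E : Z.Modules)
    (hE : Coh.IsCoh E) : Coh.IsCoh ((Scheme.Modules.pushforward i).obj E) :=
  Groth.Agent.S0019.result i E hE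

section KerSC

variable {A B : X.Modules} (φ : A ⟶ B) [Epi φ]

/-- `0 → ker φ → A → B → 0` for an epimorphism `φ` -/
noncomputable abbrev kerSC : ShortComplex X.Modules :=
  ShortComplex.mk (kernel.ι φ) φ (kernel.condition φ)

theorem kerSC_shortExact : (kerSC φ).ShortExact :=
  ShortComplex.ShortExact.mk' (ShortComplex.exact_of_f_is_kernel _ (kernelIsKernel φ))
    (inferInstanceAs (Mono (kernel.ι φ))) (inferInstanceAs (Epi φ))

end KerSC

variable (i : Z ⟶ X) [IsClosedImmersion i]

theorem isZero_of_kills_zero (F : X.Modules) [F.IsQuasicoherent] (h : Kills i F 0) : IsZero F := by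
  apply Groth.Agent.Lead.Thick.isZero_of_sections
  intro U hU m
  have h1 : (1 : Γ(X, U)) • m = 0 := h U hU 1 (by rw [pow_zero, Ideal.one_eq_top]; trivial) m
  rwa [one_smul] at h1

variable {K : ObjectProperty X.Modules} (hK : ExactClass K)

include hK in
/-- if the modules killed by the ideal are in the class, then so are those killed by a power -/
theorem of_kills [IsLocallyNoetherian X]
    (h1 : ∀ F : X.Modules, Coh.IsCoh F → Kills i F 1 → K F) :
    ∀ (n : ℕ) (F : X.Modules), Coh.IsCoh F → Kills i F n → K F := by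
  intro n
  induction n with
  | zero =>
    intro F hF h
    haveI : F.IsQuasicoherent := hF.1
    exact hK.zero _ (isZero_of_kills_zero i F h)
  | succ n ih =>
    intro F hF h
    haveI : F.IsQuasicoherent := hF.1
    have hQ : Coh.IsCoh ((Scheme.Modules.pushforward i).obj ((Scheme.Modules.pullback i).obj F)) :=
      isCoh_push i _ (isCoh_pullback i F hF)
    have hker : Coh.IsCoh (kernel (η i F)) := Groth.Agent.Lead.PerfLib.isCoh_kernel hF hQ _
    have h3 := hK.two_of_three (kerSC (η i F)) (kerSC_shortExact (η i F)) hker hF hQ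
    exact h3.2.1 (ih _ hker (kills_kernel i F n h)) (h1 _ hQ (kills_push i _))

end Groth.Agent.Helper1.Dev
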