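import Mathlib
import Groth.Agent.Helper1.Dev6
import Groth.Agent.Lead.SuppProper
import Groth.Agent.S0020

/-!
# Dévissage, part 7: the induction
-/

set_option autoImplicit false
set_option linter.style.haveILetI false

namespace Groth.Agent.Helper1.Dev

open CategoryTheory Limits AlgebraicGeometry TopologicalSpace
open Groth.Agent.Helper4.StalkDict Groth.Agent.Helper4 Groth.Agent.Lead.Thick
  Groth.Agent.Lead.StalkNhd Groth.Agent.Lead.FlatLib Scheme.Modules Groth.Agent.Lead.PushStalk

universe u

variable {X : Scheme.{u}}

/-- a coherent module supported on the support of an ideal is killed by a power of it -/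
theorem exists_kills_of_support [IsNoetherian X] (J : X.IdealSheafData) (F : X.Modules)
    (hF : Coh.IsCoh F) (h : CohB1.support F ⊆ (J.support : Set X)) :
    ∃ n, Kills J.subschemeι F n := by
  obtain ⟨n, hn⟩ := IdealKill.exists_uniform F J hF.1 hF.2 h
  refine ⟨n, fun U hU a ha m => hn ⟨U, hU⟩ a ?_ m⟩
  rwa [J.ker_subschemeι_app ⟨U, hU⟩] at ha

theorem kills_one_iff (J : X.IdealSheafData) (F : X.Modules) :
    Kills J.subschemeι F 1 ↔ ClSub.KilledByIdeal J F := by
  constructor
  · intro h U a ha m
    refine h U.1 U.2 a ?_ m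
    rw [pow_one, J.ker_subschemeι_app U]
    exact ha
  · intro h U hU a ha m
    refine h ⟨U, hU⟩ a ?_ m
    rw [pow_one, J.ker_subschemeι_app ⟨U, hU⟩] at ha
    exact ha

section PushClass

variable {Z : Scheme.{u}} (i : Z ⟶ X) [IsClosedImmersion i]

/-- the class of modules on a closed subscheme whose pushforward is in `K` -/
def pushClass (K : ObjectProperty X.Modules) : ObjectProperty Z.Modules :=
  fun E => K ((Scheme.Modules.pushforward i).obj E)

theorem pushClass_exactClass [IsLocallyNoetherian X] {K : ObjectProperty X.Modules}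
    (hK : ExactClass K) : ExactClass (pushClass i K) where
  iso := fun e h => hK.iso ((Scheme.Modules.pushforward i).mapIso e) h
  zero := fun M hM => hK.zero _ (Functor.map_isZero _ hM)
  two_of_three := fun S hS h₁ h₂ h₃ =>
    hK.two_of_three (S.map (Scheme.Modules.pushforward i))
      (Groth.Agent.Helper1.ClTr.shortExact_push i S hS)
      (isCoh_push i _ h₁) (isCoh_push i _ h₂) (isCoh_push i _ h₃)

end PushClass

/-- the induction hypothesis -/
def Below (K : ObjectProperty X.Modules) (Y : Closeds X) : Prop :=
  ∀ Y' : Closeds X, Y' < Y → ∀ F : X.Modules, Coh.IsCoh F → CohB1.support F ⊆ (Y' : Set X) → K F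

theorem support_vanishingIdeal (Y : Closeds X) :
    ((Scheme.IdealSheafData.vanishingIdeal Y).support : Set X) = Y :=
  Scheme.IdealSheafData.coe_support_vanishingIdeal Y

theorem range_ι_vanishingIdeal (Y : Closeds X) :
    Set.range (Scheme.IdealSheafData.vanishingIdeal Y).subschemeι = (Y : Set X) := by
  rw [Scheme.IdealSheafData.range_subschemeι, support_vanishingIdeal]

/-- the smallness hypothesis of the integral case follows from the induction hypothesis -/
theorem small_of_below [IsNoetherian X] {K : ObjectProperty X.Modules} (Y : Closeds X)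
    (hB : Below K Y) (z : (Scheme.IdealSheafData.vanishingIdeal Y).subscheme)
    (E : (Scheme.IdealSheafData.vanishingIdeal Y).subscheme.Modules) (hE : Coh.IsCoh E)
    (hz : Subsingleton (E.presheaf.stalk z)) :
    pushClass (Scheme.IdealSheafData.vanishingIdeal Y).subschemeι K E := by
  set ι := (Scheme.IdealSheafData.vanishingIdeal Y).subschemeι with hι
  have hc := isCoh_push ι E hE
  have hcl : IsClosed (CohB1.support ((Scheme.Modules.pushforward ι).obj E)) :=
    Groth.Agent.S0020.result _ _ hc.2
  have hsub : CohB1.support ((Scheme.Modules.pushforward ι).obj E) ⊆ (Y : Set X) := by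
    rw [← range_ι_vanishingIdeal Y]
    exact support_push_subset ι E
  have hnot : ι z ∉ CohB1.support ((Scheme.Modules.pushforward ι).obj E) := by
    intro hcon
    apply hcon
    exact (psHom_bijective ι E ι.isClosedEmbedding.isInducing z).1.subsingleton
  have hmem : ι z ∈ (Y : Set X) := by
    rw [← range_ι_vanishingIdeal Y]
    exact ⟨z, rfl⟩
  refine hB ⟨_, hcl⟩ ?_ _ hc le_rfl
  refine lt_of_le_of_ne hsub ?_
  intro heq
  apply hnot
  have : ι z ∈ ((⟨_, hcl⟩ : Closeds X) : Set X) := by rw [heq]; exact hmem
  exact this

end Groth.Agent.Helper1.Dev
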