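import Mathlib
import Groth.Agent.Helper1.Dev7

/-!
# Dévissage, part 8: the core theorem
-/

set_option autoImplicit false
set_option linter.style.haveILetI false

namespace Groth.Agent.Helper1.Dev

open CategoryTheory Limits AlgebraicGeometry TopologicalSpace
open Groth.Agent.Helper4.StalkDict Groth.Agent.Helper4 Groth.Agent.Lead.Thick
  Groth.Agent.Lead.StalkNhd Groth.Agent.Lead.FlatLib Scheme.Modules Groth.Agent.Lead.PushStalk

universe u

variable {X : Scheme.{u}}

/-- if `J₁ ⊓ J₂` kills `F` then `J₂` kills the kernel of `F ⟶ i₁_* i₁^* F` -/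
theorem kills_kernel_of_inf (J₁ J₂ : X.IdealSheafData) (F : X.Modules) [F.IsQuasicoherent]
    (h : Kills (J₁ ⊓ J₂).subschemeι F 1) :
    Kills J₂.subschemeι (kernel (η J₁.subschemeι F)) 1 := by
  intro U hU a ha k
  rw [pow_one, J₂.ker_subschemeι_app ⟨U, hU⟩] at ha
  have hinj := AffineDict.app_injective_of_mono (kernel.ι (η J₁.subschemeι F)) U
  apply hinj
  rw [map_zero, Scheme.Modules.Hom.app_smul]
  have h1 : (η J₁.subschemeι F).app U ((kernel.ι (η J₁.subschemeι F)).app U k) = 0 := by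
    have := congrArg (fun φ => (Scheme.Modules.Hom.app φ U) k)
      (kernel.condition (η J₁.subschemeι F))
    exact this
  have h2 := η_app_ker J₁.subschemeι F hU _ h1
  rw [J₁.ker_subschemeι_app ⟨U, hU⟩] at h2
  refine Submodule.smul_induction_on h2 ?_ ?_
  · intro r hr m _
    rw [← mul_smul]
    apply h U hU
    rw [pow_one, (J₁ ⊓ J₂).ker_subschemeι_app ⟨U, hU⟩]
    show a * r ∈ J₁.ideal ⟨U, hU⟩ ⊓ J₂.ideal ⟨U, hU⟩
    exact ⟨Ideal.mul_mem_left _ _ hr, Ideal.mul_mem_right _ _ ha⟩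
  · intro x y hx hy
    rw [smul_add, hx, hy, add_zero]

variable [IsNoetherian X] {K : ObjectProperty X.Modules} (hK : ExactClass K)

include hK in
/-- the reducible case -/
theorem reducible_step (Y Y₁ Y₂ : Closeds X) (hY : Y = Y₁ ⊔ Y₂)
    (h₁ : ∀ F : X.Modules, Coh.IsCoh F → CohB1.support F ⊆ (Y₁ : Set X) → K F)
    (h₂ : ∀ F : X.Modules, Coh.IsCoh F → CohB1.support F ⊆ (Y₂ : Set X) → K F)
    (F : X.Modules) (hF : Coh.IsCoh F)
    (hkill : Kills (Scheme.IdealSheafData.vanishingIdeal Y).subschemeι F 1) : K F := by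
  haveI : F.IsQuasicoherent := hF.1
  set J₁ := Scheme.IdealSheafData.vanishingIdeal Y₁
  set J₂ := Scheme.IdealSheafData.vanishingIdeal Y₂
  have hJ : Scheme.IdealSheafData.vanishingIdeal Y = J₁ ⊓ J₂ := by
    rw [hY, Scheme.IdealSheafData.vanishingIdeal_sup]
  rw [hJ] at hkill
  have hQ : Coh.IsCoh ((Scheme.Modules.pushforward J₁.subschemeι).obj
      ((Scheme.Modules.pullback J₁.subschemeι).obj F)) :=
    isCoh_push _ _ (isCoh_pullback _ F hF)
  have hker : Coh.IsCoh (kernel (η J₁.subschemeι F)) :=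
    Groth.Agent.Lead.PerfLib.isCoh_kernel hF hQ _
  have h3 := hK.two_of_three (kerSC (η J₁.subschemeι F)) (kerSC_shortExact _) hker hF hQ
  refine h3.2.1 (h₂ _ hker ?_) (h₁ _ hQ ?_)
  · rw [← range_ι_vanishingIdeal Y₂]
    exact support_subset_range_of_kills _ _ 1 (kills_kernel_of_inf J₁ J₂ F hkill)
  · rw [← range_ι_vanishingIdeal Y₁]
    exact support_push_subset _ _

end Groth.Agent.Helper1.Dev
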