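import Mathlib
import Groth.Agent.Helper1.Dev8

/-!
# Dévissage, part 9: the irreducible step and the core theorem
-/

set_option autoImplicit false
set_option linter.style.haveILetI false

namespace Groth.Agent.Helper1.Dev

open CategoryTheory Limits AlgebraicGeometry TopologicalSpace
open Groth.Agent.Helper4.StalkDict Groth.Agent.Helper4 Groth.Agent.Lead.Thick
  Groth.Agent.Lead.StalkNhd Groth.Agent.Lead.FlatLib Scheme.Modules Groth.Agent.Lead.PushStalk

universe u

variable {X : Scheme.{u}}

theorem isNoetherian_of_isClosedImmersion {Z : Scheme.{u}} (i : Z ⟶ X) [IsClosedImmersion i]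
    [IsNoetherian X] : IsNoetherian Z :=
  { toIsLocallyNoetherian := LocallyOfFiniteType.isLocallyNoetherian i
    toCompactSpace := i.isClosedEmbedding.compactSpace }

theorem isIntegral_subscheme (Y : Closeds X) (hirr : IsIrreducible (Y : Set X)) :
    IsIntegral (Scheme.IdealSheafData.vanishingIdeal Y).subscheme := by
  haveI : IsReduced (Scheme.IdealSheafData.vanishingIdeal Y).subscheme :=
    Groth.Agent.Lead.SuppProper.isReduced_vanishingIdeal_subscheme Y
  haveI : IrreducibleSpace (Scheme.IdealSheafData.vanishingIdeal Y).subscheme := by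
    have e := (Scheme.IdealSheafData.vanishingIdeal Y).subschemeι.isClosedEmbedding.isEmbedding.toHomeomorph
    rw [e.irreducibleSpace_iff]
    apply Subtype.irreducibleSpace
    rw [range_ι_vanishingIdeal]
    exact hirr
  exact isIntegral_of_irreducibleSpace_of_isReduced _

variable [IsNoetherian X] {K : ObjectProperty X.Modules} (hK : ExactClass K)

include hK in
/-- the irreducible case -/
theorem irreducible_step (Y : Closeds X) (hirr : IsIrreducible (Y : Set X)) (hB : Below K Y)
    (hO : K ((Scheme.Modules.pushforward (Scheme.IdealSheafData.vanishingIdeal Y).subschemeι).obj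
      (Coh.structureModule _)))
    (F : X.Modules) (hF : Coh.IsCoh F)
    (hkill : Kills (Scheme.IdealSheafData.vanishingIdeal Y).subschemeι F 1) : K F := by
  haveI : F.IsQuasicoherent := hF.1
  haveI := isIntegral_subscheme Y hirr
  haveI := isNoetherian_of_isClosedImmersion (Scheme.IdealSheafData.vanishingIdeal Y).subschemeι
  have hK' := pushClass_exactClass (Scheme.IdealSheafData.vanishingIdeal Y).subschemeι hK
  have hmain := integral_main hK' (fun E hE hs => small_of_below Y hB _ E hE hs) hO
    ((Scheme.Modules.pullback (Scheme.IdealSheafData.vanishingIdeal Y).subschemeι).obj F)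
    (isCoh_pullback _ F hF)
  haveI := isIso_η_of_kills _ F hkill
  exact hK.iso (asIso (η (Scheme.IdealSheafData.vanishingIdeal Y).subschemeι F)).symm hmain

include hK in
/-- **the core dévissage theorem** -/
theorem core (X' : Closeds X)
    (hirr : ∀ Y : Closeds X, Y ≤ X' → IsIrreducible (Y : Set X) → Below K Y →
      K ((Scheme.Modules.pushforward (Scheme.IdealSheafData.vanishingIdeal Y).subschemeι).obj
        (Coh.structureModule _)))
    (F : X.Modules) (hF : Coh.IsCoh F) (hsupp : CohB1.support F ⊆ (X' : Set X)) : K F := by
  suffices key : ∀ Y : Closeds X, Y ≤ X' → ∀ F : X.Modules, Coh.IsCoh F →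
      CohB1.support F ⊆ (Y : Set X) → K F from key X' le_rfl F hF hsupp
  intro Y
  induction Y using WellFoundedLT.induction with
  | ind Y ih =>
    intro hYX' F hF hsupp
    have hB : Below K Y := fun Y' hY' F hF hs => ih Y' hY' (hY'.le.trans hYX') F hF hs
    -- reduce to modules killed by the ideal
    obtain ⟨n, hn⟩ := exists_kills_of_support (Scheme.IdealSheafData.vanishingIdeal Y) F hF
      (by rw [support_vanishingIdeal]; exact hsupp)
    refine of_kills (Scheme.IdealSheafData.vanishingIdeal Y).subschemeι hK ?_ n F hF hn
    intro F hF hkill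
    by_cases hirrY : IsIrreducible (Y : Set X)
    · exact irreducible_step hK Y hirrY hB (hirr Y hYX' hirrY hB) F hF hkill
    · by_cases hne : (Y : Set X).Nonempty
      · have hpre : ¬ IsPreirreducible (Y : Set X) := fun h => hirrY ⟨hne, h⟩
        rw [isPreirreducible_iff_isClosed_union_isClosed] at hpre
        push_neg at hpre
        obtain ⟨z₁, z₂, hz₁, hz₂, hsub, hn₁, hn₂⟩ := hpre
        let Y₁ : Closeds X := ⟨(Y : Set X) ∩ z₁, Y.isClosed.inter hz₁⟩
        let Y₂ : Closeds X := ⟨(Y : Set X) ∩ z₂, Y.isClosed.inter hz₂⟩
        have hY : Y = Y₁ ⊔ Y₂ := by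
          apply Closeds.ext
          show (Y : Set X) = ((Y : Set X) ∩ z₁) ∪ ((Y : Set X) ∩ z₂)
          rw [← Set.inter_union_distrib_left]
          exact (Set.inter_eq_left.2 hsub).symm
        have hlt₁ : Y₁ < Y := by
          refine lt_of_le_of_ne (fun x hx => hx.1) ?_
          intro heq
          apply hn₁
          intro x hx
          have : x ∈ (Y₁ : Set X) := by rw [heq]; exact hx
          exact this.2
        have hlt₂ : Y₂ < Y := by
          refine lt_of_le_of_ne (fun x hx => hx.1) ?_
          intro heq
          apply hn₂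
          intro x hx
          have : x ∈ (Y₂ : Set X) := by rw [heq]; exact hx
          exact this.2
        exact reducible_step hK Y Y₁ Y₂ hY (hB Y₁ hlt₁) (hB Y₂ hlt₂) F hF hkill
      · apply hK.zero
        apply isZero_of_support_eq_empty
        rw [Set.not_nonempty_iff_eq_empty] at hne
        have h1 := support_subset_range_of_kills _ F 1 hkill
        rw [range_ι_vanishingIdeal, hne] at h1
        exact Set.subset_empty_iff.1 h1

end Groth.Agent.Helper1.Dev
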