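import Mathlib
import Groth.Agent.Helper1.Dev9

/-!
# Dévissage, part 10: the generic module (summand version)
-/

set_option autoImplicit false
set_option linter.style.haveILetI false

namespace Groth.Agent.Helper1.Dev

open CategoryTheory Limits AlgebraicGeometry TopologicalSpace
open Groth.Agent.Helper4.StalkDict Groth.Agent.Helper4 Groth.Agent.Lead.Thick
  Groth.Agent.Lead.StalkNhd Groth.Agent.Lead.FlatLib Scheme.Modules Groth.Agent.Lead.PushStalk

universe u

variable {X : Scheme.{u}}

/-- the image of the generic point of the reduced subscheme on an irreducible closed subset -/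
theorem closure_ι_genericPoint (Y : Closeds X) [IrreducibleSpace (Scheme.IdealSheafData.vanishingIdeal Y).subscheme] :
    closure {(Scheme.IdealSheafData.vanishingIdeal Y).subschemeι
      (genericPoint (Scheme.IdealSheafData.vanishingIdeal Y).subscheme)} = (Y : Set X) := by
  have h := (Scheme.IdealSheafData.vanishingIdeal Y).subschemeι.isClosedEmbedding.closure_image_eq
    {genericPoint (Scheme.IdealSheafData.vanishingIdeal Y).subscheme}
  rw [Set.image_singleton] at h
  rw [h, (genericPoint_spec _).def, Set.image_univ, range_ι_vanishingIdeal]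

theorem eq_ι_genericPoint (Y : Closeds X) [IrreducibleSpace (Scheme.IdealSheafData.vanishingIdeal Y).subscheme]
    (y : X) (hy : closure {y} = (Y : Set X)) :
    y = (Scheme.IdealSheafData.vanishingIdeal Y).subschemeι
      (genericPoint (Scheme.IdealSheafData.vanishingIdeal Y).subscheme) := by
  have h1 : IsGenericPoint y (Y : Set X) := hy
  have h2 : IsGenericPoint ((Scheme.IdealSheafData.vanishingIdeal Y).subschemeι
      (genericPoint (Scheme.IdealSheafData.vanishingIdeal Y).subscheme)) (Y : Set X) :=
    closure_ι_genericPoint Y
  exact h1.eq h2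

section

variable {Z : Scheme.{u}} (i : Z ⟶ X) [IsClosedImmersion i]

theorem not_subsingleton_stalk_pullback (G : X.Modules) [G.IsQuasicoherent] (hkill : Kills i G 1)
    (z : Z) (hz : ¬ Subsingleton (G.presheaf.stalk (i z))) :
    ¬ Subsingleton (((Scheme.Modules.pullback i).obj G).presheaf.stalk z) := by
  intro hcon
  apply hz
  haveI := isIso_η_of_kills i G hkill
  have h1 := stalkLin_bijective_of_isIso (η i G) (i z)
  have h2 := psHom_bijective i ((Scheme.Modules.pullback i).obj G) i.isClosedEmbedding.isInducing z
  exact (h2.1.comp h1.1).subsingleton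

end

variable [IsNoetherian X] {K : ObjectProperty X.Modules} (hK : ExactClass K)

include hK in
theorem structure_of_summand_push
    (hsum : ∀ (M N : X.Modules) (i : N ⟶ M) (r : M ⟶ N), i ≫ r = 𝟙 N → Coh.IsCoh M →
      Coh.IsCoh N → K M → K N)
    (Y : Closeds X) (hirr : IsIrreducible (Y : Set X)) (hB : Below K Y)
    (G : X.Modules) (hG : Coh.IsCoh G) (hKG : K G)
    (hkill : ClSub.KilledByIdeal (Scheme.IdealSheafData.vanishingIdeal Y) G)
    (y : X) (hy : closure {y} = (Y : Set X)) (hyG : y ∈ CohB1.support G) :
    K ((Scheme.Modules.pushforward (Scheme.IdealSheafData.vanishingIdeal Y).subschemeι).obj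
      (Coh.structureModule _)) := by
  haveI : G.IsQuasicoherent := hG.1
  haveI := isIntegral_subscheme Y hirr
  haveI := isNoetherian_of_isClosedImmersion (Scheme.IdealSheafData.vanishingIdeal Y).subschemeι
  have hK' := pushClass_exactClass (Scheme.IdealSheafData.vanishingIdeal Y).subschemeι hK
  have hkill' := (kills_one_iff _ G).2 hkill
  haveI := isIso_η_of_kills _ G hkill'
  have hy' := eq_ι_genericPoint Y y hy
  refine structure_of_summand hK' (fun E hE hs => small_of_below Y hB _ E hE hs) ?_
    ((Scheme.Modules.pullback (Scheme.IdealSheafData.vanishingIdeal Y).subschemeι).obj G)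
    (isCoh_pullback _ G hG)
    (hK.iso (asIso (η (Scheme.IdealSheafData.vanishingIdeal Y).subschemeι G)) hKG) ?_
  · intro M N i r hir hM hN hKM
    refine hsum _ _ ((Scheme.Modules.pushforward _).map i) ((Scheme.Modules.pushforward _).map r) ?_
      (isCoh_push _ _ hM) (isCoh_push _ _ hN) hKM
    rw [← Functor.map_comp, hir, CategoryTheory.Functor.map_id]
  · apply not_subsingleton_stalk_pullback _ G hkill'
    rw [← hy']
    exact hyG

end Groth.Agent.Helper1.Dev
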