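import Groth.Agent.Helper1.HHLes3
import Groth.Agent.Helper1.HHSum
import Groth.Agent.Helper1.ProjTop8
import Groth.Agent.Helper1.Dev10
import Mathlib

/-!
# The exact class of modules with finitely generated cohomology
-/

set_option autoImplicit false
set_option linter.style.haveILetI false

namespace Groth.Agent.Helper1.Fin

open CategoryTheory Limits AlgebraicGeometry TopologicalSpace Opposite Abelian
open Groth.Agent.Helper1.HHLes Groth.Agent.Helper1.SerreCrit

universe u

variable (A : Type u) [CommRing A] {X : Scheme.{u}} [X.Over (Spec (CommRingCat.of A))]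

/-- the middle term of an exact sequence of modules over a noetherian ring with finite outer terms
is finite -/
theorem finite_of_exact [IsNoetherianRing A] {M N P : Type u} [AddCommGroup M] [AddCommGroup N]
    [AddCommGroup P] [Module A M] [Module A N] [Module A P] (f : M →ₗ[A] N) (g : N →ₗ[A] P)
    (h : Function.Exact f g) [hM : Module.Finite A M] [Module.Finite A P] : Module.Finite A N := by
  haveI : IsNoetherian A P := isNoetherian_of_isNoetherianRing_of_finite A _
  refine ⟨Submodule.fg_of_fg_map_of_fg_inf_ker g ?_ ?_⟩
  · exact IsNoetherian.noetherian _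
  · rw [top_inf_eq, LinearMap.exact_iff.1 h, LinearMap.range_eq_map]
    exact hM.1.map _

/-- the class of modules all of whose cohomology groups are finite over `A` -/
def KFin : ObjectProperty X.Modules := fun F => ∀ n : ℕ, Module.Finite A (Coh.HH X F n)

theorem injective_HHlin_zero {F G : X.Modules} (φ : F ⟶ G) [Mono φ] :
    Function.Injective (Canon.HHlin A φ 0) := by
  haveI : Mono ((toAbF X).map φ) := inferInstance
  exact Ext.postcomp_mk₀_injective_of_mono _ ((toAbF X).map φ)

theorem subsingleton_HH_of_isZero {M : X.Modules} (hM : IsZero M) (n : ℕ) :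
    Subsingleton (Coh.HH X M n) := by
  have h1 : IsZero ((Groth.Agent.Helper1.HHSum.Hn X n).obj M) := Functor.map_isZero _ hM
  exact AddCommGrpCat.subsingleton_of_isZero h1

theorem exactClass_KFin [IsNoetherianRing A] :
    Groth.Agent.Helper1.Dev.ExactClass (KFin A (X := X)) where
  iso := by
    intro M N e h n
    haveI := h n
    exact Module.Finite.equiv (Groth.Agent.Helper1.ProjTop.HHlinEquiv A e n)
  zero := by
    intro M hM n
    haveI := subsingleton_HH_of_isZero (X := X) hM n
    infer_instance
  two_of_three := by
    intro S hS _ _ _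
    refine ⟨fun h1 h2 n => ?_, fun h1 h3 n => ?_, fun h2 h3 n => ?_⟩
    · haveI := h2 n
      haveI := h1 (n + 1)
      exact finite_of_exact A _ _ (exact_g_δ A S hS n)
    · haveI := h1 n
      haveI := h3 n
      exact finite_of_exact A _ _ (exact_f_g A S hS n)
    · cases n with
      | zero =>
        haveI := hS.mono_f
        haveI := h2 0
        haveI : IsNoetherian A (Coh.HH X S.X₂ 0) := isNoetherian_of_isNoetherianRing_of_finite A _
        exact Module.Finite.of_injective (Canon.HHlin A S.f 0) (injective_HHlin_zero A S.f)
      | succ n =>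
        haveI := h3 n
        haveI := h2 (n + 1)
        exact finite_of_exact A _ _ (exact_δ_f A S hS n)

theorem KFin_summand (M N : X.Modules) (i : N ⟶ M) (r : M ⟶ N) (hir : i ≫ r = 𝟙 N)
    (h : KFin A M) : KFin A N := by
  intro n
  haveI := h n
  refine Module.Finite.of_surjective (Canon.HHlin A r n) ?_
  intro x
  refine ⟨Canon.HHlin A i n x, ?_⟩
  rw [Groth.Agent.Helper1.HHSum.HHlin_apply, Groth.Agent.Helper1.HHSum.HHlin_apply,
    ← ConcreteCategory.comp_apply, ← Functor.map_comp, hir, CategoryTheory.Functor.map_id]
  rfl

end Groth.Agent.Helper1.Fin
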