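import Groth.Agent.Helper1.ProjBC4
import Groth.Agent.Helper1.AffLin
import Mathlib

/-!
# `P^N_{Spec A} ⟶ P^N_A`, and the `A`-linear degenerate Leray isomorphism for acyclic morphisms
-/

set_option autoImplicit false
set_option linter.style.haveILetI false

namespace Groth.Agent.Helper1.Fin

open CategoryTheory Limits AlgebraicGeometry TopologicalSpace Opposite
open Groth.Agent.Helper1.ProjBC Groth.Agent.Helper1.CohTopFun

universe u

section Kappa

variable (A : Type u) [CommRing A] (N : ℕ)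

/-- the unique ring map `ℤ → A` -/
noncomputable def φ₀ : ULift.{u} ℤ →+* A :=
  (Int.castRingHom A).comp (ULift.ringEquiv : ULift.{u} ℤ ≃+* ℤ).toRingHom

theorem from_eq : specULiftZIsTerminal.from (Spec (CommRingCat.of A)) =
    Spec.map (CommRingCat.ofHom (φ₀ A)) :=
  specULiftZIsTerminal.hom_ext _ _

/-- `P^N_{Spec A} ⟶ P^N_A` -/
noncomputable def κκ : CohB1.ProjSpaceOver N (Spec (CommRingCat.of A)) ⟶ CohB1.ProjSpace N A :=
  (pullback.congrHom (f₁ := CohB1.ProjSpace.toSpec N (ULift.{u} ℤ)) rfl (from_eq A)).hom ≫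
    ββ (φ₀ A) N

instance isClosedImmersion_κκ : IsClosedImmersion (κκ A N) := by
  haveI := isClosedImmersion_ββ (φ₀ A) N
  exact IsClosedImmersion.comp _ (ββ (φ₀ A) N)

theorem κκ_toSpec : κκ A N ≫ CohB1.ProjSpace.toSpec N A =
    CohB1.ProjSpaceOver.toBase N (Spec (CommRingCat.of A)) :=
  calc κκ A N ≫ CohB1.ProjSpace.toSpec N A
      = (pullback.congrHom (f₁ := CohB1.ProjSpace.toSpec N (ULift.{u} ℤ)) rfl (from_eq A)).hom ≫
          (ββ (φ₀ A) N ≫ Proj.toSpecZero (CohB1.polyGrading N A) ≫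
            Spec.map (CommRingCat.ofHom (algebraMap A (CohB1.polyGrading N A 0)))) :=
        Category.assoc _ _ _
    _ = (pullback.congrHom (f₁ := CohB1.ProjSpace.toSpec N (ULift.{u} ℤ)) rfl (from_eq A)).hom ≫
          q₂ (φ₀ A) N := congrArg _ (ββ_toSpec (φ₀ A) N)
    _ = _ := by
      unfold q₂
      rw [pullback.congrHom_hom, pullback.lift_snd, Category.comp_id]
      rfl

end Kappa

section Leray

variable {X S : Scheme.{u}} (f : X ⟶ S)

/-- **`A`-linear degenerate Leray** for a morphism with vanishing higher direct images -/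
theorem nonempty_HH_linearEquiv_of_acyclic (A : Type u) [CommRing A]
    [X.Over (Spec (CommRingCat.of A))] [S.Over (Spec (CommRingCat.of A))]
    (hf : f ≫ (S ↘ Spec (CommRingCat.of A)) = X ↘ Spec (CommRingCat.of A))
    (M : X.Modules) (hac : ∀ q : ℕ, IsZero ((Coh.RpushAb f (q + 1)).obj (Coh.toAb M))) (i : ℕ) :
    Nonempty (Coh.HH X M i ≃ₗ[A] Coh.HH S ((Coh.push f).obj M) i) := by
  obtain ⟨ψ, hψ⟩ := exists_iso_H_push_of_acyclic_eq f.base i (Coh.toAb M)
    (fun a : A => Coh.smulAb M (Coh.toGlobal (X ↘ Spec (CommRingCat.of A)) a))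
    hac
  refine ⟨{ ψ.addCommGroupIsoToAddEquiv with map_smul' := fun a x => ?_ }⟩
  have h1 := ConcreteCategory.congr_hom (hψ a) x
  have h2 : Coh.smulAb M (Coh.toGlobal (X ↘ Spec (CommRingCat.of A)) a) =
      Coh.smulAb M (f.appTop.hom (Coh.toGlobal (S ↘ Spec (CommRingCat.of A)) a)) := by
    rw [← Groth.Agent.Helper1.AffLin.toGlobal_comp, hf]
  have h3 := Groth.Agent.Helper1.AffLin.push_smulAb f M
    (Coh.toGlobal (S ↘ Spec (CommRingCat.of A)) a)
  rw [← h2] at h3
  show ψ.hom (Sheaf.H.map (Coh.smulAb M (Coh.toGlobal (X ↘ Spec (CommRingCat.of A)) a)) i x) =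
    Sheaf.H.map (Coh.smulAb ((Coh.push f).obj M)
      (Coh.toGlobal (S ↘ Spec (CommRingCat.of A)) a)) i (ψ.hom x)
  rw [← h3]
  exact h1

end Leray

end Groth.Agent.Helper1.Fin
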