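import Groth.Agent.Helper1.Fin9
import Groth.Agent.Helper1.Fin10
import Groth.Agent.Helper1.Fin11
import Groth.Agent.Helper1.Chow11
import Mathlib

/-!
# Finiteness of cohomology on proper schemes: the irreducible step
-/

set_option autoImplicit false
set_option linter.style.haveILetI false

namespace Groth.Agent.Helper1.Fin

open CategoryTheory Limits AlgebraicGeometry TopologicalSpace Opposite
open Groth.Agent.Helper1.ProjBC

universe u

variable (A : Type u) [CommRing A] [IsNoetherianRing A] {X : Scheme.{u}}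
  [X.Over (Spec (CommRingCat.of A))] [IsProper (X ↘ Spec (CommRingCat.of A))] [IsNoetherian X]

/-- on an integral closed subscheme `Z` of `X` there is a coherent module with nonzero generic
stalk whose pushforward to `X` has finite cohomology -/
theorem exists_module_aux {Z : Scheme.{u}} (ι : Z ⟶ X) [IsClosedImmersion ι] [IsIntegral Z]
    [IsNoetherian Z] :
    ∃ P : Z.Modules, Coh.IsCoh P ∧ KFin A ((Scheme.Modules.pushforward ι).obj P) ∧
      genericPoint Z ∈ CohB1.support P := by
  let fZ : Z ⟶ Spec (CommRingCat.of A) := ι ≫ (X ↘ Spec (CommRingCat.of A))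
  haveI : IsProper fZ := by
    show IsProper (ι ≫ (X ↘ Spec (CommRingCat.of A)))
    infer_instance
  obtain ⟨Md, Z', π, q, hq, hcomm, hπ, hsurj⟩ := Groth.Agent.Helper1.Chow.chow_irreducible fZ
  -- `q` is a closed immersion
  haveI : IsProper (CohB1.ProjSpaceOver.toBase Md (Spec (CommRingCat.of A))) :=
    Groth.Agent.Helper6.HProj.isProper_toBase Md _
  haveI : IsProper (q ≫ CohB1.ProjSpaceOver.toBase Md (Spec (CommRingCat.of A))) := by
    rw [hcomm]
    infer_instance
  haveI : IsProper q := IsProper.of_comp q (CohB1.ProjSpaceOver.toBase Md (Spec (CommRingCat.of A)))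
  haveI : IsClosedImmersion q := IsClosedImmersion.of_isPreimmersion _ q.isClosedMap.isClosed_range
  -- the closed immersion into `P^Md_A`
  let c : Z' ⟶ CohB1.ProjSpace Md A := q ≫ κκ A Md
  haveI : IsClosedImmersion c := IsClosedImmersion.comp q (κκ A Md)
  have hc : c ≫ CohB1.ProjSpace.toSpec Md A = π ≫ fZ := by
    show (q ≫ κκ A Md) ≫ CohB1.ProjSpace.toSpec Md A = π ≫ fZ
    rw [Category.assoc, κκ_toSpec, hcomm]
  obtain ⟨D, hD⟩ := exists_isZero_RpushAb Md π fZ c hc
  have hcohP := isCoh_push_GG Md π fZ c hc D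
  have hcohG := isCoh_GG Md c D
  refine ⟨(Scheme.Modules.pushforward π).obj (GG Md c D), hcohP, ?_, ?_⟩
  · -- finiteness
    intro n
    letI : Z.Over (Spec (CommRingCat.of A)) := ⟨fZ⟩
    letI : Z'.Over (Spec (CommRingCat.of A)) := ⟨π ≫ fZ⟩
    haveI : Coh.IsQCoh ((Scheme.Modules.pushforward π).obj (GG Md c D)) := hcohP.1
    obtain ⟨e1⟩ := Groth.Agent.Helper1.AffLin.nonempty_HH_linearEquiv ι A
      (show ι ≫ (X ↘ Spec (CommRingCat.of A)) = fZ from rfl)
      ((Scheme.Modules.pushforward π).obj (GG Md c D)) n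
    obtain ⟨e2⟩ := nonempty_HH_linearEquiv_of_acyclic π A
      (show π ≫ fZ = π ≫ fZ from rfl) (GG Md c D) (hD D le_rfl) n
    haveI : Module.Finite A (Coh.HH Z' (GG Md c D) n) :=
      Groth.Agent.Helper1.ClTr.finite_HH_push Md A c hc (GG Md c D) hcohG n
    haveI : Module.Finite A (Coh.HH Z ((Scheme.Modules.pushforward π).obj (GG Md c D)) n) :=
      Module.Finite.equiv e2
    exact Module.Finite.equiv e1
  · obtain ⟨z', hz'⟩ := hsurj (genericPoint Z)
    have h2 := mem_support_push_GG Md c π D z'
    rw [hz'] at h2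
    exact h2

/-- for an irreducible closed subset `Y` of `X` there is a coherent module on `X`, killed by the
ideal of `Y`, with finite cohomology and nonzero generic stalk -/
theorem exists_module_of_irreducible (Y : Closeds X) (hirr : IsIrreducible (Y : Set X)) :
    ∃ G : X.Modules, Coh.IsCoh G ∧ KFin A G ∧
      ClSub.KilledByIdeal (Scheme.IdealSheafData.vanishingIdeal Y) G ∧
      ∃ y : X, closure {y} = (Y : Set X) ∧ y ∈ CohB1.support G := by
  haveI := Groth.Agent.Helper1.Dev.isIntegral_subscheme Y hirr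
  haveI := Groth.Agent.Helper1.Dev.isNoetherian_of_isClosedImmersion
    (Scheme.IdealSheafData.vanishingIdeal Y).subschemeι
  obtain ⟨P, hP, hK, hη⟩ := exists_module_aux A (Scheme.IdealSheafData.vanishingIdeal Y).subschemeι
  refine ⟨_, Groth.Agent.Helper1.Dev.isCoh_push _ _ hP, hK,
    (Groth.Agent.Helper1.Dev.kills_one_iff _ _).1 (Groth.Agent.Helper1.Dev.kills_push _ _),
    _, Groth.Agent.Helper1.Dev.closure_ι_genericPoint Y, ?_⟩
  intro hcon
  apply hη
  exact (Groth.Agent.Lead.PushStalk.psHom_bijective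
    (Scheme.IdealSheafData.vanishingIdeal Y).subschemeι P
    (Scheme.IdealSheafData.vanishingIdeal Y).subschemeι.isClosedEmbedding.isInducing
    (genericPoint _)).2.subsingleton

end Groth.Agent.Helper1.Fin
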