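import Mathlib
import Groth.Agent.Helper1.GrSh3
import Groth.Agent.Helper1.GrStep
import Groth.Agent.S0002

/-!
# Finite generation of the graded cohomology of a finitely generated graded module
-/

set_option autoImplicit false
set_option linter.style.haveILetI false

namespace Groth.Agent.Helper1.GrSh

open CategoryTheory Limits AlgebraicGeometry Opposite Abelian
open Groth.Agent.Helper1.Dev Groth.Agent.Helper1.HHLes Groth.Agent.Helper1

universe u

variable (A : Type u) [CommRing A] {X : Scheme.{u}} [X.Over (Spec (CommRingCat.of A))]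

/-- the operators induced on cohomology -/
noncomputable abbrev TH {r : ℕ} (𝒢 : GrObj X r) (p : ℕ) (i : Fin r) (n : ℕ) :
    Coh.HH X (𝒢.G n) p →ₗ[A] Coh.HH X (𝒢.G (n + 1)) p :=
  Canon.HHlin A (𝒢.T i n) p

lemma comm_TH {r : ℕ} (𝒢 : GrObj X r) (p : ℕ) : GrHB.Comm (TH A 𝒢 p) := by
  intro i j n x
  change Canon.HHlin A _ p (Canon.HHlin A _ p x) = Canon.HHlin A _ p (Canon.HHlin A _ p x)
  rw [← HHlin_comp, ← HHlin_comp, 𝒢.comm]

variable [IsNoetherianRing A] [IsProper (X ↘ Spec (CommRingCat.of A))]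

theorem genFrom_HH [IsNoetherian X] : ∀ (r : ℕ) (𝒢 : GrObj X r), IsFG 𝒢 → ∀ p : ℕ,
    ∃ N, GrHB.GenFrom (TH A 𝒢 p) N := by
  intro r
  induction r with
  | zero =>
    intro 𝒢 h p
    obtain ⟨N, hN⟩ := h.gen
    refine ⟨N, fun n hn x => ?_⟩
    have h0 : IsZero (𝒢.G (n + 1)) := by
      rw [IsZero.iff_id_eq_zero]
      exact hN n hn (𝟙 _) (fun i => i.elim0)
    haveI := subsingleton_HH_of_isZero A h0 p
    exact ⟨fun i => i.elim0, Subsingleton.elim _ _⟩
  | succ r ih =>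
    intro 𝒢 h p
    -- induction hypotheses
    obtain ⟨Nc, hNc⟩ := ih 𝒢.cok h.cok p
    obtain ⟨Nk, hNk⟩ := ih 𝒢.ker h.ker (p + 1)
    -- short exact sequences
    have hSa : ∀ n, (kerImSC (𝒢.t n)).ShortExact := fun n => kerImSC_shortExact _
    have hSb : ∀ n, (imCokSC (𝒢.t n)).ShortExact := fun n => imCokSC_shortExact _
    let π : ∀ n, Coh.HH X (𝒢.G (n + 1)) p →ₗ[A] Coh.HH X (𝒢.cok.G n) p := fun n =>
      Canon.HHlin A (cokernel.π (𝒢.t n)) p
    let δa : ∀ n, Coh.HH X (Abelian.image (𝒢.t n)) p →ₗ[A] Coh.HH X (𝒢.ker.G n) (p + 1) :=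
      fun n => δ A (kerImSC (𝒢.t n)) (hSa n) p
    have hπ : ∀ (i : Fin r) n x, π (n + 1) (TH A 𝒢 p i.castSucc (n + 1) x) =
        TH A 𝒢.cok p i n (π n x) := by
      intro i n x
      change Canon.HHlin A _ p (Canon.HHlin A _ p x) = Canon.HHlin A _ p (Canon.HHlin A _ p x)
      rw [← HHlin_comp, ← HHlin_comp]
      congr 2
      exact (π_cMap (𝒢.sq i n)).symm
    have hδ : ∀ (i : Fin r) n z, δa (n + 1) (Canon.HHlin A (iMap (𝒢.sq i n)) p z) =
        TH A 𝒢.ker (p + 1) i n (δa n z) := by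
      intro i n z
      exact δ_naturality A (hSa n) (hSa (n + 1)) (kerImHom (𝒢.sq i n)) p z
    -- finiteness
    have hfc : ∀ n, Module.Finite A (Coh.HH X (𝒢.cok.G n) p) := fun n =>
      Groth.Agent.S0002.result A X _ (h.cok.coh n) p
    have hfk : ∀ n, Module.Finite A (Coh.HH X (𝒢.ker.G n) (p + 1)) := fun n =>
      Groth.Agent.S0002.result A X _ (h.ker.coh n) (p + 1)
    -- Hilbert basis
    obtain ⟨N₁, hN₁⟩ := GrHB.subGenFrom (comm_TH A 𝒢.cok p) hfc hNc
      (W := fun n => LinearMap.range (π n)) (by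
        rintro i n _ ⟨x, rfl⟩
        exact ⟨TH A 𝒢 p i.castSucc (n + 1) x, hπ i n x⟩)
    obtain ⟨N₂, hN₂⟩ := GrHB.subGenFrom (comm_TH A 𝒢.ker (p + 1)) hfk hNk
      (W := fun n => LinearMap.range (δa n)) (by
        rintro i n _ ⟨z, rfl⟩
        exact ⟨Canon.HHlin A (iMap (𝒢.sq i n)) p z, hδ i n z⟩)
    refine ⟨max N₁ N₂ + 1, ?_⟩
    refine GrHB.genFrom_step (TH A 𝒢 p) (fun i n => Canon.HHlin A (iMap (𝒢.sq i n)) p)
      (TH A 𝒢.ker (p + 1)) (TH A 𝒢.cok p)
      (fun n => Canon.HHlin A (Abelian.factorThruImage (𝒢.t n)) p)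
      (fun n => Canon.HHlin A (Abelian.image.ι (𝒢.t n)) p) π δa ?_ ?_ ?_ ?_ hπ hδ hN₁ hN₂
    · intro n x
      change Canon.HHlin A _ p (Canon.HHlin A _ p x) = Canon.HHlin A _ p x
      rw [← HHlin_comp, Abelian.image.fac]
    · intro n x hx
      exact (exact_f_g A (imCokSC (𝒢.t n)) (hSb n) p x).1 hx
    · intro n z hz
      exact (exact_g_δ A (kerImSC (𝒢.t n)) (hSa n) p z).1 hz
    · intro i n z
      change Canon.HHlin A _ p (Canon.HHlin A _ p z) = Canon.HHlin A _ p (Canon.HHlin A _ p z)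
      rw [← HHlin_comp, ← HHlin_comp]
      congr 2
      exact iMap_ι (𝒢.sq i n)

end Groth.Agent.Helper1.GrSh
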