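import Mathlib
import Groth.Prelude.Def_Formal
import Groth.Prelude.Def_KLin

/-!
# Basic API for `Formal.smulMod`, `Formal.KilledBy`, `Formal.modPow`: quotients `M/JM`
-/

set_option autoImplicit false
set_option linter.style.haveILetI false

namespace Groth.Agent.Helper1.Form

open CategoryTheory CategoryTheory.Limits AlgebraicGeometry Opposite

universe u

variable {A : Type u} [CommRing A] {X : Scheme.{u}} [X.Over (Spec (CommRingCat.of A))]

lemma smulMod_eq (M : X.Modules) (a : A) : Formal.smulMod A M a = a • 𝟙 M :=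
  (KLin.smul_id M a).symm

lemma smulMod_comp {M N : X.Modules} (f : M ⟶ N) (a : A) :
    Formal.smulMod A M a ≫ f = f ≫ Formal.smulMod A N a := by
  rw [smulMod_eq, smulMod_eq, Linear.smul_comp, Linear.comp_smul, Category.id_comp,
    Category.comp_id]

lemma smulMod_comp_eq_smul {M N : X.Modules} (f : M ⟶ N) (a : A) :
    Formal.smulMod A M a ≫ f = a • f := rfl

lemma comp_smulMod_eq_smul {M N : X.Modules} (f : M ⟶ N) (a : A) :
    f ≫ Formal.smulMod A N a = a • f := by
  rw [← smulMod_comp]; rfl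

lemma smulMod_mul (M : X.Modules) (a b : A) :
    Formal.smulMod A M (a * b) = Formal.smulMod A M a ≫ Formal.smulMod A M b := by
  rw [smulMod_eq, smulMod_eq, smulMod_eq, Linear.smul_comp, Linear.comp_smul, Category.id_comp,
    smul_smul]

lemma smulMod_add (M : X.Modules) (a b : A) :
    Formal.smulMod A M (a + b) = Formal.smulMod A M a + Formal.smulMod A M b := by
  rw [smulMod_eq, smulMod_eq, smulMod_eq, add_smul]

lemma smulMod_zero (M : X.Modules) : Formal.smulMod A M (0 : A) = 0 := by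
  rw [smulMod_eq, zero_smul]

lemma smulMod_one (M : X.Modules) : Formal.smulMod A M (1 : A) = 𝟙 M := by
  rw [smulMod_eq, one_smul]

/-- `f` is killed by `J` : `a • f = 0` for all `a ∈ J` -/
def Kills (J : Ideal A) {M N : X.Modules} (f : M ⟶ N) : Prop := ∀ a ∈ J, a • f = 0

lemma killedBy_iff (J : Ideal A) (M : X.Modules) : Formal.KilledBy J M ↔ Kills J (𝟙 M) := by
  constructor
  · intro h a ha
    rw [← smulMod_eq]; exact h a ha
  · intro h a ha
    rw [smulMod_eq]; exact h a ha

lemma Kills.comp_right {J : Ideal A} {M N P : X.Modules} {f : M ⟶ N} (h : Kills J f)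
    (g : N ⟶ P) : Kills J (f ≫ g) := fun a ha => by
  rw [← Linear.smul_comp, h a ha, zero_comp]

lemma Kills.comp_left {J : Ideal A} {M N P : X.Modules} {f : M ⟶ N} (h : Kills J f)
    (g : P ⟶ M) : Kills J (g ≫ f) := fun a ha => by
  rw [← Linear.comp_smul, h a ha, comp_zero]

lemma Kills.mono {J J' : Ideal A} (hJ : J' ≤ J) {M N : X.Modules} {f : M ⟶ N} (h : Kills J f) :
    Kills J' f := fun a ha => h a (hJ ha)

lemma kills_of_killedBy_right {J : Ideal A} {M N : X.Modules} (h : Formal.KilledBy J N)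
    (f : M ⟶ N) : Kills J f := by
  have := ((killedBy_iff J N).1 h).comp_left f
  rwa [Category.comp_id] at this

lemma kills_of_killedBy_left {J : Ideal A} {M N : X.Modules} (h : Formal.KilledBy J M)
    (f : M ⟶ N) : Kills J f := by
  have := ((killedBy_iff J M).1 h).comp_right f
  rwa [Category.id_comp] at this

lemma Kills.of_epi_comp {J : Ideal A} {M N P : X.Modules} (p : M ⟶ N) [Epi p] {f : N ⟶ P}
    (h : Kills J (p ≫ f)) : Kills J f := fun a ha => by
  rw [← cancel_epi p, Linear.comp_smul, h a ha, comp_zero]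

lemma Kills.of_comp_mono {J : Ideal A} {M N P : X.Modules} (i : N ⟶ P) [Mono i] {f : M ⟶ N}
    (h : Kills J (f ≫ i)) : Kills J f := fun a ha => by
  rw [← cancel_mono i, Linear.smul_comp, h a ha, zero_comp]

lemma killedBy_of_epi {J : Ideal A} {M N : X.Modules} (p : M ⟶ N) [Epi p]
    (h : Formal.KilledBy J M) : Formal.KilledBy J N := by
  rw [killedBy_iff]
  apply Kills.of_epi_comp p
  rw [Category.comp_id]
  exact kills_of_killedBy_left h p

lemma killedBy_of_mono {J : Ideal A} {M N : X.Modules} (i : N ⟶ M) [Mono i]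
    (h : Formal.KilledBy J M) : Formal.KilledBy J N := by
  rw [killedBy_iff]
  apply Kills.of_comp_mono i
  rw [Category.id_comp]
  exact kills_of_killedBy_right h i

lemma killedBy_mono {J J' : Ideal A} (hJ : J' ≤ J) {M : X.Modules} (h : Formal.KilledBy J M) :
    Formal.KilledBy J' M := fun a ha => h a (hJ ha)

@[reassoc]
lemma ι_smulFamily (J : Ideal A) (M : X.Modules) (a : J) :
    Sigma.ι (fun _ : J => M) a ≫ Formal.smulFamily J M = Formal.smulMod A M (a : A) := by
  simp [Formal.smulFamily]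

lemma smulFamily_comp_eq_zero_iff (J : Ideal A) {M N : X.Modules} (f : M ⟶ N) :
    Formal.smulFamily J M ≫ f = 0 ↔ Kills J f := by
  constructor
  · intro h a ha
    have := ι_smulFamily_assoc J M ⟨a, ha⟩ f
    rw [h, comp_zero] at this
    exact this.symm
  · intro h
    apply Sigma.hom_ext
    intro a
    rw [ι_smulFamily_assoc, comp_zero]
    exact h a a.2

/-- `p : M ⟶ N` exhibits `N` as the quotient `M/JM`. -/
structure IsQuot (J : Ideal A) {M N : X.Modules} (p : M ⟶ N) : Prop where
  epi : Epi p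
  kills : Kills J p
  fac : ∀ {Z : X.Modules} (f : M ⟶ Z), Kills J f → ∃ g : N ⟶ Z, p ≫ g = f

lemma isQuot_cokernelπ (J : Ideal A) (M : X.Modules) :
    IsQuot J (cokernel.π (Formal.smulFamily J M)) where
  epi := inferInstance
  kills := (smulFamily_comp_eq_zero_iff J _).1 (cokernel.condition _)
  fac f hf := ⟨cokernel.desc _ f ((smulFamily_comp_eq_zero_iff J f).2 hf), cokernel.π_desc _ _ _⟩

lemma isQuot_modPowπ (I : Ideal A) (n : ℕ) (M : X.Modules) :
    IsQuot (I ^ n) (Formal.modPowπ I n M) := isQuot_cokernelπ _ M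

namespace IsQuot

variable {J : Ideal A} {M N : X.Modules} {p : M ⟶ N}

/-- the factorization -/
noncomputable def desc (hp : IsQuot J p) {Z : X.Modules} (f : M ⟶ Z) (hf : Kills J f) : N ⟶ Z :=
  (hp.fac f hf).choose

@[reassoc (attr := simp)]
lemma fac_desc (hp : IsQuot J p) {Z : X.Modules} (f : M ⟶ Z) (hf : Kills J f) :
    p ≫ hp.desc f hf = f := (hp.fac f hf).choose_spec

lemma hom_ext (hp : IsQuot J p) {Z : X.Modules} {g g' : N ⟶ Z} (h : p ≫ g = p ≫ g') : g = g' :=
  haveI := hp.epi
  (cancel_epi p).1 h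

lemma killedBy (hp : IsQuot J p) : Formal.KilledBy J N := by
  haveI := hp.epi
  rw [killedBy_iff]
  apply Kills.of_epi_comp p
  rw [Category.comp_id]
  exact hp.kills

/-- the cokernel formulation used in `Formal.IsCohFormal` -/
lemma exists_isIso (hp : IsQuot J p) :
    ∃ h : Formal.smulFamily J M ≫ p = 0, IsIso (cokernel.desc _ _ h) := by
  have h : Formal.smulFamily J M ≫ p = 0 := (smulFamily_comp_eq_zero_iff J p).2 hp.kills
  refine ⟨h, ⟨hp.desc (cokernel.π _) (isQuot_cokernelπ J M).kills, ?_, ?_⟩⟩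
  · apply coequalizer.hom_ext
    rw [cokernel.π_desc_assoc, fac_desc, Category.comp_id]
  · apply hp.hom_ext
    rw [fac_desc_assoc, cokernel.π_desc, Category.comp_id]

lemma of_isIso (h : Formal.smulFamily J M ≫ p = 0) (hi : IsIso (cokernel.desc _ _ h)) :
    IsQuot J p := by
  have e : p = cokernel.π _ ≫ cokernel.desc _ _ h := (cokernel.π_desc _ _ _).symm
  refine ⟨?_, (smulFamily_comp_eq_zero_iff J p).1 h, ?_⟩
  · rw [e]; infer_instance
  · intro Z f hf
    refine ⟨inv (cokernel.desc _ _ h) ≫ (isQuot_cokernelπ J M).desc f hf, ?_⟩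
    have h1 : p ≫ inv (cokernel.desc _ _ h) = cokernel.π _ := by
      rw [IsIso.comp_inv_eq, cokernel.π_desc]
    rw [← Category.assoc, h1, fac_desc]

lemma iff_exists_isIso :
    IsQuot J p ↔ ∃ h : Formal.smulFamily J M ≫ p = 0, IsIso (cokernel.desc _ _ h) :=
  ⟨exists_isIso, fun ⟨h, hi⟩ => of_isIso h hi⟩

/-- composition with an isomorphism on the right -/
lemma comp_iso (hp : IsQuot J p) {N' : X.Modules} (e : N ⟶ N') [IsIso e] : IsQuot J (p ≫ e) := by
  haveI := hp.epi
  refine ⟨inferInstance, hp.kills.comp_right e, ?_⟩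
  intro Z f hf
  exact ⟨inv e ≫ hp.desc f hf, by simp⟩

/-- composition with an isomorphism on the left -/
lemma iso_comp (hp : IsQuot J p) {M' : X.Modules} (e : M' ⟶ M) [IsIso e] : IsQuot J (e ≫ p) := by
  haveI := hp.epi
  refine ⟨inferInstance, hp.kills.comp_left e, ?_⟩
  intro Z f hf
  refine ⟨hp.desc (inv e ≫ f) (hf.comp_left _), by simp⟩

/-- two quotients by the same ideal are canonically isomorphic -/
noncomputable def iso (hp : IsQuot J p) {N' : X.Modules} {p' : M ⟶ N'} (hp' : IsQuot J p') :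
    N ≅ N' where
  hom := hp.desc p' hp'.kills
  inv := hp'.desc p hp.kills
  hom_inv_id := hp.hom_ext (by simp)
  inv_hom_id := hp'.hom_ext (by simp)

@[reassoc (attr := simp)]
lemma fac_iso_hom (hp : IsQuot J p) {N' : X.Modules} {p' : M ⟶ N'} (hp' : IsQuot J p') :
    p ≫ (hp.iso hp').hom = p' := hp.fac_desc p' hp'.kills

/-- the quotient map of a module killed by `J` is an isomorphism -/
lemma isIso_of_killedBy (hp : IsQuot J p) (h : Formal.KilledBy J M) : IsIso p := by
  refine ⟨hp.desc (𝟙 M) ((killedBy_iff J M).1 h), fac_desc _ _ _, ?_⟩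
  apply hp.hom_ext
  rw [fac_desc_assoc, Category.id_comp, Category.comp_id]

lemma of_isIso_of_killedBy {M' N' : X.Modules} (q : M' ⟶ N') [IsIso q]
    (h : Formal.KilledBy J M') : IsQuot J q :=
  ⟨inferInstance, kills_of_killedBy_left h q, fun f _ => ⟨inv q ≫ f, by simp⟩⟩

/-- transitivity: `M → M/J'M → (M/J'M)/J(M/J'M)` is the quotient by `J` when `J' ≤ J`. -/
lemma comp {J' : Ideal A} (hJ : J' ≤ J) (hp : IsQuot J' p) {P : X.Modules} {q : N ⟶ P}
    (hq : IsQuot J q) : IsQuot J (p ≫ q) := by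
  haveI := hp.epi
  haveI := hq.epi
  refine ⟨inferInstance, hq.kills.comp_left p, ?_⟩
  intro Z f hf
  have h1 : Kills J (hp.desc f (hf.mono hJ)) := by
    apply Kills.of_epi_comp p
    rw [fac_desc]
    exact hf
  exact ⟨hq.desc _ h1, by simp⟩

end IsQuot

end Groth.Agent.Helper1.Form
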