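import Mathlib
import Groth.Agent.Helper1.FormA
import Groth.Agent.Helper1.GrSh1
import Groth.Agent.Helper1.Dev2

/-!
# The Rees object `(IⁿM)_n` of an `O_X`-module over `Spec A`
-/

set_option autoImplicit false
set_option linter.style.haveILetI false

namespace Groth.Agent.Helper1.Rees

open CategoryTheory Limits AlgebraicGeometry Opposite Abelian
open Groth.Agent.Helper1.Form Groth.Agent.Helper1.GrSh Groth.Agent.Helper1.Dev

universe u

variable {A : Type u} [CommRing A] {X : Scheme.{u}} [X.Over (Spec (CommRingCat.of A))]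
variable (I : Ideal A) (M : X.Modules)

/-- the submodule `IⁿM` of `M` -/
noncomputable abbrev Rn (n : ℕ) : X.Modules := Abelian.image (Formal.smulFamily (I ^ n) M)

/-- the inclusion `IⁿM ⟶ M` -/
noncomputable abbrev Rι (n : ℕ) : Rn I M n ⟶ M := Abelian.image.ι _

/-- multiplication by `b ∈ Iⁿ` as a map `M ⟶ IⁿM` -/
noncomputable def θ (n : ℕ) (b : ↥(I ^ n)) : M ⟶ Rn I M n :=
  Sigma.ι (fun _ : ↥(I ^ n) => M) b ≫ Abelian.factorThruImage _

@[reassoc (attr := simp)]
lemma θ_ι (n : ℕ) (b : ↥(I ^ n)) : θ I M n b ≫ Rι I M n = Formal.smulMod A M (b : A) := by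
  unfold θ
  rw [Category.assoc, Abelian.image.fac, ι_smulFamily]

variable {I M}

lemma Rn_hom_ext {n : ℕ} {Z : X.Modules} {f g : Rn I M n ⟶ Z}
    (h : ∀ b : ↥(I ^ n), θ I M n b ≫ f = θ I M n b ≫ g) : f = g := by
  rw [← cancel_epi (Abelian.factorThruImage (Formal.smulFamily (I ^ n) M))]
  apply Sigma.hom_ext
  intro b
  have := h b
  unfold θ at this
  rwa [Category.assoc, Category.assoc] at this

lemma Rι_modPowπ (n : ℕ) : Rι I M n ≫ Formal.modPowπ I n M = 0 := kernel.condition _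

variable (I M)

/-- the short exact sequence `0 → IⁿM → M → M/IⁿM → 0` -/
noncomputable abbrev sesR (n : ℕ) : ShortComplex X.Modules :=
  imCokSC (Formal.smulFamily (I ^ n) M)

lemma sesR_shortExact (n : ℕ) : (sesR I M n).ShortExact := imCokSC_shortExact _

lemma sesR_g (n : ℕ) : (sesR I M n).g = Formal.modPowπ I n M := rfl

lemma sesR_f (n : ℕ) : (sesR I M n).f = Rι I M n := rfl

/-- a morphism `N ⟶ M` lands in `IⁿM` if it is killed by `M ⟶ M/IⁿM` -/
noncomputable def liftR (n : ℕ) {N : X.Modules} (f : N ⟶ M) (hf : f ≫ Formal.modPowπ I n M = 0) :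
    N ⟶ Rn I M n := kernel.lift _ f hf

@[reassoc (attr := simp)]
lemma liftR_ι (n : ℕ) {N : X.Modules} (f : N ⟶ M) (hf : f ≫ Formal.modPowπ I n M = 0) :
    liftR I M n f hf ≫ Rι I M n = f := kernel.lift_ι _ _ _

lemma mul_aux (n m : ℕ) (a : A) (ha : a ∈ I ^ m) :
    (Rι I M n ≫ Formal.smulMod A M a) ≫ Formal.modPowπ I (n + m) M = 0 := by
  apply Rn_hom_ext
  intro b
  rw [comp_zero, Category.assoc, θ_ι_assoc, ← Category.assoc, ← smulMod_mul]
  have h1 : (b : A) * a ∈ I ^ (n + m) := by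
    rw [pow_add]
    exact Ideal.mul_mem_mul b.2 ha
  exact (isQuot_modPowπ I (n + m) M).kills _ h1

/-- multiplication by `a ∈ Iᵐ`, as a map `IⁿM ⟶ Iⁿ⁺ᵐM` -/
noncomputable def mulR (n m : ℕ) (a : A) (ha : a ∈ I ^ m) : Rn I M n ⟶ Rn I M (n + m) :=
  liftR I M (n + m) (Rι I M n ≫ Formal.smulMod A M a) (mul_aux I M n m a ha)

@[reassoc (attr := simp)]
lemma mulR_ι (n m : ℕ) (a : A) (ha : a ∈ I ^ m) :
    mulR I M n m a ha ≫ Rι I M (n + m) = Rι I M n ≫ Formal.smulMod A M a := liftR_ι _ _ _ _ _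

/-- multiplication by `a ∈ I`, as a map `IⁿM ⟶ Iⁿ⁺¹M` -/
noncomputable def μ (a : I) (n : ℕ) : Rn I M n ⟶ Rn I M (n + 1) :=
  mulR I M n 1 (a : A) (by rw [pow_one]; exact a.2)

@[reassoc (attr := simp)]
lemma μ_ι (a : I) (n : ℕ) :
    μ I M a n ≫ Rι I M (n + 1) = Rι I M n ≫ Formal.smulMod A M (a : A) := mulR_ι _ _ _ _ _ _

lemma θ_μ (a : I) (n : ℕ) (b : ↥(I ^ n)) (hba : (b : A) * (a : A) ∈ I ^ (n + 1)) :
    θ I M n b ≫ μ I M a n = θ I M (n + 1) ⟨(b : A) * (a : A), hba⟩ := by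
  rw [← cancel_mono (Rι I M (n + 1)), Category.assoc, μ_ι, θ_ι_assoc, θ_ι, ← smulMod_mul]

lemma μ_comm (a b : I) (n : ℕ) :
    μ I M b n ≫ μ I M a (n + 1) = μ I M a n ≫ μ I M b (n + 1) := by
  rw [← cancel_mono (Rι I M (n + 1 + 1)), Category.assoc, Category.assoc, μ_ι, μ_ι_assoc, μ_ι,
    μ_ι_assoc, ← smulMod_mul, ← smulMod_mul, mul_comm]

/-- the inclusion `Iⁿ⁺¹M ⟶ IⁿM` -/
noncomputable def incl (n : ℕ) : Rn I M (n + 1) ⟶ Rn I M n :=
  liftR I M n (Rι I M (n + 1)) (by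
    rw [← Formal.modPowπ_trans, ← Category.assoc, Rι_modPowπ, zero_comp])

@[reassoc (attr := simp)]
lemma incl_ι (n : ℕ) : incl I M n ≫ Rι I M n = Rι I M (n + 1) := liftR_ι _ _ _ _ _

lemma μ_incl (a : I) (n : ℕ) : μ I M a n ≫ incl I M n = Formal.smulMod A (Rn I M n) (a : A) := by
  rw [← cancel_mono (Rι I M n), Category.assoc, incl_ι, μ_ι, smulMod_comp]

/-- the Rees object for a family of elements of `I` -/
noncomputable def reesObj {r : ℕ} (a : Fin r → I) : GrObj X r where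
  G := Rn I M
  T i n := μ I M (a i) n
  comm i j n := μ_comm I M (a i) (a j) n

variable {I}

/-- elements of `Iⁿ⁺¹` in terms of generators of `I` -/
lemma exists_sum_of_mem_pow_succ {r : ℕ} (a : Fin r → I)
    (ha : Ideal.span (Set.range fun i => (a i : A)) = I) (n : ℕ) (b : A) (hb : b ∈ I ^ (n + 1)) :
    ∃ c : Fin r → A, (∀ i, c i ∈ I ^ n) ∧ b = ∑ i, c i * (a i : A) := by
  have h1 : b ∈ I ^ n • Submodule.span A (Set.range fun i => (a i : A)) := by
    have : I ^ n • Submodule.span A (Set.range fun i => (a i : A)) = I ^ n * I := by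
      rw [smul_eq_mul]
      congr 1
    rw [this, ← pow_succ]
    exact hb
  obtain ⟨c, hc, hsum⟩ :=
    (Submodule.mem_ideal_smul_span_iff_exists_sum (I ^ n) (fun i => (a i : A)) b).1 h1
  refine ⟨c, hc, ?_⟩
  rw [← hsum, Finsupp.sum_fintype _ _ (fun i => by simp)]
  simp [smul_eq_mul]

theorem jointlyEpi_reesObj {r : ℕ} (a : Fin r → I)
    (ha : Ideal.span (Set.range fun i => (a i : A)) = I) (n : ℕ) :
    JointlyEpi (reesObj I M a) n := by
  intro Z f hf
  change Rn I M (n + 1) ⟶ Z at f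
  change ∀ i, μ I M (a i) n ≫ f = 0 at hf
  show f = (0 : Rn I M (n + 1) ⟶ Z)
  apply Rn_hom_ext
  intro b
  rw [comp_zero]
  obtain ⟨c, hc, hb⟩ := exists_sum_of_mem_pow_succ a ha n b b.2
  have h1 : θ I M (n + 1) b = ∑ i, θ I M n ⟨c i, hc i⟩ ≫ μ I M (a i) n := by
    rw [← cancel_mono (Rι I M (n + 1)), θ_ι, Preadditive.sum_comp]
    have : ∀ i, (θ I M n ⟨c i, hc i⟩ ≫ μ I M (a i) n) ≫ Rι I M (n + 1) =
        Formal.smulMod A M (c i * (a i : A)) := fun i => by
      rw [Category.assoc, μ_ι, θ_ι_assoc, ← smulMod_mul]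
    rw [Finset.sum_congr rfl (fun i _ => this i), hb]
    -- additivity of `smulMod`
    have hadd : ∀ (s : Finset (Fin r)), Formal.smulMod A M (∑ i ∈ s, c i * (a i : A)) =
        ∑ i ∈ s, Formal.smulMod A M (c i * (a i : A)) := by
      intro s
      classical
      induction s using Finset.induction_on with
      | empty => rw [Finset.sum_empty, Finset.sum_empty, smulMod_zero]
      | insert j s hj ih => rw [Finset.sum_insert hj, Finset.sum_insert hj, smulMod_add, ih]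
    exact hadd _
  rw [h1, Preadditive.sum_comp]
  refine Finset.sum_eq_zero fun i _ => ?_
  rw [Category.assoc, hf i, comp_zero]

end Groth.Agent.Helper1.Rees
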