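import Mathlib
import Groth.Agent.Helper1.Rees1
import Groth.Agent.Helper1.GrSh4
import Groth.Agent.Helper2.CohQ1

/-!
# Coherence of `M/IⁿM`, `IⁿM` and finite generation of `⊕ H^p(X, IⁿM)`
-/

set_option autoImplicit false
set_option linter.style.haveILetI false

namespace Groth.Agent.Helper1.Rees

open CategoryTheory Limits AlgebraicGeometry Opposite Abelian
open Groth.Agent.Helper1.Form Groth.Agent.Helper1.GrSh Groth.Agent.Helper1.Dev
open Groth.Agent.Helper1

universe u

variable {A : Type u} [CommRing A] {X : Scheme.{u}} [X.Over (Spec (CommRingCat.of A))]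

lemma kills_span {S : Set A} {M N : X.Modules} (f : M ⟶ N) (h : ∀ s ∈ S, s • f = 0) :
    Kills (Ideal.span S) f := by
  intro a ha
  induction ha using Submodule.span_induction with
  | mem x hx => exact h x hx
  | zero => exact zero_smul _ _
  | add x y _ _ hx hy => rw [add_smul, hx, hy, add_zero]
  | smul c x _ hx => rw [smul_eq_mul, mul_smul, hx, smul_zero]

/-- the quotient by a finitely generated ideal as a cokernel of a finite family -/
lemma isQuot_cokernel_fin {k : ℕ} (g : Fin k → A) (M : X.Modules) :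
    IsQuot (Ideal.span (Set.range g))
      (cokernel.π (Sigma.desc (fun j : Fin k => Formal.smulMod A M (g j)))) where
  epi := inferInstance
  kills := by
    apply kills_span
    rintro _ ⟨j, rfl⟩
    have h1 : Sigma.ι (fun _ : Fin k => M) j ≫
        Sigma.desc (fun j : Fin k => Formal.smulMod A M (g j)) = Formal.smulMod A M (g j) :=
      Sigma.ι_desc _ _
    change Formal.smulMod A M (g j) ≫ _ = 0
    rw [← h1, Category.assoc, cokernel.condition, comp_zero]
  fac := by
    intro Z f hf
    refine ⟨cokernel.desc _ f ?_, cokernel.π_desc _ _ _⟩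
    apply Sigma.hom_ext
    intro j
    rw [← Category.assoc, Sigma.ι_desc, comp_zero]
    exact hf (g j) (Ideal.subset_span ⟨j, rfl⟩)

variable [IsNoetherianRing A]

theorem isCoh_modPow (I : Ideal A) (n : ℕ) (M : X.Modules) (hM : Coh.IsCoh M) :
    Coh.IsCoh (Formal.modPow I n M) := by
  obtain ⟨k, g, hg⟩ := Submodule.fg_iff_exists_fin_generating_family.1
    (IsNoetherian.noetherian (I ^ n))
  have h1 := isQuot_cokernel_fin g M
  have hg' : Ideal.span (Set.range g) = I ^ n := hg
  rw [hg'] at h1
  have e := h1.iso (isQuot_modPowπ I n M)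
  refine Groth.Agent.Helper2.CohQ1.isCoh_of_iso e ?_
  exact Groth.Agent.Lead.PerfLib.isCoh_cokernel
    (SerreFin.isCoh_sigma_fin _ (fun _ => hM)) hM _

theorem isCoh_Rn [IsLocallyNoetherian X] (I : Ideal A) (n : ℕ) (M : X.Modules)
    (hM : Coh.IsCoh M) : Coh.IsCoh (Rn I M n) :=
  Groth.Agent.Lead.PerfLib.isCoh_kernel hM (isCoh_modPow I n M hM) _

theorem isFG_reesObj [IsLocallyNoetherian X] {I : Ideal A} (M : X.Modules) (hM : Coh.IsCoh M)
    {r : ℕ} (a : Fin r → I) (ha : Ideal.span (Set.range fun i => (a i : A)) = I) :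
    IsFG (reesObj I M a) where
  coh n := isCoh_Rn I n M hM
  gen := ⟨0, fun n _ => jointlyEpi_reesObj M a ha n⟩

/-- **finite generation of `⊕ H^p(X, IⁿM)`** over `A[T₁,…,T_r]` -/
theorem reesFin [IsProper (X ↘ Spec (CommRingCat.of A))] [IsNoetherian X] {I : Ideal A}
    (M : X.Modules) (hM : Coh.IsCoh M) {r : ℕ} (a : Fin r → I)
    (ha : Ideal.span (Set.range fun i => (a i : A)) = I) (p : ℕ) :
    ∃ N, GrHB.GenFrom (TH A (reesObj I M a) p) N :=
  genFrom_HH A r _ (isFG_reesObj M hM a ha) p

end Groth.Agent.Helper1.Rees
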