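import Groth.Agent.Helper1.HensCouple1

set_option autoImplicit false
set_option linter.style.haveILetI false

/-!
# Henselian couples: existence of clopen lifts
-/

namespace Groth.Agent.Helper1.HensCouple

open CategoryTheory Limits AlgebraicGeometry Opposite TopologicalSpace
open Groth.Agent.Helper1.QuotPush Groth.Agent.Helper1.ClopenIdem

universe u

variable (A : Type u) [CommRing A] (I : Ideal A)

lemma range_specMap_mk :
    Set.range (Spec.map (CommRingCat.ofHom (Ideal.Quotient.mk I))) =
      PrimeSpectrum.zeroLocus (I : Set A) := by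
  have := _root_.range_comap_of_surjective (A ⧸ I) (Ideal.Quotient.mk I)
    Ideal.Quotient.mk_surjective
  rw [Ideal.mk_ker] at this
  exact this

theorem exists_clopen [IsNoetherianRing A] [HenselianRing A I]
    {Y : Scheme.{u}} (h : Y ⟶ Spec (CommRingCat.of A)) [IsProper h]
    (W : Set Y) (hW : IsClosed W)
    (hW' : IsClosed ((h ⁻¹' PrimeSpectrum.zeroLocus (I : Set A)) \ W))
    (hWC : W ⊆ h ⁻¹' PrimeSpectrum.zeroLocus (I : Set A)) :
    ∃ U : Set Y, IsClopen U ∧ U ∩ (h ⁻¹' PrimeSpectrum.zeroLocus (I : Set A)) = W := by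
  classical
  let h' := h.toNormalization
  let ν := h.fromNormalization
  have w : h' ≫ ν = h := h.toNormalization_fromNormalization
  haveI : IsFinite ν := Groth.Agent.Lead.ProperFinB.main h
  haveI : IsLocallyNoetherian h.normalization := LocallyOfFiniteType.isLocallyNoetherian ν
  haveI : IsProper (h' ≫ ν) := by rw [w]; infer_instance
  haveI : IsProper h' := IsProper.of_comp h' ν
  haveI : IsAffine h.normalization := isAffine_of_isAffineHom ν
  have hconn : ∀ y' : h.normalization, ConnectedSpace (h'.fiber y') :=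
    (Groth.Agent.S2431.result h' (fun U => Groth.Agent.S1340.result h U)).1
  have hcomp : ∀ a : Y, h a = ν (h' a) := by
    intro a
    have := congrArg (fun g : Y ⟶ Spec (CommRingCat.of A) => g.base a) w.symm
    simpa using this
  -- topological properties of `h'`
  have hcl : IsClosedMap h' := h'.isClosedMap
  have hfib : ∀ z, _root_.IsPreconnected (h' ⁻¹' {z}) := by
    intro z
    rw [← h'.range_fiberι z]
    haveI := hconn z
    exact isPreconnected_range (h'.fiberι z).continuous
  have hsurj : Function.Surjective h' := by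
    intro z
    obtain ⟨x₀⟩ := (hconn z).toNonempty
    exact ⟨h'.fiberι z x₀, (h'.range_fiberι z).le ⟨x₀, rfl⟩⟩
  set Z := PrimeSpectrum.zeroLocus (I : Set A) with hZ
  let C' : Set h.normalization := ν ⁻¹' Z
  have hC : h ⁻¹' Z = h' ⁻¹' C' := by
    ext x
    show h x ∈ Z ↔ ν (h' x) ∈ Z
    rw [← hcomp]
  rw [hC] at hW' hWC ⊢
  obtain ⟨hW1, hW2, hW3, hW4⟩ :=
    HensCoupleTop.image_relClopen h' hcl hsurj hfib C' W hW hW' hWC
  -- the closed subscheme `P'` of `Y'`
  letI : h.normalization.Over (Spec (CommRingCat.of A)) := ⟨ν⟩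
  let g := Spec.map (CommRingCat.ofHom (Ideal.Quotient.mk I))
  let p' : pullback ν g ⟶ h.normalization := pullback.fst ν g
  have hsq : IsPullback p' (pullback.snd ν g) (h.normalization ↘ Spec (CommRingCat.of A)) g :=
    IsPullback.of_hasPullback _ _
  haveI : IsClosedImmersion g := IsClosedImmersion.spec_of_surjective _ Ideal.Quotient.mk_surjective
  haveI : IsClosedImmersion p' := inferInstanceAs (IsClosedImmersion (pullback.fst ν g))
  have hrange : Set.range p' = C' := by
    show Set.range (pullback.fst ν g) = _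
    rw [Scheme.Pullback.range_fst, range_specMap_mk]
  -- the clopen subset `V'` of `P'`
  have hV' : IsClopen (p' ⁻¹' (h' '' W)) := by
    refine ⟨hW1.preimage p'.continuous, ?_⟩
    rw [← isClosed_compl_iff]
    have : (p' ⁻¹' (h' '' W))ᶜ = p' ⁻¹' (C' \ h' '' W) := by
      ext t
      simp only [Set.mem_compl_iff, Set.mem_preimage, Set.mem_sdiff]
      constructor
      · intro ht
        exact ⟨hrange.le ⟨t, rfl⟩, ht⟩
      · intro ht
        exact ht.2
    rw [this]
    exact hW2.preimage p'.continuous
  obtain ⟨e₀, he₀, hD₀⟩ := exists_idempotent_of_isClopen _ hV'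
  -- lift `e₀` to an idempotent of `Γ(Y', ⊤)`
  have hker : RingHom.ker p'.appTop.hom = I.map (ρ (A := A) (⊤ : h.normalization.Opens)) :=
    ker_app_eq I hsq (isAffineOpen_top h.normalization)
  have hsurjtop : Function.Surjective p'.appTop.hom :=
    p'.app_surjective ⊤ (isAffineOpen_top h.normalization)
  obtain ⟨b, hb⟩ := hsurjtop e₀
  have hbker : b * b - b ∈ I.map (ρ (A := A) (⊤ : h.normalization.Opens)) := by
    rw [← hker, RingHom.mem_ker, map_sub, map_mul, hb, he₀, sub_self]
  have hρ : ρ (A := A) (⊤ : h.normalization.Opens) =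
      ν.appTop.hom.comp (Scheme.ΓSpecIso (CommRingCat.of A)).inv.hom := by
    ext a
    exact Groth.Agent.Lead.ProperFinA.resTop_top _
  have hint : (ρ (A := A) (⊤ : h.normalization.Opens)).IsIntegral := by
    rw [hρ]
    apply RingHom.IsIntegral.trans
    · apply RingHom.isIntegral_of_surjective
      intro x
      refine ⟨(Scheme.ΓSpecIso (CommRingCat.of A)).hom.hom x, ?_⟩
      have := congrArg (fun φ => φ.hom x) (Scheme.ΓSpecIso (CommRingCat.of A)).hom_inv_id
      exact this
    · exact (ν.finite_appTop).to_isIntegral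
  letI alg : Algebra A Γ(h.normalization, ⊤) := (ρ (A := A) (⊤ : h.normalization.Opens)).toAlgebra
  haveI : Algebra.IsIntegral A Γ(h.normalization, ⊤) := ⟨fun x => hint x⟩
  obtain ⟨e, he, heb⟩ := Groth.Agent.Helper3.HensRows.idemLift_of_hens I Γ(h.normalization, ⊤) b hbker
  have hee₀ : p'.appTop.hom e = e₀ := by
    have h1 : e - b ∈ RingHom.ker p'.appTop.hom := by
      rw [hker]; exact heb
    rw [RingHom.mem_ker, map_sub, sub_eq_zero] at h1
    rw [h1]; exact hb
  have hU' : IsClopen (h.normalization.basicOpen e : Set h.normalization) :=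
    isClopen_basicOpen_of_idempotent e he
  have hpre : p' ⁻¹' (h.normalization.basicOpen e : Set h.normalization) = p' ⁻¹' (h' '' W) := by
    rw [← hD₀]
    have h3 : p' ⁻¹ᵁ h.normalization.basicOpen e = (pullback ν g : Scheme.{u}).basicOpen e₀ := by
      rw [Scheme.preimage_basicOpen_top]
      congr 1
    rw [← h3]
    rfl
  have hU'C' : (h.normalization.basicOpen e : Set h.normalization) ∩ C' = h' '' W := by
    ext z
    constructor
    · rintro ⟨hz1, hz2⟩
      rw [← hrange] at hz2
      obtain ⟨t, rfl⟩ := hz2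
      have : t ∈ p' ⁻¹' (h.normalization.basicOpen e : Set h.normalization) := hz1
      rw [hpre] at this
      exact this
    · intro hz
      have hzC := hW4 hz
      refine ⟨?_, hzC⟩
      rw [← hrange] at hzC
      obtain ⟨t, rfl⟩ := hzC
      have : t ∈ p' ⁻¹' (h' '' W) := hz
      rw [← hpre] at this
      exact this
  refine ⟨h' ⁻¹' (h.normalization.basicOpen e : Set h.normalization),
    hU'.preimage h'.continuous, ?_⟩
  rw [← Set.preimage_inter, hU'C', hW3]

end Groth.Agent.Helper1.HensCouple
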