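import Mathlib

set_option autoImplicit false
set_option linter.unusedSectionVars false

/-! Right derived functors on the unbounded derived category via K-injective resolutions. -/

namespace Groth.Agent.Helper1.KInjDer
open CategoryTheory Limits DerivedCategory

universe w v u

variable (A : Type u) [Category.{v} A] [Abelian A]

/-- the homotopy category -/
abbrev KA := HomotopyCategory A (ComplexShape.up ℤ)

/-- K-injective objects of the homotopy category -/
abbrev P : ObjectProperty (KA A) := (HomotopyCategory.subcategoryAcyclic A).rightOrthogonal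

/-- quasi-isomorphisms -/
abbrev W₂ : MorphismProperty (KA A) := HomotopyCategory.quasiIso A (ComplexShape.up ℤ)

/-- the localizer morphism -/
def Φ : LocalizerMorphism (MorphismProperty.isomorphisms (P A).FullSubcategory) (W₂ A) where
  functor := (P A).ι
  map := fun X Y f (hf : IsIso f) => by
    have : IsIso ((P A).ι.map f) := inferInstance
    exact MorphismProperty.of_isIso _ _

variable {A}
variable [HasDerivedCategory.{w} A]

lemma bij (X : KA A) {Y : KA A} (hY : P A Y) :
    Function.Bijective (Qh.map : (X ⟶ Y) → (Qh.obj X ⟶ Qh.obj Y)) :=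
  hY.map_bijective_of_isTriangulated _ _

/-- the comparison functor -/
noncomputable abbrev G : (P A).FullSubcategory ⥤ DerivedCategory A := (P A).ι ⋙ Qh

instance : (G (A := A)).Full where
  map_surjective {X Y} g := by
    obtain ⟨f, hf⟩ := (bij X.obj Y.property).surjective g
    exact ⟨ObjectProperty.homMk f, hf⟩

instance : (G (A := A)).Faithful where
  map_injective {X Y} f₁ f₂ h := by
    apply ObjectProperty.hom_ext
    exact (bij X.obj Y.property).injective h

variable (hKinj : ∀ K : CochainComplex A ℤ, ∃ (I : CochainComplex A ℤ) (f : K ⟶ I),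
  I.IsKInjective ∧ QuasiIso f)

include hKinj in
lemma essSurj : (G (A := A)).EssSurj where
  mem_essImage Z := by
    obtain ⟨I, f, hI, hf⟩ := hKinj (Q.objPreimage Z)
    refine ⟨⟨(HomotopyCategory.quotient _ _).obj I, hI.rightOrthogonal⟩, ⟨?_⟩⟩
    exact (quotientCompQhIso A).app I ≪≫ (asIso (Q.map f)).symm ≪≫ Q.objObjPreimageIso Z

include hKinj in
lemma isLocalizedEquivalence : (Φ A).IsLocalizedEquivalence := by
  have := essSurj hKinj
  have : (G (A := A)).IsEquivalence := { }
  have : (𝟭 (P A).FullSubcategory).IsLocalization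
      (MorphismProperty.isomorphisms (P A).FullSubcategory) :=
    Functor.IsLocalization.for_id _ (le_refl _)
  have : CatCommSq (Φ A).functor (𝟭 (P A).FullSubcategory) Qh (G (A := A)) :=
    ⟨(Functor.leftUnitor _).symm⟩
  exact LocalizerMorphism.IsLocalizedEquivalence.mk' (Φ A) (𝟭 _) Qh (G (A := A))

/-- extension of morphisms to K-injective objects along quasi-isomorphisms -/
lemma exists_map' {X I Y : KA A} (w : X ⟶ I) (hw : W₂ A w) (hY : P A Y) (g : X ⟶ Y) :
    ∃ φ : I ⟶ Y, w ≫ φ = g := by
  have : IsIso (Qh.map w) := Localization.inverts Qh (W₂ A) _ hw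
  obtain ⟨φ, hφ⟩ := (bij I hY).surjective (inv (Qh.map w) ≫ Qh.map g)
  refine ⟨φ, (bij X hY).injective ?_⟩
  rw [Functor.map_comp, hφ, IsIso.hom_inv_id_assoc]

lemma exists_map {X : KA A} (R : (Φ A).RightResolution X) {Y : KA A} (hY : P A Y)
    (g : X ⟶ Y) : ∃ φ : R.X₁.obj ⟶ Y, R.w ≫ φ = g :=
  exists_map' (I := R.X₁.obj) R.w R.hw hY g

include hKinj in
lemma nonempty_rightResolution (X : KA A) : Nonempty ((Φ A).RightResolution X) := by
  obtain ⟨K, rfl⟩ := HomotopyCategory.quotient_obj_surjective X
  obtain ⟨I, f, hI, hf⟩ := hKinj K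
  exact ⟨{ X₁ := ⟨(HomotopyCategory.quotient _ _).obj I, hI.rightOrthogonal⟩
           w := (HomotopyCategory.quotient _ _).map f
           hw := (HomotopyCategory.quotient_map_mem_quasiIso_iff f).2 hf }⟩

include hKinj in
lemma isConnected_rightResolution (X : KA A) : IsConnected ((Φ A).RightResolution X) := by
  have := nonempty_rightResolution hKinj X
  refine zigzag_isConnected (fun R R' => ?_)
  obtain ⟨φ, hφ⟩ := exists_map R R'.X₁.property R'.w
  exact Zigzag.of_hom { f := ObjectProperty.homMk φ, comm := hφ }

include hKinj in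
lemma arrow_hasRightResolutions : (Φ A).arrow.HasRightResolutions := by
  intro f
  obtain ⟨R⟩ := nonempty_rightResolution hKinj f.left
  obtain ⟨R'⟩ := nonempty_rightResolution hKinj f.right
  obtain ⟨φ, hφ⟩ := exists_map R R'.X₁.property (f.hom ≫ R'.w)
  exact ⟨{ X₁ := Arrow.mk (ObjectProperty.homMk φ : R.X₁ ⟶ R'.X₁)
           w := Arrow.homMk R.w R'.w hφ
           hw := ⟨R.hw, R'.hw⟩ }⟩

include hKinj in
lemma isRightDerivabilityStructure : (Φ A).IsRightDerivabilityStructure := by
  have := isLocalizedEquivalence hKinj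
  have := isConnected_rightResolution hKinj
  have := arrow_hasRightResolutions hKinj
  exact LocalizerMorphism.IsRightDerivabilityStructure.mk' (Φ A)

end Groth.Agent.Helper1.KInjDer
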