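import Mathlib

set_option autoImplicit false
set_option linter.unusedSectionVars false

namespace Groth.Agent.Helper1.DPlusAdj
open CategoryTheory Limits DerivedCategory

universe w' w v' v u' u

section K
variable {A : Type u} [Category.{v} A] [Abelian A] {B : Type u'} [Category.{v'} B] [Abelian B]
  {L : A ⥤ B} {R : B ⥤ A} (adj : L ⊣ R) [L.Additive] [R.Additive]

/-- unit at the level of complexes -/
@[simps]
def unitCx (X : CochainComplex A ℤ) :
    X ⟶ (R.mapHomologicalComplex _).obj ((L.mapHomologicalComplex _).obj X) where
  f n := adj.unit.app (X.X n)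
  comm' i j _ := (adj.unit.naturality (X.d i j)).symm

@[simps]
def counitCx (Y : CochainComplex B ℤ) :
    (L.mapHomologicalComplex _).obj ((R.mapHomologicalComplex _).obj Y) ⟶ Y where
  f n := adj.counit.app (Y.X n)
  comm' i j _ := (adj.counit.naturality (Y.d i j)).symm

lemma unitCx_naturality {X X' : CochainComplex A ℤ} (g : X ⟶ X') :
    g ≫ unitCx adj X' = unitCx adj X ≫
      (R.mapHomologicalComplex _).map ((L.mapHomologicalComplex _).map g) := by
  ext n
  dsimp
  exact adj.unit.naturality (g.f n)

lemma counitCx_naturality {Y Y' : CochainComplex B ℤ} (g : Y ⟶ Y') :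
    (L.mapHomologicalComplex _).map ((R.mapHomologicalComplex _).map g) ≫ counitCx adj Y' =
      counitCx adj Y ≫ g := by
  ext n
  dsimp
  exact adj.counit.naturality (g.f n)

lemma left_triangle_cx (X : CochainComplex A ℤ) :
    (L.mapHomologicalComplex _).map (unitCx adj X) ≫
      counitCx adj ((L.mapHomologicalComplex _).obj X) = 𝟙 _ := by
  ext n
  dsimp
  exact adj.left_triangle_components (X.X n)

lemma right_triangle_cx (Y : CochainComplex B ℤ) :
    unitCx adj ((R.mapHomologicalComplex _).obj Y) ≫
      (R.mapHomologicalComplex _).map (counitCx adj Y) = 𝟙 _ := by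
  ext n
  dsimp
  exact adj.right_triangle_components (Y.X n)


/-- unit on `K⁺` -/
noncomputable def unitK : 𝟭 (HomotopyCategory.Plus A) ⟶
    L.mapHomotopyCategoryPlus ⋙ R.mapHomotopyCategoryPlus where
  app K := ObjectProperty.homMk ((HomotopyCategory.quotient _ _).map (unitCx adj K.obj.as))
  naturality K K' f := by
    obtain ⟨g, hg⟩ := (HomotopyCategory.quotient _ _).map_surjective f.hom
    apply (HomotopyCategory.Plus.ι A).map_injective
    have hf : f = ObjectProperty.homMk ((HomotopyCategory.quotient _ _).map g) := by
      ext; exact hg.symm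
    subst hf
    change (HomotopyCategory.quotient _ _).map g ≫
        (HomotopyCategory.quotient _ _).map (unitCx adj K'.obj.as) =
      (HomotopyCategory.quotient _ _).map (unitCx adj K.obj.as) ≫
        (HomotopyCategory.quotient _ _).map
          ((R.mapHomologicalComplex _).map ((L.mapHomologicalComplex _).map g))
    rw [← Functor.map_comp, ← Functor.map_comp, unitCx_naturality]

noncomputable def counitK : R.mapHomotopyCategoryPlus ⋙ L.mapHomotopyCategoryPlus ⟶
    𝟭 (HomotopyCategory.Plus B) where
  app K := ObjectProperty.homMk ((HomotopyCategory.quotient _ _).map (counitCx adj K.obj.as))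
  naturality K K' f := by
    obtain ⟨g, hg⟩ := (HomotopyCategory.quotient _ _).map_surjective f.hom
    apply (HomotopyCategory.Plus.ι B).map_injective
    have hf : f = ObjectProperty.homMk ((HomotopyCategory.quotient _ _).map g) := by
      ext; exact hg.symm
    subst hf
    change (HomotopyCategory.quotient _ _).map
          ((L.mapHomologicalComplex _).map ((R.mapHomologicalComplex _).map g)) ≫
        (HomotopyCategory.quotient _ _).map (counitCx adj K'.obj.as) =
      (HomotopyCategory.quotient _ _).map (counitCx adj K.obj.as) ≫
        (HomotopyCategory.quotient _ _).map g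
    rw [← Functor.map_comp, ← Functor.map_comp, counitCx_naturality]

noncomputable def adjK : L.mapHomotopyCategoryPlus ⊣ R.mapHomotopyCategoryPlus :=
  Adjunction.mkOfUnitCounit
  { unit := unitK adj
    counit := counitK adj
    left_triangle := by
      ext K
      change (HomotopyCategory.quotient _ _).map
          ((L.mapHomologicalComplex _).map (unitCx adj K.obj.as)) ≫ 𝟙 _ ≫
        (HomotopyCategory.quotient _ _).map
          (counitCx adj ((L.mapHomologicalComplex _).obj K.obj.as)) = 𝟙 _
      rw [Category.id_comp, ← Functor.map_comp,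
        left_triangle_cx, CategoryTheory.Functor.map_id]
    right_triangle := by
      ext K
      change (HomotopyCategory.quotient _ _).map
          (unitCx adj ((R.mapHomologicalComplex _).obj K.obj.as)) ≫ 𝟙 _ ≫
        (HomotopyCategory.quotient _ _).map
          ((R.mapHomologicalComplex _).map (counitCx adj K.obj.as)) = 𝟙 _
      rw [Category.id_comp, ← Functor.map_comp,
        right_triangle_cx, CategoryTheory.Functor.map_id] }

end K

section D
variable {A : Type u} [Category.{v} A] [Abelian A] [HasDerivedCategory.{w} A]
  {B : Type u'} [Category.{v'} B] [Abelian B] [HasDerivedCategory.{w'} B]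

/-- an exact functor preserves quasi-isomorphisms on `K⁺` -/
lemma inverts_of_exact (L : A ⥤ B) [L.Additive] [PreservesFiniteLimits L]
    [PreservesFiniteColimits L] :
    (HomotopyCategory.Plus.quasiIso A).IsInvertedBy
      (L.mapHomotopyCategoryPlus ⋙ DerivedCategory.Plus.Qh) := by
  intro K K' f hf
  apply Localization.inverts DerivedCategory.Plus.Qh (HomotopyCategory.Plus.quasiIso B)
  obtain ⟨g, hg⟩ := (HomotopyCategory.quotient _ _).map_surjective f.hom
  have hf' : f = ObjectProperty.homMk ((HomotopyCategory.quotient _ _).map g) := by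
    ext; exact hg.symm
  subst hf'
  change HomotopyCategory.quasiIso B _ ((HomotopyCategory.quotient _ _).map
    ((L.mapHomologicalComplex _).map g))
  change HomotopyCategory.quasiIso A _ ((HomotopyCategory.quotient _ _).map g) at hf
  rw [HomotopyCategory.quotient_map_mem_quasiIso_iff] at hf ⊢
  rw [HomologicalComplex.mem_quasiIso_iff] at hf ⊢
  exact HomologicalComplex.quasiIso_map_of_preservesHomology _ _


theorem nonempty_adj [EnoughInjectives A] [EnoughInjectives B] {L : A ⥤ B} {R : B ⥤ A}
    (adj : L ⊣ R) [L.Additive] [R.Additive] [PreservesFiniteLimits L] [PreservesFiniteColimits L] :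
    Nonempty (L.rightDerivedFunctorPlus ⊣ R.rightDerivedFunctorPlus) := by
  have hL := inverts_of_exact (A := A) (B := B) L
  have : IsIso L.rightDerivedFunctorPlusUnit :=
    Functor.isIso_of_isRightDerivedFunctor_of_inverts _ _ hL
  let e : DerivedCategory.Plus.Qh ⋙ L.rightDerivedFunctorPlus ≅
      L.mapHomotopyCategoryPlus ⋙ DerivedCategory.Plus.Qh :=
    (asIso L.rightDerivedFunctorPlusUnit).symm
  let β := R.rightDerivedFunctorPlusUnit
  have : L.rightDerivedFunctorPlus.IsLeftDerivedFunctor e.hom
      (HomotopyCategory.Plus.quasiIso A) :=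
    Functor.isLeftDerivedFunctor_of_inverts _ _ e
  have : (L.rightDerivedFunctorPlus ⋙ R.rightDerivedFunctorPlus).IsLeftDerivedFunctor
      ((Functor.associator _ _ _).inv ≫ Functor.whiskerRight e.hom R.rightDerivedFunctorPlus)
      (HomotopyCategory.Plus.quasiIso A) :=
    Functor.isLeftDerivedFunctor_of_inverts _ _
      ((Functor.associator _ _ _).symm ≪≫ Functor.isoWhiskerRight e _)
  have : (R.rightDerivedFunctorPlus ⋙ L.rightDerivedFunctorPlus).IsRightDerivedFunctor
      (Functor.whiskerRight β _ ≫ (Functor.associator _ _ _).hom)
      (HomotopyCategory.Plus.quasiIso B) := by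
    apply LocalizerMorphism.Derives.isRightDerivedFunctor_of_isIso
      (Φ := HomotopyCategory.Plus.localizerMorphism B)
    · intro X Y f hf
      have : IsIso f := hf
      infer_instance
    · intro X
      dsimp
      infer_instance
  exact ⟨(adjK adj).derived (HomotopyCategory.Plus.quasiIso A) (HomotopyCategory.Plus.quasiIso B)
    e.hom β⟩

end D

end Groth.Agent.Helper1.DPlusAdj
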