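import Mathlib

/-!
# Linear algebra lemmas on flatness used for the functors `T_p`
-/

set_option autoImplicit false

namespace Groth.Agent.Helper1.FlatCx

open Function TensorProduct

universe u v

variable {A : Type u} [CommRing A]

/-- The kernel of a surjection of flat modules is flat. -/
lemma flat_of_exact_of_flat {K X C : Type*} [AddCommGroup K] [Module A K] [AddCommGroup X]
    [Module A X] [AddCommGroup C] [Module A C] (i : K →ₗ[A] X) (g : X →ₗ[A] C)
    (hi : Injective i) (hg : Surjective g) (hex : Exact i g) [Module.Flat A X] [Module.Flat A C] :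
    Module.Flat A K := by
  rw [Module.Flat.iff_lTensor_preserves_injective_linearMap]
  intro N N' _ _ _ _ L hL
  have h1 : Injective (i.rTensor N) := by
    rw [← LinearMap.lTensor_inj_iff_rTensor_inj]
    exact LinearMap.lTensor_injective_of_exact_of_flat g hg i hi hex N
  have h2 : Injective (L.lTensor X) := Module.Flat.lTensor_preserves_injective_linearMap L hL
  have h3 : (L.lTensor X) ∘ₗ (i.rTensor N) = (i.rTensor N') ∘ₗ (L.lTensor K) := by
    rw [LinearMap.lTensor_comp_rTensor, LinearMap.rTensor_comp_lTensor]
  have h4 : Injective ((i.rTensor N') ∘ₗ (L.lTensor K)) := by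
    rw [← h3]; exact h2.comp h1
  exact Injective.of_comp h4

/-- If `0 → H → Z → X` is exact with `X` and `coker (Z → X)` flat, then it stays exact after
tensoring with any module. -/
lemma exact_rTensor_of_flat_coker {H Z X : Type*} [AddCommGroup H] [Module A H] [AddCommGroup Z]
    [Module A Z] [AddCommGroup X] [Module A X] (ι : H →ₗ[A] Z) (φ : Z →ₗ[A] X)
    (hι : Injective ι) (hex : Exact ι φ) [Module.Flat A X]
    [Module.Flat A (X ⧸ LinearMap.range φ)] (M : Type*) [AddCommGroup M] [Module A M] :
    Injective (ι.rTensor M) ∧ Exact (ι.rTensor M) (φ.rTensor M) := by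
  set B := LinearMap.range φ with hB
  have hBflat : Module.Flat A B :=
    flat_of_exact_of_flat B.subtype B.mkQ B.injective_subtype B.mkQ_surjective
      (LinearMap.exact_subtype_mkQ B)
  have hsub : Injective (B.subtype.rTensor M) := by
    rw [← LinearMap.lTensor_inj_iff_rTensor_inj]
    exact LinearMap.lTensor_injective_of_exact_of_flat B.mkQ B.mkQ_surjective B.subtype
      B.injective_subtype (LinearMap.exact_subtype_mkQ B) M
  have hex' : Exact ι φ.rangeRestrict := by
    intro z
    rw [← hex z]
    constructor
    · intro h; simpa using congrArg Subtype.val h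
    · intro h; exact Subtype.ext (by simpa using h)
  have hsurj : Surjective φ.rangeRestrict := LinearMap.surjective_rangeRestrict φ
  have h1 : Injective (ι.rTensor M) := by
    rw [← LinearMap.lTensor_inj_iff_rTensor_inj]
    exact LinearMap.lTensor_injective_of_exact_of_flat φ.rangeRestrict hsurj ι hι hex' M
  refine ⟨h1, ?_⟩
  have h2 : Exact (ι.rTensor M) (φ.rangeRestrict.rTensor M) := rTensor_exact M hex' hsurj
  have h3 : φ.rTensor M = (B.subtype.rTensor M) ∘ₗ (φ.rangeRestrict.rTensor M) := by
    rw [← LinearMap.rTensor_comp]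
    congr 1
  intro z
  rw [← h2 z, h3, LinearMap.comp_apply]
  constructor
  · intro h
    apply hsub
    rw [h, map_zero]
  · intro h
    rw [h, map_zero]


/-- If `H → Z → X` is exact and stays exact after tensoring with `N`, then
`(range φ) ⊗ N → X ⊗ N` is injective. -/
lemma rTensor_subtype_range_injective {H Z X : Type*} [AddCommGroup H] [Module A H]
    [AddCommGroup Z] [Module A Z] [AddCommGroup X] [Module A X] (ι : H →ₗ[A] Z) (φ : Z →ₗ[A] X)
    (hex : Exact ι φ) (N : Type*) [AddCommGroup N] [Module A N]
    (hN : Exact (ι.rTensor N) (φ.rTensor N)) :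
    Injective ((LinearMap.range φ).subtype.rTensor N) := by
  rw [injective_iff_map_eq_zero]
  intro x hx
  have hsurj : Surjective (φ.rangeRestrict.rTensor N) :=
    LinearMap.rTensor_surjective N (LinearMap.surjective_rangeRestrict φ)
  obtain ⟨y, rfl⟩ := hsurj x
  have h1 : φ.rTensor N y = 0 := by
    have : φ = (LinearMap.range φ).subtype ∘ₗ φ.rangeRestrict := by
      ext z; rfl
    rw [this, LinearMap.rTensor_comp, LinearMap.comp_apply, hx]
  obtain ⟨h, rfl⟩ := (hN y).mp h1
  rw [← LinearMap.comp_apply, ← LinearMap.rTensor_comp]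
  have : φ.rangeRestrict ∘ₗ ι = 0 := by
    ext z
    simp [hex.apply_apply_eq_zero]
  rw [this, LinearMap.rTensor_zero, LinearMap.zero_apply]

end Groth.Agent.Helper1.FlatCx
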