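import Mathlib
import Groth.Agent.Helper1.FlatCxBasic

/-!
# Opcycles of `P ⊗ M` and the criterion for `T_p` to preserve monomorphisms
-/

set_option autoImplicit false

namespace Groth.Agent.Helper1.FlatCx

open CategoryTheory CategoryTheory.Limits MonoidalCategory

universe u

variable {A : Type u} [CommRing A] {ι : Type} {c : ComplexShape ι}
variable (P : HomologicalComplex (ModuleCat.{u} A) c) (p : ι)

/-- The identity isomorphism `(P ⊗ M)_i ≅ P_i ⊗ M` (used to keep terms syntactically
well-typed). -/
noncomputable def XIso (M : ModuleCat.{u} A) (i : ι) : (CohIII.tensorObj P M).X i ≅ P.X i ⊗ M := Iso.refl _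

@[reassoc]
lemma tensorMap_f {M N : ModuleCat.{u} A} (f : M ⟶ N) (i : ι) :
    (CohIII.tensorMap P f).f i ≫ (XIso P N i).hom = (XIso P M i).hom ≫ P.X i ◁ f := by
  simp only [XIso, Iso.refl_hom]
  exact (Category.comp_id _).trans (Category.id_comp _).symm

@[reassoc]
lemma tensorObj_d (M : ModuleCat.{u} A) (i j : ι) :
    (CohIII.tensorObj P M).d i j ≫ (XIso P M j).hom = (XIso P M i).hom ≫ P.d i j ▷ M := by
  simp only [XIso, Iso.refl_hom]
  exact (Category.comp_id _).trans (Category.id_comp _).symm

lemma TFun_obj (M : ModuleCat.{u} A) :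
    (CohIII.TFun P p).obj M = (CohIII.tensorObj P M).homology p := rfl

lemma TFun_map {M N : ModuleCat.{u} A} (f : M ⟶ N) :
    (CohIII.TFun P p).map f = HomologicalComplex.homologyMap (CohIII.tensorMap P f) p := rfl

/-- `(P ⊗ M).opcycles p ≅ P.opcycles p ⊗ M` (right exactness of the tensor product). -/
noncomputable def opcyclesIso (M : ModuleCat.{u} A) :
    (CohIII.tensorObj P M).opcycles p ≅ P.opcycles p ⊗ M :=
  IsColimit.coconePointUniqueUpToIso
    ((CohIII.tensorObj P M).opcyclesIsCokernel (c.prev p) p rfl)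
    (CokernelCofork.mapIsColimit _ (P.opcyclesIsCokernel (c.prev p) p rfl) (tensorRight M))

@[reassoc]
lemma pOpcycles_opcyclesIso_hom (M : ModuleCat.{u} A) :
    (CohIII.tensorObj P M).pOpcycles p ≫ (opcyclesIso P p M).hom =
      (XIso P M p).hom ≫ P.pOpcycles p ▷ M := by
  simp only [XIso, Iso.refl_hom]
  refine Eq.trans ?_ (Category.id_comp _).symm
  exact IsColimit.comp_coconePointUniqueUpToIso_hom
    ((CohIII.tensorObj P M).opcyclesIsCokernel (c.prev p) p rfl)
    (CokernelCofork.mapIsColimit _ (P.opcyclesIsCokernel (c.prev p) p rfl) (tensorRight M))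
    WalkingParallelPair.one

@[reassoc]
lemma opcyclesIso_hom_naturality {M N : ModuleCat.{u} A} (f : M ⟶ N) :
    HomologicalComplex.opcyclesMap (CohIII.tensorMap P f) p ≫ (opcyclesIso P p N).hom =
      (opcyclesIso P p M).hom ≫ P.opcycles p ◁ f := by
  rw [← cancel_epi ((CohIII.tensorObj P M).pOpcycles p), HomologicalComplex.p_opcyclesMap_assoc,
    pOpcycles_opcyclesIso_hom, pOpcycles_opcyclesIso_hom_assoc, tensorMap_f_assoc,
    whisker_exchange]

@[reassoc]
lemma opcyclesIso_hom_fromOpcycles (M : ModuleCat.{u} A) (j : ι) :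
    (opcyclesIso P p M).hom ≫ P.fromOpcycles p j ▷ M =
      (CohIII.tensorObj P M).fromOpcycles p j ≫ (XIso P M j).hom := by
  rw [← cancel_epi ((CohIII.tensorObj P M).pOpcycles p), pOpcycles_opcyclesIso_hom_assoc,
    HomologicalComplex.p_fromOpcycles_assoc, tensorObj_d, ← comp_whiskerRight,
    HomologicalComplex.p_fromOpcycles]

@[reassoc]
lemma fromOpcycles_naturality {C : Type*} [Category C] [Abelian C] {K L : HomologicalComplex C c}
    (φ : K ⟶ L) (i j : ι) :
    HomologicalComplex.opcyclesMap φ i ≫ L.fromOpcycles i j = K.fromOpcycles i j ≫ φ.f j := by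
  rw [← cancel_epi (K.pOpcycles i), HomologicalComplex.p_opcyclesMap_assoc,
    HomologicalComplex.p_fromOpcycles, HomologicalComplex.p_fromOpcycles_assoc, φ.comm]

lemma mono_whiskerLeft_of_flat (N : ModuleCat.{u} A) [Module.Flat A N] {M M' : ModuleCat.{u} A}
    (f : M ⟶ M') [Mono f] : Mono (N ◁ f) :=
  inferInstanceAs (Mono ((tensorLeft N).map f))

lemma mono_tensorMap_f (j : ι) [Module.Flat A (P.X j)] {M M' : ModuleCat.{u} A}
    (f : M ⟶ M') [Mono f] : Mono ((CohIII.tensorMap P f).f j) :=
  mono_whiskerLeft_of_flat (P.X j) f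

/-- If `P.opcycles p` is flat then `T_p` preserves monomorphisms. -/
lemma preservesMono_of_flat_opcycles (h : Module.Flat A (P.opcycles p)) :
    (CohIII.TFun P p).PreservesMonomorphisms := by
  refine ⟨fun {M' M} f hf => ?_⟩
  have h1 : Mono (HomologicalComplex.opcyclesMap (CohIII.tensorMap P f) p) := by
    have := opcyclesIso_hom_naturality P p f
    have h2 : HomologicalComplex.opcyclesMap (CohIII.tensorMap P f) p =
        (opcyclesIso P p M').hom ≫ P.opcycles p ◁ f ≫ (opcyclesIso P p M).inv := by
      rw [← reassoc_of% this, Iso.hom_inv_id, Category.comp_id]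
    rw [h2]
    haveI := mono_whiskerLeft_of_flat (P.opcycles p) f
    infer_instance
  have h3 := HomologicalComplex.homologyι_naturality (CohIII.tensorMap P f) p
  haveI : Mono (HomologicalComplex.homologyMap (CohIII.tensorMap P f) p ≫
      (CohIII.tensorObj P M).homologyι p) := by
    rw [h3]; infer_instance
  exact mono_of_mono (HomologicalComplex.homologyMap (CohIII.tensorMap P f) p)
      ((CohIII.tensorObj P M).homologyι p)

/-- If `T_p` preserves monomorphisms (and `P_j` is flat, `j` the next index) then for every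
monomorphism `f` the map `P.opcycles p ◁ f` is a monomorphism. -/
lemma mono_whiskerLeft_opcycles (j : ι) (hj : c.next p = j) (hPj : Module.Flat A (P.X j))
    (h : (CohIII.TFun P p).PreservesMonomorphisms) {M' M : ModuleCat.{u} A} (f : M' ⟶ M)
    [Mono f] : Mono (P.opcycles p ◁ f) := by
  have hT : Mono (HomologicalComplex.homologyMap (CohIII.tensorMap P f) p) :=
    h.preserves f
  have h1 : Mono (HomologicalComplex.opcyclesMap (CohIII.tensorMap P f) p) := by
    apply Preadditive.mono_of_cancel_zero
    intro W x hx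
    have h2 : x ≫ (CohIII.tensorObj P M').fromOpcycles p j = 0 := by
      haveI : Mono ((CohIII.tensorMap P f).f j) := mono_tensorMap_f P j f
      apply (cancel_mono ((CohIII.tensorMap P f).f j)).1
      rw [zero_comp, Category.assoc, ← fromOpcycles_naturality, reassoc_of% hx, zero_comp]
    obtain ⟨y, hy⟩ := KernelFork.IsLimit.lift' ((CohIII.tensorObj P M').homologyIsKernel p j hj) x h2
    have hy' : y ≫ (CohIII.tensorObj P M').homologyι p = x := hy
    have h3 : y ≫ HomologicalComplex.homologyMap (CohIII.tensorMap P f) p = 0 := by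
      rw [← cancel_mono ((CohIII.tensorObj P M).homologyι p), zero_comp, Category.assoc,
        HomologicalComplex.homologyι_naturality, reassoc_of% hy', hx]
    have h4 : y = 0 := by
      rw [← cancel_mono (HomologicalComplex.homologyMap (CohIII.tensorMap P f) p), h3, zero_comp]
    rw [← hy', h4, zero_comp]
  have h5 : P.opcycles p ◁ f = (opcyclesIso P p M').inv ≫
      HomologicalComplex.opcyclesMap (CohIII.tensorMap P f) p ≫ (opcyclesIso P p M).hom := by
    rw [opcyclesIso_hom_naturality, Iso.inv_hom_id_assoc]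
  rw [h5]
  infer_instance

/-- EGA III 7.3.1-type criterion: `T_p` preserves monomorphisms iff `P.opcycles p` is flat. -/
theorem preservesMono_iff_flat_opcycles (j : ι) (hj : c.next p = j) (hPj : Module.Flat A (P.X j)) :
    (CohIII.TFun P p).PreservesMonomorphisms ↔ Module.Flat A (P.opcycles p) := by
  refine ⟨fun h => ?_, preservesMono_of_flat_opcycles P p⟩
  rw [Module.Flat.iff_lTensor_preserves_injective_linearMap]
  intro N N' _ _ _ _ L hL
  haveI : Mono (ModuleCat.ofHom L) := (ModuleCat.mono_iff_injective _).mpr hL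
  have := mono_whiskerLeft_opcycles P p j hj hPj h (ModuleCat.ofHom L)
  exact (ModuleCat.mono_iff_injective _).mp this

end Groth.Agent.Helper1.FlatCx
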