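import Mathlib
import Groth.Agent.Helper1.FlatCxOpcycles
import Groth.Agent.Helper1.FlatCxLinAlg

/-!
# `T_p ≅ H_p(P) ⊗ -` when `T_p` preserves epimorphisms
-/

set_option autoImplicit false

namespace Groth.Agent.Helper1.FlatCx

open CategoryTheory CategoryTheory.Limits MonoidalCategory

universe u

variable {A : Type u} [CommRing A] {ι : Type} {c : ComplexShape ι}
variable (P : HomologicalComplex (ModuleCat.{u} A) c) (p j : ι)

lemma range_fromOpcycles :
    LinearMap.range (P.fromOpcycles p j).hom = LinearMap.range (P.d p j).hom := by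
  have h1 : P.d p j = P.pOpcycles p ≫ P.fromOpcycles p j := (P.p_fromOpcycles p j).symm
  rw [h1, ModuleCat.hom_comp, LinearMap.range_comp_of_range_eq_top]
  exact LinearMap.range_eq_top.mpr ((ModuleCat.epi_iff_surjective _).mp inferInstance)

/-- The quotient `P_j / im(d)` is flat if `P.opcycles j` is. -/
lemma flat_quotient_range_d (hp : c.prev j = p) (h : Module.Flat A (P.opcycles j)) :
    Module.Flat A (P.X j ⧸ LinearMap.range (P.d p j).hom) := by
  subst hp
  haveI : Module.Flat A (P.sc j).opcycles := h
  exact Module.Flat.of_linearEquiv ((P.sc j).moduleCatOpcyclesIso.toLinearEquiv).symm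

section

variable (hj : c.next p = j) (hp : c.prev j = p) (hXj : Module.Flat A (P.X j))
  (hO : Module.Flat A (P.opcycles j))

include hj hp hXj hO in
lemma whiskerRight_exact (M : ModuleCat.{u} A) :
    Function.Injective (P.homologyι p ▷ M).hom ∧
      Function.Exact (P.homologyι p ▷ M).hom (P.fromOpcycles p j ▷ M).hom := by
  haveI : Module.Flat A (P.X j ⧸ LinearMap.range (P.fromOpcycles p j).hom) := by
    rw [range_fromOpcycles]
    exact flat_quotient_range_d P p j hp hO
  have hex : Function.Exact (P.homologyι p).hom (P.fromOpcycles p j).hom := by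
    have hS : (ShortComplex.mk _ _ (P.homologyι_comp_fromOpcycles p j)).Exact :=
      ShortComplex.exact_of_f_is_kernel _ (P.homologyIsKernel p j hj)
    exact (ShortComplex.ShortExact.moduleCat_exact_iff_function_exact _).mp hS
  exact exact_rTensor_of_flat_coker (P.homologyι p).hom (P.fromOpcycles p j).hom
    ((ModuleCat.mono_iff_injective _).mp inferInstance) hex M


lemma zero_aux (M : ModuleCat.{u} A) :
    (P.homologyι p ▷ M ≫ (opcyclesIso P p M).inv) ≫ (CohIII.tensorObj P M).fromOpcycles p j = 0 := by
  apply (cancel_mono (XIso P M j).hom).1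
  rw [Category.assoc, Category.assoc, ← opcyclesIso_hom_fromOpcycles, Iso.inv_hom_id_assoc,
    ← comp_whiskerRight, P.homologyι_comp_fromOpcycles, MonoidalPreadditive.zero_whiskerRight, zero_comp]

include hj hp hXj hO in
lemma exact_aux (M : ModuleCat.{u} A) :
    (ShortComplex.mk _ _ (zero_aux P p j M)).Exact ∧
      Mono (P.homologyι p ▷ M ≫ (opcyclesIso P p M).inv) := by
  obtain ⟨h1, h2⟩ := whiskerRight_exact P p j hj hp hXj hO M
  constructor
  · rw [ShortComplex.moduleCat_exact_iff]
    intro x hx
    dsimp at x hx ⊢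
    have h3 : (P.fromOpcycles p j ▷ M).hom ((opcyclesIso P p M).hom.hom x) = 0 := by
      have := congrArg (fun g => g.hom x) (opcyclesIso_hom_fromOpcycles P p M j)
      simp only [ModuleCat.hom_comp, LinearMap.comp_apply] at this
      rw [this]
      have hx' : ((CohIII.tensorObj P M).fromOpcycles p j).hom x = 0 := hx
      rw [hx', map_zero]
    obtain ⟨y, hy⟩ := (h2 _).mp h3
    refine ⟨y, ?_⟩
    show (opcyclesIso P p M).inv.hom ((P.homologyι p ▷ M).hom y) = x
    rw [hy, ← LinearMap.comp_apply, ← ModuleCat.hom_comp, Iso.hom_inv_id]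
    rfl
  · haveI : Mono (P.homologyι p ▷ M) := (ModuleCat.mono_iff_injective _).mpr h1
    infer_instance

/-- The isomorphism `H_p(P) ⊗ M ≅ H_p(P ⊗ M)`. -/
noncomputable def tensorIso (M : ModuleCat.{u} A) :
    P.homology p ⊗ M ≅ (CohIII.tensorObj P M).homology p :=
  haveI := (exact_aux P p j hj hp hXj hO M).2
  IsLimit.conePointUniqueUpToIso ((exact_aux P p j hj hp hXj hO M).1.fIsKernel)
    ((CohIII.tensorObj P M).homologyIsKernel p j hj)

@[reassoc]
lemma tensorIso_hom_homologyι (M : ModuleCat.{u} A) :
    (tensorIso P p j hj hp hXj hO M).hom ≫ (CohIII.tensorObj P M).homologyι p =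
      P.homologyι p ▷ M ≫ (opcyclesIso P p M).inv :=
  haveI := (exact_aux P p j hj hp hXj hO M).2
  IsLimit.conePointUniqueUpToIso_hom_comp ((exact_aux P p j hj hp hXj hO M).1.fIsKernel)
    ((CohIII.tensorObj P M).homologyIsKernel p j hj) WalkingParallelPair.zero

lemma tensorIso_naturality {M N : ModuleCat.{u} A} (f : M ⟶ N) :
    P.homology p ◁ f ≫ (tensorIso P p j hj hp hXj hO N).hom =
      (tensorIso P p j hj hp hXj hO M).hom ≫
        HomologicalComplex.homologyMap (CohIII.tensorMap P f) p := by
  apply (cancel_mono ((CohIII.tensorObj P N).homologyι p)).1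
  have h2 : HomologicalComplex.opcyclesMap (CohIII.tensorMap P f) p =
      (opcyclesIso P p M).hom ≫ P.opcycles p ◁ f ≫ (opcyclesIso P p N).inv := by
    rw [← reassoc_of% (opcyclesIso_hom_naturality P p f), Iso.hom_inv_id, Category.comp_id]
  rw [Category.assoc, Category.assoc, tensorIso_hom_homologyι,
    HomologicalComplex.homologyι_naturality, tensorIso_hom_homologyι_assoc, h2,
    Iso.inv_hom_id_assoc, whisker_exchange_assoc]

/-- The natural isomorphism `H_p(P) ⊗ - ≅ T_p`. -/
noncomputable def tensorNatIso : tensorLeft (P.homology p) ≅ CohIII.TFun P p :=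
  NatIso.ofComponents (fun M => tensorIso P p j hj hp hXj hO M)
    (fun {M N} f => tensorIso_naturality P p j hj hp hXj hO f)

end

end Groth.Agent.Helper1.FlatCx
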