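import Mathlib
import Groth.Agent.Helper1.FlatCxTensor

/-!
# Chain complexes indexed by `ℤ`: the main exactness criteria for `T_p`
-/

set_option autoImplicit false

namespace Groth.Agent.Helper1.FlatCx

open CategoryTheory CategoryTheory.Limits MonoidalCategory

universe u

variable {A : Type u} [CommRing A] (P : ChainComplex (ModuleCat.{u} A) ℤ)
  (hP : ∀ i, Module.Flat A (P.X i))

include hP

/-- `T_p` preserves epimorphisms iff `T_{p-1}` preserves monomorphisms. -/
theorem chain_preservesEpi_iff_preservesMono (p q : ℤ) (hpq : q + 1 = p) :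
    (CohIII.TFun P p).PreservesEpimorphisms ↔ (CohIII.TFun P q).PreservesMonomorphisms :=
  preservesEpi_iff_preservesMono P hP p q hpq

/-- `T_p` preserves monomorphisms iff `P.opcycles p` is flat. -/
theorem chain_preservesMono_iff (p : ℤ) :
    (CohIII.TFun P p).PreservesMonomorphisms ↔ Module.Flat A (P.opcycles p) :=
  preservesMono_iff_flat_opcycles P p _ rfl (hP _)

/-- `T_p` preserves epimorphisms iff `P.opcycles (p-1)` is flat. -/
theorem chain_preservesEpi_iff (p q : ℤ) (hpq : q + 1 = p) :
    (CohIII.TFun P p).PreservesEpimorphisms ↔ Module.Flat A (P.opcycles q) :=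
  (chain_preservesEpi_iff_preservesMono P hP p q hpq).trans (chain_preservesMono_iff P hP q)

/-- If `T_p` preserves epimorphisms then `T_p ≅ H_p(P) ⊗ -`. -/
noncomputable def chainTensorNatIso (p : ℤ) (h : (CohIII.TFun P p).PreservesEpimorphisms) :
    tensorLeft (P.homology p) ≅ CohIII.TFun P p :=
  tensorNatIso P p (p - 1) (by simp) (by simp) (hP _)
    ((chain_preservesEpi_iff P hP p (p - 1) (by ring)).mp h)

omit hP in
lemma preservesEpi_tensorLeft (N : ModuleCat.{u} A) : (tensorLeft N).PreservesEpimorphisms := by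
  haveI : PreservesColimitsOfShape WalkingSpan (tensorLeft N) := inferInstance
  exact CategoryTheory.preservesEpimorphisms_of_preservesColimitsOfShape _

omit hP in
lemma preservesMono_tensorLeft (N : ModuleCat.{u} A) [Module.Flat A N] :
    (tensorLeft N).PreservesMonomorphisms := by
  haveI : PreservesLimitsOfShape WalkingCospan (tensorLeft N) := inferInstance
  exact CategoryTheory.preservesMonomorphisms_of_preservesLimitsOfShape _

omit hP in
lemma preservesEpi_of_iso_tensorLeft {T : ModuleCat.{u} A ⥤ ModuleCat.{u} A} (N : ModuleCat.{u} A)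
    (e : T ≅ tensorLeft N) : T.PreservesEpimorphisms :=
  haveI := preservesEpi_tensorLeft N
  Functor.PreservesEpimorphisms.of_iso e.symm

/-- EGA III 7.3.1 (a) ⇔ (e). -/
theorem preservesEpi_iff_iso_tensorLeft (p : ℤ) :
    (CohIII.TFun P p).PreservesEpimorphisms ↔
      ∃ N : ModuleCat.{u} A, Nonempty (CohIII.TFun P p ≅ tensorLeft N) :=
  ⟨fun h => ⟨P.homology p, ⟨(chainTensorNatIso P hP p h).symm⟩⟩,
    fun ⟨N, ⟨e⟩⟩ => preservesEpi_of_iso_tensorLeft N e⟩

omit hP in
lemma flat_of_preservesMono_tensorLeft (N : ModuleCat.{u} A)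
    (h : (tensorLeft N).PreservesMonomorphisms) : Module.Flat A N := by
  rw [Module.Flat.iff_lTensor_preserves_injective_linearMap]
  intro M M' _ _ _ _ L hL
  haveI : Mono (ModuleCat.ofHom L) := (ModuleCat.mono_iff_injective _).mpr hL
  have : Mono ((tensorLeft N).map (ModuleCat.ofHom L)) := h.preserves _
  exact (ModuleCat.mono_iff_injective _).mp this

/-- `T_p` is exact iff it is isomorphic to `N ⊗ -` with `N` flat. -/
theorem exact_iff_iso_tensorLeft_flat (p : ℤ) :
    ((CohIII.TFun P p).PreservesMonomorphisms ∧ (CohIII.TFun P p).PreservesEpimorphisms) ↔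
      ∃ N : ModuleCat.{u} A, Module.Flat A N ∧ Nonempty (CohIII.TFun P p ≅ tensorLeft N) := by
  constructor
  · rintro ⟨hm, he⟩
    refine ⟨P.homology p, ?_, ⟨(chainTensorNatIso P hP p he).symm⟩⟩
    apply flat_of_preservesMono_tensorLeft
    exact Functor.PreservesMonomorphisms.of_iso (chainTensorNatIso P hP p he).symm
  · rintro ⟨N, hN, ⟨e⟩⟩
    refine ⟨?_, preservesEpi_of_iso_tensorLeft N e⟩
    haveI : (tensorLeft N).PreservesMonomorphisms := preservesMono_tensorLeft N
    exact Functor.PreservesMonomorphisms.of_iso e.symm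

/-- If `T_p` is exact then `H_p(P)` is flat. -/
theorem flat_homology_of_exact (p : ℤ)
    (h : (CohIII.TFun P p).PreservesMonomorphisms ∧ (CohIII.TFun P p).PreservesEpimorphisms) :
    Module.Flat A (P.homology p) := by
  apply flat_of_preservesMono_tensorLeft
  haveI := h.1
  exact Functor.PreservesMonomorphisms.of_iso (chainTensorNatIso P hP p h.2).symm


/-- If `T_p` preserves epimorphisms, `T_p(A) ≅ H_p(P)`. -/
noncomputable def TAIso (p : ℤ) (h : (CohIII.TFun P p).PreservesEpimorphisms) :
    (CohIII.TFun P p).obj (ModuleCat.of A A) ≅ P.homology p :=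
  ((chainTensorNatIso P hP p h).app (ModuleCat.of A A)).symm ≪≫ ρ_ (P.homology p)

theorem flat_TA_iff (p : ℤ) (h : (CohIII.TFun P p).PreservesEpimorphisms) :
    Module.Flat A ((CohIII.TFun P p).obj (ModuleCat.of A A)) ↔ Module.Flat A (P.homology p) := by
  constructor
  · intro h1
    exact Module.Flat.of_linearEquiv (TAIso P hP p h).symm.toLinearEquiv
  · intro h1
    exact Module.Flat.of_linearEquiv (TAIso P hP p h).toLinearEquiv

omit hP in
lemma flat_opcycles_of_isZero (q : ℤ) (h : IsZero (P.X q)) : Module.Flat A (P.opcycles q) := by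
  haveI : Subsingleton (P.opcycles q) :=
    ModuleCat.subsingleton_of_isZero (IsZero.of_epi (P.pOpcycles q) h)
  infer_instance

theorem exact_of_isZero (q : ℤ) (h : IsZero (P.X q)) (h' : IsZero (P.X (q - 1))) :
    (CohIII.TFun P q).PreservesMonomorphisms ∧ (CohIII.TFun P q).PreservesEpimorphisms :=
  ⟨(chain_preservesMono_iff P hP q).mpr (flat_opcycles_of_isZero P q h),
    (chain_preservesEpi_iff P hP q (q - 1) (by ring)).mpr (flat_opcycles_of_isZero P (q - 1) h')⟩

/-- If `T_q` preserves monomorphisms and `T_{q+1}(A)` is flat then `T_{q+1}` is exact. -/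
theorem exact_succ_of_flat (q r : ℤ) (hqr : q + 1 = r)
    (hq : (CohIII.TFun P q).PreservesMonomorphisms)
    (hflat : Module.Flat A ((CohIII.TFun P r).obj (ModuleCat.of A A))) :
    (CohIII.TFun P r).PreservesMonomorphisms ∧ (CohIII.TFun P r).PreservesEpimorphisms := by
  have he : (CohIII.TFun P r).PreservesEpimorphisms :=
    (chain_preservesEpi_iff_preservesMono P hP r q hqr).mpr hq
  refine ⟨?_, he⟩
  haveI : Module.Flat A (P.homology r) := (flat_TA_iff P hP r he).mp hflat
  haveI := preservesMono_tensorLeft (P.homology r)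
  exact Functor.PreservesMonomorphisms.of_iso (chainTensorNatIso P hP r he)

/-- EGA III 7.3.? : exactness of `T_q` for `q ≤ p` iff flatness of `T_q(A)` for `q ≤ p`, for a
complex bounded below. -/
theorem exact_upTo_iff (i₀ : ℤ) (hb : ∀ i < i₀, IsZero (P.X i)) (p : ℤ) :
    (∀ q ≤ p, (CohIII.TFun P q).PreservesMonomorphisms ∧ (CohIII.TFun P q).PreservesEpimorphisms) ↔
      ∀ q ≤ p, Module.Flat A ((CohIII.TFun P q).obj (ModuleCat.of A A)) := by
  constructor
  · intro h q hq
    exact (flat_TA_iff P hP q (h q hq).2).mpr (flat_homology_of_exact P hP q (h q hq))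
  · intro h
    have base : ∀ q < i₀, (CohIII.TFun P q).PreservesMonomorphisms ∧
        (CohIII.TFun P q).PreservesEpimorphisms := fun q hq =>
      exact_of_isZero P hP q (hb q hq) (hb (q - 1) (by omega))
    have key : ∀ n : ℤ, i₀ - 1 ≤ n → n ≤ p →
        ((CohIII.TFun P n).PreservesMonomorphisms ∧ (CohIII.TFun P n).PreservesEpimorphisms) := by
      intro n hn
      induction n, hn using Int.le_induction with
      | base => intro _; exact base _ (by omega)
      | succ n hn ih =>
        intro hnp
        have := ih (by omega)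
        exact exact_succ_of_flat P hP n (n + 1) rfl this.1 (h _ hnp)
    intro q hq
    by_cases hq' : q < i₀
    · exact base q hq'
    · exact key q (by omega) hq

end Groth.Agent.Helper1.FlatCx
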