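import Mathlib
import Groth.Agent.Helper1.FlatCxChain

/-!
# `T_p` is an `A`-linear functor
-/

set_option autoImplicit false

namespace Groth.Agent.Helper1.FlatCx

open CategoryTheory CategoryTheory.Limits MonoidalCategory

universe u

variable {A : Type u} [CommRing A] {ι : Type} {c : ComplexShape ι}
variable (P : HomologicalComplex (ModuleCat.{u} A) c)

lemma tensorMap_smul {M N : ModuleCat.{u} A} (a : A) (g : M ⟶ N) :
    CohIII.tensorMap P (a • g) = a • CohIII.tensorMap P g := by
  ext i : 1
  show P.X i ◁ (a • g) = a • (P.X i ◁ g)
  exact MonoidalLinear.whiskerLeft_smul _ _ _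

lemma homologyMap_smul' {C : Type*} [Category C] [Abelian C] [Linear A C]
    {K L : HomologicalComplex C c} (a : A) (φ : K ⟶ L) (i : ι) :
    HomologicalComplex.homologyMap (a • φ) i = a • HomologicalComplex.homologyMap φ i := by
  have : (HomologicalComplex.shortComplexFunctor C c i).map (a • φ) =
      a • (HomologicalComplex.shortComplexFunctor C c i).map φ := by
    ext <;> rfl
  show ShortComplex.homologyMap ((HomologicalComplex.shortComplexFunctor C c i).map (a • φ)) = _
  rw [this, ShortComplex.homologyMap_smul]
  rfl

instance (p : ι) : (CohIII.TFun P p).Linear A where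
  map_smul {M N} g a := by
    show HomologicalComplex.homologyMap (CohIII.tensorMap P (a • g)) p =
      a • HomologicalComplex.homologyMap (CohIII.tensorMap P g) p
    rw [tensorMap_smul, homologyMap_smul']

/-- If `T_q` preserves monomorphisms, multiplication by `f` is injective on `T_q(M)` whenever it is
injective on `M`. -/
theorem smul_injective_of_preservesMono (q : ι) (h : (CohIII.TFun P q).PreservesMonomorphisms)
    (M : ModuleCat.{u} A) (f : A) (hf : Function.Injective (fun x : M => f • x)) :
    Function.Injective (fun y : (CohIII.TFun P q).obj M => f • y) := by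
  haveI : Mono (f • 𝟙 M) := by
    rw [ModuleCat.mono_iff_injective]
    exact hf
  have h1 : Mono ((CohIII.TFun P q).map (f • 𝟙 M)) := h.preserves _
  rw [Functor.map_smul, CategoryTheory.Functor.map_id, ModuleCat.mono_iff_injective] at h1
  exact h1

end Groth.Agent.Helper1.FlatCx
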