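import Mathlib
import Groth.Agent.Helper1.FlatCxBasic
import Groth.Agent.Helper1.FlatCxOpcycles

/-!
# `Tor` on modules: comparison with the functors `T_p` of a projective resolution, long exact
sequence in the first variable.
-/

set_option autoImplicit false

namespace Groth.Agent.Helper1.TorLib

open CategoryTheory CategoryTheory.Limits MonoidalCategory Groth.Agent.Helper1.FlatCx

universe u

variable {A : Type u} [CommRing A]

/-- The terms of a projective resolution are flat. -/
lemma flat_of_projectiveResolution {N : ModuleCat.{u} A} (Q : ProjectiveResolution N) (i : ℕ) :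
    Module.Flat A (Q.complex.X i) := by
  haveI : Module.Projective A (Q.complex.X i) :=
    (IsProjective.iff_projective (R := A) (P := Q.complex.X i)).mpr (Q.projective i)
  infer_instance

/-- `M ⊗ Q ≅ Q ⊗ M` as complexes, naturally in `M`. -/
noncomputable def tensorLeftCxIso {ι : Type} {c : ComplexShape ι}
    (Q : HomologicalComplex (ModuleCat.{u} A) c) (M : ModuleCat.{u} A) :
    (((tensoringLeft (ModuleCat.{u} A)).obj M).mapHomologicalComplex c).obj Q ≅
      CohIII.tensorObj Q M :=
  (NatIso.mapHomologicalComplex (BraidedCategory.tensorLeftIsoTensorRight M) c).app Q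

/-- `Tor_n(M, N) ≅ H_n(Q ⊗ M)` for a projective resolution `Q` of `N`. -/
noncomputable def torIsoT {N : ModuleCat.{u} A} (Q : ProjectiveResolution N) (n : ℕ)
    (M : ModuleCat.{u} A) :
    ((Tor (ModuleCat.{u} A) n).obj M).obj N ≅ (CohIII.TFun Q.complex n).obj M :=
  Q.isoLeftDerivedObj ((tensoringLeft (ModuleCat.{u} A)).obj M) n ≪≫
    (HomologicalComplex.homologyFunctor _ _ n).mapIso (tensorLeftCxIso Q.complex M)

lemma tensorLeftCxIso_naturality {ι : Type} {c : ComplexShape ι}
    (Q : HomologicalComplex (ModuleCat.{u} A) c) {M M' : ModuleCat.{u} A} (f : M ⟶ M') :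
    (NatTrans.mapHomologicalComplex ((tensoringLeft (ModuleCat.{u} A)).map f) c).app Q ≫
      (tensorLeftCxIso Q M').hom = (tensorLeftCxIso Q M).hom ≫ CohIII.tensorMap Q f := by
  ext i : 1
  exact BraidedCategory.braiding_naturality_left f (Q.X i)

@[reassoc]
lemma torIsoT_naturality {N : ModuleCat.{u} A} (Q : ProjectiveResolution N) (n : ℕ)
    {M M' : ModuleCat.{u} A} (f : M ⟶ M') :
    ((Tor (ModuleCat.{u} A) n).map f).app N ≫ (torIsoT Q n M').hom =
      (torIsoT Q n M).hom ≫ (CohIII.TFun Q.complex n).map f := by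
  show (NatTrans.leftDerived ((tensoringLeft (ModuleCat.{u} A)).map f) n).app N ≫
    ((Q.isoLeftDerivedObj ((tensoringLeft (ModuleCat.{u} A)).obj M') n).hom ≫
    (HomologicalComplex.homologyFunctor _ _ n).map (tensorLeftCxIso Q.complex M').hom) =
    ((Q.isoLeftDerivedObj ((tensoringLeft (ModuleCat.{u} A)).obj M) n).hom ≫
    (HomologicalComplex.homologyFunctor _ _ n).map (tensorLeftCxIso Q.complex M).hom) ≫
    (HomologicalComplex.homologyFunctor _ _ n).map (CohIII.tensorMap Q.complex f)
  rw [ProjectiveResolution.leftDerived_app_eq _ Q]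
  simp only [Category.assoc, Iso.inv_hom_id_assoc]
  congr 1
  rw [← Functor.map_comp, ← Functor.map_comp, tensorLeftCxIso_naturality]

/-- `Tor_n(-, N)` as a functor is isomorphic to `T_n` of a projective resolution of `N`. -/
noncomputable def torFlipNatIso {N : ModuleCat.{u} A} (Q : ProjectiveResolution N) (n : ℕ) :
    (Tor (ModuleCat.{u} A) n).flip.obj N ≅ CohIII.TFun Q.complex n :=
  NatIso.ofComponents (fun M => torIsoT Q n M) (fun f => torIsoT_naturality Q n f)

section LES

variable (N : ModuleCat.{u} A) {S : ShortComplex (ModuleCat.{u} A)} (hS : S.ShortExact)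

/-- The connecting homomorphism `Tor_{n+1}(M'', N) ⟶ Tor_n(M', N)` for a short exact sequence
`0 → M' → M → M'' → 0` (first variable). -/
noncomputable def torδ (n : ℕ) :
    ((Tor (ModuleCat.{u} A) (n + 1)).obj S.X₃).obj N ⟶ ((Tor (ModuleCat.{u} A) n).obj S.X₁).obj N :=
  (torIsoT (ProjectiveResolution.of N) (n + 1) S.X₃).hom ≫
    δ (ProjectiveResolution.of N).complex (flat_of_projectiveResolution _) hS (n + 1) n (by simp) ≫
    (torIsoT (ProjectiveResolution.of N) n S.X₁).inv

lemma torδ_comp (n : ℕ) :
    torδ N hS n ≫ ((Tor (ModuleCat.{u} A) n).map S.f).app N = 0 := by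
  unfold torδ
  rw [Category.assoc, Category.assoc, ← cancel_mono (torIsoT (ProjectiveResolution.of N) n S.X₂).hom,
    Category.assoc, Category.assoc, Category.assoc, torIsoT_naturality, Iso.inv_hom_id_assoc,
    δ_comp, comp_zero, zero_comp]

lemma comp_torδ (n : ℕ) :
    ((Tor (ModuleCat.{u} A) (n + 1)).map S.g).app N ≫ torδ N hS n = 0 := by
  unfold torδ
  rw [torIsoT_naturality_assoc, reassoc_of% (comp_δ (ProjectiveResolution.of N).complex
    (flat_of_projectiveResolution _) hS (n + 1) n (by simp)), zero_comp, comp_zero]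

lemma tor_map_comp (n : ℕ) :
    ((Tor (ModuleCat.{u} A) n).map S.f).app N ≫ ((Tor (ModuleCat.{u} A) n).map S.g).app N = 0 := by
  rw [← cancel_mono (torIsoT (ProjectiveResolution.of N) n S.X₃).hom, Category.assoc,
    torIsoT_naturality, torIsoT_naturality_assoc, ← Functor.map_comp, S.zero, Functor.map_zero,
    comp_zero, zero_comp]

/-- Exactness of `Tor_{n+1}(M'', N) → Tor_n(M', N) → Tor_n(M, N)`. -/
lemma tor_exact₁ (n : ℕ) : (ShortComplex.mk _ _ (torδ_comp N hS n)).Exact := by
  refine (ShortComplex.exact_iff_of_iso ?_).mpr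
    (exact₁ (ProjectiveResolution.of N).complex (flat_of_projectiveResolution _) hS (n + 1) n
      (by simp))
  refine ShortComplex.isoMk (torIsoT (ProjectiveResolution.of N) (n + 1) S.X₃)
    (torIsoT (ProjectiveResolution.of N) n S.X₁) (torIsoT (ProjectiveResolution.of N) n S.X₂)
    ?_ ?_
  · simp [torδ]
  · exact (torIsoT_naturality _ n S.f).symm

include hS in
/-- Exactness of `Tor_n(M', N) → Tor_n(M, N) → Tor_n(M'', N)`. -/
lemma tor_exact₂ (n : ℕ) : (ShortComplex.mk _ _ (tor_map_comp (S := S) N n)).Exact := by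
  refine (ShortComplex.exact_iff_of_iso ?_).mpr
    (exact₂ (ProjectiveResolution.of N).complex (flat_of_projectiveResolution _) hS n)
  exact ShortComplex.isoMk (torIsoT (ProjectiveResolution.of N) n S.X₁)
    (torIsoT (ProjectiveResolution.of N) n S.X₂) (torIsoT (ProjectiveResolution.of N) n S.X₃)
    (torIsoT_naturality _ n S.f).symm (torIsoT_naturality _ n S.g).symm

/-- Exactness of `Tor_{n+1}(M, N) → Tor_{n+1}(M'', N) → Tor_n(M', N)`. -/
lemma tor_exact₃ (n : ℕ) : (ShortComplex.mk _ _ (comp_torδ N hS n)).Exact := by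
  refine (ShortComplex.exact_iff_of_iso ?_).mpr
    (exact₃ (ProjectiveResolution.of N).complex (flat_of_projectiveResolution _) hS (n + 1) n
      (by simp))
  refine ShortComplex.isoMk (torIsoT (ProjectiveResolution.of N) (n + 1) S.X₂)
    (torIsoT (ProjectiveResolution.of N) (n + 1) S.X₃) (torIsoT (ProjectiveResolution.of N) n S.X₁)
    ?_ ?_
  · exact (torIsoT_naturality _ (n + 1) S.g).symm
  · simp [torδ]

end LES

end Groth.Agent.Helper1.TorLib
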