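import Mathlib
import Groth.Agent.Helper1.TorBasic
import Groth.Agent.Helper1.FlatCxLinAlg
import Groth.Agent.Helper1.FlatCxTensor

/-!
# `Tor` on modules: vanishing on flat modules, `Tor_0`
-/

set_option autoImplicit false

namespace Groth.Agent.Helper1.TorLib

open CategoryTheory CategoryTheory.Limits MonoidalCategory Groth.Agent.Helper1.FlatCx

universe u

variable {A : Type u} [CommRing A]

section General

variable {ι : Type} {c : ComplexShape ι} (P : HomologicalComplex (ModuleCat.{u} A) c)

/-- `P.ExactAt i` iff `fromOpcycles i j` is a monomorphism. -/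
lemma exactAt_iff_mono_fromOpcycles (i j : ι) (hj : c.next i = j) :
    P.ExactAt i ↔ Mono (P.fromOpcycles i j) := by
  rw [HomologicalComplex.exactAt_iff_isZero_homology]
  exact (Preadditive.mono_iff_isZero_kernel' _ (P.homologyIsKernel i j hj)).symm

/-- If `P` is exact at `i`, `i → j`, and `P.X j`, `P.opcycles j` are flat, then `P.opcycles i` is
flat. -/
lemma flat_opcycles_of_exactAt (i j : ι) (hij : c.Rel i j) (hX : Module.Flat A (P.X j))
    (hO : Module.Flat A (P.opcycles j)) (h : P.ExactAt i) : Module.Flat A (P.opcycles i) := by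
  haveI : Module.Flat A (P.X j ⧸ LinearMap.range (P.fromOpcycles i j).hom) := by
    rw [range_fromOpcycles]
    exact flat_quotient_range_d P i j (c.prev_eq' hij) hO
  haveI := (exactAt_iff_mono_fromOpcycles P i j (c.next_eq' hij)).mp h
  exact flat_of_exact_of_flat (P.fromOpcycles i j).hom
    (LinearMap.range (P.fromOpcycles i j).hom).mkQ
    ((ModuleCat.mono_iff_injective _).mp inferInstance) (Submodule.mkQ_surjective _)
    (LinearMap.exact_map_mkQ_range _)

/-- If `P` is exact at `i` and `M` is flat then `P ⊗ M` is exact at `i`. -/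
lemma isZero_T_of_flat (i : ι) (h : P.ExactAt i) (M : ModuleCat.{u} A) [Module.Flat A M] :
    IsZero ((CohIII.TFun P i).obj M) := by
  show IsZero ((CohIII.tensorObj P M).homology i)
  rw [← HomologicalComplex.exactAt_iff_isZero_homology]
  exact Module.Flat.rTensor_shortComplex_exact M _ h

/-- If `P` is exact at `i`, `i → j`, and `P.X j`, `P.opcycles j` are flat, then `T_i = 0`. -/
lemma isZero_T_of_flat_opcycles (i j : ι) (hij : c.Rel i j) (hX : Module.Flat A (P.X j))
    (hO : Module.Flat A (P.opcycles j)) (h : P.ExactAt i) (M : ModuleCat.{u} A) :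
    IsZero ((CohIII.TFun P i).obj M) := by
  refine IsZero.of_iso ?_ (tensorIso P i j (c.next_eq' hij) (c.prev_eq' hij) hX hO M).symm
  have h0 : IsZero (P.homology i) := (HomologicalComplex.exactAt_iff_isZero_homology _ _).mp h
  have : 𝟙 (P.homology i ⊗ M) = 0 := by
    rw [← MonoidalCategory.id_whiskerRight, h0.eq_of_src (𝟙 _) 0,
      MonoidalPreadditive.zero_whiskerRight]
  exact (IsZero.iff_id_eq_zero _).mpr this

end General

section Nat

variable (P : ChainComplex (ModuleCat.{u} A) ℕ)

/-- All `opcycles` of a complex of flat modules, exact in positive degrees and with flat `H_0`. -/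
lemma flat_opcycles_nat (hP : ∀ i, Module.Flat A (P.X i)) (hex : ∀ n, P.ExactAt (n + 1))
    (h0 : Module.Flat A (P.opcycles 0)) (n : ℕ) : Module.Flat A (P.opcycles n) := by
  induction n with
  | zero => exact h0
  | succ n ih => exact flat_opcycles_of_exactAt P (n + 1) n (by simp) (hP n) ih (hex n)

/-- `T_0 ≅ Z'_0 ⊗ -` for an `ℕ`-indexed chain complex. -/
noncomputable def T0Iso (M : ModuleCat.{u} A) :
    (CohIII.TFun P 0).obj M ≅ P.opcycles 0 ⊗ M :=
  ChainComplex.isoHomologyι₀ (CohIII.tensorObj P M) ≪≫ opcyclesIso P 0 M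

lemma T0Iso_naturality {M M' : ModuleCat.{u} A} (f : M ⟶ M') :
    (CohIII.TFun P 0).map f ≫ (T0Iso P M').hom = (T0Iso P M).hom ≫ P.opcycles 0 ◁ f := by
  show HomologicalComplex.homologyMap (CohIII.tensorMap P f) 0 ≫
      ((CohIII.tensorObj P M').homologyι 0 ≫ (opcyclesIso P 0 M').hom) =
    ((CohIII.tensorObj P M).homologyι 0 ≫ (opcyclesIso P 0 M).hom) ≫ P.opcycles 0 ◁ f
  rw [HomologicalComplex.homologyι_naturality_assoc, opcyclesIso_hom_naturality, Category.assoc]

/-- `T_0 ≅ Z'_0 ⊗ -` as functors. -/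
noncomputable def T0NatIso : CohIII.TFun P 0 ≅ tensorLeft (P.opcycles 0) :=
  NatIso.ofComponents (fun M => T0Iso P M) (fun f => T0Iso_naturality P f)

end Nat

section Tor

/-- `Q.complex.opcycles 0 ≅ N` for a projective resolution `Q` of `N`. -/
noncomputable def opcyclesZeroIso {N : ModuleCat.{u} A} (Q : ProjectiveResolution N) :
    Q.complex.opcycles 0 ≅ N :=
  IsColimit.coconePointUniqueUpToIso (Q.complex.opcyclesIsCokernel 1 0 (by simp))
    Q.isColimitCokernelCofork

@[reassoc (attr := simp)]
lemma pOpcycles_opcyclesZeroIso_hom {N : ModuleCat.{u} A} (Q : ProjectiveResolution N) :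
    Q.complex.pOpcycles 0 ≫ (opcyclesZeroIso Q).hom = Q.π.f 0 :=
  IsColimit.comp_coconePointUniqueUpToIso_hom (Q.complex.opcyclesIsCokernel 1 0 (by simp))
    Q.isColimitCokernelCofork WalkingParallelPair.one

/-- `Tor_n(M, N) = 0` for `n ≥ 1` if `M` is flat. -/
theorem isZero_tor_of_flat_left (M N : ModuleCat.{u} A) [Module.Flat A M] (n : ℕ) :
    IsZero (((Tor (ModuleCat.{u} A) (n + 1)).obj M).obj N) := by
  refine IsZero.of_iso ?_ (torIsoT (ProjectiveResolution.of N) (n + 1) M)
  exact isZero_T_of_flat _ _ ((ProjectiveResolution.of N).complex_exactAt_succ n) M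

/-- `Tor_n(M, N) = 0` for `n ≥ 1` if `N` is flat. -/
theorem isZero_tor_of_flat_right (M N : ModuleCat.{u} A) [Module.Flat A N] (n : ℕ) :
    IsZero (((Tor (ModuleCat.{u} A) (n + 1)).obj M).obj N) := by
  set Q := ProjectiveResolution.of N
  refine IsZero.of_iso ?_ (torIsoT Q (n + 1) M)
  have h0 : Module.Flat A (Q.complex.opcycles 0) :=
    Module.Flat.of_linearEquiv (opcyclesZeroIso Q).toLinearEquiv
  exact isZero_T_of_flat_opcycles Q.complex (n + 1) n (by simp) (flat_of_projectiveResolution Q n)
    (flat_opcycles_nat Q.complex (flat_of_projectiveResolution Q) Q.complex_exactAt_succ h0 n)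
    (Q.complex_exactAt_succ n) M

/-- `Tor_0(M, N) ≅ M ⊗ N`, naturally in `M`. -/
noncomputable def torZeroNatIso (N : ModuleCat.{u} A) :
    (Tor (ModuleCat.{u} A) 0).flip.obj N ≅ tensorRight N :=
  torFlipNatIso (ProjectiveResolution.of N) 0 ≪≫ T0NatIso _ ≪≫
    (tensoringLeft _).mapIso (opcyclesZeroIso (ProjectiveResolution.of N)) ≪≫
    BraidedCategory.tensorLeftIsoTensorRight N

end Tor

end Groth.Agent.Helper1.TorLib
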