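import Mathlib
import Groth.Agent.Helper1.TorFlat

/-!
# Balancing `Tor`: `H_n(P ⊗ H_0(Q)) ≅ H_n(Q ⊗ H_0(P))` for flat resolutions `P`, `Q`
-/

set_option autoImplicit false

namespace Groth.Agent.Helper1.TorLib

open CategoryTheory CategoryTheory.Limits MonoidalCategory Groth.Agent.Helper1.FlatCx

universe u

variable {A : Type u} [CommRing A]

section General

variable {ι : Type} {c : ComplexShape ι} (P : HomologicalComplex (ModuleCat.{u} A) c)

/-- The short complex `Z'_i → X_j → Z'_j`. -/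
noncomputable def opcyclesSC (i j : ι) : ShortComplex (ModuleCat.{u} A) :=
  ShortComplex.mk (P.fromOpcycles i j) (P.pOpcycles j) (by
    rw [← cancel_epi (P.pOpcycles i), HomologicalComplex.p_fromOpcycles_assoc,
      HomologicalComplex.d_pOpcycles, comp_zero])

lemma opcyclesSC_shortExact (i j : ι) (hij : c.Rel i j) (h : P.ExactAt i) :
    (opcyclesSC P i j).ShortExact := by
  haveI : Mono (opcyclesSC P i j).f :=
    (exactAt_iff_mono_fromOpcycles P i j (c.next_eq' hij)).mp h
  haveI : Epi (opcyclesSC P i j).g := inferInstanceAs (Epi (P.pOpcycles j))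
  refine ShortComplex.ShortExact.mk' ?_ inferInstance inferInstance
  apply ShortComplex.exact_of_g_is_cokernel
  exact isCokernelOfComp (P.pOpcycles i) (P.d i j) (P.opcyclesIsCokernel i j (c.prev_eq' hij))
    _ (P.p_fromOpcycles i j)

end General

section DimShift

variable {ι : Type} {c : ComplexShape ι} (P : HomologicalComplex (ModuleCat.{u} A) c)
  (hP : ∀ i, Module.Flat A (P.X i)) {S : ShortComplex (ModuleCat.{u} A)} (hS : S.ShortExact)

/-- Dimension shifting: if the middle term is flat and `P` is exact at `i` and `j`, the connecting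
map `T_i(M'') → T_j(M')` is an isomorphism. -/
lemma isIso_δ_of_flat [Module.Flat A S.X₂] (i j : ι) (hij : c.Rel i j) (hi : P.ExactAt i)
    (hj : P.ExactAt j) : IsIso (δ P hP hS i j hij) := by
  have h3 := exact₃ P hP hS i j hij
  have h1 := exact₁ P hP hS i j hij
  haveI : Mono (δ P hP hS i j hij) :=
    h3.mono_g ((isZero_T_of_flat P i hi S.X₂).eq_of_src _ _)
  haveI : Epi (δ P hP hS i j hij) :=
    h1.epi_f ((isZero_T_of_flat P j hj S.X₂).eq_of_tgt _ _)
  exact isIso_of_mono_of_epi _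

/-- If the middle term is flat and `P` is exact at `i`, then `T_i(M'')` is the kernel of
`T_j(M') → T_j(M)`. -/
noncomputable def δIsKernel [Module.Flat A S.X₂] (i j : ι) (hij : c.Rel i j) (hi : P.ExactAt i) :
    IsLimit (KernelFork.ofι (δ P hP hS i j hij) (δ_comp P hP hS i j hij)) := by
  have h3 := exact₃ P hP hS i j hij
  have h1 := exact₁ P hP hS i j hij
  haveI : Mono (δ P hP hS i j hij) :=
    h3.mono_g ((isZero_T_of_flat P i hi S.X₂).eq_of_src _ _)
  exact h1.fIsKernel

end DimShift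

section Balance

variable (P Q : ChainComplex (ModuleCat.{u} A) ℕ)
  (hP : ∀ i, Module.Flat A (P.X i)) (hQ : ∀ i, Module.Flat A (Q.X i))
  (hPex : ∀ n, P.ExactAt (n + 1)) (hQex : ∀ n, Q.ExactAt (n + 1))

include hP hQ hPex hQex in
/-- Iterated dimension shifting. -/
lemma nonempty_shift_iso (k : ℕ) : ∀ m : ℕ, 1 ≤ m →
    Nonempty ((CohIII.TFun P (m + k)).obj (Q.opcycles 0) ≅
      (CohIII.TFun P m).obj (Q.opcycles k)) := by
  induction k with
  | zero => exact fun m _ => ⟨Iso.refl _⟩
  | succ k ih =>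
    intro m hm
    obtain ⟨e⟩ := ih (m + 1) (by omega)
    have h1 : m + (k + 1) = m + 1 + k := by omega
    rw [h1]
    obtain ⟨m', rfl⟩ : ∃ m', m = m' + 1 := ⟨m - 1, by omega⟩
    have hS := opcyclesSC_shortExact Q (k + 1) k (by simp) (hQex k)
    haveI : Module.Flat A (opcyclesSC Q (k + 1) k).X₂ := hQ k
    have hrel : (ComplexShape.down ℕ).Rel (m' + 1 + 1) (m' + 1) := by simp
    have hiso := isIso_δ_of_flat P hP hS (m' + 1 + 1) (m' + 1) hrel (hPex _) (hPex _)
    exact ⟨e ≪≫ @asIso _ _ _ _ (δ P hP hS (m' + 1 + 1) (m' + 1) hrel) hiso⟩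

include hP hQ hPex hQex in
lemma nonempty_T_one_iso (n : ℕ) :
    Nonempty ((CohIII.TFun P 1).obj (Q.opcycles n) ≅
      (CohIII.TFun Q (n + 1)).obj (P.opcycles 0)) := by
  have hS := opcyclesSC_shortExact Q (n + 1) n (by simp) (hQex n)
  haveI : Module.Flat A (opcyclesSC Q (n + 1) n).X₂ := hQ n
  have hrel : (ComplexShape.down ℕ).Rel 1 0 := by simp
  have hk := δIsKernel P hP hS 1 0 hrel (hPex 0)
  set φ := Q.fromOpcycles (n + 1) n with hφ
  set M₀ := P.opcycles 0 with hM₀
  -- (b)
  have e1 : (CohIII.TFun P 1).obj (Q.opcycles n) ≅ kernel ((CohIII.TFun P 0).map φ) :=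
    IsLimit.conePointUniqueUpToIso hk (limit.isLimit _)
  -- (c)
  have e2 : kernel ((CohIII.TFun P 0).map φ) ≅ kernel (M₀ ◁ φ) :=
    kernel.mapIso _ _ (T0Iso P _) (T0Iso P _) (T0Iso_naturality P φ)
  -- (d)
  have e3 : kernel (M₀ ◁ φ) ≅ kernel (φ ▷ M₀) :=
    kernel.mapIso _ _ (β_ _ _) (β_ _ _) (BraidedCategory.braiding_naturality_right M₀ φ)
  -- (e)
  have e4 : kernel (φ ▷ M₀) ≅ kernel ((CohIII.tensorObj Q M₀).fromOpcycles (n + 1) n) :=
    kernel.mapIso _ _ (opcyclesIso Q (n + 1) M₀).symm (XIso Q M₀ n).symm (by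
      rw [Iso.symm_hom, Iso.symm_hom, Iso.eq_inv_comp, ← Category.assoc, Iso.comp_inv_eq]
      exact opcyclesIso_hom_fromOpcycles Q (n + 1) M₀ n)
  -- (f)
  have e5 : kernel ((CohIII.tensorObj Q M₀).fromOpcycles (n + 1) n) ≅
      (CohIII.tensorObj Q M₀).homology (n + 1) :=
    IsLimit.conePointUniqueUpToIso (limit.isLimit _)
      ((CohIII.tensorObj Q M₀).homologyIsKernel (n + 1) n (by simp))
  exact ⟨e1 ≪≫ e2 ≪≫ e3 ≪≫ e4 ≪≫ e5⟩

include hP hQ hPex hQex in
/-- **Balancing**: for flat resolutions `P` of `M = H_0(P)` and `Q` of `N = H_0(Q)`,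
`H_n(P ⊗ N) ≅ H_n(Q ⊗ M)`. -/
theorem nonempty_balance_iso (n : ℕ) :
    Nonempty ((CohIII.TFun P n).obj (Q.opcycles 0) ≅ (CohIII.TFun Q n).obj (P.opcycles 0)) := by
  obtain _ | n := n
  · exact ⟨T0Iso P _ ≪≫ β_ _ _ ≪≫ (T0Iso Q _).symm⟩
  · obtain ⟨e⟩ := nonempty_shift_iso P Q hP hQ hPex hQex n 1 le_rfl
    obtain ⟨e'⟩ := nonempty_T_one_iso P Q hP hQ hPex hQex n
    have h : n + 1 = 1 + n := by omega
    rw [h]
    rw [h] at e'
    exact ⟨e ≪≫ e'⟩

end Balance

section FlatResolution

/-- A flat resolution of a module: an `ℕ`-indexed chain complex of flat modules, exact in positive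
degrees, with an identification of its `H_0` (in the form of `opcycles 0`) with the module. -/
structure FlatResolution (M : ModuleCat.{u} A) where
  /-- the complex -/
  complex : ChainComplex (ModuleCat.{u} A) ℕ
  flat : ∀ i, Module.Flat A (complex.X i)
  exact : ∀ n, complex.ExactAt (n + 1)
  /-- the augmentation -/
  iso : complex.opcycles 0 ≅ M

/-- A projective resolution is a flat resolution. -/
noncomputable def FlatResolution.ofProjectiveResolution {M : ModuleCat.{u} A}
    (P : ProjectiveResolution M) : FlatResolution M where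
  complex := P.complex
  flat := flat_of_projectiveResolution P
  exact := P.complex_exactAt_succ
  iso := opcyclesZeroIso P

/-- Balancing for flat resolutions. -/
theorem FlatResolution.nonempty_balance_iso {M N : ModuleCat.{u} A} (R : FlatResolution M)
    (R' : FlatResolution N) (n : ℕ) :
    Nonempty ((CohIII.TFun R.complex n).obj N ≅ (CohIII.TFun R'.complex n).obj M) := by
  obtain ⟨e⟩ := TorLib.nonempty_balance_iso R.complex R'.complex R.flat R'.flat R.exact R'.exact n
  exact ⟨(CohIII.TFun R.complex n).mapIso R'.iso.symm ≪≫ e ≪≫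
    (CohIII.TFun R'.complex n).mapIso R.iso⟩

/-- `Tor_n(M, N) ≅ H_n(R ⊗ M)` for a flat resolution `R` of `N`. -/
theorem FlatResolution.nonempty_tor_iso_right {M N : ModuleCat.{u} A} (R : FlatResolution N)
    (n : ℕ) :
    Nonempty (((Tor (ModuleCat.{u} A) n).obj M).obj N ≅ (CohIII.TFun R.complex n).obj M) := by
  obtain ⟨e1⟩ := FlatResolution.nonempty_balance_iso
    (FlatResolution.ofProjectiveResolution (ProjectiveResolution.of N))
    (FlatResolution.ofProjectiveResolution (ProjectiveResolution.of M)) n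
  obtain ⟨e2⟩ := FlatResolution.nonempty_balance_iso
    (FlatResolution.ofProjectiveResolution (ProjectiveResolution.of M)) R n
  exact ⟨torIsoT (ProjectiveResolution.of N) n M ≪≫ e1 ≪≫ e2⟩

/-- `Tor_n(M, N) ≅ H_n(R ⊗ N)` for a flat resolution `R` of `M`. -/
theorem FlatResolution.nonempty_tor_iso_left {M N : ModuleCat.{u} A} (R : FlatResolution M)
    (n : ℕ) :
    Nonempty (((Tor (ModuleCat.{u} A) n).obj M).obj N ≅ (CohIII.TFun R.complex n).obj N) := by
  obtain ⟨e1⟩ := FlatResolution.nonempty_balance_iso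
    (FlatResolution.ofProjectiveResolution (ProjectiveResolution.of N)) R n
  exact ⟨torIsoT (ProjectiveResolution.of N) n M ≪≫ e1⟩

/-- Symmetry of `Tor` (non-natural). -/
theorem nonempty_tor_symm_iso (M N : ModuleCat.{u} A) (n : ℕ) :
    Nonempty (((Tor (ModuleCat.{u} A) n).obj M).obj N ≅ ((Tor (ModuleCat.{u} A) n).obj N).obj M) := by
  obtain ⟨e1⟩ := FlatResolution.nonempty_tor_iso_left (N := N)
    (FlatResolution.ofProjectiveResolution (ProjectiveResolution.of M)) n
  exact ⟨e1 ≪≫ (torIsoT (ProjectiveResolution.of M) n N).symm⟩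

end FlatResolution

end Groth.Agent.Helper1.TorLib
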