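import Mathlib
import Groth.Agent.Helper1.TorBalance

/-!
# `Tor_1` as a kernel, dimension shifting for `Tor` in the first variable
-/

set_option autoImplicit false

namespace Groth.Agent.Helper1.TorLib

open CategoryTheory CategoryTheory.Limits MonoidalCategory Groth.Agent.Helper1.FlatCx

universe u

variable {A : Type u} [CommRing A]

section

variable (N : ModuleCat.{u} A) {S : ShortComplex (ModuleCat.{u} A)} (hS : S.ShortExact)

/-- Dimension shifting: if the middle term is flat, `Tor_{n+2}(M'', N) ≅ Tor_{n+1}(M', N)`. -/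
lemma isIso_torδ_succ [Module.Flat A S.X₂] (n : ℕ) : IsIso (torδ N hS (n + 1)) := by
  have h3 := tor_exact₃ N hS (n + 1)
  have h1 := tor_exact₁ N hS (n + 1)
  haveI : Mono (torδ N hS (n + 1)) :=
    h3.mono_g ((isZero_tor_of_flat_left S.X₂ N (n + 1)).eq_of_src _ _)
  haveI : Epi (torδ N hS (n + 1)) :=
    h1.epi_f ((isZero_tor_of_flat_left S.X₂ N n).eq_of_tgt _ _)
  exact isIso_of_mono_of_epi _

lemma mono_torδ_zero [Module.Flat A S.X₂] : Mono (torδ N hS 0) :=
  (tor_exact₃ N hS 0).mono_g ((isZero_tor_of_flat_left S.X₂ N 0).eq_of_src _ _)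

lemma torZero_naturality {M M' : ModuleCat.{u} A} (f : M ⟶ M') :
    ((Tor (ModuleCat.{u} A) 0).map f).app N ≫ (torZeroNatIso N).hom.app M' =
      (torZeroNatIso N).hom.app M ≫ f ▷ N :=
  (torZeroNatIso N).hom.naturality f

/-- If the middle term is flat, `Tor_1(M'', N) ≅ ker (M' ⊗ N → M ⊗ N)`. -/
noncomputable def torOneIsoKernel {S : ShortComplex (ModuleCat.{u} A)} (hS : S.ShortExact)
    [Module.Flat A S.X₂] :
    ((Tor (ModuleCat.{u} A) 1).obj S.X₃).obj N ≅ kernel (S.f ▷ N) :=
  haveI := mono_torδ_zero N hS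
  IsLimit.conePointUniqueUpToIso (tor_exact₁ N hS 0).fIsKernel (limit.isLimit _) ≪≫
    kernel.mapIso _ _ ((torZeroNatIso N).app S.X₁) ((torZeroNatIso N).app S.X₂)
      (torZero_naturality N S.f)

include hS in
/-- If the middle term is flat, `Tor_1(M'', N) = 0` iff `M' ⊗ N → M ⊗ N` is injective. -/
lemma isZero_torOne_iff [Module.Flat A S.X₂] :
    IsZero (((Tor (ModuleCat.{u} A) 1).obj S.X₃).obj N) ↔ Mono (S.f ▷ N) := by
  rw [Preadditive.mono_iff_isZero_kernel]
  exact (torOneIsoKernel N hS).isZero_iff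

/-- linear-map form -/
noncomputable def torOneEquivKer {S : ShortComplex (ModuleCat.{u} A)} (hS : S.ShortExact)
    [Module.Flat A S.X₂] :
    ((Tor (ModuleCat.{u} A) 1).obj S.X₃).obj N ≃ₗ[A] LinearMap.ker (S.f ▷ N).hom :=
  ((torOneIsoKernel N hS) ≪≫ ModuleCat.kernelIsoKer (S.f ▷ N)).toLinearEquiv

end

section Regular

variable {R : Type u} [CommRing R]

/-- The short complex `R →x R → R/(x)`. -/
noncomputable def regSC (x : R) : ShortComplex (ModuleCat.{u} R) :=
  ShortComplex.mk (ModuleCat.ofHom (LinearMap.lsmul R R x))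
    (ModuleCat.ofHom (Ideal.span {x}).mkQ) (by
      ext
      simp only [ModuleCat.hom_comp, ModuleCat.hom_ofHom, LinearMap.comp_apply,
        LinearMap.lsmul_apply, smul_eq_mul, mul_one, ModuleCat.hom_zero, LinearMap.zero_apply]
      exact (Submodule.Quotient.mk_eq_zero _).mpr (Ideal.mem_span_singleton_self x))

lemma regSC_shortExact (x : R) (hx : IsSMulRegular R x) : (regSC x).ShortExact := by
  refine ShortComplex.ShortExact.mk' ?_ ?_ ?_
  · rw [ShortComplex.ShortExact.moduleCat_exact_iff_function_exact]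
    show Function.Exact (LinearMap.lsmul R R x) (Ideal.span {x}).mkQ
    intro y
    rw [Submodule.mkQ_apply, Submodule.Quotient.mk_eq_zero, Ideal.mem_span_singleton']
    constructor
    · rintro ⟨a, rfl⟩
      exact ⟨a, mul_comm _ _⟩
    · rintro ⟨a, rfl⟩
      exact ⟨a, mul_comm _ _⟩
  · rw [ModuleCat.mono_iff_injective]
    exact hx
  · exact (ModuleCat.epi_iff_surjective _).mpr (Submodule.mkQ_surjective _)

theorem isZero_tor_quotient_span_singleton (M : ModuleCat.{u} R) (x : R) (hxR : IsSMulRegular R x)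
    (hxM : IsSMulRegular M x) (n : ℕ) :
    IsZero (((Tor (ModuleCat.{u} R) (n + 1)).obj M).obj (ModuleCat.of R (R ⧸ Ideal.span {x}))) := by
  obtain ⟨e⟩ := nonempty_tor_symm_iso M (ModuleCat.of R (R ⧸ Ideal.span {x})) (n + 1)
  refine IsZero.of_iso ?_ e
  have hS := regSC_shortExact x hxR
  haveI : Module.Flat R (regSC x).X₂ := inferInstanceAs (Module.Flat R R)
  obtain _ | n := n
  · rw [zero_add]
    refine (isZero_torOne_iff M hS).mpr ?_
    rw [ModuleCat.mono_iff_injective]
    have h1 : (TensorProduct.lid R M).toLinearMap ∘ₗ ((regSC x).f ▷ M).hom =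
        (LinearMap.lsmul R M x) ∘ₗ (TensorProduct.lid R M).toLinearMap := by
      apply TensorProduct.ext'
      intro (r : R) (m : M)
      show (x • r) • m = x • (r • m)
      rw [smul_assoc]
    have h2 : Function.Injective ((TensorProduct.lid R M).toLinearMap ∘ₗ ((regSC x).f ▷ M).hom) := by
      rw [h1]
      exact hxM.comp (TensorProduct.lid R M).injective
    exact Function.Injective.of_comp h2
  · have hiso := isIso_torδ_succ M hS n
    haveI : Module.Flat R (regSC x).X₁ := inferInstanceAs (Module.Flat R R)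
    exact IsZero.of_iso (isZero_tor_of_flat_left (regSC x).X₁ M n)
      (@asIso _ _ _ _ (torδ M hS (n + 1)) hiso)

end Regular

end Groth.Agent.Helper1.TorLib
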