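import Mathlib
import Groth.Agent.Helper1.TorOne

/-!
# `Tor_1` vanishing criteria
-/

set_option autoImplicit false

namespace Groth.Agent.Helper1.TorLib

open CategoryTheory CategoryTheory.Limits MonoidalCategory Groth.Agent.Helper1.FlatCx
open TensorProduct

universe u

variable {R : Type u} [CommRing R]

/-- Symmetry of vanishing of `Tor`. -/
lemma isZero_tor_symm_iff (M N : ModuleCat.{u} R) (n : ℕ) :
    IsZero (((Tor (ModuleCat.{u} R) n).obj M).obj N) ↔
      IsZero (((Tor (ModuleCat.{u} R) n).obj N).obj M) := by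
  obtain ⟨e⟩ := nonempty_tor_symm_iso M N n
  exact e.isZero_iff

/-- The short complex of modules attached to an exact pair of linear maps. -/
noncomputable def scOfLinear {N₁ N₂ N₃ : Type u} [AddCommGroup N₁] [Module R N₁] [AddCommGroup N₂]
    [Module R N₂] [AddCommGroup N₃] [Module R N₃] (f : N₁ →ₗ[R] N₂) (g : N₂ →ₗ[R] N₃)
    (hfg : Function.Exact f g) : ShortComplex (ModuleCat.{u} R) :=
  ShortComplex.mk (ModuleCat.ofHom f) (ModuleCat.ofHom g) (by
    ext x
    exact hfg.apply_apply_eq_zero x)

lemma scOfLinear_shortExact {N₁ N₂ N₃ : Type u} [AddCommGroup N₁] [Module R N₁] [AddCommGroup N₂]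
    [Module R N₂] [AddCommGroup N₃] [Module R N₃] (f : N₁ →ₗ[R] N₂) (g : N₂ →ₗ[R] N₃)
    (hf : Function.Injective f) (hg : Function.Surjective g) (hfg : Function.Exact f g) :
    (scOfLinear f g hfg).ShortExact := by
  refine ShortComplex.ShortExact.mk' ?_ ?_ ?_
  · rw [ShortComplex.ShortExact.moduleCat_exact_iff_function_exact]
    exact hfg
  · exact (ModuleCat.mono_iff_injective _).mpr hf
  · exact (ModuleCat.epi_iff_surjective _).mpr hg

/-- `Tor_1(N₃, M) = 0` iff `N₁ ⊗ M → N₂ ⊗ M` is injective, for `0 → N₁ → N₂ → N₃ → 0` exact with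
`N₂` flat. -/
lemma isZero_torOne_iff_rTensor_injective {N₁ N₂ N₃ : Type u} [AddCommGroup N₁] [Module R N₁]
    [AddCommGroup N₂] [Module R N₂] [AddCommGroup N₃] [Module R N₃] [Module.Flat R N₂]
    (f : N₁ →ₗ[R] N₂) (g : N₂ →ₗ[R] N₃)
    (hf : Function.Injective f) (hg : Function.Surjective g) (hfg : Function.Exact f g)
    (M : Type u) [AddCommGroup M] [Module R M] :
    IsZero (((Tor (ModuleCat.{u} R) 1).obj (ModuleCat.of R N₃)).obj (ModuleCat.of R M)) ↔
      Function.Injective (f.rTensor M) := by
  have hS := scOfLinear_shortExact f g hf hg hfg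
  haveI : Module.Flat R (scOfLinear f g hfg).X₂ := inferInstanceAs (Module.Flat R N₂)
  refine (isZero_torOne_iff (ModuleCat.of R M) hS).trans ?_
  rw [ModuleCat.mono_iff_injective]
  rfl

/-- `Tor_1(R/I, M) = 0` iff `I ⊗ M → R ⊗ M` is injective. -/
lemma isZero_torOne_quotient_iff (I : Ideal R) (M : Type u) [AddCommGroup M] [Module R M] :
    IsZero (((Tor (ModuleCat.{u} R) 1).obj (ModuleCat.of R (R ⧸ I))).obj (ModuleCat.of R M)) ↔
      Function.Injective (I.subtype.rTensor M) :=
  isZero_torOne_iff_rTensor_injective (Submodule.subtype I) (Submodule.mkQ I)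
    I.injective_subtype (Submodule.mkQ_surjective I) (LinearMap.exact_subtype_mkQ I) M

/-- Flatness is equivalent to the vanishing of `Tor_1(M, R/I)` for finitely generated ideals. -/
theorem flat_iff_isZero_torOne_quotient_fg (M : Type u) [AddCommGroup M] [Module R M] :
    Module.Flat R M ↔ ∀ I : Ideal R, I.FG →
      IsZero (((Tor (ModuleCat.{u} R) 1).obj (ModuleCat.of R M)).obj (ModuleCat.of R (R ⧸ I))) := by
  constructor
  · intro h I _
    exact isZero_tor_of_flat_left _ _ 0
  · intro h
    rw [Module.Flat.iff_rTensor_injective]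
    intro I hI
    exact (isZero_torOne_quotient_iff I M).mp ((isZero_tor_symm_iff _ _ 1).mp (h I hI))

/-- Every module is a quotient of a free module; `Tor_1(N, M) = 0` iff the kernel of the canonical
presentation stays injective after tensoring. -/
lemma isZero_torOne_iff_presentation (N M : Type u) [AddCommGroup N] [Module R N]
    [AddCommGroup M] [Module R M] :
    IsZero (((Tor (ModuleCat.{u} R) 1).obj (ModuleCat.of R N)).obj (ModuleCat.of R M)) ↔
      Function.Injective ((LinearMap.ker (Finsupp.linearCombination R (id : N → N))).subtype.rTensor M) :=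
  isZero_torOne_iff_rTensor_injective _ (Finsupp.linearCombination R (id : N → N))
    (Submodule.injective_subtype _) (Finsupp.linearCombination_id_surjective R N)
    (LinearMap.exact_subtype_ker_map _) M

/-- `Tor_n(-, M)` vanishing is stable under extensions. -/
lemma isZero_tor_X₂ {S : ShortComplex (ModuleCat.{u} R)} (hS : S.ShortExact) (M : ModuleCat.{u} R)
    (n : ℕ) (h₁ : IsZero (((Tor (ModuleCat.{u} R) n).obj S.X₁).obj M))
    (h₃ : IsZero (((Tor (ModuleCat.{u} R) n).obj S.X₃).obj M)) :
    IsZero (((Tor (ModuleCat.{u} R) n).obj S.X₂).obj M) :=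
  (tor_exact₂ M hS n).isZero_of_both_zeros (h₁.eq_of_src _ _) (h₃.eq_of_tgt _ _)

/-- `Tor_n(-, M)` vanishing is invariant under isomorphism. -/
lemma isZero_tor_of_iso {N N' : ModuleCat.{u} R} (e : N ≅ N') (M : ModuleCat.{u} R) (n : ℕ)
    (h : IsZero (((Tor (ModuleCat.{u} R) n).obj N).obj M)) :
    IsZero (((Tor (ModuleCat.{u} R) n).obj N').obj M) :=
  h.of_iso (((Tor (ModuleCat.{u} R) n).mapIso e).app M).symm

end Groth.Agent.Helper1.TorLib

namespace Groth.Agent.Helper1.TorLib

open CategoryTheory CategoryTheory.Limits MonoidalCategory TensorProduct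

universe u

variable {R : Type u} [CommRing R]

/-- Over a Noetherian ring, if `Tor_1(R/p, M) = 0` for all primes `p` then `Tor_1(N, M) = 0` for all
finite `N`. -/
theorem isZero_torOne_of_primes [IsNoetherianRing R] (M : Type u) [AddCommGroup M] [Module R M]
    (h : ∀ p : Ideal R, p.IsPrime →
      IsZero (((Tor (ModuleCat.{u} R) 1).obj (ModuleCat.of R (R ⧸ p))).obj (ModuleCat.of R M)))
    (N : Type u) [AddCommGroup N] [Module R N] [hN : Module.Finite R N] :
    IsZero (((Tor (ModuleCat.{u} R) 1).obj (ModuleCat.of R N)).obj (ModuleCat.of R M)) := by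
  refine IsNoetherianRing.induction_on_isQuotientEquivQuotientPrime R hN
    (motive := fun N _ _ _ =>
      IsZero (((Tor (ModuleCat.{u} R) 1).obj (ModuleCat.of R N)).obj (ModuleCat.of R M)))
    ?_ ?_ ?_
  · intro N _ _ _ _
    exact isZero_tor_of_flat_left _ _ 0
  · intro N _ _ _ p e
    exact isZero_tor_of_iso (e.symm.toModuleIso) _ 1 (h p.1 p.2)
  · intro N₁ _ _ _ N₂ _ _ _ N₃ _ _ _ f g hf hg hfg h₁ h₃
    exact isZero_tor_X₂ (scOfLinear_shortExact f g hf hg hfg) _ 1 h₁ h₃

/-- Over a Noetherian ring, `M` is flat iff `Tor_1(M, R/p) = 0` for all primes `p`. -/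
theorem flat_iff_isZero_torOne_quotient_prime [IsNoetherianRing R] (M : Type u) [AddCommGroup M]
    [Module R M] :
    Module.Flat R M ↔ ∀ p : Ideal R, p.IsPrime →
      IsZero (((Tor (ModuleCat.{u} R) 1).obj (ModuleCat.of R M)).obj (ModuleCat.of R (R ⧸ p))) := by
  constructor
  · intro h I _
    exact isZero_tor_of_flat_left _ _ 0
  · intro h
    rw [Module.Flat.iff_rTensor_injective']
    intro I
    refine (isZero_torOne_quotient_iff I M).mp ?_
    exact isZero_torOne_of_primes M (fun p hp => (isZero_tor_symm_iff _ _ 1).mp (h p hp)) (R ⧸ I)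

end Groth.Agent.Helper1.TorLib

namespace Groth.Agent.Helper1.TorLib

open CategoryTheory CategoryTheory.Limits MonoidalCategory TensorProduct

universe u

variable {R : Type u} [CommRing R]

/-- Over a local ring, if `Tor_n(κ, M) = 0` then `Tor_n(N, M) = 0` for all `N` of finite length. -/
theorem isZero_tor_of_isFiniteLength [IsLocalRing R] (M : Type u) [AddCommGroup M] [Module R M]
    (n : ℕ)
    (h : IsZero (((Tor (ModuleCat.{u} R) n).obj
      (ModuleCat.of R (IsLocalRing.ResidueField R))).obj (ModuleCat.of R M)))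
    (N : Type u) [AddCommGroup N] [Module R N] (hN : IsFiniteLength R N) :
    IsZero (((Tor (ModuleCat.{u} R) n).obj (ModuleCat.of R N)).obj (ModuleCat.of R M)) := by
  induction hN with
  | @of_subsingleton N₀ _ _ _ =>
    obtain _ | n := n
    · refine IsZero.of_iso ?_ ((torZeroNatIso (ModuleCat.of R M)).app _)
      haveI : Subsingleton (N₀ ⊗[R] M) := by
        refine subsingleton_iff_forall_eq 0 |>.2 fun x => ?_
        induction x with
        | zero => rfl
        | tmul a b => rw [Subsingleton.elim a 0, TensorProduct.zero_tmul]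
        | add a b ha hb => rw [ha, hb, add_zero]
      exact ModuleCat.isZero_of_subsingleton (ModuleCat.of R (N₀ ⊗[R] M))
    · exact isZero_tor_of_flat_left _ _ n
  | @of_simple_quotient N _ _ N' hs _ ih =>
    obtain ⟨I, hI, ⟨e⟩⟩ := isSimpleModule_iff_quot_maximal.mp hs
    have hI' : I = IsLocalRing.maximalIdeal R := IsLocalRing.eq_maximalIdeal hI
    subst hI'
    have h3 : IsZero (((Tor (ModuleCat.{u} R) n).obj (ModuleCat.of R (N ⧸ N'))).obj
        (ModuleCat.of R M)) :=
      isZero_tor_of_iso (e.symm.toModuleIso) _ n h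
    exact isZero_tor_X₂ (scOfLinear_shortExact N'.subtype N'.mkQ N'.injective_subtype
      N'.mkQ_surjective (LinearMap.exact_subtype_mkQ N')) _ n ih h3

end Groth.Agent.Helper1.TorLib

namespace Groth.Agent.Helper1.TorLib

open CategoryTheory CategoryTheory.Limits MonoidalCategory TensorProduct

universe u

variable {R : Type u} [CommRing R]

/-- Over a Noetherian ring, `Tor_p(M, N)` is finite for finite `M`, `N`. -/
theorem finite_tor [IsNoetherianRing R] (N : Type u) [AddCommGroup N] [Module R N]
    [Module.Finite R N] (p : ℕ) : ∀ (M : Type u) [AddCommGroup M] [Module R M] [Module.Finite R M],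
    Module.Finite R (((Tor (ModuleCat.{u} R) p).obj (ModuleCat.of R M)).obj (ModuleCat.of R N)) := by
  induction p with
  | zero =>
    intro M _ _ _
    haveI : Module.Finite R ((tensorRight (ModuleCat.of R N)).obj (ModuleCat.of R M)) :=
      inferInstanceAs (Module.Finite R (M ⊗[R] N))
    exact Module.Finite.equiv
      ((torZeroNatIso (ModuleCat.of R N)).app (ModuleCat.of R M)).symm.toLinearEquiv
  | succ p ih =>
    intro M _ _ _
    obtain ⟨n, f, hf⟩ := Module.Finite.exists_fin' R M
    have hS := scOfLinear_shortExact (LinearMap.ker f).subtype f (Submodule.injective_subtype _) hf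
      (LinearMap.exact_subtype_ker_map f)
    haveI : Module.Flat R (scOfLinear (LinearMap.ker f).subtype f
      (LinearMap.exact_subtype_ker_map f)).X₂ := inferInstanceAs (Module.Flat R (Fin n → R))
    obtain _ | p := p
    · have e := torOneEquivKer (ModuleCat.of R N) hS
      haveI : Module.Finite R ((LinearMap.ker f) ⊗[R] N) := inferInstance
      haveI : IsNoetherian R ((LinearMap.ker f) ⊗[R] N) :=
        isNoetherian_of_isNoetherianRing_of_finite R ((LinearMap.ker f) ⊗[R] N)
      haveI : Module.Finite R (LinearMap.ker ((scOfLinear (LinearMap.ker f).subtype f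
          (LinearMap.exact_subtype_ker_map f)).f ▷ ModuleCat.of R N).hom) :=
        inferInstanceAs (Module.Finite R
          (LinearMap.ker (((LinearMap.ker f).subtype).rTensor N)))
      exact Module.Finite.equiv e.symm
    · have hiso := isIso_torδ_succ (ModuleCat.of R N) hS p
      haveI : Module.Finite R (((Tor (ModuleCat R) (p + 1)).obj (scOfLinear (LinearMap.ker f).subtype f
          (LinearMap.exact_subtype_ker_map f)).X₁).obj (ModuleCat.of R N)) := ih (LinearMap.ker f)
      exact Module.Finite.equiv (@asIso _ _ _ _ _ hiso).symm.toLinearEquiv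

end Groth.Agent.Helper1.TorLib
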