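import Mathlib
import Groth.Agent.Helper1.TorCrit
import Groth.Agent.Helper1.FlatCxLinear

/-!
# `Tor`: linearity, flat base change in the first variable, reduction to finitely generated
modules and to residue fields of primes
-/

set_option autoImplicit false

namespace Groth.Agent.Helper1.TorLib

open CategoryTheory CategoryTheory.Limits MonoidalCategory Groth.Agent.Helper1.FlatCx TensorProduct

universe u
variable {A : Type u} [CommRing A]

/-- `Tor_n(-, N)` is `A`-linear. -/
lemma tor_map_smul (n : ℕ) {M M' : ModuleCat.{u} A} (a : A) (g : M ⟶ M') (N : ModuleCat.{u} A) :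
    ((Tor (ModuleCat.{u} A) n).map (a • g)).app N = a • ((Tor (ModuleCat.{u} A) n).map g).app N := by
  rw [← cancel_mono (torIsoT (ProjectiveResolution.of N) n M').hom, torIsoT_naturality,
    Functor.map_smul, Linear.comp_smul, Linear.smul_comp, torIsoT_naturality]

lemma tor_map_smul_id_apply (n : ℕ) (M N : ModuleCat.{u} A) (a : A)
    (x : ((Tor (ModuleCat.{u} A) n).obj M).obj N) :
    (((Tor (ModuleCat.{u} A) n).map (a • 𝟙 M)).app N).hom x = a • x := by
  rw [tor_map_smul, CategoryTheory.Functor.map_id]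
  rfl

section FlatBase

variable {ι : Type} {c : ComplexShape ι} (Q : HomologicalComplex (ModuleCat.{u} A) c)

/-- `Q ⊗ (L ⊗ B) ≅ (Q ⊗ L) ⊗ B` as complexes. -/
noncomputable def tensorObjAssocIso (L B : ModuleCat.{u} A) :
    CohIII.tensorObj Q (L ⊗ B) ≅ CohIII.tensorObj (CohIII.tensorObj Q L) B :=
  HomologicalComplex.Hom.isoOfComponents (fun i => (α_ (Q.X i) L B).symm) (by
    intro i j _
    exact (associator_inv_naturality_left (Q.d i j) L B).symm)

/-- `H_p(K ⊗ B) ≅ H_p(K) ⊗ B` for flat `B`. -/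
noncomputable def homologyTensorFlatIso (K : HomologicalComplex (ModuleCat.{u} A) c)
    (B : ModuleCat.{u} A) [Module.Flat A B] (p : ι) :
    (CohIII.tensorObj K B).homology p ≅ K.homology p ⊗ B :=
  (K.sc p).mapHomologyIso (tensorRight B)

/-- Flat base change for `T_p`: `T_p(L ⊗ B) ≅ T_p(L) ⊗ B` for flat `B`. -/
noncomputable def TFunFlatIso (p : ι) (L B : ModuleCat.{u} A) [Module.Flat A B] :
    (CohIII.TFun Q p).obj (L ⊗ B) ≅ (CohIII.TFun Q p).obj L ⊗ B :=
  (HomologicalComplex.homologyFunctor _ _ p).mapIso (tensorObjAssocIso Q L B) ≪≫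
    homologyTensorFlatIso (CohIII.tensorObj Q L) B p

end FlatBase

/-- Flat base change for `Tor` in the first variable. -/
theorem nonempty_tor_tensor_flat_iso (n : ℕ) (L B N : ModuleCat.{u} A) [Module.Flat A B] :
    Nonempty (((Tor (ModuleCat.{u} A) n).obj (L ⊗ B)).obj N ≅
      ((Tor (ModuleCat.{u} A) n).obj L).obj N ⊗ B) :=
  ⟨torIsoT (ProjectiveResolution.of N) n (L ⊗ B) ≪≫
    TFunFlatIso (ProjectiveResolution.of N).complex n L B ≪≫
    whiskerRightIso (torIsoT (ProjectiveResolution.of N) n L).symm B⟩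

/-- `k(p) ≅ A/p ⊗ A_p` as `A`-modules. -/
noncomputable def residueFieldEquivTensor (p : Ideal A) [p.IsPrime] :
    p.ResidueField ≃ₗ[A] (A ⧸ p) ⊗[A] Localization.AtPrime p := by
  refine LinearEquiv.symm ?_
  refine (TensorProduct.quotTensorEquivQuotSMul (Localization.AtPrime p) p) ≪≫ₗ ?_
  refine (Submodule.quotEquivOfEq _
    ((IsLocalRing.maximalIdeal (Localization.AtPrime p)).restrictScalars A) ?_) ≪≫ₗ ?_
  · rw [Ideal.smul_top_eq_map, Localization.AtPrime.map_eq_maximalIdeal]
  · exact Submodule.Quotient.restrictScalarsEquiv A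
      (IsLocalRing.maximalIdeal (Localization.AtPrime p))

lemma subsingleton_of_bijective_smul (p : Ideal A) [p.IsPrime] (T : Type u) [AddCommGroup T]
    [Module A T] (h : ∀ s ∉ p, Function.Bijective (fun t : T => s • t))
    (h0 : Subsingleton (T ⊗[A] Localization.AtPrime p)) : Subsingleton T := by
  have : IsLocalizedModule p.primeCompl (LinearMap.id : T →ₗ[A] T) := by
    refine ⟨fun s => ?_, fun y => ⟨(y, 1), by simp⟩, fun {x y} hxy => ⟨1, by simpa using hxy⟩⟩
    rw [Module.End.isUnit_iff]
    exact h s.1 s.2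
  have e1 := IsLocalizedModule.iso p.primeCompl (LinearMap.id : T →ₗ[A] T)
  have e2 := LocalizedModule.equivTensorProduct p.primeCompl T
  have : Subsingleton (Localization p.primeCompl ⊗[A] T) :=
    (TensorProduct.comm A _ _).toEquiv.subsingleton
  have : Subsingleton (LocalizedModule p.primeCompl T) := e2.toEquiv.subsingleton
  exact e1.symm.toEquiv.subsingleton

section QuotSES

variable (p : Ideal A) (f : A)

/-- The projection `A/p → A/(p + (f))`. -/
noncomputable def quotFactor : (A ⧸ p) →ₗ[A] (A ⧸ (p ⊔ Ideal.span {f})) :=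
  Submodule.mapQ p (p ⊔ Ideal.span {f}) LinearMap.id (by
    intro x hx
    exact Ideal.mem_sup_left hx)

lemma quotFactor_surjective : Function.Surjective (quotFactor p f) := by
  intro y
  obtain ⟨a, rfl⟩ := Submodule.Quotient.mk_surjective _ y
  exact ⟨Submodule.Quotient.mk a, rfl⟩

lemma exact_smul_quotFactor :
    Function.Exact (f • (LinearMap.id : (A ⧸ p) →ₗ[A] (A ⧸ p))) (quotFactor p f) := by
  intro y
  obtain ⟨a, rfl⟩ := Submodule.Quotient.mk_surjective _ y
  constructor
  · intro h
    have h' : a ∈ p ⊔ Ideal.span {f} := by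
      have : (Submodule.Quotient.mk a : A ⧸ (p ⊔ Ideal.span {f})) = 0 := h
      exact (Submodule.Quotient.mk_eq_zero _).mp this
    obtain ⟨b, hb, c, hc, rfl⟩ := Submodule.mem_sup.mp h'
    obtain ⟨d, rfl⟩ := Ideal.mem_span_singleton'.mp hc
    refine ⟨Submodule.Quotient.mk d, ?_⟩
    show f • (Submodule.Quotient.mk d : A ⧸ p) = Submodule.Quotient.mk (b + d * f)
    rw [← Submodule.Quotient.mk_smul, eq_comm]
    refine (Submodule.Quotient.eq _).mpr ?_
    have : b + d * f - f • d = b := by rw [smul_eq_mul]; ring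
    rw [this]
    exact hb
  · rintro ⟨z, hz⟩
    obtain ⟨d, rfl⟩ := Submodule.Quotient.mk_surjective _ z
    have hz' : (Submodule.Quotient.mk (f • d) : A ⧸ p) = Submodule.Quotient.mk a := hz
    rw [← hz']
    show (Submodule.Quotient.mk (f • d) : A ⧸ (p ⊔ Ideal.span {f})) = 0
    rw [Submodule.Quotient.mk_eq_zero, smul_eq_mul]
    exact Ideal.mem_sup_right (Ideal.mul_mem_right _ _ (Ideal.mem_span_singleton_self f))

lemma smul_quot_injective [p.IsPrime] (hf : f ∉ p) :
    Function.Injective (f • (LinearMap.id : (A ⧸ p) →ₗ[A] (A ⧸ p))) := by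
  rw [← LinearMap.ker_eq_bot, LinearMap.ker_eq_bot']
  intro y hy
  obtain ⟨a, rfl⟩ := Submodule.Quotient.mk_surjective _ y
  have h1 : (Submodule.Quotient.mk (f • a) : A ⧸ p) = 0 := hy
  rw [Submodule.Quotient.mk_eq_zero, smul_eq_mul] at h1
  rw [Submodule.Quotient.mk_eq_zero]
  exact (Ideal.IsPrime.mem_or_mem ‹_› h1).resolve_left hf

end QuotSES

/-- The key local step: if `Tor_i(k(p), M) = 0` and `Tor_i`, `Tor_{i+1}` of `A/(p + (f))` against
`M` vanish for all `f ∉ p`, then `Tor_i(A/p, M) = 0`. -/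
theorem isZero_tor_quotient_prime (p : Ideal A) [p.IsPrime] (M : ModuleCat.{u} A) (i : ℕ)
    (hk : IsZero (((Tor (ModuleCat.{u} A) i).obj (ModuleCat.of A p.ResidueField)).obj M))
    (h : ∀ f : A, f ∉ p →
      IsZero (((Tor (ModuleCat.{u} A) i).obj
        (ModuleCat.of A (A ⧸ (p ⊔ Ideal.span {f})))).obj M) ∧
      IsZero (((Tor (ModuleCat.{u} A) (i + 1)).obj
        (ModuleCat.of A (A ⧸ (p ⊔ Ideal.span {f})))).obj M)) :
    IsZero (((Tor (ModuleCat.{u} A) i).obj (ModuleCat.of A (A ⧸ p))).obj M) := by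
  set T := ((Tor (ModuleCat.{u} A) i).obj (ModuleCat.of A (A ⧸ p))).obj M with hT
  -- every `f ∉ p` acts bijectively on `T`
  have hbij : ∀ f : A, f ∉ p → Function.Bijective (fun t : T => f • t) := by
    intro f hf
    have hS := scOfLinear_shortExact (f • (LinearMap.id : (A ⧸ p) →ₗ[A] (A ⧸ p)))
      (quotFactor p f) (smul_quot_injective p f hf) (quotFactor_surjective p f)
      (exact_smul_quotFactor p f)
    have hfun : (fun t : T => f • t) =
        (((Tor (ModuleCat.{u} A) i).map (f • 𝟙 (ModuleCat.of A (A ⧸ p)))).app M).hom := by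
      funext t
      exact (tor_map_smul_id_apply i _ M f t).symm
    rw [hfun]
    constructor
    · have hm : Mono (((Tor (ModuleCat.{u} A) i).map (f • 𝟙 (ModuleCat.of A (A ⧸ p)))).app M) :=
        (tor_exact₁ M hS i).mono_g (((h f hf).2).eq_of_src _ _)
      exact (ModuleCat.mono_iff_injective _).mp hm
    · have he : Epi (((Tor (ModuleCat.{u} A) i).map (f • 𝟙 (ModuleCat.of A (A ⧸ p)))).app M) :=
        (tor_exact₂ M hS i).epi_f (((h f hf).1).eq_of_tgt _ _)
      exact (ModuleCat.epi_iff_surjective _).mp he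
  -- `T ⊗ A_p = 0`
  have h1 : IsZero (((Tor (ModuleCat.{u} A) i).obj
      (ModuleCat.of A (A ⧸ p) ⊗ ModuleCat.of A (Localization.AtPrime p))).obj M) :=
    isZero_tor_of_iso (residueFieldEquivTensor p).toModuleIso M i hk
  obtain ⟨e⟩ := nonempty_tor_tensor_flat_iso i (ModuleCat.of A (A ⧸ p))
    (ModuleCat.of A (Localization.AtPrime p)) M
  have h2 : IsZero (MonoidalCategory.tensorObj T (ModuleCat.of A (Localization.AtPrime p))) :=
    h1.of_iso e.symm
  have h3 : Subsingleton (T ⊗[A] Localization.AtPrime p) :=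
    ModuleCat.subsingleton_of_isZero h2
  have := subsingleton_of_bijective_smul p T hbij h3
  exact ModuleCat.isZero_of_subsingleton T

/-- To check `Tor_{i+1}(M, N) = 0` for all `N` it suffices to check it for finite `N`. -/
theorem isZero_tor_of_forall_finite (i : ℕ) : ∀ (M : ModuleCat.{u} A)
    (_ : ∀ (N : Type u) [AddCommGroup N] [Module A N] [Module.Finite A N],
      IsZero (((Tor (ModuleCat.{u} A) (i + 1)).obj M).obj (ModuleCat.of A N)))
    (N : ModuleCat.{u} A), IsZero (((Tor (ModuleCat.{u} A) (i + 1)).obj M).obj N) := by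
  induction i with
  | zero =>
    intro M h N
    have : Module.Flat A M := by
      rw [flat_iff_isZero_torOne_quotient_fg]
      intro I hI
      exact h (A ⧸ I)
    exact isZero_tor_of_flat_left M N 0
  | succ i ih =>
    intro M h N
    let π : (M →₀ A) →ₗ[A] M := Finsupp.linearCombination A (id : M → M)
    have hex : Function.Exact (LinearMap.ker π).subtype π := LinearMap.exact_subtype_ker_map π
    have hS : (scOfLinear (N₁ := LinearMap.ker π) (N₂ := (M →₀ A)) (N₃ := M)
        (LinearMap.ker π).subtype π hex).ShortExact :=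
      scOfLinear_shortExact _ _
        (Submodule.injective_subtype _) (Finsupp.linearCombination_id_surjective A M) hex
    haveI : Module.Flat A (scOfLinear (N₁ := LinearMap.ker π) (N₂ := (M →₀ A)) (N₃ := M)
      (LinearMap.ker π).subtype π hex).X₂ := inferInstanceAs (Module.Flat A (M →₀ A))
    have key : ∀ N' : ModuleCat.{u} A,
        IsZero (((Tor (ModuleCat.{u} A) (i + 1 + 1)).obj M).obj N') ↔
        IsZero (((Tor (ModuleCat.{u} A) (i + 1)).obj
          (ModuleCat.of A (LinearMap.ker π))).obj N') := by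
      intro N'
      have hiso := isIso_torδ_succ N' hS i
      exact (@asIso _ _ _ _ (torδ N' hS (i + 1)) hiso).isZero_iff
    rw [key]
    exact ih _ (fun N' _ _ _ => (key _).mp (h N')) N

end Groth.Agent.Helper1.TorLib
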