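import Mathlib
import Groth.Agent.Helper1.TorPrimes

/-!
# `Tor` and regular sequences
-/

set_option autoImplicit false

namespace Groth.Agent.Helper1.TorLib

open CategoryTheory CategoryTheory.Limits MonoidalCategory Groth.Agent.Helper1.FlatCx TensorProduct
open scoped Pointwise

universe u
variable {A : Type u} [CommRing A]

section TorOneGeneral

lemma mono_iff_of_comm {C : Type*} [Category C] {X Y X' Y' : C} (a : X ⟶ Y) (b : X' ⟶ Y')
    (e1 : X ≅ X') (e2 : Y ≅ Y') (h : a ≫ e2.hom = e1.hom ≫ b) : Mono a ↔ Mono b := by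
  constructor
  · intro hm
    have hb : b = e1.inv ≫ a ≫ e2.hom := by rw [h, Iso.inv_hom_id_assoc]
    rw [hb]
    exact mono_comp _ _
  · intro hm
    have ha : a = e1.hom ≫ b ≫ e2.inv := by
      rw [← Category.assoc, ← h, Category.assoc, Iso.hom_inv_id, Category.comp_id]
    rw [ha]
    exact mono_comp _ _

variable (N : ModuleCat.{u} A) {S : ShortComplex (ModuleCat.{u} A)} (hS : S.ShortExact)

include hS in
/-- If `Tor_1(M, N) = 0`, then `Tor_1(M'', N) = 0` iff `M' ⊗ N → M ⊗ N` is injective. -/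
lemma isZero_torOne_X₃_iff_mono
    (h2 : IsZero (((Tor (ModuleCat.{u} A) 1).obj S.X₂).obj N)) :
    IsZero (((Tor (ModuleCat.{u} A) 1).obj S.X₃).obj N) ↔ Mono (S.f ▷ N) := by
  have hmono : Mono (torδ N hS 0) := (tor_exact₃ N hS 0).mono_g (h2.eq_of_src _ _)
  have hiff : Mono (((Tor (ModuleCat.{u} A) 0).map S.f).app N) ↔ Mono (S.f ▷ N) :=
    mono_iff_of_comm _ _ ((torZeroNatIso N).app S.X₁) ((torZeroNatIso N).app S.X₂)
      (torZero_naturality N S.f)
  rw [← hiff]
  constructor
  · intro h3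
    exact (tor_exact₁ N hS 0).mono_g (h3.eq_of_src _ _)
  · intro hm
    have hz : torδ N hS 0 = 0 := by
      rw [← cancel_mono (((Tor (ModuleCat.{u} A) 0).map S.f).app N), torδ_comp, zero_comp]
    exact IsZero.of_mono_eq_zero _ hz

end TorOneGeneral

section SmulSES

variable (L : Type u) [AddCommGroup L] [Module A L] (r : A)

lemma exact_smul_mkQ :
    Function.Exact (r • (LinearMap.id : L →ₗ[A] L)) (Submodule.mkQ (r • ⊤ : Submodule A L)) := by
  intro y
  rw [Submodule.mkQ_apply, Submodule.Quotient.mk_eq_zero, Submodule.mem_smul_pointwise_iff_exists]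
  constructor
  · rintro ⟨z, -, rfl⟩
    exact ⟨z, rfl⟩
  · rintro ⟨z, rfl⟩
    exact ⟨z, Submodule.mem_top, rfl⟩

/-- The short complex `0 → L →r L → L/rL → 0`. -/
noncomputable def smulSC : ShortComplex (ModuleCat.{u} A) :=
  scOfLinear (N₁ := L) (N₂ := L) (N₃ := QuotSMulTop r L) (r • (LinearMap.id : L →ₗ[A] L))
    (Submodule.mkQ (r • ⊤ : Submodule A L)) (exact_smul_mkQ L r)

lemma smulSC_shortExact (hr : IsSMulRegular L r) : (smulSC L r).ShortExact :=
  scOfLinear_shortExact _ _ (show Function.Injective (r • (LinearMap.id : L →ₗ[A] L)) from hr)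
    (Submodule.mkQ_surjective _) (exact_smul_mkQ L r)

lemma smulSC_f : (smulSC L r).f = r • 𝟙 (ModuleCat.of A L) := rfl

end SmulSES

/-- If `Tor_1(L, N) = 0` and `r` is `L`-regular, then `Tor_1(L/rL, N) = 0` iff `r` is
`L ⊗ N`-regular. -/
lemma isZero_torOne_quotSMulTop_iff (L : Type u) [AddCommGroup L] [Module A L] (r : A)
    (hr : IsSMulRegular L r) (N : Type u) [AddCommGroup N] [Module A N]
    (h : IsZero (((Tor (ModuleCat.{u} A) 1).obj (ModuleCat.of A L)).obj (ModuleCat.of A N))) :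
    IsZero (((Tor (ModuleCat.{u} A) 1).obj (ModuleCat.of A (QuotSMulTop r L))).obj
      (ModuleCat.of A N)) ↔ IsSMulRegular (L ⊗[A] N) r := by
  refine Iff.trans (isZero_torOne_X₃_iff_mono (ModuleCat.of A N) (smulSC_shortExact L r hr) h) ?_
  rw [ModuleCat.mono_iff_injective]
  have : ((smulSC L r).f ▷ ModuleCat.of A N).hom =
      r • (LinearMap.id : L ⊗[A] N →ₗ[A] L ⊗[A] N) := by
    apply TensorProduct.ext'
    intro x y
    show (r • x) ⊗ₜ[A] y = r • (x ⊗ₜ[A] y)
    rw [TensorProduct.smul_tmul']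
  show Function.Injective ((smulSC L r).f ▷ ModuleCat.of A N).hom ↔ _
  rw [this]
  rfl

/-- `Tor_{i+2}(L/rL, N) = 0` if `Tor_{i+2}(L, N) = 0 = Tor_{i+1}(L, N)`. -/
lemma isZero_tor_quotSMulTop_succ (L : Type u) [AddCommGroup L] [Module A L] (r : A)
    (hr : IsSMulRegular L r) (N : ModuleCat.{u} A) (i : ℕ)
    (h1 : IsZero (((Tor (ModuleCat.{u} A) (i + 1)).obj (ModuleCat.of A L)).obj N))
    (h2 : IsZero (((Tor (ModuleCat.{u} A) (i + 1 + 1)).obj (ModuleCat.of A L)).obj N)) :
    IsZero (((Tor (ModuleCat.{u} A) (i + 1 + 1)).obj (ModuleCat.of A (QuotSMulTop r L))).obj N) :=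
  (tor_exact₃ N (smulSC_shortExact L r hr) (i + 1)).isZero_of_both_zeros
    (h2.eq_of_src _ _) (h1.eq_of_tgt _ _)

section Local

variable [IsNoetherianRing A] [IsLocalRing A]

/-- Nakayama: a finite module on which an element of the maximal ideal acts surjectively is zero. -/
lemma subsingleton_of_smul_surjective (T : Type u) [AddCommGroup T] [Module A T] [Module.Finite A T]
    (r : A) (hr : r ∈ IsLocalRing.maximalIdeal A) (hs : Function.Surjective (fun t : T => r • t)) :
    Subsingleton T := by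
  have h1 : (⊤ : Submodule A T) ≤ IsLocalRing.maximalIdeal A • (⊤ : Submodule A T) := by
    intro t _
    obtain ⟨t', rfl⟩ := hs t
    exact Submodule.smul_mem_smul hr Submodule.mem_top
  have h2 := Submodule.eq_bot_of_le_smul_of_le_jacobson_bot (IsLocalRing.maximalIdeal A)
    (⊤ : Submodule A T) Module.Finite.fg_top h1
    (IsLocalRing.maximalIdeal_le_jacobson _)
  exact (Submodule.subsingleton_iff A).mp (subsingleton_of_bot_eq_top h2.symm)

/-- If `r ∈ 𝔪` is `L`-regular and `Tor_i(L/rL, N) = 0` then `Tor_i(L, N) = 0`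
(`L`, `N` finite). -/
lemma isZero_tor_of_isZero_tor_quotSMulTop (L : Type u) [AddCommGroup L] [Module A L]
    [Module.Finite A L] (r : A) (hrm : r ∈ IsLocalRing.maximalIdeal A) (hr : IsSMulRegular L r)
    (N : Type u) [AddCommGroup N] [Module A N] [Module.Finite A N] (i : ℕ)
    (h : IsZero (((Tor (ModuleCat.{u} A) i).obj (ModuleCat.of A (QuotSMulTop r L))).obj
      (ModuleCat.of A N))) :
    IsZero (((Tor (ModuleCat.{u} A) i).obj (ModuleCat.of A L)).obj (ModuleCat.of A N)) := by
  have hS := smulSC_shortExact L r hr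
  have he : Epi (((Tor (ModuleCat.{u} A) i).map (r • 𝟙 (ModuleCat.of A L))).app
      (ModuleCat.of A N)) :=
    (tor_exact₂ (ModuleCat.of A N) hS i).epi_f (h.eq_of_tgt _ _)
  have hs := (ModuleCat.epi_iff_surjective _).mp he
  haveI := finite_tor (R := A) N i L
  have : Subsingleton (((Tor (ModuleCat.{u} A) i).obj (ModuleCat.of A L)).obj
      (ModuleCat.of A N)) := by
    refine subsingleton_of_smul_surjective _ r hrm ?_
    intro t
    obtain ⟨t', ht'⟩ := hs t
    exact ⟨t', by rw [← ht']; exact (tor_map_smul_id_apply i _ _ r t').symm⟩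
  exact ModuleCat.isZero_of_subsingleton _

/-- Descending induction: if `rs ⊆ 𝔪` is weakly regular on `L` and all higher `Tor(L/(rs)L, N)`
vanish, then all higher `Tor(L, N)` vanish. -/
theorem isZero_tor_of_isZero_tor_quot_ofList (N : Type u) [AddCommGroup N] [Module A N]
    [Module.Finite A N] (rs : List A) :
    ∀ (L : Type u) [AddCommGroup L] [Module A L] [Module.Finite A L],
    (∀ r ∈ rs, r ∈ IsLocalRing.maximalIdeal A) →
    RingTheory.Sequence.IsWeaklyRegular L rs →
    (∀ i, 1 ≤ i → IsZero (((Tor (ModuleCat.{u} A) i).obj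
      (ModuleCat.of A (L ⧸ (Ideal.ofList rs • ⊤ : Submodule A L)))).obj (ModuleCat.of A N))) →
    ∀ i, 1 ≤ i →
      IsZero (((Tor (ModuleCat.{u} A) i).obj (ModuleCat.of A L)).obj (ModuleCat.of A N)) := by
  induction rs with
  | nil =>
    intro L _ _ _ _ _ h i hi
    have hbot : (Ideal.ofList ([] : List A) • ⊤ : Submodule A L) = ⊥ := by
      rw [Ideal.ofList_nil, Submodule.bot_smul]
    exact isZero_tor_of_iso (Submodule.quotEquivOfEqBot _ hbot).toModuleIso _ i (h i hi)
  | cons r rs ih =>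
    intro L _ _ _ hm hreg h i hi
    rw [RingTheory.Sequence.isWeaklyRegular_cons_iff] at hreg
    have h' : ∀ i, 1 ≤ i → IsZero (((Tor (ModuleCat.{u} A) i).obj
        (ModuleCat.of A (QuotSMulTop r L ⧸
          (Ideal.ofList rs • ⊤ : Submodule A (QuotSMulTop r L))))).obj (ModuleCat.of A N)) :=
      fun i hi => isZero_tor_of_iso
        (Submodule.quotOfListConsSMulTopEquivQuotSMulTopInner L r rs).toModuleIso _ i (h i hi)
    have h'' := ih (QuotSMulTop r L) (fun r' hr' => hm r' (List.mem_cons_of_mem _ hr'))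
      hreg.2 h' i hi
    exact isZero_tor_of_isZero_tor_quotSMulTop L r (hm r List.mem_cons_self) hreg.1 N i h''

/-- Regular sequences and `Tor`: if `rs ⊆ 𝔪` is weakly regular on `L` and the higher `Tor(L, N)`
vanish, then `rs` is weakly regular on `L ⊗ N` iff all higher `Tor(L/(rs)L, N)` vanish. -/
theorem isWeaklyRegular_tensor_iff (N : Type u) [AddCommGroup N] [Module A N]
    [Module.Finite A N] (rs : List A) :
    ∀ (L : Type u) [AddCommGroup L] [Module A L] [Module.Finite A L],
    (∀ r ∈ rs, r ∈ IsLocalRing.maximalIdeal A) →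
    RingTheory.Sequence.IsWeaklyRegular L rs →
    (∀ i, 1 ≤ i →
      IsZero (((Tor (ModuleCat.{u} A) i).obj (ModuleCat.of A L)).obj (ModuleCat.of A N))) →
    (RingTheory.Sequence.IsWeaklyRegular (L ⊗[A] N) rs ↔
      ∀ i, 1 ≤ i → IsZero (((Tor (ModuleCat.{u} A) i).obj
        (ModuleCat.of A (L ⧸ (Ideal.ofList rs • ⊤ : Submodule A L)))).obj (ModuleCat.of A N))) := by
  induction rs with
  | nil =>
    intro L _ _ _ _ _ h
    have hbot : (Ideal.ofList ([] : List A) • ⊤ : Submodule A L) = ⊥ := by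
      rw [Ideal.ofList_nil, Submodule.bot_smul]
    refine ⟨fun _ i hi => ?_, fun _ => RingTheory.Sequence.IsWeaklyRegular.nil A _⟩
    exact isZero_tor_of_iso (Submodule.quotEquivOfEqBot _ hbot).symm.toModuleIso _ i (h i hi)
  | cons r rs ih =>
    intro L _ _ _ hm hreg h
    rw [RingTheory.Sequence.isWeaklyRegular_cons_iff] at hreg
    have hm' : ∀ r' ∈ rs, r' ∈ IsLocalRing.maximalIdeal A :=
      fun r' hr' => hm r' (List.mem_cons_of_mem _ hr')
    let e := Submodule.quotOfListConsSMulTopEquivQuotSMulTopInner L r rs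
    have hK2 := isZero_torOne_quotSMulTop_iff L r hreg.1 N (h 1 le_rfl)
    have hK1 : ∀ i, IsZero (((Tor (ModuleCat.{u} A) (i + 1 + 1)).obj
        (ModuleCat.of A (QuotSMulTop r L))).obj (ModuleCat.of A N)) :=
      fun i => isZero_tor_quotSMulTop_succ L r hreg.1 _ i (h (i + 1) (by omega))
        (h (i + 1 + 1) (by omega))
    rw [RingTheory.Sequence.isWeaklyRegular_cons_iff,
      ← (QuotSMulTop.quotSMulTopTensorEquivQuotSMulTop r N L).isWeaklyRegular_congr rs]
    constructor
    · rintro ⟨h1, h2⟩ i hi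
      have hL' : ∀ i, 1 ≤ i → IsZero (((Tor (ModuleCat.{u} A) i).obj
          (ModuleCat.of A (QuotSMulTop r L))).obj (ModuleCat.of A N)) := by
        intro i hi
        obtain ⟨k, rfl⟩ : ∃ k, i = k + 1 := ⟨i - 1, by omega⟩
        obtain _ | k := k
        · exact hK2.mpr h1
        · exact hK1 k
      have := (ih (QuotSMulTop r L) hm' hreg.2 hL').mp h2 i hi
      exact isZero_tor_of_iso e.symm.toModuleIso _ i this
    · intro h3
      have h' : ∀ i, 1 ≤ i → IsZero (((Tor (ModuleCat.{u} A) i).obj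
          (ModuleCat.of A (QuotSMulTop r L ⧸
            (Ideal.ofList rs • ⊤ : Submodule A (QuotSMulTop r L))))).obj (ModuleCat.of A N)) :=
        fun i hi => isZero_tor_of_iso e.toModuleIso _ i (h3 i hi)
      have hL' := isZero_tor_of_isZero_tor_quot_ofList N rs (QuotSMulTop r L) hm' hreg.2 h'
      exact ⟨hK2.mp (hL' 1 le_rfl), (ih (QuotSMulTop r L) hm' hreg.2 hL').mpr h'⟩

end Local

end Groth.Agent.Helper1.TorLib
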