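import Mathlib

/-!
# Coproducts in the derived category (AB4 case)

If `A` is abelian with exact coproducts of shape `J`, the termwise coproduct of complexes
gives a coproduct in `DerivedCategory A`.
-/

set_option autoImplicit false
set_option linter.unusedSectionVars false

namespace Groth.Agent.Helper1.DCoprod
open CategoryTheory Limits DerivedCategory

universe w' w v u
variable {A : Type u} [Category.{v} A] [Abelian A] {J : Type w}

/-- A family of complexes as a complex in the functor category. -/
@[simps, reducible]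
def fam (K : J → CochainComplex A ℤ) : CochainComplex (Discrete J ⥤ A) ℤ where
  X n := Discrete.functor (fun j => (K j).X n)
  d p q := Discrete.natTrans (fun j => (K j.as).d p q)
  shape p q h := by
    ext ⟨j⟩
    simp [(K j).shape p q h]
  d_comp_d' p q r _ _ := by
    ext ⟨j⟩
    simp

/-- A family of morphisms of complexes as a morphism in the functor category. -/
@[simps]
def famMap {K L : J → CochainComplex A ℤ} (f : ∀ j, K j ⟶ L j) : fam K ⟶ fam L where
  f n := Discrete.natTrans (fun j => (f j.as).f n)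
  comm' p q _ := by
    ext ⟨j⟩
    simp

lemma quasiIso_famMap {K L : J → CochainComplex A ℤ} (f : ∀ j, K j ⟶ L j)
    (hf : ∀ j, QuasiIso (f j)) : QuasiIso (famMap f) := by
  rw [HomologicalComplex.quasiIso_iff_evaluation]
  rintro ⟨j⟩
  exact hf j

variable [HasColimitsOfShape (Discrete J) A]

/-- The termwise coproduct of a family of complexes. -/
@[simps, reducible]
noncomputable def sig (K : J → CochainComplex A ℤ) : CochainComplex A ℤ where
  X n := ∐ (fun j => (K j).X n)
  d p q := Limits.Sigma.map (fun j => (K j).d p q)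
  shape p q h := by
    apply Sigma.hom_ext
    intro j
    simp [(K j).shape p q h]
  d_comp_d' p q r _ _ := by
    apply Sigma.hom_ext
    intro j
    simp

/-- Functoriality of the termwise coproduct. -/
@[simps]
noncomputable def sigMap {K L : J → CochainComplex A ℤ} (f : ∀ j, K j ⟶ L j) : sig K ⟶ sig L where
  f n := Limits.Sigma.map (fun j => (f j).f n)
  comm' p q _ := by
    apply Sigma.hom_ext
    intro j
    simp

lemma quasiIso_sigMap [HasExactColimitsOfShape (Discrete J) A]
    {K L : J → CochainComplex A ℤ} (f : ∀ j, K j ⟶ L j)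
    (hf : ∀ j, QuasiIso (f j)) : QuasiIso (sigMap f) := by
  have := quasiIso_famMap f hf
  have h : QuasiIso (((colim (J := Discrete J) (C := A)).mapHomologicalComplex _).map (famMap f)) :=
    inferInstance
  exact h

/-- The inclusions into the termwise coproduct. -/
@[simps]
noncomputable def ι (K : J → CochainComplex A ℤ) (j : J) : K j ⟶ sig K where
  f n := Sigma.ι (fun j => (K j).X n) j
  comm' p q _ := by simp

/-- The universal map out of the termwise coproduct. -/
@[simps]
noncomputable def desc {K : J → CochainComplex A ℤ} {M : CochainComplex A ℤ}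
    (g : ∀ j, K j ⟶ M) : sig K ⟶ M where
  f n := Sigma.desc (fun j => (g j).f n)
  comm' p q _ := by
    apply Sigma.hom_ext
    intro j
    simp

@[reassoc (attr := simp)]
lemma ι_desc {K : J → CochainComplex A ℤ} {M : CochainComplex A ℤ}
    (g : ∀ j, K j ⟶ M) (j : J) : ι K j ≫ desc g = g j := by
  ext n
  simp

@[reassoc (attr := simp)]
lemma ι_sigMap {K L : J → CochainComplex A ℤ} (f : ∀ j, K j ⟶ L j) (j : J) :
    ι K j ≫ sigMap f = f j ≫ ι L j := by
  ext n
  simp

lemma hom_ext {K : J → CochainComplex A ℤ} {M : CochainComplex A ℤ}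
    {a b : sig K ⟶ M} (h : ∀ j, ι K j ≫ a = ι K j ≫ b) : a = b := by
  ext n
  rename_i j
  have := congr_arg (fun φ => φ.f n) (h j)
  simpa using this

/-- Assembling null-homotopies on the termwise coproduct. -/
noncomputable def homotopyDesc {K : J → CochainComplex A ℤ} {M : CochainComplex A ℤ}
    (g : sig K ⟶ M) (h : ∀ j, Homotopy (ι K j ≫ g) 0) : Homotopy g 0 where
  hom p q := Sigma.desc (fun j => (h j).hom p q)
  zero p q hpq := by
    apply Sigma.hom_ext
    intro j
    simp [(h j).zero p q hpq]
  comm n := by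
    apply Sigma.hom_ext
    intro j
    have := (h j).comm n
    simp only [HomologicalComplex.comp_f, HomologicalComplex.zero_f, add_zero, ι_f] at this
    rw [this]
    simp [dNext, prevD]

section Derived

variable [HasDerivedCategory.{w'} A]

lemma exists_homotopy {K M : CochainComplex A ℤ} (g : K ⟶ M) (hg : Q.map g = 0) :
    ∃ (K' : CochainComplex A ℤ) (u : K' ⟶ K), QuasiIso u ∧ Nonempty (Homotopy (u ≫ g) 0) := by
  have h1 : Qh.map ((HomotopyCategory.quotient A (ComplexShape.up ℤ)).map g) =
      Qh.map ((HomotopyCategory.quotient A (ComplexShape.up ℤ)).map 0) := by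
    rw [Functor.map_zero, Functor.map_zero]
    exact hg
  rw [MorphismProperty.map_eq_iff_precomp Qh (HomotopyCategory.quasiIso A (ComplexShape.up ℤ))] at h1
  obtain ⟨X, s, hs, eq⟩ := h1
  obtain ⟨K', rfl⟩ := HomotopyCategory.quotient_obj_surjective X
  obtain ⟨u, rfl⟩ := (HomotopyCategory.quotient _ _).map_surjective s
  rw [HomotopyCategory.quotient_map_mem_quasiIso_iff] at hs
  refine ⟨K', u, hs, ⟨HomotopyCategory.homotopyOfEq _ _ ?_⟩⟩
  rw [Functor.map_comp, eq, Functor.map_zero, Functor.map_zero, comp_zero]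

variable [HasExactColimitsOfShape (Discrete J) A]

lemma exists_desc (K : J → CochainComplex A ℤ) (M : CochainComplex A ℤ)
    (g : ∀ j, Q.obj (K j) ⟶ Q.obj M) :
    ∃ φ : Q.obj (sig K) ⟶ Q.obj M, ∀ j, Q.map (ι K j) ≫ φ = g j := by
  choose K' s hs f hf using fun j => right_fac (g j)
  have hq : QuasiIso (sigMap s) :=
    quasiIso_sigMap s (fun j => (isIso_Q_map_iff_quasiIso (C := A) (s j)).1 (hs j))
  refine ⟨inv (Q.map (sigMap s)) ≫ Q.map (desc f), fun j => ?_⟩
  rw [hf j]
  have e : Q.map (ι K j) ≫ inv (Q.map (sigMap s)) = inv (Q.map (s j)) ≫ Q.map (ι K' j) := by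
    have := hs j
    rw [← cancel_mono (Q.map (sigMap s)), ← cancel_epi (Q.map (s j))]
    simp [← Functor.map_comp]
  rw [reassoc_of% e, ← Functor.map_comp, ι_desc]

lemma eq_zero (K : J → CochainComplex A ℤ) (M : CochainComplex A ℤ)
    (φ : Q.obj (sig K) ⟶ Q.obj M) (h : ∀ j, Q.map (ι K j) ≫ φ = 0) : φ = 0 := by
  obtain ⟨M', f, w, hw, rfl⟩ := left_fac φ
  have h' : ∀ j, Q.map (ι K j ≫ f) = 0 := fun j => by
    have := h j
    rw [← Category.assoc, ← Functor.map_comp] at this
    rw [← cancel_mono (inv (Q.map w)), this, zero_comp]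
  choose K' u hu H using fun j => exists_homotopy _ (h' j)
  have hq : QuasiIso (sigMap u) := quasiIso_sigMap u hu
  have h2 : Q.map (sigMap u ≫ f) = 0 := by
    have hh : Homotopy (sigMap u ≫ f) 0 := homotopyDesc (sigMap u ≫ f) (fun j =>
      (Homotopy.ofEq (by rw [ι_sigMap_assoc])).trans (H j).some)
    rw [Q_map_eq_of_homotopy (C := A) hh, Functor.map_zero]
  rw [Functor.map_comp] at h2
  have h3 : Q.map f = 0 := by
    rw [← cancel_epi (Q.map (sigMap u)), h2, comp_zero]
  rw [h3, zero_comp]

/-- The cofan in the derived category given by the termwise coproduct. -/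
noncomputable def cofan (K : J → CochainComplex A ℤ) : Cofan (fun j => Q.obj (K j)) :=
  Cofan.mk (Q.obj (sig K)) (fun j => Q.map (ι K j))

lemma exists_desc' (K : J → CochainComplex A ℤ) (T : DerivedCategory A)
    (g : ∀ j, Q.obj (K j) ⟶ T) :
    ∃ φ : Q.obj (sig K) ⟶ T, ∀ j, Q.map (ι K j) ≫ φ = g j := by
  let e := Q.objObjPreimageIso T
  obtain ⟨φ, hφ⟩ := exists_desc K _ (fun j => g j ≫ e.inv)
  exact ⟨φ ≫ e.hom, fun j => by rw [← Category.assoc, hφ]; simp⟩

lemma hom_ext' (K : J → CochainComplex A ℤ) (T : DerivedCategory A)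
    (a b : Q.obj (sig K) ⟶ T) (h : ∀ j, Q.map (ι K j) ≫ a = Q.map (ι K j) ≫ b) : a = b := by
  let e := Q.objObjPreimageIso T
  rw [← cancel_mono e.inv, ← sub_eq_zero, ← Preadditive.sub_comp]
  apply eq_zero
  intro j
  rw [Preadditive.sub_comp, Preadditive.comp_sub, ← Category.assoc, ← Category.assoc, h j, sub_self]

/-- The termwise coproduct is a coproduct in the derived category. -/
noncomputable def isColimitCofan (K : J → CochainComplex A ℤ) : IsColimit (cofan K) :=
  Cofan.IsColimit.mk _ (fun s => (exists_desc' K s.pt s.inj).choose)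
    (fun s j => (exists_desc' K s.pt s.inj).choose_spec j)
    (fun s _ hm => hom_ext' K _ _ _ (fun j =>
      (hm j).trans ((exists_desc' K s.pt s.inj).choose_spec j).symm))

lemma hasColimitsOfShape_discrete : HasColimitsOfShape (Discrete J) (DerivedCategory A) := by
  constructor
  intro F
  let K : J → CochainComplex A ℤ := fun j => Q.objPreimage (F.obj ⟨j⟩)
  have e : Discrete.functor (fun j => Q.obj (K j)) ≅ F :=
    Discrete.natIso (fun ⟨j⟩ => Q.objObjPreimageIso (F.obj ⟨j⟩))
  have : HasColimit (Discrete.functor (fun j => Q.obj (K j))) := ⟨⟨_, isColimitCofan K⟩⟩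
  exact hasColimit_of_iso e.symm

end Derived

end Groth.Agent.Helper1.DCoprod
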