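import Mathlib

set_option autoImplicit false

namespace Groth.Agent.Helper1.MapExtend
open CategoryTheory Limits HomologicalComplex ZeroObject

variable {ι ι' : Type*} {c : ComplexShape ι} {c' : ComplexShape ι'} (e : c.Embedding c')
  {C D : Type*} [Category C] [Category D] [Preadditive C] [Preadditive D] [HasZeroObject C]
  [HasZeroObject D] (F : C ⥤ D) [F.Additive]

/-- `F (extend.X K o) ≅ extend.X (F K) o` -/
noncomputable def optIso (K : HomologicalComplex C c) :
    ∀ (o : Option ι), F.obj (extend.X K o) ≅ extend.X ((F.mapHomologicalComplex c).obj K) o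
  | some _ => Iso.refl _
  | none => (F.map_isZero (isZero_zero C)).iso (isZero_zero D)

lemma optIso_d (K : HomologicalComplex C c) : ∀ (o o' : Option ι),
    (optIso F K o).hom ≫ extend.d ((F.mapHomologicalComplex c).obj K) o o' =
      F.map (extend.d K o o') ≫ (optIso F K o').hom
  | none, _ => (F.map_isZero (isZero_zero C)).eq_of_src _ _
  | some _, none => (isZero_zero D).eq_of_tgt _ _
  | some i, some j => (Category.id_comp (F.map (K.d i j))).trans (Category.comp_id _).symm

lemma optIso_mapX {K L : HomologicalComplex C c} (φ : K ⟶ L) : ∀ (o : Option ι),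
    F.map (extend.mapX φ o) ≫ (optIso F L o).hom =
      (optIso F K o).hom ≫ extend.mapX ((F.mapHomologicalComplex c).map φ) o
  | none => (F.map_isZero (isZero_zero C)).eq_of_src _ _
  | some i => (Category.comp_id (F.map (φ.f i))).trans (Category.id_comp _).symm

/-- `F(K.extend e) ≅ (F K).extend e` -/
noncomputable def mapExtendIso (K : HomologicalComplex C c) :
    (F.mapHomologicalComplex c').obj (K.extend e) ≅
      ((F.mapHomologicalComplex c).obj K).extend e :=
  Hom.isoOfComponents (fun i' => optIso F K (e.r i')) (fun i' j' _ => by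
    exact optIso_d F K (e.r i') (e.r j'))

lemma mapExtendIso_naturality {K L : HomologicalComplex C c} (φ : K ⟶ L) :
    (F.mapHomologicalComplex c').map (extendMap φ e) ≫ (mapExtendIso e F L).hom =
      (mapExtendIso e F K).hom ≫ extendMap ((F.mapHomologicalComplex c).map φ) e := by
  ext i'
  exact optIso_mapX F φ (e.r i')

lemma quasiIso_map_extendMap_iff {C D : Type*} [Category C] [Category D] [Abelian C] [Abelian D]
    (F : C ⥤ D) [F.Additive] {K L : HomologicalComplex C c} (φ : K ⟶ L) :
    QuasiIso ((F.mapHomologicalComplex c').map (extendMap φ e)) ↔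
      QuasiIso ((F.mapHomologicalComplex c).map φ) := by
  rw [← quasiIso_extendMap_iff ((F.mapHomologicalComplex c).map φ) e]
  exact quasiIso_iff_of_arrow_mk_iso _ _
    (Arrow.isoMk (mapExtendIso e F K) (mapExtendIso e F L) (mapExtendIso_naturality e F φ).symm)

lemma quasiIso_map_comp_extendMap_iff {C D : Type*} [Category C] [Category D] [Abelian C]
    [Abelian D] (F : C ⥤ D) [F.Additive] {K : HomologicalComplex C c'}
    {M N : HomologicalComplex C c} (a : K ⟶ M.extend e) [IsIso a] (φ : M ⟶ N) :
    QuasiIso ((F.mapHomologicalComplex c').map (a ≫ extendMap φ e)) ↔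
      QuasiIso ((F.mapHomologicalComplex c).map φ) := by
  rw [← quasiIso_map_extendMap_iff e F φ, Functor.map_comp]
  exact quasiIso_iff_comp_left _ _

lemma quasiIso_map_ι'_iff {C D : Type*} [Category C] [Category D] [Abelian C] [Abelian D]
    (F : C ⥤ D) [F.Additive] {X : C} (I : InjectiveResolution X) :
    QuasiIso ((F.mapHomologicalComplex (ComplexShape.up ℤ)).map I.ι') ↔
      QuasiIso ((F.mapHomologicalComplex (ComplexShape.up ℕ)).map I.ι) :=
  quasiIso_map_comp_extendMap_iff ComplexShape.embeddingUpNat F
    (HomologicalComplex.extendSingleIso _ _ _ _ (by simp)).inv I.ι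

lemma quasiIsoAt_map_extendMap_iff {C D : Type*} [Category C] [Category D] [Abelian C] [Abelian D]
    (F : C ⥤ D) [F.Additive] {K L : HomologicalComplex C c} (φ : K ⟶ L) {j : ι} {j' : ι'}
    (hj : e.f j = j') :
    QuasiIsoAt ((F.mapHomologicalComplex c').map (extendMap φ e)) j' ↔
      QuasiIsoAt ((F.mapHomologicalComplex c).map φ) j := by
  rw [← quasiIsoAt_extendMap_iff ((F.mapHomologicalComplex c).map φ) e hj]
  simp only [quasiIsoAt_iff_isIso_homologyMap]
  let ea : Arrow.mk ((F.mapHomologicalComplex c').map (extendMap φ e)) ≅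
      Arrow.mk (extendMap ((F.mapHomologicalComplex c).map φ) e) :=
    Arrow.isoMk (mapExtendIso e F K) (mapExtendIso e F L) (mapExtendIso_naturality e F φ).symm
  exact (MorphismProperty.isomorphisms D).arrow_mk_iso_iff
    ((HomologicalComplex.homologyFunctor D c' j').mapArrow.mapIso ea)

lemma quasiIsoAt_map_comp_extendMap_iff {C D : Type*} [Category C] [Category D] [Abelian C]
    [Abelian D] (F : C ⥤ D) [F.Additive] {K : HomologicalComplex C c'}
    {M N : HomologicalComplex C c} (a : K ⟶ M.extend e) [IsIso a] (φ : M ⟶ N) {j : ι} {j' : ι'}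
    (hj : e.f j = j') :
    QuasiIsoAt ((F.mapHomologicalComplex c').map (a ≫ extendMap φ e)) j' ↔
      QuasiIsoAt ((F.mapHomologicalComplex c).map φ) j := by
  rw [← quasiIsoAt_map_extendMap_iff e F φ hj, Functor.map_comp]
  have : QuasiIsoAt ((F.mapHomologicalComplex c').map a) j' := by
    rw [quasiIsoAt_iff_isIso_homologyMap]
    infer_instance
  exact quasiIsoAt_iff_comp_left _ _ _

lemma quasiIsoAt_map_ι'_iff {C D : Type*} [Category C] [Category D] [Abelian C] [Abelian D]
    (F : C ⥤ D) [F.Additive] {X : C} (I : InjectiveResolution X) (n : ℕ) :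
    QuasiIsoAt ((F.mapHomologicalComplex (ComplexShape.up ℤ)).map I.ι') (n : ℤ) ↔
      QuasiIsoAt ((F.mapHomologicalComplex (ComplexShape.up ℕ)).map I.ι) n :=
  quasiIsoAt_map_comp_extendMap_iff ComplexShape.embeddingUpNat F
    (HomologicalComplex.extendSingleIso _ _ _ _ (by simp)).inv I.ι rfl

end Groth.Agent.Helper1.MapExtend
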