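import Mathlib

/-!
# The dimension of the fibre of a finite module is upper semicontinuous
-/

set_option autoImplicit false

namespace Groth.Agent.Helper1.FibreDim

open TensorProduct Topology

universe u v

variable {A : Type u} [CommRing A]

/-- The dimension of `κ(x) ⊗ C` over `κ(x)`. -/
noncomputable def fibreDim (C : Type v) [AddCommGroup C] [Module A C] (x : PrimeSpectrum A) : ℕ :=
  Module.finrank x.asIdeal.ResidueField (x.asIdeal.ResidueField ⊗[A] C)

variable (C : Type v) [AddCommGroup C] [Module A C]

lemma span_one_tmul (κ : Type*) [Field κ] [Algebra A κ] :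
    Submodule.span κ (Set.range fun c : C => (1 : κ) ⊗ₜ[A] c) = ⊤ := by
  rw [eq_top_iff]
  rintro v -
  induction v using TensorProduct.induction_on with
  | zero => exact Submodule.zero_mem _
  | tmul s c =>
    have : s ⊗ₜ[A] c = s • ((1 : κ) ⊗ₜ[A] c) := by
      rw [TensorProduct.smul_tmul', smul_eq_mul, mul_one]
    rw [this]
    exact Submodule.smul_mem _ _ (Submodule.subset_span ⟨c, rfl⟩)
  | add a b ha hb => exact Submodule.add_mem _ ha hb

lemma exists_finset_span [Module.Finite A C] (κ : Type*) [Field κ] [Algebra A κ] :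
    ∃ t : Finset C, t.card ≤ Module.finrank κ (κ ⊗[A] C) ∧
      Submodule.span κ ((fun c : C => (1 : κ) ⊗ₜ[A] c) '' (t : Set C)) = ⊤ := by
  classical
  obtain ⟨b, hbS, hspan, hli⟩ := exists_linearIndependent κ
    (Set.range fun c : C => (1 : κ) ⊗ₜ[A] c)
  have hfin : b.Finite := hli.setFinite
  haveI : Fintype b := hfin.fintype
  have hcard : Module.finrank κ (κ ⊗[A] C) = b.toFinset.card := by
    rw [← finrank_span_set_eq_card hli, hspan, span_one_tmul, finrank_top]
  choose! g hg using fun v (hv : v ∈ b) => hbS hv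
  refine ⟨b.toFinset.image g, ?_, ?_⟩
  · rw [hcard]; exact Finset.card_image_le
  · rw [← span_one_tmul C κ, ← hspan]
    congr 1
    ext v
    simp only [Finset.coe_image, Set.coe_toFinset, Set.mem_image]
    constructor
    · rintro ⟨c, ⟨w, hw, rfl⟩, rfl⟩
      have h := hg w hw
      change (1 : κ) ⊗ₜ[A] g w = w at h
      rw [h]; exact hw
    · intro hv
      exact ⟨g v, ⟨v, hv, rfl⟩, hg v hv⟩

/-- If `κ ⊗ (C/N) = 0` then `κ ⊗ N → κ ⊗ C` is surjective. -/
lemma span_of_subsingleton_quotient (N : Submodule A C) (κ : Type*) [Field κ] [Algebra A κ]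
    (h : Subsingleton (κ ⊗[A] (C ⧸ N))) (s : Set C) (hs : Submodule.span A s = N) :
    Submodule.span κ ((fun c : C => (1 : κ) ⊗ₜ[A] c) '' s) = ⊤ := by
  -- the range of `κ ⊗ N → κ ⊗ C` is everything
  have hex : Function.Exact (N.subtype.lTensor κ) (N.mkQ.lTensor κ) :=
    lTensor_exact κ (LinearMap.exact_subtype_mkQ N) N.mkQ_surjective
  have hsurj : Function.Surjective (N.subtype.lTensor κ) := by
    intro v
    exact (hex v).mp (Subsingleton.elim _ _)
  have key : ∀ c ∈ Submodule.span A s, (1 : κ) ⊗ₜ[A] c ∈
      Submodule.span κ ((fun c : C => (1 : κ) ⊗ₜ[A] c) '' s) := by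
    intro c hc
    induction hc using Submodule.span_induction with
    | mem c hc => exact Submodule.subset_span ⟨c, hc, rfl⟩
    | zero => rw [TensorProduct.tmul_zero]; exact Submodule.zero_mem _
    | add c d _ _ hc hd => rw [TensorProduct.tmul_add]; exact Submodule.add_mem _ hc hd
    | smul r c _ hc =>
      rw [TensorProduct.tmul_smul]
      have : r • ((1 : κ) ⊗ₜ[A] c) = (algebraMap A κ r) • ((1 : κ) ⊗ₜ[A] c) := by
        rw [algebraMap_smul]
      rw [this]
      exact Submodule.smul_mem _ _ hc
  rw [eq_top_iff]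
  rintro v -
  obtain ⟨w, rfl⟩ := hsurj v
  induction w using TensorProduct.induction_on with
  | zero => rw [map_zero]; exact Submodule.zero_mem _
  | tmul a n =>
    rw [LinearMap.lTensor_tmul, Submodule.subtype_apply]
    have hn : (n : C) ∈ Submodule.span A s := by rw [hs]; exact n.2
    have : a ⊗ₜ[A] (n : C) = a • ((1 : κ) ⊗ₜ[A] (n : C)) := by
      rw [TensorProduct.smul_tmul', smul_eq_mul, mul_one]
    rw [this]
    exact Submodule.smul_mem _ _ (key _ hn)
  | add a b ha hb => rw [map_add]; exact Submodule.add_mem _ ha hb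

/-- Upper semicontinuity of the fibre dimension of a finite module. -/
theorem fibreDim_eventually_le [Module.Finite A C] (x : PrimeSpectrum A) :
    ∀ᶠ y in 𝓝 x, fibreDim C y ≤ fibreDim C x := by
  classical
  obtain ⟨t, htcard, htspan⟩ := exists_finset_span (A := A) C x.asIdeal.ResidueField
  set N : Submodule A C := Submodule.span A (t : Set C) with hN
  -- `κ(x) ⊗ (C/N) = 0`
  have h0 : Subsingleton (x.asIdeal.ResidueField ⊗[A] (C ⧸ N)) := by
    have hex : Function.Exact (N.subtype.lTensor x.asIdeal.ResidueField)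
        (N.mkQ.lTensor x.asIdeal.ResidueField) :=
      lTensor_exact _ (LinearMap.exact_subtype_mkQ N) N.mkQ_surjective
    have hsurj : Function.Surjective (N.mkQ.lTensor x.asIdeal.ResidueField) :=
      LinearMap.lTensor_surjective _ N.mkQ_surjective
    have hrange : LinearMap.range (N.subtype.lTensor x.asIdeal.ResidueField) = ⊤ := by
      rw [eq_top_iff]
      have hle : Submodule.span x.asIdeal.ResidueField
          ((fun c : C => (1 : x.asIdeal.ResidueField) ⊗ₜ[A] c) '' (t : Set C)) ≤
          (LinearMap.range ((N.subtype.baseChange x.asIdeal.ResidueField))) := by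
        rw [Submodule.span_le]
        rintro _ ⟨c, hc, rfl⟩
        exact ⟨(1 : x.asIdeal.ResidueField) ⊗ₜ[A] (⟨c, Submodule.subset_span hc⟩ : N), rfl⟩
      rw [htspan] at hle
      intro v hv
      obtain ⟨w, hw⟩ := hle hv
      exact ⟨w, hw⟩
    refine ⟨fun a b => ?_⟩
    obtain ⟨a', rfl⟩ := hsurj a
    obtain ⟨b', rfl⟩ := hsurj b
    have ha' : a' ∈ LinearMap.range (N.subtype.lTensor x.asIdeal.ResidueField) := by
      rw [hrange]; trivial
    have hb' : b' ∈ LinearMap.range (N.subtype.lTensor x.asIdeal.ResidueField) := by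
      rw [hrange]; trivial
    rw [(hex a').mpr ha', (hex b').mpr hb']
  have hx : x ∉ Module.support A (C ⧸ N) := by
    rw [Module.mem_support_iff_nontrivial_residueField_tensorProduct,
      not_nontrivial_iff_subsingleton]
    exact h0
  have hopen : IsOpen (Module.support A (C ⧸ N))ᶜ := Module.isClosed_support.isOpen_compl
  filter_upwards [hopen.mem_nhds hx] with y hy
  have hy0 : Subsingleton (y.asIdeal.ResidueField ⊗[A] (C ⧸ N)) := by
    rw [← not_nontrivial_iff_subsingleton,
      ← Module.mem_support_iff_nontrivial_residueField_tensorProduct]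
    exact hy
  have hspan := span_of_subsingleton_quotient C N y.asIdeal.ResidueField hy0 (t : Set C) rfl
  have h1 : fibreDim C y ≤ t.card := by
    unfold fibreDim
    rw [← finrank_top y.asIdeal.ResidueField, ← hspan]
    have : (fun c : C => (1 : y.asIdeal.ResidueField) ⊗ₜ[A] c) '' (t : Set C) =
        ((t.image fun c : C => (1 : y.asIdeal.ResidueField) ⊗ₜ[A] c : Finset _) : Set _) := by
      rw [Finset.coe_image]
    rw [this]
    exact (finrank_span_finset_le_card _).trans Finset.card_image_le
  exact h1.trans htcard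

lemma fibreDim_eq_rankAtStalk [Module.Finite A C] [Module.Flat A C] (x : PrimeSpectrum A) :
    fibreDim C x = Module.rankAtStalk C x := (Module.rankAtStalk_eq x).symm

/-- The fibre dimension of a finitely presented flat module is locally constant. -/
lemma fibreDim_eventually_eq [Module.FinitePresentation A C] [Module.Flat A C]
    (x : PrimeSpectrum A) : ∀ᶠ y in 𝓝 x, fibreDim C y = fibreDim C x := by
  have : Module.Finite A C := inferInstance
  have h : IsLocallyConstant (Module.rankAtStalk (R := A) C) :=
    Module.isLocallyConstant_rankAtStalk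
  filter_upwards [h.eventually_eq x] with y hy
  rw [fibreDim_eq_rankAtStalk, fibreDim_eq_rankAtStalk, hy]

end Groth.Agent.Helper1.FibreDim
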