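import Mathlib
import Groth.Agent.Helper1.FibreDim

/-!
# Fibre dimension: base change, and freeness over reduced local rings
-/

set_option autoImplicit false

namespace Groth.Agent.Helper1.FibreDim

open TensorProduct Topology

universe u v

noncomputable section

lemma finrank_tensor_field_change {A : Type*} [CommRing A] (C : Type*) [AddCommGroup C]
    [Module A C] (κ κ' : Type*) [Field κ] [Field κ'] [Algebra A κ] [Algebra A κ'] [Algebra κ κ']
    [IsScalarTower A κ κ'] :
    Module.finrank κ' (κ' ⊗[A] C) = Module.finrank κ (κ ⊗[A] C) := by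
  rw [← (AlgebraTensorModule.cancelBaseChange A κ κ' κ' C).finrank_eq, Module.finrank_baseChange]

/-- Fibre dimension is compatible with base change. -/
lemma fibreDim_baseChange {A : Type u} [CommRing A] {A' : Type u} [CommRing A'] [Algebra A A']
    (C : Type v) [AddCommGroup C] [Module A C] (x' : PrimeSpectrum A') :
    fibreDim (A' ⊗[A] C) x' = fibreDim C (PrimeSpectrum.comap (algebraMap A A') x') := by
  set x := PrimeSpectrum.comap (algebraMap A A') x'
  let g : x.asIdeal.ResidueField →+* x'.asIdeal.ResidueField :=
    Ideal.ResidueField.map x.asIdeal x'.asIdeal (algebraMap A A') rfl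
  letI : Algebra x.asIdeal.ResidueField x'.asIdeal.ResidueField := g.toAlgebra
  haveI : IsScalarTower A x.asIdeal.ResidueField x'.asIdeal.ResidueField := by
    refine IsScalarTower.of_algebraMap_eq fun a => ?_
    rw [IsScalarTower.algebraMap_apply A A' x'.asIdeal.ResidueField]
    exact (Ideal.ResidueField.map_algebraMap x.asIdeal x'.asIdeal (algebraMap A A') rfl a).symm
  unfold fibreDim
  rw [(AlgebraTensorModule.cancelBaseChange A A' x'.asIdeal.ResidueField
    x'.asIdeal.ResidueField C).finrank_eq]
  exact finrank_tensor_field_change C _ _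

lemma fibreDim_congr {A : Type u} [CommRing A] {C C' : Type v} [AddCommGroup C] [Module A C]
    [AddCommGroup C'] [Module A C'] (e : C ≃ₗ[A] C') (x : PrimeSpectrum A) :
    fibreDim C x = fibreDim C' x :=
  (LinearEquiv.baseChange A x.asIdeal.ResidueField C C' e).finrank_eq

variable {A : Type u} [CommRing A]

/-- The fibre dimension at the closed point of a local ring, via `IsLocalRing.ResidueField`. -/
lemma fibreDim_closedPoint [IsLocalRing A] (C : Type v) [AddCommGroup C] [Module A C] :
    fibreDim C (IsLocalRing.closedPoint A) =
      Module.finrank (IsLocalRing.ResidueField A) (IsLocalRing.ResidueField A ⊗[A] C) := by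
  letI : Algebra (IsLocalRing.ResidueField A) (IsLocalRing.maximalIdeal A).ResidueField :=
    inferInstanceAs (Algebra (A ⧸ IsLocalRing.maximalIdeal A) _)
  haveI : IsScalarTower A (IsLocalRing.ResidueField A) (IsLocalRing.maximalIdeal A).ResidueField :=
    inferInstanceAs (IsScalarTower A (A ⧸ IsLocalRing.maximalIdeal A) _)
  exact finrank_tensor_field_change C (IsLocalRing.ResidueField A)
    (IsLocalRing.maximalIdeal A).ResidueField

/-- If `s` spans `C` then the `1 ⊗ c`, `c ∈ s`, span `κ ⊗ C`. -/
lemma span_one_tmul_image (C : Type v) [AddCommGroup C] [Module A C] (κ : Type*) [Field κ]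
    [Algebra A κ] (s : Set C) (hs : Submodule.span A s = ⊤) :
    Submodule.span κ ((fun c : C => (1 : κ) ⊗ₜ[A] c) '' s) = ⊤ := by
  have h := Submodule.baseChange_span (R := A) (A := κ) (M := C) s
  rw [hs, Submodule.baseChange_top] at h
  exact h.symm

/-- A finite module over a reduced local ring whose fibre dimension at every minimal prime equals
the fibre dimension at the closed point is free. -/
theorem free_of_fibreDim_minimalPrimes [IsLocalRing A] [IsReduced A] (C : Type v)
    [AddCommGroup C] [Module A C] [Module.Finite A C]
    (h : ∀ q : PrimeSpectrum A, q.asIdeal ∈ minimalPrimes A →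
      fibreDim C q = fibreDim C (IsLocalRing.closedPoint A)) : Module.Free A C := by
  classical
  set k := IsLocalRing.ResidueField A
  set n := Module.finrank k (k ⊗[A] C) with hn
  have hn' : fibreDim C (IsLocalRing.closedPoint A) = n := fibreDim_closedPoint C
  let b : Module.Basis (Fin n) k (k ⊗[A] C) := Module.finBasis k (k ⊗[A] C)
  have hsurj : Function.Surjective (TensorProduct.mk A k C 1) :=
    TensorProduct.mk_surjective A C k Ideal.Quotient.mk_surjective
  choose c hc using fun i => hsurj (b i)
  have hspan : Submodule.span A (Set.range c) = ⊤ :=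
    IsLocalRing.span_eq_top_of_tmul_eq_basis c b hc
  have hli : LinearIndependent A c := by
    rw [Fintype.linearIndependent_iff]
    intro g hg i
    have hmem : ∀ q : PrimeSpectrum A, q.asIdeal ∈ minimalPrimes A → g i ∈ q.asIdeal := by
      intro q hq
      set κ := q.asIdeal.ResidueField
      have hsp : Submodule.span κ (Set.range fun i => (1 : κ) ⊗ₜ[A] c i) = ⊤ := by
        have := span_one_tmul_image C κ (Set.range c) hspan
        rwa [← Set.range_comp] at this
      have hcard : Fintype.card (Fin n) = Module.finrank κ (κ ⊗[A] C) := by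
        rw [Fintype.card_fin]
        exact (hn'.symm.trans (h q hq).symm)
      have hli' : LinearIndependent κ (fun i => (1 : κ) ⊗ₜ[A] c i) :=
        linearIndependent_of_top_le_span_of_card_eq_finrank hsp.ge hcard
      rw [Fintype.linearIndependent_iff] at hli'
      have h0 : ∑ i, algebraMap A κ (g i) • ((1 : κ) ⊗ₜ[A] c i) = 0 := by
        have : ∀ i, algebraMap A κ (g i) • ((1 : κ) ⊗ₜ[A] c i) = (1 : κ) ⊗ₜ[A] (g i • c i) := by
          intro i
          rw [TensorProduct.tmul_smul, algebraMap_smul]
        simp_rw [this]
        rw [← TensorProduct.tmul_sum, hg, TensorProduct.tmul_zero]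
      have := hli' _ h0 i
      exact Ideal.algebraMap_residueField_eq_zero.mp this
    have hnil : g i ∈ nilradical A := by
      rw [nilradical, ← Ideal.sInf_minimalPrimes, Ideal.mem_sInf]
      intro I hI
      haveI : I.IsPrime := hI.1.1
      exact hmem ⟨I, inferInstance⟩ hI
    rwa [nilradical_eq_zero, Ideal.zero_eq_bot, Ideal.mem_bot] at hnil
  exact Module.Free.of_basis (Module.Basis.mk hli hspan.ge)

/-- A finite module over a reduced ring whose fibre dimension is locally constant is flat. -/
theorem flat_of_fibreDim_eventually_eq [IsReduced A] (C : Type v)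
    [AddCommGroup C] [Module A C] [Module.Finite A C]
    (h : ∀ x : PrimeSpectrum A, ∀ᶠ y in 𝓝 x, fibreDim C y = fibreDim C x) : Module.Flat A C := by
  apply Module.flat_of_localized_maximal
  intro P hP
  set A' := Localization.AtPrime P
  have hfree : Module.Free A' (A' ⊗[A] C) := by
    apply free_of_fibreDim_minimalPrimes
    intro q' _
    rw [fibreDim_baseChange, fibreDim_baseChange]
    set x := PrimeSpectrum.comap (algebraMap A A') (IsLocalRing.closedPoint A')
    have hsp : PrimeSpectrum.comap (algebraMap A A') q' ⤳ x :=
      (IsLocalRing.specializes_closedPoint q').map (PrimeSpectrum.continuous_comap _)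
    have h1 : {y | fibreDim C y = fibreDim C x} ∈ 𝓝 (PrimeSpectrum.comap (algebraMap A A') q') :=
      hsp (h x)
    have h2 : PrimeSpectrum.comap (algebraMap A A') q' ∈ {y | fibreDim C y = fibreDim C x} :=
      mem_of_mem_nhds h1
    exact h2
  have hflat : Module.Flat A (A' ⊗[A] C) := Module.Flat.trans A A' _
  exact Module.Flat.of_linearEquiv
    ((LocalizedModule.equivTensorProduct P.primeCompl C).restrictScalars A)

end

end Groth.Agent.Helper1.FibreDim
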