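import Mathlib
import Groth.Agent.Helper1.FlatCxLinear

/-!
# The local case: `T_p` preserves epimorphisms iff `T_p(A) → T_p(k)` is surjective
-/

set_option autoImplicit false

namespace Groth.Agent.Helper1.FlatCx

open CategoryTheory CategoryTheory.Limits MonoidalCategory

universe u

variable {A : Type u} [CommRing A] {ι : Type} {c : ComplexShape ι}

lemma comp_apply_eq {X Y Z W : ModuleCat.{u} A} {f : X ⟶ Y} {g : Y ⟶ Z} {f' : X ⟶ W}
    {g' : W ⟶ Z} (h : f ≫ g = f' ≫ g') (x : X) : g.hom (f.hom x) = g'.hom (f'.hom x) := by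
  have := congrArg (fun m => m.hom x) h
  simpa only [ModuleCat.hom_comp, LinearMap.comp_apply] using this

lemma comp_apply_eq₁ {X Y Z : ModuleCat.{u} A} {f : X ⟶ Y} {g : Y ⟶ Z} {k : X ⟶ Z}
    (h : f ≫ g = k) (x : X) : g.hom (f.hom x) = k.hom x := by
  have := congrArg (fun m => m.hom x) h
  simpa only [ModuleCat.hom_comp, LinearMap.comp_apply] using this

/-- For any complex of modules, `homology → opcycles → X_j` is exact. -/
lemma exact_homologyι_fromOpcycles (K : HomologicalComplex (ModuleCat.{u} A) c) (p j : ι)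
    (hj : c.next p = j) :
    Function.Exact (K.homologyι p).hom (K.fromOpcycles p j).hom := by
  have hS : (ShortComplex.mk _ _ (K.homologyι_comp_fromOpcycles p j)).Exact :=
    ShortComplex.exact_of_f_is_kernel _ (K.homologyIsKernel p j hj)
  exact (ShortComplex.ShortExact.moduleCat_exact_iff_function_exact _).mp hS

variable (P : HomologicalComplex (ModuleCat.{u} A) c) (p j : ι) (hj : c.next p = j)

lemma XIso_hom_apply (M : ModuleCat.{u} A) (i : ι) (x : (CohIII.tensorObj P M).X i) :
    (XIso P M i).hom.hom x = x := rfl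

include hj in
/-- If `M` is flat and `T_p(g)` is surjective for `g : M ⟶ N`, then `H_p ⊗ N → Z'_p ⊗ N → P_j ⊗ N`
is exact. -/
lemma exact_whiskerRight_of_surjective {M N : ModuleCat.{u} A} (g : M ⟶ N) [Module.Flat A M]
    (hs : Function.Surjective ((CohIII.TFun P p).map g).hom) :
    Function.Exact (P.homologyι p ▷ N).hom (P.fromOpcycles p j ▷ N).hom := by
  intro y
  constructor
  · intro hy
    -- transport to the opcycles of `P ⊗ N`
    set y' := (opcyclesIso P p N).inv.hom y with hy'
    have hy'' : (opcyclesIso P p N).hom.hom y' = y := by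
      rw [hy']; exact comp_apply_eq₁ (Iso.inv_hom_id _) y
    have h1 : ((CohIII.tensorObj P N).fromOpcycles p j).hom y' = 0 := by
      have := comp_apply_eq (opcyclesIso_hom_fromOpcycles P p N j) y'
      rw [hy'', hy, XIso_hom_apply] at this
      exact this.symm
    obtain ⟨t', ht'⟩ := (exact_homologyι_fromOpcycles (CohIII.tensorObj P N) p j hj y').mp h1
    obtain ⟨t, rfl⟩ := hs t'
    have h2 := comp_apply_eq (HomologicalComplex.homologyι_naturality (CohIII.tensorMap P g) p) t
    have h3 := comp_apply_eq (opcyclesIso_hom_naturality P p g)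
      (((CohIII.tensorObj P M).homologyι p).hom t)
    set z := (opcyclesIso P p M).hom.hom (((CohIII.tensorObj P M).homologyι p).hom t) with hz
    have h4 : (P.fromOpcycles p j ▷ M).hom z = 0 := by
      have := comp_apply_eq (opcyclesIso_hom_fromOpcycles P p M j)
        (((CohIII.tensorObj P M).homologyι p).hom t)
      rw [this, XIso_hom_apply]
      exact comp_apply_eq₁ ((CohIII.tensorObj P M).homologyι_comp_fromOpcycles p j) t
    have hexM : Function.Exact (P.homologyι p ▷ M).hom (P.fromOpcycles p j ▷ M).hom :=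
      Module.Flat.rTensor_exact M (exact_homologyι_fromOpcycles P p j hj)
    obtain ⟨h, hh⟩ := (hexM z).mp h4
    refine ⟨(P.homology p ◁ g).hom h, ?_⟩
    have h5 := comp_apply_eq (whisker_exchange (P.homologyι p) g) h
    rw [h5, hh, ← h3, ← hy'', ← ht']
    exact congrArg _ h2.symm
  · rintro ⟨h, rfl⟩
    have : P.homologyι p ▷ N ≫ P.fromOpcycles p j ▷ N = 0 := by
      rw [← comp_whiskerRight, P.homologyι_comp_fromOpcycles, MonoidalPreadditive.zero_whiskerRight]
    exact comp_apply_eq₁ this h


section Local

open IsLocalRing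

variable [IsLocalRing A] (Q : ChainComplex (ModuleCat.{u} A) ℤ)
  (hQ : ∀ i, Module.Finite A (Q.X i) ∧ Module.Flat A (Q.X i))

/-- The map `T_p(A) → T_p(k)`. -/
noncomputable abbrev toResidue (q : ℤ) :
    (CohIII.TFun Q q).obj (ModuleCat.of A A) ⟶
      (CohIII.TFun Q q).obj (ModuleCat.of A (ResidueField A)) :=
  (CohIII.TFun Q q).map (ModuleCat.ofHom (Algebra.linearMap A (ResidueField A)))

omit [IsLocalRing A] in
/-- If `P_q / im(d)` is flat then `Q.opcycles q` is flat. -/
lemma flat_opcycles_of_flat_quotient (q : ℤ)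
    (h : Module.Flat A (Q.X q ⧸ LinearMap.range (Q.d (q + 1) q).hom)) :
    Module.Flat A (Q.opcycles q) := by
  have e := (Q.sc q).moduleCatOpcyclesIso.toLinearEquiv
  have hprev : (ComplexShape.down ℤ).prev q = q + 1 := by simp
  have h' : Module.Flat A ((Q.sc q).X₂ ⧸ LinearMap.range (Q.sc q).f.hom) := by
    show Module.Flat A (Q.X q ⧸ LinearMap.range (Q.d ((ComplexShape.down ℤ).prev q) q).hom)
    rw [hprev]; exact h
  exact Module.Flat.of_linearEquiv e

include hQ in
/-- EGA III 7.5.? : over a local ring, if `T_p(A) → T_p(k)` is surjective then `T_p` preserves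
epimorphisms. -/
theorem preservesEpi_of_surjective_toResidue (p : ℤ)
    (hs : Function.Surjective (toResidue Q p).hom) :
    (CohIII.TFun Q p).PreservesEpimorphisms := by
  have hj : (ComplexShape.down ℤ).next p = p - 1 := by simp
  haveI : Module.Flat A (ModuleCat.of A A) := inferInstanceAs (Module.Flat A A)
  have hexk := exact_whiskerRight_of_surjective Q p (p - 1) hj
    (ModuleCat.ofHom (Algebra.linearMap A (ResidueField A))) hs
  have hinj := rTensor_subtype_range_injective (Q.homologyι p).hom (Q.fromOpcycles p (p - 1)).hom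
    (exact_homologyι_fromOpcycles Q p (p - 1) hj) (ResidueField A) hexk
  rw [← LinearMap.lTensor_inj_iff_rTensor_inj] at hinj
  haveI := (hQ (p - 1)).1
  haveI := (hQ (p - 1)).2
  haveI := (hQ p).1
  haveI : Module.Free A (Q.X (p - 1)) := Module.free_of_flat_of_isLocalRing
  haveI : Module.Finite A (LinearMap.range (Q.fromOpcycles p (p - 1)).hom) := by
    rw [range_fromOpcycles]
    exact Module.Finite.range _
  have hfree := Module.free_of_lTensor_residueField_injective
    (LinearMap.range (Q.fromOpcycles p (p - 1)).hom).subtype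
    (LinearMap.range (Q.fromOpcycles p (p - 1)).hom).mkQ
    (Submodule.mkQ_surjective _) (LinearMap.exact_subtype_mkQ _) hinj
  rw [chain_preservesEpi_iff Q (fun i => (hQ i).2) p (p - 1) (by ring)]
  apply flat_opcycles_of_flat_quotient
  have : (p - 1 + 1 : ℤ) = p := by ring
  rw [this, ← range_fromOpcycles]
  infer_instance

include hQ in
/-- Over a local ring, `T_p` preserves epimorphisms iff `T_p(A) → T_p(k)` is surjective. -/
theorem preservesEpi_iff_surjective_toResidue (p : ℤ) :
    (CohIII.TFun Q p).PreservesEpimorphisms ↔ Function.Surjective (toResidue Q p).hom := by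
  refine ⟨fun h => ?_, preservesEpi_of_surjective_toResidue Q hQ p⟩
  haveI : Epi (ModuleCat.ofHom (Algebra.linearMap A (ResidueField A))) := by
    rw [ModuleCat.epi_iff_surjective]
    exact Ideal.Quotient.mk_surjective
  have : Epi (toResidue Q p) := h.preserves _
  exact (ModuleCat.epi_iff_surjective _).mp this

end Local

end Groth.Agent.Helper1.FlatCx
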