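import Mathlib
import Groth.Agent.Helper1.FlatCxLocal

/-!
# Further consequences over a Noetherian local ring (EGA III 7.5)
-/

set_option autoImplicit false

namespace Groth.Agent.Helper1.FlatCx

open CategoryTheory CategoryTheory.Limits MonoidalCategory IsLocalRing

universe u

variable {A : Type u} [CommRing A]

/-- Homology of a complex of finite modules over a Noetherian ring is finite. -/
lemma finite_homology [IsNoetherianRing A] {ι : Type} {c : ComplexShape ι}
    (K : HomologicalComplex (ModuleCat.{u} A) c) (p : ι) [Module.Finite A (K.X p)] :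
    Module.Finite A (K.homology p) := by
  haveI : Module.Finite A (K.cycles p) :=
    Module.Finite.of_injective (K.iCycles p).hom ((ModuleCat.mono_iff_injective _).mp inferInstance)
  exact Module.Finite.of_surjective (K.homologyπ p).hom
    ((ModuleCat.epi_iff_surjective _).mp inferInstance)

variable (P : ChainComplex (ModuleCat.{u} A) ℤ)
  (hP : ∀ i, Module.Finite A (P.X i) ∧ Module.Flat A (P.X i))

include hP

lemma finite_TA [IsNoetherianRing A] (p : ℤ) (h : (CohIII.TFun P p).PreservesEpimorphisms) :
    Module.Finite A ((CohIII.TFun P p).obj (ModuleCat.of A A)) := by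
  haveI := (hP p).1
  haveI := finite_homology P p
  exact Module.Finite.equiv (TAIso P (fun i => (hP i).2) p h).symm.toLinearEquiv

/-- Given that `T_p` preserves epimorphisms, it preserves monomorphisms iff `H_p(P)` is flat. -/
lemma preservesMono_iff_flat_homology (p : ℤ) (h : (CohIII.TFun P p).PreservesEpimorphisms) :
    (CohIII.TFun P p).PreservesMonomorphisms ↔ Module.Flat A (P.homology p) := by
  constructor
  · intro hm
    exact flat_homology_of_exact P (fun i => (hP i).2) p ⟨hm, h⟩
  · intro hf
    haveI := preservesMono_tensorLeft (P.homology p)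
    exact Functor.PreservesMonomorphisms.of_iso (chainTensorNatIso P (fun i => (hP i).2) p h)

/-- EGA III 7.5.4 (a) ⇔ (b). -/
theorem exact_iff_preservesEpi_and_free [IsNoetherianRing A] [IsLocalRing A] (p : ℤ) :
    ((CohIII.TFun P p).PreservesMonomorphisms ∧ (CohIII.TFun P p).PreservesEpimorphisms) ↔
      ((CohIII.TFun P p).PreservesEpimorphisms ∧
        Module.Free A ((CohIII.TFun P p).obj (ModuleCat.of A A))) := by
  constructor
  · rintro ⟨hm, he⟩
    refine ⟨he, ?_⟩
    haveI := finite_TA P hP p he
    haveI : Module.Flat A ((CohIII.TFun P p).obj (ModuleCat.of A A)) :=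
      (flat_TA_iff P (fun i => (hP i).2) p he).mpr
        ((preservesMono_iff_flat_homology P hP p he).mp hm)
    exact Module.free_of_flat_of_isLocalRing
  · rintro ⟨he, hfree⟩
    refine ⟨?_, he⟩
    rw [preservesMono_iff_flat_homology P hP p he, ← flat_TA_iff P (fun i => (hP i).2) p he]
    infer_instance

/-- EGA III 7.5.3: if `T_p(k) = 0` then `T_p = 0`. -/
theorem isZero_of_isZero_residueField [IsNoetherianRing A] [IsLocalRing A] (p : ℤ)
    (hk : IsZero ((CohIII.TFun P p).obj (ModuleCat.of A (ResidueField A)))) (M : ModuleCat.{u} A) :
    IsZero ((CohIII.TFun P p).obj M) := by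
  have hs : Function.Surjective (toResidue P p).hom := by
    intro y
    haveI := ModuleCat.subsingleton_of_isZero hk
    exact ⟨0, Subsingleton.elim _ _⟩
  have he := preservesEpi_of_surjective_toResidue P hP p hs
  let e := chainTensorNatIso P (fun i => (hP i).2) p he
  haveI := (hP p).1
  haveI := finite_homology P p
  -- `H_p(P) ⊗ k = 0`
  have h1 : IsZero (P.homology p ⊗ ModuleCat.of A (ResidueField A)) :=
    IsZero.of_iso hk (e.app _)
  haveI : Subsingleton (TensorProduct A (P.homology p) (ResidueField A)) :=
    ModuleCat.subsingleton_of_isZero h1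
  haveI : Subsingleton (TensorProduct A (ResidueField A) (P.homology p)) :=
    (TensorProduct.comm A (ResidueField A) (P.homology p)).toEquiv.subsingleton
  haveI : Subsingleton (P.homology p) := (IsLocalRing.subsingleton_tensorProduct (R := A)).mp inferInstance
  have h2 : IsZero (P.homology p ⊗ M) := by
    haveI : Subsingleton (TensorProduct A (P.homology p) M) := inferInstance
    exact ModuleCat.isZero_of_subsingleton _
  exact IsZero.of_iso h2 (e.app M).symm

end Groth.Agent.Helper1.FlatCx
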