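import Mathlib
import Groth.Agent.Helper1.FlatCxLocal2
import Groth.Agent.Helper1.FibreDim

/-!
# The fibre ranks `d_p(x) = dim H_p(P ⊗ κ(x))` in terms of fibre dimensions of opcycles
-/

set_option autoImplicit false

namespace Groth.Agent.Helper1.FlatCx

open CategoryTheory CategoryTheory.Limits TensorProduct Groth.Agent.Helper1.FibreDim

universe u

section Field

variable {κ : Type u} [Field κ] {ι : Type} {c : ComplexShape ι}

/-- Dimension count for a complex of finite-dimensional vector spaces. -/
lemma finrank_homology_add (K : HomologicalComplex (ModuleCat.{u} κ) c) (p q : ι)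
    (hq : c.next p = q) (hp : c.prev q = p) [Module.Finite κ (K.X p)] [Module.Finite κ (K.X q)] :
    Module.finrank κ (K.homology p) + Module.finrank κ (K.X q) =
      Module.finrank κ (K.opcycles p) + Module.finrank κ (K.opcycles q) := by
  haveI : Module.Finite κ (K.opcycles p) :=
    Module.Finite.of_surjective (K.pOpcycles p).hom
      ((ModuleCat.epi_iff_surjective _).mp inferInstance)
  set ψ := (K.fromOpcycles p q).hom with hψ
  have hex := exact_homologyι_fromOpcycles K p q hq
  have hinj : Function.Injective (K.homologyι p).hom :=
    (ModuleCat.mono_iff_injective _).mp inferInstance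
  have h1 : Module.finrank κ (K.homology p) = Module.finrank κ (LinearMap.ker ψ) := by
    rw [(LinearEquiv.ofInjective _ hinj).finrank_eq, LinearMap.exact_iff.mp hex]
  have h2 : Module.finrank κ (K.opcycles q) =
      Module.finrank κ (K.X q ⧸ LinearMap.range ψ) := by
    subst hp
    rw [hψ, range_fromOpcycles]
    exact ((K.sc q).moduleCatOpcyclesIso.toLinearEquiv).finrank_eq
  have h3 := LinearMap.finrank_range_add_finrank_ker ψ
  have h4 := Submodule.finrank_quotient_add_finrank (LinearMap.range ψ)
  omega

end Field

section Bridge

variable {R S : Type u} [CommRing R] [CommRing S] [Algebra R S]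

/-- `S` as a restricted module is `S`. -/
noncomputable def restrictSelfEquiv (R S : Type u) [CommRing R] [CommRing S] [Algebra R S] :
    ((ModuleCat.restrictScalars (algebraMap R S)).obj (ModuleCat.of S S)) ≃ₗ[R] S :=
  { toFun := fun s => s
    invFun := fun s => s
    map_add' := fun _ _ => rfl
    map_smul' := fun r s => by
      rw [ModuleCat.restrictScalars.smul_def]
      exact (Algebra.smul_def (A := S) r s).symm
    left_inv := fun _ => rfl
    right_inv := fun _ => rfl }

/-- auxiliary `R`-linear equivalence. -/
noncomputable def extendScalarsEquivAux (M : ModuleCat.{u} R) :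
    (((ModuleCat.restrictScalars (algebraMap R S)).obj (ModuleCat.of S S)) ⊗[R] M) ≃ₗ[R]
      S ⊗[R] M :=
  TensorProduct.congr (restrictSelfEquiv R S) (LinearEquiv.refl R M)

lemma extendScalarsEquivAux_smul (M : ModuleCat.{u} R) (s : S)
    (x : (ModuleCat.extendScalars (algebraMap R S)).obj M) :
    extendScalarsEquivAux M (s • x) = s • extendScalarsEquivAux M x := by
  refine TensorProduct.induction_on (motive := fun x => extendScalarsEquivAux M
    (@HSMul.hSMul S ((ModuleCat.extendScalars (algebraMap R S)).obj M) _ _ s x) =
      s • extendScalarsEquivAux M x) x ?_ ?_ ?_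
  · refine (congrArg (extendScalarsEquivAux M)
      (smul_zero (A := ((ModuleCat.extendScalars (algebraMap R S)).obj M)) s)).trans ?_
    exact (map_zero (extendScalarsEquivAux M)).trans ((smul_zero s).symm.trans
      (congrArg (s • ·) (map_zero (extendScalarsEquivAux M)).symm))
  · intro s' m
    refine (congrArg (extendScalarsEquivAux M)
      (ModuleCat.ExtendScalars.smul_tmul (f := algebraMap R S) s s' m)).trans ?_
    simp only [extendScalarsEquivAux, TensorProduct.congr_tmul, LinearEquiv.refl_apply]
    rw [TensorProduct.smul_tmul']
    rfl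
  · intro a b ha hb
    refine (congrArg (extendScalarsEquivAux M)
      (smul_add (A := ((ModuleCat.extendScalars (algebraMap R S)).obj M)) s a b)).trans ?_
    refine (map_add (extendScalarsEquivAux M) _ _).trans ?_
    refine (congrArg₂ (· + ·) ha hb).trans ?_
    rw [← smul_add, ← map_add]

/-- `(extendScalars (algebraMap R S)).obj M` is `S ⊗[R] M`. -/
noncomputable def extendScalarsEquiv (M : ModuleCat.{u} R) :
    ((ModuleCat.extendScalars (algebraMap R S)).obj M) ≃ₗ[S] S ⊗[R] M :=
  { toFun := fun x => extendScalarsEquivAux M x
    invFun := fun y => (extendScalarsEquivAux M).symm y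
    left_inv := fun x => (extendScalarsEquivAux M).symm_apply_apply x
    right_inv := fun y => (extendScalarsEquivAux M).apply_symm_apply y
    map_add' := fun x y => map_add (extendScalarsEquivAux M) x y
    map_smul' := fun s x => extendScalarsEquivAux_smul M s x }

lemma finrank_extendScalars (M : ModuleCat.{u} R) :
    Module.finrank S ((ModuleCat.extendScalars (algebraMap R S)).obj M) =
      Module.finrank S (S ⊗[R] M) :=
  (extendScalarsEquiv M).finrank_eq

lemma finite_extendScalars (M : ModuleCat.{u} R) [Module.Finite R M] :
    Module.Finite S ((ModuleCat.extendScalars (algebraMap R S)).obj M) :=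
  Module.Finite.equiv (extendScalarsEquiv (S := S) M).symm

end Bridge

section BC

variable {A : Type u} [CommRing A] {B : Type u} [CommRing B] (φ : A →+* B)
variable {ι : Type} {c : ComplexShape ι} (P : HomologicalComplex (ModuleCat.{u} A) c) (p : ι)

/-- Opcycles commute with base change (right exactness of extension of scalars). -/
noncomputable def bcOpcyclesIso :
    (CohIII.bcCx φ P).opcycles p ≅ (ModuleCat.extendScalars φ).obj (P.opcycles p) :=
  IsColimit.coconePointUniqueUpToIso
    ((CohIII.bcCx φ P).opcyclesIsCokernel (c.prev p) p rfl)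
    (CokernelCofork.mapIsColimit _ (P.opcyclesIsCokernel (c.prev p) p rfl)
      (ModuleCat.extendScalars φ))

end BC

section DRank

variable {A : Type u} [CommRing A] {ι : Type} {c : ComplexShape ι}
variable (P : HomologicalComplex (ModuleCat.{u} A) c)

/-- The basic dimension formula: `d_p(x) + dim (P_q ⊗ κ(x)) = dim (Z'_p ⊗ κ(x)) + dim (Z'_q ⊗ κ(x))`
where `q` is the index following `p`. -/
theorem dRank_add (p q : ι) (hq : c.next p = q) (hp : c.prev q = p)
    [Module.Finite A (P.X p)] [Module.Finite A (P.X q)] (x : PrimeSpectrum A) :
    CohIII.dRank P p x + fibreDim (P.X q) x =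
      fibreDim (P.opcycles p) x + fibreDim (P.opcycles q) x := by
  set κ := x.asIdeal.ResidueField
  set K' := CohIII.bcCx (algebraMap A κ) P with hK'
  haveI : Module.Finite κ (K'.X p) := finite_extendScalars (S := κ) (P.X p)
  haveI : Module.Finite κ (K'.X q) := finite_extendScalars (S := κ) (P.X q)
  have h := finrank_homology_add K' p q hq hp
  have e1 : Module.finrank κ (K'.X q) = fibreDim (P.X q) x :=
    finrank_extendScalars (S := κ) (P.X q)
  have e2 : ∀ i, Module.finrank κ (K'.opcycles i) = fibreDim (P.opcycles i) x := fun i =>
    ((bcOpcyclesIso (algebraMap A κ) P i).toLinearEquiv.finrank_eq).trans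
      (finrank_extendScalars (S := κ) (P.opcycles i))
  rw [e1, e2, e2] at h
  exact h

end DRank

end Groth.Agent.Helper1.FlatCx
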