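import Mathlib
import Groth.Agent.Helper1.FlatCxDRank
import Groth.Agent.Helper1.FibreDim2

/-!
# Local constancy of `d_p` and exactness of `T_p` (EGA III 7.8.4-type statements)
-/

set_option autoImplicit false

namespace Groth.Agent.Helper1.FlatCx

open CategoryTheory CategoryTheory.Limits TensorProduct Groth.Agent.Helper1.FibreDim Topology

universe u

variable {A : Type u} [CommRing A] (P : ChainComplex (ModuleCat.{u} A) ℤ)

lemma finite_opcycles (i : ℤ) [Module.Finite A (P.X i)] : Module.Finite A (P.opcycles i) :=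
  Module.Finite.of_surjective (P.pOpcycles i).hom
    ((ModuleCat.epi_iff_surjective _).mp inferInstance)

lemma dRank_formula (hP : ∀ i, Module.Finite A (P.X i)) (p : ℤ) (y : PrimeSpectrum A) :
    CohIII.dRank P p y + fibreDim (P.X (p - 1)) y =
      fibreDim (P.opcycles p) y + fibreDim (P.opcycles (p - 1)) y :=
  haveI := hP p
  haveI := hP (p - 1)
  dRank_add P p (p - 1) (by simp) (by simp) y

/-- `T_p` is exact iff both `Z'_p` and `Z'_{p-1}` are flat. -/
theorem chain_exact_iff_flat_opcycles (hP : ∀ i, Module.Flat A (P.X i)) (p : ℤ) :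
    ((CohIII.TFun P p).PreservesMonomorphisms ∧ (CohIII.TFun P p).PreservesEpimorphisms) ↔
      (Module.Flat A (P.opcycles p) ∧ Module.Flat A (P.opcycles (p - 1))) := by
  rw [chain_preservesMono_iff P hP p, chain_preservesEpi_iff P hP p (p - 1) (by ring)]

variable [IsNoetherianRing A]

lemma dRank_eventually_eq_of_flat (hP : ∀ i, Module.Finite A (P.X i) ∧ Module.Flat A (P.X i))
    (p : ℤ) (h1 : Module.Flat A (P.opcycles p)) (h2 : Module.Flat A (P.opcycles (p - 1)))
    (x : PrimeSpectrum A) : ∀ᶠ y in 𝓝 x, CohIII.dRank P p y = CohIII.dRank P p x := by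
  have hfin : ∀ i, Module.Finite A (P.X i) := fun i => (hP i).1
  have hflat : ∀ i, Module.Flat A (P.X i) := fun i => (hP i).2
  have hfo : ∀ i, Module.Finite A (P.opcycles i) := fun i => finite_opcycles P i
  have hfp : ∀ i, Module.FinitePresentation A (P.X i) := fun i =>
    Module.finitePresentation_of_finite A _
  have hfpo : ∀ i, Module.FinitePresentation A (P.opcycles i) := fun i =>
    Module.finitePresentation_of_finite A _
  filter_upwards [fibreDim_eventually_eq (P.opcycles p) x,
    fibreDim_eventually_eq (P.opcycles (p - 1)) x,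
    fibreDim_eventually_eq (P.X (p - 1)) x] with y h3 h4 h5
  have f1 := dRank_formula P hfin p y
  have f2 := dRank_formula P hfin p x
  omega

lemma fibreDim_opcycles_eventually_eq (hP : ∀ i, Module.Finite A (P.X i) ∧ Module.Flat A (P.X i))
    (p : ℤ) (x : PrimeSpectrum A) (h : ∀ᶠ y in 𝓝 x, CohIII.dRank P p y = CohIII.dRank P p x) :
    ∀ᶠ y in 𝓝 x, fibreDim (P.opcycles p) y = fibreDim (P.opcycles p) x ∧
      fibreDim (P.opcycles (p - 1)) y = fibreDim (P.opcycles (p - 1)) x := by
  have hfin : ∀ i, Module.Finite A (P.X i) := fun i => (hP i).1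
  have hflat : ∀ i, Module.Flat A (P.X i) := fun i => (hP i).2
  have hfo : ∀ i, Module.Finite A (P.opcycles i) := fun i => finite_opcycles P i
  have hfp : ∀ i, Module.FinitePresentation A (P.X i) := fun i =>
    Module.finitePresentation_of_finite A _
  filter_upwards [h, fibreDim_eventually_le (P.opcycles p) x,
    fibreDim_eventually_le (P.opcycles (p - 1)) x,
    fibreDim_eventually_eq (P.X (p - 1)) x] with y h3 h4 h5 h6
  have f1 := dRank_formula P hfin p y
  have f2 := dRank_formula P hfin p x
  omega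

/-- EGA III 7.8.4: exactness of `T_p` implies local constancy of `d_p`. -/
theorem isLocallyConstant_dRank_of_exact
    (hP : ∀ i, Module.Finite A (P.X i) ∧ Module.Flat A (P.X i)) (p : ℤ)
    (h : (CohIII.TFun P p).PreservesMonomorphisms ∧ (CohIII.TFun P p).PreservesEpimorphisms) :
    IsLocallyConstant (CohIII.dRank P p) := by
  rw [chain_exact_iff_flat_opcycles P (fun i => (hP i).2) p] at h
  rw [IsLocallyConstant.iff_eventually_eq]
  intro x
  exact dRank_eventually_eq_of_flat P hP p h.1 h.2 x

/-- EGA III 7.8.4: over a reduced ring local constancy of `d_p` implies exactness of `T_p`. -/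
theorem exact_of_isLocallyConstant_dRank [IsReduced A]
    (hP : ∀ i, Module.Finite A (P.X i) ∧ Module.Flat A (P.X i)) (p : ℤ)
    (h : IsLocallyConstant (CohIII.dRank P p)) :
    (CohIII.TFun P p).PreservesMonomorphisms ∧ (CohIII.TFun P p).PreservesEpimorphisms := by
  rw [chain_exact_iff_flat_opcycles P (fun i => (hP i).2) p]
  rw [IsLocallyConstant.iff_eventually_eq] at h
  have hfin : ∀ i, Module.Finite A (P.X i) := fun i => (hP i).1
  have hfo : ∀ i, Module.Finite A (P.opcycles i) := fun i => finite_opcycles P i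
  constructor
  · apply flat_of_fibreDim_eventually_eq
    intro x
    exact (fibreDim_opcycles_eventually_eq P hP p x (h x)).mono fun y hy => hy.1
  · apply flat_of_fibreDim_eventually_eq
    intro x
    exact (fibreDim_opcycles_eventually_eq P hP p x (h x)).mono fun y hy => hy.2

section Euler

variable {A : Type u} [CommRing A]

lemma isZero_homology_of_isZero_X {C : Type*} [Category C] [Abelian C] {ι : Type*}
    {c : ComplexShape ι} (K : HomologicalComplex C c) (i : ι)
    (h : IsZero (K.X i)) : IsZero (K.homology i) :=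
  IsZero.of_mono (K.homologyι i) (IsZero.of_epi (K.pOpcycles i) h)

lemma dRank_eq_zero_of_isZero {ι : Type} {c : ComplexShape ι}
    (P : HomologicalComplex (ModuleCat.{u} A) c) (i : ι) (h : IsZero (P.X i))
    (x : PrimeSpectrum A) : CohIII.dRank P i x = 0 := by
  unfold CohIII.dRank
  have h1 : IsZero ((CohIII.bcCx (algebraMap A x.asIdeal.ResidueField) P).X i) :=
    Functor.map_isZero (ModuleCat.extendScalars (algebraMap A x.asIdeal.ResidueField)) h
  have h2 := isZero_homology_of_isZero_X _ i h1
  have := ModuleCat.subsingleton_of_isZero h2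
  exact Module.finrank_zero_of_subsingleton

lemma fibreDim_eq_zero_of_subsingleton (C : Type*) [AddCommGroup C] [Module A C] [Subsingleton C]
    (x : PrimeSpectrum A) : fibreDim C x = 0 := by
  unfold fibreDim
  exact Module.finrank_zero_of_subsingleton

lemma shift_sum (s t : Finset ℤ) (hst : s.image (· + 1) ⊆ t) (f : ℤ → ℤ)
    (hf : ∀ i ∉ s, f i = 0) :
    ∑ i ∈ t, ((i.negOnePow : ℤˣ) : ℤ) * f (i - 1) =
      - ∑ j ∈ s, ((j.negOnePow : ℤˣ) : ℤ) * f j := by
  rw [← Finset.sum_subset hst]
  · rw [Finset.sum_image (by intro a _ b _ h; simpa using h), ← Finset.sum_neg_distrib]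
    refine Finset.sum_congr rfl fun j _ => ?_
    rw [Int.negOnePow_succ]
    simp
  · intro i _ hi
    have : i - 1 ∉ s := by
      intro h
      apply hi
      rw [Finset.mem_image]
      exact ⟨i - 1, h, by ring⟩
    rw [hf _ this, mul_zero]

lemma alt_sum_eq (s : Finset ℤ) (d x z : ℤ → ℤ)
    (hform : ∀ i, d i + x (i-1) = z i + z (i-1))
    (hd : ∀ i ∉ s, d i = 0) (hx : ∀ i ∉ s, x i = 0) (hz : ∀ i ∉ s, z i = 0) :
    ∑ i ∈ s, ((i.negOnePow : ℤˣ) : ℤ) * d i = ∑ i ∈ s, ((i.negOnePow : ℤˣ) : ℤ) * x i := by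
  set t := s ∪ s.image (· + 1) with ht
  have hst : s ⊆ t := Finset.subset_union_left
  have hst' : s.image (· + 1) ⊆ t := Finset.subset_union_right
  have h1 : ∑ i ∈ t, ((i.negOnePow : ℤˣ) : ℤ) * (d i + x (i - 1)) =
      ∑ i ∈ t, ((i.negOnePow : ℤˣ) : ℤ) * (z i + z (i - 1)) :=
    Finset.sum_congr rfl fun i _ => by rw [hform]
  simp only [mul_add, Finset.sum_add_distrib] at h1
  rw [shift_sum s t hst' x hx, shift_sum s t hst' z hz] at h1
  rw [← Finset.sum_subset hst (fun i _ hi => by rw [hd i hi, mul_zero]),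
    ← Finset.sum_subset hst (fun i _ hi => by rw [hz i hi, mul_zero])] at h1
  linarith

/-- Euler characteristic of the fibre ranks. -/
theorem euler_dRank (P : ChainComplex (ModuleCat.{u} A) ℤ) (hP : ∀ i, Module.Finite A (P.X i))
    (s : Finset ℤ) (hs : ∀ i, i ∉ s → IsZero (P.X i)) (x : PrimeSpectrum A) :
    (s.sum fun i => ((i.negOnePow : ℤˣ) : ℤ) * (CohIII.dRank P i x : ℤ)) =
      s.sum fun i => ((i.negOnePow : ℤˣ) : ℤ) * (fibreDim (P.X i) x : ℤ) := by
  refine alt_sum_eq s (fun i => (CohIII.dRank P i x : ℤ)) (fun i => (fibreDim (P.X i) x : ℤ))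
    (fun i => (fibreDim (P.opcycles i) x : ℤ)) ?_ ?_ ?_ ?_
  · intro i
    have := dRank_formula P hP i x
    push_cast [← this]
    exact_mod_cast this
  · intro i hi
    simp only [dRank_eq_zero_of_isZero P i (hs i hi) x, Nat.cast_zero]
  · intro i hi
    have := ModuleCat.subsingleton_of_isZero (hs i hi)
    simp only [fibreDim_eq_zero_of_subsingleton (P.X i) x, Nat.cast_zero]
  · intro i hi
    have := ModuleCat.subsingleton_of_isZero (IsZero.of_epi (P.pOpcycles i) (hs i hi))
    simp only [fibreDim_eq_zero_of_subsingleton (P.opcycles i) x, Nat.cast_zero]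

end Euler

section Constructible

variable {A : Type u} [CommRing A]

lemma fibreDim_le_card (C : Type*) [AddCommGroup C] [Module A C] (t : Finset C)
    (ht : Submodule.span A (t : Set C) = ⊤) (x : PrimeSpectrum A) : fibreDim C x ≤ t.card := by
  classical
  unfold fibreDim
  set κ := x.asIdeal.ResidueField
  have h := span_one_tmul_image C κ (t : Set C) ht
  rw [← finrank_top κ, ← h, ← Finset.coe_image]
  exact (finrank_span_finset_le_card _).trans Finset.card_image_le

variable [IsNoetherianRing A] (P : ChainComplex (ModuleCat.{u} A) ℤ)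

theorem dRank_eventually_le (hP : ∀ i, Module.Finite A (P.X i) ∧ Module.Flat A (P.X i)) (p : ℤ)
    (x : PrimeSpectrum A) : ∀ᶠ y in 𝓝 x, CohIII.dRank P p y ≤ CohIII.dRank P p x := by
  have hfin : ∀ i, Module.Finite A (P.X i) := fun i => (hP i).1
  have hflat : ∀ i, Module.Flat A (P.X i) := fun i => (hP i).2
  have hfo : ∀ i, Module.Finite A (P.opcycles i) := fun i => finite_opcycles P i
  have hfp : ∀ i, Module.FinitePresentation A (P.X i) := fun i =>
    Module.finitePresentation_of_finite A _
  filter_upwards [fibreDim_eventually_le (P.opcycles p) x,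
    fibreDim_eventually_le (P.opcycles (p - 1)) x,
    fibreDim_eventually_eq (P.X (p - 1)) x] with y h1 h2 h3
  have f1 := dRank_formula P hfin p y
  have f2 := dRank_formula P hfin p x
  omega

theorem upperSemicontinuous_dRank (hP : ∀ i, Module.Finite A (P.X i) ∧ Module.Flat A (P.X i))
    (p : ℤ) : UpperSemicontinuous (CohIII.dRank P p) := by
  intro x c hc
  filter_upwards [dRank_eventually_le P hP p x] with y hy
  exact lt_of_le_of_lt hy hc

omit [IsNoetherianRing A] in
theorem exists_dRank_le (hP : ∀ i, Module.Finite A (P.X i)) (p : ℤ) :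
    ∃ N : ℕ, ∀ x, CohIII.dRank P p x ≤ N := by
  have hfo : ∀ i, Module.Finite A (P.opcycles i) := fun i => finite_opcycles P i
  obtain ⟨t1, ht1⟩ := (hfo p).fg_top
  obtain ⟨t2, ht2⟩ := (hfo (p - 1)).fg_top
  refine ⟨t1.card + t2.card, fun x => ?_⟩
  have f1 := dRank_formula P hP p x
  have h1 := fibreDim_le_card (P.opcycles p) t1 ht1 x
  have h2 := fibreDim_le_card (P.opcycles (p - 1)) t2 ht2 x
  omega

theorem dRank_constructible (hP : ∀ i, Module.Finite A (P.X i) ∧ Module.Flat A (P.X i)) (p : ℤ) :
    (Set.range (CohIII.dRank P p)).Finite ∧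
      ∀ n : ℕ, Topology.IsConstructible {x : PrimeSpectrum A | CohIII.dRank P p x = n} := by
  constructor
  · obtain ⟨N, hN⟩ := exists_dRank_le P (fun i => (hP i).1) p
    refine (Set.finite_Iic N).subset ?_
    rintro _ ⟨x, rfl⟩
    exact hN x
  · intro n
    have husc := upperSemicontinuous_dRank P hP p
    rw [upperSemicontinuous_iff_isOpen_preimage] at husc
    have hc : ∀ m : ℕ, Topology.IsConstructible (CohIII.dRank P p ⁻¹' Set.Iio m) := fun m =>
      (TopologicalSpace.NoetherianSpace.isCompact _).isConstructible (husc m)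
    have : {x : PrimeSpectrum A | CohIII.dRank P p x = n} =
        (CohIII.dRank P p ⁻¹' Set.Iio (n + 1)) \ (CohIII.dRank P p ⁻¹' Set.Iio n) := by
      ext x
      simp only [Set.mem_setOf_eq, Set.mem_diff, Set.mem_preimage, Set.mem_Iio]
      omega
    rw [this]
    exact (hc (n + 1)).sdiff (hc n)

end Constructible

end Groth.Agent.Helper1.FlatCx
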