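import Mathlib
import Groth.Agent.Helper1.FlatCxDRank2

/-!
# Base change of complexes: squares of ring maps and flat base change of homology
-/

set_option autoImplicit false

namespace Groth.Agent.Helper1.FlatCx

open CategoryTheory CategoryTheory.Limits TensorProduct Groth.Agent.Helper1.FibreDim

universe u

variable {A : Type u} [CommRing A] {ι : Type} {c : ComplexShape ι}

lemma preservesHomology_extendScalars_of_flat {B : Type u} [CommRing B] (g : A →+* B)
    (hg : g.Flat) : (ModuleCat.extendScalars.{u, u, u} g).PreservesHomology := by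
  have h1 : PreservesFiniteLimits (ModuleCat.extendScalars.{u, u, u} g) :=
    ModuleCat.preservesFiniteLimits_extendScalars_of_flat hg
  have h2 : PreservesFiniteColimits (ModuleCat.extendScalars.{u, u, u} g) := inferInstance
  have := ((Functor.exact_tfae (ModuleCat.extendScalars.{u, u, u} g)).out 3 2)
  exact this.mp ⟨h1, h2⟩

/-- Flat base change commutes with homology. -/
noncomputable def bcHomologyIso {B : Type u} [CommRing B] (g : A →+* B) (hg : g.Flat)
    (K : HomologicalComplex (ModuleCat.{u} A) c) (p : ι) :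
    (CohIII.bcCx g K).homology p ≅ (ModuleCat.extendScalars g).obj (K.homology p) :=
  haveI := preservesHomology_extendScalars_of_flat g hg
  (K.sc p).mapHomologyIso (ModuleCat.extendScalars g)

section Square

variable {A₁ A₂ A₃ A₂' : Type u} [CommRing A₁] [CommRing A₂] [CommRing A₃] [CommRing A₂']
  (f₁₂ : A₁ →+* A₂) (f₂₃ : A₂ →+* A₃) (f₁₂' : A₁ →+* A₂') (f₂₃' : A₂' →+* A₃)
  (h : f₂₃.comp f₁₂ = f₂₃'.comp f₁₂')

/-- Extension of scalars along the two paths of a commutative square of ring maps. -/
noncomputable def extendScalarsSquare :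
    ModuleCat.extendScalars.{u,u,u} f₁₂ ⋙ ModuleCat.extendScalars.{u,u,u} f₂₃ ≅
      ModuleCat.extendScalars.{u,u,u} f₁₂' ⋙ ModuleCat.extendScalars.{u,u,u} f₂₃' :=
  (ModuleCat.extendScalarsComp f₁₂ f₂₃).symm ≪≫ eqToIso (by rw [h]) ≪≫
    ModuleCat.extendScalarsComp f₁₂' f₂₃'

/-- Base change of complexes along the two paths of a commutative square of ring maps. -/
noncomputable def bcCxSquare (P : HomologicalComplex (ModuleCat.{u} A₁) c) :
    CohIII.bcCx f₂₃ (CohIII.bcCx f₁₂ P) ≅ CohIII.bcCx f₂₃' (CohIII.bcCx f₁₂' P) :=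
  HomologicalComplex.Hom.isoOfComponents
    (fun i => (extendScalarsSquare f₁₂ f₂₃ f₁₂' f₂₃' h).app (P.X i))
    (fun i j _ => ((extendScalarsSquare f₁₂ f₂₃ f₁₂' f₂₃' h).hom.naturality (P.d i j)).symm)

end Square

/-- The fibre ranks are compatible with base change (EGA III 7.8.?). -/
theorem dRank_baseChange {A A' : Type u} [CommRing A] [CommRing A'] [Algebra A A']
    (P : HomologicalComplex (ModuleCat.{u} A) c) (p : ι) (x' : PrimeSpectrum A') :
    CohIII.dRank (CohIII.bcCx (algebraMap A A') P) p x' =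
      CohIII.dRank P p (PrimeSpectrum.comap (algebraMap A A') x') := by
  set x := PrimeSpectrum.comap (algebraMap A A') x'
  set κ := x.asIdeal.ResidueField
  set κ' := x'.asIdeal.ResidueField
  let g : κ →+* κ' := Ideal.ResidueField.map x.asIdeal x'.asIdeal (algebraMap A A') rfl
  letI : Algebra κ κ' := g.toAlgebra
  have hsq : (algebraMap A' κ').comp (algebraMap A A') = g.comp (algebraMap A κ) := by
    ext a
    exact (Ideal.ResidueField.map_algebraMap x.asIdeal x'.asIdeal (algebraMap A A') rfl a).symm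
  have hg : g.Flat := by
    show Module.Flat κ κ'
    infer_instance
  set K := CohIII.bcCx (algebraMap A κ) P
  unfold CohIII.dRank
  have e1 := (HomologicalComplex.homologyMapIso
    (bcCxSquare (algebraMap A A') (algebraMap A' κ') (algebraMap A κ) g hsq P) p).toLinearEquiv
  have e2 := (bcHomologyIso g hg K p).toLinearEquiv
  rw [e1.finrank_eq, e2.finrank_eq]
  have e3 := finrank_extendScalars (R := κ) (S := κ') (K.homology p)
  exact e3.trans (Module.finrank_baseChange)

end Groth.Agent.Helper1.FlatCx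

namespace Groth.Agent.Helper1.FlatCx

open CategoryTheory CategoryTheory.Limits TensorProduct

universe u

section BCFlat

variable {A : Type u} [CommRing A] (B : Type u) [CommRing B] [Algebra A B]
variable (P : ChainComplex (ModuleCat.{u} A) ℤ)

lemma flat_extendScalars (M : ModuleCat.{u} A) [Module.Flat A M] :
    Module.Flat B ((ModuleCat.extendScalars (algebraMap A B)).obj M) :=
  Module.Flat.of_linearEquiv (extendScalarsEquiv (S := B) M)

lemma flat_bcCx_X (hP : ∀ i, Module.Flat A (P.X i)) (i : ℤ) :
    Module.Flat B ((CohIII.bcCx (algebraMap A B) P).X i) :=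
  haveI := hP i
  flat_extendScalars B (P.X i)

lemma flat_bcCx_opcycles_iff (i : ℤ) :
    Module.Flat B ((CohIII.bcCx (algebraMap A B) P).opcycles i) ↔
      Module.Flat B (B ⊗[A] P.opcycles i) := by
  let e : (CohIII.bcCx (algebraMap A B) P).opcycles i ≃ₗ[B] B ⊗[A] P.opcycles i :=
    (bcOpcyclesIso (algebraMap A B) P i).toLinearEquiv ≪≫ₗ extendScalarsEquiv (S := B) _
  exact ⟨fun _ => Module.Flat.of_linearEquiv e.symm, fun _ => Module.Flat.of_linearEquiv e⟩

/-- `T_p` of the base-changed complex preserves monomorphisms iff `B ⊗ Z'_p(P)` is `B`-flat. -/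
theorem preservesMono_bcCx_iff (hP : ∀ i, Module.Flat A (P.X i)) (p : ℤ) :
    (CohIII.TFun (CohIII.bcCx (algebraMap A B) P) p).PreservesMonomorphisms ↔
      Module.Flat B (B ⊗[A] P.opcycles p) :=
  (chain_preservesMono_iff (CohIII.bcCx (algebraMap A B) P) (flat_bcCx_X B P hP) p).trans
    (flat_bcCx_opcycles_iff B P p)

/-- `T_p` of the base-changed complex preserves epimorphisms iff `B ⊗ Z'_{p-1}(P)` is `B`-flat. -/
theorem preservesEpi_bcCx_iff (hP : ∀ i, Module.Flat A (P.X i)) (p : ℤ) :
    (CohIII.TFun (CohIII.bcCx (algebraMap A B) P) p).PreservesEpimorphisms ↔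
      Module.Flat B (B ⊗[A] P.opcycles (p - 1)) :=
  (chain_preservesEpi_iff (CohIII.bcCx (algebraMap A B) P) (flat_bcCx_X B P hP) p (p - 1)
    (by ring)).trans (flat_bcCx_opcycles_iff B P (p - 1))

theorem preservesMono_bcCx (hP : ∀ i, Module.Flat A (P.X i)) (p : ℤ)
    (h : (CohIII.TFun P p).PreservesMonomorphisms) :
    (CohIII.TFun (CohIII.bcCx (algebraMap A B) P) p).PreservesMonomorphisms := by
  rw [preservesMono_bcCx_iff B P hP p]
  haveI := (chain_preservesMono_iff P hP p).mp h
  infer_instance

theorem preservesEpi_bcCx (hP : ∀ i, Module.Flat A (P.X i)) (p : ℤ)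
    (h : (CohIII.TFun P p).PreservesEpimorphisms) :
    (CohIII.TFun (CohIII.bcCx (algebraMap A B) P) p).PreservesEpimorphisms := by
  rw [preservesEpi_bcCx_iff B P hP p]
  haveI := (chain_preservesEpi_iff P hP p (p - 1) (by ring)).mp h
  infer_instance

theorem preservesMono_bcCx_iff_of_faithfullyFlat [Module.FaithfullyFlat A B]
    (hP : ∀ i, Module.Flat A (P.X i)) (p : ℤ) :
    (CohIII.TFun (CohIII.bcCx (algebraMap A B) P) p).PreservesMonomorphisms ↔
      (CohIII.TFun P p).PreservesMonomorphisms := by
  rw [preservesMono_bcCx_iff B P hP p, chain_preservesMono_iff P hP p]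
  exact Module.Flat.iff_flat_tensorProduct A (P.opcycles p) B

theorem preservesEpi_bcCx_iff_of_faithfullyFlat [Module.FaithfullyFlat A B]
    (hP : ∀ i, Module.Flat A (P.X i)) (p : ℤ) :
    (CohIII.TFun (CohIII.bcCx (algebraMap A B) P) p).PreservesEpimorphisms ↔
      (CohIII.TFun P p).PreservesEpimorphisms := by
  rw [preservesEpi_bcCx_iff B P hP p, chain_preservesEpi_iff P hP p (p - 1) (by ring)]
  exact Module.Flat.iff_flat_tensorProduct A (P.opcycles (p - 1)) B

end BCFlat

end Groth.Agent.Helper1.FlatCx
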