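import Mathlib
import Groth.Agent.Helper1.FlatCxBC

/-!
# Base change of homology when `Z'_{p-1}` is flat: `H_p(P_B) ≅ B ⊗ H_p(P)`
-/

set_option autoImplicit false

namespace Groth.Agent.Helper1.FlatCx

open CategoryTheory CategoryTheory.Limits TensorProduct Function

universe u

section LinAlg

variable {R S : Type u} [CommRing R] [CommRing S] [Algebra R S]

lemma extendScalarsEquiv_map_symm {M N : ModuleCat.{u} R} (f : M ⟶ N) (y : S ⊗[R] M) :
    extendScalarsEquiv (S := S) N (((ModuleCat.extendScalars (algebraMap R S)).map f).hom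
      ((extendScalarsEquiv (S := S) M).symm y)) = f.hom.lTensor S y := by
  induction y using TensorProduct.induction_on with
  | zero => rw [map_zero, map_zero, map_zero, map_zero]
  | tmul s m => rfl
  | add a b ha hb => rw [map_add, map_add, map_add, map_add, ha, hb]

lemma extendScalarsEquiv_map {M N : ModuleCat.{u} R} (f : M ⟶ N)
    (x : (ModuleCat.extendScalars (algebraMap R S)).obj M) :
    extendScalarsEquiv (S := S) N (((ModuleCat.extendScalars (algebraMap R S)).map f).hom x) =
      f.hom.lTensor S (extendScalarsEquiv (S := S) M x) := by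
  have := extendScalarsEquiv_map_symm (S := S) f (extendScalarsEquiv (S := S) M x)
  rwa [LinearEquiv.symm_apply_apply] at this


lemma extendScalars_injective_iff {M N : ModuleCat.{u} R} (f : M ⟶ N) :
    Injective ((ModuleCat.extendScalars (algebraMap R S)).map f).hom ↔
      Injective (f.hom.lTensor S) := by
  have h : ∀ x, extendScalarsEquiv (S := S) N
      (((ModuleCat.extendScalars (algebraMap R S)).map f).hom x) =
      f.hom.lTensor S (extendScalarsEquiv (S := S) M x) := extendScalarsEquiv_map f
  constructor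
  · intro hi a b hab
    obtain ⟨a, rfl⟩ := (extendScalarsEquiv (S := S) M).surjective a
    obtain ⟨b, rfl⟩ := (extendScalarsEquiv (S := S) M).surjective b
    rw [← h, ← h] at hab
    rw [hi ((extendScalarsEquiv (S := S) N).injective hab)]
  · intro hi a b hab
    apply (extendScalarsEquiv (S := S) M).injective
    apply hi
    rw [← h, ← h, hab]

lemma extendScalars_exact_iff {M N L : ModuleCat.{u} R} (f : M ⟶ N) (g : N ⟶ L) :
    Exact ((ModuleCat.extendScalars (algebraMap R S)).map f).hom
        ((ModuleCat.extendScalars (algebraMap R S)).map g).hom ↔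
      Exact (f.hom.lTensor S) (g.hom.lTensor S) := by
  have hf := extendScalarsEquiv_map (S := S) f
  have hg := extendScalarsEquiv_map (S := S) g
  constructor
  · intro he y
    obtain ⟨y, rfl⟩ := (extendScalarsEquiv (S := S) N).surjective y
    rw [← hg, LinearEquiv.map_eq_zero_iff, he y]
    constructor
    · rintro ⟨x, hx⟩
      exact ⟨extendScalarsEquiv (S := S) M x, by rw [← hf, hx]⟩
    · rintro ⟨x, hx⟩
      obtain ⟨x, rfl⟩ := (extendScalarsEquiv (S := S) M).surjective x
      rw [← hf] at hx
      exact ⟨x, (extendScalarsEquiv (S := S) N).injective hx⟩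
  · intro he y
    rw [← LinearEquiv.map_eq_zero_iff (extendScalarsEquiv (S := S) L), hg, he _]
    constructor
    · rintro ⟨x, hx⟩
      obtain ⟨x, rfl⟩ := (extendScalarsEquiv (S := S) M).surjective x
      rw [← hf] at hx
      exact ⟨x, (extendScalarsEquiv (S := S) N).injective hx⟩
    · rintro ⟨x, hx⟩
      exact ⟨extendScalarsEquiv (S := S) M x, by rw [← hf, hx]⟩

lemma exact_lTensor_of_flat_coker {A : Type u} [CommRing A] {H Z X : Type*} [AddCommGroup H] [Module A H] [AddCommGroup Z]
    [Module A Z] [AddCommGroup X] [Module A X] (ι : H →ₗ[A] Z) (φ : Z →ₗ[A] X)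
    (hι : Injective ι) (hex : Exact ι φ) [Module.Flat A X]
    [Module.Flat A (X ⧸ LinearMap.range φ)] (M : Type*) [AddCommGroup M] [Module A M] :
    Injective (ι.lTensor M) ∧ Exact (ι.lTensor M) (φ.lTensor M) := by
  obtain ⟨h1, h2⟩ := exact_rTensor_of_flat_coker ι φ hι hex M
  refine ⟨(LinearMap.lTensor_inj_iff_rTensor_inj _ _).mpr h1, ?_⟩
  have e1 : ∀ x, ι.lTensor M x = TensorProduct.comm A Z M (ι.rTensor M (TensorProduct.comm A M H x)) := by
    intro x
    induction x using TensorProduct.induction_on with
    | zero => simp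
    | tmul a b => rfl
    | add a b ha hb => simp only [map_add, ha, hb]
  have e2 : ∀ x, φ.lTensor M x = TensorProduct.comm A X M (φ.rTensor M (TensorProduct.comm A M Z x)) := by
    intro x
    induction x using TensorProduct.induction_on with
    | zero => simp
    | tmul a b => rfl
    | add a b ha hb => simp only [map_add, ha, hb]
  intro y
  rw [e2, LinearEquiv.map_eq_zero_iff, h2 _]
  constructor
  · rintro ⟨x, hx⟩
    refine ⟨(TensorProduct.comm A M H).symm x, ?_⟩
    rw [e1, LinearEquiv.apply_symm_apply, hx]
    exact (TensorProduct.comm A M Z).symm_apply_apply y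
  · rintro ⟨x, hx⟩
    refine ⟨TensorProduct.comm A M H x, ?_⟩
    rw [← hx, e1]
    exact ((TensorProduct.comm A M Z).apply_symm_apply _).symm

end LinAlg

section Iso

variable {A : Type u} [CommRing A] (B : Type u) [CommRing B] [Algebra A B]
variable {ι : Type} {c : ComplexShape ι} (P : HomologicalComplex (ModuleCat.{u} A) c) (p j : ι)

/-- The identity isomorphism `(P_B)_i ≅ B ⊗ P_i`. -/
noncomputable def bcXIso (i : ι) : (CohIII.bcCx (algebraMap A B) P).X i ≅
    (ModuleCat.extendScalars (algebraMap A B)).obj (P.X i) := Iso.refl _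

@[reassoc]
lemma bcCx_d (i j : ι) :
    (CohIII.bcCx (algebraMap A B) P).d i j ≫ (bcXIso B P j).hom =
      (bcXIso B P i).hom ≫ (ModuleCat.extendScalars (algebraMap A B)).map (P.d i j) := by
  simp only [bcXIso, Iso.refl_hom]
  exact (Category.comp_id _).trans (Category.id_comp _).symm

@[reassoc]
lemma pOpcycles_bcOpcyclesIso_hom :
    (CohIII.bcCx (algebraMap A B) P).pOpcycles p ≫ (bcOpcyclesIso (algebraMap A B) P p).hom =
      (bcXIso B P p).hom ≫ (ModuleCat.extendScalars (algebraMap A B)).map (P.pOpcycles p) := by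
  simp only [bcXIso, Iso.refl_hom]
  refine Eq.trans ?_ (Category.id_comp _).symm
  exact IsColimit.comp_coconePointUniqueUpToIso_hom
    ((CohIII.bcCx (algebraMap A B) P).opcyclesIsCokernel (c.prev p) p rfl)
    (CokernelCofork.mapIsColimit _ (P.opcyclesIsCokernel (c.prev p) p rfl)
      (ModuleCat.extendScalars (algebraMap A B)))
    WalkingParallelPair.one

@[reassoc]
lemma bcOpcyclesIso_hom_fromOpcycles :
    (bcOpcyclesIso (algebraMap A B) P p).hom ≫
        (ModuleCat.extendScalars (algebraMap A B)).map (P.fromOpcycles p j) =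
      (CohIII.bcCx (algebraMap A B) P).fromOpcycles p j ≫ (bcXIso B P j).hom := by
  rw [← cancel_epi ((CohIII.bcCx (algebraMap A B) P).pOpcycles p),
    pOpcycles_bcOpcyclesIso_hom_assoc, HomologicalComplex.p_fromOpcycles_assoc, bcCx_d,
    ← Functor.map_comp, HomologicalComplex.p_fromOpcycles]

end Iso

section Ker

variable {A : Type u} [CommRing A] (B : Type u) [CommRing B] [Algebra A B]
variable {ι : Type} {c : ComplexShape ι} (P : HomologicalComplex (ModuleCat.{u} A) c) (p j : ι)
variable (hj : c.next p = j) (hp : c.prev j = p) (hXj : Module.Flat A (P.X j))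
  (hO : Module.Flat A (P.opcycles j))

include hj hp hXj hO in
lemma bc_exact :
    Injective ((ModuleCat.extendScalars (algebraMap A B)).map (P.homologyι p)).hom ∧
      Exact ((ModuleCat.extendScalars (algebraMap A B)).map (P.homologyι p)).hom
        ((ModuleCat.extendScalars (algebraMap A B)).map (P.fromOpcycles p j)).hom := by
  haveI : Module.Flat A (P.X j ⧸ LinearMap.range (P.fromOpcycles p j).hom) := by
    rw [range_fromOpcycles]
    exact flat_quotient_range_d P p j hp hO
  have hex : Function.Exact (P.homologyι p).hom (P.fromOpcycles p j).hom := by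
    have hS : (ShortComplex.mk _ _ (P.homologyι_comp_fromOpcycles p j)).Exact :=
      ShortComplex.exact_of_f_is_kernel _ (P.homologyIsKernel p j hj)
    exact (ShortComplex.ShortExact.moduleCat_exact_iff_function_exact _).mp hS
  obtain ⟨h1, h2⟩ := exact_lTensor_of_flat_coker (P.homologyι p).hom (P.fromOpcycles p j).hom
    ((ModuleCat.mono_iff_injective _).mp inferInstance) hex B
  exact ⟨(extendScalars_injective_iff _).mpr h1, (extendScalars_exact_iff _ _).mpr h2⟩

lemma bc_zero_aux :
    ((ModuleCat.extendScalars (algebraMap A B)).map (P.homologyι p) ≫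
      (bcOpcyclesIso (algebraMap A B) P p).inv) ≫
        (CohIII.bcCx (algebraMap A B) P).fromOpcycles p j = 0 := by
  apply (cancel_mono (bcXIso B P j).hom).1
  rw [Category.assoc, Category.assoc, ← bcOpcyclesIso_hom_fromOpcycles, Iso.inv_hom_id_assoc,
    ← Functor.map_comp, P.homologyι_comp_fromOpcycles, Functor.map_zero, zero_comp]

include hj hp hXj hO in
lemma bc_exact_aux :
    (ShortComplex.mk _ _ (bc_zero_aux B P p j)).Exact ∧
      Mono ((ModuleCat.extendScalars (algebraMap A B)).map (P.homologyι p) ≫
        (bcOpcyclesIso (algebraMap A B) P p).inv) := by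
  obtain ⟨h1, h2⟩ := bc_exact B P p j hj hp hXj hO
  constructor
  · rw [ShortComplex.moduleCat_exact_iff]
    intro x hx
    dsimp at x hx ⊢
    have h3 : ((ModuleCat.extendScalars (algebraMap A B)).map (P.fromOpcycles p j)).hom
        ((bcOpcyclesIso (algebraMap A B) P p).hom.hom x) = 0 := by
      have := congrArg (fun g => g.hom x) (bcOpcyclesIso_hom_fromOpcycles B P p j)
      simp only [ModuleCat.hom_comp, LinearMap.comp_apply] at this
      rw [this]
      have hx' : ((CohIII.bcCx (algebraMap A B) P).fromOpcycles p j).hom x = 0 := hx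
      rw [hx', map_zero]
    obtain ⟨y, hy⟩ := (h2 _).mp h3
    refine ⟨y, ?_⟩
    show (bcOpcyclesIso (algebraMap A B) P p).inv.hom
      (((ModuleCat.extendScalars (algebraMap A B)).map (P.homologyι p)).hom y) = x
    rw [hy, ← LinearMap.comp_apply, ← ModuleCat.hom_comp, Iso.hom_inv_id]
    rfl
  · haveI : Mono ((ModuleCat.extendScalars (algebraMap A B)).map (P.homologyι p)) :=
      (ModuleCat.mono_iff_injective _).mpr h1
    infer_instance

/-- If `Z'_j(P)` (and `P_j`) is flat, `j` the index following `p`, then
`B ⊗ H_p(P) ≅ H_p(P_B)` for every `A`-algebra `B`. -/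
noncomputable def bcHomologyIsoOfFlatOpcycles :
    (ModuleCat.extendScalars (algebraMap A B)).obj (P.homology p) ≅
      (CohIII.bcCx (algebraMap A B) P).homology p :=
  haveI := (bc_exact_aux B P p j hj hp hXj hO).2
  IsLimit.conePointUniqueUpToIso ((bc_exact_aux B P p j hj hp hXj hO).1.fIsKernel)
    ((CohIII.bcCx (algebraMap A B) P).homologyIsKernel p j hj)

end Ker

section Chain

open MonoidalCategory Groth.Agent.Helper1.FibreDim

variable {A : Type u} [CommRing A] {ι : Type} {c : ComplexShape ι}

/-- `P ⊗ A ≅ P`. -/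
noncomputable def tensorObjUnitIso (P : HomologicalComplex (ModuleCat.{u} A) c) :
    CohIII.tensorObj P (ModuleCat.of A A) ≅ P :=
  HomologicalComplex.Hom.isoOfComponents (fun i => ρ_ (P.X i))
    (fun i j _ => (rightUnitor_naturality (P.d i j)).symm)

/-- `T_p(A) ≅ H_p(P)` (unconditionally). -/
noncomputable def TAIso' (P : HomologicalComplex (ModuleCat.{u} A) c) (p : ι) :
    (CohIII.TFun P p).obj (ModuleCat.of A A) ≅ P.homology p :=
  HomologicalComplex.homologyMapIso (tensorObjUnitIso P) p

variable (P : ChainComplex (ModuleCat.{u} A) ℤ) (hP : ∀ i, Module.Flat A (P.X i))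

include hP in
/-- If `T_p` preserves epimorphisms then `H_p(P_B) ≃ B ⊗ H_p(P)` for every `A`-algebra `B`. -/
theorem nonempty_bcHomology_equiv (B : Type u) [CommRing B] [Algebra A B] (p : ℤ)
    (h : (CohIII.TFun P p).PreservesEpimorphisms) :
    Nonempty ((CohIII.bcCx (algebraMap A B) P).homology p ≃ₗ[B] B ⊗[A] P.homology p) := by
  have hO := (chain_preservesEpi_iff P hP p (p - 1) (by ring)).mp h
  exact ⟨(bcHomologyIsoOfFlatOpcycles B P p (p - 1) (by simp) (by simp) (hP _)
    hO).toLinearEquiv.symm ≪≫ₗ extendScalarsEquiv _⟩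

include hP in
theorem dRank_eq_fibreDim_homology (p : ℤ) (h : (CohIII.TFun P p).PreservesEpimorphisms)
    (x : PrimeSpectrum A) : CohIII.dRank P p x = fibreDim (P.homology p) x := by
  obtain ⟨e⟩ := nonempty_bcHomology_equiv P hP x.asIdeal.ResidueField p h
  exact e.finrank_eq

include hP in
/-- EGA III 7.8.4 without finiteness of the terms. -/
theorem isLocallyConstant_dRank_of_exact_of_fp (p : ℤ)
    (hex : (CohIII.TFun P p).PreservesMonomorphisms ∧ (CohIII.TFun P p).PreservesEpimorphisms)
    (hfp : Module.FinitePresentation A (P.homology p)) :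
    IsLocallyConstant (CohIII.dRank P p) := by
  haveI := flat_homology_of_exact P hP p hex
  rw [IsLocallyConstant.iff_eventually_eq]
  intro x
  filter_upwards [fibreDim_eventually_eq (P.homology p) x] with y hy
  rw [dRank_eq_fibreDim_homology P hP p hex.2, dRank_eq_fibreDim_homology P hP p hex.2, hy]

end Chain

end Groth.Agent.Helper1.FlatCx
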