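import Mathlib
import Groth.Agent.Helper1.TorOne

/-!
# Naturality of the `Tor` long exact sequence and of balancing in the complex variable
-/

set_option autoImplicit false

namespace Groth.Agent.Helper1.TorLib

open CategoryTheory CategoryTheory.Limits MonoidalCategory Groth.Agent.Helper1.FlatCx

universe u

variable {A : Type u} [CommRing A]

section ComplexVariable

variable {ι : Type} {c : ComplexShape ι} {P P' : HomologicalComplex (ModuleCat.{u} A) c}
  (ψ : P ⟶ P')

/-- `ψ ⊗ M : P ⊗ M ⟶ P' ⊗ M` for a chain map `ψ`. -/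
noncomputable abbrev tL (M : ModuleCat.{u} A) : CohIII.tensorObj P M ⟶ CohIII.tensorObj P' M :=
  ((tensorRight M).mapHomologicalComplex c).map ψ

@[reassoc]
lemma tL_f (M : ModuleCat.{u} A) (i : ι) :
    (tL ψ M).f i ≫ (XIso P' M i).hom = (XIso P M i).hom ≫ ψ.f i ▷ M := by
  simp only [XIso, Iso.refl_hom]
  exact (Category.comp_id _).trans (Category.id_comp _).symm

@[reassoc]
lemma tL_tensorMap {M N : ModuleCat.{u} A} (g : M ⟶ N) :
    tL ψ M ≫ CohIII.tensorMap P' g = CohIII.tensorMap P g ≫ tL ψ N := by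
  ext i : 1
  exact (whisker_exchange (ψ.f i) g).symm

/-- The map `T_p^P(M) ⟶ T_p^{P'}(M)` induced by a chain map. -/
noncomputable def TmapL (p : ι) (M : ModuleCat.{u} A) :
    (CohIII.TFun P p).obj M ⟶ (CohIII.TFun P' p).obj M :=
  HomologicalComplex.homologyMap (tL ψ M) p

/-- `T_p` is functorial in the complex. -/
@[reassoc]
lemma TFun_map_tL (p : ι) {M N : ModuleCat.{u} A} (g : M ⟶ N) :
    TmapL ψ p M ≫ (CohIII.TFun P' p).map g =
      (CohIII.TFun P p).map g ≫ TmapL ψ p N := by
  show HomologicalComplex.homologyMap (tL ψ M) p ≫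
      HomologicalComplex.homologyMap (CohIII.tensorMap P' g) p =
    HomologicalComplex.homologyMap (CohIII.tensorMap P g) p ≫
      HomologicalComplex.homologyMap (tL ψ N) p
  rw [← HomologicalComplex.homologyMap_comp, ← HomologicalComplex.homologyMap_comp, tL_tensorMap]

/-- The connecting homomorphism is natural in the complex. -/
@[reassoc]
lemma δ_natP (hP : ∀ i, Module.Flat A (P.X i)) (hP' : ∀ i, Module.Flat A (P'.X i))
    {S : ShortComplex (ModuleCat.{u} A)} (hS : S.ShortExact) (i j : ι) (hij : c.Rel i j) :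
    δ P hP hS i j hij ≫ TmapL ψ j S.X₁ = TmapL ψ i S.X₃ ≫ δ P' hP' hS i j hij := by
  let φ : S.map (tensorFunctor P) ⟶ S.map (tensorFunctor P') :=
    { τ₁ := tL ψ S.X₁
      τ₂ := tL ψ S.X₂
      τ₃ := tL ψ S.X₃
      comm₁₂ := tL_tensorMap ψ S.f
      comm₂₃ := tL_tensorMap ψ S.g }
  exact HomologicalComplex.HomologySequence.δ_naturality φ
    (shortExact_map_tensorFunctor P hP hS) (shortExact_map_tensorFunctor P' hP' hS) i j hij

/-- `opcyclesIso` is natural in the complex. -/
@[reassoc]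
lemma opcyclesIso_hom_natP (p : ι) (M : ModuleCat.{u} A) :
    HomologicalComplex.opcyclesMap (tL ψ M) p ≫ (opcyclesIso P' p M).hom =
      (opcyclesIso P p M).hom ≫ HomologicalComplex.opcyclesMap ψ p ▷ M := by
  rw [← cancel_epi ((CohIII.tensorObj P M).pOpcycles p), HomologicalComplex.p_opcyclesMap_assoc,
    pOpcycles_opcyclesIso_hom, pOpcycles_opcyclesIso_hom_assoc, tL_f_assoc,
    ← comp_whiskerRight, ← comp_whiskerRight, HomologicalComplex.p_opcyclesMap]

end ComplexVariable

section Nat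

variable {P P' : ChainComplex (ModuleCat.{u} A) ℕ} (ψ : P ⟶ P')

/-- `T0Iso` is natural in the complex. -/
@[reassoc]
lemma T0Iso_natP (M : ModuleCat.{u} A) :
    TmapL ψ 0 M ≫ (T0Iso P' M).hom =
      (T0Iso P M).hom ≫ HomologicalComplex.opcyclesMap ψ 0 ▷ M := by
  show HomologicalComplex.homologyMap (tL ψ M) 0 ≫
      ((CohIII.tensorObj P' M).homologyι 0 ≫ (opcyclesIso P' 0 M).hom) =
    ((CohIII.tensorObj P M).homologyι 0 ≫ (opcyclesIso P 0 M).hom) ≫ _
  rw [HomologicalComplex.homologyι_naturality_assoc, opcyclesIso_hom_natP, Category.assoc]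

end Nat


section TorSecondVariable

variable {N N' : ModuleCat.{u} A} (f : N ⟶ N') (Q : ProjectiveResolution N)
  (Q' : ProjectiveResolution N') (φ : Q.complex ⟶ Q'.complex)

lemma tensorLeftCxIso_natQ (M : ModuleCat.{u} A) :
    (((tensoringLeft (ModuleCat.{u} A)).obj M).mapHomologicalComplex _).map φ ≫
      (tensorLeftCxIso Q'.complex M).hom = (tensorLeftCxIso Q.complex M).hom ≫ tL φ M :=
  (NatIso.mapHomologicalComplex (BraidedCategory.tensorLeftIsoTensorRight M) _).hom.naturality φ

/-- `torIsoT` is natural in the second variable (with respect to a lift of `f`). -/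
@[reassoc]
lemma torIsoT_natN (comm : φ.f 0 ≫ Q'.π.f 0 = Q.π.f 0 ≫ f) (n : ℕ) (M : ModuleCat.{u} A) :
    ((Tor (ModuleCat.{u} A) n).obj M).map f ≫ (torIsoT Q' n M).hom =
      (torIsoT Q n M).hom ≫ TmapL φ n M := by
  have h := ProjectiveResolution.isoLeftDerivedObj_hom_naturality f Q Q' φ comm
    ((tensoringLeft (ModuleCat.{u} A)).obj M) n
  have h2 : (HomologicalComplex.homologyFunctor _ _ n).map
      ((((tensoringLeft (ModuleCat.{u} A)).obj M).mapHomologicalComplex _).map φ) ≫
      (HomologicalComplex.homologyFunctor _ _ n).map (tensorLeftCxIso Q'.complex M).hom =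
      (HomologicalComplex.homologyFunctor _ _ n).map (tensorLeftCxIso Q.complex M).hom ≫
      (HomologicalComplex.homologyFunctor _ _ n).map (tL φ M) := by
    rw [← Functor.map_comp, ← Functor.map_comp, tensorLeftCxIso_natQ]
  exact (Category.assoc _ _ _).symm.trans ((congrArg (· ≫ _) h).trans
    ((Category.assoc _ _ _).trans ((congrArg (_ ≫ ·) h2).trans (Category.assoc _ _ _).symm)))

@[reassoc]
lemma torIsoT_inv_natN (comm : φ.f 0 ≫ Q'.π.f 0 = Q.π.f 0 ≫ f) (n : ℕ) (M : ModuleCat.{u} A) :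
    (torIsoT Q n M).inv ≫ ((Tor (ModuleCat.{u} A) n).obj M).map f =
      TmapL φ n M ≫ (torIsoT Q' n M).inv := by
  have h := torIsoT_natN f Q Q' φ comm n M
  refine (Iso.inv_comp_eq (torIsoT Q n M)).mpr ?_
  refine Eq.trans ?_ (Category.assoc _ _ _)
  exact (Iso.eq_comp_inv (torIsoT Q' n M)).mpr h

lemma opcyclesZeroIso_nat (comm : φ.f 0 ≫ Q'.π.f 0 = Q.π.f 0 ≫ f) :
    HomologicalComplex.opcyclesMap φ 0 ≫ (opcyclesZeroIso Q').hom = (opcyclesZeroIso Q).hom ≫ f := by
  rw [← cancel_epi (Q.complex.pOpcycles 0), HomologicalComplex.p_opcyclesMap_assoc,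
    pOpcycles_opcyclesZeroIso_hom, pOpcycles_opcyclesZeroIso_hom_assoc]
  exact comm

end TorSecondVariable

section TorDeltaNat

variable {S : ShortComplex (ModuleCat.{u} A)} (hS : S.ShortExact)

/-- The connecting homomorphism of `Tor` (first variable) is natural in the second variable. -/
@[reassoc]
lemma torδ_natN (n : ℕ) {N N' : ModuleCat.{u} A} (f : N ⟶ N') :
    torδ N hS n ≫ ((Tor (ModuleCat.{u} A) n).obj S.X₁).map f =
      ((Tor (ModuleCat.{u} A) (n + 1)).obj S.X₃).map f ≫ torδ N' hS n := by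
  have comm := ProjectiveResolution.lift_commutes_zero f (ProjectiveResolution.of N)
    (ProjectiveResolution.of N')
  unfold torδ
  rw [Category.assoc, Category.assoc, torIsoT_inv_natN f _ _ _ comm,
    δ_natP_assoc _ _ (flat_of_projectiveResolution (ProjectiveResolution.of N')),
    torIsoT_natN_assoc f _ _ _ comm]

/-- Functoriality of `Tor` in the first variable commutes with functoriality in the second. -/
lemma tor_map_comm (n : ℕ) {M M' N N' : ModuleCat.{u} A} (g : M ⟶ M') (f : N ⟶ N') :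
    ((Tor (ModuleCat.{u} A) n).map g).app N ≫ ((Tor (ModuleCat.{u} A) n).obj M').map f =
      ((Tor (ModuleCat.{u} A) n).obj M).map f ≫ ((Tor (ModuleCat.{u} A) n).map g).app N' :=
  (((Tor (ModuleCat.{u} A) n).map g).naturality f).symm

end TorDeltaNat

end Groth.Agent.Helper1.TorLib
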