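import Mathlib
import Groth.Agent.Helper1.TorNatural

/-!
# Explicit balancing isomorphism, natural in the first complex
-/

set_option autoImplicit false

namespace Groth.Agent.Helper1.TorLib

open CategoryTheory CategoryTheory.Limits MonoidalCategory Groth.Agent.Helper1.FlatCx

universe u

variable {A : Type u} [CommRing A]

section Shift

variable (P : ChainComplex (ModuleCat.{u} A) ℕ) (Q : ChainComplex (ModuleCat.{u} A) ℕ)
  (hP : ∀ i, Module.Flat A (P.X i)) (hQex : ∀ n, Q.ExactAt (n + 1))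

/-- The connecting map `T_{d+1}(Z_k Q) ⟶ T_d(Z_{k+1} Q)`. -/
noncomputable def δZ (k d : ℕ) :
    (CohIII.TFun P (d + 1)).obj (Q.opcycles k) ⟶ (CohIII.TFun P d).obj (Q.opcycles (k + 1)) :=
  δ P hP (opcyclesSC_shortExact Q (k + 1) k (by simp) (hQex k)) (d + 1) d (by simp)

lemma isIso_δZ (hQ : ∀ i, Module.Flat A (Q.X i)) (hPex : ∀ n, P.ExactAt (n + 1)) (k m : ℕ) :
    IsIso (δZ P Q hP hQex k (m + 1)) := by
  have hS := opcyclesSC_shortExact Q (k + 1) k (by simp) (hQex k)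
  haveI : Module.Flat A (opcyclesSC Q (k + 1) k).X₂ := hQ k
  exact isIso_δ_of_flat P hP hS (m + 1 + 1) (m + 1) (by simp) (hPex _) (hPex _)

/-- `δZ` at degree `0` is a kernel of `T_0(Z_{k+1} → Q_k)`. -/
lemma δZ_comp (k d : ℕ) :
    δZ P Q hP hQex k d ≫ (CohIII.TFun P d).map (Q.fromOpcycles (k + 1) k) = 0 :=
  δ_comp P hP (opcyclesSC_shortExact Q (k + 1) k (by simp) (hQex k)) (d + 1) d (by simp)

noncomputable def δZIsKernel (hQ : ∀ i, Module.Flat A (Q.X i)) (hPex : ∀ n, P.ExactAt (n + 1))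
    (k : ℕ) : IsLimit (KernelFork.ofι (δZ P Q hP hQex k 0) (δZ_comp P Q hP hQex k 0)) := by
  have hS := opcyclesSC_shortExact Q (k + 1) k (by simp) (hQex k)
  haveI : Module.Flat A (opcyclesSC Q (k + 1) k).X₂ := hQ k
  exact δIsKernel P hP hS 1 0 (by simp) (hPex 0)

/-- Iterated connecting maps `T_d(Z_0 Q) ⟶ T_{d'}(Z_k Q)` for `d = d' + k`. -/
noncomputable def shiftHom : ∀ (k d d' : ℕ), d = d' + k →
    ((CohIII.TFun P d).obj (Q.opcycles 0) ⟶ (CohIII.TFun P d').obj (Q.opcycles k))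
  | 0, d, d', h => eqToHom (by subst h; rfl)
  | k + 1, d, d', h => shiftHom k d (d' + 1) (by omega) ≫ δZ P Q hP hQex k d'

lemma isIso_shiftHom (hQ : ∀ i, Module.Flat A (Q.X i)) (hPex : ∀ n, P.ExactAt (n + 1)) :
    ∀ (k d m : ℕ) (h : d = (m + 1) + k), IsIso (shiftHom P Q hP hQex k d (m + 1) h) := by
  intro k
  induction k with
  | zero =>
    intro d m h
    unfold shiftHom
    infer_instance
  | succ k ih =>
    intro d m h
    unfold shiftHom
    haveI := ih d (m + 1) (by omega)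
    haveI := isIso_δZ P Q hP hQex hQ hPex k m
    exact IsIso.comp_isIso

variable {P} {P' : ChainComplex (ModuleCat.{u} A) ℕ} (hP' : ∀ i, Module.Flat A (P'.X i))
  (ψ : P ⟶ P')

@[reassoc]
lemma δZ_natP (k d : ℕ) :
    δZ P Q hP hQex k d ≫ TmapL ψ d (Q.opcycles (k + 1)) =
      TmapL ψ (d + 1) (Q.opcycles k) ≫ δZ P' Q hP' hQex k d :=
  δ_natP ψ hP hP' _ _ _ _

lemma TmapL_eqToHom {d d' : ℕ} (h : d = d') (M : ModuleCat.{u} A) :
    TmapL ψ d M ≫ eqToHom (by rw [h]) = eqToHom (by rw [h]) ≫ TmapL ψ d' M := by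
  subst h
  simp

lemma shiftHom_natP : ∀ (k d d' : ℕ) (h : d = d' + k),
    TmapL ψ d (Q.opcycles 0) ≫ shiftHom P' Q hP' hQex k d d' h =
      shiftHom P Q hP hQex k d d' h ≫ TmapL ψ d' (Q.opcycles k) := by
  intro k
  induction k with
  | zero =>
    intro d d' h
    unfold shiftHom
    exact TmapL_eqToHom ψ h _
  | succ k ih =>
    intro d d' h
    unfold shiftHom
    rw [reassoc_of% (ih d (d' + 1) (by omega)), Category.assoc, δZ_natP]

end Shift


section KernelComparison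

lemma isIso_of_kernel_comparison {C : Type*} [Category C] [HasZeroMorphisms C]
    {X Y X' Y' K K' : C} {f : X ⟶ Y} {f' : X' ⟶ Y'} {i : K ⟶ X} {i' : K' ⟶ X'}
    (w : i ≫ f = 0) (w' : i' ≫ f' = 0)
    (hK : IsLimit (KernelFork.ofι i w)) (hK' : IsLimit (KernelFork.ofι i' w'))
    (e : X ≅ X') (g : Y ⟶ Y') [Mono g] (comm : e.hom ≫ f' = f ≫ g)
    (t : K ⟶ K') (ht : t ≫ i' = i ≫ e.hom) : IsIso t := by
  have hz : (i' ≫ e.inv) ≫ f = 0 := by
    rw [← cancel_mono g, Category.assoc, Category.assoc, ← comm, Iso.inv_hom_id_assoc, w',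
      zero_comp]
  let s : K' ⟶ K := hK.lift (KernelFork.ofι (i' ≫ e.inv) hz)
  have hs : s ≫ i = i' ≫ e.inv := Fork.IsLimit.lift_ι hK
  refine ⟨s, ?_, ?_⟩
  · apply Fork.IsLimit.hom_ext hK
    show (t ≫ s) ≫ i = 𝟙 K ≫ i
    rw [Category.assoc, hs, reassoc_of% ht, Iso.hom_inv_id, Category.comp_id, Category.id_comp]
  · apply Fork.IsLimit.hom_ext hK'
    show (s ≫ t) ≫ i' = 𝟙 K' ≫ i'
    rw [Category.assoc, ht, reassoc_of% hs, Iso.inv_hom_id, Category.comp_id, Category.id_comp]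

end KernelComparison

section TOne

variable (P : ChainComplex (ModuleCat.{u} A) ℕ) (Q : ChainComplex (ModuleCat.{u} A) ℕ)
  (hP : ∀ i, Module.Flat A (P.X i)) (hQex : ∀ n, Q.ExactAt (n + 1)) (n : ℕ)

/-- The isomorphism `T_0^P(X) ≅ X ⊗ Z_0(P)`. -/
noncomputable def T0IsoSwap (X : ModuleCat.{u} A) :
    (CohIII.TFun P 0).obj X ≅ X ⊗ P.opcycles 0 :=
  T0Iso P X ≪≫ β_ (P.opcycles 0) X

lemma T0IsoSwap_naturality {X Y : ModuleCat.{u} A} (g : X ⟶ Y) :
    (CohIII.TFun P 0).map g ≫ (T0IsoSwap P Y).hom = (T0IsoSwap P X).hom ≫ g ▷ P.opcycles 0 := by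
  unfold T0IsoSwap
  rw [Iso.trans_hom, Iso.trans_hom, reassoc_of% (T0Iso_naturality P g), Category.assoc,
    BraidedCategory.braiding_naturality_right]

/-- `κ : T_1^P(Z_n Q) ⟶ Z'_{n+1}(Q ⊗ Z_0 P)`. -/
noncomputable def κ : (CohIII.TFun P 1).obj (Q.opcycles n) ⟶
    (CohIII.tensorObj Q (P.opcycles 0)).opcycles (n + 1) :=
  δZ P Q hP hQex n 0 ≫ (T0IsoSwap P (Q.opcycles (n + 1))).hom ≫
    (opcyclesIso Q (n + 1) (P.opcycles 0)).inv

lemma swap_comm :
    ((T0IsoSwap P (Q.opcycles (n + 1))) ≪≫ (opcyclesIso Q (n + 1) (P.opcycles 0)).symm).hom ≫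
      (CohIII.tensorObj Q (P.opcycles 0)).fromOpcycles (n + 1) n =
    (CohIII.TFun P 0).map (Q.fromOpcycles (n + 1) n) ≫
      ((T0IsoSwap P (Q.X n)).hom ≫ (XIso Q (P.opcycles 0) n).inv) := by
  rw [Iso.trans_hom, Iso.symm_hom, Category.assoc, reassoc_of% (T0IsoSwap_naturality P)]
  congr 1
  rw [Iso.inv_comp_eq, ← cancel_mono (XIso Q (P.opcycles 0) n).hom, Category.assoc,
    Category.assoc, Iso.inv_hom_id, Category.comp_id, opcyclesIso_hom_fromOpcycles]

lemma κ_fromOpcycles :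
    κ P Q hP hQex n ≫ (CohIII.tensorObj Q (P.opcycles 0)).fromOpcycles (n + 1) n = 0 := by
  have h := swap_comm P Q n
  rw [Iso.trans_hom, Iso.symm_hom, Category.assoc] at h
  unfold κ
  rw [Category.assoc, Category.assoc, h, reassoc_of% (δZ_comp P Q hP hQex n 0), zero_comp]

/-- The comparison `T_1^P(Z_n Q) ⟶ T_{n+1}^Q(Z_0 P)`. -/
noncomputable def TOneHom :
    (CohIII.TFun P 1).obj (Q.opcycles n) ⟶ (CohIII.TFun Q (n + 1)).obj (P.opcycles 0) :=
  ((CohIII.tensorObj Q (P.opcycles 0)).homologyIsKernel (n + 1) n (by simp)).lift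
    (KernelFork.ofι (κ P Q hP hQex n) (κ_fromOpcycles P Q hP hQex n))

lemma TOneHom_homologyι :
    TOneHom P Q hP hQex n ≫ (CohIII.tensorObj Q (P.opcycles 0)).homologyι (n + 1) =
      κ P Q hP hQex n :=
  Fork.IsLimit.lift_ι _

lemma isIso_TOneHom (hQ : ∀ i, Module.Flat A (Q.X i)) (hPex : ∀ n, P.ExactAt (n + 1)) :
    IsIso (TOneHom P Q hP hQex n) := by
  refine isIso_of_kernel_comparison (δZ_comp P Q hP hQex n 0)
    ((CohIII.tensorObj Q (P.opcycles 0)).homologyι_comp_fromOpcycles (n + 1) n)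
    (δZIsKernel P Q hP hQex hQ hPex n)
    ((CohIII.tensorObj Q (P.opcycles 0)).homologyIsKernel (n + 1) n (by simp))
    ((T0IsoSwap P (Q.opcycles (n + 1))) ≪≫ (opcyclesIso Q (n + 1) (P.opcycles 0)).symm)
    ((T0IsoSwap P (Q.X n)).hom ≫ (XIso Q (P.opcycles 0) n).inv) (swap_comm P Q n)
    (TOneHom P Q hP hQex n) ?_
  refine Eq.trans (TOneHom_homologyι P Q hP hQex n) ?_
  unfold κ
  simp

variable {P} {P' : ChainComplex (ModuleCat.{u} A) ℕ} (hP' : ∀ i, Module.Flat A (P'.X i))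
  (ψ : P ⟶ P')

lemma T0IsoSwap_natP (X : ModuleCat.{u} A) :
    TmapL ψ 0 X ≫ (T0IsoSwap P' X).hom =
      (T0IsoSwap P X).hom ≫ X ◁ HomologicalComplex.opcyclesMap ψ 0 := by
  unfold T0IsoSwap
  rw [Iso.trans_hom, Iso.trans_hom, reassoc_of% (T0Iso_natP ψ X), Category.assoc,
    BraidedCategory.braiding_naturality_left]

lemma opcyclesIso_inv_naturality {ι : Type} {c : ComplexShape ι}
    (K : HomologicalComplex (ModuleCat.{u} A) c) (p : ι) {M N : ModuleCat.{u} A} (f : M ⟶ N) :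
    K.opcycles p ◁ f ≫ (opcyclesIso K p N).inv =
      (opcyclesIso K p M).inv ≫ HomologicalComplex.opcyclesMap (CohIII.tensorMap K f) p := by
  rw [Iso.eq_inv_comp, ← Category.assoc, Iso.comp_inv_eq, opcyclesIso_hom_naturality]

lemma κ_natP :
    TmapL ψ 1 (Q.opcycles n) ≫ κ P' Q hP' hQex n =
      κ P Q hP hQex n ≫ HomologicalComplex.opcyclesMap
        (CohIII.tensorMap Q (HomologicalComplex.opcyclesMap ψ 0)) (n + 1) := by
  unfold κ
  rw [← δZ_natP_assoc Q hP hQex hP' ψ n 0, reassoc_of% (T0IsoSwap_natP ψ), Category.assoc,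
    Category.assoc, opcyclesIso_inv_naturality]

lemma TOneHom_natP :
    TmapL ψ 1 (Q.opcycles n) ≫ TOneHom P' Q hP' hQex n =
      TOneHom P Q hP hQex n ≫ (CohIII.TFun Q (n + 1)).map (HomologicalComplex.opcyclesMap ψ 0) := by
  refine (cancel_mono ((CohIII.tensorObj Q (P'.opcycles 0)).homologyι (n + 1))).mp ?_
  refine Eq.trans (Category.assoc _ _ _) (Eq.trans ?_ (Category.assoc _ _ _).symm)
  refine Eq.trans (congrArg (_ ≫ ·) (TOneHom_homologyι P' Q hP' hQex n)) ?_
  refine Eq.trans (κ_natP Q hP hQex n hP' ψ) ?_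
  refine Eq.trans ?_ (congrArg (_ ≫ ·)
    (HomologicalComplex.homologyι_naturality (CohIII.tensorMap Q
      (HomologicalComplex.opcyclesMap ψ 0)) (n + 1)).symm)
  refine Eq.trans ?_ (Category.assoc _ _ _)
  exact congrArg (· ≫ _) (TOneHom_homologyι P Q hP hQex n).symm

end TOne

section Balance

variable (P : ChainComplex (ModuleCat.{u} A) ℕ) (Q : ChainComplex (ModuleCat.{u} A) ℕ)
  (hP : ∀ i, Module.Flat A (P.X i)) (hQex : ∀ n, Q.ExactAt (n + 1))

/-- The balancing morphism `T_n^P(Z_0 Q) ⟶ T_n^Q(Z_0 P)`. -/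
noncomputable def balanceHom : ∀ n : ℕ,
    ((CohIII.TFun P n).obj (Q.opcycles 0) ⟶ (CohIII.TFun Q n).obj (P.opcycles 0))
  | 0 => (T0IsoSwap P (Q.opcycles 0)).hom ≫ (T0Iso Q (P.opcycles 0)).inv
  | n + 1 => shiftHom P Q hP hQex n (n + 1) 1 (by omega) ≫ TOneHom P Q hP hQex n

lemma isIso_balanceHom (hQ : ∀ i, Module.Flat A (Q.X i)) (hPex : ∀ n, P.ExactAt (n + 1)) (n : ℕ) :
    IsIso (balanceHom P Q hP hQex n) := by
  cases n with
  | zero =>
    unfold balanceHom
    infer_instance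
  | succ n =>
    unfold balanceHom
    haveI := isIso_shiftHom P Q hP hQex hQ hPex n (n + 1) 0 (by omega)
    haveI := isIso_TOneHom P Q hP hQex n hQ hPex
    exact IsIso.comp_isIso

variable {P} {P' : ChainComplex (ModuleCat.{u} A) ℕ} (hP' : ∀ i, Module.Flat A (P'.X i))
  (ψ : P ⟶ P')

lemma T0Iso_inv_naturality (K : ChainComplex (ModuleCat.{u} A) ℕ) {M N : ModuleCat.{u} A}
    (g : M ⟶ N) :
    K.opcycles 0 ◁ g ≫ (T0Iso K N).inv = (T0Iso K M).inv ≫ (CohIII.TFun K 0).map g := by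
  rw [Iso.eq_inv_comp, ← Category.assoc, Iso.comp_inv_eq, T0Iso_naturality]

lemma balanceHom_natP (n : ℕ) :
    TmapL ψ n (Q.opcycles 0) ≫ balanceHom P' Q hP' hQex n =
      balanceHom P Q hP hQex n ≫ (CohIII.TFun Q n).map (HomologicalComplex.opcyclesMap ψ 0) := by
  cases n with
  | zero =>
    unfold balanceHom
    rw [reassoc_of% (T0IsoSwap_natP ψ), Category.assoc, T0Iso_inv_naturality]
  | succ n =>
    unfold balanceHom
    rw [reassoc_of% (shiftHom_natP Q hP hQex hP' ψ n (n + 1) 1 (by omega)), Category.assoc,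
      TOneHom_natP]

end Balance

section TorBalance

variable {M : ModuleCat.{u} A} (F : FlatResolution M)

/-- The balancing morphism `Tor_n(M, N) ⟶ H_n(F ⊗ N)` for a flat resolution `F` of `M`. -/
noncomputable def torBalanceHom (n : ℕ) (N : ModuleCat.{u} A) :
    ((Tor (ModuleCat.{u} A) n).obj M).obj N ⟶ (CohIII.TFun F.complex n).obj N :=
  (torIsoT (ProjectiveResolution.of N) n M).hom ≫
    (CohIII.TFun (ProjectiveResolution.of N).complex n).map F.iso.inv ≫
    balanceHom (ProjectiveResolution.of N).complex F.complex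
      (flat_of_projectiveResolution _) F.exact n ≫
    (CohIII.TFun F.complex n).map (opcyclesZeroIso (ProjectiveResolution.of N)).hom

instance isIso_torBalanceHom (n : ℕ) (N : ModuleCat.{u} A) : IsIso (torBalanceHom F n N) := by
  unfold torBalanceHom
  haveI := isIso_balanceHom (ProjectiveResolution.of N).complex F.complex
    (flat_of_projectiveResolution _) F.exact F.flat
    (ProjectiveResolution.of N).complex_exactAt_succ n
  infer_instance

lemma torBalanceHom_naturality (n : ℕ) {N N' : ModuleCat.{u} A} (f : N ⟶ N') :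
    ((Tor (ModuleCat.{u} A) n).obj M).map f ≫ torBalanceHom F n N' =
      torBalanceHom F n N ≫ (CohIII.TFun F.complex n).map f := by
  have comm := ProjectiveResolution.lift_commutes_zero f (ProjectiveResolution.of N)
    (ProjectiveResolution.of N')
  unfold torBalanceHom
  rw [torIsoT_natN_assoc f _ _ _ comm, TFun_map_tL_assoc,
    reassoc_of% (balanceHom_natP F.complex (flat_of_projectiveResolution _) F.exact
      (flat_of_projectiveResolution _) (ProjectiveResolution.lift f (ProjectiveResolution.of N)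
        (ProjectiveResolution.of N')) n),
    ← Functor.map_comp, opcyclesZeroIso_nat f _ _ _ comm, Functor.map_comp]
  simp only [Category.assoc]

/-- **Natural balancing**: `Tor_n(M, -) ≅ H_n(F ⊗ -)` for a flat resolution `F` of `M`. -/
noncomputable def torBalanceIso (n : ℕ) :
    (Tor (ModuleCat.{u} A) n).obj M ≅ CohIII.TFun F.complex n :=
  NatIso.ofComponents (fun N => asIso (torBalanceHom F n N))
    (fun f => torBalanceHom_naturality F n f)

end TorBalance

end Groth.Agent.Helper1.TorLib
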