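import Mathlib
import Groth.Agent.Helper1.TorBalanceNat

/-!
# The long exact sequence of `Tor` in the second variable
-/

set_option autoImplicit false

namespace Groth.Agent.Helper1.TorLib

open CategoryTheory CategoryTheory.Limits MonoidalCategory Groth.Agent.Helper1.FlatCx

universe u

variable {A : Type u} [CommRing A]

/-- The standard flat resolution of a module (from the chosen projective resolution). -/
noncomputable def stdFlatRes (M : ModuleCat.{u} A) : FlatResolution M :=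
  FlatResolution.ofProjectiveResolution (ProjectiveResolution.of M)

section LES2

variable (M : ModuleCat.{u} A) {S : ShortComplex (ModuleCat.{u} A)} (hS : S.ShortExact)

/-- The balancing iso `Tor_n(M, N) ≅ H_n(P_M ⊗ N)`, natural in `N`. -/
noncomputable def torIsoT₂ (n : ℕ) (N : ModuleCat.{u} A) :
    ((Tor (ModuleCat.{u} A) n).obj M).obj N ≅ (CohIII.TFun (stdFlatRes M).complex n).obj N :=
  (torBalanceIso (stdFlatRes M) n).app N

@[reassoc]
lemma torIsoT₂_naturality (n : ℕ) {N N' : ModuleCat.{u} A} (f : N ⟶ N') :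
    ((Tor (ModuleCat.{u} A) n).obj M).map f ≫ (torIsoT₂ M n N').hom =
      (torIsoT₂ M n N).hom ≫ (CohIII.TFun (stdFlatRes M).complex n).map f :=
  (torBalanceIso (stdFlatRes M) n).hom.naturality f

/-- The connecting homomorphism `Tor_{n+1}(M, N'') ⟶ Tor_n(M, N')` for a short exact sequence
`0 → N' → N → N'' → 0` (second variable). -/
noncomputable def torδ₂ (n : ℕ) :
    ((Tor (ModuleCat.{u} A) (n + 1)).obj M).obj S.X₃ ⟶ ((Tor (ModuleCat.{u} A) n).obj M).obj S.X₁ :=
  (torIsoT₂ M (n + 1) S.X₃).hom ≫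
    δ (stdFlatRes M).complex (stdFlatRes M).flat hS (n + 1) n (by simp) ≫
    (torIsoT₂ M n S.X₁).inv

lemma torδ₂_comp (n : ℕ) :
    torδ₂ M hS n ≫ ((Tor (ModuleCat.{u} A) n).obj M).map S.f = 0 := by
  unfold torδ₂
  rw [Category.assoc, Category.assoc, ← cancel_mono (torIsoT₂ M n S.X₂).hom,
    Category.assoc, Category.assoc, Category.assoc, torIsoT₂_naturality, Iso.inv_hom_id_assoc,
    δ_comp, comp_zero, zero_comp]

lemma comp_torδ₂ (n : ℕ) :
    ((Tor (ModuleCat.{u} A) (n + 1)).obj M).map S.g ≫ torδ₂ M hS n = 0 := by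
  unfold torδ₂
  rw [torIsoT₂_naturality_assoc, reassoc_of% (comp_δ (stdFlatRes M).complex
    (stdFlatRes M).flat hS (n + 1) n (by simp)), zero_comp, comp_zero]

lemma tor_map_comp₂ (n : ℕ) :
    ((Tor (ModuleCat.{u} A) n).obj M).map S.f ≫ ((Tor (ModuleCat.{u} A) n).obj M).map S.g = 0 := by
  rw [← cancel_mono (torIsoT₂ M n S.X₃).hom, Category.assoc,
    torIsoT₂_naturality, torIsoT₂_naturality_assoc, ← Functor.map_comp, S.zero, Functor.map_zero,
    comp_zero, zero_comp]

/-- Exactness of `Tor_{n+1}(M, N'') → Tor_n(M, N') → Tor_n(M, N)`. -/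
lemma tor_exact₁₂ (n : ℕ) : (ShortComplex.mk _ _ (torδ₂_comp M hS n)).Exact := by
  refine (ShortComplex.exact_iff_of_iso ?_).mpr
    (exact₁ (stdFlatRes M).complex (stdFlatRes M).flat hS (n + 1) n (by simp))
  refine ShortComplex.isoMk (torIsoT₂ M (n + 1) S.X₃) (torIsoT₂ M n S.X₁) (torIsoT₂ M n S.X₂)
    ?_ ?_
  · simp [torδ₂]
  · exact (torIsoT₂_naturality M n S.f).symm

include hS in
/-- Exactness of `Tor_n(M, N') → Tor_n(M, N) → Tor_n(M, N'')`. -/
lemma tor_exact₂₂ (n : ℕ) : (ShortComplex.mk _ _ (tor_map_comp₂ (S := S) M n)).Exact := by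
  refine (ShortComplex.exact_iff_of_iso ?_).mpr
    (exact₂ (stdFlatRes M).complex (stdFlatRes M).flat hS n)
  exact ShortComplex.isoMk (torIsoT₂ M n S.X₁) (torIsoT₂ M n S.X₂) (torIsoT₂ M n S.X₃)
    (torIsoT₂_naturality M n S.f).symm (torIsoT₂_naturality M n S.g).symm

/-- Exactness of `Tor_{n+1}(M, N) → Tor_{n+1}(M, N'') → Tor_n(M, N')`. -/
lemma tor_exact₃₂ (n : ℕ) : (ShortComplex.mk _ _ (comp_torδ₂ M hS n)).Exact := by
  refine (ShortComplex.exact_iff_of_iso ?_).mpr
    (exact₃ (stdFlatRes M).complex (stdFlatRes M).flat hS (n + 1) n (by simp))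
  refine ShortComplex.isoMk (torIsoT₂ M (n + 1) S.X₂) (torIsoT₂ M (n + 1) S.X₃)
    (torIsoT₂ M n S.X₁) ?_ ?_
  · exact (torIsoT₂_naturality M (n + 1) S.g).symm
  · simp [torδ₂]

/-- `Tor_0(M, -) ≅ M ⊗ -`... up to the identification `Z_0(P_M) ≅ M`. -/
noncomputable def torZeroNatIso₂ :
    (Tor (ModuleCat.{u} A) 0).obj M ≅ tensorLeft ((stdFlatRes M).complex.opcycles 0) :=
  torBalanceIso (stdFlatRes M) 0 ≪≫ T0NatIso _

lemma epi_tor_zero_map {N N' : ModuleCat.{u} A} (g : N ⟶ N') [Epi g] :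
    Epi (((Tor (ModuleCat.{u} A) 0).obj M).map g) := by
  have h : ((Tor (ModuleCat.{u} A) 0).obj M).map g =
      (torZeroNatIso₂ M).hom.app N ≫ (tensorLeft ((stdFlatRes M).complex.opcycles 0)).map g ≫
        (torZeroNatIso₂ M).inv.app N' := by
    rw [← NatTrans.naturality_assoc, Iso.hom_inv_id_app, Category.comp_id]
  rw [h]
  haveI : Epi ((tensorLeft ((stdFlatRes M).complex.opcycles 0)).map g) := by
    refine (ModuleCat.epi_iff_surjective _).mpr ?_
    exact LinearMap.lTensor_surjective _ ((ModuleCat.epi_iff_surjective g).mp inferInstance)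
  haveI : Epi ((tensorLeft ((stdFlatRes M).complex.opcycles 0)).map g ≫
      (torZeroNatIso₂ M).inv.app N') := epi_comp _ _
  exact epi_comp _ _

end LES2

end Groth.Agent.Helper1.TorLib
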