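import Mathlib
import Groth.Agent.Helper1.TorBalance

/-!
# `Tor` vanishing above the projective dimension
-/

set_option autoImplicit false

namespace Groth.Agent.Helper1.TorLib

open CategoryTheory CategoryTheory.Limits MonoidalCategory Groth.Agent.Helper1.FlatCx

universe u

variable {A : Type u} [CommRing A]

/-- Syzygies of a projective resolution lower the projective dimension. -/
lemma hasProjectiveDimensionLT_opcycles {N : ModuleCat.{u} A} (Q : ProjectiveResolution N)
    (k m : ℕ) (h : HasProjectiveDimensionLT N (m + k + 1)) :
    HasProjectiveDimensionLT (Q.complex.opcycles k) (m + 1) := by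
  induction k generalizing m with
  | zero =>
    exact hasProjectiveDimensionLT_of_iso (opcyclesZeroIso Q).symm _
  | succ k ih =>
    have h' : HasProjectiveDimensionLT (Q.complex.opcycles k) (m + 1 + 1) :=
      ih (m + 1) (by
        have e : m + 1 + k + 1 = m + (k + 1) + 1 := by omega
        rw [e]; exact h)
    have hS := opcyclesSC_shortExact Q.complex (k + 1) k (by simp) (Q.complex_exactAt_succ k)
    haveI : Projective (opcyclesSC Q.complex (k + 1) k).X₂ := Q.projective k
    exact hS.hasProjectiveDimensionLT_X₁ (m + 1) inferInstance h'

/-- `Tor_i(M, N) = 0` for `i > pd N`. -/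
theorem isZero_tor_of_hasProjectiveDimensionLE (M N : ModuleCat.{u} A) (q : ℕ)
    [HasProjectiveDimensionLE N q] (i : ℕ) (hi : q < i) :
    IsZero (((Tor (ModuleCat.{u} A) i).obj M).obj N) := by
  set Q := ProjectiveResolution.of N
  refine IsZero.of_iso ?_ (torIsoT Q i M)
  have hq : HasProjectiveDimensionLT (Q.complex.opcycles q) 1 :=
    hasProjectiveDimensionLT_opcycles Q q 0 (by
      have e : 0 + q + 1 = q + 1 := by omega
      rw [e]; infer_instance)
  have hproj : Projective (Q.complex.opcycles q) :=
    projective_iff_hasProjectiveDimensionLT_one.mpr hq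
  have hflat : ∀ k, Module.Flat A (Q.complex.opcycles (q + k)) := by
    intro k
    induction k with
    | zero =>
      haveI : Module.Projective A (Q.complex.opcycles q) :=
        (IsProjective.iff_projective (R := A) (P := Q.complex.opcycles q)).mpr hproj
      infer_instance
    | succ k ih =>
      exact flat_opcycles_of_exactAt Q.complex (q + k + 1) (q + k) (by simp)
        (flat_of_projectiveResolution Q _) ih (Q.complex_exactAt_succ _)
  obtain ⟨k, rfl⟩ : ∃ k, i = q + k + 1 := ⟨i - q - 1, by omega⟩
  exact isZero_T_of_flat_opcycles Q.complex (q + k + 1) (q + k) (by simp)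
    (flat_of_projectiveResolution Q _) (hflat k) (Q.complex_exactAt_succ _) M

end Groth.Agent.Helper1.TorLib
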