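import Mathlib
import Groth.Agent.Helper1.TorProjDim
import Groth.Agent.Helper1.TorCrit

/-!
# Projective dimension over a Noetherian local ring via `Tor` against the residue field
-/

set_option autoImplicit false

namespace Groth.Agent.Helper1.TorLib

open CategoryTheory CategoryTheory.Limits MonoidalCategory Groth.Agent.Helper1.FlatCx TensorProduct

universe u
variable {A : Type u} [CommRing A]

lemma projective_of_free (M : Type u) [AddCommGroup M] [Module A M] [Module.Projective A M] :
    Projective (ModuleCat.of A M) :=
  (IsProjective.iff_projective (R := A) (P := M)).mp inferInstance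

variable [IsLocalRing A] [IsNoetherianRing A]

/-- Over a Noetherian local ring, a finite module `M` with `Tor_{n+1}(k, M) = 0` has projective
dimension at most `n`. -/
theorem hasProjectiveDimensionLT_of_isZero_tor_residueField (n : ℕ) :
    ∀ (M : Type u) [AddCommGroup M] [Module A M] [Module.Finite A M],
    IsZero (((Tor (ModuleCat.{u} A) (n + 1)).obj
      (ModuleCat.of A (IsLocalRing.ResidueField A))).obj (ModuleCat.of A M)) →
    HasProjectiveDimensionLT (ModuleCat.of A M) (n + 1) := by
  induction n with
  | zero =>
    intro M _ _ _ h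
    have h' : IsZero (((Tor (ModuleCat.{u} A) 1).obj
        (ModuleCat.of A (A ⧸ IsLocalRing.maximalIdeal A))).obj (ModuleCat.of A M)) := h
    rw [isZero_torOne_quotient_iff] at h'
    haveI := Module.finitePresentation_of_finite A M
    haveI : Module.Free A M := Module.free_of_maximalIdeal_rTensor_injective h'
    haveI := projective_of_free (A := A) M
    exact projective_iff_hasProjectiveDimensionLT_one.mp inferInstance
  | succ n ih =>
    intro M _ _ _ h
    obtain ⟨m, π, hπ⟩ := Module.Finite.exists_fin' A M
    have hex : Function.Exact (LinearMap.ker π).subtype π := LinearMap.exact_subtype_ker_map π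
    have hS : (scOfLinear (N₁ := LinearMap.ker π) (N₂ := (Fin m → A)) (N₃ := M)
        (LinearMap.ker π).subtype π hex).ShortExact :=
      scOfLinear_shortExact _ _ (Submodule.injective_subtype _) hπ hex
    haveI : Module.Flat A (scOfLinear (N₁ := LinearMap.ker π) (N₂ := (Fin m → A)) (N₃ := M)
      (LinearMap.ker π).subtype π hex).X₂ := inferInstanceAs (Module.Flat A (Fin m → A))
    let k := ModuleCat.of A (IsLocalRing.ResidueField A)
    have h1 : IsZero (((Tor (ModuleCat.{u} A) (n + 1 + 1)).obj (ModuleCat.of A M)).obj k) :=
      (isZero_tor_symm_iff _ _ _).mp h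
    have hiso := isIso_torδ_succ k hS n
    have h2 : IsZero (((Tor (ModuleCat.{u} A) (n + 1)).obj
        (ModuleCat.of A (LinearMap.ker π))).obj k) :=
      h1.of_iso (@asIso _ _ _ _ (torδ k hS (n + 1)) hiso).symm
    have h3 := ih (LinearMap.ker π) ((isZero_tor_symm_iff _ _ _).mp h2)
    haveI := projective_of_free (A := A) (Fin m → A)
    have h4 : HasProjectiveDimensionLT (ModuleCat.of A (Fin m → A)) (n + 1 + 1) :=
      hasProjectiveDimensionLT_of_ge _ 1 _ (by omega)
    exact hS.hasProjectiveDimensionLT_X₃ (n + 1) h3 h4

end Groth.Agent.Helper1.TorLib
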