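import Mathlib
import Groth.Agent.Helper1.TorProjDim2

/-!
# Global dimension: cyclic modules suffice; Noetherian local rings
-/

set_option autoImplicit false

namespace Groth.Agent.Helper1.TorLib

open CategoryTheory CategoryTheory.Limits Abelian

universe u
variable {A : Type u} [CommRing A]

/-- Baer's criterion in `Ext` form. -/
theorem injective_of_subsingleton_ext_one_quotient (Y : ModuleCat.{u} A)
    (h : ∀ I : Ideal A, letI := HasExt.standard (ModuleCat.{u} A);
      Subsingleton (Ext (ModuleCat.of A (A ⧸ I)) Y 1)) : Injective Y := by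
  letI := HasExt.standard (ModuleCat.{u} A)
  have hB : Module.Baer A Y := by
    intro I g
    have hS := scOfLinear_shortExact I.subtype I.mkQ I.injective_subtype I.mkQ_surjective
      (LinearMap.exact_subtype_mkQ I)
    haveI : Subsingleton (Ext (scOfLinear I.subtype I.mkQ (LinearMap.exact_subtype_mkQ I)).X₃ Y 1) :=
      h I
    obtain ⟨x₂, hx₂⟩ := Ext.contravariant_sequence_exact₁ hS Y (Ext.mk₀ (ModuleCat.ofHom g))
      (add_zero 1) (Subsingleton.elim _ _)
    obtain ⟨φ, rfl⟩ := Ext.homEquiv₀.symm.surjective x₂
    have h1 : (scOfLinear I.subtype I.mkQ (LinearMap.exact_subtype_mkQ I)).f ≫ φ =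
        ModuleCat.ofHom g := by
      apply Ext.homEquiv₀.symm.injective
      simpa using hx₂
    refine ⟨φ.hom, fun x hx => ?_⟩
    have := congrArg (fun m => m.hom ⟨x, hx⟩) h1
    exact this
  haveI : Module.Injective A Y := hB.injective
  exact Module.injective_object_of_injective_module A Y

/-- If `Ext^{n+1}(A/I, Y) = 0` for all ideals `I` then `Y` has injective dimension `≤ n`. -/
theorem hasInjectiveDimensionLT_of_quotients (n : ℕ) : ∀ (Y : ModuleCat.{u} A),
    (∀ I : Ideal A, letI := HasExt.standard (ModuleCat.{u} A);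
      Subsingleton (Ext (ModuleCat.of A (A ⧸ I)) Y (n + 1))) →
    HasInjectiveDimensionLT Y (n + 1) := by
  letI := HasExt.standard (ModuleCat.{u} A)
  induction n with
  | zero =>
    intro Y h
    haveI := injective_of_subsingleton_ext_one_quotient Y h
    infer_instance
  | succ n ih =>
    intro Y h
    let ι := Injective.ι Y
    have hS : (ShortComplex.mk ι (cokernel.π ι) (cokernel.condition ι)).ShortExact :=
      { exact := ShortComplex.exact_cokernel ι }
    have hC : ∀ I : Ideal A, Subsingleton (Ext (ModuleCat.of A (A ⧸ I)) (cokernel ι) (n + 1)) := by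
      intro I
      haveI := h I
      refine ⟨fun a b => ?_⟩
      have key : ∀ x₃ : Ext (ModuleCat.of A (A ⧸ I)) (cokernel ι) (n + 1), x₃ = 0 := by
        intro x₃
        obtain ⟨x₂, rfl⟩ := Ext.covariant_sequence_exact₃ (ModuleCat.of A (A ⧸ I)) hS x₃
          (rfl : n + 1 + 1 = n + 1 + 1) (Subsingleton.elim _ _)
        rw [Ext.eq_zero_of_injective x₂, Ext.zero_comp]
      rw [key a, key b]
    have h3 := ih (cokernel ι) hC
    have h2 : HasInjectiveDimensionLT (Injective.under Y) (n + 1 + 1) :=
      hasInjectiveDimensionLT_of_ge _ 1 _ (by omega)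
    exact hS.hasInjectiveDimensionLT_X₁ (n + 1) h3 h2

/-- If all cyclic modules have projective dimension `≤ n`, so do all modules. -/
theorem hasProjectiveDimensionLT_of_quotients (n : ℕ)
    (h : ∀ I : Ideal A, HasProjectiveDimensionLT (ModuleCat.of A (A ⧸ I)) (n + 1))
    (M : ModuleCat.{u} A) : HasProjectiveDimensionLT M (n + 1) := by
  letI := HasExt.standard (ModuleCat.{u} A)
  refine hasProjectiveDimensionLT_of_enoughInjectives M (n + 1) (fun Y => ?_)
  haveI : HasInjectiveDimensionLT Y (n + 1) :=
    hasInjectiveDimensionLT_of_quotients n Y (fun I => by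
      haveI := h I
      exact HasProjectiveDimensionLT.subsingleton _ (n + 1) (n + 1) le_rfl Y)
  exact HasInjectiveDimensionLT.subsingleton Y (n + 1) (n + 1) le_rfl M

/-- Over a Noetherian local ring, if the residue field has projective dimension `≤ n`, every
module has projective dimension `≤ n`. -/
theorem hasProjectiveDimensionLT_of_residueField [IsLocalRing A] [IsNoetherianRing A] (n : ℕ)
    (hk : HasProjectiveDimensionLT (ModuleCat.of A (IsLocalRing.ResidueField A)) (n + 1))
    (M : ModuleCat.{u} A) : HasProjectiveDimensionLT M (n + 1) := by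
  refine hasProjectiveDimensionLT_of_quotients n (fun I => ?_) M
  refine hasProjectiveDimensionLT_of_isZero_tor_residueField n (A ⧸ I) ?_
  rw [isZero_tor_symm_iff]
  haveI : HasProjectiveDimensionLE (ModuleCat.of A (IsLocalRing.ResidueField A)) n := hk
  exact isZero_tor_of_hasProjectiveDimensionLE _ _ n (n + 1) (by omega)

end Groth.Agent.Helper1.TorLib
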