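import Mathlib
import Groth.Agent.Helper1.TorReg

/-!
# `Tor_p(A/(x_1..x_p), M) ≃ Hom(A/(x_1..x_p), M)` for a regular sequence
-/

set_option autoImplicit false

namespace Groth.Agent.Helper1.TorLib

open CategoryTheory CategoryTheory.Limits MonoidalCategory Groth.Agent.Helper1.FlatCx TensorProduct

universe u
variable {A : Type u} [CommRing A]

/-- `Tor'` agrees with `Tor` (non-naturally). -/
theorem nonempty_tor'_iso_tor (X Y : ModuleCat.{u} A) (n : ℕ) :
    Nonempty (((Tor' (ModuleCat.{u} A) n).obj X).obj Y ≅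
      ((Tor (ModuleCat.{u} A) n).obj X).obj Y) := by
  obtain ⟨e⟩ := nonempty_tor_symm_iso Y X n
  exact ⟨(ProjectiveResolution.of X).isoLeftDerivedObj (tensorRight Y) n ≪≫
    (torIsoT (ProjectiveResolution.of X) n Y).symm ≪≫ e⟩

lemma liftQ_one (I : Ideal A) {M : Type u} [AddCommGroup M] [Module A M] (f : A →ₗ[A] M)
    (h : I ≤ LinearMap.ker f) : Submodule.liftQ I f h (1 : A ⧸ I) = f 1 := rfl

/-- `M[I] ≃ Hom(A/I, M)`. -/
noncomputable def torsionBySetEquivHom (I : Ideal A) (M : Type u) [AddCommGroup M] [Module A M] :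
    Submodule.torsionBySet A M (I : Set A) ≃ₗ[A] ((A ⧸ I) →ₗ[A] M) where
  toFun m := Submodule.liftQ I (LinearMap.toSpanSingleton A M m.1) (by
    intro a ha
    rw [LinearMap.mem_ker, LinearMap.toSpanSingleton_apply]
    exact (Submodule.mem_torsionBySet_iff _ _).mp m.2 ⟨a, ha⟩)
  map_add' m m' := by
    apply Submodule.linearMap_qext
    ext
    simp [liftQ_one]
  map_smul' a m := by
    apply Submodule.linearMap_qext
    ext
    simp [liftQ_one]
  invFun f := ⟨f 1, by
    rw [Submodule.mem_torsionBySet_iff]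
    rintro ⟨a, ha⟩
    show a • f 1 = 0
    rw [← map_smul]
    have : a • (1 : A ⧸ I) = 0 := by
      rw [Algebra.smul_def, mul_one]
      exact Ideal.Quotient.eq_zero_iff_mem.mpr ha
    rw [this, map_zero]⟩
  left_inv m := by
    ext
    show Submodule.liftQ I (LinearMap.toSpanSingleton A M m.1) _ (1 : A ⧸ I) = m.1
    simp [liftQ_one]
  right_inv f := by
    apply Submodule.linearMap_qext
    ext
    simp

lemma torsionBySet_sup_le (I : Ideal A) (x : A) {M : Type u} [AddCommGroup M] [Module A M] :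
    Submodule.torsionBySet A M ((I ⊔ Ideal.span {x} : Ideal A) : Set A) ≤
      Submodule.torsionBySet A M (I : Set A) := by
  intro m hm
  rw [Submodule.mem_torsionBySet_iff] at hm ⊢
  rintro ⟨a, ha⟩
  exact hm ⟨a, Ideal.mem_sup_left ha⟩

/-- Given `T ≃ M[I]`, the kernel of `x` on `T` is `M[I + (x)]`. -/
noncomputable def kerSmulEquivTorsionBySet (I : Ideal A) (x : A) {T M : Type u} [AddCommGroup T]
    [Module A T] [AddCommGroup M] [Module A M]
    (e : T ≃ₗ[A] Submodule.torsionBySet A M (I : Set A)) :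
    LinearMap.ker (x • (LinearMap.id : T →ₗ[A] T)) ≃ₗ[A]
      Submodule.torsionBySet A M ((I ⊔ Ideal.span {x} : Ideal A) : Set A) where
  toFun k := ⟨(e k.1 : M), by
    rw [Submodule.mem_torsionBySet_iff]
    rintro ⟨a, ha⟩
    obtain ⟨b, hb, c, hc, rfl⟩ := Submodule.mem_sup.mp ha
    obtain ⟨d, rfl⟩ := Ideal.mem_span_singleton'.mp hc
    show (b + d * x) • (e k.1 : M) = 0
    have h1 : b • (e k.1 : M) = 0 := (Submodule.mem_torsionBySet_iff _ _).mp (e k.1).2 ⟨b, hb⟩
    have h2 : x • k.1 = 0 := k.2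
    have h3 : x • (e k.1 : M) = 0 := by
      rw [← Submodule.coe_smul, ← map_smul, h2, map_zero, Submodule.coe_zero]
    rw [add_smul, h1, mul_smul, h3, smul_zero, add_zero]⟩
  map_add' k k' := by
    ext
    simp
  map_smul' a k := by
    ext
    simp
  invFun m := ⟨e.symm ⟨m.1, torsionBySet_sup_le I x m.2⟩, by
    rw [LinearMap.mem_ker]
    show x • e.symm _ = 0
    rw [← map_smul]
    have : x • (⟨m.1, torsionBySet_sup_le I x m.2⟩ : Submodule.torsionBySet A M (I : Set A)) = 0 := by
      ext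
      show x • m.1 = 0
      exact (Submodule.mem_torsionBySet_iff _ _).mp m.2
        ⟨x, Ideal.mem_sup_right (Ideal.mem_span_singleton_self x)⟩
    rw [this, map_zero]⟩
  left_inv k := by
    ext
    simp
  right_inv m := by
    ext
    simp

/-- For a weakly regular sequence `xs` on `A` of length `p` generating `J`: `Tor_i(A/J, M) = 0` for
`i > p`, and `Tor_p(A/J, M) ≃ M[J]`. -/
theorem tor_quotient_ofList (M : Type u) [AddCommGroup M] [Module A M] (xs : List A) :
    RingTheory.Sequence.IsWeaklyRegular A xs →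
    (∀ i, xs.length < i → IsZero (((Tor (ModuleCat.{u} A) i).obj
      (ModuleCat.of A (A ⧸ Ideal.ofList xs))).obj (ModuleCat.of A M))) ∧
    Nonempty (((Tor (ModuleCat.{u} A) xs.length).obj
      (ModuleCat.of A (A ⧸ Ideal.ofList xs))).obj (ModuleCat.of A M) ≃ₗ[A]
      Submodule.torsionBySet A M (Ideal.ofList xs : Set A)) := by
  induction xs using List.reverseRecOn with
  | nil =>
    intro _
    let e0 : (A ⧸ Ideal.ofList ([] : List A)) ≃ₗ[A] A :=
      Submodule.quotEquivOfEqBot _ Ideal.ofList_nil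
    haveI : Module.Flat A (A ⧸ Ideal.ofList ([] : List A)) := Module.Flat.of_linearEquiv e0
    refine ⟨fun i hi => ?_, ?_⟩
    · obtain ⟨k, rfl⟩ : ∃ k, i = k + 1 := ⟨i - 1, by simp at hi; omega⟩
      exact isZero_tor_of_flat_left _ _ k
    · have htop : Submodule.torsionBySet A M (Ideal.ofList ([] : List A) : Set A) = ⊤ := by
        rw [eq_top_iff]
        intro m _
        rw [Submodule.mem_torsionBySet_iff]
        rintro ⟨a, ha⟩
        have : a = 0 := by
          have ha' : a ∈ Ideal.ofList ([] : List A) := ha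
          rw [Ideal.ofList_nil] at ha'
          exact ha'
        show a • m = 0
        rw [this, zero_smul]
      let e1 : ((Tor (ModuleCat.{u} A) 0).obj
          (ModuleCat.of A (A ⧸ Ideal.ofList ([] : List A)))).obj (ModuleCat.of A M) ≃ₗ[A]
          (A ⧸ Ideal.ofList ([] : List A)) ⊗[A] M :=
        ((torZeroNatIso (ModuleCat.of A M)).app _).toLinearEquiv
      exact ⟨e1 ≪≫ₗ TensorProduct.congr e0 (LinearEquiv.refl A M) ≪≫ₗ TensorProduct.lid A M ≪≫ₗ
        Submodule.topEquiv.symm ≪≫ₗ LinearEquiv.ofEq _ _ htop.symm⟩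
  | append_singleton xs x ih =>
    intro hreg
    rw [RingTheory.Sequence.isWeaklyRegular_append_iff,
      RingTheory.Sequence.isWeaklyRegular_singleton_iff] at hreg
    obtain ⟨iha, ⟨e⟩⟩ := ih hreg.1
    set I := Ideal.ofList xs with hI
    have hx : IsSMulRegular (A ⧸ I) x := by
      have heq : (I • ⊤ : Submodule A A) = I := by rw [smul_eq_mul, Ideal.mul_top]
      exact ((Submodule.quotEquivOfEq _ _ heq).isSMulRegular_congr x).mp hreg.2
    have hJ : Ideal.ofList (xs ++ [x]) = I ⊔ Ideal.span {x} := by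
      rw [Ideal.ofList_append, Ideal.ofList_singleton]
    have hlen : (xs ++ [x]).length = xs.length + 1 := by simp
    rw [hlen, hJ]
    have hS := scOfLinear_shortExact (x • (LinearMap.id : (A ⧸ I) →ₗ[A] (A ⧸ I)))
      (quotFactor I x) hx (quotFactor_surjective I x) (exact_smul_quotFactor I x)
    refine ⟨fun i hi => ?_, ?_⟩
    · obtain ⟨k, rfl⟩ : ∃ k, i = k + 1 := ⟨i - 1, by omega⟩
      exact (tor_exact₃ (ModuleCat.of A M) hS k).isZero_of_both_zeros
        ((iha (k + 1) (by omega)).eq_of_src _ _) ((iha k (by omega)).eq_of_tgt _ _)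
    · have hmono : Mono (torδ (ModuleCat.of A M) hS xs.length) :=
        (tor_exact₃ (ModuleCat.of A M) hS xs.length).mono_g
          ((iha (xs.length + 1) (by omega)).eq_of_src _ _)
      let e1 := IsLimit.conePointUniqueUpToIso
        (tor_exact₁ (ModuleCat.of A M) hS xs.length).fIsKernel (limit.isLimit _) ≪≫
        ModuleCat.kernelIsoKer _
      have hker : LinearMap.ker (((Tor (ModuleCat.{u} A) xs.length).map
          (x • 𝟙 (ModuleCat.of A (A ⧸ I)))).app (ModuleCat.of A M)).hom =
          LinearMap.ker (x • (LinearMap.id : ((Tor (ModuleCat.{u} A) xs.length).obj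
            (ModuleCat.of A (A ⧸ I))).obj (ModuleCat.of A M) →ₗ[A] _)) := by
        ext t
        rw [LinearMap.mem_ker, LinearMap.mem_ker, tor_map_smul_id_apply]
        rfl
      exact ⟨e1.toLinearEquiv ≪≫ₗ LinearEquiv.ofEq _ _ hker ≪≫ₗ
        kerSmulEquivTorsionBySet I x e⟩

end Groth.Agent.Helper1.TorLib
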