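import Mathlib
import Groth.Agent.Helper1.GlobalDim
import Groth.Agent.Helper1.TorRegHom
import Groth.Agent.Helper2.RegSeq3

/-!
# Regular local rings have finite global dimension
-/

set_option autoImplicit false

namespace Groth.Agent.Helper1.TorLib

open CategoryTheory CategoryTheory.Limits Abelian

universe u
variable {A : Type u} [CommRing A]

/-- The quotient by a weakly regular sequence of length `p` has projective dimension `≤ p`. -/
theorem hasProjectiveDimensionLT_quotient_ofList (xs : List A) :
    RingTheory.Sequence.IsWeaklyRegular A xs →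
    HasProjectiveDimensionLT (ModuleCat.of A (A ⧸ Ideal.ofList xs)) (xs.length + 1) := by
  induction xs using List.reverseRecOn with
  | nil =>
    intro _
    let e0 : (A ⧸ Ideal.ofList ([] : List A)) ≃ₗ[A] A :=
      Submodule.quotEquivOfEqBot _ Ideal.ofList_nil
    haveI := projective_of_free (A := A) A
    have : HasProjectiveDimensionLT (ModuleCat.of A A) 1 :=
      projective_iff_hasProjectiveDimensionLT_one.mp inferInstance
    exact hasProjectiveDimensionLT_of_iso e0.symm.toModuleIso 1
  | append_singleton xs x ih =>
    intro hreg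
    rw [RingTheory.Sequence.isWeaklyRegular_append_iff,
      RingTheory.Sequence.isWeaklyRegular_singleton_iff] at hreg
    have ih' := ih hreg.1
    set I := Ideal.ofList xs with hI
    have hx : IsSMulRegular (A ⧸ I) x := by
      have heq : (I • ⊤ : Submodule A A) = I := by rw [smul_eq_mul, Ideal.mul_top]
      exact ((Submodule.quotEquivOfEq _ _ heq).isSMulRegular_congr x).mp hreg.2
    have hJ : Ideal.ofList (xs ++ [x]) = I ⊔ Ideal.span {x} := by
      rw [Ideal.ofList_append, Ideal.ofList_singleton]
    have hlen : (xs ++ [x]).length = xs.length + 1 := by simp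
    rw [hlen, hJ]
    have hS := scOfLinear_shortExact (x • (LinearMap.id : (A ⧸ I) →ₗ[A] (A ⧸ I)))
      (quotFactor I x) hx (quotFactor_surjective I x) (exact_smul_quotFactor I x)
    have h2 : HasProjectiveDimensionLT (ModuleCat.of A (A ⧸ I)) (xs.length + 1 + 1) :=
      hasProjectiveDimensionLT_of_ge _ (xs.length + 1) _ (by omega)
    exact hS.hasProjectiveDimensionLT_X₃ (xs.length + 1) ih' h2

/-- Over a regular local ring of dimension `d`, every module has projective dimension `≤ d`. -/
theorem hasProjectiveDimensionLT_of_isRegularLocalRing [IsRegularLocalRing A] (d : ℕ)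
    (hd : ringKrullDim A = d) (M : ModuleCat.{u} A) : HasProjectiveDimensionLT M (d + 1) := by
  classical
  have hreg : IsRegularLocalRing (A ⧸ IsLocalRing.maximalIdeal A) := by
    letI : Field (A ⧸ IsLocalRing.maximalIdeal A) := Ideal.Quotient.field _
    infer_instance
  obtain ⟨c, x, hli, hspan⟩ := Groth.Agent.Helper2.RegSeq3.exists_indep_generators
    (IsLocalRing.maximalIdeal A) (Ideal.IsPrime.ne_top inferInstance) hreg
  obtain ⟨hregseq, hof⟩ := Groth.Agent.Helper2.RegSeq3.isRegular_ofFn c x hli
  have hcd : c ≤ d := by
    have h1 := hli.fintype_card_le_finrank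
    rw [Fintype.card_fin] at h1
    have h2 := (IsRegularLocalRing.iff_finrank_cotangentSpace A).mp inferInstance
    rw [hd] at h2
    have h3 : Module.finrank (IsLocalRing.ResidueField A) (IsLocalRing.CotangentSpace A) = d := by
      exact_mod_cast h2
    exact h1.trans h3.le
  have hpd := hasProjectiveDimensionLT_quotient_ofList _ hregseq.toIsWeaklyRegular
  rw [List.length_ofFn] at hpd
  have hk : HasProjectiveDimensionLT (ModuleCat.of A (IsLocalRing.ResidueField A)) (c + 1) := by
    have heq : Ideal.ofList (List.ofFn fun i => (x i : A)) = IsLocalRing.maximalIdeal A := by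
      rw [hof, ← hspan]
    exact hasProjectiveDimensionLT_of_iso (Submodule.quotEquivOfEq _ _ heq).toModuleIso (c + 1)
  have hk' : HasProjectiveDimensionLT (ModuleCat.of A (IsLocalRing.ResidueField A)) (d + 1) :=
    hasProjectiveDimensionLT_of_ge _ (c + 1) _ (by omega)
  exact hasProjectiveDimensionLT_of_residueField d hk' M

end Groth.Agent.Helper1.TorLib
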