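import Mathlib
import Groth.Agent.Helper1.RegGlobalDim

/-!
# Projective dimension over a regular local ring and `Ext^i(M, A)`
-/

set_option autoImplicit false

namespace Groth.Agent.Helper1.ExtRing

open CategoryTheory CategoryTheory.Limits Abelian Groth.Agent.Helper1.TorLib

universe u
variable {A : Type u} [CommRing A]

/-- `Ext^i(M, Z) = 0` for a zero object `Z`. -/
lemma subsingleton_ext_of_isZero (M Z : ModuleCat.{u} A) (hZ : IsZero Z) (i : ℕ) :
    Subsingleton (Ext M Z i) := by
  refine ⟨fun a b => ?_⟩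
  have key : ∀ x : Ext M Z i, x = 0 := by
    intro x
    have h1 : x = x.comp (Ext.mk₀ (𝟙 Z)) (add_zero i) := by simp
    rw [h1, hZ.eq_of_src (𝟙 Z) 0, Ext.mk₀_zero, Ext.comp_zero]
  rw [key a, key b]

/-- `Ext^i(M, -)` of the middle term vanishes if it does on both ends. -/
lemma subsingleton_ext_X₂ (M : ModuleCat.{u} A) {S : ShortComplex (ModuleCat.{u} A)}
    (hS : S.ShortExact) (i : ℕ) (h₁ : Subsingleton (Ext M S.X₁ i))
    (h₃ : Subsingleton (Ext M S.X₃ i)) : Subsingleton (Ext M S.X₂ i) := by
  refine ⟨fun a b => ?_⟩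
  have key : ∀ x : Ext M S.X₂ i, x = 0 := by
    intro x
    obtain ⟨x₁, rfl⟩ := Ext.covariant_sequence_exact₂ M hS x (Subsingleton.elim _ _)
    rw [Subsingleton.elim x₁ 0, Ext.zero_comp]
  rw [key a, key b]

/-- `Ext^i(M, A^m) = 0` if `Ext^i(M, A) = 0`. -/
lemma subsingleton_ext_pi (M : ModuleCat.{u} A) (i : ℕ)
    (h : Subsingleton (Ext M (ModuleCat.of A A) i)) (m : ℕ) :
    Subsingleton (Ext M (ModuleCat.of A (Fin m → A)) i) := by
  induction m with
  | zero =>
    exact subsingleton_ext_of_isZero M _ (ModuleCat.isZero_of_subsingleton _) i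
  | succ m ih =>
    let f : A →ₗ[A] (Fin (m + 1) → A) := LinearMap.single A (fun _ => A) 0
    let g : (Fin (m + 1) → A) →ₗ[A] (Fin m → A) :=
      LinearMap.pi fun j => LinearMap.proj j.succ
    have hf : Function.Injective f := by
      intro a b hab
      have := congrFun hab 0
      simpa [f] using this
    have hg : Function.Surjective g := by
      intro v
      refine ⟨Fin.cons 0 v, ?_⟩
      ext j
      simp [g]
    have hfg : Function.Exact f g := by
      intro v
      constructor
      · intro hv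
        refine ⟨v 0, ?_⟩
        ext j
        refine Fin.cases ?_ (fun j' => ?_) j
        · simp [f]
        · have := congrFun hv j'
          simp only [g, LinearMap.pi_apply, LinearMap.proj_apply, Pi.zero_apply] at this
          simp [f, this]
      · rintro ⟨a, rfl⟩
        ext j
        simp [f, g]
    have hS := scOfLinear_shortExact f g hf hg hfg
    exact subsingleton_ext_X₂ M hS i h ih

/-- `Ext^i(M, P) = 0` for finite projective `P` if `Ext^i(M, A) = 0`. -/
lemma subsingleton_ext_of_finite_projective (M : ModuleCat.{u} A) (i : ℕ)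
    (h : Subsingleton (Ext M (ModuleCat.of A A) i)) (P : Type u) [AddCommGroup P] [Module A P]
    [Module.Finite A P] [Module.Projective A P] :
    Subsingleton (Ext M (ModuleCat.of A P) i) := by
  obtain ⟨m, r, hr⟩ := Module.Finite.exists_fin' A P
  obtain ⟨s, hs⟩ := Module.projective_lifting_property r LinearMap.id hr
  haveI := subsingleton_ext_pi M i h m
  refine ⟨fun a b => ?_⟩
  have key : ∀ x : Ext M (ModuleCat.of A P) i, x = 0 := by
    intro x
    have h1 : ModuleCat.ofHom s ≫ ModuleCat.ofHom r = 𝟙 (ModuleCat.of A P) := by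
      rw [← ModuleCat.ofHom_comp, hs]
      rfl
    have h2 : x = (x.comp (Ext.mk₀ (ModuleCat.ofHom s)) (add_zero i)).comp
        (Ext.mk₀ (ModuleCat.ofHom r)) (add_zero i) := by
      rw [Ext.comp_assoc_of_third_deg_zero, Ext.mk₀_comp_mk₀, h1, Ext.comp_mk₀_id]
    rw [h2, Subsingleton.elim (x.comp (Ext.mk₀ (ModuleCat.ofHom s)) (add_zero i)) 0,
      Ext.zero_comp]
  rw [key a, key b]

/-- If `0 → K → F → M → 0` is exact with `F` projective and `Ext^1(M, K) = 0`, then `M` is
projective. -/
lemma projective_of_subsingleton_ext_one {S : ShortComplex (ModuleCat.{u} A)} (hS : S.ShortExact)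
    [Projective S.X₂] (h : Subsingleton (Ext S.X₃ S.X₁ 1)) : Projective S.X₃ := by
  obtain ⟨x₂, hx₂⟩ := Ext.covariant_sequence_exact₃ S.X₃ hS (Ext.mk₀ (𝟙 S.X₃)) (zero_add 1)
    (Subsingleton.elim _ _)
  obtain ⟨s, rfl⟩ := Ext.homEquiv₀.symm.surjective x₂
  have hs : s ≫ S.g = 𝟙 S.X₃ := by
    apply Ext.homEquiv₀.symm.injective
    simpa using hx₂
  exact Retract.projective ⟨s, S.g, hs⟩

section Noeth

variable [IsNoetherianRing A]

/-- `Ext^i(K, A) = 0` for `i ≥ 1` for the kernel `K` of a surjection from a projective onto `M`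
when `Ext^{i+1}(M, A) = 0`. -/
lemma subsingleton_ext_X₁ {S : ShortComplex (ModuleCat.{u} A)} (hS : S.ShortExact)
    [Projective S.X₂] (Y : ModuleCat.{u} A) (i : ℕ)
    (h : Subsingleton (Ext S.X₃ Y (i + 1 + 1))) : Subsingleton (Ext S.X₁ Y (i + 1)) := by
  refine ⟨fun a b => ?_⟩
  have key : ∀ x : Ext S.X₁ Y (i + 1), x = 0 := by
    intro x
    obtain ⟨x₂, rfl⟩ := Ext.contravariant_sequence_exact₁ hS Y x (add_comm 1 (i + 1))
      (Subsingleton.elim _ _)
    rw [Ext.eq_zero_of_projective x₂, Ext.comp_zero]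
  rw [key a, key b]

/-- If `pd M ≤ e` and `Ext^i(M, A) = 0` for all `i ≥ 1`, then `M` is projective (`M` finite). -/
theorem projective_of_ext_ring_vanish : ∀ (e : ℕ) (M : Type u) [AddCommGroup M] [Module A M]
    [Module.Finite A M], HasProjectiveDimensionLT (ModuleCat.of A M) (e + 1) →
    (∀ i : ℕ, Subsingleton (Ext (ModuleCat.of A M) (ModuleCat.of A A) (i + 1))) →
    Projective (ModuleCat.of A M) := by
  intro e
  induction e with
  | zero =>
    intro M _ _ _ h _
    exact projective_iff_hasProjectiveDimensionLT_one.mpr h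
  | succ e ih =>
    intro M _ _ _ hpd hext
    obtain ⟨n, π, hπ⟩ := Module.Finite.exists_fin' A M
    let K : Submodule A (Fin n → A) := LinearMap.ker π
    have hS := scOfLinear_shortExact (N₁ := K) (N₂ := (Fin n → A)) (N₃ := M) K.subtype π
      K.injective_subtype hπ (LinearMap.exact_subtype_ker_map π)
    haveI hproj : Projective (scOfLinear K.subtype π (LinearMap.exact_subtype_ker_map π)).X₂ :=
      projective_of_free (Fin n → A)
    have hK : HasProjectiveDimensionLT (ModuleCat.of A K) (e + 1) :=
      hS.hasProjectiveDimensionLT_X₁ (e + 1) inferInstance hpd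
    have hKext : ∀ i : ℕ, Subsingleton (Ext (ModuleCat.of A K) (ModuleCat.of A A) (i + 1)) :=
      fun i => subsingleton_ext_X₁ hS (ModuleCat.of A A) i (hext (i + 1))
    have hKproj : Projective (ModuleCat.of A K) := ih K hK hKext
    haveI : Module.Projective A K :=
      (IsProjective.iff_projective (R := A) (P := K)).mpr hKproj
    have h1 : Subsingleton (Ext (ModuleCat.of A M) (ModuleCat.of A K) 1) :=
      subsingleton_ext_of_finite_projective (ModuleCat.of A M) 1 (hext 0) K
    exact projective_of_subsingleton_ext_one hS h1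

/-- If every module has `pd ≤ D` and `Ext^i(M, A) = 0` for `i > q`, then `pd M ≤ q`. -/
theorem hasProjectiveDimensionLT_of_ext_ring_vanish (D : ℕ)
    (hD : ∀ N : ModuleCat.{u} A, HasProjectiveDimensionLT N (D + 1)) :
    ∀ (q : ℕ) (M : Type u) [AddCommGroup M] [Module A M] [Module.Finite A M],
    (∀ i : ℕ, q < i → Subsingleton (Ext (ModuleCat.of A M) (ModuleCat.of A A) i)) →
    HasProjectiveDimensionLT (ModuleCat.of A M) (q + 1) := by
  intro q
  induction q with
  | zero =>
    intro M _ _ _ h
    haveI := projective_of_ext_ring_vanish D M (hD _) (fun i => h (i + 1) (Nat.succ_pos i))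
    infer_instance
  | succ q ih =>
    intro M _ _ _ h
    obtain ⟨n, π, hπ⟩ := Module.Finite.exists_fin' A M
    let K : Submodule A (Fin n → A) := LinearMap.ker π
    have hS := scOfLinear_shortExact (N₁ := K) (N₂ := (Fin n → A)) (N₃ := M) K.subtype π
      K.injective_subtype hπ (LinearMap.exact_subtype_ker_map π)
    haveI hproj : Projective (scOfLinear K.subtype π (LinearMap.exact_subtype_ker_map π)).X₂ :=
      projective_of_free (Fin n → A)
    have hKext : ∀ i : ℕ, q < i → Subsingleton (Ext (ModuleCat.of A K) (ModuleCat.of A A) i) := by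
      intro i hi
      obtain ⟨j, rfl⟩ : ∃ j, i = j + 1 := ⟨i - 1, by omega⟩
      exact subsingleton_ext_X₁ hS (ModuleCat.of A A) j (h (j + 1 + 1) (by omega))
    have hK : HasProjectiveDimensionLT (ModuleCat.of A K) (q + 1) := ih K hKext
    exact hS.hasProjectiveDimensionLT_X₃ (q + 1) hK inferInstance

end Noeth

/-- Over a regular local ring: `pd M ≤ q` iff `Ext^i(M, A) = 0` for all `i > q`. -/
theorem hasProjectiveDimensionLT_iff_ext_ring_vanish [IsRegularLocalRing A]
    (M : Type u) [AddCommGroup M] [Module A M] [Module.Finite A M] (q : ℕ) :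
    HasProjectiveDimensionLT (ModuleCat.of A M) (q + 1) ↔
      ∀ i : ℕ, q < i → Subsingleton (Ext (ModuleCat.of A M) (ModuleCat.of A A) i) := by
  constructor
  · intro h i hi
    exact HasProjectiveDimensionLT.subsingleton _ (q + 1) i hi _
  · intro h
    have hne_bot : ringKrullDim A ≠ ⊥ := ringKrullDim_ne_bot
    have hne_top : ringKrullDim A ≠ ⊤ := ringKrullDim_ne_top
    obtain ⟨d', hd'⟩ := WithBot.ne_bot_iff_exists.mp hne_bot
    have hd'top : d' ≠ ⊤ := by
      rintro rfl
      exact hne_top hd'.symm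
    obtain ⟨d, hd⟩ := ENat.ne_top_iff_exists.mp hd'top
    have hdim : ringKrullDim A = (d : ℕ) := by
      rw [← hd', ← hd]
      rfl
    exact hasProjectiveDimensionLT_of_ext_ring_vanish d
      (fun N => hasProjectiveDimensionLT_of_isRegularLocalRing d hdim N) q M h

end Groth.Agent.Helper1.ExtRing
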