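import Mathlib
import Groth.Agent.Helper1.RegGlobalDim
import Groth.Agent.Helper1.ExtRing

set_option autoImplicit false

namespace Groth.Agent.Helper1.RegBound
open CategoryTheory ModuleCat
universe u
variable {A : Type u} [CommRing A]

/-- The locus of primes where the localization of `M` has projective dimension `≤ n`. -/
def pdLocus (M : ModuleCat.{u} A) (n : ℕ) : Set (PrimeSpectrum A) :=
  {p | HasProjectiveDimensionLE (M.localizedModule p.asIdeal.primeCompl) n}

lemma mem_pdLocus_zero_iff (M : ModuleCat.{u} A) [Module.Finite A M] (p : PrimeSpectrum A) :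
    p ∈ pdLocus M 0 ↔ p ∈ Module.freeLocus A M := by
  have h1 : p ∈ pdLocus M 0 ↔ Projective (M.localizedModule p.asIdeal.primeCompl) := by
    show HasProjectiveDimensionLT _ (0 + 1) ↔ _
    rw [zero_add, ← projective_iff_hasProjectiveDimensionLT_one]
  have h2 : Projective (M.localizedModule p.asIdeal.primeCompl) ↔
      Module.Projective (Localization.AtPrime p.asIdeal)
        (M.localizedModule p.asIdeal.primeCompl) :=
    (IsProjective.iff_projective (R := Localization.AtPrime p.asIdeal)
      (M.localizedModule p.asIdeal.primeCompl)).symm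
  rw [h1, h2, Module.mem_freeLocus_of_isLocalization p (Localization.AtPrime p.asIdeal)
    (M.localizedModule p.asIdeal.primeCompl) (M.localizedModuleMkLinearMap p.asIdeal.primeCompl)]
  have : Module.Finite (Localization.AtPrime p.asIdeal) (M.localizedModule p.asIdeal.primeCompl) :=
    Module.Finite.of_isLocalizedModule p.asIdeal.primeCompl
      (M.localizedModuleMkLinearMap p.asIdeal.primeCompl)
  constructor
  · intro h
    exact Module.free_of_flat_of_isLocalRing
  · intro h
    exact Module.Projective.of_free


lemma isOpen_pdLocus [IsNoetherianRing A] (n : ℕ) :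
    ∀ (M : ModuleCat.{u} A) [Module.Finite A M], IsOpen (pdLocus M n) := by
  induction n with
  | zero =>
    intro M _
    have : pdLocus M 0 = Module.freeLocus A M := Set.ext (mem_pdLocus_zero_iff M)
    rw [this]
    have : Module.FinitePresentation A M := Module.finitePresentation_of_finite A M
    exact Module.isOpen_freeLocus
  | succ n ih =>
    intro M _
    rcases Module.exists_finite_presentation A M with ⟨P, _, _, _, _, f, surjf⟩
    let S := f.shortComplexKer
    have S_exact := LinearMap.shortExact_shortComplexKer surjf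
    have proj := ModuleCat.projective_of_categoryTheory_projective S.X₂
    let Sp (p : PrimeSpectrum A) := S.map (ModuleCat.localizedModuleFunctor p.1.primeCompl)
    have Sp_exact (p : PrimeSpectrum A) : (Sp p).ShortExact :=
      S_exact.map_of_exact (ModuleCat.localizedModuleFunctor p.asIdeal.primeCompl)
    have projp (p : PrimeSpectrum A) : Projective (Sp p).X₂ :=
      (ModuleCat.localizedModuleFunctor.{u} p.1.primeCompl).projective_obj_of_projective proj
    have hK := ih (ModuleCat.of A (LinearMap.ker f))
    have : pdLocus M (n + 1) = pdLocus (ModuleCat.of A (LinearMap.ker f)) n := by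
      ext p
      exact (Sp_exact p).hasProjectiveDimensionLT_X₃_iff n (projp p)
    rw [this]
    exact hK

theorem exists_hasProjectiveDimensionLE [IsRegularRing A] (M : ModuleCat.{u} A)
    [Module.Finite A M] : ∃ d : ℕ, HasProjectiveDimensionLE M d := by
  have hcover : (Set.univ : Set (PrimeSpectrum A)) ⊆ ⋃ n : ℕ, pdLocus M n := by
    intro p _
    have hne_bot : ringKrullDim (Localization.AtPrime p.asIdeal) ≠ ⊥ := ringKrullDim_ne_bot
    have hne_top : ringKrullDim (Localization.AtPrime p.asIdeal) ≠ ⊤ := ringKrullDim_ne_top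
    obtain ⟨d', hd'⟩ := WithBot.ne_bot_iff_exists.mp hne_bot
    have hd'top : d' ≠ ⊤ := by
      rintro rfl
      exact hne_top hd'.symm
    obtain ⟨d, hd⟩ := ENat.ne_top_iff_exists.mp hd'top
    have hdim : ringKrullDim (Localization.AtPrime p.asIdeal) = (d : ℕ) := by
      rw [← hd', ← hd]; rfl
    refine Set.mem_iUnion.mpr ⟨d, ?_⟩
    exact Groth.Agent.Helper1.TorLib.hasProjectiveDimensionLT_of_isRegularLocalRing d hdim _
  have hdir : Directed (· ⊆ ·) (fun n : ℕ => pdLocus M n) := by
    apply Monotone.directed_le
    intro m n hmn p hp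
    have hp' : HasProjectiveDimensionLT (M.localizedModule p.asIdeal.primeCompl) (m + 1) := hp
    exact hasProjectiveDimensionLT_of_ge _ (m + 1) (n + 1) (by omega)
  obtain ⟨N, hN⟩ := isCompact_univ.elim_directed_cover (fun n : ℕ => pdLocus M n)
    (fun n => isOpen_pdLocus n M) hcover hdir
  refine ⟨N, ?_⟩
  rw [hasProjectiveDimensionLE_iff_forall_primeSpectrum]
  intro p
  exact hN (Set.mem_univ p)

end Groth.Agent.Helper1.RegBound

namespace Groth.Agent.Helper1.RegBound
open CategoryTheory CategoryTheory.Limits Abelian ModuleCat Groth.Agent.Helper1.TorLib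
  Groth.Agent.Helper1.ExtRing
universe u
variable {A : Type u} [CommRing A] [IsNoetherianRing A]

/-- If every finite module has `pd ≤ D` and `Ext^i(M, A) = 0` for `i > q`, then `pd M ≤ q`. -/
theorem hasProjectiveDimensionLT_of_ext_ring_vanish' (D : ℕ)
    (hD : ∀ (N : Type u) [AddCommGroup N] [Module A N] [Module.Finite A N],
      HasProjectiveDimensionLT (ModuleCat.of A N) (D + 1)) :
    ∀ (q : ℕ) (M : Type u) [AddCommGroup M] [Module A M] [Module.Finite A M],
    (∀ i : ℕ, q < i → Subsingleton (Ext (ModuleCat.of A M) (ModuleCat.of A A) i)) →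
    HasProjectiveDimensionLT (ModuleCat.of A M) (q + 1) := by
  intro q
  induction q with
  | zero =>
    intro M _ _ _ h
    haveI := projective_of_ext_ring_vanish D M (hD M) (fun i => h (i + 1) (Nat.succ_pos i))
    infer_instance
  | succ q ih =>
    intro M _ _ _ h
    obtain ⟨n, π, hπ⟩ := Module.Finite.exists_fin' A M
    let K : Submodule A (Fin n → A) := LinearMap.ker π
    have hS := scOfLinear_shortExact (N₁ := K) (N₂ := (Fin n → A)) (N₃ := M) K.subtype π
      K.injective_subtype hπ (LinearMap.exact_subtype_ker_map π)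
    haveI hproj : Projective (scOfLinear K.subtype π (LinearMap.exact_subtype_ker_map π)).X₂ :=
      projective_of_free (Fin n → A)
    have hKext : ∀ i : ℕ, q < i → Subsingleton (Ext (ModuleCat.of A K) (ModuleCat.of A A) i) := by
      intro i hi
      obtain ⟨j, rfl⟩ : ∃ j, i = j + 1 := ⟨i - 1, by omega⟩
      exact subsingleton_ext_X₁ hS (ModuleCat.of A A) j (h (j + 1 + 1) (by omega))
    have hK : HasProjectiveDimensionLT (ModuleCat.of A K) (q + 1) := ih K hKext
    exact hS.hasProjectiveDimensionLT_X₃ (q + 1) hK inferInstance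

/-- Over a Noetherian ring of Krull dimension `≤ D` whose localizations at maximal ideals are regular,
every finite module has `pd ≤ D`. -/
theorem hasProjectiveDimensionLT_of_regular_of_dim_le
    (hreg : ∀ m : MaximalSpectrum A, IsRegularLocalRing (Localization.AtPrime m.asIdeal))
    (D : ℕ) (hdim : ringKrullDim A ≤ D) (N : Type u) [AddCommGroup N] [Module A N]
    [Module.Finite A N] : HasProjectiveDimensionLT (ModuleCat.of A N) (D + 1) := by
  show HasProjectiveDimensionLE (ModuleCat.of A N) D
  rw [hasProjectiveDimensionLE_iff_forall_maximalSpectrum]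
  intro m
  haveI := hreg m
  have hne_bot : ringKrullDim (Localization.AtPrime m.asIdeal) ≠ ⊥ := ringKrullDim_ne_bot
  have hle : ringKrullDim (Localization.AtPrime m.asIdeal) ≤ D := by
    rw [IsLocalization.AtPrime.ringKrullDim_eq_height m.asIdeal]
    exact (Ideal.height_le_ringKrullDim_of_isPrime).trans hdim
  obtain ⟨d', hd'⟩ := WithBot.ne_bot_iff_exists.mp hne_bot
  have hd'le : d' ≤ (D : ℕ∞) := by
    rw [← hd'] at hle
    exact_mod_cast hle
  obtain ⟨d, hd⟩ := ENat.ne_top_iff_exists.mp (ne_top_of_le_ne_top (ENat.coe_ne_top D) hd'le)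
  have hdim' : ringKrullDim (Localization.AtPrime m.asIdeal) = (d : ℕ) := by
    rw [← hd', ← hd]; rfl
  have hdD : d ≤ D := by
    rw [← hd] at hd'le
    exact_mod_cast hd'le
  have := Groth.Agent.Helper1.TorLib.hasProjectiveDimensionLT_of_isRegularLocalRing d hdim'
    ((ModuleCat.of A N).localizedModule m.asIdeal.primeCompl)
  exact hasProjectiveDimensionLT_of_ge _ (d + 1) (D + 1) (by omega)

end Groth.Agent.Helper1.RegBound
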