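import Mathlib
import Groth.Prelude.Def_CAlgX

/-!
# Regular sequences are quasi-regular
-/

open MvPolynomial

namespace Groth.Agent.Helper1.QuasiReg

variable {B : Type*} [CommRing B]

/-- Lemma V: a homogeneous polynomial of degree `ν` with coefficients in `I = (g)` evaluates
into `I^(ν+1)`. -/
theorem eval_mem_pow_succ {c : ℕ} (g : Fin c → B) (ν : ℕ) (P : MvPolynomial (Fin c) B)
    (hP : P.IsHomogeneous ν) (hc : ∀ d, P.coeff d ∈ Ideal.span (Set.range g)) :
    eval g P ∈ Ideal.span (Set.range g) ^ (ν + 1) := by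
  rw [MvPolynomial.eval_eq']
  refine Ideal.sum_mem _ fun d hd => ?_
  rw [pow_succ']
  refine Ideal.mul_mem_mul (hc d) ?_
  rw [Ideal.mem_span_pow_iff_exists_isHomogeneous]
  refine ⟨monomial d 1, ?_, by simp [MvPolynomial.eval_monomial]⟩
  have hdeg : d.degree = ν := by
    have := hP (mem_support_iff.mp hd)
    rw [Finsupp.degree_eq_weight_one]
    exact this
  exact isHomogeneous_monomial _ hdeg

/-- Lemma R: elements of `I^(ν+1)` are values of homogeneous polynomials of degree `ν` with
coefficients in `I`. -/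
theorem exists_of_mem_pow_succ {c : ℕ} (g : Fin c → B) (ν : ℕ) (y : B)
    (hy : y ∈ Ideal.span (Set.range g) ^ (ν + 1)) :
    ∃ P : MvPolynomial (Fin c) B, P.IsHomogeneous ν ∧
      (∀ d, P.coeff d ∈ Ideal.span (Set.range g)) ∧ eval g P = y := by
  rw [pow_succ] at hy
  refine Submodule.mul_induction_on hy ?_ ?_
  · intro m hm u hu
    rw [Ideal.mem_span_pow_iff_exists_isHomogeneous] at hm
    obtain ⟨P₀, hP₀, rfl⟩ := hm
    refine ⟨C u * P₀, hP₀.C_mul u, fun d => ?_, ?_⟩
    · rw [coeff_C_mul]
      exact Ideal.mul_mem_right _ _ hu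
    · rw [map_mul, eval_C, mul_comm]
  · rintro y₁ y₂ ⟨P₁, h₁, hc₁, rfl⟩ ⟨P₂, h₂, hc₂, rfl⟩
    exact ⟨P₁ + P₂, h₁.add h₂, fun d => by rw [coeff_add]; exact Ideal.add_mem _ (hc₁ d) (hc₂ d),
      map_add _ _ _⟩

/-- Lemma A: if `f` is quasi-regular and `x` is a nonzerodivisor modulo `(f)`, then `x` is a
nonzerodivisor modulo all powers of `(f)`. -/
theorem regular_mod_pow {n : ℕ} (f : Fin n → B) (hf : CAlgX.IsQuasiRegular f) (x : B)
    (hx : ∀ y, x * y ∈ Ideal.span (Set.range f) → y ∈ Ideal.span (Set.range f)) :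
    ∀ (ν : ℕ) (y : B), x * y ∈ Ideal.span (Set.range f) ^ ν → y ∈ Ideal.span (Set.range f) ^ ν := by
  intro ν
  induction ν with
  | zero => intro y _; simp
  | succ ν ih =>
    intro y hy
    have h1 : y ∈ Ideal.span (Set.range f) ^ ν := ih y (Ideal.pow_le_pow_right (Nat.le_succ ν) hy)
    rw [Ideal.mem_span_pow_iff_exists_isHomogeneous] at h1
    obtain ⟨P, hP, rfl⟩ := h1
    have h2 : ∀ d, (C x * P).coeff d ∈ Ideal.span (Set.range f) := by
      apply hf ν (C x * P) (hP.C_mul x)
      rw [map_mul, eval_C]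
      exact hy
    apply eval_mem_pow_succ f ν P hP
    intro d
    apply hx
    have := h2 d
    rwa [coeff_C_mul] at this

theorem degree_cons {n : ℕ} (m : Fin n →₀ ℕ) (i : ℕ) : (m.cons i).degree = i + m.degree := by
  rw [Finsupp.degree_eq_sum, Finsupp.degree_eq_sum, Fin.sum_univ_succ]
  simp

theorem isHomogeneous_iff_degree {σ : Type*} (P : MvPolynomial σ B) (ν : ℕ) :
    P.IsHomogeneous ν ↔ ∀ d, P.coeff d ≠ 0 → d.degree = ν := by
  constructor
  · intro h d hd
    rw [Finsupp.degree_eq_weight_one]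
    exact h hd
  · intro h d hd
    have := h d hd
    rw [Finsupp.degree_eq_weight_one] at this
    exact this

/-- The inductive step: adding to a quasi-regular sequence `f` an element which is regular
modulo `(f)` (in first position) gives a quasi-regular sequence. -/
theorem isQuasiRegular_cons {n : ℕ} (f : Fin n → B) (hf : CAlgX.IsQuasiRegular f) (x : B)
    (hx : ∀ y, x * y ∈ Ideal.span (Set.range f) → y ∈ Ideal.span (Set.range f)) :
    CAlgX.IsQuasiRegular (Fin.cons x f : Fin (n + 1) → B) := by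
  have hI₀I : Ideal.span (Set.range f) ≤ Ideal.span (Set.range (Fin.cons x f : Fin (n + 1) → B)) :=
    Ideal.span_mono (by rintro _ ⟨i, rfl⟩; exact ⟨i.succ, by simp⟩)
  have hxI : x ∈ Ideal.span (Set.range (Fin.cons x f : Fin (n + 1) → B)) :=
    Ideal.subset_span ⟨0, by simp⟩
  -- it suffices to treat polynomials vanishing at the sequence
  have wrap : ∀ ν, (∀ F : MvPolynomial (Fin (n + 1)) B, F.IsHomogeneous ν →
      eval (Fin.cons x f : Fin (n + 1) → B) F = 0 →
      ∀ d, F.coeff d ∈ Ideal.span (Set.range (Fin.cons x f : Fin (n + 1) → B))) →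
      (∀ F : MvPolynomial (Fin (n + 1)) B, F.IsHomogeneous ν →
      eval (Fin.cons x f : Fin (n + 1) → B) F ∈
        Ideal.span (Set.range (Fin.cons x f : Fin (n + 1) → B)) ^ (ν + 1) →
      ∀ d, F.coeff d ∈ Ideal.span (Set.range (Fin.cons x f : Fin (n + 1) → B))) := by
    intro ν key F hF hev d
    obtain ⟨P', hP', hc', he'⟩ := exists_of_mem_pow_succ _ ν _ hev
    have h1 := key (F - P') (hF.sub hP') (by rw [map_sub, he', sub_self]) d
    rw [coeff_sub] at h1
    have h2 : F.coeff d = (F.coeff d - P'.coeff d) + P'.coeff d := by ring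
    rw [h2]; exact Ideal.add_mem _ h1 (hc' d)
  suffices key : ∀ ν (F : MvPolynomial (Fin (n + 1)) B), F.IsHomogeneous ν →
      eval (Fin.cons x f : Fin (n + 1) → B) F = 0 →
      ∀ d, F.coeff d ∈ Ideal.span (Set.range (Fin.cons x f : Fin (n + 1) → B)) from
    fun ν => wrap ν (key ν)
  intro ν
  induction ν with
  | zero =>
    intro F hF hev d
    have h1 : F = C (F.coeff 0) :=
      totalDegree_eq_zero_iff_eq_C.mp (Nat.le_zero.mp hF.totalDegree_le)
    rw [h1, eval_C] at hev
    rw [h1, hev, C_0, coeff_zero]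
    exact Ideal.zero_mem _
  | succ μ ih =>
    intro F hF hev
    have hQRμ := wrap μ ih
    set p := finSuccEquiv B n F with hp
    set G := p.coeff 0 with hGdef
    set H := (finSuccEquiv B n).symm p.divX with hH
    have hpH : finSuccEquiv B n H = p.divX := AlgEquiv.apply_symm_apply _ _
    have hG : G.IsHomogeneous (μ + 1) :=
      hF.finSuccEquiv_coeff_isHomogeneous 0 (μ + 1) (by omega)
    have hcoeffH : ∀ (m : Fin n →₀ ℕ) (i : ℕ), H.coeff (m.cons i) = F.coeff (m.cons (i + 1)) := by
      intro m i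
      rw [← finSuccEquiv_coeff_coeff, hpH, Polynomial.coeff_divX, hp, finSuccEquiv_coeff_coeff]
    have hHhom : H.IsHomogeneous μ := by
      rw [isHomogeneous_iff_degree]
      intro d hd
      rw [← Finsupp.cons_tail d] at hd ⊢
      rw [hcoeffH] at hd
      have h1 := (isHomogeneous_iff_degree F (μ + 1)).mp hF _ hd
      rw [degree_cons] at h1 ⊢
      omega
    have hevF : eval (Fin.cons x f : Fin (n + 1) → B) F =
        eval f G + x * eval (Fin.cons x f : Fin (n + 1) → B) H := by
      rw [eval_eq_eval_mv_eval', eval_eq_eval_mv_eval', hpH, ← hp]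
      conv_lhs => rw [← Polynomial.X_mul_divX_add p]
      simp only [Polynomial.map_add, Polynomial.map_mul, Polynomial.map_X, Polynomial.map_C,
        Polynomial.eval_add, Polynomial.eval_mul, Polynomial.eval_X, Polynomial.eval_C]
      ring
    have hGmem : eval f G ∈ Ideal.span (Set.range f) ^ (μ + 1) :=
      (Ideal.mem_span_pow_iff_exists_isHomogeneous f _).mpr ⟨G, hG, rfl⟩
    have hxH : x * eval (Fin.cons x f : Fin (n + 1) → B) H ∈ Ideal.span (Set.range f) ^ (μ + 1) := by
      have : x * eval (Fin.cons x f : Fin (n + 1) → B) H = - eval f G := by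
        rw [hevF] at hev
        linear_combination hev
      rw [this]
      exact Ideal.neg_mem_iff _ |>.mpr hGmem
    have hAH := regular_mod_pow f hf x hx (μ + 1) _ hxH
    have hHc : ∀ d, H.coeff d ∈ Ideal.span (Set.range (Fin.cons x f : Fin (n + 1) → B)) :=
      hQRμ H hHhom (Ideal.pow_right_mono hI₀I _ hAH)
    obtain ⟨h, hh, hhe⟩ := (Ideal.mem_span_pow_iff_exists_isHomogeneous f _).mp hAH
    have hGc : ∀ m, G.coeff m ∈ Ideal.span (Set.range (Fin.cons x f : Fin (n + 1) → B)) := by
      intro m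
      have h1 : ∀ d, (G + C x * h).coeff d ∈ Ideal.span (Set.range f) := by
        apply hf (μ + 1) (G + C x * h) (hG.add (hh.C_mul x))
        rw [map_add, map_mul, eval_C, hhe, ← hevF, hev]
        exact Ideal.zero_mem _
      have h2 := h1 m
      rw [coeff_add, coeff_C_mul] at h2
      have h3 : G.coeff m = (G.coeff m + x * h.coeff m) - x * h.coeff m := by ring
      rw [h3]
      exact Ideal.sub_mem _ (hI₀I h2) (Ideal.mul_mem_right _ _ hxI)
    intro d
    rw [← Finsupp.cons_tail d]
    rcases Nat.eq_zero_or_pos (d 0) with h0 | h0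
    · rw [h0, ← finSuccEquiv_coeff_coeff, ← hp]
      exact hGc _
    · obtain ⟨i, hi⟩ : ∃ i, d 0 = i + 1 := ⟨d 0 - 1, by omega⟩
      rw [hi, ← hcoeffH]
      exact hHc _

/-- Quasi-regularity is invariant under reindexing. -/
theorem isQuasiRegular_comp_equiv {c : ℕ} (g : Fin c → B) (hg : CAlgX.IsQuasiRegular g)
    (e : Fin c ≃ Fin c) : CAlgX.IsQuasiRegular (g ∘ e) := by
  have hrange : Set.range (g ∘ e) = Set.range g := e.surjective.range_comp g
  intro ν P hP hev d
  rw [hrange] at hev ⊢
  have h1 : eval g (rename e P) = eval (g ∘ e) P := eval_rename _ _ _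
  have h2 := hg ν (rename e P) (hP.rename_isHomogeneous) (by rw [h1]; exact hev)
    (d.mapDomain e)
  rwa [coeff_rename_mapDomain e e.injective] at h2

theorem isQuasiRegular_snoc {n : ℕ} (f : Fin n → B) (hf : CAlgX.IsQuasiRegular f) (x : B)
    (hx : ∀ y, x * y ∈ Ideal.span (Set.range f) → y ∈ Ideal.span (Set.range f)) :
    CAlgX.IsQuasiRegular (Fin.snoc f x : Fin (n + 1) → B) := by
  rw [Fin.snoc_eq_cons_rotate]
  exact isQuasiRegular_comp_equiv _ (isQuasiRegular_cons f hf x hx) (finRotate _)

theorem isQuasiRegular_fin_zero (f : Fin 0 → B) : CAlgX.IsQuasiRegular f := by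
  intro ν P hP hev d
  have hr : Ideal.span (Set.range f) = ⊥ := by
    rw [Set.range_eq_empty, Ideal.span_empty]
  rw [hr] at hev ⊢
  rw [Ideal.bot_pow (Nat.succ_ne_zero ν), Ideal.mem_bot] at hev
  have h1 : P = C (P.coeff 0) := eq_C_of_isEmpty P
  rw [h1, eval_C] at hev
  rw [Ideal.mem_bot, h1, hev, C_0, coeff_zero]

/-- A sequence each of whose members is a nonzerodivisor modulo the previous ones is
quasi-regular. -/
theorem isQuasiRegular_of_regular : ∀ (r : ℕ) (f : Fin r → B),
    (∀ i : Fin r, ∀ y, f i * y ∈ Ideal.span (f '' {j | j < i}) →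
      y ∈ Ideal.span (f '' {j | j < i})) → CAlgX.IsQuasiRegular f := by
  intro r
  induction r with
  | zero => intro f _; exact isQuasiRegular_fin_zero f
  | succ r ih =>
    intro f hreg
    have hinit : ∀ i : Fin r, (Fin.init f) '' {j | j < i} = f '' {j | j < i.castSucc} := by
      intro i
      ext z
      constructor
      · rintro ⟨j, hj, rfl⟩
        exact ⟨j.castSucc, by simpa using hj, rfl⟩
      · rintro ⟨j', hj', rfl⟩
        have hlt : j'.val < r := lt_of_lt_of_le (Fin.lt_def.mp hj') (by simp)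
        refine ⟨⟨j'.val, hlt⟩, ?_, ?_⟩
        · simp only [Set.mem_ofPred_eq, Fin.lt_def] at hj' ⊢
          simpa using hj'
        · simp [Fin.init]
    have hlast : Set.range (Fin.init f) = f '' {j | j < Fin.last r} := by
      ext z
      constructor
      · rintro ⟨j, rfl⟩
        exact ⟨j.castSucc, Fin.castSucc_lt_last j, rfl⟩
      · rintro ⟨j', hj', rfl⟩
        have hlt : j'.val < r := by simpa [Fin.lt_def] using hj'
        exact ⟨⟨j'.val, hlt⟩, by simp [Fin.init]⟩
    have h0 : CAlgX.IsQuasiRegular (Fin.init f) := by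
      apply ih
      intro i y hy
      rw [hinit] at hy ⊢
      exact hreg i.castSucc y hy
    have h1 := isQuasiRegular_snoc (Fin.init f) h0 (f (Fin.last r)) (by
      intro y hy
      rw [hlast] at hy ⊢
      exact hreg (Fin.last r) y hy)
    rwa [Fin.snoc_init_self] at h1

end Groth.Agent.Helper1.QuasiReg
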