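import Mathlib
import Groth.Prelude.Def_EGA41

/-!
# p-bases: generalities
-/

set_option autoImplicit false
universe u

namespace Groth.Agent.Helper1.PBasis

open EGA41

section monoid
variable {ι : Type*} {N : Type*} [CommMonoid N]

/-- splitting a monomial into its `p`-divisible part and its reduced part -/
lemma prod_pow_split (p : ℕ) (y : ι → N) (e : ι →₀ ℕ) :
    (e.prod fun i n => y i ^ n) =
      ((e.mapRange (· / p) (Nat.zero_div p)).prod fun i n => (y i ^ p) ^ n) *
        ((e.mapRange (· % p) (Nat.zero_mod p)).prod fun i n => y i ^ n) := by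
  have h1 : (e.mapRange (· / p) (Nat.zero_div p)).support ⊆ e.support := Finsupp.support_mapRange
  have h2 : (e.mapRange (· % p) (Nat.zero_mod p)).support ⊆ e.support := Finsupp.support_mapRange
  rw [Finsupp.prod_of_support_subset _ h1 _ (by intro i _; simp),
    Finsupp.prod_of_support_subset _ h2 _ (by intro i _; simp), Finsupp.prod, ← Finset.prod_mul_distrib]
  apply Finset.prod_congr rfl
  intro i _
  simp only [Finsupp.mapRange_apply]
  rw [← pow_mul, ← pow_add, Nat.div_add_mod]

end monoid

section basic
variable (p : ℕ) [hp : Fact p.Prime] {A B : Type u} [CommRing A] [CommRing B] [Algebra A B] [CharP B p]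

omit hp [CharP B p] in
lemma pow_mem (b : B) : b ^ p ∈ pPowerSubalgebra p A B := Algebra.subset_adjoin ⟨b, rfl⟩

/-- every `A`-derivation of `B` kills `A[B^p]` -/
lemma derivation_eq_zero {M : Type*} [AddCommGroup M] [Module B M] [Module A M] [IsScalarTower A B M]
    (D : Derivation A B M) (c : B) (hc : c ∈ pPowerSubalgebra p A B) : D c = 0 := by
  unfold pPowerSubalgebra at hc
  induction hc using Algebra.adjoin_induction with
  | mem x hx =>
    obtain ⟨b, rfl⟩ := hx
    rw [Derivation.leibniz_pow, ← Nat.cast_smul_eq_nsmul B, CharP.cast_eq_zero, zero_smul]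
  | algebraMap r => exact D.map_algebraMap r
  | add x y _ _ hx hy => rw [map_add, hx, hy, add_zero]
  | mul x y _ _ hx hy => rw [Derivation.leibniz, hx, hy, smul_zero, smul_zero, add_zero]

variable {ι : Type u} (x : ι → B)

omit hp [CharP B p] in
lemma pMonomial_mem_adjoin (e : ι →₀ ℕ) :
    pMonomial x e ∈ Algebra.adjoin (pPowerSubalgebra p A B) (Set.range x) := by
  unfold pMonomial
  apply Subalgebra.prod_mem
  intro i _
  exact Subalgebra.pow_mem _ (Algebra.subset_adjoin (Set.mem_range_self i)) _

omit hp [CharP B p] in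
lemma adjoin_eq_top (hx : IsPGenerating p A x) :
    Algebra.adjoin (pPowerSubalgebra p A B) (Set.range x) = ⊤ := by
  rw [eq_top_iff]
  intro b _
  have hb : b ∈ Submodule.span (pPowerSubalgebra p A B)
      (Set.range fun e : {e : ι →₀ ℕ // ∀ i, e i < p} => pMonomial x e.1) := by
    rw [hx]; trivial
  have hle : Submodule.span (pPowerSubalgebra p A B)
      (Set.range fun e : {e : ι →₀ ℕ // ∀ i, e i < p} => pMonomial x e.1) ≤
      Subalgebra.toSubmodule (Algebra.adjoin (pPowerSubalgebra p A B) (Set.range x)) := by
    rw [Submodule.span_le]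
    rintro _ ⟨e, rfl⟩
    exact pMonomial_mem_adjoin p x e.1
  exact hle hb

/-- the differentials `d x_α` span `Ω_{B/A}` when `x` is `p`-generating -/
lemma span_D_eq_top (hx : IsPGenerating p A x) :
    Submodule.span B (Set.range fun i => KaehlerDifferential.D A B (x i)) = ⊤ := by
  rw [eq_top_iff, ← KaehlerDifferential.span_range_derivation, Submodule.span_le]
  rintro _ ⟨b, rfl⟩
  have hb : b ∈ Algebra.adjoin (pPowerSubalgebra p A B) (Set.range x) := by
    rw [adjoin_eq_top p x hx]; trivial
  induction hb using Algebra.adjoin_induction with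
  | mem y hy =>
    obtain ⟨i, rfl⟩ := hy
    exact Submodule.subset_span ⟨i, rfl⟩
  | algebraMap c =>
    have : KaehlerDifferential.D A B (algebraMap (pPowerSubalgebra p A B) B c) = 0 :=
      derivation_eq_zero p (KaehlerDifferential.D A B) _ c.2
    rw [SetLike.mem_coe, this]
    exact Submodule.zero_mem _
  | add y z _ _ hy hz =>
    rw [SetLike.mem_coe, map_add]
    exact Submodule.add_mem _ hy hz
  | mul y z _ _ hy hz =>
    rw [SetLike.mem_coe, Derivation.leibniz]
    exact Submodule.add_mem _ (Submodule.smul_mem _ _ hz) (Submodule.smul_mem _ _ hy)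

end basic

end Groth.Agent.Helper1.PBasis
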