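import Mathlib
import Groth.Agent.Helper1.PBasis

/-!
# p-bases: the presentation `B = C[X_α]/(X_α^p - x_α^p)` with `C = A[B^p]`
-/

set_option autoImplicit false
universe u

namespace Groth.Agent.Helper1.PBasis

open EGA41 MvPolynomial

section pres
variable (p : ℕ) [hp : Fact p.Prime] (A : Type u) {B : Type u} [CommRing A] [CommRing B] [Algebra A B]
variable {ι : Type u} (x : ι → B)

/-- `x_α^p` as an element of `A[B^p]` -/
def cpow (i : ι) : pPowerSubalgebra p A B := ⟨x i ^ p, pow_mem p (x i)⟩

/-- the evaluation map `C[X] → B` -/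
noncomputable def piMap : MvPolynomial ι (pPowerSubalgebra p A B) →ₐ[pPowerSubalgebra p A B] B :=
  MvPolynomial.aeval x

/-- the ideal `(X_α^p - x_α^p)` -/
noncomputable def Jideal : Ideal (MvPolynomial ι (pPowerSubalgebra p A B)) :=
  Ideal.span (Set.range fun i => (X i : MvPolynomial ι (pPowerSubalgebra p A B)) ^ p - C (cpow p A x i))

omit hp in
lemma Jideal_le_ker : Jideal p A x ≤ RingHom.ker (piMap p A x) := by
  unfold Jideal
  rw [Ideal.span_le]
  rintro _ ⟨i, rfl⟩
  rw [SetLike.mem_coe, RingHom.mem_ker]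
  simp only [piMap, map_sub, map_pow, aeval_X, aeval_C]
  change x i ^ p - (x i ^ p) = 0
  exact sub_self _

omit hp in
lemma mk_X_pow (i : ι) :
    (Ideal.Quotient.mk (Jideal p A x) (X i)) ^ p = Ideal.Quotient.mk (Jideal p A x) (C (cpow p A x i)) := by
  rw [← map_pow, Ideal.Quotient.eq]
  exact Ideal.subset_span ⟨i, rfl⟩

/-- the index type of reduced exponents -/
abbrev RedIdx (p : ℕ) (ι : Type u) : Type u := {e : ι →₀ ℕ // ∀ i, e i < p}

omit [CommRing A] [Algebra A B] in
/-- the reduced part of an exponent -/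
noncomputable def redPart (e : ι →₀ ℕ) : RedIdx p ι :=
  ⟨e.mapRange (· % p) (Nat.zero_mod p), fun i => by
    rw [Finsupp.mapRange_apply]; exact Nat.mod_lt _ hp.out.pos⟩

/-- the coefficient coming from the `p`-divisible part of an exponent -/
noncomputable def divCoeff (e : ι →₀ ℕ) : pPowerSubalgebra p A B :=
  (e.mapRange (· / p) (Nat.zero_div p)).prod fun i n => cpow p A x i ^ n

lemma monomial_sub_mem (e : ι →₀ ℕ) (c : pPowerSubalgebra p A B) :
    monomial e c - monomial (redPart p e).1 (c * divCoeff p A x e) ∈ Jideal p A x := by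
  rw [← Ideal.Quotient.eq, monomial_eq, monomial_eq, map_mul, map_mul, map_finsuppProd, map_finsuppProd]
  simp only [map_pow]
  rw [prod_pow_split p (fun i => Ideal.Quotient.mk (Jideal p A x) (X i)) e]
  simp only [mk_X_pow p A x]
  rw [C_mul, map_mul, divCoeff, map_finsuppProd, map_finsuppProd]
  simp only [map_pow, redPart]
  ring

lemma exists_reduced (f : MvPolynomial ι (pPowerSubalgebra p A B)) :
    ∃ g : RedIdx p ι →₀ pPowerSubalgebra p A B,
      f - g.sum (fun e c => monomial e.1 c) ∈ Jideal p A x := by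
  induction f using MvPolynomial.induction_on' with
  | monomial e c =>
    refine ⟨Finsupp.single (redPart p e) (c * divCoeff p A x e), ?_⟩
    rw [Finsupp.sum_single_index (by simp)]
    exact monomial_sub_mem p A x e c
  | add f₁ f₂ h₁ h₂ =>
    obtain ⟨g₁, hg₁⟩ := h₁
    obtain ⟨g₂, hg₂⟩ := h₂
    refine ⟨g₁ + g₂, ?_⟩
    rw [Finsupp.sum_add_index' (by simp) (by intro e c₁ c₂; simp)]
    have : f₁ + f₂ - (g₁.sum (fun e c => monomial e.1 c) + g₂.sum (fun e c => monomial e.1 c)) =
        (f₁ - g₁.sum (fun e c => monomial e.1 c)) + (f₂ - g₂.sum (fun e c => monomial e.1 c)) := by ring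
    rw [this]
    exact Ideal.add_mem _ hg₁ hg₂

omit hp in
lemma piMap_monomial (e : ι →₀ ℕ) (c : pPowerSubalgebra p A B) :
    piMap p A x (monomial e c) = c • pMonomial x e := by
  rw [piMap, aeval_monomial, Algebra.smul_def]
  rfl

lemma ker_le_Jideal (hx : IsPIndependent p A x) : RingHom.ker (piMap p A x) ≤ Jideal p A x := by
  intro f hf
  obtain ⟨g, hg⟩ := exists_reduced p A x f
  have h1 : piMap p A x (g.sum (fun e c => monomial e.1 c)) = 0 := by
    have := Jideal_le_ker p A x hg
    rw [RingHom.mem_ker, map_sub, (RingHom.mem_ker).1 hf, zero_sub, neg_eq_zero] at this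
    exact this
  have h2 : piMap p A x (g.sum (fun e c => monomial e.1 c)) =
      Finsupp.linearCombination (pPowerSubalgebra p A B)
        (fun e : RedIdx p ι => pMonomial x e.1) g := by
    rw [Finsupp.linearCombination_apply, Finsupp.sum, map_sum, Finsupp.sum]
    apply Finset.sum_congr rfl
    intro e _
    rw [piMap_monomial p A x]
  rw [h2] at h1
  have hg0 : g = 0 := (linearIndependent_iff.1 hx) g h1
  rw [hg0, Finsupp.sum_zero_index, sub_zero] at hg
  exact hg

omit hp in
lemma piMap_surjective (hx : IsPGenerating p A x) : Function.Surjective (piMap p A x) := by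
  intro b
  have hb : b ∈ Algebra.adjoin (pPowerSubalgebra p A B) (Set.range x) := by
    rw [adjoin_eq_top p x hx]; trivial
  rw [Algebra.adjoin_range_eq_range_aeval] at hb
  exact hb

/-- maps out of `B` from families `z` with `z_α^p = x_α^p` -/
noncomputable def liftAlg (hx : IsPBasis p A x) {E : Type*} [CommRing E] [Algebra (pPowerSubalgebra p A B) E]
    (z : ι → E) (hz : ∀ i, z i ^ p = algebraMap (pPowerSubalgebra p A B) E (cpow p A x i)) :
    B →ₐ[pPowerSubalgebra p A B] E :=
  AlgHom.liftOfSurjective (piMap p A x) (piMap_surjective p A x hx.2) (MvPolynomial.aeval z) (by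
    refine le_trans (ker_le_Jideal p A x hx.1) ?_
    unfold Jideal
    rw [Ideal.span_le]
    rintro _ ⟨i, rfl⟩
    rw [SetLike.mem_coe, RingHom.mem_ker]
    simp [hz])

lemma liftAlg_apply (hx : IsPBasis p A x) {E : Type*} [CommRing E] [Algebra (pPowerSubalgebra p A B) E]
    (z : ι → E) (hz : ∀ i, z i ^ p = algebraMap (pPowerSubalgebra p A B) E (cpow p A x i)) (i : ι) :
    liftAlg p A x hx z hz (x i) = z i := by
  have : x i = piMap p A x (X i) := by simp [piMap]
  rw [this, liftAlg, AlgHom.liftOfSurjective_apply, aeval_X]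

omit hp in
/-- two `C`-algebra maps out of `B` agreeing on the `x_α` are equal -/
lemma algHom_ext (hx : IsPGenerating p A x) {E : Type*} [CommRing E] [Algebra (pPowerSubalgebra p A B) E]
    (v w : B →ₐ[pPowerSubalgebra p A B] E) (h : ∀ i, v (x i) = w (x i)) : v = w := by
  apply AlgHom.ext_of_adjoin_eq_top (adjoin_eq_top p x hx)
  rintro _ ⟨i, rfl⟩
  exact h i

end pres

end Groth.Agent.Helper1.PBasis
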