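import Mathlib
import Groth.Agent.Helper1.PBasis2

/-!
# p-bases: the partial derivatives and the basis of differentials
-/

set_option autoImplicit false
universe u

namespace Groth.Agent.Helper1.PBasis

open EGA41 MvPolynomial

section deriv
variable (p : ℕ) [hp : Fact p.Prime] (A : Type u) {B : Type u} [CommRing A] [CommRing B] [Algebra A B]
  [CharP B p]
variable {ι : Type u} (x : ι → B)

open Classical in
/-- the family `x_α + δ_{αβ} ε` of dual numbers -/
noncomputable def zfam (β : ι) (i : ι) : TrivSqZeroExt B B :=
  TrivSqZeroExt.inl (x i) + TrivSqZeroExt.inr (if i = β then 1 else 0)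

omit hp [CharP B p] in
lemma algebraMap_dn (c : pPowerSubalgebra p A B) :
    algebraMap (pPowerSubalgebra p A B) (TrivSqZeroExt B B) c = TrivSqZeroExt.inl (c : B) := rfl

lemma zfam_pow (β : ι) (i : ι) :
    zfam x β i ^ p = algebraMap (pPowerSubalgebra p A B) (TrivSqZeroExt B B) (cpow p A x i) := by
  rw [algebraMap_dn]
  apply TrivSqZeroExt.ext
  · rw [TrivSqZeroExt.fst_pow]
    unfold zfam cpow
    split_ifs <;> simp
  · rw [TrivSqZeroExt.snd_pow, ← Nat.cast_smul_eq_nsmul B, CharP.cast_eq_zero, zero_smul]
    simp

/-- the algebra map `B → B[ε]`, `x_α ↦ x_α + δ_{αβ} ε` -/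
noncomputable def phiHom (hx : IsPBasis p A x) (β : ι) :
    B →ₐ[pPowerSubalgebra p A B] TrivSqZeroExt B B :=
  liftAlg p A x hx (zfam x β) (zfam_pow p A x β)

lemma phiHom_x (hx : IsPBasis p A x) (β i : ι) : phiHom p A x hx β (x i) = zfam x β i :=
  liftAlg_apply p A x hx _ _ i

lemma fst_phiHom (hx : IsPBasis p A x) (β : ι) (b : B) : (phiHom p A x hx β b).fst = b := by
  let F : B →ₐ[pPowerSubalgebra p A B] B :=
    { toRingHom := (TrivSqZeroExt.fstHom B B B).toRingHom.comp (phiHom p A x hx β).toRingHom
      commutes' := fun c => by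
        change ((phiHom p A x hx β) (algebraMap _ _ c)).fst = _
        rw [AlgHom.commutes, algebraMap_dn]
        rfl }
  have h : F = AlgHom.id (pPowerSubalgebra p A B) B := by
    apply algHom_ext p A x hx.2
    intro i
    change ((phiHom p A x hx β) (x i)).fst = x i
    rw [phiHom_x]
    unfold zfam
    split_ifs <;> simp
  have := AlgHom.congr_fun h b
  exact this

/-- the partial derivative `∂/∂x_β` -/
noncomputable def partialD (hx : IsPBasis p A x) (β : ι) : Derivation A B B :=
  Derivation.mk'
    { toFun := fun b => (phiHom p A x hx β b).snd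
      map_add' := fun a b => by rw [map_add, TrivSqZeroExt.snd_add]
      map_smul' := fun a b => by
        have h1 : a • b = (algebraMap A B a) * b := Algebra.smul_def a b
        have h2 : algebraMap A B a = algebraMap (pPowerSubalgebra p A B) B (algebraMap A _ a) := rfl
        rw [h1, map_mul, h2, AlgHom.commutes, algebraMap_dn, TrivSqZeroExt.snd_mul]
        simp [Algebra.smul_def] }
    (fun a b => by
      change (phiHom p A x hx β (a * b)).snd = a • (phiHom p A x hx β b).snd + b • (phiHom p A x hx β a).snd
      rw [map_mul, TrivSqZeroExt.snd_mul, fst_phiHom, fst_phiHom]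
      simp [mul_comm])

open Classical in
lemma partialD_x (hx : IsPBasis p A x) (β i : ι) :
    partialD p A x hx β (x i) = if i = β then 1 else 0 := by
  change (phiHom p A x hx β (x i)).snd = _
  rw [phiHom_x]
  unfold zfam
  split_ifs <;> simp

lemma linearIndependent_D (hx : IsPBasis p A x) :
    LinearIndependent B (fun i => KaehlerDifferential.D A B (x i)) := by
  classical
  rw [linearIndependent_iff']
  intro s g hg β hβ
  have := congrArg ((partialD p A x hx β).liftKaehlerDifferential) hg
  rw [map_sum, map_zero] at this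
  simp only [map_smul, Derivation.liftKaehlerDifferential_comp_D, partialD_x, smul_eq_mul, mul_ite,
    mul_one, mul_zero] at this
  rw [Finset.sum_ite_eq' s β, if_pos hβ] at this
  exact this

/-- the basis `d x_α` of `Ω_{B/A}` -/
noncomputable def basisD (hx : IsPBasis p A x) : Module.Basis ι B (Ω[B⁄A]) :=
  Module.Basis.mk (linearIndependent_D p A x hx) (by rw [span_D_eq_top p x hx.2])

lemma basisD_apply (hx : IsPBasis p A x) (i : ι) : basisD p A x hx i = KaehlerDifferential.D A B (x i) := by
  rw [basisD, Module.Basis.mk_apply]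

end deriv

end Groth.Agent.Helper1.PBasis
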