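import Mathlib

/-!
# Unramified algebras whose elements have `p^s`-th powers in the base are surjective images
-/

set_option autoImplicit false
universe u

namespace Groth.Agent.Helper1.UnramPow

open TensorProduct

section field
variable (k : Type u) (R : Type u) [Field k] [CommRing R] [Algebra k R]
  [Algebra.FormallyUnramified k R] [Algebra.EssFiniteType k R]

/-- field case -/
theorem surjective_of_pow_mem_field (p : ℕ) [hp : Fact p.Prime] (hpR : (p : R) = 0) (s : ℕ)
    (hpow : ∀ β : R, ∃ c : k, β ^ p ^ s = algebraMap k R c) :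
    Function.Surjective (algebraMap k R) := by
  classical
  rcases subsingleton_or_nontrivial R with hR | hR
  · intro β
    exact ⟨0, Subsingleton.elim _ _⟩
  have hinj : Function.Injective (algebraMap k R) := (algebraMap k R).injective
  have hpk : (p : k) = 0 := by
    apply hinj
    rw [map_natCast, map_zero, hpR]
  have : CharP k p := (CharP.charP_iff_prime_eq_zero hp.out).2 hpk
  have hTnt : Nontrivial (R ⊗[k] R) := by
    rw [← not_subsingleton_iff_nontrivial, ← rank_zero_iff (R := k), rank_tensorProduct',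
      mul_eq_zero, or_self, rank_zero_iff, not_subsingleton_iff_nontrivial]
    infer_instance
  have : ExpChar (R ⊗[k] R) p :=
    expChar_of_injective_ringHom (algebraMap k (R ⊗[k] R)).injective p
  have hu : Algebra.FormallyUnramified k (R ⊗[k] R) := Algebra.FormallyUnramified.comp k R (R ⊗[k] R)
  have hf : Algebra.EssFiniteType k (R ⊗[k] R) := Algebra.EssFiniteType.comp k R (R ⊗[k] R)
  have hred : IsReduced (R ⊗[k] R) := Algebra.FormallyUnramified.isReduced_of_field k _
  intro x
  obtain ⟨r, hr⟩ := hpow x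
  have h0 : (1 ⊗ₜ x - x ⊗ₜ 1 : R ⊗[k] R) ^ p ^ s = 0 := by
    rw [sub_pow_expChar_pow, Algebra.TensorProduct.tmul_pow, one_pow, Algebra.TensorProduct.tmul_pow, one_pow]
    rw [hr, Algebra.algebraMap_eq_smul_one, TensorProduct.smul_tmul, sub_self]
  have H : (1 ⊗ₜ x : R ⊗[k] R) = x ⊗ₜ 1 := sub_eq_zero.mp (IsNilpotent.eq_zero ⟨_, h0⟩)
  by_cases h' : LinearIndependent k ![1, x]
  · have h := h'.linearIndepOn_id
    let S := h.extend (Set.subset_univ _)
    let a : S := ⟨1, h.subset_extend _ (by simp)⟩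
    have ha : Module.Basis.extend h a = 1 := by simp [a]
    let b : S := ⟨x, h.subset_extend _ (by simp)⟩
    have hb : Module.Basis.extend h b = x := by simp [b]
    by_cases e : a = b
    · obtain rfl : 1 = x := congr_arg Subtype.val e
      exact ⟨1, map_one _⟩
    have := DFunLike.congr_fun
      (DFunLike.congr_arg ((Module.Basis.extend h).tensorProduct (Module.Basis.extend h)).repr H) (a, b)
    simp only [Module.Basis.tensorProduct_repr_tmul_apply, ← ha, ← hb, Module.Basis.repr_self, smul_eq_mul,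
      Finsupp.single_apply, e, Ne.symm e, ↓reduceIte, mul_one, mul_zero, one_ne_zero] at this
  · rw [LinearIndependent.pair_iff] at h'
    simp only [not_forall, not_and, exists_prop] at h'
    obtain ⟨a, b, e, hab⟩ := h'
    have : IsUnit b := by
      rw [isUnit_iff_ne_zero]
      rintro rfl
      rw [zero_smul, ← Algebra.algebraMap_eq_smul_one, add_zero,
        (injective_iff_map_eq_zero' _).mp (algebraMap k R).injective] at e
      cases hab e rfl
    use (-this.unit⁻¹ * a)
    rw [map_mul, ← Algebra.smul_def, Algebra.algebraMap_eq_smul_one, eq_neg_iff_add_eq_zero.mpr e,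
      smul_neg, neg_smul, neg_neg, smul_smul, this.val_inv_mul, one_smul]

end field

section general
variable (p : ℕ) [hp : Fact p.Prime] {A B : Type u} [CommRing A] [CommRing B] [Algebra A B]

/-- the fibre statement: modulo a maximal ideal every element is in the image -/
lemma exists_sub_mem_smul_top [Algebra.FiniteType A B] [Algebra.FormallyUnramified A B]
    (hpB : (p : B) = 0) (s : ℕ) (hpow : ∀ b : B, b ^ p ^ s ∈ Set.range (algebraMap A B))
    (m : Ideal A) [hm : m.IsMaximal] (b : B) :
    ∃ a : A, b - algebraMap A B a ∈ m • (⊤ : Submodule A B) := by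
  letI : Field (A ⧸ m) := Ideal.Quotient.field m
  have hrep : ∀ β : (A ⧸ m) ⊗[A] B, ∃ b : B, β = 1 ⊗ₜ[A] b := by
    intro β
    induction β using TensorProduct.induction_on with
    | zero => exact ⟨0, by simp⟩
    | tmul c b =>
      obtain ⟨a, rfl⟩ := Ideal.Quotient.mk_surjective c
      refine ⟨a • b, ?_⟩
      rw [← TensorProduct.smul_tmul]
      congr 1
      rw [← Ideal.Quotient.algebraMap_eq, Algebra.algebraMap_eq_smul_one]
    | add β β' h h' =>
      obtain ⟨b, rfl⟩ := h
      obtain ⟨b', rfl⟩ := h'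
      exact ⟨b + b', by rw [TensorProduct.tmul_add]⟩
  have hone : ∀ a : A, (1 : A ⧸ m) ⊗ₜ[A] (algebraMap A B a) =
      algebraMap (A ⧸ m) ((A ⧸ m) ⊗[A] B) (Ideal.Quotient.mk m a) := by
    intro a
    rw [Algebra.TensorProduct.algebraMap_apply, Algebra.algebraMap_self, RingHom.id_apply,
      Algebra.algebraMap_eq_smul_one, ← TensorProduct.smul_tmul, ← Ideal.Quotient.algebraMap_eq,
      Algebra.algebraMap_eq_smul_one]
  have hpR : (p : (A ⧸ m) ⊗[A] B) = 0 := by
    have : (p : (A ⧸ m) ⊗[A] B) = (1 : A ⧸ m) ⊗ₜ[A] (p : B) := by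
      rw [← map_natCast (Algebra.TensorProduct.includeRight : B →ₐ[A] (A ⧸ m) ⊗[A] B)]
      rfl
    rw [this, hpB, TensorProduct.tmul_zero]
  have hpow' : ∀ β : (A ⧸ m) ⊗[A] B, ∃ c : A ⧸ m, β ^ p ^ s = algebraMap (A ⧸ m) _ c := by
    intro β
    obtain ⟨b, rfl⟩ := hrep β
    obtain ⟨a, ha⟩ := hpow b
    refine ⟨Ideal.Quotient.mk m a, ?_⟩
    rw [Algebra.TensorProduct.tmul_pow, one_pow, ← ha, hone]
  have hsurj := surjective_of_pow_mem_field (A ⧸ m) ((A ⧸ m) ⊗[A] B) p hpR s hpow'
  obtain ⟨c, hc⟩ := hsurj (1 ⊗ₜ[A] b)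
  obtain ⟨a, rfl⟩ := Ideal.Quotient.mk_surjective c
  refine ⟨a, ?_⟩
  rw [← hone] at hc
  have h0 : (1 : A ⧸ m) ⊗ₜ[A] (b - algebraMap A B a) = 0 := by
    rw [TensorProduct.tmul_sub, hc, sub_self]
  have := congrArg (TensorProduct.quotTensorEquivQuotSMul B m) h0
  rw [TensorProduct.quotTensorEquivQuotSMul_mk_one_tmul, map_zero, Submodule.Quotient.mk_eq_zero] at this
  exact this

theorem surjective_of_pow_mem [CharP B p] [Algebra.FiniteType A B] (s : ℕ)
    (hpow : ∀ b : B, b ^ p ^ s ∈ Set.range (algebraMap A B)) [Subsingleton (Ω[B⁄A])] :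
    Function.Surjective (algebraMap A B) := by
  have hu : Algebra.FormallyUnramified A B := ⟨inferInstance⟩
  have hint : Algebra.IsIntegral A B := by
    constructor
    intro b
    obtain ⟨a, ha⟩ := hpow b
    refine ⟨Polynomial.X ^ p ^ s - Polynomial.C a, ?_, ?_⟩
    · apply Polynomial.monic_X_pow_sub_C
      exact pow_ne_zero _ hp.out.ne_zero
    · simp [ha]
  have hfin : Module.Finite A B := Algebra.IsIntegral.finite
  have hpB : (p : B) = 0 := CharP.cast_eq_zero B p
  -- the quotient by the image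
  set N : Submodule A B := LinearMap.range (Algebra.linearMap A B) with hN
  have hQ : ∀ m : Ideal A, m.IsMaximal → m • (⊤ : Submodule A (B ⧸ N)) = ⊤ := by
    intro m hm
    rw [eq_top_iff]
    intro y _
    obtain ⟨b, rfl⟩ := Submodule.Quotient.mk_surjective N y
    obtain ⟨a, ha⟩ := exists_sub_mem_smul_top p hpB s hpow m b
    have h1 : (Submodule.Quotient.mk b : B ⧸ N) = Submodule.Quotient.mk (b - algebraMap A B a) := by
      rw [Submodule.Quotient.eq]
      simp only [sub_sub_cancel]
      exact ⟨a, rfl⟩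
    rw [h1]
    have h2 : Submodule.map N.mkQ (m • (⊤ : Submodule A B)) ≤ m • (⊤ : Submodule A (B ⧸ N)) := by
      rw [Submodule.map_smul'']
      exact Submodule.smul_mono le_rfl le_top
    exact h2 ⟨_, ha, rfl⟩
  have hann : Module.annihilator A (B ⧸ N) = ⊤ := by
    by_contra hne
    obtain ⟨m, hm, hle⟩ := Ideal.exists_le_maximal _ hne
    obtain ⟨r, hr1, hr2⟩ := Submodule.exists_sub_one_mem_and_smul_eq_zero_of_fg_of_le_smul m
      (⊤ : Submodule A (B ⧸ N)) Module.Finite.fg_top (by rw [hQ m hm])
    have hr : r ∈ Module.annihilator A (B ⧸ N) := by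
      rw [Module.mem_annihilator]
      intro y
      exact hr2 y trivial
    have hrm : r ∈ m := hle hr
    have h1m : (1 : A) ∈ m := by
      have := m.sub_mem hrm hr1
      simpa using this
    exact hm.ne_top ((Ideal.eq_top_iff_one m).2 h1m)
  have hsub : Subsingleton (B ⧸ N) := by
    exact (Module.annihilator_eq_top_iff (R := A) (M := B ⧸ N)).1 hann
  intro b
  have : (Submodule.Quotient.mk b : B ⧸ N) = 0 := Subsingleton.elim _ _
  rw [Submodule.Quotient.mk_eq_zero] at this
  obtain ⟨a, ha⟩ := this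
  exact ⟨a, ha⟩

end general

end Groth.Agent.Helper1.UnramPow
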