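import Mathlib
import Groth.Agent.Helper1.PBasis3
import Groth.Agent.Helper1.UnramPow

/-!
# p-generators: equivalent descriptions
-/

set_option autoImplicit false
universe u

namespace Groth.Agent.Helper1.PBasis

open EGA41 MvPolynomial

section gen
variable (p : ℕ) [hp : Fact p.Prime] (A : Type u) {B : Type u} [CommRing A] [CommRing B] [Algebra A B]
variable {ι : Type u} (x : ι → B)

lemma isPGenerating_of_adjoin_eq_top
    (h : Algebra.adjoin (pPowerSubalgebra p A B) (Set.range x) = ⊤) : IsPGenerating p A x := by
  unfold IsPGenerating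
  rw [eq_top_iff]
  intro b _
  have hb : b ∈ Algebra.adjoin (pPowerSubalgebra p A B) (Set.range x) := by rw [h]; trivial
  rw [Algebra.adjoin_range_eq_range_aeval] at hb
  obtain ⟨f, rfl⟩ := hb
  obtain ⟨g, hg⟩ := exists_reduced p A x f
  have hker := Jideal_le_ker p A x hg
  rw [RingHom.mem_ker, map_sub, sub_eq_zero] at hker
  change piMap p A x f ∈ _
  rw [hker, Finsupp.sum, map_sum]
  apply Submodule.sum_mem
  intro e _
  rw [piMap_monomial]
  exact Submodule.smul_mem _ _ (Submodule.subset_span ⟨e, rfl⟩)

variable [CharP B p]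

/-- if the `d x_α` span `Ω_{B/A}` then `Ω_{B/B'} = 0` for `B' = C[x_α]` -/
lemma subsingleton_kaehler_adjoin
    (hspan : Submodule.span B (Set.range fun i => KaehlerDifferential.D A B (x i)) = ⊤) :
    Subsingleton (Ω[B⁄(Algebra.adjoin (pPowerSubalgebra p A B) (Set.range x))]) := by
  set B' := Algebra.adjoin (pPowerSubalgebra p A B) (Set.range x) with hB'
  -- the universal derivation over B', as an A-derivation
  have hzero : ∀ a : A, KaehlerDifferential.D B' B (algebraMap A B a) = 0 := by
    intro a
    have hmem : algebraMap A B a ∈ B' := by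
      have h1 : algebraMap A B a = algebraMap (pPowerSubalgebra p A B) B (algebraMap A _ a) := rfl
      rw [h1]
      exact Subalgebra.algebraMap_mem B' _
    have : algebraMap A B a = algebraMap B' B ⟨algebraMap A B a, hmem⟩ := rfl
    rw [this, Derivation.map_algebraMap]
  let D'' : Derivation A B (Ω[B⁄B']) :=
    Derivation.mk'
      { toFun := fun b => KaehlerDifferential.D B' B b
        map_add' := fun b c => map_add _ b c
        map_smul' := fun a b => by
          rw [Algebra.smul_def, Derivation.leibniz, hzero, smul_zero, add_zero, RingHom.id_apply,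
            algebraMap_smul] }
      (fun a b => Derivation.leibniz _ a b)
  have hD'' : ∀ b, D'' b = KaehlerDifferential.D B' B b := fun b => rfl
  have hx0 : ∀ i, D'' (x i) = 0 := by
    intro i
    have hmem : x i ∈ B' := Algebra.subset_adjoin (Set.mem_range_self i)
    have : x i = algebraMap B' B ⟨x i, hmem⟩ := rfl
    rw [hD'', this, Derivation.map_algebraMap]
  have hall : ∀ b, KaehlerDifferential.D B' B b = 0 := by
    intro b
    rw [← hD'', ← Derivation.liftKaehlerDifferential_comp_D D'' b]
    have hb : KaehlerDifferential.D A B b ∈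
        Submodule.span B (Set.range fun i => KaehlerDifferential.D A B (x i)) := by
      rw [hspan]; trivial
    refine Submodule.span_induction ?_ ?_ ?_ ?_ hb
    · rintro _ ⟨i, rfl⟩
      rw [Derivation.liftKaehlerDifferential_comp_D, hx0]
    · rw [map_zero]
    · intro y z _ _ hy hz
      rw [map_add, hy, hz, add_zero]
    · intro c y _ hy
      rw [map_smul, hy, smul_zero]
  rw [← Submodule.subsingleton_iff (R := B), ← subsingleton_iff_bot_eq_top,
    ← KaehlerDifferential.span_range_derivation, eq_comm, Submodule.span_eq_bot]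
  rintro _ ⟨b, rfl⟩
  exact hall b

lemma isPGenerating_of_span (hft : Algebra.FiniteType (pPowerSubalgebra p A B) B)
    (hspan : Submodule.span B (Set.range fun i => KaehlerDifferential.D A B (x i)) = ⊤) :
    IsPGenerating p A x := by
  apply isPGenerating_of_adjoin_eq_top
  set B' := Algebra.adjoin (pPowerSubalgebra p A B) (Set.range x) with hB'
  have h1 : Subsingleton (Ω[B⁄B']) := subsingleton_kaehler_adjoin p A x hspan
  have h2 : Algebra.FiniteType B' B :=
    Algebra.FiniteType.of_restrictScalars_finiteType (pPowerSubalgebra p A B) B' B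
  have h3 : ∀ b : B, b ^ p ^ 1 ∈ Set.range (algebraMap B' B) := by
    intro b
    rw [pow_one]
    have hmem : b ^ p ∈ B' := by
      have : b ^ p = algebraMap (pPowerSubalgebra p A B) B ⟨b ^ p, pow_mem p b⟩ := rfl
      rw [this]
      exact Subalgebra.algebraMap_mem B' _
    exact ⟨⟨b ^ p, hmem⟩, rfl⟩
  have h4 := Groth.Agent.Helper1.UnramPow.surjective_of_pow_mem (A := B') (B := B) p 1 h3
  rw [eq_top_iff]
  intro b _
  obtain ⟨b', rfl⟩ := h4 b
  exact b'.2

end gen

end Groth.Agent.Helper1.PBasis
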