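import Mathlib
import Groth.Agent.Helper1.PBasis6

/-!
# p-bases of field extensions: existence (Zorn) and the exchange lemma
-/

set_option autoImplicit false
universe u

namespace Groth.Agent.Helper1.PBasisField

open EGA41 Groth.Agent.Helper1.PBasis

section field

variable (p : ℕ) [hp : Fact p.Prime] (k : Type u) {K : Type u} [Field k] [Field K] [Algebra k K]

omit [Fact p.Prime] in
lemma inv_eq (hp0 : 0 < p) (c : K) : c⁻¹ = c ^ (p - 1) * (c⁻¹) ^ p := by
  by_cases h0 : c = 0
  · subst h0
    simp [hp0.ne']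
  · obtain ⟨q, rfl⟩ : ∃ q, p = q + 1 := ⟨p - 1, by omega⟩
    rw [Nat.add_sub_cancel, pow_succ (c⁻¹) q, ← mul_assoc, ← mul_pow, mul_inv_cancel₀ h0, one_pow,
      one_mul]

lemma inv_mem (c : K) (hc : c ∈ pPowerSubalgebra p k K) : c⁻¹ ∈ pPowerSubalgebra p k K := by
  rw [inv_eq p hp.out.pos c]
  exact mul_mem (Subalgebra.pow_mem _ hc _) (pow_mem p _)

/-- `k[K^p]` is a field. -/
noncomputable instance instField : Field (pPowerSubalgebra p k K) where
  __ := (inferInstance : CommRing (pPowerSubalgebra p k K))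
  inv c := ⟨(c : K)⁻¹, inv_mem p k (c : K) c.2⟩
  exists_pair_ne := ⟨0, 1, zero_ne_one⟩
  mul_inv_cancel c hc := Subtype.ext (mul_inv_cancel₀ (fun h => hc (Subtype.ext h)))
  inv_zero := Subtype.ext inv_zero
  nnqsmul := _
  nnqsmul_def _ _ := rfl
  qsmul := _
  qsmul_def _ _ := rfl

lemma coe_inv (c : pPowerSubalgebra p k K) : ((c⁻¹ : pPowerSubalgebra p k K) : K) = (c : K)⁻¹ := rfl

lemma algebraMap_pow_mem (a : K) : a ^ p ∈ Set.range (algebraMap (pPowerSubalgebra p k K) K) :=
  ⟨⟨a ^ p, pow_mem p a⟩, rfl⟩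

/-- the subalgebra generated by a set over `k[K^p]` is a field -/
lemma adjoin_toSubalgebra (S : Set K) :
    (IntermediateField.adjoin (pPowerSubalgebra p k K) S).toSubalgebra =
      Algebra.adjoin (pPowerSubalgebra p k K) S := by
  apply IntermediateField.adjoin_eq_algebra_adjoin
  intro x hx
  rw [inv_eq p hp.out.pos x]
  refine mul_mem (Subalgebra.pow_mem _ hx _) ?_
  have : (x⁻¹) ^ p = algebraMap (pPowerSubalgebra p k K) K ⟨(x⁻¹) ^ p, pow_mem p _⟩ := rfl
  rw [this]
  exact Subalgebra.algebraMap_mem _ _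

lemma mem_adjoin_iff (S : Set K) (x : K) :
    x ∈ IntermediateField.adjoin (pPowerSubalgebra p k K) S ↔
      x ∈ Algebra.adjoin (pPowerSubalgebra p k K) S := by
  rw [← adjoin_toSubalgebra]
  rfl

end field

section mon

variable (p : ℕ) [hp : Fact p.Prime] (k : Type u) {K : Type u} [Field k] [Field K] [Algebra k K]

/-- monomial attached to an exponent vector on `K` itself -/
noncomputable def mon (e : K →₀ ℕ) : K := e.prod fun a n => a ^ n

/-- reduced exponent vectors supported in `T` -/
def Mon (T : Set K) : Set (K →₀ ℕ) := {e | (∀ a, e a < p) ∧ (e.support : Set K) ⊆ T}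

omit hp in
lemma Mon_mono {T T' : Set K} (h : T ⊆ T') : Mon p T ⊆ Mon p T' :=
  fun _ he => ⟨he.1, he.2.trans h⟩

variable {ι : Type u} (x : ι → K)

/-- reindexing map -/
noncomputable def reidx (e : {e : ι →₀ ℕ // ∀ i, e i < p}) : K →₀ ℕ := e.1.mapDomain x

omit hp in
lemma reidx_injective (hx : Function.Injective x) : Function.Injective (reidx p x) :=
  fun _ _ h => Subtype.ext (Finsupp.mapDomain_injective hx h)

lemma range_reidx (hx : Function.Injective x) :
    Set.range (reidx p x) = Mon p (Set.range x) := by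
  ext e
  constructor
  · rintro ⟨e', rfl⟩
    refine ⟨fun a => ?_, ?_⟩
    · by_cases ha : a ∈ Set.range x
      · obtain ⟨i, rfl⟩ := ha
        rw [reidx, Finsupp.mapDomain_apply hx]
        exact e'.2 i
      · rw [reidx, Finsupp.mapDomain_notin_range _ _ ha]
        exact hp.out.pos
    · intro a ha
      classical
      have := Finsupp.mapDomain_support ha
      obtain ⟨i, _, rfl⟩ := Finset.mem_image.mp this
      exact ⟨i, rfl⟩
  · rintro ⟨h1, h2⟩
    refine ⟨⟨e.comapDomain x hx.injOn, fun i => ?_⟩, ?_⟩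
    · rw [Finsupp.comapDomain_apply]
      exact h1 _
    · exact Finsupp.mapDomain_comapDomain x hx e h2

omit hp in
lemma mon_reidx (hx : Function.Injective x) (e : {e : ι →₀ ℕ // ∀ i, e i < p}) :
    mon (reidx p x e) = pMonomial x e.1 := by
  unfold mon reidx pMonomial
  exact Finsupp.prod_mapDomain_index_inj hx

lemma isPIndependent_iff (hx : Function.Injective x) :
    IsPIndependent p k x ↔
      LinearIndepOn (pPowerSubalgebra p k K) mon (Mon p (Set.range x)) := by
  rw [← range_reidx p x hx, linearIndepOn_range_iff (reidx_injective p x hx)]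
  have : mon ∘ reidx p x = fun e : {e : ι →₀ ℕ // ∀ i, e i < p} => pMonomial x e.1 :=
    funext (mon_reidx p x hx)
  rw [this]
  rfl

lemma isPIndependent_val_iff (T : Set K) :
    IsPIndependent p k (Subtype.val : T → K) ↔
      LinearIndepOn (pPowerSubalgebra p k K) mon (Mon p T) := by
  rw [isPIndependent_iff p k _ Subtype.val_injective, Subtype.range_coe]

/-- a `p`-independent family is injective -/
lemma injective_of_isPIndependent (h : IsPIndependent p k x) : Function.Injective x := by
  intro i j hij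
  by_contra hne
  have h1 : ∀ i' : ι, ∀ a, (Finsupp.single i' 1 : ι →₀ ℕ) a < p := by
    intro i' a
    classical
    rw [Finsupp.single_apply]
    split_ifs
    · exact hp.out.one_lt
    · exact hp.out.pos
  have h2 := h.injective (a₁ := ⟨Finsupp.single i 1, h1 i⟩) (a₂ := ⟨Finsupp.single j 1, h1 j⟩) (by
    simp [pMonomial, hij])
  have h3 := congrArg (fun e => e.1 i) h2
  simp [Finsupp.single_apply, hne, Ne.symm hne] at h3

/-- `p`-independence of a subset of `K` -/
def PInd (T : Set K) : Prop := LinearIndepOn (pPowerSubalgebra p k K) mon (Mon p T)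

omit hp in
lemma PInd.mono {T T' : Set K} (h : T ⊆ T') (hT' : PInd p k T') : PInd p k T :=
  LinearIndepOn.mono hT' (Mon_mono p h)

omit hp in
lemma Mon_sUnion (c : Set (Set K)) (hc : IsChain (· ⊆ ·) c) (hne : c.Nonempty) :
    Mon p (⋃₀ c) = ⋃ T ∈ c, Mon p T := by
  ext e
  simp only [Set.mem_iUnion, exists_prop]
  constructor
  · rintro ⟨h1, h2⟩
    obtain ⟨T, hT, hsub⟩ := hc.directedOn.exists_mem_subset_of_finite_of_subset_sUnion hne
      e.support.finite_toSet h2
    exact ⟨T, hT, h1, hsub⟩
  · rintro ⟨T, hT, h1, h2⟩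
    exact ⟨h1, h2.trans (Set.subset_sUnion_of_mem hT)⟩

omit hp in
lemma pInd_sUnion (c : Set (Set K)) (hc : IsChain (· ⊆ ·) c) (hne : c.Nonempty)
    (h : ∀ T ∈ c, PInd p k T) : PInd p k (⋃₀ c) := by
  rw [PInd, Mon_sUnion p c hc hne]
  apply linearIndepOn_biUnion_of_directed
  · intro a ha b hb
    obtain ⟨z, hz, haz, hbz⟩ := hc.directedOn a ha b hb
    exact ⟨z, hz, Mon_mono p haz, Mon_mono p hbz⟩
  · exact h

omit hp in
lemma exists_maximal (S L : Set K) (hLS : L ⊆ S) (hL : PInd p k L) :
    ∃ B, L ⊆ B ∧ B ⊆ S ∧ PInd p k B ∧ ∀ s ∈ S, s ∉ B → ¬ PInd p k (insert s B) := by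
  obtain ⟨B, hLB, hB⟩ := zorn_subset_nonempty {T : Set K | T ⊆ S ∧ PInd p k T} (by
    intro c hcS hc hne
    refine ⟨⋃₀ c, ⟨Set.sUnion_subset fun T hT => (hcS hT).1,
      pInd_sUnion p k c hc hne fun T hT => (hcS hT).2⟩, fun T hT => Set.subset_sUnion_of_mem hT⟩)
    L ⟨hLS, hL⟩
  refine ⟨B, hLB, hB.prop.1, hB.prop.2, fun s hs hsB hind => hsB ?_⟩
  have := hB.le_of_ge (y := insert s B) ⟨Set.insert_subset hs hB.prop.1, hind⟩ (Set.subset_insert s B)
  exact this (Set.mem_insert s B)

end mon

section ext

variable (p : ℕ) [hp : Fact p.Prime] (k : Type u) {K : Type u} [Field k] [Field K] [Algebra k K]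
  [CharP K p]

/-- the powers `1, s, …, s^(p-1)` are independent over a subfield containing `K^p` but not `s` -/
lemma linearIndependent_pow (F : IntermediateField (pPowerSubalgebra p k K) K) (s : K)
    (hs : s ∉ F) : LinearIndependent F (fun j : Fin p => s ^ (j : ℕ)) := by
  have hsp : s ^ p ∈ F := by
    obtain ⟨c, hc⟩ := algebraMap_pow_mem p k s
    rw [← hc]
    exact F.algebraMap_mem c
  let a : F := ⟨s ^ p, hsp⟩
  have hirr : Irreducible (Polynomial.X ^ p - Polynomial.C a) := by
    apply X_pow_sub_C_irreducible_of_prime hp.out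
    intro b hb
    have h1 : ((b : K) - s) ^ p = 0 := by
      rw [sub_pow_char, sub_eq_zero]
      exact congrArg Subtype.val hb
    have h2 : (b : K) = s := sub_eq_zero.mp (pow_eq_zero_iff hp.out.ne_zero |>.mp h1)
    exact hs (h2 ▸ b.2)
  have hroot : Polynomial.aeval s (Polynomial.X ^ p - Polynomial.C a) = 0 := by
    simp [a]
  have hmin : Polynomial.X ^ p - Polynomial.C a = minpoly F s :=
    minpoly.eq_of_irreducible_of_monic hirr hroot (Polynomial.monic_X_pow_sub_C a hp.out.ne_zero)
  have hdeg : (minpoly F s).natDegree = p := by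
    rw [← hmin, Polynomial.natDegree_X_pow_sub_C]
  have h3 := _root_.linearIndependent_pow (K := F) s
  exact h3.comp (Fin.cast hdeg.symm) (Fin.cast_injective _)

omit hp [CharP K p] in
lemma mon_add_single (e : K →₀ ℕ) (s : K) (j : ℕ) :
    mon (e + Finsupp.single s j) = mon e * s ^ j := by
  unfold mon
  rw [Finsupp.prod_add_index' (fun a => pow_zero a) (fun a b c => pow_add a b c),
    Finsupp.prod_single_index (pow_zero s)]

/-- the exchange/extension lemma -/
lemma pInd_insert (T : Set K) (hT : PInd p k T) (s : K)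
    (hs : s ∉ IntermediateField.adjoin (pPowerSubalgebra p k K) T) :
    PInd p k (insert s T) := by
  classical
  have hsT : s ∉ T := fun h => hs (IntermediateField.subset_adjoin _ _ h)
  have hmem : ∀ e ∈ Mon p T, mon e ∈ IntermediateField.adjoin (pPowerSubalgebra p k K) T := by
    intro e he
    unfold mon
    apply prod_mem
    intro a ha
    exact pow_mem (IntermediateField.subset_adjoin _ _ (he.2 ha)) _
  let b : Mon p T → IntermediateField.adjoin (pPowerSubalgebra p k K) T :=
    fun e => ⟨mon e.1, hmem e.1 e.2⟩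
  have hb : LinearIndependent (pPowerSubalgebra p k K) b := by
    apply LinearIndependent.of_comp
      (IntermediateField.adjoin (pPowerSubalgebra p k K) T).val.toLinearMap
    exact hT
  have hc := linearIndependent_pow p k _ s hs
  have hbc := linearIndependent_smul hb hc
  let ψ : Mon p T × Fin p → (K →₀ ℕ) := fun q => q.1.1 + Finsupp.single s (q.2 : ℕ)
  have hzero : ∀ e ∈ Mon p T, e s = 0 := by
    intro e he
    by_contra h
    exact hsT (he.2 (Finsupp.mem_support_iff.mpr h))
  have hψinj : Function.Injective ψ := by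
    rintro ⟨e, j⟩ ⟨e', j'⟩ h
    have h1 : (e.1 + Finsupp.single s (j : ℕ)) s = (e'.1 + Finsupp.single s (j' : ℕ)) s :=
      congrArg (fun f => f s) h
    simp only [Finsupp.add_apply, Finsupp.single_eq_same, hzero e.1 e.2, hzero e'.1 e'.2,
      zero_add] at h1
    have hj : j = j' := Fin.ext h1
    subst hj
    have h2 : e.1 = e'.1 := add_right_cancel h
    exact Prod.ext (Subtype.ext h2) rfl
  have hψrange : Set.range ψ = Mon p (insert s T) := by
    ext e
    constructor
    · rintro ⟨⟨e', j⟩, rfl⟩
      refine ⟨fun a => ?_, ?_⟩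
      · simp only [ψ, Finsupp.add_apply]
        by_cases ha : a = s
        · subst ha
          rw [hzero e'.1 e'.2, zero_add, Finsupp.single_eq_same]
          exact j.2
        · rw [Finsupp.single_eq_of_ne ha, add_zero]
          exact e'.2.1 a
      · intro a ha
        have := Finsupp.support_add ha
        rcases Finset.mem_union.mp this with h | h
        · exact Set.mem_insert_of_mem _ (e'.2.2 h)
        · have := Finsupp.support_single_subset h
          rw [Finset.mem_singleton] at this
          rw [this]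
          exact Set.mem_insert _ _
    · rintro ⟨h1, h2⟩
      refine ⟨⟨⟨e.erase s, fun a => ?_, ?_⟩, ⟨e s, h1 s⟩⟩, ?_⟩
      · by_cases ha : a = s
        · subst ha
          rw [Finsupp.erase_same]
          exact hp.out.pos
        · rw [Finsupp.erase_ne ha]
          exact h1 a
      · intro a ha
        rw [Finsupp.support_erase, Finset.coe_erase] at ha
        rcases h2 ha.1 with h | h
        · exact absurd h ha.2
        · exact h
      · exact Finsupp.erase_add_single s e
  rw [PInd, ← hψrange, linearIndepOn_range_iff hψinj]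
  have : mon ∘ ψ = fun q : Mon p T × Fin p => b q.1 • s ^ (q.2 : ℕ) := by
    funext q
    simp only [Function.comp_apply, ψ, mon_add_single]
    rfl
  rw [this]
  exact hbc

/-- existence of `p`-bases between a `p`-free set and a `p`-generating set -/
theorem exists_pBasis (S L : Set K) (hLS : L ⊆ S)
    (hS : IsPGenerating p k (Subtype.val : S → K))
    (hL : IsPIndependent p k (Subtype.val : L → K)) :
    ∃ B : Set K, L ⊆ B ∧ B ⊆ S ∧ IsPBasis p k (Subtype.val : B → K) := by
  rw [isPIndependent_val_iff] at hL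
  obtain ⟨B, hLB, hBS, hB, hmax⟩ := exists_maximal p k S L hLS hL
  refine ⟨B, hLB, hBS, (isPIndependent_val_iff p k B).mpr hB, ?_⟩
  apply isPGenerating_of_adjoin_eq_top
  rw [Subtype.range_coe]
  have hSB : S ⊆ IntermediateField.adjoin (pPowerSubalgebra p k K) B := by
    intro s hs
    by_contra h
    have hsB : s ∉ B := fun h' => h (IntermediateField.subset_adjoin _ _ h')
    exact hmax s hs hsB (pInd_insert p k B hB s h)
  have h1 : Algebra.adjoin (pPowerSubalgebra p k K) S = ⊤ := by
    have := adjoin_eq_top p (Subtype.val : S → K) hS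
    rwa [Subtype.range_coe] at this
  rw [eq_top_iff, ← h1]
  apply Algebra.adjoin_le
  intro s hs
  exact (mem_adjoin_iff p k B s).mp (hSB hs)

end ext

end Groth.Agent.Helper1.PBasisField
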