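import Mathlib
import Groth.Agent.Helper1.PBasisField

/-!
# p-bases of field extensions and differentials
-/

set_option autoImplicit false
universe u

namespace Groth.Agent.Helper1.PBasisField

open EGA41 Groth.Agent.Helper1.PBasis

section diff

variable (p : ℕ) [hp : Fact p.Prime] (k : Type u) {K : Type u} [Field k] [Field K] [Algebra k K]
  [CharP K p]

omit [CharP K p] in
lemma pInd_empty : PInd p k (∅ : Set K) := by
  have : Mon p (∅ : Set K) = {0} := by
    ext e
    constructor
    · rintro ⟨_, h2⟩
      rw [Set.subset_empty_iff, Finset.coe_eq_empty, Finsupp.support_eq_empty] at h2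
      exact h2
    · rintro rfl
      exact ⟨fun _ => hp.out.pos, by simp⟩
  rw [PInd, this, linearIndepOn_singleton_iff]
  simp [mon]

omit [CharP K p] in
lemma isPGenerating_univ : IsPGenerating p k (Subtype.val : ↥(Set.univ : Set K) → K) := by
  unfold IsPGenerating
  rw [eq_top_iff]
  intro b _
  apply Submodule.subset_span
  refine ⟨⟨Finsupp.single ⟨b, trivial⟩ 1, fun i => ?_⟩, ?_⟩
  · classical
    rw [Finsupp.single_apply]
    split_ifs
    · exact hp.out.one_lt
    · exact hp.out.pos
  · simp [pMonomial]

/-- elements of `C[B]` have differentials in the span of the `d b`, `b ∈ B` -/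
lemma D_mem_span (B : Set K) (s : K)
    (hs : s ∈ IntermediateField.adjoin (pPowerSubalgebra p k K) B) :
    KaehlerDifferential.D k K s ∈
      Submodule.span K ((fun b => KaehlerDifferential.D k K b) '' B) := by
  rw [mem_adjoin_iff] at hs
  induction hs using Algebra.adjoin_induction with
  | mem y hy => exact Submodule.subset_span ⟨y, hy, rfl⟩
  | algebraMap c =>
    have : KaehlerDifferential.D k K (algebraMap (pPowerSubalgebra p k K) K c) = 0 :=
      derivation_eq_zero p (KaehlerDifferential.D k K) _ c.2
    rw [this]
    exact Submodule.zero_mem _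
  | add y z _ _ hy hz =>
    rw [map_add]
    exact Submodule.add_mem _ hy hz
  | mul y z _ _ hy hz =>
    rw [Derivation.leibniz]
    exact Submodule.add_mem _ (Submodule.smul_mem _ _ hz) (Submodule.smul_mem _ _ hy)

variable {ι : Type u} (x : ι → K)

theorem linearIndependent_D_of_isPIndependent (h : IsPIndependent p k x) :
    LinearIndependent K (fun i => KaehlerDifferential.D k K (x i)) := by
  have hinj := injective_of_isPIndependent p k x h
  have hT : IsPIndependent p k (Subtype.val : ↥(Set.range x) → K) := by
    rw [isPIndependent_val_iff, ← isPIndependent_iff p k x hinj]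
    exact h
  obtain ⟨B, hTB, -, hB⟩ := exists_pBasis p k Set.univ (Set.range x) (Set.subset_univ _)
    (isPGenerating_univ p k) hT
  have h1 := linearIndependent_D p k (Subtype.val : B → K) hB
  have h2 := h1.comp (fun i : ι => (⟨x i, hTB (Set.mem_range_self i)⟩ : B)) (by
    intro i j hij
    exact hinj (congrArg Subtype.val hij))
  exact h2

theorem isPIndependent_of_linearIndependent_D
    (h : LinearIndependent K (fun i => KaehlerDifferential.D k K (x i))) :
    IsPIndependent p k x := by
  have hinj : Function.Injective x := by
    intro i j hij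
    exact h.injective (by simp only [hij])
  rw [isPIndependent_iff p k x hinj]
  obtain ⟨B, -, hBS, hB, hmax⟩ := exists_maximal p k (Set.range x) ∅ (Set.empty_subset _)
    (pInd_empty p k)
  have hBeq : B = Set.range x := by
    apply Set.Subset.antisymm hBS
    rintro _ ⟨i₀, rfl⟩
    by_contra hnot
    have h1 : x i₀ ∈ IntermediateField.adjoin (pPowerSubalgebra p k K) B := by
      by_contra h'
      exact hmax (x i₀) (Set.mem_range_self i₀) hnot (pInd_insert p k B hB (x i₀) h')
    have h2 := D_mem_span p k B (x i₀) h1
    have h3 : ((fun b => KaehlerDifferential.D k K b) '' B) ⊆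
        ((fun i => KaehlerDifferential.D k K (x i)) '' {i | x i ∈ B}) := by
      rintro _ ⟨b, hb, rfl⟩
      obtain ⟨i, rfl⟩ := hBS hb
      exact ⟨i, hb, rfl⟩
    have h4 := Submodule.span_mono (R := K) h3 h2
    exact h.notMem_span_image (s := {i | x i ∈ B}) hnot h4
  rw [← hBeq]
  exact hB

omit [CharP K p] in
/-- if the `d x_α` span `Ω_{K/k}` and all `x_α` lie in the intermediate field `F`, then
`d_{K/F} = 0` -/
lemma D_eq_zero_of_span (F : IntermediateField (pPowerSubalgebra p k K) K)
    (hxF : ∀ i, x i ∈ F)
    (hspan : Submodule.span K (Set.range fun i => KaehlerDifferential.D k K (x i)) = ⊤) (s : K) :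
    KaehlerDifferential.D F K s = 0 := by
  have hzero : ∀ a : k, KaehlerDifferential.D F K (algebraMap k K a) = 0 := by
    intro a
    have hmem : algebraMap k K a ∈ F := by
      have h1 : algebraMap k K a = algebraMap (pPowerSubalgebra p k K) K (algebraMap k _ a) := rfl
      rw [h1]
      exact F.algebraMap_mem _
    have : algebraMap k K a = algebraMap F K ⟨algebraMap k K a, hmem⟩ := rfl
    rw [this, Derivation.map_algebraMap]
  let D'' : Derivation k K (Ω[K⁄F]) :=
    Derivation.mk'
      { toFun := fun b => KaehlerDifferential.D F K b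
        map_add' := fun b c => map_add _ b c
        map_smul' := fun a b => by
          rw [Algebra.smul_def, Derivation.leibniz, hzero, smul_zero, add_zero, RingHom.id_apply,
            algebraMap_smul] }
      (fun a b => Derivation.leibniz _ a b)
  have hD'' : ∀ b, D'' b = KaehlerDifferential.D F K b := fun b => rfl
  have hx0 : ∀ i, D'' (x i) = 0 := by
    intro i
    have : x i = algebraMap F K ⟨x i, hxF i⟩ := rfl
    rw [hD'', this, Derivation.map_algebraMap]
  rw [← hD'', ← Derivation.liftKaehlerDifferential_comp_D D'' s]
  have hb : KaehlerDifferential.D k K s ∈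
      Submodule.span K (Set.range fun i => KaehlerDifferential.D k K (x i)) := by
    rw [hspan]; trivial
  refine Submodule.span_induction ?_ ?_ ?_ ?_ hb
  · rintro _ ⟨i, rfl⟩
    rw [Derivation.liftKaehlerDifferential_comp_D, hx0]
  · rw [map_zero]
  · intro y z _ _ hy hz
    rw [map_add, hy, hz, add_zero]
  · intro c y _ hy
    rw [map_smul, hy, smul_zero]

theorem isPGenerating_of_span_D
    (h : Submodule.span K (Set.range fun i => KaehlerDifferential.D k K (x i)) = ⊤) :
    IsPGenerating p k x := by
  apply isPGenerating_of_adjoin_eq_top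
  rw [← adjoin_toSubalgebra]
  set F := IntermediateField.adjoin (pPowerSubalgebra p k K) (Set.range x) with hF
  by_contra hne
  obtain ⟨s, hs⟩ : ∃ s : K, s ∉ F := by
    by_contra hall
    push Not at hall
    exact hne (by rw [eq_top_iff]; intro z _; exact hall z)
  have hC'F : ∀ z ∈ pPowerSubalgebra p F K, z ∈ F := by
    intro z hz
    unfold pPowerSubalgebra at hz
    induction hz using Algebra.adjoin_induction with
    | mem y hy =>
      obtain ⟨b, rfl⟩ := hy
      obtain ⟨c, hc⟩ := algebraMap_pow_mem p k b
      change b ^ p ∈ F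
      rw [← hc]
      exact F.algebraMap_mem c
    | algebraMap r => exact r.2
    | add y z _ _ hy hz => exact add_mem hy hz
    | mul y z _ _ hy hz => exact mul_mem hy hz
  have hs' : s ∉ IntermediateField.adjoin (pPowerSubalgebra p F K) (∅ : Set K) := by
    intro hmem
    rw [mem_adjoin_iff, Algebra.adjoin_empty] at hmem
    obtain ⟨c, rfl⟩ := Algebra.mem_bot.mp hmem
    exact hs (hC'F _ c.2)
  have hind : PInd p F ({s} : Set K) := by
    have := pInd_insert p F ∅ (pInd_empty p F) s hs'
    rwa [insert_empty_eq] at this
  obtain ⟨B', hsB', -, hB'⟩ := exists_pBasis p F Set.univ {s} (Set.subset_univ _)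
    (isPGenerating_univ p F) ((isPIndependent_val_iff p F {s}).mpr hind)
  have hne0 : KaehlerDifferential.D F K s ≠ 0 := by
    have := (basisD p F (Subtype.val : B' → K) hB').ne_zero ⟨s, hsB' rfl⟩
    rwa [basisD_apply] at this
  exact hne0 (D_eq_zero_of_span p k x F
    (fun i => IntermediateField.subset_adjoin _ _ (Set.mem_range_self i)) h s)

end diff

end Groth.Agent.Helper1.PBasisField
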