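import Mathlib
import Groth.Agent.Helper1.PBasisField2

/-!
# Fields of characteristic `p` are formally smooth over perfect subfields (via `p`-bases)
-/

set_option autoImplicit false
universe u

namespace Groth.Agent.Helper1.FieldSmooth

open EGA41 Groth.Agent.Helper1.PBasis Groth.Agent.Helper1.PBasisField

section

variable (p : ℕ) [hp : Fact p.Prime] {F K : Type u} [Field F] [Field K] [Algebra F K] [CharP K p]

/-- every element of `F[K^p]` is a `p`-th power when `F` is perfect -/
lemma exists_pow_eq (hF : ∀ a : F, ∃ b : F, b ^ p = a) (c : K) (hc : c ∈ pPowerSubalgebra p F K) :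
    ∃ a : K, a ^ p = c := by
  unfold pPowerSubalgebra at hc
  induction hc using Algebra.adjoin_induction with
  | mem y hy =>
    obtain ⟨b, rfl⟩ := hy
    exact ⟨b, rfl⟩
  | algebraMap r =>
    obtain ⟨b, rfl⟩ := hF r
    exact ⟨algebraMap F K b, by rw [map_pow]⟩
  | add y z _ _ hy hz =>
    obtain ⟨a, rfl⟩ := hy
    obtain ⟨a', rfl⟩ := hz
    exact ⟨a + a', add_pow_char a a' p⟩
  | mul y z _ _ hy hz =>
    obtain ⟨a, rfl⟩ := hy
    obtain ⟨a', rfl⟩ := hz
    exact ⟨a * a', mul_pow a a' p⟩

/-- the Frobenius as a ring hom `K → F[K^p]` -/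
noncomputable def frobC : K →+* pPowerSubalgebra p F K where
  toFun a := ⟨a ^ p, pow_mem p a⟩
  map_one' := Subtype.ext (one_pow p)
  map_mul' a b := Subtype.ext (mul_pow a b p)
  map_zero' := Subtype.ext (zero_pow hp.out.ne_zero)
  map_add' a b := Subtype.ext (add_pow_char a b p)

lemma frobC_bijective (hF : ∀ a : F, ∃ b : F, b ^ p = a) :
    Function.Bijective (frobC p (F := F) (K := K)) := by
  constructor
  · intro a b h
    have h' : a ^ p = b ^ p := congrArg Subtype.val h
    exact frobenius_inj K p h'
  · intro c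
    obtain ⟨a, ha⟩ := exists_pow_eq p hF c.1 c.2
    exact ⟨a, Subtype.ext ha⟩

/-- the `p`-th root `F[K^p] ≃ K` -/
noncomputable def rootEquiv (hF : ∀ a : F, ∃ b : F, b ^ p = a) : pPowerSubalgebra p F K ≃+* K :=
  (RingEquiv.ofBijective (frobC p (F := F) (K := K)) (frobC_bijective p hF)).symm

lemma rootEquiv_pow (hF : ∀ a : F, ∃ b : F, b ^ p = a) (c : pPowerSubalgebra p F K) :
    (rootEquiv p hF c) ^ p = (c : K) := by
  have h := (RingEquiv.ofBijective (frobC p (F := F) (K := K)) (frobC_bijective p hF)).apply_symm_apply c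
  exact congrArg Subtype.val h

lemma rootEquiv_eq (hF : ∀ a : F, ∃ b : F, b ^ p = a) (c : pPowerSubalgebra p F K) (a : K)
    (h : a ^ p = (c : K)) : rootEquiv p hF c = a := by
  apply frobenius_inj K p
  rw [frobenius_def, frobenius_def, rootEquiv_pow, h]

end

section lift

variable (p : ℕ) [hp : Fact p.Prime] {F K : Type u} [Field F] [Field K] [Algebra F K] [CharP K p]
variable (hF : ∀ a : F, ∃ b : F, b ^ p = a)
variable {ι : Type u} (x : ι → K) (hx : IsPBasis p F x)
variable {E : Type u} [CommRing E] [Algebra F E] (q : E →ₐ[F] K) (hq : Function.Surjective q)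
  (hN : RingHom.ker q.toRingHom ^ 2 = ⊥)

include hF hx hq hN in
/-- lifting along a square-zero extension of a field with a `p`-basis over a perfect field -/
theorem exists_section (z : ι → E) (hz : ∀ i, q (z i) = x i) :
    ∃ v : K →ₐ[F] E, q.comp v = AlgHom.id F K ∧ ∀ i, v (x i) = z i := by
  classical
  haveI : Nontrivial E := by
    refine ⟨⟨0, 1, fun h => ?_⟩⟩
    have := congrArg q h
    rw [map_zero, map_one] at this
    exact zero_ne_one this
  haveI : CharP F p := (RingHom.charP_iff (algebraMap F K) (algebraMap F K).injective p).mpr inferInstance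
  haveI : CharP E p := charP_of_injective_algebraMap (algebraMap F E).injective p
  -- Frobenius of `E` factors through `q`
  have hker : RingHom.ker q.toRingHom ≤ RingHom.ker (frobenius E p) := by
    intro n hn
    rw [RingHom.mem_ker, frobenius_def]
    have h2 : n ^ 2 ∈ RingHom.ker q.toRingHom ^ 2 := Ideal.pow_mem_pow hn 2
    rw [hN, Ideal.mem_bot] at h2
    obtain ⟨m, hm⟩ : ∃ m, p = 2 + m := ⟨p - 2, by have := hp.out.two_le; omega⟩
    rw [hm, pow_add, h2, zero_mul]
  let φ : K →+* E := (q.toRingHom.liftOfSurjective hq) ⟨frobenius E p, hker⟩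
  have hφ : ∀ e : E, φ (q e) = e ^ p := fun e =>
    RingHom.liftOfSurjective_comp_apply q.toRingHom hq ⟨frobenius E p, hker⟩ e
  let ψ : pPowerSubalgebra p F K →+* E := φ.comp (rootEquiv p hF).toRingHom
  letI algCE : Algebra (pPowerSubalgebra p F K) E := ψ.toAlgebra
  have hψ : ∀ (c : pPowerSubalgebra p F K) (e : E), q e ^ p = (c : K) →
      algebraMap (pPowerSubalgebra p F K) E c = e ^ p := by
    intro c e he
    change φ (rootEquiv p hF c) = e ^ p
    rw [rootEquiv_eq p hF c (q e) he, hφ]
  have hzp : ∀ i, z i ^ p = algebraMap (pPowerSubalgebra p F K) E (cpow p F x i) := by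
    intro i
    symm
    apply hψ
    rw [hz]
    rfl
  let v := liftAlg p F x hx z hzp
  have hv : ∀ i, v (x i) = z i := liftAlg_apply p F x hx z hzp
  let qC : E →ₐ[pPowerSubalgebra p F K] K :=
    { q.toRingHom with
      commutes' := fun c => by
        obtain ⟨e, he⟩ := hq (rootEquiv p hF c)
        have h1 : q e ^ p = (c : K) := by rw [he, rootEquiv_pow]
        change q (algebraMap (pPowerSubalgebra p F K) E c) = (c : K)
        rw [hψ c e h1, map_pow, h1] }
  have hqv : qC.comp v = AlgHom.id _ K := by
    apply algHom_ext p F x hx.2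
    intro i
    change q (v (x i)) = x i
    rw [hv, hz]
  have hvF : ∀ a : F, v (algebraMap F K a) = algebraMap F E a := by
    intro a
    obtain ⟨b, rfl⟩ := hF a
    have h1 : algebraMap F K (b ^ p) =
        algebraMap (pPowerSubalgebra p F K) K ⟨(algebraMap F K b) ^ p, pow_mem p _⟩ := by
      rw [map_pow]; rfl
    rw [h1, AlgHom.commutes]
    rw [hψ _ (algebraMap F E b) (by rw [AlgHom.commutes]), map_pow]
  refine ⟨{ v.toRingHom with commutes' := hvF }, ?_, hv⟩
  ext a
  exact AlgHom.congr_fun hqv a

end lift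

section main

variable (p : ℕ) [hp : Fact p.Prime] {F K : Type u} [Field F] [Field K] [Algebra F K] [CharP K p]

/-- a field of characteristic `p` is formally smooth over any perfect subfield -/
theorem formallySmooth_of_perfect (hF : ∀ a : F, ∃ b : F, b ^ p = a) :
    Algebra.FormallySmooth F K := by
  obtain ⟨B, -, -, hB⟩ := exists_pBasis p F (K := K) Set.univ ∅ (Set.empty_subset _)
    (isPGenerating_univ p F) ((isPIndependent_val_iff p F ∅).mpr (pInd_empty p F))
  let P := Algebra.Generators.self F K
  let f : P.Ring →ₐ[F] K := IsScalarTower.toAlgHom F P.Ring K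
  have hf : Function.Surjective f := P.algebraMap_surjective
  have hsurj : Function.Surjective f.kerSquareLift := fun a => by
    obtain ⟨y, hy⟩ := hf a
    exact ⟨Ideal.Quotient.mk _ y, hy⟩
  have hN : RingHom.ker f.kerSquareLift.toRingHom ^ 2 = ⊥ := by
    rw [AlgHom.ker_kerSquareLift, Ideal.cotangentIdeal_square]
  choose z hz using fun i : B => hsurj (i : K)
  obtain ⟨v, hv, -⟩ := exists_section p hF (Subtype.val : B → K) hB f.kerSquareLift hsurj hN z hz
  exact Algebra.FormallySmooth.of_split f v hv

end main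

end Groth.Agent.Helper1.FieldSmooth
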