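import Mathlib

set_option autoImplicit false
universe u
open scoped TensorProduct

namespace Groth.Agent.Helper1.JZ

variable (A B C : Type u) [CommRing A] [CommRing B] [CommRing C] [Algebra A B] [Algebra B C]
  [Algebra A C] [IsScalarTower A B C]

/-- if `H¹(L_{C/A}) = 0` and the base change map on differentials is injective then
`H¹(L_{C/B}) = 0` -/
theorem subsingleton_h1Cotangent_of_injective [Subsingleton (Algebra.H1Cotangent A C)]
    (hinj : Function.Injective (KaehlerDifferential.mapBaseChange A B C)) :
    Subsingleton (Algebra.H1Cotangent B C) := by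
  have e1 := Algebra.H1Cotangent.exact_map_δ A B C
  have e2 := Algebra.H1Cotangent.exact_δ_mapBaseChange A B C
  refine ⟨fun x y => ?_⟩
  have hδ : ∀ w, Algebra.H1Cotangent.δ A B C w = 0 := by
    intro w
    apply hinj
    rw [map_zero]
    exact (e2 _).2 ⟨w, rfl⟩
  have hx : Algebra.H1Cotangent.δ A B C (x - y) = 0 := hδ _
  obtain ⟨w, hw⟩ := (e1 _).1 hx
  have : w = 0 := Subsingleton.elim _ _
  rw [this, map_zero] at hw
  exact sub_eq_zero.1 hw.symm

/-- if `H¹(L_{C/B}) = 0` then the base change map on differentials is injective -/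
theorem injective_of_subsingleton_h1Cotangent [Subsingleton (Algebra.H1Cotangent B C)] :
    Function.Injective (KaehlerDifferential.mapBaseChange A B C) := by
  have e2 := Algebra.H1Cotangent.exact_δ_mapBaseChange A B C
  rw [injective_iff_map_eq_zero]
  intro x hx
  obtain ⟨w, hw⟩ := (e2 x).1 hx
  have : w = 0 := Subsingleton.elim _ _
  rw [this, map_zero] at hw
  exact hw.symm

theorem formallySmooth_iff_split [Algebra.FormallySmooth A C] :
    Algebra.FormallySmooth B C ↔
      ∃ r : Ω[C⁄A] →ₗ[C] C ⊗[B] Ω[B⁄A],
        r ∘ₗ KaehlerDifferential.mapBaseChange A B C = LinearMap.id := by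
  have hex := KaehlerDifferential.exact_mapBaseChange_map A B C
  have hsurj := KaehlerDifferential.map_surjective A B C
  constructor
  · intro h
    have hinj := injective_of_subsingleton_h1Cotangent A B C
    have := ((hex.split_tfae'.out 0 1 rfl rfl).mp
      ⟨hinj, Module.projective_lifting_property _ _ hsurj⟩).2
    exact this
  · rintro ⟨r, hr⟩
    have hinj : Function.Injective (KaehlerDifferential.mapBaseChange A B C) := by
      intro x y hxy
      have hx := congrArg (fun g => g x) hr
      have hy := congrArg (fun g => g y) hr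
      simp only [LinearMap.comp_apply, LinearMap.id_apply] at hx hy
      rw [← hx, ← hy, hxy]
    have h1 := subsingleton_h1Cotangent_of_injective A B C hinj
    obtain ⟨_, s, hs⟩ := (hex.split_tfae'.out 1 0 rfl rfl).mp ⟨hsurj, r, hr⟩
    have hproj : Module.Projective C (Ω[C⁄B]) :=
      Module.Projective.of_split s (KaehlerDifferential.map A B C C) hs
    exact ⟨hproj, h1⟩

theorem formallyEtale_iff_bijective [Algebra.FormallySmooth A C] :
    Algebra.FormallyEtale B C ↔
      Function.Bijective (KaehlerDifferential.mapBaseChange A B C) := by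
  have hex := KaehlerDifferential.exact_mapBaseChange_map A B C
  have hsurj := KaehlerDifferential.map_surjective A B C
  constructor
  · intro h
    have h1 : Subsingleton (Algebra.H1Cotangent B C) :=
      Algebra.FormallyEtale.subsingleton_h1Cotangent
    have h2 : Subsingleton (Ω[C⁄B]) := Algebra.FormallyEtale.subsingleton_kaehlerDifferential
    refine ⟨injective_of_subsingleton_h1Cotangent A B C, ?_⟩
    intro v
    exact (hex v).1 (Subsingleton.elim _ _)
  · intro hbij
    have h1 := subsingleton_h1Cotangent_of_injective A B C hbij.1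
    have h2 : Subsingleton (Ω[C⁄B]) := by
      refine ⟨fun x y => ?_⟩
      have : ∀ w : Ω[C⁄B], w = 0 := by
        intro w
        obtain ⟨v, rfl⟩ := hsurj w
        obtain ⟨t, rfl⟩ := hbij.2 v
        exact (hex _).2 ⟨t, rfl⟩
      rw [this x, this y]
    exact ⟨h2, h1⟩

end Groth.Agent.Helper1.JZ
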