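import Mathlib
import Groth.Agent.Helper1.FieldSmooth1
import Groth.Agent.Helper1.JZ
import Groth.Agent.Helper1.PBasis3

/-!
# Formal smoothness of field extensions in characteristic `p` and `p`-independence
-/

set_option autoImplicit false
universe u

namespace Groth.Agent.Helper1.FieldSmooth

open EGA41 Groth.Agent.Helper1.PBasis Groth.Agent.Helper1.PBasisField
open scoped TensorProduct

section

variable (p : ℕ) [hp : Fact p.Prime] {F k K : Type u} [Field F] [Field k] [Field K]
  [Algebra F k] [Algebra k K] [Algebra F K] [IsScalarTower F k K] [CharP K p]

/-- over a perfect base, `K/k` is formally smooth iff `K ⊗ Ω_{k/F} → Ω_{K/F}` is injective -/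
theorem formallySmooth_iff_injective (hF : ∀ a : F, ∃ b : F, b ^ p = a) :
    Algebra.FormallySmooth k K ↔ Function.Injective (KaehlerDifferential.mapBaseChange F k K) := by
  haveI := formallySmooth_of_perfect p (F := F) (K := K) hF
  rw [JZ.formallySmooth_iff_split F k K]
  constructor
  · rintro ⟨r, hr⟩ a b hab
    have ha := LinearMap.congr_fun hr a
    have hb := LinearMap.congr_fun hr b
    simp only [LinearMap.comp_apply, LinearMap.id_apply] at ha hb
    rw [← ha, ← hb, hab]
  · intro hinj
    exact LinearMap.exists_leftInverse_of_injective _ (LinearMap.ker_eq_bot.mpr hinj)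

variable {J : Type u} (y : J → k)

/-- `K ⊗ Ω_{k/F} → Ω_{K/F}` is injective iff a `p`-basis of `k` stays `p`-independent in `K` -/
theorem injective_iff_isPIndependent [CharP k p] (hy : IsPBasis p F y) :
    Function.Injective (KaehlerDifferential.mapBaseChange F k K) ↔
      IsPIndependent p F (fun j => algebraMap k K (y j)) := by
  let b := basisD p F y hy
  let bK : Module.Basis J K (K ⊗[k] Ω[k⁄F]) := Module.Basis.baseChange K b
  have hb : ∀ j, KaehlerDifferential.mapBaseChange F k K (bK j) =
      KaehlerDifferential.D F K (algebraMap k K (y j)) := by
    intro j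
    rw [Module.Basis.baseChange_apply, KaehlerDifferential.mapBaseChange_tmul, one_smul,
      basisD_apply, KaehlerDifferential.map_D]
  have key : Function.Injective (KaehlerDifferential.mapBaseChange F k K) ↔
      LinearIndependent K (fun j => KaehlerDifferential.D F K (algebraMap k K (y j))) := by
    have h1 : (fun j => KaehlerDifferential.D F K (algebraMap k K (y j))) =
        (KaehlerDifferential.mapBaseChange F k K) ∘ bK := by
      funext j; exact (hb j).symm
    rw [h1]
    constructor
    · intro hinj
      exact bK.linearIndependent.map' _ (LinearMap.ker_eq_bot.mpr hinj)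
    · intro hli
      rw [injective_iff_map_eq_zero]
      intro x hx
      have h2 : Finsupp.linearCombination K (⇑(KaehlerDifferential.mapBaseChange F k K) ∘ ⇑bK)
          (bK.repr x) = 0 := by
        rw [← hx]
        conv_rhs => rw [← bK.linearCombination_repr x]
        rw [Finsupp.linearCombination_apply, Finsupp.linearCombination_apply, map_finsuppSum]
        simp only [Function.comp_apply, map_smul]
      have h3 : bK.repr x = 0 := by
        have := linearIndependent_iff.mp hli _ h2
        exact this
      exact (LinearEquiv.map_eq_zero_iff _).mp h3
  rw [key]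
  constructor
  · exact isPIndependent_of_linearIndependent_D p F _
  · exact linearIndependent_D_of_isPIndependent p F _

end

end Groth.Agent.Helper1.FieldSmooth
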