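import Mathlib
import Groth.Agent.Helper1.FieldSmooth2

/-!
# Geometrically reduced field extensions preserve `p`-independence
-/

set_option autoImplicit false
universe u

namespace Groth.Agent.Helper1.FieldSmooth

open EGA41 Groth.Agent.Helper1.PBasis Groth.Agent.Helper1.PBasisField
open scoped TensorProduct

section

variable (p : ℕ) [hp : Fact p.Prime]

omit hp in
lemma pMonomial_pow {B : Type u} [CommRing B] {J : Type u} (x : J → B) (e : J →₀ ℕ) :
    (pMonomial x e) ^ p = pMonomial (fun j => x j ^ p) e := by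
  unfold pMonomial
  rw [Finsupp.prod, Finsupp.prod, ← Finset.prod_pow]
  refine Finset.prod_congr rfl fun i _ => ?_
  rw [← pow_mul, ← pow_mul, mul_comm]

omit hp in
lemma pMonomial_map {B B' : Type u} [CommRing B] [CommRing B'] (f : B →+* B') {J : Type u}
    (x : J → B) (e : J →₀ ℕ) : f (pMonomial x e) = pMonomial (fun j => f (x j)) e := by
  unfold pMonomial
  rw [map_finsuppProd]
  simp only [map_pow]

/-- a functional dual to one member of a linearly independent family -/
lemma exists_functional {k V ι : Type*} [Field k] [AddCommGroup V] [Module k V] {v : ι → V}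
    (hv : LinearIndependent k v) (i₀ : ι) [DecidableEq ι] :
    ∃ ℓ : V →ₗ[k] k, ∀ i, ℓ (v i) = if i = i₀ then 1 else 0 := by
  obtain ⟨ℓ, hℓ⟩ := LinearMap.exists_extend ((Finsupp.lapply i₀ : (ι →₀ k) →ₗ[k] k) ∘ₗ hv.repr)
  refine ⟨ℓ, fun i => ?_⟩
  have h1 : v i ∈ Submodule.span k (Set.range v) := Submodule.subset_span ⟨i, rfl⟩
  have h2 := LinearMap.congr_fun hℓ ⟨v i, h1⟩
  simp only [LinearMap.comp_apply, Submodule.subtype_apply, Finsupp.lapply_apply] at h2
  rw [h2, hv.repr_eq_single i ⟨v i, h1⟩ rfl, Finsupp.single_apply]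

variable {F k K : Type u} [Field F] [Field k] [Field K]
  [Algebra F k] [Algebra k K] [Algebra F K] [IsScalarTower F k K] [CharP K p] [CharP k p]

/-- if `K/k` is geometrically reduced, then a `p`-independent family of `k` stays `p`-independent
in `K` -/
theorem isPIndependent_of_isGeometricallyReduced (hF : ∀ a : F, ∃ b : F, b ^ p = a)
    {J : Type u} (y : J → k) (hy : IsPIndependent p F y) [Algebra.IsGeometricallyReduced k K] :
    IsPIndependent p F (fun j => algebraMap k K (y j)) := by
  classical
  let Ωb := AlgebraicClosure k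
  haveI : IsReduced (Ωb ⊗[k] K) := inferInstance
  haveI : CharP (Ωb ⊗[k] K) p :=
    charP_of_injective_algebraMap (algebraMap k (Ωb ⊗[k] K)).injective p
  haveI : CharP Ωb p := charP_of_injective_algebraMap (algebraMap k Ωb).injective p
  -- p-th roots of the `y j`
  choose β hβ using fun j : J => IsAlgClosed.exists_pow_nat_eq (algebraMap k Ωb (y j)) hp.out.pos
  -- linear independence of the monomials in `β` over `k`
  have hβli : LinearIndependent k (fun e : {e : J →₀ ℕ // ∀ i, e i < p} => pMonomial β e.1) := by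
    rw [linearIndependent_iff']
    intro s c hc e he
    have h1 : (∑ e ∈ s, c e • pMonomial β e.1) ^ p = 0 := by rw [hc, zero_pow hp.out.ne_zero]
    rw [sum_pow_char] at h1
    have h2 : ∀ e : {e : J →₀ ℕ // ∀ i, e i < p}, (c e • pMonomial β e.1) ^ p =
        algebraMap k Ωb (c e ^ p * pMonomial y e.1) := by
      intro e
      rw [Algebra.smul_def, mul_pow, pMonomial_pow, map_mul, map_pow, pMonomial_map]
      congr 2
      funext j
      exact hβ j
    simp only [h2] at h1
    rw [← map_sum, map_eq_zero_iff _ (algebraMap k Ωb).injective] at h1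
    have h3 := linearIndependent_iff'.mp hy s
      (fun e => (⟨c e ^ p, PBasis.pow_mem p (c e)⟩ : pPowerSubalgebra p F k)) h1 e he
    have h4 : c e ^ p = 0 := congrArg Subtype.val h3
    exact pow_eq_zero_iff hp.out.ne_zero |>.mp h4
  -- the main argument
  unfold IsPIndependent
  rw [linearIndependent_iff']
  intro s g hg e₀ he₀
  choose a ha using fun e : {e : J →₀ ℕ // ∀ i, e i < p} =>
    exists_pow_eq p hF (g e : K) (g e).2
  let z : Ωb ⊗[k] K := ∑ e ∈ s, pMonomial β e.1 ⊗ₜ[k] a e
  have hzp : z ^ p = 0 := by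
    change (∑ e ∈ s, pMonomial β e.1 ⊗ₜ[k] a e) ^ p = 0
    rw [sum_pow_char]
    have h2 : ∀ e : {e : J →₀ ℕ // ∀ i, e i < p}, (pMonomial β e.1 ⊗ₜ[k] a e) ^ p =
        (1 : Ωb) ⊗ₜ[k] ((g e : K) * pMonomial (fun j => algebraMap k K (y j)) e.1) := by
      intro e
      rw [Algebra.TensorProduct.tmul_pow, pMonomial_pow, ha]
      have h3 : pMonomial (fun j => β j ^ p) e.1 = algebraMap k Ωb (pMonomial y e.1) := by
        rw [pMonomial_map]
        congr 1
        funext j
        exact hβ j
      rw [h3, Algebra.algebraMap_eq_smul_one, TensorProduct.smul_tmul, Algebra.smul_def,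
        ← pMonomial_map, mul_comm]
    simp only [h2]
    rw [← TensorProduct.tmul_sum]
    have h4 : ∑ e ∈ s, (g e : K) * pMonomial (fun j => algebraMap k K (y j)) e.1 = 0 := by
      rw [← hg]
      rfl
    rw [h4, TensorProduct.tmul_zero]
  have hz : z = 0 := IsNilpotent.eq_zero ⟨p, hzp⟩
  obtain ⟨ℓ, hℓ⟩ := exists_functional hβli e₀
  have h5 := congrArg (fun t => TensorProduct.lid k K (LinearMap.rTensor K ℓ t)) hz
  simp only [z, map_sum, LinearMap.rTensor_tmul, TensorProduct.lid_tmul, map_zero, hℓ] at h5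
  simp only [ite_smul, one_smul, zero_smul] at h5
  rw [Finset.sum_ite_eq' s e₀, if_pos he₀] at h5
  apply Subtype.ext
  change (g e₀ : K) = 0
  rw [← ha, h5, zero_pow hp.out.ne_zero]

end

end Groth.Agent.Helper1.FieldSmooth
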