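import Mathlib
import Groth.Agent.Helper1.FieldSmooth3

/-!
# `p`-independence of a `p`-basis implies MacLane's linear disjointness condition
-/

set_option autoImplicit false
universe u

namespace Groth.Agent.Helper1.FieldSmooth

open EGA41 Groth.Agent.Helper1.PBasis Groth.Agent.Helper1.PBasisField

section

variable (p : ℕ) [hp : Fact p.Prime] {F k K : Type u} [Field F] [Field k] [Field K]
  [Algebra F k] [Algebra k K] [Algebra F K] [IsScalarTower F k K] [CharP K p] [CharP k p]

/-- MacLane's condition from `p`-independence of a `p`-basis of the base -/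
theorem linearIndepOn_pow_of_isPIndependent (hF : ∀ a : F, ∃ b : F, b ^ p = a)
    {J : Type u} (y : J → k) (hy : IsPGenerating p F y)
    (hyK : IsPIndependent p F (fun j => algebraMap k K (y j)))
    (s : Finset K) (hs : LinearIndepOn k id (s : Set K)) :
    LinearIndepOn k (fun x : K => x ^ p) (s : Set K) := by
  classical
  rw [linearIndepOn_finset_iff] at hs ⊢
  intro f hf
  -- expand the coefficients in the `p`-basis
  have hex : ∀ c : k, ∃ γ : {e : J →₀ ℕ // ∀ i, e i < p} →₀ pPowerSubalgebra p F k,
      (γ.sum fun e c' => c' • pMonomial y e.1) = c := by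
    intro c
    have hc : c ∈ Submodule.span (pPowerSubalgebra p F k)
        (Set.range fun e : {e : J →₀ ℕ // ∀ i, e i < p} => pMonomial y e.1) := by
      rw [hy]; trivial
    exact (Finsupp.mem_span_range_iff_exists_finsupp).mp hc
  choose γ hγ using fun i : K => hex (f i)
  choose δ hδ using fun (i : K) (e : {e : J →₀ ℕ // ∀ i, e i < p}) =>
    exists_pow_eq p hF ((γ i e : pPowerSubalgebra p F k) : k) (γ i e).2
  let S : Finset {e : J →₀ ℕ // ∀ i, e i < p} := s.biUnion fun i => (γ i).support
  have hfi : ∀ i ∈ s, f i = ∑ e ∈ S, δ i e ^ p * pMonomial y e.1 := by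
    intro i hi
    rw [← hγ i, Finsupp.sum]
    have hsub : (γ i).support ⊆ S := Finset.subset_biUnion_of_mem (fun i => (γ i).support) hi
    rw [← Finset.sum_subset hsub]
    · refine Finset.sum_congr rfl fun e _ => ?_
      rw [hδ]
      rfl
    · intro e _ he
      rw [Finsupp.notMem_support_iff] at he
      have : δ i e ^ p = 0 := by rw [hδ, he]; rfl
      rw [this, zero_mul]
  -- rewrite the relation
  have h1 : ∑ e ∈ S, (∑ i ∈ s, δ i e • i) ^ p * pMonomial (fun j => algebraMap k K (y j)) e.1 = 0 := by
    rw [← hf]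
    have h2 : ∀ i ∈ s, f i • i ^ p =
        ∑ e ∈ S, (δ i e • i) ^ p * pMonomial (fun j => algebraMap k K (y j)) e.1 := by
      intro i hi
      rw [hfi i hi, Finset.sum_smul]
      refine Finset.sum_congr rfl fun e _ => ?_
      rw [Algebra.smul_def, Algebra.smul_def, map_mul, map_pow, mul_pow, ← pMonomial_map]
      ring
    rw [Finset.sum_congr rfl h2, Finset.sum_comm]
    refine Finset.sum_congr rfl fun e _ => ?_
    rw [sum_pow_char, Finset.sum_mul]
  have h3 := linearIndependent_iff'.mp hyK S
    (fun e => (⟨(∑ i ∈ s, δ i e • i) ^ p, PBasis.pow_mem p _⟩ : pPowerSubalgebra p F K)) h1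
  have h4 : ∀ e ∈ S, ∀ i ∈ s, δ i e = 0 := by
    intro e he
    have h5 : (∑ i ∈ s, δ i e • i) ^ p = 0 := congrArg Subtype.val (h3 e he)
    have h6 : ∑ i ∈ s, δ i e • i = 0 := (pow_eq_zero_iff hp.out.ne_zero).mp h5
    exact hs (fun i => δ i e) h6
  intro i hi
  rw [hfi i hi]
  refine Finset.sum_eq_zero fun e he => ?_
  rw [h4 e he i hi, zero_pow hp.out.ne_zero, zero_mul]

end

end Groth.Agent.Helper1.FieldSmooth
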