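import Mathlib
import Groth.Agent.Helper1.FieldSmooth4

/-!
# MacLane's condition implies geometric reducedness
-/

set_option autoImplicit false
universe u

namespace Groth.Agent.Helper1.FieldSmooth

open scoped TensorProduct

section

variable (p : ℕ) [hp : Fact p.Prime] {k K : Type u} [Field k] [Field K] [Algebra k K] [CharP k p]

/-- if `p`-th powers of `k`-linearly independent elements of `K` stay linearly independent, then
`L ⊗ K` is reduced for every field extension `L` of `k` -/
theorem isReduced_tensor_of_linearIndepOn_pow
    (H : ∀ s : Finset K, LinearIndepOn k id (s : Set K) → LinearIndepOn k (fun x : K => x ^ p) (s : Set K))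
    (L : Type u) [Field L] [Algebra k L] : IsReduced (L ⊗[k] K) := by
  classical
  let c := Module.Basis.ofVectorSpace k K
  have hcinj : Function.Injective c := c.injective
  have hcp : LinearIndependent k (fun i => c i ^ p) := by
    rw [linearIndependent_iff_finset_linearIndependent]
    intro s
    have h1 : LinearIndepOn k id ((s.image c : Finset K) : Set K) := by
      have := c.linearIndependent.linearIndepOn_id
      refine this.mono ?_
      intro x hx
      rw [Finset.coe_image] at hx
      obtain ⟨i, _, rfl⟩ := hx
      exact ⟨i, rfl⟩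
    have h2 := H _ h1
    have h3 : LinearIndependent k (fun x : ((s.image c : Finset K) : Set K) => (x : K) ^ p) := h2
    have h4 := h3.comp (fun i : s => (⟨c i, by
      rw [Finset.coe_image]; exact ⟨i, i.2, rfl⟩⟩ : ((s.image c : Finset K) : Set K))) (by
      intro i j hij
      exact Subtype.ext (hcinj (congrArg Subtype.val hij)))
    exact h4
  haveI : Nontrivial (L ⊗[k] K) := inferInstance
  haveI : CharP (L ⊗[k] K) p :=
    charP_of_injective_algebraMap (algebraMap k (L ⊗[k] K)).injective p
  haveI : CharP L p := charP_of_injective_algebraMap (algebraMap k L).injective p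
  let bT : Module.Basis _ L (L ⊗[k] K) := Module.Basis.baseChange L c
  have key : ∀ t : L ⊗[k] K, t ^ p = 0 → t = 0 := by
    intro t ht
    have ht' : t = ∑ i ∈ (bT.repr t).support, (bT.repr t i) ⊗ₜ[k] c i := by
      conv_lhs => rw [← bT.linearCombination_repr t, Finsupp.linearCombination_apply, Finsupp.sum]
      refine Finset.sum_congr rfl fun i _ => ?_
      rw [Module.Basis.baseChange_apply, TensorProduct.smul_tmul', smul_eq_mul, mul_one]
    have h1 : ∑ i ∈ (bT.repr t).support, (bT.repr t i ^ p) ⊗ₜ[k] (c i ^ p) = 0 := by
      rw [← ht]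
      conv_rhs => rw [ht']
      rw [sum_pow_char]
      refine Finset.sum_congr rfl fun i _ => ?_
      rw [Algebra.TensorProduct.tmul_pow]
    have h2 : ∀ i, bT.repr t i = 0 := by
      intro i₀
      by_cases hi₀ : i₀ ∈ (bT.repr t).support
      · obtain ⟨ℓ, hℓ⟩ := exists_functional hcp i₀
        have h3 := congrArg (fun z => TensorProduct.rid k L (LinearMap.lTensor L ℓ z)) h1
        simp only [map_sum, LinearMap.lTensor_tmul, TensorProduct.rid_tmul, map_zero, hℓ] at h3
        simp only [ite_smul, one_smul, zero_smul] at h3
        rw [Finset.sum_ite_eq' _ i₀, if_pos hi₀] at h3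
        exact (pow_eq_zero_iff hp.out.ne_zero).mp h3
      · exact Finsupp.notMem_support_iff.mp hi₀
    have h3 : bT.repr t = 0 := Finsupp.ext h2
    exact (LinearEquiv.map_eq_zero_iff _).mp h3
  have key2 : ∀ m : ℕ, ∀ t : L ⊗[k] K, t ^ (p ^ m) = 0 → t = 0 := by
    intro m
    induction m with
    | zero => intro t ht; simpa using ht
    | succ m ih =>
      intro t ht
      rw [pow_succ, pow_mul] at ht
      exact ih t (key _ ht)
  constructor
  rintro t ⟨n, hn⟩
  apply key2 n
  have hle : n ≤ p ^ n := (Nat.lt_pow_self hp.out.one_lt).le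
  obtain ⟨d, hd⟩ := Nat.exists_eq_add_of_le hle
  rw [hd, pow_add, hn, zero_mul]

/-- MacLane's condition implies geometric reducedness -/
theorem isGeometricallyReduced_of_linearIndepOn_pow
    (H : ∀ s : Finset K, LinearIndepOn k id (s : Set K) → LinearIndepOn k (fun x : K => x ^ p) (s : Set K)) :
    Algebra.IsGeometricallyReduced k K := by
  rw [Algebra.isGeometricallyReduced_field_iff]
  exact isReduced_tensor_of_linearIndepOn_pow p H (AlgebraicClosure k)

end

end Groth.Agent.Helper1.FieldSmooth
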