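import Mathlib
import Groth.Agent.Helper1.FieldSmooth5

/-!
# Field extensions of a perfect field; the characteristic zero case
-/

set_option autoImplicit false
universe u v

namespace Groth.Agent.Helper1.FieldSmooth

open scoped TensorProduct

/-- any field extension of a perfect field is geometrically reduced -/
theorem isGeometricallyReduced_of_perfectField {k : Type u} {K : Type v} [Field k] [Field K] [Algebra k K]
    [PerfectField k] : Algebra.IsGeometricallyReduced k K := by
  rw [Algebra.isGeometricallyReduced_field_iff]
  have h : IsReduced (K ⊗[k] AlgebraicClosure k) := by
    apply IsReduced.tensorProduct_of_flat_of_forall_fg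
    intro B hB
    letI : Field B := (Subalgebra.isField_of_algebraic B).toField
    haveI : Algebra.IsAlgebraic k B :=
      Algebra.IsAlgebraic.of_injective B.val Subtype.val_injective
    haveI : Algebra.IsSeparable k B := Algebra.IsAlgebraic.isSeparable_of_perfectField
    haveI : Algebra.FormallyUnramified k B := Algebra.FormallyUnramified.of_isSeparable k B
    haveI : Algebra.FiniteType k B := (Subalgebra.fg_iff_finiteType B).mp hB
    exact Algebra.FormallyUnramified.isReduced_of_field K (K ⊗[k] B)
  exact isReduced_of_injective (Algebra.TensorProduct.comm k (AlgebraicClosure k) K).toRingHom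
    (Algebra.TensorProduct.comm k (AlgebraicClosure k) K).injective

/-- any field extension in characteristic zero is formally smooth -/
theorem formallySmooth_of_charZero {k : Type u} {K : Type v} [Field k] [Field K] [Algebra k K]
    [CharZero k] : Algebra.FormallySmooth k K := by
  obtain ⟨ι, x, hx⟩ := exists_isTranscendenceBasis' k K
  haveI := hx.isAlgebraic_field
  haveI : CharZero (IntermediateField.adjoin k (Set.range x)) :=
    charZero_of_injective_algebraMap (algebraMap k _).injective
  haveI : Algebra.IsSeparable (IntermediateField.adjoin k (Set.range x)) K :=
    Algebra.IsAlgebraic.isSeparable_of_perfectField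
  exact Algebra.FormallySmooth.of_algebraicIndependent_of_isSeparable hx.1

end Groth.Agent.Helper1.FieldSmooth
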