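import Mathlib
import Groth.Agent.Helper1.FieldSmooth6

/-!
# A field extension is formally smooth iff it is geometrically reduced (separable)
-/

set_option autoImplicit false
universe u

namespace Groth.Agent.Helper1.FieldSmooth

open EGA41 Groth.Agent.Helper1.PBasis Groth.Agent.Helper1.PBasisField
open scoped TensorProduct

section

variable (p : ℕ) [hp : Fact p.Prime]

/-- the prime field in universe `u` -/
abbrev PF : Type u := ULift.{u} (ZMod p)

lemma pf_perfect : ∀ a : PF.{u} p, ∃ b : PF.{u} p, b ^ p = a := by
  intro a
  refine ⟨a, ?_⟩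
  apply ULift.ext
  change a.down ^ p = a.down
  exact ZMod.pow_card a.down

/-- the structure map from the prime field -/
noncomputable def pfHom (k : Type u) [Field k] [CharP k p] : PF.{u} p →+* k :=
  (ZMod.castHom (dvd_refl p) k).comp (ULift.ringEquiv : PF.{u} p ≃+* ZMod p).toRingHom

variable {k K : Type u} [Field k] [Field K] [Algebra k K] [CharP k p]

/-- characteristic `p`: formally smooth iff geometrically reduced; also equivalent to injectivity of
`K ⊗ Ω_{k/F} → Ω_{K/F}` for any perfect subfield `F` of `k` -/
theorem formallySmooth_iff_of_perfect {F : Type u} [Field F] [Algebra F k] [Algebra F K]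
    [IsScalarTower F k K] (hF : ∀ a : F, ∃ b : F, b ^ p = a) :
    (Algebra.FormallySmooth k K ↔ Algebra.IsGeometricallyReduced k K) ∧
    (Algebra.FormallySmooth k K ↔
      Function.Injective (KaehlerDifferential.mapBaseChange F k K)) := by
  haveI : CharP K p := charP_of_injective_algebraMap (algebraMap k K).injective p
  obtain ⟨B, -, -, hB⟩ := exists_pBasis p F (K := k) Set.univ ∅ (Set.empty_subset _)
    (isPGenerating_univ p F) ((isPIndependent_val_iff p F ∅).mpr (pInd_empty p F))
  have h1 := formallySmooth_iff_injective p (F := F) (k := k) (K := K) hF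
  have h2 := injective_iff_isPIndependent p (F := F) (k := k) (K := K) (Subtype.val : B → k) hB
  refine ⟨⟨fun hfs => ?_, fun hgr => ?_⟩, h1⟩
  · have h3 := h2.mp (h1.mp hfs)
    exact isGeometricallyReduced_of_linearIndepOn_pow p
      (linearIndepOn_pow_of_isPIndependent p hF (Subtype.val : B → k) hB.2 h3)
  · exact h1.mpr (h2.mpr (isPIndependent_of_isGeometricallyReduced p hF (Subtype.val : B → k) hB.1))

omit hp [CharP k p] in
theorem formallySmooth_iff_isGeometricallyReduced_charP (p : ℕ) [hp : Fact p.Prime] [CharP k p] :
    Algebra.FormallySmooth k K ↔ Algebra.IsGeometricallyReduced k K := by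
  letI : Algebra (PF.{u} p) k := (pfHom p k).toAlgebra
  letI : Algebra (PF.{u} p) K := ((algebraMap k K).comp (pfHom p k)).toAlgebra
  haveI : IsScalarTower (PF.{u} p) k K := IsScalarTower.of_algebraMap_eq fun _ => rfl
  exact (formallySmooth_iff_of_perfect p (F := PF.{u} p) (pf_perfect p)).1

end

/-- a field extension is formally smooth iff it is geometrically reduced -/
theorem formallySmooth_iff_isGeometricallyReduced {k K : Type u} [Field k] [Field K] [Algebra k K] :
    Algebra.FormallySmooth k K ↔ Algebra.IsGeometricallyReduced k K := by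
  obtain ⟨p, hp⟩ := CharP.exists k
  rcases CharP.char_is_prime_or_zero k p with hpp | hp0
  · haveI : Fact p.Prime := ⟨hpp⟩
    exact formallySmooth_iff_isGeometricallyReduced_charP p
  · subst hp0
    haveI : CharZero k := CharP.charP_to_charZero k
    exact ⟨fun _ => isGeometricallyReduced_of_perfectField, fun _ => formallySmooth_of_charZero⟩

end Groth.Agent.Helper1.FieldSmooth
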