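import Mathlib

set_option autoImplicit false

namespace Groth.Agent.Helper1.DerTrunc
open CategoryTheory Limits Pretriangulated DerivedCategory
universe w v u
variable {C : Type u} [Category.{v} C] [Abelian C] [HasDerivedCategory.{w} C]

/-- A morphism between objects concentrated in a single degree `n` which induces zero on `H^n`
is zero. -/
lemma eq_zero_of_homologyMap_eq_zero_of_single {X Y : DerivedCategory C} (n : ℤ)
    [X.IsGE n] [X.IsLE n] [Y.IsGE n] [Y.IsLE n] (f : X ⟶ Y)
    (hf : (homologyFunctor C n).map f = 0) : f = 0 := by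
  obtain ⟨A, ⟨eA⟩⟩ := exists_iso_singleFunctor_obj_of_isGE_of_isLE X n
  obtain ⟨B, ⟨eB⟩⟩ := exists_iso_singleFunctor_obj_of_isGE_of_isLE Y n
  obtain ⟨h, hh⟩ := (singleFunctor C n).map_surjective (eA.inv ≫ f ≫ eB.hom)
  have h0 : h = 0 := by
    have e1 := NatIso.naturality_1 (singleFunctorCompHomologyFunctorIso C n) h
    dsimp at e1
    rw [← e1, hh]
    simp [hf]
  have : eA.inv ≫ f ≫ eB.hom = 0 := by rw [← hh, h0, Functor.map_zero]
  have h2 : f = eA.hom ≫ (eA.inv ≫ f ≫ eB.hom) ≫ eB.inv := by simp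
  rw [h2, this, zero_comp, comp_zero]


variable (C) in
/-- The canonical t-structure on the derived category. -/
noncomputable abbrev tD : Triangulated.TStructure (DerivedCategory C) := DerivedCategory.TStructure.t

/-- `H^q` of the canonical map `X ⟶ τ_{≥ n} X` is an epimorphism for `q ≥ n`. -/
lemma epi_homologyMap_truncGEπ (X : DerivedCategory C) (n q : ℤ) (hq : n ≤ q) :
    Epi ((homologyFunctor C q).map (((tD C).truncGEπ n).app X)) := by
  have hT := (tD C).triangleLTGE_distinguished n X
  have := (HomologySequence.epi_homologyMap_mor₂_iff _ hT q (q + 1) rfl).2 (by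
    apply IsZero.eq_of_tgt
    have : (((tD C).truncLT n).obj X).IsLE (n - 1) := inferInstance
    exact isZero_of_isLE (((tD C).truncLT n).obj X) (n - 1) (q + 1) (by omega))
  exact this

/-- `H^q` of the canonical map `τ_{< n} X ⟶ X` is a monomorphism for `q ≤ n`. -/
lemma mono_homologyMap_truncLTι (X : DerivedCategory C) (n q : ℤ) (hq : q ≤ n) :
    Mono ((homologyFunctor C q).map (((tD C).truncLTι n).app X)) := by
  have hT := (tD C).triangleLTGE_distinguished n X
  have := (HomologySequence.mono_homologyMap_mor₁_iff _ hT (q - 1) q (by omega)).2 (by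
    apply IsZero.eq_of_src
    have : (((tD C).truncGE n).obj X).IsGE n := inferInstance
    exact isZero_of_isGE (((tD C).truncGE n).obj X) n (q - 1) (by omega))
  exact this

/-- A morphism `X ⟶ Y` with `X ≤ n` and `Y` concentrated in degree `n` which is zero on `H^n`
is zero. -/
lemma eq_zero_of_isLE_of_single {X Y : DerivedCategory C} (n : ℤ)
    [X.IsLE n] [Y.IsGE n] [Y.IsLE n] (u : X ⟶ Y)
    (hu : (homologyFunctor C n).map u = 0) : u = 0 := by
  have hT := (tD C).triangleLTGE_distinguished n X
  have h0 : ((tD C).truncLTι n).app X ≫ u = 0 :=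
    (tD C).zero _ (n - 1) n (by omega)
  obtain ⟨u', hu'⟩ : ∃ u' : ((tD C).truncGE n).obj X ⟶ Y, u = ((tD C).truncGEπ n).app X ≫ u' :=
    Triangle.yoneda_exact₂ _ hT u h0

  have : Epi ((homologyFunctor C n).map (((tD C).truncGEπ n).app X)) :=
    epi_homologyMap_truncGEπ X n n le_rfl
  have h1 : (homologyFunctor C n).map u' = 0 := by
    rw [← cancel_epi ((homologyFunctor C n).map (((tD C).truncGEπ n).app X)), ← Functor.map_comp,
      ← hu', hu, comp_zero]
  rw [hu', eq_zero_of_homologyMap_eq_zero_of_single n u' h1, comp_zero]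

/-- A morphism `Y ⟶ Z` with `Z ≥ n` and `Y` concentrated in degree `n` which is zero on `H^n`
is zero. -/
lemma eq_zero_of_single_of_isGE {Y Z : DerivedCategory C} (n : ℤ)
    [Y.IsGE n] [Y.IsLE n] [Z.IsGE n] (v : Y ⟶ Z)
    (hv : (homologyFunctor C n).map v = 0) : v = 0 := by
  have hT := (tD C).triangleLTGE_distinguished (n + 1) Z
  have h0 : v ≫ ((tD C).truncGEπ (n + 1)).app Z = 0 :=
    (tD C).zero _ n (n + 1) (by omega)
  obtain ⟨v', hv'⟩ : ∃ v' : Y ⟶ ((tD C).truncLT (n + 1)).obj Z,
      v = v' ≫ ((tD C).truncLTι (n + 1)).app Z :=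
    Triangle.coyoneda_exact₂ _ hT v h0

  have : Mono ((homologyFunctor C n).map (((tD C).truncLTι (n + 1)).app Z)) :=
    mono_homologyMap_truncLTι Z (n + 1) n (by omega)
  have : (((tD C).truncLT (n + 1)).obj Z).IsLE n := inferInstance
  have h1 : (homologyFunctor C n).map v' = 0 := by
    rw [← cancel_mono ((homologyFunctor C n).map (((tD C).truncLTι (n + 1)).app Z)),
      ← Functor.map_comp, ← hv', hv, zero_comp]
  rw [hv', eq_zero_of_homologyMap_eq_zero_of_single n v' h1, zero_comp]

end Groth.Agent.Helper1.DerTrunc
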