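import Mathlib

set_option autoImplicit false
set_option linter.unusedSectionVars false

namespace Groth.Agent.Helper1.WayOut
open CategoryTheory Limits Pretriangulated Triangulated

section General

variable {C D : Type*} [Category C] [Category D]
  [Preadditive C] [HasZeroObject C] [HasShift C ℤ]
  [∀ (n : ℤ), (shiftFunctor C n).Additive] [Pretriangulated C]
  [Preadditive D] [HasZeroObject D] [HasShift D ℤ]
  [∀ (n : ℤ), (shiftFunctor D n).Additive] [Pretriangulated D]
  {F G : C ⥤ D} [F.CommShift ℤ] [G.CommShift ℤ] [F.IsTriangulated] [G.IsTriangulated]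
  (η : F ⟶ G) [NatTrans.CommShift η ℤ]

set_option backward.isDefEq.respectTransparency.types false in
set_option backward.defeqAttrib.useBackward true in
include η in
lemma isIso_app₂_of_distTriang (T : Triangle C) (hT : T ∈ distTriang C)
    (h₁ : IsIso (η.app T.obj₁)) (h₃ : IsIso (η.app T.obj₃)) : IsIso (η.app T.obj₂) := by
  let φ : F.mapTriangle.obj T ⟶ G.mapTriangle.obj T :=
    Triangle.homMk _ _ (η.app _) (η.app _) (η.app _) (by simp) (by simp) (by
      dsimp
      simp only [Category.assoc, NatTrans.shift_app_comm η (1 : ℤ) T.obj₁,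
        NatTrans.naturality_assoc])
  exact isIso₂_of_isIso₁₃ φ (F.map_distinguished T hT) (G.map_distinguished T hT) h₁ h₃

omit [F.CommShift ℤ] [G.CommShift ℤ] [F.IsTriangulated] [G.IsTriangulated]
  [NatTrans.CommShift η ℤ] in
lemma isIso_app_of_iso {X Y : C} (e : X ≅ Y) (h : IsIso (η.app X)) : IsIso (η.app Y) := by
  have : η.app Y = F.map e.inv ≫ η.app X ≫ G.map e.hom := by
    rw [← η.naturality, ← Functor.map_comp_assoc, e.inv_hom_id, F.map_id, Category.id_comp]
  rw [this]
  infer_instance

lemma isIso_app_shift (X : C) (n : ℤ) (h : IsIso (η.app X)) : IsIso (η.app (X⟦n⟧)) := by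
  rw [NatTrans.app_shift η n X]
  infer_instance

lemma isIso_app_of_isZero (X : C) (h : IsZero X) : IsIso (η.app X) :=
  ⟨0, (F.map_isZero h).eq_of_src _ _, (G.map_isZero h).eq_of_src _ _⟩

end General

end Groth.Agent.Helper1.WayOut
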