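import Mathlib
import Groth.Agent.Helper1.DerTrunc
import Groth.Agent.Helper1.WayOut

set_option autoImplicit false

namespace Groth.Agent.Helper1.WayOut
open CategoryTheory Limits Pretriangulated Triangulated DerivedCategory
open Groth.Agent.Helper1.DerTrunc

universe w v u
variable {A : Type u} [Category.{v} A] [Abelian A] [HasDerivedCategory.{w} A]

/-- `H^q(X ⟶ τ_{≥ n} X)` is an isomorphism for `q ≥ n`. -/
lemma isIso_homologyMap_truncGEπ (X : DerivedCategory A) (n q : ℤ) (hq : n ≤ q) :
    IsIso ((homologyFunctor A q).map (((tD A).truncGEπ n).app X)) := by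
  have hT := (tD A).triangleLTGE_distinguished n X
  have := epi_homologyMap_truncGEπ X n q hq
  have : Mono ((homologyFunctor A q).map (((tD A).truncGEπ n).app X)) :=
    (HomologySequence.mono_homologyMap_mor₂_iff _ hT q).2 (by
      apply IsZero.eq_of_src
      have : (((tD A).truncLT n).obj X).IsLE (n - 1) := inferInstance
      exact isZero_of_isLE (((tD A).truncLT n).obj X) (n - 1) q (by omega))
  exact isIso_of_mono_of_epi _

/-- `H^q(τ_{< n} X ⟶ X)` is an isomorphism for `q < n`. -/
lemma isIso_homologyMap_truncLTι (X : DerivedCategory A) (n q : ℤ) (hq : q < n) :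
    IsIso ((homologyFunctor A q).map (((tD A).truncLTι n).app X)) := by
  have hT := (tD A).triangleLTGE_distinguished n X
  have := mono_homologyMap_truncLTι X n q hq.le
  have : Epi ((homologyFunctor A q).map (((tD A).truncLTι n).app X)) :=
    (HomologySequence.epi_homologyMap_mor₁_iff _ hT q).2 (by
      apply IsZero.eq_of_tgt
      have : (((tD A).truncGE n).obj X).IsGE n := inferInstance
      exact isZero_of_isGE (((tD A).truncGE n).obj X) n q (by omega))
  exact isIso_of_mono_of_epi _

variable (P : ObjectProperty A) [P.IsClosedUnderIsomorphisms]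

lemma prop_homology_truncLT (hP : ∀ Z : A, IsZero Z → P Z) (X : DerivedCategory A) (n : ℤ)
    (hX : ∀ i : ℤ, P ((homologyFunctor A i).obj X)) (i : ℤ) :
    P ((homologyFunctor A i).obj (((tD A).truncLT n).obj X)) := by
  by_cases hi : i < n
  · have := isIso_homologyMap_truncLTι X n i hi
    exact P.prop_of_iso (asIso ((homologyFunctor A i).map (((tD A).truncLTι n).app X))).symm (hX i)
  · apply hP
    have : (((tD A).truncLT n).obj X).IsLE (n - 1) := inferInstance
    exact isZero_of_isLE (((tD A).truncLT n).obj X) (n - 1) i (by omega)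

lemma prop_homology_truncGE (hP : ∀ Z : A, IsZero Z → P Z) (X : DerivedCategory A) (n : ℤ)
    (hX : ∀ i : ℤ, P ((homologyFunctor A i).obj X)) (i : ℤ) :
    P ((homologyFunctor A i).obj (((tD A).truncGE n).obj X)) := by
  by_cases hi : n ≤ i
  · have := isIso_homologyMap_truncGEπ X n i hi
    exact P.prop_of_iso (asIso ((homologyFunctor A i).map (((tD A).truncGEπ n).app X))) (hX i)
  · apply hP
    have : (((tD A).truncGE n).obj X).IsGE n := inferInstance
    exact isZero_of_isGE (((tD A).truncGE n).obj X) n i (by omega)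

universe w' v' u'
variable {B : Type u'} [Category.{v'} B] [Abelian B] [HasDerivedCategory.{w'} B]
  {F G : DerivedCategory A ⥤ DerivedCategory B} [F.CommShift ℤ] [G.CommShift ℤ]
  [F.IsTriangulated] [G.IsTriangulated] (η : F ⟶ G) [NatTrans.CommShift η ℤ]

include P in
theorem isIso_app_of_bounded_aux (hP : ∀ Z : A, IsZero Z → P Z)
    (hη : ∀ X : A, P X → IsIso (η.app ((singleFunctor A 0).obj X))) :
    ∀ (n : ℕ) (X : DerivedCategory A) (a b : ℤ), b - a < n → X.IsGE a → X.IsLE b →
      (∀ i : ℤ, P ((homologyFunctor A i).obj X)) → IsIso (η.app X) := by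
  intro n
  induction n with
  | zero =>
    intro X a b hab _ _ _
    exact isIso_app_of_isZero η X ((tD A).isZero X b a (by simpa using hab))
  | succ n ih =>
    intro X a b hab hGE hLE hX
    have hT := (tD A).triangleLTGE_distinguished b X
    refine isIso_app₂_of_distTriang η _ hT ?_ ?_
    · -- τ_{< b} X
      have h1 : (((tD A).truncLT b).obj X).IsGE a := inferInstance
      have h2 : (((tD A).truncLT b).obj X).IsLE (b - 1) := inferInstance
      exact ih _ a (b - 1) (by push_cast at hab; omega) h1 h2 (prop_homology_truncLT P hP X b hX)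
    · -- τ_{≥ b} X
      have h1 : (((tD A).truncGE b).obj X).IsGE b := inferInstance
      have h2 : (((tD A).truncGE b).obj X).IsLE b := inferInstance
      obtain ⟨Y, ⟨e⟩⟩ := exists_iso_singleFunctor_obj_of_isGE_of_isLE (((tD A).truncGE b).obj X) b
      have hY : P Y := by
        have e1 : Y ≅ (homologyFunctor A b).obj (((tD A).truncGE b).obj X) :=
          ((singleFunctorCompHomologyFunctorIso A b).app Y).symm ≪≫
            (homologyFunctor A b).mapIso e.symm
        exact P.prop_of_iso e1.symm (prop_homology_truncGE P hP X b hX b)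
      have e2 : ((singleFunctor A 0).obj Y)⟦-b⟧ ≅ (singleFunctor A b).obj Y :=
        ((singleFunctors A).shiftIso (-b) b 0 (by omega)).app Y
      exact isIso_app_of_iso η (e2 ≪≫ e.symm) (isIso_app_shift η _ _ (hη Y hY))

include P in
/-- Zero objects satisfy `P` as soon as some bounded object has all its cohomology in `P`. -/
lemma prop_of_isZero_of_isLE (X : DerivedCategory A) (b : ℤ) [X.IsLE b]
    (hX : ∀ i : ℤ, P ((homologyFunctor A i).obj X)) (Z : A) (hZ : IsZero Z) : P Z :=
  P.prop_of_iso ((isZero_of_isLE X b (b + 1) (by omega)).iso hZ) (hX (b + 1))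

include P in
lemma prop_of_isZero_of_isGE (X : DerivedCategory A) (a : ℤ) [X.IsGE a]
    (hX : ∀ i : ℤ, P ((homologyFunctor A i).obj X)) (Z : A) (hZ : IsZero Z) : P Z :=
  P.prop_of_iso ((isZero_of_isGE X a (a - 1) (by omega)).iso hZ) (hX (a - 1))

include P in
/-- Way-out lemma, bounded case. -/
theorem isIso_app_of_bounded
    (hη : ∀ X : A, P X → IsIso (η.app ((singleFunctor A 0).obj X)))
    (X : DerivedCategory A) (a b : ℤ) [X.IsGE a] [X.IsLE b]
    (hX : ∀ i : ℤ, P ((homologyFunctor A i).obj X)) : IsIso (η.app X) :=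
  isIso_app_of_bounded_aux P η (prop_of_isZero_of_isLE P X b hX) hη (b - a).toNat.succ X a b
    (by push_cast; omega) inferInstance inferInstance hX

include P in
/-- Way-out lemma, bounded below case for way-out right functors. -/
theorem isIso_app_of_isGE
    (hF : ∀ n₁ : ℤ, ∃ n₂ : ℤ, ∀ Y : DerivedCategory A, Y.IsGE n₂ → (F.obj Y).IsGE n₁)
    (hG : ∀ n₁ : ℤ, ∃ n₂ : ℤ, ∀ Y : DerivedCategory A, Y.IsGE n₂ → (G.obj Y).IsGE n₁)
    (hη : ∀ X : A, P X → IsIso (η.app ((singleFunctor A 0).obj X)))
    (X : DerivedCategory A) (a : ℤ) [X.IsGE a]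
    (hX : ∀ i : ℤ, P ((homologyFunctor A i).obj X)) : IsIso (η.app X) := by
  have hP := prop_of_isZero_of_isGE P X a hX
  rw [DerivedCategory.isIso_iff]
  intro i
  obtain ⟨nF, hnF⟩ := hF (i + 1)
  obtain ⟨nG, hnG⟩ := hG (i + 1)
  obtain ⟨m, hm⟩ : ∃ m : ℤ, m = max nF nG := ⟨_, rfl⟩
  have hT := (tD A).triangleLTGE_distinguished m X
  have hY : (((tD A).truncGE m).obj X).IsGE m := inferInstance
  have hYF : (F.obj (((tD A).truncGE m).obj X)).IsGE (i + 1) :=
    hnF _ ((tD A).isGE_of_ge _ nF m (by rw [hm]; exact le_max_left _ _))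
  have hYG : (G.obj (((tD A).truncGE m).obj X)).IsGE (i + 1) :=
    hnG _ ((tD A).isGE_of_ge _ nG m (by rw [hm]; exact le_max_right _ _))
  have key : ∀ (H : DerivedCategory A ⥤ DerivedCategory B) [H.CommShift ℤ] [H.IsTriangulated],
      (H.obj (((tD A).truncGE m).obj X)).IsGE (i + 1) →
      IsIso ((homologyFunctor B i).map (H.map (((tD A).truncLTι m).app X))) := by
    intro H _ _ hH
    have hT' := H.map_distinguished _ hT
    have h1 : Mono ((homologyFunctor B i).map (H.map (((tD A).truncLTι m).app X))) :=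
      (HomologySequence.mono_homologyMap_mor₁_iff _ hT' (i - 1) i (by omega)).2
        (IsZero.eq_of_src (isZero_of_isGE (H.obj (((tD A).truncGE m).obj X)) (i + 1) (i - 1)
          (by omega)) _ _)
    have h2 : Epi ((homologyFunctor B i).map (H.map (((tD A).truncLTι m).app X))) :=
      (HomologySequence.epi_homologyMap_mor₁_iff _ hT' i).2
        (IsZero.eq_of_tgt (isZero_of_isGE (H.obj (((tD A).truncGE m).obj X)) (i + 1) i
          (by omega)) _ _)
    exact isIso_of_mono_of_epi _
  have kF := key F hYF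
  have kG := key G hYG
  have h1 : (((tD A).truncLT m).obj X).IsGE a := inferInstance
  have h2 : (((tD A).truncLT m).obj X).IsLE (m - 1) := inferInstance
  have hb : IsIso (η.app (((tD A).truncLT m).obj X)) :=
    isIso_app_of_bounded P η hη _ a (m - 1) (prop_homology_truncLT P hP X m hX)
  have hnat := η.naturality (((tD A).truncLTι m).app X)
  have : (homologyFunctor B i).map (η.app X) =
      inv ((homologyFunctor B i).map (F.map (((tD A).truncLTι m).app X))) ≫
        (homologyFunctor B i).map (η.app (((tD A).truncLT m).obj X)) ≫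
        (homologyFunctor B i).map (G.map (((tD A).truncLTι m).app X)) := by
    rw [IsIso.eq_inv_comp, ← Functor.map_comp, ← Functor.map_comp]
    exact congrArg _ hnat
  rw [this]
  infer_instance

include P in
/-- Way-out lemma, bounded above case for way-out left functors. -/
theorem isIso_app_of_isLE
    (hF : ∀ n₁ : ℤ, ∃ n₂ : ℤ, ∀ Y : DerivedCategory A, Y.IsLE n₂ → (F.obj Y).IsLE n₁)
    (hG : ∀ n₁ : ℤ, ∃ n₂ : ℤ, ∀ Y : DerivedCategory A, Y.IsLE n₂ → (G.obj Y).IsLE n₁)
    (hη : ∀ X : A, P X → IsIso (η.app ((singleFunctor A 0).obj X)))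
    (X : DerivedCategory A) (b : ℤ) [X.IsLE b]
    (hX : ∀ i : ℤ, P ((homologyFunctor A i).obj X)) : IsIso (η.app X) := by
  have hP := prop_of_isZero_of_isLE P X b hX
  rw [DerivedCategory.isIso_iff]
  intro i
  obtain ⟨nF, hnF⟩ := hF (i - 1)
  obtain ⟨nG, hnG⟩ := hG (i - 1)
  obtain ⟨m, hm⟩ : ∃ m : ℤ, m = min nF nG + 1 := ⟨_, rfl⟩
  have hT := (tD A).triangleLTGE_distinguished m X
  have hY : (((tD A).truncLT m).obj X).IsLE (m - 1) := inferInstance
  have hYF : (F.obj (((tD A).truncLT m).obj X)).IsLE (i - 1) :=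
    hnF _ ((tD A).isLE_of_le _ (m - 1) nF (by rw [hm]; have := min_le_left nF nG; omega))
  have hYG : (G.obj (((tD A).truncLT m).obj X)).IsLE (i - 1) :=
    hnG _ ((tD A).isLE_of_le _ (m - 1) nG (by rw [hm]; have := min_le_right nF nG; omega))
  have key : ∀ (H : DerivedCategory A ⥤ DerivedCategory B) [H.CommShift ℤ] [H.IsTriangulated],
      (H.obj (((tD A).truncLT m).obj X)).IsLE (i - 1) →
      IsIso ((homologyFunctor B i).map (H.map (((tD A).truncGEπ m).app X))) := by
    intro H _ _ hH
    have hT' := H.map_distinguished _ hT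
    have h1 : Mono ((homologyFunctor B i).map (H.map (((tD A).truncGEπ m).app X))) :=
      (HomologySequence.mono_homologyMap_mor₂_iff _ hT' i).2
        (IsZero.eq_of_src (isZero_of_isLE (H.obj (((tD A).truncLT m).obj X)) (i - 1) i
          (by omega)) _ _)
    have h2 : Epi ((homologyFunctor B i).map (H.map (((tD A).truncGEπ m).app X))) :=
      (HomologySequence.epi_homologyMap_mor₂_iff _ hT' i (i + 1) rfl).2
        (IsZero.eq_of_tgt (isZero_of_isLE (H.obj (((tD A).truncLT m).obj X)) (i - 1) (i + 1)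
          (by omega)) _ _)
    exact isIso_of_mono_of_epi _
  have kF := key F hYF
  have kG := key G hYG
  have h1 : (((tD A).truncGE m).obj X).IsGE m := inferInstance
  have h2 : (((tD A).truncGE m).obj X).IsLE b := inferInstance
  have hb : IsIso (η.app (((tD A).truncGE m).obj X)) :=
    isIso_app_of_bounded P η hη _ m b (prop_homology_truncGE P hP X m hX)
  have hnat := η.naturality (((tD A).truncGEπ m).app X)
  have : (homologyFunctor B i).map (η.app X) =
      (homologyFunctor B i).map (F.map (((tD A).truncGEπ m).app X)) ≫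
        (homologyFunctor B i).map (η.app (((tD A).truncGE m).obj X)) ≫
        inv ((homologyFunctor B i).map (G.map (((tD A).truncGEπ m).app X))) := by
    rw [← Category.assoc, IsIso.eq_comp_inv, ← Functor.map_comp, ← Functor.map_comp]
    exact (congrArg _ hnat).symm
  rw [this]
  infer_instance

include P in
/-- Way-out lemma, unbounded case for functors way-out in both directions. -/
theorem isIso_app_of_wayOutBoth (hP : ∀ Z : A, IsZero Z → P Z)
    (hF : ∀ n₁ : ℤ, ∃ n₂ : ℤ, ∀ Y : DerivedCategory A, Y.IsGE n₂ → (F.obj Y).IsGE n₁)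
    (hF' : ∀ n₁ : ℤ, ∃ n₂ : ℤ, ∀ Y : DerivedCategory A, Y.IsLE n₂ → (F.obj Y).IsLE n₁)
    (hG : ∀ n₁ : ℤ, ∃ n₂ : ℤ, ∀ Y : DerivedCategory A, Y.IsGE n₂ → (G.obj Y).IsGE n₁)
    (hG' : ∀ n₁ : ℤ, ∃ n₂ : ℤ, ∀ Y : DerivedCategory A, Y.IsLE n₂ → (G.obj Y).IsLE n₁)
    (hη : ∀ X : A, P X → IsIso (η.app ((singleFunctor A 0).obj X)))
    (X : DerivedCategory A)
    (hX : ∀ i : ℤ, P ((homologyFunctor A i).obj X)) : IsIso (η.app X) := by
  have hT := (tD A).triangleLTGE_distinguished 0 X
  refine isIso_app₂_of_distTriang η _ hT ?_ ?_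
  · have h2 : (((tD A).truncLT 0).obj X).IsLE (0 - 1) := inferInstance
    exact isIso_app_of_isLE P η hF' hG' hη _ (0 - 1) (prop_homology_truncLT P hP X 0 hX)
  · have h1 : (((tD A).truncGE 0).obj X).IsGE 0 := inferInstance
    exact isIso_app_of_isGE P η hF hG hη _ 0 (prop_homology_truncGE P hP X 0 hX)

end Groth.Agent.Helper1.WayOut
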