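import Mathlib
import Groth.Agent.Helper1.WayOut2

set_option autoImplicit false

namespace Groth.Agent.Helper1.DerInd
open CategoryTheory Limits Pretriangulated Triangulated DerivedCategory
open Groth.Agent.Helper1.DerTrunc Groth.Agent.Helper1.WayOut

universe w v u
variable {A : Type u} [Category.{v} A] [Abelian A] [HasDerivedCategory.{w} A]

/-- Dévissage: a property of objects of `D(A)` which is closed under isomorphisms, holds for
zero objects, is closed under extensions, and holds for all `H^j(Y)[-j]`, holds for the bounded
object `Y`. -/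
theorem bounded_induction_aux (Z : ObjectProperty (DerivedCategory A)) [Z.IsClosedUnderIsomorphisms]
    (h0 : ∀ Y, IsZero Y → Z Y)
    (hext : ∀ T : Triangle (DerivedCategory A), T ∈ distTriang _ → Z T.obj₁ → Z T.obj₃ → Z T.obj₂) :
    ∀ (n : ℕ) (Y : DerivedCategory A) (a b : ℤ), b - a < n → Y.IsGE a → Y.IsLE b →
      (∀ j : ℤ, Z ((singleFunctor A j).obj ((homologyFunctor A j).obj Y))) → Z Y := by
  intro n
  induction n with
  | zero =>
    intro Y a b hab _ _ _
    exact h0 Y ((tD A).isZero Y b a (by simpa using hab))
  | succ n ih =>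
    intro Y a b hab hGE hLE hY
    have hT := (tD A).triangleLTGE_distinguished b Y
    refine hext _ hT ?_ ?_
    · have h1 : (((tD A).truncLT b).obj Y).IsGE a := inferInstance
      have h2 : (((tD A).truncLT b).obj Y).IsLE (b - 1) := inferInstance
      refine ih _ a (b - 1) (by push_cast at hab; omega) h1 h2 (fun j => ?_)
      by_cases hj : j < b
      · have := isIso_homologyMap_truncLTι Y b j hj
        exact Z.prop_of_iso ((singleFunctor A j).mapIso
          (asIso ((homologyFunctor A j).map (((tD A).truncLTι b).app Y))).symm) (hY j)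
      · apply h0
        apply Functor.map_isZero
        exact isZero_of_isLE (((tD A).truncLT b).obj Y) (b - 1) j (by omega)
    · have h1 : (((tD A).truncGE b).obj Y).IsGE b := inferInstance
      have h2 : (((tD A).truncGE b).obj Y).IsLE b := inferInstance
      obtain ⟨N, ⟨e⟩⟩ := exists_iso_singleFunctor_obj_of_isGE_of_isLE (((tD A).truncGE b).obj Y) b
      have := isIso_homologyMap_truncGEπ Y b b le_rfl
      have e1 : N ≅ (homologyFunctor A b).obj Y :=
        ((singleFunctorCompHomologyFunctorIso A b).app N).symm ≪≫
          (homologyFunctor A b).mapIso e.symm ≪≫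
          (asIso ((homologyFunctor A b).map (((tD A).truncGEπ b).app Y))).symm
      exact Z.prop_of_iso (((singleFunctor A b).mapIso e1).symm ≪≫ e.symm) (hY b)

theorem bounded_induction (Z : ObjectProperty (DerivedCategory A)) [Z.IsClosedUnderIsomorphisms]
    (h0 : ∀ Y, IsZero Y → Z Y)
    (hext : ∀ T : Triangle (DerivedCategory A), T ∈ distTriang _ → Z T.obj₁ → Z T.obj₃ → Z T.obj₂)
    (Y : DerivedCategory A) (a b : ℤ) [Y.IsGE a] [Y.IsLE b]
    (hY : ∀ j : ℤ, Z ((singleFunctor A j).obj ((homologyFunctor A j).obj Y))) : Z Y :=
  bounded_induction_aux Z h0 hext (b - a).toNat.succ Y a b (by push_cast; omega)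
    inferInstance inferInstance hY

end Groth.Agent.Helper1.DerInd
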