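import Mathlib

set_option autoImplicit false
set_option linter.unusedSectionVars false

namespace Groth.Agent.Helper1.Orth
open CategoryTheory Limits Pretriangulated Triangulated

universe v u
variable {D : Type u} [Category.{v} D] [Preadditive D] [HasZeroObject D] [HasShift D ℤ]
  [∀ n : ℤ, (shiftFunctor D n).Additive] [Pretriangulated D]

/-- `f` induces a bijection on `Hom(W, -)`. -/
def HomBij (W : D) {A X : D} (f : A ⟶ X) : Prop :=
  Function.Bijective (fun x : W ⟶ A => x ≫ f)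

lemma homBij_neg_iff (W : D) {A X : D} (f : A ⟶ X) : HomBij W (-f) ↔ HomBij W f := by
  have h : (fun x : W ⟶ A => x ≫ (-f)) = (fun y : W ⟶ X => -y) ∘ (fun x : W ⟶ A => x ≫ f) := by
    ext x; simp
  unfold HomBij
  rw [h]
  exact Function.Bijective.of_comp_iff' (neg_involutive.bijective) _

/-- Five lemma in position 3 for `Hom(W, -)` applied to a morphism of distinguished triangles. -/
lemma homBij_hom₃ (W : D) {T T' : Triangle D} (φ : T ⟶ T') (hT : T ∈ distTriang D)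
    (hT' : T' ∈ distTriang D)
    (h₁ : Function.Surjective (fun x : W ⟶ T.obj₁ => x ≫ φ.hom₁))
    (h₂ : HomBij W φ.hom₂)
    (h₁' : HomBij W (φ.hom₁⟦(1 : ℤ)⟧'))
    (h₂' : Function.Injective (fun x : W ⟶ T.obj₂⟦(1 : ℤ)⟧ => x ≫ φ.hom₂⟦(1 : ℤ)⟧')) :
    HomBij W φ.hom₃ := by
  constructor
  · -- injectivity
    suffices ∀ x : W ⟶ T.obj₃, x ≫ φ.hom₃ = 0 → x = 0 by
      intro x₁ x₂ hx
      have := this (x₁ - x₂) (by
        simp only [Preadditive.sub_comp]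
        exact sub_eq_zero.2 hx)
      exact sub_eq_zero.1 this
    intro x hx
    have e1 : x ≫ T.mor₃ = 0 := by
      apply h₁'.1
      show (x ≫ T.mor₃) ≫ φ.hom₁⟦(1 : ℤ)⟧' = 0 ≫ φ.hom₁⟦(1 : ℤ)⟧'
      rw [Category.assoc, φ.comm₃, ← Category.assoc, hx, zero_comp, zero_comp]
    obtain ⟨y, hy⟩ := Triangle.coyoneda_exact₃ _ hT x e1
    have e2 : (y ≫ φ.hom₂) ≫ T'.mor₂ = 0 := by
      rw [Category.assoc, ← φ.comm₂, ← Category.assoc, ← hy, hx]
    obtain ⟨z', hz'⟩ := Triangle.coyoneda_exact₂ _ hT' _ e2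
    obtain ⟨z, hz⟩ := h₁ z'
    have e3 : y = z ≫ T.mor₁ := by
      apply h₂.1
      show y ≫ φ.hom₂ = (z ≫ T.mor₁) ≫ φ.hom₂
      rw [hz', ← hz, Category.assoc, Category.assoc, φ.comm₁]
    rw [hy, e3, Category.assoc, comp_distTriang_mor_zero₁₂ _ hT, comp_zero]
  · -- surjectivity
    intro x'
    obtain ⟨y, hy⟩ := h₁'.2 (x' ≫ T'.mor₃)
    have hy' : y ≫ φ.hom₁⟦(1 : ℤ)⟧' = x' ≫ T'.mor₃ := hy
    have e1 : y ≫ T.mor₁⟦(1 : ℤ)⟧' = 0 := by
      apply h₂'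
      show (y ≫ T.mor₁⟦(1 : ℤ)⟧') ≫ φ.hom₂⟦(1 : ℤ)⟧' = 0 ≫ φ.hom₂⟦(1 : ℤ)⟧'
      rw [Category.assoc, ← Functor.map_comp, φ.comm₁, Functor.map_comp, ← Category.assoc, hy',
        Category.assoc, comp_distTriang_mor_zero₃₁ _ hT', comp_zero, zero_comp]
    obtain ⟨x, hx⟩ := Triangle.coyoneda_exact₁ _ hT y e1
    have e2 : (x ≫ φ.hom₃ - x') ≫ T'.mor₃ = 0 := by
      rw [Preadditive.sub_comp, Category.assoc, ← φ.comm₃, ← Category.assoc, ← hx, hy', sub_self]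
    obtain ⟨t', ht'⟩ := Triangle.coyoneda_exact₃ _ hT' _ e2
    obtain ⟨t, ht⟩ := h₂.2 t'
    have ht2 : t ≫ φ.hom₂ = t' := ht
    refine ⟨x - t ≫ T.mor₂, ?_⟩
    show (x - t ≫ T.mor₂) ≫ φ.hom₃ = x'
    rw [Preadditive.sub_comp, Category.assoc, φ.comm₂, ← Category.assoc, ht2, ← ht']
    abel

variable (P : ObjectProperty D)

/-- Lemma 1: if the cone of `f` is right orthogonal to `P` (stable under shifts), then `f`
induces bijections on `Hom(W, -)` for `W` in `P`. -/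
lemma homBij_of_rightOrthogonal [P.IsStableUnderShift ℤ] (T : Triangle D) (hT : T ∈ distTriang D)
    (h₃ : P.rightOrthogonal T.obj₃) (W : D) (hW : P W) : HomBij W T.mor₁ := by
  constructor
  · suffices ∀ x : W ⟶ T.obj₁, x ≫ T.mor₁ = 0 → x = 0 by
      intro x₁ x₂ hx
      have := this (x₁ - x₂) (by
        simp only [Preadditive.sub_comp]
        exact sub_eq_zero.2 hx)
      exact sub_eq_zero.1 this
    intro x hx
    obtain ⟨z, hz⟩ := Triangle.coyoneda_exact₂ _ (inv_rot_of_distTriang _ hT) x hx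
    have h : P.rightOrthogonal (T.obj₃⟦(-1 : ℤ)⟧) := P.rightOrthogonal.le_shift (-1) _ h₃
    have hz0 : z = 0 := h z hW
    rw [hz, hz0]
    exact zero_comp
  · intro y
    obtain ⟨x, hx⟩ := Triangle.coyoneda_exact₂ _ hT y (h₃ _ hW)
    exact ⟨x, hx.symm⟩

/-- Lemma 2: converse. -/
lemma rightOrthogonal_of_homBij (T : Triangle D) (hT : T ∈ distTriang D)
    (h : ∀ W, P W → HomBij W T.mor₁)
    (h' : ∀ W, P W → HomBij W (T.mor₁⟦(1 : ℤ)⟧')) : P.rightOrthogonal T.obj₃ := by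
  intro W y hW
  have e1 : y ≫ T.mor₃ = 0 := by
    apply (h' W hW).1
    show (y ≫ T.mor₃) ≫ T.mor₁⟦(1 : ℤ)⟧' = 0 ≫ T.mor₁⟦(1 : ℤ)⟧'
    rw [Category.assoc, comp_distTriang_mor_zero₃₁ _ hT, comp_zero, zero_comp]
  obtain ⟨x, hx⟩ := Triangle.coyoneda_exact₃ _ hT y e1
  obtain ⟨x', hx'⟩ := (h W hW).2 x
  have hx'' : x' ≫ T.mor₁ = x := hx'
  rw [hx, ← hx'', Category.assoc, comp_distTriang_mor_zero₁₂ _ hT, comp_zero]

set_option backward.defeqAttrib.useBackward true in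
set_option backward.isDefEq.respectTransparency false in
/-- The shift by one of a distinguished triangle, with the signs moved. -/
lemma shift_one_distinguished (T : Triangle D) (hT : T ∈ distTriang D) :
    ∃ δ, Triangle.mk (-(T.mor₁⟦(1 : ℤ)⟧')) (-(T.mor₂⟦(1 : ℤ)⟧')) δ ∈ distTriang D := by
  have hT' := Triangle.shift_distinguished T hT 1
  refine ⟨((Triangle.shiftFunctor D 1).obj T).mor₃, isomorphic_distinguished _ hT' _
    (Triangle.isoMk _ _ (Iso.refl _) (Iso.refl _) (Iso.refl _) ?_ ?_ ?_)⟩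
  · dsimp
    simp
  · dsimp
    simp
  · dsimp
    simp

/-- Shifted version of Lemma 1. -/
lemma homBij_shift_of_rightOrthogonal [P.IsStableUnderShift ℤ] (T : Triangle D)
    (hT : T ∈ distTriang D)
    (h₃ : P.rightOrthogonal T.obj₃) (W : D) (hW : P W) : HomBij W (T.mor₁⟦(1 : ℤ)⟧') := by
  obtain ⟨δ, hT'⟩ := shift_one_distinguished T hT
  have := homBij_of_rightOrthogonal P _ hT' (P.rightOrthogonal.le_shift 1 _ h₃) W hW
  exact (homBij_neg_iff W _).1 this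

/-- Twice shifted version of Lemma 1. -/
lemma homBij_shift_shift_of_rightOrthogonal [P.IsStableUnderShift ℤ] (T : Triangle D)
    (hT : T ∈ distTriang D)
    (h₃ : P.rightOrthogonal T.obj₃) (W : D) (hW : P W) :
    HomBij W (T.mor₁⟦(1 : ℤ)⟧'⟦(1 : ℤ)⟧') := by
  obtain ⟨δ, hT'⟩ := shift_one_distinguished T hT
  have := homBij_shift_of_rightOrthogonal P _ hT' (P.rightOrthogonal.le_shift 1 _ h₃) W hW
  have this' : HomBij W (-(T.mor₁⟦(1 : ℤ)⟧'⟦(1 : ℤ)⟧')) := by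
    rw [← Functor.map_neg]; exact this
  exact (homBij_neg_iff W _).1 this'

/-- The class of objects admitting a decomposition `A ⟶ X ⟶ B` with `A ∈ P`, `B ∈ P^⊥`. -/
def Dec : ObjectProperty D := fun X =>
  ∃ (A B : D) (f : A ⟶ X) (g : X ⟶ B) (h : B ⟶ (shiftFunctor D (1 : ℤ)).obj A),
    Triangle.mk f g h ∈ distinguishedTriangles ∧ P A ∧ P.rightOrthogonal B

set_option backward.defeqAttrib.useBackward true in
set_option backward.isDefEq.respectTransparency false in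
instance : (Dec P).IsClosedUnderIsomorphisms where
  of_iso := by
    rintro X Y e ⟨A, B, f, g, h, hT, hA, hB⟩
    refine ⟨A, B, f ≫ e.hom, e.inv ≫ g, h, ?_, hA, hB⟩
    exact isomorphic_distinguished _ hT _
      (Triangle.isoMk _ _ (Iso.refl _) e.symm (Iso.refl _) (by simp) (by simp) (by simp))

lemma dec_containsZero [P.ContainsZero] : (Dec P).ContainsZero := by
  obtain ⟨Z, hZ, hPZ⟩ := P.exists_prop_of_containsZero
  open ZeroObject in
  refine ⟨Z, hZ, Z, (0 : D), 𝟙 Z, 0, 0, contractible_distinguished Z, hPZ, ?_⟩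
  intro W y _
  exact (isZero_zero D).eq_of_tgt _ _

lemma dec_shift [P.IsStableUnderShift ℤ] (n : ℤ) (X : D) (hX : Dec P X) : Dec P (X⟦n⟧) := by
  obtain ⟨A, B, f, g, h, hT, hA, hB⟩ := hX
  have hT' := Triangle.shift_distinguished _ hT n
  exact ⟨A⟦n⟧, B⟦n⟧, _, _, _, hT', P.le_shift n _ hA, P.rightOrthogonal.le_shift n _ hB⟩

lemma dec_ext₃ [P.IsTriangulated] (T : Triangle D) (hT : T ∈ distTriang D)
    (h₁ : Dec P T.obj₁) (h₂ : Dec P T.obj₂) : Dec P T.obj₃ := by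
  obtain ⟨A₁, B₁, f₁, g₁, k₁, hT₁, hA₁, hB₁⟩ := h₁
  obtain ⟨A₂, B₂, f₂, g₂, k₂, hT₂, hA₂, hB₂⟩ := h₂
  -- the map a : A₁ ⟶ A₂
  obtain ⟨a, ha⟩ : ∃ a : A₁ ⟶ A₂, f₁ ≫ T.mor₁ = a ≫ f₂ :=
    Triangle.coyoneda_exact₂ _ hT₂ (f₁ ≫ T.mor₁) (hB₂ _ hA₁)
  obtain ⟨A₃, hA₃, b, c, hTA⟩ := P.distinguished_cocone_triangle a hA₁ hA₂
  obtain ⟨f₃, hf₃, hf₃'⟩ := complete_distinguished_triangle_morphism _ _ hTA hT f₁ f₂ ha.symm
  obtain ⟨B₃, g₃, k₃, hT₃⟩ := distinguished_cocone_triangle f₃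
  refine ⟨A₃, B₃, f₃, g₃, k₃, hT₃, hA₃, ?_⟩
  let φ : Triangle.mk a b c ⟶ T :=
    { hom₁ := f₁, hom₂ := f₂, hom₃ := f₃, comm₁ := ha.symm, comm₂ := hf₃, comm₃ := hf₃' }
  let φ' := (Triangle.shiftFunctor D 1).map φ
  have hTA' := Triangle.shift_distinguished _ hTA 1
  have hT' := Triangle.shift_distinguished _ hT 1
  refine rightOrthogonal_of_homBij P _ hT₃ (fun W hW => ?_) (fun W hW => ?_)
  · exact homBij_hom₃ W φ hTA hT (homBij_of_rightOrthogonal P _ hT₁ hB₁ W hW).2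
      (homBij_of_rightOrthogonal P _ hT₂ hB₂ W hW)
      (homBij_shift_of_rightOrthogonal P _ hT₁ hB₁ W hW)
      (homBij_shift_of_rightOrthogonal P _ hT₂ hB₂ W hW).1
  · exact homBij_hom₃ W φ' hTA' hT' (homBij_shift_of_rightOrthogonal P _ hT₁ hB₁ W hW).2
      (homBij_shift_of_rightOrthogonal P _ hT₂ hB₂ W hW)
      (homBij_shift_shift_of_rightOrthogonal P _ hT₁ hB₁ W hW)
      (homBij_shift_shift_of_rightOrthogonal P _ hT₂ hB₂ W hW).1

theorem dec_isTriangulated [P.IsTriangulated] : (Dec P).IsTriangulated := by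
  have : (Dec P).ContainsZero := dec_containsZero P
  have : (Dec P).IsStableUnderShift ℤ :=
    { isStableUnderShiftBy := fun n => ⟨fun X hX => dec_shift P n X hX⟩ }
  have : (Dec P).IsTriangulatedClosed₃ := .mk' (dec_ext₃ P)
  have : (Dec P).IsTriangulatedClosed₂ := .of_isTriangulatedClosed₃
  exact {}

end Groth.Agent.Helper1.Orth
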