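import Mathlib
import Groth.Agent.Helper1.DerInd
import Groth.Agent.Helper1.Orth

set_option autoImplicit false
set_option linter.unusedSectionVars false
set_option linter.unusedVariables false

namespace Groth.Agent.Helper1.DerInd
open CategoryTheory Limits Pretriangulated Triangulated DerivedCategory
open Groth.Agent.Helper1.DerTrunc Groth.Agent.Helper1.WayOut

section Shift
variable {C : Type*} [Category C] [Preadditive C] [HasShift C ℤ]
  [∀ n : ℤ, (shiftFunctor C n).Additive]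

/-- Vanishing of `Hom(X, Z⟦p⟧)` implies vanishing of `Hom(X⟦m⟧, Z⟦n⟧)` when `p + m = n`. -/
lemma hom_shift_eq_zero (X Z : C) (m n p : ℤ) (h : p + m = n)
    (hV : ∀ φ : X ⟶ Z⟦p⟧, φ = 0) (ψ : X⟦m⟧ ⟶ Z⟦n⟧) : ψ = 0 := by
  let e := (shiftFunctorAdd' C p m n h).app Z
  obtain ⟨φ, hφ⟩ := (shiftFunctor C m).map_surjective (ψ ≫ e.hom)
  have : ψ ≫ e.hom = 0 := by rw [← hφ, hV φ, Functor.map_zero]
  rw [← cancel_mono e.hom, zero_comp]
  exact this

end Shift

universe w v u
variable {A : Type u} [Category.{v} A] [Abelian A] [HasDerivedCategory.{w} A]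

/-- The property `Hom(W, Y⟦1⟧) = 0`. -/
def HomShiftZero (W : DerivedCategory A) : ObjectProperty (DerivedCategory A) :=
  fun Y => ∀ φ : W ⟶ Y⟦(1 : ℤ)⟧, φ = 0

instance (W : DerivedCategory A) : (HomShiftZero W).IsClosedUnderIsomorphisms where
  of_iso := by
    intro X Y e hX φ
    have := hX (φ ≫ e.inv⟦(1 : ℤ)⟧')
    rw [← cancel_mono (e.inv⟦(1 : ℤ)⟧'), zero_comp]
    exact this

lemma homShiftZero_of_isZero (W Y : DerivedCategory A) (hY : IsZero Y) : HomShiftZero W Y :=
  fun φ => ((shiftFunctor (DerivedCategory A) (1 : ℤ)).map_isZero hY).eq_of_tgt _ _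

lemma homShiftZero_ext (W : DerivedCategory A) (T : Triangle (DerivedCategory A))
    (hT : T ∈ distTriang _) (h₁ : HomShiftZero W T.obj₁) (h₃ : HomShiftZero W T.obj₃) :
    HomShiftZero W T.obj₂ := by
  intro φ
  obtain ⟨δ, hT'⟩ := Groth.Agent.Helper1.Orth.shift_one_distinguished T hT
  obtain ⟨ψ, hψ⟩ : ∃ ψ : W ⟶ T.obj₁⟦(1 : ℤ)⟧, φ = ψ ≫ (-(T.mor₁⟦(1 : ℤ)⟧')) :=
    Triangle.coyoneda_exact₂ _ hT' φ (h₃ _)
  rw [hψ, h₁ ψ, zero_comp]

/-- Vanishing of maps `M[-i] ⟶ N[-j][1]` from vanishing of maps `M[0] ⟶ N[0][p]`,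
`p = i - j + 1`. -/
lemma homShiftZero_single (M N : A) (i j : ℤ) (p : ℕ) (hp : (p : ℤ) = i - j + 1)
    (hV : ∀ φ : (singleFunctor A 0).obj M ⟶ ((singleFunctor A 0).obj N)⟦(p : ℤ)⟧, φ = 0) :
    HomShiftZero ((singleFunctor A i).obj M) ((singleFunctor A j).obj N) := by
  intro φ
  let ε₁ := ((singleFunctors A).shiftIso (-i) i 0 (by omega)).app M
  let ε₂ := ((singleFunctors A).shiftIso (-j) j 0 (by omega)).app N
  let ε₃ := (shiftFunctorAdd' (DerivedCategory A) (-j) 1 (-j + 1) rfl).app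
    ((singleFunctor A 0).obj N)
  have h0 : ε₁.hom ≫ φ ≫ (ε₂.inv)⟦(1 : ℤ)⟧' ≫ ε₃.inv = 0 :=
    hom_shift_eq_zero _ _ (-i) (-j + 1) (p : ℤ) (by omega) hV _
  have h1 : φ ≫ (ε₂.inv)⟦(1 : ℤ)⟧' ≫ ε₃.inv = 0 := by
    rw [← cancel_epi ε₁.hom, comp_zero]; exact h0
  have h2 : φ ≫ ((ε₂.inv)⟦(1 : ℤ)⟧' ≫ ε₃.inv) = 0 := h1
  have : IsIso ((ε₂.inv)⟦(1 : ℤ)⟧' ≫ ε₃.inv) := inferInstance
  rw [← cancel_mono ((ε₂.inv)⟦(1 : ℤ)⟧' ≫ ε₃.inv), zero_comp]
  exact h2

lemma exists_section (K : DerivedCategory A) (a b : ℤ) [K.IsGE a] [K.IsLE b]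
    (hExt : ∀ (i j : ℤ) (p : ℕ), j < i → 2 ≤ p →
      ∀ f : (singleFunctor A 0).obj ((homologyFunctor A i).obj K) ⟶
        ((singleFunctor A 0).obj ((homologyFunctor A j).obj K))⟦(p : ℤ)⟧, f = 0) (i : ℤ) :
    ∃ s : (singleFunctor A i).obj ((homologyFunctor A i).obj K) ⟶ K,
      IsIso ((homologyFunctor A i).map s) := by
  -- Step A
  have i1 : (((tD A).truncLT i).obj K).IsGE a := inferInstance
  have i2 : (((tD A).truncLT i).obj K).IsLE (i - 1) := inferInstance
  have hZ : HomShiftZero ((singleFunctor A i).obj ((homologyFunctor A i).obj K))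
      (((tD A).truncLT i).obj K) := by
    refine bounded_induction _ (homShiftZero_of_isZero _) (homShiftZero_ext _) _ a (i - 1)
      (fun j => ?_)
    by_cases hj : j < i
    · have := isIso_homologyMap_truncLTι K i j hj
      refine ObjectProperty.prop_of_iso _ ((singleFunctor A j).mapIso
        (asIso ((homologyFunctor A j).map (((tD A).truncLTι i).app K))).symm) ?_
      obtain ⟨p, hp⟩ : ∃ p : ℕ, (p : ℤ) = i - j + 1 := ⟨(i - j + 1).toNat, by omega⟩
      exact homShiftZero_single _ _ i j p hp (hExt i j p hj (by omega))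
    · apply homShiftZero_of_isZero
      apply Functor.map_isZero
      exact isZero_of_isLE (((tD A).truncLT i).obj K) (i - 1) j (by omega)
  -- Step B
  have k1 : (((tD A).truncGE i).obj K).IsGE i := inferInstance
  have l1 : (((tD A).truncLT (i + 1)).obj (((tD A).truncGE i).obj K)).IsGE i := inferInstance
  have l2 : (((tD A).truncLT (i + 1)).obj (((tD A).truncGE i).obj K)).IsLE i := by
    have : (((tD A).truncLT (i + 1)).obj (((tD A).truncGE i).obj K)).IsLE (i + 1 - 1) :=
      inferInstance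
    exact (tD A).isLE_of_le _ (i + 1 - 1) i (by omega)
  obtain ⟨N, ⟨e⟩⟩ := exists_iso_singleFunctor_obj_of_isGE_of_isLE
    (((tD A).truncLT (i + 1)).obj (((tD A).truncGE i).obj K)) i
  have := isIso_homologyMap_truncLTι (((tD A).truncGE i).obj K) (i + 1) i (by omega)
  have := isIso_homologyMap_truncGEπ K i i le_rfl
  let e1 : N ≅ (homologyFunctor A i).obj K :=
    ((singleFunctorCompHomologyFunctorIso A i).app N).symm ≪≫
      (homologyFunctor A i).mapIso e.symm ≪≫
      asIso ((homologyFunctor A i).map (((tD A).truncLTι (i + 1)).app (((tD A).truncGE i).obj K)))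
      ≪≫ (asIso ((homologyFunctor A i).map (((tD A).truncGEπ i).app K))).symm
  obtain ⟨u, hu⟩ : ∃ u : (singleFunctor A i).obj ((homologyFunctor A i).obj K) ⟶
      ((tD A).truncGE i).obj K, u = (singleFunctor A i).map e1.inv ≫ e.inv ≫
        ((tD A).truncLTι (i + 1)).app (((tD A).truncGE i).obj K) := ⟨_, rfl⟩
  have hu' : IsIso ((homologyFunctor A i).map u) := by
    rw [hu, Functor.map_comp, Functor.map_comp]
    infer_instance
  -- Step C
  have hT := (tD A).triangleLTGE_distinguished i K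
  obtain ⟨s, hs⟩ : ∃ s : (singleFunctor A i).obj ((homologyFunctor A i).obj K) ⟶ K,
      u = s ≫ ((tD A).truncGEπ i).app K :=
    Triangle.coyoneda_exact₃ _ hT u (hZ _)
  refine ⟨s, ?_⟩
  have : (homologyFunctor A i).map s = (homologyFunctor A i).map u ≫
      inv ((homologyFunctor A i).map (((tD A).truncGEπ i).app K)) := by
    rw [IsIso.eq_comp_inv, ← Functor.map_comp, hs]
  rw [this]
  infer_instance

lemma isZero_homology_single (M : A) (j n : ℤ) (h : j ≠ n) :
    IsZero ((homologyFunctor A n).obj ((singleFunctor A j).obj M)) := by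
  rcases lt_or_gt_of_ne h with h | h
  · exact isZero_of_isLE _ j n h
  · exact isZero_of_isGE _ j n h

section Biprod
variable {C B : Type*} [Category C] [Category B] [Preadditive C] [Preadditive B]
  (H : C ⥤ B) [H.Additive] {J : Type} [Fintype J] [DecidableEq J] (X : J → C) [HasBiproduct X]

lemma map_total : ∑ j, H.map (biproduct.π X j) ≫ H.map (biproduct.ι X j) = 𝟙 (H.obj (⨁ X)) := by
  have := congrArg (fun f => H.map f) (biproduct.total (f := X))
  simpa only [Functor.map_sum, CategoryTheory.Functor.map_id, Functor.map_comp] using this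

lemma isIso_map_biproduct_ι (j₀ : J) (hz : ∀ j, j ≠ j₀ → IsZero (H.obj (X j))) :
    IsIso (H.map (biproduct.ι X j₀)) := by
  refine ⟨H.map (biproduct.π X j₀), by
    rw [← H.map_comp, biproduct.ι_π_self, H.map_id], ?_⟩
  rw [← map_total H X]
  symm
  apply Finset.sum_eq_single_of_mem j₀ (Finset.mem_univ _)
  intro j _ hj
  rw [(hz j hj).eq_of_tgt (H.map (biproduct.π X j)) 0, zero_comp]

lemma isZero_map_biproduct (hz : ∀ j, IsZero (H.obj (X j))) : IsZero (H.obj (⨁ X)) := by
  rw [IsZero.iff_id_eq_zero, ← map_total H X]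
  apply Finset.sum_eq_zero
  intro j _
  rw [(hz j).eq_of_tgt (H.map (biproduct.π X j)) 0, zero_comp]

end Biprod

theorem nonempty_iso_biproduct (K : DerivedCategory A) (a b : ℤ) [K.IsGE a] [K.IsLE b]
    (hExt : ∀ (i j : ℤ) (p : ℕ), j < i → 2 ≤ p →
      ∀ f : (singleFunctor A 0).obj ((homologyFunctor A i).obj K) ⟶
        ((singleFunctor A 0).obj ((homologyFunctor A j).obj K))⟦(p : ℤ)⟧, f = 0)
    [HasBiproduct (fun i : Finset.Icc a b =>
      (singleFunctor A (i : ℤ)).obj ((homologyFunctor A (i : ℤ)).obj K))] :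
    Nonempty (K ≅ ⨁ (fun i : Finset.Icc a b =>
      (singleFunctor A (i : ℤ)).obj ((homologyFunctor A (i : ℤ)).obj K))) := by
  choose s hs using (fun i : ℤ => exists_section K a b hExt i)
  have hXz : ∀ (j : Finset.Icc a b) (n : ℤ), (j : ℤ) ≠ n →
      IsZero ((homologyFunctor A n).obj
        ((singleFunctor A (j : ℤ)).obj ((homologyFunctor A (j : ℤ)).obj K))) := by
    intro j n h; exact isZero_homology_single _ _ _ h
  obtain ⟨Φ, hΦ⟩ : ∃ Φ : (⨁ (fun i : Finset.Icc a b =>
      (singleFunctor A (i : ℤ)).obj ((homologyFunctor A (i : ℤ)).obj K))) ⟶ K,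
      ∀ i : Finset.Icc a b, biproduct.ι _ i ≫ Φ = s i :=
    ⟨biproduct.desc (fun i : Finset.Icc a b => s i), fun i => biproduct.ι_desc _ _⟩
  suffices IsIso Φ from ⟨(asIso Φ).symm⟩
  rw [DerivedCategory.isIso_iff]
  intro n
  by_cases hn : n ∈ Finset.Icc a b
  · have hι := isIso_map_biproduct_ι (homologyFunctor A n) (fun i : Finset.Icc a b =>
      (singleFunctor A (i : ℤ)).obj ((homologyFunctor A (i : ℤ)).obj K)) ⟨n, hn⟩
      (fun j hj => hXz j n (fun h => hj (Subtype.ext h)))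
    have h1 := hΦ ⟨n, hn⟩
    have h2 : (homologyFunctor A n).map Φ = inv ((homologyFunctor A n).map (biproduct.ι _ ⟨n, hn⟩)) ≫
        (homologyFunctor A n).map (s n) := by
      rw [IsIso.eq_inv_comp, ← Functor.map_comp, h1]
    rw [h2]
    have := hs n
    infer_instance
  · have hz1 := isZero_map_biproduct (homologyFunctor A n) (fun i : Finset.Icc a b =>
      (singleFunctor A (i : ℤ)).obj ((homologyFunctor A (i : ℤ)).obj K))
      (fun j => hXz j n (fun h => hn (h ▸ j.property)))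
    have hz2 : IsZero ((homologyFunctor A n).obj K) := by
      rw [Finset.mem_Icc, not_and_or, not_le, not_le] at hn
      rcases hn with h | h
      · exact isZero_of_isGE K a n h
      · exact isZero_of_isLE K b n h
    exact ⟨0, hz1.eq_of_src _ _, hz2.eq_of_src _ _⟩

end Groth.Agent.Helper1.DerInd
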