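import Groth.Agent.Helper1.SerreG
import Groth.Agent.Helper1.SerreE

/-!
# Uniform vanishing of higher direct images of quasi-coherent modules (qcqs morphisms)
-/

set_option autoImplicit false

namespace Groth.Agent.Helper1.Serre

open CategoryTheory Limits Opposite TopologicalSpace AlgebraicGeometry Abelian

universe u

variable {X S : Scheme.{u}}

/-- `B ⊓ f⁻¹(V')` is affine if `B` is an affine open inside `f⁻¹(V)` with `V' ≤ V` affine opens -/
lemma isAffineOpen_inf_preimage (f : X ⟶ S) {V V' : S.Opens} (hV : IsAffineOpen V)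
    (hV' : IsAffineOpen V') (hle : V' ≤ V) {B : X.Opens} (hB : IsAffineOpen B)
    (hBV : B ≤ f ⁻¹ᵁ V) : IsAffineOpen (B ⊓ f ⁻¹ᵁ V') := by
  haveI : IsAffine B.toScheme := hB
  haveI : IsAffine V.toScheme := hV
  have hO : IsAffineOpen (V.ι ⁻¹ᵁ V') :=
    hV'.preimage_of_isOpenImmersion V.ι (by rw [Scheme.Opens.opensRange_ι]; exact hle)
  have h1 : IsAffineOpen (f.resLE V B hBV ⁻¹ᵁ (V.ι ⁻¹ᵁ V')) := hO.preimage _
  have h2 := h1.image_of_isOpenImmersion B.ι
  have h3 : B.ι ''ᵁ (f.resLE V B hBV ⁻¹ᵁ (V.ι ⁻¹ᵁ V')) = B ⊓ f ⁻¹ᵁ V' := by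
    rw [Scheme.Hom.resLE_preimage, Scheme.Hom.image_preimage_eq_opensRange_inf,
      Scheme.Opens.opensRange_ι, Scheme.Hom.image_preimage_eq_opensRange_inf,
      Scheme.Opens.opensRange_ι, inf_eq_right.2 hle]
  rwa [h3] at h2

/-- uniform vanishing over `W ⊓ T`, `W` a compact open inside an affine open `A`, uniformly in
opens `T` meeting the basic opens of `A` in affine opens -/
lemma exists_bound_of_le_affine' {A : X.Opens} (hA : IsAffineOpen A) (W : X.Opens) (hWA : W ≤ A)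
    (hW : IsCompact (W : Set X)) :
    ∃ e : ℕ, 1 ≤ e ∧ ∀ (T : X.Opens), (∀ g : Γ(X, A), IsAffineOpen (X.basicOpen g ⊓ T)) →
      ∀ (M : X.Modules), M.IsQuasicoherent → ∀ n : ℕ, e ≤ n →
      Subsingleton (CohTop.HU (Coh.toAb M) n (W ⊓ T)) := by
  classical
  obtain ⟨s, rfl⟩ := exists_finset_basicOpen hA W hWA hW
  refine ⟨max s.card 1, le_max_right _ _, fun T hT M hM n hn => ?_⟩
  let s' : Finset X.Opens := s.image (fun g => X.basicOpen g ⊓ T)
  have := hM
  have hcard : s'.card ≤ s.card := Finset.card_image_le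
  have h := subsingleton_HU_finset_sup M {V | ∃ g : Γ(X, A), V = X.basicOpen g ⊓ T}
    (by
      rintro V ⟨g, rfl⟩
      exact hT g)
    (by
      rintro V ⟨g, rfl⟩ V' ⟨g', rfl⟩
      refine ⟨g * g', ?_⟩
      rw [X.basicOpen_mul g g']
      exact (inf_inf_distrib_right _ _ _).symm)
    s.card s'
    (by
      intro V hV
      obtain ⟨g, -, rfl⟩ := Finset.mem_image.1 hV
      exact ⟨g, rfl⟩)
    hcard n ((le_max_left _ _).trans hn) ((le_max_right _ _).trans hn)
  have h2 : s'.sup id = s.sup (fun g => X.basicOpen g) ⊓ T := by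
    rw [Finset.sup_image, Finset.sup_inf_distrib_right]
    rfl
  rwa [h2] at h

/-- uniform vanishing over `(⋃ s) ⊓ T`, `s` a finite set of affine opens inside a quasi-separated
open `Ω`, uniformly in opens `T` meeting every affine open inside `Ω` in an affine open -/
theorem exists_bound_finset_sup' (Ω : X.Opens) (hΩ : IsQuasiSeparated (Ω : Set X))
    (s : Finset X.Opens) (hs : ∀ U ∈ s, IsAffineOpen U) (hsΩ : ∀ U ∈ s, U ≤ Ω) :
    ∃ d : ℕ, ∀ (T : X.Opens), (∀ B : X.Opens, IsAffineOpen B → B ≤ Ω → IsAffineOpen (B ⊓ T)) →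
      ∀ (M : X.Modules), M.IsQuasicoherent → ∀ n : ℕ, d ≤ n →
      Subsingleton (CohTop.HU (Coh.toAb M) n (s.sup id ⊓ T)) := by
  classical
  induction s using Finset.induction_on with
  | empty =>
    refine ⟨1, fun T _ M hM n hn => ?_⟩
    have := hM
    obtain ⟨m, rfl⟩ := Nat.exists_eq_succ_of_ne_zero (Nat.one_le_iff_ne_zero.1 hn)
    rw [Finset.sup_empty, bot_inf_eq]
    exact subsingleton_HU_of_isAffineOpen M (isAffineOpen_bot X) m
  | insert A s hAs ih =>
    obtain ⟨d, hd⟩ := ih (fun U hU => hs U (Finset.mem_insert_of_mem hU))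
      (fun U hU => hsΩ U (Finset.mem_insert_of_mem hU))
    have hA : IsAffineOpen A := hs A (Finset.mem_insert_self _ _)
    have hAΩ : A ≤ Ω := hsΩ A (Finset.mem_insert_self _ _)
    have hsupΩ : s.sup id ≤ Ω :=
      Finset.sup_le (fun U hU => hsΩ U (Finset.mem_insert_of_mem hU))
    have hcomp : IsCompact ((A ⊓ s.sup id : X.Opens) : Set X) :=
      hΩ (A : Set X) (s.sup id : X.Opens) hAΩ A.2 hA.isCompact hsupΩ (s.sup id).2
        (isCompact_finset_sup s (fun U hU => (hs U (Finset.mem_insert_of_mem hU)).isCompact))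
    obtain ⟨e, he1, he⟩ := exists_bound_of_le_affine' hA (A ⊓ s.sup id) inf_le_left hcomp
    refine ⟨max d (e + 1), fun T hT M hM n hn => ?_⟩
    have := hM
    have hn1 : 1 ≤ n := (Nat.succ_le_succ (Nat.zero_le e)).trans ((le_max_right _ _).trans hn)
    obtain ⟨m, rfl⟩ := Nat.exists_eq_succ_of_ne_zero (Nat.one_le_iff_ne_zero.1 hn1)
    rw [Finset.sup_insert, id, inf_sup_right]
    apply subsingleton_HU_sup
    · have h4 : A ⊓ T ⊓ (s.sup id ⊓ T) = A ⊓ s.sup id ⊓ T :=
        (inf_inf_distrib_right _ _ _).symm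
      rw [h4]
      refine he T (fun g => hT _ (hA.basicOpen g) ((X.basicOpen_le g).trans hAΩ)) M hM m
        (Nat.le_of_succ_le_succ ((le_max_right _ _).trans hn))
    · exact subsingleton_HU_of_isAffineOpen M (hT A hA hAΩ) m
    · exact hd T hT M hM (m + 1) ((le_max_left _ _).trans hn)

end Groth.Agent.Helper1.Serre

namespace Groth.Agent.Helper1.Serre

open CategoryTheory Limits Opposite TopologicalSpace AlgebraicGeometry Abelian

universe u

variable {X S : Scheme.{u}}

lemma exists_mem_of_mem_finset_sup (t : Finset X.Opens) (x : X) (hx : x ∈ t.sup id) :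
    ∃ V ∈ t, x ∈ V := by
  classical
  induction t using Finset.induction_on with
  | empty => exact absurd hx (by simp)
  | insert A t hA ih =>
    rw [Finset.sup_insert] at hx
    rcases hx with h | h
    · exact ⟨A, Finset.mem_insert_self _ _, h⟩
    · obtain ⟨V, hV, hxV⟩ := ih h
      exact ⟨V, Finset.mem_insert_of_mem hV, hxV⟩

/-- a compact open is a finite union of affine opens -/
lemma exists_finset_affine_sup (U : X.Opens) (hU : IsCompact (U : Set X)) :
    ∃ s : Finset X.Opens, (∀ A ∈ s, IsAffineOpen A) ∧ s.sup id = U := by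
  classical
  obtain ⟨s, hs, htop⟩ := (isCompact_iff_finite_and_eq_biUnion_affineOpens (X := X)
    (U := U)).1 hU
  refine ⟨hs.toFinset.image (Subtype.val : X.affineOpens → X.Opens), ?_, ?_⟩
  · intro A hA
    obtain ⟨i, -, rfl⟩ := Finset.mem_image.1 hA
    exact i.2
  · rw [htop]
    apply le_antisymm
    · apply Finset.sup_le
      intro A hA
      obtain ⟨i, hi, rfl⟩ := Finset.mem_image.1 hA
      exact le_iSup₂ (f := fun (i : X.affineOpens) (_ : i ∈ s) => (i : X.Opens)) i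
        (hs.mem_toFinset.1 hi)
    · refine iSup₂_le (fun i hi => ?_)
      exact Finset.le_sup (f := id)
        (Finset.mem_image_of_mem (Subtype.val : X.affineOpens → X.Opens) (hs.mem_toFinset.2 hi))

/-- uniform vanishing of the cohomology of preimages of affine opens inside a fixed affine open -/
lemma exists_bound_preimage (f : X ⟶ S) [QuasiCompact f] [QuasiSeparated f] {V : S.Opens}
    (hV : IsAffineOpen V) :
    ∃ d : ℕ, ∀ V' : S.Opens, IsAffineOpen V' → V' ≤ V →
      ∀ (M : X.Modules), M.IsQuasicoherent → ∀ n : ℕ, d ≤ n →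
      Subsingleton (CohTop.HU (Coh.toAb M) n (f ⁻¹ᵁ V')) := by
  obtain ⟨s, hs, hsup⟩ := exists_finset_affine_sup (f ⁻¹ᵁ V) (f.isCompact_preimage hV.isCompact)
  obtain ⟨d, hd⟩ := exists_bound_finset_sup' (f ⁻¹ᵁ V)
    (f.isQuasiSeparated_preimage hV.isQuasiSeparated) s hs
    (fun U hU => hsup ▸ Finset.le_sup (f := id) hU)
  refine ⟨d, fun V' hV' hle M hM n hn => ?_⟩
  have h := hd (f ⁻¹ᵁ V') (fun B hB hBV => isAffineOpen_inf_preimage f hV hV' hle hB hBV) M hM n hn
  have h2 : s.sup id ⊓ f ⁻¹ᵁ V' = f ⁻¹ᵁ V' := by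
    rw [hsup]
    exact inf_eq_right.2 (f.preimage_mono hle)
  rwa [h2] at h

/-- **S0031**: uniform vanishing of higher direct images -/
theorem exists_bound_RpushAb (f : X ⟶ S) [QuasiCompact f] [QuasiSeparated f] [CompactSpace S] :
    ∃ n : ℕ, ∀ (M : X.Modules), M.IsQuasicoherent → ∀ p : ℕ, n ≤ p →
      IsZero ((Coh.RpushAb f p).obj (Coh.toAb M)) := by
  classical
  obtain ⟨t, ht, htop⟩ := exists_finset_affine_sup (⊤ : S.Opens) isCompact_univ
  have h1 : ∀ V : S.Opens, ∃ d : ℕ, V ∈ t → ∀ V' : S.Opens, IsAffineOpen V' → V' ≤ V →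
      ∀ (M : X.Modules), M.IsQuasicoherent → ∀ n : ℕ, d ≤ n →
      Subsingleton (CohTop.HU (Coh.toAb M) n (f ⁻¹ᵁ V')) := by
    intro V
    by_cases hVt : V ∈ t
    · obtain ⟨d, hd⟩ := exists_bound_preimage f (ht V hVt)
      exact ⟨d, fun _ => hd⟩
    · exact ⟨0, fun h => absurd h hVt⟩
  choose d hd using h1
  refine ⟨max (t.sup d) 1, fun M hM p hp => ?_⟩
  obtain ⟨i, rfl⟩ : ∃ i, p = i + 1 := ⟨p - 1, by have := (le_max_right _ _).trans hp; omega⟩
  obtain ⟨e⟩ := Groth.Agent.S0461.result f.base (Coh.toAb M) (i + 1)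
  refine IsZero.of_iso ?_ e
  apply isZero_sheafify_of_basis _ {V' | IsAffineOpen V' ∧ ∃ V ∈ t, V' ≤ V}
  · rw [Opens.isBasis_iff_nbhd]
    intro U x hx
    have hxt : x ∈ t.sup id := by rw [htop]; trivial
    obtain ⟨V, hVt, hxV⟩ : ∃ V ∈ t, x ∈ V := exists_mem_of_mem_finset_sup t x hxt
    obtain ⟨V', hV'aff, hxV', hV'le⟩ := Opens.isBasis_iff_nbhd.1 S.isBasis_affineOpens
      (show x ∈ U ⊓ V from ⟨hx, hxV⟩)
    exact ⟨V', ⟨hV'aff, V, hVt, hV'le.trans inf_le_right⟩, hxV', hV'le.trans inf_le_left⟩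
  · rintro V' ⟨hV'aff, V, hVt, hle⟩
    exact hd V hVt V' hV'aff hle M hM (i + 1)
      ((Finset.le_sup (f := d) hVt).trans ((le_max_left _ _).trans hp))

end Groth.Agent.Helper1.Serre
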