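import Mathlib

/-!
Flatness via Krull's intersection theorem: if `M` is a finite module over a Noetherian ring `B`
(an algebra over a Noetherian ring `A`) and `I` is an ideal of `B` inside the Jacobson radical,
then `M` is `A`-flat as soon as every element in the kernel of `M ⊗ J → M ⊗ A` lies in
`I ^ n • ⊤` for all `n`.
-/

namespace Groth.Agent.Helper1.FlatKrull

open TensorProduct

variable {A B : Type*} [CommRing A] [CommRing B] [Algebra A B]
  {M : Type*} [AddCommGroup M] [Module B M] [Module A M] [IsScalarTower A B M]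

instance finite_tensor (J : Type*) [AddCommGroup J] [Module A J] [Module.Finite B M]
    [Module.Finite A J] : Module.Finite B (M ⊗[A] J) :=
  Module.Finite.equiv (TensorProduct.AlgebraTensorModule.cancelBaseChange A B B M J)

/-- pure tensors with left factor in `I • ⊤` lie in `I • ⊤` -/
lemma tmul_mem_smul_top (I : Ideal B) {J : Type*} [AddCommGroup J] [Module A J] {k : M}
    (hk : k ∈ (I • ⊤ : Submodule B M)) (j : J) :
    k ⊗ₜ[A] j ∈ (I • ⊤ : Submodule B (M ⊗[A] J)) := by
  refine Submodule.smul_induction_on hk ?_ ?_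
  · intro r hr m _
    rw [← TensorProduct.smul_tmul']
    exact Submodule.smul_mem_smul hr trivial
  · intro x y hx hy
    rw [TensorProduct.add_tmul]
    exact add_mem hx hy

lemma mem_smul_top_of_rTensor_mkQ_eq_zero (I : Ideal B) {J : Type*} [AddCommGroup J] [Module A J]
    (x : M ⊗[A] J)
    (hx : (((I • ⊤ : Submodule B M).mkQ.restrictScalars A).rTensor J) x = 0) :
    x ∈ (I • ⊤ : Submodule B (M ⊗[A] J)) := by
  have hex : Function.Exact (((I • ⊤ : Submodule B M).subtype.restrictScalars A).rTensor J)
      (((I • ⊤ : Submodule B M).mkQ.restrictScalars A).rTensor J) := by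
    apply rTensor_exact
    · intro y
      simp only [LinearMap.coe_restrictScalars, Submodule.mkQ_apply, Submodule.Quotient.mk_eq_zero,
        Set.mem_range, Submodule.subtype_apply, Subtype.exists, exists_prop, exists_eq_right]
    · exact Submodule.mkQ_surjective _
  obtain ⟨y, rfl⟩ := (hex x).mp hx
  clear hx
  induction y using TensorProduct.induction_on with
  | zero => simp
  | tmul k j =>
    simp only [LinearMap.rTensor_tmul, LinearMap.coe_restrictScalars, Submodule.subtype_apply]
    exact tmul_mem_smul_top I k.2 j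
  | add a b ha hb => rw [map_add]; exact add_mem ha hb

/-- if `M ⧸ I • ⊤` is `A`-flat then the kernel of `M ⊗ J → M ⊗ A` lies in `I • ⊤`. -/
lemma ker_le_smul_top_of_flat (I : Ideal B) [Module.Flat A (M ⧸ (I • ⊤ : Submodule B M))]
    (J : Ideal A) (x : M ⊗[A] J) (hx : (LinearMap.lTensor M J.subtype) x = 0) :
    x ∈ (I • ⊤ : Submodule B (M ⊗[A] J)) := by
  apply mem_smul_top_of_rTensor_mkQ_eq_zero
  have hinj := (Module.Flat.iff_lTensor_injective'
    (M := (M ⧸ (I • ⊤ : Submodule B M)))).mp inferInstance J
  apply hinj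
  rw [map_zero, ← LinearMap.comp_apply, LinearMap.lTensor_comp_rTensor,
    ← LinearMap.rTensor_comp_lTensor, LinearMap.comp_apply, hx, map_zero]

theorem flat_of_ker_le_iInf [IsNoetherianRing A] [IsNoetherianRing B] [Module.Finite B M]
    (I : Ideal B) (hI : I ≤ Ideal.jacobson ⊥)
    (h : ∀ (J : Ideal A) (x : M ⊗[A] J), (LinearMap.lTensor M J.subtype) x = 0 →
      ∀ n, x ∈ (I ^ n • ⊤ : Submodule B (M ⊗[A] J))) :
    Module.Flat A M := by
  rw [Module.Flat.iff_lTensor_injective']
  intro J
  rw [injective_iff_map_eq_zero]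
  intro x hx
  have key := Ideal.iInf_pow_smul_eq_bot_of_le_jacobson (M := M ⊗[A] J) I hI
  have hmem : x ∈ (⨅ i : ℕ, I ^ i • ⊤ : Submodule B (M ⊗[A] J)) := by
    rw [Submodule.mem_iInf]; exact h J x hx
  rw [key] at hmem
  simpa using hmem

end Groth.Agent.Helper1.FlatKrull
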