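import Mathlib

set_option autoImplicit false
universe u

namespace Groth.Agent.Helper1.FreeNilp
open TensorProduct

section
variable {A : Type u} [CommRing A] (J : Ideal A) (M : Type u) [AddCommGroup M] [Module A M]

lemma exists_one_tmul (y : (A ⧸ J) ⊗[A] M) : ∃ m : M, (1 : A ⧸ J) ⊗ₜ[A] m = y := by
  induction y using TensorProduct.induction_on with
  | zero => exact ⟨0, by simp⟩
  | tmul a m =>
    obtain ⟨a, rfl⟩ := Ideal.Quotient.mk_surjective a
    refine ⟨a • m, ?_⟩
    rw [← TensorProduct.smul_tmul]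
    congr 1
    rw [Algebra.smul_def, mul_one]; rfl
  | add x y hx hy =>
    obtain ⟨m, rfl⟩ := hx
    obtain ⟨m', rfl⟩ := hy
    exact ⟨m + m', by rw [TensorProduct.tmul_add]⟩

lemma one_tmul_eq_zero_iff (m : M) :
    (1 : A ⧸ J) ⊗ₜ[A] m = 0 ↔ m ∈ J • (⊤ : Submodule A M) := by
  rw [← (TensorProduct.quotTensorEquivQuotSMul M J).map_eq_zero_iff,
    TensorProduct.quotTensorEquivQuotSMul_mk_one_tmul, Submodule.Quotient.mk_eq_zero]

/-- nilpotent Nakayama for submodules -/
lemma le_of_le_sup_smul (hJ : IsNilpotent J) (N : Submodule A M)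
    (h : (⊤ : Submodule A M) ≤ N ⊔ J • ⊤) : N = ⊤ := by
  obtain ⟨t, ht⟩ := hJ
  have key : ∀ s : ℕ, (⊤ : Submodule A M) ≤ N ⊔ J ^ (s + 1) • ⊤ := by
    intro s
    induction s with
    | zero => simpa using h
    | succ s ih =>
      have h1 : J • (⊤ : Submodule A M) ≤ N ⊔ J ^ (s + 2) • ⊤ := by
        calc J • (⊤ : Submodule A M) ≤ J • (N ⊔ J ^ (s + 1) • ⊤) := Submodule.smul_mono le_rfl ih
          _ = J • N ⊔ J • J ^ (s + 1) • ⊤ := Submodule.smul_sup _ _ _
          _ ≤ N ⊔ J ^ (s + 2) • ⊤ := by
            apply sup_le_sup Submodule.smul_le_right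
            rw [← Submodule.mul_smul, ← pow_succ']
      calc (⊤ : Submodule A M) ≤ N ⊔ J • ⊤ := h
        _ ≤ N ⊔ (N ⊔ J ^ (s + 2) • ⊤) := sup_le_sup le_rfl h1
        _ = N ⊔ J ^ (s + 2) • ⊤ := by rw [← sup_assoc, sup_idem]
  have := key t
  rw [pow_succ, ht, zero_mul, Submodule.zero_eq_bot, Submodule.bot_smul, sup_bot_eq] at this
  exact top_le_iff.1 this

end

section Main
variable {A : Type u} [CommRing A] (J : Ideal A) (hJ : IsNilpotent J)
  (M : Type u) [AddCommGroup M] [Module A M]

/-- kernel of a base-changed surjection onto a projective module, when the kernel upstairs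
has coordinates in a nilpotent ideal, is trivial -/
lemma ker_lTensor_eq_bot (hJ : IsNilpotent J) (B : Type u) [CommRing B] [Algebra A B]
    {I : Type u} (φ : (I →₀ A) →ₗ[A] M) (hsurj : Function.Surjective φ)
    (hcoord : ∀ x ∈ LinearMap.ker φ, ∀ k, x k ∈ J)
    (hproj : Module.Projective B (B ⊗[A] M)) :
    LinearMap.ker (LinearMap.lTensor B φ) = ⊥ := by
  classical
  -- the B-linear version and a section
  have hsurjB : Function.Surjective (LinearMap.baseChange B φ) :=
    LinearMap.lTensor_surjective B hsurj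
  obtain ⟨s, hs⟩ := Module.projective_lifting_property (LinearMap.baseChange B φ) LinearMap.id hsurjB
  -- the projection
  let π : B ⊗[A] (I →₀ A) →ₗ[A] B ⊗[A] (I →₀ A) :=
    LinearMap.id - (s.restrictScalars A) ∘ₗ (LinearMap.lTensor B φ)
  have hπ_ker : ∀ y ∈ LinearMap.ker (LinearMap.lTensor B φ), π y = y := by
    intro y hy
    rw [LinearMap.mem_ker] at hy
    simp only [π, LinearMap.sub_apply, LinearMap.id_apply, LinearMap.comp_apply, hy, map_zero,
      sub_zero]
  have hπ_range : LinearMap.range π ≤ LinearMap.ker (LinearMap.lTensor B φ) := by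
    rintro _ ⟨y, rfl⟩
    rw [LinearMap.mem_ker]
    simp only [π, LinearMap.sub_apply, LinearMap.id_apply, LinearMap.comp_apply, map_sub]
    have h1 : LinearMap.lTensor B φ (s.restrictScalars A (LinearMap.lTensor B φ y)) =
        LinearMap.lTensor B φ y := by
      have := LinearMap.congr_fun hs (LinearMap.lTensor B φ y)
      exact this
    rw [h1, sub_self]
  -- base: the kernel lies in J • ⊤
  have hbase : LinearMap.ker (LinearMap.lTensor B φ) ≤
      J • (⊤ : Submodule A (B ⊗[A] (I →₀ A))) := by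
    have hex := lTensor_exact (M := LinearMap.ker φ) (N := (I →₀ A)) B
      (LinearMap.exact_subtype_ker_map φ) hsurj
    intro y hy
    obtain ⟨w, rfl⟩ := (hex y).1 hy
    induction w using TensorProduct.induction_on with
    | zero => rw [map_zero]; exact zero_mem _
    | tmul b x =>
      rw [LinearMap.lTensor_tmul]
      have hx : ((LinearMap.ker φ).subtype x) = ∑ k ∈ (x : I →₀ A).support,
          (x : I →₀ A) k • Finsupp.single k (1 : A) := by
        conv_lhs => rw [Submodule.subtype_apply, ← Finsupp.sum_single (x : I →₀ A)]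
        rw [Finsupp.sum]
        apply Finset.sum_congr rfl
        intro k _
        rw [Finsupp.smul_single, smul_eq_mul, mul_one]
      rw [hx, TensorProduct.tmul_sum]
      apply Submodule.sum_mem
      intro k _
      rw [TensorProduct.tmul_smul]
      exact Submodule.smul_mem_smul (hcoord x x.2 k) Submodule.mem_top
    | add w w' hw hw' =>
      rw [map_add]
      exact add_mem (hw ((hex _).2 ⟨w, rfl⟩)) (hw' ((hex _).2 ⟨w', rfl⟩))
  obtain ⟨t, ht⟩ := hJ
  have key : ∀ r : ℕ, LinearMap.ker (LinearMap.lTensor B φ) ≤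
      J ^ (r + 1) • (⊤ : Submodule A (B ⊗[A] (I →₀ A))) := by
    intro r
    induction r with
    | zero => simpa using hbase
    | succ r ih =>
      intro y hy
      have h1 : y ∈ (J • (⊤ : Submodule A (B ⊗[A] (I →₀ A)))).map π := by
        refine ⟨y, hbase hy, hπ_ker y hy⟩
      rw [Submodule.map_smul''] at h1
      have h2 : (⊤ : Submodule A (B ⊗[A] (I →₀ A))).map π ≤ J ^ (r + 1) • ⊤ := by
        rw [Submodule.map_top]
        exact hπ_range.trans ih
      have h3 := Submodule.smul_mono (le_refl J) h2 h1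
      rw [← Submodule.mul_smul, ← pow_succ'] at h3
      exact h3
  have := key t
  rw [pow_succ, ht, zero_mul, Submodule.zero_eq_bot, Submodule.bot_smul] at this
  exact le_bot_iff.1 this

end Main

section Thm

theorem free_of_nilpotent {A : Type u} [CommRing A] (J : Ideal A) (hJ : IsNilpotent J)
    {ι : Type u} (B : ι → Type u) [∀ i, CommRing (B i)] [∀ i, Algebra A (B i)]
    (hB : ∀ a : A, (∀ i, algebraMap A (B i) a = 0) → a = 0)
    (M : Type u) [AddCommGroup M] [Module A M]
    (hfree : ∀ i, Module.Free (B i) (B i ⊗[A] M))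
    (hfreeJ : Module.Free (A ⧸ J) ((A ⧸ J) ⊗[A] M)) :
    Module.Free A M := by
  classical
  let bJ := Module.Free.chooseBasis (A ⧸ J) ((A ⧸ J) ⊗[A] M)
  have hex : ∀ k, ∃ m : M, (1 : A ⧸ J) ⊗ₜ[A] m = bJ k := fun k => exists_one_tmul J M (bJ k)
  choose e he using hex
  let φ : (Module.Free.ChooseBasisIndex (A ⧸ J) ((A ⧸ J) ⊗[A] M) →₀ A) →ₗ[A] M :=
    Finsupp.linearCombination A e
  -- image of φ x in the quotient
  have hφ1 : ∀ x, (1 : A ⧸ J) ⊗ₜ[A] φ x =
      Finsupp.linearCombination (A ⧸ J) bJ (x.mapRange (Ideal.Quotient.mk J) (map_zero _)) := by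
    intro x
    show (TensorProduct.mk A (A ⧸ J) M 1) (φ x) = _
    rw [Finsupp.linearCombination_apply, Finsupp.linearCombination_apply, map_finsuppSum,
      Finsupp.sum_mapRange_index (by intro k; exact zero_smul _ _)]
    apply Finsupp.sum_congr
    intro k _
    rw [map_smul, TensorProduct.mk_apply, he, ← Ideal.Quotient.algebraMap_eq, algebraMap_smul]
  -- coordinates of kernel elements
  have hcoord : ∀ x ∈ LinearMap.ker φ, ∀ k, x k ∈ J := by
    intro x hx k
    rw [LinearMap.mem_ker] at hx
    have h1 := hφ1 x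
    rw [hx, TensorProduct.tmul_zero] at h1
    have h2 := (linearIndependent_iff.1 bJ.linearIndependent) _ h1.symm
    have h3 := DFunLike.congr_fun h2 k
    rw [Finsupp.mapRange_apply, Finsupp.zero_apply] at h3
    exact Ideal.Quotient.eq_zero_iff_mem.1 h3
  -- surjectivity
  have hsurj : Function.Surjective φ := by
    rw [← LinearMap.range_eq_top]
    apply le_of_le_sup_smul J M hJ
    intro m _
    -- expand the class of m
    obtain ⟨c, hc⟩ := Finsupp.mapRange_surjective (Ideal.Quotient.mk J) (map_zero _)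
      Ideal.Quotient.mk_surjective (bJ.repr ((1 : A ⧸ J) ⊗ₜ[A] m))
    have h1 : (1 : A ⧸ J) ⊗ₜ[A] (m - φ c) = 0 := by
      rw [TensorProduct.tmul_sub, hφ1, hc, bJ.linearCombination_repr, sub_self]
    have h2 := (one_tmul_eq_zero_iff J M _).1 h1
    have : m = φ c + (m - φ c) := by abel
    rw [this]
    exact Submodule.add_mem_sup (LinearMap.mem_range_self φ c) h2
  -- injectivity
  have hinj : Function.Injective φ := by
    rw [← LinearMap.ker_eq_bot, eq_bot_iff]
    intro x hx
    rw [Submodule.mem_bot]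
    ext k
    rw [Finsupp.zero_apply]
    apply hB
    intro i
    have hker := ker_lTensor_eq_bot J M hJ (B i) φ hsurj hcoord
      (Module.Projective.of_free (R := B i) (P := B i ⊗[A] M))
    have h1 : (1 : B i) ⊗ₜ[A] x ∈ LinearMap.ker (LinearMap.lTensor (B i) φ) := by
      rw [LinearMap.mem_ker, LinearMap.lTensor_tmul, (LinearMap.mem_ker).1 hx,
        TensorProduct.tmul_zero]
    rw [hker, Submodule.mem_bot] at h1
    have h2 := congrArg ((TensorProduct.rid A (B i)).toLinearMap ∘ₗ
      LinearMap.lTensor (B i) (Finsupp.lapply k)) h1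
    rw [map_zero, LinearMap.comp_apply, LinearMap.lTensor_tmul, LinearEquiv.coe_coe,
      TensorProduct.rid_tmul, Finsupp.lapply_apply] at h2
    rw [Algebra.algebraMap_eq_smul_one]
    exact h2
  exact Module.Free.of_equiv (LinearEquiv.ofBijective φ ⟨hinj, hsurj⟩)

end Thm

end Groth.Agent.Helper1.FreeNilp
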