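import Mathlib

/-!
A finitely generated torsion-free module over a domain embeds into a finite free module.
-/

namespace Groth.Agent.Helper1.TorsionFreeEmb

open Cardinal

theorem exists_injective_pi {D : Type*} [CommRing D] [IsDomain D] {M : Type*} [AddCommGroup M]
    [Module D M] [Module.Finite D M]
    (htf : ∀ (d : D) (m : M), d ≠ 0 → d • m = 0 → m = 0) :
    ∃ (n : ℕ) (f : M →ₗ[D] (Fin n → D)), Function.Injective f := by
  classical
  obtain ⟨s, hs, hlin⟩ := exists_set_linearIndependent_of_isDomain D M
  have hfinrank : Module.rank D M < ℵ₀ := Module.rank_lt_aleph0 D M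
  have hsfin : s.Finite := by
    rw [← Cardinal.lt_aleph0_iff_set_finite, hs]; exact hfinrank
  let F : Submodule D M := Submodule.span D s
  have hrF : Module.rank D F = Module.rank D M := by
    rw [rank_span_set hlin, hs]
  have hq : Module.rank D (M ⧸ F) = 0 := by
    have h := rank_quotient_add_rank_of_isDomain F
    rw [hrF] at h
    have h' : Module.rank D (M ⧸ F) + Module.rank D M = 0 + Module.rank D M := by
      rw [h, zero_add]
    exact Cardinal.eq_of_add_eq_add_right h' hfinrank
  have htors : Module.IsTorsion D (M ⧸ F) := Module.rank_eq_zero_iff_isTorsion.mp hq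
  obtain ⟨d, hdann, hd0⟩ := Submodule.annihilator_top_inter_nonZeroDivisors htors
  have hdne : d ≠ 0 := nonZeroDivisors.ne_zero hd0
  have hdF : ∀ m : M, d • m ∈ F := by
    intro m
    have := Submodule.mem_annihilator.mp hdann (F.mkQ m) Submodule.mem_top
    rwa [← map_smul, Submodule.mkQ_apply, Submodule.Quotient.mk_eq_zero] at this
  -- the map `m ↦ d • m` into `F`
  let g : M →ₗ[D] F :=
    LinearMap.codRestrict F (LinearMap.lsmul D M d) hdF
  have hg : Function.Injective g := by
    rw [injective_iff_map_eq_zero]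
    intro m hm
    have : d • m = 0 := congrArg Subtype.val hm
    exact htf d m hdne this
  -- `F` is free with basis `s`
  have hlin' : LinearIndependent D (fun x : s => (x : M)) := hlin
  let b : Module.Basis s D F := Module.Basis.span hlin' |>.map
    (LinearEquiv.ofEq _ _ (by rw [Subtype.range_coe_subtype]; rfl))
  have := hsfin.fintype
  let e : s ≃ Fin (Fintype.card s) := Fintype.equivFin s
  let φ : F ≃ₗ[D] (Fin (Fintype.card s) → D) :=
    (b.equivFun).trans (LinearEquiv.funCongrLeft D D e.symm)
  exact ⟨Fintype.card s, φ.toLinearMap ∘ₗ g, φ.injective.comp hg⟩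


theorem exists_injective_pi_quotient {R : Type*} [CommRing R] (p : Ideal R) [p.IsPrime]
    {M : Type*} [AddCommGroup M] [Module R M] [Module.Finite R M]
    (hp : ∀ a ∈ p, ∀ m : M, a • m = 0) (htf : ∀ r, r ∉ p → ∀ m : M, r • m = 0 → m = 0) :
    ∃ (n : ℕ) (f : M →ₗ[R] (Fin n → R ⧸ p)), Function.Injective f := by
  have htors : Module.IsTorsionBySet R M (p : Set R) := fun m a => hp a.1 a.2 m
  let _ : Module (R ⧸ p) M := htors.module
  have : Module.Finite (R ⧸ p) M := Module.Finite.of_restrictScalars_finite R (R ⧸ p) M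
  obtain ⟨n, f, hf⟩ := exists_injective_pi (D := R ⧸ p) (M := M) (by
    intro d m hd hdm
    obtain ⟨r, rfl⟩ := Ideal.Quotient.mk_surjective d
    have hr : r ∉ p := fun h => hd (Ideal.Quotient.eq_zero_iff_mem.mpr h)
    exact htf r hr m hdm)
  exact ⟨n, f.restrictScalars R, hf⟩

end Groth.Agent.Helper1.TorsionFreeEmb
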