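import Mathlib
import Groth.Prelude.Def_EssEt

/-!
# Essentially étale local algebras: rigidity
-/

set_option autoImplicit false

namespace Groth.Agent.Helper1.EssEt

open TensorProduct IsLocalRing

/-- Rigidity for unramified algebras: two algebra maps into a local ring which agree modulo the
maximal ideal are equal. -/
theorem algHom_eq_of_residue_eq {A A₁ B : Type*} [CommRing A] [CommRing A₁] [Algebra A A₁]
    [CommRing B] [IsLocalRing B] [Algebra A B] [Algebra.EssFiniteType A A₁]
    [Algebra.FormallyUnramified A A₁] (ψ ψ' : A₁ →ₐ[A] B)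
    (h : ∀ x, residue B (ψ x) = residue B (ψ' x)) : ψ = ψ' := by
  obtain ⟨t, ht1, ht2⟩ := (Algebra.FormallyUnramified.iff_exists_tensorProduct (R := A) (S := A₁)).1
    inferInstance
  let φ : A₁ ⊗[A] A₁ →ₐ[A] B := Algebra.TensorProduct.productMap ψ ψ'
  have hφ : ∀ a b, φ (a ⊗ₜ b) = ψ a * ψ' b := fun a b => by simp [φ]
  -- `φ t` is a unit
  have hres : ∀ z : A₁ ⊗[A] A₁, residue B (φ z) = residue B (ψ (Algebra.TensorProduct.lmul' A z)) := by
    intro z
    induction z using TensorProduct.induction_on with
    | zero => simp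
    | tmul a b =>
      rw [hφ, Algebra.TensorProduct.lmul'_apply_tmul, map_mul, map_mul, map_mul, h b]
    | add x y hx hy => rw [map_add, map_add, hx, hy, map_add, map_add, map_add]
  have hu : IsUnit (φ t) := by
    have h1 : residue B (φ t) = 1 := by rw [hres, ht2, map_one, map_one]
    have h2 : φ t - 1 ∈ maximalIdeal B := by
      rw [← residue_eq_zero_iff, map_sub, h1, map_one, sub_self]
    by_contra hnu
    have h3 : φ t ∈ maximalIdeal B := (mem_maximalIdeal _).2 hnu
    have h4 : (1 : B) ∈ maximalIdeal B := by
      have := (maximalIdeal B).sub_mem h3 h2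
      simpa using this
    exact (Ideal.ne_top_iff_one _).1 (maximalIdeal.isMaximal B).ne_top h4
  ext s
  have h5 := congr(φ $(ht1 s))
  rw [map_mul, map_sub, hφ, hφ, map_one, map_one, one_mul, mul_one, map_zero] at h5
  have h6 := (hu.mul_left_eq_zero).1 h5
  exact (sub_eq_zero.1 h6).symm

universe u

/-- An essentially étale local algebra is essentially of finite type and formally étale. -/
theorem props_of_isEssentiallyEtale {A B : Type u} [CommRing A] [IsLocalRing A] [CommRing B]
    [Algebra A B] (h : EGA4loc.IsEssentiallyEtale A B) :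
    Algebra.EssFiniteType A B ∧ Algebra.FormallyEtale A B := by
  obtain ⟨C, _, _, q, _, hC, -, ⟨e⟩⟩ := h
  haveI : Algebra.EssFiniteType A C := inferInstance
  haveI : Algebra.FormallyEtale C (Localization.AtPrime q) :=
    Algebra.FormallyEtale.of_isLocalization q.primeCompl
  haveI : Algebra.FormallyEtale A (Localization.AtPrime q) :=
    Algebra.FormallyEtale.comp A C _
  exact ⟨(Algebra.EssFiniteType.iff_of_algEquiv e).2 inferInstance,
    Algebra.FormallyEtale.of_equiv e.symm⟩

/-- Any algebra map between local algebras with local structure maps, out of an unramified one,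
is local in the sense that it maps the maximal ideal into the maximal ideal. -/
theorem map_maximalIdeal_le {A A₁ A₂ : Type*} [CommRing A] [IsLocalRing A]
    [CommRing A₁] [IsLocalRing A₁] [Algebra A A₁] [IsLocalHom (algebraMap A A₁)]
    [CommRing A₂] [IsLocalRing A₂] [Algebra A A₂] [IsLocalHom (algebraMap A A₂)]
    [Algebra.EssFiniteType A A₁] [Algebra.FormallyUnramified A A₁] (ψ : A₁ →ₐ[A] A₂) :
    ∀ x ∈ maximalIdeal A₁, ψ x ∈ maximalIdeal A₂ := by
  intro x hx
  rw [← Algebra.FormallyUnramified.map_maximalIdeal (R := A) (S := A₁)] at hx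
  have hle : (maximalIdeal A).map (algebraMap A A₁) ≤ (maximalIdeal A₂).comap ψ.toRingHom := by
    rw [Ideal.map_le_iff_le_comap]
    intro a ha
    simp only [Ideal.mem_comap, AlgHom.toRingHom_eq_coe, RingHom.coe_coe, AlgHom.commutes]
    exact ((local_hom_TFAE (algebraMap A A₂)).out 0 2 rfl rfl).mp inferInstance
      (Ideal.mem_map_of_mem _ ha)
  exact hle hx

end Groth.Agent.Helper1.EssEt
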