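import Mathlib
import Groth.Agent.Helper1.EssEt

/-!
# Lifting maps from étale algebras into henselian local rings
-/

set_option autoImplicit false

namespace Groth.Agent.Helper1.EssEt

open TensorProduct IsLocalRing Polynomial

universe u

/-- Core Hensel lifting: an algebra map from an étale algebra to the residue field of a
henselian local algebra lifts. -/
theorem exists_lift_of_etale {A C B : Type u} [CommRing A] [CommRing C] [Algebra A C]
    [Algebra.Etale A C] [CommRing B] [HenselianLocalRing B] [Algebra A B]
    (β : C →ₐ[A] ResidueField B) :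
    ∃ χ : C →ₐ[A] B, ∀ c, residue B (χ c) = β c := by
  classical
  let q : Ideal C := RingHom.ker β.toRingHom
  haveI : q.IsPrime := RingHom.ker_isPrime _
  haveI : Algebra.FormallyEtale C (Localization.AtPrime q) :=
    Algebra.FormallyEtale.of_isLocalization q.primeCompl
  haveI : Algebra.IsEtaleAt A q := Algebra.FormallyEtale.comp A C _
  obtain ⟨f, hfq, hstd⟩ := Algebra.IsEtaleAt.exists_isStandardEtale (R := A) q
  obtain ⟨P⟩ := hstd.nonempty_standardEtalePresentation
  have hβf : IsUnit (β f) := by
    rw [isUnit_iff_ne_zero]
    exact hfq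
  let βf : Localization.Away f →ₐ[A] ResidueField B :=
    IsLocalization.Away.liftAlgHom f (f := β) hβf
  have hβf' : ∀ c, βf (algebraMap C _ c) = β c := fun c => by
    simp [βf, IsLocalization.Away.liftAlgHom_apply]
  let xb : ResidueField B := βf P.x
  have hxb : P.HasMap xb := P.hasMap.map βf
  obtain ⟨x₀, hx₀⟩ := residue_surjective xb
  -- Hensel
  have hHens := (HenselianLocalRing.TFAE B).out 0 1
  have hB := hHens.1 inferInstance
  have hmonic : (P.f.map (algebraMap A B)).Monic := P.monic_f.map _
  have h1 : aeval xb (P.f.map (algebraMap A B)) = 0 := by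
    rw [aeval_map_algebraMap]; exact hxb.1
  have h2 : aeval xb (derivative (P.f.map (algebraMap A B))) ≠ 0 := by
    rw [derivative_map, aeval_map_algebraMap]
    exact hxb.isUnit_derivative_f.ne_zero
  obtain ⟨x₁, hroot, hres⟩ := hB _ hmonic xb h1 h2
  have hx₁ : P.HasMap x₁ := by
    refine ⟨?_, ?_⟩
    · have := hroot
      rw [IsRoot, eval_map_algebraMap] at this
      exact this
    · have h3 : residue B (aeval x₁ P.g) = aeval xb P.g := by
        rw [← hres]
        exact (Polynomial.aeval_algHom_apply (IsScalarTower.toAlgHom A B (ResidueField B)) x₁ P.g).symm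
      have h4 : IsUnit (residue B (aeval x₁ P.g)) := h3 ▸ hxb.2
      by_contra hnu
      have h5 : aeval x₁ P.g ∈ maximalIdeal B := (mem_maximalIdeal _).2 hnu
      rw [← residue_eq_zero_iff] at h5
      rw [h5] at h4
      exact not_isUnit_zero h4
  let χf : Localization.Away f →ₐ[A] B := (P.lift x₁ hx₁).comp P.equivRing.toAlgHom
  have hχf : (IsScalarTower.toAlgHom A B (ResidueField B)).comp χf = βf := by
    apply P.hom_ext
    show residue B ((P.lift x₁ hx₁) (P.equivRing P.x)) = βf P.x
    rw [P.equivRing_x, StandardEtalePair.lift_X]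
    exact hres
  refine ⟨χf.comp (IsScalarTower.toAlgHom A C _), fun c => ?_⟩
  have := congr($hχf (algebraMap C _ c))
  rw [hβf'] at this
  exact this

/-- Lifting local homomorphisms from essentially étale local algebras to henselian local rings,
with prescribed residue field map. -/
theorem existsUnique_lift {A A' B : Type u} [CommRing A] [IsLocalRing A] [CommRing A']
    [IsLocalRing A'] [Algebra A A'] [IsLocalHom (algebraMap A A')]
    (hA' : EGA4loc.IsEssentiallyEtale A A') [CommRing B] [HenselianLocalRing B]
    (ψ : A →+* B) [IsLocalHom ψ] (α : ResidueField A' →+* ResidueField B)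
    (hα : α.comp (ResidueField.map (algebraMap A A')) = ResidueField.map ψ) :
    ∃! ψ' : A' →+* B, IsLocalHom ψ' ∧ ψ'.comp (algebraMap A A') = ψ ∧
      ∀ x : A', residue B (ψ' x) = α (residue A' x) := by
  classical
  obtain ⟨hess, hfe⟩ := props_of_isEssentiallyEtale hA'
  letI : Algebra A B := ψ.toAlgebra
  have halg : ∀ a, algebraMap A B a = ψ a := fun a => rfl
  obtain ⟨C, _, _, q, _, hC, hq, ⟨e⟩⟩ := hA'
  -- the residue map on `C`
  let β₀ : C →+* ResidueField B :=
    α.comp ((residue A').comp (e.symm.toAlgHom.toRingHom.comp (algebraMap C (Localization.AtPrime q))))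
  have hβ₀ : ∀ c, β₀ c = α (residue A' (e.symm (algebraMap C _ c))) := fun c => rfl
  let β : C →ₐ[A] ResidueField B :=
    { β₀ with
      commutes' := by
        intro a
        show β₀ (algebraMap A C a) = _
        rw [hβ₀, ← IsScalarTower.algebraMap_apply A C (Localization.AtPrime q), e.symm.commutes]
        have h1 := congr($hα (residue A a))
        simp only [RingHom.comp_apply, ResidueField.map_residue] at h1
        rw [h1]
        rfl }
  have hβ : ∀ c, β c = α (residue A' (e.symm (algebraMap C _ c))) := fun c => rfl
  obtain ⟨χ, hχ⟩ := exists_lift_of_etale β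
  have hunit : ∀ y : q.primeCompl, IsUnit (χ (y : C)) := by
    intro y
    have h1 : IsUnit (β (y : C)) := by
      rw [hβ]
      exact (((IsLocalization.map_units (Localization.AtPrime q) y).map e.symm).map
        (residue A')).map α
    by_contra hnu
    have h2 : χ (y : C) ∈ maximalIdeal B := (mem_maximalIdeal _).2 hnu
    rw [← residue_eq_zero_iff, hχ] at h2
    rw [h2] at h1
    exact not_isUnit_zero h1
  let χq : Localization.AtPrime q →ₐ[A] B := IsLocalization.liftAlgHom (M := q.primeCompl)
    (f := χ) hunit
  have hχq : ∀ c, χq (algebraMap C _ c) = χ c := fun c => by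
    simp [χq]
  have hresq : ∀ y : Localization.AtPrime q, residue B (χq y) = α (residue A' (e.symm y)) := by
    have : ((residue B).comp χq.toRingHom) =
        α.comp ((residue A').comp e.symm.toAlgHom.toRingHom) := by
      apply IsLocalization.ringHom_ext q.primeCompl
      ext c
      simp only [RingHom.comp_apply, AlgHom.toRingHom_eq_coe, RingHom.coe_coe]
      rw [hχq, hχ, hβ]
      rfl
    intro y
    exact congr($this y)
  let ψ'a : A' →ₐ[A] B := χq.comp e.toAlgHom
  have hψ'res : ∀ x : A', residue B (ψ'a x) = α (residue A' x) := by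
    intro x
    show residue B (χq (e x)) = _
    rw [hresq, e.symm_apply_apply]
  refine ⟨ψ'a.toRingHom, ⟨?_, ?_, hψ'res⟩, ?_⟩
  · constructor
    intro x hx
    have h1 : IsUnit (residue B (ψ'a x)) := hx.map _
    rw [hψ'res] at h1
    by_contra hnu
    have h2 : x ∈ maximalIdeal A' := (mem_maximalIdeal _).2 hnu
    rw [← residue_eq_zero_iff] at h2
    rw [h2, map_zero] at h1
    exact not_isUnit_zero h1
  · ext a
    simp only [RingHom.comp_apply, AlgHom.toRingHom_eq_coe, RingHom.coe_coe, AlgHom.commutes]
    exact halg a
  · rintro ψ'' ⟨-, hcomp, hres⟩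
    let ψ''a : A' →ₐ[A] B :=
      { ψ'' with
        commutes' := fun a => by
          show ψ'' (algebraMap A A' a) = _
          rw [halg, ← hcomp]
          rfl }
    have : ψ''a = ψ'a := by
      apply algHom_eq_of_residue_eq
      intro x
      rw [hψ'res]
      exact hres x
    ext x
    exact congr($this x)

end Groth.Agent.Helper1.EssEt
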