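import Mathlib
import Groth.Agent.Helper1.EssEt

/-!
# Construction of (strict) henselizations as a direct limit of pointed étale algebras

Fix a ring `R` and a field `Ω` which is an `R`-algebra. A *pointed étale algebra* is an étale
`R`-algebra `C` together with an `R`-algebra map `γ : C → Ω`. We build a small index type
`Idx R Ω` of pointed étale algebras, a preorder on it, the directed system of local rings
`L i = C_{ker γ}` and its direct limit `Hens R Ω`.
-/

set_option autoImplicit false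

universe u

noncomputable section

namespace Groth.Agent.Helper1.Hens

open IsLocalRing TensorProduct

/-- The small index type: quotients of polynomial rings in finitely many variables which are
étale over `R`, together with a point in `Ω`. -/
structure Idx (R : Type u) [CommRing R] (Ω : Type u) [Field Ω] [Algebra R Ω] where
  n : ℕ
  I : Ideal (MvPolynomial (Fin n) R)
  γ : (MvPolynomial (Fin n) R ⧸ I) →ₐ[R] Ω
  etale : Algebra.Etale R (MvPolynomial (Fin n) R ⧸ I)

variable {R : Type u} [CommRing R] {Ω : Type u} [Field Ω] [Algebra R Ω]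

/-! ### Localisation of a pointed algebra at its point -/

section Point

variable {C : Type u} [CommRing C] [Algebra R C] (γ : C →ₐ[R] Ω)

/-- The prime ideal of a point. -/
def pt : Ideal C := RingHom.ker γ

instance : (pt γ).IsPrime := RingHom.ker_isPrime _

lemma mem_pt {c : C} : c ∈ pt γ ↔ γ c = 0 := Iff.rfl

/-- The local ring at a point. -/
abbrev Loc : Type u := Localization.AtPrime (pt γ)

/-- The point extended to the local ring. -/
def γLoc : Loc γ →ₐ[R] Ω :=
  IsLocalization.liftAlgHom (M := (pt γ).primeCompl) (f := γ)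
    (fun y => isUnit_iff_ne_zero.2 y.2)

@[simp] lemma γLoc_algebraMap (c : C) : γLoc γ (algebraMap C (Loc γ) c) = γ c := by
  simp [γLoc]

lemma γLoc_eq_zero_iff (x : Loc γ) : γLoc γ x = 0 ↔ x ∈ maximalIdeal (Loc γ) := by
  obtain ⟨c, s, rfl⟩ := IsLocalization.exists_mk'_eq (pt γ).primeCompl x
  have hs : γ (s : C) ≠ 0 := s.2
  have h1 : γLoc γ (IsLocalization.mk' (Loc γ) c s) * γ (s : C) = γ c := by
    rw [← γLoc_algebraMap γ (s : C), ← map_mul, IsLocalization.mk'_spec, γLoc_algebraMap]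
  rw [IsLocalization.AtPrime.mk'_mem_maximal_iff (Loc γ) (pt γ), mem_pt, ← h1]
  simp [hs]

lemma isUnit_iff_γLoc_ne_zero (x : Loc γ) : IsUnit x ↔ γLoc γ x ≠ 0 := by
  rw [Ne, γLoc_eq_zero_iff, mem_maximalIdeal, mem_nonunits_iff, not_not]

lemma residue_eq_of_γLoc_eq {x y : Loc γ} (h : γLoc γ x = γLoc γ y) :
    residue (Loc γ) x = residue (Loc γ) y := by
  rw [← sub_eq_zero, ← map_sub, residue_eq_zero_iff, ← γLoc_eq_zero_iff, map_sub, h, sub_self]

end Point

/-! ### Maps between localisations -/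

section LocMap

variable {C : Type u} [CommRing C] [Algebra R C] (γ : C →ₐ[R] Ω)
variable {D : Type u} [CommRing D] [Algebra R D] (δ : D →ₐ[R] Ω)
variable {E : Type u} [CommRing E] [Algebra R E] (ε : E →ₐ[R] Ω)

/-- The map induced on local rings by a map of pointed algebras. -/
def locMap (φ : C →ₐ[R] D) (hφ : ∀ c, δ (φ c) = γ c) : Loc γ →ₐ[R] Loc δ :=
  IsLocalization.liftAlgHom (M := (pt γ).primeCompl)
    (f := (IsScalarTower.toAlgHom R D (Loc δ)).comp φ)
    (fun y => by
      show IsUnit (algebraMap D (Loc δ) (φ (y : C)))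
      rw [isUnit_iff_γLoc_ne_zero, γLoc_algebraMap, hφ]
      exact y.2)

@[simp] lemma locMap_algebraMap (φ : C →ₐ[R] D) (hφ : ∀ c, δ (φ c) = γ c) (c : C) :
    locMap γ δ φ hφ (algebraMap C (Loc γ) c) = algebraMap D (Loc δ) (φ c) := by
  simp [locMap]

lemma γLoc_locMap (φ : C →ₐ[R] D) (hφ : ∀ c, δ (φ c) = γ c) (x : Loc γ) :
    γLoc δ (locMap γ δ φ hφ x) = γLoc γ x := by
  have : (γLoc δ).toRingHom.comp (locMap γ δ φ hφ).toRingHom = (γLoc γ).toRingHom := by
    apply IsLocalization.ringHom_ext (pt γ).primeCompl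
    ext c
    simp [hφ]
  exact congr($this x)

end LocMap

/-! ### Rigidity -/

section Rigid

variable {C : Type u} [CommRing C] [Algebra R C] [Algebra.Etale R C] (γ : C →ₐ[R] Ω)
variable {D : Type u} [CommRing D] [Algebra R D] (δ : D →ₐ[R] Ω)

instance : Algebra.EssFiniteType R (Loc γ) :=
  Algebra.EssFiniteType.comp R C (Loc γ)

instance : Algebra.FormallyEtale R (Loc γ) :=
  haveI : Algebra.FormallyEtale C (Loc γ) := Algebra.FormallyEtale.of_isLocalization (pt γ).primeCompl
  Algebra.FormallyEtale.comp R C (Loc γ)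

instance : Module.Flat R (Loc γ) := Module.Flat.trans R C (Loc γ)

/-- Two maps of local rings compatible with the points agree. -/
theorem locHom_ext (ψ ψ' : Loc γ →ₐ[R] Loc δ) (h : ∀ x, γLoc δ (ψ x) = γLoc γ x)
    (h' : ∀ x, γLoc δ (ψ' x) = γLoc γ x) : ψ = ψ' := by
  apply EssEt.algHom_eq_of_residue_eq
  intro x
  apply residue_eq_of_γLoc_eq
  rw [h, h']

end Rigid

/-! ### The index category -/

namespace Idx

variable (i j k : Idx R Ω)

/-- The étale algebra underlying an index. -/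
abbrev C : Type u := MvPolynomial (Fin i.n) R ⧸ i.I

instance : Algebra.Etale R i.C := i.etale

/-- The local ring at the point. -/
abbrev L : Type u := Loc i.γ

instance : Preorder (Idx R Ω) where
  le i j := ∃ φ : i.C →ₐ[R] j.C, ∀ c, j.γ (φ c) = i.γ c
  le_refl i := ⟨AlgHom.id R _, fun _ => rfl⟩
  le_trans i j k := fun ⟨φ, hφ⟩ ⟨ψ, hψ⟩ => ⟨ψ.comp φ, fun c => by
    rw [AlgHom.comp_apply, hψ, hφ]⟩

lemma le_def {i j : Idx R Ω} : i ≤ j ↔ ∃ φ : i.C →ₐ[R] j.C, ∀ c, j.γ (φ c) = i.γ c := Iff.rfl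

/-- The transition maps. -/
def trans {i j : Idx R Ω} (h : i ≤ j) : i.L →ₐ[R] j.L :=
  locMap i.γ j.γ h.choose h.choose_spec

lemma γLoc_trans {i j : Idx R Ω} (h : i ≤ j) (x : i.L) : γLoc j.γ (trans h x) = γLoc i.γ x :=
  γLoc_locMap _ _ _ _ x

lemma trans_eq {i j : Idx R Ω} (h : i ≤ j) (ψ : i.L →ₐ[R] j.L)
    (hψ : ∀ x, γLoc j.γ (ψ x) = γLoc i.γ x) : trans h = ψ :=
  locHom_ext _ _ _ _ (γLoc_trans h) hψ

lemma trans_eq_locMap {i j : Idx R Ω} (h : i ≤ j) (φ : i.C →ₐ[R] j.C)
    (hφ : ∀ c, j.γ (φ c) = i.γ c) : trans h = locMap i.γ j.γ φ hφ :=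
  trans_eq h _ (γLoc_locMap _ _ _ _)

instance : DirectedSystem (fun i : Idx R Ω => i.L) (fun _ _ h => (trans h : _ → _)) where
  map_self i x := by
    have : trans (le_refl i) = AlgHom.id R i.L := trans_eq _ _ (fun _ => rfl)
    exact congr($this x)
  map_map k j i hij hjk x := by
    have : trans (hij.trans hjk) = (trans hjk).comp (trans hij) :=
      trans_eq _ _ (fun x => by rw [AlgHom.comp_apply, γLoc_trans, γLoc_trans])
    exact congr($this x).symm

/-- Every pointed étale algebra has a small model. -/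
theorem exists_equiv (C : Type u) [CommRing C] [Algebra R C] [Algebra.Etale R C]
    (γ : C →ₐ[R] Ω) : ∃ (i : Idx R Ω) (e : C ≃ₐ[R] i.C), ∀ c, i.γ (e c) = γ c := by
  obtain ⟨n, f, hf⟩ := Algebra.FiniteType.iff_quotient_mvPolynomial''.1
    (inferInstance : Algebra.FiniteType R C)
  let e : (MvPolynomial (Fin n) R ⧸ RingHom.ker f.toRingHom) ≃ₐ[R] C :=
    Ideal.quotientKerAlgEquivOfSurjective hf
  refine ⟨⟨n, RingHom.ker f.toRingHom, γ.comp e.toAlgHom, Algebra.Etale.of_equiv e.symm⟩,
    e.symm, fun c => ?_⟩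
  show γ (e (e.symm c)) = γ c
  rw [e.apply_symm_apply]

instance : IsDirectedOrder (Idx R Ω) where
  directed i j := by
    haveI : Algebra.Etale i.C (i.C ⊗[R] j.C) := inferInstance
    haveI : Algebra.Etale R (i.C ⊗[R] j.C) := Algebra.Etale.comp R i.C _
    obtain ⟨k, e, he⟩ := exists_equiv (i.C ⊗[R] j.C) (Algebra.TensorProduct.productMap i.γ j.γ)
    refine ⟨k, ⟨e.toAlgHom.comp Algebra.TensorProduct.includeLeft, fun c => ?_⟩,
      ⟨e.toAlgHom.comp Algebra.TensorProduct.includeRight, fun c => ?_⟩⟩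
    · show k.γ (e (c ⊗ₜ 1)) = _
      rw [he]; simp
    · show k.γ (e (1 ⊗ₜ c)) = _
      rw [he]; simp

instance : Nonempty (Idx R Ω) := by
  obtain ⟨i, -, -⟩ := exists_equiv R (Algebra.ofId R Ω)
  exact ⟨i⟩

end Idx

end Groth.Agent.Helper1.Hens
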