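import Mathlib
import Groth.Agent.Helper1.HensBase

/-!
# The ring `Hens R Ω`
-/

set_option autoImplicit false

universe u

noncomputable section

namespace Groth.Agent.Helper1.Hens

open IsLocalRing TensorProduct

variable (R : Type u) [CommRing R] (Ω : Type u) [Field Ω] [Algebra R Ω]

/-- The direct limit of the local rings of all pointed étale `R`-algebras with point in `Ω`. -/
def Hens : Type u :=
  Ring.DirectLimit (fun i : Idx R Ω => i.L) (fun _ _ h => (Idx.trans h : _ → _))

instance : CommRing (Hens R Ω) :=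
  inferInstanceAs (CommRing (Ring.DirectLimit (fun i : Idx R Ω => i.L)
    (fun _ _ h => (Idx.trans h : _ → _))))

variable {R Ω}

/-- The canonical maps (as ring homs). -/
def Hens.of (i : Idx R Ω) : i.L →+* Hens R Ω :=
  Ring.DirectLimit.of (fun i : Idx R Ω => i.L) (fun _ _ h => (Idx.trans h : _ → _)) i

lemma Hens.of_trans {i j : Idx R Ω} (h : i ≤ j) (x : i.L) :
    Hens.of j (Idx.trans h x) = Hens.of i x :=
  Ring.DirectLimit.of_f (G := fun i : Idx R Ω => i.L) (f := fun _ _ h => (Idx.trans h : _ → _)) h x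

lemma Hens.exists_of (z : Hens R Ω) : ∃ (i : Idx R Ω) (x : i.L), Hens.of i x = z :=
  Ring.DirectLimit.exists_of z

lemma Hens.of_eq_zero {i : Idx R Ω} {x : i.L} (h : Hens.of i x = 0) :
    ∃ (j : Idx R Ω) (hij : i ≤ j), Idx.trans hij x = 0 :=
  Ring.DirectLimit.of.zero_exact (G := fun i : Idx R Ω => i.L)
    (f' := fun _ _ h => (Idx.trans h).toRingHom) h

lemma Hens.of_algebraMap (i j : Idx R Ω) (r : R) :
    Hens.of i (algebraMap R i.L r) = Hens.of j (algebraMap R j.L r) := by
  obtain ⟨k, hik, hjk⟩ := exists_ge_ge i j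
  rw [← Hens.of_trans hik, ← Hens.of_trans hjk, AlgHom.commutes, AlgHom.commutes]

instance : Algebra R (Hens R Ω) :=
  ((Hens.of (Classical.arbitrary (Idx R Ω))).comp (algebraMap R _)).toAlgebra

lemma Hens.algebraMap_eq (i : Idx R Ω) (r : R) :
    algebraMap R (Hens R Ω) r = Hens.of i (algebraMap R i.L r) :=
  Hens.of_algebraMap _ _ r

/-- The canonical maps (as algebra homs). -/
def Hens.ofAlg (i : Idx R Ω) : i.L →ₐ[R] Hens R Ω :=
  { Hens.of i with commutes' := fun r => (Hens.algebraMap_eq i r).symm }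

@[simp] lemma Hens.ofAlg_apply (i : Idx R Ω) (x : i.L) : Hens.ofAlg i x = Hens.of i x := rfl

/-- The point of `Hens R Ω` as a ring hom. -/
def Hens.γRing : Hens R Ω →+* Ω :=
  Ring.DirectLimit.lift (fun i : Idx R Ω => i.L) (fun _ _ h => (Idx.trans h : _ → _)) Ω
      (fun i => (γLoc i.γ).toRingHom) (fun _ _ h x => Idx.γLoc_trans h x)

lemma Hens.γRing_of (i : Idx R Ω) (x : i.L) : Hens.γRing (Hens.of i x) = γLoc i.γ x :=
  Ring.DirectLimit.lift_of (G := fun i : Idx R Ω => i.L)
    (f := fun _ _ h => (Idx.trans h : _ → _)) Ω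
      (fun i => (γLoc i.γ).toRingHom) (fun _ _ h x => Idx.γLoc_trans h x) i x

/-- The point of `Hens R Ω`. -/
def Hens.γ : Hens R Ω →ₐ[R] Ω :=
  { Hens.γRing with
    commutes' := fun r => by
      rw [Hens.algebraMap_eq (Classical.arbitrary _) r]
      show Hens.γRing (Hens.of _ _) = _
      rw [Hens.γRing_of]
      exact (γLoc _).commutes r }

lemma Hens.γ_of (i : Idx R Ω) (x : i.L) : Hens.γ (Hens.of i x) = γLoc i.γ x :=
  Hens.γRing_of i x

end Groth.Agent.Helper1.Hens
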