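import Mathlib
import Groth.Agent.Helper1.HensDef

/-!
# `Hens R Ω` is a local ring; canonical maps from pointed étale algebras
-/

set_option autoImplicit false

universe u

noncomputable section

namespace Groth.Agent.Helper1.Hens

open IsLocalRing TensorProduct

variable {R : Type u} [CommRing R] {Ω : Type u} [Field Ω] [Algebra R Ω]

lemma Hens.isUnit_iff (z : Hens R Ω) : IsUnit z ↔ Hens.γ z ≠ 0 := by
  constructor
  · intro h
    exact (h.map Hens.γ).ne_zero
  · intro h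
    obtain ⟨i, x, rfl⟩ := Hens.exists_of z
    rw [Hens.γ_of] at h
    exact ((isUnit_iff_γLoc_ne_zero i.γ x).2 h).map (Hens.of i)

instance : Nontrivial (Hens R Ω) := by
  refine ⟨⟨0, 1, fun h => ?_⟩⟩
  have := congr(Hens.γ $h)
  simp at this

instance : IsLocalRing (Hens R Ω) := by
  refine IsLocalRing.of_nonunits_add ?_
  intro a b ha hb
  rw [mem_nonunits_iff, Hens.isUnit_iff, not_not] at ha hb ⊢
  rw [map_add, ha, hb, add_zero]

lemma Hens.γ_eq_zero_iff (z : Hens R Ω) : Hens.γ z = 0 ↔ z ∈ maximalIdeal (Hens R Ω) := by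
  rw [mem_maximalIdeal, mem_nonunits_iff, Hens.isUnit_iff, not_not]

lemma Hens.residue_eq_of_γ_eq {x y : Hens R Ω} (h : Hens.γ x = Hens.γ y) :
    residue (Hens R Ω) x = residue (Hens R Ω) y := by
  rw [← sub_eq_zero, ← map_sub, residue_eq_zero_iff, ← Hens.γ_eq_zero_iff, map_sub, h, sub_self]

/-- Rigidity: two maps from an étale algebra to `Hens R Ω` inducing the same point agree. -/
theorem Hens.algHom_ext {C : Type u} [CommRing C] [Algebra R C] [Algebra.EssFiniteType R C]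
    [Algebra.FormallyUnramified R C] (ψ ψ' : C →ₐ[R] Hens R Ω)
    (h : ∀ c, Hens.γ (ψ c) = Hens.γ (ψ' c)) : ψ = ψ' :=
  EssEt.algHom_eq_of_residue_eq ψ ψ' (fun c => Hens.residue_eq_of_γ_eq (h c))

section Iota

variable {C : Type u} [CommRing C] [Algebra R C] [Algebra.Etale R C] (γ : C →ₐ[R] Ω)
variable {D : Type u} [CommRing D] [Algebra R D] [Algebra.Etale R D] (δ : D →ₐ[R] Ω)

/-- The canonical map from a pointed étale algebra. -/
def Hens.ι : C →ₐ[R] Hens R Ω :=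
  ((Hens.ofAlg (Idx.exists_equiv C γ).choose).comp
    (IsScalarTower.toAlgHom R _ _)).comp (Idx.exists_equiv C γ).choose_spec.choose.toAlgHom

lemma Hens.γ_ι (c : C) : Hens.γ (Hens.ι γ c) = γ c := by
  show Hens.γ (Hens.of _ (algebraMap _ _ ((Idx.exists_equiv C γ).choose_spec.choose c))) = _
  rw [Hens.γ_of, γLoc_algebraMap]
  exact (Idx.exists_equiv C γ).choose_spec.choose_spec c

lemma Hens.ι_unique (ψ : C →ₐ[R] Hens R Ω) (h : ∀ c, Hens.γ (ψ c) = γ c) : ψ = Hens.ι γ :=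
  Hens.algHom_ext _ _ (fun c => by rw [h, Hens.γ_ι])

lemma Hens.ι_comp (φ : C →ₐ[R] D) (hφ : ∀ c, δ (φ c) = γ c) (c : C) :
    Hens.ι δ (φ c) = Hens.ι γ c := by
  have : (Hens.ι δ).comp φ = Hens.ι γ :=
    Hens.ι_unique γ _ (fun c => by rw [AlgHom.comp_apply, Hens.γ_ι, hφ])
  exact congr($this c)

/-- The canonical map from the local ring of a pointed étale algebra. -/
def Hens.ιLoc : Loc γ →ₐ[R] Hens R Ω :=
  IsLocalization.liftAlgHom (M := (pt γ).primeCompl) (f := Hens.ι γ)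
    (fun y => by
      rw [Hens.isUnit_iff, Hens.γ_ι]
      exact y.2)

@[simp] lemma Hens.ιLoc_algebraMap (c : C) : Hens.ιLoc γ (algebraMap C (Loc γ) c) = Hens.ι γ c := by
  simp [Hens.ιLoc]

lemma Hens.γ_ιLoc (x : Loc γ) : Hens.γ (Hens.ιLoc γ x) = γLoc γ x := by
  have : (Hens.γ (R := R) (Ω := Ω)).toRingHom.comp (Hens.ιLoc γ).toRingHom = (γLoc γ).toRingHom := by
    apply IsLocalization.ringHom_ext (pt γ).primeCompl
    ext c
    simp [Hens.γ_ι]
  exact congr($this x)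

lemma Hens.ofAlg_eq_ιLoc (i : Idx R Ω) : Hens.ofAlg i = Hens.ιLoc i.γ :=
  Hens.algHom_ext _ _ (fun x => by rw [Hens.γ_ιLoc, Hens.ofAlg_apply, Hens.γ_of])

lemma Hens.of_eq_ιLoc (i : Idx R Ω) (x : i.L) : Hens.of i x = Hens.ιLoc i.γ x :=
  congr($(Hens.ofAlg_eq_ιLoc i) x)

end Iota

end Groth.Agent.Helper1.Hens
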