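import Mathlib
import Groth.Agent.Helper1.HensLocal

/-!
# Elements of `Hens R Ω` come from pointed étale algebras
-/

set_option autoImplicit false
set_option linter.dupNamespace false

universe u

noncomputable section

namespace Groth.Agent.Helper1.Hens

open IsLocalRing TensorProduct

variable {R : Type u} [CommRing R] {Ω : Type u} [Field Ω] [Algebra R Ω]

section Away

variable {C : Type u} [CommRing C] [Algebra R C] (γ : C →ₐ[R] Ω) (s : C) (hs : γ s ≠ 0)

/-- The point extended to a localization away from an element not vanishing at the point. -/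
def γAway : Localization.Away s →ₐ[R] Ω :=
  IsLocalization.Away.liftAlgHom s (f := γ) (isUnit_iff_ne_zero.2 hs)

include hs in
@[simp] lemma γAway_algebraMap (c : C) : γAway γ s hs (algebraMap C _ c) = γ c := by
  simp [γAway, IsLocalization.Away.liftAlgHom_apply]

instance [Algebra.Etale R C] : Algebra.Etale R (Localization.Away s) :=
  haveI : Algebra.Etale C (Localization.Away s) := Algebra.Etale.of_isLocalizationAway s
  Algebra.Etale.comp R C _

end Away

lemma Hens.ι_eq_of {C : Type u} [CommRing C] [Algebra R C] [Algebra.Etale R C] (γ : C →ₐ[R] Ω)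
    (i : Idx R Ω) (e : C →ₐ[R] i.C) (he : ∀ c, i.γ (e c) = γ c) (c : C) :
    Hens.ι γ c = Hens.of i (algebraMap i.C i.L (e c)) := by
  have : ((Hens.ofAlg i).comp (IsScalarTower.toAlgHom R i.C i.L)).comp e = Hens.ι γ :=
    Hens.ι_unique γ _ (fun c => by
      show Hens.γ (Hens.of i (algebraMap i.C i.L (e c))) = _
      rw [Hens.γ_of, γLoc_algebraMap, he])
  exact congr($this c).symm

/-- Every element comes from a pointed étale algebra. -/
theorem Hens.exists_ι_eq (z : Hens R Ω) :
    ∃ (C : Type u) (_ : CommRing C) (_ : Algebra R C) (_ : Algebra.Etale R C) (γ : C →ₐ[R] Ω)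
      (c : C), Hens.ι γ c = z := by
  obtain ⟨i, x, rfl⟩ := Hens.exists_of z
  obtain ⟨c, s, rfl⟩ := IsLocalization.exists_mk'_eq (pt i.γ).primeCompl x
  have hs : i.γ (s : i.C) ≠ 0 := s.2
  refine ⟨Localization.Away (s : i.C), inferInstance, inferInstance, inferInstance,
    γAway i.γ s hs, IsLocalization.mk' _ c (⟨s, Submonoid.mem_powers _⟩ : Submonoid.powers (s : i.C)), ?_⟩
  have h1 : ∀ c : i.C, Hens.ι (γAway i.γ (s : i.C) hs) (algebraMap i.C _ c) =
      Hens.of i (algebraMap i.C i.L c) := by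
    intro c
    have := Hens.ι_comp i.γ (γAway i.γ (s : i.C) hs) (IsScalarTower.toAlgHom R i.C _)
      (fun c => γAway_algebraMap i.γ _ hs c) c
    rw [IsScalarTower.coe_toAlgHom'] at this
    rw [this, Hens.ι_eq_of i.γ i (AlgHom.id R _) (fun _ => rfl)]
    rfl
  have hu : IsUnit (Hens.of i (algebraMap i.C i.L (s : i.C))) :=
    (IsLocalization.map_units i.L s).map _
  apply hu.mul_left_injective
  beta_reduce
  have e1 : Hens.of i (IsLocalization.mk' i.L c s) * Hens.of i (algebraMap i.C i.L (s : i.C)) =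
      Hens.of i (algebraMap i.C i.L c) := by
    rw [← map_mul, IsLocalization.mk'_spec]
  have e2 : Hens.ι (γAway i.γ (s : i.C) hs) (IsLocalization.mk' _ c
      (⟨s, Submonoid.mem_powers _⟩ : Submonoid.powers (s : i.C))) *
      Hens.ι (γAway i.γ (s : i.C) hs) (algebraMap i.C _ (s : i.C)) =
      Hens.ι (γAway i.γ (s : i.C) hs) (algebraMap i.C _ c) := by
    rw [← map_mul]
    congr 1
    exact IsLocalization.mk'_spec (Localization.Away (s : i.C)) c
      (⟨s, Submonoid.mem_powers _⟩ : Submonoid.powers (s : i.C))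
  rw [e1, ← h1 (s : i.C), e2, h1]

/-- Finitely many elements come from a common pointed étale algebra. -/
theorem Hens.exists_ι_eq_finset (t : Finset (Hens R Ω)) :
    ∃ (C : Type u) (_ : CommRing C) (_ : Algebra R C) (_ : Algebra.Etale R C) (γ : C →ₐ[R] Ω),
      ∀ z ∈ t, ∃ c : C, Hens.ι γ c = z := by
  classical
  induction t using Finset.induction_on with
  | empty => exact ⟨R, inferInstance, inferInstance, inferInstance, Algebra.ofId R Ω, by simp⟩
  | insert a t _ ih =>
    obtain ⟨C₁, _, _, _, γ₁, h₁⟩ := ih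
    obtain ⟨C₂, _, _, _, γ₂, c₂, h₂⟩ := Hens.exists_ι_eq a
    haveI : Algebra.Etale C₁ (C₁ ⊗[R] C₂) := inferInstance
    haveI : Algebra.Etale R (C₁ ⊗[R] C₂) := Algebra.Etale.comp R C₁ _
    let δ : C₁ ⊗[R] C₂ →ₐ[R] Ω := Algebra.TensorProduct.productMap γ₁ γ₂
    have hδ₁ : ∀ c, δ ((Algebra.TensorProduct.includeLeft : C₁ →ₐ[R] C₁ ⊗[R] C₂) c) = γ₁ c := by
      intro c; simp [δ]
    have hδ₂ : ∀ c, δ ((Algebra.TensorProduct.includeRight : C₂ →ₐ[R] C₁ ⊗[R] C₂) c) = γ₂ c := by
      intro c; simp [δ]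
    refine ⟨C₁ ⊗[R] C₂, inferInstance, inferInstance, inferInstance, δ, ?_⟩
    intro z hz
    rw [Finset.mem_insert] at hz
    rcases hz with rfl | hz
    · refine ⟨1 ⊗ₜ c₂, ?_⟩
      rw [← h₂]
      exact Hens.ι_comp γ₂ δ Algebra.TensorProduct.includeRight hδ₂ c₂
    · obtain ⟨c, rfl⟩ := h₁ z hz
      exact ⟨c ⊗ₜ 1, Hens.ι_comp γ₁ δ Algebra.TensorProduct.includeLeft hδ₁ c⟩

/-- If an element of a pointed étale algebra dies in `Hens R Ω`, it already dies in some
pointed étale algebra over it. -/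
theorem Hens.exists_of_ι_eq_zero {C : Type u} [CommRing C] [Algebra R C] [Algebra.Etale R C]
    (γ : C →ₐ[R] Ω) (c : C) (hc : Hens.ι γ c = 0) :
    ∃ (D : Type u) (_ : CommRing D) (_ : Algebra R D) (_ : Algebra.Etale R D) (δ : D →ₐ[R] Ω)
      (φ : C →ₐ[R] D), (∀ c, δ (φ c) = γ c) ∧ φ c = 0 := by
  obtain ⟨i, e, he⟩ := Idx.exists_equiv C γ
  rw [Hens.ι_eq_of γ i e.toAlgHom he] at hc
  obtain ⟨j, hij, h0⟩ := Hens.of_eq_zero hc
  obtain ⟨φ, hφ⟩ := hij
  rw [Idx.trans_eq_locMap _ φ hφ, locMap_algebraMap] at h0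
  rw [IsLocalization.map_eq_zero_iff (pt j.γ).primeCompl] at h0
  obtain ⟨t, ht⟩ := h0
  have hts : j.γ (t : j.C) ≠ 0 := t.2
  refine ⟨Localization.Away (t : j.C), inferInstance, inferInstance, inferInstance,
    γAway j.γ t hts, ((IsScalarTower.toAlgHom R j.C _).comp φ).comp e.toAlgHom, ?_, ?_⟩
  · intro c
    show γAway j.γ t hts (algebraMap j.C _ (φ (e c))) = _
    rw [γAway_algebraMap, hφ]
    exact he c
  · show algebraMap j.C (Localization.Away (t : j.C)) (φ (e c)) = 0
    rw [IsLocalization.map_eq_zero_iff (Submonoid.powers (t : j.C))]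
    exact ⟨⟨t, Submonoid.mem_powers _⟩, ht⟩

end Groth.Agent.Helper1.Hens
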