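import Mathlib
import Groth.Agent.Helper1.HensElts

/-!
# `Hens R Ω` is henselian
-/

set_option autoImplicit false
set_option linter.dupNamespace false

universe u

noncomputable section

namespace Groth.Agent.Helper1.Hens

open IsLocalRing TensorProduct Polynomial

variable {R : Type u} [CommRing R] {Ω : Type u} [Field Ω] [Algebra R Ω]

/-- Simple roots in `Ω` of monic polynomials over pointed étale algebras lift to `Hens R Ω`. -/
theorem Hens.exists_root {C : Type u} [CommRing C] [Algebra R C] [Algebra.Etale R C]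
    (γ : C →ₐ[R] Ω) (F : C[X]) (hF : F.Monic) (c₀ : C) (h0 : γ (F.eval c₀) = 0)
    (h1 : γ (F.derivative.eval c₀) ≠ 0) :
    ∃ a : Hens R Ω, (F.map (Hens.ι γ).toRingHom).IsRoot a ∧ Hens.γ a = γ c₀ := by
  let P : StandardEtalePair C := ⟨F, hF, F.derivative, ⟨1, 0, 1, by simp⟩⟩
  letI : Algebra R P.Ring := ((algebraMap C P.Ring).comp (algebraMap R C)).toAlgebra
  haveI : IsScalarTower R C P.Ring := IsScalarTower.of_algebraMap_eq (fun _ => rfl)
  haveI : Algebra.Etale R P.Ring := Algebra.Etale.comp R C P.Ring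
  letI : Algebra C Ω := γ.toRingHom.toAlgebra
  haveI : IsScalarTower R C Ω := IsScalarTower.of_algebraMap_eq (fun r => (γ.commutes r).symm)
  have hmap : P.HasMap (γ c₀) := by
    refine ⟨?_, ?_⟩
    · show Polynomial.eval₂ γ.toRingHom (γ c₀) F = 0
      rw [show γ c₀ = γ.toRingHom c₀ from rfl, Polynomial.eval₂_hom]
      exact h0
    · show IsUnit (Polynomial.eval₂ γ.toRingHom (γ c₀) F.derivative)
      rw [show γ c₀ = γ.toRingHom c₀ from rfl, Polynomial.eval₂_hom, isUnit_iff_ne_zero]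
      exact h1
  let δ : P.Ring →ₐ[R] Ω := (P.lift (γ c₀) hmap).restrictScalars R
  have hδ : ∀ c, δ ((IsScalarTower.toAlgHom R C P.Ring) c) = γ c := fun c =>
    (P.lift (γ c₀) hmap).commutes c
  refine ⟨Hens.ι δ P.X, ?_, ?_⟩
  · have h2 : (Hens.ι γ).toRingHom = (Hens.ι δ).toRingHom.comp (algebraMap C P.Ring) := by
      ext c
      exact (Hens.ι_comp γ δ (IsScalarTower.toAlgHom R C P.Ring) hδ c).symm
    rw [IsRoot, h2, ← Polynomial.map_map, Polynomial.eval_map]
    show Polynomial.eval₂ (Hens.ι δ).toRingHom ((Hens.ι δ).toRingHom P.X) _ = 0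
    rw [Polynomial.eval₂_hom, Polynomial.eval_map_algebraMap]
    have := (P.hasMap_X).1
    rw [this, map_zero]
  · rw [Hens.γ_ι]
    exact P.lift_X _ hmap

instance : HenselianLocalRing (Hens R Ω) where
  is_henselian f hf a₀ h₁ h₂ := by
    classical
    obtain ⟨C, _, _, _, γ, hC⟩ := Hens.exists_ι_eq_finset (f.coeffs ∪ {a₀})
    have hlift : f ∈ Polynomial.lifts (Hens.ι γ).toRingHom := by
      rw [Polynomial.lifts_iff_coeff_lifts]
      intro n
      by_cases hn : f.coeff n = 0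
      · exact ⟨0, by rw [hn, map_zero]⟩
      · obtain ⟨c, hc⟩ := hC (f.coeff n)
          (Finset.mem_union_left _ (Polynomial.coeff_mem_coeffs hn))
        exact ⟨c, hc⟩
    obtain ⟨F, hF, -, hmonic⟩ := Polynomial.lifts_and_degree_eq_and_monic hlift hf
    obtain ⟨c₀, hc₀⟩ := hC a₀ (Finset.mem_union_right _ (Finset.mem_singleton_self _))
    have key : ∀ G : C[X], Hens.γ ((G.map (Hens.ι γ).toRingHom).eval a₀) = γ (G.eval c₀) := by
      intro G
      rw [← hc₀, Polynomial.eval_map]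
      show Hens.γ (Polynomial.eval₂ (Hens.ι γ).toRingHom ((Hens.ι γ).toRingHom c₀) G) = _
      rw [Polynomial.eval₂_hom]
      exact Hens.γ_ι γ _
    have h0 : γ (F.eval c₀) = 0 := by
      rw [← key, hF, Hens.γ_eq_zero_iff]
      exact h₁
    have h1 : γ (F.derivative.eval c₀) ≠ 0 := by
      rw [← key, ← Polynomial.derivative_map, hF, ← Hens.isUnit_iff]
      exact h₂
    obtain ⟨a, ha, haγ⟩ := Hens.exists_root γ F hmonic c₀ h0 h1
    refine ⟨a, hF ▸ ha, ?_⟩
    rw [← Hens.γ_eq_zero_iff, map_sub, haγ, ← hc₀, Hens.γ_ι, sub_self]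

end Groth.Agent.Helper1.Hens
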