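import Mathlib
import Groth.Agent.Helper1.HensUniv

/-!
# Basic properties of `Hens R Ω`: flatness, maximal ideal, residue field
-/

set_option autoImplicit false
set_option linter.dupNamespace false

universe u

noncomputable section

namespace Groth.Agent.Helper1.Hens

open IsLocalRing TensorProduct Polynomial

variable {R : Type u} [CommRing R] {Ω : Type u} [Field Ω] [Algebra R Ω]

lemma Hens.γ_algebraMap (r : R) : Hens.γ (algebraMap R (Hens R Ω) r) = algebraMap R Ω r :=
  Hens.γ.commutes r

/-- Finitely many elements come from a common stage. -/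
lemma Hens.exists_of_family {l : Type*} [Finite l] (x : l → Hens R Ω) :
    ∃ (i : Idx R Ω) (x' : l → i.L), ∀ k, Hens.of i (x' k) = x k := by
  choose i₀ x₀ hx₀ using fun k => Hens.exists_of (x k)
  obtain ⟨i, hi⟩ := Finite.exists_le i₀
  exact ⟨i, fun k => Idx.trans (hi k) (x₀ k), fun k => by rw [Hens.of_trans, hx₀]⟩

instance : Module.Flat R (Hens R Ω) := by
  apply Module.Flat.of_forall_isTrivialRelation
  intro l f x hfx
  obtain ⟨i, x', hx'⟩ := Hens.exists_of_family x
  have h1 : Hens.of i (∑ k, f k • x' k) = 0 := by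
    rw [← hfx, map_sum]
    refine Finset.sum_congr rfl fun k _ => ?_
    rw [← hx' k, ← Hens.ofAlg_apply, ← Hens.ofAlg_apply, map_smul]
  obtain ⟨j, hij, h2⟩ := Hens.of_eq_zero h1
  rw [map_sum] at h2
  have h3 : ∑ k, f k • Idx.trans hij (x' k) = 0 := by
    rw [← h2]
    exact Finset.sum_congr rfl fun k _ => (map_smul _ _ _).symm
  obtain ⟨m, a, y, hy1, hy2⟩ := Module.Flat.isTrivialRelation_of_sum_smul_eq_zero (R := R)
    (M := j.L) (f := f) (x := fun k => Idx.trans hij (x' k)) h3
  refine ⟨m, a, fun n => Hens.of j (y n), fun k => ?_, hy2⟩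
  have hy1k : Idx.trans hij (x' k) = ∑ n, a k n • y n := hy1 k
  rw [← hx' k, ← Hens.of_trans hij, hy1k, map_sum]
  refine Finset.sum_congr rfl fun n _ => ?_
  beta_reduce
  rw [← Hens.ofAlg_apply, ← Hens.ofAlg_apply, map_smul]

/-- Separable elements of `Ω` are in the image of the point of `Hens R Ω`. -/
theorem Hens.exists_γ_eq (ω : Ω) (F : R[X]) (hF : F.Monic) (h0 : aeval ω F = 0)
    (h1 : aeval ω F.derivative ≠ 0) : ∃ a : Hens R Ω, Hens.γ a = ω := by
  let P : StandardEtalePair R := ⟨F, hF, F.derivative, ⟨1, 0, 1, by simp⟩⟩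
  have hmap : P.HasMap ω := ⟨h0, isUnit_iff_ne_zero.2 h1⟩
  refine ⟨Hens.ι (P.lift ω hmap) P.X, ?_⟩
  rw [Hens.γ_ι]
  exact P.lift_X _ hmap

section Local

variable [IsLocalRing R] [IsLocalHom (algebraMap R Ω)]

lemma algebraMap_eq_zero_iff (r : R) : algebraMap R Ω r = 0 ↔ r ∈ maximalIdeal R := by
  rw [mem_maximalIdeal, mem_nonunits_iff]
  constructor
  · intro h hu
    exact (hu.map (algebraMap R Ω)).ne_zero h
  · intro h
    by_contra h0
    exact h (isUnit_of_map_unit (algebraMap R Ω) r (isUnit_iff_ne_zero.2 h0))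

instance : IsLocalHom (algebraMap R (Hens R Ω)) := by
  constructor
  intro r hr
  rw [Hens.isUnit_iff, Hens.γ_algebraMap] at hr
  exact isUnit_of_map_unit (algebraMap R Ω) r (isUnit_iff_ne_zero.2 hr)

instance {C : Type u} [CommRing C] [Algebra R C] (γ : C →ₐ[R] Ω) :
    IsLocalHom (algebraMap R (Loc γ)) := by
  constructor
  intro r hr
  rw [isUnit_iff_γLoc_ne_zero, AlgHom.commutes] at hr
  exact isUnit_of_map_unit (algebraMap R Ω) r (isUnit_iff_ne_zero.2 hr)

theorem Hens.map_maximalIdeal :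
    (maximalIdeal R).map (algebraMap R (Hens R Ω)) = maximalIdeal (Hens R Ω) := by
  apply le_antisymm
  · exact ((local_hom_TFAE (algebraMap R (Hens R Ω))).out 0 2 rfl rfl).mp inferInstance
  · intro z hz
    obtain ⟨i, x, rfl⟩ := Hens.exists_of z
    rw [← Hens.γ_eq_zero_iff, Hens.γ_of, γLoc_eq_zero_iff,
      ← Algebra.FormallyUnramified.map_maximalIdeal (R := R) (S := i.L)] at hz
    have h1 : ((maximalIdeal R).map (algebraMap R i.L)).map (Hens.of i) =
        (maximalIdeal R).map (algebraMap R (Hens R Ω)) := by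
      rw [Ideal.map_map]
      congr 1
      ext r
      exact (Hens.algebraMap_eq i r).symm
    rw [← h1]
    exact Ideal.mem_map_of_mem _ hz

instance : Module.FaithfullyFlat R (Hens R Ω) := Module.FaithfullyFlat.of_flat_of_isLocalHom

end Local

end Groth.Agent.Helper1.Hens
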