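import Mathlib
import Groth.Agent.Helper1.HensProps
import Groth.Prelude.Def_Hensel

/-!
# `Hens R (ResidueField R)` is a henselization of `R`
-/

set_option autoImplicit false
set_option linter.dupNamespace false

universe u

noncomputable section

namespace Groth.Agent.Helper1.Hens

open IsLocalRing TensorProduct Polynomial

variable (R : Type u) [CommRing R] [IsLocalRing R]

/-- The henselization of a local ring. -/
abbrev Hh : Type u := Hens R (ResidueField R)

instance : IsLocalHom (algebraMap R (ResidueField R)) :=
  inferInstanceAs (IsLocalHom (residue R))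

variable {R}

/-- Any `R`-algebra map from `Hh R` to a local `R`-algebra with local structure map is
compatible with residue fields. -/
lemma Hh.residue_algHom {T : Type u} [CommRing T] [IsLocalRing T] [Algebra R T]
    [IsLocalHom (algebraMap R T)] (g : Hh R →ₐ[R] T) (z : Hh R) :
    residue T (g z) = ResidueField.map (algebraMap R T) (Hens.γ z) := by
  obtain ⟨r, hr⟩ := residue_surjective (Hens.γ z)
  have h1 : z - algebraMap R (Hh R) r ∈ maximalIdeal (Hh R) := by
    rw [← Hens.γ_eq_zero_iff, map_sub, Hens.γ_algebraMap, ← hr]
    exact sub_self _
  rw [← Hens.map_maximalIdeal] at h1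
  have h2 : (maximalIdeal R).map (algebraMap R (Hh R)) ≤ (maximalIdeal T).comap g.toRingHom := by
    rw [Ideal.map_le_iff_le_comap]
    intro a ha
    simp only [Ideal.mem_comap, AlgHom.toRingHom_eq_coe, RingHom.coe_coe, AlgHom.commutes]
    exact ((local_hom_TFAE (algebraMap R T)).out 0 2 rfl rfl).mp inferInstance
      (Ideal.mem_map_of_mem _ ha)
  have h3 := h2 h1
  simp only [Ideal.mem_comap, AlgHom.toRingHom_eq_coe, RingHom.coe_coe, map_sub,
    AlgHom.commutes] at h3
  rw [← residue_eq_zero_iff, map_sub, sub_eq_zero] at h3
  rw [h3, ← hr, ResidueField.map_residue]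

instance isHenselization : Hensel.IsHenselization R (Hh R) where
  henselian := inferInstance
  universal T _ _ f hf := by
    letI : Algebra R T := f.toAlgebra
    haveI : IsLocalHom (algebraMap R T) := hf
    have hτ : ∀ r, ResidueField.map (algebraMap R T) (algebraMap R (ResidueField R) r) =
        residue T (algebraMap R T r) := fun r => ResidueField.map_residue _ r
    refine ⟨(Hens.lift (ResidueField.map (algebraMap R T)) hτ).toRingHom, ?_, ?_⟩
    · ext r
      exact (Hens.lift _ hτ).commutes r
    · intro g hg
      let g' : Hh R →ₐ[R] T := { g with commutes' := fun r => congr($hg r) }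
      have : g' = Hens.lift _ hτ := Hens.lift_unique _ hτ g' (Hh.residue_algHom g')
      ext z
      exact congr($this z)

/-- Any henselization of `R` is isomorphic to `Hh R`. -/
def equivOfIsHenselization (S : Type u) [CommRing S] [IsLocalRing S] [Algebra R S]
    [IsLocalHom (algebraMap R S)] [hS : Hensel.IsHenselization R S] : S ≃ₐ[R] Hh R := by
  haveI : HenselianLocalRing S := hS.henselian
  have h1 := hS.universal (Hh R) (algebraMap R (Hh R)) inferInstance
  have h2 := (isHenselization (R := R)).universal S (algebraMap R S) inferInstance
  have h3 := hS.universal S (algebraMap R S) inferInstance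
  have h4 := (isHenselization (R := R)).universal (Hh R) (algebraMap R (Hh R)) inferInstance
  let g := h1.choose
  have hg : g.comp (algebraMap R S) = algebraMap R (Hh R) := h1.choose_spec.1
  let g' := h2.choose
  have hg' : g'.comp (algebraMap R (Hh R)) = algebraMap R S := h2.choose_spec.1
  have e1 : g'.comp g = RingHom.id S := by
    refine h3.unique ?_ rfl
    rw [RingHom.comp_assoc, hg, hg']
  have e2 : g.comp g' = RingHom.id (Hh R) := by
    refine h4.unique ?_ rfl
    rw [RingHom.comp_assoc, hg', hg]
  exact
    { toFun := g
      invFun := g'
      left_inv := fun x => congr($e1 x)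
      right_inv := fun x => congr($e2 x)
      map_mul' := map_mul g
      map_add' := map_add g
      commutes' := fun r => congr($hg r) }

end Groth.Agent.Helper1.Hens
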