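import Mathlib
import Groth.Agent.Helper1.HensIsHens

/-!
# Basic facts about an arbitrary henselization, transferred from the construction
-/

set_option autoImplicit false
set_option linter.dupNamespace false

universe u

noncomputable section

namespace Groth.Agent.Helper1.Hens

open IsLocalRing TensorProduct Polynomial

/-- For a faithfully flat local algebra with `m_R S = m_S` and trivial residue field extension,
`R/I → S/IS` is bijective for every `I ⊇ m^n`. Here: `I = m^n`. -/
theorem quotientMap_pow_bijective {R S : Type*} [CommRing R] [IsLocalRing R] [CommRing S]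
    [IsLocalRing S] [Algebra R S] [Module.FaithfullyFlat R S]
    (h1 : (maximalIdeal R).map (algebraMap R S) = maximalIdeal S)
    (h2 : ∀ s : S, ∃ r : R, s - algebraMap R S r ∈ maximalIdeal S) (n : ℕ) :
    Function.Bijective (Ideal.quotientMap
      (Ideal.map (algebraMap R S) (maximalIdeal R ^ n)) (algebraMap R S) Ideal.le_comap_map) := by
  refine ⟨Ideal.quotientMap_injective' (le_of_eq (Ideal.comap_map_eq_self_of_faithfullyFlat _)), ?_⟩
  -- surjectivity
  have key : ∀ n : ℕ, ∀ s : S, ∃ r : R,
      s - algebraMap R S r ∈ Ideal.map (algebraMap R S) (maximalIdeal R ^ n) := by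
    intro n
    induction n with
    | zero => intro s; exact ⟨0, by simp [Ideal.map_top]⟩
    | succ n ih =>
      -- strengthened statement for elements of `m^n S`
      have aux : ∀ x ∈ Ideal.map (algebraMap R S) (maximalIdeal R ^ n), ∃ r ∈ maximalIdeal R ^ n,
          x - algebraMap R S r ∈ Ideal.map (algebraMap R S) (maximalIdeal R ^ (n + 1)) := by
        intro x hx
        refine Submodule.span_induction (p := fun x _ => ∃ r ∈ maximalIdeal R ^ n,
          x - algebraMap R S r ∈ Ideal.map (algebraMap R S) (maximalIdeal R ^ (n + 1)))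
          ?_ ?_ ?_ ?_ hx
        · rintro _ ⟨a, ha, rfl⟩
          exact ⟨a, ha, by simp⟩
        · exact ⟨0, zero_mem _, by simp⟩
        · rintro x y _ _ ⟨r, hr, hxr⟩ ⟨r', hr', hyr'⟩
          refine ⟨r + r', add_mem hr hr', ?_⟩
          have : x + y - algebraMap R S (r + r') = (x - algebraMap R S r) + (y - algebraMap R S r') := by
            rw [map_add]; ring
          rw [this]
          exact add_mem hxr hyr'
        · rintro s x _ ⟨r, hr, hxr⟩
          obtain ⟨r', hr'⟩ := h2 s
          refine ⟨r' * r, Ideal.mul_mem_left _ _ hr, ?_⟩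
          have : s • x - algebraMap R S (r' * r) =
              s * (x - algebraMap R S r) + (s - algebraMap R S r') * algebraMap R S r := by
            rw [map_mul, smul_eq_mul]; ring
          rw [this]
          refine add_mem (Ideal.mul_mem_left _ _ hxr) ?_
          rw [← h1] at hr'
          have h3 := Ideal.mul_mem_mul hr' (Ideal.mem_map_of_mem (algebraMap R S) hr)
          rw [← Ideal.map_mul, ← pow_succ'] at h3
          exact h3
      intro s
      obtain ⟨r, hr⟩ := ih s
      obtain ⟨r', -, hr'⟩ := aux _ hr
      refine ⟨r + r', ?_⟩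
      have : s - algebraMap R S (r + r') = s - algebraMap R S r - algebraMap R S r' := by
        rw [map_add]; ring
      rw [this]
      exact hr'
  intro z
  obtain ⟨s, rfl⟩ := Ideal.Quotient.mk_surjective z
  obtain ⟨r, hr⟩ := key n s
  refine ⟨Ideal.Quotient.mk _ r, ?_⟩
  rw [Ideal.quotientMap_mk]
  exact (Ideal.Quotient.eq.2 hr).symm

variable {R : Type u} [CommRing R] [IsLocalRing R]

lemma Hh.exists_sub_mem (z : Hh R) : ∃ r : R, z - algebraMap R (Hh R) r ∈ maximalIdeal (Hh R) := by
  obtain ⟨r, hr⟩ := residue_surjective (Hens.γ z)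
  refine ⟨r, ?_⟩
  rw [← Hens.γ_eq_zero_iff, map_sub, Hens.γ_algebraMap, ← hr]
  exact sub_self _

variable (R) (S : Type u) [CommRing S] [IsLocalRing S] [Algebra R S]
    [IsLocalHom (algebraMap R S)] [Hensel.IsHenselization R S]

lemma isUnit_equiv_iff (s : S) : IsUnit (equivOfIsHenselization (R := R) S s) ↔ IsUnit s :=
  ⟨fun h => by simpa using h.map (equivOfIsHenselization (R := R) S).symm,
    fun h => h.map (equivOfIsHenselization (R := R) S)⟩

lemma mem_maximalIdeal_equiv_iff (s : S) :
    equivOfIsHenselization (R := R) S s ∈ maximalIdeal (Hh R) ↔ s ∈ maximalIdeal S := by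
  rw [mem_maximalIdeal, mem_maximalIdeal, mem_nonunits_iff, mem_nonunits_iff, isUnit_equiv_iff R S]

/-- The maximal ideal of a henselization is generated by the maximal ideal of `R`. -/
theorem map_maximalIdeal_of_isHenselization :
    (maximalIdeal R).map (algebraMap R S) = maximalIdeal S := by
  apply le_antisymm
  · exact ((local_hom_TFAE (algebraMap R S)).out 0 2 rfl rfl).mp inferInstance
  · intro s hs
    rw [← mem_maximalIdeal_equiv_iff R S, ← Hens.map_maximalIdeal] at hs
    have h1 := Ideal.mem_map_of_mem (equivOfIsHenselization (R := R) S).symm.toAlgHom.toRingHom hs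
    rw [Ideal.map_map] at h1
    have h2 : (equivOfIsHenselization (R := R) S).symm.toAlgHom.toRingHom.comp
        (algebraMap R (Hh R)) = algebraMap R S := by
      ext r
      exact (equivOfIsHenselization (R := R) S).symm.commutes r
    rw [h2] at h1
    simpa using h1

theorem exists_sub_mem_of_isHenselization (s : S) :
    ∃ r : R, s - algebraMap R S r ∈ maximalIdeal S := by
  obtain ⟨r, hr⟩ := Hh.exists_sub_mem (equivOfIsHenselization (R := R) S s)
  refine ⟨r, ?_⟩
  rw [← mem_maximalIdeal_equiv_iff R S, map_sub, AlgEquiv.commutes]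
  exact hr

theorem residueField_map_bijective_of_isHenselization :
    Function.Bijective (ResidueField.map (algebraMap R S)) := by
  refine ⟨RingHom.injective _, fun z => ?_⟩
  obtain ⟨s, rfl⟩ := residue_surjective z
  obtain ⟨r, hr⟩ := exists_sub_mem_of_isHenselization R S s
  refine ⟨residue R r, ?_⟩
  rw [ResidueField.map_residue]
  symm
  rw [← sub_eq_zero, ← map_sub, residue_eq_zero_iff]
  exact hr

theorem faithfullyFlat_of_isHenselization : Module.FaithfullyFlat R S :=
  Module.FaithfullyFlat.of_linearEquiv (R := R) (M := Hh R) (N := S)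
    (equivOfIsHenselization (R := R) S).toLinearEquiv

theorem quotientMap_pow_bijective_of_isHenselization (n : ℕ) :
    Function.Bijective (Ideal.quotientMap
      (Ideal.map (algebraMap R S) (maximalIdeal R ^ n)) (algebraMap R S) Ideal.le_comap_map) :=
  haveI := faithfullyFlat_of_isHenselization R S
  quotientMap_pow_bijective (map_maximalIdeal_of_isHenselization R S)
    (exists_sub_mem_of_isHenselization R S) n

end Groth.Agent.Helper1.Hens
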