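import Mathlib

/-!
# A ring complete with respect to a finitely generated ideal with Noetherian quotient is Noetherian

(Stacks 05GH.)  The associated graded ring is modelled as `𝓡 ⧸ I𝓡` with `𝓡` the Rees algebra.
-/

set_option autoImplicit false

namespace Groth.Agent.Helper1.CompleteNoeth

open Polynomial

variable {A : Type*} [CommRing A] (I : Ideal A)

/-- `𝓡/I𝓡`, the associated graded ring. -/
abbrev Gr : Type _ := (reesAlgebra I) ⧸ (I.map (algebraMap A (reesAlgebra I)))

/-- The monomial `x X^d` of the Rees algebra. -/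
noncomputable def mon (d : ℕ) (x : A) (hx : x ∈ I ^ d) : reesAlgebra I :=
  ⟨monomial d x, reesAlgebra.monomial_mem.2 hx⟩

theorem gr_noeth (hI : I.FG) [IsNoetherianRing (A ⧸ I)] : IsNoetherianRing (Gr I) := by
  let φ : A ⧸ I →+* Gr I := Ideal.Quotient.lift I (algebraMap A (Gr I)) (fun a ha => by
    rw [IsScalarTower.algebraMap_apply A (reesAlgebra I) (Gr I), Ideal.Quotient.algebraMap_eq,
      Ideal.Quotient.eq_zero_iff_mem]
    exact Ideal.mem_map_of_mem _ ha)
  letI : Algebra (A ⧸ I) (Gr I) :=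
    @RingHom.toAlgebra (A ⧸ I) (Gr I) (Ideal.Quotient.commSemiring I) (Ideal.Quotient.commSemiring _) φ
  haveI : IsScalarTower A (A ⧸ I) (Gr I) := IsScalarTower.of_algebraMap_eq (fun a => rfl)
  haveI : Algebra.FiniteType A (reesAlgebra I) := ⟨(reesAlgebra I).fg_top.mpr (reesAlgebra.fg hI)⟩
  haveI : Algebra.FiniteType A (Gr I) :=
    Algebra.FiniteType.of_surjective (Ideal.Quotient.mkₐ A _) (Ideal.Quotient.mkₐ_surjective _ _)
  haveI : Algebra.FiniteType (A ⧸ I) (Gr I) := Algebra.FiniteType.of_restrictScalars_finiteType A _ _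
  exact Algebra.FiniteType.isNoetherianRing (A ⧸ I) (Gr I)

lemma coeff_mem_of_mem_map {r : reesAlgebra I}
    (hr : r ∈ I.map (algebraMap A (reesAlgebra I))) (d : ℕ) :
    (r : A[X]).coeff d ∈ I ^ (d + 1) := by
  induction hr using Submodule.span_induction generalizing d with
  | mem x hx =>
    obtain ⟨a, ha, rfl⟩ := hx
    change (C a).coeff d ∈ _
    rw [coeff_C]
    split_ifs with h
    · subst h; simpa using ha
    · exact zero_mem _
  | zero => simp
  | add x y _ _ hx hy =>
    rw [Subalgebra.coe_add, coeff_add]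
    exact add_mem (hx d) (hy d)
  | smul q x _ hx =>
    rw [smul_eq_mul, Subalgebra.coe_mul, coeff_mul]
    refine Ideal.sum_mem _ fun p hp => ?_
    have hpd : p.1 + p.2 = d := Finset.HasAntidiagonal.mem_antidiagonal.1 hp
    have : I ^ (d + 1) = I ^ p.1 * I ^ (p.2 + 1) := by
      rw [← pow_add, ← hpd, add_assoc]
    rw [this]
    exact Ideal.mul_mem_mul (q.2 p.1) (hx p.2)

theorem step {ι : Type*} (s : Finset ι) (n : ι → ℕ) (a : ι → A)
    (ha : ∀ i, a i ∈ I ^ n i) (d : ℕ) (x : A) (hx : x ∈ I ^ d)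
    (h : Ideal.Quotient.mk (I.map (algebraMap A (reesAlgebra I))) (mon I d x hx) ∈
      Ideal.span ((fun i => Ideal.Quotient.mk (I.map (algebraMap A (reesAlgebra I)))
        (mon I (n i) (a i) (ha i))) '' (s : Set ι))) :
    ∃ c : ι → A, (∀ i, c i ∈ I ^ (d - n i)) ∧ x - ∑ i ∈ s, c i * a i ∈ I ^ (d + 1) := by
  classical
  rw [Ideal.span, Finsupp.mem_span_image_iff_linearCombination] at h
  obtain ⟨l, hl, hlx⟩ := h
  choose q hq using fun i => Ideal.Quotient.mk_surjective (l i)
  have hsum : Ideal.Quotient.mk (I.map (algebraMap A (reesAlgebra I)))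
      (mon I d x hx - ∑ i ∈ s, q i * mon I (n i) (a i) (ha i)) = 0 := by
    rw [map_sub, map_sum, ← hlx, Finsupp.linearCombination_apply, Finsupp.sum,
      sub_eq_zero]
    rw [Finset.sum_subset (Finsupp.mem_supported _ _ |>.1 hl)]
    · refine Finset.sum_congr rfl fun i _ => ?_
      rw [map_mul, hq, smul_eq_mul]
    · intro i _ hi
      simp [Finsupp.notMem_support_iff.1 hi]
  rw [Ideal.Quotient.eq_zero_iff_mem] at hsum
  have hc := coeff_mem_of_mem_map I hsum d
  refine ⟨fun i => if n i ≤ d then (q i : A[X]).coeff (d - n i) else 0, fun i => ?_, ?_⟩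
  · dsimp only
    split_ifs
    · exact (q i).2 _
    · exact zero_mem _
  · convert hc using 1
    rw [Subalgebra.coe_sub, coeff_sub]
    congr 1
    · simp [mon]
    · rw [AddSubmonoidClass.coe_finsetSum, finsetSum_coeff]
      refine Finset.sum_congr rfl fun i _ => ?_
      rw [Subalgebra.coe_mul]
      simp only [mon]
      rw [← C_mul_X_pow_eq_monomial, ← mul_assoc, coeff_mul_X_pow', coeff_mul_C]
      split_ifs <;> simp


section main

variable [IsAdicComplete I A]

/-- convergence lemma -/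
theorem mem_span_of_approx {ι : Type*} [Fintype ι] (a : ι → A) (P : Set A) (N : ℕ)
    (hstep : ∀ k : ℕ, ∀ z ∈ P, z ∈ I ^ (N + k) → ∃ c : ι → A, (∀ i, c i ∈ I ^ k) ∧
      z - ∑ i, c i * a i ∈ P ∧ z - ∑ i, c i * a i ∈ I ^ (N + k + 1))
    (x : A) (hxP : x ∈ P) (hxN : x ∈ I ^ N) : x ∈ Ideal.span (Set.range a) := by
  classical
  have htop : ∀ m, (I ^ m • ⊤ : Submodule A A) = I ^ m := fun m => by
    rw [smul_eq_mul, Ideal.mul_top]
  -- total step function
  let next : ℕ → A → (ι → A) := fun k z =>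
    if h : z ∈ P ∧ z ∈ I ^ (N + k) then (hstep k z h.1 h.2).choose else 0
  have hnext : ∀ k z, z ∈ P → z ∈ I ^ (N + k) → (∀ i, next k z i ∈ I ^ k) ∧
      z - ∑ i, next k z i * a i ∈ P ∧ z - ∑ i, next k z i * a i ∈ I ^ (N + k + 1) := by
    intro k z h1 h2
    simp only [next, dif_pos (And.intro h1 h2)]
    exact (hstep k z h1 h2).choose_spec
  let zs : ℕ → A := fun k => Nat.rec x (fun k z => z - ∑ i, next k z i * a i) k
  have hzs0 : zs 0 = x := rfl
  have hzsS : ∀ k, zs (k + 1) = zs k - ∑ i, next k (zs k) i * a i := fun k => rfl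
  have hinv : ∀ k, zs k ∈ P ∧ zs k ∈ I ^ (N + k) := by
    intro k
    induction k with
    | zero => exact ⟨hzs0 ▸ hxP, by rw [hzs0]; simpa using hxN⟩
    | succ k ih =>
      rw [hzsS]
      exact ⟨(hnext k _ ih.1 ih.2).2.1, (hnext k _ ih.1 ih.2).2.2⟩
  let cs : ℕ → ι → A := fun k => next k (zs k)
  have hcs : ∀ k i, cs k i ∈ I ^ k := fun k i => (hnext k _ (hinv k).1 (hinv k).2).1 i
  -- partial sums
  let S : ℕ → ι → A := fun m i => ∑ k ∈ Finset.range m, cs k i
  have hzsum : ∀ m, x - ∑ i, S m i * a i = zs m := by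
    intro m
    induction m with
    | zero => simp [S, hzs0]
    | succ m ih =>
      have h1 : zs (m + 1) = zs m - ∑ i, cs m i * a i := hzsS m
      have hS : ∀ i, S (m + 1) i = S m i + cs m i := fun i => Finset.sum_range_succ _ _
      rw [h1, ← ih]
      simp only [hS, add_mul, Finset.sum_add_distrib]
      ring
  have hSdiff : ∀ i m n, m ≤ n → S n i - S m i ∈ I ^ m := by
    intro i m n hmn
    induction n, hmn using Nat.le_induction with
    | base => simp
    | succ n hmn ih =>
      have : S (n + 1) i - S m i = (S n i - S m i) + cs n i := by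
        simp only [S, Finset.sum_range_succ]; ring
      rw [this]
      exact add_mem ih (Ideal.pow_le_pow_right hmn (hcs n i))
  -- limits
  have hlim : ∀ i, ∃ L : A, ∀ m, S m i ≡ L [SMOD (I ^ m • ⊤ : Submodule A A)] := by
    intro i
    apply IsPrecomplete.prec' (I := I)
    intro m n hmn
    rw [SModEq.sub_mem, htop, ← neg_sub, neg_mem_iff]
    exact hSdiff i m n hmn
  choose L hL using hlim
  have h0 : x - ∑ i, L i * a i = 0 := by
    apply IsHausdorff.haus' (I := I)
    intro m
    rw [SModEq.sub_mem, sub_zero, htop]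
    have e : x - ∑ i, L i * a i = zs m - ∑ i, (L i - S m i) * a i := by
      rw [← hzsum m]; simp only [sub_mul, Finset.sum_sub_distrib]; ring
    rw [e]
    refine sub_mem ?_ (sum_mem fun i _ => ?_)
    · exact Ideal.pow_le_pow_right (Nat.le_add_left _ _) (hinv m).2
    · have := hL i m
      rw [SModEq.sub_mem, htop, ← neg_sub, neg_mem_iff] at this
      exact Ideal.mul_mem_right _ _ this
  rw [sub_eq_zero.1 h0]
  exact sum_mem fun i _ => Ideal.mul_mem_left _ _ (Ideal.subset_span ⟨i, rfl⟩)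

/-- **Stacks 05GH**: a ring complete w.r.t. a finitely generated ideal `I` with `A ⧸ I` Noetherian
is Noetherian. -/
theorem isNoetherianRing_of_isAdicComplete (hI : I.FG) [IsNoetherianRing (A ⧸ I)] :
    IsNoetherianRing A := by
  classical
  haveI := gr_noeth I hI
  rw [isNoetherianRing_iff_ideal_fg]
  intro J
  let mk := Ideal.Quotient.mk (I.map (algebraMap A (reesAlgebra I)))
  let Sym : Set (Gr I) := {g | ∃ (d : ℕ) (x : A) (hx : x ∈ I ^ d), x ∈ J ∧ g = mk (mon I d x hx)}
  have hfg : (Ideal.span Sym).FG := IsNoetherian.noetherian _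
  obtain ⟨s, hsS, hs⟩ := (Submodule.fg_span_iff_fg_span_finset_subset _).1 hfg
  have hex : ∀ g : s, ∃ (d : ℕ) (x : A) (hx : x ∈ I ^ d), x ∈ J ∧ (g : Gr I) = mk (mon I d x hx) :=
    fun g => hsS g.2
  choose n a ha haJ hg using hex
  have hsimg : (s : Set (Gr I)) = (fun i : s => mk (mon I (n i) (a i) (ha i))) ''
      ((Finset.univ : Finset s) : Set s) := by
    ext g
    simp only [Finset.coe_univ, Set.image_univ, Set.mem_range, Finset.mem_coe]
    constructor
    · intro hgs
      exact ⟨⟨g, hgs⟩, (hg ⟨g, hgs⟩).symm⟩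
    · rintro ⟨i, rfl⟩
      rw [← hg i]; exact i.2
  -- the basic step
  have hstep : ∀ d x, x ∈ J → x ∈ I ^ d → ∃ c : s → A, (∀ i, c i ∈ I ^ (d - n i)) ∧
      x - ∑ i, c i * a i ∈ J ∧ x - ∑ i, c i * a i ∈ I ^ (d + 1) := by
    intro d x hxJ hxd
    have hmem : mk (mon I d x hxd) ∈ Ideal.span Sym :=
      Ideal.subset_span ⟨d, x, hxd, hxJ, rfl⟩
    rw [Ideal.span, hs, hsimg] at hmem
    obtain ⟨c, hc1, hc2⟩ := step I Finset.univ n a ha d x hxd hmem
    exact ⟨c, hc1, sub_mem hxJ (sum_mem fun i _ => Ideal.mul_mem_left _ _ (haJ i)), hc2⟩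
  let N : ℕ := Finset.univ.sup n
  have hnN : ∀ i, n i ≤ N := fun i => Finset.le_sup (Finset.mem_univ i)
  have hJ' : Ideal.span (Set.range a) ≤ J := Ideal.span_le.2 (by rintro _ ⟨i, rfl⟩; exact haJ i)
  -- first phase
  have hphase1 : ∀ d, ∀ x ∈ J, ∃ y ∈ Ideal.span (Set.range a), x - y ∈ J ∧ x - y ∈ I ^ d := by
    intro d
    induction d with
    | zero => exact fun x hx => ⟨0, zero_mem _, by simpa using hx, by simp⟩
    | succ d ih =>
      intro x hx
      obtain ⟨y, hy, h1, h2⟩ := ih x hx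
      obtain ⟨c, -, h3, h4⟩ := hstep d (x - y) h1 h2
      refine ⟨y + ∑ i, c i * a i, add_mem hy
        (sum_mem fun i _ => Ideal.mul_mem_left _ _ (Ideal.subset_span ⟨i, rfl⟩)), ?_, ?_⟩
      · rwa [← sub_sub]
      · rwa [← sub_sub]
  refine ⟨Finset.univ.image a, le_antisymm ?_ ?_⟩
  · rw [Finset.coe_image, Finset.coe_univ, Set.image_univ]; exact hJ'
  · rw [Finset.coe_image, Finset.coe_univ, Set.image_univ]
    intro x hx
    obtain ⟨y, hy, h1, h2⟩ := hphase1 N x hx
    have h3 : x - y ∈ Ideal.span (Set.range a) := by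
      refine mem_span_of_approx I a (J : Set A) N (fun k z hzJ hzk => ?_) (x - y) h1 h2
      obtain ⟨c, hc1, hc2, hc3⟩ := hstep (N + k) z hzJ hzk
      refine ⟨c, fun i => Ideal.pow_le_pow_right ?_ (hc1 i), hc2, hc3⟩
      have := hnN i
      omega
    have : x = y + (x - y) := by ring
    rw [this]
    exact add_mem hy h3

end main

end Groth.Agent.Helper1.CompleteNoeth
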