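import Mathlib
import Groth.Agent.Helper1.FlatKrull

/-!
# Local criterion of flatness (adic form)

`A → B` Noetherian rings, `I ⊆ A` an ideal with `IB ⊆ rad B`, `M` a finite `B`-module such that
`(A/I^k) ⊗_A M` is flat over `A/I^k` for all `k`.  Then `M` is flat over `A`.
-/

set_option autoImplicit false

namespace Groth.Agent.Helper1.LocalFlat

open TensorProduct

section inj

variable {A : Type*} [CommRing A] (K : Ideal A) (M : Type*) [AddCommGroup M] [Module A M]

/-- If `(A/K) ⊗ M` is `A/K`-flat, then `M ⊗_A -` preserves the injection `N ↪ A/K` for an ideal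
`N` of `A/K`. -/
theorem lTensor_injective_of_flat_baseChange [Module.Flat (A ⧸ K) ((A ⧸ K) ⊗[A] M)]
    (N : Ideal (A ⧸ K)) :
    Function.Injective (LinearMap.lTensor M (N.subtype.restrictScalars A)) := by
  rw [LinearMap.lTensor_inj_iff_rTensor_inj]
  have h := Module.Flat.rTensor_preserves_injective_linearMap (M := (A ⧸ K) ⊗[A] M) N.subtype
    Subtype.val_injective
  let e₁ := TensorProduct.AlgebraTensorModule.cancelBaseChange A (A ⧸ K) (A ⧸ K) N M
  let e₂ := TensorProduct.AlgebraTensorModule.cancelBaseChange A (A ⧸ K) (A ⧸ K) (A ⧸ K) M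
  have sq : ∀ z, e₂ (LinearMap.rTensor ((A ⧸ K) ⊗[A] M) N.subtype z) =
      LinearMap.rTensor M (N.subtype.restrictScalars A) (e₁ z) := by
    intro z
    induction z using TensorProduct.induction_on with
    | zero => simp
    | add x y hx hy => simp only [map_add, hx, hy]
    | tmul n w =>
      induction w using TensorProduct.induction_on with
      | zero => simp
      | add x y hx hy => simp only [TensorProduct.tmul_add, map_add, hx, hy]
      | tmul a m =>
        simp only [e₁, e₂, LinearMap.rTensor_tmul,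
          TensorProduct.AlgebraTensorModule.cancelBaseChange_tmul]
        simp
  intro y₁ y₂ hy
  apply e₁.symm.injective
  apply h
  apply e₂.injective
  rw [sq, sq]
  simpa using hy

end inj

variable {A B : Type*} [CommRing A] [CommRing B] [Algebra A B]
  {M : Type*} [AddCommGroup M] [Module B M] [Module A M] [IsScalarTower A B M]

/-- `m ⊗ j ∈ (IB)^n (M ⊗ J)` when `j ∈ I^n J`. -/
lemma tmul_mem (I J : Ideal A) (n : ℕ) (m : M) (j : A) (hj : j ∈ I ^ n * J) (hjJ : j ∈ J) :
    m ⊗ₜ[A] (⟨j, hjJ⟩ : J) ∈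
      ((I.map (algebraMap A B)) ^ n • ⊤ : Submodule B (M ⊗[A] J)) := by
  induction hj using Submodule.mul_induction_on' with
  | mem_mul_mem a ha j' hj' =>
    have : (⟨a * j', hjJ⟩ : J) = a • (⟨j', hj'⟩ : J) := rfl
    rw [this, TensorProduct.tmul_smul, ← algebraMap_smul B a (m ⊗ₜ[A] (⟨j', hj'⟩ : J))]
    refine Submodule.smul_mem_smul ?_ trivial
    rw [← Ideal.map_pow]
    exact Ideal.mem_map_of_mem _ ha
  | add x hx y hy hx' hy' =>
    have hxJ : x ∈ J := Ideal.mul_le_right hx
    have hyJ : y ∈ J := Ideal.mul_le_right hy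
    have : (⟨x + y, hjJ⟩ : J) = (⟨x, hxJ⟩ : J) + ⟨y, hyJ⟩ := rfl
    rw [this, TensorProduct.tmul_add]
    exact add_mem (hx' hxJ) (hy' hyJ)

theorem flat_of_flat_baseChange_pow [IsNoetherianRing A] [IsNoetherianRing B] [Module.Finite B M]
    (I : Ideal A) (hI : I.map (algebraMap A B) ≤ Ideal.jacobson ⊥)
    (h : ∀ k : ℕ, Module.Flat (A ⧸ I ^ k) ((A ⧸ I ^ k) ⊗[A] M)) : Module.Flat A M := by
  refine FlatKrull.flat_of_ker_le_iInf (I.map (algebraMap A B)) hI ?_
  intro J x hx n
  -- Artin–Rees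
  obtain ⟨c, hc⟩ := Ideal.exists_pow_inf_eq_pow_smul I (J : Submodule A A)
  have hAR : I ^ (n + c) ⊓ J ≤ I ^ n * J := by
    have h1 := hc (n + c) (Nat.le_add_left _ _)
    rw [Nat.add_sub_cancel] at h1
    have h2 : (I ^ (n + c) • ⊤ : Submodule A A) = I ^ (n + c) := by
      rw [smul_eq_mul, Ideal.mul_top]
    rw [h2] at h1
    rw [h1]
    rw [smul_eq_mul]
    exact Ideal.mul_mono_right inf_le_right
  set k := n + c with hk
  haveI := h k
  -- the maps
  let N : Ideal (A ⧸ I ^ k) := J.map (Ideal.Quotient.mk (I ^ k))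
  let π : J →ₗ[A] N := (((Ideal.Quotient.mkₐ A (I ^ k)).toLinearMap).comp J.subtype).codRestrict
    (N.restrictScalars A) (fun j => Ideal.mem_map_of_mem _ j.2)
  let q : A →ₗ[A] (A ⧸ I ^ k) := (Ideal.Quotient.mkₐ A (I ^ k)).toLinearMap
  let f : ↥(I ^ k ⊓ J) →ₗ[A] J := Submodule.inclusion inf_le_right
  have hcomp : (N.subtype.restrictScalars A).comp π = q.comp J.subtype := rfl
  have hπ : Function.Surjective π := by
    rintro ⟨y, hy⟩
    obtain ⟨j, hj, rfl⟩ := (Ideal.mem_map_iff_of_surjective _ Ideal.Quotient.mk_surjective).1 hy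
    exact ⟨⟨j, hj⟩, rfl⟩
  have hex : Function.Exact f π := by
    intro j
    constructor
    · intro hj
      have h1 : Ideal.Quotient.mk (I ^ k) (j : A) = 0 := congrArg Subtype.val hj
      rw [Ideal.Quotient.eq_zero_iff_mem] at h1
      exact ⟨⟨j, h1, j.2⟩, rfl⟩
    · rintro ⟨y, rfl⟩
      apply Subtype.ext
      change Ideal.Quotient.mk (I ^ k) (y : A) = 0
      rw [Ideal.Quotient.eq_zero_iff_mem]
      exact y.2.1
  have h1 : LinearMap.lTensor M π x = 0 := by
    apply lTensor_injective_of_flat_baseChange (I ^ k) M N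
    rw [map_zero, ← LinearMap.comp_apply, ← LinearMap.lTensor_comp, hcomp, LinearMap.lTensor_comp,
      LinearMap.comp_apply, hx, map_zero]
  obtain ⟨y, rfl⟩ := (lTensor_exact M hex hπ x).1 h1
  clear h1 hx
  induction y using TensorProduct.induction_on with
  | zero => simp
  | add a b ha hb => rw [map_add]; exact add_mem ha hb
  | tmul m j =>
    rw [LinearMap.lTensor_tmul]
    exact tmul_mem I J n m (j : A) (hAR j.2) j.2.2

end Groth.Agent.Helper1.LocalFlat
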