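import Mathlib
import Groth.Agent.Helper1.CompleteNoeth
import Groth.Agent.Helper1.LocalFlat

/-!
# The completion of a flat local algebra `S` over a Noetherian local ring `R` with `m_R S = m_S`
is Noetherian and flat over `R`.
-/

set_option autoImplicit false

namespace Groth.Agent.Helper1.CompletionFlat

open TensorProduct IsLocalRing

section BC

variable {R : Type*} [CommRing R] {M N : Type*} [AddCommGroup M] [Module R M]
  [AddCommGroup N] [Module R N]

/-- If `f : M → N` induces a bijection `M/KM → N/KN` then `(R/K) ⊗ f` is bijective. -/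
theorem lTensor_quotient_bijective (K : Ideal R) (f : M →ₗ[R] N)
    (ha : ∀ n : N, ∃ m : M, n - f m ∈ (K • ⊤ : Submodule R N))
    (hb : ∀ m : M, f m ∈ (K • ⊤ : Submodule R N) → m ∈ (K • ⊤ : Submodule R M)) :
    Function.Bijective (f.lTensor (R ⧸ K)) := by
  have hle : (K • ⊤ : Submodule R M) ≤ (K • ⊤ : Submodule R N).comap f := by
    rw [← Submodule.map_le_iff_le_comap, Submodule.map_smul'']
    exact smul_mono_right _ le_top
  let g := (K • ⊤ : Submodule R M).mapQ (K • ⊤ : Submodule R N) f hle
  have hg : Function.Bijective g := by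
    constructor
    · rw [← LinearMap.ker_eq_bot, LinearMap.ker_eq_bot']
      intro x hx
      obtain ⟨m, rfl⟩ := Submodule.Quotient.mk_surjective _ x
      rw [Submodule.mapQ_apply, Submodule.Quotient.mk_eq_zero] at hx
      rw [Submodule.Quotient.mk_eq_zero]
      exact hb m hx
    · intro y
      obtain ⟨n, rfl⟩ := Submodule.Quotient.mk_surjective _ y
      obtain ⟨m, hm⟩ := ha n
      refine ⟨Submodule.Quotient.mk m, ?_⟩
      rw [Submodule.mapQ_apply, eq_comm, Submodule.Quotient.eq]
      exact hm
  have sq : (quotTensorEquivQuotSMul N K).toLinearMap ∘ₗ f.lTensor (R ⧸ K) =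
      g ∘ₗ (quotTensorEquivQuotSMul M K).toLinearMap := by
    apply TensorProduct.ext'
    intro r m
    obtain ⟨r, rfl⟩ := Ideal.Quotient.mk_surjective r
    simp only [LinearMap.coe_comp, LinearEquiv.coe_coe, Function.comp_apply, LinearMap.lTensor_tmul,
      quotTensorEquivQuotSMul_mk_tmul, g, Submodule.mapQ_apply, map_smul]
  have : (f.lTensor (R ⧸ K) : (R ⧸ K) ⊗[R] M → (R ⧸ K) ⊗[R] N) =
      (quotTensorEquivQuotSMul N K).symm ∘ g ∘ (quotTensorEquivQuotSMul M K) := by
    funext z
    have := congrArg (fun φ => φ z) sq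
    simp only [LinearMap.coe_comp, LinearEquiv.coe_coe, Function.comp_apply] at this
    rw [Function.comp_apply, Function.comp_apply, ← this, LinearEquiv.symm_apply_apply]
  rw [this]
  exact (quotTensorEquivQuotSMul N K).symm.bijective.comp
    (hg.comp (quotTensorEquivQuotSMul M K).bijective)

/-- Flatness of `(R/K) ⊗ M` transfers to `(R/K) ⊗ N` when `M/KM ≅ N/KN`. -/
theorem flat_baseChange_of_bijective (K : Ideal R) (f : M →ₗ[R] N)
    (ha : ∀ n : N, ∃ m : M, n - f m ∈ (K • ⊤ : Submodule R N))
    (hb : ∀ m : M, f m ∈ (K • ⊤ : Submodule R N) → m ∈ (K • ⊤ : Submodule R M))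
    [Module.Flat (R ⧸ K) ((R ⧸ K) ⊗[R] M)] : Module.Flat (R ⧸ K) ((R ⧸ K) ⊗[R] N) := by
  have hbij : Function.Bijective (f.baseChange (R ⧸ K)) := lTensor_quotient_bijective K f ha hb
  exact Module.Flat.of_linearEquiv (LinearEquiv.ofBijective (f.baseChange (R ⧸ K)) hbij).symm

end BC


section Main

variable (R S : Type*) [CommRing R] [IsLocalRing R] [IsNoetherianRing R] [CommRing S]
  [IsLocalRing S] [Algebra R S]
  (hm : (maximalIdeal R).map (algebraMap R S) = maximalIdeal S)

instance : IsScalarTower R S (AdicCompletion (maximalIdeal S) S) :=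
  IsScalarTower.of_algebraMap_eq fun r => by
    rw [AdicCompletion.algebraMap_apply, AdicCompletion.algebraMap_apply, Algebra.algebraMap_self,
      RingHom.id_apply]

include hm

lemma maximalIdeal_fg : (maximalIdeal S).FG := by
  rw [← hm]; exact Ideal.FG.map (IsNoetherian.noetherian _) _

/-- The completion of `S` is Noetherian. -/
theorem isNoetherianRing_completion :
    IsNoetherianRing (AdicCompletion (maximalIdeal S) S) := by
  have hfg := maximalIdeal_fg R S hm
  haveI := AdicCompletion.isLocalRing_of_fg hfg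
  haveI := AdicCompletion.isAdicComplete_of_fg hfg
  haveI : IsNoetherianRing (AdicCompletion (maximalIdeal S) S ⧸
      maximalIdeal (AdicCompletion (maximalIdeal S) S)) :=
    inferInstanceAs (IsNoetherianRing (ResidueField (AdicCompletion (maximalIdeal S) S)))
  refine CompleteNoeth.isNoetherianRing_of_isAdicComplete
    (maximalIdeal (AdicCompletion (maximalIdeal S) S)) ?_
  rw [AdicCompletion.maximalIdeal_eq_map_of_fg hfg]
  exact Ideal.FG.map hfg _

lemma map_pow_eq (k : ℕ) :
    ((maximalIdeal R) ^ k).map (algebraMap R (AdicCompletion (maximalIdeal S) S)) =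
      ((maximalIdeal S) ^ k).map (algebraMap S (AdicCompletion (maximalIdeal S) S)) := by
  rw [IsScalarTower.algebraMap_eq R S (AdicCompletion (maximalIdeal S) S), ← Ideal.map_map,
    Ideal.map_pow, hm]

lemma mem_smul_top_iff (k : ℕ) (t : AdicCompletion (maximalIdeal S) S) :
    t ∈ ((maximalIdeal R) ^ k • ⊤ : Submodule R (AdicCompletion (maximalIdeal S) S)) ↔
      AdicCompletion.eval (maximalIdeal S) S k t = 0 := by
  have hfg := maximalIdeal_fg R S hm
  rw [Ideal.smul_top_eq_map, Submodule.restrictScalars_mem, map_pow_eq R S hm,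
    ← LinearMap.mem_ker, ← AdicCompletion.pow_smul_top_eq_ker_eval hfg, Ideal.smul_top_eq_map,
    Submodule.restrictScalars_mem]

/-- The completion of `S` is flat over `R`. -/
theorem flat_completion [Module.Flat R S] :
    Module.Flat R (AdicCompletion (maximalIdeal S) S) := by
  have hfg := maximalIdeal_fg R S hm
  haveI := AdicCompletion.isLocalRing_of_fg hfg
  haveI := isNoetherianRing_completion R S hm
  refine LocalFlat.flat_of_flat_baseChange_pow (A := R) (B := AdicCompletion (maximalIdeal S) S)
    (maximalIdeal R) ?_ fun k => ?_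
  · rw [IsLocalRing.jacobson_eq_maximalIdeal ⊥ bot_ne_top,
      AdicCompletion.maximalIdeal_eq_map_of_fg hfg]
    have := map_pow_eq R S hm 1
    rw [pow_one, pow_one] at this
    exact le_of_eq this
  · let f : S →ₗ[R] AdicCompletion (maximalIdeal S) S :=
      (Algebra.linearMap S (AdicCompletion (maximalIdeal S) S)).restrictScalars R
    have hf : ∀ s, f s = AdicCompletion.of (maximalIdeal S) S s := fun s => by
      change algebraMap S _ s = _
      rw [AdicCompletion.algebraMap_apply, Algebra.algebraMap_self, RingHom.id_apply]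
    refine flat_baseChange_of_bijective (maximalIdeal R ^ k) f (fun t => ?_) (fun s hs => ?_)
    · obtain ⟨s, hs⟩ := Submodule.Quotient.mk_surjective _
        (AdicCompletion.eval (maximalIdeal S) S k t)
      refine ⟨s, ?_⟩
      rw [mem_smul_top_iff R S hm, map_sub, hf, AdicCompletion.eval_of, sub_eq_zero]
      exact hs.symm
    · rw [mem_smul_top_iff R S hm, hf, AdicCompletion.eval_of, Submodule.mkQ_apply,
        Submodule.Quotient.mk_eq_zero] at hs
      rw [Ideal.smul_top_eq_map, Submodule.restrictScalars_mem, Ideal.map_pow, hm]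
      rwa [Ideal.smul_top_eq_map, Submodule.restrictScalars_mem, Algebra.algebraMap_self,
        Ideal.map_id] at hs

end Main

end Groth.Agent.Helper1.CompletionFlat
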