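import Mathlib

/-!
# Maps from unramified algebras to flat algebras are flat

If `L` is an unramified `R`-algebra (essentially of finite type), `T` is a flat `R`-algebra and
`χ : L →ₐ[R] T` is any `R`-algebra map, then `T` is flat over `L` via `χ`.
-/

set_option autoImplicit false

namespace Groth.Agent.Helper1.FlatUnram

open TensorProduct

/-- A surjective ring map `s : A → B` whose kernel is killed by an element `e` with `s e = 1`
makes `B` a flat `A`-module (a direct factor). -/
theorem flat_of_surjective_of_idem {A B : Type*} [CommRing A] [CommRing B] [Algebra A B]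
    (hs : Function.Surjective (algebraMap A B)) (e : A) (he1 : algebraMap A B e = 1)
    (he2 : ∀ a, algebraMap A B a = 0 → e * a = 0) : Module.Flat A B := by
  -- the retraction
  let r : A →ₗ[A] B := Algebra.linearMap A B
  have hker : ∀ a, a ∈ LinearMap.ker r → (LinearMap.mulLeft A e) a = 0 := by
    intro a ha
    exact he2 a ha
  let e' : (A ⧸ LinearMap.ker r) ≃ₗ[A] B := r.quotKerEquivOfSurjective hs
  let i₀ : (A ⧸ LinearMap.ker r) →ₗ[A] A :=
    (LinearMap.ker r).liftQ (LinearMap.mulLeft A e) (fun a ha => hker a ha)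
  let i : B →ₗ[A] A := i₀.comp e'.symm.toLinearMap
  refine Module.Flat.of_retract i r ?_
  ext b
  obtain ⟨a, rfl⟩ := hs b
  have h1 : e'.symm (algebraMap A B a) = Submodule.Quotient.mk a := by
    rw [LinearEquiv.symm_apply_eq]
    rfl
  show r (i₀ (e'.symm (algebraMap A B a))) = algebraMap A B a
  rw [h1]
  show algebraMap A B (e * a) = _
  rw [map_mul, he1, one_mul]

variable {R L T : Type*} [CommRing R] [CommRing L] [CommRing T] [Algebra R L] [Algebra R T]

/-- Maps from unramified algebras to flat algebras are flat. -/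
theorem flat_of_algHom [Algebra.EssFiniteType R L] [Algebra.FormallyUnramified R L]
    [Module.Flat R T] (χ : L →ₐ[R] T) :
    letI : Algebra L T := χ.toRingHom.toAlgebra
    Module.Flat L T := by
  letI : Algebra L T := χ.toRingHom.toAlgebra
  obtain ⟨t, ht1, ht2⟩ := (Algebra.FormallyUnramified.iff_exists_tensorProduct (R := R) (S := L)).1
    inferInstance
  let A := L ⊗[R] T
  let s : A →ₐ[R] T := Algebra.TensorProduct.productMap χ (AlgHom.id R T)
  let ρ : L ⊗[R] L →ₐ[R] A := Algebra.TensorProduct.map (AlgHom.id R L) χ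
  let e : A := ρ t
  have hs_tmul : ∀ (l : L) (t' : T), s (l ⊗ₜ[R] t') = χ l * t' := fun l t' => by
    show Algebra.TensorProduct.productMap χ (AlgHom.id R T) (l ⊗ₜ[R] t') = _
    rw [Algebra.TensorProduct.productMap_apply_tmul]; rfl
  have hρ_tmul : ∀ a b : L, ρ (a ⊗ₜ[R] b) = a ⊗ₜ[R] χ b := fun a b => by
    show Algebra.TensorProduct.map (AlgHom.id R L) χ (a ⊗ₜ[R] b) = _
    rw [Algebra.TensorProduct.map_tmul]; rfl
  have hsρ : ∀ z : L ⊗[R] L, s (ρ z) = χ (Algebra.TensorProduct.lmul' R z) := by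
    intro z
    induction z using TensorProduct.induction_on with
    | zero => simp
    | tmul a b => rw [hρ_tmul, hs_tmul, Algebra.TensorProduct.lmul'_apply_tmul, map_mul]
    | add x y hx hy => rw [map_add, map_add, hx, hy, map_add, map_add]
  have he1 : s e = 1 := by rw [hsρ, ht2, map_one]
  have hel : ∀ l : L, e * (l ⊗ₜ[R] (1 : T)) = e * ((1 : L) ⊗ₜ[R] χ l) := by
    intro l
    have := congr(ρ $(ht1 l))
    rw [map_mul, map_sub, map_zero] at this
    have h1 : ρ ((1 : L) ⊗ₜ[R] l) = (1 : L) ⊗ₜ[R] χ l := hρ_tmul 1 l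
    have h2 : ρ (l ⊗ₜ[R] (1 : L)) = l ⊗ₜ[R] (1 : T) := by rw [hρ_tmul, map_one]
    rw [h1, h2] at this
    have h3 : e * (l ⊗ₜ[R] (1 : T)) - e * ((1 : L) ⊗ₜ[R] χ l) = 0 := by
      rw [← mul_sub, mul_comm, ← neg_sub, neg_mul, this, neg_zero]
    exact sub_eq_zero.1 h3
  have hea : ∀ a : A, e * a = e * ((1 : L) ⊗ₜ[R] s a) := by
    intro a
    induction a using TensorProduct.induction_on with
    | zero => simp
    | tmul l t' =>
      have h1 : (l ⊗ₜ[R] t' : A) = (l ⊗ₜ[R] (1 : T)) * ((1 : L) ⊗ₜ[R] t') := by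
        rw [Algebra.TensorProduct.tmul_mul_tmul, mul_one, one_mul]
      rw [hs_tmul]
      nth_rewrite 1 [h1]
      rw [← mul_assoc, hel, mul_assoc, Algebra.TensorProduct.tmul_mul_tmul, one_mul]
    | add x y hx hy =>
      rw [mul_add, hx, hy, map_add, TensorProduct.tmul_add, mul_add]
  letI : Algebra A T := s.toRingHom.toAlgebra
  haveI : IsScalarTower L A T := IsScalarTower.of_algebraMap_eq (fun l => by
    show χ l = s (l ⊗ₜ[R] (1 : T))
    rw [hs_tmul, mul_one])
  haveI : Module.Flat A T := by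
    refine flat_of_surjective_of_idem (fun t' => ⟨(1 : L) ⊗ₜ[R] t', ?_⟩) e he1 ?_
    · show s ((1 : L) ⊗ₜ[R] t') = t'
      rw [hs_tmul, map_one, one_mul]
    · intro a ha
      have ha' : s a = 0 := ha
      rw [hea, ha', TensorProduct.tmul_zero, mul_zero]
  exact Module.Flat.trans L A T

end Groth.Agent.Helper1.FlatUnram
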