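import Mathlib
import Groth.Agent.Helper1.HensProps
import Groth.Prelude.Def_Hensel

/-!
# `Hens R Ω` for a separable closure `Ω` of the residue field is a strict henselization
-/

set_option autoImplicit false
set_option linter.dupNamespace false

universe u

noncomputable section

namespace Groth.Agent.Helper1.Hens

open IsLocalRing TensorProduct Polynomial

lemma isSepClosed_of_ringEquiv {k k' : Type*} [Field k] [Field k'] (e : k ≃+* k')
    [IsSepClosed k] : IsSepClosed k' := by
  refine IsSepClosed.of_exists_root k' fun p hm hirr hsep => ?_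
  have h1 : (p.map e.symm.toRingHom).Separable := hsep.map
  have h2 : (p.map e.symm.toRingHom).degree ≠ 0 := by
    rw [Polynomial.degree_map]
    exact fun h => hirr.not_isUnit (by
      rw [Polynomial.isUnit_iff_degree_eq_zero]; exact h)
  obtain ⟨x, hx⟩ := IsSepClosed.exists_root _ h2 h1
  refine ⟨e x, ?_⟩
  rw [IsRoot, Polynomial.eval_map] at hx
  have := congr((e : k →+* k') $hx)
  rw [Polynomial.hom_eval₂, map_zero] at this
  have h3 : (e : k →+* k').comp e.symm.toRingHom = RingHom.id k' := by
    ext y; simp
  rw [h3, Polynomial.eval₂_id] at this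
  exact this

variable {R : Type u} [CommRing R] [IsLocalRing R] {Ω : Type u} [Field Ω] [Algebra R Ω]
  [Algebra (ResidueField R) Ω] [IsScalarTower R (ResidueField R) Ω]

lemma algebraMap_Ω_eq (r : R) :
    algebraMap R Ω r = algebraMap (ResidueField R) Ω (residue R r) :=
  IsScalarTower.algebraMap_apply R (ResidueField R) Ω r

instance isLocalHom_algebraMap_Ω : IsLocalHom (algebraMap R Ω) := by
  constructor
  intro r hr
  rw [algebraMap_Ω_eq, isUnit_iff_ne_zero, Ne, map_eq_zero, residue_eq_zero_iff] at hr
  by_contra h
  exact hr ((mem_maximalIdeal r).2 h)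

theorem Hens.γ_surjective [Algebra.IsSeparable (ResidueField R) Ω] :
    Function.Surjective (Hens.γ (R := R) (Ω := Ω)) := by
  intro ω
  have hsep : (minpoly (ResidueField R) ω).Separable := Algebra.IsSeparable.isSeparable _ ω
  have hint : IsIntegral (ResidueField R) ω := Algebra.IsSeparable.isIntegral _ ω
  have hmon : (minpoly (ResidueField R) ω).Monic := minpoly.monic hint
  obtain ⟨F, hF, -, hFm⟩ := Polynomial.lifts_and_degree_eq_and_monic
    (f := residue R) (p := minpoly (ResidueField R) ω)
    (by
      rw [Polynomial.lifts_iff_coeff_lifts]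
      intro n
      exact residue_surjective _) hmon
  have key : ∀ G : R[X], aeval ω G = aeval ω (G.map (residue R)) := by
    intro G
    rw [show residue R = algebraMap R (ResidueField R) from rfl, aeval_map_algebraMap]
  refine Hens.exists_γ_eq ω F hFm ?_ ?_
  · rw [key, hF, minpoly.aeval]
  · rw [key, ← Polynomial.derivative_map, hF]
    exact hsep.aeval_derivative_ne_zero (minpoly.aeval _ ω)

instance : IsLocalHom (Hens.γ (R := R) (Ω := Ω)).toRingHom := by
  constructor
  intro z hz
  rw [Hens.isUnit_iff]
  exact hz.ne_zero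

variable (R Ω) in
/-- The residue field of `Hens R Ω` is `Ω`. -/
def Hens.resEquiv [Algebra.IsSeparable (ResidueField R) Ω] :
    ResidueField (Hens R Ω) ≃ₐ[ResidueField R] Ω :=
  AlgEquiv.ofBijective
    { IsLocalRing.ResidueField.lift (Hens.γ (R := R) (Ω := Ω)).toRingHom with
      commutes' := fun x => by
        obtain ⟨r, rfl⟩ := residue_surjective x
        show IsLocalRing.ResidueField.lift (Hens.γ (R := R) (Ω := Ω)).toRingHom
          (residue _ (algebraMap R (Hens R Ω) r)) = _
        rw [IsLocalRing.ResidueField.lift_residue_apply]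
        show Hens.γ (algebraMap R (Hens R Ω) r) = _
        rw [Hens.γ_algebraMap, algebraMap_Ω_eq] }
    ⟨RingHom.injective _, fun ω => by
      obtain ⟨z, rfl⟩ := Hens.γ_surjective (R := R) ω
      exact ⟨residue _ z, IsLocalRing.ResidueField.lift_residue_apply _ z⟩⟩

lemma Hens.resEquiv_residue [Algebra.IsSeparable (ResidueField R) Ω] (z : Hens R Ω) :
    Hens.resEquiv R Ω (residue _ z) = Hens.γ z :=
  IsLocalRing.ResidueField.lift_residue_apply (Hens.γ (R := R) (Ω := Ω)).toRingHom z

instance isStrictHenselization [IsSepClosure (ResidueField R) Ω] :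
    Hensel.IsStrictHenselization R (Hens R Ω) where
  henselian := inferInstance
  isSepClosure := by
    haveI : IsSepClosed Ω := IsSepClosure.sep_closed (ResidueField R)
    refine ⟨isSepClosed_of_ringEquiv (Hens.resEquiv R Ω).symm.toRingEquiv, ?_⟩
    exact Algebra.IsSeparable.of_algHom _ _ (Hens.resEquiv R Ω).toAlgHom
  universal T _ _ f hf τ hτ := by
    letI : Algebra R T := f.toAlgebra
    have hfalg : ∀ r, algebraMap R T r = f r := fun _ => rfl
    let τ' : Ω →+* ResidueField T := τ.comp (Hens.resEquiv R Ω).symm.toAlgHom.toRingHom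
    have hτ'γ : ∀ z : Hens R Ω, τ' (Hens.γ z) = τ (residue _ z) := by
      intro z
      show τ ((Hens.resEquiv R Ω).symm (Hens.γ z)) = _
      rw [← Hens.resEquiv_residue, AlgEquiv.symm_apply_apply]
    have hτ' : ∀ r, τ' (algebraMap R Ω r) = residue T (algebraMap R T r) := by
      intro r
      rw [← Hens.γ_algebraMap, hτ'γ]
      have := congr($hτ (residue R r))
      rw [RingHom.comp_apply, ResidueField.map_residue, ResidueField.map_residue] at this
      exact this
    refine ⟨(Hens.lift τ' hτ').toRingHom, ⟨?_, ?_⟩, ?_⟩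
    · ext r
      exact (Hens.lift _ hτ').commutes r
    · intro z
      show residue T (Hens.lift τ' hτ' z) = _
      rw [Hens.residue_lift, hτ'γ]
    · rintro g ⟨hg1, hg2⟩
      let g' : Hens R Ω →ₐ[R] T := { g with commutes' := fun r => congr($hg1 r) }
      have : g' = Hens.lift τ' hτ' := Hens.lift_unique τ' hτ' g' (fun z => by
        rw [hτ'γ]; exact hg2 z)
      ext z
      exact congr($this z)

end Groth.Agent.Helper1.Hens
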