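import Mathlib
import Groth.Agent.Helper1.HensStrict
import Groth.Agent.Helper1.HensTransfer

/-!
# Basic facts about an arbitrary strict henselization, transferred from the construction
-/

set_option autoImplicit false
set_option linter.dupNamespace false

universe u

noncomputable section

namespace Groth.Agent.Helper1.Hens

open IsLocalRing TensorProduct Polynomial

section General

variable {R : Type u} [CommRing R] [IsLocalRing R] {Ω : Type u} [Field Ω] [Algebra R Ω]
  [IsLocalHom (algebraMap R Ω)]
variable {S : Type u} [CommRing S] [IsLocalRing S] [Algebra R S] [IsLocalHom (algebraMap R S)]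

lemma isUnit_algEquiv_iff (e : S ≃ₐ[R] Hens R Ω) (s : S) : IsUnit (e s) ↔ IsUnit s :=
  ⟨fun h => by simpa using h.map e.symm, fun h => h.map e⟩

lemma mem_maximalIdeal_algEquiv_iff (e : S ≃ₐ[R] Hens R Ω) (s : S) :
    e s ∈ maximalIdeal (Hens R Ω) ↔ s ∈ maximalIdeal S := by
  rw [mem_maximalIdeal, mem_maximalIdeal, mem_nonunits_iff, mem_nonunits_iff, isUnit_algEquiv_iff]

theorem map_maximalIdeal_of_algEquiv (e : S ≃ₐ[R] Hens R Ω) :
    (maximalIdeal R).map (algebraMap R S) = maximalIdeal S := by
  apply le_antisymm
  · exact ((local_hom_TFAE (algebraMap R S)).out 0 2 rfl rfl).mp inferInstance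
  · intro s hs
    rw [← mem_maximalIdeal_algEquiv_iff e, ← Hens.map_maximalIdeal] at hs
    have h1 := Ideal.mem_map_of_mem e.symm.toAlgHom.toRingHom hs
    rw [Ideal.map_map] at h1
    have h2 : e.symm.toAlgHom.toRingHom.comp (algebraMap R (Hens R Ω)) = algebraMap R S := by
      ext r
      exact e.symm.commutes r
    rw [h2] at h1
    simpa using h1

theorem faithfullyFlat_of_algEquiv (e : S ≃ₐ[R] Hens R Ω) : Module.FaithfullyFlat R S :=
  Module.FaithfullyFlat.of_linearEquiv (R := R) (M := Hens R Ω) (N := S) e.toLinearEquiv

end General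

variable (R : Type u) [CommRing R] [IsLocalRing R]
variable (S : Type u) [CommRing S] [IsLocalRing S] [Algebra R S]
    [IsLocalHom (algebraMap R S)] [hS : Hensel.IsStrictHenselization R S]

instance : IsSepClosure (ResidueField R) (ResidueField S) := hS.isSepClosure

/-- Any strict henselization of `R` is isomorphic to `Hens R (ResidueField S)`. -/
def equivOfIsStrictHenselization : S ≃ₐ[R] Hens R (ResidueField S) := by
  haveI : HenselianLocalRing S := hS.henselian
  let H := Hens R (ResidueField S)
  let ρ : ResidueField H ≃ₐ[ResidueField R] ResidueField S := Hens.resEquiv R (ResidueField S)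
  have hρ : ∀ z : H, ρ (residue H z) = Hens.γ z := fun z => Hens.resEquiv_residue z
  have c1 : ρ.symm.toAlgHom.toRingHom.comp (ResidueField.map (algebraMap R S)) =
      ResidueField.map (algebraMap R H) := by
    apply Ideal.Quotient.ringHom_ext
    ext r
    show ρ.symm (residue S (algebraMap R S r)) = residue H (algebraMap R H r)
    rw [AlgEquiv.symm_apply_eq, hρ, Hens.γ_algebraMap]
    rfl
  have c2 : ρ.toAlgHom.toRingHom.comp (ResidueField.map (algebraMap R H)) =
      ResidueField.map (algebraMap R S) := by
    apply Ideal.Quotient.ringHom_ext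
    ext r
    show ρ (residue H (algebraMap R H r)) = residue S (algebraMap R S r)
    rw [hρ, Hens.γ_algebraMap]
    rfl
  have h1 := hS.universal H (algebraMap R H) ρ.symm.toAlgHom.toRingHom c1
  have h2 := (isStrictHenselization (R := R) (Ω := ResidueField S)).universal S (algebraMap R S)
    ρ.toAlgHom.toRingHom c2
  have h3 := hS.universal S (algebraMap R S) (RingHom.id _) (by ext; rfl)
  have h4 := (isStrictHenselization (R := R) (Ω := ResidueField S)).universal H (algebraMap R H)
    (RingHom.id _) (by ext; rfl)
  let g := h1.choose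
  have hg : g.comp (algebraMap R S) = algebraMap R H := h1.choose_spec.1.1
  have hgr : ∀ x, residue H (g x) = ρ.symm (residue S x) := h1.choose_spec.1.2
  let g' := h2.choose
  have hg' : g'.comp (algebraMap R H) = algebraMap R S := h2.choose_spec.1.1
  have hgr' : ∀ x, residue S (g' x) = ρ (residue H x) := h2.choose_spec.1.2
  have e1 : g'.comp g = RingHom.id S := by
    refine h3.unique ⟨?_, fun x => ?_⟩ ⟨rfl, fun x => rfl⟩
    · rw [RingHom.comp_assoc, hg, hg']
    · rw [RingHom.comp_apply, hgr', hgr, AlgEquiv.apply_symm_apply]
      rfl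
  have e2 : g.comp g' = RingHom.id H := by
    refine h4.unique ⟨?_, fun x => ?_⟩ ⟨rfl, fun x => rfl⟩
    · rw [RingHom.comp_assoc, hg', hg]
    · rw [RingHom.comp_apply, hgr, hgr', AlgEquiv.symm_apply_apply]
      rfl
  exact
    { toFun := g
      invFun := g'
      left_inv := fun x => congr($e1 x)
      right_inv := fun x => congr($e2 x)
      map_mul' := map_mul g
      map_add' := map_add g
      commutes' := fun r => congr($hg r) }

theorem map_maximalIdeal_of_isStrictHenselization :
    (maximalIdeal R).map (algebraMap R S) = maximalIdeal S :=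
  map_maximalIdeal_of_algEquiv (equivOfIsStrictHenselization R S)

theorem faithfullyFlat_of_isStrictHenselization : Module.FaithfullyFlat R S :=
  faithfullyFlat_of_algEquiv (equivOfIsStrictHenselization R S)

end Groth.Agent.Helper1.Hens
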