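import Mathlib
import Groth.Agent.Helper1.HensStrictTransfer

/-!
# Krull dimension of `Hens R Ω`
-/

set_option autoImplicit false
set_option linter.dupNamespace false

universe u

noncomputable section

namespace Groth.Agent.Helper1.Hens

open IsLocalRing TensorProduct Polynomial

/-- A faithfully flat algebra has at least the dimension of the base. -/
theorem ringKrullDim_le_of_faithfullyFlat (R S : Type*) [CommRing R] [CommRing S] [Algebra R S]
    [Module.FaithfullyFlat R S] : ringKrullDim R ≤ ringKrullDim S := by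
  haveI : Algebra.HasGoingDown R S := Algebra.HasGoingDown.of_flat
  unfold ringKrullDim Order.krullDim
  refine iSup_le fun l => ?_
  obtain ⟨P, hP⟩ := PrimeSpectrum.comap_surjective_of_faithfullyFlat (A := R) (B := S) l.last
  haveI : P.asIdeal.LiesOver l.last.asIdeal := ⟨by rw [← hP]; rfl⟩
  obtain ⟨L, hL, -, -⟩ := Ideal.exists_ltSeries_of_hasGoingDown l P.asIdeal
  rw [← hL]
  exact le_iSup (fun p : LTSeries (PrimeSpectrum S) => (p.length : WithBot ℕ∞)) L

variable {R : Type u} [CommRing R] {Ω : Type u} [Field Ω] [Algebra R Ω]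

/-- Incomparability for `Hens R Ω` over `R`. -/
theorem Hens.eq_of_le_of_under_eq (P Q : Ideal (Hens R Ω)) [P.IsPrime] [Q.IsPrime]
    (h₁ : P ≤ Q) (h₂ : P.under R = Q.under R) : P = Q := by
  refine le_antisymm h₁ fun x hx => ?_
  obtain ⟨C, _, _, _, γ, c, rfl⟩ := Hens.exists_ι_eq x
  have h3 : P.comap (Hens.ι γ) = Q.comap (Hens.ι γ) := by
    refine Algebra.QuasiFinite.eq_of_le_of_under_eq (R := R) _ _ (Ideal.comap_mono h₁) ?_
    ext r
    have e1 := SetLike.ext_iff.1 h₂ r
    simp only [Ideal.under, Ideal.mem_comap, AlgHom.commutes] at e1 ⊢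
    exact e1
  have : c ∈ Q.comap (Hens.ι γ) := hx
  rw [← h3] at this
  exact this

theorem Hens.ringKrullDim_le : ringKrullDim (Hens R Ω) ≤ ringKrullDim R := by
  refine Order.krullDim_le_of_strictMono (PrimeSpectrum.comap (algebraMap R (Hens R Ω))) ?_
  intro P Q hPQ
  refine lt_of_le_of_ne (Ideal.comap_mono (f := algebraMap R (Hens R Ω)) hPQ.le) ?_
  intro h
  have h2 : P.asIdeal.under R = Q.asIdeal.under R := congr($(h).asIdeal)
  have := Hens.eq_of_le_of_under_eq P.asIdeal Q.asIdeal hPQ.le h2
  exact hPQ.ne (PrimeSpectrum.ext this)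

theorem Hens.ringKrullDim_eq [IsLocalRing R] [IsLocalHom (algebraMap R Ω)] :
    ringKrullDim (Hens R Ω) = ringKrullDim R :=
  le_antisymm Hens.ringKrullDim_le (ringKrullDim_le_of_faithfullyFlat R (Hens R Ω))

theorem ringKrullDim_of_isHenselization (R : Type u) [CommRing R] [IsLocalRing R]
    (S : Type u) [CommRing S] [IsLocalRing S] [Algebra R S]
    [IsLocalHom (algebraMap R S)] [Hensel.IsHenselization R S] :
    ringKrullDim S = ringKrullDim R := by
  rw [ringKrullDim_eq_of_ringEquiv (equivOfIsHenselization (R := R) S).toRingEquiv]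
  exact Hens.ringKrullDim_eq

theorem ringKrullDim_of_isStrictHenselization (R : Type u) [CommRing R] [IsLocalRing R]
    (S : Type u) [CommRing S] [IsLocalRing S] [Algebra R S]
    [IsLocalHom (algebraMap R S)] [Hensel.IsStrictHenselization R S] :
    ringKrullDim S = ringKrullDim R := by
  rw [ringKrullDim_eq_of_ringEquiv (equivOfIsStrictHenselization R S).toRingEquiv]
  exact Hens.ringKrullDim_eq

end Groth.Agent.Helper1.Hens
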