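import Mathlib
import Groth.Agent.Helper1.HensDim
import Groth.Agent.Helper1.FlatUnram
import Groth.Agent.S0543

/-!
# The henselization of a Noetherian local ring is Noetherian
-/

set_option autoImplicit false
set_option linter.dupNamespace false

universe u

noncomputable section

namespace Groth.Agent.Helper1.Hens

open IsLocalRing TensorProduct Polynomial

/-- Noetherianity descends along faithfully flat ring maps. -/
theorem isNoetherianRing_of_faithfullyFlat (R S : Type*) [CommRing R] [CommRing S] [Algebra R S]
    [Module.FaithfullyFlat R S] [IsNoetherianRing S] : IsNoetherianRing R := by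
  rw [isNoetherianRing_iff, ← monotone_stabilizes_iff_noetherian]
  intro f
  let g : ℕ →o Ideal S := ⟨fun n => Ideal.map (algebraMap R S) (f n : Ideal R), fun a b hab =>
    Ideal.map_mono (f.monotone hab)⟩
  obtain ⟨n, hn⟩ := (monotone_stabilizes_iff_noetherian (R := S) (M := S)).2 inferInstance g
  refine ⟨n, fun m hm => ?_⟩
  have := hn m hm
  have h1 : (Ideal.map (algebraMap R S) (f n : Ideal R)).comap (algebraMap R S) =
      (Ideal.map (algebraMap R S) (f m : Ideal R)).comap (algebraMap R S) :=
    congr(Ideal.comap (algebraMap R S) $this)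
  rwa [Ideal.comap_map_eq_self_of_faithfullyFlat, Ideal.comap_map_eq_self_of_faithfullyFlat] at h1

variable {R : Type u} [CommRing R] {Ω : Type u} [Field Ω] [Algebra R Ω]

/-- An algebra over `Hens R Ω` which is flat over every stage is flat. -/
theorem Hens.flat_of_flat_stages (T : Type*) [CommRing T] [Algebra (Hens R Ω) T]
    (h : ∀ i : Idx R Ω,
      letI : Algebra i.L T := ((algebraMap (Hens R Ω) T).comp (Hens.of i)).toAlgebra
      Module.Flat i.L T) : Module.Flat (Hens R Ω) T := by
  apply Module.Flat.of_forall_isTrivialRelation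
  intro l f x hfx
  obtain ⟨i, f', hf'⟩ := Hens.exists_of_family f
  letI : Algebra i.L T := ((algebraMap (Hens R Ω) T).comp (Hens.of i)).toAlgebra
  haveI : Module.Flat i.L T := h i
  have hsmul : ∀ (y : i.L) (z : T), y • z = Hens.of i y • z := fun y z => by
    rw [Algebra.smul_def, Algebra.smul_def]; rfl
  have h3 : ∑ k, f' k • x k = 0 := by
    rw [← hfx]
    exact Finset.sum_congr rfl fun k _ => by rw [hsmul, hf']
  obtain ⟨m, a, y, hy1, hy2⟩ := Module.Flat.isTrivialRelation_of_sum_smul_eq_zero (R := i.L)
    (M := T) (f := f') (x := x) h3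
  refine ⟨m, fun k n => Hens.of i (a k n), y, fun k => ?_, fun n => ?_⟩
  · rw [hy1 k]
    exact Finset.sum_congr rfl fun n _ => hsmul _ _
  · rw [← map_zero (Hens.of i), ← hy2 n, map_sum]
    exact Finset.sum_congr rfl fun k _ => by rw [map_mul, hf']

/-- A local ring complete with respect to its maximal ideal is henselian. -/
theorem henselianLocalRing_of_isAdicComplete (A : Type*) [CommRing A] [IsLocalRing A]
    [IsAdicComplete (maximalIdeal A) A] : HenselianLocalRing A where
  is_henselian f hf a₀ h₁ h₂ :=
    HenselianRing.is_henselian (I := maximalIdeal A) f hf a₀ h₁ (h₂.map _)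

section Noeth

variable (R : Type u) [CommRing R] [IsLocalRing R] [IsNoetherianRing R]

instance : IsNoetherianRing (AdicCompletion (maximalIdeal R) R) :=
  Groth.Agent.S0543.result R (maximalIdeal R)

instance : HenselianLocalRing (AdicCompletion (maximalIdeal R) R) :=
  henselianLocalRing_of_isAdicComplete _

/-- The henselization of a Noetherian local ring is Noetherian. -/
theorem Hh.isNoetherianRing : IsNoetherianRing (Hh R) := by
  let T := AdicCompletion (maximalIdeal R) R
  have hτ : ∀ r, ResidueField.map (algebraMap R T) (algebraMap R (ResidueField R) r) =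
      residue T (algebraMap R T r) := fun r => ResidueField.map_residue _ r
  let ψ : Hh R →ₐ[R] T := Hens.lift (ResidueField.map (algebraMap R T)) hτ
  letI : Algebra (Hh R) T := ψ.toRingHom.toAlgebra
  haveI : IsLocalHom (algebraMap (Hh R) T) := by
    constructor
    intro z hz
    have h1 : IsUnit (residue T (ψ z)) := hz.map (residue T)
    rw [Hens.residue_lift, isUnit_iff_ne_zero, Ne, map_eq_zero] at h1
    exact (Hens.isUnit_iff z).2 h1
  haveI : Module.Flat (Hh R) T := by
    refine Hens.flat_of_flat_stages T fun i => ?_
    exact FlatUnram.flat_of_algHom (ψ.comp (Hens.ofAlg i))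
  haveI : Module.FaithfullyFlat (Hh R) T := Module.FaithfullyFlat.of_flat_of_isLocalHom
  exact isNoetherianRing_of_faithfullyFlat (Hh R) T

end Noeth

end Groth.Agent.Helper1.Hens
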