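import Mathlib
import Groth.Agent.Helper1.HensNoeth
import Groth.Agent.Helper1.CompletionFlat
import Groth.Agent.Helper1.HensStrictTransfer

/-!
# `Hens R Ω` is Noetherian for a Noetherian local ring `R` (in particular the strict henselization)
-/

set_option autoImplicit false
set_option linter.dupNamespace false

universe u

noncomputable section

namespace Groth.Agent.Helper1.Hens

open IsLocalRing TensorProduct Polynomial

variable (R : Type u) [CommRing R] (Ω : Type u) [Field Ω] [Algebra R Ω]
  [IsLocalRing R] [IsNoetherianRing R] [IsLocalHom (algebraMap R Ω)]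

/-- `Hens R Ω` is Noetherian when `R` is a Noetherian local ring. -/
theorem Hens.isNoetherianRing : IsNoetherianRing (Hens R Ω) := by
  have hm := Hens.map_maximalIdeal (R := R) (Ω := Ω)
  have hfg := CompletionFlat.maximalIdeal_fg R (Hens R Ω) hm
  haveI := AdicCompletion.isLocalRing_of_fg hfg
  haveI : IsNoetherianRing (AdicCompletion (maximalIdeal (Hens R Ω)) (Hens R Ω)) :=
    CompletionFlat.isNoetherianRing_completion R (Hens R Ω) hm
  haveI : Module.Flat R (AdicCompletion (maximalIdeal (Hens R Ω)) (Hens R Ω)) :=
    CompletionFlat.flat_completion R (Hens R Ω) hm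
  haveI : IsLocalHom (algebraMap (Hens R Ω) (AdicCompletion (maximalIdeal (Hens R Ω)) (Hens R Ω))) :=
    AdicCompletion.algebraMap_isLocalHom_of_fg hfg
  haveI : Module.Flat (Hens R Ω) (AdicCompletion (maximalIdeal (Hens R Ω)) (Hens R Ω)) := by
    refine Hens.flat_of_flat_stages _ fun i => ?_
    exact FlatUnram.flat_of_algHom ((IsScalarTower.toAlgHom R (Hens R Ω)
      (AdicCompletion (maximalIdeal (Hens R Ω)) (Hens R Ω))).comp (Hens.ofAlg i))
  haveI : Module.FaithfullyFlat (Hens R Ω)
      (AdicCompletion (maximalIdeal (Hens R Ω)) (Hens R Ω)) :=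
    Module.FaithfullyFlat.of_flat_of_isLocalHom
  exact isNoetherianRing_of_faithfullyFlat (Hens R Ω)
    (AdicCompletion (maximalIdeal (Hens R Ω)) (Hens R Ω))


/-- Any strict henselization of a Noetherian local ring is Noetherian. -/
theorem isNoetherianRing_of_isStrictHenselization (S : Type u) [CommRing S] [IsLocalRing S]
    [Algebra R S] [IsLocalHom (algebraMap R S)] [Hensel.IsStrictHenselization R S] :
    IsNoetherianRing S :=
  haveI := Hens.isNoetherianRing R (ResidueField S)
  isNoetherianRing_of_ringEquiv _ (equivOfIsStrictHenselization R S).symm.toRingEquiv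

end Groth.Agent.Helper1.Hens
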