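import Groth.Agent.Helper1.PicLoc3
import Groth.Agent.Helper1.HensCouple2
import Groth.Agent.Lead.Ref1K
import Groth.Agent.Helper9.Chart17
import Groth.Agent.Helper4.AmpleEventual

set_option autoImplicit false
set_option linter.style.haveILetI false

/-!
# An invertible module trivial on the closed fibre is trivial (`H¹(X₀, O) = 0`, local base)
-/

namespace Groth.Agent.Helper1.PicLoc

open CategoryTheory Limits AlgebraicGeometry Opposite
open Groth.Agent.Helper4 Groth.Agent.Helper4.PullSec Groth.Agent.Helper4.PullUnit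

universe u

/-- an invertible module on a scheme flat over `S` is flat over `S` -/
theorem isFlatOver_of_isInvertible {X S : Scheme.{u}} (f : X ⟶ S) [Flat f]
    [LocallyOfFiniteType f] (N : X.Modules)
    (hN : PicF.IsInvertible N) : FlatMod.IsFlatOver f N := by
  intro x
  have h0 : FlatMod.IsFlatOverAt f (Coh.structureModule X) x :=
    (Groth.Agent.Helper9.Chart17.isFlatOver_unit_iff f).mpr inferInstance x
  obtain ⟨e⟩ := (Groth.Agent.Lead.Ref1K.fr1At_of_isInvertible N hN x).nonempty_equiv
  let e' : (Coh.structureModule X).presheaf.stalk x ≃ₗ[X.presheaf.stalk x] N.presheaf.stalk x :=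
    (Groth.Agent.Lead.Hartogs2.unitEquiv x).symm ≪≫ₗ e
  unfold FlatMod.IsFlatOverAt at h0 ⊢
  letI := FlatMod.moduleStalkOver f (Coh.structureModule X) x
  letI := FlatMod.moduleStalkOver f N x
  let e'' : (Coh.structureModule X).presheaf.stalk x ≃ₗ[S.presheaf.stalk (f.base x)]
      N.presheaf.stalk x :=
    { e'.toAddEquiv with
      map_smul' := fun r m => e'.map_smul ((f.stalkMap x).hom r) m }
  exact Module.Flat.of_linearEquiv e''.symm

/-- the range of the first projection in a pullback square -/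
lemma range_of_isPullback {P X Y Z : Scheme.{u}} {i : P ⟶ X} {q : P ⟶ Y} {f : X ⟶ Z}
    {g : Y ⟶ Z} (hsq : IsPullback i q f g) :
    Set.range i = f ⁻¹' Set.range g := by
  have h1 : i = hsq.isoPullback.hom ≫ pullback.fst f g := hsq.isoPullback_hom_fst.symm
  rw [h1, Scheme.Hom.comp_base, TopCat.coe_comp, Set.range_comp,
    Set.range_eq_univ.mpr (inferInstance : Surjective hsq.isoPullback.hom).surj, Set.image_univ,
    Scheme.Pullback.range_fst]

variable (A : Type u) [CommRing A] [IsNoetherianRing A] [IsLocalRing A]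
  (X : Scheme.{u}) [X.Over (Spec (CommRingCat.of A))]
  [IsProper (X ↘ Spec (CommRingCat.of A))]
  {X₀ : Scheme.{u}} {i : X₀ ⟶ X}
  {f₀ : X₀ ⟶ Spec (CommRingCat.of (A ⧸ IsLocalRing.maximalIdeal A))}
  (hsq : IsPullback i f₀ (X ↘ Spec (CommRingCat.of A))
    (Spec.map (CommRingCat.ofHom (Ideal.Quotient.mk (IsLocalRing.maximalIdeal A)))))

include hsq in
/-- sections of `i^* N` lift when `H¹(X₀, i^* N) = 0` -/
theorem surjective_unitN_app_top' (N : X.Modules) (hN : Coh.IsCoh N)
    (hfl : FlatMod.IsFlatOver (X ↘ Spec (CommRingCat.of A)) N)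
    (hvan : Subsingleton (Coh.HH X₀ ((Scheme.Modules.pullback i).obj N) 1)) :
    Function.Surjective ((unitN i N).app ⊤) := by
  haveI : N.IsQuasicoherent := hN.1
  have h2 := surjective_modPowπ_app_top A X hsq N hN hfl hvan
  have hq1 : Form.IsQuot (IsLocalRing.maximalIdeal A)
      (Formal.modPowπ (IsLocalRing.maximalIdeal A) 1 N) := by
    have := Form.isQuot_modPowπ (IsLocalRing.maximalIdeal A) 1 N
    rwa [pow_one] at this
  have hq2 := isQuot_unitN (IsLocalRing.maximalIdeal A) hsq N
  have e : unitN i N =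
      Formal.modPowπ (IsLocalRing.maximalIdeal A) 1 N ≫ (hq1.iso hq2).hom :=
    (hq1.fac_iso_hom hq2).symm
  rw [e]
  intro y
  obtain ⟨z, hz⟩ := h2 ((hq1.iso hq2).inv.app ⊤ y)
  refine ⟨z, ?_⟩
  change (hq1.iso hq2).hom.app ⊤ ((Formal.modPowπ (IsLocalRing.maximalIdeal A) 1 N).app ⊤ z) = y
  rw [hz]
  have h3 : (hq1.iso hq2).inv.app ⊤ ≫ (hq1.iso hq2).hom.app ⊤ = 𝟙 _ := by
    rw [← Scheme.Modules.Hom.comp_app, Iso.inv_hom_id]
    rfl
  exact congrArg (fun k => k.hom y) h3

include hsq in
/-- a section of `N` generating along the closed fibre generates everywhere -/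
theorem isIso_of_isIso_pullSec (N : X.Modules) (hN : PicF.IsInvertible N)
    (φ : Coh.structureModule X ⟶ N) (h : IsIso (pullSec i φ)) : IsIso φ := by
  apply GenLocIso.isIso_of_genLocus_eq_top
  have h1 : CohB1.genLocus _ (pullSec i φ) = ⊤ :=
    Groth.Agent.Helper4.AmpleEventual.genLocus_eq_top_of_isIso _
  rw [genLocus_pullSec i hN φ] at h1
  by_contra hne
  have hD : IsClosed ((CohB1.genLocus N φ : Set X)ᶜ) := (CohB1.genLocus N φ).isOpen.isClosed_compl
  have hne' : ((CohB1.genLocus N φ : Set X)ᶜ).Nonempty := by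
    rw [Set.nonempty_compl]
    intro h'
    apply hne
    ext x
    simp [h']
  obtain ⟨x, hxD, hx⟩ := Groth.Agent.Helper1.HensCouple.exists_mem_of_isClosed A
    (IsLocalRing.maximalIdeal A) (IsLocalRing.maximalIdeal_le_jacobson ⊥)
    (X ↘ Spec (CommRingCat.of A))
    (MorphismProperty.universally_le (P := topologically @IsClosedMap) _
      (IsProper.toUniversallyClosed (f := X ↘ Spec (CommRingCat.of A))).universally_isClosedMap)
    _ hD hne'
  have hx2 : x ∈ Set.range i := by
    rw [range_of_isPullback hsq, Groth.Agent.Helper1.HensCouple.range_specMap_mk]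
    exact hx
  obtain ⟨x₀, rfl⟩ := hx2
  apply hxD
  have : x₀ ∈ i ⁻¹ᵁ CohB1.genLocus N φ := by rw [h1]; trivial
  exact this

include hsq in
/-- **an invertible module which is trivial on the closed fibre is trivial** (flat proper over a
Noetherian local ring, `H¹(X₀, O) = 0`) -/
theorem nonempty_iso_unit_of_fibre [Flat (X ↘ Spec (CommRingCat.of A))]
    (h1 : Subsingleton (Coh.HH X₀ (Coh.structureModule X₀) 1))
    (N : X.Modules) (hN : PicF.IsInvertible N)
    (e₀ : (Scheme.Modules.pullback i).obj N ≅ Coh.structureModule X₀) :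
    Nonempty (N ≅ Coh.structureModule X) := by
  have hcoh : Coh.IsCoh N := Groth.Agent.Lead.Ref1K.isCoh_of_isInvertible N hN
  have hfl := isFlatOver_of_isInvertible (X ↘ Spec (CommRingCat.of A)) N hN
  have hvan : Subsingleton (Coh.HH X₀ ((Scheme.Modules.pullback i).obj N) 1) := by
    haveI : Subsingleton ((CohIII.HAb X₀ 1).obj (Coh.structureModule X₀)) := h1
    exact ((CohIII.HAb X₀ 1).mapIso e₀).addCommGroupIsoToAddEquiv.toEquiv.subsingleton
  have hs := surjective_unitN_app_top' A X hsq N hcoh hfl hvan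
  obtain ⟨φ, hφ⟩ := exists_pullSec_eq i N hs e₀.inv
  haveI : IsIso φ := isIso_of_isIso_pullSec A X hsq N hN φ (by rw [hφ]; infer_instance)
  exact ⟨(asIso φ).symm⟩

end Groth.Agent.Helper1.PicLoc
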