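import Mathlib

/-!
# Alternating sums of lengths along a long exact sequence
-/

set_option autoImplicit false

namespace Groth.Agent.Helper1.EulerLen

open Finset

universe v

variable {R : Type*} [Ring R]

/-- the length as an integer -/
noncomputable def ℓ (R : Type*) [Ring R] (M : Type*) [AddCommGroup M] [Module R M] : ℤ :=
  ((Module.length R M).toNat : ℤ)

section Basic

variable {M₁ M₂ M₃ : Type*} [AddCommGroup M₁] [AddCommGroup M₂] [AddCommGroup M₃]
  [Module R M₁] [Module R M₂] [Module R M₃]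

theorem length_eq_ker_add_range (u : M₁ →ₗ[R] M₂) :
    Module.length R M₁ = Module.length R (LinearMap.ker u) + Module.length R (LinearMap.range u) := by
  refine Module.length_eq_add_of_exact (LinearMap.ker u).subtype u.rangeRestrict
    (Submodule.injective_subtype _) u.surjective_rangeRestrict ?_
  rw [LinearMap.exact_iff]
  ext x
  simp [LinearMap.mem_ker, Subtype.ext_iff]

theorem length_eq_range_add_range (u : M₁ →ₗ[R] M₂) (v : M₂ →ₗ[R] M₃) (h : Function.Exact u v) :
    Module.length R M₂ = Module.length R (LinearMap.range u) + Module.length R (LinearMap.range v) := by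
  rw [length_eq_ker_add_range v, LinearMap.exact_iff.1 h]

theorem ℓ_add {a b c : ℕ∞} (h : a = b + c) (ha : a ≠ ⊤) :
    ((a.toNat : ℤ)) = (b.toNat : ℤ) + (c.toNat : ℤ) := by
  have hb : b ≠ ⊤ := by rintro rfl; simp at h; exact ha h
  have hc : c ≠ ⊤ := by rintro rfl; simp at h; exact ha h
  rw [h, ENat.toNat_add hb hc]
  push_cast
  rfl

theorem ℓ_eq_range_add_range (u : M₁ →ₗ[R] M₂) (v : M₂ →ₗ[R] M₃) (h : Function.Exact u v)
    (hfin : Module.length R M₂ ≠ ⊤) :
    ℓ R M₂ = ℓ R (LinearMap.range u) + ℓ R (LinearMap.range v) :=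
  ℓ_add (length_eq_range_add_range u v h) hfin

theorem ℓ_eq_of_injective (u : M₁ →ₗ[R] M₂) (h : Function.Injective u) :
    ℓ R M₁ = ℓ R (LinearMap.range u) := by
  unfold ℓ
  rw [(LinearEquiv.ofInjective u h).length_eq]

theorem ℓ_eq_zero_of_subsingleton [Subsingleton M₁] : ℓ R M₁ = 0 := by
  unfold ℓ
  rw [Module.length_eq_zero]
  rfl

theorem ℓ_range_eq_zero (u : M₁ →ₗ[R] M₂) [Subsingleton M₂] : ℓ R (LinearMap.range u) = 0 :=
  ℓ_eq_zero_of_subsingleton

end Basic

section LES

variable {A B C : ℕ → Type v} [∀ j, AddCommGroup (A j)] [∀ j, AddCommGroup (B j)]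
  [∀ j, AddCommGroup (C j)] [∀ j, Module R (A j)] [∀ j, Module R (B j)] [∀ j, Module R (C j)]
  (f : ∀ j, A j →ₗ[R] B j) (g : ∀ j, B j →ₗ[R] C j) (d : ∀ j, C j →ₗ[R] A (j + 1))
  (hfg : ∀ j, Function.Exact (f j) (g j)) (hgd : ∀ j, Function.Exact (g j) (d j))
  (hdf : ∀ j, Function.Exact (d j) (f (j + 1))) (hf0 : Function.Injective (f 0))
  (hA : ∀ j, Module.length R (A j) ≠ ⊤) (hB : ∀ j, Module.length R (B j) ≠ ⊤)
  (hC : ∀ j, Module.length R (C j) ≠ ⊤)

/-- the error term -/
noncomputable def E : ℕ → ℤ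
  | 0 => 0
  | (j + 1) => ℓ R (LinearMap.range (d j))

include hfg hgd hdf hf0 hA hB hC in
theorem step (j : ℕ) : ℓ R (B j) - ℓ R (A j) - ℓ R (C j) = - E d j - E d (j + 1) := by
  have hb := ℓ_eq_range_add_range (f j) (g j) (hfg j) (hB j)
  have hc := ℓ_eq_range_add_range (g j) (d j) (hgd j) (hC j)
  have ha : ℓ R (A j) = E d j + ℓ R (LinearMap.range (f j)) := by
    cases j with
    | zero =>
      show _ = 0 + _
      rw [zero_add]
      exact ℓ_eq_of_injective (f 0) hf0
    | succ j => exact ℓ_eq_range_add_range (d j) (f (j + 1)) (hdf j) (hA (j + 1))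
  show _ = - E d j - ℓ R (LinearMap.range (d j))
  rw [hb, hc, ha]
  ring

include hfg hgd hdf hf0 hA hB hC in
theorem sum_eq (N : ℕ) :
    ∑ j ∈ range N, (-1 : ℤ) ^ j * (ℓ R (B j) - ℓ R (A j) - ℓ R (C j)) = (-1) ^ N * E d N := by
  induction N with
  | zero => simp [E]
  | succ N ih =>
    rw [sum_range_succ, ih, step f g d hfg hgd hdf hf0 hA hB hC N, pow_succ]
    ring

include hfg hgd hdf hf0 hA hB hC in
/-- **additivity of the Euler characteristic along a long exact sequence** -/
theorem euler_additive (N : ℕ) (hN : Subsingleton (A N)) :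
    ∑ j ∈ range N, (-1 : ℤ) ^ j * ℓ R (B j) =
      ∑ j ∈ range N, (-1 : ℤ) ^ j * ℓ R (A j) + ∑ j ∈ range N, (-1 : ℤ) ^ j * ℓ R (C j) := by
  have h := sum_eq f g d hfg hgd hdf hf0 hA hB hC N
  have hE : E d N = 0 := by
    cases N with
    | zero => rfl
    | succ N => exact ℓ_range_eq_zero (d N)
  rw [hE, mul_zero] at h
  simp only [mul_sub, sum_sub_distrib] at h
  linarith

end LES

end Groth.Agent.Helper1.EulerLen
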