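import Mathlib
import Groth.Agent.Helper1.EulerLen
import Groth.Agent.Helper1.KzChase

/-!
# The Euler characteristic of a module with finite-length cohomology
-/

set_option autoImplicit false
set_option linter.style.haveILetI false
set_option linter.unusedSectionVars false

namespace Groth.Agent.Helper1.EulerCoh

open CategoryTheory Limits AlgebraicGeometry Opposite Abelian Finset
open Groth.Agent.Helper1.HHLes Groth.Agent.Helper1.ProjTop Groth.Agent.Helper1.HHSum
  Groth.Agent.Helper1.EulerLen Groth.Agent.Helper1.SerreCrit Groth.Agent.Helper1.KzChase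

universe u

variable (A : Type u) [CommRing A] {X : Scheme.{u}} [X.Over (Spec (CommRingCat.of A))]

/-- finite-length cohomology, vanishing in degrees `≥ N` -/
def FinLen (N : ℕ) (M : X.Modules) : Prop :=
  (∀ j, Module.length A (Coh.HH X M j) ≠ ⊤) ∧ ∀ j, N ≤ j → Subsingleton (Coh.HH X M j)

/-- the Euler characteristic (truncated at `N`) -/
noncomputable def chi (N : ℕ) (M : X.Modules) : ℤ :=
  ∑ j ∈ range N, (-1 : ℤ) ^ j * ℓ A (Coh.HH X M j)

variable {A}

theorem finLen_of_iso {M M' : X.Modules} (e : M ≅ M') (N : ℕ) (h : FinLen A N M) :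
    FinLen A N M' := by
  refine ⟨fun j => ?_, fun j hj => ?_⟩
  · rw [← (HHlinEquiv A e j).length_eq]
    exact h.1 j
  · haveI := h.2 j hj
    exact (HHlinEquiv A e j).symm.toEquiv.subsingleton

theorem chi_of_iso {M M' : X.Modules} (e : M ≅ M') (N : ℕ) : chi A N M = chi A N M' := by
  unfold chi
  refine sum_congr rfl (fun j _ => ?_)
  unfold ℓ
  rw [(HHlinEquiv A e j).length_eq]

theorem finLen_of_isZero {M : X.Modules} (h : IsZero M) (N : ℕ) : FinLen A N M := by
  refine ⟨fun j => ?_, fun j _ => subsingleton_HH_of_isZero h j⟩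
  haveI := subsingleton_HH_of_isZero h j
  rw [Module.length_eq_zero]
  exact ENat.zero_ne_top

theorem chi_of_isZero {M : X.Modules} (h : IsZero M) (N : ℕ) : chi A N M = 0 := by
  unfold chi
  refine sum_eq_zero (fun j _ => ?_)
  haveI := subsingleton_HH_of_isZero h j
  rw [ℓ_eq_zero_of_subsingleton, mul_zero]

/-- `H⁰` is left exact -/
theorem injective_HHlin_zero {F G : X.Modules} (φ : F ⟶ G) [Mono φ] :
    Function.Injective (Canon.HHlin A φ 0) := by
  rw [injective_iff_map_eq_zero]
  intro x hx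
  have hmono : Mono ((toAbF X).map φ) := inferInstance
  obtain ⟨a, rfl⟩ := (Ext.mk₀_bijective _ _).2 (show Ext _ ((toAbF X).obj F) 0 from x)
  have h1 : (Ext.mk₀ a).comp (Ext.mk₀ ((toAbF X).map φ)) (add_zero 0) = 0 := hx
  rw [Ext.mk₀_comp_mk₀] at h1
  have h2 : a ≫ (toAbF X).map φ = 0 := by
    apply (Ext.mk₀_bijective _ _).1
    rw [h1, Ext.mk₀_zero]
  have h3 : a = 0 := by
    rw [← cancel_mono ((toAbF X).map φ), h2, zero_comp]
  rw [h3]
  exact Ext.mk₀_zero (C := CohTop.Ab X) _ _

/-- **additivity of the Euler characteristic** -/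
theorem chi_additive (S : ShortComplex X.Modules) (hS : S.ShortExact) (N : ℕ)
    (h₁ : FinLen A N S.X₁) (h₂ : FinLen A N S.X₂) (h₃ : FinLen A N S.X₃) :
    chi A N S.X₂ = chi A N S.X₁ + chi A N S.X₃ := by
  haveI := hS.mono_f
  exact euler_additive (R := A) (A := fun j => Coh.HH X S.X₁ j) (B := fun j => Coh.HH X S.X₂ j)
    (C := fun j => Coh.HH X S.X₃ j)
    (fun j => Canon.HHlin A S.f j) (fun j => Canon.HHlin A S.g j) (fun j => δ A S hS j)
    (fun j => exact_f_g A S hS j) (fun j => exact_g_δ A S hS j) (fun j => exact_δ_f A S hS j)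
    (injective_HHlin_zero S.f) h₁.1 h₂.1 h₃.1 N (h₁.2 N le_rfl)

section Sigma

variable {k : ℕ} (M : Fin k → X.Modules)

/-- cohomology commutes with finite coproducts -/
noncomputable def sigmaEquiv (n : ℕ) :
    Coh.HH X (∐ M) n ≃ₗ[A] (∀ j, Coh.HH X (M j) n) where
  toFun x j := Canon.HHlin A (proj M j) n x
  map_add' x y := by
    funext j
    exact map_add _ _ _
  map_smul' a x := by
    funext j
    exact map_smul _ _ _
  invFun y := ∑ j, Canon.HHlin A (Sigma.ι M j) n (y j)
  left_inv x := by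
    have h1 : ((Hn X n).map (∑ j, proj M j ≫ Sigma.ι M j)).hom x =
        ((Hn X n).map (𝟙 (∐ M))).hom x :=
      congrArg (fun f => ((Hn X n).map f).hom x) (sum_proj_ι M)
    rw [CategoryTheory.Functor.map_sum, hom_sum_apply, CategoryTheory.Functor.map_id] at h1
    refine Eq.trans ?_ (Eq.trans h1 ?_)
    · refine Finset.sum_congr rfl (fun j _ => ?_)
      rw [CategoryTheory.Functor.map_comp]
      rfl
    · rfl
  right_inv y := by
    funext j'
    show Canon.HHlin A (proj M j') n (∑ j, Canon.HHlin A (Sigma.ι M j) n (y j)) = y j'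
    rw [map_sum, Finset.sum_eq_single j']
    · have h1 : Canon.HHlin A (proj M j') n (Canon.HHlin A (Sigma.ι M j') n (y j')) =
          ((Hn X n).map (Sigma.ι M j' ≫ proj M j')).hom (y j') := by
        rw [CategoryTheory.Functor.map_comp]
        rfl
      rw [h1, ι_proj, dif_pos rfl, eqToHom_refl, CategoryTheory.Functor.map_id]
      rfl
    · intro j _ hj
      have h1 : Canon.HHlin A (proj M j') n (Canon.HHlin A (Sigma.ι M j) n (y j)) =
          ((Hn X n).map (Sigma.ι M j ≫ proj M j')).hom (y j) := by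
        rw [CategoryTheory.Functor.map_comp]
        rfl
      rw [h1, ι_proj, dif_neg hj, CategoryTheory.Functor.map_zero]
      rfl
    · intro h
      exact absurd (Finset.mem_univ _) h

theorem length_sigma (n : ℕ) :
    Module.length A (Coh.HH X (∐ M) n) = ∑ j, Module.length A (Coh.HH X (M j) n) := by
  rw [(sigmaEquiv M n).length_eq, Module.length_pi_of_fintype]

theorem finLen_sigma (N : ℕ) (h : ∀ j, FinLen A N (M j)) : FinLen A N (∐ M) := by
  refine ⟨fun n => ?_, fun n hn => ?_⟩
  · rw [length_sigma]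
    exact ENat.sum_ne_top.2 (fun j _ => (h j).1 n)
  · haveI : ∀ j, Subsingleton (Coh.HH X (M j) n) := fun j => (h j).2 n hn
    exact (sigmaEquiv (A := A) M n).toEquiv.subsingleton

end Sigma

theorem chi_sigma_const (c : ℕ) (M : X.Modules) (N : ℕ) :
    chi A N (∐ fun _ : Fin c => M) = c * chi A N M := by
  unfold chi
  rw [mul_sum]
  refine sum_congr rfl (fun n _ => ?_)
  unfold ℓ
  rw [length_sigma]
  simp only [sum_const, card_univ, Fintype.card_fin]
  have : (c • Module.length A (Coh.HH X M n)).toNat = c * (Module.length A (Coh.HH X M n)).toNat := by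
    rw [nsmul_eq_mul, ENat.toNat_mul]
    rfl
  rw [this]
  push_cast
  ring

section Complex

variable (C : ℕ → X.Modules) (d : ∀ p, C (p + 1) ⟶ C p)
  (hd : ∀ p, d (p + 1) ≫ d p = 0)
  (hex : ∀ p, (ShortComplex.mk (d (p + 1)) (d p) (hd p)).Exact)
  (N : ℕ) (hC : ∀ p, FinLen A N (C p)) (hZ : ∀ p, FinLen A N (kernel (d p)))

include hex hC hZ in
theorem chi_succ_succ (p : ℕ) :
    chi A N (C (p + 2)) = chi A N (kernel (d (p + 1))) + chi A N (kernel (d p)) := by
  let g : C (p + 2) ⟶ kernel (d p) := kernel.lift (d p) (d (p + 1)) (hd p)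
  haveI : Epi g := (ShortComplex.exact_iff_epi_kernel_lift _).1 (hex p)
  have hg : g ≫ kernel.ι (d p) = d (p + 1) := kernel.lift_ι _ _ _
  let e : kernel g ≅ kernel (d (p + 1)) :=
    (kernelCompMono g (kernel.ι (d p))).symm ≪≫ kernelIsoOfEq hg
  have h1 := chi_additive (A := A) (kerSC g) (kerSC_shortExact g) N
    (finLen_of_iso e.symm N (hZ (p + 1))) (hC (p + 2)) (hZ p)
  rw [← chi_of_iso e N]
  exact h1

include hC hZ in
theorem chi_one [Epi (d 0)] : chi A N (C 1) = chi A N (kernel (d 0)) + chi A N (C 0) :=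
  chi_additive (A := A) (kerSC (d 0)) (kerSC_shortExact (d 0)) N (hZ 0) (hC 1) (hC 0)

include hex hC hZ in
theorem chi_complex_aux [Epi (d 0)] (M : ℕ) :
    ∑ p ∈ range (M + 2), (-1 : ℤ) ^ p * chi A N (C p) =
      (-1) ^ (M + 1) * chi A N (kernel (d M)) := by
  induction M with
  | zero =>
    rw [sum_range_succ, sum_range_one, chi_one C d N hC hZ]
    ring
  | succ M ih =>
    rw [sum_range_succ, ih, chi_succ_succ C d hd hex N hC hZ M, pow_succ, pow_succ]
    ring

include hex hC hZ in
/-- **the Euler characteristic of a finite exact complex vanishes** -/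
theorem chi_complex [Epi (d 0)] (r : ℕ) (hzero : ∀ p, r < p → IsZero (C p)) :
    ∑ p ∈ range (r + 2), (-1 : ℤ) ^ p * chi A N (C p) = 0 := by
  rw [chi_complex_aux C d hd hex N hC hZ r]
  have hz : IsZero (kernel (d r)) := IsZero.of_mono (kernel.ι (d r)) (hzero (r + 1) (by omega))
  rw [chi_of_isZero hz, mul_zero]

end Complex

end Groth.Agent.Helper1.EulerCoh
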