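import Mathlib
import Groth.Agent.Helper4.GenLocIso
import Groth.Agent.Helper4.PullSec

/-!
# Universal property of projective space, part 1: ratios of sections of a module
-/

set_option autoImplicit false
set_option linter.style.haveILetI false

namespace Groth.Agent.Helper1.PUP

open CategoryTheory Limits AlgebraicGeometry TopologicalSpace Opposite
open Groth.Agent.Helper4.GenLoc Groth.Agent.Helper4.GenLocIso Groth.Agent.Helper4.StalkExact

universe u

variable {X : Scheme.{u}} {L : X.Modules}

/-- the section over `V` of a map from the structure sheaf -/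
noncomputable def sec (σ : Coh.structureModule X ⟶ L) (V : X.Opens) : Γ(L, V) :=
  σ.app V (one X V)

theorem one_res {V W : X.Opens} (h : V ≤ W) :
    (Coh.structureModule X).presheaf.map (homOfLE h).op (one X W) = one X V :=
  map_one (X.presheaf.map (homOfLE h).op).hom

theorem sec_res (σ : Coh.structureModule X ⟶ L) {V W : X.Opens} (h : V ≤ W) :
    L.presheaf.map (homOfLE h).op (sec σ W) = sec σ V := by
  unfold sec
  rw [← app_res σ (homOfLE h) (one X W), one_res]

theorem app_eq_smul_sec (σ : Coh.structureModule X ⟶ L) (V : X.Opens)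
    (m : Γ(Coh.structureModule X, V)) : σ.app V m = toFn m • sec σ V := by
  have h1 : m = (toFn m) • one X V := (mul_one (toFn m)).symm
  conv_lhs => rw [h1, Scheme.Modules.Hom.app_smul]
  rfl

theorem bijective_app_of_le (σ : Coh.structureModule X ⟶ L) {V : X.Opens}
    (hV : V ≤ CohB1.genLocus L σ) : Function.Bijective (σ.app V) :=
  (isIso_restrict_iff σ _).mp (isIso_restrict_genLocus L σ) V hV

theorem eq_zero_of_smul_sec (σ : Coh.structureModule X ⟶ L) {V : X.Opens}
    (hV : V ≤ CohB1.genLocus L σ) (c : Γ(X, V)) (h : c • sec σ V = 0) : c = 0 := by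
  have h1 : σ.app V (c • one X V) = σ.app V 0 := by
    rw [Scheme.Modules.Hom.app_smul, map_zero]
    exact h
  have h2 := (bijective_app_of_le σ hV).1 h1
  have h3 : toFn (c • one X V) = c := smul_one V c
  rw [h2] at h3
  exact h3.symm

theorem exists_smul_sec (σ : Coh.structureModule X ⟶ L) {V : X.Opens}
    (hV : V ≤ CohB1.genLocus L σ) (t : Γ(L, V)) : ∃ c : Γ(X, V), c • sec σ V = t := by
  obtain ⟨m, hm⟩ := (bijective_app_of_le σ hV).2 t
  exact ⟨toFn m, by rw [← app_eq_smul_sec, hm]⟩

variable {E : Type*} (σ : E → (Coh.structureModule X ⟶ L))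

/-- the open where `σ e` generates -/
noncomputable def XE (e : E) : X.Opens := CohB1.genLocus L (σ e)

/-- the ratio `σ k / σ e` on `XE e` -/
noncomputable def ratio (k e : E) : Γ(X, XE σ e) :=
  (exists_smul_sec (σ e) (le_refl (XE σ e)) (sec (σ k) (XE σ e))).choose

theorem ratio_spec (k e : E) : ratio σ k e • sec (σ e) (XE σ e) = sec (σ k) (XE σ e) :=
  (exists_smul_sec (σ e) (le_refl (XE σ e)) (sec (σ k) (XE σ e))).choose_spec

theorem ratio_res (k e : E) {V : X.Opens} (hV : V ≤ XE σ e) :
    X.presheaf.map (homOfLE hV).op (ratio σ k e) • sec (σ e) V = sec (σ k) V := by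
  have h := congrArg (L.presheaf.map (homOfLE hV).op) (ratio_spec σ k e)
  rw [Scheme.Modules.map_smul, sec_res, sec_res] at h
  exact h

theorem ratio_self (e : E) : ratio σ e e = 1 := by
  have h := ratio_spec σ e e
  have h2 : (ratio σ e e - 1) • sec (σ e) (XE σ e) = 0 := by
    rw [sub_smul, h, one_smul, sub_self]
  exact sub_eq_zero.mp (eq_zero_of_smul_sec (σ e) (le_refl _) _ h2)

theorem ratio_cocycle (k e e' : E) {V : X.Opens} (hV : V ≤ XE σ e) (hV' : V ≤ XE σ e') :
    X.presheaf.map (homOfLE hV').op (ratio σ k e') =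
      X.presheaf.map (homOfLE hV).op (ratio σ k e) *
        X.presheaf.map (homOfLE hV').op (ratio σ e e') := by
  have h1 := ratio_res σ k e' hV'
  have h2 := ratio_res σ k e hV
  have h3 := ratio_res σ e e' hV'
  have h4 : (X.presheaf.map (homOfLE hV').op (ratio σ k e') -
      X.presheaf.map (homOfLE hV).op (ratio σ k e) *
        X.presheaf.map (homOfLE hV').op (ratio σ e e')) • sec (σ e') V = 0 := by
    rw [sub_smul, h1, mul_smul, h3, h2, sub_self]
  exact sub_eq_zero.mp (eq_zero_of_smul_sec (σ e') hV' _ h4)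

theorem ratio_mul_inv (e e' : E) {V : X.Opens} (hV : V ≤ XE σ e) (hV' : V ≤ XE σ e') :
    X.presheaf.map (homOfLE hV).op (ratio σ e' e) *
      X.presheaf.map (homOfLE hV').op (ratio σ e e') = 1 := by
  have h := ratio_cocycle σ e' e e' hV hV'
  rw [ratio_self, map_one] at h
  exact h.symm

end Groth.Agent.Helper1.PUP
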