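import Mathlib
import Groth.Prelude.Def_ProjUP
import Groth.Agent.Helper1.PUP1
import Groth.Agent.Helper4.TwistLocal

/-!
# Universal property of projective space, part 2: generating sections give a cover
-/

set_option autoImplicit false
set_option linter.style.haveILetI false

namespace Groth.Agent.Helper1.PUP

open CategoryTheory Limits AlgebraicGeometry TopologicalSpace Opposite
open Groth.Agent.Helper4.GenLoc Groth.Agent.Helper4.GenLocIso Groth.Agent.Helper4.StalkExact
open Groth.Agent.Helper4.TensorGen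

universe u

variable {X : Scheme.{u}} {L : X.Modules}

theorem germ_eq_zero_of_span {x : X} {U' : X.Opens} (hxU' : x ∈ U') (f₀ : Γ(L, U'))
    {E : Type*} (t : E → Γ(L, ⊤)) (b : E → Γ(X, U'))
    (hb : ∀ e, L.presheaf.map (homOfLE (le_top : U' ≤ ⊤)).op (t e) = b e • f₀)
    (hnu : ∀ e, x ∉ X.basicOpen (b e))
    (hs : Submodule.span (X.presheaf.stalk x)
      (Set.range fun e => (L.presheaf.germ ⊤ x trivial).hom (t e)) = ⊤) :
    (L.presheaf.germ U' x hxU').hom f₀ = 0 := by
  set g₀ := (L.presheaf.germ U' x hxU').hom f₀ with hg₀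
  have hgen : ∀ e, (L.presheaf.germ ⊤ x trivial).hom (t e) =
      (X.presheaf.germ U' x hxU').hom (b e) • g₀ := by
    intro e
    have h1 : (L.presheaf.germ ⊤ x trivial).hom (t e) =
        (L.presheaf.germ U' x hxU').hom (L.presheaf.map (homOfLE (le_top : U' ≤ ⊤)).op (t e)) :=
      (TopCat.Presheaf.germ_res_apply L.presheaf (homOfLE (le_top : U' ≤ ⊤)) x hxU' (t e)).symm
    rw [h1, hb e]
    exact PresheafOfModules.germ_smul (R := X.presheaf) L.val x U' hxU' (b e) f₀
  have hmem : ∀ e, (X.presheaf.germ U' x hxU').hom (b e) ∈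
      IsLocalRing.maximalIdeal (X.presheaf.stalk x) := by
    intro e
    rw [IsLocalRing.mem_maximalIdeal, mem_nonunits_iff]
    intro hu
    exact hnu e ((X.mem_basicOpen (b e) x hxU').2 hu)
  have hle : Submodule.span (X.presheaf.stalk x)
      (Set.range fun e => (L.presheaf.germ ⊤ x trivial).hom (t e)) ≤
      IsLocalRing.maximalIdeal (X.presheaf.stalk x) •
        Submodule.span (X.presheaf.stalk x) {g₀} := by
    rw [Submodule.span_le]
    rintro _ ⟨e, rfl⟩
    have h5 : (X.presheaf.germ U' x hxU').hom (b e) • g₀ ∈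
        IsLocalRing.maximalIdeal (X.presheaf.stalk x) •
          Submodule.span (X.presheaf.stalk x) {g₀} :=
      Submodule.smul_mem_smul (hmem e) (Submodule.mem_span_singleton_self g₀)
    have key : ∀ (a c : ↑(L.presheaf.stalk x)), a = c →
        c ∈ IsLocalRing.maximalIdeal (X.presheaf.stalk x) •
          Submodule.span (X.presheaf.stalk x) {g₀} →
        a ∈ IsLocalRing.maximalIdeal (X.presheaf.stalk x) •
          Submodule.span (X.presheaf.stalk x) {g₀} := fun a c e hc => e ▸ hc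
    exact key _ _ (hgen e) h5
  rw [hs] at hle
  have h2 : g₀ ∈ IsLocalRing.maximalIdeal (X.presheaf.stalk x) •
      Submodule.span (X.presheaf.stalk x) {g₀} := hle trivial
  rw [Submodule.mem_smul_span_singleton] at h2
  obtain ⟨m, hm, hmg⟩ := h2
  have hu : IsUnit (1 - m) := IsLocalRing.isUnit_one_sub_self_of_mem_nonunits m hm
  have h3 : (1 - m) • g₀ = 0 := by rw [sub_smul, one_smul, hmg, sub_self]
  obtain ⟨v, hv⟩ := hu.exists_left_inv
  calc g₀ = (v * (1 - m)) • g₀ := by rw [hv, one_smul]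
    _ = 0 := by rw [mul_smul, h3, smul_zero]

end Groth.Agent.Helper1.PUP

namespace Groth.Agent.Helper1.PUP

open CategoryTheory Limits AlgebraicGeometry TopologicalSpace Opposite
open Groth.Agent.Helper4.GenLoc Groth.Agent.Helper4.GenLocIso Groth.Agent.Helper4.StalkExact
open Groth.Agent.Helper4.TensorGen

universe u

variable {X : Scheme.{u}} {L : X.Modules}

theorem map_map_thin' (G : X.Modules) {V W Z : X.Opens} (i : op V ⟶ op W) (j : op W ⟶ op Z)
    (k : op V ⟶ op Z) (m : Γ(G, V)) :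
    G.presheaf.map j (G.presheaf.map i m) = G.presheaf.map k m := by
  rw [Subsingleton.elim k (i ≫ j), Functor.map_comp]
  rfl

/-- the frame of a trivialisation does not vanish at any point -/
theorem germ_frame_ne_zero (U : X.Opens) (ε : L.restrict U.ι ≅ Coh.structureModule (U : Scheme.{u}))
    (x : X) (hxU : x ∈ U) (hxU' : x ∈ U.ι ''ᵁ ⊤) :
    (L.presheaf.germ (U.ι ''ᵁ ⊤) x hxU').hom
      (show Γ(L, U.ι ''ᵁ ⊤) from ε.inv.app ⊤ (one (U : Scheme.{u}) ⊤)) ≠ 0 := by
  intro h0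
  set f₀ : Γ(L, U.ι ''ᵁ ⊤) := ε.inv.app ⊤ (one (U : Scheme.{u}) ⊤) with hf₀
  have h1 : (L.presheaf.germ (U.ι ''ᵁ ⊤) x hxU').hom f₀ =
      (L.presheaf.germ (U.ι ''ᵁ ⊤) x hxU').hom 0 := by rw [h0, map_zero]
  obtain ⟨W, hxW, iU, iV, hW⟩ := TopCat.Presheaf.germ_eq L.presheaf x hxU' hxU' f₀ 0 h1
  rw [map_zero] at hW
  -- the open of `U`
  let T' : (U : Scheme.{u}).Opens := U.ι ⁻¹ᵁ W
  have hx' : (⟨x, hxU⟩ : U) ∈ T' := hxW
  have hle : U.ι ''ᵁ T' ≤ W := by
    rintro _ ⟨y, hy, rfl⟩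
    exact hy
  have h2 : (L.restrict U.ι).presheaf.map (homOfLE (le_top : T' ≤ ⊤)).op
      (ε.inv.app ⊤ (one (U : Scheme.{u}) ⊤)) = 0 := by
    change L.presheaf.map _ f₀ = 0
    have h3 : L.presheaf.map (homOfLE hle).op (L.presheaf.map iU.op f₀) = 0 := by
      rw [hW, map_zero]
    exact (map_map_thin' L iU.op (homOfLE hle).op _ f₀).symm.trans h3
  rw [← app_res ε.inv (homOfLE (le_top : T' ≤ ⊤)) (one (U : Scheme.{u}) ⊤), one_res] at h2
  have h4 : one (U : Scheme.{u}) T' = 0 := by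
    have := congrArg (ε.hom.app T') h2
    rw [iso_hom_inv_app, map_zero] at this
    exact this
  have h5 : ((U : Scheme.{u}).presheaf.germ T' ⟨x, hxU⟩ hx').hom (1 : Γ((U : Scheme.{u}), T')) = 0 := by
    have h6 : (1 : Γ((U : Scheme.{u}), T')) = 0 := h4
    rw [h6, map_zero]
  rw [map_one] at h5
  exact one_ne_zero h5

theorem exists_mem_XE (hL : PicF.IsInvertible L) {E : Type*}
    (σ : E → (Coh.structureModule X ⟶ L))
    (hs : ProjUP.GeneratedBy L (fun e => (sec (σ e) ⊤ : ProjUP.Γm L))) (x : X) :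
    ∃ e, x ∈ XE σ e := by
  by_contra hcon
  push Not at hcon
  obtain ⟨U, hxU, ⟨ε⟩⟩ := hL x
  have hU' : U.ι ''ᵁ ⊤ = U := Scheme.Opens.ι_image_top U
  have hxU' : x ∈ U.ι ''ᵁ ⊤ := by rw [hU']; exact hxU
  choose b hb hbo using fun e => Groth.Agent.Helper4.TwistLocal.exists_local_frame L (σ e) U ε
  have hnu : ∀ e, x ∉ X.basicOpen (b e) := by
    intro e hx
    rw [← hbo e] at hx
    exact hcon e hx.1
  refine germ_frame_ne_zero U ε x hxU hxU' ?_
  refine germ_eq_zero_of_span hxU' _ (fun e => sec (σ e) ⊤) b ?_ hnu (hs x)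
  intro e
  rw [sec_res]
  exact hb e

theorem iSup_XE_eq_top (hL : PicF.IsInvertible L) {E : Type*}
    (σ : E → (Coh.structureModule X ⟶ L))
    (hs : ProjUP.GeneratedBy L (fun e => (sec (σ e) ⊤ : ProjUP.Γm L))) :
    ⨆ e, XE σ e = ⊤ := by
  rw [eq_top_iff]
  intro x _
  obtain ⟨e, he⟩ := exists_mem_XE hL σ hs x
  exact Opens.mem_iSup.2 ⟨e, he⟩

end Groth.Agent.Helper1.PUP
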