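import Mathlib
import Groth.Agent.Helper1.PUP2
import Groth.Agent.Helper1.TwistExact
import Groth.Agent.Helper4.TwistExt

/-!
# Universal property of projective space, part 3: two modules with the same ratios are isomorphic
-/

set_option autoImplicit false
set_option linter.style.haveILetI false
set_option linter.unusedSectionVars false

namespace Groth.Agent.Helper1.PUP

open CategoryTheory Limits AlgebraicGeometry TopologicalSpace Opposite
open Groth.Agent.Helper4.GenLoc Groth.Agent.Helper4.GenLocIso Groth.Agent.Helper4.StalkExact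

universe u

variable {X : Scheme.{u}}

/-- morphisms agreeing on the members of a cover agree -/
theorem hom_ext_of_cover {K N : X.Modules} (φ ψ : K ⟶ N) {E : Type*} (W : E → X.Opens)
    (hcov : ⨆ e, W e = ⊤)
    (h : ∀ (e : E) (V : X.Opens), V ≤ W e → ∀ m : Γ(K, V), φ.app V m = ψ.app V m) : φ = ψ := by
  apply Scheme.Modules.hom_ext
  intro T
  ext m
  apply Groth.Agent.Helper4.TwistExt.eq_of_cover N T
  intro y hy
  have hy' : y ∈ ⨆ e, W e := by rw [hcov]; trivial
  obtain ⟨e, he⟩ := Opens.mem_iSup.1 hy'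
  refine ⟨T ⊓ W e, inf_le_left, ⟨hy, he⟩, ?_⟩
  rw [← app_res φ (homOfLE (inf_le_left : T ⊓ W e ≤ T)) m,
    ← app_res ψ (homOfLE (inf_le_left : T ⊓ W e ≤ T)) m]
  exact h e _ inf_le_right _

theorem sum_app {K N : X.Modules} {E : Type*} (s : Finset E) (φ : E → (K ⟶ N)) (V : X.Opens)
    (m : Γ(K, V)) : (∑ k ∈ s, φ k).app V m = ∑ k ∈ s, (φ k).app V m := by
  classical
  induction s using Finset.induction_on with
  | empty =>
    rw [Finset.sum_empty, Finset.sum_empty]
    rfl
  | insert a s ha ih =>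
    rw [Finset.sum_insert ha, Finset.sum_insert ha, Scheme.Modules.Hom.add_app]
    change (φ a).app V m + (∑ k ∈ s, φ k).app V m = _
    rw [ih]

end Groth.Agent.Helper1.PUP

namespace Groth.Agent.Helper1.PUP

open CategoryTheory Limits AlgebraicGeometry TopologicalSpace Opposite
open Groth.Agent.Helper4.GenLoc Groth.Agent.Helper4.GenLocIso Groth.Agent.Helper4.StalkExact

universe u

attribute [local instance] CategoryTheory.Abelian.hasFiniteBiproducts

variable {X : Scheme.{u}} {M N : X.Modules} {E : Type} [Fintype E] [DecidableEq E]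
  (σ : E → (Coh.structureModule X ⟶ M)) (σ' : E → (Coh.structureModule X ⟶ N))
  (W : E → X.Opens) (hcov : ⨆ e, W e = ⊤)
  (a : ∀ _ e : E, Γ(X, W e))

/-- the map from the free module -/
noncomputable def descσ : (⨁ fun _ : E => Coh.structureModule X) ⟶ M := biproduct.desc σ

theorem comp_descσ {K : X.Modules} (c : K ⟶ ⨁ fun _ : E => Coh.structureModule X) :
    c ≫ descσ σ = ∑ k, (c ≫ biproduct.π _ k) ≫ σ k := by
  unfold descσ
  conv_lhs => rw [← Category.comp_id c, ← biproduct.total, Preadditive.comp_sum,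
    Preadditive.sum_comp]
  refine Finset.sum_congr rfl fun k _ => ?_
  rw [Category.assoc, Category.assoc, biproduct.ι_desc, Category.assoc]

include hcov in
theorem epi_descσ (hW : ∀ e, W e ≤ CohB1.genLocus M (σ e)) : Epi (descσ σ) := by
  apply Groth.Agent.Helper1.TwistExact.epi_of_local_lift
  intro T t x hx
  have hx' : x ∈ ⨆ e, W e := by rw [hcov]; trivial
  obtain ⟨e, he⟩ := Opens.mem_iSup.1 hx'
  refine ⟨T ⊓ W e, inf_le_left, ⟨hx, he⟩, ?_⟩
  obtain ⟨c, hc⟩ := exists_smul_sec (σ e) (inf_le_right.trans (hW e) : T ⊓ W e ≤ _)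
    (M.presheaf.map (homOfLE (inf_le_left : T ⊓ W e ≤ T)).op t)
  refine ⟨(biproduct.ι (fun _ : E => Coh.structureModule X) e).app (T ⊓ W e)
    (c • one X (T ⊓ W e)), ?_⟩
  rw [← hc]
  have h1 : biproduct.ι (fun _ : E => Coh.structureModule X) e ≫ descσ σ = σ e :=
    biproduct.ι_desc _ _
  rw [← ConcreteCategory.comp_apply, ← Scheme.Modules.Hom.comp_app, h1,
    Scheme.Modules.Hom.app_smul]
  rfl

include hcov in
/-- the asymmetric statement: relations among the `σ k` are relations among the `σ' k` -/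
theorem comp_descσ_eq_zero (hW : ∀ e, W e ≤ CohB1.genLocus M (σ e))
    (ha : ∀ k e, a k e • sec (σ e) (W e) = sec (σ k) (W e))
    (ha' : ∀ k e, a k e • sec (σ' e) (W e) = sec (σ' k) (W e))
    {K : X.Modules} (c : K ⟶ ⨁ fun _ : E => Coh.structureModule X)
    (hc : c ≫ descσ σ = 0) : c ≫ descσ σ' = 0 := by
  apply hom_ext_of_cover _ _ W hcov
  intro e V hV m
  rw [comp_descσ] at hc ⊢
  have key : ∀ {P : X.Modules} (τ : E → (Coh.structureModule X ⟶ P))
      (hτ : ∀ k e, a k e • sec (τ e) (W e) = sec (τ k) (W e)),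
      (∑ k, (c ≫ biproduct.π _ k) ≫ τ k).app V m =
        (∑ k, toFn ((c ≫ biproduct.π (fun _ : E => Coh.structureModule X) k).app V m) *
          X.presheaf.map (homOfLE hV).op (a k e)) • sec (τ e) V := by
    intro P τ hτ
    rw [sum_app, Finset.sum_smul]
    refine Finset.sum_congr rfl fun k _ => ?_
    rw [Scheme.Modules.Hom.comp_app, ConcreteCategory.comp_apply, app_eq_smul_sec, mul_smul]
    congr 1
    have h := congrArg (P.presheaf.map (homOfLE hV).op) (hτ k e)
    rw [Scheme.Modules.map_smul, sec_res, sec_res] at h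
    exact h.symm
  rw [key σ' ha']
  have h0 : (∑ k, (c ≫ biproduct.π _ k) ≫ σ k).app V m = 0 := by
    rw [hc]; rfl
  rw [key σ ha] at h0
  rw [eq_zero_of_smul_sec (σ e) (hV.trans (hW e)) _ h0, zero_smul]
  rfl

include hcov in
theorem exists_iso_of_ratios (hW : ∀ e, W e ≤ CohB1.genLocus M (σ e))
    (hW' : ∀ e, W e ≤ CohB1.genLocus N (σ' e))
    (ha : ∀ k e, a k e • sec (σ e) (W e) = sec (σ k) (W e))
    (ha' : ∀ k e, a k e • sec (σ' e) (W e) = sec (σ' k) (W e)) :
    ∃ τ : N ≅ M, ∀ k, σ' k ≫ τ.hom = σ k := by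
  haveI := epi_descσ σ W hcov hW
  haveI := epi_descσ σ' W hcov hW'
  -- the two maps
  have h1 : kernel.ι (descσ σ') ≫ descσ σ = 0 :=
    comp_descσ_eq_zero σ' σ W hcov a hW' ha' ha _ (kernel.condition _)
  have h2 : kernel.ι (descσ σ) ≫ descσ σ' = 0 :=
    comp_descσ_eq_zero σ σ' W hcov a hW ha ha' _ (kernel.condition _)
  let τ : N ⟶ M := (Abelian.epiIsCokernelOfKernel (KernelFork.ofι _ (kernel.condition (descσ σ')))
    (kernelIsKernel _)).desc (CokernelCofork.ofπ (descσ σ) h1)
  let τ' : M ⟶ N := (Abelian.epiIsCokernelOfKernel (KernelFork.ofι _ (kernel.condition (descσ σ)))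
    (kernelIsKernel _)).desc (CokernelCofork.ofπ (descσ σ') h2)
  have hτ : descσ σ' ≫ τ = descσ σ :=
    (Abelian.epiIsCokernelOfKernel (KernelFork.ofι _ (kernel.condition (descσ σ')))
      (kernelIsKernel _)).fac (CokernelCofork.ofπ (descσ σ) h1) WalkingParallelPair.one
  have hτ' : descσ σ ≫ τ' = descσ σ' :=
    (Abelian.epiIsCokernelOfKernel (KernelFork.ofι _ (kernel.condition (descσ σ)))
      (kernelIsKernel _)).fac (CokernelCofork.ofπ (descσ σ') h2) WalkingParallelPair.one
  refine ⟨⟨τ, τ', ?_, ?_⟩, fun k => ?_⟩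
  · rw [← cancel_epi (descσ σ'), reassoc_of% hτ, hτ', Category.comp_id]
  · rw [← cancel_epi (descσ σ), reassoc_of% hτ', hτ, Category.comp_id]
  · have h3 : biproduct.ι (fun _ : E => Coh.structureModule X) k ≫ descσ σ' = σ' k :=
      biproduct.ι_desc _ _
    have h4 : biproduct.ι (fun _ : E => Coh.structureModule X) k ≫ descσ σ = σ k :=
      biproduct.ι_desc _ _
    show σ' k ≫ τ = σ k
    rw [← h3, Category.assoc, hτ, h4]

end Groth.Agent.Helper1.PUP
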