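import Mathlib
import Groth.Agent.Helper1.PUP3
import Groth.Agent.Helper1.Segre11

/-!
# Universal property of projective space, part 4: the morphism to projective space
-/

set_option autoImplicit false
set_option linter.style.haveILetI false

namespace Groth.Agent.Helper1.PUP

open CategoryTheory Limits AlgebraicGeometry TopologicalSpace Opposite HomogeneousLocalization
open Groth.Agent.Helper1.ProjMor Groth.Agent.Helper1.Segre

universe u

variable {X : Scheme.{u}}

/-- a function on an open, as a global function of the open subscheme -/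
noncomputable def toTop {U : X.Opens} (a : Γ(X, U)) : Γ((U : Scheme.{u}), ⊤) :=
  U.topIso.inv.hom a

theorem topIso_inv_res {U U' : X.Opens} (h : U ≤ U') :
    U'.topIso.inv ≫ (X.homOfLE h).appTop = X.presheaf.map (homOfLE h).op ≫ U.topIso.inv := by
  rw [Scheme.homOfLE_appTop]
  simp only [Scheme.Opens.topIso_inv]
  erw [← Functor.map_comp, ← Functor.map_comp]
  rfl

theorem res_toTop {U U' : X.Opens} (h : U ≤ U') (a : Γ(X, U')) :
    (X.homOfLE h).appTop.hom (toTop a) =
      toTop (X.presheaf.map (homOfLE h).op a) := by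
  unfold toTop
  have := congrArg (fun f => f.hom a) (topIso_inv_res h)
  exact this

theorem isUnit_toTop {U : X.Opens} (a : Γ(X, U)) (ha : IsUnit a) : IsUnit (toTop a) :=
  ha.map U.topIso.inv.hom

variable {R : Type u} [CommRing R] (n : ℕ) (q : X ⟶ Spec (CommRingCat.of R)) {L : X.Modules}
  (σ : Fin (n + 1) → (Coh.structureModule X ⟶ L))

/-- the local ring maps -/
noncomputable def ψ (e : Fin (n + 1)) :
    MvPolynomial (Fin (n + 1)) R →+* Γ((XE σ e : Scheme.{u}), ⊤) :=
  MvPolynomial.eval₂Hom (ProjUP.toGlobal ((XE σ e).ι ≫ q)) (fun k => toTop (ratio σ k e))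

theorem ψ_X (e k : Fin (n + 1)) : ψ n q σ e (MvPolynomial.X k) = toTop (ratio σ k e) := by
  unfold ψ
  rw [MvPolynomial.coe_eval₂Hom, MvPolynomial.eval₂_X]

theorem ψ_C (e : Fin (n + 1)) (c : R) :
    ψ n q σ e (MvPolynomial.C c) = ProjUP.toGlobal ((XE σ e).ι ≫ q) c := by
  unfold ψ
  rw [MvPolynomial.coe_eval₂Hom, MvPolynomial.eval₂_C]

theorem hunit (e : Fin (n + 1)) : IsUnit (ψ n q σ e (MvPolynomial.X e)) := by
  rw [ψ_X, ratio_self]
  exact isUnit_toTop 1 isUnit_one

theorem hcompat (e e' : Fin (n + 1)) :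
    ∃ u : Γ((XE σ e ⊓ XE σ e' : X.Opens), ⊤), IsUnit u ∧
    ∀ (k : ℕ) (a : MvPolynomial (Fin (n + 1)) R), a ∈ CohB1.polyGrading n R k →
      (X.homOfLE (inf_le_right : XE σ e ⊓ XE σ e' ≤ XE σ e')).appTop.hom (ψ n q σ e' a) =
        u ^ k * (X.homOfLE (inf_le_left : XE σ e ⊓ XE σ e' ≤ XE σ e)).appTop.hom
          (ψ n q σ e a) := by
  refine ⟨toTop (X.presheaf.map (homOfLE (inf_le_right : XE σ e ⊓ XE σ e' ≤ XE σ e')).op
    (ratio σ e e')), ?_, ?_⟩
  · apply isUnit_toTop
    exact IsUnit.of_mul_eq_one _ ((mul_comm _ _).trans (ratio_mul_inv σ e e' inf_le_left inf_le_right))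
  · intro k a ha
    unfold ψ
    rw [MvPolynomial.map_eval₂Hom, MvPolynomial.map_eval₂Hom,
      ← toGlobal_comp, ← toGlobal_comp, Scheme.homOfLE_ι_assoc, Scheme.homOfLE_ι_assoc,
      ← eval₂Hom_smul_of_isHomogeneous _ _ _ a k ha]
    congr 2
    funext κ
    rw [res_toTop, res_toTop, ratio_cocycle σ κ e e' inf_le_left inf_le_right, mul_comm]
    unfold toTop
    rw [map_mul]

/-- the morphism to projective space -/
noncomputable def rr (hcov : ⨆ e, XE σ e = ⊤) : X ⟶ Proj (CohB1.polyGrading n R) :=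
  glue (CohB1.polyGrading n R) (XE σ) hcov (ψ n q σ) (fun e => MvPolynomial.X e) (fun _ => 1)
    (fun e => hX e) (fun _ => one_pos) (hunit n q σ) (hcompat n q σ)

theorem ι_rr (hcov : ⨆ e, XE σ e = ⊤) (e : Fin (n + 1)) :
    (XE σ e).ι ≫ rr n q σ hcov =
      toAway (CohB1.polyGrading n R) (ψ n q σ e) (hX e) one_pos (hunit n q σ e) :=
  ι_glue (CohB1.polyGrading n R) (XE σ) hcov (ψ n q σ) (fun e => MvPolynomial.X e) (fun _ => 1)
    (fun e => hX e) (fun _ => one_pos) (hunit n q σ) (hcompat n q σ) e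

/-- the morphism to projective space, typed as such -/
noncomputable def rr' (hcov : ⨆ e, XE σ e = ⊤) : X ⟶ CohB1.ProjSpace n R := rr n q σ hcov

theorem rr'_toSpec (hcov : ⨆ e, XE σ e = ⊤) :
    rr' n q σ hcov ≫ CohB1.ProjSpace.toSpec n R = q := by
  apply (X.openCoverOfIsOpenCover (XE σ) hcov).hom_ext
  intro e
  show (XE σ e).ι ≫ rr n q σ hcov ≫ Proj.toSpecZero (CohB1.polyGrading n R) ≫
    Spec.map (CommRingCat.ofHom (algebraMap R (CohB1.polyGrading n R 0))) = (XE σ e).ι ≫ q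
  rw [reassoc_of% ι_rr n q σ hcov e, reassoc_of% toAway_toSpecZero, ← Spec.map_comp,
    ← CommRingCat.ofHom_comp]
  conv_rhs => rw [← toSpecΓ_comp_toGlobal ((XE σ e).ι ≫ q)]
  congr 3
  ext c
  simp only [RingHom.comp_apply]
  unfold ψ
  rw [SetLike.GradeZero.algebraMap_apply, SetLike.GradeZero.coe_algebraMap,
    MvPolynomial.algebraMap_eq, MvPolynomial.coe_eval₂Hom, MvPolynomial.eval₂_C]

end Groth.Agent.Helper1.PUP
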