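import Mathlib
import Groth.Agent.Helper1.PUP4
import Groth.Agent.Helper1.Chow8

/-!
# Universal property of projective space, part 5: functions pulled back along the morphism
-/

set_option autoImplicit false
set_option linter.style.haveILetI false

namespace Groth.Agent.Helper1.PUP

open CategoryTheory Limits AlgebraicGeometry TopologicalSpace Opposite HomogeneousLocalization
open Groth.Agent.Helper1.ProjMor Groth.Agent.Helper1.Segre

universe u

theorem appLE_congr_hom {X Y : Scheme.{u}} {f g : X ⟶ Y} (h : f = g) (U : Y.Opens) (V : X.Opens)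
    (e : V ≤ f ⁻¹ᵁ U) : f.appLE U V e = g.appLE U V (h ▸ e) := by
  subst h
  rfl

section General

variable {σ : Type*} {A : Type u} [CommRing A] [SetLike σ A] [AddSubgroupClass σ A]
variable (𝒜 : ℕ → σ) [GradedRing 𝒜] {t : A} {d : ℕ} (ht : t ∈ 𝒜 d) (hd : 0 < d)

theorem awayι_preimage_self :
    (Proj.awayι 𝒜 t ht hd) ⁻¹ᵁ (Proj.basicOpen 𝒜 t) = ⊤ := by
  rw [← Proj.opensRange_awayι 𝒜 t ht hd]
  exact Scheme.Hom.preimage_opensRange _

theorem awayToSection_awayι_appLE :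
    Proj.awayToSection 𝒜 t ≫ (Proj.awayι 𝒜 t ht hd).appLE (Proj.basicOpen 𝒜 t) ⊤
      (awayι_preimage_self 𝒜 ht hd).ge = (Scheme.ΓSpecIso _).inv := by
  have h1 : (Proj.basicOpenIsoSpec 𝒜 t ht hd).hom ≫ Proj.awayι 𝒜 t ht hd =
      (Proj.basicOpen 𝒜 t).ι := by
    unfold Proj.awayι
    rw [Iso.hom_inv_id_assoc]
  have h2 : (Proj.awayι 𝒜 t ht hd).appLE (Proj.basicOpen 𝒜 t) ⊤
      (awayι_preimage_self 𝒜 ht hd).ge ≫ (Proj.basicOpenIsoSpec 𝒜 t ht hd).hom.appLE ⊤ ⊤ le_top =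
      (Proj.basicOpen 𝒜 t).topIso.inv := by
    rw [Scheme.Hom.appLE_comp_appLE, appLE_congr_hom h1, Scheme.Opens.ι_appLE,
      Scheme.Opens.topIso_inv]
    rfl
  have h3 : (Proj.basicOpenIsoSpec 𝒜 t ht hd).hom.appLE ⊤ ⊤ le_top =
      (Scheme.ΓSpecIso _).hom ≫ Proj.awayToSection 𝒜 t ≫ (Proj.basicOpen 𝒜 t).topIso.inv := by
    rw [← Proj.basicOpenToSpec_app_top, Proj.basicOpenIsoSpec_hom]
    exact Scheme.Hom.appLE_eq_app _
  rw [h3] at h2
  have h4 : (Proj.awayι 𝒜 t ht hd).appLE (Proj.basicOpen 𝒜 t) ⊤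
      (awayι_preimage_self 𝒜 ht hd).ge ≫ (Scheme.ΓSpecIso _).hom ≫ Proj.awayToSection 𝒜 t =
      𝟙 _ := by
    rw [← cancel_mono (Proj.basicOpen 𝒜 t).topIso.inv]
    simpa using h2
  haveI : IsIso (Proj.awayToSection 𝒜 t) :=
    (Proj.basicOpenIsoAway 𝒜 t ht hd).isIso_hom
  rw [← cancel_mono (Scheme.ΓSpecIso _).hom, Iso.inv_hom_id, Category.assoc,
    ← cancel_mono (Proj.awayToSection 𝒜 t), Category.assoc, Category.assoc, h4]
  simp

variable {Y : Scheme.{u}} (g : Y ⟶ Proj 𝒜)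
  (hg : Set.range g ⊆ (Proj.basicOpen 𝒜 t : Set (Proj 𝒜)))

include hg in
theorem top_le_preimage : (⊤ : Y.Opens) ≤ g ⁻¹ᵁ Proj.basicOpen 𝒜 t :=
  fun y _ => hg ⟨y, rfl⟩

theorem appLE_awayToSection (a : Away 𝒜 t) :
    (g.appLE (Proj.basicOpen 𝒜 t) ⊤ (top_le_preimage 𝒜 g hg)).hom
      ((Proj.awayToSection 𝒜 t).hom a) = pullFun 𝒜 g ht hd hg a := by
  have h1 : liftAway 𝒜 g ht hd hg ≫ Proj.awayι 𝒜 t ht hd = g := liftAway_fac 𝒜 g ht hd hg
  have h2 : g.appLE (Proj.basicOpen 𝒜 t) ⊤ (top_le_preimage 𝒜 g hg) =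
      (Proj.awayι 𝒜 t ht hd).appLE (Proj.basicOpen 𝒜 t) ⊤ (awayι_preimage_self 𝒜 ht hd).ge ≫
        (liftAway 𝒜 g ht hd hg).appLE ⊤ ⊤ le_top := by
    rw [Scheme.Hom.appLE_comp_appLE, appLE_congr_hom h1]
  have h3 : Proj.awayToSection 𝒜 t ≫ g.appLE (Proj.basicOpen 𝒜 t) ⊤ (top_le_preimage 𝒜 g hg) =
      (Scheme.ΓSpecIso _).inv ≫ (liftAway 𝒜 g ht hd hg).appTop := by
    rw [h2, reassoc_of% awayToSection_awayι_appLE 𝒜 ht hd]
    congr 1
    exact Scheme.Hom.appLE_eq_app _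
  have h4 := congrArg (fun f => f.hom a) h3
  exact h4

variable {V : Scheme.{u}} (ψ : A →+* Γ(V, ⊤)) (hu : IsUnit (ψ t))

theorem range_toAway :
    Set.range (toAway 𝒜 ψ ht hd hu) ⊆ (Proj.basicOpen 𝒜 t : Set (Proj 𝒜)) := by
  rintro _ ⟨y, rfl⟩
  have h1 : y ∈ toAway 𝒜 ψ ht hd hu ⁻¹ᵁ Proj.basicOpen 𝒜 t := by
    rw [toAway_preimage_basicOpen 𝒜 ψ ht hd ht hd hu, Scheme.basicOpen_of_isUnit _ hu]
    trivial
  exact h1

theorem pullFun_toAway :
    pullFun 𝒜 (toAway 𝒜 ψ ht hd hu) ht hd (range_toAway 𝒜 ht hd ψ hu) = awayLift 𝒜 ψ hu := by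
  have h1 : liftAway 𝒜 (toAway 𝒜 ψ ht hd hu) ht hd (range_toAway 𝒜 ht hd ψ hu) =
      V.toSpecΓ ≫ Spec.map (CommRingCat.ofHom (awayLift 𝒜 ψ hu)) := by
    rw [← cancel_mono (Proj.awayι 𝒜 t ht hd), liftAway_fac, Category.assoc]
    rfl
  unfold ProjMor.pullFun
  rw [h1]
  exact Groth.Agent.Helper1.Chow.toGlobal_toSpecΓ_comp _

end General

section Specific

variable {X : Scheme.{u}} {R : Type u} [CommRing R] (n : ℕ) (q : X ⟶ Spec (CommRingCat.of R))
  {L : X.Modules} (σ : Fin (n + 1) → (Coh.structureModule X ⟶ L)) (hcov : ⨆ e, XE σ e = ⊤)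

/-- the function `X_k / X_e` on `D₊(X_e)`, as an element of the homogeneous localization -/
noncomputable def cP (k e : Fin (n + 1)) :
    Away (CohB1.polyGrading n R) (MvPolynomial.X e : MvPolynomial (Fin (n + 1)) R) :=
  Away.mk (CohB1.polyGrading n R) (hX e) 1 (MvPolynomial.X k) (by simpa using hX k)

/-- the function `X_k / X_e` on `D₊(X_e)`, as a section of the structure sheaf -/
noncomputable def cΓ (k e : Fin (n + 1)) :
    Γ(Proj (CohB1.polyGrading n R), Proj.basicOpen (CohB1.polyGrading n R)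
      (MvPolynomial.X e : MvPolynomial (Fin (n + 1)) R)) :=
  (Proj.awayToSection (CohB1.polyGrading n R) (MvPolynomial.X e)).hom (cP n k e)

theorem toTop_one {U : X.Opens} : toTop (1 : Γ(X, U)) = 1 := by
  unfold toTop
  exact map_one _

theorem toTop_injective {U : X.Opens} : Function.Injective (toTop (U := U)) := by
  intro a b hab
  unfold toTop at hab
  have h1 : ∀ c : Γ(X, U), U.topIso.hom.hom (U.topIso.inv.hom c) = c := fun c => by
    rw [← CommRingCat.comp_apply, Iso.inv_hom_id]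
    rfl
  rw [← h1 a, ← h1 b, hab]

theorem awayLift_cP (k e : Fin (n + 1)) :
    awayLift (CohB1.polyGrading n R) (ψ n q σ e) (hunit n q σ e) (cP n k e) =
      toTop (ratio σ k e) := by
  have h1 := awayLift_mk (CohB1.polyGrading n R) (ψ n q σ e) (hunit n q σ e) (hX e) 1
    (MvPolynomial.X k) (by simpa using hX k)
  rw [ψ_X, ψ_X, ratio_self, toTop_one, one_pow, mul_one] at h1
  exact h1

theorem XE_le_preimage (e : Fin (n + 1)) :
    XE σ e ≤ rr n q σ hcov ⁻¹ᵁ Proj.basicOpen (CohB1.polyGrading n R)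
      (MvPolynomial.X e : MvPolynomial (Fin (n + 1)) R) := by
  intro x hx
  have h1 := range_toAway (CohB1.polyGrading n R) (hX e) one_pos (ψ n q σ e) (hunit n q σ e)
    ⟨⟨x, hx⟩, rfl⟩
  rw [← ι_rr n q σ hcov e] at h1
  exact h1

theorem res_app_cΓ (k e : Fin (n + 1)) :
    X.presheaf.map (homOfLE (XE_le_preimage n q σ hcov e)).op
      ((rr n q σ hcov).app _ (cΓ n k e)) = ratio σ k e := by
  apply toTop_injective
  rw [← awayLift_cP n q σ k e,
    ← pullFun_toAway (CohB1.polyGrading n R) (hX e) one_pos (ψ n q σ e) (hunit n q σ e),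
    ← appLE_awayToSection (CohB1.polyGrading n R) (hX e) one_pos]
  have h1 : (toAway (CohB1.polyGrading n R) (ψ n q σ e) (hX e) one_pos (hunit n q σ e)).appLE
      (Proj.basicOpen (CohB1.polyGrading n R) (MvPolynomial.X e)) ⊤
      (top_le_preimage (CohB1.polyGrading n R) _
        (range_toAway (CohB1.polyGrading n R) (hX e) one_pos (ψ n q σ e) (hunit n q σ e))) =
      (rr n q σ hcov).app _ ≫ X.presheaf.map (homOfLE (XE_le_preimage n q σ hcov e)).op ≫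
        (XE σ e).topIso.inv := by
    have e1 : (⊤ : (XE σ e : Scheme.{u}).Opens) ≤ (XE σ e).ι ⁻¹ᵁ (XE σ e) :=
      fun (y : XE σ e) _ => y.2
    have e2 : (⊤ : (XE σ e : Scheme.{u}).Opens) ≤ ((XE σ e).ι ≫ rr n q σ hcov) ⁻¹ᵁ
        Proj.basicOpen (CohB1.polyGrading n R) (MvPolynomial.X e) :=
      fun (y : XE σ e) _ => XE_le_preimage n q σ hcov e y.2
    rw [← appLE_congr_hom (ι_rr n q σ hcov e) _ _ e2,
      ← Scheme.Hom.appLE_comp_appLE _ _ _ (XE σ e) ⊤ (XE_le_preimage n q σ hcov e) e1,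
      Scheme.Opens.ι_appLE, Scheme.Opens.topIso_inv, Scheme.Hom.appLE, Category.assoc]
    rfl
  rw [h1]
  rfl

end Specific

end Groth.Agent.Helper1.PUP
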