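import Mathlib
import Groth.Agent.Helper1.PUP5
import Groth.Agent.Helper1.EpiDesc

/-!
# Universal property of projective space, part 6: pulled back sections
-/

set_option autoImplicit false
set_option linter.style.haveILetI false

namespace Groth.Agent.Helper1.PUP

open CategoryTheory Limits AlgebraicGeometry TopologicalSpace Opposite
open Groth.Agent.Helper4.GenLoc Groth.Agent.Helper4.GenLocIso Groth.Agent.Helper4.StalkExact
  Groth.Agent.Helper4.PullSec Groth.Agent.Helper4.PullUnit

universe u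

variable {X Y : Scheme.{u}} (f : X ⟶ Y)

/-- the unit of the pullback-pushforward adjunction -/
noncomputable def η (M : Y.Modules) :
    M ⟶ (Scheme.Modules.pushforward f).obj ((Scheme.Modules.pullback f).obj M) :=
  (Scheme.Modules.pullbackPushforwardAdjunction f).unit.app M

/-- the unit of the pullback-pushforward adjunction on sections -/
noncomputable def ηapp (M : Y.Modules) (V : Y.Opens) :
    Γ(M, V) ⟶ Γ((Scheme.Modules.pullback f).obj M, f ⁻¹ᵁ V) :=
  (η f M).app V

theorem pullSec_eq_ηapp (M : Y.Modules) (s : ProjUP.Γm M) :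
    ProjUP.pullSec f M s = ηapp f M ⊤ s := rfl

theorem pushforward_smul (N : X.Modules) (V : Y.Opens) (c : Γ(Y, V))
    (m : Γ((Scheme.Modules.pushforward f).obj N, V)) :
    c • m = (show Γ(N, f ⁻¹ᵁ V) from (f.app V c) • (show Γ(N, f ⁻¹ᵁ V) from m)) := rfl

theorem ηapp_smul (M : Y.Modules) (V : Y.Opens) (c : Γ(Y, V)) (m : Γ(M, V)) :
    ηapp f M V (c • m) = (f.app V c) • ηapp f M V m := by
  unfold ηapp
  exact Scheme.Modules.Hom.app_smul (η f M) c m

theorem ηapp_res (M : Y.Modules) {V W : Y.Opens} (h : V ≤ W) (m : Γ(M, W)) :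
    ηapp f M V (M.presheaf.map (homOfLE h).op m) =
      ((Scheme.Modules.pullback f).obj M).presheaf.map
        (homOfLE (show f ⁻¹ᵁ V ≤ f ⁻¹ᵁ W from fun _ hx => h hx)).op (ηapp f M W m) := by
  unfold ηapp
  exact app_res (η f M) (homOfLE h) m

theorem ηapp_naturality {M N : Y.Modules} (φ : M ⟶ N) (V : Y.Opens) (m : Γ(M, V)) :
    ηapp f N V (φ.app V m) = ((Scheme.Modules.pullback f).map φ).app (f ⁻¹ᵁ V) (ηapp f M V m) := by
  have h1 : φ ≫ η f N = η f M ≫ (Scheme.Modules.pushforward f).map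
      ((Scheme.Modules.pullback f).map φ) :=
    (Scheme.Modules.pullbackPushforwardAdjunction f).unit.naturality φ
  have h2 := congrArg (fun ψ => (Scheme.Modules.Hom.app ψ V) m) h1
  exact h2

theorem unitIso_hom_ηapp_one (V : Y.Opens) :
    (pullbackUnitIso f).hom.app (f ⁻¹ᵁ V) (ηapp f (Coh.structureModule Y) V (one Y V)) =
      one X (f ⁻¹ᵁ V) := by
  have h1 : η f (Coh.structureModule Y) ≫
      (Scheme.Modules.pushforward f).map (pullbackUnitIso f).hom =
      SheafOfModules.unitToPushforwardObjUnit f.toRingCatSheafHom := by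
    have h2 := SheafOfModules.pullbackPushforwardAdjunction_homEquiv_pullbackObjUnitToUnit
      f.toRingCatSheafHom
    rw [Adjunction.homEquiv_unit] at h2
    exact h2
  have h3 := congrArg (fun ψ => (Scheme.Modules.Hom.app ψ V) (one Y V)) h1
  refine h3.trans ?_
  exact map_one (f.app V).hom

theorem ηapp_one (V : Y.Opens) :
    ηapp f (Coh.structureModule Y) V (one Y V) =
      (pullbackUnitIso f).inv.app (f ⁻¹ᵁ V) (one X (f ⁻¹ᵁ V)) := by
  rw [← unitIso_hom_ηapp_one f V]
  have h1 : ∀ z, (pullbackUnitIso f).inv.app (f ⁻¹ᵁ V) ((pullbackUnitIso f).hom.app (f ⁻¹ᵁ V) z) = z := by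
    intro z
    have h2 := congrArg (fun ψ => (Scheme.Modules.Hom.app ψ (f ⁻¹ᵁ V)) z)
      (pullbackUnitIso f).hom_inv_id
    exact h2
  exact (h1 _).symm

theorem sec_pullSec {M : Y.Modules} (T : Coh.structureModule Y ⟶ M) (V : Y.Opens) :
    sec (pullSec f T) (f ⁻¹ᵁ V) = ηapp f M V (sec T V) := by
  unfold sec
  rw [ηapp_naturality, ηapp_one]
  rfl

end Groth.Agent.Helper1.PUP
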