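import Mathlib
import Groth.Prelude.Def_Twist2

set_option autoImplicit false
set_option linter.unusedSectionVars false

/-!
# `D₊(f)` is the locus where the section `f/1` of `O(d)` generates
-/

namespace Groth.Agent.Helper1.TwistGen

open AlgebraicGeometry TopologicalSpace Opposite

universe u

variable {R A : Type u} [CommRing R] [CommRing A] [Algebra R A] (𝒜 : ℕ → Submodule R A)
  [GradedAlgebra 𝒜]

/-- the value of `Twist.globalOf` -/
lemma globalOf_val {d : ℕ} (f : 𝒜 d) (p : ProjectiveSpectrum 𝒜) :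
    (((Twist.globalOf 𝒜 f).1 ⟨p, trivial⟩ : Twist.twistAt 𝒜 (d : ℤ) p) : Twist.Loc 𝒜 p) =
      Localization.mk (f : A) (⟨1, fun h => p.isPrime.ne_top ((Ideal.eq_top_iff_one _).mpr h)⟩ :
        p.asHomogeneousIdeal.toIdeal.primeCompl) :=
  rfl

/-- if `f ∉ p`, every degree `d` fraction at `p` is a multiple of `f/1` -/
lemma exists_eq_mul {d : ℕ} (f : 𝒜 d) (p : ProjectiveSpectrum 𝒜)
    (hf : (f : A) ∉ p.asHomogeneousIdeal) (w : Twist.Loc 𝒜 p) (hw : w ∈ Twist.twistAt 𝒜 (d : ℤ) p) :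
    ∃ c : Twist.A0 𝒜 p, w = c.val *
      Localization.mk (f : A) (⟨1, fun h => p.isPrime.ne_top ((Ideal.eq_top_iff_one _).mpr h)⟩ :
        p.asHomogeneousIdeal.toIdeal.primeCompl) := by
  have : (p.asHomogeneousIdeal.toIdeal).IsPrime := p.isPrime
  unfold Twist.twistAt at hw
  induction hw using Submodule.span_induction with
  | mem w hw =>
    obtain ⟨i, j, a, s, hs, hij, rfl⟩ := hw
    have hsf : (s : A) * (f : A) ∉ p.asHomogeneousIdeal := fun h =>
      (p.isPrime.mem_or_mem h).elim hs hf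
    have hdeg : i = j + d := by exact_mod_cast hij
    refine ⟨HomogeneousLocalization.mk ⟨i, a, ⟨(s : A) * (f : A), hdeg ▸ SetLike.mul_mem_graded s.2 f.2⟩,
      hsf⟩, ?_⟩
    rw [HomogeneousLocalization.val_mk, Localization.mk_mul, Localization.mk_eq_mk_iff,
      Localization.r_iff_exists]
    refine ⟨1, ?_⟩
    simp only [OneMemClass.coe_one, one_mul, Submonoid.coe_mul, mul_one]
    ring
  | zero => exact ⟨0, by simp⟩
  | add x y _ _ hx hy =>
    obtain ⟨c1, rfl⟩ := hx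
    obtain ⟨c2, rfl⟩ := hy
    exact ⟨c1 + c2, by rw [HomogeneousLocalization.val_add, add_mul]⟩
  | smul c x _ hx =>
    obtain ⟨c1, rfl⟩ := hx
    refine ⟨c * c1, ?_⟩
    rw [HomogeneousLocalization.val_mul, Algebra.smul_def, HomogeneousLocalization.algebraMap_apply,
      mul_assoc]

/-- the general criterion -/
theorem mem_basicOpen_iff_span_eq_top {d : ℕ} (f : 𝒜 d) (p : ProjectiveSpectrum 𝒜)
    (hex : ∃ (i j : ℕ) (a : 𝒜 i) (s : 𝒜 j) (_ : (s : A) ∉ p.asHomogeneousIdeal),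
      (i : ℤ) = j + d ∧ (a : A) ∉ p.asHomogeneousIdeal) :
    p ∈ ProjectiveSpectrum.basicOpen 𝒜 (f : A) ↔
      Submodule.span (Twist.A0 𝒜 p) {(Twist.globalOf 𝒜 f).1 ⟨p, trivial⟩} = ⊤ := by
  have : (p.asHomogeneousIdeal.toIdeal).IsPrime := p.isPrime
  constructor
  · intro hp
    have hf : (f : A) ∉ p.asHomogeneousIdeal := hp
    rw [eq_top_iff]
    rintro ⟨w, hw⟩ -
    obtain ⟨c, hc⟩ := exists_eq_mul 𝒜 f p hf w hw
    rw [Submodule.mem_span_singleton]
    refine ⟨c, ?_⟩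
    apply Subtype.ext
    rw [Twist.coe_smul_val, globalOf_val]
    exact hc.symm
  · intro htop
    obtain ⟨i, j, a, s, hs, hij, ha⟩ := hex
    have hmem : Localization.mk (a : A) ⟨(s : A), hs⟩ ∈ Twist.twistAt 𝒜 (d : ℤ) p :=
      Submodule.subset_span ⟨i, j, a, s, hs, hij, rfl⟩
    have h1 : (⟨_, hmem⟩ : Twist.twistAt 𝒜 (d : ℤ) p) ∈
        Submodule.span (Twist.A0 𝒜 p) {(Twist.globalOf 𝒜 f).1 ⟨p, trivial⟩} := by
      rw [htop]; trivial
    rw [Submodule.mem_span_singleton] at h1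
    obtain ⟨c, hc⟩ := h1
    have h2 := congrArg Subtype.val hc
    rw [Twist.coe_smul_val, globalOf_val] at h2
    have hu : IsUnit (Localization.mk (a : A)
        (⟨(s : A), hs⟩ : p.asHomogeneousIdeal.toIdeal.primeCompl)) := by
      rw [Localization.mk_eq_mk']
      exact (IsLocalization.AtPrime.isUnit_mk'_iff _ _ _ _).2 ha
    have hu' : IsUnit (c.val * Localization.mk (f : A)
        (⟨1, fun h => p.isPrime.ne_top ((Ideal.eq_top_iff_one _).mpr h)⟩ :
        p.asHomogeneousIdeal.toIdeal.primeCompl)) := by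
      rw [h2]; exact hu
    have hu2 := isUnit_of_mul_isUnit_right hu'
    rw [Localization.mk_eq_mk'] at hu2
    exact (IsLocalization.AtPrime.isUnit_mk'_iff _ _ _ _).1 hu2

end Groth.Agent.Helper1.TwistGen
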