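import Mathlib
import Groth.Prelude.Def_Twist2
import Groth.Agent.Helper1.TwistGen

/-!
# Universal property of projective space, part 7: the relation between the coordinate sections
-/

set_option autoImplicit false
set_option linter.style.haveILetI false

namespace Groth.Agent.Helper1.PUP

open CategoryTheory Limits AlgebraicGeometry TopologicalSpace Opposite HomogeneousLocalization

universe u

variable {R A : Type u} [CommRing R] [CommRing A] [Algebra R A] (𝒜 : ℕ → Submodule R A)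
  [GradedAlgebra 𝒜]

theorem globalOf_res_eq_smul {t s : A} (ht : t ∈ 𝒜 1) (hs : s ∈ 𝒜 1) :
    (Twist.twist 𝒜 ((1 : ℕ) : ℤ)).presheaf.map (homOfLE (le_top : Proj.basicOpen 𝒜 t ≤ ⊤)).op
      (Twist.globalOf 𝒜 ⟨s, hs⟩) =
    ((Proj.awayToSection 𝒜 t).hom (Away.mk 𝒜 ht 1 s (by simpa using hs))) •
      (Twist.twist 𝒜 ((1 : ℕ) : ℤ)).presheaf.map (homOfLE (le_top : Proj.basicOpen 𝒜 t ≤ ⊤)).op
        (Twist.globalOf 𝒜 ⟨t, ht⟩) := by
  apply Subtype.ext
  funext y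
  apply Subtype.ext
  have hy1 : (1 : A) ∉ y.1.asHomogeneousIdeal :=
    fun h => y.1.isPrime.ne_top ((Ideal.eq_top_iff_one _).mpr h)
  have hyt : t ∉ y.1.asHomogeneousIdeal := y.2
  have hL : (((ConcreteCategory.hom ((Twist.twist 𝒜 ((1 : ℕ) : ℤ)).presheaf.map
      (homOfLE (le_top : Proj.basicOpen 𝒜 t ≤ ⊤)).op)) (Twist.globalOf 𝒜 ⟨s, hs⟩)).1 y).1 =
      Localization.mk s ⟨1, hy1⟩ := rfl
  have hR : (((ConcreteCategory.hom ((Twist.twist 𝒜 ((1 : ℕ) : ℤ)).presheaf.map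
      (homOfLE (le_top : Proj.basicOpen 𝒜 t ≤ ⊤)).op)) (Twist.globalOf 𝒜 ⟨t, ht⟩)).1 y).1 =
      Localization.mk t ⟨1, hy1⟩ := rfl
  refine hL.trans ?_
  refine Eq.trans ?_ (Twist.coe_smul_val ((1 : ℕ) : ℤ) y.1
    (((Proj.awayToSection 𝒜 t).hom (Away.mk 𝒜 ht 1 s (by simpa using hs))).1 y)
    (((ConcreteCategory.hom ((Twist.twist 𝒜 ((1 : ℕ) : ℤ)).presheaf.map
      (homOfLE (le_top : Proj.basicOpen 𝒜 t ≤ ⊤)).op)) (Twist.globalOf 𝒜 ⟨t, ht⟩)).1 y)).symm
  rw [hR]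
  have hc : (((Proj.awayToSection 𝒜 t).hom (Away.mk 𝒜 ht 1 s (by simpa using hs))).1 y).val =
      Localization.mk s ⟨t, hyt⟩ := by
    change (HomogeneousLocalization.mapId 𝒜 _ (Away.mk 𝒜 ht 1 s _)).val = _
    unfold Away.mk HomogeneousLocalization.mapId
    rw [HomogeneousLocalization.map_mk, HomogeneousLocalization.val_mk]
    simp only [RingHom.id_apply]
    congr 1
    exact Subtype.ext (pow_one t)
  rw [hc, Localization.mk_mul, Localization.mk_eq_mk_iff, Localization.r_iff_exists]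
  refine ⟨1, ?_⟩
  simp only [OneMemClass.coe_one, one_mul, Submonoid.coe_mul, mul_one]
  ring

end Groth.Agent.Helper1.PUP
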