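import Mathlib
import Groth.Prelude.Def_GrMod2
import Groth.Agent.Helper1.TwistMul6
import Groth.Agent.Helper1.TwistEpi
import Groth.Agent.Helper4.AmpleIso
import Groth.Agent.Helper4.AmpleBasis

set_option autoImplicit false
set_option linter.unusedSectionVars false

/-!
# `O(n)`, `n ≥ 1`, is ample on a quasi-compact `Proj` covered by the `D₊(g)`, `g` of degree one
-/

namespace Groth.Agent.Helper1.TwistMul

open CategoryTheory AlgebraicGeometry TopologicalSpace Opposite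
open Groth.Agent.Helper1.GrT Groth.Agent.Helper1.ProjO Groth.Agent.Helper1.TwistEpi
open Groth.Agent.Helper4.TensorLift

universe u

variable {R A : Type u} [CommRing R] [CommRing A] [Algebra R A] (𝒜 : ℕ → Submodule R A)
  [GradedAlgebra 𝒜]

lemma one_notMem (y : ProjectiveSpectrum 𝒜) : (1 : A) ∉ y.asHomogeneousIdeal :=
  fun h => y.isPrime.ne_top ((Ideal.eq_top_iff_one _).mpr h)

/-- the morphism `O ⟶ A(n)~` defined by a homogeneous element of degree `n` -/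
noncomputable def secHom (n : ℕ) (f : A) (hf : f ∈ 𝒜 n) :
    Coh.structureModule (Proj 𝒜) ⟶ GrTilde.tilde 𝒜 𝒜 (n : ℤ) :=
  Groth.Agent.Lead.LocLift.homOfTop _ (gsec 𝒜 n f hf)

lemma secHom_app (n : ℕ) (f : A) (hf : f ∈ 𝒜 n) (V : (Proj 𝒜).Opens) (r : Γ(Proj 𝒜, V)) :
    (secHom 𝒜 n f hf).app V r = r • (GrTilde.tilde 𝒜 𝒜 (n : ℤ)).presheaf.map
      (homOfLE (le_top : V ≤ ⊤)).op (gsec 𝒜 n f hf) :=
  EpiDesc.homOfTop_app _ _ _ _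

lemma val_secHom_app (n : ℕ) (f : A) (hf : f ∈ 𝒜 n) (V : (Proj 𝒜).Opens) (r : Γ(Proj 𝒜, V))
    (y : ProjectiveSpectrum.top 𝒜) (hy : y ∈ V) :
    toLoc 𝒜 y (val (𝒜 := 𝒜) (ℳ := 𝒜) (n := (n : ℤ)) (U := V)
      ((secHom 𝒜 n f hf).app V r) y hy) = (evO 𝒜 V y hy r).val * mkO y f 1 (one_notMem 𝒜 y) := by
  rw [secHom_app]
  refine (congrArg (toLoc 𝒜 y) (val_smul 𝒜 𝒜 (n : ℤ) V r _ y hy)).trans ?_
  refine (toLoc_smul 𝒜 y _ _).trans ?_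
  exact congrArg (fun z => (evO 𝒜 V y hy r).val * toLoc 𝒜 y z) (val_gsec 𝒜 n f hf y trivial)

/-- the locus where the section `f` generates `A(n)~` is `D₊(f)`, provided every point has a
non-vanishing homogeneous element of degree `n` -/
theorem genLocus_secHom' (n : ℕ)
    (hloc : ∀ x : Proj 𝒜, ∃ b : A, b ∈ 𝒜 n ∧ x ∈ Proj.basicOpen 𝒜 b) (f : A)
    (hf : f ∈ 𝒜 n) :
    CohB1.genLocus (GrTilde.tilde 𝒜 𝒜 (n : ℤ)) (secHom 𝒜 n f hf) = Proj.basicOpen 𝒜 f := by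
  unfold CohB1.genLocus
  apply le_antisymm
  · apply sSup_le
    intro U hU
    rw [Set.mem_ofPred_eq, Groth.Agent.Helper4.GenLoc.isIso_restrict_iff] at hU
    intro x hxU
    obtain ⟨b, hb, hxb⟩ := hloc x
    obtain ⟨r, hr⟩ := (hU (U ⊓ Proj.basicOpen 𝒜 b) inf_le_left).2
      ((secHom 𝒜 n b hb).app _ (1 : Γ(Proj 𝒜, U ⊓ Proj.basicOpen 𝒜 b)))
    have hxV : x ∈ U ⊓ Proj.basicOpen 𝒜 b := ⟨hxU, hxb⟩
    have h1 := val_secHom_app 𝒜 n f hf _ r x hxV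
    have h2 := val_secHom_app 𝒜 n b hb _ 1 x hxV
    rw [hr, h2, evO_val_one, one_mul] at h1
    have h3 : IsUnit (mkO x b 1 (one_notMem 𝒜 x)) := (isUnit_mkO x _ 1 _).2 hxb
    rw [h1] at h3
    exact (isUnit_mkO x f 1 _).1 (isUnit_of_mul_isUnit_right h3)
  · apply le_sSup
    rw [Set.mem_ofPred_eq, Groth.Agent.Helper4.GenLoc.isIso_restrict_iff]
    intro V hV
    let P : InvPair 𝒜 (n : ℤ) V := InvPair.ofFrac 𝒜 (n : ℤ) V f 1 hf SetLike.GradedOne.one_mem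
      (by simp) (fun y hy => hV hy) (fun y _ => one_notMem 𝒜 y)
    have h1 : ∀ r : Γ(Proj 𝒜, V), (secHom 𝒜 n f hf).app V r = r • P.eΓ := by
      intro r
      rw [secHom_app]
      rfl
    have h4 : ⇑(ConcreteCategory.hom (Scheme.Modules.Hom.app (secHom 𝒜 n f hf) V)) =
        (fun c : Γ(Proj 𝒜, V) => c • P.eΓ) := funext h1
    rw [h4]
    exact P.smul_bijective

lemma hloc_of_hcov (hcov : (⨆ g : 𝒜 1, Proj.basicOpen 𝒜 (g : A)) = ⊤) (n : ℕ) (x : Proj 𝒜) :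
    ∃ b : A, b ∈ 𝒜 n ∧ x ∈ Proj.basicOpen 𝒜 b := by
  have hx : x ∈ (⨆ g : 𝒜 1, Proj.basicOpen 𝒜 (g : A)) := by rw [hcov]; trivial
  obtain ⟨g, hxg⟩ := Opens.mem_iSup.mp hx
  have hgn : (g : A) ^ n ∈ 𝒜 n := by
    have := SetLike.pow_mem_graded n g.2
    simpa using this
  exact ⟨(g : A) ^ n, hgn, fun h => hxg (x.isPrime.mem_of_pow_mem n h)⟩

theorem genLocus_secHom (hcov : (⨆ g : 𝒜 1, Proj.basicOpen 𝒜 (g : A)) = ⊤) (n : ℕ) (f : A)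
    (hf : f ∈ 𝒜 n) :
    CohB1.genLocus (GrTilde.tilde 𝒜 𝒜 (n : ℤ)) (secHom 𝒜 n f hf) = Proj.basicOpen 𝒜 f :=
  genLocus_secHom' 𝒜 n (hloc_of_hcov 𝒜 hcov n) f hf

theorem isInvertible_twist' (n : ℕ)
    (hloc : ∀ x : Proj 𝒜, ∃ b : A, b ∈ 𝒜 n ∧ x ∈ Proj.basicOpen 𝒜 b) :
    PicF.IsInvertible (Twist.twist 𝒜 (n : ℤ)) := by
  intro x
  obtain ⟨b, hb, hxb⟩ := hloc x
  exact ⟨Proj.basicOpen 𝒜 b, hxb, (InvPair.ofFrac 𝒜 (n : ℤ) (Proj.basicOpen 𝒜 b) b 1 hb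
    SetLike.GradedOne.one_mem (by simp) (fun y hy => hy)
    (fun y _ => one_notMem 𝒜 y)).nonempty_iso_twist⟩

/-- **`O(n)` is ample for `n ≥ 1`** on a quasi-compact `Proj` each point of which has a
non-vanishing homogeneous element of degree `n` -/
theorem isAmple_twist' [CompactSpace (Proj 𝒜)] (n : ℕ) (hn : 0 < n)
    (hloc : ∀ x : Proj 𝒜, ∃ b : A, b ∈ 𝒜 n ∧ x ∈ Proj.basicOpen 𝒜 b) :
    CohB1.IsAmple (Twist.twist 𝒜 (n : ℤ)) := by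
  refine ⟨isInvertible_twist' 𝒜 n hloc, inferInstance, fun x => ?_⟩
  obtain ⟨b, hb, hxb⟩ := hloc x
  let e : GrTilde.tilde 𝒜 𝒜 (n : ℤ) ≅ CohB1.tensorPow (Twist.twist 𝒜 (n : ℤ)) (0 + 1) :=
    (TwistIso.twistIsoTilde 𝒜 (n : ℤ)).symm ≪≫
      (Groth.Agent.Helper4.AmpleBasis.unitorL (Twist.twist 𝒜 (n : ℤ))).symm
  refine ⟨0, secHom 𝒜 n b hb ≫ e.hom, ?_, ?_⟩
  · rw [Groth.Agent.Helper4.AmpleIso.genLocus_comp_iso, genLocus_secHom' 𝒜 n hloc]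
    exact hxb
  · rw [Groth.Agent.Helper4.AmpleIso.genLocus_comp_iso, genLocus_secHom' 𝒜 n hloc]
    exact Proj.isAffineOpen_basicOpen 𝒜 _ hb hn

theorem isAmple_twist (hcov : (⨆ g : 𝒜 1, Proj.basicOpen 𝒜 (g : A)) = ⊤)
    [CompactSpace (Proj 𝒜)] (n : ℕ) (hn : 0 < n) :
    CohB1.IsAmple (Twist.twist 𝒜 (n : ℤ)) :=
  isAmple_twist' 𝒜 n hn (hloc_of_hcov 𝒜 hcov n)

end Groth.Agent.Helper1.TwistMul
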