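import Mathlib
import Groth.Agent.Helper1.PUP6
import Groth.Agent.Helper1.PUP7
import Groth.Agent.Helper1.TwistAmple
import Groth.Agent.Helper1.TwistIso

/-!
# Universal property of projective space, part 8: existence
-/

set_option autoImplicit false
set_option linter.style.haveILetI false

namespace Groth.Agent.Helper1.PUP

open CategoryTheory Limits AlgebraicGeometry TopologicalSpace Opposite HomogeneousLocalization
open Groth.Agent.Helper4.GenLoc Groth.Agent.Helper4.GenLocIso Groth.Agent.Helper4.StalkExact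
  Groth.Agent.Helper4.PullSec Groth.Agent.Helper4.PullUnit
open Groth.Agent.Helper1.ProjMor Groth.Agent.Helper1.Segre

universe u

section HomOfTop

variable {X : Scheme.{u}} {N : X.Modules}

theorem hom_ext_of_sec (σ σ' : Coh.structureModule X ⟶ N) (h : sec σ ⊤ = sec σ' ⊤) :
    σ = σ' := by
  apply Scheme.Modules.hom_ext
  intro V
  ext m
  have h1 := app_eq_smul_sec σ V m
  have h2 := app_eq_smul_sec σ' V m
  rw [← sec_res σ (le_top : V ≤ ⊤)] at h1
  rw [← sec_res σ' (le_top : V ≤ ⊤)] at h2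
  rw [h] at h1
  exact h1.trans h2.symm

theorem sec_homOfTop (t : Γ(N, ⊤)) : sec (Groth.Agent.Lead.LocLift.homOfTop N t) ⊤ = t :=
  Groth.Agent.Lead.LocLift.homOfTop_app_one N t

theorem sec_homOfTop' (t : Γ(N, ⊤)) (V : X.Opens) :
    sec (Groth.Agent.Lead.LocLift.homOfTop N t) V =
      N.presheaf.map (homOfLE (le_top : V ≤ ⊤)).op t := by
  rw [← sec_res _ (le_top : V ≤ ⊤), sec_homOfTop]

theorem sec_comp {N' : X.Modules} (σ : Coh.structureModule X ⟶ N) (φ : N ⟶ N') (V : X.Opens) :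
    sec (σ ≫ φ) V = φ.app V (sec σ V) := rfl

end HomOfTop

section Coord

variable {R A : Type u} [CommRing R] [CommRing A] [Algebra R A] (𝒜 : ℕ → Submodule R A)
  [GradedAlgebra 𝒜]

/-- the map `O ⟶ O(d)` attached to a homogeneous element of degree `d` -/
noncomputable def TT {d : ℕ} (t : A) (ht : t ∈ 𝒜 d) :
    Coh.structureModule (Proj 𝒜) ⟶ Twist.twist 𝒜 (d : ℤ) :=
  Groth.Agent.Lead.LocLift.homOfTop _ (Twist.globalOf 𝒜 ⟨t, ht⟩)

theorem TT_comp_iso {d : ℕ} (t : A) (ht : t ∈ 𝒜 d) :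
    TT 𝒜 t ht ≫ (Groth.Agent.Helper1.TwistIso.twistIsoTilde 𝒜 (d : ℤ)).hom =
      Groth.Agent.Helper1.TwistMul.secHom 𝒜 d t ht := by
  apply hom_ext_of_sec
  unfold TT Groth.Agent.Helper1.TwistMul.secHom
  rw [sec_comp, sec_homOfTop, sec_homOfTop]
  apply Subtype.ext
  funext y
  apply Subtype.ext
  have h := Groth.Agent.Helper1.TwistEpi.val_gsec 𝒜 d t ht y.1 y.2
  refine Eq.trans ?_ h.symm
  rfl

theorem genLocus_TT (hcov : (⨆ g : 𝒜 1, Proj.basicOpen 𝒜 (g : A)) = ⊤) {d : ℕ} (t : A)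
    (ht : t ∈ 𝒜 d) :
    CohB1.genLocus _ (TT 𝒜 t ht) = Proj.basicOpen 𝒜 t := by
  rw [← Groth.Agent.Helper4.AmpleIso.genLocus_comp_iso
    (Groth.Agent.Helper1.TwistIso.twistIsoTilde 𝒜 (d : ℤ)) (TT 𝒜 t ht), TT_comp_iso]
  exact Groth.Agent.Helper1.TwistMul.genLocus_secHom 𝒜 hcov d t ht

end Coord

section Main

variable {X : Scheme.{u}} {R : Type u} [CommRing R] (n : ℕ) (q : X ⟶ Spec (CommRingCat.of R))
  {L : X.Modules} (σ : Fin (n + 1) → (Coh.structureModule X ⟶ L)) (hcov : ⨆ e, XE σ e = ⊤)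

theorem hcovP : (⨆ g : CohB1.polyGrading n R 1, Proj.basicOpen (CohB1.polyGrading n R)
    (g : MvPolynomial (Fin (n + 1)) R)) = ⊤ := by
  rw [eq_top_iff, ← iSup_basicOpen_X (R := R) n]
  apply iSup_le
  intro i
  exact le_iSup (fun g : CohB1.polyGrading n R 1 => Proj.basicOpen (CohB1.polyGrading n R)
    (g : MvPolynomial (Fin (n + 1)) R)) ⟨MvPolynomial.X i, hX i⟩

/-- the coordinate maps `O ⟶ O(1)` -/
noncomputable def TX (k : Fin (n + 1)) : Coh.structureModule (Proj (CohB1.polyGrading n R)) ⟶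
    Twist.twist (CohB1.polyGrading n R) ((1 : ℕ) : ℤ) :=
  TT (CohB1.polyGrading n R) (MvPolynomial.X k) (hX k)

theorem sec_TX_smul (k e : Fin (n + 1)) :
    sec (TX (R := R) n k) (Proj.basicOpen (CohB1.polyGrading n R)
      (MvPolynomial.X e : MvPolynomial (Fin (n + 1)) R)) =
      cΓ (R := R) n k e • sec (TX (R := R) n e) (Proj.basicOpen (CohB1.polyGrading n R)
        (MvPolynomial.X e : MvPolynomial (Fin (n + 1)) R)) := by
  unfold TX TT
  rw [sec_homOfTop', sec_homOfTop']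
  exact globalOf_res_eq_smul (CohB1.polyGrading n R) (hX e) (hX k)

/-- the pulled back coordinate maps -/
noncomputable def σ' (k : Fin (n + 1)) : Coh.structureModule X ⟶
    (Scheme.Modules.pullback (rr n q σ hcov)).obj (Twist.twist (CohB1.polyGrading n R) ((1 : ℕ) : ℤ)) :=
  pullSec (rr n q σ hcov) (TX n k)

theorem XE_le_genLocus_σ' (e : Fin (n + 1)) :
    XE σ e ≤ CohB1.genLocus _ (σ' n q σ hcov e) := by
  refine (XE_le_preimage n q σ hcov e).trans (le_trans ?_ (preimage_genLocus_le (rr n q σ hcov) (TX n e)))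
  unfold TX
  rw [genLocus_TT _ (hcovP n)]

theorem ratio_smul_sec_σ' (k e : Fin (n + 1)) :
    ratio σ k e • sec (σ' n q σ hcov e) (XE σ e) = sec (σ' n q σ hcov k) (XE σ e) := by
  have h1 : ∀ j, sec (σ' n q σ hcov j) (XE σ e) =
      ((Scheme.Modules.pullback (rr n q σ hcov)).obj
        (Twist.twist (CohB1.polyGrading n R) ((1 : ℕ) : ℤ))).presheaf.map
        (homOfLE (XE_le_preimage n q σ hcov e)).op
        (ηapp (rr n q σ hcov) _ _ (sec (TX (R := R) n j)
          (Proj.basicOpen (CohB1.polyGrading n R) (MvPolynomial.X e)))) := by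
    intro j
    rw [← sec_pullSec]
    exact (sec_res _ _).symm
  rw [h1 k, h1 e, sec_TX_smul n k e, ηapp_smul, Scheme.Modules.map_smul, res_app_cΓ]

end Main

/-- **existence part of the universal property of projective space** -/
theorem exists_to_projSpace {R : Type u} [CommRing R] (n : ℕ) {X : Scheme.{u}}
    (q : X ⟶ Spec (CommRingCat.of R)) (L : X.Modules) (hL : PicF.IsInvertible L)
    (s : Fin (n + 1) → ProjUP.Γm L) (hs : ProjUP.GeneratedBy L s) :
    ∃ (r : X ⟶ CohB1.ProjSpace n R) (_ : r ≫ CohB1.ProjSpace.toSpec n R = q)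
      (τ : (Scheme.Modules.pullback r).obj (Twist.twistProjSpace n R 1) ≅ L),
      ∀ i, τ.hom.app ⊤ (ProjUP.pullSec r (Twist.twistProjSpace n R 1) (ProjUP.coord n R i)) =
        s i := by
  let σ : Fin (n + 1) → (Coh.structureModule X ⟶ L) := fun k =>
    Groth.Agent.Lead.LocLift.homOfTop L (s k)
  have hσ : ∀ k, sec (σ k) ⊤ = s k := fun k => sec_homOfTop (s k)
  have hs' : ProjUP.GeneratedBy L (fun e => (sec (σ e) ⊤ : ProjUP.Γm L)) := by
    have : (fun e => (sec (σ e) ⊤ : ProjUP.Γm L)) = s := funext hσ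
    rw [this]
    exact hs
  have hcov := iSup_XE_eq_top hL σ hs'
  obtain ⟨τ, hτ⟩ := exists_iso_of_ratios σ (σ' n q σ hcov) (XE σ) hcov (ratio σ)
    (fun e => le_refl _) (XE_le_genLocus_σ' n q σ hcov) (ratio_spec σ)
    (ratio_smul_sec_σ' n q σ hcov)
  refine ⟨rr' n q σ hcov, rr'_toSpec n q σ hcov, τ, fun i => ?_⟩
  have h1 : sec (σ' n q σ hcov i ≫ τ.hom) ⊤ = s i := by rw [hτ i, hσ]
  rw [sec_comp] at h1
  have h2 : sec (σ' n q σ hcov i) ⊤ =
      ProjUP.pullSec (rr n q σ hcov) (Twist.twist (CohB1.polyGrading n R) ((1 : ℕ) : ℤ))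
        (Twist.globalOf (CohB1.polyGrading n R) ⟨MvPolynomial.X i, hX i⟩) := by
    rw [pullSec_eq_ηapp]
    have h3 := sec_pullSec (rr n q σ hcov) (TX (R := R) n i) ⊤
    unfold TX TT at h3
    rw [sec_homOfTop] at h3
    exact h3
  rw [h2] at h1
  exact h1

end Groth.Agent.Helper1.PUP
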