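import Mathlib
import Groth.Prelude.Def_GrMod2
import Groth.Prelude.Def_ProjUP
import Groth.Agent.Helper1.TwistAmple
import Groth.Agent.Helper1.TwistMul7

set_option autoImplicit false
set_option linter.unusedSectionVars false

/-!
# Twisting sheaves generated by the global sections `b / 1`
-/

namespace Groth.Agent.Helper1.TwistMul

open CategoryTheory AlgebraicGeometry TopologicalSpace Opposite
open Groth.Agent.Helper1.GrT Groth.Agent.Helper1.ProjO Groth.Agent.Helper1.TwistEpi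

universe u

/-- a module is generated by global sections `s i` as soon as, locally, every section is a
multiple of one of them -/
theorem generatedBy_of_local {X : Scheme.{u}} (L : X.Modules) {ι : Type*} (s : ι → ProjUP.Γm L)
    (h : ∀ x : X, ∃ (U : X.Opens) (_ : x ∈ U) (i : ι), ∀ (V : X.Opens) (_ : V ≤ U) (t : Γ(L, V)),
      ∃ r : Γ(X, V), t = r • L.presheaf.map (homOfLE (le_top : V ≤ ⊤)).op (s i)) :
    ProjUP.GeneratedBy L s := by
  intro x
  obtain ⟨U, hxU, i, hU⟩ := h x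
  rw [eq_top_iff]
  intro z _
  obtain ⟨V, hxV, t, rfl⟩ := TopCat.Presheaf.exists_germ_eq L.presheaf z
  have hVU : V ⊓ U ≤ U := inf_le_right
  obtain ⟨r, hr⟩ := hU (V ⊓ U) hVU (L.presheaf.map (homOfLE (inf_le_left : V ⊓ U ≤ V)).op t)
  have h1 : (L.presheaf.germ V x hxV).hom t =
      (L.presheaf.germ (V ⊓ U) x ⟨hxV, hxU⟩).hom
        (L.presheaf.map (homOfLE (inf_le_left : V ⊓ U ≤ V)).op t) :=
    (TopCat.Presheaf.germ_res_apply L.presheaf (homOfLE (inf_le_left : V ⊓ U ≤ V)) x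
      ⟨hxV, hxU⟩ t).symm
  rw [h1, hr]
  have h2 := PresheafOfModules.germ_smul (R := X.presheaf) L.val x (V ⊓ U) ⟨hxV, hxU⟩ r
    (L.presheaf.map (homOfLE (le_top : V ⊓ U ≤ ⊤)).op (s i))
  have h3 : TopCat.Presheaf.germ L.val.presheaf (V ⊓ U) x ⟨hxV, hxU⟩
      (L.presheaf.map (homOfLE (le_top : V ⊓ U ≤ ⊤)).op (s i)) =
      TopCat.Presheaf.germ L.val.presheaf ⊤ x trivial (s i) :=
    TopCat.Presheaf.germ_res_apply L.presheaf (homOfLE (le_top : V ⊓ U ≤ ⊤)) x ⟨hxV, hxU⟩ (s i)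
  have key : ∀ (a b : ↑(TopCat.Presheaf.stalk L.val.presheaf x)), a = b →
      b ∈ Submodule.span (X.presheaf.stalk x)
        (Set.range fun i => (L.presheaf.germ ⊤ x trivial).hom (s i)) →
      a ∈ Submodule.span (X.presheaf.stalk x)
        (Set.range fun i => (L.presheaf.germ ⊤ x trivial).hom (s i)) :=
    fun a b e hb => e ▸ hb
  refine key _ _ h2 ?_
  refine Submodule.smul_mem _ _ ?_
  refine key _ _ h3 ?_
  exact Submodule.subset_span ⟨i, rfl⟩

variable {R A : Type u} [CommRing R] [CommRing A] [Algebra R A] (𝒜 : ℕ → Submodule R A)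
  [GradedAlgebra 𝒜]

/-- `O(n)` is generated by the global sections `b / 1`, `b` of degree `n`, as soon as every point
has a non-vanishing homogeneous element of degree `n` -/
theorem generatedBy_twist (n : ℕ)
    (hloc : ∀ x : Proj 𝒜, ∃ b : A, b ∈ 𝒜 n ∧ x ∈ Proj.basicOpen 𝒜 b) :
    ProjUP.GeneratedBy (Twist.twist 𝒜 (n : ℤ))
      (fun b : 𝒜 n => (Twist.globalOf 𝒜 b : ProjUP.Γm (Twist.twist 𝒜 (n : ℤ)))) := by
  apply generatedBy_of_local
  intro x
  obtain ⟨b, hb, hxb⟩ := hloc x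
  refine ⟨Proj.basicOpen 𝒜 b, hxb, ⟨b, hb⟩, fun V hV t => ?_⟩
  let P : InvPair 𝒜 (n : ℤ) V := InvPair.ofFrac 𝒜 (n : ℤ) V b 1 hb SetLike.GradedOne.one_mem
    (by simp) (fun y hy => hV hy) (fun y _ => one_notMem 𝒜 y)
  let τ := TwistIso.twistIsoTilde 𝒜 (n : ℤ)
  obtain ⟨c, hc⟩ : ∃ c : Γ(Proj 𝒜, V), τ.hom.app V t = c • P.eΓ := ⟨_, P.eq_smul _⟩
  have h2 : τ.hom.app V ((Twist.twist 𝒜 (n : ℤ)).presheaf.map (homOfLE (le_top : V ≤ ⊤)).op
      (Twist.globalOf 𝒜 (⟨b, hb⟩ : 𝒜 n))) = P.eΓ := rfl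
  refine ⟨c, ?_⟩
  have hinj : Function.Injective (τ.hom.app V) :=
    ((ConcreteCategory.isIso_iff_bijective (τ.hom.app V)).mp inferInstance).1
  apply hinj
  rw [hc, Scheme.Modules.Hom.app_smul, h2]

end Groth.Agent.Helper1.TwistMul

namespace Groth.Agent.Helper1.TwistMul

open CategoryTheory AlgebraicGeometry TopologicalSpace Opposite

universe u

variable {R A : Type u} [CommRing R] [CommRing A] [Algebra R A] (𝒜 : ℕ → Submodule R A)
  [GradedAlgebra 𝒜]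

theorem hloc_of_lcm {s : ℕ} (f : Fin s → A) (deg : Fin s → ℕ)
    (hf : ∀ i, f i ∈ 𝒜 (deg i)) (hgen : Algebra.adjoin R (Set.range f) = ⊤) (a : ℕ)
    (x : Proj 𝒜) : ∃ b : A, b ∈ 𝒜 (a * Finset.univ.lcm deg) ∧ x ∈ Proj.basicOpen 𝒜 b := by
  have hx : x ∈ (⨆ i, Proj.basicOpen 𝒜 (f i)) := by
    rw [iSup_basicOpen_eq_top_of_adjoin 𝒜 f deg hf hgen]; trivial
  obtain ⟨i, hi⟩ := Opens.mem_iSup.mp hx
  obtain ⟨c, hc⟩ : deg i ∣ Finset.univ.lcm deg := Finset.dvd_lcm (Finset.mem_univ i)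
  refine ⟨f i ^ (a * c), ?_, fun h => hi (x.isPrime.mem_of_pow_mem _ h)⟩
  have := SetLike.pow_mem_graded (a * c) (hf i)
  have e : (a * c) • deg i = a * Finset.univ.lcm deg := by
    rw [hc, smul_eq_mul]; ring
  rwa [e] at this

theorem compactSpace_of_adjoin {s : ℕ} (f : Fin s → A) (deg : Fin s → ℕ) (hdeg : ∀ i, 0 < deg i)
    (hf : ∀ i, f i ∈ 𝒜 (deg i)) (hgen : Algebra.adjoin R (Set.range f) = ⊤) :
    CompactSpace (Proj 𝒜) := by
  constructor
  have h1 : (Set.univ : Set (Proj 𝒜)) = ⋃ i, ((Proj.basicOpen 𝒜 (f i) : (Proj 𝒜).Opens) :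
      Set (Proj 𝒜)) := by
    have := congrArg (fun U : (Proj 𝒜).Opens => (U : Set (Proj 𝒜)))
      (iSup_basicOpen_eq_top_of_adjoin 𝒜 f deg hf hgen)
    simp only [Opens.coe_iSup, Opens.coe_top] at this
    exact this.symm
  rw [h1]
  exact isCompact_iUnion (fun i => (Proj.isAffineOpen_basicOpen 𝒜 (f i) (hf i) (hdeg i)).isCompact)

end Groth.Agent.Helper1.TwistMul
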