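import Mathlib
import Groth.Agent.Helper1.PUP8
import Groth.Agent.Helper1.Segre7
import Groth.Agent.Helper1.TwistMul5

/-!
# Universal property of projective space, part 9: uniqueness
-/

set_option autoImplicit false
set_option linter.style.haveILetI false

namespace Groth.Agent.Helper1.PUP

open CategoryTheory Limits AlgebraicGeometry TopologicalSpace Opposite HomogeneousLocalization
open Groth.Agent.Helper4.GenLoc Groth.Agent.Helper4.GenLocIso Groth.Agent.Helper4.StalkExact
  Groth.Agent.Helper4.PullSec Groth.Agent.Helper4.PullUnit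
open Groth.Agent.Helper1.ProjMor Groth.Agent.Helper1.Segre

universe u

variable {X : Scheme.{u}} {R : Type u} [CommRing R] (n : ℕ)

/-- the pulled back coordinate maps, for an arbitrary morphism to projective space -/
noncomputable def σr (r : X ⟶ Proj (CohB1.polyGrading n R)) (k : Fin (n + 1)) :
    Coh.structureModule X ⟶
      (Scheme.Modules.pullback r).obj (Twist.twist (CohB1.polyGrading n R) ((1 : ℕ) : ℤ)) :=
  pullSec r (TX n k)

theorem genLocus_σr (r : X ⟶ Proj (CohB1.polyGrading n R)) (k : Fin (n + 1)) :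
    CohB1.genLocus _ (σr n r k) = r ⁻¹ᵁ Proj.basicOpen (CohB1.polyGrading n R)
      (MvPolynomial.X k : MvPolynomial (Fin (n + 1)) R) := by
  unfold σr
  rw [genLocus_pullSec r (Groth.Agent.Helper1.TwistMul.isInvertible_twist _ (hcovP n) _)]
  unfold TX
  rw [genLocus_TT _ (hcovP n)]

theorem sec_σr_top (r : X ⟶ Proj (CohB1.polyGrading n R)) (k : Fin (n + 1)) :
    sec (σr n r k) ⊤ =
      ProjUP.pullSec r (Twist.twist (CohB1.polyGrading n R) ((1 : ℕ) : ℤ))
        (Twist.globalOf (CohB1.polyGrading n R) ⟨MvPolynomial.X k, hX k⟩) := by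
  rw [pullSec_eq_ηapp]
  have h3 := sec_pullSec r (TX (R := R) n k) ⊤
  unfold TX TT at h3
  rw [sec_homOfTop] at h3
  exact h3

theorem sec_σr_smul (r : X ⟶ Proj (CohB1.polyGrading n R)) (k e : Fin (n + 1)) {V : X.Opens}
    (hV : V ≤ r ⁻¹ᵁ Proj.basicOpen (CohB1.polyGrading n R)
      (MvPolynomial.X e : MvPolynomial (Fin (n + 1)) R)) :
    sec (σr n r k) V = X.presheaf.map (homOfLE hV).op (r.app _ (cΓ n k e)) • sec (σr n r e) V := by
  have h1 : ∀ j, sec (σr n r j) V =
      ((Scheme.Modules.pullback r).obj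
        (Twist.twist (CohB1.polyGrading n R) ((1 : ℕ) : ℤ))).presheaf.map (homOfLE hV).op
        (ηapp r _ _ (sec (TX (R := R) n j)
          (Proj.basicOpen (CohB1.polyGrading n R) (MvPolynomial.X e)))) := by
    intro j
    rw [← sec_pullSec]
    exact (sec_res _ _).symm
  rw [h1 k, h1 e, sec_TX_smul n k e, ηapp_smul, Scheme.Modules.map_smul]

theorem ι_comp_appLE {Y : Scheme.{u}} (r : X ⟶ Y) (D : Y.Opens) (V : X.Opens)
    (hV : V ≤ r ⁻¹ᵁ D) (h : (⊤ : (V : Scheme.{u}).Opens) ≤ (V.ι ≫ r) ⁻¹ᵁ D) :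
    (V.ι ≫ r).appLE D ⊤ h = r.app D ≫ X.presheaf.map (homOfLE hV).op ≫ V.topIso.inv := by
  have e1 : (⊤ : (V : Scheme.{u}).Opens) ≤ V.ι ⁻¹ᵁ V := fun (y : V) _ => y.2
  rw [← Scheme.Hom.appLE_comp_appLE _ _ _ V ⊤ hV e1,
    Scheme.Opens.ι_appLE, Scheme.Opens.topIso_inv, Scheme.Hom.appLE, Category.assoc]
  rfl

theorem cP_eq_ratio (k e : Fin (n + 1)) :
    cP (R := R) n k e = Segre.ratio (CohB1.polyGrading n R) (hX e) (hX k) := by
  apply HomogeneousLocalization.val_injective
  rw [val_ratio]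
  unfold cP
  rw [Away.val_mk]
  congr 1
  exact Subtype.ext (pow_one _)

section Uniq

variable (r r' : X ⟶ Proj (CohB1.polyGrading n R))
  (hrr' : r ≫ CohB1.ProjSpace.toSpec n R = r' ≫ CohB1.ProjSpace.toSpec n R)
  (τ : (Scheme.Modules.pullback r).obj (Twist.twist (CohB1.polyGrading n R) ((1 : ℕ) : ℤ)) ≅
    (Scheme.Modules.pullback r').obj (Twist.twist (CohB1.polyGrading n R) ((1 : ℕ) : ℤ)))
  (hτ : ∀ k, σr n r k ≫ τ.hom = σr n r' k)

include hτ in
theorem preimage_eq (e : Fin (n + 1)) :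
    r ⁻¹ᵁ Proj.basicOpen (CohB1.polyGrading n R)
      (MvPolynomial.X e : MvPolynomial (Fin (n + 1)) R) =
    r' ⁻¹ᵁ Proj.basicOpen (CohB1.polyGrading n R)
      (MvPolynomial.X e : MvPolynomial (Fin (n + 1)) R) := by
  rw [← genLocus_σr, ← genLocus_σr, ← hτ e, Groth.Agent.Helper4.AmpleIso.genLocus_comp_iso]

include hτ in
theorem res_app_eq (k e : Fin (n + 1)) {V : X.Opens}
    (hV : V ≤ r ⁻¹ᵁ Proj.basicOpen (CohB1.polyGrading n R)
      (MvPolynomial.X e : MvPolynomial (Fin (n + 1)) R))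
    (hV' : V ≤ r' ⁻¹ᵁ Proj.basicOpen (CohB1.polyGrading n R)
      (MvPolynomial.X e : MvPolynomial (Fin (n + 1)) R)) :
    X.presheaf.map (homOfLE hV).op (r.app _ (cΓ n k e)) =
      X.presheaf.map (homOfLE hV').op (r'.app _ (cΓ n k e)) := by
  have h1 := sec_σr_smul n r k e hV
  have h2 := sec_σr_smul n r' k e hV'
  have h3 : ∀ j, sec (σr n r' j) V = τ.hom.app V (sec (σr n r j) V) := by
    intro j
    rw [← hτ j]
    rfl
  rw [h3 k, h3 e, h1, Scheme.Modules.Hom.app_smul] at h2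
  have h4 : (X.presheaf.map (homOfLE hV).op (r.app _ (cΓ n k e)) -
      X.presheaf.map (homOfLE hV').op (r'.app _ (cΓ n k e))) • sec (σr n r' e) V = 0 := by
    rw [sub_smul, h3 e, h2, sub_self]
  refine sub_eq_zero.mp (eq_zero_of_smul_sec (σr n r' e) ?_ _ h4)
  rw [genLocus_σr]
  exact hV'

include hrr' hτ in
theorem ι_comp_eq (e : Fin (n + 1)) {V : X.Opens}
    (hV : V ≤ r ⁻¹ᵁ Proj.basicOpen (CohB1.polyGrading n R)
      (MvPolynomial.X e : MvPolynomial (Fin (n + 1)) R))
    (hV' : V ≤ r' ⁻¹ᵁ Proj.basicOpen (CohB1.polyGrading n R)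
      (MvPolynomial.X e : MvPolynomial (Fin (n + 1)) R)) :
    V.ι ≫ r = V.ι ≫ r' := by
  have hg := range_ι_comp_subset r _ V hV
  have hg' := range_ι_comp_subset r' _ V hV'
  have key : pullFun (CohB1.polyGrading n R) (V.ι ≫ r) (hX e) one_pos hg =
      pullFun (CohB1.polyGrading n R) (V.ι ≫ r') (hX e) one_pos hg' := by
    have hT := away_gen R n e (RingHom.eqLocus
      (pullFun (CohB1.polyGrading n R) (V.ι ≫ r) (hX e) one_pos hg)
      (pullFun (CohB1.polyGrading n R) (V.ι ≫ r') (hX e) one_pos hg')) ?_ ?_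
    · ext z
      have hz : z ∈ RingHom.eqLocus
          (pullFun (CohB1.polyGrading n R) (V.ι ≫ r) (hX e) one_pos hg)
          (pullFun (CohB1.polyGrading n R) (V.ι ≫ r') (hX e) one_pos hg') := by
        rw [hT]; trivial
      exact hz
    · intro c
      show pullFun (CohB1.polyGrading n R) (V.ι ≫ r) (hX e) one_pos hg _ =
        pullFun (CohB1.polyGrading n R) (V.ι ≫ r') (hX e) one_pos hg' _
      rw [pullFun_fromZero, pullFun_fromZero]
      have h1 : ∀ g : (V : Scheme.{u}) ⟶ Proj (CohB1.polyGrading n R),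
          ProjUP.toGlobal (g ≫ Proj.toSpecZero (CohB1.polyGrading n R))
            (algebraMap R (CohB1.polyGrading n R 0) c) =
          ProjUP.toGlobal (g ≫ CohB1.ProjSpace.toSpec n R) c := by
        intro g
        have h0 : g ≫ CohB1.ProjSpace.toSpec n R =
            (g ≫ Proj.toSpecZero (CohB1.polyGrading n R)) ≫
              Spec.map (CommRingCat.ofHom (algebraMap R (CohB1.polyGrading n R 0))) := by
          rw [Category.assoc]
          rfl
        rw [h0, toGlobal_comp_SpecMap]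
        rfl
      rw [h1, h1, Category.assoc, Category.assoc, hrr']
    · intro l
      show pullFun (CohB1.polyGrading n R) (V.ι ≫ r) (hX e) one_pos hg _ =
        pullFun (CohB1.polyGrading n R) (V.ι ≫ r') (hX e) one_pos hg' _
      rw [← cP_eq_ratio, ← appLE_awayToSection, ← appLE_awayToSection,
        ι_comp_appLE r _ V hV, ι_comp_appLE r' _ V hV']
      have h2 := res_app_eq n r r' τ hτ l e hV hV'
      exact congrArg V.topIso.inv.hom h2
  rw [eq_toSpecΓ_pullFun (CohB1.polyGrading n R) (V.ι ≫ r) (hX e) one_pos hg,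
    eq_toSpecΓ_pullFun (CohB1.polyGrading n R) (V.ι ≫ r') (hX e) one_pos hg', key]

include hrr' hτ in
theorem eq_of_hτ : r = r' := by
  have hcov : ⨆ e : Fin (n + 1), r ⁻¹ᵁ Proj.basicOpen (CohB1.polyGrading n R)
      (MvPolynomial.X e : MvPolynomial (Fin (n + 1)) R) = ⊤ := by
    rw [eq_top_iff]
    intro x _
    have hx : r x ∈ (⨆ e : Fin (n + 1), Proj.basicOpen (CohB1.polyGrading n R)
        (MvPolynomial.X e : MvPolynomial (Fin (n + 1)) R)) := by
      rw [iSup_basicOpen_X]; trivial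
    obtain ⟨e, he⟩ := Opens.mem_iSup.mp hx
    exact Opens.mem_iSup.mpr ⟨e, he⟩
  apply (X.openCoverOfIsOpenCover _ hcov).hom_ext
  intro e
  exact ι_comp_eq n r r' hrr' τ hτ e le_rfl (preimage_eq n r r' τ hτ e).le

end Uniq

end Groth.Agent.Helper1.PUP
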