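import Mathlib

/-!
# Very ample modules, part 1: criteria for immersions
-/

set_option autoImplicit false
set_option linter.style.haveILetI false

namespace Groth.Agent.Helper1.VA

open CategoryTheory Limits AlgebraicGeometry TopologicalSpace Opposite

universe u

/-- a morphism is an immersion if it is so over each member of a family of opens of the target
whose preimages cover the source -/
theorem isImmersion_of_cover {X Z : Scheme.{u}} (i : X ⟶ Z) {ι : Type*} (U : ι → Z.Opens)
    (hcov : ⨆ α, i ⁻¹ᵁ U α = ⊤) (h : ∀ α, IsImmersion (i ∣_ U α)) : IsImmersion i := by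
  let W : Z.Opens := ⨆ α, U α
  have hW : Set.range i ⊆ Set.range W.ι := by
    rintro _ ⟨x, rfl⟩
    rw [Scheme.Opens.range_ι]
    have hx : x ∈ ⨆ α, i ⁻¹ᵁ U α := by rw [hcov]; trivial
    obtain ⟨α, hα⟩ := Opens.mem_iSup.mp hx
    exact Opens.mem_iSup.mpr ⟨α, hα⟩
  let i' : X ⟶ W := IsOpenImmersion.lift W.ι i hW
  have hi' : i' ≫ W.ι = i := IsOpenImmersion.lift_fac _ _ _
  have key : ∀ (j : X ⟶ Z), j = i → ∀ α, IsImmersion (j ∣_ U α) := by
    rintro j rfl α
    exact h α
  haveI : IsImmersion i' := by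
    apply IsZariskiLocalAtTarget.of_iSup_eq_top (P := @IsImmersion) (fun α => W.ι ⁻¹ᵁ U α)
    · rw [eq_top_iff]
      rintro ⟨y, hy⟩ -
      obtain ⟨α, hα⟩ := Opens.mem_iSup.mp hy
      exact Opens.mem_iSup.mpr ⟨α, hα⟩
    · intro α
      have h1 := key (i' ≫ W.ι) hi' α
      rw [morphismRestrict_comp] at h1
      exact @IsImmersion.of_comp _ _ _ (i' ∣_ W.ι ⁻¹ᵁ U α) (W.ι ∣_ U α) h1
  rw [← hi']
  infer_instance

/-- a morphism is an immersion if it factors, over each member of an open cover of the source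
that is the preimage of the range of an open immersion, as an immersion followed by that open
immersion -/
theorem isImmersion_of_factor {X Z : Scheme.{u}} (i : X ⟶ Z) {ι : Type*} (V : ι → X.Opens)
    (hcov : ⨆ α, V α = ⊤) (P : ι → Scheme.{u}) (o : ∀ α, P α ⟶ Z) [∀ α, IsOpenImmersion (o α)]
    (c : ∀ α, (V α : Scheme.{u}) ⟶ P α) [∀ α, IsImmersion (c α)]
    (hfac : ∀ α, (V α).ι ≫ i = c α ≫ o α)
    (hpre : ∀ α, i ⁻¹ᵁ (o α).opensRange = V α) : IsImmersion i := by
  apply isImmersion_of_cover i (fun α => (o α).opensRange)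
  · rw [← hcov]
    exact iSup_congr hpre
  · intro α
    have key : i ∣_ (o α).opensRange =
        (X.isoOfEq (hpre α)).hom ≫ c α ≫ (o α).isoOpensRange.hom := by
      rw [← cancel_mono ((o α).opensRange).ι]
      simp only [Category.assoc, morphismRestrict_ι]
      rw [Scheme.Hom.isoOpensRange_hom_ι, ← hfac α, Scheme.isoOfEq_hom_ι_assoc]
    rw [key]
    infer_instance

/-- a morphism from an affine scheme to an affine fibre product is a closed immersion if the
images of the two ring maps generate the ring of functions -/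
theorem isClosedImmersion_lift {Y P₁ P₂ B : Scheme.{u}} [IsAffine Y] (p₁ : P₁ ⟶ B) (p₂ : P₂ ⟶ B)
    [IsAffine (pullback p₁ p₂)] (a : Y ⟶ P₁) (b : Y ⟶ P₂) (h : a ≫ p₁ = b ≫ p₂)
    (hgen : ∀ T : Subring Γ(Y, ⊤), (∀ z, a.appTop.hom z ∈ T) → (∀ z, b.appTop.hom z ∈ T) →
      T = ⊤) :
    IsClosedImmersion (pullback.lift a b h) := by
  apply IsClosedImmersion.of_surjective_of_isAffine
  have hT : (pullback.lift a b h).appTop.hom.range = ⊤ := by
    apply hgen
    · intro z
      refine ⟨(pullback.fst p₁ p₂).appTop.hom z, ?_⟩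
      have h2 : a.appTop = (pullback.fst p₁ p₂).appTop ≫ (pullback.lift a b h).appTop := by
        rw [← Scheme.Hom.comp_appTop, pullback.lift_fst]
      exact (congrArg (fun φ => φ.hom z) h2).symm
    · intro z
      refine ⟨(pullback.snd p₁ p₂).appTop.hom z, ?_⟩
      have h2 : b.appTop = (pullback.snd p₁ p₂).appTop ≫ (pullback.lift a b h).appTop := by
        rw [← Scheme.Hom.comp_appTop, pullback.lift_snd]
      exact (congrArg (fun φ => φ.hom z) h2).symm
  intro y
  have : y ∈ (pullback.lift a b h).appTop.hom.range := by rw [hT]; trivial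
  exact this

end Groth.Agent.Helper1.VA
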