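import Mathlib
import Groth.Agent.Helper1.PUP9
import Groth.Agent.Helper1.VA1

/-!
# Very ample modules, part 2: the morphism to projective space attached to generating sections,
with its properties
-/

set_option autoImplicit false
set_option linter.style.haveILetI false

namespace Groth.Agent.Helper1.VA

open CategoryTheory Limits AlgebraicGeometry TopologicalSpace Opposite HomogeneousLocalization
open Groth.Agent.Helper4.GenLoc Groth.Agent.Helper4.GenLocIso Groth.Agent.Helper4.StalkExact
  Groth.Agent.Helper4.PullSec Groth.Agent.Helper4.PullUnit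
open Groth.Agent.Helper1.ProjMor Groth.Agent.Helper1.Segre Groth.Agent.Helper1.PUP

universe u

variable {X : Scheme.{u}} {R : Type u} [CommRing R] (n : ℕ) (q : X ⟶ Spec (CommRingCat.of R))
  {L : X.Modules} (σ : Fin (n + 1) → (Coh.structureModule X ⟶ L)) (hcov : ⨆ e, XE σ e = ⊤)

theorem exists_iso_rr :
    ∃ τ : (Scheme.Modules.pullback (rr n q σ hcov)).obj
        (Twist.twist (CohB1.polyGrading n R) ((1 : ℕ) : ℤ)) ≅ L,
      ∀ k, σ' n q σ hcov k ≫ τ.hom = σ k :=
  exists_iso_of_ratios σ (σ' n q σ hcov) (XE σ) hcov (ratio σ)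
    (fun e => le_refl _) (XE_le_genLocus_σ' n q σ hcov) (ratio_spec σ)
    (ratio_smul_sec_σ' n q σ hcov)

theorem preimage_rr (e : Fin (n + 1)) :
    rr n q σ hcov ⁻¹ᵁ Proj.basicOpen (CohB1.polyGrading n R)
      (MvPolynomial.X e : MvPolynomial (Fin (n + 1)) R) = XE σ e := by
  obtain ⟨τ, hτ⟩ := exists_iso_rr n q σ hcov
  have h1 := genLocus_σr n (rr n q σ hcov) e
  have h2 : σr n (rr n q σ hcov) e = σ' n q σ hcov e := rfl
  rw [h2] at h1
  rw [← h1]
  unfold XE
  rw [← hτ e, Groth.Agent.Helper4.AmpleIso.genLocus_comp_iso]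

end Groth.Agent.Helper1.VA
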