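import Mathlib
import Groth.Agent.Helper1.VA2
import Groth.Agent.Helper1.Segre11
import Groth.Prelude.Def_LCI2

/-!
# Very ample modules, part 3: sections with affine, ratio-generated charts define an immersion
into projective space over an affine base
-/

set_option autoImplicit false
set_option linter.style.haveILetI false

namespace Groth.Agent.Helper1.VA

open CategoryTheory Limits AlgebraicGeometry TopologicalSpace Opposite HomogeneousLocalization
open Groth.Agent.Helper4.GenLoc Groth.Agent.Helper4.GenLocIso Groth.Agent.Helper4.StalkExact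
  Groth.Agent.Helper4.PullSec Groth.Agent.Helper4.PullUnit
open Groth.Agent.Helper1.ProjMor Groth.Agent.Helper1.Segre Groth.Agent.Helper1.PUP

universe u

variable {X S : Scheme.{u}} (f : X ⟶ S) {M : X.Modules} {K : ℕ}
  (σ : Fin (K + 1) → (Coh.structureModule X ⟶ M)) (hcov : ⨆ e, XE σ e = ⊤)

/-- the structure map to the integers -/
noncomputable def qz : X ⟶ Spec (CommRingCat.of (ULift.{u} ℤ)) := specULiftZIsTerminal.from X

/-- the morphism to projective space over the integers -/
noncomputable def rz : X ⟶ Proj (CohB1.polyGrading K (ULift.{u} ℤ)) := rr K qz σ hcov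

/-- the morphism to projective space over `S` -/
noncomputable def iS : X ⟶ CohB1.ProjSpaceOver K S :=
  liftPSO (rr' K qz σ hcov) f

/-- the product of a standard chart with `S` -/
noncomputable abbrev ZZ (S : Scheme.{u}) (K : ℕ) (α : Fin (K + 1)) : Scheme.{u} :=
  pullback (chart (ULift.{u} ℤ) K α ≫ CohB1.ProjSpace.toSpec K (ULift.{u} ℤ))
    (specULiftZIsTerminal.from S)

/-- the open immersion into projective space over `S` -/
noncomputable def om (S : Scheme.{u}) (K : ℕ) (α : Fin (K + 1)) :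
    ZZ S K α ⟶ CohB1.ProjSpaceOver K S :=
  pullback.map _ _ (CohB1.ProjSpace.toSpec K (ULift.{u} ℤ)) (specULiftZIsTerminal.from S)
    (chart (ULift.{u} ℤ) K α) (𝟙 S) (𝟙 _) (by simp) (by simp)

instance (α : Fin (K + 1)) : IsOpenImmersion (om S K α) := by
  unfold om
  exact Scheme.pullback_map_isOpenImmersion _ _ _ _ _ _ _ _ _

theorem om_prZ (S : Scheme.{u}) (K : ℕ) (α : Fin (K + 1)) :
    om S K α ≫ prZ K S = pullback.fst _ _ ≫ chart (ULift.{u} ℤ) K α :=
  pullback.lift_fst _ _ _

theorem om_toBase (S : Scheme.{u}) (K : ℕ) (α : Fin (K + 1)) :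
    om S K α ≫ CohB1.ProjSpaceOver.toBase K S = pullback.snd _ _ :=
  (pullback.lift_snd _ _ _).trans (Category.comp_id _)

/-- the lift of the morphism on a chart -/
noncomputable def aα (α : Fin (K + 1)) : (XE σ α : Scheme.{u}) ⟶
    Spec (.of (Away (CohB1.polyGrading K (ULift.{u} ℤ)) (MvPolynomial.X α))) :=
  liftAway (CohB1.polyGrading K (ULift.{u} ℤ)) ((XE σ α).ι ≫ rz σ hcov) (hX α) one_pos
    (range_ι_comp_subset (rz σ hcov) _ _ (XE_le_preimage K qz σ hcov α))

theorem aα_chart (α : Fin (K + 1)) :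
    aα σ hcov α ≫ chart (ULift.{u} ℤ) K α = (XE σ α).ι ≫ rr' K qz σ hcov :=
  liftAway_fac _ _ _ _ _

/-- the morphism from a chart to the product of the chart with `S` -/
noncomputable def cl (α : Fin (K + 1)) : (XE σ α : Scheme.{u}) ⟶ ZZ S K α :=
  pullback.lift (aα σ hcov α) ((XE σ α).ι ≫ f) (specULiftZIsTerminal.hom_ext _ _)

theorem hfac (α : Fin (K + 1)) : (XE σ α).ι ≫ iS f σ hcov = cl f σ hcov α ≫ om S K α := by
  apply hom_ext_PSO
  · rw [Category.assoc, Category.assoc, om_prZ]
    unfold iS cl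
    rw [liftPSO_prZ, pullback.lift_fst_assoc, aα_chart]
  · rw [Category.assoc, Category.assoc, om_toBase]
    unfold iS cl
    rw [liftPSO_toBase, pullback.lift_snd]

theorem hpre (α : Fin (K + 1)) : iS f σ hcov ⁻¹ᵁ (om S K α).opensRange = XE σ α := by
  ext x
  constructor
  · rintro ⟨z, hz⟩
    rw [← preimage_rr K qz σ hcov α]
    have h1 : (rr' K qz σ hcov) x = (prZ K S) ((iS f σ hcov) x) := by
      rw [← Scheme.Hom.comp_apply]
      unfold iS
      rw [liftPSO_prZ]
    have h2 : (prZ K S) ((om S K α) z) ∈ Set.range (chart (ULift.{u} ℤ) K α) := by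
      rw [← Scheme.Hom.comp_apply, om_prZ, Scheme.Hom.comp_apply]
      exact ⟨_, rfl⟩
    rw [range_chart] at h2
    rw [hz, ← h1] at h2
    exact h2
  · intro hx
    refine ⟨(cl f σ hcov α) ⟨x, hx⟩, ?_⟩
    rw [← Scheme.Hom.comp_apply, ← hfac, Scheme.Hom.comp_apply]
    rfl

theorem toTop_ratio_mem_range (α k : Fin (K + 1)) :
    toTop (ratio σ k α) = (aα σ hcov α).appTop.hom ((Scheme.ΓSpecIso _).inv.hom (cP K k α)) := by
  have h1 : ProjUP.toGlobal (aα σ hcov α) (cP K k α) = toTop (ratio σ k α) := by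
    show pullFun (CohB1.polyGrading K (ULift.{u} ℤ)) ((XE σ α).ι ≫ rr K qz σ hcov) (hX α) one_pos
      (range_ι_comp_subset (rr K qz σ hcov) _ _ (XE_le_preimage K qz σ hcov α)) (cP K k α) = _
    rw [pullFun_congr_hom (CohB1.polyGrading K (ULift.{u} ℤ)) (ι_rr K qz σ hcov α) (hX α) one_pos
      _ (range_toAway (CohB1.polyGrading K (ULift.{u} ℤ)) (hX α) one_pos (ψ K qz σ α)
        (hunit K qz σ α)), pullFun_toAway, awayLift_cP]
  exact h1.symm

theorem isClosedImmersion_cl [IsAffine S] (α : Fin (K + 1)) (haff : IsAffineOpen (XE σ α))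
    (hgen : ∀ T : Subring Γ((XE σ α : Scheme.{u}), ⊤),
      (∀ a, ((XE σ α).ι ≫ f).appTop.hom a ∈ T) → (∀ k, toTop (ratio σ k α) ∈ T) → T = ⊤) :
    IsClosedImmersion (cl f σ hcov α) := by
  haveI : IsAffine (XE σ α : Scheme.{u}) := haff
  unfold cl
  apply isClosedImmersion_lift
  intro T h1 h2
  apply hgen T h2
  intro k
  rw [toTop_ratio_mem_range σ hcov α k]
  exact h1 _

include hcov in
/-- **sections with affine, ratio-generated charts define an immersion into projective space
over an affine base** -/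
theorem isRelVeryAmplePn_of_charts [IsAffine S] (I : Set (Fin (K + 1)))
    (hI : ⨆ α : I, XE σ α = ⊤) (haff : ∀ α : I, IsAffineOpen (XE σ α))
    (hgen : ∀ α : I, ∀ T : Subring Γ((XE σ α : Scheme.{u}), ⊤),
      (∀ a, ((XE σ α).ι ≫ f).appTop.hom a ∈ T) → (∀ k, toTop (ratio σ k α) ∈ T) → T = ⊤) :
    RelAmple.IsRelVeryAmplePn f M := by
  refine ⟨K, iS f σ hcov, ?_, liftPSO_toBase _ _, ?_⟩
  · haveI : ∀ α : I, IsImmersion (cl f σ hcov α) := fun α => by
      haveI := isClosedImmersion_cl f σ hcov α (haff α) (hgen α)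
      infer_instance
    exact isImmersion_of_factor (iS f σ hcov) (fun α : I => XE σ α) hI (fun α => ZZ S K α)
      (fun α => om S K α) (fun α => cl f σ hcov α) (fun α => hfac f σ hcov α)
      (fun α => hpre f σ hcov α)
  · obtain ⟨τ, -⟩ := exists_iso_rr K qz σ hcov
    have h : iS f σ hcov ≫ prZ K S = rr' K qz σ hcov := liftPSO_prZ _ _
    exact ⟨τ.symm ≪≫ (Scheme.Modules.pullbackCongr h).symm.app _ ≪≫
      (Scheme.Modules.pullbackComp (iS f σ hcov) (prZ K S)).symm.app _⟩

end Groth.Agent.Helper1.VA
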