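import Mathlib
import Groth.Agent.Helper1.VA3

/-!
# Very ample modules, part 4: the sections attached to an immersion into projective space, and
the chart criterion with immersions in place of closed immersions
-/

set_option autoImplicit false
set_option linter.style.haveILetI false

namespace Groth.Agent.Helper1.VA

open CategoryTheory Limits AlgebraicGeometry TopologicalSpace Opposite HomogeneousLocalization
open Groth.Agent.Helper4.GenLoc Groth.Agent.Helper4.GenLocIso Groth.Agent.Helper4.StalkExact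
  Groth.Agent.Helper4.PullSec Groth.Agent.Helper4.PullUnit
open Groth.Agent.Helper1.ProjMor Groth.Agent.Helper1.Segre Groth.Agent.Helper1.PUP

universe u

section A

variable {X S : Scheme.{u}} (f : X ⟶ S) {M : X.Modules} {K : ℕ}
  (σ : Fin (K + 1) → (Coh.structureModule X ⟶ M)) (hcov : ⨆ e, XE σ e = ⊤)

include hcov in
/-- sections whose charts are immersions define an immersion into projective space -/
theorem isRelVeryAmplePn_of_charts_imm (I : Set (Fin (K + 1)))
    (hI : ⨆ α : I, XE σ α = ⊤) (himm : ∀ α : I, IsImmersion (cl f σ hcov α)) :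
    RelAmple.IsRelVeryAmplePn f M := by
  refine ⟨K, iS f σ hcov, ?_, liftPSO_toBase _ _, ?_⟩
  · exact isImmersion_of_factor (iS f σ hcov) (fun α : I => XE σ α) hI (fun α => ZZ S K α)
      (fun α => om S K α) (fun α => cl f σ hcov α) (fun α => hfac f σ hcov α)
      (fun α => hpre f σ hcov α)
  · obtain ⟨τ, -⟩ := exists_iso_rr K qz σ hcov
    have h : iS f σ hcov ≫ prZ K S = rr' K qz σ hcov := liftPSO_prZ _ _
    exact ⟨τ.symm ≪≫ (Scheme.Modules.pullbackCongr h).symm.app _ ≪≫
      (Scheme.Modules.pullbackComp (iS f σ hcov) (prZ K S)).symm.app _⟩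

/-- the charts of an immersion are immersions -/
theorem isImmersion_cl (h : IsImmersion (iS f σ hcov)) (α : Fin (K + 1)) :
    IsImmersion (cl f σ hcov α) := by
  haveI : IsImmersion (cl f σ hcov α ≫ om S K α) := by
    rw [← hfac]
    infer_instance
  exact IsImmersion.of_comp (cl f σ hcov α) (om S K α)

end A

section C

variable {X S : Scheme.{u}} {L : X.Modules} {n : ℕ} (i : X ⟶ CohB1.ProjSpaceOver n S)
  (φ : L ≅ (Scheme.Modules.pullback i).obj (Twist.twistOver n S 1))

/-- the morphism to projective space over the integers -/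
noncomputable def r1 : X ⟶ Proj (CohB1.polyGrading n (ULift.{u} ℤ)) := i ≫ prZ n S

/-- the module is the pullback of `O(1)` along `r1` -/
noncomputable def φ1 : L ≅ (Scheme.Modules.pullback (r1 i)).obj
    (Twist.twist (CohB1.polyGrading n (ULift.{u} ℤ)) ((1 : ℕ) : ℤ)) :=
  φ ≪≫ (Scheme.Modules.pullbackComp i (prZ n S)).app _

/-- the sections of `L` attached to the immersion -/
noncomputable def σi (k : Fin (n + 1)) : Coh.structureModule X ⟶ L :=
  σr n (r1 i) k ≫ (φ1 i φ).inv

theorem XE_σi (k : Fin (n + 1)) : XE (σi i φ) k =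
    r1 i ⁻¹ᵁ Proj.basicOpen (CohB1.polyGrading n (ULift.{u} ℤ))
      (MvPolynomial.X k : MvPolynomial (Fin (n + 1)) (ULift.{u} ℤ)) := by
  unfold XE σi
  rw [← genLocus_σr]
  exact Groth.Agent.Helper4.AmpleIso.genLocus_comp_iso (φ1 i φ).symm _

theorem hcov_σi : ⨆ e, XE (σi i φ) e = ⊤ := by
  rw [eq_top_iff]
  intro x _
  have hx : r1 i x ∈ (⨆ e : Fin (n + 1), Proj.basicOpen (CohB1.polyGrading n (ULift.{u} ℤ))
      (MvPolynomial.X e : MvPolynomial (Fin (n + 1)) (ULift.{u} ℤ))) := by
    rw [iSup_basicOpen_X]; trivial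
  obtain ⟨e, he⟩ := Opens.mem_iSup.mp hx
  refine Opens.mem_iSup.mpr ⟨e, ?_⟩
  rw [XE_σi]
  exact he

theorem rr'_σi : rr' n qz (σi i φ) (hcov_σi i φ) = r1 i := by
  obtain ⟨τ, hτ⟩ := exists_iso_rr n qz (σi i φ) (hcov_σi i φ)
  refine eq_of_hτ n (rr n qz (σi i φ) (hcov_σi i φ)) (r1 i) (specULiftZIsTerminal.hom_ext _ _)
    (τ ≪≫ φ1 i φ) (fun k => ?_)
  have h2 : σr n (rr n qz (σi i φ) (hcov_σi i φ)) k = σ' n qz (σi i φ) (hcov_σi i φ) k := rfl
  rw [h2, Iso.trans_hom, ← Category.assoc, hτ k]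
  unfold σi
  rw [Category.assoc, Iso.inv_hom_id, Category.comp_id]

theorem iS_σi : iS (i ≫ CohB1.ProjSpaceOver.toBase n S) (σi i φ) (hcov_σi i φ) = i := by
  apply hom_ext_PSO
  · unfold iS
    rw [liftPSO_prZ, rr'_σi]
    rfl
  · unfold iS
    rw [liftPSO_toBase]

end C

end Groth.Agent.Helper1.VA
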