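import Mathlib
import Groth.Agent.Helper1.VA4

/-!
# Very ample modules, part 5: projecting a chart onto a chart of a smaller projective space
-/

set_option autoImplicit false
set_option linter.style.haveILetI false

namespace Groth.Agent.Helper1.VA

open CategoryTheory Limits AlgebraicGeometry TopologicalSpace Opposite HomogeneousLocalization
open Groth.Agent.Helper4.GenLoc Groth.Agent.Helper4.GenLocIso Groth.Agent.Helper4.StalkExact
  Groth.Agent.Helper4.PullSec Groth.Agent.Helper4.PullUnit
open Groth.Agent.Helper1.ProjMor Groth.Agent.Helper1.Segre Groth.Agent.Helper1.PUP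

universe u

section Ring

variable {n K : ℕ}

/-- two ring maps out of a standard chart ring over the integers agree if they agree on the
ratios of the variables -/
theorem ringHom_ext_away {B : Type*} [Ring B] (a : Fin (n + 1))
    (θ θ' : Away (CohB1.polyGrading n (ULift.{u} ℤ))
      (MvPolynomial.X a : MvPolynomial (Fin (n + 1)) (ULift.{u} ℤ)) →+* B)
    (h : ∀ k, θ (cP n k a) = θ' (cP n k a)) : θ = θ' := by
  have hT : RingHom.eqLocus θ θ' = ⊤ := by
    apply away_gen (ULift.{u} ℤ) n a
    · intro c
      have h1 : ∀ z : ℤ, θ (fromZeroRingHom (CohB1.polyGrading n (ULift.{u} ℤ))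
          (Submonoid.powers (MvPolynomial.X a))
          (algebraMap (ULift.{u} ℤ) (CohB1.polyGrading n (ULift.{u} ℤ) 0) (ULift.up z))) =
          θ' (fromZeroRingHom (CohB1.polyGrading n (ULift.{u} ℤ))
          (Submonoid.powers (MvPolynomial.X a))
          (algebraMap (ULift.{u} ℤ) (CohB1.polyGrading n (ULift.{u} ℤ) 0) (ULift.up z))) := by
        intro z
        have e1 : (ULift.up z : ULift.{u} ℤ) = ((z : ℤ) : ULift.{u} ℤ) := by
          apply ULift.ext
          simp
        rw [e1, map_intCast, map_intCast, map_intCast, map_intCast]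
      exact h1 c.down
    · intro l
      rw [← cP_eq_ratio]
      exact h l
  ext x
  have : x ∈ RingHom.eqLocus θ θ' := by rw [hT]; trivial
  exact this

variable (R : Type u) [CommRing R] (g : Fin (n + 1) → Fin (K + 1))

/-- renaming the variables, as a graded ring map -/
noncomputable def renG : (CohB1.polyGrading n R) →+*ᵍ (CohB1.polyGrading K R) where
  toRingHom := (MvPolynomial.rename g : MvPolynomial (Fin (n + 1)) R →ₐ[R] _).toRingHom
  map_mem := fun {i x} hx => by
    have h1 : x.IsHomogeneous i := hx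
    exact h1.rename_isHomogeneous

theorem renG_X (k : Fin (n + 1)) : renG R g (MvPolynomial.X k) = MvPolynomial.X (g k) :=
  MvPolynomial.rename_X g k

/-- the map of chart rings induced by renaming the variables -/
noncomputable def φg (a : Fin (n + 1)) :
    Away (CohB1.polyGrading n R) (MvPolynomial.X a : MvPolynomial (Fin (n + 1)) R) →+*
      Away (CohB1.polyGrading K R) (MvPolynomial.X (g a) : MvPolynomial (Fin (K + 1)) R) :=
  HomogeneousLocalization.map (renG R g) (by
    rintro _ ⟨j, rfl⟩
    refine ⟨j, ?_⟩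
    show _ = renG R g (MvPolynomial.X a ^ j)
    rw [map_pow, renG_X])

theorem φg_cP (a k : Fin (n + 1)) : φg R g a (cP n k a) = cP K (g k) (g a) := by
  apply HomogeneousLocalization.val_injective
  unfold cP φg
  rw [Away.val_mk]
  unfold Away.mk
  rw [HomogeneousLocalization.map_mk, HomogeneousLocalization.val_mk]
  simp only [renG_X, map_pow]

end Ring

section Chart

variable {X S : Scheme.{u}} (f : X ⟶ S) {L M : X.Modules} {n K : ℕ}
  (g : Fin (n + 1) → Fin (K + 1)) (a : Fin (n + 1))
  (σ : Fin (n + 1) → (Coh.structureModule X ⟶ L)) (hcovσ : ⨆ e, XE σ e = ⊤)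
  (τ : Fin (K + 1) → (Coh.structureModule X ⟶ M)) (hcovτ : ⨆ e, XE τ e = ⊤)

/-- the projection of a chart onto a chart of a smaller projective space -/
noncomputable def πZ (S : Scheme.{u}) : ZZ S K (g a) ⟶ ZZ S n a :=
  pullback.map _ _ _ _ (Spec.map (CommRingCat.ofHom (φg (ULift.{u} ℤ) g a))) (𝟙 S) (𝟙 _)
    (specULiftZIsTerminal.hom_ext _ _) (specULiftZIsTerminal.hom_ext _ _)

theorem toGlobal_aα (α k : Fin (K + 1)) :
    ProjUP.toGlobal (aα τ hcovτ α) (cP K k α) = toTop (ratio τ k α) :=
  (toTop_ratio_mem_range τ hcovτ α k).symm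

theorem eq_of_toGlobal_eq {Y : Scheme.{u}} {B : Type u} [CommRing B]
    (q q' : Y ⟶ Spec (CommRingCat.of B)) (h : ProjUP.toGlobal q = ProjUP.toGlobal q') :
    q = q' := by
  rw [← toSpecΓ_comp_toGlobal q, ← toSpecΓ_comp_toGlobal q', h]

theorem cl_comp_πZ (hle : XE τ (g a) ≤ XE σ a)
    (hratio : ∀ k, ratio τ (g k) (g a) = X.presheaf.map (homOfLE hle).op (ratio σ k a)) :
    cl f τ hcovτ (g a) ≫ πZ g a S = X.homOfLE hle ≫ cl f σ hcovσ a := by
  apply pullback.hom_ext
  · unfold cl πZ
    rw [Category.assoc, Category.assoc, pullback.lift_fst, pullback.lift_fst_assoc,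
      pullback.lift_fst]
    apply eq_of_toGlobal_eq
    rw [toGlobal_comp_SpecMap, toGlobal_comp]
    apply ringHom_ext_away
    intro k
    rw [RingHom.comp_apply, RingHom.comp_apply, φg_cP, toGlobal_aα, toGlobal_aα, hratio k,
      res_toTop]
  · unfold cl πZ
    rw [Category.assoc, Category.assoc, pullback.lift_snd, pullback.lift_snd_assoc,
      pullback.lift_snd, Category.comp_id, Scheme.homOfLE_ι_assoc]

theorem isImmersion_cl_of_index (hle : XE τ (g a) ≤ XE σ a)
    (hratio : ∀ k, ratio τ (g k) (g a) = X.presheaf.map (homOfLE hle).op (ratio σ k a))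
    (h : IsImmersion (cl f σ hcovσ a)) : IsImmersion (cl f τ hcovτ (g a)) := by
  haveI : IsImmersion (cl f τ hcovτ (g a) ≫ πZ g a S) := by
    rw [cl_comp_πZ f g a σ hcovσ τ hcovτ hle hratio]
    infer_instance
  exact IsImmersion.of_comp (cl f τ hcovτ (g a)) (πZ g a S)

end Chart

end Groth.Agent.Helper1.VA
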