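import Mathlib
import Groth.Agent.Helper1.VA5
import Groth.Agent.Helper4.TensorGen

/-!
# Very ample modules, part 6: tensor products of families of sections; a very ample module
tensored with a globally generated one is very ample
-/

set_option autoImplicit false
set_option linter.style.haveILetI false

namespace Groth.Agent.Helper1.VA

open CategoryTheory Limits AlgebraicGeometry TopologicalSpace Opposite HomogeneousLocalization
open Groth.Agent.Helper4.GenLoc Groth.Agent.Helper4.GenLocIso Groth.Agent.Helper4.StalkExact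
  Groth.Agent.Helper4.PullSec Groth.Agent.Helper4.PullUnit
open Groth.Agent.Helper1.ProjMor Groth.Agent.Helper1.Segre Groth.Agent.Helper1.PUP

universe u

section Tens

variable {X : Scheme.{u}} {L L' : X.Modules} {E F : Type*}
  (σ : E → (Coh.structureModule X ⟶ L)) (ρ : F → (Coh.structureModule X ⟶ L'))

/-- the tensor products of two families of sections -/
noncomputable def tens (p : E × F) : Coh.structureModule X ⟶ CohB1.tensorMod L L' :=
  SecTwist.tmulHom (σ p.1) (ρ p.2)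

theorem sec_tens (p : E × F) (V : X.Opens) :
    sec (tens σ ρ p) V = SecTwist.tmul L L' V (sec (σ p.1) V) (sec (ρ p.2) V) :=
  SecTwist.val_tmulHom (σ p.1) (ρ p.2) V

variable (hL : PicF.IsInvertible L) (hL' : PicF.IsInvertible L')

include hL hL' in
theorem XE_tens (p : E × F) : XE (tens σ ρ) p = XE σ p.1 ⊓ XE ρ p.2 :=
  Groth.Agent.Helper4.TensorGen.genLocus_tmulHom L L' hL hL' (σ p.1) (ρ p.2)

theorem ratio_tens (p p' : E × F) {V : X.Opens} (hV : V ≤ XE (tens σ ρ) p)
    (h1 : V ≤ XE σ p.1) (h2 : V ≤ XE ρ p.2) :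
    X.presheaf.map (homOfLE hV).op (ratio (tens σ ρ) p' p) =
      X.presheaf.map (homOfLE h1).op (ratio σ p'.1 p.1) *
        X.presheaf.map (homOfLE h2).op (ratio ρ p'.2 p.2) := by
  have e1 := ratio_res (tens σ ρ) p' p hV
  have e2 := ratio_res σ p'.1 p.1 h1
  have e3 := ratio_res ρ p'.2 p.2 h2
  have e4 : (X.presheaf.map (homOfLE hV).op (ratio (tens σ ρ) p' p) -
      X.presheaf.map (homOfLE h1).op (ratio σ p'.1 p.1) *
        X.presheaf.map (homOfLE h2).op (ratio ρ p'.2 p.2)) • sec (tens σ ρ p) V = 0 := by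
    rw [sub_smul, e1, sec_tens, sec_tens, ← e2, ← e3,
      Groth.Agent.Helper4.TensorLift.tmul_smul_left,
      Groth.Agent.Helper4.TensorLift.tmul_smul_right, mul_smul]
    exact sub_self _
  exact sub_eq_zero.mp (eq_zero_of_smul_sec (tens σ ρ p) hV _ e4)

end Tens

theorem ratio_eq_of_smul {X : Scheme.{u}} {L : X.Modules} {E : Type*}
    (σ : E → (Coh.structureModule X ⟶ L)) (k e : E) (c : Γ(X, XE σ e))
    (h : c • sec (σ e) (XE σ e) = sec (σ k) (XE σ e)) : ratio σ k e = c := by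
  have h2 : (ratio σ k e - c) • sec (σ e) (XE σ e) = 0 := by
    rw [sub_smul, ratio_spec, h, sub_self]
  exact sub_eq_zero.mp (eq_zero_of_smul_sec (σ e) (le_refl _) _ h2)

/-- **a very ample module tensored with a module generated by finitely many global sections is
very ample** -/
theorem isRelVeryAmplePn_tensor {X S : Scheme.{u}} (q : X ⟶ S)
    (L L' : X.Modules) (hL : PicF.IsInvertible L) (hva : RelAmple.IsRelVeryAmplePn q L)
    (hL' : PicF.IsInvertible L') {m : ℕ} (s : Fin (m + 1) → ProjUP.Γm L')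
    (hs : ProjUP.GeneratedBy L' s) :
    RelAmple.IsRelVeryAmplePn q (CohB1.tensorMod L L') := by
  obtain ⟨n, i, himm, hi, ⟨φ⟩⟩ := hva
  subst hi
  -- the two families of sections
  let σ₁ : Fin (n + 1) → (Coh.structureModule X ⟶ L) := σi i φ
  have hcov₁ : ⨆ e, XE σ₁ e = ⊤ := hcov_σi i φ
  let σ₂ : Fin (m + 1) → (Coh.structureModule X ⟶ L') := fun k =>
    Groth.Agent.Lead.LocLift.homOfTop L' (s k)
  have hσ₂ : ∀ k, sec (σ₂ k) ⊤ = s k := fun k => sec_homOfTop (s k)
  have hs' : ProjUP.GeneratedBy L' (fun e => (sec (σ₂ e) ⊤ : ProjUP.Γm L')) := by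
    have : (fun e => (sec (σ₂ e) ⊤ : ProjUP.Γm L')) = s := funext hσ₂
    rw [this]
    exact hs
  have hcov₂ : ⨆ e, XE σ₂ e = ⊤ := iSup_XE_eq_top hL' σ₂ hs'
  -- the tensor family
  let τ : Fin (n * m + n + m + 1) → (Coh.structureModule X ⟶ CohB1.tensorMod L L') := fun α =>
    tens σ₁ σ₂ ((idx n m).symm α)
  have hτ : ∀ p, τ (idx n m p) = tens σ₁ σ₂ p := fun p =>
    congrArg (tens σ₁ σ₂) ((idx n m).symm_apply_apply p)
  have hXE : ∀ p, XE τ (idx n m p) = XE σ₁ p.1 ⊓ XE σ₂ p.2 := by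
    intro p
    unfold XE
    rw [hτ p]
    exact XE_tens σ₁ σ₂ hL hL' p
  have hcovτ : ⨆ e, XE τ e = ⊤ := by
    rw [eq_top_iff]
    intro x _
    have hx1 : x ∈ ⨆ e, XE σ₁ e := by rw [hcov₁]; trivial
    have hx2 : x ∈ ⨆ e, XE σ₂ e := by rw [hcov₂]; trivial
    obtain ⟨a, ha⟩ := Opens.mem_iSup.mp hx1
    obtain ⟨b, hb⟩ := Opens.mem_iSup.mp hx2
    refine Opens.mem_iSup.mpr ⟨idx n m (a, b), ?_⟩
    rw [hXE]
    exact ⟨ha, hb⟩
  have h1 : IsImmersion (iS (i ≫ CohB1.ProjSpaceOver.toBase n S) σ₁ hcov₁) := by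
    rw [iS_σi]
    exact himm
  refine isRelVeryAmplePn_of_charts_imm _ τ hcovτ Set.univ ?_ ?_
  · rw [eq_top_iff, ← hcovτ]
    apply iSup_le
    intro e
    exact le_iSup (fun α : (Set.univ : Set (Fin (n * m + n + m + 1))) => XE τ α) ⟨e, trivial⟩
  · rintro ⟨α, -⟩
    obtain ⟨⟨a, b⟩, rfl⟩ := (idx n m).surjective α
    have hle : XE τ (idx n m (a, b)) ≤ XE σ₁ a := by
      rw [hXE]
      exact inf_le_left
    refine isImmersion_cl_of_index _ (fun k => idx n m (k, b)) a σ₁ hcov₁ τ hcovτ hle ?_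
      (isImmersion_cl _ σ₁ hcov₁ h1 a)
    intro k
    apply ratio_eq_of_smul
    rw [hτ, hτ, sec_tens, sec_tens, ← ratio_res σ₁ k a hle,
      Groth.Agent.Helper4.TensorLift.tmul_smul_left]
    rfl

end Groth.Agent.Helper1.VA
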