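import Mathlib
import Groth.Agent.Helper1.VA6

/-!
# Very ample modules, part 7: the chart criterion for a finite index type; finite generation
of the charts
-/

set_option autoImplicit false
set_option linter.style.haveILetI false

namespace Groth.Agent.Helper1.VA

open CategoryTheory Limits AlgebraicGeometry TopologicalSpace Opposite HomogeneousLocalization
open Groth.Agent.Helper4.GenLoc Groth.Agent.Helper4.GenLocIso Groth.Agent.Helper4.StalkExact
  Groth.Agent.Helper4.PullSec Groth.Agent.Helper4.PullUnit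
open Groth.Agent.Helper1.ProjMor Groth.Agent.Helper1.Segre Groth.Agent.Helper1.PUP

universe u

section Reindex

variable {X S : Scheme.{u}} (f : X ⟶ S) {M : X.Modules}

/-- the chart criterion for very ampleness, for a finite nonempty index type -/
theorem isRelVeryAmplePn_of_charts_finite [IsAffine S] {E : Type*} [Finite E] [Nonempty E]
    (σ : E → (Coh.structureModule X ⟶ M)) (I : Set E)
    (hI : ⨆ α : I, XE σ α = ⊤) (haff : ∀ α : I, IsAffineOpen (XE σ α))
    (hgen : ∀ α : I, ∀ T : Subring Γ((XE σ α : Scheme.{u}), ⊤),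
      (∀ a, ((XE σ α).ι ≫ f).appTop.hom a ∈ T) → (∀ k, toTop (ratio σ k α) ∈ T) → T = ⊤) :
    RelAmple.IsRelVeryAmplePn f M := by
  obtain ⟨K, hK⟩ : ∃ K, Nat.card E = K + 1 :=
    Nat.exists_eq_succ_of_ne_zero (Nat.card_pos (α := E)).ne'
  let e : Fin (K + 1) ≃ E := ((Finite.equivFin E).trans (finCongr hK)).symm
  let σ' : Fin (K + 1) → (Coh.structureModule X ⟶ M) := fun α => σ (e α)
  have hXE : ∀ β : E, XE σ β = XE σ' (e.symm β) := by
    intro β
    show _ = XE σ (e (e.symm β))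
    rw [e.apply_symm_apply]
  have hcov : ⨆ α, XE σ' α = ⊤ := by
    rw [eq_top_iff, ← hI]
    apply iSup_le
    rintro ⟨β, hβ⟩
    rw [hXE β]
    exact le_iSup (fun α => XE σ' α) (e.symm β)
  let I' : Set (Fin (K + 1)) := {α | e α ∈ I}
  refine isRelVeryAmplePn_of_charts f σ' hcov I' ?_ ?_ ?_
  · rw [eq_top_iff, ← hI]
    apply iSup_le
    rintro ⟨β, hβ⟩
    rw [hXE β]
    have hmem : e.symm β ∈ I' := by
      show e (e.symm β) ∈ I
      rw [e.apply_symm_apply]
      exact hβ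
    exact le_iSup (fun α : I' => XE σ' α) ⟨e.symm β, hmem⟩
  · rintro ⟨α, hα⟩
    exact haff ⟨e α, hα⟩
  · rintro ⟨α, hα⟩ T h1 h2
    refine hgen ⟨e α, hα⟩ T h1 (fun k' => ?_)
    have h3 := h2 (e.symm k')
    have h4 : ratio σ' (e.symm k') α = ratio σ k' (e α) := by
      show ratio σ (e (e.symm k')) (e α) = _
      rw [e.apply_symm_apply]
    rw [h4] at h3
    exact h3

end Reindex

section FinGen

variable {X Y : Scheme.{u}} (q : X ⟶ Y)

theorem exists_finset_gen [IsAffine Y] [LocallyOfFiniteType q] (G : X.Opens)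
    (hG : IsAffineOpen G) :
    ∃ B : Finset Γ(X, G), ∀ T : Subring Γ(X, G),
      (∀ a, (q.appLE ⊤ G le_top).hom a ∈ T) → (∀ b ∈ B, b ∈ T) → T = ⊤ := by
  have h := q.finiteType_appLE (isAffineOpen_top Y) hG le_top
  letI := (q.appLE ⊤ G le_top).hom.toAlgebra
  have h' : Algebra.FiniteType Γ(Y, ⊤) Γ(X, G) := h
  obtain ⟨B, hB⟩ := h'.out
  refine ⟨B, fun T h1 h2 => ?_⟩
  let T' : Subalgebra Γ(Y, ⊤) Γ(X, G) := { T.toSubsemiring with algebraMap_mem' := h1 }
  have h3 : Algebra.adjoin Γ(Y, ⊤) (B : Set Γ(X, G)) ≤ T' := Algebra.adjoin_le (fun b hb => h2 b hb)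
  rw [hB] at h3
  rw [eq_top_iff]
  intro x _
  exact h3 (Algebra.mem_top : x ∈ (⊤ : Subalgebra Γ(Y, ⊤) Γ(X, G)))

theorem res_self {V : X.Opens} (h : V ≤ V) (b : Γ(X, V)) :
    X.presheaf.map (homOfLE h).op b = b := by
  have : homOfLE h = 𝟙 V := Subsingleton.elim _ _
  rw [this, op_id, X.presheaf.map_id]
  rfl

theorem ι_comp_appTop (V : X.Opens) :
    (V.ι ≫ q).appTop = q.appLE ⊤ V le_top ≫ V.topIso.inv := by
  have h := ι_comp_appLE q ⊤ V le_top (fun _ _ => trivial)
  rw [Scheme.Hom.appLE, Category.assoc]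
  rw [← h]
  exact Scheme.Hom.app_eq_appLE (V.ι ≫ q)

theorem subring_eq_top_of_gen (V G : X.Opens) (hVG : V = G) (B : Finset Γ(X, G))
    (hB : ∀ T : Subring Γ(X, G),
      (∀ a, (q.appLE ⊤ G le_top).hom a ∈ T) → (∀ b ∈ B, b ∈ T) → T = ⊤)
    (T : Subring Γ((V : Scheme.{u}), ⊤))
    (h1 : ∀ a, (V.ι ≫ q).appTop.hom a ∈ T)
    (h2 : ∀ b ∈ B, toTop (X.presheaf.map (homOfLE hVG.le).op b) ∈ T) : T = ⊤ := by
  subst hVG
  have h3 := hB (T.comap V.topIso.inv.hom) (fun a => ?_) (fun b hb => ?_)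
  · rw [eq_top_iff]
    intro x _
    have h4 : V.topIso.hom.hom x ∈ T.comap V.topIso.inv.hom := by rw [h3]; trivial
    have h5 : V.topIso.inv.hom (V.topIso.hom.hom x) = x := by
      rw [← CommRingCat.comp_apply, Iso.hom_inv_id]
      rfl
    rw [Subring.mem_comap, h5] at h4
    exact h4
  · rw [Subring.mem_comap]
    have h4 := h1 a
    rw [ι_comp_appTop] at h4
    exact h4
  · rw [Subring.mem_comap]
    have h4 := h2 b hb
    rw [res_self] at h4
    exact h4

end FinGen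

end Groth.Agent.Helper1.VA
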