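import Mathlib
import Groth.Agent.Helper1.VA7
import Groth.Agent.Helper4.TwistExtU
import Groth.Agent.Helper4.TensorAssoc

/-!
# Very ample modules, part 8: all large powers of an invertible module with finitely many
sections with affine generating loci covering the scheme are very ample
-/

set_option autoImplicit false
set_option linter.style.haveILetI false

namespace Groth.Agent.Helper1.VA

open CategoryTheory Limits AlgebraicGeometry TopologicalSpace Opposite HomogeneousLocalization
open Groth.Agent.Helper4.GenLoc Groth.Agent.Helper4.GenLocIso Groth.Agent.Helper4.StalkExact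
  Groth.Agent.Helper4.PullSec Groth.Agent.Helper4.PullUnit
open Groth.Agent.Helper1.ProjMor Groth.Agent.Helper1.Segre Groth.Agent.Helper1.PUP

universe u

section Core

variable {X : Scheme.{u}} {M : X.Modules} {ι : Type*} (ρ : ι → (Coh.structureModule X ⟶ M))

/-- the powers of the sections, as sections of `O ⊗ M^n` -/
noncomputable def uSec (i : ι) (n : ℕ) :
    Coh.structureModule X ⟶ CohB1.tensorMod (Coh.structureModule X) (CohB1.tensorPow M n) :=
  SecTwist.tmulHom (𝟙 _) (SecTwist.powHom (ρ i) n)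

theorem genLocus_uSec (hM : PicF.IsInvertible M) (i : ι) (n : ℕ) :
    CohB1.genLocus _ (uSec ρ i (n + 1)) = CohB1.genLocus M (ρ i) := by
  unfold uSec
  rw [Groth.Agent.Helper4.TensorGen.genLocus_tmulHom _ _
    Groth.Agent.Helper4.TensorInv.isInvertible_structureModule
    (Groth.Agent.Helper4.TensorInv.isInvertible_tensorPow hM (n + 1)),
    Groth.Agent.Helper4.TensorAssoc.genLocus_id, top_inf_eq,
    Groth.Agent.Helper4.TensorAssoc.genLocus_powHom hM]

theorem sec_uSec (i : ι) (n : ℕ) (V : X.Opens) :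
    sec (uSec ρ i n) V = SecTwist.tmul (Coh.structureModule X) (CohB1.tensorPow M n) V
      (one X V) (SecTwist.pow (ρ i) n V) := by
  unfold uSec
  refine (SecTwist.val_tmulHom (𝟙 _) (SecTwist.powHom (ρ i) n) V).trans ?_
  rw [SecTwist.val_powHom]
  rfl

theorem ratio_of_extension {E : Type*} {n : ℕ}
    (σ : E → (Coh.structureModule X ⟶
      CohB1.tensorMod (Coh.structureModule X) (CohB1.tensorPow M n)))
    (α k : E) (i : ι) (hα : σ α = uSec ρ i n)
    (hV : XE σ α ≤ CohB1.genLocus M (ρ i)) (b : Γ(X, CohB1.genLocus M (ρ i)))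
    (t' : Γ(CohB1.tensorMod (Coh.structureModule X) (CohB1.tensorPow M n), ⊤))
    (ht' : (CohB1.tensorMod (Coh.structureModule X) (CohB1.tensorPow M n)).presheaf.map
        (homOfLE (le_top : CohB1.genLocus M (ρ i) ≤ ⊤)).op t' =
      SecTwist.twist (ρ i) n (Coh.structureModule X) (CohB1.genLocus M (ρ i)) b)
    (hk : σ k = Groth.Agent.Lead.LocLift.homOfTop _ t') :
    ratio σ k α = X.presheaf.map (homOfLE hV).op b := by
  apply ratio_eq_of_smul
  rw [hα, hk, sec_uSec, sec_homOfTop']
  have h1 : (CohB1.tensorMod (Coh.structureModule X) (CohB1.tensorPow M n)).presheaf.map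
      (homOfLE (le_top : XE σ α ≤ ⊤)).op t' =
      (CohB1.tensorMod (Coh.structureModule X) (CohB1.tensorPow M n)).presheaf.map
        (homOfLE hV).op ((CohB1.tensorMod (Coh.structureModule X)
          (CohB1.tensorPow M n)).presheaf.map
        (homOfLE (le_top : CohB1.genLocus M (ρ i) ≤ ⊤)).op t') := by
    rw [← ConcreteCategory.comp_apply, ← Functor.map_comp]
    rfl
  rw [h1, ht', Groth.Agent.Helper4.TwistExt.twist_res]
  unfold SecTwist.twist
  refine (Groth.Agent.Helper4.TensorLift.tmul_smul_left (Coh.structureModule X)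
    (CohB1.tensorPow M n) (XE σ α) (X.presheaf.map (homOfLE hV).op b) (one X (XE σ α))
    (SecTwist.pow (ρ i) n (XE σ α))).symm.trans ?_
  exact congrArg (fun z => SecTwist.tmul (Coh.structureModule X) (CohB1.tensorPow M n) (XE σ α) z
    (SecTwist.pow (ρ i) n (XE σ α))) (mul_one (X.presheaf.map (homOfLE hV).op b))

end Core

section Main

variable {X Y : Scheme.{u}} [IsAffine Y] (q : X ⟶ Y) [LocallyOfFiniteType q]
  [CompactSpace X] [QuasiSeparatedSpace X]
  (M : X.Modules) (hM : PicF.IsInvertible M) {ι : Type*} [Finite ι]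
  (ρ : ι → (Coh.structureModule X ⟶ M))

include hM in
/-- **all large powers of an invertible module with finitely many sections with affine
generating loci covering the scheme are very ample** (here in the form `O ⊗ M^N`) -/
theorem exists_forall_veryAmple_of_cover
    (haff : ∀ i, IsAffineOpen (CohB1.genLocus M (ρ i)))
    (hcov : ⨆ i, CohB1.genLocus M (ρ i) = ⊤) :
    ∃ N₀ : ℕ, ∀ N, N₀ ≤ N → RelAmple.IsRelVeryAmplePn q
      (CohB1.tensorMod (Coh.structureModule X) (CohB1.tensorPow M N)) := by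
  classical
  haveI : Fintype ι := Fintype.ofFinite ι
  haveI : (Coh.structureModule X).IsQuasicoherent :=
    Groth.Agent.Helper4.QAffSec.isQuasicoherent_of_isInvertible _
      Groth.Agent.Helper4.TensorInv.isInvertible_structureModule
  choose B hB using fun i => exists_finset_gen q _ (haff i)
  choose N₀ hN₀ using fun (i : ι) (b : Γ(X, CohB1.genLocus M (ρ i))) =>
    Groth.Agent.Helper4.TwistExtU.exists_forall_twist_extends M hM (ρ i)
      (Coh.structureModule X) b
  refine ⟨(Finset.univ.sup fun i => (B i).sup (N₀ i)) + 1, fun N hN => ?_⟩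
  obtain ⟨N', rfl⟩ : ∃ N', N = N' + 1 := Nat.exists_eq_succ_of_ne_zero (by omega)
  have hle : ∀ (i : ι) (b : Γ(X, CohB1.genLocus M (ρ i))), b ∈ B i → N₀ i b ≤ N' + 1 := by
    intro i b hb
    have h1 : N₀ i b ≤ (B i).sup (N₀ i) := Finset.le_sup hb
    have h2 : (B i).sup (N₀ i) ≤ Finset.univ.sup fun i => (B i).sup (N₀ i) :=
      Finset.le_sup (f := fun i => (B i).sup (N₀ i)) (Finset.mem_univ i)
    omega
  choose t' ht' using fun (p : Σ i, ↥(B i)) => hN₀ p.1 p.2.1 (N' + 1) (hle p.1 p.2.1 p.2.2)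
  let 𝓜 : X.Modules := CohB1.tensorMod (Coh.structureModule X) (CohB1.tensorPow M (N' + 1))
  let σ : Option (ι ⊕ Σ i, ↥(B i)) → (Coh.structureModule X ⟶ 𝓜) := fun e =>
    match e with
    | none => 0
    | some (Sum.inl i) => uSec ρ i (N' + 1)
    | some (Sum.inr p) => Groth.Agent.Lead.LocLift.homOfTop 𝓜 (t' p)
  have hXE : ∀ i, XE σ (some (Sum.inl i)) = CohB1.genLocus M (ρ i) := fun i =>
    genLocus_uSec ρ hM i N'
  refine isRelVeryAmplePn_of_charts_finite q σ (Set.range fun i => some (Sum.inl i)) ?_ ?_ ?_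
  · rw [eq_top_iff, ← hcov]
    apply iSup_le
    intro i
    rw [← hXE i]
    exact le_iSup (fun α : (Set.range fun i : ι => (some (Sum.inl i) :
      Option (ι ⊕ Σ i, ↥(B i)))) => XE σ α) ⟨_, ⟨i, rfl⟩⟩
  · rintro ⟨_, ⟨i, rfl⟩⟩
    show IsAffineOpen (XE σ (some (Sum.inl i)))
    rw [hXE i]
    exact haff i
  · rintro ⟨_, ⟨i, rfl⟩⟩ T h1 h2
    refine subring_eq_top_of_gen q (XE σ (some (Sum.inl i))) (CohB1.genLocus M (ρ i)) (hXE i)
      (B i) (hB i) T h1 (fun b hb => ?_)
    have h3 := h2 (some (Sum.inr ⟨i, ⟨b, hb⟩⟩))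
    rw [ratio_of_extension ρ σ (some (Sum.inl i)) (some (Sum.inr ⟨i, ⟨b, hb⟩⟩)) i rfl
      (hXE i).le b (t' ⟨i, ⟨b, hb⟩⟩) (ht' ⟨i, ⟨b, hb⟩⟩) rfl] at h3
    exact h3

end Main

end Groth.Agent.Helper1.VA
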