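import Mathlib
import Groth.Agent.Helper1.VA8
import Groth.Agent.Helper4.AmpleFinite
import Groth.Agent.Helper4.AmpleEventual

/-!
# Very ample modules, part 9: powers of ample modules are very ample
-/

set_option autoImplicit false
set_option linter.style.haveILetI false

namespace Groth.Agent.Helper1.VA

open CategoryTheory Limits AlgebraicGeometry TopologicalSpace Opposite HomogeneousLocalization
open Groth.Agent.Helper4.GenLoc Groth.Agent.Helper4.GenLocIso Groth.Agent.Helper4.StalkExact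
  Groth.Agent.Helper4.PullSec Groth.Agent.Helper4.PullUnit
open Groth.Agent.Helper1.ProjMor Groth.Agent.Helper1.Segre Groth.Agent.Helper1.PUP
open Groth.Agent.Helper4.TensorInv Groth.Agent.Helper4.TensorAssoc

universe u

theorem isRelVeryAmplePn_of_iso {X S : Scheme.{u}} (f : X ⟶ S) {M M' : X.Modules} (e : M ≅ M')
    (h : RelAmple.IsRelVeryAmplePn f M) : RelAmple.IsRelVeryAmplePn f M' := by
  obtain ⟨n, i, hi, hf, ⟨φ⟩⟩ := h
  exact ⟨n, i, hi, hf, ⟨e.symm ≪≫ φ⟩⟩

/-- **a very ample module tensored with a module with finitely many sections generating it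
everywhere is very ample** -/
theorem isRelVeryAmplePn_tensor_of_sections {X S : Scheme.{u}} (q : X ⟶ S)
    (L L' : X.Modules) (hL : PicF.IsInvertible L) (hva : RelAmple.IsRelVeryAmplePn q L)
    (hL' : PicF.IsInvertible L') {m : ℕ} (σ₂ : Fin (m + 1) → (Coh.structureModule X ⟶ L'))
    (hcov₂ : ⨆ e, XE σ₂ e = ⊤) :
    RelAmple.IsRelVeryAmplePn q (CohB1.tensorMod L L') := by
  obtain ⟨n, i, himm, hi, ⟨φ⟩⟩ := hva
  subst hi
  let σ₁ : Fin (n + 1) → (Coh.structureModule X ⟶ L) := σi i φ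
  have hcov₁ : ⨆ e, XE σ₁ e = ⊤ := hcov_σi i φ
  let τ : Fin (n * m + n + m + 1) → (Coh.structureModule X ⟶ CohB1.tensorMod L L') := fun α =>
    tens σ₁ σ₂ ((idx n m).symm α)
  have hτ : ∀ p, τ (idx n m p) = tens σ₁ σ₂ p := fun p =>
    congrArg (tens σ₁ σ₂) ((idx n m).symm_apply_apply p)
  have hXE : ∀ p, XE τ (idx n m p) = XE σ₁ p.1 ⊓ XE σ₂ p.2 := by
    intro p
    unfold XE
    rw [hτ p]
    exact XE_tens σ₁ σ₂ hL hL' p
  have hcovτ : ⨆ e, XE τ e = ⊤ := by
    rw [eq_top_iff]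
    intro x _
    have hx1 : x ∈ ⨆ e, XE σ₁ e := by rw [hcov₁]; trivial
    have hx2 : x ∈ ⨆ e, XE σ₂ e := by rw [hcov₂]; trivial
    obtain ⟨a, ha⟩ := Opens.mem_iSup.mp hx1
    obtain ⟨b, hb⟩ := Opens.mem_iSup.mp hx2
    refine Opens.mem_iSup.mpr ⟨idx n m (a, b), ?_⟩
    rw [hXE]
    exact ⟨ha, hb⟩
  have h1 : IsImmersion (iS (i ≫ CohB1.ProjSpaceOver.toBase n S) σ₁ hcov₁) := by
    rw [iS_σi]
    exact himm
  refine isRelVeryAmplePn_of_charts_imm _ τ hcovτ Set.univ ?_ ?_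
  · rw [eq_top_iff, ← hcovτ]
    apply iSup_le
    intro e
    exact le_iSup (fun α : (Set.univ : Set (Fin (n * m + n + m + 1))) => XE τ α) ⟨e, trivial⟩
  · rintro ⟨α, -⟩
    obtain ⟨⟨a, b⟩, rfl⟩ := (idx n m).surjective α
    have hle : XE τ (idx n m (a, b)) ≤ XE σ₁ a := by
      rw [hXE]
      exact inf_le_left
    refine isImmersion_cl_of_index _ (fun k => idx n m (k, b)) a σ₁ hcov₁ τ hcovτ hle ?_
      (isImmersion_cl _ σ₁ hcov₁ h1 a)
    intro k
    apply ratio_eq_of_smul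
    rw [hτ, hτ, sec_tens, sec_tens, ← ratio_res σ₁ k a hle,
      Groth.Agent.Helper4.TensorLift.tmul_smul_left]
    rfl

/-- the same, for a finite nonempty index type -/
theorem isRelVeryAmplePn_tensor_of_sections_finite {X S : Scheme.{u}} (q : X ⟶ S)
    (L L' : X.Modules) (hL : PicF.IsInvertible L) (hva : RelAmple.IsRelVeryAmplePn q L)
    (hL' : PicF.IsInvertible L') {F : Type*} [Finite F] [Nonempty F]
    (σ₂ : F → (Coh.structureModule X ⟶ L')) (hcov₂ : ⨆ e, XE σ₂ e = ⊤) :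
    RelAmple.IsRelVeryAmplePn q (CohB1.tensorMod L L') := by
  obtain ⟨K, hK⟩ : ∃ K, Nat.card F = K + 1 :=
    Nat.exists_eq_succ_of_ne_zero (Nat.card_pos (α := F)).ne'
  let e : Fin (K + 1) ≃ F := ((Finite.equivFin F).trans (finCongr hK)).symm
  refine isRelVeryAmplePn_tensor_of_sections q L L' hL hva hL' (fun α => σ₂ (e α)) ?_
  rw [eq_top_iff, ← hcov₂]
  apply iSup_le
  intro β
  have h : XE σ₂ β = XE (fun α => σ₂ (e α)) (e.symm β) := by
    show _ = XE σ₂ (e (e.symm β))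
    rw [e.apply_symm_apply]
  rw [h]
  exact le_iSup (fun α => XE (fun α => σ₂ (e α)) α) (e.symm β)

section Ample

variable {X : Scheme.{u}} {L : X.Modules}

/-- for an ample module there are finitely many sections of a single positive power with affine
generating loci covering the scheme -/
theorem exists_pow_cover (h : CohB1.IsAmple L) :
    ∃ (P : ℕ) (_ : 0 < P) (S : Finset X)
      (ρ : S → (Coh.structureModule X ⟶ CohB1.tensorPow L P)),
      (∀ i, IsAffineOpen (CohB1.genLocus _ (ρ i))) ∧ ⨆ i, CohB1.genLocus _ (ρ i) = ⊤ := by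
  obtain ⟨hL, hc, hpt⟩ := h
  haveI := hc
  choose n s hx ha using hpt
  obtain ⟨S, hS⟩ := CompactSpace.elim_nhds_subcover
    (fun x => (CohB1.genLocus _ (s x) : Set X))
    (fun x => (CohB1.genLocus _ (s x)).isOpen.mem_nhds (hx x))
  have hP : 0 < ∏ x ∈ S, (n x + 1) := Finset.prod_pos (fun x _ => Nat.succ_pos _)
  have hd : ∀ x ∈ S, (n x + 1) ∣ ∏ x ∈ S, (n x + 1) := fun x hx =>
    Finset.dvd_prod_of_mem _ hx
  choose ρ hρ using fun x : S =>
    Groth.Agent.Helper4.AmpleFinite.exists_pow_section hL (n x) (s x) _ hP (hd x x.2)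
  refine ⟨_, hP, S, ρ, fun i => ?_, ?_⟩
  · rw [hρ]
    exact ha i
  · rw [eq_top_iff]
    intro x _
    have hx' : x ∈ ⋃ y ∈ S, (CohB1.genLocus _ (s y) : Set X) := by rw [hS]; trivial
    obtain ⟨y, hyS, hxy⟩ := Set.mem_iUnion₂.mp hx'
    refine Opens.mem_iSup.mpr ⟨⟨y, hyS⟩, ?_⟩
    rw [hρ]
    exact hxy

variable {Y : Scheme.{u}} [IsAffine Y] (q : X ⟶ Y) [LocallyOfFiniteType q]

/-- **some positive power of an ample module is very ample** -/
theorem exists_pow_veryAmple (h : CohB1.IsAmple L) :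
    ∃ n : ℕ, 0 < n ∧ RelAmple.IsRelVeryAmplePn q (CohB1.tensorPow L n) := by
  have hL := h.1
  haveI := h.2.1
  haveI := Groth.Agent.Helper4.AmpleBasis.quasiSeparatedSpace_of_isAmple h
  obtain ⟨P, hP, S, ρ, haff, hcov⟩ := exists_pow_cover h
  obtain ⟨N₀, hN₀⟩ := exists_forall_veryAmple_of_cover q (CohB1.tensorPow L P)
    (isInvertible_tensorPow hL P) ρ haff hcov
  refine ⟨P * (N₀ + 1), Nat.mul_pos hP (Nat.succ_pos _), ?_⟩
  exact isRelVeryAmplePn_of_iso q
    (Groth.Agent.Helper4.AmpleBasis.unitorL _ ≪≫ powMulIso L hL P (N₀ + 1))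
    (hN₀ (N₀ + 1) (Nat.le_succ _))

/-- finitely many sections generating all large twists -/
theorem exists_forall_sections (h : CohB1.IsAmple L) (L' : X.Modules)
    (hL' : PicF.IsInvertible L') :
    ∃ N₀ : ℕ, ∀ N, N₀ ≤ N → ∃ (S : Finset X)
      (σ : Option S → (Coh.structureModule X ⟶ CohB1.tensorMod L' (CohB1.tensorPow L N))),
      ⨆ e, XE σ e = ⊤ := by
  haveI := h.2.1
  obtain ⟨N₀, hN₀⟩ := Groth.Agent.Helper4.AmpleEventual.exists_forall_hasGenE h L' hL'
  refine ⟨N₀, fun N hN => ?_⟩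
  choose s hs using hN₀ N hN
  obtain ⟨S, hS⟩ := CompactSpace.elim_nhds_subcover
    (fun x => (CohB1.genLocus _ (s x) : Set X))
    (fun x => (CohB1.genLocus _ (s x)).isOpen.mem_nhds (hs x rfl))
  refine ⟨S, fun e => match e with
    | none => 0
    | some x => s x, ?_⟩
  rw [eq_top_iff]
  intro x _
  have hx' : x ∈ ⋃ y ∈ S, (CohB1.genLocus _ (s y) : Set X) := by rw [hS]; trivial
  obtain ⟨y, hyS, hxy⟩ := Set.mem_iUnion₂.mp hx'
  exact Opens.mem_iSup.mpr ⟨some ⟨y, hyS⟩, hxy⟩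

/-- **all large twists of an invertible module by an ample module are very ample** -/
theorem exists_forall_veryAmple (h : CohB1.IsAmple L) (L' : X.Modules)
    (hL' : PicF.IsInvertible L') :
    ∃ n₀ : ℕ, ∀ n, n₀ ≤ n →
      RelAmple.IsRelVeryAmplePn q (CohB1.tensorMod (CohB1.tensorPow L n) L') := by
  have hL := h.1
  obtain ⟨n₁, -, hva⟩ := exists_pow_veryAmple q h
  obtain ⟨N₀, hN₀⟩ := exists_forall_sections h L' hL'
  refine ⟨n₁ + N₀, fun n hn => ?_⟩
  obtain ⟨N, rfl⟩ : ∃ N, n = n₁ + N := ⟨n - n₁, by omega⟩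
  obtain ⟨S, σ, hσ⟩ := hN₀ N (by omega)
  have h1 := isRelVeryAmplePn_tensor_of_sections_finite q (CohB1.tensorPow L n₁)
    (CohB1.tensorMod L' (CohB1.tensorPow L N)) (isInvertible_tensorPow hL n₁) hva
    (isInvertible_tensorMod hL' (isInvertible_tensorPow hL N)) σ hσ
  refine isRelVeryAmplePn_of_iso q ?_ h1
  exact PicGrp.tensorModIso (Iso.refl _) (Groth.Agent.Helper4.AmpleBasis.braidIso _ _) ≪≫
    (assocIso (CohB1.tensorPow L n₁) (CohB1.tensorPow L N) L' (isInvertible_tensorPow hL N)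
      hL').symm ≪≫
    PicGrp.tensorModIso (powAddIso L hL n₁ N) (Iso.refl L')

end Ample

end Groth.Agent.Helper1.VA
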