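import Mathlib
import Groth.Agent.Helper1.VA9
import Groth.Agent.Helper1.TwistGenBy
import Groth.Agent.Helper4.PullAmple

/-!
# Very ample modules, part 10: very ample modules over an affine base are ample
-/

set_option autoImplicit false
set_option linter.style.haveILetI false

namespace Groth.Agent.Helper1.VA

open CategoryTheory Limits AlgebraicGeometry TopologicalSpace Opposite HomogeneousLocalization
open Groth.Agent.Helper1.ProjMor Groth.Agent.Helper1.Segre Groth.Agent.Helper1.PUP
open Groth.Agent.Helper4.TensorInv Groth.Agent.Helper4.TensorAssoc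

universe u

instance compactSpace_proj (R : Type u) [CommRing R] (n : ℕ) :
    CompactSpace (Proj (CohB1.polyGrading n R)) :=
  Groth.Agent.Helper1.TwistMul.compactSpace_of_adjoin (CohB1.polyGrading n R)
    (fun i : Fin (n + 1) => (MvPolynomial.X i : MvPolynomial (Fin (n + 1)) R)) (fun _ => 1)
    (fun _ => one_pos) (fun i => hX i) MvPolynomial.adjoin_range_X

/-- `O(1)` on projective space over an affine scheme is ample -/
theorem isAmple_twistOver (n : ℕ) (S : Scheme.{u}) [IsAffine S] :
    CohB1.IsAmple (Twist.twistOver n S 1) := by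
  have h1 : CohB1.IsAmple (Twist.twist (CohB1.polyGrading n (ULift.{u} ℤ)) ((1 : ℕ) : ℤ)) :=
    Groth.Agent.Helper1.TwistMul.isAmple_twist (CohB1.polyGrading n (ULift.{u} ℤ)) (hcovP n) 1
      one_pos
  haveI : IsAffineHom (specULiftZIsTerminal.from S) := isAffineHom_of_isAffine _
  haveI : IsAffineHom (pullback.fst (CohB1.ProjSpace.toSpec n (ULift.{u} ℤ))
      (specULiftZIsTerminal.from S)) := MorphismProperty.pullback_fst _ _ inferInstance
  exact Groth.Agent.Helper4.PullAmple.isAmple_pullback_of_isAffineHom
    (pullback.fst (CohB1.ProjSpace.toSpec n (ULift.{u} ℤ)) (specULiftZIsTerminal.from S)) h1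

/-- **a very ample module over an affine base is ample** -/
theorem isAmple_of_isRelVeryAmplePn {X Y : Scheme.{u}} [IsAffine Y] (q : X ⟶ Y) [QuasiCompact q]
    (M : X.Modules) (h : RelAmple.IsRelVeryAmplePn q M) : CohB1.IsAmple M := by
  obtain ⟨n, i, himm, -, ⟨φ⟩⟩ := h
  haveI : CompactSpace X := QuasiCompact.compactSpace_of_compactSpace q
  have h1 := Groth.Agent.Helper4.PullAmple.isAmple_pullback_of_isEmbedding i i.isEmbedding
    (isAmple_twistOver n Y)
  exact Groth.Agent.Helper4.AmpleIso.isAmple_of_iso φ.symm h1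

end Groth.Agent.Helper1.VA
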