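import Mathlib
import Groth.Agent.Helper1.Dev10

/-!
# Dévissage, part 11: the generic module (length one version)
-/

set_option autoImplicit false
set_option linter.style.haveILetI false

namespace Groth.Agent.Helper1.Dev

open CategoryTheory Limits AlgebraicGeometry TopologicalSpace
open Groth.Agent.Helper4.StalkDict Groth.Agent.Helper4 Groth.Agent.Lead.Thick
  Groth.Agent.Lead.StalkNhd Groth.Agent.Lead.FlatLib Scheme.Modules Groth.Agent.Lead.PushStalk
  Groth.Agent.Helper4.FinLocFree

universe u

/-- a simple module over a local ring is killed by the maximal ideal -/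
theorem smul_eq_zero_of_mem_maximalIdeal {R M : Type*} [CommRing R] [IsLocalRing R]
    [AddCommGroup M] [Module R M] [IsSimpleModule R M] (r : R)
    (hr : r ∈ IsLocalRing.maximalIdeal R) (x : M) : r • x = 0 := by
  by_contra hne
  obtain ⟨s, hs⟩ := IsSimpleModule.toSpanSingleton_surjective R hne x
  have hs' : s • r • x = x := hs
  have h1 : (1 - s * r) • x = 0 := by
    rw [sub_smul, one_smul, mul_smul, hs', sub_self]
  have hu : IsUnit (1 - s * r) := by
    have hm : s * r ∈ IsLocalRing.maximalIdeal R := Ideal.mul_mem_left _ _ hr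
    by_contra hnu
    have h2 : 1 - s * r ∈ IsLocalRing.maximalIdeal R := (IsLocalRing.mem_maximalIdeal _).2 hnu
    have h3 : (1 : R) ∈ IsLocalRing.maximalIdeal R := by
      have := Ideal.add_mem _ h2 hm
      rwa [sub_add_cancel] at this
    exact (IsLocalRing.maximalIdeal.isMaximal R).ne_top ((Ideal.eq_top_iff_one _).2 h3)
  have hx : x = 0 := (hu.smul_eq_zero).1 h1
  apply hne
  rw [hx, smul_zero]

variable {X : Scheme.{u}}

/-- the stalk of a module which is free of rank `n` near `x` has a basis of size `n` -/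
theorem nonempty_basis_stalk_of_isFreeAlong (F : X.Modules) [F.IsQuasicoherent] (V : X.Opens)
    (n : ℕ) (h : IsFreeAlong F V.ι n) (x : X) (hx : x ∈ V) :
    Nonempty (Module.Basis (Fin n) (X.presheaf.stalk x) (F.presheaf.stalk x)) := by
  obtain ⟨_, ⟨W, hW : IsAffineOpen W, rfl⟩, hxW, hWV⟩ :=
    X.isBasis_affineOpens.exists_subset_of_mem_open hx V.isOpen
  obtain ⟨b⟩ := (isFreeAlong_ι_iff_basis hW F).1 (h.of_le hWV)
  letI := sectionModStalk F x hxW
  letI := X.presheaf.algebra_section_stalk ⟨x, hxW⟩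
  haveI := hW.isLocalization_stalk ⟨x, hxW⟩
  haveI := isLocalizedModule_germ hW F x hxW
  haveI : IsScalarTower Γ(X, W) (X.presheaf.stalk x) (F.presheaf.stalk x) :=
    IsScalarTower.of_algebraMap_smul (fun r m => rfl)
  exact ⟨b.ofIsLocalizedModule (X.presheaf.stalk x)
    (hW.primeIdealOf ⟨x, hxW⟩).asIdeal.primeCompl (germLin F x hxW)⟩

/-- germs of sections of an ideal at a point of its support lie in the maximal ideal -/
theorem germ_mem_maximalIdeal (J : X.IdealSheafData) (U : X.Opens) (hU : IsAffineOpen U) (y : X)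
    (hyU : y ∈ U) (hy : y ∈ (J.support : Set X)) (a : Γ(X, U)) (ha : a ∈ J.ideal ⟨U, hU⟩) :
    X.presheaf.germ U y hyU a ∈ IsLocalRing.maximalIdeal (X.presheaf.stalk y) := by
  rw [IsLocalRing.mem_maximalIdeal]
  intro hu
  have h1 : y ∈ X.zeroLocus (U := U) (J.ideal ⟨U, hU⟩ : Set Γ(X, U)) :=
    (Scheme.IdealSheafData.mem_support_iff_of_mem (U := ⟨U, hU⟩) hyU).1 hy
  rw [Scheme.mem_zeroLocus_iff] at h1
  apply h1 a ha
  rwa [Scheme.mem_basicOpen _ _ _ hyU]

/-- the kernel of the unit `G ⟶ i_* i^* G` vanishes at points of the support of the ideal where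
the maximal ideal kills the stalk -/
theorem subsingleton_stalk_kernel_η (J : X.IdealSheafData) (G : X.Modules) [G.IsQuasicoherent]
    (y : X) (hy : y ∈ (J.support : Set X))
    (hkill : ∀ r ∈ IsLocalRing.maximalIdeal (X.presheaf.stalk y), ∀ t : G.presheaf.stalk y,
      r • t = 0) :
    Subsingleton ((kernel (η J.subschemeι G)).presheaf.stalk y) := by
  refine ⟨fun a b => ?_⟩
  suffices h0 : ∀ t : (kernel (η J.subschemeι G)).presheaf.stalk y, t = 0 by rw [h0 a, h0 b]
  intro t
  apply StalkExact.stalkLin_injective (kernel.ι (η J.subschemeι G)) y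
  rw [map_zero]
  obtain ⟨V, hyV, k, rfl⟩ := TopCat.Presheaf.exists_germ_eq _ t
  obtain ⟨_, ⟨W, hW : IsAffineOpen W, rfl⟩, hyW, hWV⟩ :=
    X.isBasis_affineOpens.exists_subset_of_mem_open hyV V.isOpen
  rw [← TopCat.Presheaf.germ_res_apply (kernel (η J.subschemeι G)).presheaf (homOfLE hWV) y hyW k,
    StalkExact.stalkLin_germ]
  set k' := (kernel (η J.subschemeι G)).presheaf.map (homOfLE hWV).op k
  have h1 : (η J.subschemeι G).app W ((kernel.ι (η J.subschemeι G)).app W k') = 0 := by
    have := congrArg (fun φ => (Scheme.Modules.Hom.app φ W) k')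
      (kernel.condition (η J.subschemeι G))
    exact this
  have h2 := η_app_ker J.subschemeι G hW _ h1
  rw [J.ker_subschemeι_app ⟨W, hW⟩] at h2
  refine Submodule.smul_induction_on h2 ?_ ?_
  · intro r hr m _
    rw [germ_smul]
    exact hkill _ (germ_mem_maximalIdeal J W hW y hyW hy r hr) _
  · intro a b ha hb
    rw [map_add, ha, hb, add_zero]

end Groth.Agent.Helper1.Dev
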