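import Mathlib
import Groth.Agent.Helper1.Dev11

/-!
# Dévissage, part 12: the generic module (length one version), continued
-/

set_option autoImplicit false
set_option linter.style.haveILetI false

namespace Groth.Agent.Helper1.Dev

open CategoryTheory Limits AlgebraicGeometry TopologicalSpace
open Groth.Agent.Helper4.StalkDict Groth.Agent.Helper4 Groth.Agent.Lead.Thick
  Groth.Agent.Lead.StalkNhd Groth.Agent.Lead.FlatLib Scheme.Modules Groth.Agent.Lead.PushStalk
  Groth.Agent.Helper4.FinLocFree

universe u

/-- a basis of a module which is semilinearly isomorphic to a simple module has one element -/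
theorem card_eq_one_of_semilinear {R S M N : Type*} [CommRing R] [CommRing S] [Nontrivial S]
    [AddCommGroup M] [Module R M] [AddCommGroup N] [Module S N] [IsSimpleModule R M]
    (φ : R →+* S) (f : M →+ N) (hf : Function.Bijective f)
    (hsemi : ∀ (r : R) (m : M), f (r • m) = φ r • f m) (q : ℕ)
    (b : Module.Basis (Fin q) S N) : q = 1 := by
  haveI : Nontrivial M := IsSimpleModule.nontrivial R M
  have h0 : q ≠ 0 := by
    rintro rfl
    haveI : Subsingleton N := b.repr.toEquiv.subsingleton
    haveI : Subsingleton M := hf.1.subsingleton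
    exact not_subsingleton M inferInstance
  have h2 : ¬ 2 ≤ q := by
    intro h2
    let i0 : Fin q := ⟨0, by omega⟩
    let i1 : Fin q := ⟨1, by omega⟩
    have hne : i0 ≠ i1 := by
      intro h
      have := congrArg Fin.val h
      simp [i0, i1] at this
    obtain ⟨g0, hg0⟩ := hf.2 (b i0)
    obtain ⟨g1, hg1⟩ := hf.2 (b i1)
    have hg0ne : g0 ≠ 0 := by
      rintro rfl
      rw [map_zero] at hg0
      exact b.ne_zero i0 hg0.symm
    obtain ⟨r, hr⟩ := IsSimpleModule.toSpanSingleton_surjective R hg0ne g1
    have hr' : r • g0 = g1 := hr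
    have h3 : b i1 = φ r • b i0 := by
      rw [← hg1, ← hr', hsemi, hg0]
    have h4 := congrArg (fun t => b.repr t i1) h3
    simp only [_root_.map_smul, Module.Basis.repr_self, Finsupp.smul_apply, Finsupp.single_eq_same,
      Finsupp.single_eq_of_ne hne.symm, smul_eq_mul, mul_zero] at h4
    exact one_ne_zero h4
  omega

variable {X : Scheme.{u}} [IsNoetherian X] {K : ObjectProperty X.Modules} (hK : ExactClass K)

include hK in
theorem structure_of_simple (Y : Closeds X) (hirr : IsIrreducible (Y : Set X)) (hB : Below K Y)
    (G : X.Modules) (hG : Coh.IsCoh G) (hKG : K G) (hsupp : CohB1.support G ⊆ (Y : Set X))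
    (y : X) (hy : closure {y} = (Y : Set X))
    [IsSimpleModule (X.presheaf.stalk y) (G.presheaf.stalk y)] :
    K ((Scheme.Modules.pushforward (Scheme.IdealSheafData.vanishingIdeal Y).subschemeι).obj
      (Coh.structureModule _)) := by
  haveI : G.IsQuasicoherent := hG.1
  haveI := isIntegral_subscheme Y hirr
  haveI := isNoetherian_of_isClosedImmersion (Scheme.IdealSheafData.vanishingIdeal Y).subschemeι
  have hK' := pushClass_exactClass (Scheme.IdealSheafData.vanishingIdeal Y).subschemeι hK
  have hsmall := fun E hE hs => small_of_below (K := K) Y hB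
    (genericPoint (Scheme.IdealSheafData.vanishingIdeal Y).subscheme) E hE hs
  have hy' := eq_ι_genericPoint Y y hy
  have hyY : y ∈ (Y : Set X) := by rw [← hy]; exact subset_closure rfl
  have hyJ : y ∈ ((Scheme.IdealSheafData.vanishingIdeal Y).support : Set X) := by
    rw [support_vanishingIdeal]; exact hyY
  -- step 1: replace `G` by `i_* i^* G`
  have hker0 := subsingleton_stalk_kernel_η (Scheme.IdealSheafData.vanishingIdeal Y) G y hyJ
    (fun r hr t => smul_eq_zero_of_mem_maximalIdeal r hr t)
  have hQ : Coh.IsCoh ((Scheme.Modules.pushforward (Scheme.IdealSheafData.vanishingIdeal Y).subschemeι).obj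
      ((Scheme.Modules.pullback (Scheme.IdealSheafData.vanishingIdeal Y).subschemeι).obj G)) :=
    isCoh_push _ _ (isCoh_pullback _ G hG)
  have hker : Coh.IsCoh (kernel (η (Scheme.IdealSheafData.vanishingIdeal Y).subschemeι G)) :=
    Groth.Agent.Lead.PerfLib.isCoh_kernel hG hQ _
  have hKker : K (kernel (η (Scheme.IdealSheafData.vanishingIdeal Y).subschemeι G)) := by
    have hcl := Groth.Agent.S0020.result _ _ hker.2
    refine hB ⟨_, hcl⟩ ?_ _ hker le_rfl
    refine lt_of_le_of_ne ((support_kernel_subset _).trans hsupp) ?_
    intro heq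
    have : y ∈ ((⟨_, hcl⟩ : Closeds X) : Set X) := by rw [heq]; exact hyY
    exact this hker0
  have hKQ := (hK.two_of_three (kerSC (η (Scheme.IdealSheafData.vanishingIdeal Y).subschemeι G))
    (kerSC_shortExact _) hker hG hQ).1 hKker hKG
  -- step 2: the generic rank is one
  have hG' := isCoh_pullback (Scheme.IdealSheafData.vanishingIdeal Y).subschemeι G hG
  haveI : ((Scheme.Modules.pullback (Scheme.IdealSheafData.vanishingIdeal Y).subschemeι).obj
    G).IsQuasicoherent := hG'.1
  obtain ⟨V, q, hV, hfree⟩ := exists_isFreeAlong _ hG'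
  obtain ⟨b⟩ := nonempty_basis_stalk_of_isFreeAlong _ V q hfree _ hV
  have hq : q = 1 := by
    subst hy'
    have hbij1 : Function.Bijective
        (stalkLin (η (Scheme.IdealSheafData.vanishingIdeal Y).subschemeι G)
          ((Scheme.IdealSheafData.vanishingIdeal Y).subschemeι
            (genericPoint (Scheme.IdealSheafData.vanishingIdeal Y).subscheme))) := by
      constructor
      · rw [injective_iff_map_eq_zero]
        intro t ht
        obtain ⟨d, rfl⟩ := (StalkExact.stalkLin_exact
          (kerSC (η (Scheme.IdealSheafData.vanishingIdeal Y).subschemeι G))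
          (kerSC_shortExact _).exact _ t).1 ht
        rw [Subsingleton.elim d 0, map_zero]
      · exact EpiStalk.stalkLin_surjective_of_epi _ _
    have hbij2 := psHom_bijective (Scheme.IdealSheafData.vanishingIdeal Y).subschemeι
      ((Scheme.Modules.pullback (Scheme.IdealSheafData.vanishingIdeal Y).subschemeι).obj G)
      (Scheme.IdealSheafData.vanishingIdeal Y).subschemeι.isClosedEmbedding.isInducing
      (genericPoint (Scheme.IdealSheafData.vanishingIdeal Y).subscheme)
    refine card_eq_one_of_semilinear
      ((Scheme.IdealSheafData.vanishingIdeal Y).subschemeι.stalkMap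
        (genericPoint (Scheme.IdealSheafData.vanishingIdeal Y).subscheme)).hom
      ((psHom (Scheme.IdealSheafData.vanishingIdeal Y).subschemeι
        ((Scheme.Modules.pullback (Scheme.IdealSheafData.vanishingIdeal Y).subschemeι).obj G)
        (genericPoint (Scheme.IdealSheafData.vanishingIdeal Y).subscheme)).comp
        (stalkLin (η (Scheme.IdealSheafData.vanishingIdeal Y).subschemeι G)
          ((Scheme.IdealSheafData.vanishingIdeal Y).subschemeι
            (genericPoint (Scheme.IdealSheafData.vanishingIdeal Y).subscheme))).toAddMonoidHom)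
      (hbij2.comp hbij1) ?_ q b
    intro r m
    show psHom _ _ _ (stalkLin _ _ (r • m)) = _ • psHom _ _ _ (stalkLin _ _ m)
    rw [_root_.map_smul, psHom_smul]
  subst hq
  obtain ⟨e⟩ := hfree
  have hF := (iff_of_iso_restrict hK' hsmall _ (FlatMod.freeMod _ 1) hG' (isCoh_freeMod _ 1) V hV
    (e ≪≫ (restrictFreeIso V.ι 1).symm)).1 hKQ
  exact hK'.iso (coproductUniqueIso (fun _ : Fin 1 => Coh.structureModule _)) hF

end Groth.Agent.Helper1.Dev
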