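import Mathlib
import Groth.Agent.Helper1.Dev12
import Groth.Agent.Lead.PerfLib7

/-!
# Dévissage, part 13: auxiliary statements for the published forms
-/

set_option autoImplicit false
set_option linter.style.haveILetI false

namespace Groth.Agent.Helper1.Dev

open CategoryTheory Limits AlgebraicGeometry TopologicalSpace

universe u

theorem isSimpleModule_of_equiv_residueField {R M : Type*} [CommRing R] [IsLocalRing R]
    [AddCommGroup M] [Module R M] (e : M ≃ₗ[R] IsLocalRing.ResidueField R) :
    IsSimpleModule R M := by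
  haveI : IsSimpleModule R (IsLocalRing.ResidueField R) := by
    rw [isSimpleModule_iff_toSpanSingleton_surjective]
    refine ⟨inferInstance, fun x hx y => ?_⟩
    obtain ⟨r, hr⟩ := IsLocalRing.residue_surjective (R := R) (y / x)
    refine ⟨r, ?_⟩
    show r • x = y
    rw [Algebra.smul_def]
    show IsLocalRing.residue R r * x = y
    rw [hr, div_mul_cancel₀ _ hx]
  exact IsSimpleModule.congr e

variable {X : Scheme.{u}}

theorem isCoh_of_isZero {M : X.Modules} (hM : IsZero M) : Coh.IsCoh M :=
  Groth.Agent.Lead.PerfLib.isCoh_of_isFinLocFree (Groth.Agent.Lead.PerfLib.isFinLocFree_of_isZero hM)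

/-- `0 → G → G → M → 0` for a zero object `M` -/
noncomputable abbrev zeroSC (G M : X.Modules) : ShortComplex X.Modules :=
  ShortComplex.mk (𝟙 G) (0 : G ⟶ M) comp_zero

theorem zeroSC_shortExact (G M : X.Modules) (hM : IsZero M) : (zeroSC G M).ShortExact := by
  have hepi : Epi (0 : G ⟶ M) := ⟨fun g h _ => hM.eq_of_src _ _⟩
  refine ShortComplex.ShortExact.mk' ?_ (inferInstanceAs (Mono (𝟙 G))) hepi
  rw [ShortComplex.exact_iff_epi _ (by rfl)]
  exact inferInstanceAs (Epi (𝟙 G))

end Groth.Agent.Helper1.Dev
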