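import Mathlib
import Groth.Agent.Helper1.Dev13

/-!
# Dévissage, part 14: classes closed under extensions only
-/

set_option autoImplicit false
set_option linter.style.haveILetI false

namespace Groth.Agent.Helper1.Dev

open CategoryTheory Limits AlgebraicGeometry TopologicalSpace
open Groth.Agent.Helper4.StalkDict Groth.Agent.Helper4 Groth.Agent.Lead.Thick
  Groth.Agent.Lead.StalkNhd Groth.Agent.Lead.FlatLib Scheme.Modules Groth.Agent.Lead.PushStalk

universe u

variable {X : Scheme.{u}}

/-- a class of modules closed under isomorphisms and extensions of coherent modules, containing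
the zero modules -/
structure HalfClass (K : ObjectProperty X.Modules) : Prop where
  iso : ∀ {M N : X.Modules}, (M ≅ N) → K M → K N
  zero : ∀ M : X.Modules, IsZero M → K M
  ext : ∀ S : ShortComplex X.Modules, S.ShortExact → Coh.IsCoh S.X₁ → Coh.IsCoh S.X₂ →
    Coh.IsCoh S.X₃ → K S.X₁ → K S.X₃ → K S.X₂

theorem ExactClass.halfClass {K : ObjectProperty X.Modules} (hK : ExactClass K) : HalfClass K where
  iso := hK.iso
  zero := hK.zero
  ext := fun S hS h₁ h₂ h₃ => (hK.two_of_three S hS h₁ h₂ h₃).2.1

section PushClass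

variable {Z : Scheme.{u}} (i : Z ⟶ X) [IsClosedImmersion i]

theorem pushClass_halfClass [IsLocallyNoetherian X] {K : ObjectProperty X.Modules}
    (hK : HalfClass K) : HalfClass (pushClass i K) where
  iso := fun e h => hK.iso ((Scheme.Modules.pushforward i).mapIso e) h
  zero := fun M hM => hK.zero _ (Functor.map_isZero _ hM)
  ext := fun S hS h₁ h₂ h₃ =>
    hK.ext (S.map (Scheme.Modules.pushforward i))
      (Groth.Agent.Helper1.ClTr.shortExact_push i S hS)
      (isCoh_push i _ h₁) (isCoh_push i _ h₂) (isCoh_push i _ h₃)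

end PushClass

variable {K : ObjectProperty X.Modules} (hK : HalfClass K)

include hK in
theorem HalfClass.of_kills {Z : Scheme.{u}} (i : Z ⟶ X) [IsClosedImmersion i]
    [IsLocallyNoetherian X]
    (h1 : ∀ F : X.Modules, Coh.IsCoh F → Kills i F 1 → K F) :
    ∀ (n : ℕ) (F : X.Modules), Coh.IsCoh F → Kills i F n → K F := by
  intro n
  induction n with
  | zero =>
    intro F hF h
    haveI : F.IsQuasicoherent := hF.1
    exact hK.zero _ (isZero_of_kills_zero i F h)
  | succ n ih =>
    intro F hF h
    haveI : F.IsQuasicoherent := hF.1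
    have hQ : Coh.IsCoh ((Scheme.Modules.pushforward i).obj ((Scheme.Modules.pullback i).obj F)) :=
      isCoh_push i _ (isCoh_pullback i F hF)
    have hker : Coh.IsCoh (kernel (η i F)) := Groth.Agent.Lead.PerfLib.isCoh_kernel hF hQ _
    exact hK.ext (kerSC (η i F)) (kerSC_shortExact (η i F)) hker hF hQ
      (ih _ hker (kills_kernel i F n h)) (h1 _ hQ (kills_push i _))

variable [IsNoetherian X]

include hK in
theorem HalfClass.reducible_step (Y Y₁ Y₂ : Closeds X) (hY : Y = Y₁ ⊔ Y₂)
    (h₁ : ∀ F : X.Modules, Coh.IsCoh F → CohB1.support F ⊆ (Y₁ : Set X) → K F)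
    (h₂ : ∀ F : X.Modules, Coh.IsCoh F → CohB1.support F ⊆ (Y₂ : Set X) → K F)
    (F : X.Modules) (hF : Coh.IsCoh F)
    (hkill : Kills (Scheme.IdealSheafData.vanishingIdeal Y).subschemeι F 1) : K F := by
  haveI : F.IsQuasicoherent := hF.1
  set J₁ := Scheme.IdealSheafData.vanishingIdeal Y₁
  set J₂ := Scheme.IdealSheafData.vanishingIdeal Y₂
  have hJ : Scheme.IdealSheafData.vanishingIdeal Y = J₁ ⊓ J₂ := by
    rw [hY, Scheme.IdealSheafData.vanishingIdeal_sup]
  rw [hJ] at hkill
  have hQ : Coh.IsCoh ((Scheme.Modules.pushforward J₁.subschemeι).obj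
      ((Scheme.Modules.pullback J₁.subschemeι).obj F)) :=
    isCoh_push _ _ (isCoh_pullback _ F hF)
  have hker : Coh.IsCoh (kernel (η J₁.subschemeι F)) :=
    Groth.Agent.Lead.PerfLib.isCoh_kernel hF hQ _
  refine hK.ext (kerSC (η J₁.subschemeι F)) (kerSC_shortExact _) hker hF hQ
    (h₂ _ hker ?_) (h₁ _ hQ ?_)
  · rw [← range_ι_vanishingIdeal Y₂]
    exact support_subset_range_of_kills _ _ 1 (kills_kernel_of_inf J₁ J₂ F hkill)
  · rw [← range_ι_vanishingIdeal Y₁]
    exact support_push_subset _ _

include hK in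
/-- **the core dévissage theorem**, for classes closed under extensions -/
theorem HalfClass.core (X' : Closeds X)
    (hirr : ∀ Y : Closeds X, Y ≤ X' → IsIrreducible (Y : Set X) → Below K Y →
      ∀ E : (Scheme.IdealSheafData.vanishingIdeal Y).subscheme.Modules, Coh.IsCoh E →
      K ((Scheme.Modules.pushforward (Scheme.IdealSheafData.vanishingIdeal Y).subschemeι).obj E))
    (F : X.Modules) (hF : Coh.IsCoh F) (hsupp : CohB1.support F ⊆ (X' : Set X)) : K F := by
  suffices key : ∀ Y : Closeds X, Y ≤ X' → ∀ F : X.Modules, Coh.IsCoh F →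
      CohB1.support F ⊆ (Y : Set X) → K F from key X' le_rfl F hF hsupp
  intro Y
  induction Y using WellFoundedLT.induction with
  | ind Y ih =>
    intro hYX' F hF hsupp
    have hB : Below K Y := fun Y' hY' F hF hs => ih Y' hY' (hY'.le.trans hYX') F hF hs
    obtain ⟨n, hn⟩ := exists_kills_of_support (Scheme.IdealSheafData.vanishingIdeal Y) F hF
      (by rw [support_vanishingIdeal]; exact hsupp)
    refine hK.of_kills (Scheme.IdealSheafData.vanishingIdeal Y).subschemeι ?_ n F hF hn
    intro F hF hkill
    haveI : F.IsQuasicoherent := hF.1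
    by_cases hirrY : IsIrreducible (Y : Set X)
    · have hmain := hirr Y hYX' hirrY hB _
        (isCoh_pullback (Scheme.IdealSheafData.vanishingIdeal Y).subschemeι F hF)
      haveI := isIso_η_of_kills _ F hkill
      exact hK.iso (asIso (η (Scheme.IdealSheafData.vanishingIdeal Y).subschemeι F)).symm hmain
    · by_cases hne : (Y : Set X).Nonempty
      · have hpre : ¬ IsPreirreducible (Y : Set X) := fun h => hirrY ⟨hne, h⟩
        rw [isPreirreducible_iff_isClosed_union_isClosed] at hpre
        push_neg at hpre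
        obtain ⟨z₁, z₂, hz₁, hz₂, hsub, hn₁, hn₂⟩ := hpre
        let Y₁ : Closeds X := ⟨(Y : Set X) ∩ z₁, Y.isClosed.inter hz₁⟩
        let Y₂ : Closeds X := ⟨(Y : Set X) ∩ z₂, Y.isClosed.inter hz₂⟩
        have hY : Y = Y₁ ⊔ Y₂ := by
          apply Closeds.ext
          show (Y : Set X) = ((Y : Set X) ∩ z₁) ∪ ((Y : Set X) ∩ z₂)
          rw [← Set.inter_union_distrib_left]
          exact (Set.inter_eq_left.2 hsub).symm
        have hlt₁ : Y₁ < Y := by
          refine lt_of_le_of_ne (fun x hx => hx.1) ?_
          intro heq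
          apply hn₁
          intro x hx
          have : x ∈ (Y₁ : Set X) := by rw [heq]; exact hx
          exact this.2
        have hlt₂ : Y₂ < Y := by
          refine lt_of_le_of_ne (fun x hx => hx.1) ?_
          intro heq
          apply hn₂
          intro x hx
          have : x ∈ (Y₂ : Set X) := by rw [heq]; exact hx
          exact this.2
        exact hK.reducible_step Y Y₁ Y₂ hY (hB Y₁ hlt₁) (hB Y₂ hlt₂) F hF hkill
      · apply hK.zero
        apply isZero_of_support_eq_empty
        rw [Set.not_nonempty_iff_eq_empty] at hne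
        have h1 := support_subset_range_of_kills _ F 1 hkill
        rw [range_ι_vanishingIdeal, hne] at h1
        exact Set.subset_empty_iff.1 h1

end Groth.Agent.Helper1.Dev
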