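import Groth.Agent.Helper1.Fin2
import Groth.Agent.Helper1.SerreH
import Mathlib

/-!
# Vanishing of higher direct images from vanishing of cohomology over an affine cover
-/

set_option autoImplicit false

namespace Groth.Agent.Helper1.Fin

open CategoryTheory Limits Opposite TopologicalSpace AlgebraicGeometry
open Groth.Agent.Helper1.Serre

universe u

variable {X S : Scheme.{u}}

/-- variant of `subsingleton_HU_basicOpen` with the affine diagonal hypothesis stated in `X` -/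
theorem subsingleton_HU_basicOpen' (U : X.Opens) (hc : IsCompact (U : Set X))
    (hqs : IsQuasiSeparated (U : Set X))
    (hd : ∀ V W : X.Opens, V ≤ U → W ≤ U → IsAffineOpen V → IsAffineOpen W →
      IsAffineOpen (V ⊓ W))
    (M : X.Modules) [M.IsQuasicoherent] (q : ℕ)
    (h : Subsingleton (CohTop.HU (Coh.toAb M) (q + 1) U)) (β : Γ(X, U)) :
    Subsingleton (CohTop.HU (Coh.toAb M) (q + 1) (X.basicOpen β)) := by
  haveI : CompactSpace U.toScheme := isCompact_iff_compactSpace.1 hc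
  haveI : QuasiSeparatedSpace U.toScheme := (isQuasiSeparated_iff_quasiSeparatedSpace _ U.2).1 hqs
  refine subsingleton_HU_basicOpen U ?_ M q h β
  intro V W hV hW
  have hle : ∀ T : U.toScheme.Opens, U.ι ''ᵁ T ≤ U := by
    intro T
    have := U.ι.image_le_opensRange T
    rwa [Scheme.Opens.opensRange_ι] at this
  have h1 := hd (U.ι ''ᵁ V) (U.ι ''ᵁ W) (hle V) (hle W) (hV.image_of_isOpenImmersion U.ι)
    (hW.image_of_isOpenImmersion U.ι)
  have h2 := h1.preimage_of_isOpenImmersion U.ι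
    (inf_le_left.trans (U.ι.image_le_opensRange V))
  rwa [Scheme.Hom.preimage_inf, Scheme.Hom.preimage_image_eq, Scheme.Hom.preimage_image_eq] at h2

/-- if `H^{q+1}(f⁻¹V, M) = 0` for the members `V` of a finite affine open cover of `S`, and `f` is
quasi-compact and separated, then `R^{q+1} f_* M = 0` -/
theorem isZero_RpushAb_of_cover (f : X ⟶ S) [QuasiCompact f] [IsSeparated f] (M : X.Modules)
    [M.IsQuasicoherent] (t : Set S.Opens) (ht : ∀ V ∈ t, IsAffineOpen V)
    (htop : ∀ x : S, ∃ V ∈ t, x ∈ V) (q : ℕ)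
    (h : ∀ V ∈ t, Subsingleton (CohTop.HU (Coh.toAb M) (q + 1) (f ⁻¹ᵁ V))) :
    IsZero ((Coh.RpushAb f (q + 1)).obj (Coh.toAb M)) := by
  obtain ⟨e⟩ := Groth.Agent.S0461.result f.base (Coh.toAb M) (q + 1)
  refine IsZero.of_iso ?_ e
  apply isZero_sheafify_of_basis _ {V' | ∃ V ∈ t, ∃ b : Γ(S, V), V' = S.basicOpen b}
  · rw [Opens.isBasis_iff_nbhd]
    intro U x hx
    obtain ⟨V, hVt, hxV⟩ := htop x
    obtain ⟨b, hb, hxb⟩ := (ht V hVt).exists_basicOpen_le (V := U) ⟨x, hx⟩ hxV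
    exact ⟨S.basicOpen b, ⟨V, hVt, b, rfl⟩, hxb, hb⟩
  · rintro V' ⟨V, hVt, b, rfl⟩
    have hV := ht V hVt
    have h1 : f ⁻¹ᵁ S.basicOpen b = X.basicOpen (f.app V b) := Scheme.preimage_basicOpen f b
    show Subsingleton (CohTop.HU (Coh.toAb M) (q + 1) (f ⁻¹ᵁ S.basicOpen b))
    rw [h1]
    refine subsingleton_HU_basicOpen' (f ⁻¹ᵁ V) (f.isCompact_preimage hV.isCompact)
      (f.isQuasiSeparated_preimage hV.isQuasiSeparated) ?_ M q (h V hVt) _
    intro V₁ V₂ h₁ h₂ hV₁ hV₂
    haveI : IsAffineHom (pullback.diagonal f) := inferInstance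
    exact isAffineHom_diagonal_iff.mp ‹_› V hV V₁ h₁ V₂ h₂ hV₁ hV₂

end Groth.Agent.Helper1.Fin
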