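import Groth.Agent.Helper1.Fin4
import Groth.Agent.Helper1.Fin3
import Groth.Agent.Helper1.ClTr3
import Groth.Agent.Helper1.SerreCritE
import Groth.Agent.Helper4.AmpleBasis
import Mathlib

/-!
# Local projective structure: twisting sheaves and Serre vanishing over `π⁻¹V`
-/

set_option autoImplicit false
set_option linter.style.haveILetI false

namespace Groth.Agent.Helper1.Fin

open CategoryTheory Limits AlgebraicGeometry TopologicalSpace Opposite
open Groth.Agent.Helper1.ProjBC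

universe u

variable {A : Type u} [CommRing A] (N : ℕ) {Z' Z : Scheme.{u}} (π : Z' ⟶ Z)
  (fZ : Z ⟶ Spec (CommRingCat.of A)) (c : Z' ⟶ CohB1.ProjSpace N A)
  (hc : c ≫ CohB1.ProjSpace.toSpec N A = π ≫ fZ) {V : Z.Opens} (hV : IsAffineOpen V)

/-- the twisted module `c^* O(d)` -/
noncomputable abbrev GG (d : ℕ) : Z'.Modules :=
  (Scheme.Modules.pullback c).obj (Twist.twistProjSpace N A (d : ℤ))

/-- `c^* O_A(d)` restricted to `π⁻¹V` is `c_V^* O_B(d)` -/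
noncomputable def twistIsoV (d : ℕ) :
    (GG N c d).restrict (π ⁻¹ᵁ V).ι ≅
      (Scheme.Modules.pullback (cV N π fZ c hc hV)).obj
        (Twist.twistProjSpace N Γ(Z, V) (d : ℤ)) :=
  (Scheme.Modules.restrictFunctorIsoPullback (π ⁻¹ᵁ V).ι).app _ ≪≫
    (Scheme.Modules.pullbackComp (π ⁻¹ᵁ V).ι c).app (Twist.twistProjSpace N A (d : ℤ)) ≪≫
    (Scheme.Modules.pullbackCongr (cV_γγ N π fZ c hc hV).symm).app
      (Twist.twistProjSpace N A (d : ℤ)) ≪≫
    ((Scheme.Modules.pullbackComp (cV N π fZ c hc hV) (γγ (φV fZ hV) N)).app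
      (Twist.twistProjSpace N A (d : ℤ))).symm ≪≫
    (Scheme.Modules.pullback (cV N π fZ c hc hV)).mapIso (twistBC (φV fZ hV) N d)


/-- `c^* O_A(d)` restricted to `π⁻¹V` is `O ⊗ c_V^* O_B(d)` -/
noncomputable def twIsoV (d : ℕ) :
    Groth.Agent.Helper1.ClTr.tw N Γ(Z, V) (cV N π fZ c hc hV)
      (Coh.structureModule (π ⁻¹ᵁ V).toScheme) (d : ℤ) ≅ (GG N c d).restrict (π ⁻¹ᵁ V).ι :=
  Groth.Agent.Helper4.AmpleBasis.unitorL _ ≪≫ (twistIsoV N π fZ c hc hV d).symm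

include fZ hc hV in
/-- **Serre vanishing over `π⁻¹V`** -/
theorem exists_vanishing [IsNoetherianRing Γ(Z, V)] [IsClosedImmersion c] [IsProper π] :
    ∃ d₀ : ℕ, ∀ d : ℕ, d₀ ≤ d → ∀ j : ℕ,
      Subsingleton (CohTop.HU (Coh.toAb (GG N c d)) (j + 1) (π ⁻¹ᵁ V)) := by
  haveI := isClosedImmersion_cV N π fZ c hc hV
  obtain ⟨d₀, hd₀⟩ := Groth.Agent.Helper1.ClTr.vanishing N Γ(Z, V) (cV N π fZ c hc hV)
    (Coh.structureModule (π ⁻¹ᵁ V).toScheme)
    (Groth.Agent.Helper1.Dev.isCoh_structureModule _)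
  refine ⟨d₀.toNat, fun d hd j => ?_⟩
  have h1 := hd₀ (d : ℤ) (by omega) (j + 1) (by omega)
  have h2 : Subsingleton (Coh.HHon Z' (GG N c d) (π ⁻¹ᵁ V) (j + 1)) :=
    Groth.Agent.Helper1.SerreCrit.subsingleton_HH_of_iso (twIsoV N π fZ c hc hV d) (j + 1) h1
  obtain ⟨e⟩ := Groth.Agent.Helper1.HHonHU.nonempty_HHon_HU Z' (GG N c d) (π ⁻¹ᵁ V) (j + 1)
  exact e.symm.toEquiv.subsingleton

end Groth.Agent.Helper1.Fin
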