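import Mathlib
import Groth.Agent.Helper1.Segre11

/-!
# Base change of projective space, part 1: the morphism `P^N_{R'} ⟶ P^N_R`
-/

set_option autoImplicit false
set_option linter.style.haveILetI false

namespace Groth.Agent.Helper1.ProjBC

open CategoryTheory Limits AlgebraicGeometry HomogeneousLocalization
open Groth.Agent.Helper1.ProjMor Groth.Agent.Helper1.Segre

universe u

section General

variable {A B σ τ : Type u} [CommRing A] [SetLike σ A] [AddSubgroupClass σ A]
  [CommRing B] [SetLike τ B] [AddSubgroupClass τ B]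
  {𝒜 : ℕ → σ} {ℬ : ℕ → τ} [GradedRing 𝒜] [GradedRing ℬ]
  (f : 𝒜 →+*ᵍ ℬ) (hf : HomogeneousIdeal.irrelevant ℬ ≤ (HomogeneousIdeal.irrelevant 𝒜).map f)

/-- `toAway` and functoriality of `Proj` -/
theorem toAway_comp_map {V : Scheme.{u}} (ψ : B →+* Γ(V, ⊤)) {t : A} {d : ℕ} (ht : t ∈ 𝒜 d)
    (hd : 0 < d) (h : IsUnit (ψ (f t))) :
    toAway ℬ ψ (f.map_mem ht) hd h ≫ Proj.map f hf =
      toAway 𝒜 (ψ.comp f.toRingHom) ht hd h := by
  have key : (awayLift ℬ ψ h).comp (Away.map f t) =
      awayLift 𝒜 (ψ.comp f.toRingHom) (t := t) h := by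
    apply awayLift_unique 𝒜 _ _ ht
    intro n a ha
    rw [RingHom.comp_apply, Away.map_mk f t ht n a ha]
    exact awayLift_mk ℬ ψ h (f.map_mem ht) n (f a) (f.map_mem ha)
  have e := Proj.awayι_comp_map f hf hd t ht
  unfold toAway
  rw [Category.assoc, Category.assoc]
  refine (congrArg (fun k => V.toSpecΓ ≫ Spec.map (CommRingCat.ofHom (awayLift ℬ ψ h)) ≫ k)
    e).trans ?_
  rw [← Spec.map_comp_assoc, ← CommRingCat.ofHom_comp, key]

end General

variable {R R' : Type u} [CommRing R] [CommRing R'] (φ : R →+* R') (N : ℕ)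

/-- the graded ring homomorphism `R[X] → R'[X]` -/
noncomputable def polyMap : CohB1.polyGrading N R →+*ᵍ CohB1.polyGrading N R' where
  toRingHom := MvPolynomial.map φ
  map_mem := fun hx => MvPolynomial.IsHomogeneous.map hx φ

@[simp] theorem polyMap_apply (a : MvPolynomial (Fin (N + 1)) R) :
    polyMap φ N a = MvPolynomial.map φ a := rfl

theorem polyMap_X (i : Fin (N + 1)) : polyMap φ N (MvPolynomial.X i) = MvPolynomial.X i :=
  MvPolynomial.map_X φ i

end Groth.Agent.Helper1.ProjBC

namespace Groth.Agent.Helper1.ProjBC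

open CategoryTheory Limits AlgebraicGeometry HomogeneousLocalization
open Groth.Agent.Helper1.ProjMor Groth.Agent.Helper1.Segre

universe u

variable {R R' : Type u} [CommRing R] [CommRing R'] (φ : R →+* R') (N : ℕ)

theorem hirr : HomogeneousIdeal.irrelevant (CohB1.polyGrading N R') ≤
    (HomogeneousIdeal.irrelevant (CohB1.polyGrading N R)).map (polyMap φ N) := by
  rw [HomogeneousIdeal.irrelevant_le]
  intro i hi p hp
  have hp' : p.IsHomogeneous i := hp
  show p ∈ ((HomogeneousIdeal.irrelevant (CohB1.polyGrading N R)).map (polyMap φ N)).toIdeal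
  rw [HomogeneousIdeal.toIdeal_map]
  have h1 : p ∈ Ideal.span (MvPolynomial.X '' (Set.univ : Set (Fin (N + 1)))) := by
    rw [MvPolynomial.mem_ideal_span_X_image]
    intro m hm
    have hdeg : m.degree = i := by
      by_contra hne
      exact (MvPolynomial.mem_support_iff.1 hm) (hp'.coeff_eq_zero hne)
    by_contra hcon
    push_neg at hcon
    have hm0 : m = 0 := by
      ext j
      exact hcon j (Set.mem_univ j)
    rw [hm0] at hdeg
    simp at hdeg
    omega
  refine (Ideal.span_le.2 ?_) h1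
  rintro _ ⟨j, -, rfl⟩
  have h2 : (MvPolynomial.X j : MvPolynomial (Fin (N + 1)) R) ∈
      (HomogeneousIdeal.irrelevant (CohB1.polyGrading N R)).toIdeal :=
    HomogeneousIdeal.mem_irrelevant_of_mem _ one_pos (hX j)
  have h3 := Ideal.mem_map_of_mem (polyMap φ N) h2
  rw [polyMap_X] at h3
  exact h3

/-- the base change morphism `P^N_{R'} ⟶ P^N_R` -/
noncomputable def γγ : Proj (CohB1.polyGrading N R') ⟶ Proj (CohB1.polyGrading N R) :=
  Proj.map (polyMap φ N) (hirr φ N)

end Groth.Agent.Helper1.ProjBC
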