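import Mathlib
import Groth.Agent.Helper1.ProjBC1

/-!
# Base change of projective space, part 2: the morphism `P^N_R ×_R Spec R' ⟶ P^N_{R'}`
-/

set_option autoImplicit false
set_option linter.style.haveILetI false

namespace Groth.Agent.Helper1.ProjBC

open CategoryTheory Limits AlgebraicGeometry HomogeneousLocalization
open Groth.Agent.Helper1.ProjMor Groth.Agent.Helper1.Segre

universe u

variable {R R' : Type u} [CommRing R] [CommRing R'] (φ : R →+* R') (N : ℕ)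

/-- the base change of projective space -/
noncomputable abbrev QQ : Scheme.{u} :=
  pullback (CohB1.ProjSpace.toSpec N R) (Spec.map (CommRingCat.ofHom φ))

/-- the first projection, as a morphism to `Proj` -/
noncomputable def q₁ : QQ φ N ⟶ Proj (CohB1.polyGrading N R) :=
  pullback.fst (CohB1.ProjSpace.toSpec N R) (Spec.map (CommRingCat.ofHom φ))

/-- the second projection -/
noncomputable def q₂ : QQ φ N ⟶ Spec (CommRingCat.of R') :=
  pullback.snd (CohB1.ProjSpace.toSpec N R) (Spec.map (CommRingCat.ofHom φ))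

/-- the standard opens of the base change -/
noncomputable def WW (e : Fin (N + 1)) : (QQ φ N).Opens :=
  q₁ φ N ⁻¹ᵁ Proj.basicOpen (CohB1.polyGrading N R) (MvPolynomial.X e)

theorem isOpenCover_WW : TopologicalSpace.IsOpenCover (WW φ N) := by
  rw [TopologicalSpace.IsOpenCover, eq_top_iff]
  intro x _
  have h1 : q₁ φ N x ∈ (⨆ i : Fin (N + 1), Proj.basicOpen (CohB1.polyGrading N R)
      (MvPolynomial.X i : MvPolynomial (Fin (N + 1)) R)) := by
    rw [iSup_basicOpen_X]; trivial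
  rw [TopologicalSpace.Opens.mem_iSup] at h1 ⊢
  obtain ⟨i, hi⟩ := h1
  exact ⟨i, hi⟩

/-- the functions `X_l / X_e` on `WW e` -/
noncomputable def vb (e l : Fin (N + 1)) : Γ((WW φ N e : Scheme.{u}), ⊤) :=
  pf (CohB1.polyGrading N R) (q₁ φ N) (WW φ N e) (hX e) one_pos le_rfl
    (ratio (CohB1.polyGrading N R) (hX e) (hX l))

/-- the local ring maps -/
noncomputable def ψb (e : Fin (N + 1)) :
    MvPolynomial (Fin (N + 1)) R' →+* Γ((WW φ N e : Scheme.{u}), ⊤) :=
  MvPolynomial.eval₂Hom (ProjUP.toGlobal ((WW φ N e).ι ≫ q₂ φ N)) (vb φ N e)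

theorem ψb_X (e l : Fin (N + 1)) : ψb φ N e (MvPolynomial.X l) = vb φ N e l := by
  unfold ψb
  rw [MvPolynomial.coe_eval₂Hom, MvPolynomial.eval₂_X]

theorem ψb_C (e : Fin (N + 1)) (c : R') :
    ψb φ N e (MvPolynomial.C c) = ProjUP.toGlobal ((WW φ N e).ι ≫ q₂ φ N) c := by
  unfold ψb
  rw [MvPolynomial.coe_eval₂Hom, MvPolynomial.eval₂_C]

theorem vb_self (e : Fin (N + 1)) : vb φ N e e = 1 := by
  unfold vb
  rw [ratio_self, map_one]

theorem hunitb (e : Fin (N + 1)) : IsUnit (ψb φ N e (MvPolynomial.X e)) := by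
  rw [ψb_X, vb_self]
  exact isUnit_one

theorem hpreb (e e' : Fin (N + 1)) :
    (WW φ N e' : Scheme.{u}).basicOpen (ψb φ N e' (MvPolynomial.X e)) =
      (WW φ N e').ι ⁻¹ᵁ (WW φ N e) := by
  rw [ψb_X]
  unfold vb
  rw [pf_basicOpen _ _ _ _ _ _ _ one_pos]
  rfl

theorem res_vb (e e' l : Fin (N + 1)) :
    ((QQ φ N).homOfLE (inf_le_right : WW φ N e ⊓ WW φ N e' ≤ WW φ N e')).appTop.hom
        (vb φ N e' l) =
      ((QQ φ N).homOfLE (inf_le_right : WW φ N e ⊓ WW φ N e' ≤ WW φ N e')).appTop.hom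
        (vb φ N e' e) *
      ((QQ φ N).homOfLE (inf_le_left : WW φ N e ⊓ WW φ N e' ≤ WW φ N e)).appTop.hom
        (vb φ N e l) := by
  unfold vb
  have h1 := fun x => congrArg (fun ρ => ρ x) (pf_res (CohB1.polyGrading N R) (q₁ φ N)
    (inf_le_right : WW φ N e ⊓ WW φ N e' ≤ WW φ N e') (hX e') one_pos le_rfl)
  have h2 := fun x => congrArg (fun ρ => ρ x) (pf_res (CohB1.polyGrading N R) (q₁ φ N)
    (inf_le_left : WW φ N e ⊓ WW φ N e' ≤ WW φ N e) (hX e) one_pos le_rfl)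
  simp only [RingHom.comp_apply] at h1 h2
  rw [h1, h1, h2]
  exact pf_ratio_cocycle (CohB1.polyGrading N R) (q₁ φ N) (WW φ N e ⊓ WW φ N e')
    (hX e) (hX e') (hX l) _ _

theorem isUnit_res_vb (e e' : Fin (N + 1)) :
    IsUnit (((QQ φ N).homOfLE (inf_le_right : WW φ N e ⊓ WW φ N e' ≤ WW φ N e')).appTop.hom
        (vb φ N e' e)) := by
  unfold vb
  have h1 := fun x => congrArg (fun ρ => ρ x) (pf_res (CohB1.polyGrading N R) (q₁ φ N)
    (inf_le_right : WW φ N e ⊓ WW φ N e' ≤ WW φ N e') (hX e') one_pos le_rfl)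
  simp only [RingHom.comp_apply] at h1
  rw [h1]
  exact IsUnit.of_mul_eq_one _ (pf_ratio_mul_inv (CohB1.polyGrading N R) (q₁ φ N)
    (WW φ N e ⊓ WW φ N e') (hX e) (hX e') inf_le_left inf_le_right)

theorem hcompatb (e e' : Fin (N + 1)) :
    ∃ u : Γ((WW φ N e ⊓ WW φ N e' : (QQ φ N).Opens), ⊤), IsUnit u ∧
    ∀ (k : ℕ) (a : MvPolynomial (Fin (N + 1)) R'), a ∈ CohB1.polyGrading N R' k →
      ((QQ φ N).homOfLE (inf_le_right : WW φ N e ⊓ WW φ N e' ≤ WW φ N e')).appTop.hom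
          (ψb φ N e' a) =
        u ^ k * ((QQ φ N).homOfLE (inf_le_left : WW φ N e ⊓ WW φ N e' ≤ WW φ N e)).appTop.hom
          (ψb φ N e a) := by
  refine ⟨_, isUnit_res_vb φ N e e', ?_⟩
  intro k a ha
  unfold ψb
  rw [MvPolynomial.map_eval₂Hom, MvPolynomial.map_eval₂Hom,
    ← toGlobal_comp, ← toGlobal_comp, Scheme.homOfLE_ι_assoc, Scheme.homOfLE_ι_assoc,
    ← eval₂Hom_smul_of_isHomogeneous _ _ _ a k ha]
  congr 2
  funext l
  exact res_vb φ N e e' l

theorem hXb (e : Fin (N + 1)) :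
    (MvPolynomial.X e : MvPolynomial (Fin (N + 1)) R') ∈ CohB1.polyGrading N R' 1 :=
  hX e

/-- the base change morphism `P^N_R ×_R Spec R' ⟶ P^N_{R'}` -/
noncomputable def ββ : QQ φ N ⟶ Proj (CohB1.polyGrading N R') :=
  glue (CohB1.polyGrading N R') (WW φ N) (isOpenCover_WW φ N) (ψb φ N)
    (fun e => MvPolynomial.X e) (fun _ => 1) (hXb N) (fun _ => one_pos)
    (hunitb φ N) (hcompatb φ N)

theorem ι_ββ (e : Fin (N + 1)) :
    (WW φ N e).ι ≫ ββ φ N =
      toAway (CohB1.polyGrading N R') (ψb φ N e) (hXb N e) one_pos (hunitb φ N e) :=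
  ι_glue (CohB1.polyGrading N R') (WW φ N) (isOpenCover_WW φ N) (ψb φ N)
    (fun e => MvPolynomial.X e) (fun _ => 1) (hXb N) (fun _ => one_pos)
    (hunitb φ N) (hcompatb φ N) e

end Groth.Agent.Helper1.ProjBC
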