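import Mathlib
import Groth.Agent.Helper1.ProjBC2

/-!
# Base change of projective space, part 3: `ββ` is a closed immersion
-/

set_option autoImplicit false
set_option linter.style.haveILetI false

namespace Groth.Agent.Helper1.ProjBC

open CategoryTheory Limits AlgebraicGeometry HomogeneousLocalization
open Groth.Agent.Helper1.ProjMor Groth.Agent.Helper1.Segre

universe u

variable {R R' : Type u} [CommRing R] [CommRing R'] (φ : R →+* R') (N : ℕ)

theorem coe_WW (e : Fin (N + 1)) :
    (WW φ N e : Set ↥(QQ φ N)) =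
      pullback.fst (CohB1.ProjSpace.toSpec N R) (Spec.map (CommRingCat.ofHom φ)) ⁻¹'
        Set.range (chart R N e) ∩
      pullback.snd (CohB1.ProjSpace.toSpec N R) (Spec.map (CommRingCat.ofHom φ)) ⁻¹'
        Set.range (𝟙 (Spec (CommRingCat.of R'))) := by
  rw [range_chart]
  have : Set.range (𝟙 (Spec (CommRingCat.of R'))) = Set.univ := by
    ext x; simp
  rw [this, Set.preimage_univ, Set.inter_univ]
  rfl

theorem haffb (e : Fin (N + 1)) : IsAffineOpen (WW φ N e) :=
  isAffineOpen_of_range (CohB1.ProjSpace.toSpec N R) (Spec.map (CommRingCat.ofHom φ))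
    (chart R N e) (𝟙 _) (WW φ N e) (coe_WW φ N e)

theorem hcovb : ⨆ e : Fin (N + 1),
    Proj.basicOpen (CohB1.polyGrading N R')
      (MvPolynomial.X e : MvPolynomial (Fin (N + 1)) R') = ⊤ :=
  iSup_basicOpen_X R' N

/-- the local ring map of `ββ` -/
noncomputable abbrev θb (e : Fin (N + 1)) :
    Away (CohB1.polyGrading N R') (MvPolynomial.X e) →+* Γ((WW φ N e : Scheme.{u}), ⊤) :=
  awayLift (CohB1.polyGrading N R') (ψb φ N e) (hunitb φ N e)

theorem toGlobal_mem_rangeb (e : Fin (N + 1)) (c : R') :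
    ProjUP.toGlobal ((WW φ N e).ι ≫ q₂ φ N) c ∈ (θb φ N e).range := by
  refine ⟨fromZeroRingHom (CohB1.polyGrading N R') _
    (algebraMap R' (CohB1.polyGrading N R' 0) c), ?_⟩
  rw [awayLift_fromZero]
  rw [SetLike.GradeZero.coe_algebraMap, MvPolynomial.algebraMap_eq, ψb_C]

theorem vb_mem_range (e l : Fin (N + 1)) : vb φ N e l ∈ (θb φ N e).range := by
  refine ⟨Away.mk (CohB1.polyGrading N R') (hXb N e) 1 (MvPolynomial.X l)
    (by simpa using hX l), ?_⟩
  have h1 := awayLift_mk (CohB1.polyGrading N R') (ψb φ N e) (hunitb φ N e)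
    (hXb N e) 1 (MvPolynomial.X l) (by simpa using hX l)
  rw [ψb_X, ψb_X, vb_self, one_pow, mul_one] at h1
  exact h1

theorem q₁_toSpec : q₁ φ N ≫ CohB1.ProjSpace.toSpec N R =
    q₂ φ N ≫ Spec.map (CommRingCat.ofHom φ) :=
  pullback.condition

theorem pfb_C (e : Fin (N + 1)) (c : R) :
    pf (CohB1.polyGrading N R) (q₁ φ N) (WW φ N e) (hX e) one_pos le_rfl
      (fromZeroRingHom (CohB1.polyGrading N R) (Submonoid.powers (MvPolynomial.X e))
        (algebraMap R (CohB1.polyGrading N R 0) c)) =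
      ProjUP.toGlobal ((WW φ N e).ι ≫ q₂ φ N) (φ c) := by
  unfold pf
  rw [pullFun_fromZero]
  have h1 : ((WW φ N e).ι ≫ q₂ φ N) ≫ Spec.map (CommRingCat.ofHom φ) =
      (((WW φ N e).ι ≫ q₁ φ N) ≫ Proj.toSpecZero (CohB1.polyGrading N R)) ≫
        Spec.map (CommRingCat.ofHom (algebraMap R (CohB1.polyGrading N R 0))) := by
    simp only [Category.assoc]
    rw [← q₁_toSpec]
    rfl
  have h2 := toGlobal_comp_SpecMap ((WW φ N e).ι ≫ q₂ φ N) φ
  have h3 := toGlobal_comp_SpecMap
    (((WW φ N e).ι ≫ q₁ φ N) ≫ Proj.toSpecZero (CohB1.polyGrading N R))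
    (algebraMap R (CohB1.polyGrading N R 0))
  have h4 := congrArg (fun ρ : R →+* _ => ρ c) (h2.symm.trans ((congrArg ProjUP.toGlobal h1).trans h3))
  exact h4.symm

theorem pfb_mem_range (e : Fin (N + 1))
    (y : Away (CohB1.polyGrading N R) (MvPolynomial.X e)) :
    pf (CohB1.polyGrading N R) (q₁ φ N) (WW φ N e) (hX e) one_pos le_rfl y ∈
      (θb φ N e).range := by
  have h := away_gen R N e ((θb φ N e).range.comap
    (pf (CohB1.polyGrading N R) (q₁ φ N) (WW φ N e) (hX e) one_pos le_rfl))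
    (fun c => by
      rw [Subring.mem_comap, pfb_C]
      exact toGlobal_mem_rangeb φ N e (φ c))
    (fun l => by
      rw [Subring.mem_comap]
      exact vb_mem_range φ N e l)
  have : y ∈ (θb φ N e).range.comap
    (pf (CohB1.polyGrading N R) (q₁ φ N) (WW φ N e) (hX e) one_pos le_rfl) := by
    rw [h]; trivial
  exact this

theorem hsurjb (e : Fin (N + 1)) : Function.Surjective (θb φ N e) := by
  have hT : (θb φ N e).range = ⊤ := by
    apply subring_eq_top_of_range (CohB1.ProjSpace.toSpec N R) (Spec.map (CommRingCat.ofHom φ))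
      (chart R N e) (𝟙 _) (WW φ N e) (coe_WW φ N e)
      (liftAway (CohB1.polyGrading N R) ((WW φ N e).ι ≫ q₁ φ N) (hX e) one_pos
        (range_ι_comp_subset (q₁ φ N) _ (WW φ N e) le_rfl))
      ((WW φ N e).ι ≫ q₂ φ N)
      (liftAway_fac _ _ _ _ _) (Category.comp_id _)
    · intro x
      have hx : x = (Scheme.ΓSpecIso _).inv.hom ((Scheme.ΓSpecIso _).hom.hom x) := by
        simp
      rw [hx]
      exact pfb_mem_range φ N e _
    · intro x
      have hx : x = (Scheme.ΓSpecIso _).inv.hom ((Scheme.ΓSpecIso _).hom.hom x) := by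
        simp
      rw [hx]
      exact toGlobal_mem_rangeb φ N e _
  intro y
  have : y ∈ (θb φ N e).range := by rw [hT]; trivial
  exact this

theorem isClosedImmersion_ββ : IsClosedImmersion (ββ φ N) :=
  isClosedImmersion_glue (CohB1.polyGrading N R') (WW φ N) (isOpenCover_WW φ N)
    (ψb φ N) (fun e => MvPolynomial.X e) (fun _ => 1) (hXb N) (fun _ => one_pos)
    (hunitb φ N) (hcompatb φ N) (hpreb φ N) (hcovb N) (haffb φ N) (hsurjb φ N)

end Groth.Agent.Helper1.ProjBC
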