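import Mathlib
import Groth.Agent.Helper1.ProjBC3

/-!
# Base change of projective space, part 4: compatibility of `ββ` with the projections
-/

set_option autoImplicit false
set_option linter.style.haveILetI false

namespace Groth.Agent.Helper1.ProjBC

open CategoryTheory Limits AlgebraicGeometry HomogeneousLocalization
open Groth.Agent.Helper1.ProjMor Groth.Agent.Helper1.Segre

universe u

variable {R R' : Type u} [CommRing R] [CommRing R'] (φ : R →+* R') (N : ℕ)

theorem ββ_toSpec :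
    ββ φ N ≫ Proj.toSpecZero (CohB1.polyGrading N R') ≫
      Spec.map (CommRingCat.ofHom (algebraMap R' (CohB1.polyGrading N R' 0))) = q₂ φ N := by
  apply ((QQ φ N).openCoverOfIsOpenCover (WW φ N) (isOpenCover_WW φ N)).hom_ext
  intro e
  show (WW φ N e).ι ≫ ββ φ N ≫ Proj.toSpecZero (CohB1.polyGrading N R') ≫
    Spec.map (CommRingCat.ofHom (algebraMap R' (CohB1.polyGrading N R' 0))) =
    (WW φ N e).ι ≫ q₂ φ N
  rw [reassoc_of% ι_ββ φ N e, reassoc_of% toAway_toSpecZero, ← Spec.map_comp,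
    ← CommRingCat.ofHom_comp]
  conv_rhs => rw [← toSpecΓ_comp_toGlobal ((WW φ N e).ι ≫ q₂ φ N)]
  congr 3
  ext c
  simp only [RingHom.comp_apply]
  rw [SetLike.GradeZero.algebraMap_apply, SetLike.GradeZero.coe_algebraMap,
    MvPolynomial.algebraMap_eq, ψb_C]

theorem ψb_polyMap_X (e : Fin (N + 1)) :
    IsUnit (ψb φ N e ((polyMap φ N) (MvPolynomial.X e))) := by
  rw [polyMap_X]
  exact hunitb φ N e

theorem pf_eq_awayLift (e : Fin (N + 1)) :
    pf (CohB1.polyGrading N R) (q₁ φ N) (WW φ N e) (hX e) one_pos le_rfl =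
      awayLift (CohB1.polyGrading N R) ((ψb φ N e).comp (polyMap φ N).toRingHom)
        (t := MvPolynomial.X e) (ψb_polyMap_X φ N e) := by
  apply awayLift_unique (CohB1.polyGrading N R) _ _ (hX e)
  intro n a ha
  have h1 : ((ψb φ N e).comp (polyMap φ N).toRingHom) (MvPolynomial.X e) = 1 := by
    show ψb φ N e (polyMap φ N (MvPolynomial.X e)) = 1
    rw [polyMap_X, ψb_X, vb_self]
  rw [h1, one_pow, mul_one, mk_eq_dehom]
  show _ = ψb φ N e (MvPolynomial.map φ a)
  unfold dehom ψb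
  rw [MvPolynomial.map_eval₂Hom, MvPolynomial.coe_eval₂Hom, MvPolynomial.coe_eval₂Hom,
    MvPolynomial.eval₂_map]
  congr 1
  ext c
  simp only [RingHom.comp_apply]
  exact pfb_C φ N e c

theorem ββ_γγ : ββ φ N ≫ γγ φ N = q₁ φ N := by
  apply ((QQ φ N).openCoverOfIsOpenCover (WW φ N) (isOpenCover_WW φ N)).hom_ext
  intro e
  show (WW φ N e).ι ≫ ββ φ N ≫ γγ φ N = (WW φ N e).ι ≫ q₁ φ N
  rw [reassoc_of% ι_ββ φ N e]
  unfold γγ
  rw [toAway_congr (CohB1.polyGrading N R') (ψb φ N e) (polyMap_X φ N e).symm (hXb N e) one_pos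
    ((polyMap φ N).map_mem (hX e)) one_pos (hunitb φ N e) (ψb_polyMap_X φ N e),
    toAway_comp_map (polyMap φ N) (hirr φ N) (ψb φ N e) (hX e) one_pos (ψb_polyMap_X φ N e)]
  conv_rhs => rw [eq_toSpecΓ_pullFun (CohB1.polyGrading N R) ((WW φ N e).ι ≫ q₁ φ N) (hX e) one_pos
    (range_ι_comp_subset (q₁ φ N) _ (WW φ N e) le_rfl)]
  unfold toAway
  congr 3
  exact congrArg CommRingCat.ofHom (pf_eq_awayLift φ N e).symm

end Groth.Agent.Helper1.ProjBC
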