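import Mathlib
import Groth.Prelude.Def_GrTwist
import Groth.Agent.Helper1.TwistAmple
import Groth.Agent.Helper1.TwistIso
import Groth.Agent.Helper4.PullSec

/-!
# Pullback of the twisting sheaves `O(n)`, `n ≥ 0`, along `Proj.map`
-/

set_option autoImplicit false
set_option linter.style.haveILetI false

namespace Groth.Agent.Helper1.ProjBC

open CategoryTheory Limits AlgebraicGeometry TopologicalSpace Opposite
open Groth.Agent.Helper1.GrT Groth.Agent.Helper1.ProjO Groth.Agent.Helper1.TwistEpi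
  Groth.Agent.Helper1.TwistMul

universe u

section Sec

variable {R A : Type u} [CommRing R] [CommRing A] [Algebra R A] (𝒜 : ℕ → Submodule R A)
  [GradedAlgebra 𝒜]

/-- the global section `t / 1` of `O(n)` -/
noncomputable def gtw (n : ℕ) (t : A) (ht : t ∈ 𝒜 n) : Γ(Twist.twist 𝒜 (n : ℤ), ⊤) :=
  Twist.globalOf 𝒜 ⟨t, ht⟩

/-- the morphism `O ⟶ O(n)` defined by a homogeneous element of degree `n` -/
noncomputable def tsec (n : ℕ) (t : A) (ht : t ∈ 𝒜 n) :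
    Coh.structureModule (Proj 𝒜) ⟶ Twist.twist 𝒜 (n : ℤ) :=
  Groth.Agent.Lead.LocLift.homOfTop _ (gtw 𝒜 n t ht)

theorem tsec_app_one (n : ℕ) (t : A) (ht : t ∈ 𝒜 n) :
    (tsec 𝒜 n t ht).app ⊤ (1 : Γ(Proj 𝒜, ⊤)) = gtw 𝒜 n t ht :=
  Groth.Agent.Lead.LocLift.homOfTop_app_one _ _

theorem tsec_comp_iso (n : ℕ) (t : A) (ht : t ∈ 𝒜 n) :
    tsec 𝒜 n t ht ≫ (TwistIso.twistIsoTilde 𝒜 (n : ℤ)).hom = secHom 𝒜 n t ht := by
  apply Groth.Agent.Lead.LocLift.hom_unit_ext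
  rw [Scheme.Modules.Hom.comp_app]
  have h2 : (secHom 𝒜 n t ht).app ⊤ (1 : Γ(Proj 𝒜, ⊤)) = gsec 𝒜 n t ht :=
    Groth.Agent.Lead.LocLift.homOfTop_app_one _ _
  rw [h2]
  refine (congrArg (fun z => (TwistIso.twistIsoTilde 𝒜 (n : ℤ)).hom.app ⊤ z)
    (tsec_app_one 𝒜 n t ht)).trans ?_
  apply Subtype.ext
  funext y
  apply Subtype.ext
  rfl

theorem genLocus_tsec (n : ℕ)
    (hloc : ∀ x : Proj 𝒜, ∃ b : A, b ∈ 𝒜 n ∧ x ∈ Proj.basicOpen 𝒜 b) (t : A) (ht : t ∈ 𝒜 n) :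
    CohB1.genLocus (Twist.twist 𝒜 (n : ℤ)) (tsec 𝒜 n t ht) = Proj.basicOpen 𝒜 t := by
  rw [← Groth.Agent.Helper4.AmpleIso.genLocus_comp_iso (TwistIso.twistIsoTilde 𝒜 (n : ℤ)),
    tsec_comp_iso, genLocus_secHom' 𝒜 n hloc]

end Sec

end Groth.Agent.Helper1.ProjBC
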