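import Mathlib
import Groth.Agent.Helper1.ProjBC5

/-!
# Pullback of the twisting sheaves `O(n)`, `n ≥ 0`, along `Proj.map`, part 2
-/

set_option autoImplicit false
set_option linter.style.haveILetI false

namespace Groth.Agent.Helper1.ProjBC

open CategoryTheory Limits AlgebraicGeometry TopologicalSpace Opposite
open Groth.Agent.Helper4.PullSec Groth.Agent.Helper4.PullUnit

universe u

section Adj

variable {X Y : Scheme.{u}} (f : X ⟶ Y)

/-- the canonical map `O_Y ⟶ f_* O_X` -/
noncomputable def uu : Coh.structureModule Y ⟶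
    (Scheme.Modules.pushforward f).obj (Coh.structureModule X) :=
  SheafOfModules.unitToPushforwardObjUnit f.toRingCatSheafHom

theorem adj_symm_uu :
    ((Scheme.Modules.pullbackPushforwardAdjunction f).homEquiv _ _).symm (uu f) =
      (pullbackUnitIso f).hom := rfl

theorem pullSec_comp_adj {N : Y.Modules} {N' : X.Modules} (s : Coh.structureModule Y ⟶ N)
    (θ : N ⟶ (Scheme.Modules.pushforward f).obj N') (s' : Coh.structureModule X ⟶ N')
    (h : s ≫ θ = uu f ≫ (Scheme.Modules.pushforward f).map s') :
    pullSec f s ≫ ((Scheme.Modules.pullbackPushforwardAdjunction f).homEquiv _ _).symm θ = s' := by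
  unfold pullSec
  rw [Category.assoc, ← Adjunction.homEquiv_naturality_left_symm, h,
    Adjunction.homEquiv_naturality_right_symm, adj_symm_uu, Iso.inv_hom_id_assoc]

theorem uu_app_one (U : Y.Opens) :
    (uu f).app U (1 : Γ(Y, U)) = (1 : Γ(X, f ⁻¹ᵁ U)) := by
  have h := SheafOfModules.unitToPushforwardObjUnit_val_app_apply f.toRingCatSheafHom
    (X := op U) (1 : Γ(Y, U))
  refine h.trans ?_
  exact map_one (f.app U).hom

end Adj

end Groth.Agent.Helper1.ProjBC
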