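import Mathlib
import Groth.Agent.Helper1.ProjBC6

/-!
# Pullback of the twisting sheaves `O(n)`, `n ≥ 0`, along `Proj.map`, part 3
-/

set_option autoImplicit false
set_option linter.style.haveILetI false

namespace Groth.Agent.Helper1.ProjBC

open CategoryTheory Limits AlgebraicGeometry TopologicalSpace Opposite
open Groth.Agent.Helper4.PullSec Groth.Agent.Helper4.PullUnit

universe u

section Comap

variable {R A : Type u} [CommRing R] [CommRing A] [Algebra R A] {𝒜 : ℕ → Submodule R A}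
  [GradedAlgebra 𝒜]
variable {R' B : Type u} [CommRing R'] [CommRing B] [Algebra R' B] {ℬ : ℕ → Submodule R' B}
  [GradedAlgebra ℬ]
variable (ψ : 𝒜 →+*ᵍ ℬ)
  (hψ : HomogeneousIdeal.irrelevant ℬ ≤ (HomogeneousIdeal.irrelevant 𝒜).map ψ)

/-- the canonical map `O(n) ⟶ (Proj.map ψ)_* O(n)` -/
noncomputable def θθ (n : ℤ) : Twist.twist 𝒜 n ⟶
    (Scheme.Modules.pushforward (Proj.map ψ hψ)).obj (Twist.twist ℬ n) :=
  GrTwist.comap ψ hψ n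

/-- the canonical map `(Proj.map ψ)^* O(n) ⟶ O(n)` -/
noncomputable def θadj (n : ℤ) :
    (Scheme.Modules.pullback (Proj.map ψ hψ)).obj (Twist.twist 𝒜 n) ⟶ Twist.twist ℬ n :=
  ((Scheme.Modules.pullbackPushforwardAdjunction (Proj.map ψ hψ)).homEquiv _ _).symm (θθ ψ hψ n)

theorem tsec_comp_θθ (n : ℕ) (t : A) (ht : t ∈ 𝒜 n) :
    tsec 𝒜 n t ht ≫ θθ ψ hψ (n : ℤ) =
      uu (Proj.map ψ hψ) ≫ (Scheme.Modules.pushforward (Proj.map ψ hψ)).map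
        (tsec ℬ n (ψ t) (ψ.map_mem ht)) := by
  apply Groth.Agent.Lead.LocLift.hom_unit_ext
  rw [Scheme.Modules.Hom.comp_app, Scheme.Modules.Hom.comp_app]
  show (θθ ψ hψ (n : ℤ)).app ⊤ ((tsec 𝒜 n t ht).app ⊤ (1 : Γ(Proj 𝒜, ⊤))) =
    ((Scheme.Modules.pushforward (Proj.map ψ hψ)).map (tsec ℬ n (ψ t) (ψ.map_mem ht))).app ⊤
      ((uu (Proj.map ψ hψ)).app ⊤ (1 : Γ(Proj 𝒜, ⊤)))
  rw [tsec_app_one, uu_app_one]
  refine Eq.trans ?_ (tsec_app_one ℬ n (ψ t) (ψ.map_mem ht)).symm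
  apply Subtype.ext
  funext y
  apply Subtype.ext
  refine (GrTwist.comap_app_val ψ hψ (n : ℤ) ⊤ (gtw 𝒜 n t ht) y).trans ?_
  refine (GrTwist.locMap_mk ψ hψ y.1 t _).trans ?_
  show Localization.mk (ψ t) _ = Localization.mk (ψ t) _
  congr 1
  exact Subtype.ext (map_one ψ)

theorem pullSec_tsec_θadj (n : ℕ) (t : A) (ht : t ∈ 𝒜 n) :
    pullSec (Proj.map ψ hψ) (tsec 𝒜 n t ht) ≫ θadj ψ hψ (n : ℤ) =
      tsec ℬ n (ψ t) (ψ.map_mem ht) :=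
  pullSec_comp_adj _ _ _ _ (tsec_comp_θθ ψ hψ n t ht)

include hψ in
theorem hloc_map (n : ℕ)
    (hloc : ∀ x : Proj 𝒜, ∃ b : A, b ∈ 𝒜 n ∧ x ∈ Proj.basicOpen 𝒜 b) (x' : Proj ℬ) :
    ∃ b : A, b ∈ 𝒜 n ∧ x' ∈ Proj.basicOpen ℬ (ψ b) := by
  obtain ⟨b, hb, hx⟩ := hloc (Proj.map ψ hψ x')
  refine ⟨b, hb, ?_⟩
  have : x' ∈ Proj.map ψ hψ ⁻¹ᵁ Proj.basicOpen 𝒜 b := hx
  rwa [Proj.map_preimage_basicOpen] at this

theorem isIso_restrict_θadj (n : ℕ)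
    (hloc : ∀ x : Proj 𝒜, ∃ b : A, b ∈ 𝒜 n ∧ x ∈ Proj.basicOpen 𝒜 b) (t : A) (ht : t ∈ 𝒜 n) :
    IsIso ((Scheme.Modules.restrictFunctor (Proj.basicOpen ℬ (ψ t)).ι).map
      (θadj ψ hψ (n : ℤ))) := by
  have hloc' : ∀ x' : Proj ℬ, ∃ b : B, b ∈ ℬ n ∧ x' ∈ Proj.basicOpen ℬ b := by
    intro x'
    obtain ⟨b, hb, hx⟩ := hloc_map ψ hψ n hloc x'
    exact ⟨ψ b, ψ.map_mem hb, hx⟩
  have h1 : IsIso ((Scheme.Modules.restrictFunctor (Proj.basicOpen ℬ (ψ t)).ι).map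
      (pullSec (Proj.map ψ hψ) (tsec 𝒜 n t ht))) := by
    rw [← le_genLocus_iff]
    refine le_trans ?_ (preimage_genLocus_le (Proj.map ψ hψ) (tsec 𝒜 n t ht))
    rw [genLocus_tsec 𝒜 n hloc t ht, Proj.map_preimage_basicOpen]
  have h2 : IsIso ((Scheme.Modules.restrictFunctor (Proj.basicOpen ℬ (ψ t)).ι).map
      (tsec ℬ n (ψ t) (ψ.map_mem ht))) := by
    rw [← le_genLocus_iff, genLocus_tsec ℬ n hloc' (ψ t) (ψ.map_mem ht)]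
  rw [← pullSec_tsec_θadj ψ hψ n t ht, Functor.map_comp] at h2
  exact IsIso.of_isIso_comp_left
    ((Scheme.Modules.restrictFunctor (Proj.basicOpen ℬ (ψ t)).ι).map
      (pullSec (Proj.map ψ hψ) (tsec 𝒜 n t ht))) _

/-- **the pullback of `O(n)` along `Proj.map ψ` is `O(n)`**, `n ≥ 0`, provided every point of
`Proj 𝒜` has a non-vanishing homogeneous element of degree `n` -/
theorem isIso_θadj (n : ℕ)
    (hloc : ∀ x : Proj 𝒜, ∃ b : A, b ∈ 𝒜 n ∧ x ∈ Proj.basicOpen 𝒜 b) :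
    IsIso (θadj ψ hψ (n : ℤ)) := by
  apply Groth.Agent.Helper4.GenLoc.isIso_of_app_bijective
  intro V
  apply Groth.Agent.Helper4.GenLocIso.app_bijective_of_le_sSup (θadj ψ hψ (n : ℤ))
    {U | ∃ (t : A) (_ : t ∈ 𝒜 n), U = Proj.basicOpen ℬ (ψ t)}
  · rintro U ⟨t, ht, rfl⟩ W hW
    exact (Groth.Agent.Helper4.GenLoc.isIso_restrict_iff (θadj ψ hψ (n : ℤ)) _).mp
      (isIso_restrict_θadj ψ hψ n hloc t ht) W hW
  · intro x' _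
    obtain ⟨b, hb, hx⟩ := hloc_map ψ hψ n hloc x'
    exact Opens.mem_sSup.mpr ⟨_, ⟨b, hb, rfl⟩, hx⟩

/-- the pullback of `O(n)` along `Proj.map ψ` -/
noncomputable def pullTwistIso (n : ℕ)
    (hloc : ∀ x : Proj 𝒜, ∃ b : A, b ∈ 𝒜 n ∧ x ∈ Proj.basicOpen 𝒜 b) :
    (Scheme.Modules.pullback (Proj.map ψ hψ)).obj (Twist.twist 𝒜 (n : ℤ)) ≅
      Twist.twist ℬ (n : ℤ) :=
  @asIso _ _ _ _ (θadj ψ hψ (n : ℤ)) (isIso_θadj ψ hψ n hloc)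

end Comap

end Groth.Agent.Helper1.ProjBC
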