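import Mathlib
import Groth.Agent.Helper1.ProjBC7
import Groth.Agent.Helper1.ProjBC4

/-!
# Base change of projective space: the twisting sheaves
-/

set_option autoImplicit false
set_option linter.style.haveILetI false

namespace Groth.Agent.Helper1.ProjBC

open CategoryTheory Limits AlgebraicGeometry TopologicalSpace Opposite
open Groth.Agent.Helper1.Segre

universe u

variable {R R' : Type u} [CommRing R] [CommRing R'] (φ : R →+* R') (N : ℕ)

theorem hloc_poly (R : Type u) [CommRing R] (N d : ℕ) (x : Proj (CohB1.polyGrading N R)) :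
    ∃ b : MvPolynomial (Fin (N + 1)) R, b ∈ CohB1.polyGrading N R d ∧
      x ∈ Proj.basicOpen (CohB1.polyGrading N R) b := by
  have hx : x ∈ (⨆ i : Fin (N + 1), Proj.basicOpen (CohB1.polyGrading N R)
      (MvPolynomial.X i : MvPolynomial (Fin (N + 1)) R)) := by
    rw [iSup_basicOpen_X]; trivial
  obtain ⟨i, hi⟩ := Opens.mem_iSup.mp hx
  refine ⟨MvPolynomial.X i ^ d, ?_, ?_⟩
  · have := SetLike.pow_mem_graded d (hX (R := R) (k := N) i)
    simpa using this
  · exact fun h => hi (x.isPrime.mem_of_pow_mem d h)

/-- **the pullback of `O(d)` under base change of projective space is `O(d)`** -/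
noncomputable def twistBC (d : ℕ) :
    (Scheme.Modules.pullback (γγ φ N)).obj (Twist.twist (CohB1.polyGrading N R) (d : ℤ)) ≅
      Twist.twist (CohB1.polyGrading N R') (d : ℤ) :=
  pullTwistIso (polyMap φ N) (hirr φ N) d (hloc_poly R N d)

end Groth.Agent.Helper1.ProjBC
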