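import Mathlib
import Groth.Agent.Helper1.Fin11
import Groth.Agent.Helper1.Fin5
import Groth.Agent.Helper1.VA9
import Groth.Agent.Helper1.ProjBC8
import Groth.Agent.Helper1.TwistMul6
import Groth.Agent.Helper4.PullTensor
import Groth.Agent.Helper6.HProj

/-!
# Serre vanishing for an ample module on a scheme proper over a noetherian affine base
-/

set_option autoImplicit false
set_option linter.style.haveILetI false

namespace Groth.Agent.Helper1.SV

open CategoryTheory Limits AlgebraicGeometry TopologicalSpace Opposite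
open Groth.Agent.Helper1.ProjBC Groth.Agent.Helper1.Fin Groth.Agent.Helper1.VA
  Groth.Agent.Helper4.TensorAssoc Groth.Agent.Helper4.AmpleIso Groth.Agent.Helper4.TensorInv

universe u

section Kappa

variable (A : Type u) [CommRing A] (N : ℕ)

theorem κκ_γγ : κκ A N ≫ γγ (φ₀ A) N =
    pullback.fst (CohB1.ProjSpace.toSpec N (ULift.{u} ℤ))
      (specULiftZIsTerminal.from (Spec (CommRingCat.of A))) :=
  calc κκ A N ≫ γγ (φ₀ A) N
      = (pullback.congrHom (f₁ := CohB1.ProjSpace.toSpec N (ULift.{u} ℤ)) rfl (from_eq A)).hom ≫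
          (ββ (φ₀ A) N ≫ γγ (φ₀ A) N) := Category.assoc _ _ _
    _ = (pullback.congrHom (f₁ := CohB1.ProjSpace.toSpec N (ULift.{u} ℤ)) rfl (from_eq A)).hom ≫
          q₁ (φ₀ A) N := congrArg _ (ββ_γγ (φ₀ A) N)
    _ = _ := by
      unfold q₁
      rw [pullback.congrHom_hom]
      exact (pullback.lift_fst _ _ _).trans (Category.comp_id _)

/-- `κκ^* O_A(d) ≅ O(d)` on `P^N_{Spec A}` -/
noncomputable def κκTwistIso (d : ℕ) :
    (Scheme.Modules.pullback (κκ A N)).obj (Twist.twistProjSpace N A (d : ℤ)) ≅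
      Twist.twistOver N (Spec (CommRingCat.of A)) (d : ℤ) :=
  (Scheme.Modules.pullback (κκ A N)).mapIso (twistBC (φ₀ A) N d).symm ≪≫
    (Scheme.Modules.pullbackComp (κκ A N) (γγ (φ₀ A) N)).app
      (Twist.twistProjSpace N (ULift.{u} ℤ) (d : ℤ)) ≪≫
    (Scheme.Modules.pullbackCongr (κκ_γγ A N)).app (Twist.twistProjSpace N (ULift.{u} ℤ) (d : ℤ))

end Kappa

section Main

variable (A : Type u) [CommRing A] {X : Scheme.{u}}
  (g : X ⟶ Spec (CommRingCat.of A)) [IsProper g] {L : X.Modules}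

include g in
/-- a scheme proper over an affine scheme with an ample module is closed in a projective space,
with `O(1)` restricting to a power of the ample module -/
theorem exists_closedImmersion (hL : CohB1.IsAmple L) :
    ∃ (e : ℕ) (_ : 0 < e) (N : ℕ) (c : X ⟶ CohB1.ProjSpace N A), IsClosedImmersion c ∧
      c ≫ CohB1.ProjSpace.toSpec N A = g ∧
      ∀ d : ℕ, Nonempty ((Scheme.Modules.pullback c).obj (Twist.twistProjSpace N A (d : ℤ)) ≅
        CohB1.tensorPow L (e * d)) := by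
  obtain ⟨e, he, N, i, himm, hi, ⟨φ⟩⟩ := exists_pow_veryAmple g hL
  haveI : IsProper (CohB1.ProjSpaceOver.toBase N (Spec (CommRingCat.of A))) :=
    Groth.Agent.Helper6.HProj.isProper_toBase N _
  haveI : IsProper (i ≫ CohB1.ProjSpaceOver.toBase N (Spec (CommRingCat.of A))) := by
    have : i ≫ CohB1.ProjSpaceOver.toBase N (Spec (CommRingCat.of A)) = g := hi
    rw [this]
    infer_instance
  haveI : IsProper i := IsProper.of_comp i (CohB1.ProjSpaceOver.toBase N (Spec (CommRingCat.of A)))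
  haveI : IsClosedImmersion i := IsClosedImmersion.of_isPreimmersion _ i.isClosedMap.isClosed_range
  haveI : IsClosedImmersion (i ≫ κκ A N) := IsClosedImmersion.comp i (κκ A N)
  refine ⟨e, he, N, i ≫ κκ A N, inferInstance, ?_, fun d => ?_⟩
  · rw [Category.assoc, κκ_toSpec]
    exact hi
  · have hinv1 : PicF.IsInvertible (Twist.twistProjSpace N A 1) :=
      Groth.Agent.Helper1.SerreVan.isInvertible_twist N A 1
    obtain ⟨ε⟩ := Groth.Agent.Helper1.TwistMul.nonempty_twist_iso_tensorPow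
      (CohB1.polyGrading N A) (Groth.Agent.Helper1.PUP.hcovP N) d
    -- `c^* O(1) ≅ L^e`
    have τ : (Scheme.Modules.pullback (i ≫ κκ A N)).obj (Twist.twistProjSpace N A 1) ≅
        CohB1.tensorPow L e :=
      ((Scheme.Modules.pullbackComp i (κκ A N)).app (Twist.twistProjSpace N A 1)).symm ≪≫
        (Scheme.Modules.pullback i).mapIso (κκTwistIso A N 1) ≪≫ φ.symm
    exact ⟨(Scheme.Modules.pullback (i ≫ κκ A N)).mapIso ε ≪≫
      Groth.Agent.Helper4.PullTensor.pullPowIso (i ≫ κκ A N) hinv1 d ≪≫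
      tensorPowIso τ d ≪≫ powMulIso L hL.1 e d⟩

variable [IsNoetherianRing A]

include g in
/-- **Serre vanishing for an ample module on a scheme proper over a noetherian affine base** -/
theorem serre_vanishing (hL : CohB1.IsAmple L) (M : X.Modules) (hM : Coh.IsCoh M) :
    ∃ n₀ : ℕ, ∀ n : ℕ, n₀ ≤ n → ∀ j : ℕ, 1 ≤ j →
      Subsingleton (Coh.HH X (CohB1.tensorMod M (CohB1.tensorPow L n)) j) := by
  classical
  obtain ⟨e, he, N, c, hcl, hc, hiso⟩ := exists_closedImmersion A g hL
  haveI := hcl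
  have hLinv := hL.1
  have hcohr : ∀ r : ℕ, Coh.IsCoh (CohB1.tensorMod M (CohB1.tensorPow L r)) := by
    intro r
    have hB := Groth.Agent.Helper1.SerreFin.isCoh_of_isInvertible _ (isInvertible_tensorPow hLinv r)
    haveI : M.IsQuasicoherent := hM.1
    haveI : (CohB1.tensorPow L r).IsQuasicoherent := hB.1
    exact ⟨Groth.Agent.Lead.QcohTensor.isQuasicoherent_tensorMod M _,
      Groth.Agent.Lead.QcohTensor.isFT_tensorMod M _ hM.2 hB.2⟩
  have hv : ∀ r : ℕ, ∃ d₀ : ℤ, ∀ d : ℤ, d₀ ≤ d → ∀ j : ℕ, 1 ≤ j →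
      Subsingleton (Coh.HH X (Groth.Agent.Helper1.ClTr.tw N A c
        (CohB1.tensorMod M (CohB1.tensorPow L r)) d) j) :=
    fun r => Groth.Agent.Helper1.ClTr.vanishing N A c _ (hcohr r)
  choose d₀ hd₀ using hv
  set D : ℕ := (Finset.range e).sup (fun r => (d₀ r).toNat) with hD
  refine ⟨e * D, fun n hn j hj => ?_⟩
  have hr : n % e < e := Nat.mod_lt n he
  have hdD : D ≤ n / e := (Nat.le_div_iff_mul_le he).mpr (by rw [mul_comm]; exact hn)
  have hd : d₀ (n % e) ≤ ((n / e : ℕ) : ℤ) := by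
    have h1 : (d₀ (n % e)).toNat ≤ D :=
      Finset.le_sup (f := fun r => (d₀ r).toNat) (Finset.mem_range.mpr hr)
    have h2 := Int.self_le_toNat (d₀ (n % e))
    have h3 : ((d₀ (n % e)).toNat : ℤ) ≤ ((n / e : ℕ) : ℤ) := by exact_mod_cast h1.trans hdD
    exact h2.trans h3
  have h1 := hd₀ (n % e) ((n / e : ℕ) : ℤ) hd j hj
  obtain ⟨τ⟩ := hiso (n / e)
  have hn' : n % e + e * (n / e) = n := Nat.mod_add_div n e
  refine Groth.Agent.Helper1.SerreCrit.subsingleton_HH_of_iso ?_ j h1
  exact PicGrp.tensorModIso (Iso.refl _) τ ≪≫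
    assocIso M (CohB1.tensorPow L (n % e)) (CohB1.tensorPow L (e * (n / e)))
      (isInvertible_tensorPow hLinv _) (isInvertible_tensorPow hLinv _) ≪≫
    PicGrp.tensorModIso (Iso.refl M)
      (powAddIso L hLinv (n % e) (e * (n / e)) ≪≫ powCastIso L hn')

end Main

end Groth.Agent.Helper1.SV
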