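import Mathlib
import Groth.Agent.Helper1.MVSurj
import Groth.Agent.S0453
import Groth.Agent.S0020

/-!
# Sheaves supported on a closed discrete set are flasque; coherent modules with zero-dimensional
support on a locally Noetherian scheme are acyclic
-/

set_option autoImplicit false

namespace Groth.Agent.Helper1.ZeroDimAcyc

open CategoryTheory TopologicalSpace Opposite AlgebraicGeometry

universe u

section top

variable {X : TopCat.{u}}

/-- sections over an open on which all stalks vanish are zero -/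
lemma eq_zero_of_stalks (F : CohTop.Ab X) (W : Opens X)
    (h : ∀ x ∈ W, Subsingleton (TopCat.Presheaf.stalk (C := AddCommGrpCat.{u}) (X := X) F.obj x)) (s : F.obj.obj (op W)) : s = 0 := by
  apply TopCat.Presheaf.section_ext F W
  intro x hx
  haveI := h x hx
  exact Subsingleton.elim _ _

/-- a sheaf whose stalks vanish outside a set all of whose subsets are closed is flasque -/
theorem isFlasque_of_discrete_support (F : CohTop.Ab X) (Z : Set X)
    (hsub : ∀ T ⊆ Z, IsClosed T)
    (hstalk : ∀ x ∉ Z, Subsingleton (TopCat.Presheaf.stalk (C := AddCommGrpCat.{u}) (X := X) F.obj x)) : TopCat.Sheaf.IsFlasque F := by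
  constructor
  intro U V i
  rw [AddCommGrpCat.epi_iff_surjective]
  intro s
  have hVU : V.unop ≤ U.unop := leOfHom i.unop
  have hT : IsClosed (Z ∩ (V.unop : Set X)) := hsub _ Set.inter_subset_left
  let W : Opens X := ⟨(U.unop : Set X) \ (Z ∩ (V.unop : Set X)), U.unop.2.sdiff hT⟩
  have hWU : W ≤ U.unop := fun x hx => hx.1
  have hcov : U.unop ≤ V.unop ⊔ W := by
    intro x hx
    by_cases hxV : x ∈ V.unop
    · exact Or.inl hxV
    · exact Or.inr ⟨hx, fun h => hxV h.2⟩
  have hzero : ∀ x ∈ V.unop ⊓ W, Subsingleton (TopCat.Presheaf.stalk (C := AddCommGrpCat.{u}) (X := X) F.obj x) :=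
    fun x hx => hstalk x (fun hxZ => hx.2.2 ⟨hxZ, hx.1⟩)
  obtain ⟨r, hr1, -⟩ := Groth.Agent.Helper1.MVSurj.glue₂ F V.unop W s 0
    ((eq_zero_of_stalks F _ hzero _).trans (eq_zero_of_stalks F _ hzero _).symm)
  refine ⟨F.obj.map (homOfLE hcov).op r, ?_⟩
  rw [← ConcreteCategory.comp_apply, ← F.obj.map_comp]
  exact hr1

end top

/-- in a Noetherian quasi-sober space, a closed set of closed points is finite -/
lemma finite_of_closed_points {α : Type*} [TopologicalSpace α] [NoetherianSpace α] [QuasiSober α]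
    (s : Set α) (hs : IsClosed s) (hpt : ∀ x ∈ s, IsClosed ({x} : Set α)) : s.Finite := by
  obtain ⟨S, hSf, hSc, hSi, rfl⟩ := NoetherianSpace.exists_finite_set_isClosed_irreducible hs
  refine Set.Finite.sUnion hSf (fun t ht => ?_)
  obtain ⟨x, hx⟩ := QuasiSober.sober (hSi t ht) (hSc t ht)
  have hxt : x ∈ t := hx.mem
  have : t = {x} := by rw [← hx.def, (hpt x ⟨t, ht, hxt⟩).closure_eq]
  rw [this]
  exact Set.finite_singleton x

/-- on a locally Noetherian scheme, every subset of a closed set of closed points is closed -/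
theorem isClosed_of_subset_closed_points (X : Scheme.{u}) [IsLocallyNoetherian X] (Z : Set X)
    (hZ : IsClosed Z) (hpt : ∀ x ∈ Z, IsClosed ({x} : Set X)) (T : Set X) (hT : T ⊆ Z) :
    IsClosed T := by
  rw [← isOpen_compl_iff, isOpen_iff_forall_mem_open]
  intro x hx
  obtain ⟨_, ⟨U, hU : IsAffineOpen U, rfl⟩, hxU, -⟩ :=
    X.isBasis_affineOpens.exists_subset_of_mem_open (Set.mem_univ x) isOpen_univ
  haveI : IsNoetherianRing Γ(X, U) := IsLocallyNoetherian.component_noetherian ⟨U, hU⟩
  haveI : NoetherianSpace (↥U) := noetherianSpace_of_isAffineOpen U hU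
  haveI : QuasiSober (↥U) := U.isOpenEmbedding.quasiSober
  have hfin : {y : U | (y : X) ∈ Z}.Finite := by
    apply finite_of_closed_points
    · exact hZ.preimage continuous_subtype_val
    · intro y hy
      have h1 := (hpt y.1 hy).preimage (continuous_subtype_val (p := fun z => z ∈ U))
      have h2 : ({y} : Set ↥U) = Subtype.val ⁻¹' {(y : X)} := by
        ext z
        exact Subtype.ext_iff
      rw [h2]
      exact h1
  have hfin2 : (T ∩ (U : Set X)).Finite := by
    refine (hfin.image Subtype.val).subset ?_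
    rintro y ⟨hyT, hyU⟩
    exact ⟨⟨y, hyU⟩, hT hyT, rfl⟩
  have hcl : IsClosed (T ∩ (U : Set X)) := by
    rw [← Set.biUnion_of_singleton (T ∩ (U : Set X))]
    exact hfin2.isClosed_biUnion (fun y hy => hpt y (hT hy.1))
  refine ⟨(U : Set X) \ (T ∩ (U : Set X)), ?_, U.2.sdiff hcl, ⟨hxU, fun h => hx h.1⟩⟩
  intro y hy hyT
  exact hy.2 ⟨hyT, hy.1⟩

/-- **acyclicity of coherent modules with zero-dimensional support** -/
theorem subsingleton_HH (X : Scheme.{u}) [IsLocallyNoetherian X] (M : X.Modules)
    (hM : Coh.IsCoh M) (h0 : ∀ x ∈ CohB1.support M, IsClosed ({x} : Set X)) (i : ℕ)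
    (hi : 0 < i) : Subsingleton (Coh.HH X M i) := by
  obtain ⟨n, rfl⟩ : ∃ n, i = n + 1 := ⟨i - 1, by omega⟩
  have hZ : IsClosed (CohB1.support M) := Groth.Agent.S0020.result X M hM.2
  haveI : TopCat.Sheaf.IsFlasque (Coh.toAb M) := by
    apply isFlasque_of_discrete_support (Coh.toAb M) (CohB1.support M)
      (isClosed_of_subset_closed_points X _ hZ h0)
    intro x hx
    by_contra h
    exact hx h
  exact Groth.Agent.S0453.result (Coh.toAb M) n

end Groth.Agent.Helper1.ZeroDimAcyc
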