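import Groth.Agent.Helper1.SerreF

/-!
# Uniform vanishing of cohomology of quasi-coherent modules on qcqs schemes
-/

set_option autoImplicit false

namespace Groth.Agent.Helper1.Serre

open CategoryTheory Limits Opposite TopologicalSpace AlgebraicGeometry Abelian

universe u

variable {X : Scheme.{u}}

/-- a compact open inside an affine open is a finite union of basic opens -/
lemma exists_finset_basicOpen {A : X.Opens} (hA : IsAffineOpen A) (W : X.Opens) (hWA : W ≤ A)
    (hW : IsCompact (W : Set X)) :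
    ∃ s : Finset Γ(X, A), W = s.sup (fun g => X.basicOpen g) := by
  classical
  have h1 : ∀ x : W, ∃ g : Γ(X, A), X.basicOpen g ≤ W ∧ (x : X) ∈ X.basicOpen g :=
    fun x => hA.exists_basicOpen_le (V := W) x (hWA x.2)
  choose g hg1 hg2 using h1
  obtain ⟨t, ht⟩ := hW.elim_finite_subcover (fun x : W => (X.basicOpen (g x) : Set X))
    (fun x => (X.basicOpen (g x)).2) (by
      intro x hx
      exact Set.mem_iUnion.2 ⟨⟨x, hx⟩, hg2 ⟨x, hx⟩⟩)
  refine ⟨t.image g, le_antisymm ?_ ?_⟩
  · intro x hx
    obtain ⟨y, hy⟩ := Set.mem_iUnion.1 (ht hx)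
    obtain ⟨hyt, hxy⟩ := Set.mem_iUnion.1 hy
    have hle : X.basicOpen (g y) ≤ (t.image g).sup (fun g => X.basicOpen g) :=
      Finset.le_sup (f := fun g => X.basicOpen g) (Finset.mem_image_of_mem g hyt)
    exact hle hxy
  · apply Finset.sup_le
    intro g' hg'
    obtain ⟨y, -, rfl⟩ := Finset.mem_image.1 hg'
    exact hg1 y

/-- uniform vanishing over a compact open inside an affine open -/
lemma exists_bound_of_le_affine {A : X.Opens} (hA : IsAffineOpen A) (W : X.Opens) (hWA : W ≤ A)
    (hW : IsCompact (W : Set X)) :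
    ∃ e : ℕ, 1 ≤ e ∧ ∀ (M : X.Modules), M.IsQuasicoherent → ∀ n : ℕ, e ≤ n →
      Subsingleton (CohTop.HU (Coh.toAb M) n W) := by
  classical
  obtain ⟨s, rfl⟩ := exists_finset_basicOpen hA W hWA hW
  let s' : Finset X.Opens := s.image (fun g => X.basicOpen g)
  refine ⟨max s'.card 1, le_max_right _ _, fun M hM n hn => ?_⟩
  haveI := hM
  have h := subsingleton_HU_finset_sup M {V | ∃ g : Γ(X, A), V = X.basicOpen g}
    (by
      rintro V ⟨g, rfl⟩
      exact hA.basicOpen g)
    (by
      rintro V ⟨g, rfl⟩ V' ⟨g', rfl⟩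
      exact ⟨g * g', (X.basicOpen_mul g g').symm⟩)
    s'.card s'
    (by
      intro V hV
      obtain ⟨g, -, rfl⟩ := Finset.mem_image.1 hV
      exact ⟨g, rfl⟩)
    le_rfl n ((le_max_left _ _).trans hn) ((le_max_right _ _).trans hn)
  have h2 : s'.sup id = s.sup (fun g => X.basicOpen g) := by
    rw [Finset.sup_image]
    rfl
  rwa [h2] at h

lemma isCompact_finset_sup (s : Finset X.Opens) (hs : ∀ U ∈ s, IsCompact (U : Set X)) :
    IsCompact ((s.sup id : X.Opens) : Set X) := by
  classical
  induction s using Finset.induction_on with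
  | empty =>
    rw [Finset.sup_empty]
    exact isCompact_empty
  | insert A s hA ih =>
    rw [Finset.sup_insert]
    exact (hs A (Finset.mem_insert_self _ _)).union
      (ih (fun U hU => hs U (Finset.mem_insert_of_mem hU)))

/-- uniform vanishing over a finite union of affine opens in a quasi-separated scheme -/
theorem exists_bound_finset_sup [QuasiSeparatedSpace X] (s : Finset X.Opens)
    (hs : ∀ U ∈ s, IsAffineOpen U) :
    ∃ d : ℕ, ∀ (M : X.Modules), M.IsQuasicoherent → ∀ n : ℕ, d ≤ n →
      Subsingleton (CohTop.HU (Coh.toAb M) n (s.sup id)) := by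
  classical
  induction s using Finset.induction_on with
  | empty =>
    refine ⟨1, fun M hM n hn => ?_⟩
    haveI := hM
    obtain ⟨m, rfl⟩ := Nat.exists_eq_succ_of_ne_zero (Nat.one_le_iff_ne_zero.1 hn)
    rw [Finset.sup_empty]
    exact subsingleton_HU_of_isAffineOpen M (isAffineOpen_bot X) m
  | insert A s hAs ih =>
    obtain ⟨d, hd⟩ := ih (fun U hU => hs U (Finset.mem_insert_of_mem hU))
    have hA : IsAffineOpen A := hs A (Finset.mem_insert_self _ _)
    have hcomp : IsCompact ((A ⊓ s.sup id : X.Opens) : Set X) :=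
      QuasiSeparatedSpace.inter_isCompact _ _ A.2 hA.isCompact (s.sup id).2
        (isCompact_finset_sup s (fun U hU => (hs U (Finset.mem_insert_of_mem hU)).isCompact))
    obtain ⟨e, he1, he⟩ := exists_bound_of_le_affine hA (A ⊓ s.sup id) inf_le_left hcomp
    refine ⟨max d (e + 1), fun M hM n hn => ?_⟩
    haveI := hM
    have hn1 : 1 ≤ n := (Nat.succ_le_succ (Nat.zero_le e)).trans ((le_max_right _ _).trans hn)
    obtain ⟨m, rfl⟩ := Nat.exists_eq_succ_of_ne_zero (Nat.one_le_iff_ne_zero.1 hn1)
    rw [Finset.sup_insert]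
    apply subsingleton_HU_sup
    · exact he M hM m (Nat.le_of_succ_le_succ ((le_max_right _ _).trans hn))
    · exact subsingleton_HU_of_isAffineOpen M hA m
    · exact hd M hM (m + 1) ((le_max_left _ _).trans hn)

/-- S0016 -/
theorem exists_bound_of_qcqs [CompactSpace X] [QuasiSeparatedSpace X] :
    ∃ d : ℕ, ∀ (M : X.Modules), M.IsQuasicoherent → ∀ p : ℕ, d ≤ p →
      Subsingleton (Coh.HH X M p) := by
  classical
  obtain ⟨s, hs, htop⟩ := (isCompact_iff_finite_and_eq_biUnion_affineOpens (X := X)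
    (U := ⊤)).1 isCompact_univ
  let s' : Finset X.Opens := hs.toFinset.image (Subtype.val : X.affineOpens → X.Opens)
  obtain ⟨d, hd⟩ := exists_bound_finset_sup s' (by
    intro U hU
    obtain ⟨i, -, rfl⟩ := Finset.mem_image.1 hU
    exact i.2)
  have hsup : s'.sup id = ⊤ := by
    rw [htop]
    apply le_antisymm
    · apply Finset.sup_le
      intro U hU
      obtain ⟨i, hi, rfl⟩ := Finset.mem_image.1 hU
      exact le_iSup₂ (f := fun (i : X.affineOpens) (_ : i ∈ s) => (i : X.Opens)) i
        (hs.mem_toFinset.1 hi)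
    · refine iSup₂_le (fun i hi => ?_)
      exact Finset.le_sup (f := id)
        (Finset.mem_image_of_mem (Subtype.val : X.affineOpens → X.Opens) (hs.mem_toFinset.2 hi))
  refine ⟨d, fun M hM p hp => ?_⟩
  have h1 := hd M hM p hp
  rw [hsup] at h1
  have h3 : Subsingleton ((CohTopExt.HUSeq (⊤ : Opens X) p).obj (Coh.toAb M)) := h1
  obtain ⟨e⟩ := nonempty_iso_HU_top p (Coh.toAb M)
  exact e.addCommGroupIsoToAddEquiv.symm.toEquiv.subsingleton

end Groth.Agent.Helper1.Serre
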