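import Mathlib
import Groth.Agent.Helper1.Dev14

/-!
# Dévissage, part 15: the integral case for classes closed under extensions
-/

set_option autoImplicit false
set_option linter.style.haveILetI false

namespace Groth.Agent.Helper1.Dev

open CategoryTheory Limits AlgebraicGeometry TopologicalSpace
open Groth.Agent.Helper4.StalkDict Groth.Agent.Helper4 Groth.Agent.Helper4.FinLocFree
  Groth.Agent.Lead.StalkNhd Groth.Agent.Lead.FlatLib Scheme.Modules Groth.Agent.Helper1.HHSum

universe u

section Graph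

variable {X : Scheme.{u}}

/-- **the graph trick**, with the inclusion of the graph exported -/
theorem exists_graph_extension' [IsNoetherian X] (E₁ E₂ : X.Modules) (h₁ : Coh.IsCoh E₁)
    (h₂ : Coh.IsCoh E₂) (V : X.Opens) (u : E₁.restrict V.ι ≅ E₂.restrict V.ι) :
    ∃ (H : X.Modules) (i' : H ⟶ (E₁ ⊞ E₂ : X.Modules)), Mono i' ∧ Coh.IsCoh H ∧
      ∀ z ∈ V, Function.Bijective (stalkLin (i' ≫ biprod.fst) z) ∧
        Function.Bijective (stalkLin (i' ≫ biprod.snd) z) := by
  have hE := isCoh_biprod h₁ h₂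
  haveI : Coh.IsQCoh (E₁ ⊞ E₂ : X.Modules) := hE.1
  have hR := isCoh_restrict h₁ V
  haveI : Coh.IsQCoh (E₁.restrict V.ι) := hR.1
  let R := Scheme.Modules.restrictFunctor V.ι
  let γ : E₁.restrict V.ι ⟶ (E₁ ⊞ E₂ : X.Modules).restrict V.ι :=
    R.map biprod.inl + u.hom ≫ R.map biprod.inr
  have hγ1 : γ ≫ R.map biprod.fst = 𝟙 _ := by
    show (R.map biprod.inl + u.hom ≫ R.map biprod.inr) ≫ R.map biprod.fst = 𝟙 _
    rw [Preadditive.add_comp, Category.assoc, ← R.map_comp, ← R.map_comp, biprod.inl_fst,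
      biprod.inr_fst, R.map_zero, comp_zero, add_zero, R.map_id]
  have hγ2 : γ ≫ R.map biprod.snd = u.hom := by
    show (R.map biprod.inl + u.hom ≫ R.map biprod.inr) ≫ R.map biprod.snd = u.hom
    rw [Preadditive.add_comp, Category.assoc, ← R.map_comp, ← R.map_comp, biprod.inl_snd,
      biprod.inr_snd, R.map_zero, zero_add, R.map_id, Category.comp_id]
  haveI : Mono γ := mono_of_mono_fac hγ1
  have hX : ∀ x : X, ∃ U : X.Opens, x ∈ U ∧ TopologicalSpace.NoetherianSpace (U : Set X) :=
    fun x => ⟨⊤, trivial, inferInstance⟩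
  obtain ⟨H, i', e, hmono, hq, hft, hcomp⟩ :=
    Groth.Agent.Helper4.SubInf.exists_extension_locallyNoetherian
      hX V (E₁ ⊞ E₂ : X.Modules) (E₁.restrict V.ι) hR.2 γ
  refine ⟨H, i', hmono, ⟨hq, hft⟩, fun z hz => ⟨?_, ?_⟩⟩
  · apply stalkLin_bijective_of_isIso_restrict _ V _ z hz
    have : R.map (i' ≫ biprod.fst) = e.hom := by
      rw [R.map_comp, ← hcomp, Category.assoc, hγ1, Category.comp_id]
    rw [this]
    infer_instance
  · apply stalkLin_bijective_of_isIso_restrict _ V _ z hz
    have : R.map (i' ≫ biprod.snd) = e.hom ≫ u.hom := by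
      rw [R.map_comp, ← hcomp, Category.assoc, hγ2]
    rw [this]
    infer_instance

end Graph

variable {Z : Scheme.{u}} [IsIntegral Z]

/-- a morphism from a quasi-coherent module with zero generic stalk to the structure sheaf of an
integral scheme vanishes -/
theorem eq_zero_of_subsingleton_stalk (N : Z.Modules) [N.IsQuasicoherent]
    (ψ : N ⟶ Coh.structureModule Z) (h : Subsingleton (N.presheaf.stalk (genericPoint Z))) :
    ψ = 0 := by
  apply QcohLocal.eq_zero_of_app_eq_zero_of_affine_cover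
  intro x
  obtain ⟨U, hU, hx⟩ := QcohLimits.exists_affine_nhd x
  refine ⟨U, hU, hx, fun n => ?_⟩
  have hξ : genericPoint Z ∈ U :=
    ((genericPoint_spec Z).mem_open_set_iff U.isOpen).2 ⟨x, trivial, hx⟩
  have h0 : N.presheaf.germ U _ hξ n = N.presheaf.germ U _ hξ 0 := Subsingleton.elim _ _
  obtain ⟨W, hξW, i₁, i₂, hW⟩ := TopCat.Presheaf.germ_eq N.presheaf _ hξ hξ _ _ h0
  rw [map_zero] at hW
  have h1 : (Coh.structureModule Z).presheaf.map i₁.op (ψ.app U n) = 0 := by
    rw [← StalkExact.app_res, hW, map_zero]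
  haveI : Nonempty W := ⟨⟨_, hξW⟩⟩
  have hinj := map_injective_of_isIntegral Z i₁
  have h2 : (Z.presheaf.map i₁.op (show Γ(Z, U) from ψ.app U n) : Γ(Z, W)) =
      Z.presheaf.map i₁.op (0 : Γ(Z, U)) := by
    rw [map_zero]
    exact h1
  exact hinj h2

/-- a quasi-coherent submodule of a free module on an integral scheme with zero generic stalk
vanishes -/
theorem isZero_of_mono_free (N : Z.Modules) [N.IsQuasicoherent] (r : ℕ)
    (φ : N ⟶ FlatMod.freeMod Z r) [Mono φ]
    (h : Subsingleton (N.presheaf.stalk (genericPoint Z))) : IsZero N := by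
  have h0 : φ = 0 := by
    have h1 : φ = φ ≫ 𝟙 _ := (Category.comp_id φ).symm
    rw [← sum_proj_ι (fun _ : Fin r => Coh.structureModule Z), Preadditive.comp_sum] at h1
    rw [h1]
    apply Finset.sum_eq_zero
    intro j _
    rw [← Category.assoc, eq_zero_of_subsingleton_stalk N (φ ≫ proj _ j) h, zero_comp]
  rw [IsZero.iff_id_eq_zero, ← cancel_mono φ, h0, comp_zero, comp_zero]

end Groth.Agent.Helper1.Dev
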