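import Mathlib
import Groth.Agent.Helper1.Dev15

/-!
# Dévissage, part 16: the integral case for classes closed under extensions, continued
-/

set_option autoImplicit false
set_option linter.style.haveILetI false

namespace Groth.Agent.Helper1.Dev

open CategoryTheory Limits AlgebraicGeometry TopologicalSpace
open Groth.Agent.Helper4.StalkDict Groth.Agent.Helper4 Groth.Agent.Helper4.FinLocFree
  Groth.Agent.Lead.StalkNhd Groth.Agent.Lead.FlatLib Scheme.Modules Groth.Agent.Helper1.HHSum

universe u

section CokSC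

variable {X : Scheme.{u}} {A B : X.Modules} (φ : A ⟶ B) [Mono φ]

/-- `0 → A → B → coker φ → 0` for a monomorphism `φ` -/
noncomputable abbrev cokSC : ShortComplex X.Modules :=
  ShortComplex.mk φ (cokernel.π φ) (cokernel.condition φ)

theorem cokSC_shortExact : (cokSC φ).ShortExact :=
  ShortComplex.ShortExact.mk' (ShortComplex.exact_of_g_is_cokernel _ (cokernelIsCokernel φ))
    (inferInstanceAs (Mono φ)) (inferInstanceAs (Epi (cokernel.π φ)))

end CokSC

variable {Z : Scheme.{u}} [IsIntegral Z] [IsNoetherian Z]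
  {K : ObjectProperty Z.Modules} (hK : HalfClass K)
  (hideal : ∀ (I : Z.Modules) (ι : I ⟶ Coh.structureModule Z), Mono ι → Coh.IsQCoh I → K I)

include hK hideal in
/-- coherent submodules of free modules are in the class -/
theorem HalfClass.sub_free : ∀ (r : ℕ) (N : Z.Modules), Coh.IsCoh N →
    ∀ (φ : N ⟶ FlatMod.freeMod Z r), Mono φ → K N := by
  intro r
  induction r with
  | zero =>
    intro N _ φ hφ
    exact hK.zero _ (IsZero.of_mono φ (Groth.Agent.Lead.PerfLib.isZero_freeMod_zero Z))
  | succ r ih =>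
    intro N hN φ hφ
    let S := sigmaSC (Coh.structureModule Z) r
    have hS : S.ShortExact := sigmaSC_shortExact _ r
    let ψ : N ⟶ FlatMod.freeMod Z r := φ ≫ S.g
    have hck : Coh.IsCoh (kernel ψ) :=
      Groth.Agent.Lead.PerfLib.isCoh_kernel hN (isCoh_freeMod Z r) ψ
    have hcc : Coh.IsCoh (cokernel ψ) :=
      Groth.Agent.Lead.PerfLib.isCoh_cokernel hN (isCoh_freeMod Z r) ψ
    have hci : Coh.IsCoh (Abelian.image ψ) :=
      Groth.Agent.Lead.PerfLib.isCoh_kernel (isCoh_freeMod Z r) hcc _
    have h3 : K (Abelian.image ψ) := ih _ hci (Abelian.image.ι ψ) inferInstance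
    have h1 : K (kernel ψ) := by
      have hz : (kernel.ι ψ ≫ φ) ≫ S.g = 0 := by
        rw [Category.assoc]
        exact kernel.condition ψ
      let θ : kernel ψ ⟶ Coh.structureModule Z := hS.fIsKernel.lift (KernelFork.ofι _ hz)
      have hθ : θ ≫ S.f = kernel.ι ψ ≫ φ := hS.fIsKernel.fac (KernelFork.ofι _ hz)
        WalkingParallelPair.zero
      haveI : Mono (θ ≫ S.f) := by rw [hθ]; exact mono_comp _ _
      exact hideal _ θ (mono_of_mono θ S.f) hck.1
    exact hK.ext (kerImSC ψ) (kerImSC_shortExact ψ) hck hN hci h1 h3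

variable (hsmall : ∀ E : Z.Modules, Coh.IsCoh E →
  Subsingleton (E.presheaf.stalk (genericPoint Z)) → K E)

include hK hideal hsmall in
/-- the integral case for classes closed under extensions: it suffices that the class contains
the quasi-coherent ideals and the coherent modules which vanish at the generic point -/
theorem HalfClass.integral_main (E : Z.Modules) (hE : Coh.IsCoh E) : K E := by
  obtain ⟨V, r, hV, ⟨e⟩⟩ := exists_isFreeAlong E hE
  obtain ⟨H, i', hmono, hH, hbij⟩ := exists_graph_extension' (FlatMod.freeMod Z r) E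
    (isCoh_freeMod Z r) hE V (restrictFreeIso V.ι r ≪≫ e.symm)
  obtain ⟨hv, hw⟩ := hbij _ hV
  set v : H ⟶ FlatMod.freeMod Z r := i' ≫ biprod.fst with hvdef
  set w : H ⟶ E := i' ≫ biprod.snd with hwdef
  -- `w` is a monomorphism
  have hkw : Coh.IsCoh (kernel w) := Groth.Agent.Lead.PerfLib.isCoh_kernel hH hE w
  haveI : (kernel w).IsQuasicoherent := hkw.1
  haveI : Mono (kernel.ι w ≫ v) := by
    apply Preadditive.mono_of_cancel_zero
    intro P g hg
    have h1 : (g ≫ kernel.ι w) ≫ i' = 0 := by
      apply biprod.hom_ext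
      · rw [Category.assoc, Category.assoc, zero_comp]
        exact hg
      · rw [Category.assoc, Category.assoc, zero_comp]
        show g ≫ kernel.ι w ≫ w = 0
        rw [kernel.condition, comp_zero]
    have h2 : g ≫ kernel.ι w = 0 := by
      rw [← cancel_mono i', h1, zero_comp]
    rw [← cancel_mono (kernel.ι w), h2, zero_comp]
  have hzk : IsZero (kernel w) :=
    isZero_of_mono_free (kernel w) r (kernel.ι w ≫ v) (subsingleton_stalk_kernel w _ hw.1)
  haveI : Mono w := Preadditive.mono_of_kernel_zero (hzk.eq_of_src _ _)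
  -- `H` is in the class
  have hkv : Coh.IsCoh (kernel v) :=
    Groth.Agent.Lead.PerfLib.isCoh_kernel hH (isCoh_freeMod Z r) v
  have hcv : Coh.IsCoh (cokernel v) :=
    Groth.Agent.Lead.PerfLib.isCoh_cokernel hH (isCoh_freeMod Z r) v
  have hiv : Coh.IsCoh (Abelian.image v) :=
    Groth.Agent.Lead.PerfLib.isCoh_kernel (isCoh_freeMod Z r) hcv _
  have hKH : K H := hK.ext (kerImSC v) (kerImSC_shortExact v) hkv hH hiv
    (hsmall _ hkv (subsingleton_stalk_kernel v _ hv.1))
    (hK.sub_free hideal r _ hiv (Abelian.image.ι v) inferInstance)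
  -- conclusion
  have hcw : Coh.IsCoh (cokernel w) := Groth.Agent.Lead.PerfLib.isCoh_cokernel hH hE w
  exact hK.ext (cokSC w) (cokSC_shortExact w) hH hE hcw hKH
    (hsmall _ hcw (subsingleton_stalk_cokernel w _ hw.2))

end Groth.Agent.Helper1.Dev
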