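import Mathlib
import Groth.Agent.Helper1.Dev16

/-!
# Dévissage, part 17: splitting the support
-/

set_option autoImplicit false
set_option linter.style.haveILetI false

namespace Groth.Agent.Helper1.Dev

open CategoryTheory Limits AlgebraicGeometry TopologicalSpace
open Groth.Agent.Helper4.StalkDict Groth.Agent.Helper4 Groth.Agent.Lead.Thick
  Groth.Agent.Lead.StalkNhd Groth.Agent.Lead.FlatLib Scheme.Modules Groth.Agent.Lead.PushStalk

universe u

variable {X : Scheme.{u}}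

theorem Kills.succ {Z : Scheme.{u}} (i : Z ⟶ X) [IsClosedImmersion i] (F : X.Modules) (n : ℕ)
    (h : Kills i F n) : Kills i F (n + 1) := fun U hU a ha m =>
  h U hU a (Ideal.pow_le_pow_right (Nat.le_succ n) ha) m

/-- if `(J₁ ⊓ J₂)^m` kills `F` then `J₂^m` kills the kernel of `F ⟶ F / J₁^m F` -/
theorem kills_kernel_pow (J₁ J₂ : X.IdealSheafData) (F : X.Modules) [F.IsQuasicoherent] (m : ℕ)
    (h : Kills (J₁ ⊓ J₂).subschemeι F m) :
    Kills (J₂ ^ m).subschemeι (kernel (η (J₁ ^ m).subschemeι F)) 1 := by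
  intro U hU a ha k
  rw [pow_one, (J₂ ^ m).ker_subschemeι_app ⟨U, hU⟩] at ha
  have ha' : a ∈ J₂.ideal ⟨U, hU⟩ ^ m := ha
  have hinj := AffineDict.app_injective_of_mono (kernel.ι (η (J₁ ^ m).subschemeι F)) U
  apply hinj
  rw [map_zero, Scheme.Modules.Hom.app_smul]
  have h1 : (η (J₁ ^ m).subschemeι F).app U
      ((kernel.ι (η (J₁ ^ m).subschemeι F)).app U k) = 0 := by
    have := congrArg (fun φ => (Scheme.Modules.Hom.app φ U) k)
      (kernel.condition (η (J₁ ^ m).subschemeι F))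
    exact this
  have h2 := η_app_ker (J₁ ^ m).subschemeι F hU _ h1
  rw [(J₁ ^ m).ker_subschemeι_app ⟨U, hU⟩] at h2
  have h2' : (kernel.ι (η (J₁ ^ m).subschemeι F)).app U k ∈
      (J₁.ideal ⟨U, hU⟩ ^ m) • (⊤ : Submodule Γ(X, U) Γ(F, U)) := h2
  refine Submodule.smul_induction_on h2' ?_ ?_
  · intro r hr y _
    rw [← mul_smul]
    apply h U hU
    rw [(J₁ ⊓ J₂).ker_subschemeι_app ⟨U, hU⟩]
    show a * r ∈ (J₁.ideal ⟨U, hU⟩ ⊓ J₂.ideal ⟨U, hU⟩) ^ m
    have h3 : a * r ∈ (J₂.ideal ⟨U, hU⟩ * J₁.ideal ⟨U, hU⟩) ^ m := by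
      rw [mul_pow]
      exact Ideal.mul_mem_mul ha' hr
    refine Ideal.pow_right_mono ?_ m h3
    rw [mul_comm]
    exact Ideal.mul_le_inf
  · intro x y hx hy
    rw [smul_add, hx, hy, add_zero]

/-- **splitting the support** of a coherent module (Stacks 01YD) -/
theorem exists_split_support [IsNoetherian X] (M : X.Modules) (hM : Coh.IsCoh M)
    (Z Z' : Closeds X) (h : CohB1.support M ⊆ (Z : Set X) ∪ (Z' : Set X)) :
    ∃ S : ShortComplex X.Modules, S.ShortExact ∧ Nonempty (S.X₂ ≅ M) ∧ Coh.IsCoh S.X₁ ∧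
      Coh.IsCoh S.X₃ ∧ CohB1.support S.X₁ ⊆ (Z' : Set X) ∧ CohB1.support S.X₃ ⊆ (Z : Set X) := by
  haveI : M.IsQuasicoherent := hM.1
  set J := Scheme.IdealSheafData.vanishingIdeal Z
  set J' := Scheme.IdealSheafData.vanishingIdeal Z'
  obtain ⟨n, hn⟩ := exists_kills_of_support (J ⊓ J') M hM (by
    rw [← Scheme.IdealSheafData.vanishingIdeal_sup, support_vanishingIdeal]
    exact h)
  have hm := Kills.succ _ M n hn
  have hQ : Coh.IsCoh ((Scheme.Modules.pushforward (J ^ (n + 1)).subschemeι).obj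
      ((Scheme.Modules.pullback (J ^ (n + 1)).subschemeι).obj M)) :=
    isCoh_push _ _ (isCoh_pullback _ M hM)
  have hker : Coh.IsCoh (kernel (η (J ^ (n + 1)).subschemeι M)) :=
    Groth.Agent.Lead.PerfLib.isCoh_kernel hM hQ _
  refine ⟨kerSC (η (J ^ (n + 1)).subschemeι M), kerSC_shortExact _, ⟨Iso.refl _⟩, hker, hQ, ?_, ?_⟩
  · have h1 := support_subset_range_of_kills _ _ 1 (kills_kernel_pow J J' M (n + 1) hm)
    rw [Scheme.IdealSheafData.range_subschemeι, Scheme.IdealSheafData.support_pow_succ,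
      support_vanishingIdeal] at h1
    exact h1
  · have h1 := support_push_subset (J ^ (n + 1)).subschemeι
      ((Scheme.Modules.pullback (J ^ (n + 1)).subschemeι).obj M)
    rw [Scheme.IdealSheafData.range_subschemeι, Scheme.IdealSheafData.support_pow_succ,
      support_vanishingIdeal] at h1
    exact h1

end Groth.Agent.Helper1.Dev
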