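import Mathlib
import Groth.Agent.Helper1.Dev17

/-!
# Dévissage, part 18: filtrations by ideals of integral closed subschemes
-/

set_option autoImplicit false
set_option linter.style.haveILetI false

namespace Groth.Agent.Helper1.Dev

open CategoryTheory Limits AlgebraicGeometry TopologicalSpace

universe u

section Abstract

variable {C : Type*} [Category C] [Abelian C]

/-- pulling back a short exact sequence along a monomorphism into the right-hand term -/
theorem exists_pullback_ses (S : ShortComplex C) (hS : S.ShortExact) {N : C} (ψ : N ⟶ S.X₃)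
    [Mono ψ] :
    ∃ (a : S.X₁ ⟶ kernel (S.g ≫ cokernel.π ψ)) (b : kernel (S.g ≫ cokernel.π ψ) ⟶ N)
      (w : a ≫ b = 0), (ShortComplex.mk a b w).ShortExact ∧
      a ≫ kernel.ι (S.g ≫ cokernel.π ψ) = S.f ∧ b ≫ ψ = kernel.ι (S.g ≫ cokernel.π ψ) ≫ S.g := by
  haveI := hS.mono_f
  haveI := hS.epi_g
  have hψ := Abelian.monoIsKernelOfCokernel (f := ψ)
    (CokernelCofork.ofπ (cokernel.π ψ) (cokernel.condition ψ)) (cokernelIsCokernel ψ)
  have hz : (kernel.ι (S.g ≫ cokernel.π ψ) ≫ S.g) ≫ cokernel.π ψ = 0 := by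
    rw [Category.assoc, kernel.condition]
  let b : kernel (S.g ≫ cokernel.π ψ) ⟶ N := hψ.lift (KernelFork.ofι _ hz)
  have hb : b ≫ ψ = kernel.ι (S.g ≫ cokernel.π ψ) ≫ S.g :=
    hψ.fac (KernelFork.ofι _ hz) WalkingParallelPair.zero
  let a : S.X₁ ⟶ kernel (S.g ≫ cokernel.π ψ) := kernel.lift _ S.f (by
    rw [← Category.assoc, S.zero, zero_comp])
  have ha : a ≫ kernel.ι (S.g ≫ cokernel.π ψ) = S.f := kernel.lift_ι _ _ _
  have w : a ≫ b = 0 := by
    rw [← cancel_mono ψ, Category.assoc, hb, ← Category.assoc, ha, S.zero, zero_comp]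
  refine ⟨a, b, w, ?_, ha, hb⟩
  haveI : Mono a := mono_of_mono_fac ha
  -- `b` is an epimorphism, being a pullback of `S.g`
  have hpb : IsLimit (PullbackCone.mk b (kernel.ι (S.g ≫ cokernel.π ψ)) hb) := by
    refine PullbackCone.IsLimit.mk _ (fun s => kernel.lift _ s.snd (by
      rw [← Category.assoc, ← s.condition, Category.assoc, cokernel.condition, comp_zero])) ?_ ?_ ?_
    · intro s
      rw [← cancel_mono ψ, Category.assoc, hb, ← Category.assoc, kernel.lift_ι, s.condition]
    · intro s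
      exact kernel.lift_ι _ _ _
    · intro s m _ hm
      rw [← cancel_mono (kernel.ι (S.g ≫ cokernel.π ψ)), kernel.lift_ι]
      exact hm
  haveI : Epi b := Abelian.epi_fst_of_isLimit ψ S.g hpb
  refine ShortComplex.ShortExact.mk' (ShortComplex.exact_of_f_is_kernel _ ?_) inferInstance
    inferInstance
  refine KernelFork.IsLimit.ofι _ _ (fun {T} t ht => hS.fIsKernel.lift (KernelFork.ofι
    (t ≫ kernel.ι (S.g ≫ cokernel.π ψ)) (by
      rw [Category.assoc, ← hb, ← Category.assoc, ht, zero_comp]))) ?_ ?_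
  · intro T t ht
    rw [← cancel_mono (kernel.ι (S.g ≫ cokernel.π ψ)), Category.assoc, ha]
    exact hS.fIsKernel.fac _ WalkingParallelPair.zero
  · intro T t ht m hm
    rw [← cancel_mono S.f]
    have h1 := hS.fIsKernel.fac (KernelFork.ofι
      (t ≫ kernel.ι (S.g ≫ cokernel.π ψ)) (by
        rw [Category.assoc, ← hb, ← Category.assoc, ht, zero_comp])) WalkingParallelPair.zero
    refine Eq.trans ?_ h1.symm
    rw [← ha, ← Category.assoc, hm]
    rfl

/-- the cokernel of the kernel of `B → C → coker ψ` -/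
noncomputable def cokernelKernelIso {B C' N : C} (g : B ⟶ C') [Epi g] (ψ : N ⟶ C') :
    cokernel (kernel.ι (g ≫ cokernel.π ψ)) ≅ cokernel ψ :=
  (colimit.isColimit _).coconePointUniqueUpToIso
    (Abelian.epiIsCokernelOfKernel (f := g ≫ cokernel.π ψ)
      (KernelFork.ofι (kernel.ι (g ≫ cokernel.π ψ)) (kernel.condition _)) (kernelIsKernel _))

end Abstract

end Groth.Agent.Helper1.Dev
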