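import Mathlib
import Groth.Agent.Helper1.Dev18

/-!
# Dévissage, part 19: filtrations by ideals of integral closed subschemes, continued
-/

set_option autoImplicit false
set_option linter.style.haveILetI false

namespace Groth.Agent.Helper1.Dev

open CategoryTheory Limits AlgebraicGeometry TopologicalSpace

universe u

variable {X : Scheme.{u}}

/-- `Q` is the direct image of a nonzero quasi-coherent ideal of an integral closed subscheme -/
def Good (Q : X.Modules) : Prop :=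
  ∃ (Z : Scheme.{u}) (i : Z ⟶ X), IsClosedImmersion i ∧ IsIntegral Z ∧
    ∃ (I : Z.Modules) (ι : I ⟶ Coh.structureModule Z), Mono ι ∧ Coh.IsQCoh I ∧ ¬ IsZero I ∧
      Nonempty (Q ≅ (Coh.push i).obj I)

theorem Good.of_iso {Q Q' : X.Modules} (e : Q ≅ Q') (h : Good Q) : Good Q' := by
  obtain ⟨Z, i, h1, h2, I, ι, h3, h4, h5, ⟨e'⟩⟩ := h
  exact ⟨Z, i, h1, h2, I, ι, h3, h4, h5, ⟨e.symm ≪≫ e'⟩⟩

/-- modules with a finite filtration whose graded pieces are good -/
inductive Filt : X.Modules → Prop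
  | zero (M : X.Modules) : IsZero M → Filt M
  | step (N M : X.Modules) (φ : N ⟶ M) : Mono φ → Filt N → Coh.IsCoh N → Coh.IsCoh M →
      Good (cokernel φ) → Filt M

theorem Filt.of_iso {M M' : X.Modules} (e : M ≅ M') (h : Filt M) : Filt M' := by
  cases h with
  | zero _ hM => exact Filt.zero _ (hM.of_iso e.symm)
  | step N _ φ hφ hN cN cM hg =>
    haveI := hφ
    refine Filt.step N M' (φ ≫ e.hom) (mono_comp _ _) hN cN ?_ ?_
    · exact Groth.Agent.Lead.PerfLib.isCoh_of_iso e cM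
    · exact hg.of_iso (cokernel.mapIso φ (φ ≫ e.hom) (Iso.refl _) e (by simp))

theorem Filt.ext_aux [IsLocallyNoetherian X] : ∀ (C : X.Modules), Filt C →
    ∀ (S : ShortComplex X.Modules), S.ShortExact → (S.X₃ ≅ C) → Coh.IsCoh S.X₁ → Coh.IsCoh S.X₂ →
      Coh.IsCoh S.X₃ → Filt S.X₁ → Filt S.X₂ := by
  intro C hC
  induction hC with
  | zero M hM =>
    intro S hS e c₁ c₂ c₃ h₁
    haveI := hS.mono_f
    have hz : IsZero S.X₃ := hM.of_iso e
    haveI : Epi S.f := hS.exact.epi_f (hz.eq_of_tgt _ _)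
    haveI : IsIso S.f := isIso_of_mono_of_epi _
    exact h₁.of_iso (asIso S.f)
  | step N M φ hφ hN cN cM hg ih =>
    intro S hS e c₁ c₂ c₃ h₁
    haveI := hφ
    haveI := hS.epi_g
    let ψ : N ⟶ S.X₃ := φ ≫ e.inv
    haveI : Mono ψ := mono_comp _ _
    obtain ⟨a, b, w, hab, ha, hb⟩ := exists_pullback_ses S hS ψ
    have cQ : Coh.IsCoh (cokernel ψ) := Groth.Agent.Lead.PerfLib.isCoh_cokernel cN c₃ ψ
    have cP : Coh.IsCoh (kernel (S.g ≫ cokernel.π ψ)) :=
      Groth.Agent.Lead.PerfLib.isCoh_kernel c₂ cQ _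
    have hP : Filt (kernel (S.g ≫ cokernel.π ψ)) :=
      ih (ShortComplex.mk a b w) hab (Iso.refl _) c₁ cP cN h₁
    refine Filt.step _ S.X₂ (kernel.ι (S.g ≫ cokernel.π ψ)) inferInstance hP cP c₂ ?_
    refine hg.of_iso (?_ ≪≫ (cokernelKernelIso S.g ψ).symm)
    exact cokernel.mapIso φ ψ (Iso.refl _) e.symm (by simp [ψ])

theorem Filt.halfClass [IsLocallyNoetherian X] : HalfClass (Filt : ObjectProperty X.Modules) where
  iso := fun e h => h.of_iso e
  zero := Filt.zero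
  ext := fun S hS c₁ c₂ c₃ h₁ h₃ => Filt.ext_aux S.X₃ h₃ S hS (Iso.refl _) c₁ c₂ c₃ h₁

end Groth.Agent.Helper1.Dev
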