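import Mathlib
import Groth.Agent.Helper1.Dev19

/-!
# Dévissage, part 20: existence of filtrations
-/

set_option autoImplicit false
set_option linter.style.haveILetI false

namespace Groth.Agent.Helper1.Dev

open CategoryTheory Limits AlgebraicGeometry TopologicalSpace

universe u

section Abstract

variable {C : Type*} [Category C]

/-- extending a chain by one step -/
theorem exists_extend_chain (m : ℕ) (F : ℕ → C) (φ : ∀ j, F j ⟶ F (j + 1)) (M : C)
    (θ : F m ⟶ M) :
    ∃ (F' : ℕ → C) (φ' : ∀ j, F' j ⟶ F' (j + 1)) (a : ∀ j, j ≤ m → (F' j ≅ F j))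
      (b : F' (m + 1) ≅ M),
      (∀ j (h : j < m), φ' j = (a j h.le).hom ≫ φ j ≫ (a (j + 1) h).inv) ∧
      φ' m = (a m le_rfl).hom ≫ θ ≫ b.inv := by
  let F' : ℕ → C := fun j => if j ≤ m then F j else M
  let a : ∀ j, j ≤ m → (F' j ≅ F j) := fun j h => eqToIso (if_pos h)
  let b : F' (m + 1) ≅ M := eqToIso (if_neg (by omega))
  let φ' : ∀ j, F' j ⟶ F' (j + 1) := fun j =>
    if h : j < m then (a j h.le).hom ≫ φ j ≫ (a (j + 1) h).inv
    else if h2 : j = m then
      eqToHom (by rw [h2]) ≫ (a m le_rfl).hom ≫ θ ≫ b.inv ≫ eqToHom (by rw [h2])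
    else eqToHom (by
      show (if j ≤ m then F j else M) = (if j + 1 ≤ m then F (j + 1) else M)
      rw [if_neg (by omega), if_neg (by omega)])
  refine ⟨F', φ', a, b, fun j h => dif_pos h, ?_⟩
  show (if h : m < m then _ else _) = _
  rw [dif_neg (lt_irrefl m), dif_pos rfl]
  simp

end Abstract

variable {X : Scheme.{u}}

/-- the chain form of a filtration -/
def Chain (M : X.Modules) : Prop :=
  ∃ (m : ℕ) (F : ℕ → X.Modules) (φ : (j : ℕ) → (F j ⟶ F (j + 1))),
    IsZero (F 0) ∧ Nonempty (F m ≅ M) ∧ (∀ j ≤ m, Coh.IsCoh (F j)) ∧ ∀ j < m, Mono (φ j) ∧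
      Good (cokernel (φ j))

theorem good_conj {A B A' B' : X.Modules} (f : A ⟶ B) (f' : A' ⟶ B') (p : A' ≅ A) (q : B' ≅ B)
    (h : f' = p.hom ≫ f ≫ q.inv) (hm : Mono f) (hg : Good (cokernel f)) :
    Mono f' ∧ Good (cokernel f') := by
  subst h
  haveI := hm
  exact ⟨mono_comp _ _, hg.of_iso (cokernel.mapIso f _ p.symm q.symm (by simp))⟩

theorem Filt.chain {M : X.Modules} (h : Filt M) : Chain M := by
  induction h with
  | zero M hM =>
    exact ⟨0, fun _ => M, fun _ => 𝟙 M, hM, ⟨Iso.refl _⟩, fun j _ => isCoh_of_isZero hM,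
      fun j hj => absurd hj (Nat.not_lt_zero j)⟩
  | step N M ψ hψ hN cN cM hg ih =>
    obtain ⟨m, F, φ, h0, ⟨e⟩, hc, hstep⟩ := ih
    obtain ⟨F', φ', a, b, h1, h2⟩ := exists_extend_chain m F φ M (e.hom ≫ ψ)
    refine ⟨m + 1, F', φ', h0.of_iso (a 0 (Nat.zero_le m)), ⟨b⟩, ?_, ?_⟩
    · intro j hj
      rcases Nat.lt_or_ge j (m + 1) with hlt | hge
      · exact Groth.Agent.Lead.PerfLib.isCoh_of_iso (a j (by omega)).symm (hc j (by omega))
      · have : j = m + 1 := by omega
        subst this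
        exact Groth.Agent.Lead.PerfLib.isCoh_of_iso b.symm cM
    · intro j hj
      rcases Nat.lt_or_ge j m with hlt | hge
      · obtain ⟨hm, hgood⟩ := hstep j hlt
        exact good_conj (φ j) (φ' j) (a j hlt.le) (a (j + 1) hlt) (h1 j hlt) hm hgood
      · have : j = m := by omega
        subst this
        haveI := hψ
        refine good_conj (e.hom ≫ ψ) (φ' j) (a j le_rfl) b h2 (mono_comp _ _) (hg.of_iso ?_)
        exact cokernel.mapIso _ _ e.symm (Iso.refl _) (by simp)

variable [IsNoetherian X]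

/-- **every coherent module has a filtration by ideals of integral closed subschemes** -/
theorem filt_of_isCoh (M : X.Modules) (hM : Coh.IsCoh M) : Filt M := by
  refine Filt.halfClass.core ⊤ ?_ M hM (Set.subset_univ _)
  intro Y _ hirrY hB E hE
  have hint := isIntegral_subscheme Y hirrY
  have := isNoetherian_of_isClosedImmersion (Scheme.IdealSheafData.vanishingIdeal Y).subschemeι
  refine (pushClass_halfClass (Scheme.IdealSheafData.vanishingIdeal Y).subschemeι
    Filt.halfClass).integral_main ?_ (fun E hE hs => small_of_below Y hB _ E hE hs) E hE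
  intro I ι hι hI
  show Filt ((Scheme.Modules.pushforward (Scheme.IdealSheafData.vanishingIdeal Y).subschemeι).obj I)
  by_cases hz : IsZero I
  · exact Filt.zero _ (Functor.map_isZero _ hz)
  · have hzero := Groth.Agent.Lead.PerfLib.isZero_freeMod_zero X
    have hcI : Coh.IsCoh I := by
      haveI : I.IsQuasicoherent := hI
      haveI := hι
      haveI : (Coh.structureModule (Scheme.IdealSheafData.vanishingIdeal Y).subscheme).IsQuasicoherent :=
        (isCoh_structureModule _).1
      exact ⟨hI, Groth.Agent.Helper4.QcohEpi.isFiniteType_of_mono ι (isCoh_structureModule _).2⟩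
    refine Filt.step (FlatMod.freeMod X 0) _ 0 ⟨fun _ _ _ => hzero.eq_of_tgt _ _⟩
      (Filt.zero _ hzero) (isCoh_of_isZero hzero) (isCoh_push _ _ hcI) ?_
    refine ⟨_, (Scheme.IdealSheafData.vanishingIdeal Y).subschemeι, inferInstance, hint, I, ι, hι,
      hI, hz, ⟨?_⟩⟩
    exact cokernelZeroIsoTarget

end Groth.Agent.Helper1.Dev
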