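import Mathlib
import Groth.Agent.Helper1.Dev20

/-!
# Dévissage, part 21: the Artin–Rees lemma on a Noetherian scheme
-/

set_option autoImplicit false
set_option linter.style.haveILetI false

namespace Groth.Agent.Helper1.Dev

open CategoryTheory Limits AlgebraicGeometry TopologicalSpace
open Groth.Agent.Helper4.StalkDict Groth.Agent.Helper4 Groth.Agent.Lead.Thick
  Groth.Agent.Lead.StalkNhd Groth.Agent.Lead.FlatLib Scheme.Modules Groth.Agent.Lead.PushStalk
  Groth.Agent.Helper4.QcohEpi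

universe u

variable {X : Scheme.{u}}

/-- the local form of the Artin–Rees lemma -/
theorem exists_app_injective_of_kills [IsLocallyNoetherian X] (H T : X.Modules) (hH : Coh.IsCoh H)
    (t : T ⟶ H) [Mono t] (J : X.IdealSheafData) (m : ℕ) (hm : Kills J.subschemeι T m)
    (U : X.Opens) (hU : IsAffineOpen U) :
    ∃ n₀, ∀ n ≥ n₀, Function.Injective ((t ≫ η (J ^ n).subschemeι H).app U) := by
  haveI : H.IsQuasicoherent := hH.1
  haveI : IsNoetherianRing Γ(X, U) := IsLocallyNoetherian.component_noetherian ⟨U, hU⟩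
  haveI : Module.Finite Γ(X, U) Γ(H, U) := SecDict.finite_sections hU H hH.1 hH.2
  obtain ⟨k, hk⟩ := Ideal.exists_pow_inf_eq_pow_smul (J.ideal ⟨U, hU⟩)
    (LinearMap.range (appLin t U))
  refine ⟨k + m, fun n hn => ?_⟩
  rw [injective_iff_map_eq_zero]
  intro x hx
  have hx' : (η (J ^ n).subschemeι H).app U (t.app U x) = 0 := hx
  have h1 := η_app_ker (J ^ n).subschemeι H hU _ hx'
  rw [(J ^ n).ker_subschemeι_app ⟨U, hU⟩] at h1
  have h1' : t.app U x ∈ (J.ideal ⟨U, hU⟩ ^ n) • (⊤ : Submodule Γ(X, U) Γ(H, U)) := h1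
  have h2 : t.app U x ∈ (J.ideal ⟨U, hU⟩ ^ n) • (⊤ : Submodule Γ(X, U) Γ(H, U)) ⊓
      LinearMap.range (appLin t U) := ⟨h1', ⟨x, rfl⟩⟩
  rw [hk n (by omega)] at h2
  have h3 : (J.ideal ⟨U, hU⟩ ^ (n - k)) •
      ((J.ideal ⟨U, hU⟩ ^ k) • (⊤ : Submodule Γ(X, U) Γ(H, U)) ⊓ LinearMap.range (appLin t U)) ≤
      ⊥ := by
    rw [Submodule.smul_le]
    intro a ha y hy
    obtain ⟨z, rfl⟩ := hy.2
    rw [Submodule.mem_bot, appLin_apply, ← Scheme.Modules.Hom.app_smul]
    have : a • z = 0 := by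
      apply hm U hU
      rw [J.ker_subschemeι_app ⟨U, hU⟩]
      exact Ideal.pow_le_pow_right (by omega : m ≤ n - k) ha
    rw [this, map_zero]
  have h4 : t.app U x = 0 := (Submodule.mem_bot _).1 (h3 h2)
  exact AffineDict.app_injective_of_mono t U (h4.trans (map_zero _).symm)

/-- **the Artin–Rees lemma** on a Noetherian scheme: a submodule killed by a power of `J` meets
`J^n H` trivially for large `n` -/
theorem exists_mono_comp_η [IsNoetherian X] (H T : X.Modules) (hH : Coh.IsCoh H)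
    [T.IsQuasicoherent] (t : T ⟶ H) [Mono t] (J : X.IdealSheafData) (m : ℕ)
    (hm : Kills J.subschemeι T m) :
    ∃ n₀, ∀ n ≥ n₀, Mono (t ≫ η (J ^ n).subschemeι H) := by
  haveI : H.IsQuasicoherent := hH.1
  choose n₀ hn₀ using fun V : X.affineOpens =>
    exists_app_injective_of_kills H T hH t J m hm V.1 V.2
  obtain ⟨s, hs⟩ := isCompact_univ.elim_finite_subcover (fun V : X.affineOpens => (V.1 : Set X))
    (fun V => V.1.isOpen) (by
      intro x _
      obtain ⟨U, hU, hx⟩ := QcohLimits.exists_affine_nhd x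
      exact Set.mem_iUnion.2 ⟨⟨U, hU⟩, hx⟩)
  refine ⟨s.sup n₀, fun n hn => ?_⟩
  apply QcohLocal.mono_of_app_injective_of_affine_cover
  intro x
  obtain ⟨V, hVs, hxV⟩ := Set.mem_iUnion₂.1 (hs (Set.mem_univ x))
  exact ⟨V.1, V.2, hxV, hn₀ V n ((Finset.le_sup hVs).trans hn)⟩

end Groth.Agent.Helper1.Dev
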