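import Mathlib
import Groth.Agent.Helper1.Dev21

/-!
# Dévissage, part 22: auxiliary statements for the structure of coherent modules near a
generic point
-/

set_option autoImplicit false
set_option linter.style.haveILetI false

namespace Groth.Agent.Helper1.Dev

open CategoryTheory Limits AlgebraicGeometry TopologicalSpace
open Groth.Agent.Helper4.StalkDict Groth.Agent.Helper4 Groth.Agent.Lead.Thick
  Groth.Agent.Lead.StalkNhd Groth.Agent.Lead.FlatLib Scheme.Modules Groth.Agent.Lead.PushStalk

universe u

section Abstract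

variable {C : Type*} [Category C] [Abelian C]

/-- if `ker v` meets `ker q` trivially (in the form: `ker v ⟶ Q` is a monomorphism) then
`ker q ⟶ E` is a monomorphism -/
theorem mono_kernel_swap {H E Q : C} (v : H ⟶ E) (q : H ⟶ Q) [Mono (kernel.ι v ≫ q)] :
    Mono (kernel.ι q ≫ v) := by
  apply Preadditive.mono_of_cancel_zero
  intro P g hg
  have h1 : (g ≫ kernel.ι q) ≫ v = 0 := by rw [Category.assoc]; exact hg
  have h2 : kernel.lift v (g ≫ kernel.ι q) h1 ≫ (kernel.ι v ≫ q) = 0 := by
    rw [← Category.assoc, kernel.lift_ι, Category.assoc, kernel.condition, comp_zero]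
  have h3 : kernel.lift v (g ≫ kernel.ι q) h1 = 0 := by
    rw [← cancel_mono (kernel.ι v ≫ q), h2, zero_comp]
  have h4 : g ≫ kernel.ι q = 0 := by
    rw [← kernel.lift_ι v (g ≫ kernel.ι q) h1, h3, zero_comp]
  rw [← cancel_mono (kernel.ι q), h4, zero_comp]

end Abstract

variable {X : Scheme.{u}}

/-- the inclusion of the kernel is bijective on stalks at points where the target vanishes -/
theorem stalkLin_bijective_kernel_ι {A B : X.Modules} (φ : A ⟶ B) (x : X)
    (h : Subsingleton (B.presheaf.stalk x)) : Function.Bijective (stalkLin (kernel.ι φ) x) := by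
  refine ⟨StalkExact.stalkLin_injective _ x, fun a => ?_⟩
  have hex := StalkExact.stalkLin_exact (ShortComplex.mk (kernel.ι φ) φ (kernel.condition φ))
    (ShortComplex.exact_of_f_is_kernel _ (kernelIsKernel φ)) x
  exact (hex a).1 (Subsingleton.elim _ _)

theorem bijective_of_comp_bijective {A B C : X.Modules} (f : A ⟶ B) (g : B ⟶ C) (x : X)
    (hg : Function.Bijective (stalkLin g x)) (hfg : Function.Bijective (stalkLin (f ≫ g) x)) :
    Function.Bijective (stalkLin f x) := by
  have h : ⇑(stalkLin (f ≫ g) x) = ⇑(stalkLin g x) ∘ ⇑(stalkLin f x) := by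
    funext t
    exact stalkLin_comp f g x t
  rw [h] at hfg
  exact (Function.Bijective.of_comp_iff' hg _).1 hfg

theorem bijective_comp {A B C : X.Modules} (f : A ⟶ B) (g : B ⟶ C) (x : X)
    (hf : Function.Bijective (stalkLin f x)) (hg : Function.Bijective (stalkLin g x)) :
    Function.Bijective (stalkLin (f ≫ g) x) := by
  have h : ⇑(stalkLin (f ≫ g) x) = ⇑(stalkLin g x) ∘ ⇑(stalkLin f x) := by
    funext t
    exact stalkLin_comp f g x t
  rw [h]
  exact hg.comp hf

section Closed

variable {Z : Scheme.{u}} (i : Z ⟶ X) [IsClosedImmersion i]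

/-- germs of sections of the ideal of `i` at points of its image lie in the maximal ideal -/
theorem germ_mem_maximalIdeal' (U : X.Opens) (z : Z) (hzU : i z ∈ U) (a : Γ(X, U))
    (ha : a ∈ RingHom.ker (i.app U).hom) :
    X.presheaf.germ U (i z) hzU a ∈ IsLocalRing.maximalIdeal (X.presheaf.stalk (i z)) := by
  rw [IsLocalRing.mem_maximalIdeal]
  intro hu
  have h1 : IsUnit ((i.stalkMap z).hom (X.presheaf.germ U (i z) hzU a)) := hu.map _
  rw [Scheme.Hom.germ_stalkMap_apply] at h1
  have h2 : (i.app U).hom a = 0 := ha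
  rw [h2, map_zero] at h1
  exact not_isUnit_zero h1

/-- the kernel of the unit `G ⟶ i_* i^* G` vanishes at points of the image of `i` where the
maximal ideal kills the stalk -/
theorem subsingleton_stalk_kernel_η' (G : X.Modules) [G.IsQuasicoherent] (z : Z)
    (hkill : ∀ r ∈ IsLocalRing.maximalIdeal (X.presheaf.stalk (i z)),
      ∀ t : G.presheaf.stalk (i z), r • t = 0) :
    Subsingleton ((kernel (η i G)).presheaf.stalk (i z)) := by
  refine ⟨fun a b => ?_⟩
  suffices h0 : ∀ t : (kernel (η i G)).presheaf.stalk (i z), t = 0 by rw [h0 a, h0 b]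
  intro t
  apply StalkExact.stalkLin_injective (kernel.ι (η i G)) (i z)
  rw [map_zero]
  obtain ⟨V, hyV, k, rfl⟩ := TopCat.Presheaf.exists_germ_eq _ t
  obtain ⟨_, ⟨W, hW : IsAffineOpen W, rfl⟩, hyW, hWV⟩ :=
    X.isBasis_affineOpens.exists_subset_of_mem_open hyV V.isOpen
  rw [← TopCat.Presheaf.germ_res_apply (kernel (η i G)).presheaf (homOfLE hWV) (i z) hyW k,
    StalkExact.stalkLin_germ]
  set k' := (kernel (η i G)).presheaf.map (homOfLE hWV).op k
  have h1 : (η i G).app W ((kernel.ι (η i G)).app W k') = 0 := by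
    have := congrArg (fun φ => (Scheme.Modules.Hom.app φ W) k') (kernel.condition (η i G))
    exact this
  have h2 := η_app_ker i G hW _ h1
  refine Submodule.smul_induction_on h2 ?_ ?_
  · intro r hr m _
    rw [germ_smul]
    exact hkill _ (germ_mem_maximalIdeal' i W z hyW r hr) _
  · intro a b ha hb
    rw [map_add, ha, hb, add_zero]

/-- a submodule which maps injectively to `i_* i^* F` is killed by the ideal of `i` -/
theorem kills_of_mono_comp_η {F F₁ : X.Modules} [F.IsQuasicoherent] (κ : F₁ ⟶ F)
    [Mono (κ ≫ η i F)] : Kills i F₁ 1 := by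
  intro U hU a ha x
  have hinj := AffineDict.app_injective_of_mono (κ ≫ η i F) U
  apply hinj
  rw [map_zero, Scheme.Modules.Hom.app_smul]
  exact kills_push i _ U hU a ha _

/-- morphisms to a module killed by the ideal of `i` vanish on `ker (A ⟶ i_* i^* A)` -/
theorem kernel_ι_η_comp_eq_zero {A C : X.Modules} [A.IsQuasicoherent] [C.IsQuasicoherent]
    (φ : A ⟶ C) (hC : Kills i C 1) : kernel.ι (η i A) ≫ φ = 0 := by
  haveI := isIso_η_of_kills i C hC
  rw [← cancel_mono (η i C), Category.assoc, zero_comp]
  have hnat : φ ≫ η i C = η i A ≫ (Scheme.Modules.pushforward i).map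
      ((Scheme.Modules.pullback i).map φ) :=
    (Scheme.Modules.pullbackPushforwardAdjunction i).unit.naturality φ
  rw [hnat, ← Category.assoc, kernel.condition, zero_comp]

/-- stalks of pushforwards of morphisms along a closed immersion -/
theorem psHom_stalkLin {M N : Z.Modules} (φ : M ⟶ N) (z : Z)
    (t : ((Scheme.Modules.pushforward i).obj M).presheaf.stalk (i z)) :
    psHom i N z (stalkLin ((Scheme.Modules.pushforward i).map φ) (i z) t) =
      stalkLin φ z (psHom i M z t) := by
  obtain ⟨V, hzV, m, rfl⟩ := TopCat.Presheaf.exists_germ_eq _ t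
  rw [StalkExact.stalkLin_germ, psHom_germ, psHom_germ, StalkExact.stalkLin_germ]
  rfl

theorem stalkLin_push_bijective {M N : Z.Modules} (φ : M ⟶ N) (z : Z)
    (h : Function.Bijective (stalkLin φ z)) :
    Function.Bijective (stalkLin ((Scheme.Modules.pushforward i).map φ) (i z)) := by
  have hM := psHom_bijective i M i.isClosedEmbedding.isInducing z
  have hN := psHom_bijective i N i.isClosedEmbedding.isInducing z
  constructor
  · intro a b hab
    apply hM.1
    apply h.1
    rw [← psHom_stalkLin, ← psHom_stalkLin, hab]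
  · intro b
    obtain ⟨a, ha⟩ := h.2 (psHom i N z b)
    obtain ⟨a', rfl⟩ := hM.2 a
    refine ⟨a', ?_⟩
    apply hN.1
    rw [psHom_stalkLin, ha]

end Closed

end Groth.Agent.Helper1.Dev
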