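import Mathlib
import Groth.Agent.Helper1.Dev22
import Groth.Prelude.Def_Dual3

/-!
# Dévissage, part 23: avoiding torsion
-/

set_option autoImplicit false
set_option linter.style.haveILetI false

namespace Groth.Agent.Helper1.Dev

open CategoryTheory Limits AlgebraicGeometry TopologicalSpace
open Groth.Agent.Helper4.StalkDict Groth.Agent.Helper4 Groth.Agent.Lead.Thick
  Groth.Agent.Lead.StalkNhd Groth.Agent.Lead.FlatLib Scheme.Modules Groth.Agent.Lead.PushStalk

universe u

variable {X : Scheme.{u}} [IsNoetherian X]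

theorem subsingleton_stalk_push_pull_pow (J : X.IdealSheafData) (n : ℕ) (H : X.Modules) (x : X)
    (hx : x ∉ (J.support : Set X)) :
    Subsingleton (((Scheme.Modules.pushforward (J ^ (n + 1)).subschemeι).obj
      ((Scheme.Modules.pullback (J ^ (n + 1)).subschemeι).obj H)).presheaf.stalk x) := by
  apply subsingleton_stalk_of_notMem_range _ _
    (J ^ (n + 1)).subschemeι.isClosedEmbedding.isClosed_range
  intro hcon
  apply hx
  have : x ∈ Set.range (J ^ (n + 1)).subschemeι := hcon
  rw [Scheme.IdealSheafData.range_subschemeι, Scheme.IdealSheafData.support_pow_succ] at this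
  exact this

/-- **avoiding the kernel**: if `v : H ⟶ E` is injective at `x`, there is a coherent submodule
`H₁ ⊆ H`, equal to `H` near `x`, on which `v` is a monomorphism -/
theorem exists_sub_mono (H E : X.Modules) (hH : Coh.IsCoh H) (hE : Coh.IsCoh E) (v : H ⟶ E)
    (x : X) (hx : Subsingleton ((kernel v).presheaf.stalk x)) :
    ∃ (H₁ : X.Modules) (κ : H₁ ⟶ H), Coh.IsCoh H₁ ∧ Mono κ ∧ Mono (κ ≫ v) ∧
      Function.Bijective (stalkLin κ x) := by
  haveI : H.IsQuasicoherent := hH.1
  have hT : Coh.IsCoh (kernel v) := Groth.Agent.Lead.PerfLib.isCoh_kernel hH hE v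
  haveI : (kernel v).IsQuasicoherent := hT.1
  have hcl : IsClosed (CohB1.support (kernel v)) := Groth.Agent.S0020.result _ _ hT.2
  set J := Scheme.IdealSheafData.vanishingIdeal ⟨_, hcl⟩ with hJ
  have hxJ : x ∉ (J.support : Set X) := by
    rw [support_vanishingIdeal]
    exact fun hcon => hcon hx
  obtain ⟨m, hm⟩ := exists_kills_of_support J (kernel v) hT (by rw [support_vanishingIdeal]; rfl)
  obtain ⟨n₀, hn₀⟩ := exists_mono_comp_η H (kernel v) hH (kernel.ι v) J m hm
  haveI : Mono (kernel.ι v ≫ η (J ^ (n₀ + 1)).subschemeι H) := hn₀ (n₀ + 1) (Nat.le_succ _)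
  have hQ : Coh.IsCoh ((Scheme.Modules.pushforward (J ^ (n₀ + 1)).subschemeι).obj
      ((Scheme.Modules.pullback (J ^ (n₀ + 1)).subschemeι).obj H)) :=
    isCoh_push _ _ (isCoh_pullback _ H hH)
  refine ⟨kernel (η (J ^ (n₀ + 1)).subschemeι H), kernel.ι _,
    Groth.Agent.Lead.PerfLib.isCoh_kernel hH hQ _, inferInstance, mono_kernel_swap v _, ?_⟩
  exact stalkLin_bijective_kernel_ι _ x (subsingleton_stalk_push_pull_pow J n₀ H x hxJ)

end Groth.Agent.Helper1.Dev
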