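import Mathlib
import Groth.Agent.Helper1.Dev23

/-!
# Dévissage, part 24: powers of an ideal inside a submodule of a free module
-/

set_option autoImplicit false
set_option linter.style.haveILetI false

namespace Groth.Agent.Helper1.Dev

open CategoryTheory Limits AlgebraicGeometry TopologicalSpace
open Groth.Agent.Helper4.StalkDict Groth.Agent.Helper4 Groth.Agent.Lead.Thick
  Groth.Agent.Lead.StalkNhd Groth.Agent.Lead.FlatLib Scheme.Modules Groth.Agent.Lead.PushStalk

universe u

variable {X : Scheme.{u}}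

theorem kills_pow_one (J : X.IdealSheafData) (C : X.Modules) (k : ℕ)
    (h : Kills J.subschemeι C k) : Kills (J ^ k).subschemeι C 1 := by
  intro U hU a ha m
  apply h U hU
  rw [pow_one, (J ^ k).ker_subschemeι_app ⟨U, hU⟩] at ha
  rw [J.ker_subschemeι_app ⟨U, hU⟩]
  exact ha

variable [IsNoetherian X]

/-- a submodule of a free module which is everything near `x` contains `I^{⊕ r}` for an ideal `I`
which is the unit ideal near `x` -/
theorem exists_ideal_sub (H₁ : X.Modules) (hH₁ : Coh.IsCoh H₁) (r : ℕ)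
    (v₁ : H₁ ⟶ FlatMod.freeMod X r) [Mono v₁] (x : X) (hv₁ : Function.Bijective (stalkLin v₁ x)) :
    ∃ (I : X.Modules) (ι : I ⟶ Coh.structureModule X) (δ : (∐ fun _ : Fin r => I) ⟶ H₁),
      Coh.IsCoh I ∧ Mono ι ∧ Function.Bijective (stalkLin ι x) ∧ Mono δ ∧
      Function.Bijective (stalkLin δ x) := by
  have hO := isCoh_structureModule X
  have hFr := isCoh_freeMod X r
  haveI : (Coh.structureModule X).IsQuasicoherent := hO.1
  haveI : (FlatMod.freeMod X r).IsQuasicoherent := hFr.1
  have hC : Coh.IsCoh (cokernel v₁) := Groth.Agent.Lead.PerfLib.isCoh_cokernel hH₁ hFr v₁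
  haveI : (cokernel v₁).IsQuasicoherent := hC.1
  have hcl : IsClosed (CohB1.support (cokernel v₁)) := Groth.Agent.S0020.result _ _ hC.2
  set J := Scheme.IdealSheafData.vanishingIdeal ⟨_, hcl⟩ with hJ
  have hxJ : x ∉ (J.support : Set X) := by
    rw [support_vanishingIdeal]
    exact fun hcon => hcon (subsingleton_stalk_cokernel v₁ x hv₁.2)
  obtain ⟨m, hm⟩ := exists_kills_of_support J (cokernel v₁) hC
    (by rw [support_vanishingIdeal]; rfl)
  have hk := kills_pow_one J _ (m + 1) (Kills.succ _ _ m hm)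
  -- the submodule `𝔠 · O^r`
  have hz : kernel.ι (η (J ^ (m + 1)).subschemeι (FlatMod.freeMod X r)) ≫ cokernel.π v₁ = 0 :=
    kernel_ι_η_comp_eq_zero _ _ hk
  have hker := Abelian.monoIsKernelOfCokernel (f := v₁)
    (CokernelCofork.ofπ (cokernel.π v₁) (cokernel.condition v₁)) (cokernelIsCokernel v₁)
  let δ₀ : kernel (η (J ^ (m + 1)).subschemeι (FlatMod.freeMod X r)) ⟶ H₁ :=
    hker.lift (KernelFork.ofι _ hz)
  have hδ₀ : δ₀ ≫ v₁ = kernel.ι (η (J ^ (m + 1)).subschemeι (FlatMod.freeMod X r)) :=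
    hker.fac (KernelFork.ofι _ hz) WalkingParallelPair.zero
  have hmδ₀ : Mono δ₀ := mono_of_mono_fac hδ₀
  have hbκ : Function.Bijective (stalkLin
      (kernel.ι (η (J ^ (m + 1)).subschemeι (FlatMod.freeMod X r))) x) :=
    stalkLin_bijective_kernel_ι _ x (subsingleton_stalk_push_pull_pow J m _ x hxJ)
  have hbδ₀ : Function.Bijective (stalkLin δ₀ x) :=
    bijective_of_comp_bijective δ₀ v₁ x hv₁ (by rw [hδ₀]; exact hbκ)
  -- the ideal `𝔠 · O`
  let e : (∐ fun _ : Fin r => (Dual3.idealMul (J ^ (m + 1))).obj (Coh.structureModule X)) ≅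
      (Dual3.idealMul (J ^ (m + 1))).obj (FlatMod.freeMod X r) :=
    (PreservesCoproduct.iso (Dual3.idealMul (J ^ (m + 1)))
      (fun _ : Fin r => Coh.structureModule X)).symm
  have hQ : Coh.IsCoh ((Scheme.Modules.pushforward (J ^ (m + 1)).subschemeι).obj
      ((Scheme.Modules.pullback (J ^ (m + 1)).subschemeι).obj (Coh.structureModule X))) :=
    isCoh_push _ _ (isCoh_pullback _ _ hO)
  refine ⟨kernel (η (J ^ (m + 1)).subschemeι (Coh.structureModule X)), kernel.ι _, e.hom ≫ δ₀,
    Groth.Agent.Lead.PerfLib.isCoh_kernel hO hQ _, inferInstance, ?_,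
    mono_comp' inferInstance hmδ₀, ?_⟩
  · exact stalkLin_bijective_kernel_ι _ x (subsingleton_stalk_push_pull_pow J m _ x hxJ)
  · exact bijective_comp e.hom δ₀ x (stalkLin_bijective_of_isIso e.hom x) hbδ₀

end Groth.Agent.Helper1.Dev
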