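import Mathlib
import Groth.Agent.Helper1.Dev24

/-!
# Dévissage, part 25: the structure of coherent modules near a generic point (Stacks 01YE)
-/

set_option autoImplicit false
set_option linter.style.haveILetI false

namespace Groth.Agent.Helper1.Dev

open CategoryTheory Limits AlgebraicGeometry TopologicalSpace
open Groth.Agent.Helper4.StalkDict Groth.Agent.Helper4 Groth.Agent.Helper4.FinLocFree
  Groth.Agent.Lead.Thick Groth.Agent.Lead.StalkNhd Groth.Agent.Lead.FlatLib Scheme.Modules
  Groth.Agent.Lead.PushStalk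

universe u

/-- on an integral Noetherian scheme, every coherent module contains `I^{⊕ r}` for a coherent
ideal `I`, with equality near the generic point -/
theorem exists_ideal_pow_mono {Z : Scheme.{u}} [IsIntegral Z] [IsNoetherian Z] (E : Z.Modules)
    (hE : Coh.IsCoh E) :
    ∃ (r : ℕ) (I : Z.Modules) (ι : I ⟶ Coh.structureModule Z) (ψ : (∐ fun _ : Fin r => I) ⟶ E),
      Coh.IsCoh I ∧ Mono ι ∧ Function.Bijective (stalkLin ι (genericPoint Z)) ∧ Mono ψ ∧
      Function.Bijective (stalkLin ψ (genericPoint Z)) := by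
  obtain ⟨V, r, hV, ⟨e⟩⟩ := exists_isFreeAlong E hE
  obtain ⟨H, i', hmono, hH, hbij⟩ := exists_graph_extension' (FlatMod.freeMod Z r) E
    (isCoh_freeMod Z r) hE V (restrictFreeIso V.ι r ≪≫ e.symm)
  obtain ⟨hv, hw⟩ := hbij _ hV
  set v : H ⟶ FlatMod.freeMod Z r := i' ≫ biprod.fst with hvdef
  set w : H ⟶ E := i' ≫ biprod.snd with hwdef
  -- `w` is a monomorphism
  have hkw : Coh.IsCoh (kernel w) := Groth.Agent.Lead.PerfLib.isCoh_kernel hH hE w
  haveI : (kernel w).IsQuasicoherent := hkw.1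
  haveI : Mono (kernel.ι w ≫ v) := by
    apply Preadditive.mono_of_cancel_zero
    intro P g hg
    have h1 : (g ≫ kernel.ι w) ≫ i' = 0 := by
      apply biprod.hom_ext
      · rw [Category.assoc, Category.assoc, zero_comp]
        exact hg
      · rw [Category.assoc, Category.assoc, zero_comp]
        show g ≫ kernel.ι w ≫ w = 0
        rw [kernel.condition, comp_zero]
    have h2 : g ≫ kernel.ι w = 0 := by
      rw [← cancel_mono i', h1, zero_comp]
    rw [← cancel_mono (kernel.ι w), h2, zero_comp]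
  have hzk : IsZero (kernel w) :=
    isZero_of_mono_free (kernel w) r (kernel.ι w ≫ v) (subsingleton_stalk_kernel w _ hw.1)
  haveI : Mono w := Preadditive.mono_of_kernel_zero (hzk.eq_of_src _ _)
  -- avoid the kernel of `v`
  obtain ⟨H₁, κ, hH₁, hκ, hκv, hbκ⟩ := exists_sub_mono H (FlatMod.freeMod Z r) hH
    (isCoh_freeMod Z r) v (genericPoint Z) (subsingleton_stalk_kernel v _ hv.1)
  haveI := hκ
  haveI := hκv
  obtain ⟨I, ι, δ, hI, hι, hbι, hδ, hbδ⟩ := exists_ideal_sub H₁ hH₁ r (κ ≫ v) (genericPoint Z)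
    (bijective_comp κ v _ hbκ hv)
  haveI := hδ
  refine ⟨r, I, ι, δ ≫ κ ≫ w, hI, hι, hbι, mono_comp _ _, ?_⟩
  exact bijective_comp δ (κ ≫ w) _ hbδ (bijective_comp κ w _ hbκ hw)

end Groth.Agent.Helper1.Dev
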