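import Mathlib
import Groth.Agent.Helper1.Dev25

/-!
# Dévissage, part 26: Stacks 01YE on the ambient scheme
-/

set_option autoImplicit false
set_option linter.style.haveILetI false

namespace Groth.Agent.Helper1.Dev

open CategoryTheory Limits AlgebraicGeometry TopologicalSpace
open Groth.Agent.Helper4.StalkDict Groth.Agent.Helper4 Groth.Agent.Helper4.FinLocFree
  Groth.Agent.Lead.Thick Groth.Agent.Lead.StalkNhd Groth.Agent.Lead.FlatLib Scheme.Modules
  Groth.Agent.Lead.PushStalk

universe u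

variable {X Z : Scheme.{u}} [IsNoetherian X] (i : Z ⟶ X) [IsClosedImmersion i] [IsIntegral Z]

/-- **Stacks 01YE**: a coherent module whose stalk at the generic point `ξ` of an integral closed
subscheme `Z` is killed by the maximal ideal contains `i_* (I^{⊕ r})` for a coherent ideal `I` of
`Z`, with equality near `ξ` -/
theorem exists_push_ideal_pow_mono (F : X.Modules) (hF : Coh.IsCoh F)
    (hann : ∀ a ∈ IsLocalRing.maximalIdeal (X.presheaf.stalk (i (genericPoint Z))),
      ∀ m : ↑(F.presheaf.stalk (i (genericPoint Z))), a • m = 0) :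
    ∃ (r : ℕ) (I : Z.Modules) (ι : I ⟶ Coh.structureModule Z)
      (φ : (Scheme.Modules.pushforward i).obj (∐ fun _ : Fin r => I) ⟶ F),
      Mono ι ∧ Coh.IsCoh I ∧ Function.Bijective (stalkLin ι (genericPoint Z)) ∧ Mono φ ∧
      Function.Bijective (stalkLin φ (i (genericPoint Z))) := by
  haveI : F.IsQuasicoherent := hF.1
  haveI := isNoetherian_of_isClosedImmersion i
  have hQ : Coh.IsCoh ((Scheme.Modules.pushforward i).obj ((Scheme.Modules.pullback i).obj F)) :=
    isCoh_push i _ (isCoh_pullback i F hF)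
  obtain ⟨F₁, κ₁, hF₁, hκ₁, hκη, hbκ₁⟩ := exists_sub_mono F _ hF hQ (η i F) (i (genericPoint Z))
    (subsingleton_stalk_kernel_η' i F (genericPoint Z) hann)
  haveI := hκ₁
  haveI := hκη
  haveI : F₁.IsQuasicoherent := hF₁.1
  have hkill : Kills i F₁ 1 := kills_of_mono_comp_η i κ₁
  haveI := isIso_η_of_kills i F₁ hkill
  obtain ⟨r, I, ι, ψ, hI, hι, hbι, hψ, hbψ⟩ :=
    exists_ideal_pow_mono ((Scheme.Modules.pullback i).obj F₁) (isCoh_pullback i F₁ hF₁)
  haveI := hψ
  haveI : Mono ((Scheme.Modules.pushforward i).map ψ) := Functor.map_mono _ ψ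
  refine ⟨r, I, ι, (Scheme.Modules.pushforward i).map ψ ≫ inv (η i F₁) ≫ κ₁, hι, hI, hbι,
    mono_comp _ _, ?_⟩
  refine bijective_comp _ _ _ (stalkLin_push_bijective i ψ _ hbψ) ?_
  exact bijective_comp _ _ _ (stalkLin_bijective_of_isIso _ _) hbκ₁

end Groth.Agent.Helper1.Dev
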