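import Mathlib
import Groth.Agent.Helper1.Dev26

/-!
# Dévissage, part 27: ideals of an integral scheme and classes closed under kernels of
epimorphisms
-/

set_option autoImplicit false
set_option linter.style.haveILetI false

namespace Groth.Agent.Helper1.Dev

open CategoryTheory Limits AlgebraicGeometry TopologicalSpace
open Groth.Agent.Helper4.StalkDict Groth.Agent.Helper4 Groth.Agent.Helper4.FinLocFree
  Groth.Agent.Lead.Thick Groth.Agent.Lead.StalkNhd Groth.Agent.Lead.FlatLib Scheme.Modules
  Groth.Agent.Lead.PushStalk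

universe u

variable {Z : Scheme.{u}} [IsIntegral Z]

/-- the stalk of the structure sheaf at the generic point is a simple module -/
theorem isSimpleModule_stalk_structureModule :
    IsSimpleModule (Z.presheaf.stalk (genericPoint Z))
      ((Coh.structureModule Z).presheaf.stalk (genericPoint Z)) := by
  have hO := isCoh_structureModule Z
  haveI : (Coh.structureModule Z).IsQuasicoherent := hO.1
  have h1 : IsFreeAlong (FlatMod.freeMod Z 1) (⊤ : Z.Opens).ι 1 := ⟨restrictFreeIso _ 1⟩
  have h2 : IsFreeAlong (Coh.structureModule Z) (⊤ : Z.Opens).ι 1 :=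
    h1.of_iso (coproductUniqueIso (fun _ : Fin 1 => Coh.structureModule Z))
  obtain ⟨b⟩ := nonempty_basis_stalk_of_isFreeAlong (Coh.structureModule Z) ⊤ 1 h2
    (genericPoint Z) trivial
  letI : Field (Z.presheaf.stalk (genericPoint Z)) :=
    inferInstanceAs (Field Z.functionField)
  rw [isSimpleModule_iff_finrank_eq_one, Module.finrank_eq_card_basis b]
  rfl

/-- a nonzero ideal of an integral scheme is the unit ideal at the generic point -/
theorem stalkLin_bijective_of_mono_structureModule (I : Z.Modules) (ι : I ⟶ Coh.structureModule Z)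
    [Mono ι] (hne : ¬ Subsingleton (I.presheaf.stalk (genericPoint Z))) :
    Function.Bijective (stalkLin ι (genericPoint Z)) := by
  haveI := isSimpleModule_stalk_structureModule (Z := Z)
  have hinj := StalkExact.stalkLin_injective ι (genericPoint Z)
  refine ⟨hinj, ?_⟩
  rcases eq_bot_or_eq_top (LinearMap.range (stalkLin ι (genericPoint Z))) with h | h
  · exfalso
    apply hne
    refine ⟨fun a b => hinj ?_⟩
    have ha : stalkLin ι (genericPoint Z) a ∈ LinearMap.range (stalkLin ι (genericPoint Z)) :=
      ⟨a, rfl⟩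
    have hb : stalkLin ι (genericPoint Z) b ∈ LinearMap.range (stalkLin ι (genericPoint Z)) :=
      ⟨b, rfl⟩
    rw [h, Submodule.mem_bot] at ha hb
    rw [ha, hb]
  · exact LinearMap.range_eq_top.1 h

variable [IsNoetherian Z] {K : ObjectProperty Z.Modules} (hK : HalfClass K)
  (hleft : ∀ S : ShortComplex Z.Modules, S.ShortExact → Coh.IsCoh S.X₁ → Coh.IsCoh S.X₂ →
    Coh.IsCoh S.X₃ → K S.X₂ → K S.X₃ → K S.X₁)
  (hroot : ∀ (N : Z.Modules) (d : ℕ), 1 ≤ d → Coh.IsCoh N → K (∐ fun _ : Fin d => N) → K N)
  (hsmall : ∀ E : Z.Modules, Coh.IsCoh E →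
    Subsingleton (E.presheaf.stalk (genericPoint Z)) → K E)

include hK hleft hroot hsmall in
/-- if the class contains a coherent module with nonzero generic stalk, it contains all the
quasi-coherent ideals -/
theorem ideals_of_generic (H : Z.Modules) (hH : Coh.IsCoh H) (hKH : K H)
    (hne : Nontrivial (H.presheaf.stalk (genericPoint Z)))
    (I : Z.Modules) (ι : I ⟶ Coh.structureModule Z) (hι : Mono ι) (hI : Coh.IsQCoh I) : K I := by
  have hO := isCoh_structureModule Z
  haveI : (Coh.structureModule Z).IsQuasicoherent := hO.1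
  -- the structure sheaf is in the class
  have hKO : K (Coh.structureModule Z) := by
    obtain ⟨r, I₀, ι₀, ψ, hI₀, hι₀, hbι₀, hψ, hbψ⟩ := exists_ideal_pow_mono H hH
    haveI := hψ
    haveI := hι₀
    have hr : 1 ≤ r := by
      by_contra hcon
      have hr0 : r = 0 := by omega
      subst hr0
      have hz : IsZero (∐ fun _ : Fin 0 => I₀) := by
        rw [IsZero.iff_id_eq_zero]
        apply Sigma.hom_ext
        intro j
        exact j.elim0
      have h1 : Subsingleton ((∐ fun _ : Fin 0 => I₀).presheaf.stalk (genericPoint Z)) := by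
        by_contra hc
        have : genericPoint Z ∈ CohB1.support (∐ fun _ : Fin 0 => I₀) := hc
        rw [support_eq_empty_of_isZero _ hz] at this
        exact this
      haveI : Subsingleton (H.presheaf.stalk (genericPoint Z)) := hbψ.2.subsingleton
      exact not_subsingleton _ ‹_›
    have hS := Groth.Agent.Helper1.SerreFin.isCoh_sigma_fin (fun _ : Fin r => I₀) (fun _ => hI₀)
    have hcψ : Coh.IsCoh (cokernel ψ) := Groth.Agent.Lead.PerfLib.isCoh_cokernel hS hH ψ
    have h1 : K (∐ fun _ : Fin r => I₀) := hleft (cokSC ψ) (cokSC_shortExact ψ) hS hH hcψ hKH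
      (hsmall _ hcψ (subsingleton_stalk_cokernel ψ _ hbψ.2))
    have h2 : K I₀ := hroot I₀ r hr hI₀ h1
    have hcι : Coh.IsCoh (cokernel ι₀) := Groth.Agent.Lead.PerfLib.isCoh_cokernel hI₀ hO ι₀
    exact hK.ext (cokSC ι₀) (cokSC_shortExact ι₀) hI₀ hO hcι h2
      (hsmall _ hcι (subsingleton_stalk_cokernel ι₀ _ hbι₀.2))
  haveI := hι
  haveI : I.IsQuasicoherent := hI
  have hcI : Coh.IsCoh I := ⟨hI, Groth.Agent.Helper4.QcohEpi.isFiniteType_of_mono ι hO.2⟩
  by_cases hs : Subsingleton (I.presheaf.stalk (genericPoint Z))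
  · exact hsmall I hcI hs
  · have hb := stalkLin_bijective_of_mono_structureModule I ι hs
    have hcι : Coh.IsCoh (cokernel ι) := Groth.Agent.Lead.PerfLib.isCoh_cokernel hcI hO ι
    exact hleft (cokSC ι) (cokSC_shortExact ι) hcI hO hcι hKO
      (hsmall _ hcι (subsingleton_stalk_cokernel ι _ hb.2))

end Groth.Agent.Helper1.Dev
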