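import Mathlib
import Groth.Agent.Helper1.Dev27

/-!
# Dévissage, part 28: classes closed under extensions and roots (Stacks 01YM)
-/

set_option autoImplicit false
set_option linter.style.haveILetI false

namespace Groth.Agent.Helper1.Dev

open CategoryTheory Limits AlgebraicGeometry TopologicalSpace
open Groth.Agent.Helper4.StalkDict Groth.Agent.Helper4 Groth.Agent.Helper4.FinLocFree
  Groth.Agent.Lead.Thick Groth.Agent.Lead.StalkNhd Groth.Agent.Lead.FlatLib Scheme.Modules
  Groth.Agent.Lead.PushStalk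

universe u

variable {X : Scheme.{u}} [IsNoetherian X]

/-- a coherent module vanishing at `x` is killed by an ideal which is the unit ideal near `x` -/
theorem exists_ideal_kills (C : X.Modules) (hC : Coh.IsCoh C) (x : X)
    (hx : Subsingleton (C.presheaf.stalk x)) :
    ∃ 𝔠 : X.IdealSheafData, x ∉ (𝔠.support : Set X) ∧ Kills 𝔠.subschemeι C 1 ∧
      ∀ H : X.Modules, Subsingleton (((Scheme.Modules.pushforward 𝔠.subschemeι).obj
        ((Scheme.Modules.pullback 𝔠.subschemeι).obj H)).presheaf.stalk x) := by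
  have hcl : IsClosed (CohB1.support C) := Groth.Agent.S0020.result _ _ hC.2
  set J := Scheme.IdealSheafData.vanishingIdeal ⟨_, hcl⟩ with hJ
  have hxJ : x ∉ (J.support : Set X) := by
    rw [support_vanishingIdeal]
    exact fun hcon => hcon hx
  obtain ⟨m, hm⟩ := exists_kills_of_support J C hC (by rw [support_vanishingIdeal]; rfl)
  refine ⟨J ^ (m + 1), ?_, kills_pow_one J _ (m + 1) (Kills.succ _ _ m hm), fun H =>
    subsingleton_stalk_push_pull_pow J m H x hxJ⟩
  rw [Scheme.IdealSheafData.support_pow_succ]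
  exact hxJ

end Groth.Agent.Helper1.Dev

namespace Groth.Agent.Helper1.Dev

open CategoryTheory Limits AlgebraicGeometry TopologicalSpace
open Groth.Agent.Helper4.StalkDict Groth.Agent.Helper4 Groth.Agent.Helper4.FinLocFree
  Groth.Agent.Lead.Thick Groth.Agent.Lead.StalkNhd Groth.Agent.Lead.FlatLib Scheme.Modules
  Groth.Agent.Lead.PushStalk

universe u

variable {X : Scheme.{u}} [IsNoetherian X]

/-- **Stacks 01YM, the key step**: on an irreducible closed subset `Y` with generic point `ξ`,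
if the class contains arbitrarily deep submodules `G' ⊆ J G` of a coherent module `G` whose stalk
at `ξ` is a nonzero vector space over the residue field, then it contains the direct images of all
the ideals of the reduced subscheme on `Y` -/
theorem ideals_of_deep {K : ObjectProperty X.Modules} (hK : HalfClass K) (Y : Closeds X)
    [IsIntegral (Scheme.IdealSheafData.vanishingIdeal Y).subscheme] (hB : Below K Y)
    (hroot : ∀ (F : X.Modules) (r : ℕ), Coh.IsCoh F → 1 ≤ r → K (∐ fun _ : Fin r => F) → K F)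
    (G : X.Modules) (hG : Coh.IsCoh G)
    (hneG : ¬ Subsingleton (G.presheaf.stalk ((Scheme.IdealSheafData.vanishingIdeal Y).subschemeι
      (genericPoint (Scheme.IdealSheafData.vanishingIdeal Y).subscheme))))
    (hann : ∀ a ∈ IsLocalRing.maximalIdeal (X.presheaf.stalk
      ((Scheme.IdealSheafData.vanishingIdeal Y).subschemeι
        (genericPoint (Scheme.IdealSheafData.vanishingIdeal Y).subscheme))),
      ∀ m : ↑(G.presheaf.stalk ((Scheme.IdealSheafData.vanishingIdeal Y).subschemeι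
        (genericPoint (Scheme.IdealSheafData.vanishingIdeal Y).subscheme))), a • m = 0)
    (hdeep : ∀ J : X.IdealSheafData, (Scheme.IdealSheafData.vanishingIdeal Y).subschemeι
        (genericPoint (Scheme.IdealSheafData.vanishingIdeal Y).subscheme) ∉ (J.support : Set X) →
      ∃ (G' : X.Modules) (ι' : G' ⟶ (Dual3.idealMul J).obj G), Mono ι' ∧ Coh.IsQCoh G' ∧
        Function.Bijective (stalkLin (ι' ≫ Dual3.idealMulι J G)
          ((Scheme.IdealSheafData.vanishingIdeal Y).subschemeι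
            (genericPoint (Scheme.IdealSheafData.vanishingIdeal Y).subscheme))) ∧ K G')
    (I : (Scheme.IdealSheafData.vanishingIdeal Y).subscheme.Modules)
    (ι : I ⟶ Coh.structureModule _) (hι : Mono ι) (hI : Coh.IsQCoh I) :
    K ((Scheme.Modules.pushforward (Scheme.IdealSheafData.vanishingIdeal Y).subschemeι).obj I) := by
  set ιY := (Scheme.IdealSheafData.vanishingIdeal Y).subschemeι with hιY
  set ξZ := genericPoint (Scheme.IdealSheafData.vanishingIdeal Y).subscheme with hξZ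
  haveI := isNoetherian_of_isClosedImmersion ιY
  haveI : G.IsQuasicoherent := hG.1
  have hK'' := pushClass_halfClass ιY hK
  have hsmall := fun E hE hs => small_of_below (K := K) Y hB ξZ E hE hs
  have hO := isCoh_structureModule (Scheme.IdealSheafData.vanishingIdeal Y).subscheme
  haveI : (Coh.structureModule (Scheme.IdealSheafData.vanishingIdeal Y).subscheme).IsQuasicoherent :=
    hO.1
  haveI := hι
  haveI : I.IsQuasicoherent := hI
  have hcI : Coh.IsCoh I := ⟨hI, Groth.Agent.Helper4.QcohEpi.isFiniteType_of_mono ι hO.2⟩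
  by_cases hs : Subsingleton (I.presheaf.stalk ξZ)
  · exact hsmall I hcI hs
  have hbι := stalkLin_bijective_of_mono_structureModule I ι hs
  -- step 1
  obtain ⟨r, I', ι₀, φ, hι₀, hI', hbι₀, hφ, hbφ⟩ := exists_push_ideal_pow_mono ιY G hG hann
  haveI := hι₀
  haveI := hφ
  haveI : I'.IsQuasicoherent := hI'.1
  have hr : 1 ≤ r := by
    by_contra hcon
    have hr0 : r = 0 := by omega
    subst hr0
    have hz : IsZero (∐ fun _ : Fin 0 => I') := by
      rw [IsZero.iff_id_eq_zero]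
      apply Sigma.hom_ext
      intro j
      exact j.elim0
    have hz' : IsZero ((Scheme.Modules.pushforward ιY).obj (∐ fun _ : Fin 0 => I')) :=
      Functor.map_isZero _ hz
    have h1 : Subsingleton (((Scheme.Modules.pushforward ιY).obj
        (∐ fun _ : Fin 0 => I')).presheaf.stalk (ιY ξZ)) := by
      by_contra hc
      have : ιY ξZ ∈ CohB1.support ((Scheme.Modules.pushforward ιY).obj
        (∐ fun _ : Fin 0 => I')) := hc
      rw [support_eq_empty_of_isZero _ hz'] at this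
      exact this
    exact hneG hbφ.2.subsingleton
  -- step 2
  have hC₀ : Coh.IsCoh (cokernel ι) := Groth.Agent.Lead.PerfLib.isCoh_cokernel hcI hO ι
  haveI : (cokernel ι).IsQuasicoherent := hC₀.1
  obtain ⟨𝔠', -, hk', hst'⟩ := exists_ideal_kills (cokernel ι) hC₀ ξZ
    (subsingleton_stalk_cokernel ι _ hbι.2)
  have hz₁ : kernel.ι (η 𝔠'.subschemeι I') ≫ (ι₀ ≫ cokernel.π ι) = 0 :=
    kernel_ι_η_comp_eq_zero _ _ hk'
  have hkerι := Abelian.monoIsKernelOfCokernel (f := ι)
    (CokernelCofork.ofπ (cokernel.π ι) (cokernel.condition ι)) (cokernelIsCokernel ι)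
  let lam : kernel (η 𝔠'.subschemeι I') ⟶ I :=
    hkerι.lift (KernelFork.ofι (kernel.ι (η 𝔠'.subschemeι I') ≫ ι₀) (by
      rw [Category.assoc]; exact hz₁))
  have hlam : lam ≫ ι = kernel.ι (η 𝔠'.subschemeι I') ≫ ι₀ :=
    hkerι.fac (KernelFork.ofι (kernel.ι (η 𝔠'.subschemeι I') ≫ ι₀) (by
      rw [Category.assoc]; exact hz₁)) WalkingParallelPair.zero
  have hmlam : Mono lam := by
    haveI : Mono (lam ≫ ι) := by rw [hlam]; exact mono_comp _ _
    exact mono_of_mono lam ι
  have hQ' : Coh.IsCoh ((Scheme.Modules.pushforward 𝔠'.subschemeι).obj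
      ((Scheme.Modules.pullback 𝔠'.subschemeι).obj I')) := isCoh_push _ _ (isCoh_pullback _ _ hI')
  have hI₁ : Coh.IsCoh (kernel (η 𝔠'.subschemeι I')) :=
    Groth.Agent.Lead.PerfLib.isCoh_kernel hI' hQ' _
  have hblam : Function.Bijective (stalkLin lam ξZ) := by
    refine bijective_of_comp_bijective lam ι ξZ hbι ?_
    rw [hlam]
    exact bijective_comp _ _ _ (stalkLin_bijective_kernel_ι _ _ (hst' I')) hbι₀
  let e : (∐ fun _ : Fin r => (Dual3.idealMul 𝔠').obj I') ≅
      (Dual3.idealMul 𝔠').obj (∐ fun _ : Fin r => I') :=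
    (PreservesCoproduct.iso (Dual3.idealMul 𝔠') (fun _ : Fin r => I')).symm
  let ψ₁ : (∐ fun _ : Fin r => kernel (η 𝔠'.subschemeι I')) ⟶ ∐ fun _ : Fin r => I' :=
    e.hom ≫ kernel.ι (η 𝔠'.subschemeι (∐ fun _ : Fin r => I'))
  have hmψ₁ : Mono ψ₁ := mono_comp' inferInstance equalizer.ι_mono
  have hbψ₁ : Function.Bijective (stalkLin ψ₁ ξZ) :=
    bijective_comp _ _ _ (stalkLin_bijective_of_isIso e.hom _)
      (stalkLin_bijective_kernel_ι _ _ (hst' _))
  let φ₁ := (Scheme.Modules.pushforward ιY).map ψ₁ ≫ φ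
  have hmφ₁ : Mono φ₁ := by
    haveI := hmψ₁
    haveI : Mono ((Scheme.Modules.pushforward ιY).map ψ₁) := Functor.map_mono _ ψ₁
    exact mono_comp _ _
  have hbφ₁ : Function.Bijective (stalkLin φ₁ (ιY ξZ)) :=
    bijective_comp _ _ _ (stalkLin_push_bijective ιY ψ₁ _ hbψ₁) hbφ
  have hS₁ : Coh.IsCoh ((Scheme.Modules.pushforward ιY).obj
      (∐ fun _ : Fin r => kernel (η 𝔠'.subschemeι I'))) :=
    isCoh_push _ _ (Groth.Agent.Helper1.SerreFin.isCoh_sigma_fin _ (fun _ => hI₁))
  -- step 3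
  haveI := hmφ₁
  have hC : Coh.IsCoh (cokernel φ₁) := Groth.Agent.Lead.PerfLib.isCoh_cokernel hS₁ hG φ₁
  haveI : (cokernel φ₁).IsQuasicoherent := hC.1
  obtain ⟨𝔠, h𝔠, hk, hst⟩ := exists_ideal_kills (cokernel φ₁) hC (ιY ξZ)
    (subsingleton_stalk_cokernel φ₁ _ hbφ₁.2)
  have hz₂ : kernel.ι (η 𝔠.subschemeι G) ≫ cokernel.π φ₁ = 0 := kernel_ι_η_comp_eq_zero _ _ hk
  have hkerφ := Abelian.monoIsKernelOfCokernel (f := φ₁)
    (CokernelCofork.ofπ (cokernel.π φ₁) (cokernel.condition φ₁)) (cokernelIsCokernel φ₁)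
  let θ : kernel (η 𝔠.subschemeι G) ⟶ _ := hkerφ.lift (KernelFork.ofι _ hz₂)
  have hθ : θ ≫ φ₁ = kernel.ι (η 𝔠.subschemeι G) :=
    hkerφ.fac (KernelFork.ofι _ hz₂) WalkingParallelPair.zero
  have hmθ : Mono θ := mono_of_mono_fac hθ
  have hbκ : Function.Bijective (stalkLin (kernel.ι (η 𝔠.subschemeι G)) (ιY ξZ)) :=
    stalkLin_bijective_kernel_ι _ _ (hst G)
  have hbθ : Function.Bijective (stalkLin θ (ιY ξZ)) :=
    bijective_of_comp_bijective θ φ₁ _ hbφ₁ (by rw [hθ]; exact hbκ)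
  -- step 4
  obtain ⟨G', ι', hι', hqG', hbG', hKG'⟩ := hdeep 𝔠 h𝔠
  let ι'' : G' ⟶ kernel (η 𝔠.subschemeι G) := ι'
  have hι'' : Mono ι'' := hι'
  haveI := hι''
  have hQ : Coh.IsCoh ((Scheme.Modules.pushforward 𝔠.subschemeι).obj
      ((Scheme.Modules.pullback 𝔠.subschemeι).obj G)) := isCoh_push _ _ (isCoh_pullback _ _ hG)
  have hJG : Coh.IsCoh (kernel (η 𝔠.subschemeι G)) :=
    Groth.Agent.Lead.PerfLib.isCoh_kernel hG hQ _
  haveI : G'.IsQuasicoherent := hqG'
  haveI : (kernel (η 𝔠.subschemeι G)).IsQuasicoherent := hJG.1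
  have hcG' : Coh.IsCoh G' := ⟨hqG', Groth.Agent.Helper4.QcohEpi.isFiniteType_of_mono ι'' hJG.2⟩
  have hbι' : Function.Bijective (stalkLin ι'' (ιY ξZ)) :=
    bijective_of_comp_bijective _ (kernel.ι (η 𝔠.subschemeι G)) _ hbκ hbG'
  let ρ : G' ⟶ (Scheme.Modules.pushforward ιY).obj
      (∐ fun _ : Fin r => kernel (η 𝔠'.subschemeι I')) := ι'' ≫ θ
  have hmρ : Mono ρ := mono_comp' hι'' hmθ
  have hbρ : Function.Bijective (stalkLin ρ (ιY ξZ)) := bijective_comp _ _ _ hbι' hbθ
  haveI := hmρ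
  have hCρ : Coh.IsCoh (cokernel ρ) := Groth.Agent.Lead.PerfLib.isCoh_cokernel hcG' hS₁ ρ
  have hKCρ : K (cokernel ρ) := by
    have hcl := Groth.Agent.S0020.result _ _ hCρ.2
    refine hB ⟨_, hcl⟩ ?_ _ hCρ le_rfl
    have hsub : CohB1.support (cokernel ρ) ⊆ (Y : Set X) := by
      refine (support_cokernel_subset ρ).trans ?_
      rw [← range_ι_vanishingIdeal Y]
      exact support_push_subset _ _
    refine lt_of_le_of_ne hsub ?_
    intro heq
    have hmem : ιY ξZ ∈ (Y : Set X) := by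
      rw [← range_ι_vanishingIdeal Y]
      exact ⟨ξZ, rfl⟩
    have : ιY ξZ ∈ ((⟨_, hcl⟩ : Closeds X) : Set X) := by rw [heq]; exact hmem
    exact this (subsingleton_stalk_cokernel ρ _ hbρ.2)
  have hK₁ : K ((Scheme.Modules.pushforward ιY).obj
      (∐ fun _ : Fin r => kernel (η 𝔠'.subschemeι I'))) :=
    hK.ext (cokSC ρ) (cokSC_shortExact ρ) hcG' hS₁ hCρ hKG' hKCρ
  -- step 5
  have hK₂ : K ((Scheme.Modules.pushforward ιY).obj (kernel (η 𝔠'.subschemeι I'))) := by
    refine hroot _ r (isCoh_push _ _ hI₁) hr ?_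
    exact hK.iso (PreservesCoproduct.iso (Scheme.Modules.pushforward ιY)
      (fun _ : Fin r => kernel (η 𝔠'.subschemeι I'))) hK₁
  -- step 6
  haveI := hmlam
  have hCl : Coh.IsCoh (cokernel lam) := Groth.Agent.Lead.PerfLib.isCoh_cokernel hI₁ hcI lam
  exact hK''.ext (cokSC lam) (cokSC_shortExact lam) hI₁ hcI hCl hK₂
    (hsmall _ hCl (subsingleton_stalk_cokernel lam _ hblam.2))

end Groth.Agent.Helper1.Dev
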