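import Groth.Agent.Helper4.QcohLimits
import Groth.Agent.Helper4.QcohGlue
import Groth.Agent.Helper4.SubSec
import Groth.Agent.Helper4.FinLocFree6

/-!
# The ideal sheaf of a morphism, as a quasi-coherent submodule of the structure sheaf
-/

set_option autoImplicit false

namespace Groth.Agent.Helper1.IdealMod

open CategoryTheory Limits Opposite TopologicalSpace AlgebraicGeometry

universe u

variable {X Z : Scheme.{u}} (ι : Z ⟶ X)

instance isQuasicoherent_structureModule (Y : Scheme.{u}) :
    (Coh.structureModule Y).IsQuasicoherent :=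
  Groth.Agent.Helper4.FinLocFree4.isQuasicoherent_of_isFinLocFree _
    (Groth.Agent.Helper4.FinLocFree6.isFinLocFree_unit (X := Y))

/-- the section `1` of `ι_* O_Z` -/
noncomputable def oneSection :
    ((Scheme.Modules.pushforward ι).obj (Coh.structureModule Z)).val.sections :=
  PresheafOfModules.sectionsMk
    (M := ((Scheme.Modules.pushforward ι).obj (Coh.structureModule Z)).val)
    (fun V => (show ((Scheme.Modules.pushforward ι).obj (Coh.structureModule Z)).val.obj V from
      (1 : Γ(Z, ι ⁻¹ᵁ V.unop))))
    (by
      intro V W f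
      exact map_one (Z.presheaf.map ((Opens.map ι.base).map f.unop).op).hom)

/-- the canonical morphism `O_X ⟶ ι_* O_Z` -/
noncomputable def unitMap :
    Coh.structureModule X ⟶ (Scheme.Modules.pushforward ι).obj (Coh.structureModule Z) :=
  (SheafOfModules.unitHomEquiv _).symm (oneSection ι)

lemma unitMap_app (V : X.Opens) (a : Γ(X, V)) :
    (unitMap ι).app V (show Γ(Coh.structureModule X, V) from a) =
      (show Γ((Scheme.Modules.pushforward ι).obj (Coh.structureModule Z), V) from ι.app V a) := by
  show a • (show ((Scheme.Modules.pushforward ι).obj (Coh.structureModule Z)).val.obj (op V) from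
      (1 : Γ(Z, ι ⁻¹ᵁ V))) = _
  show ι.app V a * 1 = ι.app V a
  rw [mul_one]

/-- the ideal sheaf of `ι`, as an `O_X`-module -/
noncomputable def ideal : X.Modules := kernel (unitMap ι)

/-- the inclusion of the ideal sheaf into the structure sheaf -/
noncomputable def idealι : ideal ι ⟶ Coh.structureModule X := kernel.ι (unitMap ι)

instance : Mono (idealι ι) := inferInstanceAs (Mono (kernel.ι _))

instance isQuasicoherent_ideal [QuasiCompact ι] [QuasiSeparated ι] :
    (ideal ι).IsQuasicoherent := by
  haveI : ((Scheme.Modules.pushforward ι).obj (Coh.structureModule Z)).IsQuasicoherent :=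
    Groth.Agent.Helper4.QcohGlue.isQuasicoherent_pushforward ι _
  exact Groth.Agent.Helper4.QcohLimits.isQuasicoherent_kernel (unitMap ι)

/-- sections of the structure module are functions -/
def fn {V : X.Opens} (s : Γ(Coh.structureModule X, V)) : Γ(X, V) := s

/-- functions are sections of the structure module -/
def ofFn {V : X.Opens} (a : Γ(X, V)) : Γ(Coh.structureModule X, V) := a

@[simp] lemma fn_ofFn {V : X.Opens} (a : Γ(X, V)) : fn (ofFn a) = a := rfl

lemma fn_sub {V : X.Opens} (s t : Γ(Coh.structureModule X, V)) : fn (s - t) = fn s - fn t := rfl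

lemma fn_add {V : X.Opens} (s t : Γ(Coh.structureModule X, V)) : fn (s + t) = fn s + fn t := rfl

lemma fn_zero {V : X.Opens} : fn (0 : Γ(Coh.structureModule X, V)) = 0 := rfl

lemma fn_smul {V : X.Opens} (r : Γ(X, V)) (s : Γ(Coh.structureModule X, V)) :
    fn (r • s) = r * fn s := rfl

lemma fn_res {V W : X.Opens} (i : W ⟶ V) (s : Γ(Coh.structureModule X, V)) :
    fn ((Coh.structureModule X).presheaf.map i.op s) = X.presheaf.map i.op (fn s) := rfl

lemma fn_injective {V : X.Opens} : Function.Injective (fn (X := X) (V := V)) := fun _ _ h => h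

/-- sections of the ideal sheaf are functions which vanish on `Z` -/
lemma app_idealι (V : X.Opens) (s : Γ(ideal ι, V)) :
    ι.app V (fn ((idealι ι).app V s)) = 0 := by
  have h := (Groth.Agent.Helper4.SubSec.exists_kernel_section_iff (unitMap ι) V
    ((idealι ι).app V s)).1 ⟨s, rfl⟩
  have h2 := unitMap_app ι V (fn ((idealι ι).app V s))
  exact h2.symm.trans h

lemma exists_of_app_eq_zero (V : X.Opens) (a : Γ(X, V)) (h : ι.app V a = 0) :
    ∃ s : Γ(ideal ι, V), fn ((idealι ι).app V s) = a := by
  apply (Groth.Agent.Helper4.SubSec.exists_kernel_section_iff (unitMap ι) V (ofFn a)).2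
  have h2 := unitMap_app ι V a
  refine h2.trans ?_
  rw [h]
  rfl

end Groth.Agent.Helper1.IdealMod
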