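import Groth.Agent.Helper1.ProjH03

/-!
# `H⁰(P^r_R, O(d))`: the final statements
-/

set_option autoImplicit false
set_option linter.style.haveILetI false

namespace Groth.Agent.Helper1.ProjTop

open CategoryTheory AlgebraicGeometry TopologicalSpace Opposite MvPolynomial Limits
open Groth.Agent.Helper1.GrT Groth.Agent.Helper1.MVTop Groth.Agent.Helper1.PolyTop
open Groth.Agent.Helper1.KoszulPoly Groth.Agent.Helper1.ProjSpR

universe u

variable (r : ℕ) (R : Type u) [CommRing R]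

attribute [local instance] overR

set_option synthInstance.maxHeartbeats 400000 in
set_option maxHeartbeats 1000000 in
theorem nonempty_H0_tilde (dd : ℕ) :
    Nonempty (Coh.HH (Proj (𝒜 r R)) (GrTilde.tilde (𝒜 r R) (𝒜 r R) (dd : ℤ)) 0 ≃ₗ[R]
      ↥(𝒜 r R dd)) := by
  refine nonempty_linearEquiv_of_ker_eq (R := R)
    (S := GrTilde.sect (𝒜 r R) (𝒜 r R) (dd : ℤ) (op ⊤))
    ((Sheaf.H.equiv₀ (FF r R (dd : ℤ)) isTerminalTop).symm.toAddMonoidHom) (G0 r R dd)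
    (Sheaf.H.equiv₀ (FF r R (dd : ℤ)) isTerminalTop).symm.surjective (G0_surjective r R dd) ?_
    (fun ρ s => (Coh.smulAb (GrTilde.tilde (𝒜 r R) (𝒜 r R) (dd : ℤ))
      (Coh.toGlobal (toSpecR (𝒜 r R)) ρ)).hom.app (op ⊤) s) ?_ (G0_smul r R dd)
  · intro s
    exact (AddEquiv.map_eq_zero_iff (Sheaf.H.equiv₀ (FF r R (dd : ℤ)) isTerminalTop).symm).trans
      (map_eq_zero_iff _ (G0_injective r R dd)).symm
  · intro ρ s
    exact (Sheaf.H.equiv₀_symm_naturality isTerminalTop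
      (Coh.smulAb (GrTilde.tilde (𝒜 r R) (𝒜 r R) (dd : ℤ))
      (Coh.toGlobal (toSpecR (𝒜 r R)) ρ)) s).symm

theorem subsingleton_H0_tilde (d : ℤ) (hr : 0 < r) (hd : d < 0) :
    Subsingleton (Coh.HH (Proj (𝒜 r R)) (GrTilde.tilde (𝒜 r R) (𝒜 r R) d) 0) := by
  have h1 : Subsingleton (GrTilde.sect (𝒜 r R) (𝒜 r R) d (op ⊤)) :=
    subsingleton_of_forall_eq 0 (eq_zero_of_neg r R d hr hd)
  exact @Equiv.subsingleton _ _ (Sheaf.H.equiv₀ (FF r R d) isTerminalTop).toEquiv h1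

/-- **global sections of `O(d)` on `P^r`, `d ≥ 0`** -/
theorem nonempty_H0 (dd : ℕ) :
    Nonempty (Coh.HH (CohB1.ProjSpace r R) (Twist.twistProjSpace r R (dd : ℤ)) 0 ≃ₗ[R]
      ↥(MvPolynomial.homogeneousSubmodule (Fin (r + 1)) R dd)) := by
  obtain ⟨e⟩ := nonempty_H0_tilde r R dd
  exact ⟨(HHlinEquiv R (X := Proj (𝒜 r R))
    (Groth.Agent.Helper1.TwistIso.twistIsoTilde (𝒜 r R) (dd : ℤ)) 0).trans e⟩

/-- no global sections of `O(d)` on `P^r`, `d < 0`, `r > 0` -/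
theorem subsingleton_H0 (d : ℤ) (hr : 0 < r) (hd : d < 0) :
    Subsingleton (Coh.HH (CohB1.ProjSpace r R) (Twist.twistProjSpace r R d) 0) := by
  have := subsingleton_H0_tilde r R d hr hd
  exact (HHlinEquiv R (X := Proj (𝒜 r R))
    (Groth.Agent.Helper1.TwistIso.twistIsoTilde (𝒜 r R) d) 0).toEquiv.subsingleton

end Groth.Agent.Helper1.ProjTop
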