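import Mathlib
import Groth.Agent.Helper1.TorsionFreeEmb

/-!
Associated primes (in Mathlib's sense: primes which are the radical of the annihilator of an
element) of a tensor product `N ⊗[R] M` with `N` flat over the Noetherian ring `R`.
-/

namespace Groth.Agent.Helper1.AssTensor

open TensorProduct

section RadAnn

variable {S : Type*} [CommRing S] {L L' : Type*} [AddCommGroup L] [Module S L]
  [AddCommGroup L'] [Module S L']

/-- `q` is the radical of the annihilator of `x`. -/
def RadAnn (q : Ideal S) (x : L) : Prop :=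
  ∀ s : S, s ∈ q ↔ ∃ k : ℕ, s ^ k • x = 0

lemma isAssociatedPrime_iff_radAnn {q : Ideal S} :
    IsAssociatedPrime q L ↔ q.IsPrime ∧ ∃ x : L, RadAnn q x := by
  unfold IsAssociatedPrime
  rw [Submodule.isAssociatedPrime_def]
  refine and_congr Iff.rfl (exists_congr fun x => ?_)
  rw [SetLike.ext_iff]
  refine forall_congr' fun s => ?_
  simp only [Ideal.mem_radical_iff, Submodule.mem_colon_singleton, Submodule.mem_bot]

lemma RadAnn.ann_le {q : Ideal S} {x : L} (h : RadAnn q x) {s : S} (hs : s • x = 0) : s ∈ q :=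
  (h s).mpr ⟨1, by simpa using hs⟩

lemma RadAnn.of_injective (φ : L →ₗ[S] L') (hφ : Function.Injective φ) {q : Ideal S} {x : L} :
    RadAnn q (φ x) ↔ RadAnn q x := by
  refine forall_congr' fun s => iff_congr Iff.rfl (exists_congr fun k => ?_)
  rw [← map_smul, map_eq_zero_iff φ hφ]

lemma RadAnn.sandwich {q : Ideal S} [hq : q.IsPrime] {x : L} {y : L'} (hx : RadAnn q x)
    (h1 : ∀ s : S, s • x = 0 → s • y = 0) (h2 : ∀ s : S, s • y = 0 → s ∈ q) : RadAnn q y := by
  intro s
  constructor
  · intro hs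
    obtain ⟨k, hk⟩ := (hx s).mp hs
    exact ⟨k, h1 _ hk⟩
  · rintro ⟨k, hk⟩
    exact hq.mem_of_pow_mem k (h2 _ hk)

lemma RadAnn.exists_coord {q : Ideal S} [hq : q.IsPrime] {n : ℕ} {L : Fin n → Type*}
    [∀ i, AddCommGroup (L i)] [∀ i, Module S (L i)] (w : ∀ i, L i) (h : RadAnn q w) :
    ∃ i, RadAnn q (w i) := by
  classical
  by_contra hcon
  push Not at hcon
  have hc : ∀ i, ∃ c : S, c ∉ q ∧ c • w i = 0 := by
    intro i
    have := hcon i
    unfold RadAnn at this
    push Not at this
    obtain ⟨s, hs⟩ := this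
    rcases hs with ⟨hsq, hk⟩ | ⟨hsq, k, hk⟩
    · exfalso
      obtain ⟨k, hk'⟩ := (h s).mp hsq
      exact hk k (by simpa using congrFun hk' i)
    · exact ⟨s ^ k, fun hmem => hsq (hq.mem_of_pow_mem k hmem), hk⟩
  choose c hcq hcw using hc
  have hprod : (∏ i, c i) ∉ q := by
    rw [Ideal.IsPrime.prod_mem_iff]
    push Not
    intro i _
    exact hcq i
  apply hprod
  apply h.ann_le
  funext i
  rw [Pi.smul_apply, Pi.zero_apply, ← Finset.prod_erase_mul _ _ (Finset.mem_univ i), mul_smul,
    hcw i, smul_zero]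

end RadAnn

section Flat

variable {R : Type*} [CommRing R] {N M : Type*} [AddCommGroup N] [Module R N]
  [AddCommGroup M] [Module R M]

/-- For flat `N` and a finitely generated ideal `I`, the `I`-torsion of `N ⊗ M` comes from
`N ⊗ M[I]`. -/
lemma mem_range_lTensor_torsionBySet [Module.Flat R N] (I : Ideal R) (hI : I.FG)
    (z : N ⊗[R] M) (hz : ∀ a ∈ I, a • z = 0) :
    z ∈ LinearMap.range (LinearMap.lTensor N (Submodule.torsionBySet R M (I : Set R)).subtype) := by
  classical
  obtain ⟨t, rfl⟩ := hI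
  let ψ : M →ₗ[R] (t → M) := LinearMap.pi fun a => LinearMap.lsmul R M a.1
  have hker : LinearMap.ker ψ = Submodule.torsionBySet R M ((Ideal.span (t : Set R) : Ideal R) : Set R) := by
    ext m
    simp only [LinearMap.mem_ker, Submodule.mem_torsionBySet_iff]
    constructor
    · intro h a
      have ha : (a : R) ∈ Submodule.span R (t : Set R) := a.2
      refine Submodule.span_induction ?_ ?_ ?_ ?_ ha
      · intro x hx
        have := congrFun h ⟨x, hx⟩
        simpa [ψ] using this
      · simp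
      · intro x y _ _ hx hy; rw [add_smul, hx, hy, add_zero]
      · intro c x _ hx; rw [smul_eq_mul, mul_smul, hx, smul_zero]
    · intro h
      funext a
      have := h ⟨a.1, Submodule.subset_span a.2⟩
      simpa [ψ] using this
  have hex : Function.Exact (Submodule.torsionBySet R M ((Ideal.span (t : Set R) : Ideal R) : Set R)).subtype ψ := by
    rw [LinearMap.exact_iff, hker, Submodule.range_subtype]
  have hex' := Module.Flat.lTensor_exact N hex
  rw [LinearMap.mem_range]
  refine (hex' z).mp ?_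
  apply (TensorProduct.piRight R R N (fun _ : t => M)).injective
  rw [map_zero]
  funext a
  have key : ∀ z : N ⊗[R] M,
      (TensorProduct.piRight R R N (fun _ : t => M)) ((LinearMap.lTensor N ψ) z) a = a.1 • z := by
    intro z
    induction z using TensorProduct.induction_on with
    | zero => simp
    | tmul n m => simp [ψ, TensorProduct.tmul_smul]
    | add x y hx hy =>
      simp only [map_add, Pi.add_apply, smul_add] at hx hy ⊢
      rw [hx, hy]
  rw [key, Pi.zero_apply]
  exact hz _ (Submodule.subset_span a.2)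

end Flat


section Quot

variable {R S : Type*} [CommRing R] [CommRing S] [Algebra R S] {N : Type*} [AddCommGroup N]
  [Module S N] [Module R N] [IsScalarTower R S N] (p : Ideal R)

/-- the two descriptions of `p N` agree -/
lemma mem_map_smul_top_iff (x : N) :
    x ∈ (p.map (algebraMap R S) • ⊤ : Submodule S N) ↔ x ∈ (p • ⊤ : Submodule R N) := by
  have hcar1 : ∀ b ∈ p.map (algebraMap R S), ∀ m : N, b • m ∈ (p • ⊤ : Submodule R N) := by
    intro b hb
    refine Submodule.span_induction (p := fun b _ => ∀ m : N, b • m ∈ (p • ⊤ : Submodule R N))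
      ?_ ?_ ?_ ?_ hb
    · rintro _ ⟨a, ha, rfl⟩ m
      rw [algebraMap_smul]
      exact Submodule.smul_mem_smul ha trivial
    · intro m; simp
    · intro x y _ _ hx hy m
      rw [add_smul]; exact add_mem (hx m) (hy m)
    · intro c x _ hx m
      rw [smul_eq_mul, mul_comm, mul_smul]
      exact hx _
  constructor
  · intro hx
    refine Submodule.smul_induction_on hx ?_ (fun _ _ => add_mem)
    intro b hb m _
    exact hcar1 b hb m
  · intro hx
    refine Submodule.smul_induction_on hx ?_ (fun _ _ => add_mem)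
    intro a ha m _
    rw [← algebraMap_smul S a m]
    exact Submodule.smul_mem_smul (Ideal.mem_map_of_mem _ ha) trivial

/-- every element of `N ⊗ (R/p)` is of the form `x ⊗ 1` -/
lemma exists_tmul_one (w : N ⊗[R] (R ⧸ p)) : ∃ x : N, w = x ⊗ₜ[R] (1 : R ⧸ p) := by
  induction w using TensorProduct.induction_on with
  | zero => exact ⟨0, by simp⟩
  | tmul x r =>
    obtain ⟨r, rfl⟩ := Ideal.Quotient.mk_surjective r
    refine ⟨r • x, ?_⟩
    rw [TensorProduct.smul_tmul]
    congr 1
    rw [Algebra.smul_def, mul_one]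
    rfl
  | add a b ha hb =>
    obtain ⟨x, rfl⟩ := ha
    obtain ⟨y, rfl⟩ := hb
    exact ⟨x + y, by rw [TensorProduct.add_tmul]⟩

lemma tmul_one_eq_zero_iff (x : N) :
    x ⊗ₜ[R] (1 : R ⧸ p) = 0 ↔ x ∈ (p • ⊤ : Submodule R N) := by
  rw [← (TensorProduct.tensorQuotEquivQuotSMul N p).map_eq_zero_iff]
  have : (1 : R ⧸ p) = Ideal.Quotient.mk p 1 := rfl
  rw [this, TensorProduct.tensorQuotEquivQuotSMul_tmul_mk, one_smul,
    Submodule.Quotient.mk_eq_zero]

lemma smul_tmul_one_eq_zero_iff (s : S) (x : N) :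
    s • (x ⊗ₜ[R] (1 : R ⧸ p)) = 0 ↔
      s • (Submodule.Quotient.mk x : N ⧸ (p.map (algebraMap R S) • ⊤ : Submodule S N)) = 0 := by
  rw [TensorProduct.smul_tmul', tmul_one_eq_zero_iff, ← Submodule.Quotient.mk_smul,
    Submodule.Quotient.mk_eq_zero, mem_map_smul_top_iff]

lemma radAnn_tmul_one_iff (q : Ideal S) (x : N) :
    RadAnn q (x ⊗ₜ[R] (1 : R ⧸ p)) ↔
      RadAnn q (Submodule.Quotient.mk x : N ⧸ (p.map (algebraMap R S) • ⊤ : Submodule S N)) := by
  refine forall_congr' fun s => iff_congr Iff.rfl (exists_congr fun k => ?_)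
  exact smul_tmul_one_eq_zero_iff p (s ^ k) x

end Quot


section Main

variable {R S : Type*} [CommRing R] [CommRing S] [Algebra R S] {N : Type*} [AddCommGroup N]
  [Module S N] [Module R N] [IsScalarTower R S N] {M : Type*} [AddCommGroup M] [Module R M]

/-- `N ⊗ -` applied to an injective map, as an injective `S`-linear map. -/
lemma lTensor_injective [Module.Flat R N] {M₁ M₂ : Type*} [AddCommGroup M₁] [Module R M₁]
    [AddCommGroup M₂] [Module R M₂] (f : M₁ →ₗ[R] M₂) (hf : Function.Injective f) :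
    Function.Injective (TensorProduct.AlgebraTensorModule.lTensor S N f) := by
  rw [TensorProduct.AlgebraTensorModule.coe_lTensor]
  exact Module.Flat.lTensor_preserves_injective_linearMap f hf

theorem mem_ass_tensor_of_mem [IsNoetherianRing R] [Module.Flat R N] {p : Ideal R}
    (hp : p ∈ associatedPrimes R M) {q : Ideal S}
    (hq : q ∈ associatedPrimes S (N ⧸ (p.map (algebraMap R S) • ⊤ : Submodule S N))) :
    q ∈ associatedPrimes S (N ⊗[R] M) := by
  obtain ⟨hpp, m, hm⟩ := isAssociatedPrime_iff.mp hp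
  obtain ⟨hqp, xbar, hx⟩ := isAssociatedPrime_iff_radAnn.mp hq
  obtain ⟨x, rfl⟩ := Submodule.Quotient.mk_surjective _ xbar
  have hpm : ∀ r : R, r ∈ p ↔ r • m = 0 := by
    intro r
    rw [hm, Submodule.mem_colon_singleton, Submodule.mem_bot]
  let ι : R ⧸ p →ₗ[R] M := Submodule.liftQ p (LinearMap.toSpanSingleton R M m) (by
    intro r hr
    rw [LinearMap.mem_ker, LinearMap.toSpanSingleton_apply]
    exact (hpm r).mp hr)
  have hι : Function.Injective ι := by
    rw [injective_iff_map_eq_zero]
    intro y hy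
    obtain ⟨r, rfl⟩ := Submodule.Quotient.mk_surjective _ y
    have : r • m = 0 := hy
    exact (Submodule.Quotient.mk_eq_zero _).mpr ((hpm r).mpr this)
  have h1 : RadAnn q (x ⊗ₜ[R] (1 : R ⧸ p)) := (radAnn_tmul_one_iff p q x).mpr hx
  have h2 := (RadAnn.of_injective (TensorProduct.AlgebraTensorModule.lTensor S N ι)
    (lTensor_injective ι hι) (q := q) (x := x ⊗ₜ[R] (1 : R ⧸ p))).mpr h1
  exact isAssociatedPrime_iff_radAnn.mpr ⟨hqp, _, h2⟩


/-- the submodule of elements killed by some element outside `p` -/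
def primeTorsion (p : Ideal R) [hp : p.IsPrime] (M₂ : Type*) [AddCommGroup M₂] [Module R M₂] :
    Submodule R M₂ where
  carrier := {m | ∃ r : R, r ∉ p ∧ r • m = 0}
  zero_mem' := ⟨1, fun h => hp.ne_top (p.eq_top_of_isUnit_mem h isUnit_one), smul_zero _⟩
  add_mem' := by
    rintro a b ⟨r, hr, hra⟩ ⟨r', hr', hrb⟩
    refine ⟨r * r', fun h => (hp.mem_or_mem h).elim hr hr', ?_⟩
    have h1 : (r * r') • a = 0 := by rw [mul_comm, mul_smul, hra, smul_zero]
    have h2 : (r * r') • b = 0 := by rw [mul_smul, hrb, smul_zero]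
    rw [smul_add, h1, h2, add_zero]
  smul_mem' := by
    rintro c a ⟨r, hr, hra⟩
    exact ⟨r, hr, by rw [smul_comm, hra, smul_zero]⟩

lemma exists_notMem_smul_primeTorsion [IsNoetherianRing R] (p : Ideal R) [hp : p.IsPrime]
    (M₂ : Type*) [AddCommGroup M₂] [Module R M₂] [Module.Finite R M₂] :
    ∃ r₀ : R, r₀ ∉ p ∧ ∀ t ∈ primeTorsion p M₂, r₀ • t = 0 := by
  classical
  have hN : IsNoetherian R M₂ := isNoetherian_of_isNoetherianRing_of_finite R M₂
  obtain ⟨u, hu⟩ := IsNoetherian.noetherian (primeTorsion p M₂)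
  have hc : ∀ g : u, ∃ r : R, r ∉ p ∧ r • (g : M₂) = 0 := by
    intro g
    have : (g : M₂) ∈ primeTorsion p M₂ := by rw [← hu]; exact Submodule.subset_span g.2
    exact this
  choose c hcp hcg using hc
  refine ⟨∏ g : u, c g, ?_, ?_⟩
  · rw [Ideal.IsPrime.prod_mem_iff]
    push Not
    intro g _
    exact hcp g
  · intro t ht
    rw [← hu] at ht
    refine Submodule.span_induction ?_ ?_ ?_ ?_ ht
    · intro g hg
      rw [← Finset.prod_erase_mul _ _ (Finset.mem_univ (⟨g, hg⟩ : u)), mul_smul]
      rw [hcg ⟨g, hg⟩, smul_zero]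
    · simp
    · intro x y _ _ hx hy; rw [smul_add, hx, hy, add_zero]
    · intro a x _ hx; rw [smul_comm, hx, smul_zero]

end Main

end Groth.Agent.Helper1.AssTensor
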