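import Mathlib
import Groth.Agent.Helper2.DepthCM

/-!
# Depth along flat local maps with `m_R S = m_S`
-/

set_option autoImplicit false

universe u

namespace Groth.Agent.Helper1.FlatDepth

open IsLocalRing RingTheory.Sequence Pointwise

variable {R S : Type u} [CommRing R] [IsLocalRing R] [IsNoetherianRing R]
  [CommRing S] [IsLocalRing S] [IsNoetherianRing S] [Algebra R S]

theorem depth_eq [Module.Flat R S] [IsLocalHom (algebraMap R S)]
    (h : (maximalIdeal R).map (algebraMap R S) = maximalIdeal S) :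
    LocCoh.depth S S = LocCoh.depth R R := by
  haveI : Module.FaithfullyFlat R S := Module.FaithfullyFlat.of_flat_of_isLocalHom
  have hR : maximalIdeal R • (⊤ : Submodule R R) ≠ ⊤ := Groth.Agent.Helper2.Depth.smul_top_ne_top R R
  have hS : maximalIdeal S • (⊤ : Submodule S S) ≠ ⊤ := Groth.Agent.Helper2.Depth.smul_top_ne_top S S
  obtain ⟨rs, hreg, hmem, hmax, hlen⟩ :=
    Groth.Agent.Helper2.DepthCM.exists_length_eq_idealDepth (maximalIdeal R) R hR
  let rs' := rs.map (algebraMap R S)
  have hreg' : IsWeaklyRegular S rs' := hreg.of_flat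
  have hmem' : ∀ s ∈ rs', s ∈ maximalIdeal S := by
    intro s hs
    obtain ⟨r, hr, rfl⟩ := List.mem_map.1 hs
    rw [← h]
    exact Ideal.mem_map_of_mem _ (hmem r hr)
  -- the socle element
  let Rbar := R ⧸ Ideal.ofList rs • (⊤ : Submodule R R)
  let Sbar := S ⧸ Ideal.ofList rs' • (⊤ : Submodule S S)
  have hnr : ∀ x ∈ maximalIdeal R, ¬ IsSMulRegular Rbar x := by
    intro x hx hcon
    apply hmax x hx
    rw [isWeaklyRegular_append_iff]
    refine ⟨hreg, ?_⟩
    rw [isWeaklyRegular_cons_iff]
    exact ⟨hcon, IsWeaklyRegular.nil _ _⟩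
  have hass := Groth.Agent.Helper2.Ass.maximalIdeal_mem_ass_of_forall_not_regular R Rbar hnr
  rw [AssociatedPrimes.mem_iff, isAssociatedPrime_iff] at hass
  obtain ⟨-, y, hy⟩ := hass
  obtain ⟨y₀, rfl⟩ := Submodule.Quotient.mk_surjective _ y
  have hy0 : y₀ ∉ Ideal.ofList rs • (⊤ : Submodule R R) := by
    intro hcon
    have h1 : (1 : R) ∈ maximalIdeal R := by
      rw [hy, Submodule.mem_colon_singleton, Submodule.mem_bot, one_smul]
      exact (Submodule.Quotient.mk_eq_zero _).2 hcon
    exact (Ideal.ne_top_iff_one _).1 (maximalIdeal.isMaximal R).ne_top h1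
  have hmy : ∀ r ∈ maximalIdeal R, r * y₀ ∈ Ideal.ofList rs • (⊤ : Submodule R R) := by
    intro r hr
    rw [hy, Submodule.mem_colon_singleton, Submodule.mem_bot] at hr
    rw [← Submodule.Quotient.mk_smul, Submodule.Quotient.mk_eq_zero] at hr
    exact hr
  have hlist : Ideal.ofList rs' = (Ideal.ofList rs).map (algebraMap R S) := (Ideal.map_ofList _ _).symm
  -- the image of `y₀` in `Sbar` is nonzero
  have hy0' : algebraMap R S y₀ ∉ Ideal.ofList rs' • (⊤ : Submodule S S) := by
    intro hcon
    apply hy0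
    rw [smul_eq_mul, Ideal.mul_top] at hcon ⊢
    rw [hlist] at hcon
    have := Ideal.mem_comap.2 hcon
    rwa [Ideal.comap_map_eq_self_of_faithfullyFlat] at this
  -- `m_S` kills it
  have hmS : ∀ s ∈ maximalIdeal S, s * algebraMap R S y₀ ∈ Ideal.ofList rs' • (⊤ : Submodule S S) := by
    intro s hs
    rw [smul_eq_mul, Ideal.mul_top, hlist]
    rw [← h] at hs
    refine Submodule.span_induction (p := fun s _ => s * algebraMap R S y₀ ∈
      (Ideal.ofList rs).map (algebraMap R S)) ?_ ?_ ?_ ?_ hs
    · rintro _ ⟨r, hr, rfl⟩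
      rw [← map_mul]
      have := hmy r hr
      rw [smul_eq_mul, Ideal.mul_top] at this
      exact Ideal.mem_map_of_mem _ this
    · simp
    · intro a b _ _ ha hb
      rw [add_mul]
      exact add_mem ha hb
    · intro a b _ hb
      rw [smul_eq_mul, mul_assoc]
      exact Ideal.mul_mem_left _ _ hb
  have hmax' : ∀ s ∈ maximalIdeal S, ¬ IsWeaklyRegular S (rs' ++ [s]) := by
    intro s hs hcon
    rw [isWeaklyRegular_append_iff] at hcon
    have h2 : IsSMulRegular Sbar s := ((isWeaklyRegular_cons_iff _ _ _).1 hcon.2).1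
    have h3 : s • (Submodule.Quotient.mk (algebraMap R S y₀) : Sbar) = s • 0 := by
      rw [smul_zero, ← Submodule.Quotient.mk_smul, Submodule.Quotient.mk_eq_zero]
      exact hmS s hs
    have h4 := h2 h3
    rw [Submodule.Quotient.mk_eq_zero] at h4
    exact hy0' h4
  have hlen' := Groth.Agent.Helper2.DepthRees.length_eq_idealDepth_of_maximal (maximalIdeal S) S hS
    rs' hreg' hmem' hmax'
  unfold LocCoh.depth
  rw [← hlen', ← hlen, List.length_map]

end Groth.Agent.Helper1.FlatDepth
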