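import Mathlib

/-!
# Embedding dimension along flat local maps with `m_R S = m_S`
-/

set_option autoImplicit false

namespace Groth.Agent.Helper1.FlatSpanFinrank

open IsLocalRing

variable {R S : Type*} [CommRing R] [IsLocalRing R] [IsNoetherianRing R]
  [CommRing S] [IsLocalRing S] [IsNoetherianRing S] [Algebra R S]

theorem spanFinrank_le (h : (maximalIdeal R).map (algebraMap R S) = maximalIdeal S) :
    (maximalIdeal S).spanFinrank ≤ (maximalIdeal R).spanFinrank := by
  have hfg : Submodule.FG (maximalIdeal R : Submodule R R) :=
    (maximalIdeal R).fg_of_isNoetherianRing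
  let G : Set R := Submodule.generators (maximalIdeal R : Submodule R R)
  have hG : Ideal.span G = maximalIdeal R := Submodule.span_generators _
  have h1 : Ideal.span ((algebraMap R S) '' G) = maximalIdeal S := by
    rw [← Ideal.map_span, hG, h]
  have hfin : ((algebraMap R S) '' G).Finite := hfg.finite_generators.image _
  calc (maximalIdeal S).spanFinrank
      = (Submodule.span S ((algebraMap R S) '' G)).spanFinrank := by
        rw [← h1]
    _ ≤ ((algebraMap R S) '' G).ncard :=
        Submodule.spanFinrank_span_le_ncard_of_finite hfin
    _ ≤ G.ncard := Set.ncard_image_le hfg.finite_generators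
    _ = (maximalIdeal R).spanFinrank := hfg.generators_ncard

theorem le_spanFinrank [Module.Flat R S]
    (h : (maximalIdeal R).map (algebraMap R S) = maximalIdeal S) :
    (maximalIdeal R).spanFinrank ≤ (maximalIdeal S).spanFinrank := by
  classical
  rw [spanFinrank_maximalIdeal_eq_finrank_cotangentSpace,
    spanFinrank_maximalIdeal_eq_finrank_cotangentSpace]
  set d := Module.finrank (ResidueField R) (CotangentSpace R) with hd
  let b : Module.Basis (Fin d) (ResidueField R) (CotangentSpace R) := Module.finBasis _ _
  choose x hx using fun i => (maximalIdeal R).toCotangent_surjective (b i)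
  -- the `x i` generate the maximal ideal
  have hspan : Submodule.span R (Set.range x) = ⊤ := by
    rw [← CotangentSpace.span_image_eq_top_iff, ← Set.range_comp]
    have : (maximalIdeal R).toCotangent ∘ x = b := funext hx
    rw [this]
    exact b.span_eq
  have hmS : ∀ i, algebraMap R S (x i) ∈ maximalIdeal S := fun i => by
    rw [← h]; exact Ideal.mem_map_of_mem _ (x i).2
  let v : Fin d → CotangentSpace S := fun i => (maximalIdeal S).toCotangent ⟨_, hmS i⟩
  suffices hli : LinearIndependent (ResidueField S) v by
    have := hli.fintype_card_le_finrank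
    simpa using this
  rw [Fintype.linearIndependent_iff]
  intro g hg
  choose s hs using fun i => residue_surjective (g i)
  -- the relation in `S`
  have h1 : ∑ i, s i • (⟨algebraMap R S (x i), hmS i⟩ : maximalIdeal S) ∈
      LinearMap.ker (maximalIdeal S).toCotangent := by
    rw [LinearMap.mem_ker, map_sum, ← hg]
    refine Finset.sum_congr rfl fun i _ => ?_
    rw [map_smul, ← hs i]
    rfl
  rw [Ideal.mem_toCotangent_ker] at h1
  -- `m_S^2 = m_S • span (x i)`
  have h2 : maximalIdeal S ^ 2 = maximalIdeal S • Submodule.span S (Set.range fun i =>
      algebraMap R S (x i)) := by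
    have : Submodule.span S (Set.range fun i => algebraMap R S (x i)) = maximalIdeal S := by
      have e1 : Ideal.span (Set.range fun i => (x i : R)) = maximalIdeal R := by
        have := congr(Submodule.map (maximalIdeal R).subtype $hspan)
        rw [Submodule.map_span, Submodule.map_top, Submodule.range_subtype, ← Set.range_comp] at this
        exact this
      have e2 : Ideal.map (algebraMap R S) (Ideal.span (Set.range fun i => (x i : R))) =
          maximalIdeal S := by rw [e1, h]
      rw [Ideal.map_span, ← Set.range_comp] at e2
      exact e2
    rw [this, pow_two, smul_eq_mul]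
  rw [h2, Submodule.mem_ideal_smul_span_iff_exists_sum] at h1
  obtain ⟨a, ha, hsum⟩ := h1
  -- the relation `∑ x i • (s i - a i) = 0`
  have h3 : ∑ i, (x i : R) • (s i - a i) = 0 := by
    have e1 : ((∑ i, s i • (⟨algebraMap R S (x i), hmS i⟩ : maximalIdeal S) : maximalIdeal S) : S) =
        ∑ i, s i * algebraMap R S (x i) := by
      rw [Submodule.coe_sum]
      rfl
    rw [e1, Finsupp.sum_fintype _ _ (fun i => by simp)] at hsum
    simp only [smul_eq_mul] at hsum
    calc ∑ i, (x i : R) • (s i - a i) = ∑ i, s i * algebraMap R S (x i) -
          ∑ i, a i * algebraMap R S (x i) := by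
          rw [← Finset.sum_sub_distrib]
          refine Finset.sum_congr rfl fun i _ => ?_
          rw [Algebra.smul_def]; ring
      _ = 0 := by rw [hsum, sub_self]
  obtain ⟨m, c, y, hy1, hy2⟩ := Module.Flat.isTrivialRelation_of_sum_smul_eq_zero (R := R)
    (M := S) (f := fun i => (x i : R)) (x := fun i => s i - a i) h3
  -- the coefficients `c i j` lie in the maximal ideal
  have hc : ∀ i j, c i j ∈ maximalIdeal R := by
    intro i j
    have e1 : ∑ i, residue R (c i j) • b i = 0 := by
      have e2 : ∑ i, c i j • x i = 0 := by
        apply Subtype.ext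
        rw [Submodule.coe_sum, Submodule.coe_zero, ← hy2 j]
        refine Finset.sum_congr rfl fun i _ => ?_
        show c i j * (x i : R) = _
        ring
      have := congr((maximalIdeal R).toCotangent $e2)
      rw [map_sum, map_zero] at this
      rw [← this]
      refine Finset.sum_congr rfl fun i _ => ?_
      rw [map_smul, hx]
      rfl
    have := Fintype.linearIndependent_iff.1 b.linearIndependent _ e1 i
    rwa [residue_eq_zero_iff] at this
  intro i
  rw [← hs i, residue_eq_zero_iff]
  have e3 : s i = (s i - a i) + a i := by ring
  rw [e3]
  refine add_mem ?_ (ha i)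
  have := hy1 i
  simp only at this
  rw [this]
  refine Submodule.sum_mem _ fun j _ => ?_
  rw [Algebra.smul_def]
  refine Ideal.mul_mem_right _ _ ?_
  rw [← h]
  exact Ideal.mem_map_of_mem _ (hc i j)

theorem spanFinrank_eq [Module.Flat R S]
    (h : (maximalIdeal R).map (algebraMap R S) = maximalIdeal S) :
    (maximalIdeal S).spanFinrank = (maximalIdeal R).spanFinrank :=
  le_antisymm (spanFinrank_le h) (le_spanFinrank h)

end Groth.Agent.Helper1.FlatSpanFinrank
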