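import Mathlib
import Groth.Prelude.Def_CAlg
import Groth.Agent.Helper1.FlatDepth
import Groth.Agent.Helper1.FlatSpanFinrank
import Groth.Agent.Helper1.HensDim

/-!
# Serre's conditions `(S_k)`, `(R_k)` along flat maps whose fibres are "unramified" (`q S_Q = Q S_Q`)
-/

set_option autoImplicit false

universe u

namespace Groth.Agent.Helper1.SerreFlatU

open IsLocalRing

section DimEq

/-- Dimension along a flat local homomorphism with `m_R S = m_S`. -/
theorem ringKrullDim_eq_of_flat {R S : Type*} [CommRing R] [IsLocalRing R] [IsNoetherianRing R]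
    [CommRing S]
    [IsLocalRing S] [IsNoetherianRing S] [Algebra R S] [Module.Flat R S]
    [IsLocalHom (algebraMap R S)]
    (h : (maximalIdeal R).map (algebraMap R S) = maximalIdeal S) :
    ringKrullDim S = ringKrullDim R := by
  haveI : Algebra.HasGoingDown R S := Algebra.HasGoingDown.of_flat
  haveI : (maximalIdeal S).LiesOver (maximalIdeal R) :=
    ⟨(((local_hom_TFAE (algebraMap R S)).out 0 4 rfl rfl).mp inferInstance).symm⟩
  have := Ideal.height_eq_height_add_of_liesOver_of_hasGoingDown (maximalIdeal R) (maximalIdeal S)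
  rw [h, Ideal.map_quotient_self, Ideal.height_bot, add_zero] at this
  rw [← IsLocalRing.maximalIdeal_height_eq_ringKrullDim,
    ← IsLocalRing.maximalIdeal_height_eq_ringKrullDim, this]

end DimEq

section Self

variable {A : Type u} [CommRing A] (p : Ideal A) [p.IsPrime]

/-- `A_p` as localized module of `A` is `A_p`. -/
noncomputable def selfEquiv :
    LocalizedModule p.primeCompl A ≃ₗ[Localization.AtPrime p] Localization.AtPrime p :=
  LinearEquiv.extendScalarsOfIsLocalization p.primeCompl (Localization.AtPrime p)
    (IsLocalizedModule.iso p.primeCompl (Algebra.linearMap A (Localization.AtPrime p)))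

lemma supportDim_self :
    Module.supportDim (Localization.AtPrime p) (LocalizedModule p.primeCompl A) =
      ringKrullDim (Localization.AtPrime p) := by
  rw [Module.supportDim_eq_of_equiv (selfEquiv p), Module.supportDim_self_eq_ringKrullDim]

lemma depth_self :
    LocCoh.depth (Localization.AtPrime p) (LocalizedModule p.primeCompl A) =
      LocCoh.depth (Localization.AtPrime p) (Localization.AtPrime p) :=
  Groth.Agent.Helper2.DepthCM.idealDepth_congr _ (selfEquiv p)

lemma hasSk_iff (k : ℕ) : LocCoh.HasSk k A A ↔ ∀ (p : Ideal A) [p.IsPrime],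
    min (k : WithBot ℕ∞) (ringKrullDim (Localization.AtPrime p)) ≤
      ((LocCoh.depth (Localization.AtPrime p) (Localization.AtPrime p) : ℕ∞) : WithBot ℕ∞) := by
  unfold LocCoh.HasSk
  refine forall_congr' fun p => forall_congr' fun hp => ?_
  rw [supportDim_self, depth_self]

end Self

section Main

variable (R S : Type u) [CommRing R] [CommRing S] [Algebra R S]

/-- `R → S` is unramified at `Q` in the weak sense `q S_Q = Q S_Q`. -/
def UnrAt (Q : Ideal S) [Q.IsPrime] : Prop := ∀ x ∈ Q, ∃ t ∉ Q,
  t * x ∈ (Q.under R).map (algebraMap R S)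

/-- The fibres of `R → S` are unramified in the weak sense `q S_Q = Q S_Q`. -/
def Unr : Prop := ∀ (Q : Ideal S) [Q.IsPrime], UnrAt R S Q

variable {R S}
variable (Q : Ideal S) [Q.IsPrime]

section AtQ

variable (hQ : UnrAt R S Q)
include hQ

lemma map_maximalIdeal_atPrime' :
    letI := Localization.AtPrime.algebraOfLiesOver (Q.under R) Q
    (maximalIdeal (Localization.AtPrime (Q.under R))).map
      (algebraMap (Localization.AtPrime (Q.under R)) (Localization.AtPrime Q)) =
      maximalIdeal (Localization.AtPrime Q) := by
  letI := Localization.AtPrime.algebraOfLiesOver (Q.under R) Q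
  rw [← Localization.AtPrime.map_eq_maximalIdeal, ← Localization.AtPrime.map_eq_maximalIdeal,
    Ideal.map_map, ← IsScalarTower.algebraMap_eq,
    IsScalarTower.algebraMap_eq R S (Localization.AtPrime Q), ← Ideal.map_map]
  apply le_antisymm
  · exact Ideal.map_mono (Ideal.map_le_iff_le_comap.2 le_rfl)
  · rw [Ideal.map_le_iff_le_comap]
    intro x hx
    obtain ⟨t, ht, htx⟩ := hQ x hx
    rw [Ideal.mem_comap]
    have hu : IsUnit (algebraMap S (Localization.AtPrime Q) t) :=
      IsLocalization.map_units (Localization.AtPrime Q) (⟨t, ht⟩ : Q.primeCompl)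
    have h1 := Ideal.mem_map_of_mem (algebraMap S (Localization.AtPrime Q)) htx
    rw [map_mul] at h1
    exact (Ideal.unit_mul_mem_iff_mem _ hu).1 h1

variable [IsNoetherianRing R] [IsNoetherianRing S] [Module.Flat R S]

lemma dim_atPrime' : ringKrullDim (Localization.AtPrime Q) =
    ringKrullDim (Localization.AtPrime (Q.under R)) := by
  letI := Localization.AtPrime.algebraOfLiesOver (Q.under R) Q
  haveI : IsLocalHom (algebraMap (Localization.AtPrime (Q.under R)) (Localization.AtPrime Q)) :=
    Localization.isLocalHom_localRingHom _ _ _ _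
  exact ringKrullDim_eq_of_flat (map_maximalIdeal_atPrime' Q hQ)

lemma depth_atPrime' : LocCoh.depth (Localization.AtPrime Q) (Localization.AtPrime Q) =
    LocCoh.depth (Localization.AtPrime (Q.under R)) (Localization.AtPrime (Q.under R)) := by
  letI := Localization.AtPrime.algebraOfLiesOver (Q.under R) Q
  haveI : IsLocalHom (algebraMap (Localization.AtPrime (Q.under R)) (Localization.AtPrime Q)) :=
    Localization.isLocalHom_localRingHom _ _ _ _
  exact FlatDepth.depth_eq (map_maximalIdeal_atPrime' Q hQ)

lemma regular_atPrime' : IsRegularLocalRing (Localization.AtPrime Q) ↔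
    IsRegularLocalRing (Localization.AtPrime (Q.under R)) := by
  letI := Localization.AtPrime.algebraOfLiesOver (Q.under R) Q
  rw [isRegularLocalRing_iff, isRegularLocalRing_iff,
    FlatSpanFinrank.spanFinrank_eq (map_maximalIdeal_atPrime' Q hQ), dim_atPrime' Q hQ]

lemma height_eq' : Q.height = (Q.under R).height := by
  have := dim_atPrime' Q hQ
  rw [IsLocalization.AtPrime.ringKrullDim_eq_height Q,
    IsLocalization.AtPrime.ringKrullDim_eq_height (Q.under R)] at this
  exact_mod_cast this

end AtQ

variable (hU : Unr R S)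
include hU

lemma map_maximalIdeal_atPrime :
    letI := Localization.AtPrime.algebraOfLiesOver (Q.under R) Q
    (maximalIdeal (Localization.AtPrime (Q.under R))).map
      (algebraMap (Localization.AtPrime (Q.under R)) (Localization.AtPrime Q)) =
      maximalIdeal (Localization.AtPrime Q) :=
  map_maximalIdeal_atPrime' Q (hU Q)

variable [IsNoetherianRing R] [IsNoetherianRing S] [Module.Flat R S]

lemma dim_atPrime : ringKrullDim (Localization.AtPrime Q) =
    ringKrullDim (Localization.AtPrime (Q.under R)) := dim_atPrime' Q (hU Q)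

lemma depth_atPrime : LocCoh.depth (Localization.AtPrime Q) (Localization.AtPrime Q) =
    LocCoh.depth (Localization.AtPrime (Q.under R)) (Localization.AtPrime (Q.under R)) :=
  depth_atPrime' Q (hU Q)

lemma regular_atPrime : IsRegularLocalRing (Localization.AtPrime Q) ↔
    IsRegularLocalRing (Localization.AtPrime (Q.under R)) := regular_atPrime' Q (hU Q)

lemma height_eq : Q.height = (Q.under R).height := height_eq' Q (hU Q)

omit Q in
theorem hasSk_iff_of_unr [Module.FaithfullyFlat R S] (k : ℕ) :
    LocCoh.HasSk k S S ↔ LocCoh.HasSk k R R := by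
  rw [hasSk_iff, hasSk_iff]
  constructor
  · intro h q hq
    obtain ⟨Q, hQ⟩ := PrimeSpectrum.comap_surjective_of_faithfullyFlat (A := R) (B := S) ⟨q, hq⟩
    have hq' : q = Q.asIdeal.under R := congrArg PrimeSpectrum.asIdeal hQ.symm
    subst hq'
    have := h Q.asIdeal
    rwa [dim_atPrime _ hU, depth_atPrime _ hU] at this
  · intro h Q hQ
    rw [dim_atPrime _ hU, depth_atPrime _ hU]
    exact h (Q.under R)

omit Q in
theorem hasRk_iff_of_unr [Module.FaithfullyFlat R S] (k : ℕ) :
    LocCoh.HasRk k S ↔ LocCoh.HasRk k R := by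
  unfold LocCoh.HasRk
  constructor
  · intro h q hq hk
    obtain ⟨Q, hQ⟩ := PrimeSpectrum.comap_surjective_of_faithfullyFlat (A := R) (B := S) ⟨q, hq⟩
    have hq' : q = Q.asIdeal.under R := congrArg PrimeSpectrum.asIdeal hQ.symm
    subst hq'
    rw [← regular_atPrime _ hU]
    exact h Q.asIdeal (by rwa [height_eq _ hU])
  · intro h Q hQ hk
    rw [regular_atPrime _ hU]
    exact h (Q.under R) (by rwa [← height_eq _ hU])

end Main

end Groth.Agent.Helper1.SerreFlatU
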