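import Mathlib
import Groth.Agent.Helper1.RP5

/-!
# Relative Proj toolkit, part 12: irreducibility; `Proj` of a graded domain is integral
-/

set_option autoImplicit false
set_option linter.style.haveILetI false

namespace Groth.Agent.Helper1.RP

open CategoryTheory Limits AlgebraicGeometry TopologicalSpace HomogeneousIdeal
  HomogeneousLocalization

universe u

/-- a space covered by irreducible open subsets which pairwise meet is irreducible -/
theorem irreducibleSpace_of_cover {X : Type*} [TopologicalSpace X] {ι : Type*} [Nonempty ι]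
    (W : ι → Set X) (hopen : ∀ i, IsOpen (W i)) (hcov : ∀ x : X, ∃ i, x ∈ W i)
    (hirr : ∀ i, IsIrreducible (W i)) (hint : ∀ i j, (W i ∩ W j).Nonempty) :
    IrreducibleSpace X := by
  haveI : PreirreducibleSpace X := by
    constructor
    intro u v hu hv ⟨x, _, hxu⟩ ⟨y, _, hyv⟩
    obtain ⟨i, hxi⟩ := hcov x
    obtain ⟨j, hyj⟩ := hcov y
    obtain ⟨z, hzi, hzu, hzj⟩ :=
      (hirr i).isPreirreducible u (W j) hu (hopen j) ⟨x, hxi, hxu⟩ (hint i j)
    obtain ⟨w, hwj, hwu, hwv⟩ :=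
      (hirr j).isPreirreducible u v hu hv ⟨z, hzj, hzu⟩ ⟨y, hyj, hyv⟩
    exact ⟨w, Set.mem_univ _, hwu, hwv⟩
  obtain ⟨i⟩ := ‹Nonempty ι›
  obtain ⟨x, _⟩ := (hirr i).nonempty
  exact { toNonempty := ⟨x⟩ }

section proj

variable {A : Type u} [CommRing A] {σ : Type u} [SetLike σ A] [AddSubgroupClass σ A]
  (𝒜 : ℕ → σ) [GradedRing 𝒜]

theorem isDomain_away [IsDomain A] {f : A} (hf0 : f ≠ 0) : IsDomain (Away 𝒜 f) := by
  haveI : IsDomain (Localization (Submonoid.powers f)) :=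
    IsLocalization.isDomain_localization
      (powers_le_nonZeroDivisors_of_noZeroDivisors hf0)
  exact Function.Injective.isDomain
    (algebraMap (Away 𝒜 f) (Localization (Submonoid.powers f))) (val_injective _)

theorem isIrreducible_basicOpen [IsDomain A] {f : A} {d : ℕ} (hf : f ∈ 𝒜 d) (hd : 0 < d)
    (hf0 : f ≠ 0) : IsIrreducible ((Proj.basicOpen 𝒜 f : (Proj 𝒜).Opens) : Set (Proj 𝒜)) := by
  haveI := isDomain_away 𝒜 hf0
  rw [← Proj.opensRange_awayι 𝒜 f hf hd]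
  have h1 : IsIrreducible (Set.univ : Set (Spec (CommRingCat.of (Away 𝒜 f)))) :=
    (IrreducibleSpace.isIrreducible_univ _)
  have h2 := h1.image (Proj.awayι 𝒜 f hf hd) (Proj.awayι 𝒜 f hf hd).continuous.continuousOn
  rw [Set.image_univ] at h2
  exact h2

theorem exists_homogeneous_ne_zero (h : (𝒜₊).toIdeal ≠ ⊥) :
    ∃ (d : ℕ) (_ : 0 < d) (f : A), f ∈ 𝒜 d ∧ f ≠ 0 := by
  classical
  by_contra hcon
  push Not at hcon
  apply h
  rw [_root_.eq_bot_iff]
  intro x hx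
  have hx0 : ∀ i, (DirectSum.decompose 𝒜 x i : A) = 0 := by
    intro i
    rcases Nat.eq_zero_or_pos i with rfl | hi
    · exact (HomogeneousIdeal.mem_irrelevant_iff 𝒜 x).1 hx
    · exact hcon i hi _ (SetLike.coe_mem _)
  rw [Ideal.mem_bot, ← DirectSum.sum_support_decompose 𝒜 x]
  exact Finset.sum_eq_zero fun i _ => hx0 i

theorem irreducibleSpace_proj [IsDomain A] (h : (𝒜₊).toIdeal ≠ ⊥) :
    IrreducibleSpace (Proj 𝒜) := by
  obtain ⟨d₀, hd₀, f₀, hf₀, hf₀0⟩ := exists_homogeneous_ne_zero 𝒜 h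
  let ι := {s : ℕ × A // 0 < s.1 ∧ s.2 ∈ 𝒜 s.1 ∧ s.2 ≠ 0}
  haveI : Nonempty ι := ⟨⟨(d₀, f₀), hd₀, hf₀, hf₀0⟩⟩
  refine irreducibleSpace_of_cover (ι := ι)
    (fun s => ((Proj.basicOpen 𝒜 s.1.2 : (Proj 𝒜).Opens) : Set (Proj 𝒜)))
    (fun s => (Proj.basicOpen 𝒜 s.1.2).isOpen) ?_
    (fun s => isIrreducible_basicOpen 𝒜 s.2.2.1 s.2.1 s.2.2.2) ?_
  · intro x
    obtain ⟨i, hi, s, hs, y, rfl⟩ : ∃ (i : ℕ) (hi : 0 < i) (s : A) (hs : s ∈ 𝒜 i)
        (y : Spec (.of (Away 𝒜 s))), (Proj.awayι 𝒜 s hs hi) y = x := by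
      obtain ⟨y, hy⟩ := (Proj.affineOpenCover 𝒜).openCover.covers x
      exact ⟨_, ((Proj.affineOpenCover 𝒜).openCover.idx x).1.2, _,
        ((Proj.affineOpenCover 𝒜).openCover.idx x).2.2, y, hy⟩
    have hmem : (Proj.awayι 𝒜 s hs hi) y ∈ Proj.basicOpen 𝒜 s := by
      rw [← Proj.opensRange_awayι 𝒜 s hs hi]
      exact ⟨y, rfl⟩
    have hs0 : s ≠ 0 := by
      rintro rfl
      rw [Proj.basicOpen_zero] at hmem
      exact hmem
    exact ⟨⟨(i, s), hi, hs, hs0⟩, hmem⟩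
  · rintro ⟨⟨i, s⟩, hi, hs, hs0⟩ ⟨⟨j, t⟩, hj, ht, ht0⟩
    have hst : s * t ≠ 0 := mul_ne_zero hs0 ht0
    have hirr := isIrreducible_basicOpen 𝒜 (SetLike.mul_mem_graded hs ht)
      (Nat.add_pos_left hi j) hst
    obtain ⟨z, hz⟩ := hirr.nonempty
    rw [Proj.basicOpen_mul] at hz
    exact ⟨z, hz.1, hz.2⟩

theorem isReduced_proj [IsDomain A] : IsReduced (Proj 𝒜) := by
  haveI : ∀ i, IsReduced ((Proj.affineOpenCover 𝒜).openCover.X i) := by
    intro i
    by_cases h0 : (i.2 : A) = 0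
    · haveI : Subsingleton (Away 𝒜 (i.2 : A)) :=
        HomogeneousLocalization.subsingleton 𝒜 ⟨1, (pow_one _).trans h0⟩
      show IsReduced (Spec (CommRingCat.of (Away 𝒜 (i.2 : A))))
      infer_instance
    · haveI := isDomain_away 𝒜 h0
      show IsReduced (Spec (CommRingCat.of (Away 𝒜 (i.2 : A))))
      infer_instance
  exact IsReduced.of_openCover _ (Proj.affineOpenCover 𝒜).openCover

theorem isIntegral_proj [IsDomain A] (h : (𝒜₊).toIdeal ≠ ⊥) : IsIntegral (Proj 𝒜) := by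
  haveI := irreducibleSpace_proj 𝒜 h
  haveI := isReduced_proj 𝒜
  exact isIntegral_of_irreducibleSpace_of_isReduced _

end proj

end Groth.Agent.Helper1.RP
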