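import Mathlib
import Groth.Agent.Helper1.DeltaHom
import Groth.Agent.Helper1.AffLin
import Groth.Agent.Helper9.RpushCmp
import Groth.Prelude.Def_Formal

/-!
# Linearity of right derived functors with respect to natural endomorphisms of the identity;
`Rⁿ f_*` commutes with multiplication by global functions
-/

set_option autoImplicit false

namespace Groth.Agent.Helper1.RpLin

open CategoryTheory Limits Groth.Agent.Helper1.DeltaFun

universe v u v' u'

section Abstract

variable {A : Type u} [Category.{v} A] [Abelian A] {B : Type u'} [Category.{v'} B] [Abelian B]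
  [HasInjectiveResolutions A] [EnoughInjectives A]

/-- the endomorphism `Tⁿ(α)` of a δ-functor induced by a natural endomorphism of `𝟭 A` -/
def homOfSource (T : DeltaFunctor A B) (α : 𝟭 A ⟶ 𝟭 A) : T.Hom T where
  app n :=
    { app := fun M => (T.T n).map (α.app M)
      naturality := fun M N φ => by
        rw [← Functor.map_comp, ← Functor.map_comp]
        congr 1
        exact (α.naturality φ) }
  comm S hS n := by
    have := T.δ_nat (S := S) (S' := S)
      { τ₁ := α.app S.X₁, τ₂ := α.app S.X₂, τ₃ := α.app S.X₃
        comm₁₂ := (α.naturality S.f).symm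
        comm₂₃ := (α.naturality S.g).symm } hS hS n
    exact this

/-- the endomorphism of a δ-functor induced by a natural endomorphism of `𝟭 B` -/
def homOfTarget (T : DeltaFunctor A B) (β : 𝟭 B ⟶ 𝟭 B) : T.Hom T where
  app n :=
    { app := fun M => β.app ((T.T n).obj M)
      naturality := fun M N φ => (β.naturality ((T.T n).map φ)) }
  comm S hS n := (β.naturality (T.δ S hS n))

theorem rightDerived_map_natEnd (F : A ⥤ B) [F.Additive] [PreservesFiniteLimits F]
    (α : 𝟭 A ⟶ 𝟭 A) (β : 𝟭 B ⟶ 𝟭 B) (h : ∀ M, F.map (α.app M) = β.app (F.obj M)) (n : ℕ) (M : A) :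
    (F.rightDerived n).map (α.app M) = β.app ((F.rightDerived n).obj M) := by
  have h0 : (homOfSource (rightDerivedDelta F) α).app 0 = (homOfTarget (rightDerivedDelta F) β).app 0 := by
    ext M
    change (F.rightDerived 0).map (α.app M) = β.app ((F.rightDerived 0).obj M)
    have e := F.rightDerivedZeroIsoSelf
    have h1 : (F.rightDerived 0).map (α.app M) ≫ e.hom.app M = e.hom.app M ≫ F.map (α.app M) :=
      e.hom.naturality (α.app M)
    have h2 : β.app ((F.rightDerived 0).obj M) ≫ e.hom.app M = e.hom.app M ≫ β.app (F.obj M) :=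
      (β.naturality (e.hom.app M)).symm
    rw [← cancel_mono (e.hom.app M), h1, h2, h]
  have := DeltaFunctor.Hom.eq_of_zero (rightDerivedDelta_effaceable F) _ _ h0 n
  exact congrArg (fun τ => τ.app M) this

end Abstract

end Groth.Agent.Helper1.RpLin

namespace Groth.Agent.Helper1.RpLin

open CategoryTheory Limits AlgebraicGeometry Opposite Groth.Agent.Helper1.DeltaFun

universe u

variable {X S : Scheme.{u}}

lemma smulModΓ_naturality {M N : X.Modules} (φ : M ⟶ N) (r : Coh.Γtop X) :
    φ ≫ Formal.smulModΓ N r = Formal.smulModΓ M r ≫ φ := by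
  apply SheafOfModules.hom_ext
  apply PresheafOfModules.hom_ext
  intro U
  ext m
  exact ((φ.val.app U).hom.map_smul (Coh.resTop X U r) m).symm

/-- multiplication by a global function as a natural endomorphism of the identity functor -/
noncomputable def smulNat (X : Scheme.{u}) (r : Coh.Γtop X) : 𝟭 X.Modules ⟶ 𝟭 X.Modules where
  app M := Formal.smulModΓ M r
  naturality _ _ φ := smulModΓ_naturality φ r

lemma push_smulModΓ (f : X ⟶ S) (M : X.Modules) (r : Coh.Γtop S) :
    (Coh.push f).map (Formal.smulModΓ M (f.appTop.hom r)) =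
      Formal.smulModΓ ((Coh.push f).obj M) r := by
  apply SheafOfModules.hom_ext
  apply PresheafOfModules.hom_ext
  intro U
  ext m
  show Coh.resTop X (op (f ⁻¹ᵁ U.unop)) (f.appTop.hom r) • (show M.val.obj (op (f ⁻¹ᵁ U.unop)) from m) =
    (f.app U.unop (Coh.resTop S U r)) • (show M.val.obj (op (f ⁻¹ᵁ U.unop)) from m)
  congr 1
  have := f.naturality (homOfLE (le_top : U.unop ≤ ⊤)).op
  exact (congrArg (fun φ => φ.hom r) this).symm

/-- **`Rⁿ f_*` commutes with multiplication by global functions of the base** -/
theorem Rpush_map_smulModΓ (f : X ⟶ S) [HasInjectiveResolutions X.Modules] (n : ℕ)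
    (M : X.Modules) (r : Coh.Γtop S) :
    (Coh.Rpush f n).map (Formal.smulModΓ M (f.appTop.hom r)) =
      Formal.smulModΓ ((Coh.Rpush f n).obj M) r := by
  have : EnoughInjectives X.Modules :=
    Groth.Agent.Helper9.ModCechExt.enoughInjectives_mod X.ringCatSheaf
  exact rightDerived_map_natEnd (Coh.push f) (smulNat X (f.appTop.hom r)) (smulNat S r)
    (fun M => push_smulModΓ f M r) n M

end Groth.Agent.Helper1.RpLin
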