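import Mathlib
import Groth.Agent.Helper1.RpLin
import Groth.Agent.Helper1.DeltaComp

/-!
# `(Rⁿ f_* M)_ab ≅ Rⁿ f_* (M_ab)`, naturally in `M`
-/

set_option autoImplicit false

namespace Groth.Agent.Helper1.RpCmpNat

open CategoryTheory Limits AlgebraicGeometry Opposite TopologicalSpace
open Groth.Agent.Helper1.DeltaFun Groth.Agent.Helper9.RpushCmp

universe u

variable {X Y : Scheme.{u}} (f : X ⟶ Y) [HasInjectiveResolutions X.Modules]

instance (X : Scheme.{u}) : (tA X).Additive := by
  haveI : PreservesBinaryBiproducts (tA X) :=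
    preservesBinaryBiproducts_of_preservesBinaryProducts (tA X)
  exact Functor.additive_of_preservesBinaryBiproducts (tA X)

/-- `M ↦ (Rⁿ f_* M)_ab` as a δ-functor -/
noncomputable def D₁ : DeltaFunctor X.Modules (Sheaf (Opens.grothendieckTopology Y) AddCommGrpCat.{u}) :=
  (rightDerivedDelta (Coh.push f)).postcomp (tA Y)

/-- `M ↦ Rⁿ f_* (M_ab)` as a δ-functor -/
noncomputable def D₂ : DeltaFunctor X.Modules (Sheaf (Opens.grothendieckTopology Y) AddCommGrpCat.{u}) :=
  (rightDerivedDelta (Coh.pushAb f)).precomp (tA X) (fun S hS => hS.map_of_exact (tA X))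

lemma D₁_effaceable : (D₁ f).Effaceable := fun I _ n =>
  Functor.map_isZero (tA Y) (Functor.isZero_rightDerived_obj_injective_succ _ _ _)

lemma D₂_effaceable : (D₂ f).Effaceable := fun I hI n =>
  Groth.Agent.Helper1.SiteCoh.isZero_Rpush_of_isTotallyAcyclic
    (Opens.grothendieckTopology X) (Opens.grothendieckTopology Y) (Opens.map f.base)
    (@Groth.Agent.Helper9.ModCechExt.totallyAcyclic_of_injective_mod _ _ _ X.ringCatSheaf I hI) n

/-- the natural comparison isomorphism -/
noncomputable def iso (n : ℕ) : Coh.Rpush f n ⋙ tA Y ≅ tA X ⋙ Coh.RpushAb f n :=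
  haveI : EnoughInjectives X.Modules :=
    Groth.Agent.Helper9.ModCechExt.enoughInjectives_mod X.ringCatSheaf
  isoOfEffaceable (D₁_effaceable f) (D₂_effaceable f) (e₀ f) n

end Groth.Agent.Helper1.RpCmpNat
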