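import Groth.Agent.Helper1.DeltaEq

/-!
# The equivariant long exact sequence of `Ext(P, G -)`
-/

set_option autoImplicit false

namespace Groth.Agent.Helper1.DeltaEq

open CategoryTheory Limits Abelian Groth.Agent.Helper1.DeltaCmp

universe w w' v₁ v₂ u₁ u₂

variable {A : Type u₁} [Category.{v₁} A] [Abelian A] {B : Type u₂} [Category.{v₂} B] [Abelian B]
  [HasExt.{w} B] {ι : Type w'}

lemma hasLESEq_extSeq' (G : A ⥤ B) [G.Additive]
    (P : B) (S : ShortComplex A) (hS' : (S.map G).ShortExact) (φ : ι → (S ⟶ S)) :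
    HasLESEq (extSeq G P) S φ := by
  intro n
  obtain ⟨w₁, h₁⟩ := exists_of_exact (Ext.covariant_sequence_exact₃' P hS' n (n + 1) rfl)
  obtain ⟨w₂, h₂⟩ := exists_of_exact (Ext.covariant_sequence_exact₁' P hS' n (n + 1) rfl)
  refine ⟨AddCommGrpCat.ofHom (hS'.extClass.postcomp P rfl), w₁, w₂, h₁, h₂, fun a => ?_⟩
  have hnat := ShortComplex.ShortExact.extClass_naturality hS' hS' (G.mapShortComplex.map (φ a))
  apply AddCommGrpCat.hom_ext
  apply AddMonoidHom.ext
  intro x
  show Ext.comp (Ext.comp (show Ext P (G.obj S.X₃) n from x) (Ext.mk₀ (G.map (φ a).τ₃)) (add_zero n))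
      hS'.extClass rfl =
    Ext.comp (Ext.comp (show Ext P (G.obj S.X₃) n from x) hS'.extClass rfl)
      (Ext.mk₀ (G.map (φ a).τ₁)) (add_zero (n + 1))
  rw [Ext.comp_assoc _ _ _ (add_zero n) (zero_add 1) (by omega),
    Ext.comp_assoc _ _ _ rfl (add_zero 1) (by omega)]
  congr 1
  exact hnat.symm

lemma hasLESEq_extSeq (G : A ⥤ B) [G.Additive] [PreservesFiniteLimits G]
    [PreservesFiniteColimits G]
    (P : B) (S : ShortComplex A) (hS : S.ShortExact) (φ : ι → (S ⟶ S)) :
    HasLESEq (extSeq G P) S φ :=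
  hasLESEq_extSeq' G P S (hS.map_of_exact G) φ

end Groth.Agent.Helper1.DeltaEq
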