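import Groth.Agent.Helper1.CohTopLeray
import Groth.Agent.Helper1.ExtLESEq

/-!
# Equivariant degenerate Leray: `Hⁿ(X, F) ≅ Hⁿ(Y, f_* F)` compatibly with endomorphisms of `F`
-/

set_option autoImplicit false

namespace Groth.Agent.Helper1.CohTopFun

open CategoryTheory Limits Opposite TopologicalSpace Abelian
open Groth.Agent.Lead.CohTopB
open Groth.Agent.Helper1.DeltaCmp
open Groth.Agent.Helper1.CechTop
open Groth.Agent.Helper1.CohTopExt

universe w u

variable {X Y : TopCat.{u}} (f : X ⟶ Y)

/-- an endomorphism of `F` extends to an endomorphism of `0 → F → I → I/F → 0` -/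
noncomputable def injEnd (F : CohTop.Ab X) (u : F ⟶ F) : injSC F ⟶ injSC F where
  τ₁ := u
  τ₂ := (Injective.factorThru (u ≫ Injective.ι F) (Injective.ι F) :
    Injective.under F ⟶ Injective.under F)
  τ₃ := cokernel.map (Injective.ι F) (Injective.ι F) u
    (Injective.factorThru (u ≫ Injective.ι F) (Injective.ι F) :
      Injective.under F ⟶ Injective.under F)
    (by rw [Injective.comp_factorThru])
  comm₁₂ := by
    show u ≫ Injective.ι F = Injective.ι F ≫ _
    rw [Injective.comp_factorThru]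
  comm₂₃ := by
    show _ ≫ cokernel.π (Injective.ι F) = cokernel.π (Injective.ι F) ≫ _
    rw [cokernel.π_desc]

theorem exists_iso_H_push_of_acyclic_eq {ι : Type w} (n : ℕ) (F : CohTop.Ab X)
    (u : ι → (F ⟶ F))
    (h : ∀ q : ℕ, IsZero ((CohTop.Rpush f (q + 1)).obj F)) :
    ∃ ψ : (HSeq n).obj F ≅ (HpSeq f n).obj F,
      ∀ a, (HSeq n).map (u a) ≫ ψ.hom = ψ.hom ≫ (HpSeq f n).map (u a) := by
  have e : HSeq (X := X) 0 ≅ HpSeq f 0 := h0Iso ≪≫ (hp0Iso f).symm
  have key : ∀ (F : CohTop.Ab X) (u : ι → (F ⟶ F)),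
      (∀ q : ℕ, IsZero ((CohTop.Rpush f (q + 1)).obj F)) →
      Nonempty (DeltaEq.Effacement (fun n => HSeq (X := X) n) (fun n => HpSeq f n)
        (fun F => ∀ q : ℕ, IsZero ((CohTop.Rpush f (q + 1)).obj F)) F u) := by
    intro F u hF
    have hS := injSC_shortExact F
    have l1 : DeltaEq.HasLESEq (fun n => HSeq (X := X) n) (injSC F) (fun a => injEnd F (u a)) :=
      DeltaEq.hasLESEq_extSeq (𝟭 (CohTop.Ab X)) (constZ X) (injSC F) hS _
    have l2 : DeltaEq.HasLESEq (fun n => HpSeq f n) (injSC F) (fun a => injEnd F (u a)) :=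
      DeltaEq.hasLESEq_extSeq' (CohTop.push f) (constZ Y) (injSC F)
        (DerLES.shortExact_map (CohTop.push f) (injSC F) hS (hF 0)) _
    exact ⟨{
      S := injSC F
      φ := fun a => injEnd F (u a)
      i := Iso.refl _
      comm := fun a => by
        show u a ≫ 𝟙 _ = 𝟙 _ ≫ u a
        rw [Category.comp_id, Category.id_comp]
      mem := fun q => DerLES.isZero_rightDerived_X₃ (CohTop.push f) (injSC F) hS q
        (Functor.isZero_rightDerived_obj_injective_succ _ _ _) (hF (q + 1))
      zero := fun n => isZero_HSeq_of_injective _ n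
      zero' := fun n => isZero_HpSeq_of_injective f _ n
      les := l1
      les' := l2 }⟩
  exact DeltaEq.exists_iso _ e key n F u h

end Groth.Agent.Helper1.CohTopFun
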