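import Mathlib
import Groth.Agent.Helper1.PushLin
import Groth.Agent.Helper1.DeltaFunctor

/-!
# Equivariant degenerate Leray, sections form:
`Hⁿ(X, F) ≅ Γ(Y, Rⁿ f_* F)` compatibly with endomorphisms of `F`, when all `R^q f_* F` are acyclic
-/

set_option autoImplicit false

namespace Groth.Agent.Helper1.ExtAcyc
open CategoryTheory Limits Abelian Groth.Agent.Helper1.DeltaCmp Groth.Agent.Helper1.DeltaEq

universe w' w v u v₁ u₁

variable {A : Type u₁} [Category.{v₁} A] [Abelian A]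
  {B : Type u} [Category.{v} B] [Abelian B] [HasExt.{w} B] {ι : Type w'}

/-- equivariant version of `effacement_comp` -/
theorem effacement_comp_eq (S : ShortComplex A) (φ : ι → (S ⟶ S)) (T : ℕ → A ⥤ B) (P : B)
    (hles : HasLESEq T S φ)
    (hex : ∃ w : (T 0).map S.f ≫ (T 0).map S.g = 0,
      (ShortComplex.mk ((T 0).map S.f) ((T 0).map S.g) w).Exact)
    (hmono : Mono ((T 0).map S.f))
    (hz : ∀ n, IsZero ((T (n + 1)).obj S.X₂))
    (h₁ : ∀ q, Acyc P ((T q).obj S.X₁)) (h₂ : Acyc P ((T 0).obj S.X₂)) :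
    HasLESEq (fun n => T n ⋙ extFunctorObj P 0) S φ := by
  have hzG : ∀ n, IsZero ((extFunctorObj P 0).obj ((T (n + 1)).obj S.X₂)) :=
    fun n => Functor.map_isZero _ (hz n)
  intro n
  cases n with
  | zero =>
    obtain ⟨δ, w₁, w₂, ex₁, ex₂, hc⟩ := hles 0
    obtain ⟨w₀, ex₀⟩ := hex
    have : Epi δ := ex₂.epi_f ((hz 0).eq_of_tgt _ _)
    obtain ⟨-, hepi, w', ex'⟩ :=
      four_term ((T 0).map S.f) ((T 0).map S.g) δ w₀ w₁ ex₀ ex₁ (h₁ 0) h₂ (h₁ 1)
    refine ⟨(extFunctorObj P 0).map δ, w', (hzG 0).eq_of_tgt _ _, ex', ?_, fun a => ?_⟩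
    · exact (ShortComplex.exact_iff_epi _ ((hzG 0).eq_of_tgt _ _)).2 hepi
    · show (extFunctorObj P 0).map ((T 0).map (φ a).τ₃) ≫ (extFunctorObj P 0).map δ =
        (extFunctorObj P 0).map δ ≫ (extFunctorObj P 0).map ((T 1).map (φ a).τ₁)
      rw [← Functor.map_comp, ← Functor.map_comp, hc a]
  | succ n =>
    obtain ⟨δ, w₁, w₂, ex₁, ex₂, hc⟩ := hles (n + 1)
    have : Epi δ := ex₂.epi_f ((hz (n + 1)).eq_of_tgt _ _)
    have : Mono δ := ex₁.mono_g ((hz n).eq_of_src _ _)
    have : IsIso δ := isIso_of_mono_of_epi δ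
    refine ⟨(extFunctorObj P 0).map δ, (hzG n).eq_of_src _ _, (hzG (n + 1)).eq_of_tgt _ _, ?_, ?_,
      fun a => ?_⟩
    · exact (ShortComplex.exact_iff_mono _ ((hzG n).eq_of_src _ _)).2 inferInstance
    · exact (ShortComplex.exact_iff_epi _ ((hzG (n + 1)).eq_of_tgt _ _)).2 inferInstance
    · show (extFunctorObj P 0).map ((T (n + 1)).map (φ a).τ₃) ≫ (extFunctorObj P 0).map δ =
        (extFunctorObj P 0).map δ ≫ (extFunctorObj P 0).map ((T (n + 1 + 1)).map (φ a).τ₁)
      rw [← Functor.map_comp, ← Functor.map_comp, hc a]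

end Groth.Agent.Helper1.ExtAcyc

namespace Groth.Agent.Helper1.DeltaEq

open CategoryTheory Limits Groth.Agent.Helper1.DeltaFun

universe w v₁ v₂ u₁ u₂

variable {A : Type u₁} [Category.{v₁} A] [Abelian A] {B : Type u₂} [Category.{v₂} B] [Abelian B]
variable {ι : Type w}

/-- a δ-functor has equivariant long exact sequences -/
lemma hasLESEq_of_deltaFunctor (T : DeltaFunctor A B) (S : ShortComplex A) (hS : S.ShortExact)
    (φ : ι → (S ⟶ S)) : HasLESEq T.T S φ :=
  fun n => ⟨T.δ S hS n, T.w₃ S hS n, T.w₁ S hS n, T.exact₃ S hS n, T.exact₁ S hS n,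
    fun a => (T.δ_nat (φ a) hS hS n).symm⟩

lemma hasLESEq_rightDerived [HasInjectiveResolutions A] (F : A ⥤ B) [F.Additive]
    (S : ShortComplex A) (hS : S.ShortExact) (φ : ι → (S ⟶ S)) :
    HasLESEq (fun n => F.rightDerived n) S φ :=
  hasLESEq_of_deltaFunctor (rightDerivedDelta F) S hS φ

end Groth.Agent.Helper1.DeltaEq

namespace Groth.Agent.Helper1.CohTopFun

open CategoryTheory Limits Opposite TopologicalSpace Abelian
open Groth.Agent.Lead.CohTopB
open Groth.Agent.Helper1.DeltaCmp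
open Groth.Agent.Helper1.CechTop
open Groth.Agent.Helper1.CohTopExt
open Groth.Agent.Helper1.ExtAcyc

universe w u

variable {X Y : TopCat.{u}} (f : X ⟶ Y)

theorem exists_iso_H_sections_Rpush_eq {ι : Type w} (n : ℕ) (F : CohTop.Ab X)
    (u : ι → (F ⟶ F))
    (h : ∀ q : ℕ, Acyc (constZ Y) ((CohTop.Rpush f q).obj F)) :
    ∃ ψ : (HSeq n).obj F ≅ (HRSeq f n).obj F,
      ∀ a, (HSeq n).map (u a) ≫ ψ.hom = ψ.hom ≫ (HRSeq f n).map (u a) := by
  have e : HSeq (X := X) 0 ≅ HRSeq f 0 := h0Iso ≪≫ (hr0Iso f).symm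
  have key : ∀ (F : CohTop.Ab X) (u : ι → (F ⟶ F)),
      (∀ q : ℕ, Acyc (constZ Y) ((CohTop.Rpush f q).obj F)) →
      Nonempty (DeltaEq.Effacement (fun n => HSeq (X := X) n) (fun n => HRSeq f n)
        (fun F => ∀ q : ℕ, Acyc (constZ Y) ((CohTop.Rpush f q).obj F)) F u) := by
    intro F u hF
    have hS := injSC_shortExact F
    have l1 : DeltaEq.HasLESEq (fun n => HSeq (X := X) n) (injSC F) (fun a => injEnd F (u a)) :=
      DeltaEq.hasLESEq_extSeq (𝟭 (CohTop.Ab X)) (constZ X) (injSC F) hS _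
    have hz : ∀ n, IsZero ((CohTop.Rpush f (n + 1)).obj (injSC F).X₂) :=
      fun n => Functor.isZero_rightDerived_obj_injective_succ _ _ _
    have h₂ : Acyc (constZ Y) ((CohTop.Rpush f 0).obj (injSC F).X₂) := by
      refine acyc_of_iso ((CohTop.push f).rightDerivedZeroIsoSelf.app (injSC F).X₂).symm ?_
      intro p
      have : TopCat.Sheaf.IsFlasque (injSC F).X₂ := isFlasque_of_injective (injSC F).X₂
      have : TopCat.Sheaf.IsFlasque ((CohTop.push f).obj (injSC F).X₂) :=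
        TopCat.Sheaf.IsFlasque.pushforward_isFlasque (injSC F).X₂ f
      exact Groth.Agent.S0453.result ((CohTop.push f).obj (injSC F).X₂) p
    have hQ : ∀ q, Acyc (constZ Y) ((CohTop.Rpush f q).obj (injSC F).X₃) :=
      (effacement_comp (A := CohTop.Ab X) (B := CohTop.Ab Y) (injSC F)
        (fun n => CohTop.Rpush f n) (constZ Y)
        (Horseshoe.hasLES_rightDerived (CohTop.push f) (injSC F) hS)
        (Horseshoe.exact_rightDerived_map (CohTop.push f) (injSC F) hS 0)
        (Horseshoe.mono_rightDerived_zero_map (CohTop.push f) (injSC F) hS) hz hF h₂).1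
    have l2 := effacement_comp_eq (A := CohTop.Ab X) (B := CohTop.Ab Y) (injSC F)
      (fun a => injEnd F (u a))
      (fun n => CohTop.Rpush f n) (constZ Y)
      (DeltaEq.hasLESEq_rightDerived (CohTop.push f) (injSC F) hS _)
      (Horseshoe.exact_rightDerived_map (CohTop.push f) (injSC F) hS 0)
      (Horseshoe.mono_rightDerived_zero_map (CohTop.push f) (injSC F) hS) hz hF h₂
    exact ⟨{
      S := injSC F
      φ := fun a => injEnd F (u a)
      i := Iso.refl _
      comm := fun a => by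
        show u a ≫ 𝟙 _ = 𝟙 _ ≫ u a
        rw [Category.comp_id, Category.id_comp]
      mem := hQ
      zero := fun n => isZero_HSeq_of_injective _ n
      zero' := fun n => Functor.map_isZero (extFunctorObj (constZ Y) 0) (hz n)
      les := l1
      les' := l2 }⟩
  exact DeltaEq.exists_iso _ e key n F u h

end Groth.Agent.Helper1.CohTopFun
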