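import Mathlib
import Groth.Agent.Helper1.SecLin
import Groth.Agent.Helper1.RpCmpNat
import Groth.Agent.S0030
import Groth.Agent.S0007

/-!
# `Γ(S)`-linear degenerate Leray: `Hⁿ(X, M) ≅ Γ(S, Rⁿ f_* M)` for `f : X ⟶ S` qcqs, `S` affine
-/

set_option autoImplicit false

namespace Groth.Agent.Helper1.SecLin

open CategoryTheory Limits AlgebraicGeometry Opposite TopologicalSpace
open Groth.Agent.Helper1.CohTopFun Groth.Agent.Helper1.CechTop Groth.Agent.Helper9.RpushCmp

universe u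

variable {X S : Scheme.{u}} (f : X ⟶ S)

lemma tA_map_smulModΓ (M : X.Modules) (r : Coh.Γtop X) :
    (tA X).map (Formal.smulModΓ M r) = Coh.smulAb M r := rfl

theorem exists_addEquiv_sections_Rpush [QuasiCompact f] [QuasiSeparated f] [IsAffine S]
    [HasInjectiveResolutions X.Modules] (M : X.Modules) [Coh.IsQCoh M] (n : ℕ) :
    ∃ ψ : Coh.HH X M n ≃+ ((Coh.Rpush f n).obj M).val.obj (op ⊤),
      ∀ (r : Coh.Γtop S) (x : Coh.HH X M n),
        ψ (Sheaf.H.map (Coh.smulAb M (f.appTop.hom r)) n x) = r • ψ x := by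
  have h : ∀ q : ℕ, ExtAcyc.Acyc (constZ (S : TopCat.{u}))
      ((CohTop.Rpush f.base q).obj (Coh.toAb M)) := by
    intro q p
    obtain ⟨e⟩ := Groth.Agent.Helper9.RpushCmp.nonempty_iso f q M
    haveI : Coh.IsQCoh ((Coh.Rpush f q).obj M) := Groth.Agent.S0030.result f M q
    have h1 : Subsingleton (Coh.HH S ((Coh.Rpush f q).obj M) (p + 1)) :=
      Groth.Agent.S0007.result S _ (p + 1) (Nat.succ_pos p)
    haveI : Subsingleton ((CategoryTheory.Sheaf.functorH _ (p + 1)).obj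
      ((Groth.Agent.Helper9.RpushCmp.T f q).obj M)) := h1
    exact (((CategoryTheory.Sheaf.functorH _ (p + 1)).mapIso e).addCommGroupIsoToAddEquiv.symm.toEquiv).subsingleton
  obtain ⟨ψ₁, hψ₁⟩ := exists_iso_H_sections_Rpush_eq f.base n (Coh.toAb M)
    (fun r : Coh.Γtop S => Coh.smulAb M (f.appTop.hom r)) h
  let e₂ := (CohTopFun.h0Iso (X := (S : TopCat.{u}))).app ((CohTop.Rpush f.base n).obj (Coh.toAb M))
  let θ := (Groth.Agent.Helper1.RpCmpNat.iso f n).app M
  let e₃ := (sectionsFunctor (X := (S : TopCat.{u})) ⊤).mapIso θ.symm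
  let Ψ := ψ₁ ≪≫ e₂ ≪≫ e₃
  refine ⟨Ψ.addCommGroupIsoToAddEquiv, fun r x => ?_⟩
  let φ := Formal.smulModΓ M (f.appTop.hom r)
  let N := (Coh.Rpush f n).obj M
  have n2 : (HRSeq f.base n).map (Coh.smulAb M (f.appTop.hom r)) ≫ e₂.hom =
      e₂.hom ≫ (sectionsFunctor (X := (S : TopCat.{u})) ⊤).map
        ((CohTop.Rpush f.base n).map (Coh.smulAb M (f.appTop.hom r))) :=
    (CohTopFun.h0Iso (X := (S : TopCat.{u}))).hom.naturality
      ((CohTop.Rpush f.base n).map (Coh.smulAb M (f.appTop.hom r)))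
  have n3 : (CohTop.Rpush f.base n).map (Coh.smulAb M (f.appTop.hom r)) ≫ θ.inv =
      θ.inv ≫ (tA S).map ((Coh.Rpush f n).map φ) :=
    (Groth.Agent.Helper1.RpCmpNat.iso f n).inv.naturality φ
  have n3' : (sectionsFunctor (X := (S : TopCat.{u})) ⊤).map
        ((CohTop.Rpush f.base n).map (Coh.smulAb M (f.appTop.hom r))) ≫ e₃.hom =
      e₃.hom ≫ (sectionsFunctor (X := (S : TopCat.{u})) ⊤).map
        ((tA S).map ((Coh.Rpush f n).map φ)) := by
    show (sectionsFunctor (X := (S : TopCat.{u})) ⊤).map _ ≫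
        (sectionsFunctor (X := (S : TopCat.{u})) ⊤).map θ.inv =
      (sectionsFunctor (X := (S : TopCat.{u})) ⊤).map θ.inv ≫
        (sectionsFunctor (X := (S : TopCat.{u})) ⊤).map _
    rw [← Functor.map_comp, ← Functor.map_comp, n3]
  have n4 : (Coh.Rpush f n).map φ = Formal.smulModΓ N r :=
    Groth.Agent.Helper1.RpLin.Rpush_map_smulModΓ f n M r
  have key : (HSeq n).map (Coh.smulAb M (f.appTop.hom r)) ≫ Ψ.hom =
      Ψ.hom ≫ (sectionsFunctor (X := (S : TopCat.{u})) ⊤).map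
        ((tA S).map (Formal.smulModΓ N r)) := by
    show _ ≫ (ψ₁.hom ≫ e₂.hom ≫ e₃.hom) = (ψ₁.hom ≫ e₂.hom ≫ e₃.hom) ≫ _
    rw [← Category.assoc, hψ₁ r, Category.assoc, ← Category.assoc _ e₂.hom, n2, Category.assoc,
      n3', n4]
    simp only [Category.assoc]
  have h1 := ConcreteCategory.congr_hom key x
  have h2 : ((sectionsFunctor (X := (S : TopCat.{u})) ⊤).map
        ((tA S).map (Formal.smulModΓ N r))) (Ψ.hom x) = r • (show N.val.obj (op ⊤) from Ψ.hom x) := by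
    show Coh.resTop S (op ⊤) r • (show N.val.obj (op ⊤) from Ψ.hom x) = r • (show N.val.obj (op ⊤) from Ψ.hom x)
    congr 1
    show (S.ringCatSheaf.obj.map (homOfLE (le_top (a := (⊤ : Opens S)))).op).hom r = r
    have : (homOfLE (le_top (a := (⊤ : Opens S)))).op = 𝟙 (op (⊤ : Opens S)) := rfl
    rw [this, S.ringCatSheaf.obj.map_id]
    rfl
  exact h1.trans h2

end Groth.Agent.Helper1.SecLin
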