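import Groth.Agent.Helper1.BaseChart4
import Groth.Agent.Helper1.SecLin2

set_option autoImplicit false

/-!
# Affine charts of the base: the rank of the fibre cohomology
-/

namespace Groth.Agent.Helper1.BaseChart

open CategoryTheory Limits AlgebraicGeometry Opposite TopologicalSpace

universe u

/-- isomorphic modules have cohomology of the same rank -/
lemma rank_HH_congr {Z : Scheme.{u}} {K : Type u} [CommRing K]
    [Z.Over (Spec (CommRingCat.of K))] {M N : Z.Modules} (θ : M ≅ N) (n : ℕ) :
    Module.rank K (Coh.HH Z M n) = Module.rank K (Coh.HH Z N n) := by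
  refine rank_eq_of_equiv_equiv id ((CohIII.HAb Z n).mapIso θ).addCommGroupIsoToAddEquiv
    Function.bijective_id ?_
  intro a x
  have h := Groth.Agent.Helper1.RpLin.smulModΓ_naturality θ.hom
    (Coh.toGlobal (Z ↘ Spec (CommRingCat.of K)) a)
  have h2 := congrArg (fun φ => (CohIII.HAb Z n).map φ) h
  simp only [Functor.map_comp] at h2
  have h3 := ConcreteCategory.congr_hom h2 x
  exact h3.symm

lemma finrank_HH_congr {Z : Scheme.{u}} {K : Type u} [CommRing K]
    [Z.Over (Spec (CommRingCat.of K))] {M N : Z.Modules} (θ : M ≅ N) (n : ℕ) :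
    Module.finrank K (Coh.HH Z M n) = Module.finrank K (Coh.HH Z N n) := by
  unfold Module.finrank
  rw [rank_HH_congr θ n]

variable {X Y : Scheme.{u}} (f : X ⟶ Y) (V : Y.Opens) (y : Y) (hy : y ∈ V)

/-- the pullback of the restriction to the chart is the restriction to the fibre -/
noncomputable def fiberModIso (F : X.Modules) :
    (Scheme.Modules.pullback (gLift f V y hy)).obj (FV f V F) ≅ CohIII.fiberMod f F y :=
  (Scheme.Modules.pullback (gLift f V y hy)).mapIso
      ((Scheme.Modules.restrictFunctorIsoPullback (f ⁻¹ᵁ V).ι).app F) ≪≫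
    (Scheme.Modules.pullbackComp (gLift f V y hy) (f ⁻¹ᵁ V).ι).app F ≪≫
    (Scheme.Modules.pullbackCongr (gLift_ι f V y hy)).app F

end Groth.Agent.Helper1.BaseChart
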