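import Mathlib
import Groth.Agent.Helper4.StalkDict

set_option autoImplicit false

/-!
# Stalks of quasi-coherent modules as base changes of sections over affine opens
-/

namespace Groth.Agent.Helper1.StalkBC

open CategoryTheory Limits AlgebraicGeometry Opposite TopologicalSpace
open Groth.Agent.Helper4.StalkDict

universe u

variable {Y : Scheme.{u}} {V : Y.Opens} (hV : IsAffineOpen V)

include hV in
/-- the stalk at a point of an affine open is the base change of the module of sections -/
theorem nonempty_stalk_equiv (N : Y.Modules) [N.IsQuasicoherent] (y : Y) (hy : y ∈ V) :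
    letI := Y.presheaf.algebra_section_stalk ⟨y, hy⟩
    Nonempty (TensorProduct Γ(Y, V) (Y.presheaf.stalk y) Γ(N, V) ≃ₗ[Y.presheaf.stalk y]
      N.presheaf.stalk y) := by
  letI := Y.presheaf.algebra_section_stalk ⟨y, hy⟩
  letI := sectionModStalk N y hy
  haveI : IsScalarTower Γ(Y, V) (Y.presheaf.stalk y) (N.presheaf.stalk y) :=
    IsScalarTower.of_algebraMap_smul (fun r m => rfl)
  haveI := hV.isLocalization_stalk ⟨y, hy⟩
  haveI := isLocalizedModule_germ hV N y hy
  have hbc := IsLocalizedModule.isBaseChange (hV.primeIdealOf ⟨y, hy⟩).asIdeal.primeCompl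
    (Y.presheaf.stalk y) (germLin N y hy)
  exact ⟨hbc.equiv⟩

end Groth.Agent.Helper1.StalkBC
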