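import Groth.Agent.Helper1.BCFlatCoh

set_option autoImplicit false

/-!
# Base change for cohomology when all `H^p(X, F)` are flat: the geometric statement
-/

namespace Groth.Agent.Helper1.BCFlatCoh

open CategoryTheory Limits MonoidalCategory HomologicalComplex AlgebraicGeometry TensorProduct
open Groth.Agent.Helper1.FlatCx Groth.Agent.Helper1.ACech Groth.Agent.Helper1.Bridge
open Groth.Agent.Helper1.NatCech

universe u

section

variable (A : Type u) [CommRing A] {X : Scheme.{u}} [X.Over (Spec (CommRingCat.of A))]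
variable {t : ℕ} (U : Fin t → X.Opens) (hU : ∀ k, IsAffineOpen (U k))
  (hd : ∀ V W : X.Opens, IsAffineOpen V → IsAffineOpen W → IsAffineOpen (V ⊓ W))
  (hcov : ⨆ k, U k = ⊤) (F : X.Modules) [F.IsQuasicoherent]

include hU hd hcov in
/-- `H^n(CA(F)) ≃ₗ[A] H^n(X, F)` -/
theorem nonempty_linearEquiv_HH (n : ℕ) :
    Nonempty ((CA A (Uc U) F).homology n ≃ₗ[A] Coh.HH X F n) := by
  obtain ⟨φ, hφ⟩ := exists_equiv_HH A U hU hd hcov F n
  exact ⟨{ φ with map_smul' := fun a x => hφ a x }⟩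

include hU hd hcov in
/-- `H_{-n}(PZ(F)) ≃ₗ[A] H^n(X, F)` -/
theorem nonempty_linearEquiv_PZ (n : ℕ) :
    Nonempty ((PZ A U F).homology (-(n : ℤ)) ≃ₗ[A] Coh.HH X F n) := by
  obtain ⟨φ⟩ := nonempty_linearEquiv_HH A U hU hd hcov F n
  exact ⟨((CA A (Uc U) F).extendHomologyIso embNeg (embNeg_f n)).toLinearEquiv.trans φ⟩

include hU hd hcov in
lemma flat_homology_PZ (hH : ∀ p : ℕ, Module.Flat A (Coh.HH X F p)) (q : ℤ) :
    Module.Flat A ((PZ A U F).homology q) := by
  by_cases h : ∃ n : ℕ, embNeg.f n = q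
  · obtain ⟨n, rfl⟩ := h
    obtain ⟨φ⟩ := nonempty_linearEquiv_PZ A U hU hd hcov F n
    haveI := hH n
    exact Module.Flat.of_linearEquiv φ
  · have hz : IsZero ((PZ A U F).homology q) :=
      (exactAt_iff_isZero_homology _ _).1
        ((CA A (Uc U) F).extend_exactAt embNeg q (fun i hi => h ⟨i, hi⟩))
    haveI : Subsingleton ((PZ A U F).homology q) := ModuleCat.subsingleton_of_isZero hz
    infer_instance

include hU hd hcov in
/-- if all `H^p(X, F)` are flat, all `T_q` are exact -/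
theorem exact_PZ (hfl : FlatMod.IsFlatOver (X ↘ Spec (CommRingCat.of A)) F)
    (hH : ∀ p : ℕ, Module.Flat A (Coh.HH X F p)) (q : ℤ) :
    (CohIII.TFun (PZ A U F) q).PreservesMonomorphisms ∧
      (CohIII.TFun (PZ A U F) q).PreservesEpimorphisms :=
  exact_all (PZ A U F) (flat_PZ A U hU hd F hfl) (-(t : ℤ))
    (fun q hq M => isZero_tfun_PZ_of_le A U hU hd hcov F q hq M)
    (flat_homology_PZ A U hU hd hcov F hH) q

end

/-- base change for cohomology when all `H^p(X, F)` are flat -/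
theorem nonempty_equiv (A A' : Type u) [CommRing A] [CommRing A'] [Algebra A A']
    (X X' : Scheme.{u}) [X.Over (Spec (CommRingCat.of A))] [X'.Over (Spec (CommRingCat.of A'))]
    [QuasiCompact (X ↘ Spec (CommRingCat.of A))] [IsSeparated (X ↘ Spec (CommRingCat.of A))]
    (g' : X' ⟶ X)
    (hsq : IsPullback g' (X' ↘ Spec (CommRingCat.of A')) (X ↘ Spec (CommRingCat.of A))
      (Spec.map (CommRingCat.ofHom (algebraMap A A'))))
    (F : X.Modules) [F.IsQuasicoherent]
    (hfl : FlatMod.IsFlatOver (X ↘ Spec (CommRingCat.of A)) F)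
    (hH : ∀ p : ℕ, Module.Flat A (Coh.HH X F p)) (n : ℕ) :
    Nonempty (Coh.HH X' ((Scheme.Modules.pullback g').obj F) n ≃+
      TensorProduct A (Coh.HH X F n) A') := by
  classical
  haveI : ((Scheme.Modules.pullback g').obj F).IsQuasicoherent :=
    Groth.Agent.Lead.StalkPull.isQuasicoherent_pullbackObj _ _
  obtain ⟨t, U, hU, hcov⟩ := exists_cover A (X := X)
  have hd := affine_inf A (X := X)
  haveI : IsAffineHom g' := CechBC.isAffineHom_of_isPullback A A' g' hsq
  haveI : IsSeparated (X' ↘ Spec (CommRingCat.of A')) :=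
    MorphismProperty.of_isPullback (P := @IsSeparated) hsq inferInstance
  have hU' : ∀ k, IsAffineOpen (CechBC.Ut g' U k) := fun k => (hU k).preimage g'
  have hd' := affine_inf A' (X := X')
  have hcov' : ⨆ k, CechBC.Ut g' U k = ⊤ := by
    rw [← Scheme.Hom.preimage_iSup, hcov]
    rfl
  obtain ⟨θ⟩ := CechBC.nonempty_PZ_iso A A' g' hsq U hU hd F
  have hflat := flat_PZ A U hU hd F hfl
  have hex := exact_PZ A U hU hd hcov F hfl hH (-(n : ℤ))
  obtain ⟨e1⟩ := nonempty_linearEquiv_PZ A' (CechBC.Ut g' U) hU' hd' hcov'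
    ((Scheme.Modules.pullback g').obj F) n
  obtain ⟨e2⟩ := nonempty_bc_equiv (PZ A U F) hflat A' (-(n : ℤ)) hex.2
  obtain ⟨e3⟩ := nonempty_linearEquiv_PZ A U hU hd hcov F n
  let e4 := (HomologicalComplex.homologyMapIso θ (-(n : ℤ))).toLinearEquiv.toAddEquiv
  let e5 := (TensorProduct.congr e3 (LinearEquiv.refl A A')).toAddEquiv
  exact ⟨e1.toAddEquiv.symm.trans (e4.symm.trans (e2.trans e5))⟩

end Groth.Agent.Helper1.BCFlatCoh
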