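import Groth.Agent.Helper1.Bridge5
import Groth.Agent.Helper1.BCFlatCoh2
import Groth.Agent.Helper1.FlatCxBC

set_option autoImplicit false

/-!
# Flat base change for the cohomology of a quasi-coherent module on a quasi-compact separated
scheme over an affine base
-/

namespace Groth.Agent.Helper1.StalkBC

open CategoryTheory Limits AlgebraicGeometry Opposite TopologicalSpace TensorProduct
open Groth.Agent.Helper1.FlatCx Groth.Agent.Helper1.ACech Groth.Agent.Helper1.Bridge
open Groth.Agent.Helper1.NatCech Groth.Agent.Helper1.BCFlatCoh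

universe u

/-- flat base change, separated case -/
theorem nonempty_sep_flat_bc (R B : Type u) [CommRing R] [CommRing B] [Algebra R B]
    [Module.Flat R B] (Z Z₁ : Scheme.{u}) [Z.Over (Spec (CommRingCat.of R))]
    [Z₁.Over (Spec (CommRingCat.of B))]
    [IsSeparated (Z ↘ Spec (CommRingCat.of R))] [QuasiCompact (Z ↘ Spec (CommRingCat.of R))]
    (g' : Z₁ ⟶ Z)
    (hsq : IsPullback g' (Z₁ ↘ Spec (CommRingCat.of B)) (Z ↘ Spec (CommRingCat.of R))
      (Spec.map (CommRingCat.ofHom (algebraMap R B))))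
    (G : Z.Modules) [G.IsQuasicoherent] (n : ℕ) :
    Nonempty (B ⊗[R] (Coh.HH Z G n) ≃ₗ[B]
      Coh.HH Z₁ ((Scheme.Modules.pullback g').obj G) n) := by
  obtain ⟨t, U, hU, hcov⟩ := exists_cover R (X := Z)
  have hd := affine_inf R (X := Z)
  obtain ⟨e1⟩ := nonempty_linearEquiv_PZ R U hU hd hcov G n
  obtain ⟨e2⟩ := nonempty_linearEquiv_bc R B Z Z₁ g' hsq G U hU hcov n
  have hfl : (algebraMap R B).Flat := RingHom.flat_algebraMap_iff.mpr inferInstance
  let e3 := (bcHomologyIso (algebraMap R B) hfl (PZ R U G) (-(n : ℤ))).toLinearEquiv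
  let e4 := extendScalarsEquiv (S := B) ((PZ R U G).homology (-(n : ℤ)))
  let e5 : B ⊗[R] ((PZ R U G).homology (-(n : ℤ))) ≃ₗ[B] B ⊗[R] (Coh.HH Z G n) :=
    TensorProduct.AlgebraTensorModule.congr (LinearEquiv.refl B B) e1
  exact ⟨e5.symm.trans (e4.symm.trans (e3.symm.trans e2))⟩

end Groth.Agent.Helper1.StalkBC
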