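import Groth.Agent.Helper1.StalkBC2
import Groth.Agent.Helper1.StalkBC3
import Groth.Agent.Helper1.StalkBC4
import Groth.Agent.Helper1.BaseChart5

set_option autoImplicit false

/-!
# The stalk of `Rᵖ f_* F` at `y` is the cohomology of the base change to `Spec O_{Y,y}`
-/

namespace Groth.Agent.Helper1.StalkBC

open CategoryTheory Limits AlgebraicGeometry Opposite TopologicalSpace TensorProduct
open Groth.Agent.Helper1.BaseChart

universe u

/-- isomorphic modules have linearly isomorphic cohomology -/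
lemma nonempty_linearEquiv_HH_of_iso {Z : Scheme.{u}} {K : Type u} [CommRing K]
    [Z.Over (Spec (CommRingCat.of K))] {M N : Z.Modules} (θ : M ≅ N) (n : ℕ) :
    Nonempty (Coh.HH Z M n ≃ₗ[K] Coh.HH Z N n) := by
  refine ⟨{ ((CohIII.HAb Z n).mapIso θ).addCommGroupIsoToAddEquiv with
    map_smul' := fun a x => ?_ }⟩
  have h := Groth.Agent.Helper1.RpLin.smulModΓ_naturality θ.hom
    (Coh.toGlobal (Z ↘ Spec (CommRingCat.of K)) a)
  have h2 := congrArg (fun φ => (CohIII.HAb Z n).map φ) h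
  simp only [Functor.map_comp] at h2
  have h3 := ConcreteCategory.congr_hom h2 x
  exact h3.symm

variable {X Y : Scheme.{u}} (f : X ⟶ Y) (V : Y.Opens) (y : Y) (hy : y ∈ V)
  {X₁ : Scheme.{u}} (q : X₁ ⟶ Spec (Y.presheaf.stalk y)) (g : X₁ ⟶ X)
  (hsq : IsPullback g q f (Y.fromSpecStalk y))

/-- the pullback of the restriction to the chart is the pullback to `X₁` -/
noncomputable def pullbackChartIso (F : X.Modules) :
    (Scheme.Modules.pullback (gLift₁ f V y hy q g hsq)).obj (FV f V F) ≅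
      (Scheme.Modules.pullback g).obj F :=
  (Scheme.Modules.pullback (gLift₁ f V y hy q g hsq)).mapIso
      ((Scheme.Modules.restrictFunctorIsoPullback (f ⁻¹ᵁ V).ι).app F) ≪≫
    (Scheme.Modules.pullbackComp (gLift₁ f V y hy q g hsq) (f ⁻¹ᵁ V).ι).app F ≪≫
    (Scheme.Modules.pullbackCongr (gLift₁_ι f V y hy q g hsq)).app F

/-- **the stalk of `Rᵖ f_* F` at `y`** is the cohomology of the base change to the local ring -/
theorem nonempty_stalk_Rpush_equiv {X Y : Scheme.{u}} (f : X ⟶ Y) [QuasiCompact f] [IsSeparated f]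
    [HasInjectiveResolutions X.Modules] (F : X.Modules) [Coh.IsQCoh F] (y : Y) (p : ℕ)
    (X₁ : Scheme.{u}) [X₁.Over (Spec (CommRingCat.of (Y.presheaf.stalk y)))] (g : X₁ ⟶ X)
    (hsq : IsPullback g (X₁ ↘ Spec (CommRingCat.of (Y.presheaf.stalk y))) f
      (Y.fromSpecStalk y)) :
    Nonempty (((Coh.Rpush f p).obj F).presheaf.stalk y ≃ₗ[Y.presheaf.stalk y]
      Coh.HH X₁ ((Scheme.Modules.pullback g).obj F) p) := by
  obtain ⟨_, ⟨V, hV : IsAffineOpen V, rfl⟩, hy, -⟩ :=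
    Y.isBasis_affineOpens.exists_subset_of_mem_open (Set.mem_univ y) isOpen_univ
  haveI : IsAffine (V : Scheme.{u}) := hV
  letI := chartOverΓ f V
  letI := Y.presheaf.algebra_section_stalk ⟨y, hy⟩
  haveI := hV.isLocalization_stalk ⟨y, hy⟩
  haveI : Module.Flat Γ(Y, V) (Y.presheaf.stalk y) :=
    IsLocalization.flat _ (hV.primeIdealOf ⟨y, hy⟩).asIdeal.primeCompl
  haveI : IsIso (Scheme.Opens.toSpecΓ V) := by
    unfold Scheme.Opens.toSpecΓ
    infer_instance
  haveI : IsSeparated (XV f V ↘ Spec (CommRingCat.of Γ(Y, V))) := by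
    change IsSeparated ((f ∣_ V) ≫ Scheme.Opens.toSpecΓ V)
    infer_instance
  haveI : QuasiCompact (XV f V ↘ Spec (CommRingCat.of Γ(Y, V))) := by
    change QuasiCompact ((f ∣_ V) ≫ Scheme.Opens.toSpecΓ V)
    infer_instance
  haveI : ((Coh.Rpush f p).obj F).IsQuasicoherent := Groth.Agent.S0030.result f F p
  obtain ⟨ea⟩ := nonempty_stalk_equiv hV ((Coh.Rpush f p).obj F) y hy
  obtain ⟨eb⟩ := nonempty_linearEquiv_sectionsΓ f V F p
  let q := X₁ ↘ Spec (CommRingCat.of (Y.presheaf.stalk y))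
  obtain ⟨ec⟩ := nonempty_sep_flat_bc Γ(Y, V) (Y.presheaf.stalk y) (XV f V) X₁
    (gLift₁ f V y hy q g hsq) (isPullback_chartΓ f V y hy q g hsq) (FV f V F) p
  obtain ⟨ed⟩ := nonempty_linearEquiv_HH_of_iso (K := Y.presheaf.stalk y)
    (pullbackChartIso f V y hy q g hsq F) p
  let e5 : (Y.presheaf.stalk y) ⊗[Γ(Y, V)] (Coh.HH (XV f V) (FV f V F) p) ≃ₗ[Y.presheaf.stalk y]
      (Y.presheaf.stalk y) ⊗[Γ(Y, V)] Γ((Coh.Rpush f p).obj F, V) :=
    TensorProduct.AlgebraTensorModule.congr (LinearEquiv.refl _ _) eb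
  exact ⟨ea.symm.trans (e5.symm.trans (ec.trans ed))⟩

end Groth.Agent.Helper1.StalkBC
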