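import Mathlib
import Groth.Agent.Helper1.Rees2

/-!
# Formal functions: the kernel filtration of `H^p(X, M)` is `I`-good
-/

set_option autoImplicit false
set_option linter.style.haveILetI false

namespace Groth.Agent.Helper1.FF

open CategoryTheory Limits AlgebraicGeometry Opposite Abelian
open Groth.Agent.Helper1.Form Groth.Agent.Helper1.GrSh Groth.Agent.Helper1.Dev
open Groth.Agent.Helper1.Rees Groth.Agent.Helper1.HHLes Groth.Agent.Helper1

universe u

lemma isNoetherian_X (A : Type u) [CommRing A] [IsNoetherianRing A] (X : Scheme.{u})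
    [X.Over (Spec (CommRingCat.of A))] [IsProper (X ↘ Spec (CommRingCat.of A))] :
    IsNoetherian X := by
  haveI : CompactSpace X := by
    haveI : QuasiCompact (X ↘ Spec (CommRingCat.of A)) := inferInstance
    exact QuasiCompact.compactSpace_of_compactSpace (X ↘ Spec (CommRingCat.of A))
  exact { __ := LocallyOfFiniteType.isLocallyNoetherian (X ↘ Spec (CommRingCat.of A)) }

variable {A : Type u} [CommRing A] {X : Scheme.{u}} [X.Over (Spec (CommRingCat.of A))]
variable (I : Ideal A) (M : X.Modules) (p : ℕ)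

/-- the kernel of `H^p(X, M) → H^p(X, M/Iⁿ⁺¹M)` as a submodule -/
noncomputable def K (n : ℕ) : Submodule A (Coh.HH X M p) :=
  LinearMap.ker (Canon.HHlin A (Formal.modPowπ I (n + 1) M) p)

lemma mem_K (n : ℕ) (x : Coh.HH X M p) : x ∈ K I M p n ↔ Formal.toHHmodPow I M p n x = 0 :=
  Iff.rfl

lemma coe_K (n : ℕ) :
    (K I M p n : Set (Coh.HH X M p)) = ((Formal.toHHmodPow I M p n).ker : Set (Coh.HH X M p)) := by
  ext x
  exact Iff.rfl

/-- `H^p(X, IⁿM) → H^p(X, M)` -/
noncomputable abbrev jn (n : ℕ) : Coh.HH X (Rn I M n) p →ₗ[A] Coh.HH X M p :=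
  Canon.HHlin A (Rι I M n) p

lemma K_eq_range (n : ℕ) : K I M p n = LinearMap.range (jn I M p (n + 1)) := by
  have h := exact_f_g A (sesR I M (n + 1)) (sesR_shortExact I M (n + 1)) p
  ext x
  exact h x

lemma jn_mul (n : ℕ) (a : I) (y : Coh.HH X (Rn I M n) p) :
    jn I M p (n + 1) (Canon.HHlin A (μ I M a n) p y) = (a : A) • jn I M p n y := by
  change Canon.HHlin A _ p (Canon.HHlin A _ p y) = _
  rw [← HHlin_comp, μ_ι, HHlin_comp]
  rfl

variable {I} in
/-- the `I`-good filtration statement -/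
theorem K_succ_eq {r : ℕ} (a : Fin r → I) {c : ℕ}
    (hc : GrHB.GenFrom (TH A (reesObj I M a) p) c) (k : ℕ) (hk : c ≤ k + 1) :
    K I M p (k + 1) = I • K I M p k := by
  apply le_antisymm
  · intro x hx
    rw [K_eq_range] at hx
    obtain ⟨y, rfl⟩ := hx
    obtain ⟨z, hz⟩ := hc (k + 1) hk y
    have hz' : y = ∑ i, Canon.HHlin A (μ I M (a i) (k + 1)) p (z i) := hz
    rw [hz', map_sum]
    refine Submodule.sum_mem _ fun i _ => ?_
    rw [jn_mul]
    apply Submodule.smul_mem_smul (a i).2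
    rw [K_eq_range]
    exact ⟨_, rfl⟩
  · rw [Submodule.smul_le]
    intro b hb x hx
    rw [K_eq_range] at hx ⊢
    obtain ⟨y, rfl⟩ := hx
    exact ⟨Canon.HHlin A (μ I M ⟨b, hb⟩ (k + 1)) p y, jn_mul I M p (k + 1) ⟨b, hb⟩ y⟩

variable {I} in
theorem K_add_le {r : ℕ} (a : Fin r → I) {c : ℕ}
    (hc : GrHB.GenFrom (TH A (reesObj I M a) p) c) (m : ℕ) :
    K I M p (c + m) ≤ I ^ m • (⊤ : Submodule A (Coh.HH X M p)) := by
  induction m with
  | zero => simp
  | succ m ih =>
    have h1 : K I M p (c + m + 1) = I • K I M p (c + m) := K_succ_eq M p a hc (c + m) (by omega)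
    change K I M p (c + m + 1) ≤ _
    rw [h1, pow_succ', mul_smul]
    exact Submodule.smul_mono le_rfl ih

section Main

variable [IsNoetherianRing A] [IsProper (X ↘ Spec (CommRingCat.of A))]

/-- generators of `I` -/
lemma exists_gens : ∃ (r : ℕ) (a : Fin r → I), Ideal.span (Set.range fun i => (a i : A)) = I := by
  obtain ⟨r, g, hg⟩ := Submodule.fg_iff_exists_fin_generating_family.1 (IsNoetherian.noetherian I)
  have hmem : ∀ i, g i ∈ I := fun i => by
    rw [← hg]; exact Submodule.subset_span ⟨i, rfl⟩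
  exact ⟨r, fun i => ⟨g i, hmem i⟩, hg⟩

theorem s4461 (hM : Coh.IsCoh M) : ∃ k₀ : ℕ, ∀ k : ℕ, k₀ ≤ k →
    ((Formal.toHHmodPow I M p (k + 1)).ker : Set (Coh.HH X M p)) =
      ((I • Submodule.span A ((Formal.toHHmodPow I M p k).ker : Set (Coh.HH X M p)) :
        Submodule A (Coh.HH X M p)) : Set (Coh.HH X M p)) := by
  haveI := isNoetherian_X A X
  obtain ⟨r, a, ha⟩ := exists_gens I
  obtain ⟨c, hc⟩ := reesFin M hM a ha p
  refine ⟨c, fun k hk => ?_⟩
  rw [← coe_K, ← coe_K, Submodule.span_eq, K_succ_eq M p a hc k (by omega)]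

theorem s0057 (hM : Coh.IsCoh M) : ∃ c : ℕ, ∀ n : ℕ, c ≤ n →
    ((Formal.toHHmodPow I M p n).ker : Set (Coh.HH X M p)) ⊆
      ((I ^ (n - c) • (⊤ : Submodule A (Coh.HH X M p)) : Submodule A (Coh.HH X M p)) :
        Set (Coh.HH X M p)) := by
  haveI := isNoetherian_X A X
  obtain ⟨r, a, ha⟩ := exists_gens I
  obtain ⟨c, hc⟩ := reesFin M hM a ha p
  refine ⟨c, fun n hn => ?_⟩
  rw [← coe_K]
  obtain ⟨m, rfl⟩ : ∃ m, n = c + m := ⟨n - c, by omega⟩
  rw [Nat.add_sub_cancel_left]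
  exact K_add_le M p a hc m

end Main

end Groth.Agent.Helper1.FF
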