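import Mathlib
import Groth.Prelude.Def_Algz
import Groth.Agent.Helper1.FormA

/-!
# Coherent formal modules: transition maps are quotient maps; completions
-/

set_option autoImplicit false
set_option linter.style.haveILetI false

namespace Groth.Agent.Helper1.Form

open CategoryTheory CategoryTheory.Limits AlgebraicGeometry Opposite

universe u

variable {A : Type u} [CommRing A] {X : Scheme.{u}} [X.Over (Spec (CommRingCat.of A))]
variable (I : Ideal A)

/-- all one-step transition maps are quotient maps -/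
def HasQuotTrans (G : ℕᵒᵖ ⥤ X.Modules) : Prop :=
  ∀ n : ℕ, IsQuot (I ^ (n + 1)) (G.map (homOfLE (Nat.le_succ n)).op)

variable {I}

lemma hasQuotTrans_of_isCohFormal {G : ℕᵒᵖ ⥤ X.Modules} (hG : Formal.IsCohFormal I G) :
    HasQuotTrans I G := fun n => by
  obtain ⟨h, hi⟩ := hG.2.2 n
  exact IsQuot.of_isIso h hi

lemma isCohFormal_iff (G : ℕᵒᵖ ⥤ X.Modules) :
    Formal.IsCohFormal I G ↔ (∀ n, Coh.IsCoh (G.obj (op n))) ∧
      (∀ n, Formal.KilledBy (I ^ (n + 1)) (G.obj (op n))) ∧ HasQuotTrans I G := by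
  constructor
  · intro h
    exact ⟨h.1, h.2.1, hasQuotTrans_of_isCohFormal h⟩
  · rintro ⟨h1, h2, h3⟩
    exact ⟨h1, h2, fun n => (h3 n).exists_isIso⟩

lemma tr_succ (G : ℕᵒᵖ ⥤ X.Modules) {n m : ℕ} (h : n ≤ m) :
    ARSys.tr G (h.trans (Nat.le_succ m)) = G.map (homOfLE (Nat.le_succ m)).op ≫ ARSys.tr G h := by
  rw [← Functor.map_comp]
  rfl

lemma tr_comp (G : ℕᵒᵖ ⥤ X.Modules) {n m k : ℕ} (h : n ≤ m) (h' : m ≤ k) :
    ARSys.tr G h' ≫ ARSys.tr G h = ARSys.tr G (h.trans h') := by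
  rw [← Functor.map_comp]
  rfl

lemma tr_self (G : ℕᵒᵖ ⥤ X.Modules) (n : ℕ) : ARSys.tr G (le_refl n) = 𝟙 _ := by
  have : (homOfLE (le_refl n)).op = 𝟙 (op n) := rfl
  rw [ARSys.tr, this, G.map_id]

lemma map_eq_tr (G : ℕᵒᵖ ⥤ X.Modules) {a b : ℕᵒᵖ} (f : a ⟶ b) :
    G.map f = ARSys.tr G (leOfHom f.unop) := by
  congr 1

/-- in a coherent formal module (more generally, a system with quotient transition maps whose terms
are killed by the right powers), all transition maps are quotient maps. -/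
theorem isQuot_tr {G : ℕᵒᵖ ⥤ X.Modules} (hG : HasQuotTrans I G)
    (hk : ∀ n, Formal.KilledBy (I ^ (n + 1)) (G.obj (op n))) {n m : ℕ} (h : n ≤ m) :
    IsQuot (I ^ (n + 1)) (ARSys.tr G h) := by
  induction m, h using Nat.le_induction with
  | base =>
    rw [tr_self]
    exact IsQuot.of_isIso_of_killedBy _ (hk n)
  | succ m h ih =>
    have := tr_succ G h
    rw [show ARSys.tr G (Nat.le_succ_of_le h) = _ from this]
    exact IsQuot.comp (Ideal.pow_le_pow_right (by omega)) (hG m) ih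

theorem isQuot_tr_of_isCohFormal {G : ℕᵒᵖ ⥤ X.Modules} (hG : Formal.IsCohFormal I G)
    {n m : ℕ} (h : n ≤ m) : IsQuot (I ^ (n + 1)) (ARSys.tr G h) :=
  isQuot_tr (hasQuotTrans_of_isCohFormal hG) hG.2.1 h

/-- `S9530`-type factorization: a levelwise map from a re-indexed system with quotient transitions
to a system with terms killed by the right powers factors uniquely through the transition maps. -/
theorem exists_unique_factor {F G : ℕᵒᵖ ⥤ X.Modules}
    (hF : ∀ {n m : ℕ} (h : n ≤ m), IsQuot (I ^ (n + 1)) (ARSys.tr F h))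
    (hG : ∀ n, Formal.KilledBy (I ^ (n + 1)) (G.obj (op n)))
    (m : ℕ → ℕ) (hm : Monotone m) (hle : ∀ n : ℕ, n ≤ m n) (π : DerCA.reindex F hm ⟶ F)
    (hπ : ∀ n : ℕ, π.app (op n) = F.map (homOfLE (hle n)).op) (α : DerCA.reindex F hm ⟶ G) :
    ∃! β : F ⟶ G, π ≫ β = α := by
  have hq : ∀ n, IsQuot (I ^ (n + 1)) (π.app (op n)) := fun n => by
    rw [hπ n]; exact hF (hle n)
  let b : ∀ n : ℕ, F.obj (op n) ⟶ G.obj (op n) := fun n =>
    (hq n).desc (α.app (op n)) (kills_of_killedBy_right (hG n) _)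
  have hb : ∀ n, π.app (op n) ≫ b n = α.app (op n) := fun n => (hq n).fac_desc _ _
  have hnat : ∀ {a c : ℕᵒᵖ} (f : a ⟶ c), F.map f ≫ b c.unop = b a.unop ≫ G.map f := by
    intro a c f
    apply (hq a.unop).hom_ext
    have h1 := π.naturality f
    have h2 := α.naturality f
    rw [← Category.assoc, ← h1, Category.assoc, hb, ← Category.assoc, hb, h2]
  refine ⟨⟨fun n => b n.unop, fun a c f => hnat f⟩, ?_, ?_⟩
  · apply NatTrans.ext
    funext ⟨n⟩
    exact hb n
  · intro β' hβ'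
    apply NatTrans.ext
    funext ⟨n⟩
    apply (hq n).hom_ext
    have := congrArg (fun t => t.app (op n)) hβ'
    simp only [NatTrans.comp_app] at this
    rw [this]
    exact (hb n).symm

end Groth.Agent.Helper1.Form
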