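import Mathlib
import Groth.Agent.Helper1.FormB

/-!
# Recognizing completions: compatible quotient maps
-/

set_option autoImplicit false
set_option linter.style.haveILetI false

namespace Groth.Agent.Helper1.Form

open CategoryTheory CategoryTheory.Limits AlgebraicGeometry Opposite

universe u

variable {A : Type u} [CommRing A] {X : Scheme.{u}} [X.Over (Spec (CommRingCat.of A))]
variable {I : Ideal A}

lemma completion_map_succ (M : X.Modules) (n : ℕ) :
    (Formal.completion I M).map (homOfLE (Nat.le_add_right n 1)).op =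
      Formal.modPowTrans I (n + 1) M := by
  unfold Formal.completion
  exact Functor.ofOpSequence_map_homOfLE_succ _ n

/-- if `ρ n : M ⟶ G_n` are compatible quotient maps by `I^(n+1)`, then `(M/I^(n+1)M) ≅ G` -/
theorem exists_completion_iso (M : X.Modules) (G : ℕᵒᵖ ⥤ X.Modules)
    (ρ : ∀ n : ℕ, M ⟶ G.obj (op n)) (hρ : ∀ n, IsQuot (I ^ (n + 1)) (ρ n))
    (hc : ∀ n, ρ (n + 1) ≫ G.map (homOfLE (Nat.le_add_right n 1)).op = ρ n) :
    ∃ e : Formal.completion I M ≅ G,
      ∀ n : ℕ, Formal.modPowπ I (n + 1) M ≫ e.hom.app (op n) = ρ n := by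
  let θ : ∀ n : ℕ, Formal.modPow I (n + 1) M ≅ G.obj (op n) := fun n =>
    (isQuot_modPowπ I (n + 1) M).iso (hρ n)
  have hθ : ∀ n, Formal.modPowπ I (n + 1) M ≫ (θ n).hom = ρ n := fun n =>
    IsQuot.fac_iso_hom _ _
  have key : ∀ n, Formal.modPowTrans I (n + 1) M ≫ (θ n).hom =
      (θ (n + 1)).hom ≫ G.map (homOfLE (Nat.le_add_right n 1)).op := by
    intro n
    apply (isQuot_modPowπ I (n + 1 + 1) M).hom_ext
    rw [← Category.assoc, Formal.modPowπ_trans, hθ n, ← Category.assoc, hθ (n + 1)]
    exact (hc n).symm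
  let t : Formal.completion I M ⟶ G := NatTrans.ofOpSequence (fun n => (θ n).hom) (by
    intro n
    rw [completion_map_succ]
    exact key n)
  haveI : ∀ n : ℕᵒᵖ, IsIso (t.app n) := fun n => by
    change IsIso (θ n.unop).hom
    infer_instance
  haveI : IsIso t := NatIso.isIso_of_isIso_app t
  exact ⟨asIso t, fun n => hθ n⟩

end Groth.Agent.Helper1.Form
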