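import Mathlib
import Groth.Agent.Helper1.GrHB

/-!
# Uniform Mittag-Leffler vanishing for a finitely generated graded module with torsion pieces
-/

set_option autoImplicit false
set_option linter.style.haveILetI false

namespace Groth.Agent.Helper1.GrHB

universe u v

variable {A : Type u} [CommRing A] (I : Ideal A) {r : ℕ} (a : Fin r → A)
  {E : ℕ → Type v} [∀ n, AddCommGroup (E n)] [∀ n, Module A (E n)]
  (μ : Fin r → ∀ n, E n →ₗ[A] E (n + 1))
  (Λ : ∀ n k, n ≤ k → (E k →ₗ[A] E n))
  (Q : ∀ n, Submodule A (E n))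

theorem uniform_zero (ha : ∀ i, a i ∈ I)
    (h0 : ∀ n (y : E n), Λ n n le_rfl y = y)
    (h1 : ∀ n k (h : n ≤ k) (y : E (k + 1)),
      Λ n (k + 1) (h.trans (Nat.le_succ k)) y = Λ n k h (Λ k (k + 1) (Nat.le_succ k) y))
    (hΛμ : ∀ i n (y : E n), Λ n (n + 1) (Nat.le_succ n) (μ i n y) = a i • y)
    (hQΛ : ∀ n, ∀ y ∈ Q (n + 1), Λ n (n + 1) (Nat.le_succ n) y ∈ Q n)
    (hQkill : ∀ n, ∀ b ∈ I ^ n, ∀ y ∈ Q n, b • y = 0)
    {c : ℕ} (hgen : SubGenFrom μ Q c) :
    ∀ n k (h : n ≤ k), n + 2 * c ≤ k → ∀ y ∈ Q k, Λ n k h y = 0 := by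
  -- composition law
  have hcomp : ∀ n k l (h : n ≤ k) (h' : k ≤ l) (y : E l),
      Λ n l (h.trans h') y = Λ n k h (Λ k l h' y) := by
    intro n k l h h'
    induction l, h' using Nat.le_induction with
    | base => intro y; rw [h0]
    | succ l h' ih =>
      intro y
      rw [h1 n l (h.trans h'), ih, h1 k l h']
  -- `Λ` preserves `Q`
  have hQΛ' : ∀ n k (h : n ≤ k), ∀ y ∈ Q k, Λ n k h y ∈ Q n := by
    intro n k h
    induction k, h using Nat.le_induction with
    | base => intro y hy; rw [h0]; exact hy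
    | succ k h ih =>
      intro y hy
      rw [h1 n k h]
      exact ih _ (hQΛ k y hy)
  -- Step 1: `I^c` kills every `Q n`
  have hkill : ∀ n, ∀ b ∈ I ^ c, ∀ y ∈ Q n, b • y = 0 := by
    intro n
    by_cases hn : n ≤ c
    · intro b hb y hy
      exact hQkill n b (Ideal.pow_le_pow_right hn hb) y hy
    · push_neg at hn
      have hcn : c ≤ n := hn.le
      induction n, hcn using Nat.le_induction with
      | base => exact absurd hn (lt_irrefl _)
      | succ n hcn ih =>
        intro b hb y hy
        have ih' : ∀ b ∈ I ^ c, ∀ y ∈ Q n, b • y = 0 := by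
          by_cases hn' : c < n
          · exact ih hn'
          · have : n = c := by omega
            subst this
            intro b hb y hy
            exact hQkill n b hb y hy
        obtain ⟨z, hz, rfl⟩ := hgen n hcn y hy
        rw [Finset.smul_sum]
        refine Finset.sum_eq_zero fun i _ => ?_
        rw [← map_smul, ih' b hb (z i) (hz i), map_zero]
  -- Step 2
  have hstep : ∀ n, c ≤ n → ∀ k (h : n ≤ k), ∀ y ∈ Q k, Λ n k h y ∈ I ^ (k - n) • Q n := by
    intro n hn k h
    induction k, h using Nat.le_induction with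
    | base =>
      intro y hy
      rw [h0, Nat.sub_self, pow_zero, Ideal.one_eq_top, Submodule.top_smul]
      exact hy
    | succ k h ih =>
      intro y hy
      obtain ⟨z, hz, rfl⟩ := hgen k (hn.trans h) y hy
      rw [h1 n k h, map_sum, map_sum]
      refine Submodule.sum_mem _ fun i _ => ?_
      rw [hΛμ, map_smul]
      have h2 : k + 1 - n = (k - n) + 1 := by omega
      rw [h2, pow_succ', mul_smul]
      exact Submodule.smul_mem_smul (ha i) (ih _ (hz i))
  -- Step 3
  have hzero : ∀ n, c ≤ n → ∀ k (h : n ≤ k), n + c ≤ k → ∀ y ∈ Q k, Λ n k h y = 0 := by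
    intro n hn k h hk y hy
    have h2 := hstep n hn k h y hy
    have h3 : I ^ (k - n) • Q n ≤ ⊥ := by
      rw [Submodule.smul_le]
      intro b hb z hz
      rw [Submodule.mem_bot]
      exact hkill n b (Ideal.pow_le_pow_right (by omega) hb) z hz
    exact (Submodule.mem_bot A).1 (h3 h2)
  -- Step 4
  intro n k h hk y hy
  by_cases hn : c ≤ n
  · exact hzero n hn k h (by omega) y hy
  · push_neg at hn
    have hck : c ≤ k := by omega
    rw [hcomp n c k hn.le hck y, hzero c le_rfl k hck (by omega) y hy, map_zero]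

end Groth.Agent.Helper1.GrHB
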