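import Mathlib
import Groth.Agent.Helper1.FF1
import Groth.Agent.Helper1.GrML
import Groth.Agent.Helper1.FormD

/-!
# Formal functions: the uniform Mittag-Leffler property
-/

set_option autoImplicit false
set_option linter.style.haveILetI false

namespace Groth.Agent.Helper1.FF

open CategoryTheory Limits AlgebraicGeometry Opposite Abelian
open Groth.Agent.Helper1.Form Groth.Agent.Helper1.GrSh Groth.Agent.Helper1.Dev
open Groth.Agent.Helper1.Rees Groth.Agent.Helper1.HHLes Groth.Agent.Helper1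

universe u

variable {A : Type u} [CommRing A] {X : Scheme.{u}} [X.Over (Spec (CommRingCat.of A))]
variable (I : Ideal A) (M : X.Modules) (p : ℕ)

lemma Rι_modPowπ_of_le {n k : ℕ} (h : n ≤ k) : Rι I M k ≫ Formal.modPowπ I n M = 0 := by
  apply Rn_hom_ext
  intro b
  rw [comp_zero, θ_ι_assoc]
  exact (isQuot_modPowπ I n M).kills _ (Ideal.pow_le_pow_right h b.2)

/-- the inclusion `IᵏM ⟶ IⁿM` for `n ≤ k` -/
noncomputable def inclLE {n k : ℕ} (h : n ≤ k) : Rn I M k ⟶ Rn I M n :=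
  liftR I M n (Rι I M k) (Rι_modPowπ_of_le I M h)

@[reassoc (attr := simp)]
lemma inclLE_ι {n k : ℕ} (h : n ≤ k) : inclLE I M h ≫ Rι I M n = Rι I M k := liftR_ι _ _ _ _ _

lemma inclLE_refl (n : ℕ) : inclLE I M (le_refl n) = 𝟙 _ := by
  rw [← cancel_mono (Rι I M n), inclLE_ι, Category.id_comp]

lemma inclLE_comp {n k l : ℕ} (h : n ≤ k) (h' : k ≤ l) :
    inclLE I M h' ≫ inclLE I M h = inclLE I M (h.trans h') := by
  rw [← cancel_mono (Rι I M n), Category.assoc, inclLE_ι, inclLE_ι, inclLE_ι]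

lemma μ_inclLE (a : I) (n : ℕ) :
    μ I M a n ≫ inclLE I M (Nat.le_succ n) = Formal.smulMod A (Rn I M n) (a : A) := by
  rw [← cancel_mono (Rι I M n), Category.assoc, inclLE_ι, μ_ι, smulMod_comp]

/-- the transition map `M/Iᵏ⁺¹M ⟶ M/Iⁿ⁺¹M` of the completion system -/
noncomputable abbrev trLE {n k : ℕ} (h : n ≤ k) :
    Formal.modPow I (k + 1) M ⟶ Formal.modPow I (n + 1) M :=
  (Formal.completion I M).map (homOfLE h).op

lemma modPowπ_trLE {n k : ℕ} (h : n ≤ k) :
    Formal.modPowπ I (k + 1) M ≫ trLE I M h = Formal.modPowπ I (n + 1) M := by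
  induction k, h using Nat.le_induction with
  | base =>
    have : (homOfLE (le_refl n)).op = 𝟙 (op n) := rfl
    change _ ≫ (Formal.completion I M).map _ = _
    rw [this, (Formal.completion I M).map_id]
    exact Category.comp_id _
  | succ k h ih =>
    have h1 : (homOfLE (h.trans (Nat.le_succ k))).op =
        (homOfLE (Nat.le_add_right k 1)).op ≫ (homOfLE h).op := rfl
    change _ ≫ (Formal.completion I M).map _ = _
    rw [h1, (Formal.completion I M).map_comp, completion_map_succ]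
    change Formal.modPowπ I (k + 1 + 1) M ≫ Formal.modPowTrans I (k + 1) M ≫ trLE I M h = _
    rw [← Category.assoc, Formal.modPowπ_trans, ih]

/-- the morphism of short exact sequences `(Iᵏ⁺¹M → M → M/Iᵏ⁺¹M) ⟶ (Iⁿ⁺¹M → M → M/Iⁿ⁺¹M)` -/
noncomputable def sesHom {n k : ℕ} (h : n ≤ k) : sesR I M (k + 1) ⟶ sesR I M (n + 1) where
  τ₁ := inclLE I M (Nat.succ_le_succ h)
  τ₂ := 𝟙 M
  τ₃ := trLE I M h
  comm₁₂ := by
    change inclLE I M _ ≫ Rι I M (n + 1) = Rι I M (k + 1) ≫ 𝟙 M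
    rw [inclLE_ι, Category.comp_id]
  comm₂₃ := by
    change 𝟙 M ≫ Formal.modPowπ I (n + 1) M = Formal.modPowπ I (k + 1) M ≫ trLE I M h
    rw [modPowπ_trLE, Category.id_comp]

/-- the connecting map `H^p(M/IⁿM) → H^{p+1}(IⁿM)` -/
noncomputable abbrev δR (n : ℕ) :
    Coh.HH X (Formal.modPow I n M) p →ₗ[A] Coh.HH X (Rn I M n) (p + 1) :=
  δ A (sesR I M n) (sesR_shortExact I M n) p

/-- the kernel of `H^{p+1}(IⁿM) → H^{p+1}(M)` -/
noncomputable def Qn (n : ℕ) : Submodule A (Coh.HH X (Rn I M n) (p + 1)) :=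
  LinearMap.ker (jn I M (p + 1) n)

lemma Qn_eq_range (n : ℕ) : Qn I M p n = LinearMap.range (δR I M p n) := by
  have h := exact_δ_f A (sesR I M n) (sesR_shortExact I M n) p
  ext x
  exact h x

lemma smul_eq_zero_of_mem_Qn (n : ℕ) (b : A) (hb : b ∈ I ^ n) (y : Coh.HH X (Rn I M n) (p + 1))
    (hy : y ∈ Qn I M p n) : b • y = 0 := by
  rw [Qn_eq_range] at hy
  obtain ⟨z, rfl⟩ := hy
  rw [← map_smul]
  have h1 : b • z = Canon.HHlin A (Formal.smulMod A (Formal.modPow I n M) b) p z := rfl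
  have h2 : Formal.smulMod A (Formal.modPow I n M) b = 0 :=
    (isQuot_modPowπ I n M).killedBy b hb
  rw [h1, h2, HHlin_zero, map_zero]

/-- the transition maps on `H^{p+1}(IⁿM)` -/
noncomputable abbrev ΛR (n k : ℕ) (h : n ≤ k) :
    Coh.HH X (Rn I M k) (p + 1) →ₗ[A] Coh.HH X (Rn I M n) (p + 1) :=
  Canon.HHlin A (inclLE I M h) (p + 1)

variable {I}

theorem uniform_ML [IsNoetherianRing A] [IsProper (X ↘ Spec (CommRingCat.of A))]
    (hM : Coh.IsCoh M) : ∃ c : ℕ, ∀ n k (h : n ≤ k), n + c ≤ k →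
      ∀ y ∈ Qn I M p k, ΛR I M p n k h y = 0 := by
  haveI := isNoetherian_X A X
  obtain ⟨r, a, ha⟩ := exists_gens I
  obtain ⟨c₀, hc₀⟩ := reesFin M hM a ha (p + 1)
  have hfin : ∀ n, Module.Finite A (Coh.HH X ((reesObj I M a).G n) (p + 1)) := fun n =>
    Groth.Agent.S0002.result A X _ (isCoh_Rn I n M hM) (p + 1)
  obtain ⟨c, hc⟩ := GrHB.subGenFrom (comm_TH A (reesObj I M a) (p + 1)) hfin hc₀
    (W := Qn I M p) (by
      intro i n y hy
      change jn I M (p + 1) (n + 1) (Canon.HHlin A (μ I M (a i) n) (p + 1) y) = 0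
      rw [jn_mul]
      have : jn I M (p + 1) n y = 0 := hy
      rw [this, smul_zero])
  refine ⟨2 * c, ?_⟩
  have f0 : ∀ n (y : Coh.HH X (Rn I M n) (p + 1)), ΛR I M p n n le_rfl y = y := by
    intro n y
    change Canon.HHlin A (inclLE I M (le_refl n)) (p + 1) y = y
    rw [inclLE_refl, HHlin_id]
  have f1 : ∀ n k (h : n ≤ k) (y : Coh.HH X (Rn I M (k + 1)) (p + 1)),
      ΛR I M p n (k + 1) (h.trans (Nat.le_succ k)) y =
        ΛR I M p n k h (ΛR I M p k (k + 1) (Nat.le_succ k) y) := by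
    intro n k h y
    change Canon.HHlin A _ (p + 1) y = Canon.HHlin A _ (p + 1) (Canon.HHlin A _ (p + 1) y)
    rw [← HHlin_comp, inclLE_comp]
  have f2 : ∀ i n (y : Coh.HH X (Rn I M n) (p + 1)),
      ΛR I M p n (n + 1) (Nat.le_succ n) (Canon.HHlin A (μ I M (a i) n) (p + 1) y) =
        (a i : A) • y := by
    intro i n y
    change Canon.HHlin A _ (p + 1) (Canon.HHlin A (μ I M (a i) n) (p + 1) y) = _
    rw [← HHlin_comp, μ_inclLE]
    rfl
  have f3 : ∀ n, ∀ y ∈ Qn I M p (n + 1), ΛR I M p n (n + 1) (Nat.le_succ n) y ∈ Qn I M p n := by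
    intro n y hy
    change Canon.HHlin A (Rι I M n) (p + 1) (Canon.HHlin A (inclLE I M _) (p + 1) y) = 0
    rw [← HHlin_comp, inclLE_ι]
    exact hy
  exact GrHB.uniform_zero I (fun i => (a i : A)) (TH A (reesObj I M a) (p + 1))
    (ΛR I M p) (Qn I M p) (fun i => (a i).2) f0 f1 f2 f3
    (smul_eq_zero_of_mem_Qn I M p) hc

end Groth.Agent.Helper1.FF
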