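import Mathlib
import Groth.Agent.Helper1.FF2

/-!
# Formal functions: the images of `H^p(M/Iᵏ⁺¹M) → H^p(M/Iⁿ⁺¹M)` stabilize uniformly
-/

set_option autoImplicit false
set_option linter.style.haveILetI false

namespace Groth.Agent.Helper1.FF

open CategoryTheory Limits AlgebraicGeometry Opposite Abelian
open Groth.Agent.Helper1.Form Groth.Agent.Helper1.GrSh Groth.Agent.Helper1.Dev
open Groth.Agent.Helper1.Rees Groth.Agent.Helper1.HHLes Groth.Agent.Helper1

universe u

variable {A : Type u} [CommRing A] {X : Scheme.{u}} [X.Over (Spec (CommRingCat.of A))]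
variable (I : Ideal A) (M : X.Modules) (p : ℕ)

/-- the transition maps on `H^p(M/Iⁿ⁺¹M)` -/
noncomputable abbrev trH {n k : ℕ} (h : n ≤ k) :
    Coh.HH X (Formal.modPow I (k + 1) M) p →ₗ[A] Coh.HH X (Formal.modPow I (n + 1) M) p :=
  Canon.HHlin A (trLE I M h) p

/-- `H^p(M) → H^p(M/Iⁿ⁺¹M)`, linear -/
noncomputable abbrev θH (n : ℕ) : Coh.HH X M p →ₗ[A] Coh.HH X (Formal.modPow I (n + 1) M) p :=
  Canon.HHlin A (Formal.modPowπ I (n + 1) M) p

lemma trH_θH {n k : ℕ} (h : n ≤ k) (x : Coh.HH X M p) :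
    trH I M p h (θH I M p k x) = θH I M p n x := by
  change Canon.HHlin A _ p (Canon.HHlin A _ p x) = _
  rw [← HHlin_comp, modPowπ_trLE]

lemma θH_apply (n : ℕ) (x : Coh.HH X M p) : θH I M p n x = Formal.toHHmodPow I M p n x := rfl

variable {I}

/-- the uniform Mittag-Leffler statement -/
theorem range_trH [IsNoetherianRing A] [IsProper (X ↘ Spec (CommRingCat.of A))]
    (hM : Coh.IsCoh M) : ∃ c : ℕ, ∀ n k (h : n ≤ k), n + c ≤ k →
      LinearMap.range (trH I M p h) = LinearMap.range (θH I M p n) := by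
  obtain ⟨c, hc⟩ := uniform_ML (I := I) M p hM
  refine ⟨c, fun n k h hk => le_antisymm ?_ ?_⟩
  · rintro _ ⟨x, rfl⟩
    have h1 : δR I M p (n + 1) (trH I M p h x) =
        ΛR I M p (n + 1) (k + 1) (Nat.succ_le_succ h) (δR I M p (k + 1) x) :=
      δ_naturality A (sesR_shortExact I M (k + 1)) (sesR_shortExact I M (n + 1))
        (sesHom I M h) p x
    have h2 : δR I M p (k + 1) x ∈ Qn I M p (k + 1) := by
      rw [Qn_eq_range]; exact ⟨x, rfl⟩
    rw [hc (n + 1) (k + 1) (Nat.succ_le_succ h) (by omega) _ h2] at h1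
    exact (exact_g_δ A (sesR I M (n + 1)) (sesR_shortExact I M (n + 1)) p _).1 h1
  · rintro _ ⟨x, rfl⟩
    exact ⟨θH I M p k x, trH_θH I M p h x⟩

theorem s0058 [IsNoetherianRing A] [IsProper (X ↘ Spec (CommRingCat.of A))]
    (hM : Coh.IsCoh M) : ∃ c : ℕ, ∀ (n k : ℕ) (h : n ≤ k), n + c ≤ k →
      Set.range (Sheaf.H.map ((SheafOfModules.toSheaf X.ringCatSheaf).map
        ((Formal.completion I M).map (homOfLE h).op)) p) =
          Set.range (Formal.toHHmodPow I M p n) := by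
  obtain ⟨c, hc⟩ := range_trH (I := I) M p hM
  refine ⟨c, fun n k h hk => ?_⟩
  have h1 := hc n k h hk
  ext y
  have h2 : y ∈ LinearMap.range (trH I M p h) ↔ y ∈ LinearMap.range (θH I M p n) := by rw [h1]
  exact h2

end Groth.Agent.Helper1.FF
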