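import Mathlib

/-!
# Comparing the adic completion of a module with an inverse limit
-/

set_option autoImplicit false
set_option linter.style.haveILetI false

namespace Groth.Agent.Helper1.FFLim

open AdicCompletion (AdicCauchySequence)

universe u v

variable {A : Type u} [CommRing A] (I : Ideal A) {H : Type v} [AddCommGroup H] [Module A H]
  {E : ℕ → Type v} [∀ n, AddCommGroup (E n)] [∀ n, Module A (E n)]
  (θ : ∀ n, H →ₗ[A] E n) (tr : ∀ n, E (n + 1) →ₗ[A] E n)
  (L : AddSubgroup (∀ n, E n))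

section

variable (hL : ∀ x : ∀ n, E n, x ∈ L ↔ ∀ n, tr n (x (n + 1)) = x n)
  (c1 : ∀ n (x : H), tr n (θ (n + 1) x) = θ n x)
  (c2 : ∀ n, ∀ b ∈ I ^ (n + 1), ∀ e : E n, b • e = 0)

include c2 in
lemma smul_top_le_ker (n : ℕ) : I ^ (n + 1) • (⊤ : Submodule A H) ≤ LinearMap.ker (θ n) := by
  rw [Submodule.smul_le]
  intro b hb x _
  rw [LinearMap.mem_ker, map_smul]
  exact c2 n b hb _

/-- `θ n` descends to `H/Iⁿ⁺¹H` -/
noncomputable def θbar (n : ℕ) : H ⧸ (I ^ (n + 1) • ⊤ : Submodule A H) →ₗ[A] E n :=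
  Submodule.liftQ _ (θ n) (smul_top_le_ker I θ c2 n)

include c1 in
lemma ker_le_ker {n k : ℕ} (h : n ≤ k) : LinearMap.ker (θ k) ≤ LinearMap.ker (θ n) := by
  induction k, h using Nat.le_induction with
  | base => exact le_rfl
  | succ k h ih =>
    refine le_trans ?_ ih
    intro x hx
    rw [LinearMap.mem_ker] at hx ⊢
    rw [← c1, hx, map_zero]

include c2 in
lemma θ_cauchy (g : AdicCauchySequence I H) (n : ℕ) : θ n (g (n + 2)) = θ n (g (n + 1)) := by
  have h1 : g (n + 1) ≡ g (n + 2) [SMOD (I ^ (n + 1) • ⊤ : Submodule A H)] :=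
    g.property (Nat.le_succ (n + 1))
  have h2 : g (n + 1) - g (n + 2) ∈ LinearMap.ker (θ n) :=
    smul_top_le_ker I θ c2 n ((SModEq.sub_mem).1 h1)
  rw [LinearMap.mem_ker, map_sub, sub_eq_zero] at h2
  exact h2.symm

/-- the comparison map -/
noncomputable def Φ : AdicCompletion I H →+ (∀ n, E n) where
  toFun f n := θbar I θ c2 n (f.val (n + 1))
  map_zero' := by funext n; simp
  map_add' f g := by funext n; simp [AdicCompletion.val_add_apply]

lemma Φ_mk (g : AdicCauchySequence I H) (n : ℕ) :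
    Φ I θ c2 (AdicCompletion.mk I H g) n = θ n (g (n + 1)) := rfl

include hL c1 c2 in
lemma Φ_mem (f : AdicCompletion I H) : Φ I θ c2 f ∈ L := by
  obtain ⟨g, rfl⟩ := AdicCompletion.mk_surjective I H f
  rw [hL]
  intro n
  rw [Φ_mk, Φ_mk, c1]
  exact θ_cauchy I θ c2 g n

variable {c : ℕ} (c3 : ∀ n, c ≤ n → LinearMap.ker (θ n) ≤ I ^ (n - c) • (⊤ : Submodule A H))

include c2 c3 in
lemma Φ_injective : Function.Injective (Φ I θ c2) := by
  rw [injective_iff_map_eq_zero]
  intro f hf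
  obtain ⟨g, rfl⟩ := AdicCompletion.mk_surjective I H f
  apply AdicCompletion.mk_zero_of
  refine ⟨0, fun n _ => ⟨n + c + 1, by omega, n, le_rfl, ?_⟩⟩
  have h1 : θ (n + c) (g (n + c + 1)) = 0 := by
    have := congrFun hf (n + c)
    rwa [Φ_mk] at this
  have h2 := c3 (n + c) (by omega) h1
  rwa [Nat.add_sub_cancel] at h2

include hL c1 c2 c3 in
lemma Φ_surjective (c4 : ∀ x ∈ L, ∀ n, x n ∈ LinearMap.range (θ n)) (x : ∀ n, E n) (hx : x ∈ L) :
    ∃ f, Φ I θ c2 f = x := by
  choose h hh using c4 x hx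
  have hx' := (hL x).1 hx
  -- successive differences
  have hd : ∀ n, h (n + 1) - h n ∈ LinearMap.ker (θ n) := by
    intro n
    rw [LinearMap.mem_ker, map_sub, hh, ← c1, hh, hx', sub_self]
  -- `θ n (h k) = x n` for `k ≥ n`
  have hk : ∀ n k, n ≤ k → θ n (h k) = x n := by
    intro n k hnk
    induction k, hnk using Nat.le_induction with
    | base => exact hh n
    | succ k hnk ih =>
      have h1 := ker_le_ker θ tr c1 hnk (hd k)
      rw [LinearMap.mem_ker, map_sub, sub_eq_zero] at h1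
      rw [h1, ih]
  let g : AdicCauchySequence I H := AdicCauchySequence.mk I H (fun m => h (m + c)) (by
    intro m
    have h1 := c3 (m + c) (by omega) (hd (m + c))
    rw [Nat.add_sub_cancel] at h1
    rw [SModEq.sub_mem]
    have h2 : h (m + c) - h (m + 1 + c) = -(h (m + c + 1) - h (m + c)) := by
      rw [neg_sub]; congr 2; omega
    rw [h2]
    exact Submodule.neg_mem _ h1)
  refine ⟨AdicCompletion.mk I H g, ?_⟩
  funext n
  rw [Φ_mk]
  exact hk n (n + 1 + c) (by omega)

include hL c1 c2 c3 in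
/-- the completion of `H` is the inverse limit of the `E n` -/
theorem nonempty_addEquiv (c4 : ∀ x ∈ L, ∀ n, x n ∈ LinearMap.range (θ n)) :
    Nonempty (AdicCompletion I H ≃+ L) := by
  let Φ' : AdicCompletion I H →+ L :=
    (Φ I θ c2).codRestrict L (Φ_mem I θ tr L hL c1 c2)
  refine ⟨AddEquiv.ofBijective Φ' ⟨?_, ?_⟩⟩
  · intro f f' hff
    apply Φ_injective I θ c2 c3
    exact congrArg Subtype.val hff
  · rintro ⟨x, hx⟩
    obtain ⟨f, hf⟩ := Φ_surjective I θ tr L hL c1 c2 c3 c4 x hx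
    exact ⟨f, Subtype.ext hf⟩

include hL c1 c2 c3 in
/-- if `H` is already complete, the canonical map to the inverse limit is bijective -/
theorem bijective_of_isAdicComplete [IsAdicComplete I H]
    (c4 : ∀ x ∈ L, ∀ n, x n ∈ LinearMap.range (θ n)) (Ψ : H →+ L)
    (hΨ : ∀ x n, (Ψ x).1 n = θ n x) : Function.Bijective Ψ := by
  have hof : Function.Bijective (AdicCompletion.of I H) :=
    AdicCompletion.of_bijective_iff.2 inferInstance
  have key : ∀ x, (Ψ x).1 = Φ I θ c2 (AdicCompletion.of I H x) := by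
    intro x
    funext n
    rw [hΨ]
    rfl
  constructor
  · intro x y hxy
    apply hof.1
    apply Φ_injective I θ c2 c3
    rw [← key, ← key, hxy]
  · rintro ⟨y, hy⟩
    obtain ⟨f, hf⟩ := Φ_surjective I θ tr L hL c1 c2 c3 c4 y hy
    obtain ⟨x, rfl⟩ := hof.2 f
    exact ⟨x, Subtype.ext ((key x).trans hf)⟩

end

end Groth.Agent.Helper1.FFLim
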