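import Mathlib
import Groth.Agent.Helper1.FF3
import Groth.Agent.Helper1.FFLim

/-!
# The theorem on formal functions
-/

set_option autoImplicit false
set_option linter.style.haveILetI false

namespace Groth.Agent.Helper1.FF

open CategoryTheory Limits AlgebraicGeometry Opposite Abelian
open Groth.Agent.Helper1.Form Groth.Agent.Helper1.GrSh Groth.Agent.Helper1.Dev
open Groth.Agent.Helper1.Rees Groth.Agent.Helper1.HHLes Groth.Agent.Helper1

universe u

section Complete

variable {R : Type*} [CommRing R] (I : Ideal R) (N : Type*) [AddCommGroup N] [Module R N]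

/-- a finite module over a Noetherian adically complete ring is adically complete -/
theorem isAdicComplete_of_finite [IsNoetherianRing R] [IsAdicComplete I R] [Module.Finite R N] :
    IsAdicComplete I N := by
  haveI : IsHausdorff I N := IsHausdorff.of_le_jacobson I N (IsAdicComplete.le_jacobson_bot I)
  rw [isAdicComplete_iff]
  refine ⟨inferInstance, ?_⟩
  rw [← AdicCompletion.of_surjective_iff]
  intro y
  obtain ⟨t, rfl⟩ := AdicCompletion.ofTensorProduct_surjective_of_finite I N y
  induction t using TensorProduct.induction_on with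
  | zero => exact ⟨0, by simp⟩
  | tmul r x =>
    obtain ⟨a, rfl⟩ := AdicCompletion.of_surjective I R r
    refine ⟨a • x, ?_⟩
    rw [AdicCompletion.ofTensorProduct_tmul]
    ext n
    rw [AdicCompletion.smul_eval]
    rfl
  | add s t hs ht =>
    obtain ⟨a, ha⟩ := hs
    obtain ⟨b, hb⟩ := ht
    exact ⟨a + b, by rw [map_add, map_add, ha, hb]⟩

end Complete

variable {A : Type u} [CommRing A] {X : Scheme.{u}} [X.Over (Spec (CommRingCat.of A))]
variable (I : Ideal A) (M : X.Modules) (p : ℕ)

/-- the one-step transition maps on `H^p(M/Iⁿ⁺¹M)`, linear -/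
noncomputable abbrev trOne (n : ℕ) :
    Formal.HHmodPow I M p (n + 1) →ₗ[A] Formal.HHmodPow I M p n :=
  Canon.HHlin A (Formal.modPowTrans I (n + 1) M) p

lemma trOne_apply (n : ℕ) (x : Formal.HHmodPow I M p (n + 1)) :
    trOne I M p n x = Formal.HHmodPowTrans I M p n x := rfl

lemma mem_HHlim (x : ∀ n, Formal.HHmodPow I M p n) :
    x ∈ Formal.HHlim I M p ↔ ∀ n, trOne I M p n (x (n + 1)) = x n := Iff.rfl

lemma trOne_θH (n : ℕ) (x : Coh.HH X M p) : trOne I M p n (θH I M p (n + 1) x) = θH I M p n x := by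
  change Canon.HHlin A _ p (Canon.HHlin A _ p x) = _
  rw [← HHlin_comp, Formal.modPowπ_trans]

lemma smul_HHmodPow (n : ℕ) (b : A) (hb : b ∈ I ^ (n + 1)) (e : Formal.HHmodPow I M p n) :
    b • e = 0 := by
  have h1 : b • e = Canon.HHlin A (Formal.smulMod A (Formal.modPow I (n + 1) M) b) p e := rfl
  have h2 : Formal.smulMod A (Formal.modPow I (n + 1) M) b = 0 :=
    (isQuot_modPowπ I (n + 1) M).killedBy b hb
  rw [h1, h2, HHlin_zero]

lemma trLE_succ {n k : ℕ} (h : n ≤ k) :
    trLE I M (h.trans (Nat.le_succ k)) = Formal.modPowTrans I (k + 1) M ≫ trLE I M h := by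
  have h1 : (homOfLE (h.trans (Nat.le_succ k))).op =
      (homOfLE (Nat.le_add_right k 1)).op ≫ (homOfLE h).op := rfl
  change (Formal.completion I M).map _ = _
  rw [h1, (Formal.completion I M).map_comp, completion_map_succ]
  rfl

lemma trH_of_mem_HHlim (x : ∀ n, Formal.HHmodPow I M p n) (hx : x ∈ Formal.HHlim I M p)
    {n k : ℕ} (h : n ≤ k) : trH I M p h (x k) = x n := by
  induction k, h using Nat.le_induction with
  | base =>
    have : (homOfLE (le_refl n)).op = 𝟙 (op n) := rfl
    change Canon.HHlin A ((Formal.completion I M).map _) p (x n) = x n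
    rw [this, (Formal.completion I M).map_id]
    exact HHlin_id A _ p (x n)
  | succ k h ih =>
    change Canon.HHlin A (trLE I M (h.trans (Nat.le_succ k))) p (x (k + 1)) = x n
    rw [trLE_succ, HHlin_comp]
    have := (mem_HHlim I M p x).1 hx k
    change Canon.HHlin A (Formal.modPowTrans I (k + 1) M) p (x (k + 1)) = x k at this
    rw [this]
    exact ih

variable [IsNoetherianRing A] [IsProper (X ↘ Spec (CommRingCat.of A))]

theorem s0059 (hM : Coh.IsCoh M) :
    Nonempty (AdicCompletion I (Coh.HH X M p) ≃+ Formal.HHlim I M p) := by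
  haveI := isNoetherian_X A X
  obtain ⟨r, a, ha⟩ := exists_gens I
  obtain ⟨c, hc⟩ := reesFin M hM a ha p
  obtain ⟨c', hc'⟩ := range_trH (I := I) M p hM
  refine FFLim.nonempty_addEquiv I (θH I M p) (trOne I M p) (Formal.HHlim I M p)
    (mem_HHlim I M p) (trOne_θH I M p) (smul_HHmodPow I M p) (c := c) ?_ ?_
  · intro n hn
    obtain ⟨m, rfl⟩ : ∃ m, n = c + m := ⟨n - c, by omega⟩
    rw [Nat.add_sub_cancel_left]
    exact K_add_le M p a hc m
  · intro x hx n
    rw [← hc' n (n + c') (Nat.le_add_right n c') le_rfl]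
    exact ⟨x (n + c'), trH_of_mem_HHlim I M p x hx _⟩

theorem s0003 [IsAdicComplete I A] (hM : Coh.IsCoh M) :
    Function.Bijective (Formal.toHHlim I M p) := by
  haveI := isNoetherian_X A X
  haveI : Module.Finite A (Coh.HH X M p) := Groth.Agent.S0002.result A X M hM p
  haveI : IsAdicComplete I (Coh.HH X M p) := isAdicComplete_of_finite I _
  obtain ⟨r, a, ha⟩ := exists_gens I
  obtain ⟨c, hc⟩ := reesFin M hM a ha p
  obtain ⟨c', hc'⟩ := range_trH (I := I) M p hM
  refine FFLim.bijective_of_isAdicComplete I (θH I M p) (trOne I M p) (Formal.HHlim I M p)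
    (mem_HHlim I M p) (trOne_θH I M p) (smul_HHmodPow I M p) (c := c) ?_ ?_
    (Formal.toHHlim I M p) (fun x n => rfl)
  · intro n hn
    obtain ⟨m, rfl⟩ : ∃ m, n = c + m := ⟨n - c, by omega⟩
    rw [Nat.add_sub_cancel_left]
    exact K_add_le M p a hc m
  · intro x hx n
    rw [← hc' n (n + c') (Nat.le_add_right n c') le_rfl]
    exact ⟨x (n + c'), trH_of_mem_HHlim I M p x hx _⟩

end Groth.Agent.Helper1.FF
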