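import Groth.Agent.Helper1.FibDimVan3
import Groth.Agent.Helper1.StalkBC5
import Groth.Agent.Helper1.Dev6
import Groth.Agent.Helper1.RpCmpNat
import Groth.Agent.S0002
import Groth.Agent.S0059

set_option autoImplicit false

/-!
# Vanishing of the stalk of `R^p f_* F` above the fibre dimension
-/

namespace Groth.Agent.Helper1.FibDimVan

open CategoryTheory Limits AlgebraicGeometry Opposite TopologicalSpace Coherent
open Groth.Agent.Helper4.GV

universe u

theorem main {X Y : Scheme.{u}} (f : X ⟶ Y)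
    [IsProper f] [IsLocallyNoetherian Y] [HasInjectiveResolutions X.Modules]
    (y : Y) (d : ℕ) (hd : topologicalKrullDim ↥(f.fiber y) ≤ d)
    (M : X.Modules) (hM : Coh.IsCoh M) (p : ℕ) (hp : d < p)
    (X₁ : Scheme.{u}) [X₁.Over (Spec (CommRingCat.of (Y.presheaf.stalk y)))] (g : X₁ ⟶ X)
    (hsq : IsPullback g (X₁ ↘ Spec (CommRingCat.of (Y.presheaf.stalk y))) f (Y.fromSpecStalk y)) :
    Limits.IsZero (TopCat.Presheaf.stalk ((Coh.RpushAb f p).obj (Coh.toAb M)).obj y) := by
  haveI : Coh.IsQCoh M := hM.1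
  haveI : IsNoetherianRing (Y.presheaf.stalk y) := inferInstance
  haveI : IsProper (X₁ ↘ Spec (CommRingCat.of (Y.presheaf.stalk y))) :=
    MorphismProperty.of_isPullback (P := @IsProper) hsq inferInstance
  haveI : IsLocallyNoetherian X₁ :=
    LocallyOfFiniteType.isLocallyNoetherian (X₁ ↘ Spec (CommRingCat.of (Y.presheaf.stalk y)))
  haveI : CompactSpace X₁ :=
    QuasiCompact.compactSpace_of_compactSpace (X₁ ↘ Spec (CommRingCat.of (Y.presheaf.stalk y)))
  haveI : IsNoetherian X₁ := {}
  haveI hNS : NoetherianSpace X₁ := inferInstance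
  haveI : NoetherianSpace ↑X₁.toTopCat := hNS
  have hF₁ : Coh.IsCoh ((Scheme.Modules.pullback g).obj M) :=
    Groth.Agent.Helper1.Dev.isCoh_pullback g M hM
  obtain ⟨e⟩ := Groth.Agent.Helper1.StalkBC.nonempty_stalk_Rpush_equiv f M y p X₁ g hsq
  haveI hfin : Module.Finite (Y.presheaf.stalk y)
      (Coh.HH X₁ ((Scheme.Modules.pullback g).obj M) p) :=
    Groth.Agent.S0002.result (Y.presheaf.stalk y) X₁ _ hF₁ p
  obtain ⟨φ⟩ := Groth.Agent.S0059.result (Y.presheaf.stalk y)
    (IsLocalRing.maximalIdeal (Y.presheaf.stalk y)) X₁ _ hF₁ p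
  -- the closed fibre is closed
  have hcl : IsClosed (closedFibre (Y.presheaf.stalk y) (X₁ := X₁)) :=
    (IsLocalRing.isClosed_singleton_closedPoint (Y.presheaf.stalk y)).preimage
      (X₁ ↘ Spec (CommRingCat.of (Y.presheaf.stalk y))).continuous
  have hk : ∀ k : ℕ, Subsingleton (Formal.HHmodPow (IsLocalRing.maximalIdeal (Y.presheaf.stalk y))
      ((Scheme.Modules.pullback g).obj M) p k) := by
    intro k
    have hkill := (Groth.Agent.Helper1.Form.isQuot_modPowπ
      (IsLocalRing.maximalIdeal (Y.presheaf.stalk y)) (k + 1)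
      ((Scheme.Modules.pullback g).obj M)).killedBy
    have hsupp := suppIn_of_killedBy (Y.presheaf.stalk y) _ (k + 1) hkill
    exact main_aux (X := X₁.toTopCat) ⟨closedFibre (Y.presheaf.stalk y) (X₁ := X₁), hcl⟩ (d + 1)
      (dimLT_closedFibre f y g hsq d hd) _ hsupp p (by omega)
  have hsub : Subsingleton (Formal.HHlim (IsLocalRing.maximalIdeal (Y.presheaf.stalk y))
      ((Scheme.Modules.pullback g).obj M) p) := by
    refine ⟨fun a b => ?_⟩
    apply Subtype.ext
    funext k
    exact (hk k).elim _ _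
  have h1 : Subsingleton (AdicCompletion (IsLocalRing.maximalIdeal (Y.presheaf.stalk y))
      (Coh.HH X₁ ((Scheme.Modules.pullback g).obj M) p)) := φ.toEquiv.subsingleton
  have h2 : Subsingleton (Coh.HH X₁ ((Scheme.Modules.pullback g).obj M) p) :=
    (AdicCompletion.of_injective (I := IsLocalRing.maximalIdeal (Y.presheaf.stalk y))
      (M := Coh.HH X₁ ((Scheme.Modules.pullback g).obj M) p)).subsingleton
  have h3 : Subsingleton (((Coh.Rpush f p).obj M).presheaf.stalk y) := e.toEquiv.subsingleton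
  have h4 : IsZero (TopCat.Presheaf.stalk (Coh.toAb ((Coh.Rpush f p).obj M)).obj y) :=
    @AddCommGrpCat.isZero_of_subsingleton _ h3
  let e' := (Groth.Agent.Helper1.RpCmpNat.iso f p).app M
  exact IsZero.of_iso h4 ((TopCat.Presheaf.stalkFunctor AddCommGrpCat.{u} y).mapIso
    ((sheafToPresheaf _ _).mapIso e'.symm))

end Groth.Agent.Helper1.FibDimVan
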