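import Mathlib
import Groth.Agent.Helper1.FormA
import Groth.Agent.Helper4.SN176
import Groth.Prelude.Def_KLin
import Groth.Agent.Helper9.ClImm1

/-!
# TW1: one step of a tower of thickenings over a ring `A`

`i : Z ⟶ X` a morphism of schemes over `Spec A`, `M` on `X`, `N` on `Z`, and
`u : M ⟶ i_* N` a quotient map modulo an ideal `𝔞` of `A`, where `M` is killed by `𝔞 * J`.
Multiplication by `a ∈ J` on `M` factors through `u`; the kernel of `u` is killed by `J`;
over a second step the multiplications induce maps `i'_* (ker u) ⟶ ker u'` which commute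
and generate.
-/

set_option autoImplicit false
set_option linter.style.haveILetI false
set_option linter.unusedSectionVars false

universe u

open CategoryTheory CategoryTheory.Limits AlgebraicGeometry Opposite

namespace Groth.Agent.Helper1.TW

open Groth.Agent.Helper1.Form Groth.Agent.Helper4.SN

variable {A : Type u} [CommRing A]

section OneStep

lemma smulMod_comp_assoc' {X : Scheme.{u}} [X.Over (Spec (CommRingCat.of A))]
    {M N Q : X.Modules} (f : M ⟶ N) (a : A) (g : N ⟶ Q) :
    Formal.smulMod A M a ≫ f ≫ g = f ≫ Formal.smulMod A N a ≫ g := by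
  rw [← Category.assoc, smulMod_comp, Category.assoc]

variable {X Z : Scheme.{u}} [X.Over (Spec (CommRingCat.of A))] [Z.Over (Spec (CommRingCat.of A))]
  (i : Z ⟶ X) [i.IsOver (Spec (CommRingCat.of A))]

/-- the direct image commutes with multiplication by elements of `A` -/
lemma push_map_smulMod (N : Z.Modules) (a : A) :
    (Scheme.Modules.pushforward i).map (Formal.smulMod A N a) =
      Formal.smulMod A ((Scheme.Modules.pushforward i).obj N) a := by
  rw [smulMod_eq, smulMod_eq, Functor.map_smul, CategoryTheory.Functor.map_id]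

/-- the direct image of a module killed by `J` is killed by `J` -/
lemma killedBy_push {J : Ideal A} {N : Z.Modules} (h : Formal.KilledBy J N) :
    Formal.KilledBy J ((Scheme.Modules.pushforward i).obj N) := by
  intro a ha
  rw [← push_map_smulMod, h a ha, Functor.map_zero]

variable {i} {M : X.Modules} {N : Z.Modules} {u : M ⟶ (Scheme.Modules.pushforward i).obj N}
  {𝔞 : Ideal A} (hu : IsQuot 𝔞 u) {J : Ideal A} (hk : Formal.KilledBy (𝔞 * J) M)

include hk in
lemma kills_smulMod_of_mem (a : A) (ha : a ∈ J) : Kills 𝔞 (Formal.smulMod A M a) := by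
  intro b hb
  rw [← smulMod_comp_eq_smul, ← smulMod_mul]
  exact hk _ (Ideal.mul_mem_mul hb ha)

/-- multiplication by `a ∈ J`, as a map `i_* N ⟶ M` -/
noncomputable def mbar (a : J) : (Scheme.Modules.pushforward i).obj N ⟶ M :=
  hu.desc _ (kills_smulMod_of_mem hk (a : A) a.2)

@[reassoc]
lemma u_mbar (a : J) : u ≫ mbar hu hk a = Formal.smulMod A M (a : A) := hu.fac_desc _ _

@[reassoc]
lemma mbar_u (a : J) :
    mbar hu hk a ≫ u = Formal.smulMod A ((Scheme.Modules.pushforward i).obj N) (a : A) := by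
  haveI := hu.epi
  rw [← cancel_epi u, u_mbar_assoc, smulMod_comp]

include hu hk in
/-- the kernel of `u` is killed by `J` -/
lemma killedBy_kernel : Formal.KilledBy J (kernel u) := by
  intro a ha
  rw [← cancel_mono (kernel.ι u), zero_comp, smulMod_comp, ← u_mbar hu hk ⟨a, ha⟩,
    kernel.condition_assoc, zero_comp]

/-- multiplication by `c ∈ 𝔞`, as a map `M ⟶ ker u` -/
noncomputable def θ (c : 𝔞) : M ⟶ kernel u :=
  kernel.lift u (Formal.smulMod A M (c : A)) (hu.kills _ c.2)

@[reassoc]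
lemma θ_ι (c : 𝔞) : θ hu c ≫ kernel.ι u = Formal.smulMod A M (c : A) := kernel.lift_ι _ _ _

end OneStep

section TwoStep

variable {W X Z : Scheme.{u}} [W.Over (Spec (CommRingCat.of A))]
  [X.Over (Spec (CommRingCat.of A))] [Z.Over (Spec (CommRingCat.of A))]
  {i : Z ⟶ X} [i.IsOver (Spec (CommRingCat.of A))]
  {i' : X ⟶ W} [i'.IsOver (Spec (CommRingCat.of A))]
  {M' : W.Modules} {M : X.Modules} {N : Z.Modules}
  {u : M ⟶ (Scheme.Modules.pushforward i).obj N}
  {u' : M' ⟶ (Scheme.Modules.pushforward i').obj M}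
  {𝔞 𝔞' J : Ideal A} (hu : IsQuot 𝔞 u) (hk : Formal.KilledBy (𝔞 * J) M)
  (hu' : IsQuot 𝔞' u') (hk' : Formal.KilledBy (𝔞' * J) M')

include hu hk in
lemma Tp_aux (a : J) :
    ((Scheme.Modules.pushforward i').map (kernel.ι u) ≫ mbar hu' hk' a) ≫ u' = 0 := by
  rw [Category.assoc, mbar_u, ← push_map_smulMod, ← Functor.map_comp, ← smulMod_comp,
    killedBy_kernel hu hk (a : A) a.2, zero_comp, Functor.map_zero]

/-- the operator `i'_* (ker u) ⟶ ker u'` induced by multiplication by `a ∈ J` -/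
noncomputable def Tp (a : J) : (Scheme.Modules.pushforward i').obj (kernel u) ⟶ kernel u' :=
  kernel.lift u' _ (Tp_aux hu hk hu' hk' a)

@[reassoc]
lemma Tp_ι (a : J) : Tp hu hk hu' hk' a ≫ kernel.ι u' =
    (Scheme.Modules.pushforward i').map (kernel.ι u) ≫ mbar hu' hk' a := kernel.lift_ι _ _ _

/-- `u' ≫ i'_*(θ_c) ≫ T_a` is multiplication by `c * a` into the kernel -/
lemma u_θ_Tp_ι (c : 𝔞) (a : J) :
    u' ≫ (Scheme.Modules.pushforward i').map (θ hu c) ≫ Tp hu hk hu' hk' a ≫ kernel.ι u' =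
      Formal.smulMod A M' ((c : A) * (a : A)) := by
  rw [Tp_ι, ← Functor.map_comp_assoc, θ_ι, push_map_smulMod, ← smulMod_comp_assoc', u_mbar,
    ← smulMod_mul]

include hu hk hu' hk' in
/-- **generation**: the operators `T_a`, for `a` in a generating family of `J`, are jointly
epimorphic when `𝔞' = 𝔞 * J` -/
theorem jointly_epi {s r : ℕ} (c : Fin s → 𝔞) (hc : Ideal.span (Set.range fun l => (c l : A)) = 𝔞)
    (a : Fin r → J) (ha : Ideal.span (Set.range fun j => (a j : A)) = J) (h' : 𝔞' = 𝔞 * J)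
    {Q : W.Modules} (f : kernel u' ⟶ Q) (hf : ∀ j, Tp hu hk hu' hk' (a j) ≫ f = 0) : f = 0 := by
  let b : Fin (s * r) → A := fun k =>
    (c (finProdFinEquiv.symm k).1 : A) * (a (finProdFinEquiv.symm k).2 : A)
  have hb : Ideal.span (Set.range b) = 𝔞' := by
    rw [h', ← hc, ← ha, Ideal.span_mul_span']
    congr 1
    ext x
    constructor
    · rintro ⟨k, rfl⟩
      exact Set.mul_mem_mul ⟨_, rfl⟩ ⟨_, rfl⟩
    · rintro ⟨_, ⟨l, rfl⟩, _, ⟨j, rfl⟩, rfl⟩
      refine ⟨finProdFinEquiv (l, j), ?_⟩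
      simp only [b, Equiv.symm_apply_apply]
  obtain ⟨φ', hφ', hφι⟩ := exists_epi_kernel_of_isQuot b 𝔞' hb hu'
  haveI := hφ'
  rw [← cancel_epi φ', comp_zero]
  apply Sigma.hom_ext
  intro k
  rw [comp_zero]
  have h1 : Sigma.ι (fun _ : Fin (s * r) => M') k ≫ φ' =
      u' ≫ (Scheme.Modules.pushforward i').map (θ hu (c (finProdFinEquiv.symm k).1)) ≫
        Tp hu hk hu' hk' (a (finProdFinEquiv.symm k).2) := by
    rw [← cancel_mono (kernel.ι u'), Category.assoc, hφι, ι_smulFin, Category.assoc,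
      Category.assoc, u_θ_Tp_ι]
  rw [← Category.assoc, h1, Category.assoc, Category.assoc, hf, comp_zero, comp_zero]

end TwoStep

section ThreeStep

variable {V W X Z : Scheme.{u}} [V.Over (Spec (CommRingCat.of A))]
  [W.Over (Spec (CommRingCat.of A))]
  [X.Over (Spec (CommRingCat.of A))] [Z.Over (Spec (CommRingCat.of A))]
  {i : Z ⟶ X} [i.IsOver (Spec (CommRingCat.of A))]
  {i' : X ⟶ W} [i'.IsOver (Spec (CommRingCat.of A))]
  {i'' : W ⟶ V} [i''.IsOver (Spec (CommRingCat.of A))] [IsClosedImmersion i'']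
  {M'' : V.Modules} {M' : W.Modules} {M : X.Modules} {N : Z.Modules}
  {u : M ⟶ (Scheme.Modules.pushforward i).obj N}
  {u' : M' ⟶ (Scheme.Modules.pushforward i').obj M}
  {u'' : M'' ⟶ (Scheme.Modules.pushforward i'').obj M'}
  {𝔞 𝔞' 𝔞'' J : Ideal A} (hu : IsQuot 𝔞 u) (hk : Formal.KilledBy (𝔞 * J) M)
  (hu' : IsQuot 𝔞' u') (hk' : Formal.KilledBy (𝔞' * J) M')
  (hu'' : IsQuot 𝔞'' u'') (hk'' : Formal.KilledBy (𝔞'' * J) M'')

lemma mbar_comm (a b : J) :
    (Scheme.Modules.pushforward i'').map (mbar hu' hk' b) ≫ mbar hu'' hk'' a =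
      (Scheme.Modules.pushforward i'').map (mbar hu' hk' a) ≫ mbar hu'' hk'' b := by
  haveI := hu'.epi
  haveI := hu''.epi
  haveI : Epi ((Scheme.Modules.pushforward i'').map u') :=
    Groth.Agent.Helper9.ClImm1.epi_pushforward_map i''
      (Groth.Agent.Helper9.ClImm1.isClosedEmbedding i'') u'
  have key : ∀ a b : J, (u'' ≫ (Scheme.Modules.pushforward i'').map u') ≫
      (Scheme.Modules.pushforward i'').map (mbar hu' hk' b) ≫ mbar hu'' hk'' a =
      Formal.smulMod A M'' ((b : A) * (a : A)) := by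
    intro a b
    rw [Category.assoc, ← Functor.map_comp_assoc, u_mbar, push_map_smulMod,
      ← smulMod_comp_assoc', u_mbar, ← smulMod_mul]
  rw [← cancel_epi (u'' ≫ (Scheme.Modules.pushforward i'').map u'), key, key, mul_comm]

/-- **the operators commute** -/
theorem Tp_comm (a b : J) :
    (Scheme.Modules.pushforward i'').map (Tp hu hk hu' hk' b) ≫ Tp hu' hk' hu'' hk'' a =
      (Scheme.Modules.pushforward i'').map (Tp hu hk hu' hk' a) ≫ Tp hu' hk' hu'' hk'' b := by
  rw [← cancel_mono (kernel.ι u''), Category.assoc, Category.assoc, Tp_ι, Tp_ι,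
    ← Functor.map_comp_assoc, ← Functor.map_comp_assoc, Tp_ι, Tp_ι, Functor.map_comp,
    Functor.map_comp, Category.assoc, Category.assoc, mbar_comm]

end ThreeStep

end Groth.Agent.Helper1.TW
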