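import Mathlib
import Groth.Agent.Helper9.ClImm1
import Groth.Agent.Helper9.ClosedEmb

/-!
# ClFF1: the direct image along a closed immersion is fully faithful on modules
-/

set_option autoImplicit false
set_option linter.style.haveILetI false
set_option linter.unusedSectionVars false

universe u

open CategoryTheory CategoryTheory.Limits AlgebraicGeometry Opposite TopologicalSpace
open Groth.Agent.Helper9.SkyMod4 Groth.Agent.Helper9.SkyMod5 Groth.Agent.Helper9.ClImm1

namespace Groth.Agent.Helper1.ClFF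

variable {X Y : Scheme.{u}} (f : X ⟶ Y) [IsClosedImmersion f] {M N : X.Modules}
  (g : (Scheme.Modules.pushforward f).obj M ⟶ (Scheme.Modules.pushforward f).obj N)

/-- the underlying map of abelian presheaves on `X` -/
noncomputable def pre₀ : M.presheaf ⟶ N.presheaf :=
  Groth.Agent.Helper9.ClosedEmb.preimg f.base (isClosedEmbedding f) (A := Ab)
    (P := M.presheaf) (P' := N.presheaf) g.mapPresheaf

lemma pre₀_app (V : Y.Opens) : (pre₀ f g).app (op (f ⁻¹ᵁ V)) = g.app V := by
  have h := Groth.Agent.Helper9.ClosedEmb.pushforward_map_preimg f.base (isClosedEmbedding f)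
    (A := Ab) (P := M.presheaf) (P' := N.presheaf) g.mapPresheaf
  exact congrArg (fun t => t.app (op V)) h

/-- the stalk map of `pre₀` -/
noncomputable def φx (x : X) : M.presheaf.stalk x ⟶ N.presheaf.stalk x :=
  (TopCat.Presheaf.stalkFunctor Ab x).map (pre₀ f g)

lemma φx_germ (x : X) (U : X.Opens) (hx : x ∈ U) (s : Γ(M, U)) :
    φx f g x (M.presheaf.germ U x hx s) = N.presheaf.germ U x hx ((pre₀ f g).app (op U) s) :=
  TopCat.Presheaf.stalkFunctor_map_germ_apply U x hx (pre₀ f g) s

lemma φx_push (x : X) (ν : ((Scheme.Modules.pushforward f).obj M).presheaf.stalk (f.base x)) :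
    φx f g x (pushStalkAb f M x ν) =
      pushStalkAb f N x (((St (f.base x)).map g).hom ν) := by
  obtain ⟨V, hV, t, rfl⟩ :=
    ((Scheme.Modules.pushforward f).obj M).presheaf.exists_germ_eq (x := f.base x) ν
  rw [pushStalkAb_germ]
  have h1 : ((St (f.base x)).map g).hom
      (((Scheme.Modules.pushforward f).obj M).presheaf.germ V (f.base x) hV t) =
      ((Scheme.Modules.pushforward f).obj N).presheaf.germ V (f.base x) hV (g.app V t) :=
    DerSch.stalkFunctor_map_germ (f.base x) g V hV t
  rw [h1, pushStalkAb_germ, φx_germ, pre₀_app]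
  rfl

lemma φx_smul (x : X) (ρ : X.presheaf.stalk x) (μ : M.presheaf.stalk x) :
    φx f g x (ρ • μ) = ρ • φx f g x μ := by
  obtain ⟨a, rfl⟩ := f.stalkMap_surjective x ρ
  obtain ⟨ν, rfl⟩ : ∃ ν, pushStalkAb f M x ν = μ :=
    (pushStalkLin_bijective f (isClosedEmbedding f).isInducing M x).2 μ
  have h2 : ((St (f.base x)).map g).hom (a • ν) = a • ((St (f.base x)).map g).hom ν :=
    ((St (f.base x)).map g).hom.map_smul a ν
  rw [← pushStalkAb_smul, φx_push, φx_push]
  refine (congrArg (pushStalkAb f N x) h2).trans ?_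
  exact pushStalkAb_smul f N x a _

/-- `pre₀` is linear -/
lemma pre₀_smul (U : X.Opens) (r : Γ(X, U)) (m : Γ(M, U)) :
    (pre₀ f g).app (op U) (r • m) = r • (pre₀ f g).app (op U) m := by
  refine TopCat.Presheaf.section_ext (⟨N.presheaf, N.isSheaf⟩ : TopCat.Sheaf Ab X) U _ _ ?_
  intro x hx
  show N.presheaf.germ U x hx _ = N.presheaf.germ U x hx _
  rw [← φx_germ, Groth.Agent.Helper9.SkyMod2.germ_smul, Groth.Agent.Helper9.SkyMod2.germ_smul,
    φx_smul, φx_germ]

/-- **fullness** of the direct image along a closed immersion -/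
theorem exists_preimage : ∃ φ : M ⟶ N, (Scheme.Modules.pushforward f).map φ = g := by
  let φ : M ⟶ N := ⟨PresheafOfModules.homMk (pre₀ f g) (fun U r m => pre₀_smul f g U.unop r m)⟩
  refine ⟨φ, ?_⟩
  apply Scheme.Modules.hom_ext
  intro V
  exact pre₀_app f g V

omit g in
/-- **faithfulness** of the direct image along a closed immersion -/
theorem map_injective {φ ψ : M ⟶ N}
    (h : (Scheme.Modules.pushforward f).map φ = (Scheme.Modules.pushforward f).map ψ) : φ = ψ := by
  apply Scheme.Modules.hom_ext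
  intro U
  obtain ⟨V, rfl⟩ : ∃ V : Y.Opens, f ⁻¹ᵁ V = U :=
    ⟨Groth.Agent.Helper9.ClosedEmb.Vop f.base (isClosedEmbedding f) U,
      Groth.Agent.Helper9.ClosedEmb.map_Vop f.base (isClosedEmbedding f) U⟩
  exact congrArg (fun t => Scheme.Modules.Hom.app t V) h

omit g in
/-- the direct image along a closed immersion reflects isomorphy of objects -/
theorem nonempty_iso_of_push_iso
    (e : (Scheme.Modules.pushforward f).obj M ≅ (Scheme.Modules.pushforward f).obj N) :
    Nonempty (M ≅ N) := by
  obtain ⟨φ, hφ⟩ := exists_preimage f e.hom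
  obtain ⟨ψ, hψ⟩ := exists_preimage f e.inv
  refine ⟨⟨φ, ψ, map_injective f ?_, map_injective f ?_⟩⟩
  · rw [Functor.map_comp, hφ, hψ, e.hom_inv_id, CategoryTheory.Functor.map_id]
  · rw [Functor.map_comp, hφ, hψ, e.inv_hom_id, CategoryTheory.Functor.map_id]

end Groth.Agent.Helper1.ClFF
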