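import Groth.Agent.Helper1.BaseChart7
import Groth.Agent.Helper1.Bridge9

set_option autoImplicit false

/-!
# Affine charts of the base: the universal complex of a chart
-/

namespace Groth.Agent.Helper1.BaseChart

open CategoryTheory Limits AlgebraicGeometry Opposite TopologicalSpace

universe u

variable {X Y : Scheme.{u}} (f : X ⟶ Y) (V : Y.Opens) [IsAffine (V : Scheme.{u})]

/-- the universal complex of a chart -/
theorem exists_chart_complex [IsProper f] [IsLocallyNoetherian Y] (F : X.Modules)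
    (hF : Coh.IsCoh F) (hfl : FlatMod.IsFlatOver f F) :
    letI := chartOver f V
    ∃ L : ChainComplex (ModuleCat.{u} (AV V)) ℤ,
      (∀ i, Module.Finite (AV V) (L.X i) ∧ Module.Free (AV V) (L.X i)) ∧
      (∃ b : ℤ, ∀ i < b, IsZero (L.X i)) ∧
      (∀ i : ℤ, 0 < i → ∀ M : ModuleCat.{u} (AV V), IsZero ((CohIII.TFun L i).obj M)) ∧
      (∀ (p : ℕ) (y : Y) (hy : y ∈ V), CohIII.dRank L (-(p : ℤ)) (chartPt V y hy) =
        CohIII.fiberRank f F p y) ∧
      HasBC f V F L ∧
      (∀ p : ℕ, Nonempty (L.homology (-(p : ℤ)) ≃ₗ[AV V] Coh.HH (XV f V) (FV f V F) p)) := by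
  letI := chartOver f V
  have hV : IsAffineOpen V := ‹IsAffine (V : Scheme.{u})›
  haveI : IsNoetherianRing (AV V) := isNoetherian_chart V hV
  haveI : IsProper (XV f V ↘ Spec (CommRingCat.of (AV V))) := isProper_chart f V
  haveI : F.IsQuasicoherent := hF.1
  obtain ⟨L, h1, h2, h3, -, -, h6, h7⟩ := Groth.Agent.Helper1.Bridge.exists_complex'' (AV V)
    (XV f V) (FV f V F) (isCoh_FV f V F hF) (isFlatOver_chart f V F hfl)
  have hBC : HasBC f V F L := h6
  refine ⟨L, h1, h2, h3, ?_, hBC, h7⟩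
  intro p y hy
  exact (fiberRank_eq_dRank_of_hasBC f V F L hBC p y hy).symm

end Groth.Agent.Helper1.BaseChart
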