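import Groth.Agent.Helper1.BaseChart10
import Groth.Agent.Helper1.BaseChart8
import Groth.Agent.S2380

set_option autoImplicit false
set_option linter.style.haveILetI false

/-!
# Upper semicontinuity of `y ↦ hᵖ(X_y, F_y)` on a locally Noetherian base
-/

namespace Groth.Agent.Helper1.Seesaw

open CategoryTheory Limits AlgebraicGeometry Opposite TopologicalSpace Topology
open Groth.Agent.Helper1.BaseChart

universe u

variable {X Y : Scheme.{u}} (f : X ⟶ Y)

/-- **semicontinuity theorem**: for `f` proper, `Y` locally Noetherian and `F` coherent and flat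
over `Y`, the function `y ↦ dim_{κ(y)} Hᵖ(X_y, F_y)` is upper semicontinuous -/
theorem upperSemicontinuous_fiberRank [IsProper f] [IsLocallyNoetherian Y] (F : X.Modules)
    (hF : Coh.IsCoh F) (hfl : FlatMod.IsFlatOver f F) (p : ℕ) :
    UpperSemicontinuous (CohIII.fiberRank f F p) := by
  intro y n hn
  obtain ⟨_, ⟨V, hV : IsAffineOpen V, rfl⟩, hy, -⟩ :=
    Y.isBasis_affineOpens.exists_subset_of_mem_open (Set.mem_univ y) isOpen_univ
  haveI : IsAffine (V : Scheme.{u}) := hV
  haveI : IsNoetherianRing (AV V) := isNoetherian_chart V hV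
  obtain ⟨L, hLff, -, -, hrank, -, -⟩ := exists_chart_complex f V F hF hfl
  have hQ : ∀ i, Module.Finite (AV V) (L.X i) ∧ Module.Flat (AV V) (L.X i) := fun i =>
    ⟨(hLff i).1, by haveI := (hLff i).2; infer_instance⟩
  have husc := Groth.Agent.S2380.result L hQ (-(p : ℤ))
  have h0 : CohIII.dRank L (-(p : ℤ)) (chartPt V y hy) < n := by rw [hrank p y hy]; exact hn
  have h1 : {x | CohIII.dRank L (-(p : ℤ)) x < n} ∈ 𝓝 (chartPt V y hy) :=
    husc (chartPt V y hy) n h0
  obtain ⟨W, hyW, hWV, hW⟩ := exists_open_of_nhds V y hy _ h1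
  filter_upwards [W.isOpen.mem_nhds hyW] with w hw
  have h2 : CohIII.dRank L (-(p : ℤ)) (chartPt V w (hWV hw)) < n := hW w (hWV hw) hw
  rw [hrank p w (hWV hw)] at h2
  exact h2

end Groth.Agent.Helper1.Seesaw
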