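import Groth.Agent.Helper1.Seesaw7
import Groth.Agent.Helper1.Seesaw9

set_option autoImplicit false
set_option linter.style.haveILetI false

/-!
# `h⁰(X_y, O) = 1` for a proper flat family with integral fibres over an algebraically closed field
-/

namespace Groth.Agent.Helper1.Seesaw

open CategoryTheory Limits AlgebraicGeometry Opposite TopologicalSpace Topology

universe u

variable {X Y : Scheme.{u}} (f : X ⟶ Y)

/-- `h⁰(X_y, O)` as the dimension of the global functions -/
theorem fiberRank_unit_eq (y : Y) :
    CohIII.fiberRank f (Coh.structureModule X) 0 y =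
      Module.finrank (Y.residueField y) Γ(f.fiber y, ⊤) :=
  fiberRank_eq_of_iso f (Coh.structureModule X) y
    (Groth.Agent.Helper4.PullUnit.pullbackUnitIso (f.fiberι y))

/-- the global functions of a fibre of a proper morphism are finite over the residue field -/
theorem finite_Γ_fiber [IsProper f] (y : Y) :
    Module.Finite (Y.residueField y) Γ(f.fiber y, ⊤) := by
  letI : (f.fiber y).Over (Spec (CommRingCat.of (Y.residueField y))) :=
    ⟨f.fiberToSpecResidueField y⟩
  haveI : IsProper ((f.fiber y) ↘ Spec (CommRingCat.of (Y.residueField y))) :=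
    MorphismProperty.pullback_snd (P := @IsProper) f (Y.fromSpecResidueField y) inferInstance
  exact Groth.Agent.Lead.H0Geom.finite_Γ (Y.residueField y) (f.fiber y)

/-- `h⁰(X_y, O) ≥ 1` on nonempty fibres -/
theorem one_le_finrank_Γ_fiber [IsProper f] (y : Y) [Nonempty (f.fiber y)] :
    1 ≤ Module.finrank (Y.residueField y) Γ(f.fiber y, ⊤) := by
  haveI := finite_Γ_fiber f y
  haveI : Nontrivial Γ(f.fiber y, ⊤) := Groth.Agent.Lead.H0Geom.nontrivial_Γ _
  exact Module.finrank_pos

/-- `h⁰(X_y, O) = 1` for an integral fibre over an algebraically closed residue field -/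
theorem finrank_Γ_fiber_eq_one_of_isAlgClosed [IsProper f] (y : Y) [IsIntegral (f.fiber y)]
    [IsAlgClosed (Y.residueField y)] :
    Module.finrank (Y.residueField y) Γ(f.fiber y, ⊤) = 1 := by
  haveI := finite_Γ_fiber f y
  haveI : Algebra.IsIntegral (Y.residueField y) Γ(f.fiber y, ⊤) := Algebra.IsIntegral.of_finite _ _
  have hbij := IsAlgClosed.algebraMap_bijective_of_isIntegral (k := Y.residueField y)
    (K := Γ(f.fiber y, ⊤))
  exact (LinearEquiv.ofBijective (Algebra.linearMap (Y.residueField y) Γ(f.fiber y, ⊤))
    hbij).finrank_eq.symm.trans (Module.finrank_self _)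

/-- **`h⁰(X_y, O) = 1` for all `y`**, for a proper flat family with integral fibres over a base of
finite type over an algebraically closed field -/
theorem finrank_Γ_fiber_eq_one (k : Type u) [Field k] [IsAlgClosed k]
    (g : Y ⟶ Spec (CommRingCat.of k)) [LocallyOfFiniteType g] [QuasiCompact g]
    [IsProper f] [Flat f] (hint : ∀ y : Y, IsIntegral (f.fiber y)) (y : Y) :
    Module.finrank (Y.residueField y) Γ(f.fiber y, ⊤) = 1 := by
  haveI : IsLocallyNoetherian Y := LocallyOfFiniteType.isLocallyNoetherian g
  haveI : CompactSpace Y := QuasiCompact.compactSpace_of_compactSpace g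
  have hcl : ∀ z : Y, IsClosed ({z} : Set Y) →
      Module.finrank (Y.residueField z) Γ(f.fiber z, ⊤) = 1 := by
    intro z hz
    haveI := hint z
    haveI : IsAlgClosed (Y.residueField z) :=
      IsAlgClosed.of_ringEquiv (k := k) (Y.residueField z)
        (residueFieldIsoBase g z hz).symm.commRingCatIsoToRingEquiv
    exact finrank_Γ_fiber_eq_one_of_isAlgClosed f z
  have husc := upperSemicontinuous_fiberRank f (Coh.structureModule X)
    (Groth.Agent.Helper1.Dev.isCoh_structureModule X)
    ((Groth.Agent.Helper9.Chart17.isFlatOver_unit_iff f).mpr inferInstance) 0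
  have hopen : IsOpen {z : Y | CohIII.fiberRank f (Coh.structureModule X) 0 z < 2} := by
    rw [isOpen_iff_mem_nhds]
    intro z hz
    exact husc z 2 hz
  have hS : IsClosed {z : Y | CohIII.fiberRank f (Coh.structureModule X) 0 z < 2}ᶜ :=
    hopen.isClosed_compl
  have hle : CohIII.fiberRank f (Coh.structureModule X) 0 y < 2 := by
    by_contra hy
    obtain ⟨z, hzS, hz⟩ := hS.exists_closed_singleton ⟨y, hy⟩
    apply hzS
    show CohIII.fiberRank f (Coh.structureModule X) 0 z < 2
    rw [fiberRank_unit_eq, hcl z hz]
    exact Nat.one_lt_two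
  rw [fiberRank_unit_eq] at hle
  haveI := hint y
  have hge := one_le_finrank_Γ_fiber f y
  omega

end Groth.Agent.Helper1.Seesaw
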