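import Groth.Agent.Helper1.UF8
import Groth.Agent.Helper1.Seesaw10
import Groth.Agent.Lead.H0GeomA

set_option autoImplicit false
set_option linter.style.haveILetI false
set_option linter.unusedSectionVars false
set_option linter.unusedVariables false

/-!
# Reduced connected geometric fibres give `Γ(X_s, O) = κ(s)`
-/

namespace Groth.Agent.Helper1.UF

open CategoryTheory AlgebraicGeometry Opposite TopologicalSpace Limits

universe u

variable {X S : Scheme.{u}} (f : X ⟶ S) [IsProper f]

set_option maxHeartbeats 1600000 in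
/-- `h⁰(X_s, O) = 1` if the geometric fibre over an algebraic closure of `κ(s)` is reduced and
connected -/
theorem finrank_Γ_fiber_eq_one_of_geometric
    (h : ∀ (K : Type u) [Field K] [IsAlgClosed K] (g : Spec (CommRingCat.of K) ⟶ S),
      IsReduced (pullback f g) ∧ ConnectedSpace ↥(pullback f g)) (s : S) :
    Module.finrank (S.residueField s) Γ(f.fiber s, ⊤) = 1 := by
  let k : Type u := S.residueField s
  let fs : f.fiber s ⟶ Spec (CommRingCat.of k) := f.fiberToSpecResidueField s
  haveI : IsProper fs :=
    MorphismProperty.pullback_snd (P := @IsProper) f (S.fromSpecResidueField s) inferInstance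
  have hfin0 := Groth.Agent.Helper1.Seesaw.finite_Γ_fiber f s
  letI : Algebra k Γ(f.fiber s, ⊤) := (Coh.toGlobal fs).toAlgebra
  haveI : Module.Finite k Γ(f.fiber s, ⊤) := hfin0
  let K : Type u := AlgebraicClosure k
  let g : Spec (CommRingCat.of K) ⟶ Spec (CommRingCat.of k) :=
    Spec.map (CommRingCat.ofHom (algebraMap k K))
  letI : Algebra K Γ(pullback fs g, ⊤) := (Coh.toGlobal (pullback.snd fs g)).toAlgebra
  obtain ⟨E⟩ := Groth.Agent.Lead.H0Geom.exists_equiv_baseChange k K fs
  have h1 : Module.finrank K Γ(pullback fs g, ⊤) = Module.finrank k Γ(f.fiber s, ⊤) := by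
    rw [← E.finrank_eq]
    exact Module.finrank_baseChange
  show Module.finrank k Γ(f.fiber s, ⊤) = 1
  rw [← h1]
  haveI : Module.Finite K Γ(pullback fs g, ⊤) := Module.Finite.equiv E
  obtain ⟨hred, hconn⟩ := h K (g ≫ S.fromSpecResidueField s)
  let ι : pullback fs g ≅ pullback f (g ≫ S.fromSpecResidueField s) :=
    pullbackLeftPullbackSndIso f (S.fromSpecResidueField s) g
  haveI : IsReduced (pullback fs g) := isReduced_of_isOpenImmersion ι.hom
  haveI : ConnectedSpace ↥(pullback fs g : Scheme.{u}) :=
    (Scheme.homeoOfIso ι).symm.surjective.connectedSpace (Scheme.homeoOfIso ι).symm.continuous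
  haveI : CompactSpace ↥(pullback fs g : Scheme.{u}) :=
    QuasiCompact.compactSpace_of_compactSpace (pullback.snd fs g)
  haveI : Nontrivial Γ(pullback fs g, ⊤) := Groth.Agent.Lead.H0Geom.nontrivial_Γ _
  haveI : PreconnectedSpace (PrimeSpectrum Γ(pullback fs g, ⊤)) :=
    Groth.Agent.Lead.H0Geom.preconnectedSpace_spec_Γ _
  exact Groth.Agent.Lead.H0Geom.finrank_eq_one_of_reduced_connected K _

/-- reduced connected geometric fibres give `Γ(X_s, O) = κ(s)` -/
theorem isIso_appTop_of_geometric
    (h : ∀ (K : Type u) [Field K] [IsAlgClosed K] (g : Spec (CommRingCat.of K) ⟶ S),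
      IsReduced (pullback f g) ∧ ConnectedSpace ↥(pullback f g)) (s : S) :
    IsIso (f.fiberToSpecResidueField s).appTop := by
  have hbij := Groth.Agent.Helper1.Seesaw.bijective_algebraMap_of_finrank_eq_one f s
    (finrank_Γ_fiber_eq_one_of_geometric f h s)
  have hbij' : Function.Bijective ((f.fiberToSpecResidueField s).app ⊤).hom := by
    have hI : Function.Bijective (Scheme.ΓSpecIso (S.residueField s)).inv.hom :=
      ConcreteCategory.bijective_of_isIso (Scheme.ΓSpecIso (S.residueField s)).inv
    have : (algebraMap (S.residueField s) Γ(f.fiber s, ⊤) : S.residueField s → Γ(f.fiber s, ⊤)) =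
        ((f.fiberToSpecResidueField s).app ⊤).hom ∘
          (Scheme.ΓSpecIso (S.residueField s)).inv.hom := rfl
    rw [this] at hbij
    exact (Function.Bijective.of_comp_iff _ hI).mp hbij
  exact (ConcreteCategory.isIso_iff_bijective _).mpr hbij'

end Groth.Agent.Helper1.UF
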