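import Groth.Agent.Helper1.CurveFam4
import Groth.Agent.Helper1.UF9
import Groth.Agent.Helper4.SN5
import Groth.Agent.Lead.H0GeomA

set_option autoImplicit false
set_option linter.style.haveILetI false
set_option linter.unusedSectionVars false
set_option linter.unusedVariables false

/-!
# Families of curves: `R¹ f_* O_X` is finite locally free and the higher direct images vanish
-/

namespace Groth.Agent.Helper1.CurveFam

open CategoryTheory Opposite TopologicalSpace AlgebraicGeometry
  AlgebraicGeometry.Scheme.Modules
open Groth.Agent.Helper1.BaseChart Groth.Agent.Helper1.SCV Groth.Agent.Helper4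
  Groth.Agent.Helper4.FinLocFree

universe u

variable {X S : Scheme.{u}} (f : X ⟶ S)

/-- `Γ(X_s, O) = κ(s)` when the global functions of the fibre are one-dimensional -/
theorem isIso_appTop_of_finrank (s : S)
    (h : Module.finrank (S.residueField s) Γ(f.fiber s, ⊤) = 1) :
    IsIso (f.fiberToSpecResidueField s).appTop := by
  have hbij := Groth.Agent.Helper1.Seesaw.bijective_algebraMap_of_finrank_eq_one f s h
  have hbij' : Function.Bijective ((f.fiberToSpecResidueField s).app ⊤).hom := by
    have hI : Function.Bijective (Scheme.ΓSpecIso (S.residueField s)).inv.hom :=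
      ConcreteCategory.bijective_of_isIso (Scheme.ΓSpecIso (S.residueField s)).inv
    have : (algebraMap (S.residueField s) Γ(f.fiber s, ⊤) : S.residueField s → Γ(f.fiber s, ⊤)) =
        ((f.fiberToSpecResidueField s).app ⊤).hom ∘
          (Scheme.ΓSpecIso (S.residueField s)).inv.hom := rfl
    rw [this] at hbij
    exact (Function.Bijective.of_comp_iff _ hI).mp hbij
  exact (ConcreteCategory.isIso_iff_bijective _).mpr hbij'

/-- the same, with the dimension of `H⁰` -/
theorem isIso_appTop_of_hRank (s : S)
    (h : Models.hRank (S.residueField s) (f.fiber s) (f.fiberToSpecResidueField s)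
      (Coh.structureModule (f.fiber s)) 0 = 1) :
    IsIso (f.fiberToSpecResidueField s).appTop := by
  apply isIso_appTop_of_finrank
  letI : (f.fiber s).Over (Spec (CommRingCat.of (S.residueField s))) :=
    ⟨f.fiberToSpecResidueField s⟩
  have h3 := (Groth.Agent.Lead.H0Geom.h0LinearEquiv (S.residueField s) (f.fiber s)).finrank_eq
  exact h3.symm.trans h

/-- the fibres of a morphism of finite type are Noetherian -/
theorem isNoetherian_fiber [LocallyOfFiniteType f] [QuasiCompact f] (s : S) :
    IsNoetherian (f.fiber s) := by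
  haveI hlft : LocallyOfFiniteType (f.fiberToSpecResidueField s) :=
    inferInstanceAs (LocallyOfFiniteType (Limits.pullback.snd f (S.fromSpecResidueField _)))
  haveI hqc : QuasiCompact (f.fiberToSpecResidueField s) :=
    inferInstanceAs (QuasiCompact (Limits.pullback.snd f (S.fromSpecResidueField _)))
  haveI : IsLocallyNoetherian (f.fiber s) :=
    LocallyOfFiniteType.isLocallyNoetherian (f.fiberToSpecResidueField s)
  haveI : CompactSpace ↥(f.fiber s) :=
    QuasiCompact.compactSpace_of_compactSpace (f.fiberToSpecResidueField s)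
  exact ⟨⟩

/-- Grothendieck vanishing on the fibres -/
theorem subsingleton_fiberH_of_dim [LocallyOfFiniteType f] [QuasiCompact f] (s : S) (d : ℕ)
    (hd : topologicalKrullDim ↥(f.fiber s) ≤ d) (F : X.Modules) (p : ℕ) (hp : d < p) :
    Subsingleton (CohIII.fiberH f F s p) := by
  haveI := isNoetherian_fiber f s
  exact Groth.Agent.Helper4.SN.subsingleton_HH_of_dim d hd _ p hp

variable [Flat f] [IsProper f] [LocallyOfFinitePresentation f]

/-- **`R¹ f_* O_X` is finite locally free** for a flat proper family of finite presentation with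
`Γ(X_s, O) = κ(s)` and fibres of dimension at most one -/
theorem isFinLocFree_R1 [HasInjectiveResolutions X.Modules]
    (h : ∀ s : S, IsIso (f.fiberToSpecResidueField s).appTop)
    (hdim : ∀ s : S, topologicalKrullDim ↥(f.fiber s) ≤ 1) :
    FlatMod.IsFinLocFree ((Coh.Rpush f 1).obj (Coh.structureModule X)) := by
  intro s
  obtain ⟨U, hsU, hU⟩ := R1_free f h s
    (subsingleton_fiberH_of_dim f s 1 (hdim s) _ 2 (by norm_num))
  exact ⟨U, _, hsU, hU⟩

/-- the rank of `R¹ f_* O_X` is the genus of the fibres -/
theorem isFinLocFreeOfRank_R1 [HasInjectiveResolutions X.Modules]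
    (h : ∀ s : S, IsIso (f.fiberToSpecResidueField s).appTop)
    (hdim : ∀ s : S, topologicalKrullDim ↥(f.fiber s) ≤ 1) (g : ℕ)
    (hg : ∀ s : S, PerfAux.betti f (Coh.structureModule X) s 1 = g) :
    FlatMod.IsFinLocFreeOfRank g ((Coh.Rpush f 1).obj (Coh.structureModule X)) := by
  intro s
  obtain ⟨U, hsU, hU⟩ := R1_free f h s
    (subsingleton_fiberH_of_dim f s 1 (hdim s) _ 2 (by norm_num))
  rw [hg s] at hU
  exact ⟨U, hsU, hU⟩

/-- the higher direct images vanish above the fibre dimension -/
theorem isZero_Rpush_of_dim [HasInjectiveResolutions X.Modules] (d : ℕ)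
    (hdim : ∀ s : S, topologicalKrullDim ↥(f.fiber s) ≤ d)
    (F : X.Modules) (hF : CohB1.IsFP F) (hfl : FlatMod.IsFlatOver f F) (q : ℕ) (hq : d < q) :
    Limits.IsZero ((Coh.Rpush f q).obj F) := by
  have h1 := Groth.Agent.Helper1.NoethApx.isZero_Rpush_restrict_of_betti f F hF hfl q ⊤
    (fun s _ => by
      haveI : Subsingleton (PerfAux.fiberH f F s q) :=
        subsingleton_fiberH_of_dim f s d (hdim s) F q hq
      exact Module.finrank_zero_of_subsingleton)
  apply Groth.Agent.Helper4.SuppLib.isZero_of_stalks
  intro x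
  have h2 := Groth.Agent.Helper4.SuppLib.subsingleton_stalk_of_isZero _ h1 ⟨x, trivial⟩
  exact (Groth.Agent.Helper4.SuppLib.subsingleton_stalk_restrict_iff (⊤ : S.Opens).ι _
    ⟨x, trivial⟩).1 h2

end Groth.Agent.Helper1.CurveFam
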