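import Groth.Agent.Helper1.NoethApx5

set_option autoImplicit false
set_option linter.unusedVariables false
universe u
open CategoryTheory CategoryTheory.Limits AlgebraicGeometry TopologicalSpace Topology

/-!
# Local constancy of the Euler characteristic of the fibres (S1026)
-/

noncomputable section

namespace Groth.Agent.Helper1.NoethApx

open Groth.Agent.Helper1.BaseChart Groth.Agent.Helper1.FieldPt

/-- the Euler characteristic as a finite sum over the degrees of a bounded complex -/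
lemma finsum_eq_sum {A₀ : Type u} [CommRing A₀] (L : ChainComplex (ModuleCat.{u} A₀) ℤ) (lo : ℤ)
    (hz : ∀ q : ℤ, q < lo ∨ 0 < q → IsZero (L.X q)) (y : PrimeSpectrum A₀) (b : ℕ → ℕ)
    (hb : ∀ p : ℕ, b p = CohIII.dRank L (-(p : ℤ)) y) :
    (finsum fun p : ℕ => (-1 : ℤ) ^ p * (b p : ℤ)) =
      ((Finset.range ((-lo).toNat + 1)).image (fun p : ℕ => -(p : ℤ))).sum
        (fun i => ((i.negOnePow : ℤˣ) : ℤ) * (CohIII.dRank L i y : ℤ)) := by
  have hsupp : (Function.support fun p : ℕ => (-1 : ℤ) ^ p * (b p : ℤ)) ⊆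
      ↑(Finset.range ((-lo).toNat + 1)) := by
    intro p hp
    rw [Function.mem_support] at hp
    rw [Finset.coe_range, Set.mem_Iio]
    by_contra hlt
    apply hp
    have h1 : -(p : ℤ) < lo := by
      have : (-lo).toNat + 1 ≤ p := not_lt.mp hlt
      omega
    rw [hb p, Groth.Agent.Helper1.FlatCx.dRank_eq_zero_of_isZero L _ (hz _ (Or.inl h1)) y]
    simp
  rw [finsum_eq_sum_of_support_subset _ hsupp, Finset.sum_image]
  · refine Finset.sum_congr rfl fun p _ => ?_
    rw [hb p]
    congr 1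
    rw [Int.negOnePow_neg, Int.coe_negOnePow_natCast]
  · intro a _ c _ h
    have : (a : ℤ) = c := neg_injective h
    exact_mod_cast this

variable {X S : Scheme.{u}} (f : X ⟶ S)

/-- **S1026** -/
theorem isLocallyConstant_eulerChar [IsProper f] [LocallyOfFinitePresentation f]
    (F : X.Modules) (hF : CohB1.IsFP F) (hflat : FlatMod.IsFlatOver f F) :
    IsLocallyConstant (fun s : S => PerfAux.eulerChar f F s) := by
  rw [IsLocallyConstant.iff_exists_open]
  intro s₀
  obtain ⟨W, hW, hsW, -⟩ := exists_isAffineOpen_mem_and_subset (x := s₀)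
    (U := (⊤ : S.Opens)) trivial
  haveI : IsAffine (W : Scheme.{u}) := hW
  obtain ⟨A₀, _, hN, ι, L, lo, hL, hz, hb⟩ := exists_chart_complex_fp f W F hF hflat
  set sdeg : Finset ℤ := (Finset.range ((-lo).toNat + 1)).image (fun p : ℕ => -(p : ℤ)) with hsdeg
  have hs : ∀ i, i ∉ sdeg → IsZero (L.X i) := by
    intro i hi
    apply hz
    by_contra hcon
    push Not at hcon
    apply hi
    rw [hsdeg, Finset.mem_image]
    refine ⟨(-i).toNat, ?_, ?_⟩
    · rw [Finset.mem_range]
      omega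
    · omega
  have hlc := (Groth.Agent.S2383.result L hL sdeg hs).2
  obtain ⟨O, hO, hyO, hconst⟩ := (IsLocallyConstant.iff_exists_open _).mp hlc
    (chartMap W ι ⟨s₀, hsW⟩)
  have hO' := hO.preimage (continuous_chartMap W ι)
  have heq : ∀ (s : S) (hs' : s ∈ W), PerfAux.eulerChar f F s =
      sdeg.sum (fun i => ((i.negOnePow : ℤˣ) : ℤ) *
        (CohIII.dRank L i (chartMap W ι ⟨s, hs'⟩) : ℤ)) := by
    intro s hs'
    unfold PerfAux.eulerChar
    exact finsum_eq_sum L lo hz (chartMap W ι ⟨s, hs'⟩) (fun p => PerfAux.betti f F s p)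
      (fun p => hb s hs' p)
  refine ⟨Subtype.val '' (chartMap W ι ⁻¹' O), W.isOpen.isOpenMap_subtype_val _ hO',
    ⟨⟨s₀, hsW⟩, hyO, rfl⟩, ?_⟩
  rintro _ ⟨w, hw, rfl⟩
  change PerfAux.eulerChar f F w.1 = PerfAux.eulerChar f F s₀
  rw [heq w.1 w.2, heq s₀ hsW]
  exact hconst _ hw

end Groth.Agent.Helper1.NoethApx

end
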