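import Groth.Agent.Helper1.UGC4

set_option autoImplicit false
set_option linter.unusedVariables false
set_option linter.style.haveILetI false
universe u
open CategoryTheory CategoryTheory.Limits TensorProduct

/-!
# The Fitting stratum of a complex of finite free modules

For a complex `L` of finite free modules such that the cokernel of `L_1 → L_0` is universally
projective, the locus where `H_0` of the base changes is "locally free of rank `r` and commutes
with base change" is cut out by Fitting ideals of the module `Z'_{-1} × Z'_0`.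
-/

noncomputable section

namespace Groth.Agent.Helper1.UGC

open Groth.Agent.Helper1.FibreDim Groth.Agent.Helper7.FittLib Groth.Agent.Helper1.HMap
  Groth.Agent.Helper1.FlatCx Groth.Agent.Helper1.BCFlatCoh

variable {A : Type u} [CommRing A] (L : ChainComplex (ModuleCat.{u} A) ℤ) (r : ℕ)

/-- the module whose Fitting strata describe the behaviour of `H_0` -/
abbrev MM : Type u := (L.opcycles (-1)) × (L.opcycles 0)

/-- the relevant rank -/
def mm : ℕ := r + Module.finrank A (L.X (-1))

/-- the ideal cutting out the closed condition -/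
def J₁ : Ideal A := fittLow (R := A) (MM L) (mm L r)

/-- the ideal whose complement is the open condition -/
def J₂ : Ideal A := Fitt.ideal A (MM L) (mm L r)

section pointwise

variable (hL : ∀ i, Module.Finite A (L.X i) ∧ Module.Free A (L.X i))

include hL in
lemma dRank_zero_add (x : PrimeSpectrum A) :
    CohIII.dRank L 0 x + Module.finrank A (L.X (-1)) = fibreDim (MM L) x := by
  haveI := (hL 0).1
  haveI := (hL (-1)).1
  haveI := (hL (-1)).2
  haveI := finite_opcycles' L hL 0
  haveI := finite_opcycles' L hL (-1)
  have h1 := dRank_add L 0 (-1) (by simp) (by simp) x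
  have h2 : fibreDim (L.X (-1)) x = Module.finrank A (L.X (-1)) := by
    rw [fibreDim_eq_rankAtStalk]
    exact congrFun Module.rankAtStalk_eq_finrank_of_free x
  rw [h2] at h1
  rw [h1, fibreDim_prod]
  exact add_comm _ _

include hL in
lemma finitePresentation_MM : Module.FinitePresentation A (MM L) := by
  haveI := (hL 1).1
  haveI := (hL 0).1
  haveI := (hL 0).2
  haveI := (hL (-1)).1
  haveI := (hL (-1)).2
  haveI := finitePresentation_opcycles L 1 0 (by simp)
  haveI := finitePresentation_opcycles L 0 (-1) (by simp)
  infer_instance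

include hL in
lemma J₁_fg : (J₁ L r).FG := by
  haveI := finitePresentation_MM L hL
  exact fittLow_fg (MM L) _

include hL in
lemma J₂_fg : (J₂ L r).FG := by
  haveI := finitePresentation_MM L hL
  haveI : Module.Finite A (MM L) := inferInstance
  exact (Groth.Agent.S6892.result (R := A) (MM L) (MM L) (mm L r)).2.1 inferInstance

include hL in
/-- the rank of the fibre is at most `r` iff `J₂` is not contained in the prime -/
lemma dRank_le_iff (x : PrimeSpectrum A) :
    CohIII.dRank L 0 x ≤ r ↔ ¬ J₂ L r ≤ x.asIdeal := by
  haveI := finitePresentation_MM L hL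
  haveI : Module.Finite A (MM L) := inferInstance
  unfold J₂
  rw [not_fitt_le_iff, ← dRank_zero_add L hL x]
  unfold mm
  omega

include hL in
/-- the rank of the fibre is at least `r` iff `J₁` is contained in the prime -/
lemma le_dRank_iff (x : PrimeSpectrum A) :
    r ≤ CohIII.dRank L 0 x ↔ J₁ L r ≤ x.asIdeal := by
  haveI := finitePresentation_MM L hL
  haveI : Module.Finite A (MM L) := inferInstance
  unfold J₁
  rw [fittLow_le_iff_le_fibreDim, ← dRank_zero_add L hL x]
  unfold mm
  omega

end pointwise

section main

variable (hL : ∀ i, Module.Finite A (L.X i) ∧ Module.Free A (L.X i))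
  (R : Type u) [CommRing R] [Algebra A R]

include hL in
lemma bcCx_finite_free (i : ℤ) :
    Module.Finite R ((CohIII.bcCx (algebraMap A R) L).X i) ∧
      Module.Free R ((CohIII.bcCx (algebraMap A R) L).X i) := by
  haveI := (hL i).1
  haveI := (hL i).2
  refine ⟨finite_extendScalars (S := R) (L.X i), ?_⟩
  exact Module.Free.of_equiv (extendScalarsEquiv (S := R) (L.X i)).symm

/-- the base change of `MM` is the `MM` of the base change -/
def bcMMEquiv :
    R ⊗[A] MM L ≃ₗ[R] MM (CohIII.bcCx (algebraMap A R) L) :=
  TensorProduct.prodRight A R R (L.opcycles (-1)) (L.opcycles 0) ≪≫ₗ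
    LinearEquiv.prodCongr (bcOpcyclesEquiv L R (-1)).symm (bcOpcyclesEquiv L R 0).symm

include hL in
lemma finrank_bcCx_X (h : Nonempty (PrimeSpectrum R)) :
    Module.finrank R ((CohIII.bcCx (algebraMap A R) L).X (-1)) = Module.finrank A (L.X (-1)) := by
  obtain ⟨x⟩ := h
  haveI := (hL (-1)).1
  haveI := (hL (-1)).2
  haveI := (bcCx_finite_free L hL R (-1)).1
  haveI := (bcCx_finite_free L hL R (-1)).2
  have h1 : fibreDim ((CohIII.bcCx (algebraMap A R) L).X (-1)) x =
      Module.finrank R ((CohIII.bcCx (algebraMap A R) L).X (-1)) := by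
    rw [fibreDim_eq_rankAtStalk]
    exact congrFun Module.rankAtStalk_eq_finrank_of_free x
  have h2 : fibreDim ((CohIII.bcCx (algebraMap A R) L).X (-1)) x =
      fibreDim (R ⊗[A] L.X (-1)) x := fibreDim_congr (extendScalarsEquiv (S := R) (L.X (-1))) x
  have h3 : fibreDim (L.X (-1)) (PrimeSpectrum.comap (algebraMap A R) x) =
      Module.finrank A (L.X (-1)) := by
    rw [fibreDim_eq_rankAtStalk]
    exact congrFun Module.rankAtStalk_eq_finrank_of_free _
  rw [← h1, h2, fibreDim_baseChange, h3]

include hL in
/-- **the Fitting stratum**: all points of `Spec R` are good of rank `r` iff the base change of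
`J₁` vanishes and the base change of `J₂` is the unit ideal -/
theorem forall_good_iff_fitt
    (hP : Module.freeLocus R ((CohIII.bcCx (algebraMap A R) L).opcycles 0) = Set.univ) :
    (∀ x : PrimeSpectrum R,
        x ∈ Module.freeLocus R ((CohIII.bcCx (algebraMap A R) L).opcycles (-1)) ∧
        CohIII.dRank (CohIII.bcCx (algebraMap A R) L) 0 x = r) ↔
      ((J₁ L r).map (algebraMap A R) = ⊥ ∧ (J₂ L r).map (algebraMap A R) = ⊤) := by
  set K := CohIII.bcCx (algebraMap A R) L with hK_def
  have hK := bcCx_finite_free L hL R
  haveI := finitePresentation_MM L hL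
  haveI : Module.Finite A (MM L) := inferInstance
  haveI hfpK := finitePresentation_MM K hK
  haveI := (hK 1).1
  haveI := (hK 0).1
  haveI := (hK 0).2
  haveI := (hK (-1)).1
  haveI := (hK (-1)).2
  haveI fpP := finitePresentation_opcycles K 1 0 (by simp)
  haveI fpN := finitePresentation_opcycles K 0 (-1) (by simp)
  haveI projP : Module.Projective R (K.opcycles 0) := Module.freeLocus_eq_univ_iff.mp hP
  -- translation of the Fitting ideals
  have hJ₁ : (J₁ L r).map (algebraMap A R) = fittLow (R := R) (MM K) (mm L r) := by
    unfold J₁ fittLow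
    rw [Ideal.map_iSup]
    refine iSup_congr fun k => ?_
    rw [← Groth.Agent.S6890.result (R := A) (R' := R) (MM L) k]
    exact fitt_congr (bcMMEquiv L R) k
  have hJ₂ : (J₂ L r).map (algebraMap A R) = Fitt.ideal R (MM K) (mm L r) := by
    unfold J₂
    rw [← Groth.Agent.S6890.result (R := A) (R' := R) (MM L) (mm L r)]
    exact fitt_congr (bcMMEquiv L R) _
  rw [hJ₁, hJ₂, ← projective_fibreDim_iff_fitt]
  have hdim : ∀ x : PrimeSpectrum R,
      CohIII.dRank K 0 x + Module.finrank A (L.X (-1)) = fibreDim (MM K) x := by
    intro x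
    rw [← dRank_zero_add K hK x, finrank_bcCx_X L hL R ⟨x⟩]
  constructor
  · intro h
    have hN : Module.Projective R (K.opcycles (-1)) := by
      rw [← Module.freeLocus_eq_univ_iff, Set.eq_univ_iff_forall]
      exact fun x => (h x).1
    haveI := hN
    refine ⟨inferInstance, fun x => ?_⟩
    rw [← hdim x, (h x).2]
    rfl
  · rintro ⟨hproj, hd⟩ x
    haveI := hproj
    have hN : Module.Projective R (K.opcycles (-1)) :=
      Module.Projective.of_split (LinearMap.inl R (K.opcycles (-1)) (K.opcycles 0))
        (LinearMap.fst R (K.opcycles (-1)) (K.opcycles 0)) (by ext; rfl)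
    haveI := hN
    refine ⟨?_, ?_⟩
    · have : Module.freeLocus R (K.opcycles (-1)) = Set.univ := Module.freeLocus_eq_univ_iff.mpr hN
      rw [this]
      trivial
    · have h1 := hdim x
      rw [hd x] at h1
      unfold mm at h1
      omega

end main

end Groth.Agent.Helper1.UGC

end
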