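import Groth.Agent.Helper1.UGC3
import Groth.Agent.Helper1.UGC5

set_option autoImplicit false
set_option linter.style.haveILetI false
set_option linter.unusedSectionVars false
set_option linter.unusedVariables false

/-!
# Chart data; invariance of the Betti numbers of the fibres under base change; good points
-/

namespace Groth.Agent.Helper1.UGC

open CategoryTheory Limits Opposite TopologicalSpace AlgebraicGeometry TensorProduct
  AlgebraicGeometry.Scheme.Modules
open Groth.Agent.Helper1.BaseChart Groth.Agent.Helper1.GBC Groth.Agent.Helper1.HMap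
open Groth.Agent.Lead.BCMap Groth.Agent.Helper1.FlatCx Groth.Agent.Helper1.NoethApx
open Groth.Agent.Helper1.BCFlatCoh Groth.Agent.Helper1 Groth.Agent.Helper1.SCV

universe u

variable {X S : Scheme.{u}} (f : X ⟶ S) (W : S.Opens) [IsAffine (W : Scheme.{u})]

/-- the universal complex of a chart, for all base changes of the morphism -/
structure ChartData (F : X.Modules) where
  /-- the Noetherian ring of the model -/
  A₀ : Type u
  [cr : CommRing A₀]
  [noeth : IsNoetherianRing A₀]
  /-- the map to the ring of the chart -/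
  ι : A₀ →+* AV W
  /-- the complex -/
  L : ChainComplex (ModuleCat.{u} A₀) ℤ
  ff : ∀ i, Module.Finite A₀ (L.X i) ∧ Module.Free A₀ (L.X i)
  betti : ∀ (s : S) (hs : s ∈ W) (p : ℕ), PerfAux.betti f F s p =
    CohIII.dRank L (-(p : ℤ)) (PrimeSpectrum.comap ι (chartPt W s hs))
  master : ∀ {X' T : Scheme.{u}} (u : T ⟶ S) (f' : X' ⟶ T) (v : X' ⟶ X)
    (h : IsPullback v f' f u) (W' : T.Opens) [IsAffine (W' : Scheme.{u})]
    (e : W' ≤ u ⁻¹ᵁ W),
    letI := chartsAlgebra u W W' e
    Master f' W' ((Scheme.Modules.pullback v).obj F)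
      (CohIII.bcCx ((algebraMap (AV W) (AV W')).comp ι) L) ∧
    Module.freeLocus (AV W')
      ((CohIII.bcCx ((algebraMap (AV W) (AV W')).comp ι) L).opcycles 0) = Set.univ

attribute [instance] ChartData.cr ChartData.noeth

theorem nonempty_chartData [IsProper f] [LocallyOfFinitePresentation f]
    (F : X.Modules) (hF : CohB1.IsFP F) (hfl : FlatMod.IsFlatOver f F) :
    Nonempty (ChartData f W F) := by
  obtain ⟨A₀, _, _, ι, L, hLff, -, -, hbetti, hT⟩ := exists_chart_data f W F hF hfl
  exact ⟨⟨A₀, ι, L, hLff, hbetti, hT⟩⟩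

variable {f W}

/-- **the Betti numbers of the fibres are invariant under base change** (proper morphisms of
finite presentation over an arbitrary base, flat modules of finite presentation) -/
theorem betti_pullback [IsProper f] [LocallyOfFinitePresentation f]
    (F : X.Modules) (hF : CohB1.IsFP F) (hfl : FlatMod.IsFlatOver f F)
    {X' T : Scheme.{u}} (u : T ⟶ S) (f' : X' ⟶ T) (v : X' ⟶ X)
    (h : IsPullback v f' f u) (t : T) (p : ℕ) :
    PerfAux.betti f' ((Scheme.Modules.pullback v).obj F) t p = PerfAux.betti f F (u t) p := by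
  obtain ⟨W, hW, hsW, -⟩ := exists_isAffineOpen_mem_and_subset (x := u t)
    (U := (⊤ : S.Opens)) trivial
  haveI : IsAffine (W : Scheme.{u}) := hW
  obtain ⟨D⟩ := nonempty_chartData f W F hF hfl
  obtain ⟨W', hW', htW', hW'W⟩ := exists_isAffineOpen_mem_and_subset (x := t)
    (U := u ⁻¹ᵁ W) hsW
  haveI : IsAffine (W' : Scheme.{u}) := hW'
  letI := chartsAlgebra u W W' hW'W
  obtain ⟨M, -⟩ := D.master u f' v h W' hW'W
  rw [M.betti t htW' p, D.betti (u t) hsW p]
  letI : Algebra D.A₀ (AV W') := ((algebraMap (AV W) (AV W')).comp D.ι).toAlgebra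
  refine (dRank_baseChange D.L (-(p : ℤ)) (chartPt W' t htW')).trans ?_
  congr 1
  have h1 := chartPt_comap u W W' hW'W t htW'
  rw [← h1]
  rfl

/-- the fibre ranks are invariant under base change -/
theorem fiberRank_pullback [IsProper f] [LocallyOfFinitePresentation f]
    (F : X.Modules) (hF : CohB1.IsFP F) (hfl : FlatMod.IsFlatOver f F)
    {X' T : Scheme.{u}} (u : T ⟶ S) (f' : X' ⟶ T) (v : X' ⟶ X)
    (h : IsPullback v f' f u) (t : T) (p : ℕ) :
    CohIII.fiberRank f' ((Scheme.Modules.pullback v).obj F) p t = CohIII.fiberRank f F p (u t) :=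
  betti_pullback F hF hfl u f' v h t p

/-- a point of a chart is good iff it lies in the locus of the chart where `T^0` is right
exact -/
theorem goodAt_iff [QuasiCompact f] [QuasiSeparated f] {F : X.Modules} [Coh.IsQCoh F]
    {K : ChainComplex (ModuleCat.{u} (AV W)) ℤ} (M : Master f W F K) (s : S) (hs : s ∈ W) :
    GoodAt f F 0 s ↔ chartPt W s hs ∈ OLoc W K 0 := by
  constructor
  · rintro ⟨W₂, hW₂, hs₂, K₂, M₂, h₂⟩
    haveI := hW₂
    exact (M.bc0_epi_iff s hs).mp ((M₂.bc0_epi_iff s hs₂).mpr h₂)
  · intro h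
    exact ⟨W, inferInstance, hs, K, M, h⟩

end Groth.Agent.Helper1.UGC
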