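import Groth.Agent.Helper1.PSep2
import Groth.Agent.Helper1.NoethApx6
import Groth.Agent.Helper1.UGC6
import Groth.Agent.Helper1.ProjTop8
import Groth.Agent.Helper1.CurveFam5
import Groth.Agent.Lead.RpushBCB

set_option autoImplicit false
set_option linter.style.haveILetI false
set_option linter.unusedSectionVars false
set_option linter.unusedVariables false

/-!
# Betti numbers and Euler characteristics of the fibres: isomorphisms, base change, fibres of
dimension at most `d`
-/

namespace Groth.Agent.Helper1.PDeg

open CategoryTheory AlgebraicGeometry AlgebraicGeometry.Scheme.Modules TopologicalSpace Topology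

universe u

variable {X S : Scheme.{u}}

/-- the Betti numbers of the fibres only depend on the isomorphism class of the module -/
theorem betti_congr (g : X ⟶ S) {F G : X.Modules} (e : F ≅ G) (s : S) (p : ℕ) :
    PerfAux.betti g F s p = PerfAux.betti g G s p := by
  letI : (g.fiber s).Over (Spec (CommRingCat.of (S.residueField s))) :=
    ⟨g.fiberToSpecResidueField s⟩
  exact (Groth.Agent.Helper1.ProjTop.HHlinEquiv (S.residueField s)
    ((Scheme.Modules.pullback (g.fiberι s)).mapIso e) p).finrank_eq

/-- the Euler characteristic of the fibres only depends on the isomorphism class of the module -/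
theorem eulerChar_congr (g : X ⟶ S) {F G : X.Modules} (e : F ≅ G) (s : S) :
    PerfAux.eulerChar g F s = PerfAux.eulerChar g G s := by
  unfold PerfAux.eulerChar
  congr 1
  funext i
  rw [betti_congr g e s i]

/-- the Euler characteristic of the fibres is invariant under base change -/
theorem eulerChar_pullback (f : X ⟶ S) [IsProper f] [LocallyOfFinitePresentation f]
    (F : X.Modules) (hF : CohB1.IsFP F) (hfl : FlatMod.IsFlatOver f F)
    {X' T : Scheme.{u}} (u : T ⟶ S) (f' : X' ⟶ T) (v : X' ⟶ X)
    (h : IsPullback v f' f u) (t : T) :
    PerfAux.eulerChar f' ((Scheme.Modules.pullback v).obj F) t = PerfAux.eulerChar f F (u t) := by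
  unfold PerfAux.eulerChar
  congr 1
  funext i
  rw [Groth.Agent.Helper1.UGC.betti_pullback F hF hfl u f' v h t i]

/-- the Euler characteristic is `β₀ - β₁` when the higher cohomology of the fibre vanishes -/
theorem eulerChar_eq_of_subsingleton (g : X ⟶ S) (F : X.Modules) (s : S)
    (hv : ∀ p : ℕ, 1 < p → Subsingleton (PerfAux.fiberH g F s p)) :
    PerfAux.eulerChar g F s = (PerfAux.betti g F s 0 : ℤ) - (PerfAux.betti g F s 1 : ℤ) := by
  unfold PerfAux.eulerChar
  have hsupp : (Function.support fun p : ℕ => (-1 : ℤ) ^ p * (PerfAux.betti g F s p : ℤ)) ⊆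
      ↑(Finset.range 2) := by
    intro p hp
    rw [Function.mem_support] at hp
    rw [Finset.coe_range, Set.mem_Iio]
    by_contra hlt
    apply hp
    haveI := hv p (by omega)
    have : PerfAux.betti g F s p = 0 := Module.finrank_zero_of_subsingleton
    rw [this]
    simp
  rw [finsum_eq_sum_of_support_subset _ hsupp, Finset.sum_range_succ, Finset.sum_range_one]
  ring

section FibreComparison

variable {Y T : Scheme.{u}} (f : X ⟶ S) (g : Y ⟶ T) (v : Y ⟶ X) (u : T ⟶ S)

/-- the comparison of the fibres for a commutative square -/
noncomputable def fiberComp (h : v ≫ f = g ≫ u) (t : T) : g.fiber t ⟶ f.fiber (u t) :=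
  Limits.pullback.lift (g.fiberι t ≫ v)
    (g.fiberToSpecResidueField t ≫ Spec.map (u.residueFieldMap t)) (by
      rw [Category.assoc, h, Category.assoc,
        Scheme.Hom.SpecMap_residueFieldMap_fromSpecResidueField, ← Category.assoc,
        ← Category.assoc]
      congr 1
      exact Limits.pullback.condition)

variable {f g v u}

theorem isPullback_fiberComp (h : IsPullback v g f u) (t : T) :
    IsPullback (fiberComp f g v u h.w t) (g.fiberToSpecResidueField t)
      (f.fiberToSpecResidueField (u t)) (Spec.map (u.residueFieldMap t)) := by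
  have hbig : IsPullback (g.fiberι t ≫ v) (g.fiberToSpecResidueField t) f
      (T.fromSpecResidueField t ≫ u) :=
    (IsPullback.of_hasPullback g (T.fromSpecResidueField t)).paste_horiz h
  rw [← Scheme.Hom.SpecMap_residueFieldMap_fromSpecResidueField] at hbig
  refine IsPullback.of_right ?_ ?_ (IsPullback.of_hasPullback f (S.fromSpecResidueField (u t)))
  · convert hbig using 1
    exact Limits.pullback.lift_fst _ _ _
  · exact Limits.pullback.lift_snd _ _ _

instance isAffineHom_fiberComp (h : IsPullback v g f u) (t : T) :
    IsAffineHom (fiberComp f g v u h.w t) :=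
  MorphismProperty.of_isPullback (isPullback_fiberComp h t).flip inferInstance

/-- **Grothendieck vanishing on the fibres of a base change**, without comparing dimensions -/
theorem subsingleton_HH_fiber_of_isPullback [LocallyOfFiniteType f] [QuasiCompact f]
    (h : IsPullback v g f u) (t : T) (d : ℕ)
    (hd : topologicalKrullDim ↥(f.fiber (u t)) ≤ d) (N : (g.fiber t).Modules)
    [N.IsQuasicoherent] (p : ℕ) (hp : d < p) :
    Subsingleton (Coh.HH (g.fiber t) N p) := by
  haveI := isAffineHom_fiberComp h t
  apply Groth.Agent.Lead.RpushBC.subsingleton_HH_of_isAffineHom (fiberComp f g v u h.w t) N p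
  haveI := Groth.Agent.Helper1.CurveFam.isNoetherian_fiber f (u t)
  exact Groth.Agent.Helper4.SN.subsingleton_HH_of_dim d hd _ p hp

end FibreComparison

end Groth.Agent.Helper1.PDeg
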