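import Mathlib
import Groth.Agent.Helper1.PDeg1
import Groth.Agent.Helper9.FBCor2

/-!
# HP9: the Betti numbers of the fibres are invariant under base change (no flatness needed:
the fibres only change by a field extension)
-/

set_option autoImplicit false
set_option linter.style.haveILetI false
set_option linter.unusedSectionVars false

universe u
open CategoryTheory CategoryTheory.Limits AlgebraicGeometry Opposite TensorProduct

namespace Groth.Agent.Helper1.HP

open Groth.Agent.Helper1.PDeg

variable {X S Y T : Scheme.{u}} {f : X ⟶ S} {g : Y ⟶ T} {v : Y ⟶ X} {u : T ⟶ S}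

/-- the Betti numbers of the fibres of a quasi-coherent module are invariant under base change -/
theorem betti_pullback_of_qcoh [QuasiCompact f] [QuasiSeparated f] (h : IsPullback v g f u)
    (G : X.Modules) [G.IsQuasicoherent] (t : T) (p : ℕ) :
    PerfAux.betti g ((Scheme.Modules.pullback v).obj G) t p = PerfAux.betti f G (u t) p := by
  letI : (g.fiber t).Over (Spec (CommRingCat.of (T.residueField t))) :=
    ⟨g.fiberToSpecResidueField t⟩
  letI : (f.fiber (u t)).Over (Spec (CommRingCat.of (S.residueField (u t)))) :=
    ⟨f.fiberToSpecResidueField (u t)⟩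
  letI : Algebra (S.residueField (u t)) (T.residueField t) :=
    (u.residueFieldMap t).hom.toAlgebra
  haveI : QuasiCompact (f.fiberToSpecResidueField (u t)) :=
    MorphismProperty.pullback_snd _ _ inferInstance
  haveI : QuasiSeparated (f.fiberToSpecResidueField (u t)) :=
    MorphismProperty.pullback_snd _ _ inferInstance
  haveI : CompactSpace (f.fiber (u t)) :=
    QuasiCompact.compactSpace_of_compactSpace (f.fiberToSpecResidueField (u t))
  haveI : QuasiSeparatedSpace (f.fiber (u t)) :=
    quasiSeparatedSpace_of_quasiSeparated (f.fiberToSpecResidueField (u t))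
  have hsq := isPullback_fiberComp h t
  haveI : Coh.IsQCoh ((Scheme.Modules.pullback (f.fiberι (u t))).obj G) :=
    Groth.Agent.Lead.StalkPull.isQuasicoherent_pullbackObj _ G
  obtain ⟨e⟩ := Groth.Agent.Helper9.FBCor2.main (S.residueField (u t)) (T.residueField t)
    (f.fiber (u t)) (g.fiber t) (fiberComp f g v u h.w t) hsq
    ((Scheme.Modules.pullback (f.fiberι (u t))).obj G) p
  have hcomm : g.fiberι t ≫ v = fiberComp f g v u h.w t ≫ f.fiberι (u t) :=
    (Limits.pullback.lift_fst _ _ _).symm
  let iso : (Scheme.Modules.pullback (g.fiberι t)).obj ((Scheme.Modules.pullback v).obj G) ≅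
      (Scheme.Modules.pullback (fiberComp f g v u h.w t)).obj
        ((Scheme.Modules.pullback (f.fiberι (u t))).obj G) :=
    (Scheme.Modules.pullbackComp (g.fiberι t) v).app G ≪≫
      (Scheme.Modules.pullbackCongr hcomm).app G ≪≫
      ((Scheme.Modules.pullbackComp (fiberComp f g v u h.w t) (f.fiberι (u t))).app G).symm
  have e2 := Groth.Agent.Helper1.ProjTop.HHlinEquiv (T.residueField t) iso p
  unfold PerfAux.betti
  refine e2.finrank_eq.trans ?_
  refine e.finrank_eq.symm.trans ?_
  exact Module.finrank_baseChange

/-- the Euler characteristics of the fibres of a quasi-coherent module are invariant under base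
change -/
theorem eulerChar_pullback_of_qcoh [QuasiCompact f] [QuasiSeparated f] (h : IsPullback v g f u)
    (G : X.Modules) [G.IsQuasicoherent] (t : T) :
    PerfAux.eulerChar g ((Scheme.Modules.pullback v).obj G) t = PerfAux.eulerChar f G (u t) := by
  unfold PerfAux.eulerChar
  congr 1
  funext i
  rw [betti_pullback_of_qcoh h G t i]

end Groth.Agent.Helper1.HP
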