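import Groth.Agent.Helper1.Fin5
import Groth.Agent.Helper1.SerreFin2
import Groth.Agent.Helper1.Dev6
import Mathlib

/-!
# Vanishing of the higher direct images of `c^* O(d)` for a proper `π : Z' ⟶ Z` with `Z'` closed
in `P^N_A`
-/

set_option autoImplicit false
set_option linter.style.haveILetI false

namespace Groth.Agent.Helper1.Fin

open CategoryTheory Limits AlgebraicGeometry TopologicalSpace Opposite
open Groth.Agent.Helper1.ProjBC Groth.Agent.Helper1.Serre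

universe u

variable {A : Type u} [CommRing A] (N : ℕ) {Z' Z : Scheme.{u}} (π : Z' ⟶ Z)
  (fZ : Z ⟶ Spec (CommRingCat.of A)) (c : Z' ⟶ CohB1.ProjSpace N A)
  (hc : c ≫ CohB1.ProjSpace.toSpec N A = π ≫ fZ)

theorem isCoh_GG (d : ℕ) : Coh.IsCoh (GG N c d) :=
  Groth.Agent.Helper1.Dev.isCoh_pullback c _ (Groth.Agent.Helper1.SerreFin.isCoh_twist N A d)

include fZ hc in
theorem exists_isZero_RpushAb [IsNoetherian Z] [IsClosedImmersion c] [IsProper π] :
    ∃ D : ℕ, ∀ d : ℕ, D ≤ d → ∀ q : ℕ,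
      IsZero ((Coh.RpushAb π (q + 1)).obj (Coh.toAb (GG N c d))) := by
  classical
  obtain ⟨t, ht, htop⟩ := exists_finset_affine_sup (⊤ : Z.Opens) isCompact_univ
  have h1 : ∀ V : Z.Opens, ∃ d₀ : ℕ, V ∈ t → ∀ d : ℕ, d₀ ≤ d → ∀ j : ℕ,
      Subsingleton (CohTop.HU (Coh.toAb (GG N c d)) (j + 1) (π ⁻¹ᵁ V)) := by
    intro V
    by_cases hVt : V ∈ t
    · haveI : IsNoetherianRing Γ(Z, V) := IsLocallyNoetherian.component_noetherian ⟨V, ht V hVt⟩
      obtain ⟨d₀, hd₀⟩ := exists_vanishing N π fZ c hc (ht V hVt)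
      exact ⟨d₀, fun _ => hd₀⟩
    · exact ⟨0, fun h => absurd h hVt⟩
  choose d₀ hd₀ using h1
  refine ⟨t.sup d₀, fun d hd q => ?_⟩
  haveI : (GG N c d).IsQuasicoherent := (isCoh_GG N c d).1
  refine isZero_RpushAb_of_cover π (GG N c d) (t : Set Z.Opens) (fun V hV => ht V hV) ?_ q ?_
  · intro x
    have hxt : x ∈ t.sup id := by rw [htop]; trivial
    obtain ⟨V, hVt, hxV⟩ : ∃ V ∈ t, x ∈ V := exists_mem_of_mem_finset_sup t x hxt
    exact ⟨V, hVt, hxV⟩
  · intro V hVt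
    exact hd₀ V hVt d ((Finset.le_sup (f := d₀) hVt).trans hd) q

end Groth.Agent.Helper1.Fin
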