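import Mathlib
import Groth.Agent.Helper1.SV1
import Groth.Agent.Helper1.Fin6
import Groth.Agent.Helper1.Dev3
import Groth.Agent.Helper4.AmpleRestrict
import Groth.Agent.Helper4.TensorRes

/-!
# A relatively ample module kills the higher direct images of large twists
-/

set_option autoImplicit false
set_option linter.style.haveILetI false

namespace Groth.Agent.Helper1.SV

open CategoryTheory Limits AlgebraicGeometry TopologicalSpace Opposite
open Groth.Agent.Helper1.Fin Groth.Agent.Helper1.Serre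
  Groth.Agent.Helper4.TensorAssoc Groth.Agent.Helper4.AmpleIso Groth.Agent.Helper4.TensorInv

universe u

variable {X S : Scheme.{u}} (f : X ⟶ S) [IsProper f] [IsNoetherian S] (L : X.Modules)
  (hL : PicF.IsInvertible L)
  (ha : ∀ W : S.Opens, IsAffineOpen W → CohB1.IsAmple (L.restrict (f ⁻¹ᵁ W).ι))
  (M : X.Modules) (hM : Coh.IsCoh M)

include ha hM in
/-- vanishing over the preimage of one affine open -/
theorem exists_vanishing_over {W : S.Opens} (hW : IsAffineOpen W) :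
    ∃ n₀ : ℕ, ∀ n : ℕ, n₀ ≤ n → ∀ q : ℕ,
      Subsingleton (CohTop.HU (Coh.toAb (CohB1.tensorMod M (CohB1.tensorPow L n))) (q + 1)
        (f ⁻¹ᵁ W)) := by
  haveI : IsNoetherianRing Γ(S, W) := IsLocallyNoetherian.component_noetherian ⟨W, hW⟩
  haveI : IsProper (f ∣_ W) := inferInstance
  haveI : IsProper ((f ∣_ W) ≫ hW.isoSpec.hom) := inferInstance
  obtain ⟨n₀, hn₀⟩ := serre_vanishing Γ(S, W) ((f ∣_ W) ≫ hW.isoSpec.hom) (ha W hW)
    (M.restrict (f ⁻¹ᵁ W).ι) (Groth.Agent.Helper1.Dev.isCoh_restrict hM (f ⁻¹ᵁ W))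
  refine ⟨n₀, fun n hn q => ?_⟩
  have h1 := hn₀ n hn (q + 1) (by omega)
  have e : CohB1.tensorMod (M.restrict (f ⁻¹ᵁ W).ι)
      (CohB1.tensorPow (L.restrict (f ⁻¹ᵁ W).ι) n) ≅
      (CohB1.tensorMod M (CohB1.tensorPow L n)).restrict (f ⁻¹ᵁ W).ι :=
    PicGrp.tensorModIso (Iso.refl _)
      (Groth.Agent.Helper4.AmpleRestrict.resPowIso (f ⁻¹ᵁ W).ι L n) ≪≫
    Groth.Agent.Helper4.TensorRes.resIso (f ⁻¹ᵁ W).ι M (CohB1.tensorPow L n)
  have h2 : Subsingleton (Coh.HHon X (CohB1.tensorMod M (CohB1.tensorPow L n)) (f ⁻¹ᵁ W) (q + 1)) :=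
    Groth.Agent.Helper1.SerreCrit.subsingleton_HH_of_iso e (q + 1) h1
  obtain ⟨e'⟩ := Groth.Agent.Helper1.HHonHU.nonempty_HHon_HU X
    (CohB1.tensorMod M (CohB1.tensorPow L n)) (f ⁻¹ᵁ W) (q + 1)
  exact e'.symm.toEquiv.subsingleton

include hL ha hM in
/-- **a relatively ample module kills the higher direct images of large twists** -/
theorem exists_isZero_RpushAb_twist :
    ∃ n₀ : ℕ, ∀ n : ℕ, n₀ ≤ n → ∀ q : ℕ,
      IsZero ((Coh.RpushAb f (q + 1)).obj
        (Coh.toAb (CohB1.tensorMod M (CohB1.tensorPow L n)))) := by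
  classical
  obtain ⟨t, ht, htop⟩ := exists_finset_affine_sup (⊤ : S.Opens) isCompact_univ
  have h1 : ∀ V : S.Opens, ∃ d₀ : ℕ, V ∈ t → ∀ n : ℕ, d₀ ≤ n → ∀ q : ℕ,
      Subsingleton (CohTop.HU (Coh.toAb (CohB1.tensorMod M (CohB1.tensorPow L n))) (q + 1)
        (f ⁻¹ᵁ V)) := by
    intro V
    by_cases hVt : V ∈ t
    · obtain ⟨d₀, hd₀⟩ := exists_vanishing_over f L ha M hM (ht V hVt)
      exact ⟨d₀, fun _ => hd₀⟩
    · exact ⟨0, fun h => absurd h hVt⟩
  choose d₀ hd₀ using h1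
  refine ⟨t.sup d₀, fun n hn q => ?_⟩
  have hB := Groth.Agent.Helper1.SerreFin.isCoh_of_isInvertible _ (isInvertible_tensorPow hL n)
  haveI : M.IsQuasicoherent := hM.1
  haveI : (CohB1.tensorPow L n).IsQuasicoherent := hB.1
  haveI : (CohB1.tensorMod M (CohB1.tensorPow L n)).IsQuasicoherent :=
    Groth.Agent.Lead.QcohTensor.isQuasicoherent_tensorMod M _
  refine isZero_RpushAb_of_cover f (CohB1.tensorMod M (CohB1.tensorPow L n)) (t : Set S.Opens)
    (fun V hV => ht V hV) ?_ q ?_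
  · intro x
    have hxt : x ∈ t.sup id := by rw [htop]; trivial
    obtain ⟨V, hVt, hxV⟩ : ∃ V ∈ t, x ∈ V := exists_mem_of_mem_finset_sup t x hxt
    exact ⟨V, hVt, hxV⟩
  · intro V hVt
    exact hd₀ V hVt n ((Finset.le_sup (f := d₀) hVt).trans hn) q

end Groth.Agent.Helper1.SV
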