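import Mathlib
import Groth.Agent.Helper1.VA10

/-!
# Very ample modules, part 11: charts lying over affine opens of a general base
-/

set_option autoImplicit false
set_option linter.style.haveILetI false

namespace Groth.Agent.Helper1.VA

open CategoryTheory Limits AlgebraicGeometry TopologicalSpace Opposite HomogeneousLocalization
open Groth.Agent.Helper4.GenLoc Groth.Agent.Helper4.GenLocIso Groth.Agent.Helper4.StalkExact
  Groth.Agent.Helper4.PullSec Groth.Agent.Helper4.PullUnit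
open Groth.Agent.Helper1.ProjMor Groth.Agent.Helper1.Segre Groth.Agent.Helper1.PUP

universe u

theorem appTop_lift_eq {X S : Scheme.{u}} (f : X ⟶ S) (V : X.Opens) (W : S.Opens)
    (hVW : V ≤ f ⁻¹ᵁ W) (g : (V : Scheme.{u}) ⟶ (W : Scheme.{u})) (hg : g ≫ W.ι = V.ι ≫ f) :
    W.topIso.inv ≫ g.appTop = f.appLE W V hVW ≫ V.topIso.inv := by
  have e1 : (⊤ : (V : Scheme.{u}).Opens) ≤ (V.ι ≫ f) ⁻¹ᵁ W := fun y _ => hVW y.2
  have h1 : (V.ι ≫ f).appLE W ⊤ e1 = f.appLE W V hVW ≫ V.topIso.inv := by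
    rw [ι_comp_appLE f W V hVW e1, Scheme.Hom.appLE, Category.assoc]
  have e2 : (⊤ : (V : Scheme.{u}).Opens) ≤ (g ≫ W.ι) ⁻¹ᵁ W := hg ▸ e1
  have e3 : (⊤ : (W : Scheme.{u}).Opens) ≤ W.ι ⁻¹ᵁ W := fun y _ => y.2
  have e4 : (⊤ : (V : Scheme.{u}).Opens) ≤ g ⁻¹ᵁ ⊤ := fun _ _ => trivial
  have h2 : (g ≫ W.ι).appLE W ⊤ e2 = W.topIso.inv ≫ g.appTop := by
    rw [← Scheme.Hom.appLE_comp_appLE g W.ι W ⊤ ⊤ e3 e4, Scheme.Opens.ι_appLE,
      Scheme.Opens.topIso_inv]
    congr 1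
    exact (Scheme.Hom.app_eq_appLE g).symm
  rw [← h2, ← h1]
  exact appLE_congr_hom hg W ⊤ e2

section Chart

variable {X S : Scheme.{u}} (f : X ⟶ S) {M : X.Modules} {K : ℕ}
  (σ : Fin (K + 1) → (Coh.structureModule X ⟶ M)) (hcov : ⨆ e, XE σ e = ⊤)

/-- a chart which is affine, lies over an affine open of the base and is generated over it by
the ratios of the sections is an immersion -/
theorem isImmersion_cl_of_gen (α : Fin (K + 1)) (haff : IsAffineOpen (XE σ α)) (W : S.Opens)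
    (hW : IsAffineOpen W) (hVW : XE σ α ≤ f ⁻¹ᵁ W)
    (hgen : ∀ T : Subring Γ((XE σ α : Scheme.{u}), ⊤),
      (∀ a : Γ(S, W), toTop ((f.appLE W (XE σ α) hVW).hom a) ∈ T) →
      (∀ k, toTop (ratio σ k α) ∈ T) → T = ⊤) :
    IsImmersion (cl f σ hcov α) := by
  haveI : IsAffine (XE σ α : Scheme.{u}) := haff
  haveI : IsAffine (W : Scheme.{u}) := hW
  have hr : Set.range ((XE σ α).ι ≫ f) ⊆ Set.range W.ι := by
    rw [Scheme.Opens.range_ι]
    rintro _ ⟨x, rfl⟩
    exact hVW x.2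
  let g : (XE σ α : Scheme.{u}) ⟶ (W : Scheme.{u}) :=
    IsOpenImmersion.lift W.ι ((XE σ α).ι ≫ f) hr
  have hg : g ≫ W.ι = (XE σ α).ι ≫ f := IsOpenImmersion.lift_fac _ _ _
  let c' : (XE σ α : Scheme.{u}) ⟶ ZZ (W : Scheme.{u}) K α :=
    pullback.lift (aα σ hcov α) g (specULiftZIsTerminal.hom_ext _ _)
  haveI : IsClosedImmersion c' := by
    apply isClosedImmersion_lift
    intro T h1 h2
    apply hgen T
    · intro a
      have h3 := h2 (W.topIso.inv.hom a)
      have h4 := congrArg (fun φ => φ.hom a) (appTop_lift_eq f (XE σ α) W hVW g hg)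
      simp only [CommRingCat.hom_comp, RingHom.comp_apply] at h4
      rw [h4] at h3
      exact h3
    · intro k
      rw [toTop_ratio_mem_range σ hcov α k]
      exact h1 _
  let o : ZZ (W : Scheme.{u}) K α ⟶ ZZ S K α :=
    pullback.map _ _ _ _ (𝟙 _) W.ι (𝟙 _) (by simp) (specULiftZIsTerminal.hom_ext _ _)
  haveI : IsOpenImmersion o := Scheme.pullback_map_isOpenImmersion _ _ _ _ _ _ _ _ _
  have hfac : cl f σ hcov α = c' ≫ o := by
    apply pullback.hom_ext
    · show pullback.lift (aα σ hcov α) ((XE σ α).ι ≫ f) _ ≫ pullback.fst _ _ =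
        (c' ≫ pullback.map _ _ _ _ (𝟙 _) W.ι (𝟙 _) _ _) ≫ pullback.fst _ _
      rw [pullback.lift_fst, Category.assoc, pullback.lift_fst, ← Category.assoc,
        pullback.lift_fst, Category.comp_id]
    · show pullback.lift (aα σ hcov α) ((XE σ α).ι ≫ f) _ ≫ pullback.snd _ _ =
        (c' ≫ pullback.map _ _ _ _ (𝟙 _) W.ι (𝟙 _) _ _) ≫ pullback.snd _ _
      rw [pullback.lift_snd, Category.assoc, pullback.lift_snd, ← Category.assoc,
        pullback.lift_snd, hg]
  rw [hfac]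
  infer_instance

end Chart

end Groth.Agent.Helper1.VA
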