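import Mathlib
import Groth.Agent.Helper1.VA11

/-!
# Very ample modules, part 12: powers of ample modules are very ample, over a general base
-/

set_option autoImplicit false
set_option linter.style.haveILetI false

namespace Groth.Agent.Helper1.VA

open CategoryTheory Limits AlgebraicGeometry TopologicalSpace Opposite HomogeneousLocalization
open Groth.Agent.Helper4.GenLoc Groth.Agent.Helper4.GenLocIso Groth.Agent.Helper4.StalkExact
  Groth.Agent.Helper4.PullSec Groth.Agent.Helper4.PullUnit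
open Groth.Agent.Helper1.ProjMor Groth.Agent.Helper1.Segre Groth.Agent.Helper1.PUP
open Groth.Agent.Helper4.TensorInv Groth.Agent.Helper4.TensorAssoc

universe u

section General

variable {X S : Scheme.{u}} (f : X ⟶ S)

/-- the chart criterion for very ampleness over a general base, for a finite nonempty index
type -/
theorem isRelVeryAmplePn_of_charts_finite' {M : X.Modules} {E : Type*} [Finite E] [Nonempty E]
    (σ : E → (Coh.structureModule X ⟶ M)) (I : Set E)
    (hI : ⨆ α : I, XE σ α = ⊤) (haff : ∀ α ∈ I, IsAffineOpen (XE σ α))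
    (W : E → S.Opens) (hW : ∀ α ∈ I, IsAffineOpen (W α))
    (hVW : ∀ α ∈ I, XE σ α ≤ f ⁻¹ᵁ W α)
    (hgen : ∀ (α : E) (hα : α ∈ I), ∀ T : Subring Γ((XE σ α : Scheme.{u}), ⊤),
      (∀ a : Γ(S, W α), toTop ((f.appLE (W α) (XE σ α) (hVW α hα)).hom a) ∈ T) →
      (∀ k, toTop (ratio σ k α) ∈ T) → T = ⊤) :
    RelAmple.IsRelVeryAmplePn f M := by
  obtain ⟨K, hK⟩ : ∃ K, Nat.card E = K + 1 :=
    Nat.exists_eq_succ_of_ne_zero (Nat.card_pos (α := E)).ne'
  let e : Fin (K + 1) ≃ E := ((Finite.equivFin E).trans (finCongr hK)).symm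
  let σ' : Fin (K + 1) → (Coh.structureModule X ⟶ M) := fun α => σ (e α)
  have hXE : ∀ β : E, XE σ β = XE σ' (e.symm β) := by
    intro β
    show _ = XE σ (e (e.symm β))
    rw [e.apply_symm_apply]
  have hcov : ⨆ α, XE σ' α = ⊤ := by
    rw [eq_top_iff, ← hI]
    apply iSup_le
    rintro ⟨β, hβ⟩
    rw [hXE β]
    exact le_iSup (fun α => XE σ' α) (e.symm β)
  let I' : Set (Fin (K + 1)) := {α | e α ∈ I}
  refine isRelVeryAmplePn_of_charts_imm f σ' hcov I' ?_ ?_
  · rw [eq_top_iff, ← hI]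
    apply iSup_le
    rintro ⟨β, hβ⟩
    rw [hXE β]
    have hmem : e.symm β ∈ I' := by
      show e (e.symm β) ∈ I
      rw [e.apply_symm_apply]
      exact hβ
    exact le_iSup (fun α : I' => XE σ' α) ⟨e.symm β, hmem⟩
  · rintro ⟨α, hα⟩
    refine isImmersion_cl_of_gen f σ' hcov α (haff (e α) hα) (W (e α)) (hW (e α) hα)
      (hVW (e α) hα) (fun T h1 h2 => ?_)
    refine hgen (e α) hα T h1 (fun k' => ?_)
    have h3 := h2 (e.symm k')
    have h4 : ratio σ' (e.symm k') α = ratio σ k' (e α) := by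
      show ratio σ (e (e.symm k')) (e α) = _
      rw [e.apply_symm_apply]
    rw [h4] at h3
    exact h3

theorem exists_finset_gen' [LocallyOfFiniteType f] (G : X.Opens) (hG : IsAffineOpen G)
    (W : S.Opens) (hW : IsAffineOpen W) (hle : G ≤ f ⁻¹ᵁ W) :
    ∃ B : Finset Γ(X, G), ∀ T : Subring Γ(X, G),
      (∀ a, (f.appLE W G hle).hom a ∈ T) → (∀ b ∈ B, b ∈ T) → T = ⊤ := by
  have h := f.finiteType_appLE hW hG hle
  letI := (f.appLE W G hle).hom.toAlgebra
  have h' : Algebra.FiniteType Γ(S, W) Γ(X, G) := h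
  obtain ⟨B, hB⟩ := h'.out
  refine ⟨B, fun T h1 h2 => ?_⟩
  let T' : Subalgebra Γ(S, W) Γ(X, G) := { T.toSubsemiring with algebraMap_mem' := h1 }
  have h3 : Algebra.adjoin Γ(S, W) (B : Set Γ(X, G)) ≤ T' := Algebra.adjoin_le (fun b hb => h2 b hb)
  rw [hB] at h3
  rw [eq_top_iff]
  intro x _
  exact h3 (Algebra.mem_top : x ∈ (⊤ : Subalgebra Γ(S, W) Γ(X, G)))

theorem subring_eq_top_of_gen' (V G : X.Opens) (hVG : V = G) (W : S.Opens)
    (hle : G ≤ f ⁻¹ᵁ W) (B : Finset Γ(X, G))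
    (hB : ∀ T : Subring Γ(X, G),
      (∀ a, (f.appLE W G hle).hom a ∈ T) → (∀ b ∈ B, b ∈ T) → T = ⊤)
    (T : Subring Γ((V : Scheme.{u}), ⊤))
    (h1 : ∀ a, toTop ((f.appLE W V (hVG.le.trans hle)).hom a) ∈ T)
    (h2 : ∀ b ∈ B, toTop (X.presheaf.map (homOfLE hVG.le).op b) ∈ T) : T = ⊤ := by
  subst hVG
  have h3 := hB (T.comap V.topIso.inv.hom) (fun a => ?_) (fun b hb => ?_)
  · rw [eq_top_iff]
    intro x _
    have h4 : V.topIso.hom.hom x ∈ T.comap V.topIso.inv.hom := by rw [h3]; trivial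
    have h5 : V.topIso.inv.hom (V.topIso.hom.hom x) = x := by
      rw [← CommRingCat.comp_apply, Iso.hom_inv_id]
      rfl
    rw [Subring.mem_comap, h5] at h4
    exact h4
  · rw [Subring.mem_comap]
    exact h1 a
  · rw [Subring.mem_comap]
    have h4 := h2 b hb
    rw [res_self] at h4
    exact h4

variable [LocallyOfFiniteType f] [CompactSpace X] [QuasiSeparatedSpace X]
  (M : X.Modules) (hM : PicF.IsInvertible M) {ι : Type*} [Finite ι]
  (ρ : ι → (Coh.structureModule X ⟶ M))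

include hM in
/-- **all large powers of an invertible module with finitely many sections with affine
generating loci lying over affine opens of the base and covering the scheme are very ample**
(here in the form `O ⊗ M^N`) -/
theorem exists_forall_veryAmple_of_cover'
    (haff : ∀ i, IsAffineOpen (CohB1.genLocus M (ρ i)))
    (W : ι → S.Opens) (hW : ∀ i, IsAffineOpen (W i))
    (hle : ∀ i, CohB1.genLocus M (ρ i) ≤ f ⁻¹ᵁ W i)
    (hcov : ⨆ i, CohB1.genLocus M (ρ i) = ⊤) :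
    ∃ N₀ : ℕ, ∀ N, N₀ ≤ N → RelAmple.IsRelVeryAmplePn f
      (CohB1.tensorMod (Coh.structureModule X) (CohB1.tensorPow M N)) := by
  classical
  haveI : Fintype ι := Fintype.ofFinite ι
  haveI : (Coh.structureModule X).IsQuasicoherent :=
    Groth.Agent.Helper4.QAffSec.isQuasicoherent_of_isInvertible _
      Groth.Agent.Helper4.TensorInv.isInvertible_structureModule
  choose B hB using fun i => exists_finset_gen' f _ (haff i) (W i) (hW i) (hle i)
  choose N₀ hN₀ using fun (i : ι) (b : Γ(X, CohB1.genLocus M (ρ i))) =>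
    Groth.Agent.Helper4.TwistExtU.exists_forall_twist_extends M hM (ρ i)
      (Coh.structureModule X) b
  refine ⟨(Finset.univ.sup fun i => (B i).sup (N₀ i)) + 1, fun N hN => ?_⟩
  obtain ⟨N', rfl⟩ : ∃ N', N = N' + 1 := Nat.exists_eq_succ_of_ne_zero (by omega)
  have hle' : ∀ (i : ι) (b : Γ(X, CohB1.genLocus M (ρ i))), b ∈ B i → N₀ i b ≤ N' + 1 := by
    intro i b hb
    have h1 : N₀ i b ≤ (B i).sup (N₀ i) := Finset.le_sup hb
    have h2 : (B i).sup (N₀ i) ≤ Finset.univ.sup fun i => (B i).sup (N₀ i) :=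
      Finset.le_sup (f := fun i => (B i).sup (N₀ i)) (Finset.mem_univ i)
    omega
  choose t' ht' using fun (p : Σ i, ↥(B i)) => hN₀ p.1 p.2.1 (N' + 1) (hle' p.1 p.2.1 p.2.2)
  let 𝓜 : X.Modules := CohB1.tensorMod (Coh.structureModule X) (CohB1.tensorPow M (N' + 1))
  let σ : Option (ι ⊕ Σ i, ↥(B i)) → (Coh.structureModule X ⟶ 𝓜) := fun e =>
    match e with
    | none => 0
    | some (Sum.inl i) => uSec ρ i (N' + 1)
    | some (Sum.inr p) => Groth.Agent.Lead.LocLift.homOfTop 𝓜 (t' p)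
  let W' : Option (ι ⊕ Σ i, ↥(B i)) → S.Opens := fun e =>
    match e with
    | some (Sum.inl i) => W i
    | _ => ⊥
  have hXE : ∀ i, XE σ (some (Sum.inl i)) = CohB1.genLocus M (ρ i) := fun i =>
    genLocus_uSec ρ hM i N'
  refine isRelVeryAmplePn_of_charts_finite' f σ (Set.range fun i => some (Sum.inl i)) ?_ ?_ W'
    ?_ ?_ ?_
  · rw [eq_top_iff, ← hcov]
    apply iSup_le
    intro i
    rw [← hXE i]
    exact le_iSup (fun α : (Set.range fun i : ι => (some (Sum.inl i) :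
      Option (ι ⊕ Σ i, ↥(B i)))) => XE σ α) ⟨_, ⟨i, rfl⟩⟩
  · rintro _ ⟨i, rfl⟩
    show IsAffineOpen (XE σ (some (Sum.inl i)))
    rw [hXE i]
    exact haff i
  · rintro _ ⟨i, rfl⟩
    exact hW i
  · rintro _ ⟨i, rfl⟩
    show XE σ (some (Sum.inl i)) ≤ f ⁻¹ᵁ W i
    rw [hXE i]
    exact hle i
  · rintro _ ⟨i, rfl⟩ T h1 h2
    refine subring_eq_top_of_gen' f (XE σ (some (Sum.inl i))) (CohB1.genLocus M (ρ i)) (hXE i)
      (W i) (hle i) (B i) (hB i) T h1 (fun b hb => ?_)
    have h3 := h2 (some (Sum.inr ⟨i, ⟨b, hb⟩⟩))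
    rw [ratio_of_extension ρ σ (some (Sum.inl i)) (some (Sum.inr ⟨i, ⟨b, hb⟩⟩)) i rfl
      (hXE i).le b (t' ⟨i, ⟨b, hb⟩⟩) (ht' ⟨i, ⟨b, hb⟩⟩) rfl] at h3
    exact h3

end General

section Ample

variable {X S : Scheme.{u}} (f : X ⟶ S) {L : X.Modules}

/-- for an ample module there are finitely many sections of a single positive power with affine
generating loci, each lying over an affine open of the base, covering the scheme -/
theorem exists_pow_cover' (h : CohB1.IsAmple L) :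
    ∃ (P : ℕ) (_ : 0 < P) (T : Finset X)
      (ρ : T → (Coh.structureModule X ⟶ CohB1.tensorPow L P)) (W : T → S.Opens),
      (∀ i, IsAffineOpen (CohB1.genLocus _ (ρ i))) ∧ (∀ i, IsAffineOpen (W i)) ∧
      (∀ i, CohB1.genLocus _ (ρ i) ≤ f ⁻¹ᵁ W i) ∧ ⨆ i, CohB1.genLocus _ (ρ i) = ⊤ := by
  have hL := h.1
  haveI := h.2.1
  have key : ∀ x : X, ∃ (W : S.Opens) (n : ℕ)
      (s : Coh.structureModule X ⟶ CohB1.tensorPow L (n + 1)),
      IsAffineOpen W ∧ x ∈ CohB1.genLocus _ s ∧ CohB1.genLocus _ s ≤ f ⁻¹ᵁ W ∧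
        IsAffineOpen (CohB1.genLocus _ s) := by
    intro x
    obtain ⟨W, hW, hxW, -⟩ := exists_isAffineOpen_mem_and_subset (X := S) (x := f x) (U := ⊤)
      trivial
    obtain ⟨n, s, h1, h2, h3⟩ :=
      Groth.Agent.Helper4.AmpleFinite.exists_affine_genLocus_of_finite h {x}
        (Set.finite_singleton x) (f ⁻¹ᵁ W) (by
          intro y hy
          rw [Set.mem_singleton_iff.mp hy]
          exact hxW)
    exact ⟨W, n, s, hW, h1 rfl, h2, h3⟩
  choose W n s hW hx hle ha using key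
  obtain ⟨T, hT⟩ := CompactSpace.elim_nhds_subcover
    (fun x => (CohB1.genLocus _ (s x) : Set X))
    (fun x => (CohB1.genLocus _ (s x)).isOpen.mem_nhds (hx x))
  have hP : 0 < ∏ x ∈ T, (n x + 1) := Finset.prod_pos (fun x _ => Nat.succ_pos _)
  have hd : ∀ x ∈ T, (n x + 1) ∣ ∏ x ∈ T, (n x + 1) := fun x hx =>
    Finset.dvd_prod_of_mem _ hx
  choose ρ hρ using fun x : T =>
    Groth.Agent.Helper4.AmpleFinite.exists_pow_section hL (n x) (s x) _ hP (hd x x.2)
  refine ⟨_, hP, T, ρ, fun i => W i, fun i => ?_, fun i => hW i, fun i => ?_, ?_⟩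
  · rw [hρ]
    exact ha i
  · rw [hρ]
    exact hle i
  · rw [eq_top_iff]
    intro x _
    have hx' : x ∈ ⋃ y ∈ T, (CohB1.genLocus _ (s y) : Set X) := by rw [hT]; trivial
    obtain ⟨y, hyT, hxy⟩ := Set.mem_iUnion₂.mp hx'
    refine Opens.mem_iSup.mpr ⟨⟨y, hyT⟩, ?_⟩
    rw [hρ]
    exact hxy

variable [LocallyOfFiniteType f]

/-- **some positive power of an ample module is very ample**, over a general base -/
theorem exists_pow_veryAmple' (h : CohB1.IsAmple L) :
    ∃ n : ℕ, 0 < n ∧ RelAmple.IsRelVeryAmplePn f (CohB1.tensorPow L n) := by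
  have hL := h.1
  haveI := h.2.1
  haveI := Groth.Agent.Helper4.AmpleBasis.quasiSeparatedSpace_of_isAmple h
  obtain ⟨P, hP, T, ρ, W, haff, hW, hle, hcov⟩ := exists_pow_cover' f h
  obtain ⟨N₀, hN₀⟩ := exists_forall_veryAmple_of_cover' f (CohB1.tensorPow L P)
    (isInvertible_tensorPow hL P) ρ haff W hW hle hcov
  refine ⟨P * (N₀ + 1), Nat.mul_pos hP (Nat.succ_pos _), ?_⟩
  exact isRelVeryAmplePn_of_iso f
    (Groth.Agent.Helper4.AmpleBasis.unitorL _ ≪≫ powMulIso L hL P (N₀ + 1))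
    (hN₀ (N₀ + 1) (Nat.le_succ _))

/-- **all large twists of an invertible module by an ample module are very ample**, over a
general base -/
theorem exists_forall_veryAmple' (h : CohB1.IsAmple L) (L' : X.Modules)
    (hL' : PicF.IsInvertible L') :
    ∃ n₀ : ℕ, ∀ n, n₀ ≤ n →
      RelAmple.IsRelVeryAmplePn f (CohB1.tensorMod (CohB1.tensorPow L n) L') := by
  have hL := h.1
  obtain ⟨n₁, -, hva⟩ := exists_pow_veryAmple' f h
  obtain ⟨N₀, hN₀⟩ := exists_forall_sections h L' hL'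
  refine ⟨n₁ + N₀, fun n hn => ?_⟩
  obtain ⟨N, rfl⟩ : ∃ N, n = n₁ + N := ⟨n - n₁, by omega⟩
  obtain ⟨T, σ, hσ⟩ := hN₀ N (by omega)
  have h1 := isRelVeryAmplePn_tensor_of_sections_finite f (CohB1.tensorPow L n₁)
    (CohB1.tensorMod L' (CohB1.tensorPow L N)) (isInvertible_tensorPow hL n₁) hva
    (isInvertible_tensorMod hL' (isInvertible_tensorPow hL N)) σ hσ
  refine isRelVeryAmplePn_of_iso f ?_ h1
  exact PicGrp.tensorModIso (Iso.refl _) (Groth.Agent.Helper4.AmpleBasis.braidIso _ _) ≪≫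
    (assocIso (CohB1.tensorPow L n₁) (CohB1.tensorPow L N) L' (isInvertible_tensorPow hL N)
      hL').symm ≪≫
    PicGrp.tensorModIso (powAddIso L hL n₁ N) (Iso.refl L')

/-- all large powers of an ample module are very ample, over a general base -/
theorem exists_forall_veryAmple_pow' (h : CohB1.IsAmple L) :
    ∃ n₀ : ℕ, 0 < n₀ ∧ ∀ n, n₀ ≤ n → RelAmple.IsRelVeryAmplePn f (CohB1.tensorPow L n) := by
  obtain ⟨n₀, hn₀⟩ := exists_forall_veryAmple' f h (Coh.structureModule X)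
    isInvertible_structureModule
  refine ⟨n₀ + 1, Nat.succ_pos _, fun n hn => ?_⟩
  exact isRelVeryAmplePn_of_iso f (SecTwist.unitorR (CohB1.tensorPow L n)) (hn₀ n (by omega))

end Ample

end Groth.Agent.Helper1.VA
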