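import Mathlib
import Groth.Agent.Helper1.VA12

/-!
# Very ample modules, part 13: restriction to opens of the base; relative ampleness
-/

set_option autoImplicit false
set_option linter.style.haveILetI false

namespace Groth.Agent.Helper1.VA

open CategoryTheory Limits AlgebraicGeometry TopologicalSpace Opposite HomogeneousLocalization
open Groth.Agent.Helper1.ProjMor Groth.Agent.Helper1.Segre Groth.Agent.Helper1.PUP
open Groth.Agent.Helper4.TensorInv Groth.Agent.Helper4.TensorAssoc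

universe u

/-- very ampleness restricts to opens of the base -/
theorem isRelVeryAmplePn_restrict {X S : Scheme.{u}} (f : X ⟶ S) (V : S.Opens) (M : X.Modules)
    (h : RelAmple.IsRelVeryAmplePn f M) :
    RelAmple.IsRelVeryAmplePn (f ∣_ V) (M.restrict (f ⁻¹ᵁ V).ι) := by
  obtain ⟨n, i, himm, hi, ⟨φ⟩⟩ := h
  let iV : ((f ⁻¹ᵁ V : X.Opens) : Scheme.{u}) ⟶ CohB1.ProjSpaceOver n (V : Scheme.{u}) :=
    liftPSO ((f ⁻¹ᵁ V).ι ≫ i ≫ prZ n S) (f ∣_ V)
  let o : CohB1.ProjSpaceOver n (V : Scheme.{u}) ⟶ CohB1.ProjSpaceOver n S :=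
    liftPSO (prZ n (V : Scheme.{u})) (CohB1.ProjSpaceOver.toBase n (V : Scheme.{u}) ≫ V.ι)
  have hi' : i ≫ CohB1.ProjSpaceOver.toBase n S = f := hi
  have ho : iV ≫ o = (f ⁻¹ᵁ V).ι ≫ i := by
    apply hom_ext_PSO
    · rw [Category.assoc, liftPSO_prZ, liftPSO_prZ, Category.assoc]
    · rw [Category.assoc, liftPSO_toBase, ← Category.assoc, liftPSO_toBase, Category.assoc, hi',
        morphismRestrict_ι]
  haveI : IsImmersion (iV ≫ o) := by
    rw [ho]
    infer_instance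
  have himmV : IsImmersion iV := IsImmersion.of_comp iV o
  refine ⟨n, iV, himmV, liftPSO_toBase _ _, ⟨?_⟩⟩
  have h1 : iV ≫ prZ n (V : Scheme.{u}) = (f ⁻¹ᵁ V).ι ≫ i ≫ prZ n S := liftPSO_prZ _ _
  exact (Scheme.Modules.restrictFunctorIsoPullback (f ⁻¹ᵁ V).ι).app M ≪≫
    (Scheme.Modules.pullback (f ⁻¹ᵁ V).ι).mapIso φ ≪≫
    (Scheme.Modules.pullback (f ⁻¹ᵁ V).ι).mapIso
      ((Scheme.Modules.pullbackComp i (prZ n S)).app _) ≪≫
    (Scheme.Modules.pullbackComp (f ⁻¹ᵁ V).ι (i ≫ prZ n S)).app _ ≪≫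
    (Scheme.Modules.pullbackCongr h1).symm.app _ ≪≫
    (Scheme.Modules.pullbackComp iV (prZ n (V : Scheme.{u}))).symm.app _

end Groth.Agent.Helper1.VA
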