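import Mathlib
import Groth.Agent.Helper1.VA13
import Groth.Agent.Helper4.RelCompTwist
import Groth.Agent.Helper6.HProj

/-!
# Very ample modules, part 14: quasi-projective morphisms and immersions into projective space
-/

set_option autoImplicit false
set_option linter.style.haveILetI false

namespace Groth.Agent.Helper1.VA

open CategoryTheory Limits AlgebraicGeometry TopologicalSpace Opposite HomogeneousLocalization
open Groth.Agent.Helper1.ProjMor Groth.Agent.Helper1.Segre Groth.Agent.Helper1.PUP
open Groth.Agent.Helper4.TensorInv Groth.Agent.Helper4.TensorAssoc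

universe u

variable {X S : Scheme.{u}}

/-- a very ample module for a quasi-compact morphism is relatively ample -/
theorem isRelAmple_of_isRelVeryAmplePn (f : X ⟶ S) [QuasiCompact f] (M : X.Modules)
    (h : RelAmple.IsRelVeryAmplePn f M) : RelAmple.IsRelAmple f M := by
  refine ⟨inferInstance, fun V => ?_⟩
  haveI : IsAffine (V.1 : Scheme.{u}) := V.2
  exact isAmple_of_isRelVeryAmplePn (f ∣_ V.1) _ (isRelVeryAmplePn_restrict f V.1 M h)

/-- the pullback of `O(1)` along an immersion into projective space is very ample -/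
theorem isRelVeryAmplePn_of_immersion {n : ℕ} (i : X ⟶ CohB1.ProjSpaceOver n S) [IsImmersion i] :
    RelAmple.IsRelVeryAmplePn (i ≫ CohB1.ProjSpaceOver.toBase n S)
      ((Scheme.Modules.pullback i).obj (Twist.twistOver n S 1)) :=
  ⟨n, i, inferInstance, rfl, ⟨Iso.refl _⟩⟩

/-- the pullback of `O(1)` along a quasi-compact immersion into projective space is relatively
ample -/
theorem isRelAmple_of_immersion {n : ℕ} (i : X ⟶ CohB1.ProjSpaceOver n S) [IsImmersion i]
    [QuasiCompact i] :
    RelAmple.IsRelAmple (i ≫ CohB1.ProjSpaceOver.toBase n S)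
      ((Scheme.Modules.pullback i).obj (Twist.twistOver n S 1)) := by
  haveI := Groth.Agent.Helper6.HProj.isProper_toBase n S
  exact isRelAmple_of_isRelVeryAmplePn _ _ (isRelVeryAmplePn_of_immersion i)

/-- a scheme of finite type over `S` with an ample module is a quasi-compact immersed subscheme
of a projective space over `S` -/
theorem exists_immersion_of_isAmple (f : X ⟶ S) [LocallyOfFiniteType f] [QuasiCompact f]
    (L : X.Modules) (h : CohB1.IsAmple L) :
    ∃ (n : ℕ) (i : X ⟶ CohB1.ProjSpaceOver n S), IsImmersion i ∧ QuasiCompact i ∧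
      i ≫ CohB1.ProjSpaceOver.toBase n S = f := by
  obtain ⟨d, -, n, i, hi, hf, -⟩ := exists_pow_veryAmple' f h
  haveI := Groth.Agent.Helper6.HProj.isProper_toBase n S
  have hf' : i ≫ CohB1.ProjSpaceOver.toBase n S = f := hf
  haveI : QuasiCompact (i ≫ CohB1.ProjSpaceOver.toBase n S) := by rw [hf']; infer_instance
  exact ⟨n, i, hi, QuasiCompact.of_comp i (CohB1.ProjSpaceOver.toBase n S), hf'⟩

/-- over a base with an ample module, a relatively ample module gives an ample module -/
theorem exists_isAmple_of_isRelAmple (f : X ⟶ S) [QuasiCompact f] (L : X.Modules)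
    (hL : RelAmple.IsRelAmple f L) (N : S.Modules) (hN : CohB1.IsAmple N) :
    ∃ L' : X.Modules, CohB1.IsAmple L' := by
  obtain ⟨n₀, hn₀⟩ :=
    Groth.Agent.Helper4.RelCompTwist.exists_forall_isAmple_tensor_pullback f L N hL hN
  exact ⟨_, hn₀ n₀ le_rfl⟩

/-- an ample module is relatively ample for every quasi-compact morphism -/
theorem isRelAmple_of_isAmple (f : X ⟶ S) [QuasiCompact f] (L : X.Modules)
    (h : CohB1.IsAmple L) : RelAmple.IsRelAmple f L := by
  refine ⟨inferInstance, fun V => ?_⟩
  haveI : CompactSpace ((f ⁻¹ᵁ V.1 : X.Opens) : Scheme.{u}) :=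
    isCompact_iff_compactSpace.mp (QuasiCompact.isCompact_preimage (f := f) _ V.1.isOpen
      V.2.isCompact)
  exact Groth.Agent.Helper4.AmpleRestrict.isAmple_restrict _ h

end Groth.Agent.Helper1.VA
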