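import Mathlib

set_option autoImplicit false
set_option linter.unusedSectionVars false

namespace Groth.Agent.Helper1.DPlusFF
open CategoryTheory Limits DerivedCategory

universe w' w v' v u' u

section lemma1
variable {C : Type u} [Category.{v} C] [Abelian C] [HasDerivedCategory.{w} C]

lemma Q_map_eq (K L : CochainComplex C ℤ) (f : K ⟶ L) :
    Q.map f = (quotientCompQhIso C).inv.app K ≫
      Qh.map ((HomotopyCategory.quotient _ _).map f) ≫ (quotientCompQhIso C).hom.app L := by
  rw [quotientCompQhIso_hom_naturality, Iso.inv_hom_id_app_assoc]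

lemma exists_Q_map_eq (K L : CochainComplex C ℤ) [L.IsKInjective] (φ : Q.obj K ⟶ Q.obj L) :
    ∃ f : K ⟶ L, Q.map f = φ := by
  obtain ⟨ψ, hψ⟩ := (CochainComplex.IsKInjective.Qh_map_bijective
    ((HomotopyCategory.quotient _ _).obj K) L).2
    ((quotientCompQhIso C).hom.app K ≫ φ ≫ (quotientCompQhIso C).inv.app L)
  obtain ⟨f, rfl⟩ := (HomotopyCategory.quotient _ _).map_surjective ψ
  refine ⟨f, ?_⟩
  rw [Q_map_eq, hψ]
  simp

lemma quotient_map_eq_of_Q_map_eq (K L : CochainComplex C ℤ) [L.IsKInjective] (f g : K ⟶ L)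
    (h : Q.map f = Q.map g) :
    (HomotopyCategory.quotient _ _).map f = (HomotopyCategory.quotient _ _).map g := by
  apply (CochainComplex.IsKInjective.Qh_map_bijective
    ((HomotopyCategory.quotient _ _).obj K) L).1
  rw [Q_map_eq, Q_map_eq] at h
  have := congrArg (fun x => (quotientCompQhIso C).hom.app K ≫ x ≫
    (quotientCompQhIso C).inv.app L) h
  simp only [Category.assoc, Iso.hom_inv_id_app_assoc, Iso.hom_inv_id_app] at this
  erw [Category.comp_id, Category.comp_id] at this
  exact this

lemma Q_map_eq_of_quotient_map_eq (K L : CochainComplex C ℤ) (f g : K ⟶ L)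
    (h : (HomotopyCategory.quotient _ _).map f = (HomotopyCategory.quotient _ _).map g) :
    Q.map f = Q.map g := by
  rw [Q_map_eq, Q_map_eq, h]

end lemma1

section main
variable {A' : Type u'} [Category.{v'} A'] [Abelian A'] [HasDerivedCategory.{w'} A']
    {A : Type u} [Category.{v} A] [Abelian A] [HasDerivedCategory.{w} A]
    (ι : A' ⥤ A) [ι.Additive] [PreservesFiniteLimits ι] [PreservesFiniteColimits ι] [ι.Full] [ι.Faithful]

lemma map_mapDerivedCategory_Q (K L : CochainComplex A' ℤ) (f : K ⟶ L) :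
    ι.mapDerivedCategory.map (Q.map f) = ι.mapDerivedCategoryFactors.hom.app K ≫
      Q.map ((ι.mapHomologicalComplex (ComplexShape.up ℤ)).map f) ≫
        ι.mapDerivedCategoryFactors.inv.app L := by
  rw [← Category.assoc, ← ι.mapDerivedCategoryFactors_hom_naturality, Category.assoc,
    Iso.hom_inv_id_app]
  exact (Category.comp_id _).symm

/-- bijectivity on representatives -/
lemma bijective_of_isKInjective (K I : CochainComplex A' ℤ) [I.IsKInjective]
    [CochainComplex.IsKInjective ((ι.mapHomologicalComplex (ComplexShape.up ℤ)).obj I)] :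
    Function.Bijective (fun f : Q.obj K ⟶ Q.obj I => ι.mapDerivedCategory.map f) := by
  constructor
  · intro φ₁ φ₂ h
    obtain ⟨f₁, rfl⟩ := exists_Q_map_eq K I φ₁
    obtain ⟨f₂, rfl⟩ := exists_Q_map_eq K I φ₂
    dsimp only at h
    rw [map_mapDerivedCategory_Q, map_mapDerivedCategory_Q] at h
    have h' : Q.map ((ι.mapHomologicalComplex (ComplexShape.up ℤ)).map f₁) =
        Q.map ((ι.mapHomologicalComplex (ComplexShape.up ℤ)).map f₂) := by
      have := congrArg (fun x => ι.mapDerivedCategoryFactors.inv.app K ≫ x ≫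
        ι.mapDerivedCategoryFactors.hom.app I) h
      simpa using this
    have h'' := quotient_map_eq_of_Q_map_eq _ _ _ _ h'
    apply Q_map_eq_of_quotient_map_eq
    exact HomotopyCategory.eq_of_homotopy _ _
      (ι.preimageHomotopy (HomotopyCategory.homotopyOfEq _ _ h''))
  · intro ψ
    obtain ⟨g, hg⟩ := exists_Q_map_eq _ _
      (ι.mapDerivedCategoryFactors.inv.app K ≫ ψ ≫ ι.mapDerivedCategoryFactors.hom.app I)
    obtain ⟨f, rfl⟩ := (ι.mapHomologicalComplex (ComplexShape.up ℤ)).map_surjective g
    refine ⟨Q.map f, ?_⟩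
    dsimp only
    rw [map_mapDerivedCategory_Q, hg]
    simp

lemma bijective_map_of_iso {C₁ : Type*} [Category C₁] {C₂ : Type*} [Category C₂] (G : C₁ ⥤ C₂)
    {X X' Y Y' : C₁} (eX : X ≅ X') (eY : Y ≅ Y')
    (h : Function.Bijective (fun f : X' ⟶ Y' => G.map f)) :
    Function.Bijective (fun f : X ⟶ Y => G.map f) := by
  constructor
  · intro f₁ f₂ hf
    dsimp only at hf
    have : G.map (eX.inv ≫ f₁ ≫ eY.hom) = G.map (eX.inv ≫ f₂ ≫ eY.hom) := by
      simp only [Functor.map_comp, hf]
    have := h.1 this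
    simpa using this
  · intro g
    obtain ⟨f, hf⟩ := h.2 (G.map eX.inv ≫ g ≫ G.map eY.hom)
    refine ⟨eX.hom ≫ f ≫ eY.inv, ?_⟩
    dsimp only at hf ⊢
    rw [Functor.map_comp, Functor.map_comp, hf]
    simp [← Functor.map_comp, ← Functor.map_comp_assoc]

include ι in
lemma injective_map_obj
    (hinj : ∀ X' : A', ∃ (Y' : A') (i : X' ⟶ Y'), Mono i ∧ Injective (ι.obj Y'))
    (J : A') [Injective J] : Injective (ι.obj J) := by
  obtain ⟨Y', i, hi, hY'⟩ := hinj J
  let r : Retract J Y' := ⟨i, Injective.factorThru (𝟙 J) i, Injective.comp_factorThru _ _⟩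
  exact (r.map ι).injective

include ι in
lemma injective_of_injective_map_obj (Y' : A') (h : Injective (ι.obj Y')) : Injective Y' := by
  constructor
  intro X Y g f hf
  have : Mono (ι.map f) := inferInstance
  refine ⟨ι.preimage (Injective.factorThru (ι.map g) (ι.map f)), ?_⟩
  apply ι.map_injective
  rw [Functor.map_comp, Functor.map_preimage, Injective.comp_factorThru]

include ι in
lemma enoughInjectives
    (hinj : ∀ X' : A', ∃ (Y' : A') (i : X' ⟶ Y'), Mono i ∧ Injective (ι.obj Y')) :
    EnoughInjectives A' where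
  presentation X' := by
    obtain ⟨Y', i, hi, hY'⟩ := hinj X'
    have := injective_of_injective_map_obj ι Y' hY'
    exact ⟨⟨Y', inferInstance, i, hi⟩⟩

theorem bijective_map
    (hinj : ∀ X' : A', ∃ (Y' : A') (i : X' ⟶ Y'), Mono i ∧ Injective (ι.obj Y'))
    (X Y : DerivedCategory A') (b : ℤ) [Y.IsGE b] :
    Function.Bijective (fun f : X ⟶ Y => ι.mapDerivedCategory.map f) := by
  have := enoughInjectives ι hinj
  obtain ⟨KY, hKY, ⟨eY⟩⟩ := Y.exists_iso_Q_obj_of_isGE b
  obtain ⟨I, j, hj, hI, hI'⟩ := CochainComplex.Plus.modelCategoryQuillen.exists_quasiIso_injective KY b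
  have : I.IsKInjective := CochainComplex.isKInjective_of_injective I b
  have hιI : ∀ n, Injective (((ι.mapHomologicalComplex (ComplexShape.up ℤ)).obj I).X n) :=
    fun n => injective_map_obj ι hinj (I.X n)
  have : CochainComplex.IsStrictlyGE ((ι.mapHomologicalComplex (ComplexShape.up ℤ)).obj I) b := by
    rw [CochainComplex.isStrictlyGE_mapHomologicalComplex_obj_iff]
    infer_instance
  have : CochainComplex.IsKInjective ((ι.mapHomologicalComplex (ComplexShape.up ℤ)).obj I) :=
    CochainComplex.isKInjective_of_injective _ b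
  exact bijective_map_of_iso ι.mapDerivedCategory (Q.objObjPreimageIso X).symm
    (eY ≪≫ asIso (Q.map j)) (bijective_of_isKInjective ι _ I)

end main

end Groth.Agent.Helper1.DPlusFF
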