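import Mathlib
import Groth.Agent.Helper1.DPlusFF

set_option autoImplicit false
set_option linter.unusedSectionVars false

namespace Groth.Agent.Helper1.RFLes
open CategoryTheory Limits Pretriangulated DerivedCategory

universe w' w v' v u' u

section A
variable {D : Type u'} [Category.{v'} D] [Abelian D] [HasDerivedCategory.{w'} D]

lemma les_of_distinguished {A₁ A₂ A₃ : DerivedCategory D} (u : A₁ ⟶ A₂) (v : A₂ ⟶ A₃)
    (w : A₃ ⟶ A₁⟦(1:ℤ)⟧) (h : Triangle.mk u v w ∈ distTriang _) (i : ℤ) :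
    kernelSubobject ((homologyFunctor D i).map v) = imageSubobject ((homologyFunctor D i).map u) ∧
    ∃ δ : (homologyFunctor D i).obj A₃ ⟶ (homologyFunctor D (i+1)).obj A₁,
      kernelSubobject δ = imageSubobject ((homologyFunctor D i).map v) ∧
      kernelSubobject ((homologyFunctor D (i+1)).map u) = imageSubobject δ := by
  refine ⟨?_, HomologySequence.δ (Triangle.mk u v w) i (i+1) rfl, ?_, ?_⟩
  · exact ((ShortComplex.exact_iff_image_eq_kernel _).1 (HomologySequence.exact₂ _ h i)).symm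
  · exact ((ShortComplex.exact_iff_image_eq_kernel _).1 (HomologySequence.exact₃ _ h i (i+1) rfl)).symm
  · exact ((ShortComplex.exact_iff_image_eq_kernel _).1 (HomologySequence.exact₁ _ h i (i+1) rfl)).symm

/-- iso-invariance -/
lemma les_of_iso {A₁ A₂ A₃ B₁ B₂ B₃ : DerivedCategory D} (u : A₁ ⟶ A₂) (v : A₂ ⟶ A₃)
    (u' : B₁ ⟶ B₂) (v' : B₂ ⟶ B₃) (w' : B₃ ⟶ B₁⟦(1:ℤ)⟧)
    (h : Triangle.mk u' v' w' ∈ distTriang _)
    (e₁ : A₁ ≅ B₁) (e₂ : A₂ ≅ B₂) (e₃ : A₃ ≅ B₃)
    (c₁ : u ≫ e₂.hom = e₁.hom ≫ u') (c₂ : v ≫ e₃.hom = e₂.hom ≫ v') (i : ℤ) :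
    kernelSubobject ((homologyFunctor D i).map v) = imageSubobject ((homologyFunctor D i).map u) ∧
    ∃ δ : (homologyFunctor D i).obj A₃ ⟶ (homologyFunctor D (i+1)).obj A₁,
      kernelSubobject δ = imageSubobject ((homologyFunctor D i).map v) ∧
      kernelSubobject ((homologyFunctor D (i+1)).map u) = imageSubobject δ := by
  apply les_of_distinguished u v (e₃.hom ≫ w' ≫ e₁.inv⟦(1:ℤ)⟧')
  refine isomorphic_distinguished _ h _ ?_
  refine Triangle.isoMk _ _ e₁ e₂ e₃ c₁ c₂ ?_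
  change (e₃.hom ≫ w' ≫ e₁.inv⟦(1:ℤ)⟧') ≫ e₁.hom⟦(1:ℤ)⟧' = e₃.hom ≫ w'
  rw [Category.assoc, Category.assoc, ← Functor.map_comp, e₁.inv_hom_id, CategoryTheory.Functor.map_id, Category.comp_id]

end A
section B
variable {C : Type u} [Category.{v} C] [Abelian C] [HasDerivedCategory.{w} C] [EnoughInjectives C]
  {D : Type u'} [Category.{v'} D] [Abelian D] [HasDerivedCategory.{w'} D]
  (F : C ⥤ D) [F.Additive]

/-- lift of a bounded below complex with injective terms -/
noncomputable def liftInj (J : CochainComplex.Plus C) (hJ : ∀ n, Injective (J.obj.X n)) :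
    CochainComplex.Plus (InjectiveObject C) :=
  ⟨HomologicalComplex.liftObjectProperty _ J.obj hJ, by
    obtain ⟨n, hn⟩ := J.property
    refine ⟨n, ?_⟩
    rwa [← CochainComplex.isStrictlyGE_mapHomologicalComplex_obj_iff _ (InjectiveObject.ι _)]⟩

noncomputable def liftInjIso (J : CochainComplex.Plus C) (hJ : ∀ n, Injective (J.obj.X n)) :
    J ≅ (InjectiveObject.ι C).mapCochainComplexPlus.obj (liftInj J hJ) :=
  (CochainComplex.Plus.fullyFaithfulι C).preimageIso
    (HomologicalComplex.Hom.isoOfComponents (fun n => Iso.refl _) (by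
      intro i j _
      exact (Category.id_comp _).trans (Category.comp_id _).symm))

lemma isIso_unit_of_injective (J : CochainComplex.Plus C) (hJ : ∀ n, Injective (J.obj.X n)) :
    IsIso (F.rightDerivedFunctorPlusUnit.app ((HomotopyCategory.Plus.quotient C).obj J)) := by
  have e := (HomotopyCategory.Plus.quotient C).mapIso (liftInjIso J hJ)
  have := F.rightDerivedFunctorPlusUnit.naturality e.hom
  have h2 : F.rightDerivedFunctorPlusUnit.app ((HomotopyCategory.Plus.quotient C).obj J) =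
      (F.mapHomotopyCategoryPlus ⋙ DerivedCategory.Plus.Qh).map e.hom ≫
        F.rightDerivedFunctorPlusUnit.app _ ≫
        (DerivedCategory.Plus.Qh ⋙ F.rightDerivedFunctorPlus).map e.inv := by
    rw [← Category.assoc, this, Category.assoc, ← Functor.map_comp, e.hom_inv_id,
      CategoryTheory.Functor.map_id, Category.comp_id]
  rw [h2]
  infer_instance

end B
section C1
variable {C : Type u} [Category.{v} C] [Abelian C] [HasDerivedCategory.{w} C]

lemma exists_cone_iso {S : ShortComplex (CochainComplex C ℤ)} (hS : S.ShortExact)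
    {J₁ J₂ : CochainComplex C ℤ} [J₂.IsKInjective] (r₁ : S.X₁ ⟶ J₁) (r₂ : S.X₂ ⟶ J₂)
    [QuasiIso r₁] [QuasiIso r₂] :
    ∃ (φ : J₁ ⟶ J₂) (a₃ : Q.obj S.X₃ ≅ Q.obj (CochainComplex.mappingCone φ)),
      Q.map S.f ≫ Q.map r₂ = Q.map r₁ ≫ Q.map φ ∧
      Q.map S.g ≫ a₃.hom = Q.map r₂ ≫ Q.map (CochainComplex.mappingCone.inr φ) := by
  have i1 : IsIso (Q.map r₁) := inferInstance
  have i2 : IsIso (Q.map r₂) := inferInstance
  obtain ⟨φ, hφ⟩ := DPlusFF.exists_Q_map_eq J₁ J₂ (inv (Q.map r₁) ≫ Q.map S.f ≫ Q.map r₂)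
  have c₁ : Q.map S.f ≫ Q.map r₂ = Q.map r₁ ≫ Q.map φ := by
    rw [hφ, IsIso.hom_inv_id_assoc]
  refine ⟨φ, ?_⟩
  have hT := triangleOfSES_distinguished hS
  have hT' := mappingCone_triangle_distinguished φ
  obtain ⟨a₃, h₂, h₃⟩ := complete_distinguished_triangle_morphism _ _ hT hT'
    (Q.map r₁) (Q.map r₂) c₁
  have : IsIso a₃ := by
    let m : triangleOfSES hS ⟶ Q.mapTriangle.obj (CochainComplex.mappingCone.triangle φ) :=
      { hom₁ := Q.map r₁, hom₂ := Q.map r₂, hom₃ := a₃, comm₁ := c₁, comm₂ := h₂, comm₃ := h₃ }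
    have h1 : IsIso m.hom₁ := i1
    have h2 : IsIso m.hom₂ := i2
    exact isIso₃_of_isIso₁₂ m hT hT' h1 h2
  exact ⟨@asIso _ _ _ _ a₃ this, c₁, h₂⟩

end C1

section C2
variable {C : Type u} [Category.{v} C] [Abelian C] [HasDerivedCategory.{w} C]

/-- P = quot ⋙ Qh⁺ -/
noncomputable abbrev P : CochainComplex.Plus C ⥤ DerivedCategory.Plus C :=
  HomotopyCategory.Plus.quotient C ⋙ DerivedCategory.Plus.Qh

noncomputable def ιPIso (X : CochainComplex.Plus C) :
    DerivedCategory.Plus.ι.obj ((P (C := C)).obj X) ≅ Q.obj X.obj :=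
  (quotientCompQhIso C).app X.obj

lemma ι_map_P_map {X Y : CochainComplex.Plus C} (h : X ⟶ Y) :
    DerivedCategory.Plus.ι.map ((P (C := C)).map h) =
      (ιPIso X).hom ≫ Q.map h.hom ≫ (ιPIso Y).inv := by
  have := quotientCompQhIso_hom_naturality h.hom
  rw [← Category.assoc, Iso.eq_comp_inv]
  exact this

lemma P_map_eq_of_Q_map_eq {X Y : CochainComplex.Plus C} (h h' : X ⟶ Y)
    (e : Q.map h.hom = Q.map h'.hom) : (P (C := C)).map h = (P (C := C)).map h' := by
  apply DerivedCategory.Plus.ι.map_injective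
  rw [ι_map_P_map, ι_map_P_map, e]

lemma isIso_P_map {X Y : CochainComplex.Plus C} (h : X ⟶ Y) [QuasiIso h.hom] :
    IsIso ((P (C := C)).map h) := by
  have : IsIso (DerivedCategory.Plus.ι.map ((P (C := C)).map h)) := by
    rw [ι_map_P_map]
    have : IsIso (Q.map h.hom) := inferInstance
    infer_instance
  exact isIso_of_fully_faithful DerivedCategory.Plus.ι _

/-- mapping cone in `CochainComplex.Plus` -/
noncomputable def coneP {J₁ J₂ : CochainComplex.Plus C} (φ : J₁ ⟶ J₂) : CochainComplex.Plus C :=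
  ⟨CochainComplex.mappingCone φ.hom, by
    obtain ⟨n₁, h₁⟩ := J₁.property
    obtain ⟨n₂, h₂⟩ := J₂.property
    exact ⟨min (n₁ - 1) n₂, CochainComplex.isStrictlyGE_mappingCone φ.hom n₁ n₂ _
        (by simp) (by simp)⟩⟩

noncomputable def inrP {J₁ J₂ : CochainComplex.Plus C} (φ : J₁ ⟶ J₂) : J₂ ⟶ coneP φ :=
  ObjectProperty.homMk (CochainComplex.mappingCone.inr φ.hom)

lemma exists_plus_iso {X₁ X₂ X₃ : CochainComplex.Plus C} (f : X₁ ⟶ X₂) (g : X₂ ⟶ X₃)
    (zero : f.hom ≫ g.hom = 0) (hS : (ShortComplex.mk f.hom g.hom zero).ShortExact)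
    {J₁ J₂ : CochainComplex.Plus C} [J₂.obj.IsKInjective] (r₁ : X₁ ⟶ J₁) (r₂ : X₂ ⟶ J₂)
    [QuasiIso r₁.hom] [QuasiIso r₂.hom] :
    ∃ (φ : J₁ ⟶ J₂) (α₁ : (P (C := C)).obj X₁ ≅ P.obj J₁) (α₂ : (P (C := C)).obj X₂ ≅ P.obj J₂)
      (α₃ : (P (C := C)).obj X₃ ≅ P.obj (coneP φ)),
      P.map f ≫ α₂.hom = α₁.hom ≫ P.map φ ∧ P.map g ≫ α₃.hom = α₂.hom ≫ P.map (inrP φ) := by
  obtain ⟨φ, a₃, c₁, c₂⟩ := exists_cone_iso hS r₁.hom r₂.hom
  have := isIso_P_map r₁
  have := isIso_P_map r₂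
  refine ⟨ObjectProperty.homMk φ, asIso (P.map r₁), asIso (P.map r₂),
    DerivedCategory.Plus.ι.preimageIso (ιPIso X₃ ≪≫ a₃ ≪≫
      (ιPIso (coneP (ObjectProperty.homMk φ))).symm), ?_, ?_⟩
  · dsimp only [asIso_hom]
    rw [← Functor.map_comp, ← Functor.map_comp]
    apply P_map_eq_of_Q_map_eq
    change Q.map (f.hom ≫ r₂.hom) = Q.map (r₁.hom ≫ φ)
    rw [Functor.map_comp, Functor.map_comp]
    exact c₁
  · apply DerivedCategory.Plus.ι.map_injective
    dsimp only [asIso_hom]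
    rw [Functor.map_comp, Functor.map_comp, Functor.preimageIso_hom, Functor.map_preimage,
      ι_map_P_map g, ι_map_P_map r₂, ι_map_P_map (inrP (ObjectProperty.homMk φ))]
    dsimp only [Iso.trans_hom, Iso.symm_hom]
    simp only [Category.assoc, Iso.inv_hom_id_assoc]
    congr 1
    change Q.map g.hom ≫ a₃.hom ≫ (ιPIso (coneP (ObjectProperty.homMk φ))).inv =
      Q.map r₂.hom ≫ Q.map (CochainComplex.mappingCone.inr φ) ≫
        (ιPIso (coneP (ObjectProperty.homMk φ))).inv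
    exact (Category.assoc _ _ _).symm.trans ((congrArg
      (· ≫ (ιPIso (coneP (ObjectProperty.homMk φ))).inv) c₂).trans (Category.assoc _ _ _))

end C2
section Main
variable {C : Type u} [Category.{v} C] [Abelian C] [HasDerivedCategory.{w} C] [EnoughInjectives C]
  {D : Type u'} [Category.{v'} D] [Abelian D] [HasDerivedCategory.{w'} D]
  (F : C ⥤ D) [F.Additive]

noncomputable abbrev Ψ : CochainComplex.Plus C ⥤ DerivedCategory D :=
  HomotopyCategory.Plus.quotient C ⋙ DerivedCategory.Plus.Qh ⋙ F.rightDerivedFunctorPlus ⋙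
    DerivedCategory.Plus.ι

noncomputable abbrev G : CochainComplex.Plus C ⥤ DerivedCategory D :=
  HomotopyCategory.Plus.quotient C ⋙ F.mapHomotopyCategoryPlus ⋙ DerivedCategory.Plus.Qh ⋙
    DerivedCategory.Plus.ι

noncomputable def θ : G F ⟶ Ψ F :=
  Functor.whiskerLeft (HomotopyCategory.Plus.quotient C)
    (Functor.whiskerRight F.rightDerivedFunctorPlusUnit DerivedCategory.Plus.ι)

lemma isIso_θ_app (J : CochainComplex.Plus C) (hJ : ∀ n, Injective (J.obj.X n)) :
    IsIso ((θ F).app J) := by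
  have := isIso_unit_of_injective F J hJ
  change IsIso (DerivedCategory.Plus.ι.map
    (F.rightDerivedFunctorPlusUnit.app ((HomotopyCategory.Plus.quotient C).obj J)))
  infer_instance

lemma G_triangle {J₁ J₂ : CochainComplex.Plus C} (φ : J₁ ⟶ J₂) :
    ∃ w, Triangle.mk ((G F).map φ) ((G F).map (inrP φ)) w ∈ distTriang (DerivedCategory D) := by
  have hT := Qh.map_distinguished _ ((F.mapHomotopyCategory (ComplexShape.up ℤ)).map_distinguished _
    (HomotopyCategory.mappingCone_triangleh_distinguished φ.hom))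
  exact ⟨_, hT⟩

end Main
section Main2
variable {C : Type u} [Category.{v} C] [Abelian C] [HasDerivedCategory.{w} C] [EnoughInjectives C]
  {D : Type u'} [Category.{v'} D] [Abelian D] [HasDerivedCategory.{w'} D]
  (F : C ⥤ D) [F.Additive]

lemma injective_coneP {J₁ J₂ : CochainComplex.Plus C} (φ : J₁ ⟶ J₂)
    (h₁ : ∀ n, Injective (J₁.obj.X n)) (h₂ : ∀ n, Injective (J₂.obj.X n)) (n : ℤ) :
    Injective ((coneP φ).obj.X n) := by
  have := h₁ (n + 1)
  have := h₂ n
  exact Injective.of_iso (HomologicalComplex.homotopyCofiber.XIsoBiprod φ.hom n (n + 1) rfl).symm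
    inferInstance

theorem main {X₁ X₂ X₃ : CochainComplex.Plus C} (f : X₁ ⟶ X₂) (g : X₂ ⟶ X₃)
    (zero : f.hom ≫ g.hom = 0) (hS : (ShortComplex.mk f.hom g.hom zero).ShortExact) (i : ℤ) :
    kernelSubobject ((homologyFunctor D i).map ((Ψ F).map g)) =
      imageSubobject ((homologyFunctor D i).map ((Ψ F).map f)) ∧
    ∃ δ : (homologyFunctor D i).obj ((Ψ F).obj X₃) ⟶ (homologyFunctor D (i+1)).obj ((Ψ F).obj X₁),
      kernelSubobject δ = imageSubobject ((homologyFunctor D i).map ((Ψ F).map g)) ∧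
      kernelSubobject ((homologyFunctor D (i+1)).map ((Ψ F).map f)) = imageSubobject δ := by
  obtain ⟨n₁, hn₁⟩ := X₁.property
  obtain ⟨n₂, hn₂⟩ := X₂.property
  obtain ⟨L₁, -, r₁, hr₁⟩ := CochainComplex.Plus.exists_quasiIso_injective X₁ n₁
  obtain ⟨L₂, -, r₂, hr₂⟩ := CochainComplex.Plus.exists_quasiIso_injective X₂ n₂
  have : QuasiIso r₁.hom := hr₁
  have : QuasiIso r₂.hom := hr₂
  have hJ₁ : ∀ n, Injective (((InjectiveObject.ι C).mapCochainComplexPlus.obj L₁).obj.X n) :=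
    fun n => inferInstanceAs (Injective (L₁.obj.X n).obj)
  have hJ₂ : ∀ n, Injective (((InjectiveObject.ι C).mapCochainComplexPlus.obj L₂).obj.X n) :=
    fun n => inferInstanceAs (Injective (L₂.obj.X n).obj)
  have : ((InjectiveObject.ι C).mapCochainComplexPlus.obj L₂).obj.IsKInjective :=
    inferInstanceAs (CochainComplex.IsKInjective
      (((InjectiveObject.ι C).mapHomologicalComplex (.up ℤ)).obj L₂.obj))
  obtain ⟨φ, α₁, α₂, α₃, c₁, c₂⟩ := exists_plus_iso f g zero hS r₁ r₂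
  obtain ⟨w, hw⟩ := G_triangle F φ
  have i₁ := isIso_θ_app F _ hJ₁
  have i₂ := isIso_θ_app F _ hJ₂
  have i₃ := isIso_θ_app F _ (injective_coneP φ hJ₁ hJ₂)
  let R : DerivedCategory.Plus C ⥤ DerivedCategory D :=
    F.rightDerivedFunctorPlus ⋙ DerivedCategory.Plus.ι
  refine les_of_iso ((Ψ F).map f) ((Ψ F).map g) _ _ w hw
    (R.mapIso α₁ ≪≫ (asIso ((θ F).app _)).symm) (R.mapIso α₂ ≪≫ (asIso ((θ F).app _)).symm)
    (R.mapIso α₃ ≪≫ (asIso ((θ F).app _)).symm) ?_ ?_ i
  · dsimp only [Iso.trans_hom, Iso.symm_hom, asIso_inv, Functor.mapIso_hom]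
    have nat : inv ((θ F).app _) ≫ (G F).map φ = (Ψ F).map φ ≫ inv ((θ F).app _) := by
      rw [IsIso.inv_comp_eq, ← Category.assoc, IsIso.eq_comp_inv]
      exact ((θ F).naturality φ)
    rw [Category.assoc, nat, ← Category.assoc, ← Category.assoc]
    congr 1
    change R.map (P.map f) ≫ R.map α₂.hom = R.map α₁.hom ≫ R.map (P.map φ)
    rw [← R.map_comp, ← R.map_comp, c₁]
  · dsimp only [Iso.trans_hom, Iso.symm_hom, asIso_inv, Functor.mapIso_hom]
    have nat : inv ((θ F).app _) ≫ (G F).map (inrP φ) =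
        (Ψ F).map (inrP φ) ≫ inv ((θ F).app _) := by
      rw [IsIso.inv_comp_eq, ← Category.assoc, IsIso.eq_comp_inv]
      exact ((θ F).naturality (inrP φ))
    rw [Category.assoc, nat, ← Category.assoc, ← Category.assoc]
    congr 1
    change R.map (P.map g) ≫ R.map α₃.hom = R.map α₂.hom ≫ R.map (P.map (inrP φ))
    rw [← R.map_comp, ← R.map_comp, c₂]

end Main2
end Groth.Agent.Helper1.RFLes
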