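import Mathlib
import Groth.Agent.Helper1.RFLes
import Groth.Agent.Helper1.MapExtend

set_option autoImplicit false
set_option linter.unusedSectionVars false

namespace Groth.Agent.Helper1.Acyc

section R4

open CategoryTheory Limits HomologicalComplex

variable {C D : Type*} [Category C] [Category D] [Abelian C] [Abelian D] [HasInjectiveResolutions C]
  (F : C ⥤ D) [F.Additive] {X : C} (I : InjectiveResolution X)

/-- the source complex `F(X[0])` (ℕ-indexed) -/
noncomputable abbrev Src (X : C) : CochainComplex D ℕ :=
  (F.mapHomologicalComplex (ComplexShape.up ℕ)).obj ((CochainComplex.single₀ C).obj X)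

lemma isZero_S_X (n : ℕ) (hn : n ≠ 0) : IsZero ((Src F X).X n) := by
  obtain ⟨k, rfl⟩ := Nat.exists_eq_succ_of_ne_zero hn
  exact F.map_isZero (isZero_zero _)

noncomputable def iC (X : C) : (Src F X).cycles 0 ⟶ F.obj X := (Src F X).iCycles 0

lemma isIso_iC : IsIso (iC F X) := by
  have h : (Src F X).d 0 1 = 0 := (isZero_S_X F 1 (by simp)).eq_of_tgt _ _
  have : IsIso ((Src F X).iCycles 0) := by
    apply ShortComplex.isIso_iCycles
    have : (ComplexShape.up ℕ).next 0 = 1 := by simp
    change (Src F X).d 0 ((ComplexShape.up ℕ).next 0) = 0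
    rw [this]
    exact h
  exact this

lemma cyclesMap_eq :
    iC F X ≫ I.toRightDerivedZero' F =
      cyclesMap ((F.mapHomologicalComplex (ComplexShape.up ℕ)).map I.ι) 0 := by
  rw [← cancel_mono (iCycles _ 0), Category.assoc, I.toRightDerivedZero'_comp_iCycles F,
    cyclesMap_i]
  rfl

lemma isIso_homologyMap_zero_iff :
    IsIso (homologyMap ((F.mapHomologicalComplex (ComplexShape.up ℕ)).map I.ι) 0) ↔
      IsIso (F.toRightDerivedZero.app X) := by
  have := isIso_iC F (X := X)
  rw [I.toRightDerivedZero_eq F]
  have h1 : IsIso (homologyMap ((F.mapHomologicalComplex (ComplexShape.up ℕ)).map I.ι) 0) ↔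
      IsIso (cyclesMap ((F.mapHomologicalComplex (ComplexShape.up ℕ)).map I.ι) 0) := by
    have e := CochainComplex.isoHomologyπ₀_inv_naturality
      ((F.mapHomologicalComplex (ComplexShape.up ℕ)).map I.ι)
    constructor
    · intro h
      have : cyclesMap ((F.mapHomologicalComplex (ComplexShape.up ℕ)).map I.ι) 0 =
          (CochainComplex.isoHomologyπ₀ _).hom ≫
            homologyMap ((F.mapHomologicalComplex (ComplexShape.up ℕ)).map I.ι) 0 ≫
            (CochainComplex.isoHomologyπ₀ _).inv := by
        rw [e, Iso.hom_inv_id_assoc]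
      rw [this]
      infer_instance
    · intro h
      have : homologyMap ((F.mapHomologicalComplex (ComplexShape.up ℕ)).map I.ι) 0 =
          (CochainComplex.isoHomologyπ₀ _).inv ≫
            cyclesMap ((F.mapHomologicalComplex (ComplexShape.up ℕ)).map I.ι) 0 ≫
            (CochainComplex.isoHomologyπ₀ _).hom := by
        rw [← Category.assoc, ← e, Category.assoc, Iso.inv_hom_id, Category.comp_id]
      rw [this]
      infer_instance
  let e0 : ((F.mapHomologicalComplex (ComplexShape.up ℕ)).obj I.cocomplex).cycles 0 ≅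
      (F.rightDerived 0).obj X :=
    (CochainComplex.isoHomologyπ₀ _) ≪≫ (I.isoRightDerivedObj F 0).symm
  have he0 : I.toRightDerivedZero' F ≫ (CochainComplex.isoHomologyπ₀ _).hom ≫
      (I.isoRightDerivedObj F 0).inv = I.toRightDerivedZero' F ≫ e0.hom := rfl
  rw [h1, ← cyclesMap_eq F I, he0]
  constructor
  · intro h
    have : IsIso (I.toRightDerivedZero' F) := IsIso.of_isIso_comp_left (iC F X) _
    infer_instance
  · intro h
    have : IsIso (I.toRightDerivedZero' F) := by
      have h2 : I.toRightDerivedZero' F = (I.toRightDerivedZero' F ≫ e0.hom) ≫ e0.inv := by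
        rw [Category.assoc, Iso.hom_inv_id, Category.comp_id]
      rw [h2]
      infer_instance
    infer_instance

lemma isZero_homology_Src (n : ℕ) (hn : n ≠ 0) : IsZero ((Src F X).homology n) := by
  rw [← exactAt_iff_isZero_homology]
  exact ShortComplex.exact_of_isZero_X₂ _ (isZero_S_X F n hn)

lemma quasiIso_map_ι_iff :
    QuasiIso ((F.mapHomologicalComplex (ComplexShape.up ℕ)).map I.ι) ↔
      (IsIso (F.toRightDerivedZero.app X) ∧
        ∀ i : ℕ, 0 < i → IsZero ((F.rightDerived i).obj X)) := by
  rw [quasiIso_iff]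
  simp only [quasiIsoAt_iff_isIso_homologyMap]
  have key : ∀ n : ℕ, n ≠ 0 →
      (IsIso (homologyMap ((F.mapHomologicalComplex (ComplexShape.up ℕ)).map I.ι) n) ↔
        IsZero ((F.rightDerived n).obj X)) := by
    intro n hn
    have hz := isZero_homology_Src F (X := X) n hn
    constructor
    · intro h
      exact (hz.of_iso (asIso (homologyMap
        ((F.mapHomologicalComplex (ComplexShape.up ℕ)).map I.ι) n)).symm).of_iso
        (I.isoRightDerivedObj F n)
    · intro h
      have h' : IsZero (((F.mapHomologicalComplex (ComplexShape.up ℕ)).obj I.cocomplex).homology n) :=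
        h.of_iso (I.isoRightDerivedObj F n).symm
      exact ⟨0, hz.eq_of_src _ _, h'.eq_of_src _ _⟩
  constructor
  · intro h
    refine ⟨(isIso_homologyMap_zero_iff F I).1 (h 0), fun i hi => (key i hi.ne').1 (h i)⟩
  · rintro ⟨h0, h⟩ n
    by_cases hn : n = 0
    · subst hn
      exact (isIso_homologyMap_zero_iff F I).2 h0
    · exact (key n hn).2 (h n (Nat.pos_of_ne_zero hn))


end R4

section R1

open CategoryTheory Limits HomologicalComplex DerivedCategory

universe w' w v' v u' u

variable {C : Type u} [Category.{v} C] [Abelian C] [HasDerivedCategory.{w} C] [EnoughInjectives C]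
  {D : Type u'} [Category.{v'} D] [Abelian D] [HasDerivedCategory.{w'} D]
  (F : C ⥤ D) [F.Additive]

lemma isIso_Qh_map_iff_quasiIso {K J : CochainComplex.Plus C} (r : K ⟶ J) :
    IsIso ((F.mapHomotopyCategoryPlus ⋙ DerivedCategory.Plus.Qh).map
      ((HomotopyCategory.Plus.quotient C).map r)) ↔
    QuasiIso ((F.mapHomologicalComplex (ComplexShape.up ℤ)).map r.hom) := by
  have h1 : IsIso ((F.mapHomotopyCategoryPlus ⋙ DerivedCategory.Plus.Qh).map
      ((HomotopyCategory.Plus.quotient C).map r)) ↔
      IsIso (DerivedCategory.Plus.ι.map ((F.mapHomotopyCategoryPlus ⋙ DerivedCategory.Plus.Qh).map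
      ((HomotopyCategory.Plus.quotient C).map r))) :=
    ⟨fun _ => inferInstance, fun _ => isIso_of_fully_faithful DerivedCategory.Plus.ι _⟩
  rw [h1]
  change IsIso (DerivedCategory.Qh.map ((HomotopyCategory.quotient _ _).map
    ((F.mapHomologicalComplex (ComplexShape.up ℤ)).map r.hom))) ↔ _
  rw [DerivedCategory.isIso_Qh_map_iff, HomotopyCategory.quotient_map_mem_quasiIso_iff,
    HomologicalComplex.mem_quasiIso_iff]

lemma unit_iso_iff_quasiIso {K J : CochainComplex.Plus C} (hJ : ∀ n, Injective (J.obj.X n))
    (r : K ⟶ J) [QuasiIso r.hom] :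
    IsIso (F.rightDerivedFunctorPlusUnit.app ((HomotopyCategory.Plus.quotient C).obj K)) ↔
      QuasiIso ((F.mapHomologicalComplex (ComplexShape.up ℤ)).map r.hom) := by
  rw [← isIso_Qh_map_iff_quasiIso]
  have nat := F.rightDerivedFunctorPlusUnit.naturality ((HomotopyCategory.Plus.quotient C).map r)
  have i1 := RFLes.isIso_unit_of_injective F J hJ
  have i2 : IsIso ((DerivedCategory.Plus.Qh ⋙ F.rightDerivedFunctorPlus).map
      ((HomotopyCategory.Plus.quotient C).map r)) := by
    have := RFLes.isIso_P_map r
    change IsIso (F.rightDerivedFunctorPlus.map (RFLes.P.map r))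
    infer_instance
  constructor
  · intro h
    have : IsIso ((F.mapHomotopyCategoryPlus ⋙ DerivedCategory.Plus.Qh).map
        ((HomotopyCategory.Plus.quotient C).map r) ≫
        F.rightDerivedFunctorPlusUnit.app ((HomotopyCategory.Plus.quotient C).obj J)) := by
      rw [nat]; infer_instance
    exact IsIso.of_isIso_comp_right _
      (F.rightDerivedFunctorPlusUnit.app ((HomotopyCategory.Plus.quotient C).obj J))
  · intro h
    have : IsIso (F.rightDerivedFunctorPlusUnit.app ((HomotopyCategory.Plus.quotient C).obj K) ≫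
        (DerivedCategory.Plus.Qh ⋙ F.rightDerivedFunctorPlus).map
          ((HomotopyCategory.Plus.quotient C).map r)) := by
      rw [← nat]; infer_instance
    exact IsIso.of_isIso_comp_right _ ((DerivedCategory.Plus.Qh ⋙ F.rightDerivedFunctorPlus).map
          ((HomotopyCategory.Plus.quotient C).map r))


/-- the single complex as an object of `CochainComplex.Plus` -/
noncomputable def singleP (X : C) : CochainComplex.Plus C :=
  ⟨(CochainComplex.singleFunctor C 0).obj X, 0, inferInstance⟩

lemma singleFunctor_obj_eq (X : C) : (HomotopyCategory.Plus.singleFunctor C 0).obj X =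
    (HomotopyCategory.Plus.quotient C).obj (singleP X) := rfl

/-- the injective resolution as an object of `CochainComplex.Plus` -/
noncomputable def resP {X : C} (I : InjectiveResolution X) : CochainComplex.Plus C :=
  ⟨I.cochainComplex, 0, inferInstance⟩

noncomputable def resMap {X : C} (I : InjectiveResolution X) : singleP X ⟶ resP I :=
  ObjectProperty.homMk I.ι'

lemma unit_iso_iff_quasiIso_ι' {X : C} (I : InjectiveResolution X) :
    IsIso (F.rightDerivedFunctorPlusUnit.app ((HomotopyCategory.Plus.singleFunctor C 0).obj X)) ↔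
      QuasiIso ((F.mapHomologicalComplex (ComplexShape.up ℤ)).map I.ι') := by
  rw [singleFunctor_obj_eq]
  have : QuasiIso (resMap I).hom := inferInstanceAs (QuasiIso I.ι')
  exact unit_iso_iff_quasiIso F (J := resP I)
    (fun n => inferInstanceAs (Injective (I.cochainComplex.X n))) (resMap I)

theorem acyclic_iff (X : C) :
    IsIso (F.rightDerivedFunctorPlusUnit.app ((HomotopyCategory.Plus.singleFunctor C 0).obj X)) ↔
      (IsIso (F.toRightDerivedZero.app X) ∧
        ∀ i : ℕ, 0 < i → IsZero ((F.rightDerived i).obj X)) := by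
  rw [unit_iso_iff_quasiIso_ι' F (injectiveResolution X), MapExtend.quasiIso_map_ι'_iff,
    quasiIso_map_ι_iff]

end R1

end Groth.Agent.Helper1.Acyc
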