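import Mathlib
import Groth.Agent.Helper1.Acyc

set_option autoImplicit false
set_option linter.unusedSectionVars false

namespace Groth.Agent.Helper1.Leray
open CategoryTheory Limits HomologicalComplex DerivedCategory Pretriangulated

universe w' w v' v u' u

section cone
variable {C : Type u} [Category.{v} C] [Abelian C]

lemma quasiIso_iff_acyclic_mappingCone {K L : CochainComplex C ℤ} (φ : K ⟶ L) :
    QuasiIso φ ↔ (CochainComplex.mappingCone φ).Acyclic := by
  rw [← HomotopyCategory.quotient_obj_mem_subcategoryAcyclic_iff_acyclic,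
    ← HomologicalComplex.mem_quasiIso_iff, ← HomotopyCategory.quotient_map_mem_quasiIso_iff,
    HomotopyCategory.quasiIso_eq_trW_subcategoryAcyclic]
  exact (HomotopyCategory.subcategoryAcyclic C).trW_iff_of_distinguished _
    (HomotopyCategory.mappingCone_triangleh_distinguished φ)

end cone
section T
variable {C : Type u} [Category.{v} C] [Abelian C] [HasDerivedCategory.{w} C] [EnoughInjectives C]
  {D : Type u'} [Category.{v'} D] [Abelian D] [HasDerivedCategory.{w'} D]
  (F : C ⥤ D) [F.Additive]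

instance : PreservesFiniteLimits (CochainComplex.singleFunctor C 0) :=
  inferInstanceAs (PreservesFiniteLimits (HomologicalComplex.single C (ComplexShape.up ℤ) 0))
instance : PreservesFiniteColimits (CochainComplex.singleFunctor C 0) :=
  inferInstanceAs (PreservesFiniteColimits (HomologicalComplex.single C (ComplexShape.up ℤ) 0))

variable (C) in
/-- `X ↦ X[0]` as a functor to `CochainComplex.Plus` -/
noncomputable def singlePF : C ⥤ CochainComplex.Plus C :=
  ObjectProperty.lift _ (CochainComplex.singleFunctor C 0) (fun _ => ⟨0, inferInstance⟩)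

/-- `T^i X = H^i(RF(X[0]))` -/
noncomputable def T (i : ℤ) : C ⥤ D := singlePF C ⋙ RFLes.Ψ F ⋙ homologyFunctor D i

/-- `G^i X = H^i(F(X[0]))` -/
noncomputable def G0 (i : ℤ) : C ⥤ D := singlePF C ⋙ RFLes.G F ⋙ homologyFunctor D i

noncomputable def θT (i : ℤ) : G0 F i ⟶ T F i :=
  Functor.whiskerLeft (singlePF C) (Functor.whiskerRight (RFLes.θ F) (homologyFunctor D i))

lemma T_les (S : ShortComplex C) (hS : S.ShortExact) (i : ℤ) :
    kernelSubobject ((T F i).map S.g) = imageSubobject ((T F i).map S.f) ∧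
    ∃ δ : (T F i).obj S.X₃ ⟶ (T F (i + 1)).obj S.X₁,
      kernelSubobject δ = imageSubobject ((T F i).map S.g) ∧
      kernelSubobject ((T F (i + 1)).map S.f) = imageSubobject δ := by
  have h := hS.map_of_exact (CochainComplex.singleFunctor C 0)
  exact RFLes.main F ((singlePF C).map S.f) ((singlePF C).map S.g)
    (S.map (CochainComplex.singleFunctor C 0)).zero h i


lemma comp_eq_zero_of_kernel_eq_image {A : Type*} [Category A] [Abelian A] {X Y Z : A}
    (f : X ⟶ Y) (g : Y ⟶ Z) (h : kernelSubobject g = imageSubobject f) : f ≫ g = 0 := by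
  rw [← imageSubobject_arrow_comp f, Category.assoc, ← Subobject.ofLE_arrow h.ge,
    Category.assoc, kernelSubobject_arrow_comp, comp_zero, comp_zero]

lemma exact_of_kernel_eq_image {A : Type*} [Category A] [Abelian A] {X Y Z : A}
    (f : X ⟶ Y) (g : Y ⟶ Z) (h : kernelSubobject g = imageSubobject f) :
    (ShortComplex.mk f g (comp_eq_zero_of_kernel_eq_image f g h)).Exact :=
  (ShortComplex.exact_iff_image_eq_kernel _).2 h.symm

lemma T_les' (S : ShortComplex C) (hS : S.ShortExact) (i : ℤ) :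
    ∃ (z : (T F i).map S.f ≫ (T F i).map S.g = 0)
      (δ : (T F i).obj S.X₃ ⟶ (T F (i + 1)).obj S.X₁)
      (z₁ : (T F i).map S.g ≫ δ = 0) (z₂ : δ ≫ (T F (i + 1)).map S.f = 0),
      (ShortComplex.mk _ _ z).Exact ∧ (ShortComplex.mk _ _ z₁).Exact ∧
        (ShortComplex.mk _ _ z₂).Exact := by
  obtain ⟨h₁, δ, h₂, h₃⟩ := T_les F S hS i
  exact ⟨_, δ, _, _, exact_of_kernel_eq_image _ _ h₁, exact_of_kernel_eq_image _ _ h₂,
    exact_of_kernel_eq_image _ _ h₃⟩

/-- if `T^{i+1} X₁ = 0` then `T^i g` is epi -/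
lemma T_epi (S : ShortComplex C) (hS : S.ShortExact) (i : ℤ)
    (h : IsZero ((T F (i + 1)).obj S.X₁)) : Epi ((T F i).map S.g) := by
  obtain ⟨z, δ, z₁, z₂, e₁, e₂, e₃⟩ := T_les' F S hS i
  exact e₂.epi_f (h.eq_of_tgt _ _)

/-- `T^i X₂ = 0`, `T^{i+1} X₁ = 0` ⇒ `T^i X₃ = 0` -/
lemma T_isZero₃ (S : ShortComplex C) (hS : S.ShortExact) (i : ℤ)
    (h₂ : IsZero ((T F i).obj S.X₂)) (h₁ : IsZero ((T F (i + 1)).obj S.X₁)) :
    IsZero ((T F i).obj S.X₃) := by
  obtain ⟨z, δ, z₁, z₂, e₁, e₂, e₃⟩ := T_les' F S hS i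
  exact e₂.isZero_of_both_zeros (h₂.eq_of_src _ _) (h₁.eq_of_tgt _ _)

/-- `T^i X₁ = 0`, `T^i X₃ = 0` ⇒ `T^i X₂ = 0` -/
lemma T_isZero₂ (S : ShortComplex C) (hS : S.ShortExact) (i : ℤ)
    (h₁ : IsZero ((T F i).obj S.X₁)) (h₃ : IsZero ((T F i).obj S.X₃)) :
    IsZero ((T F i).obj S.X₂) := by
  obtain ⟨z, δ, z₁, z₂, e₁, e₂, e₃⟩ := T_les' F S hS i
  exact e₁.isZero_of_both_zeros (h₁.eq_of_src _ _) (h₃.eq_of_tgt _ _)

/-- `T^i X₃ = 0`, `T^{i+1} X₂ = 0` ⇒ `T^{i+1} X₁ = 0` -/
lemma T_isZero₁ (S : ShortComplex C) (hS : S.ShortExact) (i : ℤ)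
    (h₃ : IsZero ((T F i).obj S.X₃)) (h₂ : IsZero ((T F (i + 1)).obj S.X₂)) :
    IsZero ((T F (i + 1)).obj S.X₁) := by
  obtain ⟨z, δ, z₁, z₂, e₁, e₂, e₃⟩ := T_les' F S hS i
  exact e₃.isZero_of_both_zeros (h₃.eq_of_src _ _) (h₂.eq_of_tgt _ _)

/-- if `T^i X₃ = 0` then `T^{i+1} f` is mono -/
lemma T_mono (S : ShortComplex C) (hS : S.ShortExact) (i : ℤ)
    (h : IsZero ((T F i).obj S.X₃)) : Mono ((T F (i + 1)).map S.f) := by
  obtain ⟨z, δ, z₁, z₂, e₁, e₂, e₃⟩ := T_les' F S hS i
  exact e₃.mono_g (h.eq_of_src _ _)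

/-- the complex-level description of `RFLes.G` -/
noncomputable def GIso : RFLes.G F ≅
    CochainComplex.Plus.ι C ⋙ F.mapHomologicalComplex (ComplexShape.up ℤ) ⋙ DerivedCategory.Q :=
  NatIso.ofComponents (fun K => (quotientCompQhIso D).app _) (by
    intro K L f
    exact (quotientCompQhIso D).hom.naturality
      ((F.mapHomologicalComplex (ComplexShape.up ℤ)).map f.hom))

noncomputable def G0Iso (i : ℤ) : G0 F i ≅
    CochainComplex.singleFunctor C 0 ⋙ F.mapHomologicalComplex (ComplexShape.up ℤ) ⋙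
      HomologicalComplex.homologyFunctor D (ComplexShape.up ℤ) i :=
  Functor.isoWhiskerLeft (singlePF C)
    (Functor.isoWhiskerRight (GIso F) (homologyFunctor D i) ≪≫
      Functor.isoWhiskerLeft (CochainComplex.Plus.ι C ⋙ F.mapHomologicalComplex (ComplexShape.up ℤ))
        (homologyFunctorFactors D i))


/-- `F ≅ G⁰` -/
noncomputable def ηIso : G0 F 0 ≅ F :=
  G0Iso F 0 ≪≫
    (Functor.associator _ _ _).symm ≪≫
    Functor.isoWhiskerRight (HomologicalComplex.singleMapHomologicalComplex F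
      (ComplexShape.up ℤ) 0) (HomologicalComplex.homologyFunctor D (ComplexShape.up ℤ) 0) ≪≫
    Functor.associator _ _ _ ≪≫
    Functor.isoWhiskerLeft F (HomologicalComplex.homologyFunctorSingleIso D (ComplexShape.up ℤ) 0) ≪≫
    F.rightUnitor

lemma isZero_G0 (i : ℤ) (hi : i ≠ 0) (X : C) : IsZero ((G0 F i).obj X) := by
  refine IsZero.of_iso ?_ ((G0Iso F i).app X)
  change IsZero (((F.mapHomologicalComplex (ComplexShape.up ℤ)).obj
    ((CochainComplex.singleFunctor C 0).obj X)).homology i)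
  rw [← exactAt_iff_isZero_homology]
  apply ShortComplex.exact_of_isZero_X₂
  exact F.map_isZero (isZero_single_obj_X _ _ _ _ hi)


end T
section UA
variable {C : Type u} [Category.{v} C] [Abelian C] [HasDerivedCategory.{w} C] [EnoughInjectives C]
  {D : Type u'} [Category.{v'} D] [Abelian D] [HasDerivedCategory.{w'} D]
  (F : C ⥤ D) [F.Additive]

/-- unit-acyclicity of an object -/
def UA (X : C) : Prop :=
  IsIso (F.rightDerivedFunctorPlusUnit.app ((HomotopyCategory.Plus.singleFunctor C 0).obj X))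

lemma isIso_unit_iff_θ (K : CochainComplex.Plus C) :
    IsIso (F.rightDerivedFunctorPlusUnit.app ((HomotopyCategory.Plus.quotient C).obj K)) ↔
      ∀ i : ℤ, IsIso ((homologyFunctor D i).map ((RFLes.θ F).app K)) := by
  rw [← DerivedCategory.isIso_iff]
  change _ ↔ IsIso (DerivedCategory.Plus.ι.map
    (F.rightDerivedFunctorPlusUnit.app ((HomotopyCategory.Plus.quotient C).obj K)))
  exact ⟨fun _ => inferInstance, fun _ => isIso_of_fully_faithful DerivedCategory.Plus.ι _⟩

lemma UA_iff (X : C) : UA F X ↔ ∀ i : ℤ, IsIso ((θT F i).app X) :=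
  isIso_unit_iff_θ F (Acyc.singleP X)

lemma isIso_iff_isZero_of_isZero {A : Type*} [Category A] [HasZeroMorphisms A] {X Y : A}
    (f : X ⟶ Y) (hX : IsZero X) : IsIso f ↔ IsZero Y :=
  ⟨fun _ => hX.of_iso (asIso f).symm, fun hY => ⟨0, hX.eq_of_src _ _, hY.eq_of_src _ _⟩⟩

lemma UA_iff' (X : C) : UA F X ↔
    (IsIso ((θT F 0).app X) ∧ ∀ i : ℤ, i ≠ 0 → IsZero ((T F i).obj X)) := by
  rw [UA_iff]
  constructor
  · intro h
    exact ⟨h 0, fun i hi => (isIso_iff_isZero_of_isZero _ (isZero_G0 F i hi X)).1 (h i)⟩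
  · rintro ⟨h0, h⟩ i
    by_cases hi : i = 0
    · subst hi; exact h0
    · exact (isIso_iff_isZero_of_isZero _ (isZero_G0 F i hi X)).2 (h i hi)

/-- injective objects are unit-acyclic -/
lemma UA_of_injective (X : C) [Injective X] : UA F X := by
  rw [UA_iff]
  intro i
  have : IsIso ((RFLes.θ F).app (Acyc.singleP X)) := by
    apply RFLes.isIso_θ_app
    intro n
    by_cases hn : n = 0
    · subst hn
      exact Injective.of_iso (HomologicalComplex.singleObjXSelf (ComplexShape.up ℤ) 0 X).symm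
        inferInstance
    · exact (isZero_single_obj_X _ _ _ _ hn).injective
  exact inferInstanceAs (IsIso ((homologyFunctor D i).map ((RFLes.θ F).app (Acyc.singleP X))))

end UA
section Res
variable {C : Type u} [Category.{v} C] [Abelian C] [HasDerivedCategory.{w} C] [EnoughInjectives C]
  {D : Type u'} [Category.{v'} D] [Abelian D] [HasDerivedCategory.{w'} D]
  (F : C ⥤ D) [F.Additive]

/-- `H^i ∘ G` in terms of complexes -/
noncomputable def GHIso (i : ℤ) : RFLes.G F ⋙ homologyFunctor D i ≅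
    CochainComplex.Plus.ι C ⋙ F.mapHomologicalComplex (ComplexShape.up ℤ) ⋙
      HomologicalComplex.homologyFunctor D (ComplexShape.up ℤ) i :=
  Functor.isoWhiskerRight (GIso F) (homologyFunctor D i) ≪≫
      Functor.isoWhiskerLeft (CochainComplex.Plus.ι C ⋙ F.mapHomologicalComplex (ComplexShape.up ℤ))
        (homologyFunctorFactors D i)

lemma isIso_G_map_iff {K L : CochainComplex.Plus C} (r : K ⟶ L) (i : ℤ) :
    IsIso ((homologyFunctor D i).map ((RFLes.G F).map r)) ↔
      QuasiIsoAt ((F.mapHomologicalComplex (ComplexShape.up ℤ)).map r.hom) i := by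
  rw [quasiIsoAt_iff_isIso_homologyMap]
  exact NatIso.isIso_map_iff (GHIso F i) r

lemma isIso_Ψ_map {K L : CochainComplex.Plus C} (r : K ⟶ L) [QuasiIso r.hom] :
    IsIso ((RFLes.Ψ F).map r) := by
  have := RFLes.isIso_P_map r
  change IsIso (DerivedCategory.Plus.ι.map (F.rightDerivedFunctorPlus.map (RFLes.P.map r)))
  infer_instance

lemma isIso_θ_iff {K J : CochainComplex.Plus C} (hJ : ∀ n, Injective (J.obj.X n))
    (r : K ⟶ J) [QuasiIso r.hom] (i : ℤ) :
    IsIso ((homologyFunctor D i).map ((RFLes.θ F).app K)) ↔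
      QuasiIsoAt ((F.mapHomologicalComplex (ComplexShape.up ℤ)).map r.hom) i := by
  rw [← isIso_G_map_iff]
  have nat := (RFLes.θ F).naturality r
  have i1 := RFLes.isIso_θ_app F J hJ
  have i2 := isIso_Ψ_map F r
  have nat' := congrArg (homologyFunctor D i).map nat
  rw [Functor.map_comp, Functor.map_comp] at nat'
  constructor
  · intro h
    have : IsIso ((homologyFunctor D i).map ((RFLes.G F).map r) ≫
        (homologyFunctor D i).map ((RFLes.θ F).app J)) := by
      rw [nat']; infer_instance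
    exact IsIso.of_isIso_comp_right _ ((homologyFunctor D i).map ((RFLes.θ F).app J))
  · intro h
    have : IsIso ((homologyFunctor D i).map ((RFLes.θ F).app K) ≫
        (homologyFunctor D i).map ((RFLes.Ψ F).map r)) := by
      rw [← nat']; infer_instance
    exact IsIso.of_isIso_comp_right _ ((homologyFunctor D i).map ((RFLes.Ψ F).map r))

/-- `H^i(RF K) ≅ H^i(F J)` for an injective resolution `K → J` -/
noncomputable def ΨHIso {K J : CochainComplex.Plus C} (hJ : ∀ n, Injective (J.obj.X n))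
    (r : K ⟶ J) [QuasiIso r.hom] (i : ℤ) :
    (homologyFunctor D i).obj ((RFLes.Ψ F).obj K) ≅
      ((F.mapHomologicalComplex (ComplexShape.up ℤ)).obj J.obj).homology i :=
  have := isIso_Ψ_map F r
  have := RFLes.isIso_θ_app F J hJ
  (homologyFunctor D i).mapIso (asIso ((RFLes.Ψ F).map r) ≪≫ (asIso ((RFLes.θ F).app J)).symm) ≪≫
    (GHIso F i).app J

lemma isIso_θT_iff {X : C} (I : InjectiveResolution X) (i : ℤ) :
    IsIso ((θT F i).app X) ↔
      QuasiIsoAt ((F.mapHomologicalComplex (ComplexShape.up ℤ)).map I.ι') i := by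
  have : QuasiIso (Acyc.resMap I).hom := inferInstanceAs (QuasiIso I.ι')
  exact isIso_θ_iff F (J := Acyc.resP I)
    (fun n => inferInstanceAs (Injective (I.cochainComplex.X n))) (Acyc.resMap I) i

noncomputable def THIso {X : C} (I : InjectiveResolution X) (i : ℤ) :
    (T F i).obj X ≅
      ((F.mapHomologicalComplex (ComplexShape.up ℤ)).obj I.cochainComplex).homology i :=
  have : QuasiIso (Acyc.resMap I).hom := inferInstanceAs (QuasiIso I.ι')
  ΨHIso F (J := Acyc.resP I)
    (fun n => inferInstanceAs (Injective (I.cochainComplex.X n))) (Acyc.resMap I) i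

lemma isZero_T_neg (X : C) (i : ℤ) (hi : i < 0) : IsZero ((T F i).obj X) := by
  refine IsZero.of_iso ?_ (THIso F (injectiveResolution X) i)
  rw [← exactAt_iff_isZero_homology]
  apply ShortComplex.exact_of_isZero_X₂
  exact F.map_isZero (CochainComplex.isZero_of_isStrictlyGE _ 0 i hi)

end Res
section LeftExact
variable {C : Type u} [Category.{v} C] [Abelian C] [HasDerivedCategory.{w} C] [EnoughInjectives C]
  {D : Type u'} [Category.{v'} D] [Abelian D] [HasDerivedCategory.{w'} D]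
  (F : C ⥤ D) [F.Additive] [PreservesFiniteLimits F]

lemma isIso_θT_zero (X : C) : IsIso ((θT F 0).app X) := by
  rw [isIso_θT_iff F (injectiveResolution X) 0]
  have := (MapExtend.quasiIsoAt_map_ι'_iff F (injectiveResolution X) 0).2 (by
    rw [quasiIsoAt_iff_isIso_homologyMap, Acyc.isIso_homologyMap_zero_iff]
    infer_instance)
  exact this

instance : IsIso (θT F 0) := by
  have := isIso_θT_zero F
  exact NatIso.isIso_of_isIso_app _

/-- `F ≅ T⁰` for left exact `F` -/
noncomputable def κ : F ≅ T F 0 := (ηIso F).symm ≪≫ asIso (θT F 0)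

/-- acyclicity in terms of `T` -/
def Acyclic' (X : C) : Prop := ∀ i : ℤ, 0 < i → IsZero ((T F i).obj X)

lemma UA_iff_acyclic' (X : C) : UA F X ↔ Acyclic' F X := by
  rw [UA_iff']
  constructor
  · rintro ⟨-, h⟩ i hi
    exact h i hi.ne'
  · intro h
    refine ⟨isIso_θT_zero F X, fun i hi => ?_⟩
    rcases lt_or_gt_of_ne hi with h' | h'
    · exact isZero_T_neg F X i h'
    · exact h i h'

lemma acyclic'_of_injective (X : C) [Injective X] : Acyclic' F X :=
  (UA_iff_acyclic' F X).1 (UA_of_injective F X)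

lemma acyclic'_of_iso {X Y : C} (e : X ≅ Y) (h : Acyclic' F X) : Acyclic' F Y :=
  fun i hi => (h i hi).of_iso ((T F i).mapIso e.symm)

lemma acyclic'_of_isZero {X : C} (h : IsZero X) : Acyclic' F X := by
  have : Injective X := h.injective
  exact acyclic'_of_injective F X

/-- 2 of 3: `X₁`, `X₂` acyclic ⇒ `X₃` acyclic -/
lemma acyclic'₃ (S : ShortComplex C) (hS : S.ShortExact) (h₁ : Acyclic' F S.X₁)
    (h₂ : Acyclic' F S.X₂) : Acyclic' F S.X₃ :=
  fun i hi => T_isZero₃ F S hS i (h₂ i hi) (h₁ (i + 1) (by lia))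

/-- 2 of 3: `X₁`, `X₃` acyclic ⇒ `X₂` acyclic -/
lemma acyclic'₂ (S : ShortComplex C) (hS : S.ShortExact) (h₁ : Acyclic' F S.X₁)
    (h₃ : Acyclic' F S.X₃) : Acyclic' F S.X₂ :=
  fun i hi => T_isZero₂ F S hS i (h₁ i hi) (h₃ i hi)

/-- `F` is exact on short exact sequences with acyclic kernel -/
lemma epi_map_of_acyclic' (S : ShortComplex C) (hS : S.ShortExact) (h₁ : Acyclic' F S.X₁) :
    Epi (F.map S.g) := by
  have := T_epi F S hS 0 (h₁ (0 + 1) (by lia))
  have e : F.map S.g = (κ F).hom.app _ ≫ (T F 0).map S.g ≫ (κ F).inv.app _ := by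
    rw [← Category.assoc, ← (κ F).hom.naturality, Category.assoc, Iso.hom_inv_id_app,
      Category.comp_id]
  rw [e]
  infer_instance

end LeftExact
section Exact
variable {C : Type u} [Category.{v} C] [Abelian C] [HasDerivedCategory.{w} C] [EnoughInjectives C]
  {D : Type u'} [Category.{v'} D] [Abelian D] [HasDerivedCategory.{w'} D]
  (F : C ⥤ D) [F.Additive] [PreservesFiniteLimits F]
  (M : CochainComplex C ℤ)

/-- cycles as a kernel -/
noncomputable abbrev Z (n : ℤ) : C := kernel (M.d n (n + 1))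

noncomputable def πZ (n : ℤ) : M.X n ⟶ Z M (n + 1) :=
  kernel.lift _ (M.d n (n + 1)) (M.d_comp_d _ _ _)

@[reassoc (attr := simp)]
lemma πZ_ι (n : ℤ) : πZ M n ≫ kernel.ι (M.d (n + 1) (n + 1 + 1)) = M.d n (n + 1) :=
  kernel.lift_ι _ _ _

lemma ι_πZ (n : ℤ) : kernel.ι (M.d n (n + 1)) ≫ πZ M n = 0 := by
  rw [← cancel_mono (kernel.ι (M.d (n + 1) (n + 1 + 1))), Category.assoc, πZ_ι,
    kernel.condition, zero_comp]

noncomputable def SZ (n : ℤ) : ShortComplex C :=
  ShortComplex.mk (kernel.ι (M.d n (n + 1))) (πZ M n) (ι_πZ M n)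

lemma epi_πZ (n : ℤ) (hM : M.ExactAt (n + 1)) : Epi (πZ M n) := by
  rw [M.exactAt_iff' n (n + 1) (n + 1 + 1) (by simp) (by simp)] at hM
  exact (ShortComplex.exact_iff_epi_kernel_lift _).1 hM

lemma SZ_shortExact (n : ℤ) (hM : M.ExactAt (n + 1)) : (SZ M n).ShortExact := by
  have : Mono (SZ M n).f := inferInstanceAs (Mono (kernel.ι (M.d n (n + 1))))
  have : Epi (SZ M n).g := epi_πZ M n hM
  refine ShortComplex.ShortExact.mk ?_
  let S' : ShortComplex C := ShortComplex.mk (kernel.ι (M.d n (n + 1))) (M.d n (n + 1))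
    (kernel.condition _)
  have hS' : S'.Exact := ShortComplex.exact_of_f_is_kernel _ (kernelIsKernel _)
  let φ : SZ M n ⟶ S' :=
    { τ₁ := 𝟙 _
      τ₂ := 𝟙 _
      τ₃ := kernel.ι (M.d (n + 1) (n + 1 + 1))
      comm₁₂ := by simp [SZ, S']
      comm₂₃ := by simp [SZ, S'] }
  have : Epi φ.τ₁ := inferInstanceAs (Epi (𝟙 _))
  have : IsIso φ.τ₂ := inferInstanceAs (IsIso (𝟙 _))
  have : Mono φ.τ₃ := inferInstanceAs (Mono (kernel.ι (M.d (n + 1) (n + 1 + 1))))
  exact (ShortComplex.exact_iff_of_epi_of_isIso_of_mono φ).2 hS'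

variable (hM : M.Acyclic) (hX : ∀ n, Acyclic' F (M.X n))

include hM hX in
lemma acyclic'_Z (a : ℤ) [M.IsStrictlyGE a] (n : ℤ) : Acyclic' F (Z M n) := by
  by_cases hn : n < a
  · apply acyclic'_of_isZero
    exact IsZero.of_mono (kernel.ι (M.d n (n + 1))) (M.isZero_of_isStrictlyGE a n hn)
  · have hn' : a ≤ n := by lia
    induction n, hn' using Int.leInduction with
    | base =>
      have h1 : Acyclic' F (Z M (a - 1)) := by
        apply acyclic'_of_isZero
        exact IsZero.of_mono (kernel.ι (M.d (a - 1) (a - 1 + 1)))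
          (M.isZero_of_isStrictlyGE a (a - 1) (by lia))
      have h2 := acyclic'₃ F (SZ M (a - 1)) (SZ_shortExact M (a - 1) (hM _)) h1 (hX _)
      have e : a - 1 + 1 = a := by lia
      exact e ▸ h2
    | succ n hn ih =>
      by_cases hn2 : n < a
      · lia
      · exact acyclic'₃ F (SZ M n) (SZ_shortExact M n (hM _)) (ih hn2) (hX _)

include hM hX in
lemma exactAt_map (a : ℤ) [M.IsStrictlyGE a] (n : ℤ) :
    ((F.mapHomologicalComplex (ComplexShape.up ℤ)).obj M).ExactAt (n + 1) := by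
  rw [HomologicalComplex.exactAt_iff' _ n (n + 1) (n + 1 + 1) (by simp) (by simp)]
  let S₂ : ShortComplex C := ShortComplex.mk (kernel.ι (M.d (n + 1) (n + 1 + 1)))
    (M.d (n + 1) (n + 1 + 1)) (kernel.condition _)
  have hS₂ : S₂.Exact := ShortComplex.exact_of_f_is_kernel _ (kernelIsKernel _)
  have hS₂' : (S₂.map F).Exact :=
    hS₂.map_of_mono_of_preservesKernel F
      (inferInstanceAs (Mono (kernel.ι (M.d (n + 1) (n + 1 + 1))))) inferInstance
  have hepi : Epi (F.map (πZ M n)) :=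
    epi_map_of_acyclic' F (SZ M n) (SZ_shortExact M n (hM _)) (acyclic'_Z F M hM hX a n)
  let φ : ((F.mapHomologicalComplex (ComplexShape.up ℤ)).obj M).sc' n (n + 1) (n + 1 + 1) ⟶
      S₂.map F :=
    { τ₁ := F.map (πZ M n)
      τ₂ := 𝟙 _
      τ₃ := 𝟙 _
      comm₁₂ := by
        change F.map (πZ M n) ≫ F.map (kernel.ι (M.d (n + 1) (n + 1 + 1))) =
          F.map (M.d n (n + 1)) ≫ 𝟙 _
        rw [Category.comp_id, ← F.map_comp, πZ_ι]
      comm₂₃ := by
        change 𝟙 _ ≫ F.map (M.d (n + 1) (n + 1 + 1)) = F.map (M.d (n + 1) (n + 1 + 1)) ≫ 𝟙 _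
        rw [Category.comp_id, Category.id_comp] }
  have : Epi φ.τ₁ := hepi
  have : IsIso φ.τ₂ := inferInstanceAs (IsIso (𝟙 _))
  have : Mono φ.τ₃ := inferInstanceAs (Mono (𝟙 _))
  exact (ShortComplex.exact_iff_of_epi_of_isIso_of_mono φ).2 hS₂'

include hM hX in
lemma acyclic_map (a : ℤ) [M.IsStrictlyGE a] : ((F.mapHomologicalComplex (ComplexShape.up ℤ)).obj M).Acyclic := by
  intro j
  obtain ⟨n, rfl⟩ : ∃ n, j = n + 1 := ⟨j - 1, by ring⟩
  exact exactAt_map F M hM hX a n

end Exact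
section Main
variable {C : Type u} [Category.{v} C] [Abelian C] [HasDerivedCategory.{w} C] [EnoughInjectives C]
  {D : Type u'} [Category.{v'} D] [Abelian D] [HasDerivedCategory.{w'} D]
  (F : C ⥤ D) [F.Additive] [PreservesFiniteLimits F]

lemma acyclic'_biprod {X Y : C} (hX : Acyclic' F X) (hY : Acyclic' F Y) : Acyclic' F (X ⊞ Y) := by
  let S : ShortComplex C := ShortComplex.mk (biprod.inl : X ⟶ X ⊞ Y) biprod.snd (by simp)
  have hS : S.ShortExact := by
    have : Mono S.f := inferInstanceAs (Mono (biprod.inl : X ⟶ X ⊞ Y))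
    have : Epi S.g := inferInstanceAs (Epi (biprod.snd : X ⊞ Y ⟶ Y))
    refine ShortComplex.ShortExact.mk ?_
    exact (ShortComplex.Splitting.ofHasBinaryBiproduct X Y).exact
  exact acyclic'₂ F S hS hX hY

lemma acyclic_mappingCone_of_quasiIso {K L : CochainComplex C ℤ} (φ : K ⟶ L) [QuasiIso φ] :
    (CochainComplex.mappingCone φ).Acyclic :=
  (quasiIso_iff_acyclic_mappingCone φ).1 inferInstance

/-- Leray's acyclicity lemma, in terms of `Acyclic'` -/
theorem leray (E : CochainComplex.Plus C) (hE : ∀ n, Acyclic' F (E.obj.X n)) :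
    IsIso (F.rightDerivedFunctorPlusUnit.app ((HomotopyCategory.Plus.quotient C).obj E)) := by
  obtain ⟨n₀, hn₀⟩ := E.property
  obtain ⟨L, hL, r, hr⟩ := CochainComplex.Plus.exists_quasiIso_injective E n₀
  have : QuasiIso r.hom := hr
  have hJ : ∀ n, Injective (((InjectiveObject.ι C).mapCochainComplexPlus.obj L).obj.X n) :=
    fun n => inferInstanceAs (Injective (L.obj.X n).obj)
  have hJ0 : CochainComplex.IsStrictlyGE
      ((InjectiveObject.ι C).mapCochainComplexPlus.obj L).obj n₀ :=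
    inferInstanceAs (CochainComplex.IsStrictlyGE
      (((InjectiveObject.ι C).mapHomologicalComplex (ComplexShape.up ℤ)).obj L.obj) n₀)
  rw [Acyc.unit_iso_iff_quasiIso F hJ r, quasiIso_iff_acyclic_mappingCone]
  have hM : (CochainComplex.mappingCone r.hom).Acyclic := acyclic_mappingCone_of_quasiIso r.hom
  have hGE : (CochainComplex.mappingCone r.hom).IsStrictlyGE (n₀ - 1) :=
    CochainComplex.isStrictlyGE_mappingCone r.hom n₀ n₀ (n₀ - 1)
  have hX : ∀ n, Acyclic' F ((CochainComplex.mappingCone r.hom).X n) := by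
    intro n
    have := hJ n
    exact acyclic'_of_iso F
      (HomologicalComplex.homotopyCofiber.XIsoBiprod r.hom n (n + 1) rfl).symm
      (acyclic'_biprod F (hE (n + 1)) (acyclic'_of_injective F _))
  have h := acyclic_map F (CochainComplex.mappingCone r.hom) hM hX (n₀ - 1)
  intro i
  exact (h i).of_iso (CochainComplex.mappingCone.mapHomologicalComplexIso r.hom F)

end Main
end Groth.Agent.Helper1.Leray
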