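import Mathlib
import Groth.Agent.Helper1.Leray

set_option autoImplicit false
set_option linter.unusedSectionVars false

namespace Groth.Agent.Helper1.Adapted
open CategoryTheory Limits HomologicalComplex DerivedCategory Leray

universe w' w v' v u' u

variable {A : Type u} [Category.{v} A] [Abelian A] [HasDerivedCategory.{w} A] [EnoughInjectives A]
  {B : Type u'} [Category.{v'} B] [Abelian B] [HasDerivedCategory.{w'} B]
  (F : A ⥤ B) [F.Additive]

/-- if `T^i g` is epi then `T^{i+1} f` is mono -/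
lemma T_mono_of_epi (S : ShortComplex A) (hS : S.ShortExact) (i : ℤ)
    (h : Epi ((T F i).map S.g)) : Mono ((T F (i + 1)).map S.f) := by
  obtain ⟨z, δ, z₁, z₂, e₁, e₂, e₃⟩ := T_les' F S hS i
  have hδ : δ = 0 := by rw [← cancel_epi ((T F i).map S.g), z₁, comp_zero]
  exact e₃.mono_g hδ

lemma isIso_θT_of_injective (X : A) [Injective X] (i : ℤ) : IsIso ((θT F i).app X) :=
  (UA_iff F X).1 (UA_of_injective F X) i

lemma isZero_T_of_injective (X : A) [Injective X] (i : ℤ) (hi : i ≠ 0) :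
    IsZero ((T F i).obj X) :=
  ((UA_iff' F X).1 (UA_of_injective F X)).2 i hi

instance : (G0 F 0).PreservesZeroMorphisms :=
  Functor.preservesZeroMorphisms_of_iso (ηIso F).symm

variable (I : ObjectProperty A)
  (h1 : ∀ X : A, ∃ (Y : A) (ι : X ⟶ Y), I Y ∧ Mono ι)
  (h2 : ∀ S : ShortComplex A, S.ShortExact → I S.X₁ → I S.X₂ → I S.X₃ ∧ (S.map F).ShortExact)

/-- the data: `X ↪ J ↪ Q'` and the short exact sequence `0 → X → Q' → Z' → 0` -/
structure Data (X : A) where
  J : A
  Q : A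
  u : X ⟶ J
  v : J ⟶ Q
  inj : Injective J
  mono_u : Mono u
  mono_v : Mono v
  hQ : I Q

include h1 in
lemma exists_data (X : A) : Nonempty (Data I X) := by
  obtain ⟨Q, v, hQ, hv⟩ := h1 (Injective.under X)
  exact ⟨⟨Injective.under X, Q, Injective.ι X, v, inferInstance, inferInstance, hv, hQ⟩⟩

variable {I}

/-- the short exact sequence `0 → X → Q → Z → 0` -/
noncomputable def Data.S {X : A} (d : Data I X) : ShortComplex A :=
  ShortComplex.mk (d.u ≫ d.v) (cokernel.π (d.u ≫ d.v)) (cokernel.condition _)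

lemma Data.shortExact {X : A} (d : Data I X) : d.S.ShortExact := by
  have := d.mono_u
  have := d.mono_v
  have : Mono d.S.f := inferInstanceAs (Mono (d.u ≫ d.v))
  have : Epi d.S.g := inferInstanceAs (Epi (cokernel.π (d.u ≫ d.v)))
  exact ShortComplex.ShortExact.mk (ShortComplex.exact_of_g_is_cokernel _ (cokernelIsCokernel _))

include h2 in
lemma Data.hZ {X : A} (d : Data I X) (hX : I X) : I d.S.X₃ :=
  (h2 d.S d.shortExact hX d.hQ).1

include h2 in
lemma Data.shortExact_G0 {X : A} (d : Data I X) (hX : I X) :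
    (d.S.map (G0 F 0)).ShortExact :=
  (ShortComplex.shortExact_iff_of_iso (d.S.mapNatIso (ηIso F))).2
    (h2 d.S d.shortExact hX d.hQ).2

lemma T_mono_zero (S : ShortComplex A) (hS : S.ShortExact) : Mono ((T F 0).map S.f) := by
  have := T_mono F S hS (-1) (isZero_T_neg F _ (-1) (by norm_num))
  simpa using this

include h1 h2 in
/-- Claim A -/
lemma mono_θ (X : A) (hX : I X) : Mono ((θT F 0).app X) := by
  obtain ⟨d⟩ := exists_data I h1 X
  have := d.inj
  have hG := d.shortExact_G0 F h2 hX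
  have m1 : Mono ((G0 F 0).map (d.u ≫ d.v)) := hG.mono_f
  rw [Functor.map_comp] at m1
  have m2 : Mono ((G0 F 0).map d.u) := mono_of_mono _ ((G0 F 0).map d.v)
  have := isIso_θT_of_injective F d.J 0
  have nat := (θT F 0).naturality d.u
  have m3 : Mono ((θT F 0).app X ≫ (T F 0).map d.u) := by
    rw [← nat]; infer_instance
  exact mono_of_mono _ ((T F 0).map d.u)

include h1 h2 in
/-- Claim B -/
lemma isIso_θ (X : A) (hX : I X) : IsIso ((θT F 0).app X) := by
  obtain ⟨d⟩ := exists_data I h1 X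
  have := d.inj
  have hG := d.shortExact_G0 F h2 hX
  have hZ := d.hZ F h2 hX
  have := isIso_θT_of_injective F d.J 0
  have mZ := mono_θ F h1 h2 _ hZ
  have mX := mono_θ F h1 h2 _ hX
  have mc : Mono ((T F 0).map (d.u ≫ d.v)) := T_mono_zero F d.S d.shortExact
  let ψ : (T F 0).obj X ⟶ (G0 F 0).obj d.Q :=
    (T F 0).map d.u ≫ inv ((θT F 0).app d.J) ≫ (G0 F 0).map d.v
  have hψ : ψ ≫ (θT F 0).app d.Q = (T F 0).map (d.u ≫ d.v) := by
    dsimp only [ψ]
    rw [Category.assoc, Category.assoc, (θT F 0).naturality d.v, IsIso.inv_hom_id_assoc,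
      ← Functor.map_comp]
  have mZ' : Mono ((θT F 0).app (cokernel (d.u ≫ d.v))) := mZ
  have hψ0 : ψ ≫ (G0 F 0).map (cokernel.π (d.u ≫ d.v)) = 0 := by
    obtain ⟨z, -⟩ := T_les' F d.S d.shortExact 0
    rw [← cancel_mono ((θT F 0).app (cokernel (d.u ≫ d.v))), Category.assoc, zero_comp,
      (θT F 0).naturality, ← Category.assoc, hψ]
    exact z
  have : Mono (d.S.map (G0 F 0)).f := hG.mono_f
  let φ : (T F 0).obj X ⟶ (G0 F 0).obj X := hG.exact.lift ψ hψ0
  have hφ : φ ≫ (G0 F 0).map (d.u ≫ d.v) = ψ := hG.exact.lift_f ψ hψ0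
  have hsplit : φ ≫ (θT F 0).app X = 𝟙 _ := by
    rw [← cancel_mono ((T F 0).map (d.u ≫ d.v)), Category.assoc,
      ← (θT F 0).naturality (d.u ≫ d.v), ← Category.assoc, hφ, hψ, Category.id_comp]
  have : IsSplitEpi ((θT F 0).app X) := ⟨⟨⟨φ, hsplit⟩⟩⟩
  exact isIso_of_mono_of_isSplitEpi _

include h1 h2 in
/-- Claim C -/
lemma isZero_T_pos (i : ℕ) : ∀ (X : A), I X → IsZero ((T F ((i : ℤ) + 1)).obj X) := by
  induction i with
  | zero =>
    intro X hX
    obtain ⟨d⟩ := exists_data I h1 X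
    have := d.inj
    have hG := d.shortExact_G0 F h2 hX
    have hZ := d.hZ F h2 hX
    have iQ := isIso_θ F h1 h2 _ d.hQ
    have iZ := isIso_θ F h1 h2 _ hZ
    have eG : Epi ((G0 F 0).map d.S.g) := hG.epi_g
    have eT : Epi ((T F 0).map d.S.g) := by
      have : IsIso ((θT F 0).app d.S.X₂) := iQ
      have e : (T F 0).map d.S.g = inv ((θT F 0).app d.S.X₂) ≫ (G0 F 0).map d.S.g ≫
          (θT F 0).app d.S.X₃ := by
        rw [(θT F 0).naturality d.S.g, IsIso.inv_hom_id_assoc]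
      rw [e]
      infer_instance
    have m : Mono ((T F (0 + 1)).map (d.u ≫ d.v)) := T_mono_of_epi F d.S d.shortExact 0 eT
    have hz : (T F (0 + 1)).map (d.u ≫ d.v) = 0 := by
      rw [Functor.map_comp,
        (isZero_T_of_injective F d.J (0 + 1) (by norm_num)).eq_of_tgt ((T F (0 + 1)).map d.u) 0,
        zero_comp]
    exact IsZero.of_mono_eq_zero _ hz
  | succ i ih =>
    intro X hX
    obtain ⟨d⟩ := exists_data I h1 X
    have := d.inj
    have hZ := d.hZ F h2 hX
    have m : Mono ((T F ((i : ℤ) + 1 + 1)).map (d.u ≫ d.v)) :=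
      T_mono F d.S d.shortExact ((i : ℤ) + 1) (ih _ hZ)
    have hz : (T F ((i : ℤ) + 1 + 1)).map (d.u ≫ d.v) = 0 := by
      rw [Functor.map_comp,
        (isZero_T_of_injective F d.J ((i : ℤ) + 1 + 1) (by lia)).eq_of_tgt
          ((T F ((i : ℤ) + 1 + 1)).map d.u) 0, zero_comp]
    have := IsZero.of_mono_eq_zero _ hz
    simpa using this

include h1 h2 in
theorem UA_of_adapted (X : A) (hX : I X) : UA F X := by
  rw [UA_iff']
  refine ⟨isIso_θ F h1 h2 X hX, fun i hi => ?_⟩
  rcases lt_or_gt_of_ne hi with h' | h'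
  · exact isZero_T_neg F X i h'
  · obtain ⟨k, rfl⟩ : ∃ k : ℕ, i = (k : ℤ) + 1 := ⟨(i - 1).toNat, by lia⟩
    exact isZero_T_pos F h1 h2 k X hX

end Groth.Agent.Helper1.Adapted
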