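import Mathlib
import Groth.Agent.Helper1.Leray
import Groth.Agent.Helper1.MapExtend

set_option autoImplicit false

/-! Bridge between `Leray.T F n` (defined through `rightDerivedFunctorPlus`) and Mathlib's
`F.rightDerived n`. -/

namespace Groth.Agent.Helper1.TBridge
open CategoryTheory Limits HomologicalComplex DerivedCategory Leray

universe w' w v' v u' u

variable {C : Type u} [Category.{v} C] [Abelian C] [HasDerivedCategory.{w} C] [EnoughInjectives C]
  {D : Type u'} [Category.{v'} D] [Abelian D] [HasDerivedCategory.{w'} D]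
  (F : C ⥤ D) [F.Additive]

/-- `T^n X ≅ (R^n F) X`. -/
noncomputable def TIso (X : C) (n : ℕ) : (T F (n : ℤ)).obj X ≅ (F.rightDerived n).obj X :=
  THIso F (injectiveResolution X) n ≪≫
    (homologyFunctor D _ (n : ℤ)).mapIso
      (MapExtend.mapExtendIso ComplexShape.embeddingUpNat F (injectiveResolution X).cocomplex) ≪≫
    (((F.mapHomologicalComplex _).obj (injectiveResolution X).cocomplex).extendHomologyIso
      ComplexShape.embeddingUpNat (by simp : ComplexShape.embeddingUpNat.f n = (n : ℤ))) ≪≫
    ((injectiveResolution X).isoRightDerivedObj F n).symm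

lemma isZero_rightDerived_iff (X : C) (n : ℕ) :
    IsZero ((F.rightDerived n).obj X) ↔ IsZero ((T F (n : ℤ)).obj X) :=
  (TIso F X n).symm.isZero_iff

end Groth.Agent.Helper1.TBridge
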