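import Mathlib
import Groth.Agent.Helper1.Adapted
import Groth.Agent.Helper1.TBridge

set_option autoImplicit false

/-! Right acyclic objects in terms of Mathlib's `F.rightDerived`. -/

namespace Groth.Agent.Helper1.RAcyc
open CategoryTheory Limits Leray

universe w' w v' v u' u

variable {A : Type u} [Category.{v} A] [Abelian A] [EnoughInjectives A]
  {B : Type u'} [Category.{v'} B] [Abelian B] (F : A ⥤ B) [F.Additive]

/-- right acyclic objects -/
def RA (X : A) : Prop := ∀ i : ℕ, 0 < i → IsZero ((F.rightDerived i).obj X)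

section
variable [HasDerivedCategory.{w} A] [HasDerivedCategory.{w'} B]

lemma RA_iff (X : A) : RA F X ↔ Acyclic' F X := by
  constructor
  · intro h i hi
    obtain ⟨n, rfl⟩ : ∃ n : ℕ, i = (n : ℤ) := ⟨i.toNat, by omega⟩
    exact (TBridge.isZero_rightDerived_iff F X n).1 (h n (by omega))
  · intro h n hn
    exact (TBridge.isZero_rightDerived_iff F X n).2 (h n (by omega))

end

variable [PreservesFiniteLimits F]

lemma shortExact_map_of_epi (S : ShortComplex A) (hS : S.ShortExact) (h : Epi (F.map S.g)) :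
    (S.map F).ShortExact := by
  have := hS.mono_f
  have hex : (S.map F).Exact :=
    hS.exact.map_of_mono_of_preservesKernel _ inferInstance inferInstance
  have hm : Mono (S.map F).f := inferInstanceAs (Mono (F.map S.f))
  have he : Epi (S.map F).g := h
  exact ShortComplex.ShortExact.mk hex

theorem two_of_three (S : ShortComplex A) (hS : S.ShortExact) :
    (RA F S.X₁ → RA F S.X₃ → RA F S.X₂ ∧ (S.map F).ShortExact) ∧
    (RA F S.X₁ → RA F S.X₂ → RA F S.X₃ ∧ (S.map F).ShortExact) ∧
    (RA F S.X₂ → RA F S.X₃ → Epi (F.map S.g) → RA F S.X₁ ∧ (S.map F).ShortExact) := by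
  letI : HasDerivedCategory A := HasDerivedCategory.standard _
  letI : HasDerivedCategory B := HasDerivedCategory.standard _
  simp only [RA_iff]
  refine ⟨fun h₁ h₃ => ⟨acyclic'₂ F S hS h₁ h₃, ?_⟩, fun h₁ h₂ => ⟨acyclic'₃ F S hS h₁ h₂, ?_⟩,
    fun h₂ h₃ he => ⟨?_, shortExact_map_of_epi F S hS he⟩⟩
  · exact shortExact_map_of_epi F S hS (epi_map_of_acyclic' F S hS h₁)
  · exact shortExact_map_of_epi F S hS (epi_map_of_acyclic' F S hS h₁)
  · intro i hi
    obtain ⟨j, rfl⟩ : ∃ j : ℤ, i = j + 1 := ⟨i - 1, by ring⟩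
    rcases (show 0 ≤ j by omega).eq_or_lt with rfl | hj
    · have e : (T F 0).map S.g = (κ F).inv.app _ ≫ F.map S.g ≫ (κ F).hom.app _ := by
        rw [(κ F).hom.naturality, Iso.inv_hom_id_app_assoc]
      have : Epi ((T F 0).map S.g) := by rw [e]; infer_instance
      have hm := Adapted.T_mono_of_epi F S hS 0 this
      exact IsZero.of_mono ((T F (0 + 1)).map S.f) (h₂ (0 + 1) (by omega))
    · exact T_isZero₁ F S hS j (h₃ j hj) (h₂ (j + 1) (by omega))

end Groth.Agent.Helper1.RAcyc
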