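import Mathlib
import Groth.Agent.Helper1.SV2
import Groth.Agent.Helper1.VA14
import Groth.Agent.Helper1.RpCmpNat
import Groth.Agent.Helper9.SpRelExt
import Groth.Agent.Helper9.RPL3
import Groth.Agent.Helper4.PullSec
import Groth.Agent.Helper4.PullTensor
import Groth.Agent.Helper4.TensorRes
import Groth.Agent.Lead.FpqcSheaf3

/-!
# Flatness and twists, part 1: tensoring with an invertible module preserves flatness over the base;
twists on projective space over a scheme as tensor powers
-/

set_option autoImplicit false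
set_option linter.style.haveILetI false

namespace Groth.Agent.Helper1.FlatTw

open CategoryTheory Limits AlgebraicGeometry TopologicalSpace Opposite

universe u

variable {X S : Scheme.{u}} (f : X ⟶ S)

/-- tensoring with an invertible module does not change flatness over the base at a point -/
theorem isFlatOverAt_tensor_iff (F L : X.Modules) (hL : PicF.IsInvertible L) (x : X) :
    FlatMod.IsFlatOverAt f (CohB1.tensorMod F L) x ↔ FlatMod.IsFlatOverAt f F x := by
  obtain ⟨U, hxU, ⟨ε⟩⟩ := hL x
  let x' : (U : Scheme.{u}) := ⟨x, hxU⟩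
  have hx' : U.ι.base x' = x := rfl
  have e : (CohB1.tensorMod F L).restrict U.ι ≅ F.restrict U.ι :=
    (Groth.Agent.Helper4.TensorRes.resIso U.ι F L).symm ≪≫
      PicGrp.tensorModIso (Iso.refl _) ε ≪≫ SecTwist.unitorR (F.restrict U.ι)
  rw [← hx', ← Groth.Agent.Helper9.RPL3.isFlatOverAt_restrict_iff f U.ι (CohB1.tensorMod F L) x',
    ← Groth.Agent.Helper9.RPL3.isFlatOverAt_restrict_iff f U.ι F x']
  exact ⟨fun h => Groth.Agent.Lead.FpqcSheaf.isFlatOverAt_of_iso (U.ι ≫ f) e x' h,
    fun h => Groth.Agent.Lead.FpqcSheaf.isFlatOverAt_of_iso (U.ι ≫ f) e.symm x' h⟩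

theorem isFlatOver_tensor_iff (F L : X.Modules) (hL : PicF.IsInvertible L) :
    FlatMod.IsFlatOver f (CohB1.tensorMod F L) ↔ FlatMod.IsFlatOver f F :=
  forall_congr' fun x => isFlatOverAt_tensor_iff f F L hL x

end Groth.Agent.Helper1.FlatTw
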