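import Groth.Agent.Helper1.BaseChart14

set_option autoImplicit false

/-!
# Vanishing of `Hⁿ(f⁻¹V, F)` from the vanishing of `Rⁿ f_* F`
-/

namespace Groth.Agent.Helper1.BaseChart

open CategoryTheory Limits AlgebraicGeometry Opposite TopologicalSpace
open Groth.Agent.Helper4

universe u

variable {X Y : Scheme.{u}} (f : X ⟶ Y) (V : Y.Opens) [IsAffine (V : Scheme.{u})]

/-- sections of a zero module vanish -/
theorem subsingleton_sections_of_isZero {Z : Scheme.{u}} (M : Z.Modules) (h : IsZero M)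
    (U : Z.Opens) : Subsingleton (M.val.obj (op U)) := by
  have h1 : IsZero ((Scheme.Modules.toPresheaf Z).obj M) := Functor.map_isZero _ h
  have h2 : IsZero (((Scheme.Modules.toPresheaf Z).obj M).obj (op U)) :=
    (Functor.isZero_iff _).mp h1 (op U)
  exact AddCommGrpCat.subsingleton_of_isZero h2

/-- vanishing of `Hⁿ(f⁻¹V, F)` from the vanishing of `Rⁿ f_* F` -/
theorem subsingleton_HH_of_isZero_Rpush [QuasiCompact f] [QuasiSeparated f]
    [HasInjectiveResolutions X.Modules] (F : X.Modules) [Coh.IsQCoh F] (n : ℕ)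
    (h : IsZero ((Coh.Rpush f n).obj F)) :
    Subsingleton (Coh.HH (XV f V) (FV f V F) n) := by
  haveI := SchAdj.isGrothendieckAbelian_modules (f ⁻¹ᵁ V : Scheme.{u})
  haveI : HasInjectiveResolutions (f ⁻¹ᵁ V : Scheme.{u}).Modules := inferInstance
  haveI : Coh.IsQCoh (FV f V F) := inferInstance
  obtain ⟨i⟩ := Groth.Agent.Helper1.RpRestr.nonempty_iso f V n
  let j : ((Coh.Rpush f n).obj F).restrict V.ι ≅
      (Coh.Rpush (f ∣_ V) n).obj (FV f V F) := i.app F
  have h1 : IsZero (((Coh.Rpush f n).obj F).restrict V.ι) :=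
    (Scheme.Modules.restrictFunctor V.ι).map_isZero h
  have h2 : IsZero ((Coh.Rpush (f ∣_ V) n).obj (FV f V F)) := h1.of_iso j.symm
  obtain ⟨ψ, -⟩ := Groth.Agent.Helper1.SecLin.exists_addEquiv_sections_Rpush (f ∣_ V)
    (FV f V F) n
  haveI : Subsingleton (((Coh.Rpush (f ∣_ V) n).obj (FV f V F)).val.obj (op ⊤)) :=
    subsingleton_sections_of_isZero _ h2 ⊤
  exact ψ.toEquiv.subsingleton

/-- the fibre cohomology vanishes where `T_{-p}` vanishes identically -/
theorem subsingleton_fiberH_of_isZero_TFun (F : X.Modules)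
    (L : ChainComplex (ModuleCat.{u} (AV V)) ℤ)
    (hL : HasBC f V F L) (p : ℕ) (y : Y) (hy : y ∈ V)
    (hz : ∀ M : ModuleCat.{u} (AV V), IsZero ((CohIII.TFun L (-(p : ℤ))).obj M)) :
    Subsingleton (CohIII.fiberH f F y p) := by
  letI := chartOver f V
  letI := chartAlgebra V y hy
  letI : (f.fiber y).Over (Spec (CommRingCat.of (Y.residueField y))) :=
    ⟨f.fiberToSpecResidueField y⟩
  obtain ⟨e⟩ := hL (Y.residueField y) (f.fiber y) (gLift f V y hy) (isPullback_chart f V y hy) p
  have h0 := (hz (Groth.Agent.Helper1.DRankQis.Bm (A := AV V) (Y.residueField y))).of_iso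
    (Groth.Agent.Helper1.BCFlatCoh.bcHomologyIso' (Y.residueField y) L (-(p : ℤ)))
  have hs : Subsingleton ((ModuleCat.restrictScalars.{u, u, u}
      (algebraMap (AV V) (Y.residueField y))).obj
      ((CohIII.bcCx (algebraMap (AV V) (Y.residueField y)) L).homology (-(p : ℤ)))) :=
    ModuleCat.subsingleton_of_isZero h0
  haveI : Subsingleton ((CohIII.bcCx (algebraMap (AV V) (Y.residueField y)) L).homology
      (-(p : ℤ))) := hs
  have hs2 : Subsingleton (Coh.HH (f.fiber y)
      ((Scheme.Modules.pullback (gLift f V y hy)).obj (FV f V F)) p) :=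
    e.symm.toEquiv.subsingleton
  haveI : Subsingleton ((CohIII.HAb (f.fiber y) p).obj
      ((Scheme.Modules.pullback (gLift f V y hy)).obj (FV f V F))) := hs2
  exact ((CohIII.HAb (f.fiber y) p).mapIso
    (fiberModIso f V y hy F)).addCommGroupIsoToAddEquiv.symm.toEquiv.subsingleton

end Groth.Agent.Helper1.BaseChart
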