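import Groth.Agent.Helper1.BCFlatCoh

set_option autoImplicit false

/-!
# Universal vanishing of `T_q` from the vanishing of `H_q(P)` in low degrees
-/

namespace Groth.Agent.Helper1.FlatCxVanish

open CategoryTheory Limits MonoidalCategory HomologicalComplex TensorProduct
open Groth.Agent.Helper1.FlatCx Groth.Agent.Helper1.BCFlatCoh

universe u

variable {A : Type u} [CommRing A] (P : ChainComplex (ModuleCat.{u} A) ℤ)
  (hP : ∀ i, Module.Flat A (P.X i))

include hP in
/-- if `T_q` preserves epimorphisms and `H_q(P) = 0`, then `T_q = 0` -/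
theorem isZero_TFun_of_preservesEpi (q : ℤ) (he : (CohIII.TFun P q).PreservesEpimorphisms)
    (hz : IsZero (P.homology q)) (M : ModuleCat.{u} A) : IsZero ((CohIII.TFun P q).obj M) := by
  refine IsZero.of_iso ?_ ((chainTensorNatIso P hP q he).app M).symm
  change IsZero (P.homology q ⊗ M : ModuleCat.{u} A)
  haveI : Subsingleton (P.homology q) := ModuleCat.subsingleton_of_isZero hz
  haveI : Subsingleton (P.homology q ⊗[A] M) := inferInstance
  exact ModuleCat.isZero_of_subsingleton (ModuleCat.of A (P.homology q ⊗[A] M))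

include hP in
/-- ascending induction: if `P` is bounded below and `H_q(P) = 0` for `q ≤ c`, then `T_q`
preserves monomorphisms for `q ≤ c` -/
theorem preservesMono_of_homology_zero (b : ℤ) (hb : ∀ i < b, IsZero (P.X i)) (c : ℤ)
    (hH : ∀ q ≤ c, IsZero (P.homology q)) (q : ℤ) (hq : q ≤ c) :
    (CohIII.TFun P q).PreservesMonomorphisms := by
  by_cases hqb : q < b
  · exact (chain_preservesMono_iff P hP q).mpr (flat_opcycles_of_isZero P q (hb q hqb))
  · have key : ∀ n : ℤ, b - 1 ≤ n → n ≤ c → (CohIII.TFun P n).PreservesMonomorphisms := by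
      intro n hn
      induction n, hn using Int.le_induction with
      | base =>
        intro _
        exact (chain_preservesMono_iff P hP (b - 1)).mpr
          (flat_opcycles_of_isZero P (b - 1) (hb _ (by omega)))
      | succ n hn ih =>
        intro hc
        have he : (CohIII.TFun P (n + 1)).PreservesEpimorphisms :=
          (chain_preservesEpi_iff_preservesMono P hP (n + 1) n rfl).mpr (ih (by omega))
        exact (exact_of_isZero_tfun P (n + 1)
          (isZero_TFun_of_preservesEpi P hP (n + 1) he (hH _ hc))).1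
    exact key q (by omega) hq

include hP in
/-- if `P` is bounded below and `H_q(P) = 0` for `q ≤ c`, then `T_q = 0` for `q ≤ c` -/
theorem isZero_TFun_of_homology_zero (b : ℤ) (hb : ∀ i < b, IsZero (P.X i)) (c : ℤ)
    (hH : ∀ q ≤ c, IsZero (P.homology q)) (q : ℤ) (hq : q ≤ c) (M : ModuleCat.{u} A) :
    IsZero ((CohIII.TFun P q).obj M) := by
  have hm := preservesMono_of_homology_zero P hP b hb c hH (q - 1) (by omega)
  have he : (CohIII.TFun P q).PreservesEpimorphisms :=
    (chain_preservesEpi_iff_preservesMono P hP q (q - 1) (by ring)).mpr hm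
  exact isZero_TFun_of_preservesEpi P hP q he (hH q hq) M

include hP in
/-- if `P` is bounded below, `T_q = 0` for `q > 0` and `H_q(P) = 0` for `q < 0`, then `T_0` is
exact and `T_q = 0` for `q < 0` -/
theorem exact_zero_of_homology_zero (b : ℤ) (hb : ∀ i < b, IsZero (P.X i))
    (hpos : ∀ i : ℤ, 0 < i → ∀ M : ModuleCat.{u} A, IsZero ((CohIII.TFun P i).obj M))
    (hH : ∀ q : ℤ, q < 0 → IsZero (P.homology q)) :
    (∀ q : ℤ, q < 0 → ∀ M : ModuleCat.{u} A, IsZero ((CohIII.TFun P q).obj M)) ∧
      ((CohIII.TFun P 0).PreservesMonomorphisms ∧ (CohIII.TFun P 0).PreservesEpimorphisms) := by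
  have hH' : ∀ q ≤ (-1 : ℤ), IsZero (P.homology q) := fun q hq => hH q (by omega)
  refine ⟨fun q hq M => isZero_TFun_of_homology_zero P hP b hb (-1) hH' q (by omega) M, ?_, ?_⟩
  · exact (chain_preservesEpi_iff_preservesMono P hP 1 0 (by ring)).mp
      (exact_of_isZero_tfun P 1 (hpos 1 one_pos)).2
  · exact (chain_preservesEpi_iff_preservesMono P hP 0 (-1) (by ring)).mpr
      (preservesMono_of_homology_zero P hP b hb (-1) hH' (-1) le_rfl)

end Groth.Agent.Helper1.FlatCxVanish
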