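import Mathlib
import Groth.Agent.Helper1.FlatTw1
import Groth.Agent.Helper1.SV1
import Groth.Agent.S2390

/-!
# Flatness and twists, part 2: a flat coherent module on a projective scheme over a noetherian base
has finite locally free direct images of large twists
-/

set_option autoImplicit false
set_option linter.style.haveILetI false

namespace Groth.Agent.Helper1.FlatTw

open CategoryTheory Limits AlgebraicGeometry TopologicalSpace Opposite
open Groth.Agent.Helper4.TensorInv Groth.Agent.Helper4.TensorAssoc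

universe u

section Tw

variable (r : ℕ) (Y : Scheme.{u})

theorem isInvertible_twistOver (n : ℤ) : PicF.IsInvertible (Twist.twistOver r Y n) :=
  Groth.Agent.Helper4.PullSec.isInvertible_pullback _
    (Groth.Agent.Helper1.SerreVan.isInvertible_twist r (ULift.{u} ℤ) n)

theorem nonempty_twistOver_iso_tensorPow (n : ℕ) :
    Nonempty (Twist.twistOver r Y (n : ℤ) ≅ CohB1.tensorPow (Twist.twistOver r Y 1) n) := by
  obtain ⟨ε⟩ := Groth.Agent.Helper1.TwistMul.nonempty_twist_iso_tensorPow
    (CohB1.polyGrading r (ULift.{u} ℤ)) (Groth.Agent.Helper1.PUP.hcovP r) n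
  have hinv1 : PicF.IsInvertible (Twist.twistProjSpace r (ULift.{u} ℤ) 1) :=
    Groth.Agent.Helper1.SerreVan.isInvertible_twist r (ULift.{u} ℤ) 1
  exact ⟨(Scheme.Modules.pullback _).mapIso ε ≪≫
    Groth.Agent.Helper4.PullTensor.pullPowIso _ hinv1 n⟩

variable {r Y} {X : Scheme.{u}} (i : X ⟶ CohB1.ProjSpaceOver r Y)

theorem isInvertible_pullback_twistOver (n : ℤ) :
    PicF.IsInvertible ((Scheme.Modules.pullback i).obj (Twist.twistOver r Y n)) :=
  Groth.Agent.Helper4.PullSec.isInvertible_pullback _ (isInvertible_twistOver r Y n)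

theorem nonempty_pullback_twistOver_iso_tensorPow (n : ℕ) :
    Nonempty ((Scheme.Modules.pullback i).obj (Twist.twistOver r Y (n : ℤ)) ≅
      CohB1.tensorPow ((Scheme.Modules.pullback i).obj (Twist.twistOver r Y 1)) n) := by
  obtain ⟨ε⟩ := nonempty_twistOver_iso_tensorPow r Y n
  exact ⟨(Scheme.Modules.pullback i).mapIso ε ≪≫
    Groth.Agent.Helper4.PullTensor.pullPowIso i (isInvertible_twistOver r Y 1) n⟩

end Tw

section Fwd

variable {X S : Scheme.{u}} (f : X ⟶ S)

theorem isFinLocFree_of_iso {M M' : S.Modules} (e : M ≅ M') (h : FlatMod.IsFinLocFree M) :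
    FlatMod.IsFinLocFree M' := by
  intro x
  obtain ⟨U, n, hx, ⟨φ⟩⟩ := h x
  exact ⟨U, n, hx, ⟨(Scheme.Modules.restrictFunctor U.ι).mapIso e.symm ≪≫ φ⟩⟩

/-- a flat coherent module has finite locally free direct images of large twists by a relatively
ample invertible module -/
theorem isFinLocFree_push_twist [IsProper f] [IsNoetherian S] (L : X.Modules)
    (hL : PicF.IsInvertible L)
    (ha : ∀ W : S.Opens, IsAffineOpen W → CohB1.IsAmple (L.restrict (f ⁻¹ᵁ W).ι))
    (F : X.Modules) (hF : Coh.IsCoh F) (hfl : FlatMod.IsFlatOver f F) :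
    ∃ n₀ : ℕ, ∀ n : ℕ, n₀ ≤ n →
      FlatMod.IsFinLocFree ((Coh.push f).obj (CohB1.tensorMod F (CohB1.tensorPow L n))) := by
  haveI := Groth.Agent.Helper4.SchAdj.isGrothendieckAbelian_modules X
  haveI : HasInjectiveResolutions X.Modules := inferInstance
  obtain ⟨n₀, hn₀⟩ := Groth.Agent.Helper1.SV.exists_isZero_RpushAb_twist f L hL ha F hF
  refine ⟨n₀, fun n hn => ?_⟩
  have hB := Groth.Agent.Helper1.SerreFin.isCoh_of_isInvertible _ (isInvertible_tensorPow hL n)
  haveI : F.IsQuasicoherent := hF.1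
  haveI : (CohB1.tensorPow L n).IsQuasicoherent := hB.1
  have hG : Coh.IsCoh (CohB1.tensorMod F (CohB1.tensorPow L n)) :=
    ⟨Groth.Agent.Lead.QcohTensor.isQuasicoherent_tensorMod F _,
      Groth.Agent.Lead.QcohTensor.isFT_tensorMod F _ hF.2 hB.2⟩
  have hflG : FlatMod.IsFlatOver f (CohB1.tensorMod F (CohB1.tensorPow L n)) :=
    (isFlatOver_tensor_iff f F _ (isInvertible_tensorPow hL n)).2 hfl
  have hR : ∀ q : ℕ, 0 < q →
      IsZero ((Coh.Rpush f q).obj (CohB1.tensorMod F (CohB1.tensorPow L n))) := by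
    intro q hq
    obtain ⟨q, rfl⟩ := Nat.exists_eq_succ_of_ne_zero (Nat.pos_iff_ne_zero.1 hq)
    apply Groth.Agent.Helper9.SpRelExt.isZero_of_isZero_tA
    exact IsZero.of_iso (hn₀ n hn q) ((Groth.Agent.Helper1.RpCmpNat.iso f (q + 1)).app _)
  intro y
  obtain ⟨U, hyU, hU⟩ := (Groth.Agent.S2390.result f _ hG hflG hR).2 y
  exact ⟨U, _, hyU, hU⟩

end Fwd

end Groth.Agent.Helper1.FlatTw
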