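import Mathlib
import Groth.Agent.Helper1.ProjBC8
import Groth.Agent.Helper1.TwistMul6
import Groth.Agent.Helper1.SerreFin2
import Groth.Agent.Lead.Ref1B
import Groth.Agent.Lead.IntNumBC

/-!
# HS1: the pullback of `O(d)` under base change of projective space is `O(d)`, all integers `d`
-/

set_option autoImplicit false
set_option linter.style.haveILetI false
set_option linter.unusedSectionVars false

universe u
open CategoryTheory CategoryTheory.Limits AlgebraicGeometry Opposite

namespace Groth.Agent.Helper1.HS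

section Inverse
variable {X : Scheme.{u}}

/-- two inverses of the same module are isomorphic -/
theorem nonempty_iso_of_inverse {M M' L : X.Modules}
    (e : CohB1.tensorMod M L ≅ Coh.structureModule X)
    (e' : CohB1.tensorMod M' L ≅ Coh.structureModule X) : Nonempty (M ≅ M') :=
  ⟨(SecTwist.unitorR M).symm ≪≫ PicGrp.tensorModIso (Iso.refl M) e'.symm ≪≫
    PicGrp.tensorModIso (Iso.refl M) (Groth.Agent.Lead.Ref1B.braid M' L) ≪≫
    (Groth.Agent.Lead.Ref1B.assoc M L M').symm ≪≫
    PicGrp.tensorModIso e (Iso.refl M') ≪≫ Groth.Agent.Lead.Ref1B.unitorL M'⟩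

end Inverse

section Twist
open Groth.Agent.Helper1.ProjBC

variable {R R' : Type u} [CommRing R] [CommRing R'] (φ : R →+* R') (N : ℕ)

theorem hcov_poly' (R : Type u) [CommRing R] (N : ℕ) :
    (⨆ f : CohB1.polyGrading N R 1, Proj.basicOpen (CohB1.polyGrading N R)
      (f : MvPolynomial (Fin (N + 1)) R)) = ⊤ :=
  Groth.Agent.Helper1.SerreFin.hcov_poly N R

/-- **the pullback of `O(d)` under base change of projective space is `O(d)`**, `d ∈ ℤ` -/
theorem nonempty_twistBC_int (d : ℤ) :
    Nonempty ((Scheme.Modules.pullback (γγ φ N)).obj (Twist.twist (CohB1.polyGrading N R) d) ≅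
      Twist.twist (CohB1.polyGrading N R') d) := by
  obtain ⟨k, rfl | rfl⟩ := Int.eq_nat_or_neg d
  · exact ⟨twistBC φ N k⟩
  · -- negative twists: inverses of positive twists
    obtain ⟨a⟩ := Groth.Agent.Helper1.TwistMul.nonempty_twist_tensor_twist_iso
      (CohB1.polyGrading N R) (hcov_poly' R N) (-(k : ℤ)) (k : ℤ) 0 (by omega)
    obtain ⟨a'⟩ := Groth.Agent.Helper1.TwistMul.nonempty_twist_tensor_twist_iso
      (CohB1.polyGrading N R') (hcov_poly' R' N) (-(k : ℤ)) (k : ℤ) 0 (by omega)
    obtain ⟨z⟩ := Groth.Agent.Helper1.TwistMul.nonempty_twist_zero_iso (CohB1.polyGrading N R)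
    obtain ⟨z'⟩ := Groth.Agent.Helper1.TwistMul.nonempty_twist_zero_iso (CohB1.polyGrading N R')
    refine nonempty_iso_of_inverse (L := Twist.twist (CohB1.polyGrading N R') (k : ℤ)) ?_ (a' ≪≫ z')
    exact PicGrp.tensorModIso (Iso.refl _) (twistBC φ N k).symm ≪≫
      (Groth.Agent.Lead.IntNumBC.pullTensorIso (γγ φ N) _ _).symm ≪≫
      (Scheme.Modules.pullback (γγ φ N)).mapIso (a ≪≫ z) ≪≫
      Groth.Agent.Lead.PicCompl.pullbackUnitIso (γγ φ N)

end Twist

end Groth.Agent.Helper1.HS
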