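import Mathlib
import Groth.Agent.Helper1.ProjMid
import Groth.Agent.Helper1.ProjH04
import Groth.Agent.Helper1.ProjTop8
import Groth.Agent.Helper1.PicLoc4
import Groth.Agent.Helper1.SerreVan
import Groth.Agent.Helper3.ProjSmooth

/-!
# Cohomology of `O(d)` on `P^r_R`: vanishing ranges and flatness over `R`
-/

set_option autoImplicit false
set_option linter.style.haveILetI false

namespace Groth.Agent.Helper1.PSB

open CategoryTheory AlgebraicGeometry TopologicalSpace Opposite MvPolynomial Limits

universe u

/-- the module of homogeneous polynomials of a given degree is flat (it is a direct summand of a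
free module) -/
theorem flat_homogeneousSubmodule (σ : Type*) (R : Type*) [CommRing R] (n : ℕ) :
    Module.Flat R (homogeneousSubmodule σ R n) := by
  haveI : Module.Projective R (homogeneousSubmodule σ R n) := by
    refine Module.Projective.of_split (homogeneousSubmodule σ R n).subtype
      ((homogeneousComponent n).codRestrict (homogeneousSubmodule σ R n)
        (fun p => homogeneousComponent_mem n p)) ?_
    ext p : 1
    apply Subtype.ext
    show homogeneousComponent n (p : MvPolynomial σ R) = p
    rw [homogeneousComponent_of_mem p.2, if_pos rfl]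
  infer_instance

variable (r : ℕ) (R : Type u) [CommRing R]

/-- the vanishing ranges of the cohomology of `O(d)` on `P^r_R` -/
theorem subsingleton_HH (d : ℤ) (p : ℕ)
    (h : ¬ ((p = 0 ∧ 0 ≤ d) ∨ (p = r ∧ d ≤ -((r : ℤ) + 1)))) :
    Subsingleton (Coh.HH (CohB1.ProjSpace r R) (Twist.twistProjSpace r R d) p) := by
  push Not at h
  obtain ⟨h1, h2⟩ := h
  rcases Nat.eq_zero_or_pos p with hp | hp
  · subst hp
    have hd : d < 0 := by
      by_contra hd
      exact absurd (h1 rfl) (by omega)
    have hr : 0 < r := by
      rcases Nat.eq_zero_or_pos r with hr | hr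
      · subst hr
        have := h2 rfl
        push_cast at this
        omega
      · exact hr
    exact Groth.Agent.Helper1.ProjTop.subsingleton_H0 r R d hr hd
  · by_cases hpr : p = r
    · subst hpr
      exact Groth.Agent.Helper1.ProjTop.subsingleton_top p R d hp (h2 rfl)
    · exact Groth.Agent.Helper1.ProjTop.subsingleton_mid r R d p hp hpr

/-- all the cohomology modules of `O(d)` on `P^r_R` are flat over `R` -/
theorem flat_HH (d : ℤ) (p : ℕ) :
    Module.Flat R (Coh.HH (CohB1.ProjSpace r R) (Twist.twistProjSpace r R d) p) := by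
  by_cases h : (p = 0 ∧ 0 ≤ d) ∨ (p = r ∧ d ≤ -((r : ℤ) + 1))
  · rcases h with ⟨rfl, hd⟩ | ⟨rfl, hd⟩
    · obtain ⟨dd, rfl⟩ := Int.eq_ofNat_of_zero_le hd
      obtain ⟨e⟩ := Groth.Agent.Helper1.ProjTop.nonempty_H0 r R dd
      haveI := flat_homogeneousSubmodule (Fin (r + 1)) R dd
      exact Module.Flat.of_linearEquiv e
    · obtain ⟨kk, hk⟩ : ∃ kk : ℕ, d = -((p : ℤ) + 1 + kk) :=
        ⟨(-(d + p + 1)).toNat, by omega⟩
      subst hk
      obtain ⟨e⟩ := Groth.Agent.Helper1.ProjTop.nonempty_top p R kk
      haveI := flat_homogeneousSubmodule (Fin (p + 1)) R kk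
      exact Module.Flat.of_linearEquiv e
  · haveI := subsingleton_HH r R d p h
    infer_instance

/-- `O(d)` on `P^r_R` is flat over `Spec R` -/
theorem isFlatOver_twist (d : ℤ) :
    FlatMod.IsFlatOver (CohB1.ProjSpace.toSpec r R) (Twist.twistProjSpace r R d) := by
  haveI := Groth.Agent.Helper3.ProjSmooth.smooth_toSpec r R
  exact Groth.Agent.Helper1.PicLoc.isFlatOver_of_isInvertible _ _
    (Groth.Agent.Helper1.SerreVan.isInvertible_twist r R d)

end Groth.Agent.Helper1.PSB
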