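import Mathlib
import Groth.Agent.Helper1.PSB1
import Groth.Agent.Helper1.BCFlatCoh2
import Groth.Agent.Helper1.HHonHU
import Groth.Agent.Helper1.SerreE
import Groth.Agent.Helper6.HProj
import Groth.Agent.S0461

/-!
# Cohomology of `O(d)` on `P^r_Y` over affine opens of `Y`, by base change from `P^r_ℤ`
-/

set_option autoImplicit false
set_option linter.style.haveILetI false

namespace Groth.Agent.Helper1.PSB

open CategoryTheory AlgebraicGeometry TopologicalSpace Opposite Limits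

universe u

variable (r : ℕ) (Y : Scheme.{u})

/-- the first projection `P^r_Y ⟶ P^r_ℤ` -/
noncomputable abbrev prZ : CohB1.ProjSpaceOver r Y ⟶ CohB1.ProjSpace r (ULift.{u} ℤ) :=
  pullback.fst (CohB1.ProjSpace.toSpec r (ULift.{u} ℤ)) (specULiftZIsTerminal.from Y)

/-- the canonical algebra structure of a commutative ring over `ULift ℤ` -/
noncomputable abbrev algULiftZ (B : Type u) [CommRing B] : Algebra (ULift.{u} ℤ) B :=
  ((Int.castRingHom B).comp (ULift.ringEquiv : ULift.{u} ℤ ≃+* ℤ).toRingHom).toAlgebra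

variable {Y}

/-- the base change square over an affine open -/
theorem isPullback_affine {V : Y.Opens} (hV : IsAffineOpen V) :
    letI := algULiftZ Γ(Y, V)
    IsPullback ((CohB1.ProjSpaceOver.toBase r Y ⁻¹ᵁ V).ι ≫ prZ r Y)
      ((CohB1.ProjSpaceOver.toBase r Y ∣_ V) ≫ hV.isoSpec.hom)
      (CohB1.ProjSpace.toSpec r (ULift.{u} ℤ))
      (Spec.map (CommRingCat.ofHom (algebraMap (ULift.{u} ℤ) Γ(Y, V)))) := by
  letI := algULiftZ Γ(Y, V)
  have h1 : IsPullback (CohB1.ProjSpaceOver.toBase r Y ⁻¹ᵁ V).ι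
      (CohB1.ProjSpaceOver.toBase r Y ∣_ V) (CohB1.ProjSpaceOver.toBase r Y) V.ι :=
    (isPullback_morphismRestrict (CohB1.ProjSpaceOver.toBase r Y) V).flip
  have h2 : IsPullback (prZ r Y) (CohB1.ProjSpaceOver.toBase r Y)
      (CohB1.ProjSpace.toSpec r (ULift.{u} ℤ)) (specULiftZIsTerminal.from Y) :=
    IsPullback.of_hasPullback _ _
  have h3 := h1.paste_horiz h2
  refine h3.of_iso (Iso.refl _) (Iso.refl _) hV.isoSpec (Iso.refl _) (by simp) (by simp)
    (by simp) ?_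
  exact specULiftZIsTerminal.hom_ext _ _

/-- cohomology over the preimage of an affine open vanishes when it does on `P^r_ℤ` -/
theorem subsingleton_HU_of_affine {V : Y.Opens} (hV : IsAffineOpen V) (d : ℤ) (n : ℕ)
    (h : Subsingleton (Coh.HH (CohB1.ProjSpace r (ULift.{u} ℤ))
      (Twist.twistProjSpace r (ULift.{u} ℤ) d) n)) :
    Subsingleton (CohTop.HU (Coh.toAb (Twist.twistOver r Y d)) n
      (CohB1.ProjSpaceOver.toBase r Y ⁻¹ᵁ V)) := by
  letI := algULiftZ Γ(Y, V)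
  letI : ((CohB1.ProjSpaceOver.toBase r Y ⁻¹ᵁ V : (CohB1.ProjSpaceOver r Y).Opens) :
      Scheme.{u}).Over (Spec (CommRingCat.of Γ(Y, V))) :=
    ⟨(CohB1.ProjSpaceOver.toBase r Y ∣_ V) ≫ hV.isoSpec.hom⟩
  haveI : IsProper (CohB1.ProjSpace.toSpec r (ULift.{u} ℤ)) :=
    Groth.Agent.Helper6.HProj.isProper_toSpec r _
  haveI : IsProper (CohB1.ProjSpace r (ULift.{u} ℤ) ↘ Spec (CommRingCat.of (ULift.{u} ℤ))) :=
    ‹IsProper (CohB1.ProjSpace.toSpec r (ULift.{u} ℤ))›
  haveI : (Twist.twistProjSpace r (ULift.{u} ℤ) d).IsQuasicoherent :=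
    (Groth.Agent.Helper1.SerreFin.isCoh_of_isInvertible _
      (Groth.Agent.Helper1.SerreVan.isInvertible_twist r _ d)).1
  obtain ⟨e⟩ := Groth.Agent.Helper1.BCFlatCoh.nonempty_equiv (ULift.{u} ℤ) Γ(Y, V)
    (CohB1.ProjSpace r (ULift.{u} ℤ))
    ((CohB1.ProjSpaceOver.toBase r Y ⁻¹ᵁ V : (CohB1.ProjSpaceOver r Y).Opens) : Scheme.{u})
    ((CohB1.ProjSpaceOver.toBase r Y ⁻¹ᵁ V).ι ≫ prZ r Y) (isPullback_affine r hV)
    (Twist.twistProjSpace r (ULift.{u} ℤ) d) (isFlatOver_twist r _ d)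
    (fun p => flat_HH r _ d p) n
  have h1 : Subsingleton (Coh.HH
      ((CohB1.ProjSpaceOver.toBase r Y ⁻¹ᵁ V : (CohB1.ProjSpaceOver r Y).Opens) : Scheme.{u})
      ((Scheme.Modules.pullback ((CohB1.ProjSpaceOver.toBase r Y ⁻¹ᵁ V).ι ≫ prZ r Y)).obj
        (Twist.twistProjSpace r (ULift.{u} ℤ) d)) n) := by
    haveI : Subsingleton (TensorProduct (ULift.{u} ℤ)
        (Coh.HH (CohB1.ProjSpace r (ULift.{u} ℤ)) (Twist.twistProjSpace r (ULift.{u} ℤ) d) n)
        Γ(Y, V)) := by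
      constructor
      intro a b
      have key : ∀ x : TensorProduct (ULift.{u} ℤ)
          (Coh.HH (CohB1.ProjSpace r (ULift.{u} ℤ)) (Twist.twistProjSpace r (ULift.{u} ℤ) d) n)
          Γ(Y, V), x = 0 := by
        intro x
        induction x using TensorProduct.induction_on with
        | zero => rfl
        | tmul s t => rw [Subsingleton.elim s 0, TensorProduct.zero_tmul]
        | add x y hx hy => rw [hx, hy, add_zero]
      rw [key a, key b]
    exact e.toEquiv.subsingleton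
  -- transfer to the restriction of the twisting sheaf
  have iso1 : (Scheme.Modules.pullback ((CohB1.ProjSpaceOver.toBase r Y ⁻¹ᵁ V).ι ≫ prZ r Y)).obj
        (Twist.twistProjSpace r (ULift.{u} ℤ) d) ≅
      (Scheme.Modules.pullback (CohB1.ProjSpaceOver.toBase r Y ⁻¹ᵁ V).ι).obj
        (Twist.twistOver r Y d) :=
    ((Scheme.Modules.pullbackComp (CohB1.ProjSpaceOver.toBase r Y ⁻¹ᵁ V).ι (prZ r Y)).app
      (Twist.twistProjSpace r (ULift.{u} ℤ) d)).symm
  have iso2 : (Scheme.Modules.pullback (CohB1.ProjSpaceOver.toBase r Y ⁻¹ᵁ V).ι).obj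
        (Twist.twistOver r Y d) ≅
      (Twist.twistOver r Y d).restrict (CohB1.ProjSpaceOver.toBase r Y ⁻¹ᵁ V).ι :=
    ((Scheme.Modules.restrictFunctorIsoPullback (CohB1.ProjSpaceOver.toBase r Y ⁻¹ᵁ V).ι).app
      (Twist.twistOver r Y d)).symm
  have iso := iso1 ≪≫ iso2
  have h2 : Subsingleton (Coh.HHon (CohB1.ProjSpaceOver r Y) (Twist.twistOver r Y d)
      (CohB1.ProjSpaceOver.toBase r Y ⁻¹ᵁ V) n) :=
    Groth.Agent.Helper1.SerreCrit.subsingleton_HH_of_iso iso n h1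
  obtain ⟨e'⟩ := Groth.Agent.Helper1.HHonHU.nonempty_HHon_HU (CohB1.ProjSpaceOver r Y)
    (Twist.twistOver r Y d) (CohB1.ProjSpaceOver.toBase r Y ⁻¹ᵁ V) n
  exact e'.symm.toEquiv.subsingleton

/-- **vanishing of the higher direct images of `O(d)` on `P^r_Y`** outside the two ranges -/
theorem isZero_RpushAb_twistOver (Y : Scheme.{u}) (i : ℕ) (d : ℤ)
    (h : ¬ ((i = 0 ∧ 0 ≤ d) ∨ (i = r ∧ d ≤ -((r : ℤ) + 1)))) :
    IsZero ((Coh.RpushAb (CohB1.ProjSpaceOver.toBase r Y) i).obj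
      (Coh.toAb (Twist.twistOver r Y d))) := by
  obtain ⟨e⟩ := Groth.Agent.S0461.result (CohB1.ProjSpaceOver.toBase r Y).base
    (Coh.toAb (Twist.twistOver r Y d)) i
  refine IsZero.of_iso ?_ e
  apply Groth.Agent.Helper1.Serre.isZero_sheafify_of_basis _ {V | IsAffineOpen V}
    Y.isBasis_affineOpens
  intro V hV
  exact subsingleton_HU_of_affine r hV d i (subsingleton_HH r _ d i h)

end Groth.Agent.Helper1.PSB
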