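import Mathlib
import Groth.Agent.Lead.PushStalk
import Groth.Agent.Helper2.RegCM
import Groth.Agent.Helper2.DepthCM4
import Groth.Agent.Lead.RegDimOne

/-!
# CMcl1: depth of the stalks of the direct image under a closed immersion; the
Cohen–Macaulay condition at a point of dimension `n`
-/

set_option autoImplicit false
set_option linter.style.haveILetI false
set_option linter.unusedSectionVars false

universe u

open CategoryTheory CategoryTheory.Limits AlgebraicGeometry Opposite

namespace Groth.Agent.Helper1.CMcl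

variable {X P : Scheme.{u}} (ι : X ⟶ P) [IsClosedImmersion ι]

/-- **the depth of `(ι_* E)_{ι x}` over `O_{P, ι x}` is the depth of `E_x` over `O_{X,x}`** -/
theorem depth_push_stalk [IsLocallyNoetherian P] [IsLocallyNoetherian X] (E : X.Modules) (x : X)
    [Module.Finite (X.presheaf.stalk x) (E.presheaf.stalk x)] :
    LocCoh.depth (P.presheaf.stalk (ι x))
        (((Scheme.Modules.pushforward ι).obj E).presheaf.stalk (ι x)) =
      LocCoh.depth (X.presheaf.stalk x) (E.presheaf.stalk x) := by
  letI alg : Algebra (P.presheaf.stalk (ι x)) (X.presheaf.stalk x) :=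
    (ι.stalkMap x).hom.toAlgebra
  letI mod : Module (P.presheaf.stalk (ι x)) (E.presheaf.stalk x) :=
    Module.compHom (E.presheaf.stalk x) (ι.stalkMap x).hom
  haveI : IsScalarTower (P.presheaf.stalk (ι x)) (X.presheaf.stalk x) (E.presheaf.stalk x) :=
    IsScalarTower.of_algebraMap_smul fun r m => rfl
  haveI : IsLocalHom (algebraMap (P.presheaf.stalk (ι x)) (X.presheaf.stalk x)) :=
    inferInstanceAs (IsLocalHom (ι.stalkMap x).hom)
  have hsurj : Function.Surjective (algebraMap (P.presheaf.stalk (ι x)) (X.presheaf.stalk x)) :=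
    ι.stalkMap_surjective x
  haveI : Module.Finite (P.presheaf.stalk (ι x)) (X.presheaf.stalk x) :=
    Module.Finite.of_surjective (Algebra.linearMap _ _) hsurj
  haveI : Module.Finite (P.presheaf.stalk (ι x)) (E.presheaf.stalk x) :=
    Module.Finite.trans (X.presheaf.stalk x) _
  let e : ((Scheme.Modules.pushforward ι).obj E).presheaf.stalk (ι x) ≃ₗ[P.presheaf.stalk (ι x)]
      E.presheaf.stalk x :=
    LinearEquiv.ofBijective
      ({ toFun := Groth.Agent.Lead.PushStalk.psHom ι E x
         map_add' := map_add _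
         map_smul' := fun r n => Groth.Agent.Lead.PushStalk.psHom_smul ι E x r n } :
        ((Scheme.Modules.pushforward ι).obj E).presheaf.stalk (ι x) →ₗ[P.presheaf.stalk (ι x)]
          E.presheaf.stalk x)
      (Groth.Agent.Lead.PushStalk.psHom_bijective ι E ι.isClosedEmbedding.isInducing x)
  have h1 := Groth.Agent.Helper2.DepthCM.idealDepth_congr
    (IsLocalRing.maximalIdeal (P.presheaf.stalk (ι x))) e
  have h2 := Groth.Agent.Helper2.RegCM.depth_eq_of_isLocalHom (P.presheaf.stalk (ι x))
    (X.presheaf.stalk x) (E.presheaf.stalk x)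
  exact h1.trans h2

/-- for a Noetherian local ring of dimension at most `n`: depth at least `n` iff
Cohen–Macaulay of dimension `n` -/
theorem le_depth_iff_cm (B : Type u) [CommRing B] [IsNoetherianRing B] [IsLocalRing B] (n : ℕ)
    (hdim : ringKrullDim B ≤ n) :
    (n : ℕ∞) ≤ LocCoh.depth B B ↔
      (LocCoh.IsCohenMacaulayLocalRing B ∧ ringKrullDim B = n) := by
  have h1 : ((LocCoh.depth B B : ℕ∞) : WithBot ℕ∞) ≤ ringKrullDim B := by
    have := Groth.Agent.Helper2.DepthCM4.depth_le_supportDim (A := B) B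
    rwa [Module.supportDim_self_eq_ringKrullDim] at this
  constructor
  · intro h
    have h2 : ((n : ℕ∞) : WithBot ℕ∞) ≤ ((LocCoh.depth B B : ℕ∞) : WithBot ℕ∞) :=
      WithBot.coe_le_coe.2 h
    have h3 : ringKrullDim B = ((n : ℕ∞) : WithBot ℕ∞) := le_antisymm hdim (h2.trans h1)
    have h4 : ((LocCoh.depth B B : ℕ∞) : WithBot ℕ∞) = ((n : ℕ∞) : WithBot ℕ∞) :=
      le_antisymm (h1.trans hdim) h2
    refine ⟨LocCoh.IsCohenMacaulayLocalRing.mk ?_, h3⟩
    rw [Module.supportDim_self_eq_ringKrullDim, h3]
    exact h4.symm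
  · rintro ⟨hcm, hn⟩
    have h2 := hcm.supportDim_eq_depth
    rw [Module.supportDim_self_eq_ringKrullDim, hn] at h2
    have h3 : ((n : ℕ∞) : WithBot ℕ∞) = ((LocCoh.depth B B : ℕ∞) : WithBot ℕ∞) := h2
    exact (WithBot.coe_inj.1 h3).le

end Groth.Agent.Helper1.CMcl
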