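import Mathlib

/-!
# ExtDual1: linear algebra and the contravariant long exact `Ext` sequence in linear form
-/

set_option autoImplicit false
set_option linter.style.haveILetI false
set_option linter.unusedSectionVars false

open CategoryTheory CategoryTheory.Limits Abelian

namespace Groth.Agent.Helper1.ExtDual

section LinAlg

variable {k : Type*} [Field k]

/-- two surjective linear maps with the same kernel have isomorphic targets -/
theorem nonempty_linearEquiv_of_ker_eq {S H P : Type*} [AddCommGroup S] [Module k S]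
    [AddCommGroup H] [Module k H] [AddCommGroup P] [Module k P]
    (T : S →ₗ[k] H) (Ψ : S →ₗ[k] P) (hT : Function.Surjective T) (hΨ : Function.Surjective Ψ)
    (hker : ∀ s, T s = 0 ↔ Ψ s = 0) : Nonempty (H ≃ₗ[k] P) := by
  have hk : LinearMap.ker T = LinearMap.ker Ψ := by
    ext s
    exact hker s
  exact ⟨(T.quotKerEquivOfSurjective hT).symm.trans
    ((Submodule.quotEquivOfEq _ _ hk).trans (Ψ.quotKerEquivOfSurjective hΨ))⟩

/-- the dual of an exact sequence of vector spaces is exact -/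
theorem ker_dualMap_of_exact {U V W : Type*} [AddCommGroup U] [Module k U]
    [AddCommGroup V] [Module k V] [AddCommGroup W] [Module k W]
    (f : U →ₗ[k] V) (g : V →ₗ[k] W) (h : Function.Exact f g) (φ : Module.Dual k V) :
    f.dualMap φ = 0 ↔ ∃ ψ : Module.Dual k W, g.dualMap ψ = φ := by
  have h1 : LinearMap.ker f.dualMap = LinearMap.range g.dualMap := by
    rw [LinearMap.ker_dualMap_eq_dualAnnihilator_range,
      LinearMap.range_dualMap_eq_dualAnnihilator_ker, (LinearMap.exact_iff.mp h)]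
  have h2 : φ ∈ LinearMap.ker f.dualMap ↔ φ ∈ LinearMap.range g.dualMap := by rw [h1]
  exact h2

/-- the step from degree `0` to degree `1` -/
theorem step_zero {A₁ A₂ A₃ V₁ V₂ V₃ : Type*} [AddCommGroup A₁] [Module k A₁]
    [AddCommGroup A₂] [Module k A₂] [AddCommGroup A₃] [Module k A₃]
    [AddCommGroup V₁] [Module k V₁] [AddCommGroup V₂] [Module k V₂] [AddCommGroup V₃] [Module k V₃]
    (a : A₁ →ₗ[k] A₂) (δ : A₂ →ₗ[k] A₃) (hδ : Function.Surjective δ) (hex : Function.Exact a δ)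
    (d : V₁ →ₗ[k] V₂) (c : V₂ →ₗ[k] V₃) (hd : Function.Injective d) (hex' : Function.Exact d c)
    (e₁ : A₁ ≃ₗ[k] Module.Dual k V₃) (e₂ : A₂ ≃ₗ[k] Module.Dual k V₂)
    (hnat : ∀ x, e₂ (a x) = c.dualMap (e₁ x)) :
    Nonempty (A₃ ≃ₗ[k] Module.Dual k V₁) := by
  refine nonempty_linearEquiv_of_ker_eq δ (d.dualMap ∘ₗ e₂.toLinearMap) hδ ?_ ?_
  · exact (LinearMap.dualMap_surjective_of_injective hd).comp e₂.surjective
  · intro x
    rw [hex x]
    show (∃ y, a y = x) ↔ d.dualMap (e₂ x) = 0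
    rw [ker_dualMap_of_exact d c hex']
    constructor
    · rintro ⟨y, rfl⟩
      exact ⟨e₁ y, (hnat y).symm⟩
    · rintro ⟨ψ, hψ⟩
      refine ⟨e₁.symm ψ, e₂.injective ?_⟩
      rw [hnat, LinearEquiv.apply_symm_apply, hψ]

/-- the step from degree `0` to degree `1` in relative dimension zero -/
theorem step_zero' {A₁ A₂ A₃ V₂ V₃ : Type*} [AddCommGroup A₁] [Module k A₁]
    [AddCommGroup A₂] [Module k A₂] [AddCommGroup A₃] [Module k A₃]
    [AddCommGroup V₂] [Module k V₂] [AddCommGroup V₃] [Module k V₃]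
    (a : A₁ →ₗ[k] A₂) (δ : A₂ →ₗ[k] A₃) (hδ : Function.Surjective δ) (hex : Function.Exact a δ)
    (c : V₂ →ₗ[k] V₃) (hc : Function.Injective c)
    (e₁ : A₁ ≃ₗ[k] Module.Dual k V₃) (e₂ : A₂ ≃ₗ[k] Module.Dual k V₂)
    (hnat : ∀ x, e₂ (a x) = c.dualMap (e₁ x)) : Subsingleton A₃ := by
  have ha : Function.Surjective a := by
    intro x
    obtain ⟨ψ, hψ⟩ := LinearMap.dualMap_surjective_of_injective hc (e₂ x)
    refine ⟨e₁.symm ψ, e₂.injective ?_⟩
    rw [hnat, LinearEquiv.apply_symm_apply, hψ]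
  refine ⟨fun x y => ?_⟩
  have h0 : ∀ z : A₃, z = 0 := by
    intro z
    obtain ⟨w, rfl⟩ := hδ z
    obtain ⟨v, rfl⟩ := ha w
    exact (hex (a v)).2 ⟨v, rfl⟩
  rw [h0 x, h0 y]

/-- the dual of a bijective linear map -/
theorem nonempty_dual_linearEquiv {V W : Type*} [AddCommGroup V] [Module k V]
    [AddCommGroup W] [Module k W] (d : V →ₗ[k] W) (hd : Function.Bijective d) :
    Nonempty (Module.Dual k W ≃ₗ[k] Module.Dual k V) :=
  ⟨(LinearEquiv.ofBijective d hd).dualMap⟩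

end LinAlg

section ExtLES

universe w v u t

variable (k : Type t) [CommRing k] {C : Type u} [Category.{v} C] [Abelian C] [Linear k C]
  [HasExt.{w} C] {S : ShortComplex C} (hS : S.ShortExact) (Y : C)

/-- `Extⁱ(X₂, Y) → Extⁱ(X₁, Y)` -/
noncomputable def aE (i : ℕ) : Ext.{w} S.X₂ Y i →ₗ[k] Ext.{w} S.X₁ Y i :=
  (Ext.mk₀ S.f).precompOfLinear k Y (zero_add i)

/-- `Extⁱ(X₁, Y) → Extⁱ⁺¹(X₃, Y)` -/
noncomputable def δE (i : ℕ) : Ext.{w} S.X₁ Y i →ₗ[k] Ext.{w} S.X₃ Y (i + 1) :=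
  hS.extClass.precompOfLinear k Y (add_comm 1 i)

lemma aE_apply (i : ℕ) (x : Ext.{w} S.X₂ Y i) :
    aE k (S := S) Y i x = (Ext.mk₀ S.f).comp x (zero_add i) := rfl

lemma δE_apply (i : ℕ) (x : Ext.{w} S.X₁ Y i) :
    δE k hS Y i x = hS.extClass.comp x (add_comm 1 i) := rfl

theorem exact_aE_δE (i : ℕ) : Function.Exact (aE k (S := S) Y i) (δE k hS Y i) := by
  intro x
  constructor
  · intro hx
    exact Ext.contravariant_sequence_exact₁ hS Y x (add_comm 1 i) hx
  · rintro ⟨y, rfl⟩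
    rw [aE_apply, δE_apply]
    exact hS.extClass_comp_assoc y

theorem surjective_δE (i : ℕ) (h : Subsingleton (Ext.{w} S.X₂ Y (i + 1))) :
    Function.Surjective (δE k hS Y i) := by
  intro x
  exact Ext.contravariant_sequence_exact₃ hS Y x (Subsingleton.elim _ _) (add_comm 1 i)

theorem injective_δE (i : ℕ) (h : Subsingleton (Ext.{w} S.X₂ Y i)) :
    Function.Injective (δE k hS Y i) := by
  rw [injective_iff_map_eq_zero]
  intro x hx
  obtain ⟨y, rfl⟩ := (exact_aE_δE k hS Y i x).1 hx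
  rw [Subsingleton.elim y 0, map_zero]

end ExtLES

end Groth.Agent.Helper1.ExtDual
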