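import Mathlib
import Groth.Prelude.Def_KLin
import Groth.Agent.Helper1.HHLes
import Groth.Agent.Helper1.HHLes3
import Groth.Agent.Helper4.SN50

/-!
# ExtHom1: comparison `Extⁿ(F, G) ≃ₗ Hⁿ(X, R G)` for an exact functor `R` with acyclic values on
injectives, given a natural comparison in degree `0`

`X` a scheme over `Spec k`, `R : X.Modules ⥤ X.Modules` exact, `Hⁿ(R I) = 0` for `I` injective and
`n ≥ 1`, and `e₀ G : Ext⁰(F, G) ≃ₗ H⁰(R G)` natural in `G`.  Then `Extⁿ(F, G) ≃ₗ[k] Hⁿ(R G)` for all `n`.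
-/

set_option autoImplicit false
set_option linter.style.haveILetI false
set_option linter.unusedSectionVars false

open CategoryTheory CategoryTheory.Limits Abelian AlgebraicGeometry
open Groth.Agent.Helper1.HHLes

namespace Groth.Agent.Helper1.ExtHom

section LinAlg

variable {k : Type*} [CommRing k]

/-- two surjective linear maps with the same kernel have isomorphic targets -/
theorem nonempty_linearEquiv_of_ker_eq {S H P : Type*} [AddCommGroup S] [Module k S]
    [AddCommGroup H] [Module k H] [AddCommGroup P] [Module k P]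
    (T : S →ₗ[k] H) (Ψ : S →ₗ[k] P) (hT : Function.Surjective T) (hΨ : Function.Surjective Ψ)
    (hker : ∀ s, T s = 0 ↔ Ψ s = 0) : Nonempty (H ≃ₗ[k] P) := by
  have hk : LinearMap.ker T = LinearMap.ker Ψ := by
    ext s
    exact hker s
  exact ⟨(T.quotKerEquivOfSurjective hT).symm.trans
    ((Submodule.quotEquivOfEq _ _ hk).trans (Ψ.quotKerEquivOfSurjective hΨ))⟩

end LinAlg

section ExtLES

universe w v u t

variable (k : Type t) [CommRing k] {C : Type u} [Category.{v} C] [Abelian C] [Linear k C]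
  [HasExt.{w} C] {S : ShortComplex C} (hS : S.ShortExact) (Y : C)

/-- `Extⁱ(Y, X₂) → Extⁱ(Y, X₃)` -/
noncomputable def bE (i : ℕ) : Ext.{w} Y S.X₂ i →ₗ[k] Ext.{w} Y S.X₃ i :=
  (Ext.mk₀ S.g).postcompOfLinear k Y (add_zero i)

/-- `Extⁱ(Y, X₃) → Extⁱ⁺¹(Y, X₁)` -/
noncomputable def dE (i : ℕ) : Ext.{w} Y S.X₃ i →ₗ[k] Ext.{w} Y S.X₁ (i + 1) :=
  hS.extClass.postcompOfLinear k Y rfl

lemma bE_apply (i : ℕ) (x : Ext.{w} Y S.X₂ i) :
    bE k (S := S) Y i x = x.comp (Ext.mk₀ S.g) (add_zero i) := rfl

lemma dE_apply (i : ℕ) (x : Ext.{w} Y S.X₃ i) :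
    dE k hS Y i x = x.comp hS.extClass rfl := rfl

theorem exact_bE_dE (i : ℕ) : Function.Exact (bE k (S := S) Y i) (dE k hS Y i) := by
  intro x
  constructor
  · intro hx
    exact Ext.covariant_sequence_exact₃ Y hS x rfl hx
  · rintro ⟨y, rfl⟩
    rw [bE_apply, dE_apply, Ext.comp_assoc_of_second_deg_zero, hS.comp_extClass, Ext.comp_zero]

theorem surjective_dE (i : ℕ) (h : Subsingleton (Ext.{w} Y S.X₂ (i + 1))) :
    Function.Surjective (dE k hS Y i) := by
  intro x
  exact Ext.covariant_sequence_exact₁ Y hS x (Subsingleton.elim _ _) rfl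

theorem injective_dE (i : ℕ) (h : Subsingleton (Ext.{w} Y S.X₂ i)) :
    Function.Injective (dE k hS Y i) := by
  rw [injective_iff_map_eq_zero]
  intro x hx
  obtain ⟨y, rfl⟩ := (exact_bE_dE k hS Y i x).1 hx
  rw [Subsingleton.elim y 0, map_zero]

end ExtLES

universe u

variable (k : Type u) [CommRing k] {X : Scheme.{u}} [X.Over (Spec (CommRingCat.of k))]
  [HasExt.{u} X.Modules] [EnoughInjectives X.Modules]

/-- the short exact sequence `0 → G → I → Q → 0` with `I` injective -/
noncomputable def injSC (G : X.Modules) : ShortComplex X.Modules :=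
  ShortComplex.mk (Injective.ι G) (cokernel.π (Injective.ι G)) (cokernel.condition _)

lemma injSC_shortExact (G : X.Modules) : (injSC G).ShortExact where
  exact := ShortComplex.exact_cokernel _
  mono_f := by dsimp [injSC]; infer_instance
  epi_g := by dsimp [injSC]; infer_instance

/-- **the comparison theorem** -/
theorem main (F : X.Modules) (R : X.Modules ⥤ X.Modules) [R.Additive]
    [PreservesFiniteLimits R] [PreservesFiniteColimits R]
    (hacyc : ∀ I : X.Modules, Injective I → ∀ n : ℕ, 1 ≤ n → Subsingleton (Coh.HH X (R.obj I) n))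
    (e₀ : ∀ G : X.Modules, Ext.{u} F G 0 ≃ₗ[k] Coh.HH X (R.obj G) 0)
    (hnat : ∀ (G G' : X.Modules) (φ : G ⟶ G') (x : Ext.{u} F G 0),
      e₀ G' (x.comp (Ext.mk₀ φ) (add_zero 0)) = Canon.HHlin k (R.map φ) 0 (e₀ G x)) :
    ∀ (n : ℕ) (G : X.Modules), Nonempty (Ext.{u} F G n ≃ₗ[k] Coh.HH X (R.obj G) n) := by
  intro n
  induction n with
  | zero => exact fun G => ⟨e₀ G⟩
  | succ n ih =>
    intro G
    have hS : (injSC G).ShortExact := injSC_shortExact G
    have hS' : ((injSC G).map R).ShortExact := hS.map_of_exact R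
    haveI hI : Injective (injSC G).X₂ := by dsimp [injSC]; infer_instance
    have hsurj : Function.Surjective (dE k hS F n) :=
      surjective_dE k hS F n (Ext.subsingleton_of_injective _ _ n)
    have hsurj' : Function.Surjective (δ k ((injSC G).map R) hS' n) := by
      intro y
      have hsub : Subsingleton (Coh.HH X (R.obj (injSC G).X₂) (n + 1)) :=
        hacyc _ hI (n + 1) (by omega)
      exact (exact_δ_f k ((injSC G).map R) hS' n y).1 (@Subsingleton.elim _ hsub _ _)
    rcases n with _ | n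
    · refine nonempty_linearEquiv_of_ker_eq (dE k hS F 0)
        ((δ k ((injSC G).map R) hS' 0) ∘ₗ (e₀ (injSC G).X₃).toLinearMap) hsurj
        (hsurj'.comp (e₀ _).surjective) ?_
      intro s
      refine (exact_bE_dE k hS F 0 s).trans
        (Iff.trans ?_ (exact_g_δ k ((injSC G).map R) hS' 0 (e₀ (injSC G).X₃ s)).symm)
      constructor
      · rintro ⟨y, rfl⟩
        exact ⟨e₀ _ y, (hnat _ _ (injSC G).g y).symm⟩
      · rintro ⟨y, hy⟩
        refine ⟨(e₀ _).symm y, (e₀ _).injective ?_⟩
        rw [bE_apply, hnat, LinearEquiv.apply_symm_apply]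
        exact hy
    · have hinj : Function.Injective (dE k hS F (n + 1)) :=
        injective_dE k hS F (n + 1) (Ext.subsingleton_of_injective _ _ n)
      have hinj' : Function.Injective (δ k ((injSC G).map R) hS' (n + 1)) := by
        have hsub : Subsingleton (Coh.HH X (R.obj (injSC G).X₂) (n + 1)) :=
          hacyc _ hI (n + 1) (by omega)
        rw [injective_iff_map_eq_zero]
        intro x hx
        obtain ⟨y, rfl⟩ := (exact_g_δ k ((injSC G).map R) hS' (n + 1) x).1 hx
        rw [@Subsingleton.elim _ hsub y 0]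
        exact map_zero _
      obtain ⟨e1⟩ := ih (injSC G).X₃
      exact ⟨(LinearEquiv.ofBijective (dE k hS F (n + 1)) ⟨hinj, hsurj⟩).symm.trans
        (e1.trans (LinearEquiv.ofBijective (δ k ((injSC G).map R) hS' (n + 1)) ⟨hinj', hsurj'⟩))⟩

end Groth.Agent.Helper1.ExtHom
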