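import Mathlib
import Groth.Prelude.Def_ModSite
import Groth.Prelude.Def_ModSite2
import Groth.Prelude.Def_ExtSupp
import Groth.Agent.Helper9.TensorFlat
import Groth.Agent.Helper9.FreeOnHom
import Groth.Agent.Helper9.FreeOnIso

/-!
# ExtSh1: exactness of the internal Hom in the first variable

On a ringed site, for a short exact sequence `0 → M' → M → M'' → 0` of modules and any `N`,
`0 → ℋom(M'', N) → ℋom(M, N) → ℋom(M', N)` is exact, and for `N` injective the last map is an
epimorphism.
-/

set_option autoImplicit false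
set_option linter.style.haveILetI false
set_option linter.unusedSectionVars false

universe u
open CategoryTheory CategoryTheory.Limits Opposite
open Groth.Agent.Helper9.TensorSh Groth.Agent.Helper9.TensorAdj Groth.Agent.Helper9.TensorFlat

namespace Groth.Agent.Helper1.ExtSh

section Conj

variable {C D : Type*} [Category C] [Category D] {L₁ L₂ : C ⥤ D} {R₁ R₂ : D ⥤ C}
  (adj₁ : L₁ ⊣ R₁) (adj₂ : L₂ ⊣ R₂)

/-- the conjugate transformation, read through the adjunctions -/
lemma homEquiv_symm_comp_conjugateEquiv (α : L₂ ⟶ L₁) {T : C} {N : D} (x : T ⟶ R₁.obj N) :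
    (adj₂.homEquiv T N).symm (x ≫ (conjugateEquiv adj₁ adj₂ α).app N) =
      α.app T ≫ (adj₁.homEquiv T N).symm x := by
  rw [Adjunction.homEquiv_counit, Adjunction.homEquiv_counit, Functor.map_comp, Category.assoc,
    conjugateEquiv_counit, ← Category.assoc, ← Category.assoc, α.naturality]

lemma conjugateEquiv_zero [Preadditive C] [Preadditive D] [L₂.PreservesZeroMorphisms] :
    conjugateEquiv adj₁ adj₂ (0 : L₂ ⟶ L₁) = 0 := by
  ext N
  apply (adj₂.homEquiv _ N).symm.injective
  have h := homEquiv_symm_comp_conjugateEquiv adj₁ adj₂ (0 : L₂ ⟶ L₁) (𝟙 (R₁.obj N))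
  rw [Category.id_comp] at h
  rw [h, Adjunction.homEquiv_counit, Adjunction.homEquiv_counit]
  simp

end Conj

variable {C : Type u} [SmallCategory C] {J : GrothendieckTopology C} {O : Sheaf J CommRingCat.{u}}

/-- the key formula: `ℋom(g, N)` corresponds to precomposition with `T ⊗ g` -/
lemma homEquiv_symm_comp_sheafHomMap {M M' : ModSite.Mod O} [ModSite.HasSheafHom M]
    [ModSite.HasSheafHom M'] (g : M' ⟶ M) {T N : ModSite.Mod O}
    (x : T ⟶ (ModSite.sheafHom M).obj N) :
    ((ModSite.sheafHomAdj M').homEquiv T N).symm (x ≫ (ExtSupp.sheafHomMap g).app N) =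
      (TL T).map g ≫ ((ModSite.sheafHomAdj M).homEquiv T N).symm x :=
  homEquiv_symm_comp_conjugateEquiv (ModSite.sheafHomAdj M) (ModSite.sheafHomAdj M')
    ((ModSite.tensorBi O).flip.map g) x

lemma sheafHomMap_comp {M M' M'' : ModSite.Mod O} [ModSite.HasSheafHom M]
    [ModSite.HasSheafHom M'] [ModSite.HasSheafHom M''] (f : M' ⟶ M) (g : M ⟶ M'') :
    ExtSupp.sheafHomMap g ≫ ExtSupp.sheafHomMap f = ExtSupp.sheafHomMap (f ≫ g) := by
  show conjugateEquiv _ _ _ ≫ conjugateEquiv _ _ _ = conjugateEquiv _ _ _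
  rw [conjugateEquiv_comp, Functor.map_comp]

instance additive_flip' : (ModSite.tensorBi O).flip.Additive where
  map_add {M N f g} := by
    ext G : 2
    show (TL G).map (f + g) = (TL G).map f + (TL G).map g
    haveI : (TL G).Additive :=
      Functor.additive_of_iso (symIso G).symm
    exact Functor.map_add _

lemma sheafHomMap_zero {M M' : ModSite.Mod O} [ModSite.HasSheafHom M]
    [ModSite.HasSheafHom M'] : ExtSupp.sheafHomMap (0 : M' ⟶ M) = 0 := by
  show conjugateEquiv _ _ ((ModSite.tensorBi O).flip.map 0) = 0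
  rw [Functor.map_zero]
  exact conjugateEquiv_zero _ _

/-- the complex `ℋom(M'', N) → ℋom(M, N) → ℋom(M', N)` -/
noncomputable abbrev homSC (S : ShortComplex (ModSite.Mod O)) [ModSite.HasSheafHom S.X₁]
    [ModSite.HasSheafHom S.X₂] [ModSite.HasSheafHom S.X₃] (N : ModSite.Mod O) :
    ShortComplex (ModSite.Mod O) :=
  ShortComplex.mk ((ExtSupp.sheafHomMap S.g).app N) ((ExtSupp.sheafHomMap S.f).app N) (by
    rw [← NatTrans.comp_app, sheafHomMap_comp, S.zero, sheafHomMap_zero]
    rfl)

instance additive_TL (T : ModSite.Mod O) : (TL T).Additive :=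
  Functor.additive_of_iso (symIso T).symm

/-- `ℋom(g, N)` is a monomorphism for `g` an epimorphism -/
theorem mono_sheafHomMap_app {M M' : ModSite.Mod O} [ModSite.HasSheafHom M]
    [ModSite.HasSheafHom M'] (g : M' ⟶ M) [Epi g] (N : ModSite.Mod O) :
    Mono ((ExtSupp.sheafHomMap g).app N) := by
  constructor
  intro T x y hxy
  apply ((ModSite.sheafHomAdj M).homEquiv T N).symm.injective
  haveI : Epi ((TL T).map g) := inferInstance
  rw [← cancel_epi ((TL T).map g), ← homEquiv_symm_comp_sheafHomMap,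
    ← homEquiv_symm_comp_sheafHomMap, hxy]

/-- the lifting property behind left exactness of `ℋom(-, N)` -/
theorem exists_lift_sheafHomMap (S : ShortComplex (ModSite.Mod O)) [ModSite.HasSheafHom S.X₁]
    [ModSite.HasSheafHom S.X₂] [ModSite.HasSheafHom S.X₃] (hS : S.Exact) [Epi S.g]
    (N : ModSite.Mod O) {A : ModSite.Mod O} (k : A ⟶ (ModSite.sheafHom S.X₂).obj N)
    (hk : k ≫ (ExtSupp.sheafHomMap S.f).app N = 0) :
    ∃ l : A ⟶ (ModSite.sheafHom S.X₃).obj N, l ≫ (ExtSupp.sheafHomMap S.g).app N = k := by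
  have hpc : PreservesFiniteColimits (TL A) := PreservesColimitsOfSize.preservesFiniteColimits _
  have hST : (S.map (TL A)).Exact ∧ Epi ((TL A).map S.g) := by
    have h := (Functor.preservesFiniteColimits_tfae (TL A)).out 3 1
    exact h.1 hpc S ⟨hS, inferInstance⟩
  haveI : Epi (S.map (TL A)).g := hST.2
  have h0 : (S.map (TL A)).f ≫ ((ModSite.sheafHomAdj S.X₂).homEquiv A N).symm k = 0 := by
    have h1 := homEquiv_symm_comp_sheafHomMap S.f k
    refine h1.symm.trans ?_
    rw [hk, Adjunction.homEquiv_counit, Functor.map_zero, zero_comp]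
    rfl
  refine ⟨(ModSite.sheafHomAdj S.X₃).homEquiv A N (hST.1.desc _ h0), ?_⟩
  apply ((ModSite.sheafHomAdj S.X₂).homEquiv A N).symm.injective
  rw [homEquiv_symm_comp_sheafHomMap, Equiv.symm_apply_apply]
  exact hST.1.g_desc _ h0

/-- left exactness of `ℋom(-, N)` -/
theorem homSC_exact_mono (S : ShortComplex (ModSite.Mod O)) [ModSite.HasSheafHom S.X₁]
    [ModSite.HasSheafHom S.X₂] [ModSite.HasSheafHom S.X₃] (hS : S.Exact) [Epi S.g]
    (N : ModSite.Mod O) : (homSC S N).Exact ∧ Mono (homSC S N).f := by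
  haveI : Mono (homSC S N).f := mono_sheafHomMap_app S.g N
  rw [ShortComplex.exact_and_mono_f_iff_f_is_kernel]
  refine ⟨KernelFork.IsLimit.ofι' _ _ ?_⟩
  intro A k hk
  exact ⟨(exists_lift_sheafHomMap S hS N k hk).choose,
    (exists_lift_sheafHomMap S hS N k hk).choose_spec⟩

/-- a morphism through which all maps from the free modules `j_! O_U` lift is an epimorphism -/
theorem epi_of_lift_freeOn {A B : ModSite.Mod O} (f : A ⟶ B)
    (h : ∀ (U : C) (x : ModSite.freeOn O U ⟶ B), ∃ y : ModSite.freeOn O U ⟶ A, y ≫ f = x) :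
    Epi f := by
  have hsep := Groth.Agent.Helper9.FreeOnHom.isSeparating_freeOn (O := O) (Set.univ : Set C)
    (fun X => ⟨PUnit, fun _ => X, fun _ => 𝟙 X, by
      refine J.superset_covering ?_ (J.top_mem X)
      intro Y g _
      exact ⟨X, g, 𝟙 X, Presieve.ofArrows.mk PUnit.unit, (Category.comp_id g)⟩,
      fun _ => Set.mem_univ _⟩)
  constructor
  intro Z c c' hcc
  apply hsep
  intro G hG x
  obtain ⟨⟨U, hU⟩⟩ := hG
  obtain ⟨y, rfl⟩ := h U x
  rw [Category.assoc, Category.assoc, hcc]

/-- `ℋom(f, I)` is an epimorphism for `f` a monomorphism and `I` injective -/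
theorem epi_sheafHomMap_app {M M' : ModSite.Mod O} [ModSite.HasSheafHom M]
    [ModSite.HasSheafHom M'] (f : M' ⟶ M) [Mono f] (I : ModSite.Mod O) [Injective I] :
    Epi ((ExtSupp.sheafHomMap f).app I) := by
  apply epi_of_lift_freeOn
  intro U x
  have hfl := Groth.Agent.Helper9.FreeOnIso.isFlat_freeOn O U
  haveI : Mono ((TN (ModSite.freeOn O U)).map f) := mono_of_isFlat _ hfl f
  haveI : Mono ((TL (ModSite.freeOn O U)).map f) := by
    have h1 : (TL (ModSite.freeOn O U)).map f =
        (symIso (ModSite.freeOn O U)).hom.app M' ≫ (TN (ModSite.freeOn O U)).map f ≫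
          (symIso (ModSite.freeOn O U)).inv.app M := by
      rw [← Category.assoc, ← (symIso (ModSite.freeOn O U)).hom.naturality f, Category.assoc,
        Iso.hom_inv_id_app, Category.comp_id]
    rw [h1]
    infer_instance
  let x' := ((ModSite.sheafHomAdj M').homEquiv _ I).symm x
  refine ⟨(ModSite.sheafHomAdj M).homEquiv _ I
    (Injective.factorThru x' ((TL (ModSite.freeOn O U)).map f)), ?_⟩
  apply ((ModSite.sheafHomAdj M').homEquiv _ I).symm.injective
  rw [homEquiv_symm_comp_sheafHomMap, Equiv.symm_apply_apply, Injective.comp_factorThru]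

/-- **`0 → ℋom(M'', I) → ℋom(M, I) → ℋom(M', I) → 0` is exact for `I` injective** -/
theorem homSC_shortExact (S : ShortComplex (ModSite.Mod O)) [ModSite.HasSheafHom S.X₁]
    [ModSite.HasSheafHom S.X₂] [ModSite.HasSheafHom S.X₃] (hS : S.ShortExact)
    (I : ModSite.Mod O) [Injective I] : (homSC S I).ShortExact := by
  haveI := hS.epi_g
  haveI := hS.mono_f
  obtain ⟨h1, h2⟩ := homSC_exact_mono S hS.exact I
  exact { exact := h1, mono_f := h2, epi_g := epi_sheafHomMap_app S.f I }

end Groth.Agent.Helper1.ExtSh
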