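import Mathlib
import Groth.Agent.Helper1.ExtSh1
import Groth.Agent.Helper1.FunLES

/-!
# ExtSh2: the long exact sequence of Ext sheaves in the first variable; dimension shifting
-/

set_option autoImplicit false
set_option linter.style.haveILetI false
set_option linter.unusedSectionVars false

universe u
open CategoryTheory CategoryTheory.Limits Opposite
open Groth.Agent.Helper9.TensorSh Groth.Agent.Helper9.TensorAdj Groth.Agent.Helper9.TensorFlat

namespace Groth.Agent.Helper1.ExtSh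

section Abstract

variable {𝒜 : Type*} [Category 𝒜] [Abelian 𝒜]

/-- the homology of `X₁ → X₂ → X₃` when `X₂ → X₃` factors as `b ≫ m` with `m` mono, `i : K → X₂`
is a kernel of `b`, and `X₁ → X₂` factors as `a ≫ i` -/
theorem nonempty_homology_iso_cokernel (S : ShortComplex 𝒜) {K Q : 𝒜} (i : K ⟶ S.X₂)
    (b : S.X₂ ⟶ Q) (m : Q ⟶ S.X₃) (hm : Mono m) (hg : S.g = b ≫ m) (wi : i ≫ b = 0)
    (hi : IsLimit (KernelFork.ofι i wi)) (a : S.X₁ ⟶ K) (ha : a ≫ i = S.f) :
    Nonempty (S.homology ≅ cokernel a) := by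
  have wi' : i ≫ S.g = 0 := by rw [hg, ← Category.assoc, wi, zero_comp]
  have hi' : IsLimit (KernelFork.ofι i wi') := isKernelCompMono hi m hg
  haveI : Mono i := ⟨fun _ _ => Fork.IsLimit.hom_ext hi⟩
  have hfa : a = hi'.lift (KernelFork.ofι S.f S.zero) := by
    rw [← cancel_mono i, ha]
    exact (hi'.fac (KernelFork.ofι S.f S.zero) WalkingParallelPair.zero).symm
  subst hfa
  let h : S.LeftHomologyData :=
    { K := K
      H := cokernel (hi'.lift (KernelFork.ofι S.f S.zero))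
      i := i
      π := cokernel.π _
      wi := wi'
      hi := hi'
      wπ := cokernel.condition _
      hπ := cokernelIsCokernel _ }
  exact ⟨h.homologyIso⟩

end Abstract

variable {C : Type u} [SmallCategory C] {J : GrothendieckTopology C} {O : Sheaf J CommRingCat.{u}}
  [HasInjectiveResolutions (ModSite.Mod O)]

instance preservesFiniteLimits_sheafHom (M : ModSite.Mod O) [ModSite.HasSheafHom M] :
    PreservesFiniteLimits (ModSite.sheafHom M) := by
  haveI : PreservesLimitsOfSize.{0, 0} (ModSite.sheafHom M) :=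
    (ModSite.sheafHomAdj M).rightAdjoint_preservesLimits
  exact PreservesLimitsOfSize.preservesFiniteLimits _

section ses

variable (S : ShortComplex (ModSite.Mod O)) [ModSite.HasSheafHom S.X₁]
  [ModSite.HasSheafHom S.X₂] [ModSite.HasSheafHom S.X₃]

lemma w_sheafHomMap : ExtSupp.sheafHomMap S.g ≫ ExtSupp.sheafHomMap S.f = 0 := by
  rw [sheafHomMap_comp, S.zero, sheafHomMap_zero]

variable (hS : S.ShortExact)

include hS in
lemma sc_shortExact (I : ModSite.Mod O) [Injective I] :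
    (FunLES.sc (ExtSupp.sheafHomMap S.g) (ExtSupp.sheafHomMap S.f) (w_sheafHomMap S)
      I).ShortExact :=
  homSC_shortExact S hS I

include hS in
/-- `ℰxtⁿ⁺¹(M', -) ≅ ℰxtⁿ⁺²(M'', -)` when `ℰxtⁿ⁺¹(M, -) = ℰxtⁿ⁺²(M, -) = 0` -/
theorem nonempty_extSh_shift (n : ℕ)
    (h0 : ∀ N, IsZero ((ModSite.extSh S.X₂ (n + 1)).obj N))
    (h1 : ∀ N, IsZero ((ModSite.extSh S.X₂ (n + 2)).obj N)) :
    Nonempty (ModSite.extSh S.X₁ (n + 1) ≅ ModSite.extSh S.X₃ (n + 2)) :=
  ⟨FunLES.isoOfIsZero (ExtSupp.sheafHomMap S.g) (ExtSupp.sheafHomMap S.f) (w_sheafHomMap S)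
    (fun I _ => sc_shortExact S hS I) (n + 1) h0 h1⟩

include hS in
/-- `ℰxt¹(M'', N) ≅ coker(ℋom(M, N) → ℋom(M', N))` when `ℰxt¹(M, -) = 0` -/
theorem nonempty_extSh_one_iso_cokernel
    (h1 : ∀ N, IsZero ((ModSite.extSh S.X₂ 1).obj N)) (N : ModSite.Mod O) :
    Nonempty ((ModSite.extSh S.X₃ 1).obj N ≅ cokernel ((ExtSupp.sheafHomMap S.f).app N)) := by
  obtain ⟨e⟩ := FunLES.nonempty_iso_cokernel (ExtSupp.sheafHomMap S.g) (ExtSupp.sheafHomMap S.f)
    (w_sheafHomMap S) (fun I _ => sc_shortExact S hS I) h1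
  exact ⟨e.app N ≪≫ PreservesCokernel.iso ((evaluation _ _).obj N) (ExtSupp.sheafHomMap S.f)⟩

end ses

section resolution

variable (A : ChainComplex (ModSite.Mod O) ℕ)

/-- the syzygies of an exact complex: `W 0 = A₀`, `W (j+1) = ker(A_{j+1} → A_j)` -/
noncomputable def W : ℕ → ModSite.Mod O
  | 0 => A.X 0
  | j + 1 => kernel (A.d (j + 1) j)

/-- `W (j+1) → A_{j+1}` -/
noncomputable def ιW (j : ℕ) : W A (j + 1) ⟶ A.X (j + 1) := kernel.ι (A.d (j + 1) j)

instance (j : ℕ) : Mono (ιW A j) :=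
  ⟨fun _ _ h => Fork.IsLimit.hom_ext (kernelIsKernel (A.d (j + 1) j)) h⟩

/-- `A_{j+1} → W j` -/
noncomputable def pW : ∀ j : ℕ, A.X (j + 1) ⟶ W A j
  | 0 => A.d 1 0
  | j + 1 => kernel.lift (A.d (j + 1) j) (A.d (j + 2) (j + 1)) (A.d_comp_d _ _ _)

lemma pW_succ_ιW (j : ℕ) : pW A (j + 1) ≫ ιW A j = A.d (j + 2) (j + 1) :=
  kernel.lift_ι _ _ _

lemma ιW_pW (j : ℕ) : ιW A j ≫ pW A j = 0 := by
  cases j with
  | zero => exact kernel.condition _
  | succ j =>
    rw [← cancel_mono (ιW A j), Category.assoc, pW_succ_ιW, zero_comp]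
    exact kernel.condition _

/-- the short complexes `0 → W (j+1) → A_{j+1} → W j → 0` -/
noncomputable abbrev scW (j : ℕ) : ShortComplex (ModSite.Mod O) :=
  ShortComplex.mk (ιW A j) (pW A j) (ιW_pW A j)

variable [Epi (A.d 1 0)] (hA : ∀ j : ℕ, (A.sc' (j + 2) (j + 1) j).Exact)

include hA in
lemma epi_pW (j : ℕ) : Epi (pW A j) := by
  cases j with
  | zero => exact inferInstanceAs (Epi (A.d 1 0))
  | succ j => exact (ShortComplex.exact_iff_epi_kernel_lift _).1 (hA j)

include hA in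
lemma scW_shortExact (j : ℕ) : (scW A j).ShortExact := by
  haveI := epi_pW A hA j
  refine { exact := ?_, mono_f := inferInstanceAs (Mono (ιW A j)),
           epi_g := inferInstanceAs (Epi (pW A j)) }
  cases j with
  | zero => exact ShortComplex.exact_of_f_is_kernel _ (kernelIsKernel (A.d 1 0))
  | succ j =>
    exact ShortComplex.exact_of_f_is_kernel _
      (isKernelOfComp (f := pW A (j + 1)) (ιW A j) (A.d (j + 2) (j + 1))
        (kernelIsKernel (A.d (j + 2) (j + 1))) (ιW_pW A (j + 1)) (pW_succ_ιW A j))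

end resolution

end Groth.Agent.Helper1.ExtSh
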