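import Mathlib
import Groth.Agent.Helper1.ExtSh2

/-!
# ExtSh3: Ext sheaves computed by a resolution of the first variable by `ℋom`-acyclic modules
-/

set_option autoImplicit false
set_option linter.style.haveILetI false
set_option linter.unusedSectionVars false

universe u
open CategoryTheory CategoryTheory.Limits Opposite
open Groth.Agent.Helper9.TensorSh Groth.Agent.Helper9.TensorAdj Groth.Agent.Helper9.TensorFlat

namespace Groth.Agent.Helper1.ExtSh

variable {C : Type u} [SmallCategory C] {J : GrothendieckTopology C} {O : Sheaf J CommRingCat.{u}}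
  [HasInjectiveResolutions (ModSite.Mod O)]

attribute [local instance] hasSheafHom

variable (A : ChainComplex (ModSite.Mod O) ℕ) [Epi (A.d 1 0)]
  (hA : ∀ j : ℕ, (A.sc' (j + 2) (j + 1) j).Exact)
  (hacyc : ∀ (j q : ℕ) (N : ModSite.Mod O),
    IsZero ((ModSite.extSh (A.X (j + 1)) (q + 1)).obj N))
  (G : ModSite.Mod O)

include hA hacyc in
/-- dimension shifting along the syzygies -/
theorem nonempty_extSh_W_iso : ∀ (i q m : ℕ), m = q + 1 + i →
    Nonempty ((ModSite.extSh (W A i) (q + 1)).obj G ≅ (ModSite.extSh (W A 0) m).obj G) := by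
  intro i
  induction i with
  | zero =>
    intro q m hm
    subst hm
    exact ⟨Iso.refl _⟩
  | succ i ih =>
    intro q m hm
    obtain ⟨e1⟩ := nonempty_extSh_shift (scW A i) (scW_shortExact A hA i) q
      (fun N => hacyc i q N) (fun N => hacyc i (q + 1) N)
    obtain ⟨e2⟩ := ih (q + 1) m (by omega)
    exact ⟨e1.app G ≪≫ e2⟩

include hA hacyc in
theorem nonempty_extSh_W_one_iso_cokernel (i : ℕ) :
    Nonempty ((ModSite.extSh (W A i) 1).obj G ≅
      cokernel ((ExtSupp.sheafHomMap (ιW A i)).app G)) :=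
  nonempty_extSh_one_iso_cokernel (scW A i) (scW_shortExact A hA i) (fun N => hacyc i 0 N) G

/-- the complex `ℋom(A_{•+1}, G)` -/
noncomputable abbrev homT (i : ℕ) : ShortComplex (ModSite.Mod O) :=
  ShortComplex.mk ((ExtSupp.sheafHomMap (A.d (i + 2) (i + 1))).app G)
    ((ExtSupp.sheafHomMap (A.d (i + 3) (i + 2))).app G) (by
      rw [← NatTrans.comp_app, sheafHomMap_comp, A.d_comp_d, sheafHomMap_zero]
      rfl)

include hA in
theorem nonempty_homology_homT_iso_cokernel (i : ℕ) :
    Nonempty ((homT A G i).homology ≅ cokernel ((ExtSupp.sheafHomMap (ιW A i)).app G)) := by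
  haveI := epi_pW A hA (i + 1)
  haveI := epi_pW A hA (i + 2)
  have hm : Mono ((ExtSupp.sheafHomMap (pW A (i + 2))).app G) := mono_sheafHomMap_app _ G
  have hS := scW_shortExact A hA (i + 1)
  haveI : Epi (scW A (i + 1)).g := hS.epi_g
  have hk := homSC_exact_mono (scW A (i + 1)) hS.exact G
  rw [ShortComplex.exact_and_mono_f_iff_f_is_kernel] at hk
  obtain ⟨hk⟩ := hk
  have h1 : (ExtSupp.sheafHomMap (ιW A (i + 1))).app G ≫
      (ExtSupp.sheafHomMap (pW A (i + 1 + 1))).app G =
      (ExtSupp.sheafHomMap (A.d (i + 1 + 2) (i + 1 + 1))).app G := by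
    rw [← NatTrans.comp_app, sheafHomMap_comp, pW_succ_ιW]
  have h2 : (ExtSupp.sheafHomMap (ιW A i)).app G ≫
      (ExtSupp.sheafHomMap (pW A (i + 1))).app G =
      (ExtSupp.sheafHomMap (A.d (i + 2) (i + 1))).app G := by
    rw [← NatTrans.comp_app, sheafHomMap_comp, pW_succ_ιW]
  exact nonempty_homology_iso_cokernel (homT A G i)
    ((ExtSupp.sheafHomMap (pW A (i + 1))).app G)
    ((ExtSupp.sheafHomMap (ιW A (i + 1))).app G)
    ((ExtSupp.sheafHomMap (pW A (i + 2))).app G) hm h1.symm (homSC (scW A (i + 1)) G).zero hk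
    ((ExtSupp.sheafHomMap (ιW A i)).app G) h2

include hA hacyc in
/-- **positive degrees** -/
theorem nonempty_homology_homT_iso_extSh (i : ℕ) :
    Nonempty ((homT A G i).homology ≅ (ModSite.extSh (A.X 0) (i + 1)).obj G) := by
  obtain ⟨e1⟩ := nonempty_homology_homT_iso_cokernel A hA G i
  obtain ⟨e2⟩ := nonempty_extSh_W_one_iso_cokernel A hA hacyc G i
  obtain ⟨e3⟩ := nonempty_extSh_W_iso A hA hacyc G i 0 (i + 1) (by omega)
  exact ⟨e1 ≪≫ e2.symm ≪≫ e3⟩

include hA in
/-- **degree zero** -/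
theorem nonempty_kernel_iso_sheafHom :
    Nonempty (kernel ((ExtSupp.sheafHomMap (A.d (0 + 2) (0 + 1))).app G) ≅
      (ModSite.sheafHom (A.X 0)).obj G) := by
  haveI := epi_pW A hA (0 + 1)
  haveI : Mono ((ExtSupp.sheafHomMap (pW A (0 + 1))).app G) := mono_sheafHomMap_app _ G
  have hS := scW_shortExact A hA 0
  haveI : Epi (scW A 0).g := hS.epi_g
  have hk := homSC_exact_mono (scW A 0) hS.exact G
  rw [ShortComplex.exact_and_mono_f_iff_f_is_kernel] at hk
  obtain ⟨hk⟩ := hk
  have hd : (ExtSupp.sheafHomMap (A.d (0 + 2) (0 + 1))).app G =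
      (ExtSupp.sheafHomMap (ιW A 0)).app G ≫ (ExtSupp.sheafHomMap (pW A (0 + 1))).app G := by
    rw [← NatTrans.comp_app, sheafHomMap_comp, pW_succ_ιW]
  have hk' := isKernelCompMono hk ((ExtSupp.sheafHomMap (pW A (0 + 1))).app G) hd
  exact ⟨IsLimit.conePointUniqueUpToIso (kernelIsKernel _) hk'⟩

end Groth.Agent.Helper1.ExtSh
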