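import Mathlib
import Groth.Agent.Helper1.ExtSh3

/-!
# ExtSh4: the Ext sheaves `ℰxtⁱ(F, G)` are the cohomology of `ℋom(E_•, G)` for a resolution
`E_• → F` by `ℋom`-acyclic modules
-/

set_option autoImplicit false
set_option linter.style.haveILetI false
set_option linter.unusedSectionVars false

universe u
open CategoryTheory CategoryTheory.Limits Opposite
open Groth.Agent.Helper9.TensorSh Groth.Agent.Helper9.TensorAdj Groth.Agent.Helper9.TensorFlat

namespace Groth.Agent.Helper1.ExtSh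

variable {C : Type u} [SmallCategory C] {J : GrothendieckTopology C} {O : Sheaf J CommRingCat.{u}}
  [HasInjectiveResolutions (ModSite.Mod O)]

attribute [local instance] hasSheafHom

section kernel

variable {𝒜 : Type*} [Category 𝒜] [Abelian 𝒜]

/-- kernels of isomorphic arrows -/
noncomputable def kernelIsoOfSq {X Y X' Y' : 𝒜} (f : X ⟶ Y) (f' : X' ⟶ Y') (a : X ≅ X')
    (b : Y ≅ Y') (h : f ≫ b.hom = a.hom ≫ f') : kernel f ≅ kernel f' :=
  kernel.mapIso f f' a b h

end kernel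

variable (F G : ModSite.Mod O) (E : ChainComplex (ModSite.Mod O) ℕ) (π : E.X 0 ⟶ F) [Epi π]
  (hπ : E.d 1 0 ≫ π = 0) (hex0 : (ShortComplex.mk (E.d 1 0) π hπ).Exact)
  (hex : ∀ j : ℕ, E.ExactAt (j + 1))
  (hacyc : ∀ (j q : ℕ) (N : ModSite.Mod O), IsZero ((ModSite.extSh (E.X j) (q + 1)).obj N))
  (K : CochainComplex (ModSite.Mod O) ℕ) (e : ∀ j : ℕ, K.X j ≅ (ModSite.sheafHom (E.X j)).obj G)
  (hK : ∀ j : ℕ, K.d j (j + 1) ≫ (e (j + 1)).hom =
    (e j).hom ≫ (ExtSupp.sheafHomMap (E.d (j + 1) j)).app G)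

include hex0 hex in
lemma augment_exact (j : ℕ) : ((E.augment π hπ).sc' (j + 2) (j + 1) j).Exact := by
  cases j with
  | zero => exact hex0
  | succ j =>
    have h := (HomologicalComplex.exactAt_iff' E (j + 2) (j + 1) j (ChainComplex.prev ℕ (j + 1))
      (ChainComplex.next_nat_succ j)).1 (hex j)
    exact h

include hex0 hex hacyc hK in
/-- **`Hⁱ(ℋom(E_•, G)) ≅ ℰxtⁱ(F, G)`** -/
theorem nonempty_homology_iso_extSh (i : ℕ) :
    Nonempty (K.homology i ≅ (ModSite.extSh F i).obj G) := by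
  haveI : Epi ((E.augment π hπ).d 1 0) := inferInstanceAs (Epi π)
  have hA := augment_exact F E π hπ hex0 hex
  have hacyc' : ∀ (j q : ℕ) (N : ModSite.Mod O),
      IsZero ((ModSite.extSh ((E.augment π hπ).X (j + 1)) (q + 1)).obj N) :=
    fun j q N => hacyc j q N
  cases i with
  | zero =>
    obtain ⟨e1⟩ := nonempty_kernel_iso_sheafHom (E.augment π hπ) hA G
    have e0 : K.homology 0 ≅ (K.sc' 0 0 1).homology :=
      K.homologyIsoSc' 0 0 1 (CochainComplex.prev_nat_zero) (CochainComplex.next _ _)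
    have hf : (K.sc' 0 0 1).f = 0 := K.shape 0 0 (by simp)
    have e2 : (K.sc' 0 0 1).homology ≅ kernel (K.d 0 1) :=
      (ShortComplex.LeftHomologyData.ofHasKernel (K.sc' 0 0 1) hf).homologyIso
    have e3 : kernel (K.d 0 1) ≅ kernel ((ExtSupp.sheafHomMap (E.d (0 + 1) 0)).app G) :=
      kernelIsoOfSq _ _ (e 0) (e 1) (hK 0)
    exact ⟨e0 ≪≫ e2 ≪≫ e3 ≪≫ e1 ≪≫ ((ModSite.sheafHom F).rightDerivedZeroIsoSelf.symm.app G)⟩
  | succ i =>
    obtain ⟨e1⟩ := nonempty_homology_homT_iso_extSh (E.augment π hπ) hA hacyc' G i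
    have e0 : K.homology (i + 1) ≅ (K.sc' i (i + 1) (i + 2)).homology :=
      K.homologyIsoSc' i (i + 1) (i + 2) (CochainComplex.prev_nat_succ _)
        (CochainComplex.next _ _)
    have e2 : K.sc' i (i + 1) (i + 2) ≅ homT (E.augment π hπ) G i :=
      ShortComplex.isoMk (e i) (e (i + 1)) (e (i + 2)) (hK i).symm (hK (i + 1)).symm
    exact ⟨e0 ≪≫ ShortComplex.homologyMapIso e2 ≪≫ e1⟩

end Groth.Agent.Helper1.ExtSh
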