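import Mathlib
import Groth.Agent.Helper9.Unitor1
import Groth.Agent.Helper9.TensorAssoc3

/-!
# Inv1: invertible modules on a ringed site: tensor products and duals
-/

set_option autoImplicit false
universe u
open CategoryTheory CategoryTheory.Limits
open Groth.Agent.Helper9.TensorSh Groth.Agent.Helper9.TensorAdj Groth.Agent.Helper9.TensorFlat
  Groth.Agent.Helper9.TensorAssoc3 Groth.Agent.Helper9.Unitor1

namespace Groth.Agent.Helper1.Inv

variable {C : Type u} [SmallCategory C] {J : GrothendieckTopology C} {O : Sheaf J CommRingCat.{u}}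

/-- `(L ⊗ N) ⊗ - ≅ L ⊗ (N ⊗ -)` -/
noncomputable def assocIso (L N : ModSite.Mod O) :
    TL ((TL L).obj N) ≅ TL N ⋙ TL L :=
  ((assoc3 (O := O)).app L).app N

/-- `O ⊗ - ≅ id` -/
noncomputable def lUnitorIso : TL (ModSite.unit O) ≅ 𝟭 (ModSite.Mod O) :=
  symIso (ModSite.unit O) ≪≫ rUnitorIso O

theorem isEquivalence_tensor (L N : ModSite.Mod O) (hL : (TL L).IsEquivalence)
    (hN : (TL N).IsEquivalence) : (TL ((TL L).obj N)).IsEquivalence :=
  Functor.isEquivalence_of_iso (assocIso L N).symm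

/-- if `M ⊗ L ≅ O` and `L ⊗ -` is an equivalence then so is `M ⊗ -` -/
theorem isEquivalence_of_iso_unit (L M : ModSite.Mod O) (hL : (TL L).IsEquivalence)
    (e : (TL M).obj L ≅ ModSite.unit O) : (TL M).IsEquivalence := by
  have e1 : TL L ⋙ TL M ≅ 𝟭 (ModSite.Mod O) :=
    (assocIso M L).symm ≪≫ (ModSite.tensorBi O).mapIso e ≪≫ lUnitorIso
  haveI : (TL L ⋙ TL M).IsEquivalence := Functor.isEquivalence_of_iso e1.symm
  exact Functor.isEquivalence_of_comp_left (TL L) (TL M)

theorem dual_invertible (L : ModSite.Mod O) (hL : (TL L).IsEquivalence) [ModSite.HasSheafHom L] :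
    (TL ((ModSite.sheafHom L).obj (ModSite.unit O))).IsEquivalence ∧
      IsIso ((ModSite.sheafHomAdj L).counit.app (ModSite.unit O)) := by
  haveI : (TN L).IsEquivalence := Functor.isEquivalence_of_iso (symIso L)
  haveI : IsIso (ModSite.sheafHomAdj L).counit := inferInstance
  have h2 : IsIso ((ModSite.sheafHomAdj L).counit.app (ModSite.unit O)) := inferInstance
  refine ⟨?_, h2⟩
  -- `Hom(L, O) ⊗ L ≅ O`
  have e : (TL ((ModSite.sheafHom L).obj (ModSite.unit O))).obj L ≅ ModSite.unit O :=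
    @asIso _ _ _ _ ((ModSite.sheafHomAdj L).counit.app (ModSite.unit O)) h2
  exact isEquivalence_of_iso_unit L _ hL e

end Groth.Agent.Helper1.Inv
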