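import Mathlib
import Groth.Prelude.Def_ModSite
import Groth.Agent.Helper1.Inv1
import Groth.Agent.Helper9.ExtAdj
import Groth.Agent.Helper9.ModUnitExt
import Groth.Agent.Helper9.ModCechExt

/-!
# ExtTw1: `Ext^n(L, G) ≃+ H^n(M ⊗ G)` when `L ⊗ M ≅ O` (ringed sites)
-/

set_option autoImplicit false
set_option linter.style.haveILetI false
universe u
open CategoryTheory CategoryTheory.Limits Abelian
open Groth.Agent.Helper9.TensorSh Groth.Agent.Helper9.TensorAdj Groth.Agent.Helper9.TensorFlat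
  Groth.Agent.Helper9.TensorAssoc3 Groth.Agent.Helper9.Unitor1 Groth.Agent.Helper1.Inv

namespace Groth.Agent.Helper1.ExtTw

section General

universe w v' u'

variable {A : Type u'} [Category.{v'} A] [Abelian A] [HasExt.{w} A]

/-- `Ext` groups only depend on the isomorphism class of the second variable -/
noncomputable def extPostcompIso (X : A) {Y Y' : A} (e : Y ≅ Y') (n : ℕ) :
    Ext.{w} X Y n ≃+ Ext.{w} X Y' n where
  toFun x := x.comp (Ext.mk₀ e.hom) (add_zero n)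
  invFun x := x.comp (Ext.mk₀ e.inv) (add_zero n)
  left_inv x := by
    dsimp only
    rw [Ext.comp_assoc _ _ _ (add_zero n) (add_zero 0) (by omega), Ext.mk₀_comp_mk₀,
      e.hom_inv_id, Ext.comp_mk₀_id]
  right_inv x := by
    dsimp only
    rw [Ext.comp_assoc _ _ _ (add_zero n) (add_zero 0) (by omega), Ext.mk₀_comp_mk₀,
      e.inv_hom_id, Ext.comp_mk₀_id]
  map_add' x y := Ext.add_comp _ _ _ _

/-- `Ext` groups only depend on the isomorphism classes of both variables -/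
noncomputable def extIsoIso {X X' Y Y' : A} (e : X ≅ X') (e' : Y ≅ Y') (n : ℕ) :
    Ext.{w} X Y n ≃+ Ext.{w} X' Y' n :=
  (Groth.Agent.Helper9.ModUnitExt.extPrecompIso e.symm Y n).trans (extPostcompIso X' e' n)

theorem subsingleton_ext_of_iso {X X' Y Y' : A} (e : X ≅ X') (e' : Y ≅ Y') (n : ℕ)
    (h : Subsingleton (Ext.{w} X' Y' n)) : Subsingleton (Ext.{w} X Y n) :=
  (extIsoIso e e' n).toEquiv.subsingleton

/-- a short exact sequence with `Ext¹(X₃, X₁) = 0` splits -/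
theorem nonempty_splitting_of_subsingleton_ext {S : ShortComplex A} (hS : S.ShortExact)
    (h : Subsingleton (Ext.{w} S.X₃ S.X₁ 1)) : Nonempty S.Splitting := by
  obtain ⟨x₂, hx₂⟩ := Ext.covariant_sequence_exact₃ S.X₃ hS (Ext.mk₀ (𝟙 S.X₃)) rfl
    (Subsingleton.elim _ _)
  obtain ⟨s, rfl⟩ := (Ext.mk₀_bijective _ _).2 x₂
  rw [Ext.mk₀_comp_mk₀] at hx₂
  have hs : s ≫ S.g = 𝟙 S.X₃ := (Ext.mk₀_bijective _ _).1 hx₂
  exact ⟨ShortComplex.Splitting.ofExactOfSection S hS.exact s hs hS.mono_f⟩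

end General

variable {C : Type u} [SmallCategory C] {J : GrothendieckTopology C} {O : Sheaf J CommRingCat.{u}}

/-- `M ⊗ L ≅ L ⊗ M` -/
noncomputable def swapIso (L M : ModSite.Mod O) : (TL M).obj L ≅ (TL L).obj M :=
  (symIso M).app L

/-- `L ⊗ M ≅ O` gives `L ⊗ (M ⊗ -) ≅ id` -/
noncomputable def compIso (L M : ModSite.Mod O) (e : (TL L).obj M ≅ ModSite.unit O) :
    TL M ⋙ TL L ≅ 𝟭 (ModSite.Mod O) :=
  (assocIso L M).symm ≪≫ (ModSite.tensorBi O).mapIso e ≪≫ lUnitorIso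

/-- the equivalence `L ⊗ -` with inverse `M ⊗ -` when `L ⊗ M ≅ O` -/
noncomputable def equivOfInv (L M : ModSite.Mod O) (e : (TL L).obj M ≅ ModSite.unit O) :
    ModSite.Mod O ≌ ModSite.Mod O :=
  CategoryTheory.Equivalence.mk (TL L) (TL M) (compIso M L (swapIso L M ≪≫ e)).symm
    (compIso L M e)

/-- the adjunction `L ⊗ - ⊣ M ⊗ -` when `L ⊗ M ≅ O` -/
noncomputable def adjOfInv (L M : ModSite.Mod O) (e : (TL L).obj M ≅ ModSite.unit O) :
    TL L ⊣ TL M :=
  (equivOfInv L M e).toAdjunction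

theorem isEquivalence_TL (L M : ModSite.Mod O) (e : (TL L).obj M ≅ ModSite.unit O) :
    (TL L).IsEquivalence :=
  (equivOfInv L M e).isEquivalence_functor

theorem isEquivalence_TL' (L M : ModSite.Mod O) (e : (TL L).obj M ≅ ModSite.unit O) :
    (TL M).IsEquivalence :=
  (equivOfInv L M e).isEquivalence_inverse

/-- **`Ext^n(L, G) ≃+ H^n(M ⊗ G)` when `L ⊗ M ≅ O`** -/
theorem nonempty_ext_addEquiv [HasExt.{u} (ModSite.Mod O)] (L M : ModSite.Mod O)
    (e : (TL L).obj M ≅ ModSite.unit O) (G : ModSite.Mod O) (n : ℕ) :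
    Nonempty (Ext.{u} L G n ≃+ Sheaf.H.{u} (ModSite.toAb ((TL M).obj G)) n) := by
  haveI := isEquivalence_TL L M e
  haveI := isEquivalence_TL' L M e
  haveI : EnoughInjectives (ModSite.Mod O) :=
    Groth.Agent.Helper9.ModCechExt.enoughInjectives_mod (ModSite.ringSh O)
  have hR : ∀ I : ModSite.Mod O, Injective I → Injective ((TL M).obj I) := by
    intro I hI
    exact Injective.injective_of_adjoint (adjOfInv L M e) I
  obtain ⟨i⟩ := Groth.Agent.Helper9.ExtAdj.nonempty_iso (adjOfInv L M e) hR (ModSite.unit O) n G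
  obtain ⟨j⟩ := Groth.Agent.Helper9.ModUnitExt.nonempty_addEquiv J (ModSite.ringSh O)
    ((TL M).obj G) n
  have e1 : Ext.{u} L G n ≃+ Ext.{u} ((TL L).obj (ModSite.unit O)) G n :=
    Groth.Agent.Helper9.ModUnitExt.extPrecompIso (rUnitor O L) G n
  have e2 : Ext.{u} ((TL L).obj (ModSite.unit O)) G n ≃+
      Ext.{u} (ModSite.unit O) ((TL M).obj G) n := i.addCommGroupIsoToAddEquiv
  exact ⟨(e1.trans e2).trans j⟩

end Groth.Agent.Helper1.ExtTw
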