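import Mathlib
import Groth.Prelude.Def_ModSite
import Groth.Agent.Helper1.Inv1

/-!
# SHLoc1: the internal Hom out of a free module of finite rank preserves epimorphisms
-/

set_option autoImplicit false
set_option linter.style.haveILetI false
set_option linter.unusedSectionVars false

universe u
open CategoryTheory CategoryTheory.Limits
open Groth.Agent.Helper9.TensorSh Groth.Agent.Helper9.TensorAdj Groth.Agent.Helper9.TensorFlat
  Groth.Agent.Helper9.TensorAssoc3 Groth.Agent.Helper9.Unitor1 Groth.Agent.Helper1.Inv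

namespace Groth.Agent.Helper1.SHLoc

section cat

universe v' u'

variable {C : Type u'} [Category.{v'} C] [Abelian C]

/-- `G ↦ G ⊕ ⋯ ⊕ G` (`n` summands), as a coproduct -/
noncomputable abbrev sigmaF (n : ℕ) : C ⥤ C := Functor.const (Discrete (Fin n)) ⋙ colim

/-- `G ↦ G × ⋯ × G` (`n` factors), as a product -/
noncomputable abbrev piF (n : ℕ) : C ⥤ C := Functor.const (Discrete (Fin n)) ⋙ lim

/-- `sigmaF n ⊣ piF n` -/
noncomputable def adjSigmaPi (n : ℕ) : sigmaF (C := C) n ⊣ piF n :=
  constLimAdj.comp colimConstAdj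

instance preservesEpimorphisms_const (J : Type*) [Category J] :
    (Functor.const J : C ⥤ J ⥤ C).PreservesEpimorphisms where
  preserves f hf := by
    haveI : ∀ j : J, Epi (((Functor.const J).map f).app j) := fun j => hf
    exact NatTrans.epi_of_epi_app _

instance preservesEpimorphisms_piF (n : ℕ) : (piF (C := C) n).PreservesEpimorphisms := by
  haveI : HasFiniteBiproducts C := Abelian.hasFiniteBiproducts
  haveI : HasExactLimitsOfShape (Discrete (Fin n)) C := hasExactLimitsOfShape_discrete_finite C
  haveI : PreservesFiniteColimits (lim : (Discrete (Fin n) ⥤ C) ⥤ C) :=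
    HasExactLimitsOfShape.preservesFiniteColimits
  haveI : (lim : (Discrete (Fin n) ⥤ C) ⥤ C).PreservesEpimorphisms := inferInstance
  infer_instance

/-- a right adjoint of a functor isomorphic to `G ↦ Gⁿ` preserves epimorphisms -/
theorem preservesEpimorphisms_of_adj_iso (n : ℕ) {L R : C ⥤ C} (adj : L ⊣ R)
    (e : L ≅ sigmaF n) : R.PreservesEpimorphisms :=
  Functor.PreservesEpimorphisms.of_iso
    (((adjSigmaPi n).ofNatIsoLeft e.symm).rightAdjointUniq adj)

end cat

variable {C : Type u} [SmallCategory C] {J : GrothendieckTopology C} {O : Sheaf J CommRingCat.{u}}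

instance additive_flip : (ModSite.tensorBi O).flip.Additive where
  map_add {M N f g} := by
    ext G : 2
    show (TL G).map (f + g) = (TL G).map f + (TL G).map g
    haveI : (TL G).Additive :=
      Functor.additive_of_iso (symIso G).symm
    exact Functor.map_add _

/-- `- ⊗ Oⁿ ≅ (G ↦ Gⁿ)` -/
noncomputable def tnFreeIso (n : ℕ) :
    TN (∐ fun _ : Fin n => ModSite.unit O) ≅ sigmaF (C := ModSite.Mod O) n :=
  PreservesCoproduct.iso (ModSite.tensorBi O).flip (fun _ : Fin n => ModSite.unit O) ≪≫
    Sigma.mapIso (fun _ => rUnitorIso O) ≪≫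
    colimitIsoFlipCompColim (Discrete.functor fun _ : Fin n => 𝟭 (ModSite.Mod O)) ≪≫
    Functor.isoWhiskerRight (NatIso.ofComponents
      (fun G => Discrete.natIso (fun _ => Iso.refl _))) colim

/-- the internal Hom out of a free module of finite rank preserves epimorphisms -/
theorem preservesEpimorphisms_of_free (n : ℕ) (N : ModSite.Mod O)
    (e : N ≅ ∐ fun _ : Fin n => ModSite.unit O) {R : ModSite.Mod O ⥤ ModSite.Mod O}
    (adj : TN N ⊣ R) : R.PreservesEpimorphisms :=
  preservesEpimorphisms_of_adj_iso n adj ((ModSite.tensorBi O).flip.mapIso e ≪≫ tnFreeIso n)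

end Groth.Agent.Helper1.SHLoc
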