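import Mathlib
import Groth.Prelude.Def_ModSite
import Groth.Prelude.Def_DCoh4
import Groth.Prelude.Def_FlatMod2
import Groth.Agent.Helper1.SHLoc1
import Groth.Agent.Helper1.PUP3
import Groth.Agent.Helper9.ShriekHomNat
import Groth.Agent.Helper9.RestrExact

/-!
# SHLoc2: on a scheme, the internal Hom out of a finite locally free module preserves
epimorphisms (hence is exact)
-/

set_option autoImplicit false
set_option linter.style.haveILetI false
set_option linter.unusedSectionVars false

universe u
open CategoryTheory CategoryTheory.Limits AlgebraicGeometry Opposite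
open Groth.Agent.Helper9.TensorSh Groth.Agent.Helper9.TensorAdj Groth.Agent.Helper9.TensorFlat

namespace Groth.Agent.Helper1.SHLoc

variable {X : Scheme.{u}}

/-- a module free of rank `n` over the open subscheme `U` is free of rank `n` on the slice site -/
theorem nonempty_restr_iso_free (A : X.Modules) (U : X.Opens) (n : ℕ)
    (e : A.restrict U.ι ≅ FlatMod.freeMod (↑U : Scheme.{u}) n) :
    Nonempty ((ModSite.restr X.sheaf U).obj A ≅
      ∐ fun _ : Fin n => ModSite.unit (X.sheaf.over U)) := by
  let Φ := Scheme.Modules.overEquiv U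
  have i1 : Φ.functor.obj ((ModSite.restr X.sheaf U).obj A) ≅ A.restrict U.ι :=
    (Scheme.Modules.overFunctorEquiv U).app A
  have i2 : Φ.functor.obj (ModSite.unit (X.sheaf.over U)) ≅
      Coh.structureModule (↑U : Scheme.{u}) :=
    (Scheme.Modules.overFunctorEquiv U).app (Coh.structureModule X) ≪≫
      Scheme.Modules.restrictUnitIso U.ι
  have i3 : Φ.functor.obj (∐ fun _ : Fin n => ModSite.unit (X.sheaf.over U)) ≅
      ∐ fun _ : Fin n => Φ.functor.obj (ModSite.unit (X.sheaf.over U)) :=
    PreservesCoproduct.iso Φ.functor _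
  exact ⟨Φ.functor.preimageIso (i1 ≪≫ e ≪≫ (Sigma.mapIso (fun _ => i2)).symm ≪≫ i3.symm)⟩

/-- epimorphisms are transported along natural isomorphisms -/
theorem epi_map_of_natIso {C D : Type*} [Category C] [Category D] {F G : C ⥤ D} (α : F ≅ G)
    {M N : C} (g : M ⟶ N) (h : Epi (G.map g)) : Epi (F.map g) := by
  have h1 : F.map g = α.hom.app M ≫ G.map g ≫ α.inv.app N := by
    rw [← Category.assoc, ← α.hom.naturality g, Category.assoc, Iso.hom_inv_id_app,
      Category.comp_id]
  rw [h1]
  infer_instance

/-- **the internal Hom out of a finite locally free module preserves epimorphisms** -/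
theorem preservesEpimorphisms_of_isFinLocFree (A : X.Modules) (hA : FlatMod.IsFinLocFree A)
    {R : X.Modules ⥤ X.Modules} (adj : (DCoh.tensorBi (X := X)).obj A ⊣ R) :
    R.PreservesEpimorphisms := by
  have adjN : TN (O := X.sheaf) A ⊣ R := adj.ofNatIsoLeft (symIso (O := X.sheaf) A)
  haveI hSH : ModSite.HasSheafHom (O := X.sheaf) A := adjN.isLeftAdjoint
  have eR : ModSite.sheafHom (O := X.sheaf) A ≅ R :=
    (ModSite.sheafHomAdj (O := X.sheaf) A).rightAdjointUniq adjN
  suffices h : (ModSite.sheafHom (O := X.sheaf) A).PreservesEpimorphisms from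
    @Functor.PreservesEpimorphisms.of_iso _ _ _ _ _ _ h eR
  constructor
  intro H H'' g hg
  apply Abelian.epi_of_cokernel_π_eq_zero
  choose U n hxU hU using hA
  refine Groth.Agent.Helper1.PUP.hom_ext_of_cover _ _ U ?_ ?_
  · rw [eq_top_iff]
    intro x _
    exact TopologicalSpace.Opens.mem_iSup.2 ⟨x, hxU x⟩
  · intro x V hV m
    obtain ⟨e⟩ := hU x
    haveI : ModSite.HasSheafHom ((ModSite.restr X.sheaf (U x)).obj A) := hasSheafHom _
    obtain ⟨eU⟩ := nonempty_restr_iso_free A (U x) (n x) e
    haveI : (ModSite.sheafHom ((ModSite.restr X.sheaf (U x)).obj A)).PreservesEpimorphisms :=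
      preservesEpimorphisms_of_free (n x) _ eU (ModSite.sheafHomAdj _)
    haveI := Groth.Agent.Helper9.RestrExact.epi_restr_map X.sheaf (U x) g
    have h1 : Epi ((ModSite.sheafHom (O := X.sheaf) A ⋙ ModSite.restr X.sheaf (U x)).map g) :=
      epi_map_of_natIso
        (Groth.Agent.Helper9.ShriekHomNat.restrSheafHomIso X.sheaf (U x) A) g
        (inferInstanceAs (Epi ((ModSite.sheafHom ((ModSite.restr X.sheaf (U x)).obj A)).map
          ((ModSite.restr X.sheaf (U x)).map g))))
    have h2 : (ModSite.restr X.sheaf (U x)).map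
        (cokernel.π ((ModSite.sheafHom (O := X.sheaf) A).map g)) = 0 := by
      haveI := h1
      rw [← cancel_epi ((ModSite.sheafHom (O := X.sheaf) A ⋙ ModSite.restr X.sheaf (U x)).map g),
        comp_zero]
      show (ModSite.restr X.sheaf (U x)).map _ ≫ (ModSite.restr X.sheaf (U x)).map _ = 0
      rw [← Functor.map_comp, cokernel.condition, Functor.map_zero]
    have h3 := congrArg (fun q => (q.val.app (op (Over.mk (homOfLE hV)))).hom m) h2
    exact h3

end Groth.Agent.Helper1.SHLoc
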