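import Mathlib
import Groth.Agent.Helper1.SHLoc2
import Groth.Agent.Helper1.ExtTw1
import Groth.Agent.Helper9.StalkTensor3
import Groth.Agent.Helper4.FinLocFree4

/-!
# SHLoc3: `Ext^p(A, B) ≃+ H^p(X, Hom(A, B))` for a finite locally free module `A` on a scheme
-/

set_option autoImplicit false
set_option linter.style.haveILetI false
set_option linter.unusedSectionVars false

universe u
open CategoryTheory CategoryTheory.Limits AlgebraicGeometry Opposite Abelian
open Groth.Agent.Helper9.TensorSh Groth.Agent.Helper9.TensorAdj Groth.Agent.Helper9.TensorFlat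
  Groth.Agent.Helper9.Unitor1

namespace Groth.Agent.Helper1.SHLoc

section cat

variable {C D : Type*} [Category C] [Abelian C] [Category D] [Abelian D]

/-- a left exact additive functor preserving epimorphisms is exact -/
theorem preservesFiniteColimits_of_preservesEpimorphisms (F : C ⥤ D) [F.Additive]
    [PreservesFiniteLimits F] [F.PreservesEpimorphisms] : PreservesFiniteColimits F := by
  refine ((Functor.preservesFiniteColimits_tfae F).out 0 3).1 ?_
  intro S hS
  refine ⟨?_, ?_⟩
  · exact ((Functor.preservesFiniteLimits_iff_forall_exact_map_and_mono F).1 inferInstance S hS).1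
  · haveI := hS.epi_g
    infer_instance

end cat

variable {X : Scheme.{u}}

/-- a finite locally free module is flat for the tensor product -/
theorem isFlat_of_isFinLocFree (A : X.Modules) (hA : FlatMod.IsFinLocFree A) :
    ModSite.IsFlat (O := X.sheaf) A := by
  haveI := Groth.Agent.Helper4.FinLocFree4.isQuasicoherent_of_isFinLocFree A hA
  apply Groth.Agent.Helper9.StalkTensor3.isFlat_of_stalkwise
  intro x
  haveI := Groth.Agent.Helper4.FinLocFree2.free_stalk_of_isFinLocFree A hA x
  show Module.Flat (X.presheaf.stalk x) (A.presheaf.stalk x)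
  infer_instance

theorem preservesMonomorphisms_tensor_of_isFinLocFree (A : X.Modules)
    (hA : FlatMod.IsFinLocFree A) :
    ((DCoh.tensorBi (X := X)).obj A).PreservesMonomorphisms := by
  have hfl := isFlat_of_isFinLocFree A hA
  have h1 : (TN (O := X.sheaf) A).PreservesMonomorphisms :=
    ⟨fun f hf => mono_of_isFlat (O := X.sheaf) A hfl f⟩
  exact @Functor.PreservesMonomorphisms.of_iso _ _ _ _ _ _ h1 (symIso (O := X.sheaf) A).symm

variable (A : X.Modules) (hA : FlatMod.IsFinLocFree A) {R : X.Modules ⥤ X.Modules}
  (adj : (DCoh.tensorBi (X := X)).obj A ⊣ R)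

include hA adj

/-- the internal Hom out of a finite locally free module preserves injective objects -/
theorem injective_sheafHom_obj (I : X.Modules) [Injective I] : Injective (R.obj I) := by
  haveI := preservesMonomorphisms_tensor_of_isFinLocFree A hA
  exact Injective.injective_of_adjoint adj I

/-- the internal Hom out of a finite locally free module is exact -/
theorem preservesFiniteColimits_sheafHom : PreservesFiniteColimits R := by
  haveI : R.Additive := adj.right_adjoint_additive
  haveI : PreservesFiniteLimits R := by
    haveI : PreservesLimitsOfSize.{0, 0} R := adj.rightAdjoint_preservesLimits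
    exact PreservesLimitsOfSize.preservesFiniteLimits _
  haveI := preservesEpimorphisms_of_isFinLocFree A hA adj
  exact preservesFiniteColimits_of_preservesEpimorphisms R

/-- **`Ext^p(A, B) ≃+ H^p(X, Hom(A, B))` for `A` finite locally free** -/
theorem nonempty_ext_addEquiv_sheafHom [inst : HasExt.{u} X.Modules] (B : X.Modules) (p : ℕ) :
    Nonempty (Ext.{u} A B p ≃+ Coh.HH X (R.obj B) p) := by
  haveI : ((DCoh.tensorBi (X := X)).obj A).Additive := inferInstance
  haveI : R.Additive := adj.right_adjoint_additive
  haveI : PreservesFiniteLimits R := by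
    haveI : PreservesLimitsOfSize.{0, 0} R := adj.rightAdjoint_preservesLimits
    exact PreservesLimitsOfSize.preservesFiniteLimits _
  haveI := preservesFiniteColimits_sheafHom A hA adj
  haveI : EnoughInjectives X.Modules :=
    Groth.Agent.Helper9.ModCechExt.enoughInjectives_mod X.ringCatSheaf
  have hR : ∀ I : X.Modules, Injective I → Injective (R.obj I) := fun I hI =>
    injective_sheafHom_obj A hA adj I
  obtain ⟨i⟩ := Groth.Agent.Helper9.ExtAdj.nonempty_iso adj hR (Coh.structureModule X) p B
  have e2 : Ext.{u} (((DCoh.tensorBi (X := X)).obj A).obj (Coh.structureModule X)) B p ≃+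
      Ext.{u} (Coh.structureModule X) (R.obj B) p := i.addCommGroupIsoToAddEquiv
  have ru : ((DCoh.tensorBi (X := X)).obj A).obj (Coh.structureModule X) ≅ A :=
    rUnitor X.sheaf A
  have e1 : Ext.{u} A B p ≃+
      Ext.{u} (((DCoh.tensorBi (X := X)).obj A).obj (Coh.structureModule X)) B p :=
    Groth.Agent.Helper9.ModUnitExt.extPrecompIso ru B p
  obtain ⟨j⟩ := @Groth.Agent.Helper9.ModUnitExt.nonempty_addEquiv _ _
    (Opens.grothendieckTopology X) X.ringCatSheaf inst (R.obj B) p
  exact ⟨(e1.trans e2).trans j⟩

end Groth.Agent.Helper1.SHLoc
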