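import Mathlib
import Groth.Agent.Helper1.ExtSh4
import Groth.Agent.Helper1.SHLoc3

/-!
# ExtSh5: on a scheme, finite locally free modules are acyclic for the Ext sheaves; Ext sheaves
via finite locally free resolutions
-/

set_option autoImplicit false
set_option linter.style.haveILetI false
set_option linter.unusedSectionVars false

universe u
open CategoryTheory CategoryTheory.Limits AlgebraicGeometry Opposite
open Groth.Agent.Helper9.TensorSh Groth.Agent.Helper9.TensorAdj Groth.Agent.Helper9.TensorFlat

namespace Groth.Agent.Helper1.ExtSh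

variable {X : Scheme.{u}}

/-- the internal Hom out of a finite locally free module is exact (`ModSite` form) -/
theorem preservesFiniteColimits_modSite_sheafHom (A : X.Modules) (hA : FlatMod.IsFinLocFree A)
    [ModSite.HasSheafHom (O := X.sheaf) A] :
    PreservesFiniteColimits (ModSite.sheafHom (O := X.sheaf) A) :=
  Groth.Agent.Helper1.SHLoc.preservesFiniteColimits_sheafHom A hA
    ((ModSite.sheafHomAdj (O := X.sheaf) A).ofNatIsoLeft (symIso (O := X.sheaf) A).symm)

/-- `ℰxt^{q+1}(A, N) = 0` for `A` finite locally free -/
theorem isZero_extSh_of_isFinLocFree (A : X.Modules) (hA : FlatMod.IsFinLocFree A)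
    [ModSite.HasSheafHom (O := X.sheaf) A] [HasInjectiveResolutions (ModSite.Mod X.sheaf)]
    (q : ℕ) (N : X.Modules) : IsZero ((ModSite.extSh (O := X.sheaf) A (q + 1)).obj N) := by
  haveI := preservesFiniteColimits_modSite_sheafHom A hA
  exact Groth.Agent.Helper1.FunLES.isZero_rightDerived_of_exact
    (G := ModSite.sheafHom (O := X.sheaf) A) q N

end Groth.Agent.Helper1.ExtSh
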