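import Mathlib
import Groth.Agent.Helper1.ExtSh2
import Groth.Agent.Helper1.ExtTw1
import Groth.Agent.Helper1.DeltaComp
import Groth.Agent.Helper9.ModCechExt

/-!
# ExtSh6: twisting the Ext sheaves by an invertible module

For `L ⊗ L' ≅ O`: `ℋom(M, L ⊗ G) ≅ L ⊗ ℋom(M, G)` and `ℰxtⁿ(M, L ⊗ G) ≅ L ⊗ ℰxtⁿ(M, G)`;
`ℋom(L, -) ≅ L' ⊗ -`.
-/

set_option autoImplicit false
set_option linter.style.haveILetI false
set_option linter.unusedSectionVars false

universe u
open CategoryTheory CategoryTheory.Limits Opposite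
open Groth.Agent.Helper9.TensorSh Groth.Agent.Helper9.TensorAdj Groth.Agent.Helper9.TensorFlat
  Groth.Agent.Helper9.TensorAssoc3 Groth.Agent.Helper1.ExtTw Groth.Agent.Helper1.DeltaFun

namespace Groth.Agent.Helper1.ExtSh

section post

variable {A B D : Type*} [Category A] [Abelian A] [Category B] [Abelian B] [Category D]
  [Abelian D]

/-- right derived functors commute with postcomposition by an exact functor -/
theorem nonempty_iso_rightDerived_postcomp [EnoughInjectives A] [HasInjectiveResolutions A]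
    (P : A ⥤ B) [P.Additive]
    [PreservesFiniteLimits P] (Φ : B ⥤ D) [Φ.Additive] [PreservesFiniteLimits Φ]
    [PreservesFiniteColimits Φ] (n : ℕ) :
    Nonempty ((P ⋙ Φ).rightDerived n ≅ P.rightDerived n ⋙ Φ) := by
  let T : DeltaFunctor A D := (rightDerivedDelta P).postcomp Φ
  have hT : T.Effaceable := fun I _ n =>
    Functor.map_isZero Φ (Functor.isZero_rightDerived_obj_injective_succ P n I)
  haveI : PreservesFiniteLimits (P ⋙ Φ) := comp_preservesFiniteLimits _ _
  have e0 : T.T 0 ≅ (rightDerivedDelta (P ⋙ Φ)).T 0 :=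
    Functor.isoWhiskerRight P.rightDerivedZeroIsoSelf Φ ≪≫ (P ⋙ Φ).rightDerivedZeroIsoSelf.symm
  obtain ⟨i1⟩ := nonempty_iso_of_effaceable T (rightDerivedDelta (P ⋙ Φ)) hT
    (rightDerivedDelta_effaceable _) e0 n
  exact ⟨i1.symm⟩

end post

variable {C : Type u} [SmallCategory C] {J : GrothendieckTopology C} {O : Sheaf J CommRingCat.{u}}

/-- `(L' ⊗ T) ⊗ M ≅ L' ⊗ (T ⊗ M)`, naturally in `T` -/
noncomputable def assocMid (L' M : ModSite.Mod O) : TL L' ⋙ TN M ≅ TN M ⋙ TL L' :=
  NatIso.ofComponents (fun T => (((assoc3 (O := O)).app L').app T).app M) (by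
    intro T T' f
    have h := congrArg (fun t => t.app M) (((assoc3 (O := O)).hom.app L').naturality f)
    exact h)

variable (L L' : ModSite.Mod O) (e : (TL L).obj L' ≅ ModSite.unit O)

/-- `ℋom(L, -) ≅ L' ⊗ -` when `L ⊗ L' ≅ O` -/
noncomputable def sheafHomInvIso [ModSite.HasSheafHom L] : ModSite.sheafHom L ≅ TL L' :=
  (ModSite.sheafHomAdj L).rightAdjointUniq ((adjOfInv L L' e).ofNatIsoLeft (symIso L))

variable (M : ModSite.Mod O) [ModSite.HasSheafHom M]

/-- `ℋom(M, L ⊗ -) ≅ L ⊗ ℋom(M, -)` when `L ⊗ L' ≅ O` -/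
noncomputable def twistHomIso : TL L ⋙ ModSite.sheafHom M ≅ ModSite.sheafHom M ⋙ TL L :=
  let e' : (TL L').obj L ≅ ModSite.unit O := swapIso L L' ≪≫ e
  (((ModSite.sheafHomAdj M).comp (adjOfInv L' L e')).ofNatIsoLeft
    (assocMid L' M).symm).rightAdjointUniq ((adjOfInv L' L e').comp (ModSite.sheafHomAdj M))

include e in
theorem exact_TL : PreservesFiniteLimits (TL L) ∧ PreservesFiniteColimits (TL L) := by
  haveI := isEquivalence_TL L L' e
  exact ⟨inferInstance, inferInstance⟩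

include e in
/-- `ℰxtⁿ(M, L ⊗ -) ≅ L ⊗ ℰxtⁿ(M, -)` when `L ⊗ L' ≅ O` -/
theorem nonempty_twistExtIso [HasInjectiveResolutions (ModSite.Mod O)] (n : ℕ) :
    Nonempty (TL L ⋙ ModSite.extSh M n ≅ ModSite.extSh M n ⋙ TL L) := by
  haveI : EnoughInjectives (ModSite.Mod O) :=
    Groth.Agent.Helper9.ModCechExt.enoughInjectives_mod (ModSite.ringSh O)
  haveI := isEquivalence_TL L L' e
  haveI : PreservesFiniteLimits (TL L) := (exact_TL L L' e).1
  haveI : PreservesFiniteColimits (TL L) := (exact_TL L L' e).2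
  haveI : PreservesFiniteLimits (ModSite.sheafHom M ⋙ TL L) := comp_preservesFiniteLimits _ _
  obtain ⟨i1⟩ := nonempty_iso_rightDerived_postcomp (ModSite.sheafHom M) (TL L) n
  have e' : (TL L').obj L ≅ ModSite.unit O := swapIso L L' ≪≫ e
  obtain ⟨i2⟩ := nonempty_iso_rightDerived_comp (TL L)
    (fun S hS => hS.map_of_exact (TL L)) (ModSite.sheafHom M)
    (ModSite.sheafHom M ⋙ TL L) (twistHomIso L L' e M)
    (fun I _ n => by
      haveI := isEquivalence_TL' L L' e
      haveI : Injective ((TL L).obj I) := Injective.injective_of_adjoint (adjOfInv L' L e') I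
      exact Functor.isZero_rightDerived_obj_injective_succ _ n _) n
  exact ⟨i2.symm ≪≫ i1⟩

end Groth.Agent.Helper1.ExtSh
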