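import Mathlib
import Groth.Agent.Helper1.ExtSh6
import Groth.Agent.Helper1.HHSum

/-!
# ExtSh7: additivity of the internal Hom in the first variable; a class of modules stable under
kernels and cokernels with enough `ℋom`-acyclic presentations is stable under the Ext sheaves
-/

set_option autoImplicit false
set_option linter.style.haveILetI false
set_option linter.unusedSectionVars false

universe u
open CategoryTheory CategoryTheory.Limits Opposite
open Groth.Agent.Helper9.TensorSh Groth.Agent.Helper9.TensorAdj Groth.Agent.Helper9.TensorFlat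

namespace Groth.Agent.Helper1.ExtSh

variable {C : Type u} [SmallCategory C] {J : GrothendieckTopology C} {O : Sheaf J CommRingCat.{u}}

section additive

variable {M M' : ModSite.Mod O} [ModSite.HasSheafHom M] [ModSite.HasSheafHom M']

lemma sheafHomMap_app_eq (g : M' ⟶ M) (N : ModSite.Mod O) :
    (ExtSupp.sheafHomMap g).app N = (ModSite.sheafHomAdj M').homEquiv _ N
      ((TL ((ModSite.sheafHom M).obj N)).map g ≫ (ModSite.sheafHomAdj M).counit.app N) := by
  apply ((ModSite.sheafHomAdj M').homEquiv _ N).symm.injective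
  rw [Equiv.symm_apply_apply]
  have h := homEquiv_symm_comp_sheafHomMap g (𝟙 ((ModSite.sheafHom M).obj N))
  rw [Category.id_comp] at h
  rw [h, Adjunction.homEquiv_counit, CategoryTheory.Functor.map_id, Category.id_comp]

lemma sheafHomMap_add (f g : M' ⟶ M) :
    ExtSupp.sheafHomMap (f + g) = ExtSupp.sheafHomMap f + ExtSupp.sheafHomMap g := by
  apply NatTrans.ext
  funext N
  rw [NatTrans.app_add, sheafHomMap_app_eq, sheafHomMap_app_eq, sheafHomMap_app_eq,
    Functor.map_add, Preadditive.add_comp]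
  exact map_add ((ModSite.sheafHomAdj M').homAddEquiv _ N) _ _

lemma sheafHomMap_id : ExtSupp.sheafHomMap (𝟙 M) = 𝟙 (ModSite.sheafHom M) := by
  show conjugateEquiv _ _ ((ModSite.tensorBi O).flip.map (𝟙 M)) = _
  rw [CategoryTheory.Functor.map_id]
  exact conjugateEquiv_id _

lemma sheafHomMap_sum {ι : Type*} (s : Finset ι) (f : ι → (M' ⟶ M)) :
    ExtSupp.sheafHomMap (∑ j ∈ s, f j) = ∑ j ∈ s, ExtSupp.sheafHomMap (f j) := by
  classical
  induction s using Finset.induction_on with
  | empty => simp [sheafHomMap_zero]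
  | insert a s ha ih => rw [Finset.sum_insert ha, Finset.sum_insert ha, sheafHomMap_add, ih]

end additive

attribute [local instance] hasSheafHom
attribute [local instance] Abelian.hasFiniteBiproducts

section retract

variable {s : ℕ} (L : Fin s → ModSite.Mod O) (G : ModSite.Mod O)

/-- `ℋom(∐ L_j, G) → ⨁ ℋom(L_j, G)` -/
noncomputable def toBiprod :
    (ModSite.sheafHom (∐ L)).obj G ⟶ ⨁ fun j => (ModSite.sheafHom (L j)).obj G :=
  biproduct.lift (fun j => (ExtSupp.sheafHomMap (Sigma.ι L j)).app G)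

/-- `⨁ ℋom(L_j, G) → ℋom(∐ L_j, G)` -/
noncomputable def ofBiprod :
    (⨁ fun j => (ModSite.sheafHom (L j)).obj G) ⟶ (ModSite.sheafHom (∐ L)).obj G :=
  biproduct.desc (fun j => (ExtSupp.sheafHomMap (Groth.Agent.Helper1.HHSum.proj L j)).app G)

lemma toBiprod_ofBiprod : toBiprod L G ≫ ofBiprod L G = 𝟙 _ := by
  unfold toBiprod ofBiprod
  rw [biproduct.lift_desc]
  have h1 : ∀ j : Fin s, (ExtSupp.sheafHomMap (Sigma.ι L j)).app G ≫
      (ExtSupp.sheafHomMap (Groth.Agent.Helper1.HHSum.proj L j)).app G =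
      (ExtSupp.sheafHomMap (Groth.Agent.Helper1.HHSum.proj L j ≫ Sigma.ι L j)).app G := by
    intro j
    rw [← NatTrans.comp_app, sheafHomMap_comp]
  rw [Finset.sum_congr rfl (fun j _ => h1 j)]
  have h2 := congrArg (fun t => t.app G)
    (sheafHomMap_sum (M := ∐ L) (M' := ∐ L) Finset.univ
      (fun j => Groth.Agent.Helper1.HHSum.proj L j ≫ Sigma.ι L j))
  rw [Groth.Agent.Helper1.HHSum.sum_proj_ι, sheafHomMap_id] at h2
  simp only [NatTrans.id_app] at h2
  rw [h2]
  exact (NatTrans.app_sum _ _ _).symm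

end retract

section class_

variable {𝒜 : Type*} [Category 𝒜] [Abelian 𝒜]

/-- a retract of an object of a class stable under kernels belongs to the class -/
theorem prop_of_retract (𝒞 : 𝒜 → Prop) (hiso : ∀ {M N : 𝒜}, (M ≅ N) → 𝒞 M → 𝒞 N)
    (hker : ∀ {M N : 𝒜} (f : M ⟶ N), 𝒞 M → 𝒞 N → 𝒞 (kernel f))
    {H N : 𝒜} (i : H ⟶ N) (r : N ⟶ H) (hir : i ≫ r = 𝟙 H) (hN : 𝒞 N) : 𝒞 H := by
  have w : i ≫ (𝟙 N - r ≫ i) = 0 := by
    rw [Preadditive.comp_sub, Category.comp_id, ← Category.assoc, hir, Category.id_comp, sub_self]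
  haveI : Mono i := mono_of_mono_fac hir
  have hl : IsLimit (KernelFork.ofι i w) := KernelFork.IsLimit.ofι' _ _ (fun {A} k hk => by
    refine ⟨k ≫ r, ?_⟩
    rw [Preadditive.comp_sub, Category.comp_id, sub_eq_zero] at hk
    rw [Category.assoc]
    exact hk.symm)
  exact hiso (IsLimit.conePointUniqueUpToIso (kernelIsKernel _) hl) (hker _ hN hN)

end class_

variable [HasInjectiveResolutions (ModSite.Mod O)]

/-- `ℋom(F, G)` is the kernel of `ℋom(E₀, G) → ℋom(E₁, G)` for a presentation `E₁ → E₀ → F → 0` -/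
theorem nonempty_kernel_iso_sheafHom_of_pres {F E₀ E₁ : ModSite.Mod O} (π : E₀ ⟶ F) [Epi π]
    (p : E₁ ⟶ kernel π) [Epi p] (G : ModSite.Mod O) :
    Nonempty (kernel ((ExtSupp.sheafHomMap (p ≫ kernel.ι π)).app G) ≅
      (ModSite.sheafHom F).obj G) := by
  haveI : Mono ((ExtSupp.sheafHomMap p).app G) := mono_sheafHomMap_app _ G
  let S : ShortComplex (ModSite.Mod O) := ShortComplex.mk (kernel.ι π) π (kernel.condition π)
  have hS : S.Exact := ShortComplex.exact_of_f_is_kernel _ (kernelIsKernel π)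
  haveI : Epi S.g := inferInstanceAs (Epi π)
  have hk := homSC_exact_mono S hS G
  rw [ShortComplex.exact_and_mono_f_iff_f_is_kernel] at hk
  obtain ⟨hk⟩ := hk
  have hd : (ExtSupp.sheafHomMap (p ≫ kernel.ι π)).app G =
      (ExtSupp.sheafHomMap (kernel.ι π)).app G ≫ (ExtSupp.sheafHomMap p).app G := by
    rw [← NatTrans.comp_app, sheafHomMap_comp]
  have hk' := isKernelCompMono hk ((ExtSupp.sheafHomMap p).app G) hd
  exact ⟨IsLimit.conePointUniqueUpToIso (kernelIsKernel _) hk'⟩

/-- **a class of modules stable under kernels and cokernels, with enough `ℋom`-acyclic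
presentations whose internal Homs to `G` stay in the class, is stable under `ℰxtⁱ(-, G)`** -/
theorem prop_extSh (𝒞 : ModSite.Mod O → Prop)
    (hiso : ∀ {M N : ModSite.Mod O}, (M ≅ N) → 𝒞 M → 𝒞 N)
    (hker : ∀ {M N : ModSite.Mod O} (f : M ⟶ N), 𝒞 M → 𝒞 N → 𝒞 (kernel f))
    (hcoker : ∀ {M N : ModSite.Mod O} (f : M ⟶ N), 𝒞 M → 𝒞 N → 𝒞 (cokernel f))
    (G : ModSite.Mod O)
    (hpres : ∀ F, 𝒞 F → ∃ (E : ModSite.Mod O) (π : E ⟶ F), Epi π ∧ 𝒞 (kernel π) ∧
      (∀ (q : ℕ) (N : ModSite.Mod O), IsZero ((ModSite.extSh E (q + 1)).obj N)) ∧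
      𝒞 ((ModSite.sheafHom E).obj G)) :
    ∀ (i : ℕ) (F : ModSite.Mod O), 𝒞 F → 𝒞 ((ModSite.extSh F i).obj G) := by
  have h0 : ∀ F, 𝒞 F → 𝒞 ((ModSite.sheafHom F).obj G) := by
    intro F hF
    obtain ⟨E₀, π, hπ, hK, -, hH₀⟩ := hpres F hF
    obtain ⟨E₁, p, hp, -, -, hH₁⟩ := hpres (kernel π) hK
    haveI := hπ
    haveI := hp
    obtain ⟨e⟩ := nonempty_kernel_iso_sheafHom_of_pres π p G
    exact hiso e (hker _ hH₀ hH₁)
  intro i
  induction i with
  | zero =>
    intro F hF
    exact hiso ((ModSite.sheafHom F).rightDerivedZeroIsoSelf.symm.app G) (h0 F hF)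
  | succ i ih =>
    intro F hF
    obtain ⟨E, π, hπ, hK, hacyc, hH⟩ := hpres F hF
    haveI := hπ
    let S : ShortComplex (ModSite.Mod O) := ShortComplex.mk (kernel.ι π) π (kernel.condition π)
    have hS : S.ShortExact :=
      { exact := ShortComplex.exact_of_f_is_kernel _ (kernelIsKernel π)
        mono_f := inferInstanceAs (Mono (kernel.ι π))
        epi_g := inferInstanceAs (Epi π) }
    rcases i with _ | i
    · obtain ⟨e⟩ := nonempty_extSh_one_iso_cokernel S hS (fun N => hacyc 0 N) G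
      exact hiso e.symm (hcoker _ hH (h0 _ hK))
    · obtain ⟨e⟩ := nonempty_extSh_shift S hS i (fun N => hacyc i N) (fun N => hacyc (i + 1) N)
      exact hiso (e.app G) (ih _ hK)

end Groth.Agent.Helper1.ExtSh
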