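import Mathlib
import Groth.Prelude.Def_KLin
import Groth.Prelude.Def_DCoh4
import Groth.Prelude.Def_ModSite
import Groth.Agent.Helper9.TensorFlat

/-!
# TensorLin1: the tensor product of `O_X`-modules is linear over the global functions

For a global function `r`, `F ⊗ (r · id_N) = r · id_{F ⊗ N}`.  Hence for `X` over `Spec A` the
functors `F ⊗ -` are `A`-linear, and so are their right adjoints.
-/

set_option autoImplicit false
set_option linter.style.haveILetI false
set_option linter.unusedSectionVars false

universe u
open CategoryTheory CategoryTheory.Limits AlgebraicGeometry Opposite MonoidalCategory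
open Groth.Agent.Helper9.TensorSh Groth.Agent.Helper9.TensorAdj Groth.Agent.Helper9.TensorFlat

namespace Groth.Agent.Helper1.TensorLin

variable {X : Scheme.{u}}

/-- the restriction of a global function, as a section of the structure presheaf of rings -/
noncomputable def res (U : (TopologicalSpace.Opens X)ᵒᵖ) (r : Coh.Γtop X) :
    (X.sheaf.obj ⋙ forget₂ CommRingCat.{u} RingCat.{u}).obj U := Coh.resTop X U r

lemma map_res {U V : (TopologicalSpace.Opens X)ᵒᵖ} (f : U ⟶ V) (r : Coh.Γtop X) :
    (X.sheaf.obj ⋙ forget₂ CommRingCat.{u} RingCat.{u}).map f (res U r) = res V r :=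
  Coh.resTop_comp U V f r

/-- multiplication by a global function on a presheaf of modules -/
noncomputable def smulP (P : PM X.sheaf) (r : Coh.Γtop X) : P ⟶ P where
  app U := ModuleCat.ofHom
    { toFun := fun m => res U r • m
      map_add' := fun m m' => smul_add _ m m'
      map_smul' := fun s m => by
        rw [RingHom.id_apply, ← mul_smul, ← mul_smul]
        congr 1
        exact @mul_comm Γ(X, Opposite.unop U) _ (Coh.resTop X U r) s }
  naturality {U V} f := by
    ext m
    show res V r • P.map f m = P.map f (res U r • m)
    rw [PresheafOfModules.map_smul, map_res]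

lemma smulP_app_apply (P : PM X.sheaf) (r : Coh.Γtop X) (U : (TopologicalSpace.Opens X)ᵒᵖ)
    (m : P.obj U) : (smulP P r).app U m = res U r • m := rfl

/-- morphisms of presheaves of modules commute with multiplication by global functions -/
lemma comp_smulP {P P' : PM X.sheaf} (g : P ⟶ P') (r : Coh.Γtop X) :
    g ≫ smulP P' r = smulP P r ≫ g := by
  apply PresheafOfModules.hom_ext
  intro U
  ext m
  show res U r • g.app U m = g.app U (res U r • m)
  exact ((g.app U).hom.map_smul _ m).symm

/-- on the underlying presheaf of modules, `smulModΓ` is `smulP` -/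
lemma ι_map_smulModΓ (N : X.Modules) (r : Coh.Γtop X) :
    (ι X.sheaf).map (Formal.smulModΓ N r) = smulP ((ι X.sheaf).obj N) r := by
  apply PresheafOfModules.hom_ext
  intro U
  ext m
  rfl

/-- whiskering with a multiplication is a multiplication -/
lemma whiskerLeft_smulP (P Q : PM X.sheaf) (r : Coh.Γtop X) :
    P ◁ smulP Q r = smulP (P ⊗ Q) r := by
  apply PresheafOfModules.hom_ext
  intro U
  rw [PresheafOfModules.whiskerLeft_app]
  apply ModuleCat.MonoidalCategory.tensor_ext
  intro p q
  rw [ModuleCat.MonoidalCategory.whiskerLeft_apply]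
  exact TensorProduct.tmul_smul (res U r) p q

/-- sheafification turns `smulP` into `smulModΓ` -/
lemma a_map_smulP (P : PM X.sheaf) (r : Coh.Γtop X) :
    (a X.sheaf).map (smulP P r) = Formal.smulModΓ ((a X.sheaf).obj P) r := by
  apply ((adj X.sheaf).homEquiv _ _).injective
  rw [Adjunction.homEquiv_unit, Adjunction.homEquiv_unit]
  have h1 := (adj X.sheaf).unit.naturality (smulP P r)
  simp only [Functor.id_map, Functor.comp_map] at h1
  have h2 : (adj X.sheaf).unit.app P ≫
      (ι X.sheaf).map (Formal.smulModΓ ((a X.sheaf).obj P) r) =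
      smulP P r ≫ (adj X.sheaf).unit.app P := by
    rw [ι_map_smulModΓ]
    exact comp_smulP _ r
  exact h1.symm.trans h2.symm

/-- **`F ⊗ (r · id_N) = r · id_{F ⊗ N}`** -/
theorem tensor_map_smulModΓ (F N : X.Modules) (r : Coh.Γtop X) :
    ((DCoh.tensorBi (X := X)).obj F).map (Formal.smulModΓ N r) =
      Formal.smulModΓ (((DCoh.tensorBi (X := X)).obj F).obj N) r := by
  show (a X.sheaf).map ((ι X.sheaf).obj F ◁ (ι X.sheaf).map (Formal.smulModΓ N r)) = _
  rw [ι_map_smulModΓ, whiskerLeft_smulP]
  exact a_map_smulP _ r

section Over

variable (A : Type u) [CommRing A] [X.Over (Spec (CommRingCat.of A))]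

/-- `F ⊗ -` is linear over the base ring -/
instance linear_tensor (F : X.Modules) : ((DCoh.tensorBi (X := X)).obj F).Linear A where
  map_smul {M N} f a := by
    rw [KLin.smul_def, Functor.map_comp, KLin.smul_def]
    congr 1
    exact tensor_map_smulModΓ F M _

/-- a right adjoint of a linear functor is linear -/
theorem linear_of_leftAdjoint {R : Type*} [Semiring R] {C D : Type*} [Category C] [Category D]
    [Preadditive C] [Preadditive D] [Linear R C] [Linear R D] {L : C ⥤ D} {G : D ⥤ C}
    (adj : L ⊣ G) [L.Additive] [G.Additive] [L.Linear R] : G.Linear R where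
  map_smul {X Y} f r := by
    apply (adj.homEquiv (G.obj X) Y).symm.injective
    rw [Adjunction.homEquiv_counit, Adjunction.homEquiv_counit, L.map_smul, Linear.smul_comp]
    have h1 := adj.counit.naturality (r • f)
    have h2 := adj.counit.naturality f
    simp only [Functor.id_map, Functor.comp_map] at h1 h2
    rw [h1, h2, Linear.comp_smul]

end Over

end Groth.Agent.Helper1.TensorLin
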