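import Mathlib
import Groth.Agent.Helper1.ExtSh7
import Groth.Agent.Helper1.TensorLin1
import Groth.Agent.Helper4.SN57
import Groth.Agent.Helper9.Unitor1

/-!
# ExtSh9: `Hom(M, G) ≃ₗ[A] H⁰(X, ℋom(M, G))`, naturally in `M`

`X` a scheme over `Spec A` (`A` any commutative ring), `ℋom = ModSite.sheafHom` (right adjoint of
`- ⊗ M`).
-/

set_option autoImplicit false
set_option linter.style.haveILetI false
set_option linter.unusedSectionVars false

universe u

open CategoryTheory CategoryTheory.Limits Abelian AlgebraicGeometry Opposite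
open Groth.Agent.Helper9.TensorSh Groth.Agent.Helper9.TensorAdj Groth.Agent.Helper9.TensorFlat
  Groth.Agent.Helper9.Unitor1

namespace Groth.Agent.Helper1.ExtSh

variable (A : Type u) [CommRing A] {X : Scheme.{u}} [X.Over (Spec (CommRingCat.of A))]

section H0

open Groth.Agent.Helper4.SN Groth.Agent.Lead.ProperFinA

/-- naturality of `H⁰ ≃ Γ` -/
lemma h0Equiv_HHlin {M N : X.Modules} (φ : M ⟶ N) (x : Coh.HH X M 0) :
    h0Equiv N (Canon.HHlin A φ 0 x) = φ.app ⊤ (h0Equiv M x) :=
  (Sheaf.H.equiv₀_naturality (isTerminalTop (α := TopologicalSpace.Opens X))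
    ((SheafOfModules.toSheaf X.ringCatSheaf).map φ) x).symm

theorem sec1_smulA (L : X.Modules) (a : A) (s : Coh.structureModule X ⟶ L) :
    sec1 L (a • s) =
      @HSMul.hSMul (X.ringCatSheaf.obj.obj (op ⊤)) (L.val.obj (op ⊤)) (L.val.obj (op ⊤)) _
        (Coh.toGlobal (X ↘ Spec (CommRingCat.of A)) a) (sec1 L s) := by
  have h := KLin.smul_app_apply a s ⊤ (Groth.Agent.Helper4.GenLoc.one X ⊤)
  have h2 : X.presheaf.map (homOfLE (le_top : (⊤ : X.Opens) ≤ ⊤)).op
      (Coh.toGlobal (X ↘ Spec (CommRingCat.of A)) a) =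
      Coh.toGlobal (X ↘ Spec (CommRingCat.of A)) a := by
    have : (homOfLE (le_top : (⊤ : X.Opens) ≤ ⊤)) = 𝟙 _ := Subsingleton.elim _ _
    rw [this, op_id, X.presheaf.map_id]
    rfl
  rw [h2] at h
  exact h

/-- evaluation of a morphism `O ⟶ L` at the unit section, as an `A`-linear map to `H⁰` -/
noncomputable def evalH0A (L : X.Modules) :
    (Coh.structureModule X ⟶ L) →ₗ[A] Coh.HH X L 0 where
  toFun s := (h0Equiv L).symm (sec1 L s)
  map_add' s s' := by
    rw [sec1_add]
    exact map_add _ _ _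
  map_smul' a s := by
    apply (h0Equiv L).injective
    refine ((h0Equiv L).apply_symm_apply _).trans ?_
    refine (sec1_smulA A L a s).trans ?_
    refine Eq.trans ?_ (h0Equiv_smul L
      (Coh.toGlobal (X ↘ Spec (CommRingCat.of A)) a)
      ((h0Equiv L).symm (sec1 L s))).symm
    rw [(h0Equiv L).apply_symm_apply]

theorem evalH0A_surjective (L : X.Modules) : Function.Surjective (evalH0A A L) := by
  intro y
  let t : Γ(L, ⊤) := h0Equiv L y
  refine ⟨Groth.Agent.Lead.IdealModDict.ofSection L t, ?_⟩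
  apply (h0Equiv L).injective
  refine ((h0Equiv L).apply_symm_apply _).trans ?_
  have h1 := Groth.Agent.Lead.IdealModDict.ofSection_app L t ⊤ 1
  have h2 : L.presheaf.map (homOfLE (le_top : (⊤ : X.Opens) ≤ ⊤)).op t = t := by
    have : (homOfLE (le_top : (⊤ : X.Opens) ≤ ⊤)) = 𝟙 _ := Subsingleton.elim _ _
    rw [this, op_id, L.presheaf.map_id]
    rfl
  rw [h2, one_smul] at h1
  exact h1

theorem evalH0A_injective (L : X.Modules) : Function.Injective (evalH0A A L) := by
  rw [injective_iff_map_eq_zero]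
  intro s hs
  apply eq_zero_of_sec1
  have h1 : (h0Equiv L).symm (sec1 L s) = 0 := hs
  exact (AddEquiv.map_eq_zero_iff _).1 h1

/-- `Hom(O, L) ≃ₗ H⁰(L)` -/
noncomputable def evalH0AEquiv (L : X.Modules) :
    (Coh.structureModule X ⟶ L) ≃ₗ[A] Coh.HH X L 0 :=
  LinearEquiv.ofBijective (evalH0A A L) ⟨evalH0A_injective A L, evalH0A_surjective A L⟩

theorem evalH0A_comp {L L' : X.Modules} (s : Coh.structureModule X ⟶ L) (ψ : L ⟶ L') :
    evalH0A A L' (s ≫ ψ) = Canon.HHlin A ψ 0 (evalH0A A L s) := by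
  apply (h0Equiv L').injective
  rw [h0Equiv_HHlin]
  refine ((h0Equiv L').apply_symm_apply _).trans ?_
  refine Eq.trans ?_ (congrArg (ψ.app ⊤) ((h0Equiv L).apply_symm_apply _)).symm
  rfl

end H0

section Adj

variable {C D : Type*} [Category C] [Category D] [Preadditive C] [Preadditive D]
  [Linear A C] [Linear A D] {L : C ⥤ D} {G : D ⥤ C} (adj : L ⊣ G) [L.Additive] [G.Additive]
  [G.Linear A]

/-- the adjunction bijection, as a linear equivalence -/
noncomputable def homLinEquiv (P : C) (Q : D) : (L.obj P ⟶ Q) ≃ₗ[A] (P ⟶ G.obj Q) :=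
  { adj.homAddEquiv P Q with
    map_smul' := fun a f => by
      show adj.homEquiv P Q (a • f) = a • adj.homEquiv P Q f
      rw [Adjunction.homEquiv_unit, Adjunction.homEquiv_unit, G.map_smul, Linear.comp_smul] }

lemma homLinEquiv_apply (P : C) (Q : D) (f : L.obj P ⟶ Q) :
    homLinEquiv A adj P Q f = adj.homEquiv P Q f := rfl

end Adj

/-- `- ⊗ M` as an endofunctor of `X.Modules` -/
noncomputable abbrev TNX (M : X.Modules) : X.Modules ⥤ X.Modules :=
  (DCoh.tensorBi (X := X)).flip.obj M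

/-- `ℋom(M, -)` as an endofunctor of `X.Modules` -/
noncomputable abbrev SH (M : X.Modules) [ModSite.HasSheafHom (O := X.sheaf) M] :
    X.Modules ⥤ X.Modules :=
  ModSite.sheafHom (O := X.sheaf) M

/-- the adjunction `- ⊗ M ⊣ ℋom(M, -)` on `X.Modules` -/
noncomputable abbrev adjX (M : X.Modules) [ModSite.HasSheafHom (O := X.sheaf) M] :
    TNX M ⊣ SH M :=
  ModSite.sheafHomAdj (O := X.sheaf) M

instance additive_TNX (M : X.Modules) : (TNX M).Additive :=
  @additive_TN _ _ _ X.sheaf M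

instance additive_SH (M : X.Modules) [ModSite.HasSheafHom (O := X.sheaf) M] : (SH M).Additive :=
  (adjX M).right_adjoint_additive

/-- `- ⊗ M` is linear over the base ring -/
instance linear_TNX (M : X.Modules) : (TNX M).Linear A :=
  letI h : ((DCoh.tensorBi (X := X)).obj M).Linear A :=
    Groth.Agent.Helper1.TensorLin.linear_tensor A M
  let e : (DCoh.tensorBi (X := X)).obj M ≅ TNX M := symIso (O := X.sheaf) M
  Functor.linear_of_iso A e

/-- the internal Hom is linear over the base ring -/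
instance linear_SH (M : X.Modules) [ModSite.HasSheafHom (O := X.sheaf) M] :
    (SH M).Linear A :=
  Groth.Agent.Helper1.TensorLin.linear_of_leftAdjoint (adjX M)

/-- `O ⊗ M ≅ M` -/
noncomputable def lu (M : X.Modules) : (TNX M).obj (Coh.structureModule X) ≅ M :=
  (Groth.Agent.Helper1.Inv.lUnitorIso (O := X.sheaf)).app M

lemma lu_naturality {M M' : X.Modules} (g : M' ⟶ M) :
    ((DCoh.tensorBi (X := X)).obj (Coh.structureModule X)).map g ≫ (lu M).hom =
      (lu M').hom ≫ g :=
  (Groth.Agent.Helper1.Inv.lUnitorIso (O := X.sheaf)).hom.naturality g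

variable [HasExt.{u} X.Modules]

/-- `Ext⁰(M, G) ≃ₗ H⁰(ℋom(M, G))` -/
noncomputable def e₀' (M G : X.Modules) [ModSite.HasSheafHom (O := X.sheaf) M] :
    Ext.{u} M G 0 ≃ₗ[A] Coh.HH X ((SH M).obj G) 0 :=
  (Ext.linearEquiv₀ (R := A)).trans
    ((Linear.homCongr A (lu M).symm (Iso.refl G)).trans
      ((homLinEquiv A (adjX M) (Coh.structureModule X) G).trans (evalH0AEquiv A _)))

theorem e₀'_mk₀ (M G : X.Modules) [ModSite.HasSheafHom (O := X.sheaf) M] (f : M ⟶ G) :
    e₀' A M G (Ext.mk₀ f) = evalH0A A _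
      ((adjX M).homEquiv (Coh.structureModule X) G ((lu M).hom ≫ f)) := by
  have h1 : Ext.linearEquiv₀ (R := A) (Ext.mk₀ f) = f := by
    apply (Ext.mk₀_bijective _ _).1
    rw [Ext.mk₀_linearEquiv₀_apply]
  show evalH0A A _ ((adjX M).homEquiv (Coh.structureModule X) G
    (Linear.homCongr A (lu M).symm (Iso.refl G) (Ext.linearEquiv₀ (R := A) (Ext.mk₀ f)))) = _
  rw [h1, Linear.homCongr_apply, Iso.symm_inv, Iso.refl_hom, Category.comp_id]

/-- naturality in the first variable -/
theorem e₀'_nat {M M' : X.Modules} [ModSite.HasSheafHom (O := X.sheaf) M]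
    [ModSite.HasSheafHom (O := X.sheaf) M'] (g : M' ⟶ M) (G : X.Modules)
    (x : Ext.{u} M G 0) :
    e₀' A M' G ((Ext.mk₀ g).comp x (zero_add 0)) =
      Canon.HHlin A ((ExtSupp.sheafHomMap (O := X.sheaf) g).app G) 0 (e₀' A M G x) := by
  obtain ⟨f, rfl⟩ := (Ext.mk₀_bijective _ _).2 x
  rw [Ext.mk₀_comp_mk₀, e₀'_mk₀, e₀'_mk₀]
  let ψ : (SH M).obj G ⟶ (SH M').obj G := (ExtSupp.sheafHomMap (O := X.sheaf) g).app G
  refine Eq.trans ?_ (evalH0A_comp A
    ((adjX M).homEquiv (Coh.structureModule X) G ((lu M).hom ≫ f)) ψ)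
  congr 1
  apply ((adjX M').homEquiv _ G).symm.injective
  rw [Equiv.symm_apply_apply]
  refine Eq.trans ?_ (homEquiv_symm_comp_sheafHomMap (O := X.sheaf) g
    ((adjX M).homEquiv (Coh.structureModule X) G ((lu M).hom ≫ f))).symm
  have h1 : ((adjX M).homEquiv (Coh.structureModule X) G).symm
      (((adjX M).homEquiv (Coh.structureModule X) G) ((lu M).hom ≫ f)) = (lu M).hom ≫ f :=
    Equiv.symm_apply_apply _ _
  refine Eq.trans ?_ (congrArg (_ ≫ ·) h1.symm)
  exact ((Category.assoc _ _ _).symm.trans (congrArg (· ≫ f) (lu_naturality g).symm)).trans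
    (Category.assoc _ _ _)

end Groth.Agent.Helper1.ExtSh
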