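import Mathlib
import Groth.Agent.Helper1.ExtSh9
import Groth.Agent.Helper1.ExtSh5
import Groth.Agent.Helper1.ExtHom1
import Groth.Agent.Helper1.ExtDual1
import Groth.Agent.Helper1.GrSh2
import Groth.Agent.Helper1.ProjTop8

/-!
# ExtSh10: the abstract local-to-global theorem `Extⁱ(F, G_d) ≃ₗ H⁰(X, ℰxtⁱ(F, G_d))` for `d ≫ 0`
-/

set_option autoImplicit false
set_option linter.style.haveILetI false
set_option linter.unusedSectionVars false

universe u

open CategoryTheory CategoryTheory.Limits Abelian AlgebraicGeometry Opposite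
open Groth.Agent.Helper9.TensorSh Groth.Agent.Helper9.TensorAdj Groth.Agent.Helper9.TensorFlat

namespace Groth.Agent.Helper1.ExtSh

attribute [local instance] hasSheafHom

variable (A : Type u) [CommRing A] {X : Scheme.{u}} [X.Over (Spec (CommRingCat.of A))]

section coh4

open Groth.Agent.Helper1.HHLes Groth.Agent.Helper1.Dev Groth.Agent.Helper1.GrSh

/-- `H⁰` of a four-term exact sequence `0 → ker a → M₂ → M₃ → coker a → 0` stays exact at the last
two spots when `H¹(ker a) = H²(ker a) = H¹(M₂) = 0` -/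
theorem exact_H0_coker {M₂ M₃ : X.Modules} (a : M₂ ⟶ M₃)
    (h1 : Subsingleton (Coh.HH X (kernel a) 1)) (h2 : Subsingleton (Coh.HH X (kernel a) 2))
    (h3 : Subsingleton (Coh.HH X M₂ 1)) :
    Function.Surjective (Canon.HHlin A (cokernel.π a) 0) ∧
      ∀ y, Canon.HHlin A (cokernel.π a) 0 y = 0 ↔ ∃ z, Canon.HHlin A a 0 z = y := by
  have hS1 := kerImSC_shortExact a
  have hS2 := imCokSC_shortExact a
  have hIm : ∀ x : Coh.HH X (Abelian.image a) 1, x = 0 := by
    intro x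
    have h : δ A (kerImSC a) hS1 1 x = 0 := Subsingleton.elim _ _
    obtain ⟨y, rfl⟩ := (exact_g_δ A (kerImSC a) hS1 1 x).1 h
    rw [Subsingleton.elim y 0, map_zero]
  constructor
  · intro y
    have h : δ A (imCokSC a) hS2 0 y = 0 := hIm _
    exact (exact_g_δ A (imCokSC a) hS2 0 y).1 h
  · intro y
    refine (exact_f_g A (imCokSC a) hS2 0 y).trans ?_
    constructor
    · rintro ⟨w, rfl⟩
      have h : δ A (kerImSC a) hS1 0 w = 0 := Subsingleton.elim _ _
      obtain ⟨z, rfl⟩ := (exact_g_δ A (kerImSC a) hS1 0 w).1 h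
      refine ⟨z, ?_⟩
      have h4 := HHlin_comp A (Abelian.factorThruImage a) (Abelian.image.ι a) 0 z
      rw [Abelian.image.fac] at h4
      exact h4
    · rintro ⟨z, rfl⟩
      refine ⟨Canon.HHlin A (Abelian.factorThruImage a) 0 z, ?_⟩
      have h4 := HHlin_comp A (Abelian.factorThruImage a) (Abelian.image.ι a) 0 z
      rw [Abelian.image.fac] at h4
      exact h4.symm

include A in
lemma subsingleton_HH_of_iso {M N : X.Modules} (e : M ≅ N) (p : ℕ)
    (h : Subsingleton (Coh.HH X M p)) : Subsingleton (Coh.HH X N p) :=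
  (Groth.Agent.Helper1.ProjTop.HHlinEquiv A e p).symm.toEquiv.subsingleton

end coh4

variable [HasExt.{u} X.Modules] [HasInjectiveResolutions (ModSite.Mod X.sheaf)]

open Groth.Agent.Helper1.ExtDual in
/-- the step `i = 1` -/
theorem step_one {F E : X.Modules} (π : E ⟶ F) [Epi π] (N : X.Modules)
    (hE : FlatMod.IsFinLocFree E)
    (hF1 : Subsingleton (Coh.HH X ((SH F).obj N) 1))
    (hF2 : Subsingleton (Coh.HH X ((SH F).obj N) 2))
    (hE1 : Subsingleton (Coh.HH X ((SH E).obj N) 1)) :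
    Nonempty (Ext.{u} F N 1 ≃ₗ[A] Coh.HH X ((ModSite.extSh (O := X.sheaf) F 1).obj N) 0) := by
  let S : ShortComplex X.Modules := ShortComplex.mk (kernel.ι π) π (kernel.condition π)
  have hS : S.ShortExact :=
    { exact := ShortComplex.exact_of_f_is_kernel _ (kernelIsKernel π)
      mono_f := inferInstanceAs (Mono (kernel.ι π))
      epi_g := inferInstanceAs (Epi π) }
  -- `Ext¹(E, N) = 0`
  have hExt : Subsingleton (Ext.{u} E N 1) := by
    obtain ⟨e⟩ := Groth.Agent.Helper1.SHLoc.nonempty_ext_addEquiv_sheafHom E hE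
      ((adjX E).ofNatIsoLeft (symIso (O := X.sheaf) E).symm) N 1
    exact e.toEquiv.subsingleton
  let a : (SH E).obj N ⟶ (SH (kernel π)).obj N :=
    (ExtSupp.sheafHomMap (O := X.sheaf) (kernel.ι π)).app N
  obtain ⟨c⟩ := nonempty_extSh_one_iso_cokernel (O := X.sheaf) S hS
    (fun N' => isZero_extSh_of_isFinLocFree E hE 0 N') N
  let c' : (ModSite.extSh (O := X.sheaf) F 1).obj N ≅ cokernel a := c
  -- the kernel of `a` is `ℋom(F, N)`
  have hk := @homSC_exact_mono _ _ _ X.sheaf S _ _ _ hS.exact hS.epi_g N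
  rw [ShortComplex.exact_and_mono_f_iff_f_is_kernel] at hk
  obtain ⟨hk⟩ := hk
  let ik : kernel a ≅ (SH F).obj N :=
    IsLimit.conePointUniqueUpToIso (kernelIsKernel a) hk
  have h1 := subsingleton_HH_of_iso A ik.symm 1 hF1
  have h2 := subsingleton_HH_of_iso A ik.symm 2 hF2
  obtain ⟨hsurj, hker⟩ := exact_H0_coker A a h1 h2 hE1
  refine Groth.Agent.Helper1.ExtHom.nonempty_linearEquiv_of_ker_eq (δE A hS N 0)
    ((Groth.Agent.Helper1.ProjTop.HHlinEquiv A c'.symm 0).toLinearMap ∘ₗ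
      (Canon.HHlin A (cokernel.π a) 0) ∘ₗ (e₀' A (kernel π) N).toLinearMap)
    (surjective_δE A hS N 0 hExt) ?_ ?_
  · intro y
    obtain ⟨z, hz⟩ := hsurj ((Groth.Agent.Helper1.ProjTop.HHlinEquiv A c'.symm 0).symm y)
    refine ⟨(e₀' A (kernel π) N).symm z, ?_⟩
    show Groth.Agent.Helper1.ProjTop.HHlinEquiv A c'.symm 0
      (Canon.HHlin A (cokernel.π a) 0 (e₀' A (kernel π) N ((e₀' A (kernel π) N).symm z))) = y
    rw [LinearEquiv.apply_symm_apply, hz, LinearEquiv.apply_symm_apply]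
  · intro s
    refine (exact_aE_δE A hS N 0 s).trans ?_
    have h3 : ((Groth.Agent.Helper1.ProjTop.HHlinEquiv A c'.symm 0).toLinearMap ∘ₗ
        (Canon.HHlin A (cokernel.π a) 0) ∘ₗ (e₀' A (kernel π) N).toLinearMap) s = 0 ↔
        Canon.HHlin A (cokernel.π a) 0 (e₀' A (kernel π) N s) = 0 := by
      show Groth.Agent.Helper1.ProjTop.HHlinEquiv A c'.symm 0
        (Canon.HHlin A (cokernel.π a) 0 (e₀' A (kernel π) N s)) = 0 ↔ _
      exact LinearEquiv.map_eq_zero_iff _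
    refine Iff.trans ?_ (h3.trans (hker _)).symm
    constructor
    · rintro ⟨y, rfl⟩
      exact ⟨e₀' A E N y, (e₀'_nat A (kernel.ι π) N y).symm⟩
    · rintro ⟨z, hz⟩
      refine ⟨(e₀' A E N).symm z, (e₀' A (kernel π) N).injective ?_⟩
      rw [aE_apply]
      refine (e₀'_nat A (kernel.ι π) N _).trans ?_
      rw [LinearEquiv.apply_symm_apply]
      exact hz

open Groth.Agent.Helper1.ExtDual in
/-- the step `j + 2` -/
theorem step_succ {F E : X.Modules} (π : E ⟶ F) [Epi π] (N : X.Modules)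
    (hE : FlatMod.IsFinLocFree E) (j : ℕ)
    (hE1 : Subsingleton (Coh.HH X ((SH E).obj N) (j + 1)))
    (hE2 : Subsingleton (Coh.HH X ((SH E).obj N) (j + 2)))
    (ih : Nonempty (Ext.{u} (kernel π) N (j + 1) ≃ₗ[A]
      Coh.HH X ((ModSite.extSh (O := X.sheaf) (kernel π) (j + 1)).obj N) 0)) :
    Nonempty (Ext.{u} F N (j + 2) ≃ₗ[A]
      Coh.HH X ((ModSite.extSh (O := X.sheaf) F (j + 2)).obj N) 0) := by
  let S : ShortComplex X.Modules := ShortComplex.mk (kernel.ι π) π (kernel.condition π)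
  have hS : S.ShortExact :=
    { exact := ShortComplex.exact_of_f_is_kernel _ (kernelIsKernel π)
      mono_f := inferInstanceAs (Mono (kernel.ι π))
      epi_g := inferInstanceAs (Epi π) }
  have hExt1 : Subsingleton (Ext.{u} E N (j + 1)) := by
    obtain ⟨e⟩ := Groth.Agent.Helper1.SHLoc.nonempty_ext_addEquiv_sheafHom E hE
      ((adjX E).ofNatIsoLeft (symIso (O := X.sheaf) E).symm) N (j + 1)
    exact e.toEquiv.subsingleton
  have hExt2 : Subsingleton (Ext.{u} E N (j + 1 + 1)) := by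
    obtain ⟨e⟩ := Groth.Agent.Helper1.SHLoc.nonempty_ext_addEquiv_sheafHom E hE
      ((adjX E).ofNatIsoLeft (symIso (O := X.sheaf) E).symm) N (j + 2)
    exact e.toEquiv.subsingleton
  obtain ⟨c⟩ := nonempty_extSh_shift (O := X.sheaf) S hS j
    (fun N' => isZero_extSh_of_isFinLocFree E hE j N')
    (fun N' => isZero_extSh_of_isFinLocFree E hE (j + 1) N')
  let c' : (ModSite.extSh (O := X.sheaf) (kernel π) (j + 1)).obj N ≅
      (ModSite.extSh (O := X.sheaf) F (j + 2)).obj N := c.app N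
  obtain ⟨e1⟩ := ih
  let e2 : Ext.{u} (kernel π) N (j + 1) ≃ₗ[A] Ext.{u} F N (j + 2) :=
    LinearEquiv.ofBijective (δE A hS N (j + 1))
      ⟨injective_δE A hS N (j + 1) hExt1, surjective_δE A hS N (j + 1) hExt2⟩
  exact ⟨e2.symm.trans (e1.trans (Groth.Agent.Helper1.ProjTop.HHlinEquiv A c' 0))⟩

/-- **the abstract local-to-global theorem** -/
theorem local_to_global (Gd : ℕ → X.Modules) (𝒞 : X.Modules → Prop)
    (hpres : ∀ F, 𝒞 F → ∃ (E : X.Modules) (π : E ⟶ F), Epi π ∧ 𝒞 (kernel π) ∧ 𝒞 E ∧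
      FlatMod.IsFinLocFree E)
    (hvan : ∀ F, 𝒞 F → ∃ d₀ : ℕ, ∀ d, d₀ ≤ d → ∀ j, 1 ≤ j →
      Subsingleton (Coh.HH X ((SH F).obj (Gd d)) j)) :
    ∀ i F, 𝒞 F → ∃ d₀ : ℕ, ∀ d, d₀ ≤ d →
      Nonempty (Ext.{u} F (Gd d) i ≃ₗ[A]
        Coh.HH X ((ModSite.extSh (O := X.sheaf) F i).obj (Gd d)) 0) := by
  have h0 : ∀ F, 𝒞 F → ∃ d₀ : ℕ, ∀ d, d₀ ≤ d →
      Nonempty (Ext.{u} F (Gd d) 0 ≃ₗ[A]
        Coh.HH X ((ModSite.extSh (O := X.sheaf) F 0).obj (Gd d)) 0) := by
    intro F _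
    refine ⟨0, fun d _ => ?_⟩
    let c : (SH F).obj (Gd d) ≅ (ModSite.extSh (O := X.sheaf) F 0).obj (Gd d) :=
      (ModSite.sheafHom (O := X.sheaf) F).rightDerivedZeroIsoSelf.symm.app (Gd d)
    exact ⟨(e₀' A F (Gd d)).trans (Groth.Agent.Helper1.ProjTop.HHlinEquiv A c 0)⟩
  have h1 : ∀ F, 𝒞 F → ∃ d₀ : ℕ, ∀ d, d₀ ≤ d →
      Nonempty (Ext.{u} F (Gd d) 1 ≃ₗ[A]
        Coh.HH X ((ModSite.extSh (O := X.sheaf) F 1).obj (Gd d)) 0) := by
    intro F hF
    obtain ⟨E, π, hπ, -, hE, hfl⟩ := hpres F hF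
    obtain ⟨d₁, hd₁⟩ := hvan F hF
    obtain ⟨d₂, hd₂⟩ := hvan E hE
    refine ⟨max d₁ d₂, fun d hd => ?_⟩
    exact step_one A π (Gd d) hfl (hd₁ d (le_trans (le_max_left _ _) hd) 1 le_rfl)
      (hd₁ d (le_trans (le_max_left _ _) hd) 2 (by omega))
      (hd₂ d (le_trans (le_max_right _ _) hd) 1 le_rfl)
  intro i
  induction i with
  | zero => exact h0
  | succ j ih =>
    cases j with
    | zero => exact h1
    | succ j =>
      intro F hF
      obtain ⟨E, π, hπ, hK, hE, hfl⟩ := hpres F hF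
      obtain ⟨d₁, hd₁⟩ := ih (kernel π) hK
      obtain ⟨d₂, hd₂⟩ := hvan E hE
      refine ⟨max d₁ d₂, fun d hd => ?_⟩
      exact step_succ A π (Gd d) hfl j
        (hd₂ d (le_trans (le_max_right _ _) hd) (j + 1) (by omega))
        (hd₂ d (le_trans (le_max_right _ _) hd) (j + 2) (by omega))
        (hd₁ d (le_trans (le_max_left _ _) hd))

end Groth.Agent.Helper1.ExtSh
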