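import Mathlib
import Groth.Prelude.Def_Canon
import Groth.Prelude.Def_KSix
import Groth.Agent.Helper1.HHLes3

set_option autoImplicit false
set_option linter.unusedSectionVars false
set_option linter.style.haveILetI false

/-!
# Dualizing pairs `(ω, t)`: the class of modules `F` for which
`Hom(F, ω) → Hom_A(H^q(F), A)` is bijective is closed under isomorphisms, finite direct sums and
suitable cokernels
-/

namespace Groth.Agent.Helper1.DualSh

open CategoryTheory AlgebraicGeometry Limits Opposite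

universe u

variable (A : Type u) [CommRing A] {X : Scheme.{u}} [X.Over (Spec (CommRingCat.of A))]

theorem Hmap_comp {F G H : X.Modules} (a : F ⟶ G) (b : G ⟶ H) (q : ℕ) (x : Coh.HH X F q) :
    Sheaf.H.map ((SheafOfModules.toSheaf X.ringCatSheaf).map (a ≫ b)) q x =
      Sheaf.H.map ((SheafOfModules.toSheaf X.ringCatSheaf).map b) q
        (Sheaf.H.map ((SheafOfModules.toSheaf X.ringCatSheaf).map a) q x) :=
  (congrArg (fun f => Sheaf.H.map f q x)
    ((SheafOfModules.toSheaf X.ringCatSheaf).map_comp a b)).trans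
    (Sheaf.H.map_comp_apply _ _ x)

theorem Hmap_id (F : X.Modules) (q : ℕ) (x : Coh.HH X F q) :
    Sheaf.H.map ((SheafOfModules.toSheaf X.ringCatSheaf).map (𝟙 F)) q x = x :=
  (congrArg (fun f => Sheaf.H.map f q x)
    ((SheafOfModules.toSheaf X.ringCatSheaf).map_id F)).trans (Sheaf.H.map_id_apply x)

theorem Hmap_add {F G : X.Modules} (a b : F ⟶ G) (q : ℕ) (x : Coh.HH X F q) :
    Sheaf.H.map ((SheafOfModules.toSheaf X.ringCatSheaf).map (a + b)) q x =
      Sheaf.H.map ((SheafOfModules.toSheaf X.ringCatSheaf).map a) q x +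
        Sheaf.H.map ((SheafOfModules.toSheaf X.ringCatSheaf).map b) q x :=
  (congrArg (fun f => Sheaf.H.map f q x)
    ((SheafOfModules.toSheaf X.ringCatSheaf).map_add (f := a) (g := b))).trans
    (Sheaf.H.map_add_apply _ _ x)

theorem Hmap_zero (F G : X.Modules) (q : ℕ) (x : Coh.HH X F q) :
    Sheaf.H.map ((SheafOfModules.toSheaf X.ringCatSheaf).map (0 : F ⟶ G)) q x = 0 := by
  have h := Hmap_add (0 : F ⟶ G) 0 q x
  have h0 : (0 : F ⟶ G) + 0 = 0 := add_zero 0
  have h1 := (congrArg (fun m => Sheaf.H.map ((SheafOfModules.toSheaf X.ringCatSheaf).map m) q x)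
    h0).symm.trans h
  exact left_eq_add.mp h1

theorem Hmap_sum {F G : X.Modules} {ι : Type*} (s : Finset ι) (f : ι → (F ⟶ G)) (q : ℕ)
    (x : Coh.HH X F q) :
    Sheaf.H.map ((SheafOfModules.toSheaf X.ringCatSheaf).map (∑ j ∈ s, f j)) q x =
      ∑ j ∈ s, Sheaf.H.map ((SheafOfModules.toSheaf X.ringCatSheaf).map (f j)) q x := by
  classical
  induction s using Finset.induction_on with
  | empty =>
    rw [Finset.sum_empty, Finset.sum_empty]
    exact Hmap_zero F G q x
  | insert a s ha ih =>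
    rw [Finset.sum_insert ha, Finset.sum_insert ha, ← ih]
    exact Hmap_add _ _ q x

variable {ω : X.Modules} (q : ℕ) (t : Coh.HH X ω q →ₗ[A] A)

/-- `F` is dualized by `(ω, t)` -/
def IsDual (F : X.Modules) : Prop :=
  ∀ ψ : Coh.HH X F q →ₗ[A] A, ∃! φ : F ⟶ ω, ∀ x,
    ψ x = t (Sheaf.H.map ((SheafOfModules.toSheaf X.ringCatSheaf).map φ) q x)

variable {A q t}

theorem IsDual.of_iso {F F' : X.Modules} (α : F ≅ F') (h : IsDual A q t F') : IsDual A q t F := by
  intro ψ
  have hα : ∀ x, Sheaf.H.map ((SheafOfModules.toSheaf X.ringCatSheaf).map α.inv) q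
      (Sheaf.H.map ((SheafOfModules.toSheaf X.ringCatSheaf).map α.hom) q x) = x := by
    intro x
    refine (Hmap_comp α.hom α.inv q x).symm.trans ?_
    exact (congrArg (fun m => Sheaf.H.map ((SheafOfModules.toSheaf X.ringCatSheaf).map m) q x)
      α.hom_inv_id).trans (Hmap_id F q x)
  have hα' : ∀ x, Sheaf.H.map ((SheafOfModules.toSheaf X.ringCatSheaf).map α.hom) q
      (Sheaf.H.map ((SheafOfModules.toSheaf X.ringCatSheaf).map α.inv) q x) = x := by
    intro x
    refine (Hmap_comp α.inv α.hom q x).symm.trans ?_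
    exact (congrArg (fun m => Sheaf.H.map ((SheafOfModules.toSheaf X.ringCatSheaf).map m) q x)
      α.inv_hom_id).trans (Hmap_id F' q x)
  obtain ⟨φ', hφ', huniq⟩ := h (ψ.comp (Canon.HHlin A α.inv q))
  have key : ∀ φ : F ⟶ ω, (∀ x, ψ x = t (Sheaf.H.map
      ((SheafOfModules.toSheaf X.ringCatSheaf).map φ) q x)) ↔
      (∀ x', (ψ.comp (Canon.HHlin A α.inv q)) x' = t (Sheaf.H.map
        ((SheafOfModules.toSheaf X.ringCatSheaf).map (α.inv ≫ φ)) q x')) := by
    intro φ
    constructor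
    · intro h1 x'
      exact (h1 _).trans (congrArg t (Hmap_comp α.inv φ q x').symm)
    · intro h1 x
      have h2 := h1 (Sheaf.H.map ((SheafOfModules.toSheaf X.ringCatSheaf).map α.hom) q x)
      have h3 : (ψ.comp (Canon.HHlin A α.inv q))
          (Sheaf.H.map ((SheafOfModules.toSheaf X.ringCatSheaf).map α.hom) q x) = ψ x :=
        congrArg ψ (hα x)
      refine h3.symm.trans (h2.trans (congrArg t ?_))
      refine (Hmap_comp α.inv φ q _).trans ?_
      exact congrArg _ (hα x)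
  refine ⟨α.hom ≫ φ', (key _).2 ?_, ?_⟩
  · intro x'
    have h2 : φ' = α.inv ≫ α.hom ≫ φ' := by simp
    exact (hφ' x').trans (congrArg (fun m => t (Sheaf.H.map
      ((SheafOfModules.toSheaf X.ringCatSheaf).map m) q x')) h2)
  · intro φ hφ
    have h1 : α.inv ≫ φ = φ' := huniq _ ((key φ).1 hφ)
    have h2 : φ = α.hom ≫ α.inv ≫ φ := by simp
    exact h2.trans (congrArg (fun m => α.hom ≫ m) h1)

/-- factoring through an epimorphism in an abelian category -/
theorem exists_desc_of_epi {C : Type*} [Category C] [Abelian C] {E F W : C} (π : E ⟶ F) [Epi π]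
    (φ₀ : E ⟶ W) (h : kernel.ι π ≫ φ₀ = 0) : ∃ φ : F ⟶ W, π ≫ φ = φ₀ := by
  have hc := Abelian.epiIsCokernelOfKernel (KernelFork.ofι (kernel.ι π) (kernel.condition π))
    (kernelIsKernel π)
  exact ⟨hc.desc (CokernelCofork.ofπ φ₀ h), hc.fac (CokernelCofork.ofπ φ₀ h)
    WalkingParallelPair.one⟩

theorem IsDual.biproduct {r : ℕ} (F : Fin r → X.Modules) (h : ∀ j, IsDual A q t (F j)) :
    IsDual A q t (⨁ F) := by
  classical
  intro ψ
  have hx : ∀ x : Coh.HH X (⨁ F) q, x = ∑ j, Sheaf.H.map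
      ((SheafOfModules.toSheaf X.ringCatSheaf).map (biproduct.ι F j)) q
      (Sheaf.H.map ((SheafOfModules.toSheaf X.ringCatSheaf).map (biproduct.π F j)) q x) := by
    intro x
    refine (Hmap_id (⨁ F) q x).symm.trans ?_
    refine (congrArg (fun m => Sheaf.H.map ((SheafOfModules.toSheaf X.ringCatSheaf).map m) q x)
      (biproduct.total (f := F)).symm).trans ?_
    refine (Hmap_sum Finset.univ (fun j => biproduct.π F j ≫ biproduct.ι F j) q x).trans ?_
    exact Finset.sum_congr rfl fun j _ => Hmap_comp _ _ q x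
  have hψj : ∀ j, ∃! φ : F j ⟶ ω, ∀ y, (ψ.comp (Canon.HHlin A (biproduct.ι F j) q)) y =
      t (Sheaf.H.map ((SheafOfModules.toSheaf X.ringCatSheaf).map φ) q y) := fun j => h j _
  choose φj hφj huniq using hψj
  refine ⟨biproduct.desc φj, ?_, ?_⟩
  · intro x
    have e1 : ψ x = ∑ j, ψ (Sheaf.H.map
        ((SheafOfModules.toSheaf X.ringCatSheaf).map (biproduct.ι F j)) q
        (Sheaf.H.map ((SheafOfModules.toSheaf X.ringCatSheaf).map (biproduct.π F j)) q x)) :=
      (congrArg ψ (hx x)).trans (map_sum ψ _ _)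
    have e2 : t (Sheaf.H.map ((SheafOfModules.toSheaf X.ringCatSheaf).map (biproduct.desc φj : ⨁ F ⟶ ω)) q x)
        = ∑ j, t (Sheaf.H.map ((SheafOfModules.toSheaf X.ringCatSheaf).map (biproduct.desc φj : ⨁ F ⟶ ω)) q
          (Sheaf.H.map ((SheafOfModules.toSheaf X.ringCatSheaf).map (biproduct.ι F j)) q
          (Sheaf.H.map ((SheafOfModules.toSheaf X.ringCatSheaf).map (biproduct.π F j)) q x))) :=
      (congrArg (fun z => t (Sheaf.H.map ((SheafOfModules.toSheaf X.ringCatSheaf).map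
        (biproduct.desc φj : ⨁ F ⟶ ω)) q z)) (hx x)).trans
        ((congrArg t (map_sum (Sheaf.H.map ((SheafOfModules.toSheaf X.ringCatSheaf).map
          (biproduct.desc φj : ⨁ F ⟶ ω)) q) _ _)).trans (map_sum t _ _))
    refine e1.trans (Eq.trans (Finset.sum_congr rfl fun j _ => ?_) e2.symm)
    refine (hφj j _).trans (congrArg t ?_)
    refine Eq.trans ?_ (Hmap_comp (biproduct.ι F j) (biproduct.desc φj : ⨁ F ⟶ ω) q _)
    exact congrArg (fun m => Sheaf.H.map ((SheafOfModules.toSheaf X.ringCatSheaf).map m) q _)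
      (biproduct.ι_desc φj j).symm
  · intro φ hφ
    apply biproduct.hom_ext'
    intro j
    rw [biproduct.ι_desc]
    apply huniq j
    intro y
    exact (hφ _).trans (congrArg t (Hmap_comp (biproduct.ι F j) φ q y).symm)

theorem IsDual.of_epi {E₀ E₁ F : X.Modules} (π : E₀ ⟶ F) [Epi π]
    (hπ : Function.Surjective (Sheaf.H.map ((SheafOfModules.toSheaf X.ringCatSheaf).map π) q))
    (ρ : E₁ ⟶ kernel π) [Epi ρ] (h₀ : IsDual A q t E₀) (h₁ : IsDual A q t E₁) :
    IsDual A q t F := by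
  intro ψ
  obtain ⟨φ₀, hφ₀, huniq₀⟩ := h₀ (ψ.comp (Canon.HHlin A π q))
  obtain ⟨φ₁, hφ₁, huniq₁⟩ := h₁ 0
  -- `φ₀` kills the kernel
  have hk : kernel.ι π ≫ φ₀ = 0 := by
    rw [← cancel_epi ρ, comp_zero]
    have h1 : ρ ≫ kernel.ι π ≫ φ₀ = φ₁ := by
      apply huniq₁
      intro y
      have e1 := hφ₀ (Sheaf.H.map ((SheafOfModules.toSheaf X.ringCatSheaf).map
        (ρ ≫ kernel.ι π)) q y)
      have e2 : (ψ.comp (Canon.HHlin A π q)) (Sheaf.H.map
          ((SheafOfModules.toSheaf X.ringCatSheaf).map (ρ ≫ kernel.ι π)) q y) = 0 := by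
        have e3 : Sheaf.H.map ((SheafOfModules.toSheaf X.ringCatSheaf).map π) q
            (Sheaf.H.map ((SheafOfModules.toSheaf X.ringCatSheaf).map (ρ ≫ kernel.ι π)) q y)
            = 0 := by
          refine (Hmap_comp (ρ ≫ kernel.ι π) π q y).symm.trans ?_
          have e4 : (ρ ≫ kernel.ι π) ≫ π = 0 := by
            rw [Category.assoc, kernel.condition, comp_zero]
          exact (congrArg (fun m => Sheaf.H.map ((SheafOfModules.toSheaf X.ringCatSheaf).map m)
            q y) e4).trans (Hmap_zero _ _ q y)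
        exact (congrArg ψ e3).trans (map_zero ψ)
      refine Eq.trans ?_ (congrArg t (Hmap_comp (ρ ≫ kernel.ι π) φ₀ q y).symm)
      refine Eq.trans ?_ e1
      exact e2.symm
    have h2 : (0 : E₁ ⟶ ω) = φ₁ := by
      apply huniq₁
      intro y
      exact ((congrArg t (Hmap_zero E₁ ω q y)).trans (map_zero t)).symm
    exact h1.trans h2.symm
  obtain ⟨φ, hφ⟩ := exists_desc_of_epi π φ₀ hk
  refine ⟨φ, ?_, ?_⟩
  · intro x
    obtain ⟨y, rfl⟩ := hπ x
    refine (hφ₀ y).trans (congrArg t ?_)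
    refine Eq.trans ?_ (Hmap_comp π φ q y)
    exact congrArg (fun m => Sheaf.H.map ((SheafOfModules.toSheaf X.ringCatSheaf).map m) q y)
      hφ.symm
  · intro φ' hφ'
    rw [← cancel_epi π, hφ]
    apply huniq₀
    intro y
    exact (hφ' _).trans (congrArg t (Hmap_comp π φ' q y).symm)

end Groth.Agent.Helper1.DualSh
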