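import Mathlib
import Groth.Prelude.Def_KLin
import Groth.Agent.Helper1.ExtDual1
import Groth.Agent.Helper1.DualSh1
import Groth.Agent.Helper1.HHLes2
import Groth.Agent.Helper1.HHLes3
import Groth.Agent.Helper1.EulerCoh
import Groth.Agent.Helper4.SN50

/-!
# ExtDual2: from a dualizing pair `(ω, t)` in top degree to `Extⁱ(F, ω) ≃ Hʳ⁻ⁱ(F)ᵛ`

`X` a scheme over a field `k`, `(ω, t)` a pair dualizing a class `𝒜` of modules in degree `r`,
such that every `F` in `𝒜` is a quotient `E → F` with `E` and the kernel in `𝒜`,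
`Extᵐ(E, ω) = 0` for `m ≥ 1` and `Hʲ(E) = 0` for `j < r`.  Then `Extⁱ(F, ω) ≃ₗ Hʳ⁻ⁱ(F)ᵛ` for
`i ≤ r` and `Extⁱ(F, ω) = 0` for `i > r`, for all `F` in `𝒜`.
-/

set_option autoImplicit false
set_option linter.style.haveILetI false
set_option linter.unusedSectionVars false

open CategoryTheory CategoryTheory.Limits Abelian AlgebraicGeometry
open Groth.Agent.Helper1.DualSh Groth.Agent.Helper1.HHLes

namespace Groth.Agent.Helper1.ExtDual

universe u

variable (k : Type u) [Field k] {X : Scheme.{u}} [X.Over (Spec (CommRingCat.of k))]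
  {ω : X.Modules} (r : ℕ) (t : Coh.HH X ω r →ₗ[k] k)

/-- `φ ↦ t ∘ Hʳ(φ)`, as a linear map -/
noncomputable def dualMapLin (F : X.Modules) :
    (F ⟶ ω) →ₗ[k] Module.Dual k (Coh.HH X F r) where
  toFun φ := t ∘ₗ Canon.HHlin k φ r
  map_add' φ ψ := by
    rw [Groth.Agent.Helper4.SN.HHlin_add, LinearMap.comp_add]
  map_smul' a φ := by
    rw [Groth.Agent.Helper4.SN.HHlin_smul, LinearMap.comp_smul]
    rfl

lemma dualMapLin_apply (F : X.Modules) (φ : F ⟶ ω) (x : Coh.HH X F r) :
    dualMapLin k r t F φ x = t (Canon.HHlin k φ r x) := rfl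

theorem bijective_dualMapLin {F : X.Modules} (h : IsDual k r t F) :
    Function.Bijective (dualMapLin k r t F) := by
  constructor
  · intro φ φ' hφ
    obtain ⟨φ₀, -, huniq⟩ := h (dualMapLin k r t F φ)
    have h1 : φ = φ₀ := huniq φ (fun x => rfl)
    have h2 : φ' = φ₀ := huniq φ' (fun x => LinearMap.congr_fun hφ x)
    rw [h1, h2]
  · intro ψ
    obtain ⟨φ₀, hφ₀, -⟩ := h ψ
    exact ⟨φ₀, LinearMap.ext (fun x => (hφ₀ x).symm)⟩

variable [HasExt.{u} X.Modules]

/-- `Ext⁰(F, ω) ≃ Hʳ(F)ᵛ` -/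
noncomputable def e₀ {F : X.Modules} (h : IsDual k r t F) :
    Ext.{u} F ω 0 ≃ₗ[k] Module.Dual k (Coh.HH X F r) :=
  (Ext.linearEquiv₀ (R := k)).trans (LinearEquiv.ofBijective _ (bijective_dualMapLin k r t h))

theorem e₀_mk₀ {F : X.Modules} (h : IsDual k r t F) (φ : F ⟶ ω) :
    e₀ k r t h (Ext.mk₀ φ) = dualMapLin k r t F φ := by
  have h1 : Ext.linearEquiv₀ (R := k) (Ext.mk₀ φ) = φ := by
    apply (Ext.mk₀_bijective _ _).1
    rw [Ext.mk₀_linearEquiv₀_apply]
  show dualMapLin k r t F (Ext.linearEquiv₀ (R := k) (Ext.mk₀ φ)) = _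
  rw [h1]

theorem e₀_nat {K E : X.Modules} (g : K ⟶ E) (hK : IsDual k r t K) (hE : IsDual k r t E)
    (x : Ext.{u} E ω 0) :
    e₀ k r t hK ((Ext.mk₀ g).comp x (zero_add 0)) =
      (Canon.HHlin k g r).dualMap (e₀ k r t hE x) := by
  obtain ⟨φ, rfl⟩ := (Ext.mk₀_bijective _ _).2 x
  rw [Ext.mk₀_comp_mk₀, e₀_mk₀, e₀_mk₀]
  apply LinearMap.ext
  intro y
  rw [LinearMap.dualMap_apply, dualMapLin_apply, dualMapLin_apply,
    Groth.Agent.Helper4.SN.HHlin_comp]
  rfl

theorem subsingleton_dual_of_subsingleton (V : Type u) [AddCommGroup V] [Module k V]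
    [Subsingleton V] : Subsingleton (Module.Dual k V) :=
  ⟨fun f g => LinearMap.ext (fun x => by rw [Subsingleton.elim x 0, map_zero, map_zero])⟩

/-- **the duality theorem in all degrees** -/
theorem main (𝒜 : X.Modules → Prop) (hdual : ∀ F, 𝒜 F → IsDual k r t F)
    (hpres : ∀ F, 𝒜 F → ∃ (E : X.Modules) (π : E ⟶ F), Epi π ∧ 𝒜 E ∧ 𝒜 (kernel π) ∧
      (∀ m : ℕ, 1 ≤ m → Subsingleton (Ext.{u} E ω m)) ∧
      (∀ j : ℕ, j < r → Subsingleton (Coh.HH X E j))) :
    ∀ (i : ℕ) (F : X.Modules), 𝒜 F →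
      (∀ j : ℕ, i + j = r → Nonempty (Ext.{u} F ω i ≃ₗ[k] Module.Dual k (Coh.HH X F j))) ∧
      (r < i → Subsingleton (Ext.{u} F ω i)) := by
  intro i
  induction i with
  | zero =>
    intro F hF
    refine ⟨fun j hj => ?_, fun h => absurd h (Nat.not_lt_zero _)⟩
    have hjr : j = r := by omega
    subst hjr
    exact ⟨e₀ k j t (hdual F hF)⟩
  | succ i ih =>
    intro F hF
    obtain ⟨E, π, hπ, hE, hK, hext, hhh⟩ := hpres F hF
    haveI := hπ
    have hS : (kerSC π).ShortExact := kerSC_shortExact π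
    have hsurj : Function.Surjective (δE k hS ω i) :=
      surjective_δE k hS ω i (hext (i + 1) (by omega))
    -- the connecting maps in cohomology
    have hdinj : ∀ j : ℕ, j < r → Function.Injective (δ k (kerSC π) hS j) := by
      intro j hj
      haveI := hhh j hj
      rw [injective_iff_map_eq_zero]
      intro x hx
      obtain ⟨y, rfl⟩ := (exact_g_δ k (kerSC π) hS j x).1 hx
      rw [Subsingleton.elim y 0, map_zero]
    have hdsurj : ∀ j : ℕ, j + 1 < r → Function.Surjective (δ k (kerSC π) hS j) := by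
      intro j hj y
      haveI := hhh (j + 1) hj
      exact (exact_δ_f k (kerSC π) hS j y).1 (Subsingleton.elim _ _)
    rcases i with _ | i
    · refine ⟨fun j hj => ?_, fun h => ?_⟩
      · have hr : r = j + 1 := by omega
        subst hr
        exact step_zero (aE k (S := kerSC π) ω 0) (δE k hS ω 0) hsurj (exact_aE_δE k hS ω 0)
          (δ k (kerSC π) hS j) (Canon.HHlin k (kerSC π).f (j + 1)) (hdinj j (by omega))
          (exact_δ_f k (kerSC π) hS j) (e₀ k (j + 1) t (hdual E hE))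
          (e₀ k (j + 1) t (hdual _ hK))
          (fun x => e₀_nat k (j + 1) t (kernel.ι π) (hdual _ hK) (hdual E hE) x)
      · have hr : r = 0 := by omega
        subst hr
        exact step_zero' (aE k (S := kerSC π) ω 0) (δE k hS ω 0) hsurj (exact_aE_δE k hS ω 0)
          (Canon.HHlin k (kerSC π).f 0)
          (Groth.Agent.Helper1.EulerCoh.injective_HHlin_zero (A := k) (kernel.ι π))
          (e₀ k 0 t (hdual E hE)) (e₀ k 0 t (hdual _ hK))
          (fun x => e₀_nat k 0 t (kernel.ι π) (hdual _ hK) (hdual E hE) x)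
    · have hinj : Function.Injective (δE k hS ω (i + 1)) :=
        injective_δE k hS ω (i + 1) (hext (i + 1) (by omega))
      let eδ : Ext.{u} (kernel π) ω (i + 1) ≃ₗ[k] Ext.{u} F ω (i + 1 + 1) :=
        LinearEquiv.ofBijective (δE k hS ω (i + 1)) ⟨hinj, hsurj⟩
      obtain ⟨ihA, ihB⟩ := ih (kernel π) hK
      refine ⟨fun j hj => ?_, fun h => ?_⟩
      · obtain ⟨e1⟩ := ihA (j + 1) (by omega)
        obtain ⟨e2⟩ := nonempty_dual_linearEquiv (δ k (kerSC π) hS j)
          ⟨hdinj j (by omega), hdsurj j (by omega)⟩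
        exact ⟨eδ.symm.trans (e1.trans e2)⟩
      · have h1 : Subsingleton (Ext.{u} (kernel π) ω (i + 1)) := by
          by_cases h' : r < i + 1
          · exact ihB h'
          · obtain ⟨e1⟩ := ihA 0 (by omega)
            haveI := hhh 0 (by omega)
            haveI : Subsingleton (Coh.HH X (kernel π) 0) :=
              (Groth.Agent.Helper1.EulerCoh.injective_HHlin_zero (A := k) (kernel.ι π)).subsingleton
            haveI := subsingleton_dual_of_subsingleton k (Coh.HH X (kernel π) 0)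
            exact e1.toEquiv.subsingleton
        exact eδ.symm.toEquiv.subsingleton

end Groth.Agent.Helper1.ExtDual
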