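import Mathlib
import Groth.Agent.Helper1.ExtTw1
import Groth.Agent.Helper1.KzLin3
import Groth.Agent.Helper1.PSB1
import Groth.Agent.Helper1.ProjTop8

/-!
# ExtTw2: `Ext^n(O(a), G) ≃+ H^n(O(-a) ⊗ G)` on projective space, and the vanishing of
`Ext^n(O(a), O(b))`
-/

set_option autoImplicit false
universe u
open CategoryTheory CategoryTheory.Limits Abelian AlgebraicGeometry
open Groth.Agent.Helper9.TensorFlat

namespace Groth.Agent.Helper1.ExtTw

section scheme

variable {X : Scheme.{u}}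

/-- **`Ext^n(L, G) ≃+ H^n(X, M ⊗ G)` when `L ⊗ M ≅ O_X`** (schemes) -/
theorem nonempty_ext_addEquiv_scheme [inst : HasExt.{u} X.Modules] (L M : X.Modules)
    (e : CohB1.tensorMod L M ≅ Coh.structureModule X) (G : X.Modules) (n : ℕ) :
    Nonempty (Ext.{u} L G n ≃+ Coh.HH X (CohB1.tensorMod M G) n) :=
  @nonempty_ext_addEquiv _ _ _ X.sheaf inst L M e G n

end scheme

variable (r : ℕ) (R : Type u) [CommRing R]

/-- `O(a) ⊗ O(-a) ≅ O` -/
theorem nonempty_twist_neg_iso (a : ℤ) :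
    Nonempty (CohB1.tensorMod (Twist.twistProjSpace r R a) (Twist.twistProjSpace r R (-a)) ≅
      Coh.structureModule (CohB1.ProjSpace r R)) := by
  obtain ⟨e⟩ := Groth.Agent.Helper1.TwistMul.nonempty_twist_tensor_twist_iso
    (CohB1.polyGrading r R) (Groth.Agent.Helper1.SerreFin.hcov_poly r R) a (-a) 0 (by ring)
  obtain ⟨e0⟩ := Groth.Agent.Helper1.KzLin.tw_zero r R
  exact ⟨e ≪≫ e0⟩

/-- **`Ext^n(O(a), G) ≃+ H^n(O(-a) ⊗ G)`** -/
theorem nonempty_ext_twist_addEquiv [HasExt.{u} (CohB1.ProjSpace r R).Modules] (a : ℤ)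
    (G : (CohB1.ProjSpace r R).Modules) (n : ℕ) :
    Nonempty (Ext.{u} (Twist.twistProjSpace r R a) G n ≃+
      Coh.HH (CohB1.ProjSpace r R) (CohB1.tensorMod (Twist.twistProjSpace r R (-a)) G) n) := by
  obtain ⟨e⟩ := nonempty_twist_neg_iso r R a
  exact nonempty_ext_addEquiv_scheme _ _ e G n

/-- **`Ext^n(O(a), O(b)) ≃+ H^n(O(b - a))`** -/
theorem nonempty_ext_twist_twist_addEquiv [HasExt.{u} (CohB1.ProjSpace r R).Modules] (a b c : ℤ)
    (hc : c = b - a) (n : ℕ) :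
    Nonempty (Ext.{u} (Twist.twistProjSpace r R a) (Twist.twistProjSpace r R b) n ≃+
      Coh.HH (CohB1.ProjSpace r R) (Twist.twistProjSpace r R c) n) := by
  obtain ⟨e⟩ := nonempty_ext_twist_addEquiv r R a (Twist.twistProjSpace r R b) n
  obtain ⟨t⟩ := Groth.Agent.Helper1.TwistMul.nonempty_twist_tensor_twist_iso
    (CohB1.polyGrading r R) (Groth.Agent.Helper1.SerreFin.hcov_poly r R) (-a) b c (by omega)
  have t' : CohB1.tensorMod (Twist.twistProjSpace r R (-a)) (Twist.twistProjSpace r R b) ≅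
    Twist.twistProjSpace r R c := t
  exact ⟨e.trans (Groth.Agent.Helper1.ProjTop.HHlinEquiv R t' n).toAddEquiv⟩

/-- the vanishing ranges of `Ext^n(O(a), O(b))` on `P^r_R` -/
theorem subsingleton_ext_twist_twist [HasExt.{u} (CohB1.ProjSpace r R).Modules] (a b : ℤ) (n : ℕ)
    (h : ¬ ((n = 0 ∧ a ≤ b) ∨ (n = r ∧ b - a ≤ -((r : ℤ) + 1)))) :
    Subsingleton (Ext.{u} (Twist.twistProjSpace r R a) (Twist.twistProjSpace r R b) n) := by
  obtain ⟨e⟩ := nonempty_ext_twist_twist_addEquiv r R a b (b - a) rfl n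
  have := Groth.Agent.Helper1.PSB.subsingleton_HH r R (b - a) n (by
    rintro (⟨h1, h2⟩ | ⟨h1, h2⟩)
    · exact h (Or.inl ⟨h1, by omega⟩)
    · exact h (Or.inr ⟨h1, h2⟩))
  exact e.toEquiv.subsingleton

end Groth.Agent.Helper1.ExtTw
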