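import Mathlib
import Groth.Agent.Helper1.DualSh1

set_option autoImplicit false
set_option linter.unusedSectionVars false
set_option linter.style.haveILetI false

/-!
# Surjectivity of `H^q(E) → H^q(F)` for an epimorphism whose kernel has no `H^{q+1}`
-/

namespace Groth.Agent.Helper1.DualSh

open CategoryTheory AlgebraicGeometry Limits Opposite

universe u

variable (A : Type u) [CommRing A] {X : Scheme.{u}} [X.Over (Spec (CommRingCat.of A))]

include A in
theorem surjective_Hmap_of_epi {E F : X.Modules} (π : E ⟶ F) [Epi π] (q : ℕ)
    (hK : Subsingleton (Coh.HH X (kernel π) (q + 1))) :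
    Function.Surjective (Sheaf.H.map ((SheafOfModules.toSheaf X.ringCatSheaf).map π) q) := by
  let S : ShortComplex X.Modules := ShortComplex.mk (kernel.ι π) π (kernel.condition π)
  have hS : S.ShortExact :=
    { exact := ShortComplex.exact_kernel π
      mono_f := inferInstanceAs (Mono (kernel.ι π))
      epi_g := inferInstanceAs (Epi π) }
  intro x
  have h0 : Groth.Agent.Helper1.HHLes.δ A S hS q x = 0 := @Subsingleton.elim _ hK _ _
  obtain ⟨y, hy⟩ := (Groth.Agent.Helper1.HHLes.exact_g_δ A S hS q x).1 h0
  exact ⟨y, hy⟩

end Groth.Agent.Helper1.DualSh
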