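import Mathlib
import Groth.Prelude.Def_GrMod2
import Groth.Prelude.Def_KoszTw
import Groth.Agent.Helper1.TwistMul4

set_option autoImplicit false
set_option linter.unusedSectionVars false

/-!
# Multiplication by a global section of `A(n)~`, as a morphism `M(m)~ ⟶ M(m+n)~`
-/

namespace Groth.Agent.Helper1.PnDual

open CategoryTheory AlgebraicGeometry TopologicalSpace Opposite
open Groth.Agent.Helper1.GrT Groth.Agent.Helper1.ProjO Groth.Agent.Helper1.TwistMul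
open Groth.Agent.Helper4.TensorLift

universe u

section general

variable {X : Scheme.{u}}

/-- the inverse of the right unitor on sections: `t ↦ t ⊗ 1` -/
theorem unitorR_inv_app (F : X.Modules) (U : X.Opens) (t : Γ(F, U)) :
    (SecTwist.unitorR F).inv.app U t =
      SecTwist.tmul F (Coh.structureModule X) U t (1 : Γ(X, U)) := by
  have h : (SecTwist.unitorR F).hom.app U
      (SecTwist.tmul F (Coh.structureModule X) U t (1 : Γ(X, U))) = t :=
    (SecTwist.unitorR_tmul F U t (1 : X.ringCatSheaf.obj.obj (op U))).trans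
      (one_smul (X.ringCatSheaf.obj.obj (op U)) (show F.val.obj (op U) from t))
  have h2 : (SecTwist.unitorR F).inv.app U ((SecTwist.unitorR F).hom.app U
      (SecTwist.tmul F (Coh.structureModule X) U t (1 : Γ(X, U)))) =
      SecTwist.tmul F (Coh.structureModule X) U t (1 : Γ(X, U)) := by
    have h3 : ((SecTwist.unitorR F).hom ≫ (SecTwist.unitorR F).inv).app U
        (SecTwist.tmul F (Coh.structureModule X) U t (1 : Γ(X, U))) =
        SecTwist.tmul F (Coh.structureModule X) U t (1 : Γ(X, U)) := by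
      rw [Iso.hom_inv_id]
      rfl
    exact h3
  rw [h] at h2
  exact h2

end general

variable {R A : Type u} [CommRing R] [CommRing A] [Algebra R A] (𝒜 : ℕ → Submodule R A)
  [GradedAlgebra 𝒜]
variable {M : Type u} [AddCommGroup M] [Module R M] [Module A M] [IsScalarTower R A M]
  (ℳ : ℕ → Submodule R M) [DirectSum.Decomposition ℳ] [SetLike.GradedSMul 𝒜 ℳ]

/-- multiplication by a global section of `A(n)~` -/
noncomputable def mulHom (m n k : ℤ) (hk : k = m + n) (F : GrTilde.sect 𝒜 𝒜 n (op ⊤)) :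
    GrTilde.tilde 𝒜 ℳ m ⟶ GrTilde.tilde 𝒜 ℳ k :=
  (SecTwist.unitorR (GrTilde.tilde 𝒜 ℳ m)).inv ≫
    KoszTw.tensorMap (𝟙 (GrTilde.tilde 𝒜 ℳ m))
      (Groth.Agent.Lead.LocLift.homOfTop (GrTilde.tilde 𝒜 𝒜 n) F) ≫
    (bil 𝒜 ℳ m n k hk).lift

theorem mulHom_app (m n k : ℤ) (hk : k = m + n) (F : GrTilde.sect 𝒜 𝒜 n (op ⊤))
    (V : (Proj 𝒜).Opens) (s : Γ(GrTilde.tilde 𝒜 ℳ m, V)) :
    (mulHom 𝒜 ℳ m n k hk F).app V s =
      mulSect 𝒜 ℳ m n k hk V s (GrTilde.res 𝒜 𝒜 n (homOfLE (le_top : V ≤ ⊤)).op F) := by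
  unfold mulHom
  rw [Scheme.Modules.Hom.comp_app, Scheme.Modules.Hom.comp_app]
  show (bil 𝒜 ℳ m n k hk).lift.app V ((KoszTw.tensorMap (𝟙 (GrTilde.tilde 𝒜 ℳ m))
    (Groth.Agent.Lead.LocLift.homOfTop (GrTilde.tilde 𝒜 𝒜 n) F)).app V
      ((SecTwist.unitorR (GrTilde.tilde 𝒜 ℳ m)).inv.app V s)) = _
  rw [unitorR_inv_app, KoszTw.tensorMap_tmul, Bil.lift_tmul,
    Groth.Agent.Helper1.EpiDesc.homOfTop_app, one_smul]
  rfl

theorem val_mulHom_app (m n k : ℤ) (hk : k = m + n) (F : GrTilde.sect 𝒜 𝒜 n (op ⊤))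
    (V : (Proj 𝒜).Opens) (s : Γ(GrTilde.tilde 𝒜 ℳ m, V)) (y : ProjectiveSpectrum.top 𝒜)
    (hy : y ∈ V) :
    val (𝒜 := 𝒜) (ℳ := ℳ) (n := k) (U := V) ((mulHom 𝒜 ℳ m n k hk F).app V s) y hy =
      toLoc 𝒜 y (val F y trivial) • val (𝒜 := 𝒜) (ℳ := ℳ) (n := m) (U := V) s y hy := by
  rw [mulHom_app]
  rfl

end Groth.Agent.Helper1.PnDual
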