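import Mathlib
import Groth.Agent.Helper1.PnDual1
import Groth.Agent.Helper4.StalkExact

set_option autoImplicit false
set_option linter.unusedSectionVars false

/-!
# Every morphism `A(m)~ ⟶ A(k)~` is multiplication by a global section of `A(k-m)~`
(when `A(m)~` is locally generated by invertible fractions)
-/

namespace Groth.Agent.Helper1.PnDual

open CategoryTheory AlgebraicGeometry TopologicalSpace Opposite
open Groth.Agent.Helper1.GrT Groth.Agent.Helper1.ProjO Groth.Agent.Helper1.TwistMul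
open Groth.Agent.Helper4.TensorLift

universe u

variable {R A : Type u} [CommRing R] [CommRing A] [Algebra R A] (𝒜 : ℕ → Submodule R A)
  [GradedAlgebra 𝒜]
variable (m k n : ℤ) (hk : k = m + n)
  (φ : GrTilde.tilde 𝒜 𝒜 m ⟶ GrTilde.tilde 𝒜 𝒜 k)

/-- the local multiplier of `φ` attached to an invertible section -/
noncomputable def locF {W : (Proj 𝒜).Opens} (P : InvPair 𝒜 m W) : GrTilde.sect 𝒜 𝒜 n (op W) :=
  mulSect 𝒜 𝒜 k (-m) n (by omega) W (φ.app W P.eΓ) P.e'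

include hk in
/-- `φ` is multiplication by the local multiplier -/
lemma val_app_eq {W : (Proj 𝒜).Opens} (P : InvPair 𝒜 m W) (V : (Proj 𝒜).Opens) (hV : V ≤ W)
    (s : Γ(GrTilde.tilde 𝒜 𝒜 m, V)) (y : Proj 𝒜) (hy : y ∈ V) :
    toLoc 𝒜 y (val (𝒜 := 𝒜) (ℳ := 𝒜) (n := k) (U := V) (φ.app V s) y hy) =
      toLoc 𝒜 y (val (𝒜 := 𝒜) (ℳ := 𝒜) (n := m) (U := V) s y hy) *
        toLoc 𝒜 y (val (locF 𝒜 m k n hk φ P) y (hV hy)) := by
  have h1 := (P.res hV).eq_smul s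
  have h2 : φ.app V s = (toO 𝒜 V (mulSect 𝒜 𝒜 m (-m) 0 (by omega) V s (P.res hV).e') :
      Γ(Proj 𝒜, V)) • φ.app V (P.res hV).eΓ := by
    conv_lhs => rw [h1]
    exact Scheme.Modules.Hom.app_smul φ _ _
  have h3 : φ.app V (P.res hV).eΓ =
      (GrTilde.tilde 𝒜 𝒜 k).presheaf.map (homOfLE hV).op (φ.app W P.eΓ) :=
    Groth.Agent.Helper4.StalkExact.app_res φ (homOfLE hV) P.eΓ
  rw [h2, h3]
  refine (congrArg (toLoc 𝒜 y) (val_smul 𝒜 𝒜 k V _ _ y hy)).trans ?_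
  rw [toLoc_smul, evO_toO, val_mulSect, toLoc_smul]
  show _ * toLoc 𝒜 y (val (φ.app W P.eΓ) y (hV hy)) = _
  unfold locF
  rw [val_mulSect, toLoc_smul]
  show toLoc 𝒜 y (val P.e' y (hV hy)) * toLoc 𝒜 y (val s y hy) * _ = _
  ring

include hk in
/-- the local multipliers agree on overlaps -/
lemma locF_indep {W W' : (Proj 𝒜).Opens} (P : InvPair 𝒜 m W) (P' : InvPair 𝒜 m W')
    (y : Proj 𝒜) (hy : y ∈ W) (hy' : y ∈ W') :
    val (locF 𝒜 m k n hk φ P) y hy = val (locF 𝒜 m k n hk φ P') y hy' := by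
  have h1 := val_app_eq 𝒜 m k n hk φ P (W ⊓ W') inf_le_left
    (P.res (inf_le_left : W ⊓ W' ≤ W)).eΓ y ⟨hy, hy'⟩
  have h2 := val_app_eq 𝒜 m k n hk φ P' (W ⊓ W') inf_le_right
    (P.res (inf_le_left : W ⊓ W' ≤ W)).eΓ y ⟨hy, hy'⟩
  have h3 := h1.symm.trans h2
  have h4 := congrArg (fun z => toLoc 𝒜 y (val P.e' y hy) * z) h3
  beta_reduce at h4
  have h5 : ∀ z : Twist.Loc 𝒜 y, toLoc 𝒜 y (val P.e' y hy) *
      (toLoc 𝒜 y (val (𝒜 := 𝒜) (ℳ := 𝒜) (n := m) (U := W ⊓ W')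
        (P.res (inf_le_left : W ⊓ W' ≤ W)).eΓ y ⟨hy, hy'⟩) * z) = z := by
    intro z
    rw [← mul_assoc]
    have : toLoc 𝒜 y (val P.e' y hy) * toLoc 𝒜 y (val (𝒜 := 𝒜) (ℳ := 𝒜) (n := m) (U := W ⊓ W')
        (P.res (inf_le_left : W ⊓ W' ≤ W)).eΓ y ⟨hy, hy'⟩) = 1 := P.mul' y hy
    rw [this, one_mul]
  exact (h5 _).symm.trans (h4.trans (h5 _))

variable (hcov : ∀ p : Proj 𝒜, ∃ W : (Proj 𝒜).Opens, p ∈ W ∧ Nonempty (InvPair 𝒜 m W))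

/-- the chosen neighbourhoods -/
noncomputable def WW (p : Proj 𝒜) : (Proj 𝒜).Opens := (hcov p).choose

lemma mem_WW (p : Proj 𝒜) : p ∈ WW 𝒜 m hcov p := (hcov p).choose_spec.1

noncomputable def PP (p : Proj 𝒜) : InvPair 𝒜 m (WW 𝒜 m hcov p) := (hcov p).choose_spec.2.some

/-- the global multiplier of `φ`, as a function -/
noncomputable def globFun (x : ((⊤ : Opens (ProjectiveSpectrum.top 𝒜)))) :
    GrTilde.tildeAt 𝒜 𝒜 n x.1 :=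
  (locF 𝒜 m k n hk φ (PP 𝒜 m hcov x.1)).1 ⟨x.1, mem_WW 𝒜 m hcov x.1⟩

lemma globFun_pred : (GrTilde.isLocFrac 𝒜 𝒜 n).pred (globFun 𝒜 m k n hk φ hcov) := by
  apply (GrTilde.isLocFrac 𝒜 𝒜 n).locality
  intro x
  refine ⟨WW 𝒜 m hcov x.1, mem_WW 𝒜 m hcov x.1, homOfLE le_top, ?_⟩
  have h : (fun y : (WW 𝒜 m hcov x.1 : Opens (ProjectiveSpectrum.top 𝒜)) =>
      globFun 𝒜 m k n hk φ hcov ⟨y.1, trivial⟩) =
      (locF 𝒜 m k n hk φ (PP 𝒜 m hcov x.1)).1 := by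
    funext y
    apply Subtype.ext
    exact locF_indep 𝒜 m k n hk φ (PP 𝒜 m hcov y.1) (PP 𝒜 m hcov x.1) y.1
      (mem_WW 𝒜 m hcov y.1) y.2
  have h2 : (GrTilde.isLocFrac 𝒜 𝒜 n).pred (locF 𝒜 m k n hk φ (PP 𝒜 m hcov x.1)).1 :=
    (locF 𝒜 m k n hk φ (PP 𝒜 m hcov x.1)).2
  rw [← h] at h2
  exact h2

/-- the global multiplier of `φ` -/
noncomputable def globF : GrTilde.sect 𝒜 𝒜 n (op ⊤) :=
  ⟨globFun 𝒜 m k n hk φ hcov, globFun_pred 𝒜 m k n hk φ hcov⟩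

lemma val_globF {W : (Proj 𝒜).Opens} (P : InvPair 𝒜 m W) (y : Proj 𝒜) (hy : y ∈ W) :
    val (globF 𝒜 m k n hk φ hcov) y trivial = val (locF 𝒜 m k n hk φ P) y hy :=
  locF_indep 𝒜 m k n hk φ (PP 𝒜 m hcov y) P y (mem_WW 𝒜 m hcov y) hy

/-- **every morphism `A(m)~ ⟶ A(k)~` is multiplication by a global section of `A(k-m)~`** -/
theorem eq_mulHom : φ = mulHom 𝒜 𝒜 m n k hk (globF 𝒜 m k n hk φ hcov) := by
  apply Scheme.Modules.hom_ext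
  intro U
  ext s
  apply sect_ext (𝒜 := 𝒜) (ℳ := 𝒜) (n := k) (U := U)
  intro y hy
  refine Eq.trans ?_ (val_mulHom_app 𝒜 𝒜 m n k hk _ U s y hy).symm
  have hyV : y ∈ U ⊓ WW 𝒜 m hcov y := ⟨hy, mem_WW 𝒜 m hcov y⟩
  have h1 := val_app_eq 𝒜 m k n hk φ (PP 𝒜 m hcov y) (U ⊓ WW 𝒜 m hcov y) inf_le_right
    ((GrTilde.tilde 𝒜 𝒜 m).presheaf.map (homOfLE (inf_le_left : U ⊓ WW 𝒜 m hcov y ≤ U)).op s)
    y hyV
  rw [Groth.Agent.Helper4.StalkExact.app_res φ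
    (homOfLE (inf_le_left : U ⊓ WW 𝒜 m hcov y ≤ U)) s] at h1
  rw [val_globF 𝒜 m k n hk φ hcov (PP 𝒜 m hcov y) y (mem_WW 𝒜 m hcov y)]
  refine h1.trans ?_
  rw [mul_comm]
  rfl

end Groth.Agent.Helper1.PnDual
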