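import Mathlib
import Groth.Agent.Helper1.KoszulPoly2

/-!
# The reflection maps `Φ n` on a polynomial ring and homogeneity
-/

set_option autoImplicit false

namespace Groth.Agent.Helper1.PolyTop

open MvPolynomial Groth.Agent.Helper1.KoszulPoly

universe u
variable {σ : Type} [Fintype σ] [DecidableEq σ] {R : Type u} [CommRing R]

lemma degree_ρ (n : ℕ) (γ : σ →₀ ℕ) (hγ : γ ∈ box σ n) :
    Finsupp.degree (ρ n γ) + Finsupp.degree γ = (n - 1) * Fintype.card σ := by
  rw [mem_box] at hγ
  rw [Finsupp.degree_eq_sum, Finsupp.degree_eq_sum, ← Finset.sum_add_distrib]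
  have : ∀ j ∈ (Finset.univ : Finset σ), ρ n γ j + γ j = n - 1 := by
    intro j _
    rw [ρ_apply]
    have := hγ j
    omega
  rw [Finset.sum_congr rfl this, Finset.sum_const, Finset.card_univ, smul_eq_mul, mul_comm]

lemma isHomogeneous_iff_degree (p : MvPolynomial σ R) (D : ℕ) :
    p.IsHomogeneous D ↔ ∀ d, coeff d p ≠ 0 → Finsupp.degree d = D := by
  constructor
  · intro h d hd
    by_contra hne
    exact hd (h.coeff_eq_zero hne)
  · intro h d hd
    have := h d hd
    rw [Finsupp.degree_eq_weight_one] at this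
    exact this

/-- `Φ n` maps homogeneous polynomials of degree `D` to homogeneous polynomials of degree
`(n - 1) * |σ| - D` -/
lemma isHomogeneous_Φ (n : ℕ) (p : MvPolynomial σ R) {D E : ℕ} (hp : p.IsHomogeneous D)
    (hDE : D + E = (n - 1) * Fintype.card σ) : (Φ n p).IsHomogeneous E := by
  rw [isHomogeneous_iff_degree]
  intro d hd
  rw [coeff_Φ] at hd
  split_ifs at hd with hbox
  · have h1 := (isHomogeneous_iff_degree p D).1 hp _ hd
    have h2 := degree_ρ n d hbox
    omega
  · exact absurd rfl hd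

/-- `Φ n` kills homogeneous polynomials of large degree -/
lemma Φ_eq_zero_of_large (n : ℕ) (p : MvPolynomial σ R) {D : ℕ} (hp : p.IsHomogeneous D)
    (hD : (n - 1) * Fintype.card σ < D) : Φ n p = 0 := by
  ext d
  rw [coeff_Φ, coeff_zero]
  split_ifs with hbox
  · by_contra hne
    have h1 := (isHomogeneous_iff_degree p D).1 hp _ hne
    have h2 := degree_ρ n d hbox
    omega
  · rfl

variable [Nonempty σ]

lemma Φ_X_pow_mul (n : ℕ) (j : σ) (q : MvPolynomial σ R) : Φ n (X j ^ n * q) = 0 := by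
  rw [Φ_eq_zero_iff_mem]
  exact Ideal.mul_mem_right _ _ (Ideal.subset_span ⟨j, rfl⟩)

/-- a homogeneous polynomial killed by `Φ n` is a combination of the `X j ^ n` with homogeneous
coefficients -/
lemma exists_homogeneous_decomp (n : ℕ) (p : MvPolynomial σ R) {D E : ℕ} (hp : p.IsHomogeneous D)
    (hDE : D = E + n) (h0 : Φ n p = 0) :
    ∃ c : σ → MvPolynomial σ R, (∀ j, (c j).IsHomogeneous E) ∧ p = ∑ j, c j * X j ^ n := by
  classical
  letI : GradedAlgebra (homogeneousSubmodule σ R) := MvPolynomial.gradedAlgebra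
  rw [Φ_eq_zero_iff_mem, Ideal.mem_span_range_iff_exists_fun] at h0
  obtain ⟨c', hc'⟩ := h0
  refine ⟨fun j => (DirectSum.decompose (homogeneousSubmodule σ R) (c' j) E : MvPolynomial σ R),
    fun j => (mem_homogeneousSubmodule _ _).1 (Subtype.mem _), ?_⟩
  have h1 : (DirectSum.decompose (homogeneousSubmodule σ R) p D : MvPolynomial σ R) = p :=
    DirectSum.decompose_of_mem_same _ ((mem_homogeneousSubmodule _ _).2 hp)
  rw [← h1, ← hc', DirectSum.decompose_sum, DFinsupp.finset_sum_apply,
    AddSubmonoidClass.coe_finset_sum]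
  apply Finset.sum_congr rfl
  intro j _
  have h2 := DirectSum.coe_decompose_mul_of_right_mem (homogeneousSubmodule σ R) (a := c' j)
    (b := X j ^ n) (i := n) D ((mem_homogeneousSubmodule _ _).2 (isHomogeneous_X_pow j n))
  rw [h2, if_pos (by omega)]
  have : D - n = E := by omega
  rw [this]

/-- surjectivity of `Φ` onto homogeneous polynomials -/
lemma exists_Φ_eq (q : MvPolynomial σ R) {E : ℕ} (hq : q.IsHomogeneous E) :
    ∃ n₀ : ℕ, ∀ n, n₀ ≤ n → ∃ (m : MvPolynomial σ R) (D : ℕ),
      D + E = (n - 1) * Fintype.card σ ∧ m.IsHomogeneous D ∧ Φ n m = q := by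
  obtain ⟨n₀, hn₀⟩ := exists_box q
  refine ⟨n₀ + E + 1, fun n hn => ?_⟩
  have hbox : ∀ β ∈ q.support, β ∈ box σ n := by
    intro β hβ
    have := hn₀ β hβ
    rw [mem_box] at this ⊢
    intro j
    have := this j
    omega
  have hE : E ≤ (n - 1) * Fintype.card σ := by
    have h1 : 1 ≤ Fintype.card σ := Fintype.card_pos
    have h2 : E ≤ n - 1 := by omega
    calc E ≤ n - 1 := h2
      _ = (n - 1) * 1 := (mul_one _).symm
      _ ≤ (n - 1) * Fintype.card σ := Nat.mul_le_mul_left _ h1
  refine ⟨Φ n q, (n - 1) * Fintype.card σ - E, by omega, ?_, Φ_Φ n q hbox⟩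
  exact isHomogeneous_Φ n q hq (by omega)

end Groth.Agent.Helper1.PolyTop
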