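import Mathlib
import Groth.Agent.Helper1.PolyTop1

/-!
# The principal part map on the localisation of a polynomial ring at the product of the variables
-/

set_option autoImplicit false
set_option linter.unusedSectionVars false

namespace Groth.Agent.Helper1.PolyTop

open MvPolynomial Groth.Agent.Helper1.KoszulPoly

universe u
variable {σ : Type} [Fintype σ] [DecidableEq σ] [Nonempty σ] {R : Type u} [CommRing R]

/-- the product of the variables -/
noncomputable def gAll (σ : Type) [Fintype σ] (R : Type u) [CommRing R] : MvPolynomial σ R :=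
  ∏ j : σ, (X j : MvPolynomial σ R)

lemma gAll_pow_mul_eq_zero (N : ℕ) (m : MvPolynomial σ R) (h : gAll σ R ^ N * m = 0) : m = 0 := by
  unfold gAll at h
  rw [prod_X, monomial_pow, one_pow] at h
  ext β
  have := congrArg (coeff (N • ones σ + β)) h
  rw [coeff_monomial_mul, one_mul, coeff_zero] at this
  rw [this, coeff_zero]

variable {L : Type u} [AddCommGroup L] [Module (MvPolynomial σ R) L]
  (τ : MvPolynomial σ R →ₗ[MvPolynomial σ R] L)
  [IsLocalizedModule (Submonoid.powers (gAll σ R)) τ]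

lemma τ_injective : Function.Injective τ := by
  rw [injective_iff_map_eq_zero]
  intro m hm
  rw [IsLocalizedModule.eq_zero_iff (Submonoid.powers (gAll σ R))] at hm
  obtain ⟨⟨_, N, rfl⟩, h⟩ := hm
  exact gAll_pow_mul_eq_zero N m h

lemma exists_rep (v : L) : ∃ (k : ℕ) (m : MvPolynomial σ R), gAll σ R ^ k • v = τ m := by
  obtain ⟨⟨m, ⟨_, k, rfl⟩⟩, h⟩ := IsLocalizedModule.surj (Submonoid.powers (gAll σ R)) τ v
  exact ⟨k, m, h⟩

/-- the principal part of an element of the localisation -/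
noncomputable def Ψ (v : L) : MvPolynomial σ R :=
  Φ (exists_rep τ v).choose (exists_rep τ v).choose_spec.choose

lemma Ψ_eq (v : L) (k : ℕ) (m : MvPolynomial σ R) (h : gAll σ R ^ k • v = τ m) :
    Ψ τ v = Φ k m := by
  unfold Ψ
  set k₀ := (exists_rep τ v).choose
  set m₀ := (exists_rep τ v).choose_spec.choose
  have h₀ : gAll σ R ^ k₀ • v = τ m₀ := (exists_rep τ v).choose_spec.choose_spec
  have h1 : gAll σ R ^ k * m₀ = gAll σ R ^ k₀ * m := by
    apply τ_injective τ
    rw [← smul_eq_mul, ← smul_eq_mul, map_smul, map_smul, ← h₀, ← h, smul_smul, smul_smul,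
      mul_comm]
  have e1 := Φ_prod_pow_mul (A := R) k₀ (k₀ + k) (Nat.le_add_right _ _) m₀
  have e2 := Φ_prod_pow_mul (A := R) k (k₀ + k) (Nat.le_add_left _ _) m
  rw [Nat.add_sub_cancel_left] at e1
  rw [Nat.add_sub_cancel] at e2
  rw [← e1, ← e2]
  exact congrArg _ h1

lemma Ψ_add (v w : L) : Ψ τ (v + w) = Ψ τ v + Ψ τ w := by
  obtain ⟨k, m, h⟩ := exists_rep τ v
  obtain ⟨k', m', h'⟩ := exists_rep τ w
  have h2 : gAll σ R ^ (k + k') • (v + w) = τ (gAll σ R ^ k' * m + gAll σ R ^ k * m') := by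
    rw [smul_add, map_add, ← smul_eq_mul, ← smul_eq_mul, map_smul, map_smul, ← h, ← h', smul_smul,
      smul_smul, ← pow_add, ← pow_add, add_comm k' k]
  rw [Ψ_eq τ _ _ _ h2, Ψ_eq τ _ _ _ h, Ψ_eq τ _ _ _ h', map_add]
  congr 1
  · have := Φ_prod_pow_mul (A := R) k (k + k') (Nat.le_add_right _ _) m
    rw [Nat.add_sub_cancel_left] at this
    exact this
  · have := Φ_prod_pow_mul (A := R) k' (k + k') (Nat.le_add_left _ _) m'
    rw [Nat.add_sub_cancel] at this
    exact this

lemma Ψ_zero : Ψ τ (0 : L) = 0 := by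
  have h : gAll σ R ^ 0 • (0 : L) = τ 0 := by simp
  rw [Ψ_eq τ _ _ _ h, map_zero]

/-- `Ψ` as an additive map -/
noncomputable def ΨHom : L →+ MvPolynomial σ R where
  toFun := Ψ τ
  map_zero' := Ψ_zero τ
  map_add' := Ψ_add τ

lemma Ψ_C_smul (a : R) (v : L) : Ψ τ ((C a : MvPolynomial σ R) • v) = a • Ψ τ v := by
  obtain ⟨k, m, h⟩ := exists_rep τ v
  have h2 : gAll σ R ^ k • ((C a : MvPolynomial σ R) • v) = τ (C a * m) := by
    rw [smul_comm, h, ← smul_eq_mul, map_smul]
  rw [Ψ_eq τ _ _ _ h2, Ψ_eq τ _ _ _ h, Φ_C_mul]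

end Groth.Agent.Helper1.PolyTop
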