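import Mathlib
import Groth.Agent.Helper1.PolyTop2

set_option autoImplicit false
set_option linter.unusedSectionVars false

/-!
# The residue pairing on a polynomial ring
-/

namespace Groth.Agent.Helper1.PnDual

open MvPolynomial Groth.Agent.Helper1.KoszulPoly Groth.Agent.Helper1.PolyTop

universe u
variable {σ : Type} [Fintype σ] [DecidableEq σ] [Nonempty σ] {R : Type u} [CommRing R]

/-- the exponents of degree `n` -/
noncomputable def II (σ : Type) [Fintype σ] [DecidableEq σ] (n : ℕ) : Finset (σ →₀ ℕ) :=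
  (box σ (n + 1)).filter (fun a => Finsupp.degree a = n)

lemma mem_II (n : ℕ) (a : σ →₀ ℕ) : a ∈ II σ n ↔ Finsupp.degree a = n := by
  unfold II
  rw [Finset.mem_filter, mem_box]
  constructor
  · exact fun h => h.2
  · intro h
    refine ⟨fun j => ?_, h⟩
    have h1 : a j ≤ Finsupp.degree a := by
      rw [Finsupp.degree_eq_sum]
      exact Finset.single_le_sum (f := fun j => a j) (fun i _ => Nat.zero_le _) (Finset.mem_univ j)
    omega

/-- the coefficientwise pairing in degree `n` -/
noncomputable def BB (n : ℕ) (f q : MvPolynomial σ R) : R :=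
  ∑ a ∈ II σ n, coeff a f * coeff a q

lemma BB_add_left (n : ℕ) (f f' q : MvPolynomial σ R) :
    BB n (f + f') q = BB n f q + BB n f' q := by
  unfold BB
  rw [← Finset.sum_add_distrib]
  refine Finset.sum_congr rfl fun a _ => ?_
  rw [coeff_add, add_mul]

lemma BB_sub_left (n : ℕ) (f f' q : MvPolynomial σ R) :
    BB n (f - f') q = BB n f q - BB n f' q := by
  unfold BB
  rw [← Finset.sum_sub_distrib]
  refine Finset.sum_congr rfl fun a _ => ?_
  rw [coeff_sub, sub_mul]

lemma BB_monomial_right (n : ℕ) (f : MvPolynomial σ R) (a : σ →₀ ℕ) (ha : a ∈ II σ n) :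
    BB n f (monomial a 1) = coeff a f := by
  unfold BB
  rw [Finset.sum_eq_single a]
  · rw [coeff_monomial, if_pos rfl, mul_one]
  · intro b _ hb
    rw [coeff_monomial, if_neg (Ne.symm hb), mul_zero]
  · intro h; exact absurd ha h

/-- a homogeneous polynomial is the sum of its monomials of the right degree -/
lemma eq_sum_II (n : ℕ) (q : MvPolynomial σ R) (hq : q.IsHomogeneous n) :
    q = ∑ a ∈ II σ n, monomial a (coeff a q) := by
  ext b
  rw [coeff_sum]
  simp only [coeff_monomial]
  by_cases hb : b ∈ II σ n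
  · rw [Finset.sum_ite_eq' (II σ n) b, if_pos hb]
  · rw [Finset.sum_ite_eq' (II σ n) b, if_neg hb]
    by_contra hne
    exact hb ((mem_II n b).2 ((isHomogeneous_iff_degree q n).1 hq b hne))

/-- the pairing is nondegenerate on the left -/
lemma eq_zero_of_BB_eq_zero (n : ℕ) (f : MvPolynomial σ R) (hf : f.IsHomogeneous n)
    (h : ∀ a ∈ II σ n, BB n f (monomial a 1) = 0) : f = 0 := by
  rw [eq_sum_II n f hf]
  refine Finset.sum_eq_zero fun a ha => ?_
  rw [← BB_monomial_right n f a ha, h a ha, map_zero]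

/-- the polynomial representing a linear form -/
noncomputable def repr (n : ℕ) (ψ : homogeneousSubmodule σ R n →ₗ[R] R) : MvPolynomial σ R :=
  ∑ a ∈ (II σ n).attach, monomial a.1 (ψ ⟨monomial a.1 1,
    (mem_homogeneousSubmodule _ _).2 (by
      exact isHomogeneous_monomial _ ((mem_II n a.1).1 a.2))⟩)

lemma repr_mem (n : ℕ) (ψ : homogeneousSubmodule σ R n →ₗ[R] R) :
    repr n ψ ∈ homogeneousSubmodule σ R n := by
  unfold repr
  refine Submodule.sum_mem _ fun a _ => ?_
  rw [mem_homogeneousSubmodule]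
  exact isHomogeneous_monomial _ ((mem_II n a.1).1 a.2)

lemma coeff_repr (n : ℕ) (ψ : homogeneousSubmodule σ R n →ₗ[R] R) (a : σ →₀ ℕ)
    (ha : a ∈ II σ n) :
    coeff a (repr n ψ) = ψ ⟨monomial a 1, (mem_homogeneousSubmodule _ _).2 (by
      exact isHomogeneous_monomial _ ((mem_II n a).1 ha))⟩ := by
  unfold repr
  rw [coeff_sum]
  simp only [coeff_monomial]
  rw [Finset.sum_eq_single ⟨a, ha⟩]
  · rw [if_pos rfl]
  · intro b _ hb
    rw [if_neg]
    intro h
    exact hb (Subtype.ext h)
  · intro h; exact absurd (Finset.mem_attach _ _) h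

/-- the pairing with the representing polynomial is the linear form -/
lemma BB_repr (n : ℕ) (ψ : homogeneousSubmodule σ R n →ₗ[R] R)
    (q : homogeneousSubmodule σ R n) : BB n (repr n ψ) q.1 = ψ q := by
  have hq := (mem_homogeneousSubmodule _ _).1 q.2
  have h1 : q = ∑ a ∈ (II σ n).attach, coeff a.1 q.1 •
      (⟨monomial a.1 1, (mem_homogeneousSubmodule _ _).2 (by
        exact isHomogeneous_monomial _ ((mem_II n a.1).1 a.2))⟩ : homogeneousSubmodule σ R n) := by
    apply Subtype.ext
    rw [AddSubmonoidClass.coe_finsetSum]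
    conv_lhs => rw [eq_sum_II n q.1 hq]
    rw [← Finset.sum_attach]
    refine Finset.sum_congr rfl fun a _ => ?_
    show _ = coeff a.1 q.1 • monomial a.1 (1 : R)
    rw [smul_monomial, smul_eq_mul, mul_one]
  conv_rhs => rw [h1]
  rw [map_sum]
  unfold BB
  rw [← Finset.sum_attach]
  refine Finset.sum_congr rfl fun a _ => ?_
  rw [map_smul, coeff_repr n ψ a.1 a.2, smul_eq_mul, mul_comm]

end Groth.Agent.Helper1.PnDual
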