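import Groth.Agent.Helper1.ProjH04
import Groth.Agent.Helper1.ProjO

/-!
# Global functions on projective space
-/

set_option autoImplicit false
set_option linter.style.haveILetI false

namespace Groth.Agent.Helper1.ProjTop

open CategoryTheory AlgebraicGeometry TopologicalSpace Opposite MvPolynomial Limits
open Groth.Agent.Helper1.GrT Groth.Agent.Helper1.MVTop Groth.Agent.Helper1.PolyTop
open Groth.Agent.Helper1.KoszulPoly Groth.Agent.Helper1.ProjSpR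

universe u

section general

variable {R A : Type u} [CommRing R] [CommRing A] [Algebra R A] (𝒜 : ℕ → Submodule R A)
  [GradedAlgebra 𝒜]
variable {M : Type u} [AddCommGroup M] [Module R M] [Module A M] [IsScalarTower R A M]
  (ℳ : ℕ → Submodule R M) [DirectSum.Decomposition ℳ] [SetLike.GradedSMul 𝒜 ℳ]

set_option synthInstance.maxHeartbeats 400000 in
/-- the value of `c • s` for a global function `c` -/
theorem val_smulAb_global (n : ℤ) (W : (Proj 𝒜).Opens) (c : Coh.Γtop (Proj 𝒜))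
    (s : Γ(GrTilde.tilde 𝒜 ℳ n, W)) (y : Proj 𝒜) (hy : y ∈ W) :
    val (𝒜 := 𝒜) (ℳ := ℳ) (n := n) (U := W)
      ((Coh.smulAb (GrTilde.tilde 𝒜 ℳ n) c).hom.app (op W) s) y hy =
      (evO 𝒜 ⊤ y trivial c).val • val (𝒜 := 𝒜) (ℳ := ℳ) (n := n) (U := W) s y hy := by
  have h1 : (Coh.smulAb (GrTilde.tilde 𝒜 ℳ n) c).hom.app (op W) s =
      ((Proj 𝒜).presheaf.map (homOfLE (le_top : W ≤ ⊤)).op c : Γ(Proj 𝒜, W)) • s := rfl
  rw [h1, GrT.val_smul, evO_res]

/-- an element of the local ring acting trivially on `1` vanishes -/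
lemma eq_of_smul_one (y : ProjectiveSpectrum 𝒜) (p q : Twist.Loc 𝒜 y)
    (h : p • (ι₁ y (1 : A) : GrTilde.LocMod 𝒜 (M := A) y) = q • ι₁ y (1 : A)) : p = q := by
  rw [Groth.Agent.Helper1.TwistIso.smul_eq_mul', Groth.Agent.Helper1.TwistIso.smul_eq_mul'] at h
  have h1 : ((ι₁ y (1 : A) : GrTilde.LocMod 𝒜 (M := A) y) : Twist.Loc 𝒜 y) = 1 :=
    Localization.mk_one
  rw [h1, mul_one, mul_one] at h
  exact h

end general

variable (r : ℕ) (R : Type u) [CommRing R]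

lemma G0fun_elemSect (dd : ℕ) (m' : MvPolynomial (Fin (r + 1)) R) (hm' : m' ∈ 𝒜 r R dd)
    (hij : ((dd : ℕ) : ℤ) = ((0 : ℕ) : ℤ) + (dd : ℤ)) :
    G0fun r R dd (elemSect (𝒜 r R) (𝒜 r R) (dd : ℤ) ⊤ m' hm' hij) = m' := by
  refine G0fun_eq r R dd _ m' ?_
  have h1 : resI r R (dd : ℤ) (elemSect (𝒜 r R) (𝒜 r R) (dd : ℤ) ⊤ m' hm' hij) =
      elemSect (𝒜 r R) (𝒜 r R) (dd : ℤ) (Itot r R) m' hm' hij :=
    res_elemSect (𝒜 r R) (𝒜 r R) (dd : ℤ) m' hm' hij (le_top : Itot r R ≤ ⊤)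
  have h2 : θI r R (dd : ℤ) (elemSect (𝒜 r R) (𝒜 r R) (dd : ℤ) (Itot r R) m' hm' hij) =
      τg r R m' :=
    θ_elemSect (𝒜 r R) (𝒜 r R) (gAll (Fin (r + 1)) R) (τg r R) (Nat.succ_pos r) (gAll_mem r R)
      (dd : ℤ) (Itot r R) (Itot_eq r R) m' hm' hij
  exact h2.symm.trans (congrArg (θI r R (dd : ℤ)) h1.symm)

/-- the unit section of `O(0)` -/
noncomputable def oneSect : GrTilde.sect (𝒜 r R) (𝒜 r R) ((0 : ℕ) : ℤ) (op ⊤) :=
  elemSect (𝒜 r R) (𝒜 r R) ((0 : ℕ) : ℤ) ⊤ (1 : MvPolynomial (Fin (r + 1)) R)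
    SetLike.GradedOne.one_mem (by simp)

lemma G0_oneSect : (G0 r R 0 (oneSect r R) : MvPolynomial (Fin (r + 1)) R) = 1 :=
  G0fun_elemSect r R 0 1 SetLike.GradedOne.one_mem (by simp)

/-- the section `c • 1` of `O(0)` -/
noncomputable def mulOne (c : Coh.Γtop (Proj (𝒜 r R))) :
    GrTilde.sect (𝒜 r R) (𝒜 r R) ((0 : ℕ) : ℤ) (op ⊤) :=
  (Coh.smulAb (GrTilde.tilde (𝒜 r R) (𝒜 r R) ((0 : ℕ) : ℤ)) c).hom.app (op ⊤) (oneSect r R)

set_option synthInstance.maxHeartbeats 400000 in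
lemma val_mulOne (c : Coh.Γtop (Proj (𝒜 r R))) (y : Proj (𝒜 r R)) :
    val (𝒜 := 𝒜 r R) (ℳ := 𝒜 r R) (n := ((0 : ℕ) : ℤ)) (U := ⊤) (mulOne r R c) y trivial =
      (evO (𝒜 r R) ⊤ y trivial c).val •
        (ι₁ y (1 : MvPolynomial (Fin (r + 1)) R) :
          GrTilde.LocMod (𝒜 r R) (M := MvPolynomial (Fin (r + 1)) R) y) :=
  (val_smulAb_global (𝒜 r R) (𝒜 r R) ((0 : ℕ) : ℤ) ⊤ c (oneSect r R) y trivial).trans
    (congrArg (fun w => (evO (𝒜 r R) ⊤ y trivial c).val • w)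
      (val_elemSect (𝒜 r R) (𝒜 r R) ((0 : ℕ) : ℤ) ⊤ (1 : MvPolynomial (Fin (r + 1)) R)
        SetLike.GradedOne.one_mem (by simp) y trivial))

lemma mulOne_injective : Function.Injective (mulOne r R) := by
  intro c c' h
  apply Groth.Agent.Helper1.ProjO.O_ext (𝒜 r R) ⊤ c c'
  intro y hy
  have h1 : val (𝒜 := 𝒜 r R) (ℳ := 𝒜 r R) (n := ((0 : ℕ) : ℤ)) (U := ⊤) (mulOne r R c) y trivial =
      val (𝒜 := 𝒜 r R) (ℳ := 𝒜 r R) (n := ((0 : ℕ) : ℤ)) (U := ⊤) (mulOne r R c') y trivial :=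
    congrArg (fun s : GrTilde.sect (𝒜 r R) (𝒜 r R) ((0 : ℕ) : ℤ) (op ⊤) =>
      val (𝒜 := 𝒜 r R) (ℳ := 𝒜 r R) (n := ((0 : ℕ) : ℤ)) (U := ⊤) s y trivial) h
  exact eq_of_smul_one (𝒜 r R) y _ _
    ((val_mulOne r R c y).symm.trans (h1.trans (val_mulOne r R c' y)))

set_option synthInstance.maxHeartbeats 400000 in
lemma G0_mulOne_toGlobal (ρ : R) :
    (G0 r R 0 (mulOne r R (Coh.toGlobal (toSpecR (𝒜 r R)) ρ)) : MvPolynomial (Fin (r + 1)) R) =
      C ρ := by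
  have h := G0_smul r R 0 ρ (oneSect r R)
  have h2 := congrArg Subtype.val h
  refine h2.trans ?_
  show ρ • (G0 r R 0 (oneSect r R) : MvPolynomial (Fin (r + 1)) R) = C ρ
  rw [G0_oneSect, smul_eq_C_mul, mul_one]

set_option synthInstance.maxHeartbeats 400000 in
/-- **global functions on `P^r_R` are the constants** -/
theorem toGlobal_bijective : Function.Bijective (Coh.toGlobal (toSpecR (𝒜 r R))) := by
  constructor
  · rw [injective_iff_map_eq_zero]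
    intro ρ hρ
    have h1 : (G0 r R 0 (mulOne r R 0) : MvPolynomial (Fin (r + 1)) R) = C ρ :=
      (congrArg (fun c => (G0 r R 0 (mulOne r R c) : MvPolynomial (Fin (r + 1)) R)) hρ).symm.trans
        (G0_mulOne_toGlobal r R ρ)
    have h2 : mulOne r R 0 = 0 := by
      unfold mulOne
      rw [Coh.smulAb_zero]
      rfl
    have h3 : (G0 r R 0 (mulOne r R 0) : MvPolynomial (Fin (r + 1)) R) = 0 :=
      (congrArg (fun s => (G0 r R 0 s : MvPolynomial (Fin (r + 1)) R)) h2).trans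
        (congrArg Subtype.val (G0 r R 0).map_zero)
    exact C_injective _ _ (h1.symm.trans (h3.trans C_0.symm))
  · intro c
    have hmem : (G0 r R 0 (mulOne r R c) : MvPolynomial (Fin (r + 1)) R) ∈
        homogeneousSubmodule (Fin (r + 1)) R 0 := (G0 r R 0 (mulOne r R c)).2
    rw [homogeneousSubmodule_zero, Submodule.mem_one] at hmem
    obtain ⟨a, ha⟩ := hmem
    refine ⟨a, ?_⟩
    apply mulOne_injective r R
    apply G0_injective r R 0
    apply Subtype.ext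
    have hC : (C a : MvPolynomial (Fin (r + 1)) R) =
        algebraMap R (MvPolynomial (Fin (r + 1)) R) a := rfl
    exact (G0_mulOne_toGlobal r R a).trans (hC.trans ha)

end Groth.Agent.Helper1.ProjTop
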