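import Mathlib
import Groth.Agent.Helper1.PnDual2
import Groth.Agent.Helper1.KzMult3
import Groth.Agent.Helper1.ProjH05

set_option autoImplicit false
set_option linter.unusedSectionVars false

/-!
# The comparison map `θ` and multiplication by a homogeneous element
-/

namespace Groth.Agent.Helper1.PnDual

open CategoryTheory AlgebraicGeometry TopologicalSpace Opposite MvPolynomial
open Groth.Agent.Helper1.GrT Groth.Agent.Helper1.ProjO Groth.Agent.Helper1.TwistMul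
open Groth.Agent.Helper1.PolyTop Groth.Agent.Helper1.KoszulPoly Groth.Agent.Helper1.ProjTop
open Groth.Agent.Helper1.MVTop

universe u

section general

variable {R A : Type u} [CommRing R] [CommRing A] [Algebra R A] (𝒜 : ℕ → Submodule R A)
  [GradedAlgebra 𝒜]
variable {M : Type u} [AddCommGroup M] [Module R M] [Module A M] [IsScalarTower R A M]
  (ℳ : ℕ → Submodule R M) [DirectSum.Decomposition ℳ] [SetLike.GradedSMul 𝒜 ℳ]
variable (g : A) {L : Type u} [AddCommGroup L] [Module A L] (τ : M →ₗ[A] L)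
  [IsLocalizedModule (Submonoid.powers g) τ] {e : ℕ} (he : 0 < e) (hg : g ∈ 𝒜 e)
  (W : Opens (ProjectiveSpectrum.top 𝒜)) (hW : W = ProjectiveSpectrum.basicOpen 𝒜 g)

/-- `θ` of the product with the section defined by a homogeneous element -/
theorem θ_mulSect_elem (m n k : ℤ) (hk : k = m + n) {i : ℕ} (f : A) (hf : f ∈ 𝒜 i)
    (hin : (i : ℤ) = ((0 : ℕ) : ℤ) + n) (s : GrTilde.sect 𝒜 ℳ m (op W)) :
    θ 𝒜 ℳ g τ he hg k W hW (mulSect 𝒜 ℳ m n k hk W s (elemSect 𝒜 𝒜 n W f hf hin)) =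
      f • θ 𝒜 ℳ g τ he hg m W hW s := by
  have hv : f • θ 𝒜 ℳ g τ he hg m W hW s ∈ Deg 𝒜 ℳ g τ he hg k := by
    obtain ⟨k0, i0, m0, hm0, hi0, h⟩ := θ_mem 𝒜 ℳ g τ he hg m W hW s
    refine ⟨k0, i + i0, f • m0, SetLike.GradedSMul.smul_mem hf hm0, ?_, ?_⟩
    · push_cast
      rw [hi0, hk]
      push_cast at hin
      omega
    · rw [smul_comm, h, ← map_smul]
  refine θ_eq 𝒜 ℳ g τ he hg k W hW _ _ hv ?_
  apply sect_ext
  intro y hy
  have hyg : g ∉ y.asHomogeneousIdeal := (ProjectiveSpectrum.mem_basicOpen 𝒜 g y).1 (hW ▸ hy)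
  rw [val_mulSect, val_elemSect, Groth.Agent.Helper1.KzMult.toLoc_ι₁_smul]
  change ev g τ y hyg (f • θ 𝒜 ℳ g τ he hg m W hW s) = _
  rw [map_smul, ev_θ 𝒜 ℳ g τ he hg m W hW s y hy hyg]

end general

section poly

variable (r : ℕ) (R : Type u) [CommRing R]

/-- the global section of `O(e)` defined by a homogeneous polynomial of degree `e` -/
noncomputable def gl (e : ℕ) (f : MvPolynomial (Fin (r + 1)) R) (hf : f ∈ 𝒜 r R e) :
    GrTilde.sect (𝒜 r R) (𝒜 r R) ((e : ℕ) : ℤ) (op ⊤) :=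
  elemSect (𝒜 r R) (𝒜 r R) (e : ℤ) ⊤ f hf (by simp)

/-- multiplication by a homogeneous polynomial of degree `e`, `O(d) ⟶ O(d + e)` -/
noncomputable def MF (d k : ℤ) (e : ℕ) (hk : k = d + (e : ℤ)) (f : MvPolynomial (Fin (r + 1)) R)
    (hf : f ∈ 𝒜 r R e) :
    GrTilde.tilde (𝒜 r R) (𝒜 r R) d ⟶ GrTilde.tilde (𝒜 r R) (𝒜 r R) k :=
  mulHom (𝒜 r R) (𝒜 r R) d (e : ℤ) k hk (gl r R e f hf)

theorem θI_MF (d k : ℤ) (e : ℕ) (hk : k = d + (e : ℤ)) (f : MvPolynomial (Fin (r + 1)) R)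
    (hf : f ∈ 𝒜 r R e) (s : GrTilde.sect (𝒜 r R) (𝒜 r R) d (op (Itot r R))) :
    θI r R k ((MF r R d k e hk f hf).app (Itot r R) s) = f • θI r R d s := by
  have h1 : (MF r R d k e hk f hf).app (Itot r R) s =
      mulSect (𝒜 r R) (𝒜 r R) d (e : ℤ) k hk (Itot r R) s
        (elemSect (𝒜 r R) (𝒜 r R) (e : ℤ) (Itot r R) f hf (by simp)) := by
    unfold MF
    rw [mulHom_app]
    congr 1
  rw [h1]
  exact θ_mulSect_elem (𝒜 r R) (𝒜 r R) (gAll (Fin (r + 1)) R) (τg r R) (Nat.succ_pos r)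
    (gAll_mem r R) (Itot r R) (Itot_eq r R) d (e : ℤ) k hk f hf (by simp) s

/-- every global section of `O(e)`, `e ≥ 0`, is defined by a homogeneous polynomial -/
theorem exists_gl (e : ℕ) (F : GrTilde.sect (𝒜 r R) (𝒜 r R) ((e : ℕ) : ℤ) (op ⊤)) :
    ∃ (f : MvPolynomial (Fin (r + 1)) R) (hf : f ∈ 𝒜 r R e), F = gl r R e f hf := by
  obtain ⟨F', hF'⟩ := G0_surjective r R e (G0 r R e F)
  refine ⟨(G0 r R e F : MvPolynomial (Fin (r + 1)) R), (G0 r R e F).2, ?_⟩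
  apply G0_injective r R e
  apply Subtype.ext
  refine (G0fun_eq r R e _ _ ?_).symm
  have h1 : resI r R (e : ℤ) (gl r R e _ (G0 r R e F).2) =
      elemSect (𝒜 r R) (𝒜 r R) (e : ℤ) (Itot r R) _ (G0 r R e F).2 (by simp) :=
    res_elemSect (𝒜 r R) (𝒜 r R) (e : ℤ) _ (G0 r R e F).2 (by simp) (le_top : Itot r R ≤ ⊤)
  have h2 : θI r R (e : ℤ) (elemSect (𝒜 r R) (𝒜 r R) (e : ℤ) (Itot r R) _ (G0 r R e F).2
      (by simp)) = τg r R (G0 r R e F : MvPolynomial (Fin (r + 1)) R) :=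
    θ_elemSect (𝒜 r R) (𝒜 r R) (gAll (Fin (r + 1)) R) (τg r R) (Nat.succ_pos r) (gAll_mem r R)
      (e : ℤ) (Itot r R) (Itot_eq r R) _ (G0 r R e F).2 (by simp)
  exact h2.symm.trans (congrArg (θI r R (e : ℤ)) h1.symm)

end poly

end Groth.Agent.Helper1.PnDual
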