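import Mathlib
import Groth.Agent.Helper1.PnDual4

set_option autoImplicit false
set_option linter.unusedSectionVars false

/-!
# The residue of a product is the coefficientwise pairing with the principal part
-/

namespace Groth.Agent.Helper1.PnDual

open MvPolynomial Groth.Agent.Helper1.KoszulPoly Groth.Agent.Helper1.PolyTop

universe u
variable {σ : Type} [Fintype σ] [DecidableEq σ] [Nonempty σ] {R : Type u} [CommRing R]

lemma zero_mem_box (k : ℕ) (hk : 0 < k) : (0 : σ →₀ ℕ) ∈ box σ k := by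
  rw [mem_box]
  intro j
  exact hk

lemma antidiagonal_ρ_zero (k : ℕ) (hk : 0 < k) :
    Finset.HasAntidiagonal.antidiagonal (ρ k (0 : σ →₀ ℕ)) = (box σ k).image (fun a => (a, ρ k a)) := by
  ext ⟨a, b⟩
  rw [Finset.HasAntidiagonal.mem_antidiagonal, Finset.mem_image]
  constructor
  · intro h
    have hj : ∀ j, a j + b j = k - 1 := by
      intro j
      have := DFunLike.congr_fun h j
      rw [Finsupp.add_apply, ρ_apply] at this
      simpa using this
    refine ⟨a, (mem_box k a).2 (fun j => by have := hj j; omega), ?_⟩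
    refine Prod.ext rfl ?_
    ext j
    show ρ k a j = b j
    rw [ρ_apply]
    have := hj j
    omega
  · rintro ⟨a', ha', h⟩
    obtain ⟨rfl, rfl⟩ := Prod.mk.inj h
    ext j
    rw [Finsupp.add_apply, ρ_apply, ρ_apply]
    have := (mem_box k a').1 ha' j
    simp only [Finsupp.coe_zero, Pi.zero_apply, Nat.sub_zero]
    omega

/-- the constant coefficient of `Φ k (f * m)` -/
theorem coeff_zero_Φ_mul (k : ℕ) (hk : 0 < k) (f m : MvPolynomial σ R) :
    coeff 0 (Φ k (f * m)) = ∑ a ∈ box σ k, coeff a f * coeff a (Φ k m) := by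
  rw [coeff_Φ, if_pos (zero_mem_box k hk), coeff_mul, antidiagonal_ρ_zero k hk,
    Finset.sum_image]
  · refine Finset.sum_congr rfl fun a ha => ?_
    rw [coeff_Φ, if_pos ha]
  · intro a _ b _ h
    exact (Prod.mk.inj h).1

/-- for `f` homogeneous of degree `n` -/
theorem coeff_zero_Φ_mul' (k : ℕ) (hk : 0 < k) (n : ℕ) (f m : MvPolynomial σ R)
    (hf : f.IsHomogeneous n) : coeff 0 (Φ k (f * m)) = BB n f (Φ k m) := by
  rw [coeff_zero_Φ_mul k hk]
  unfold BB
  have h1 : ∑ a ∈ box σ k, coeff a f * coeff a (Φ k m) =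
      ∑ a ∈ box σ k ∪ II σ n, coeff a f * coeff a (Φ k m) := by
    refine Finset.sum_subset Finset.subset_union_left ?_
    intro a _ ha
    rw [coeff_Φ, if_neg ha, mul_zero]
  have h2 : ∑ a ∈ II σ n, coeff a f * coeff a (Φ k m) =
      ∑ a ∈ box σ k ∪ II σ n, coeff a f * coeff a (Φ k m) := by
    refine Finset.sum_subset Finset.subset_union_right ?_
    intro a _ ha
    have : coeff a f = 0 := by
      by_contra hne
      exact ha ((mem_II n a).2 ((isHomogeneous_iff_degree f n).1 hf a hne))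
    rw [this, zero_mul]
  rw [h1, h2]

variable {L : Type u} [AddCommGroup L] [Module (MvPolynomial σ R) L]
  (τ : MvPolynomial σ R →ₗ[MvPolynomial σ R] L)
  [IsLocalizedModule (Submonoid.powers (gAll σ R)) τ]

/-- **the residue of `f • v` is the pairing of `f` with the principal part of `v`** -/
theorem coeff_zero_Ψ_smul (n : ℕ) (f : MvPolynomial σ R) (hf : f.IsHomogeneous n) (v : L) :
    coeff 0 (Ψ τ (f • v)) = BB n f (Ψ τ v) := by
  obtain ⟨k, m, h⟩ := exists_rep τ v
  have h1 : gAll σ R ^ (k + 1) • v = τ (gAll σ R * m) := by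
    rw [pow_succ', mul_smul, h, ← smul_eq_mul, map_smul]
  have h2 : gAll σ R ^ (k + 1) • (f • v) = τ (f * (gAll σ R * m)) := by
    rw [smul_comm, h1, ← smul_eq_mul f, map_smul]
  rw [Ψ_eq τ _ _ _ h2, Ψ_eq τ _ _ _ h1]
  exact coeff_zero_Φ_mul' (k + 1) (Nat.succ_pos k) n f _ hf

end Groth.Agent.Helper1.PnDual
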