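import Mathlib
import Groth.Agent.Helper1.PnDual3
import Groth.Agent.Helper1.PnDual5
import Groth.Agent.Helper1.PUP8

set_option autoImplicit false
set_option linter.unusedSectionVars false
set_option linter.style.haveILetI false

/-!
# The perfect pairing `Hom(O(-n-r-1), O(-r-1)) × H^r(O(-n-r-1)) → H^r(O(-r-1)) ≅ R` on `P^r_R`
(for the modules `A(d)~`)
-/

namespace Groth.Agent.Helper1.PnDual

open CategoryTheory AlgebraicGeometry TopologicalSpace Opposite MvPolynomial
open Groth.Agent.Helper1.GrT Groth.Agent.Helper1.ProjO Groth.Agent.Helper1.TwistMul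
open Groth.Agent.Helper1.PolyTop Groth.Agent.Helper1.KoszulPoly Groth.Agent.Helper1.ProjTop
open Groth.Agent.Helper1.MVTop Groth.Agent.Helper1.ProjSpR

universe u

section algebra

/-- two surjections with the same kernel, compatible with scalars, have isomorphic targets,
compatibly -/
theorem exists_linearEquiv_of_ker_eq {R S H P : Type*} [Semiring R] [AddCommGroup S]
    [AddCommGroup H] [Module R H] [AddCommGroup P] [Module R P]
    (T : S →+ H) (Ψ : S →+ P) (hT : Function.Surjective T) (hΨ : Function.Surjective Ψ)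
    (hker : ∀ s, T s = 0 ↔ Ψ s = 0) (σ : R → S → S) (hσT : ∀ ρ s, T (σ ρ s) = ρ • T s)
    (hσΨ : ∀ ρ s, Ψ (σ ρ s) = ρ • Ψ s) : ∃ e : H ≃ₗ[R] P, ∀ s, e (T s) = Ψ s := by
  have key : ∀ s s', T s = T s' → Ψ s = Ψ s' := by
    intro s s' h
    have h1 : T (s - s') = 0 := by rw [map_sub, h, sub_self]
    have h2 := (hker _).1 h1
    rw [map_sub, sub_eq_zero] at h2
    exact h2
  have he : ∀ s, Ψ (Function.surjInv hT (T s)) = Ψ s := fun s =>
    key _ _ (Function.surjInv_eq hT (T s))
  let e : H →ₗ[R] P :=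
    { toFun := fun h => Ψ (Function.surjInv hT h)
      map_add' := by
        intro h h'
        obtain ⟨s, rfl⟩ := hT h
        obtain ⟨s', rfl⟩ := hT h'
        rw [← map_add, he, he, he, map_add]
      map_smul' := by
        intro ρ h
        obtain ⟨s, rfl⟩ := hT h
        rw [← hσT, he, he, hσΨ]
        rfl }
  have heT : ∀ s, e (T s) = Ψ s := he
  refine ⟨LinearEquiv.ofBijective e ⟨?_, ?_⟩, heT⟩
  · refine (injective_iff_map_eq_zero e).2 ?_
    intro h hh
    obtain ⟨s, rfl⟩ := hT h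
    rw [heT] at hh
    exact (hker s).2 hh
  · intro p
    obtain ⟨s, rfl⟩ := hΨ p
    exact ⟨T s, heT s⟩

end algebra

variable (r : ℕ) (R : Type u) [CommRing R]

attribute [local instance] overR

/-- the cohomological degree in which `topM` lands (equal to `r`) -/
noncomputable abbrev LL : ℕ := (initList (V r R)).length

set_option synthInstance.maxHeartbeats 400000 in
set_option maxHeartbeats 1000000 in
/-- the top cohomology of `O(-(r+1+k))` is the module of homogeneous polynomials of degree `k`,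
through the principal part -/
theorem exists_topEquiv (d : ℤ) (kk : ℕ) (hd : d = -((r : ℤ) + 1 + kk)) :
    ∃ e : Coh.HH (Proj (𝒜 r R)) (GrTilde.tilde (𝒜 r R) (𝒜 r R) d) (LL r R) ≃ₗ[R] ↥(𝒜 r R kk),
      ∀ s, e (topM r R d s) = PsiK r R d kk hd s := by
  refine exists_linearEquiv_of_ker_eq (R := R) (topM r R d) (PsiK r R d kk hd)
    (topM_surjective r R d) ?_ ?_
    (fun ρ s => (Coh.smulAb (GrTilde.tilde (𝒜 r R) (𝒜 r R) d)
      (Coh.toGlobal (toSpecR (𝒜 r R)) ρ)).hom.app (op (Itot r R)) s) ?_ ?_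
  · rintro ⟨q, hq⟩
    obtain ⟨s, hs⟩ := PsiI_surjective r R d kk hd q hq
    exact ⟨s, Subtype.ext hs⟩
  · intro s
    have hdneg : d < 0 := by rw [hd]; linarith
    refine (topM_eq_zero_iff r R d (Or.inr hdneg) s).trans ?_
    constructor
    · intro h
      exact Subtype.ext h
    · intro h
      exact congrArg Subtype.val h
  · intro ρ s
    exact (topMap_natural (V r R (Fin.last r)) (initList (V r R)) (Scup_eq_top r R)
      (Coh.smulAb (GrTilde.tilde (𝒜 r R) (𝒜 r R) d) (Coh.toGlobal (toSpecR (𝒜 r R)) ρ)) s).symm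
  · intro ρ s
    exact Subtype.ext (PsiI_smulAb r R d ρ s)

/-- a homogeneous polynomial of degree zero with vanishing constant coefficient is zero -/
lemma eq_zero_of_coeff_zero (q : MvPolynomial (Fin (r + 1)) R) (hq : q ∈ 𝒜 r R 0)
    (h : coeff 0 q = 0) : q = 0 := by
  have hq' := (mem_homogeneousSubmodule _ _).1 hq
  rw [eq_sum_II 0 q hq']
  refine Finset.sum_eq_zero fun a ha => ?_
  have ha0 : a = 0 := by
    have := (mem_II 0 a).1 ha
    ext j
    have h1 : a j ≤ Finsupp.degree a := by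
      rw [Finsupp.degree_eq_sum]
      exact Finset.single_le_sum (f := fun j => a j) (fun i _ => Nat.zero_le _) (Finset.mem_univ j)
    simp only [Finsupp.coe_zero, Pi.zero_apply]
    omega
  rw [ha0, h, map_zero]

/-- the residue, as an additive map on the sections over the total intersection -/
noncomputable def resI0 (ω : ℤ) : GrTilde.sect (𝒜 r R) (𝒜 r R) ω (op (Itot r R)) →+ R :=
  (lcoeff R (0 : Fin (r + 1) →₀ ℕ)).toAddMonoidHom.comp (PsiI r R ω)

lemma resI0_apply (ω : ℤ) (s : GrTilde.sect (𝒜 r R) (𝒜 r R) ω (op (Itot r R))) :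
    resI0 r R ω s = coeff 0 (PsiI r R ω s) := rfl

set_option synthInstance.maxHeartbeats 400000 in
lemma resI0_smulAb (ω : ℤ) (ρ : R) (s : GrTilde.sect (𝒜 r R) (𝒜 r R) ω (op (Itot r R))) :
    resI0 r R ω ((Coh.smulAb (GrTilde.tilde (𝒜 r R) (𝒜 r R) ω)
      (Coh.toGlobal (toSpecR (𝒜 r R)) ρ)).hom.app (op (Itot r R)) s) = ρ • resI0 r R ω s := by
  have h := PsiI_smulAb r R ω ρ s
  rw [resI0_apply, resI0_apply, h]
  exact coeff_smul (0 : Fin (r + 1) →₀ ℕ) ρ (PsiI r R ω s)

set_option synthInstance.maxHeartbeats 400000 in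
set_option maxHeartbeats 1000000 in
/-- **the residue isomorphism** `H^r(O(-r-1)) ≅ R` -/
theorem exists_residue (ω : ℤ) (hω : ω = -((r : ℤ) + 1 + ((0 : ℕ) : ℤ))) :
    ∃ t : Coh.HH (Proj (𝒜 r R)) (GrTilde.tilde (𝒜 r R) (𝒜 r R) ω) (LL r R) ≃ₗ[R] R,
      ∀ s, t (topM r R ω s) = coeff 0 (PsiI r R ω s) := by
  refine exists_linearEquiv_of_ker_eq (R := R) (topM r R ω) (resI0 r R ω)
    (topM_surjective r R ω) ?_ ?_
    (fun ρ s => (Coh.smulAb (GrTilde.tilde (𝒜 r R) (𝒜 r R) ω)
      (Coh.toGlobal (toSpecR (𝒜 r R)) ρ)).hom.app (op (Itot r R)) s) ?_ ?_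
  · intro a
    obtain ⟨s, hs⟩ := PsiI_surjective r R ω 0 hω (C a)
      ((mem_homogeneousSubmodule _ _).2 (isHomogeneous_C _ a))
    refine ⟨s, ?_⟩
    rw [resI0_apply, hs, coeff_zero_C]
  · intro s
    have hdneg : ω < 0 := by rw [hω]; push_cast; linarith
    refine (topM_eq_zero_iff r R ω (Or.inr hdneg) s).trans ?_
    constructor
    · intro h
      rw [resI0_apply, h, coeff_zero]
    · intro h
      exact eq_zero_of_coeff_zero r R _ (PsiI_mem r R ω 0 hω s) h
  · intro ρ s
    exact (topMap_natural (V r R (Fin.last r)) (initList (V r R)) (Scup_eq_top r R)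
      (Coh.smulAb (GrTilde.tilde (𝒜 r R) (𝒜 r R) ω) (Coh.toGlobal (toSpecR (𝒜 r R)) ρ)) s).symm
  · intro ρ s
    exact resI0_smulAb r R ω ρ s

end Groth.Agent.Helper1.PnDual
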