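import Groth.Agent.Helper1.ProjH01

/-!
# Global sections of `O(d)` on projective space are polynomials
-/

set_option autoImplicit false
set_option linter.style.haveILetI false

namespace Groth.Agent.Helper1.ProjTop

open CategoryTheory AlgebraicGeometry TopologicalSpace Opposite MvPolynomial
open Groth.Agent.Helper1.GrT Groth.Agent.Helper1.MVTop Groth.Agent.Helper1.PolyTop
open Groth.Agent.Helper1.KoszulPoly Groth.Agent.Helper1.ProjSpR

universe u

variable (r : ℕ) (R : Type u) [CommRing R] (d : ℤ)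

set_option maxHeartbeats 400000 in
lemma exists_X_pow_smul_resI (j : Fin (r + 1)) (s : GrTilde.sect (𝒜 r R) (𝒜 r R) d (op ⊤)) :
    ∃ (a : ℕ) (m : MvPolynomial (Fin (r + 1)) R),
      (X j : MvPolynomial (Fin (r + 1)) R) ^ a • θI r R d (resI r R d s) = τg r R m :=
  exists_X_pow_smul r R d j
        (GrTilde.res (𝒜 r R) (𝒜 r R) d (homOfLE (le_top : V r R j ≤ ⊤)).op s)

set_option maxHeartbeats 400000 in
/-- pure algebra in the localisation -/
lemma exists_poly_aux (v : Lg r R) (k i : ℕ) (m : MvPolynomial (Fin (r + 1)) R)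
    (hm : m.IsHomogeneous i) (hi : (i : ℤ) = k * ((r + 1 : ℕ) : ℤ) + d)
    (hv : gAll (Fin (r + 1)) R ^ k • v = τg r R m)
    (hX : 0 < r → ∀ j : Fin (r + 1), ∃ (a : ℕ) (mj : MvPolynomial (Fin (r + 1)) R),
      (X j : MvPolynomial (Fin (r + 1)) R) ^ a • v = τg r R mj)
    (h : 0 < r ∨ 0 ≤ d) :
    ∃ m' : MvPolynomial (Fin (r + 1)) R,
      (∀ β, coeff β m' ≠ 0 → ((Finsupp.degree β : ℕ) : ℤ) = d) ∧ τg r R m' = v := by
  have hdeg := (isHomogeneous_iff_degree m i).1 hm
  have hexp : ∀ β, coeff β m ≠ 0 → ∀ i0, k ≤ β i0 := by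
    intro β hβ i0
    rcases Nat.eq_zero_or_pos r with hr | hr
    · have hd : 0 ≤ d := by
        rcases h with h | h
        · omega
        · exact h
      subst hr
      have h1 := hdeg β hβ
      rw [Finsupp.degree_eq_sum] at h1
      have h2 : β i0 = i := by
        have : i0 = 0 := Fin.fin_one_eq_zero i0
        subst this
        simpa using h1
      have h3 : (k : ℤ) ≤ i := by
        rw [hi]
        push_cast
        linarith
      rw [h2]
      exact_mod_cast h3
    · obtain ⟨j, hj⟩ : ∃ j : Fin (r + 1), i0 ≠ j := by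
        by_cases h0 : i0 = 0
        · refine ⟨Fin.last r, ?_⟩
          rw [h0]
          intro h
          have := congrArg Fin.val h
          simp at this
          omega
        · exact ⟨0, h0⟩
      obtain ⟨a, mj, hj3⟩ := hX hr j
      have heq : gAll (Fin (r + 1)) R ^ k * mj = X j ^ a * m := by
        apply τ_injective (τg r R)
        have e1 : τg r R (gAll (Fin (r + 1)) R ^ k * mj) =
          gAll (Fin (r + 1)) R ^ k • τg r R mj := (τg r R).map_smul _ _
        have e2 : τg r R (X j ^ a * m) = (X j : MvPolynomial (Fin (r + 1)) R) ^ a • τg r R m :=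
          (τg r R).map_smul _ _
        exact e1.trans ((congrArg (fun w => gAll (Fin (r + 1)) R ^ k • w) hj3.symm).trans
          ((smul_comm _ _ _).trans
            ((congrArg (fun w => (X j : MvPolynomial (Fin (r + 1)) R) ^ a • w) hv).trans e2.symm)))
      exact le_of_gAll_pow_mul_eq m mj k a j heq β hβ i0 hj
  obtain ⟨m', hm'⟩ := exists_eq_gAll_pow_mul m k hexp
  refine ⟨m', ?_, ?_⟩
  · intro β hβ
    rw [coeff_of_eq_gAll_pow_mul m m' k hm' β] at hβ
    have h1 := hdeg _ hβ
    rw [map_add, map_nsmul, degree_ones, Fintype.card_fin, smul_eq_mul] at h1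
    have h2 : ((k * (r + 1) + Finsupp.degree β : ℕ) : ℤ) = (k : ℤ) * ((r + 1 : ℕ) : ℤ) + d := by
      rw [h1, hi]
    push_cast at h2
    linarith
  · apply smul_pow_injective (gAll (Fin (r + 1)) R) (τg r R) k
    show gAll (Fin (r + 1)) R ^ k • τg r R m' = gAll (Fin (r + 1)) R ^ k • v
    refine Eq.trans ?_ hv.symm
    exact ((τg r R).map_smul _ _).symm.trans (congrArg (τg r R) hm'.symm)


theorem exists_poly (h : 0 < r ∨ 0 ≤ d) (s : GrTilde.sect (𝒜 r R) (𝒜 r R) d (op ⊤)) :
    ∃ m' : MvPolynomial (Fin (r + 1)) R,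
      (∀ β, coeff β m' ≠ 0 → ((Finsupp.degree β : ℕ) : ℤ) = d) ∧
      τg r R m' = θI r R d (resI r R d s) := by
  obtain ⟨k, i, m, hm, hi, hv⟩ := θ_mem (𝒜 r R) (𝒜 r R) (gAll (Fin (r + 1)) R) (τg r R)
    (Nat.succ_pos r) (gAll_mem r R) d (Itot r R) (Itot_eq r R) (resI r R d s)
  exact exists_poly_aux r R d _ k i m ((mem_homogeneousSubmodule _ _).1 hm) hi hv
    (fun _ j => exists_X_pow_smul_resI r R d j s) h

/-- no global sections in negative degrees -/
theorem eq_zero_of_neg (hr : 0 < r) (hd : d < 0) (s : GrTilde.sect (𝒜 r R) (𝒜 r R) d (op ⊤)) :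
    s = 0 := by
  obtain ⟨m', h1, h2⟩ := exists_poly r R d (Or.inl hr) s
  have hm0 : m' = 0 := by
    ext β
    rw [coeff_zero]
    by_contra hne
    have := h1 β hne
    have h3 : (0 : ℤ) ≤ ((Finsupp.degree β : ℕ) : ℤ) := Int.natCast_nonneg _
    omega
  rw [hm0, map_zero] at h2
  exact eq_zero_of_θI_resI r R d s h2.symm

end Groth.Agent.Helper1.ProjTop
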