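import Mathlib
import Groth.Agent.Helper1.PnDual2
import Groth.Agent.Helper1.PnDual4
import Groth.Agent.Helper1.PnDual6
import Groth.Agent.Helper1.ProjH02

set_option autoImplicit false
set_option linter.unusedSectionVars false
set_option linter.style.haveILetI false

/-!
# The perfect pairing on `P^r_R`, for the modules `A(d)~` (cohomological degree `LL`)
-/

namespace Groth.Agent.Helper1.PnDual

open CategoryTheory AlgebraicGeometry TopologicalSpace Opposite MvPolynomial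
open Groth.Agent.Helper1.GrT Groth.Agent.Helper1.ProjO Groth.Agent.Helper1.TwistMul
open Groth.Agent.Helper1.PolyTop Groth.Agent.Helper1.KoszulPoly Groth.Agent.Helper1.ProjTop
open Groth.Agent.Helper1.MVTop Groth.Agent.Helper1.ProjSpR

universe u

section general

variable {R A : Type u} [CommRing R] [CommRing A] [Algebra R A] (𝒜 : ℕ → Submodule R A)
  [GradedAlgebra 𝒜]
variable {M : Type u} [AddCommGroup M] [Module R M] [Module A M] [IsScalarTower R A M]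
  (ℳ : ℕ → Submodule R M) [DirectSum.Decomposition ℳ] [SetLike.GradedSMul 𝒜 ℳ]

theorem mulHom_zero (m n k : ℤ) (hk : k = m + n) :
    mulHom 𝒜 ℳ m n k hk 0 = 0 := by
  apply Scheme.Modules.hom_ext
  intro U
  ext s
  apply sect_ext (𝒜 := 𝒜) (ℳ := ℳ) (n := k) (U := U)
  intro y hy
  refine (val_mulHom_app 𝒜 ℳ m n k hk _ U s y hy).trans ?_
  rw [val_zero]
  have h0 : (Scheme.Modules.Hom.app (0 : GrTilde.tilde 𝒜 ℳ m ⟶ GrTilde.tilde 𝒜 ℳ k) U) s = 0 := rfl
  rw [h0]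
  exact zero_smul (Twist.Loc 𝒜 y) (val (𝒜 := 𝒜) (ℳ := ℳ) (n := m) (U := U) s y hy)

end general

/-- abstract form of the perfect pairing argument -/
theorem existsUnique_of_pairing {σ : Type} [Fintype σ] [DecidableEq σ] [Nonempty σ] {R : Type*} [CommRing R]
    {S H Φ : Type*} (n : ℕ) (T : S → H) (hT : Function.Surjective T)
    (P : S → MvPolynomial σ R) (hP : ∀ q ∈ homogeneousSubmodule σ R n, ∃ s, P s = q)
    (ψ : H → R) (ψ' : homogeneousSubmodule σ R n →ₗ[R] R)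
    (hPmem : ∀ s, P s ∈ homogeneousSubmodule σ R n)
    (hψ' : ∀ s, ψ' ⟨P s, hPmem s⟩ = ψ (T s))
    (pair : Φ → H → R) (mf : ∀ f ∈ homogeneousSubmodule σ R n, Φ)
    (hmf : ∀ f hf s, pair (mf f hf) (T s) = BB n f (P s))
    (hsurj : ∀ φ, ∃ f hf, φ = mf f hf) :
    ∃! φ, ∀ x, ψ x = pair φ x := by
  have hBB : ∀ s, BB n (repr n ψ') (P s) = ψ (T s) := fun s =>
    (BB_repr n ψ' ⟨P s, hPmem s⟩).trans (hψ' s)
  have key : ∀ (f : MvPolynomial σ R) (hf : f ∈ homogeneousSubmodule σ R n),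
      (∀ x, ψ x = pair (mf f hf) x) ↔ f = repr n ψ' := by
    intro f hf
    constructor
    · intro h
      have h1 : ∀ s, BB n f (P s) = BB n (repr n ψ') (P s) := by
        intro s
        rw [← hmf f hf s, ← h, hBB]
      have h2 : f - repr n ψ' = 0 := by
        refine eq_zero_of_BB_eq_zero n _ ?_ ?_
        · exact (mem_homogeneousSubmodule _ _).1 (Submodule.sub_mem _ hf (repr_mem n ψ'))
        · intro a ha
          obtain ⟨s, hs⟩ := hP (monomial a 1)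
            ((mem_homogeneousSubmodule _ _).2 (isHomogeneous_monomial _ ((mem_II n a).1 ha)))
          rw [BB_sub_left, ← hs, h1 s, sub_self]
      exact sub_eq_zero.1 h2
    · intro h x
      obtain ⟨s, rfl⟩ := hT x
      rw [hmf f hf s, h, hBB]
  refine ⟨mf (repr n ψ') (repr_mem n ψ'), (key _ _).2 rfl, ?_⟩
  intro φ hφ
  obtain ⟨f, hf, rfl⟩ := hsurj φ
  have h := (key f hf).1 hφ
  subst h
  rfl

theorem exists_comp_symm {R H P : Type*} [CommRing R] [AddCommGroup H] [Module R H]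
    [AddCommGroup P] [Module R P] (e : H ≃ₗ[R] P) (ψ : H →ₗ[R] R) :
    ∃ ψ' : P →ₗ[R] R, ∀ h, ψ' (e h) = ψ h :=
  ⟨ψ.comp e.symm.toLinearMap, fun h => by simp⟩

variable (r : ℕ) (R : Type u) [CommRing R]

attribute [local instance] overR

set_option synthInstance.maxHeartbeats 400000 in
set_option maxHeartbeats 1000000 in
/-- the pairing of multiplication by `f` with a top class is the residue pairing -/
theorem pairing_MF (n : ℕ) (d ω : ℤ) (hk : ω = d + (n : ℤ))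
    (t : Coh.HH (Proj (𝒜 r R)) (GrTilde.tilde (𝒜 r R) (𝒜 r R) ω) (LL r R) ≃ₗ[R] R)
    (ht : ∀ s, t (topM r R ω s) = coeff 0 (PsiI r R ω s))
    (f : MvPolynomial (Fin (r + 1)) R) (hf : f ∈ 𝒜 r R n)
    (s : GrTilde.sect (𝒜 r R) (𝒜 r R) d (op (Itot r R))) :
    t (Sheaf.H.map ((SheafOfModules.toSheaf (Proj (𝒜 r R)).ringCatSheaf).map
      (MF r R d ω n hk f hf)) (LL r R) (topM r R d s)) = BB n f (PsiI r R d s) := by
  have h1 := topMap_natural (V r R (Fin.last r)) (initList (V r R)) (Scup_eq_top r R)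
    ((SheafOfModules.toSheaf (Proj (𝒜 r R)).ringCatSheaf).map (MF r R d ω n hk f hf)) s
  have h3 : ((SheafOfModules.toSheaf (Proj (𝒜 r R)).ringCatSheaf).map
      (MF r R d ω n hk f hf)).hom.app (op (Itot r R)) s =
      (MF r R d ω n hk f hf).app (Itot r R) s := rfl
  have h5 : Sheaf.H.map ((SheafOfModules.toSheaf (Proj (𝒜 r R)).ringCatSheaf).map
      (MF r R d ω n hk f hf)) (LL r R) (topM r R d s) =
      topM r R ω ((MF r R d ω n hk f hf).app (Itot r R) s) :=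
    h1.trans (congrArg (topM r R ω) h3)
  refine (congrArg t h5).trans ((ht _).trans ?_)
  have h6 : PsiI r R ω ((MF r R d ω n hk f hf).app (Itot r R) s) =
      Ψ (τg r R) (f • θI r R d s) :=
    (PsiI_apply r R ω _).trans (congrArg (Ψ (τg r R)) (θI_MF r R d ω n hk f hf s))
  refine (congrArg (coeff (0 : Fin (r + 1) →₀ ℕ)) h6).trans ?_
  exact coeff_zero_Ψ_smul (τg r R) n f ((mem_homogeneousSubmodule _ _).1 hf) (θI r R d s)

set_option synthInstance.maxHeartbeats 400000 in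
set_option maxHeartbeats 1000000 in
/-- every morphism `O(d) ⟶ O(d + n)`, `n ≥ 0`, is multiplication by a form of degree `n` -/
theorem exists_MF (n : ℕ) (d ω : ℤ) (hk : ω = d + (n : ℤ))
    (φ : GrTilde.tilde (𝒜 r R) (𝒜 r R) d ⟶ GrTilde.tilde (𝒜 r R) (𝒜 r R) ω) :
    ∃ (f : MvPolynomial (Fin (r + 1)) R) (hf : f ∈ 𝒜 r R n), φ = MF r R d ω n hk f hf := by
  have hcov := TwistMul.cover_of_iSup (𝒜 r R) (Groth.Agent.Helper1.PUP.hcovP (R := R) r) d
  have h1 := eq_mulHom (𝒜 r R) d ω (n : ℤ) hk φ hcov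
  obtain ⟨f, hf, hF⟩ := exists_gl r R n (globF (𝒜 r R) d ω (n : ℤ) hk φ hcov)
  exact ⟨f, hf, h1.trans (congrArg (mulHom (𝒜 r R) (𝒜 r R) d (n : ℤ) ω hk) hF)⟩

set_option synthInstance.maxHeartbeats 400000 in
set_option maxHeartbeats 1000000 in
/-- **the perfect pairing, `n ≥ 0`** -/
theorem main_nat (n : ℕ) (d ω : ℤ) (hd : d = -((r : ℤ) + 1 + n)) (hk : ω = d + (n : ℤ))
    (t : Coh.HH (Proj (𝒜 r R)) (GrTilde.tilde (𝒜 r R) (𝒜 r R) ω) (LL r R) ≃ₗ[R] R)
    (ht : ∀ s, t (topM r R ω s) = coeff 0 (PsiI r R ω s))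
    (ψ : Coh.HH (Proj (𝒜 r R)) (GrTilde.tilde (𝒜 r R) (𝒜 r R) d) (LL r R) →ₗ[R] R) :
    ∃! φ : GrTilde.tilde (𝒜 r R) (𝒜 r R) d ⟶ GrTilde.tilde (𝒜 r R) (𝒜 r R) ω,
      ∀ x, ψ x = t (Sheaf.H.map ((SheafOfModules.toSheaf (Proj (𝒜 r R)).ringCatSheaf).map φ)
        (LL r R) x) := by
  obtain ⟨e, he⟩ := exists_topEquiv r R d n hd
  obtain ⟨ψ', hψ'0⟩ := exists_comp_symm e ψ
  exact existsUnique_of_pairing n (topM r R d) (topM_surjective r R d) (PsiI r R d)
    (PsiI_surjective r R d n hd) (fun x => ψ x) ψ' (PsiI_mem r R d n hd)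
    (fun s => (congrArg ψ' (he s)).symm.trans (hψ'0 _))
    (fun φ x => t (Sheaf.H.map ((SheafOfModules.toSheaf (Proj (𝒜 r R)).ringCatSheaf).map φ)
        (LL r R) x))
    (fun f hf => MF r R d ω n hk f hf) (pairing_MF r R n d ω hk t ht) (exists_MF r R n d ω hk)

theorem existsUnique_of_subsingleton {R H Φ : Type*} (hH : Subsingleton H) (hΦ : Subsingleton Φ)
    (ψ : H → R) (pair : Φ → H → R) (φ₀ : Φ) (x₀ : H) (h : ψ x₀ = pair φ₀ x₀) :
    ∃! φ, ∀ x, ψ x = pair φ x :=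
  ⟨φ₀, fun x => Subsingleton.elim x₀ x ▸ h, fun _ _ => Subsingleton.elim _ _⟩

set_option synthInstance.maxHeartbeats 400000 in
set_option maxHeartbeats 1000000 in
/-- no nonzero morphisms `O(d) ⟶ O(ω)` for `ω < d` -/
theorem subsingleton_hom (hr : 0 < r) (d ω : ℤ) (hω : ω < d) :
    Subsingleton (GrTilde.tilde (𝒜 r R) (𝒜 r R) d ⟶ GrTilde.tilde (𝒜 r R) (𝒜 r R) ω) := by
  refine subsingleton_of_forall_eq 0 (fun φ => ?_)
  have hcov := TwistMul.cover_of_iSup (𝒜 r R) (Groth.Agent.Helper1.PUP.hcovP (R := R) r) d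
  have hk : ω = d + (ω - d) := by ring
  have h1 := eq_mulHom (𝒜 r R) d ω (ω - d) hk φ hcov
  have h2 : globF (𝒜 r R) d ω (ω - d) hk φ hcov = 0 :=
    eq_zero_of_neg r R (ω - d) hr (by omega) _
  exact h1.trans ((congrArg (mulHom (𝒜 r R) (𝒜 r R) d (ω - d) ω hk) h2).trans
    (mulHom_zero (𝒜 r R) (𝒜 r R) d (ω - d) ω hk))

set_option synthInstance.maxHeartbeats 400000 in
set_option maxHeartbeats 1000000 in
theorem subsingleton_HH (hr : 0 < r) (d : ℤ) (hd : -((r : ℤ) + 1) < d) :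
    Subsingleton (Coh.HH (Proj (𝒜 r R)) (GrTilde.tilde (𝒜 r R) (𝒜 r R) d) (LL r R)) := by
  refine subsingleton_of_forall_eq 0 (fun x => ?_)
  obtain ⟨s, rfl⟩ := topM_surjective r R d x
  exact topM_eq_zero_of_PsiI_eq_zero r R d hr s (PsiI_eq_zero_of_lt r R d hd s)

set_option synthInstance.maxHeartbeats 400000 in
set_option maxHeartbeats 1000000 in
/-- **the perfect pairing, `n < 0`** (both sides vanish) -/
theorem main_neg (hr : 0 < r) (d ω : ℤ) (hd : -((r : ℤ) + 1) < d) (hω : ω < d)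
    (t : Coh.HH (Proj (𝒜 r R)) (GrTilde.tilde (𝒜 r R) (𝒜 r R) ω) (LL r R) ≃ₗ[R] R)
    (ψ : Coh.HH (Proj (𝒜 r R)) (GrTilde.tilde (𝒜 r R) (𝒜 r R) d) (LL r R) →ₗ[R] R) :
    ∃! φ : GrTilde.tilde (𝒜 r R) (𝒜 r R) d ⟶ GrTilde.tilde (𝒜 r R) (𝒜 r R) ω,
      ∀ x, ψ x = t (Sheaf.H.map ((SheafOfModules.toSheaf (Proj (𝒜 r R)).ringCatSheaf).map φ)
        (LL r R) x) := by
  refine existsUnique_of_subsingleton (subsingleton_HH r R hr d hd)
    (subsingleton_hom r R hr d ω hω) (fun x => ψ x)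
    (fun φ x => t (Sheaf.H.map ((SheafOfModules.toSheaf (Proj (𝒜 r R)).ringCatSheaf).map φ)
        (LL r R) x)) 0 0 ?_
  exact (map_zero ψ).trans ((map_zero t).symm.trans (congrArg t (map_zero (Sheaf.H.map
    ((SheafOfModules.toSheaf (Proj (𝒜 r R)).ringCatSheaf).map
      (0 : GrTilde.tilde (𝒜 r R) (𝒜 r R) d ⟶ GrTilde.tilde (𝒜 r R) (𝒜 r R) ω)) (LL r R))).symm))

end Groth.Agent.Helper1.PnDual
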