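import Mathlib
import Groth.Agent.Helper1.PnDual7
import Groth.Agent.Helper1.ProjTop8
import Groth.Agent.Helper1.TwistIso

set_option autoImplicit false
set_option linter.unusedSectionVars false
set_option linter.style.haveILetI false

/-!
# The perfect pairing on `P^r_R` for the twisting sheaves `O(d)`
-/

namespace Groth.Agent.Helper1.PnDual

open CategoryTheory AlgebraicGeometry TopologicalSpace Opposite MvPolynomial
open Groth.Agent.Helper1.ProjTop Groth.Agent.Helper1.MVTop Groth.Agent.Helper1.ProjSpR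

universe u

section general

variable (A : Type u) [CommRing A] {X : Scheme.{u}} [X.Over (Spec (CommRingCat.of A))]

theorem Hmap_comp {F G H : X.Modules} (a : F ⟶ G) (b : G ⟶ H) (q : ℕ) (x : Coh.HH X F q) :
    Sheaf.H.map ((SheafOfModules.toSheaf X.ringCatSheaf).map (a ≫ b)) q x =
      Sheaf.H.map ((SheafOfModules.toSheaf X.ringCatSheaf).map b) q
        (Sheaf.H.map ((SheafOfModules.toSheaf X.ringCatSheaf).map a) q x) :=
  (congrArg (fun f => Sheaf.H.map f q x)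
    ((SheafOfModules.toSheaf X.ringCatSheaf).map_comp a b)).trans
    (Sheaf.H.map_comp_apply _ _ x)

theorem Hmap_id (F : X.Modules) (q : ℕ) (x : Coh.HH X F q) :
    Sheaf.H.map ((SheafOfModules.toSheaf X.ringCatSheaf).map (𝟙 F)) q x = x :=
  (congrArg (fun f => Sheaf.H.map f q x)
    ((SheafOfModules.toSheaf X.ringCatSheaf).map_id F)).trans (Sheaf.H.map_id_apply x)

/-- transport of a perfect pairing along isomorphisms of the two modules -/
theorem transport_pairing {F F' G G' : X.Modules} (α : F ≅ F') (β : G ≅ G') (q : ℕ)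
    (t' : Coh.HH X G' q ≃ₗ[A] A)
    (h : ∀ ψ' : Coh.HH X F' q →ₗ[A] A, ∃! φ' : F' ⟶ G', ∀ x,
      ψ' x = t' (Sheaf.H.map ((SheafOfModules.toSheaf X.ringCatSheaf).map φ') q x))
    (ψ : Coh.HH X F q →ₗ[A] A) :
    ∃! φ : F ⟶ G, ∀ x, ψ x = ((HHlinEquiv A β q).trans t')
      (Sheaf.H.map ((SheafOfModules.toSheaf X.ringCatSheaf).map φ) q x) := by
  have hβ : ∀ y, ((HHlinEquiv A β q).trans t') y =
      t' (Sheaf.H.map ((SheafOfModules.toSheaf X.ringCatSheaf).map β.hom) q y) := fun y => rfl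
  have hα : ∀ x, (HHlinEquiv A α q) x =
      Sheaf.H.map ((SheafOfModules.toSheaf X.ringCatSheaf).map α.hom) q x := fun x => rfl
  obtain ⟨ψ', hψ'⟩ := exists_comp_symm (HHlinEquiv A α q) ψ
  obtain ⟨φ', hφ', huniq⟩ := h ψ'
  -- the two conjugations
  have key : ∀ (φ : F ⟶ G), (∀ x, ψ x = ((HHlinEquiv A β q).trans t')
      (Sheaf.H.map ((SheafOfModules.toSheaf X.ringCatSheaf).map φ) q x)) ↔
      (∀ x', ψ' x' = t' (Sheaf.H.map ((SheafOfModules.toSheaf X.ringCatSheaf).map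
        (α.inv ≫ φ ≫ β.hom)) q x')) := by
    intro φ
    have e1 : ∀ x, Sheaf.H.map ((SheafOfModules.toSheaf X.ringCatSheaf).map
        (α.inv ≫ φ ≫ β.hom)) q (HHlinEquiv A α q x) =
        Sheaf.H.map ((SheafOfModules.toSheaf X.ringCatSheaf).map β.hom) q
          (Sheaf.H.map ((SheafOfModules.toSheaf X.ringCatSheaf).map φ) q x) := by
      intro x
      refine (congrArg _ (hα x)).trans ?_
      refine (Hmap_comp α.hom (α.inv ≫ φ ≫ β.hom) q x).symm.trans ?_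
      refine (congrArg (fun m => Sheaf.H.map ((SheafOfModules.toSheaf X.ringCatSheaf).map m) q x)
        (Iso.hom_inv_id_assoc α (φ ≫ β.hom))).trans ?_
      exact Hmap_comp φ β.hom q x
    constructor
    · intro h1 x'
      obtain ⟨x, rfl⟩ := (HHlinEquiv A α q).surjective x'
      exact (hψ' x).trans ((h1 x).trans ((hβ _).trans (congrArg t' (e1 x).symm)))
    · intro h1 x
      exact (hψ' x).symm.trans ((h1 _).trans ((congrArg t' (e1 x)).trans (hβ _).symm))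
  refine ⟨α.hom ≫ φ' ≫ β.inv, (key _).2 ?_, ?_⟩
  · intro x'
    have h2 : φ' = α.inv ≫ (α.hom ≫ φ' ≫ β.inv) ≫ β.hom := by
      simp
    exact (hφ' x').trans (congrArg (fun m => t' (Sheaf.H.map
      ((SheafOfModules.toSheaf X.ringCatSheaf).map m) q x')) h2)
  · intro φ hφ
    have h1 : α.inv ≫ φ ≫ β.hom = φ' := huniq _ ((key φ).1 hφ)
    have h2 : φ = α.hom ≫ (α.inv ≫ φ ≫ β.hom) ≫ β.inv := by
      simp
    exact h2.trans (congrArg (fun m => α.hom ≫ m ≫ β.inv) h1)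

end general

variable (r : ℕ) (R : Type u) [CommRing R]

attribute [local instance] overR

set_option synthInstance.maxHeartbeats 400000 in
set_option maxHeartbeats 1000000 in
/-- the pairing for the modules `A(d)~`, in cohomological degree `LL = r` -/
theorem main_tilde_LL (hr : 0 < r) :
    ∃ t : Coh.HH (Proj (𝒜 r R)) (GrTilde.tilde (𝒜 r R) (𝒜 r R) (-((r : ℤ) + 1))) (LL r R) ≃ₗ[R] R,
      ∀ (n : ℤ) (ψ : Coh.HH (Proj (𝒜 r R)) (GrTilde.tilde (𝒜 r R) (𝒜 r R) (-(n + r + 1)))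
          (LL r R) →ₗ[R] R),
        ∃! φ : GrTilde.tilde (𝒜 r R) (𝒜 r R) (-(n + r + 1)) ⟶
            GrTilde.tilde (𝒜 r R) (𝒜 r R) (-((r : ℤ) + 1)),
          ∀ x, ψ x = t (Sheaf.H.map ((SheafOfModules.toSheaf (Proj (𝒜 r R)).ringCatSheaf).map φ)
            (LL r R) x) := by
  obtain ⟨t, ht⟩ := exists_residue r R (-((r : ℤ) + 1)) (by push_cast; ring)
  refine ⟨t, fun n ψ => ?_⟩
  rcases le_or_gt 0 n with hn | hn
  · obtain ⟨n', rfl⟩ := Int.eq_ofNat_of_zero_le hn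
    exact main_nat r R n' _ _ (by ring) (by ring) t ht ψ
  · exact main_neg r R hr _ _ (by linarith) (by linarith) t ψ

set_option synthInstance.maxHeartbeats 400000 in
set_option maxHeartbeats 1000000 in
/-- the pairing for the modules `A(d)~` -/
theorem main_tilde (hr : 0 < r) :
    ∃ t : Coh.HH (Proj (𝒜 r R)) (GrTilde.tilde (𝒜 r R) (𝒜 r R) (-((r : ℤ) + 1))) r ≃ₗ[R] R,
      ∀ (n : ℤ) (ψ : Coh.HH (Proj (𝒜 r R)) (GrTilde.tilde (𝒜 r R) (𝒜 r R) (-(n + r + 1)))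
          r →ₗ[R] R),
        ∃! φ : GrTilde.tilde (𝒜 r R) (𝒜 r R) (-(n + r + 1)) ⟶
            GrTilde.tilde (𝒜 r R) (𝒜 r R) (-((r : ℤ) + 1)),
          ∀ x, ψ x = t (Sheaf.H.map ((SheafOfModules.toSheaf (Proj (𝒜 r R)).ringCatSheaf).map φ)
            r x) := by
  have key : ∀ q, q = r →
      (∃ t : Coh.HH (Proj (𝒜 r R)) (GrTilde.tilde (𝒜 r R) (𝒜 r R) (-((r : ℤ) + 1))) q ≃ₗ[R] R,
      ∀ (n : ℤ) (ψ : Coh.HH (Proj (𝒜 r R)) (GrTilde.tilde (𝒜 r R) (𝒜 r R) (-(n + r + 1)))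
          q →ₗ[R] R),
        ∃! φ : GrTilde.tilde (𝒜 r R) (𝒜 r R) (-(n + r + 1)) ⟶
            GrTilde.tilde (𝒜 r R) (𝒜 r R) (-((r : ℤ) + 1)),
          ∀ x, ψ x = t (Sheaf.H.map ((SheafOfModules.toSheaf (Proj (𝒜 r R)).ringCatSheaf).map φ)
            q x)) →
      (∃ t : Coh.HH (Proj (𝒜 r R)) (GrTilde.tilde (𝒜 r R) (𝒜 r R) (-((r : ℤ) + 1))) r ≃ₗ[R] R,
      ∀ (n : ℤ) (ψ : Coh.HH (Proj (𝒜 r R)) (GrTilde.tilde (𝒜 r R) (𝒜 r R) (-(n + r + 1)))
          r →ₗ[R] R),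
        ∃! φ : GrTilde.tilde (𝒜 r R) (𝒜 r R) (-(n + r + 1)) ⟶
            GrTilde.tilde (𝒜 r R) (𝒜 r R) (-((r : ℤ) + 1)),
          ∀ x, ψ x = t (Sheaf.H.map ((SheafOfModules.toSheaf (Proj (𝒜 r R)).ringCatSheaf).map φ)
            r x)) := by
    intro q hq
    subst hq
    exact id
  exact key _ (length_initList (V r R)) (main_tilde_LL r R hr)

set_option synthInstance.maxHeartbeats 400000 in
set_option maxHeartbeats 1000000 in
/-- **the perfect pairing `Hom(O(-n-r-1), ω) × H^r(O(-n-r-1)) → H^r(ω) ≅ R` on `P^r_R`** -/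
theorem main (hr : 0 < r) :
    ∃ t : Coh.HH (CohB1.ProjSpace r R) (Twist.twistProjSpace r R (-((r : ℤ) + 1))) r ≃ₗ[R] R,
      ∀ (n : ℤ) (ψ : Coh.HH (CohB1.ProjSpace r R) (Twist.twistProjSpace r R (-(n + r + 1))) r
          →ₗ[R] R),
        ∃! φ : Twist.twistProjSpace r R (-(n + r + 1)) ⟶
            Twist.twistProjSpace r R (-((r : ℤ) + 1)),
          ∀ x, ψ x = t (Sheaf.H.map
            ((SheafOfModules.toSheaf (CohB1.ProjSpace r R).ringCatSheaf).map φ) r x) := by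
  obtain ⟨t', ht'⟩ := main_tilde r R hr
  refine ⟨(HHlinEquiv R (X := Proj (𝒜 r R))
    (Groth.Agent.Helper1.TwistIso.twistIsoTilde (𝒜 r R) (-((r : ℤ) + 1))) r).trans t',
    fun n ψ => ?_⟩
  exact transport_pairing R (X := Proj (𝒜 r R))
    (Groth.Agent.Helper1.TwistIso.twistIsoTilde (𝒜 r R) (-(n + r + 1)))
    (Groth.Agent.Helper1.TwistIso.twistIsoTilde (𝒜 r R) (-((r : ℤ) + 1))) r t' (ht' n) ψ

end Groth.Agent.Helper1.PnDual
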