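import Mathlib
import Groth.Agent.Helper1.PnDual8
import Groth.Agent.Helper1.DualSh1

set_option autoImplicit false
set_option linter.unusedSectionVars false
set_option linter.style.haveILetI false

/-!
# All twisting sheaves on `P^r_R` are dualized by `(O(-r-1), residue)`, for every `r ≥ 0`
-/

namespace Groth.Agent.Helper1.PnDual

open CategoryTheory AlgebraicGeometry TopologicalSpace Opposite MvPolynomial
open Groth.Agent.Helper1.GrT Groth.Agent.Helper1.ProjO Groth.Agent.Helper1.TwistMul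
open Groth.Agent.Helper1.ProjTop Groth.Agent.Helper1.MVTop Groth.Agent.Helper1.ProjSpR
open Groth.Agent.Helper1.DualSh

universe u

section general

variable {R A : Type u} [CommRing R] [CommRing A] [Algebra R A] (𝒜 : ℕ → Submodule R A)
  [GradedAlgebra 𝒜]
variable {M : Type u} [AddCommGroup M] [Module R M] [Module A M] [IsScalarTower R A M]
  (ℳ : ℕ → Submodule R M) [DirectSum.Decomposition ℳ] [SetLike.GradedSMul 𝒜 ℳ]

theorem mulHom_comp_eq_id (m n n' k : ℤ) (hk : k = m + n) (hm : m = k + n')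
    (F : GrTilde.sect 𝒜 𝒜 n (op ⊤)) (G : GrTilde.sect 𝒜 𝒜 n' (op ⊤))
    (h : ∀ y : ProjectiveSpectrum.top 𝒜,
      toLoc 𝒜 y (val F y trivial) * toLoc 𝒜 y (val G y trivial) = 1) :
    mulHom 𝒜 ℳ m n k hk F ≫ mulHom 𝒜 ℳ k n' m hm G = 𝟙 _ := by
  apply Scheme.Modules.hom_ext
  intro U
  ext s
  apply sect_ext (𝒜 := 𝒜) (ℳ := ℳ) (n := m) (U := U)
  intro y hy
  have h1 : (mulHom 𝒜 ℳ m n k hk F ≫ mulHom 𝒜 ℳ k n' m hm G).app U s =
      (mulHom 𝒜 ℳ k n' m hm G).app U ((mulHom 𝒜 ℳ m n k hk F).app U s) := by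
    rw [Scheme.Modules.Hom.comp_app]
    rfl
  refine (congrArg (fun z => val (𝒜 := 𝒜) (ℳ := ℳ) (n := m) (U := U) z y hy) h1).trans ?_
  refine (val_mulHom_app 𝒜 ℳ k n' m hm G U _ y hy).trans ?_
  refine (congrArg (fun z => toLoc 𝒜 y (val G y trivial) • z)
    (val_mulHom_app 𝒜 ℳ m n k hk F U s y hy)).trans ?_
  rw [← mul_smul, mul_comm, h y, one_smul]
  rfl

/-- an invertible global section of `A(n)~` identifies `M(m)~` and `M(m+n)~` -/
noncomputable def isoOfInvPair (m n k : ℤ) (hk : k = m + n) (P : InvPair 𝒜 n ⊤) :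
    GrTilde.tilde 𝒜 ℳ m ≅ GrTilde.tilde 𝒜 ℳ k where
  hom := mulHom 𝒜 ℳ m n k hk P.e
  inv := mulHom 𝒜 ℳ k (-n) m (by omega) P.e'
  hom_inv_id := mulHom_comp_eq_id 𝒜 ℳ m n (-n) k hk (by omega) P.e P.e' (fun y => P.mul y trivial)
  inv_hom_id := mulHom_comp_eq_id 𝒜 ℳ k (-n) n m (by omega) hk P.e' P.e
    (fun y => (mul_comm _ _).trans (P.mul y trivial))

end general

variable (r : ℕ) (R : Type u) [CommRing R]

/-- on `P^0` all twisting sheaves are isomorphic -/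
theorem nonempty_iso_of_zero (hr : r = 0) (d d' : ℤ) :
    Nonempty (GrTilde.tilde (𝒜 r R) (𝒜 r R) d ≅ GrTilde.tilde (𝒜 r R) (𝒜 r R) d') := by
  have htop : (⊤ : (Proj (𝒜 r R)).Opens) ≤
      Proj.basicOpen (𝒜 r R) (X (Fin.last r) : MvPolynomial (Fin (r + 1)) R) := by
    intro x _
    have hx : x ∈ Scup (V r R (Fin.last r)) (initList (V r R)) := by
      rw [Scup_eq_top]; trivial
    obtain ⟨i, hi⟩ := (mem_Scup_family (V r R) x).1 hx
    have hi' : i = Fin.last r := by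
      subst hr
      exact Fin.ext (by omega)
    rw [hi'] at hi
    exact (mem_V r R (Fin.last r) x).1 hi
  obtain ⟨P⟩ := nonempty_invPair_of_degOne (𝒜 r R) ⊤ _ (X_mem r R (Fin.last r)) htop (d' - d)
  exact ⟨isoOfInvPair (𝒜 r R) (𝒜 r R) d (d' - d) d' (by ring) P⟩

attribute [local instance] overR

set_option synthInstance.maxHeartbeats 400000 in
set_option maxHeartbeats 1000000 in
/-- all `A(d)~` are dualized, in cohomological degree `LL = r` -/
theorem main_all_LL :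
    ∃ t : Coh.HH (Proj (𝒜 r R)) (GrTilde.tilde (𝒜 r R) (𝒜 r R) (-((r : ℤ) + 1))) (LL r R) ≃ₗ[R] R,
      ∀ d : ℤ, IsDual R (LL r R) t.toLinearMap (GrTilde.tilde (𝒜 r R) (𝒜 r R) d) := by
  obtain ⟨t, ht⟩ := exists_residue r R (-((r : ℤ) + 1)) (by push_cast; ring)
  refine ⟨t, fun d ψ => ?_⟩
  rcases le_or_gt d (-((r : ℤ) + 1)) with hd | hd
  · obtain ⟨n', hn'⟩ := Int.eq_ofNat_of_zero_le (show 0 ≤ -((r : ℤ) + 1) - d by linarith)
    exact main_nat r R n' d _ (by linarith) (by linarith) t ht ψ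
  · rcases Nat.eq_zero_or_pos r with hr | hr
    · obtain ⟨α⟩ := nonempty_iso_of_zero r R hr d (-((r : ℤ) + 1))
      have h0 : IsDual R (LL r R) t.toLinearMap
          (GrTilde.tilde (𝒜 r R) (𝒜 r R) (-((r : ℤ) + 1))) := fun ψ' =>
        main_nat r R 0 _ _ (by push_cast; ring) (by push_cast; ring) t ht ψ'
      exact IsDual.of_iso α h0 ψ
    · exact main_neg r R hr d _ hd hd t ψ

set_option synthInstance.maxHeartbeats 400000 in
set_option maxHeartbeats 1000000 in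
/-- all `A(d)~` are dualized -/
theorem main_all_tilde :
    ∃ t : Coh.HH (Proj (𝒜 r R)) (GrTilde.tilde (𝒜 r R) (𝒜 r R) (-((r : ℤ) + 1))) r ≃ₗ[R] R,
      ∀ d : ℤ, IsDual R r t.toLinearMap (GrTilde.tilde (𝒜 r R) (𝒜 r R) d) := by
  have key : ∀ q, q = r →
      (∃ t : Coh.HH (Proj (𝒜 r R)) (GrTilde.tilde (𝒜 r R) (𝒜 r R) (-((r : ℤ) + 1))) q ≃ₗ[R] R,
        ∀ d : ℤ, IsDual R q t.toLinearMap (GrTilde.tilde (𝒜 r R) (𝒜 r R) d)) →
      (∃ t : Coh.HH (Proj (𝒜 r R)) (GrTilde.tilde (𝒜 r R) (𝒜 r R) (-((r : ℤ) + 1))) r ≃ₗ[R] R,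
        ∀ d : ℤ, IsDual R r t.toLinearMap (GrTilde.tilde (𝒜 r R) (𝒜 r R) d)) := by
    intro q hq
    subst hq
    exact id
  exact key _ (length_initList (V r R)) (main_all_LL r R)

set_option synthInstance.maxHeartbeats 400000 in
set_option maxHeartbeats 1000000 in
/-- **all twisting sheaves `O(d)` on `P^r_R` are dualized by `(O(-r-1), residue)`** -/
theorem main_all :
    ∃ t : Coh.HH (CohB1.ProjSpace r R) (Twist.twistProjSpace r R (-((r : ℤ) + 1))) r ≃ₗ[R] R,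
      ∀ d : ℤ, IsDual R r t.toLinearMap (Twist.twistProjSpace r R d) := by
  obtain ⟨t', ht'⟩ := main_all_tilde r R
  refine ⟨(HHlinEquiv R (X := Proj (𝒜 r R))
    (Groth.Agent.Helper1.TwistIso.twistIsoTilde (𝒜 r R) (-((r : ℤ) + 1))) r).trans t',
    fun d ψ => ?_⟩
  exact transport_pairing R (X := Proj (𝒜 r R))
    (Groth.Agent.Helper1.TwistIso.twistIsoTilde (𝒜 r R) d)
    (Groth.Agent.Helper1.TwistIso.twistIsoTilde (𝒜 r R) (-((r : ℤ) + 1))) r t' (ht' d) ψ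

end Groth.Agent.Helper1.PnDual
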