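import Mathlib
import Groth.Prelude.Def_GrMod3
import Groth.Agent.Helper7.GrAlphaKer

/-!
# Sections of `M(n)~` for gradings by additive subgroups: basic API
-/

set_option autoImplicit false
set_option linter.style.haveILetI false

namespace Groth.Agent.Helper1.GM

open CategoryTheory AlgebraicGeometry TopologicalSpace Opposite
open scoped HomogeneousIdeal

universe u

variable {A σ : Type u} [CommRing A] [SetLike σ A] [AddSubgroupClass σ A] {𝒜 : ℕ → σ} [GradedRing 𝒜]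
variable {M τ : Type u} [AddCommGroup M] [Module A M] [SetLike τ M] [AddSubgroupClass τ M] {ℳ : ℕ → τ}
  [SetLike.GradedSMul 𝒜 ℳ]

/-- two sections with the same values are equal -/
lemma sect_ext {n : ℤ} {V : (Proj 𝒜).Opens} (s t : Γ(GrMod.tilde 𝒜 ℳ n, V))
    (h : ∀ y : V, GrMod.val s y = GrMod.val t y) : s = t :=
  Subtype.ext (funext fun y => Subtype.ext (h y))

lemma val_res {n : ℤ} {U V : (Proj 𝒜).Opens} (h : V ≤ U) (s : Γ(GrMod.tilde 𝒜 ℳ n, U)) (y : V) :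
    GrMod.val ((GrMod.tilde 𝒜 ℳ n).presheaf.map (homOfLE h).op s) y = GrMod.val s ⟨y.1, h y.2⟩ :=
  rfl

lemma val_zero {n : ℤ} {V : (Proj 𝒜).Opens} (y : V) :
    GrMod.val (0 : Γ(GrMod.tilde 𝒜 ℳ n, V)) y = 0 := rfl

lemma val_add {n : ℤ} {V : (Proj 𝒜).Opens} (s t : Γ(GrMod.tilde 𝒜 ℳ n, V)) (y : V) :
    GrMod.val (s + t) y = GrMod.val s y + GrMod.val t y := rfl

/-- a section is locally a fraction -/
lemma exists_local_frac {n : ℤ} {V : (Proj 𝒜).Opens} (s : Γ(GrMod.tilde 𝒜 ℳ n, V)) (y : V) :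
    ∃ (W : (Proj 𝒜).Opens) (hW : W ≤ V) (_ : y.1 ∈ W) (i j : ℕ) (m : M) (f : A), m ∈ ℳ i ∧ f ∈ 𝒜 j ∧
      ((i : ℤ) = j + n ∨ m = 0) ∧ ∀ (z : ProjectiveSpectrum.top 𝒜) (hz : z ∈ W),
        ∃ hf : f ∉ z.asHomogeneousIdeal,
          GrMod.val s ⟨z, hW hz⟩ = LocalizedModule.mk m ⟨f, hf⟩ := by
  obtain ⟨W, hyW, iW, i, j, m, f, nin, hij, hfrac⟩ := (s : GrMod.sect 𝒜 ℳ n (op V)).2 y
  exact ⟨W, leOfHom iW, hyW, i, j, m.1, f.1, m.2, f.2, hij, fun z hz =>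
    ⟨nin ⟨z, hz⟩, hfrac ⟨z, hz⟩⟩⟩

/-- the section `m / f` over an open where `f` does not vanish -/
noncomputable def fracSect (n : ℤ) {i j : ℕ} (m : M) (hm : m ∈ ℳ i) (f : A) (hf : f ∈ 𝒜 j)
    (hij : (i : ℤ) = j + n) (W : (Proj 𝒜).Opens)
    (hW : ∀ z : ProjectiveSpectrum.top 𝒜, z ∈ W → f ∉ z.asHomogeneousIdeal) :
    Γ(GrMod.tilde 𝒜 ℳ n, W) :=
  (⟨fun z => ⟨LocalizedModule.mk m ⟨f, hW z.1 z.2⟩,
      Submodule.subset_span ⟨i, j, ⟨m, hm⟩, ⟨f, hf⟩, hW z.1 z.2, hij, rfl⟩⟩,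
    fun z => ⟨W, z.2, 𝟙 _, i, j, ⟨m, hm⟩, ⟨f, hf⟩, fun w => hW w.1 w.2, Or.inl hij,
      fun _ => rfl⟩⟩ : GrMod.sect 𝒜 ℳ n (op W))

lemma val_fracSect (n : ℤ) {i j : ℕ} (m : M) (hm : m ∈ ℳ i) (f : A) (hf : f ∈ 𝒜 j)
    (hij : (i : ℤ) = j + n) (W : (Proj 𝒜).Opens)
    (hW : ∀ z : ProjectiveSpectrum.top 𝒜, z ∈ W → f ∉ z.asHomogeneousIdeal) (z : W) :
    GrMod.val (fracSect n m hm f hf hij W hW) z = LocalizedModule.mk m ⟨f, hW z.1 z.2⟩ := rfl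

/-- every point of `Proj` has a homogeneous element of positive degree not vanishing there -/
lemma exists_pos_deg_notMem (x : ProjectiveSpectrum 𝒜) :
    ∃ (d : ℕ) (h : A), 0 < d ∧ h ∈ 𝒜 d ∧ h ∉ x.asHomogeneousIdeal := by
  by_contra hcon
  push Not at hcon
  apply x.not_irrelevant_le
  rw [HomogeneousIdeal.irrelevant_le]
  intro i hi f hf
  exact hcon i f hi hf

lemma mk_eq_zero_iff (x : ProjectiveSpectrum 𝒜) (m : M) (f : A)
    (hf : f ∉ x.asHomogeneousIdeal) :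
    (LocalizedModule.mk m ⟨f, hf⟩ : GrMod.LocMod 𝒜 (M := M) x) = 0 ↔
      ∃ g : A, g ∉ x.asHomogeneousIdeal ∧ g • m = 0 := by
  rw [← LocalizedModule.zero_mk (1 : x.asHomogeneousIdeal.toIdeal.primeCompl),
    LocalizedModule.mk_eq]
  constructor
  · rintro ⟨u, hu⟩
    refine ⟨u.1, u.2, ?_⟩
    simpa [Submonoid.smul_def] using hu
  · rintro ⟨g, hg, hgm⟩
    refine ⟨⟨g, hg⟩, ?_⟩
    simp [Submonoid.smul_def, hgm]

lemma mk_eq_mk_of_smul (x : ProjectiveSpectrum 𝒜) (m m' : M) (f f' : A)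
    (hf : f ∉ x.asHomogeneousIdeal) (hf' : f' ∉ x.asHomogeneousIdeal) (h : f' • m = f • m') :
    (LocalizedModule.mk m ⟨f, hf⟩ : GrMod.LocMod 𝒜 (M := M) x) = LocalizedModule.mk m' ⟨f', hf'⟩ := by
  rw [LocalizedModule.mk_eq]
  refine ⟨1, ?_⟩
  simp only [one_smul, Submonoid.smul_def]
  exact h

section decomp

variable [DirectSum.Decomposition ℳ]

/-- a homogeneous element killed by an element outside a homogeneous prime is killed by a
homogeneous element outside that prime -/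
lemma exists_homogeneous_smul_eq_zero (x : ProjectiveSpectrum 𝒜) {i : ℕ} (m : M) (hm : m ∈ ℳ i)
    (g : A) (hg : g ∉ x.asHomogeneousIdeal) (hgm : g • m = 0) :
    ∃ (k : ℕ) (g' : A), g' ∈ 𝒜 k ∧ g' ∉ x.asHomogeneousIdeal ∧ g' • m = 0 := by
  classical
  have hcomp : ∀ k : ℕ, ((DirectSum.decompose 𝒜 g k : 𝒜 k) : A) • m = 0 := by
    intro k
    have h1 := Groth.Agent.Helper7.GrAlphaKer.annEl_isHomogeneous 𝒜 ℳ i ⟨m, hm⟩ k
      ((Groth.Agent.Helper7.GrAlphaKer.mem_annEl (R := A) m g).2 hgm)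
    exact (Groth.Agent.Helper7.GrAlphaKer.mem_annEl (R := A) m _).1 h1
  by_contra hcon
  push Not at hcon
  apply hg
  rw [← DirectSum.sum_support_decompose 𝒜 g]
  refine Ideal.sum_mem _ fun k _ => ?_
  by_contra hk
  exact hcon k _ (DirectSum.decompose 𝒜 g k).2 hk (hcomp k)

end decomp

end Groth.Agent.Helper1.GM
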