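import Mathlib
import Groth.Agent.Helper4.GenLoc
import Groth.Agent.Helper4.TwistExt
import Groth.Agent.Helper4.StalkExact

/-!
# A morphism of modules which is bijective on the sections over a basis is an isomorphism
-/

set_option autoImplicit false

namespace Groth.Agent.Helper1.BasisIso

open CategoryTheory AlgebraicGeometry TopologicalSpace Opposite

universe u

variable {X : Scheme.{u}} {F G : X.Modules} (φ : F ⟶ G) (B : Set X.Opens)
  (hB : ∀ (U : X.Opens) (x : X), x ∈ U → ∃ V ∈ B, x ∈ V ∧ V ≤ U)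
  (h : ∀ V ∈ B, Function.Injective (φ.app V))

include hB h in
theorem app_injective (U : X.Opens) : Function.Injective (φ.app U) := by
  intro s s' hss
  apply Groth.Agent.Helper4.TwistExt.eq_of_cover F U
  intro y hy
  obtain ⟨V, hVB, hyV, hVU⟩ := hB U y hy
  refine ⟨V, hVU, hyV, ?_⟩
  apply h V hVB
  rw [Groth.Agent.Helper4.StalkExact.app_res, Groth.Agent.Helper4.StalkExact.app_res, hss]

variable (h' : ∀ V ∈ B, Function.Surjective (φ.app V))

include hB h h' in
theorem app_surjective (U : X.Opens) : Function.Surjective (φ.app U) := by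
  intro t
  let I : Type u := {V : X.Opens // V ∈ B ∧ V ≤ U}
  let T : I → X.Opens := fun V => V.1
  have hTU : ∀ i : I, T i ≤ U := fun i => i.2.2
  have hcover : U ≤ iSup T := by
    intro y hy
    obtain ⟨V, hVB, hyV, hVU⟩ := hB U y hy
    exact Opens.mem_iSup.mpr ⟨⟨V, hVB, hVU⟩, hyV⟩
  choose σ hσ using fun i : I => h' i.1 i.2.1 (G.presheaf.map (homOfLE (hTU i)).op t)
  have hcompat : TopCat.Presheaf.IsCompatible F.presheaf T σ := by
    intro i j
    apply app_injective φ B hB h
    change φ.app (T i ⊓ T j) (F.presheaf.map (homOfLE inf_le_left).op (σ i)) =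
      φ.app (T i ⊓ T j) (F.presheaf.map (homOfLE inf_le_right).op (σ j))
    rw [Groth.Agent.Helper4.StalkExact.app_res, Groth.Agent.Helper4.StalkExact.app_res, hσ, hσ,
      ← ConcreteCategory.comp_apply, ← ConcreteCategory.comp_apply, ← G.presheaf.map_comp,
      ← G.presheaf.map_comp]
    rfl
  obtain ⟨s, hs, -⟩ := TopCat.Sheaf.existsUnique_gluing'
    (⟨F.presheaf, F.isSheaf⟩ : TopCat.Sheaf Ab X) T U (fun i => homOfLE (hTU i)) hcover σ hcompat
  refine ⟨s, ?_⟩
  apply Groth.Agent.Helper4.TwistExt.eq_of_cover G U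
  intro y hy
  obtain ⟨V, hVB, hyV, hVU⟩ := hB U y hy
  refine ⟨V, hVU, hyV, ?_⟩
  have h1 : F.presheaf.map (homOfLE hVU).op s = σ ⟨V, hVB, hVU⟩ := hs ⟨V, hVB, hVU⟩
  rw [← Groth.Agent.Helper4.StalkExact.app_res, h1]
  exact hσ ⟨V, hVB, hVU⟩

include hB in
/-- a morphism of modules which is bijective on the sections over the members of a basis is an
isomorphism -/
theorem isIso_of_bijective_on_basis (hbij : ∀ V ∈ B, Function.Bijective (φ.app V)) : IsIso φ :=
  Groth.Agent.Helper4.GenLoc.isIso_of_app_bijective φ fun U =>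
    ⟨app_injective φ B hB (fun V hV => (hbij V hV).1) U,
      app_surjective φ B hB (fun V hV => (hbij V hV).1) (fun V hV => (hbij V hV).2) U⟩

end Groth.Agent.Helper1.BasisIso
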