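import Mathlib
import Groth.Prelude.Def_RelProj3
import Groth.Agent.Helper1.GrT3
import Groth.Agent.Helper1.GrT4
import Groth.Agent.Helper1.BasisIso

/-!
# `GrMod.comap` is an isomorphism for a bijective degree-preserving semilinear map
(gradings by submodules)
-/

set_option autoImplicit false
set_option linter.unusedSectionVars false
set_option linter.style.haveILetI false

namespace Groth.Agent.Helper1.GrT

open CategoryTheory AlgebraicGeometry TopologicalSpace Opposite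
open scoped HomogeneousIdeal

universe u

variable {R A : Type u} [CommRing R] [CommRing A] [Algebra R A] (𝒜 : ℕ → Submodule R A)
  [GradedAlgebra 𝒜]
variable {M : Type u} [AddCommGroup M] [Module R M] [Module A M] [IsScalarTower R A M]
  (ℳ : ℕ → Submodule R M) [DirectSum.Decomposition ℳ] [SetLike.GradedSMul 𝒜 ℳ]
variable {R' B : Type u} [CommRing R'] [CommRing B] [Algebra R' B] (ℬ : ℕ → Submodule R' B)
  [GradedAlgebra ℬ]
variable {N : Type u} [AddCommGroup N] [Module R' N] [Module B N] [IsScalarTower R' B N]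
  (𝒩 : ℕ → Submodule R' N) [DirectSum.Decomposition 𝒩] [SetLike.GradedSMul ℬ 𝒩]
variable (ψ : 𝒜 →+*ᵍ ℬ) (hψ : ℬ₊ ≤ (𝒜₊).map ψ) (v : M →ₛₗ[ψ.toRingHom] N)
  (hv : ∀ (i : ℕ) (m : M), m ∈ ℳ i → v m ∈ 𝒩 i) (hinj : Function.Injective v)
  (hsurj : Function.Surjective v)

include hv in
/-- a degree-preserving additive map commutes with taking homogeneous components -/
lemma semilinear_map_decompose (m : M) (k : ℕ) :
    v ((DirectSum.decompose ℳ m k : ℳ k) : M) = ((DirectSum.decompose 𝒩 (v m) k : 𝒩 k) : N) := by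
  classical
  conv_rhs => rw [← DirectSum.sum_support_decompose ℳ m, map_sum, DirectSum.decompose_sum,
    DFinsupp.finsetSum_apply, AddSubmonoidClass.coe_finsetSum]
  by_cases hk : k ∈ (DirectSum.decompose ℳ m).support
  · rw [Finset.sum_eq_single k]
    · exact (DirectSum.decompose_of_mem_same 𝒩 (hv k _ (DirectSum.decompose ℳ m k).2)).symm
    · intro l _ hlk
      exact DirectSum.decompose_of_mem_ne 𝒩 (hv l _ (DirectSum.decompose ℳ m l).2) hlk
    · intro h; exact absurd hk h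
  · have h0 : ((DirectSum.decompose ℳ m k : ℳ k) : M) = 0 := by
      rw [DFinsupp.notMem_support_iff] at hk
      rw [hk]; rfl
    rw [h0, map_zero]
    refine (Finset.sum_eq_zero fun l hl => ?_).symm
    exact DirectSum.decompose_of_mem_ne 𝒩 (hv l _ (DirectSum.decompose ℳ m l).2)
      (fun h => hk (h ▸ hl))

include hv hinj in
/-- an injective degree-preserving map reflects degrees -/
lemma mem_of_map_mem {i : ℕ} {m : M} (h : v m ∈ 𝒩 i) : m ∈ ℳ i := by
  classical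
  have h0 : ∀ k, k ≠ i → ((DirectSum.decompose ℳ m k : ℳ k) : M) = 0 := by
    intro k hk
    apply hinj
    rw [semilinear_map_decompose (ψ := ψ) (v := v) (hv := hv), map_zero]
    exact DirectSum.decompose_of_mem_ne 𝒩 h (Ne.symm hk)
  rw [← DirectSum.sum_support_decompose ℳ m]
  refine sum_mem fun k _ => ?_
  by_cases hk : k = i
  · subst hk; exact (DirectSum.decompose ℳ m k).2
  · rw [h0 k hk]; exact zero_mem _

section loc

variable {L : Type u} [AddCommGroup L] [Module A L] [Module B L]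
  (hAB : ∀ (a : A) (l : L), a • l = ψ a • l)
  (τN : N →ₗ[B] L)

/-- the localization map of `M` at `f`, with values in `N_{ψ f}` -/
def τM : M →ₗ[A] L where
  toFun m := τN (v m)
  map_add' a b := by rw [map_add, map_add]
  map_smul' a m := by
    rw [LinearMap.map_smulₛₗ, map_smul, RingHom.id_apply, hAB]
    rfl

@[simp] lemma τM_apply (m : M) : τM 𝒜 ℬ ψ v hAB τN m = τN (v m) := rfl

variable (f : A) [IsLocalizedModule (Submonoid.powers (ψ f)) τN]

include hinj hsurj in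
lemma isLocalizedModule_τM :
    IsLocalizedModule (Submonoid.powers f) (τM 𝒜 ℬ ψ v hAB τN) where
  map_units := by
    rintro ⟨_, k, rfl⟩
    rw [Module.End.isUnit_iff]
    have h1 := IsLocalizedModule.map_units τN
      (⟨ψ f ^ k, k, rfl⟩ : Submonoid.powers (ψ f))
    rw [Module.End.isUnit_iff] at h1
    have h2 : ⇑((algebraMap A (Module.End A L)) (f ^ k)) =
        ⇑((algebraMap B (Module.End B L)) (ψ f ^ k)) := by
      funext l
      show f ^ k • l = ψ f ^ k • l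
      rw [hAB, map_pow]
    rw [h2]
    exact h1
  surj := by
    intro y
    obtain ⟨⟨n', ⟨_, k, rfl⟩⟩, h⟩ := IsLocalizedModule.surj (Submonoid.powers (ψ f)) τN y
    obtain ⟨m, rfl⟩ := hsurj n'
    refine ⟨⟨m, ⟨f ^ k, k, rfl⟩⟩, ?_⟩
    show f ^ k • y = τN (v m)
    rw [hAB, map_pow]
    exact h
  exists_of_eq := by
    intro x₁ x₂ h
    obtain ⟨⟨_, k, rfl⟩, hc⟩ := IsLocalizedModule.exists_of_eq (S := Submonoid.powers (ψ f))
      (f := τN) (show τN (v x₁) = τN (v x₂) from h)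
    refine ⟨⟨f ^ k, k, rfl⟩, ?_⟩
    apply hinj
    show v (f ^ k • x₁) = v (f ^ k • x₂)
    rw [LinearMap.map_smulₛₗ, LinearMap.map_smulₛₗ]
    show ψ (f ^ k) • v x₁ = ψ (f ^ k) • v x₂
    rw [map_pow]
    exact hc

end loc

include hinj hsurj in
/-- **sections over `D₊(f)`: `GrMod.comap` is bijective** -/
theorem comapApp_bijective_basicOpen (n : ℤ) {e : ℕ} (he : 0 < e) (f : A) (hf : f ∈ 𝒜 e)
    (U : Opens (ProjectiveSpectrum.top 𝒜)) (hU : U = ProjectiveSpectrum.basicOpen 𝒜 f)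
    (V : Opens (ProjectiveSpectrum.top ℬ)) (hV : V = ProjectiveSpectrum.basicOpen ℬ (ψ f))
    (hUV : V.1 ⊆ ProjectiveSpectrum.comap ψ hψ ⁻¹' U.1) :
    Function.Bijective (GrMod.comapApp ψ hψ v hv n U V hUV) := by
  let L := LocalizedModule (Submonoid.powers (ψ f)) N
  letI : Module A L := Module.compHom L ψ.toRingHom
  have hAB : ∀ (a : A) (l : L), a • l = ψ a • l := fun _ _ => rfl
  let τN : N →ₗ[B] L := LocalizedModule.mkLinearMap (Submonoid.powers (ψ f)) N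
  haveI : IsLocalizedModule (Submonoid.powers (ψ f)) τN := inferInstance
  haveI := isLocalizedModule_τM 𝒜 ℬ ψ v hinj hsurj hAB τN f
  have hg : ψ f ∈ ℬ e := ψ.map_mem hf
  have hU' : ∀ y : ProjectiveSpectrum.top 𝒜, y ∈ U → f ∉ y.asHomogeneousIdeal :=
    fun y hy => (ProjectiveSpectrum.mem_basicOpen 𝒜 f y).1 (hU ▸ hy)
  have hV' : ∀ y : ProjectiveSpectrum.top ℬ, y ∈ V → ψ f ∉ y.asHomogeneousIdeal :=
    fun y hy => (ProjectiveSpectrum.mem_basicOpen ℬ (ψ f) y).1 (hV ▸ hy)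
  have hDeg : ∀ l : L, l ∈ Deg 𝒜 ℳ f (τM 𝒜 ℬ ψ v hAB τN) he hf n ↔
      l ∈ Deg ℬ 𝒩 (ψ f) τN he hg n := by
    intro l
    constructor
    · rintro ⟨k, i, m, hm, hi, h⟩
      refine ⟨k, i, v m, hv i m hm, hi, ?_⟩
      rw [← map_pow, ← hAB]
      exact h
    · rintro ⟨k, i, n', hn', hi, h⟩
      obtain ⟨m, rfl⟩ := hsurj n'
      refine ⟨k, i, m, mem_of_map_mem 𝒜 ℳ ℬ 𝒩 ψ v hv hinj hn', hi, ?_⟩
      rw [hAB, map_pow]
      exact h
  have hcomm : ∀ (l : L) (hl : l ∈ Deg 𝒜 ℳ f (τM 𝒜 ℬ ψ v hAB τN) he hf n),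
      GrMod.comapApp ψ hψ v hv n U V hUV
        (toSect 𝒜 ℳ f (τM 𝒜 ℬ ψ v hAB τN) he hf n U hU' ⟨l, hl⟩) =
      toSect ℬ 𝒩 (ψ f) τN he hg n V hV' ⟨l, (hDeg l).1 hl⟩ := by
    intro l hl
    apply sect_ext
    intro y hy
    obtain ⟨k, i, m, hm, hi, h⟩ := hl
    have h' : ψ f ^ k • l = τN (v m) := by
      rw [← map_pow, ← hAB]
      exact h
    rw [val_toSect, ev_eq_mk ℬ (ψ f) τN l y (hV' y hy) k (v m) h']
    change GrMod.locModMap ψ hψ v y (ev f (τM 𝒜 ℬ ψ v hAB τN)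
      (ProjectiveSpectrum.comap ψ hψ y) (hU' _ (hUV hy)) l) = _
    rw [ev_eq_mk 𝒜 f (τM 𝒜 ℬ ψ v hAB τN) l _ (hU' _ (hUV hy)) k m h, GrMod.locModMap_mk]
    congr 1
    exact Subtype.ext (map_pow ψ f k)
  have bM := toSect_bijective 𝒜 ℳ f (τM 𝒜 ℬ ψ v hAB τN) he hf n U hU
  have bN := toSect_bijective ℬ 𝒩 (ψ f) τN he hg n V hV
  constructor
  · intro s s' hss
    obtain ⟨⟨l, hl⟩, rfl⟩ := bM.2 s
    obtain ⟨⟨l', hl'⟩, rfl⟩ := bM.2 s'
    rw [hcomm l hl, hcomm l' hl'] at hss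
    have := bN.1 hss
    have hll : l = l' := congrArg Subtype.val this
    subst hll
    rfl
  · intro t
    obtain ⟨⟨l, hl⟩, rfl⟩ := bN.2 t
    exact ⟨_, hcomm l ((hDeg l).2 hl)⟩

include hinj hsurj in
/-- **`GrMod.comap` is an isomorphism for a bijective degree-preserving semilinear map**
(gradings by submodules) -/
theorem isIso_comap_of_bijective (n : ℤ) : IsIso (GrMod.comap ψ hψ v hv n) := by
  apply Groth.Agent.Helper1.BasisIso.isIso_of_bijective_on_basis _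
    {V : (Proj 𝒜).Opens | ∃ (e : ℕ) (f : A), 0 < e ∧ f ∈ 𝒜 e ∧ V = Proj.basicOpen 𝒜 f}
  · intro U x hx
    obtain ⟨d, f, hd, hf, hxf⟩ := exists_pos_deg_notMem 𝒜 x
    obtain ⟨e, h, he, hh, hxh, hsub⟩ := exists_basicOpen_le 𝒜 hd f hf U x hx hxf
    exact ⟨Proj.basicOpen 𝒜 h, ⟨e, h, he, hh, rfl⟩, hxh, fun y hy => (hsub y hy).1⟩
  · rintro V ⟨e, f, he, hf, rfl⟩
    exact comapApp_bijective_basicOpen 𝒜 ℳ ℬ 𝒩 ψ hψ v hv hinj hsurj n he f hf
      (Proj.basicOpen 𝒜 f) rfl (Proj.map ψ hψ ⁻¹ᵁ Proj.basicOpen 𝒜 f) rfl Set.Subset.rfl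

end Groth.Agent.Helper1.GrT
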