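import Mathlib
import Groth.Prelude.Def_RelProj3

/-!
# Isomorphisms of graded rings and modules induce isomorphisms of the attached sheaves on `Proj`

For mutually inverse graded homomorphisms `ψ : 𝒜 → ℬ`, `χ : ℬ → 𝒜` and mutually inverse
degree-preserving semilinear maps `v : M → N`, `v' : N → M`, the canonical map
`GrMod.comap : M(n)~ ⟶ (Proj ψ)_* N(n)~` is bijective on sections.
-/

set_option autoImplicit false
set_option linter.style.haveILetI false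

namespace Groth.Agent.Helper1.TR

open CategoryTheory AlgebraicGeometry TopologicalSpace Opposite GrMod
open scoped HomogeneousIdeal

universe u

variable {A σ : Type u} [CommRing A] [SetLike σ A] [AddSubgroupClass σ A] {𝒜 : ℕ → σ}
  [GradedRing 𝒜]
variable {M τ : Type u} [AddCommGroup M] [Module A M] [SetLike τ M] [AddSubgroupClass τ M]
  {ℳ : ℕ → τ} [SetLike.GradedSMul 𝒜 ℳ]
variable {B σ' : Type u} [CommRing B] [SetLike σ' B] [AddSubgroupClass σ' B] {ℬ : ℕ → σ'}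
  [GradedRing ℬ]
variable {N τ' : Type u} [AddCommGroup N] [Module B N] [SetLike τ' N] [AddSubgroupClass τ' N]
  {𝒩 : ℕ → τ'} [SetLike.GradedSMul ℬ 𝒩]
variable (ψ : 𝒜 →+*ᵍ ℬ) (hψ : ℬ₊ ≤ (𝒜₊).map ψ) (v : M →ₛₗ[ψ.toRingHom] N)
  (hv : ∀ (i : ℕ) (m : M), m ∈ ℳ i → v m ∈ 𝒩 i)
  (χ : ℬ →+*ᵍ 𝒜) (hχ : 𝒜₊ ≤ (ℬ₊).map χ) (v' : N →ₛₗ[χ.toRingHom] M)
  (hv' : ∀ (i : ℕ) (m : N), m ∈ 𝒩 i → v' m ∈ ℳ i)
  (hχψ : ∀ a, χ (ψ a) = a) (hψχ : ∀ b, ψ (χ b) = b)
  (hv'v : ∀ m, v' (v m) = m) (hvv' : ∀ m, v (v' m) = m)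

include hχψ in

theorem comap_comap (x : ProjectiveSpectrum 𝒜) :
    ProjectiveSpectrum.comap ψ hψ (ProjectiveSpectrum.comap χ hχ x) = x := by
  apply ProjectiveSpectrum.ext
  apply HomogeneousIdeal.ext
  ext a
  show χ (ψ a) ∈ x.asHomogeneousIdeal.toIdeal ↔ a ∈ x.asHomogeneousIdeal.toIdeal
  rw [hχψ]

include hχψ hv'v in
/-- the round trip along mutually inverse graded isomorphisms is the identity on sections -/
theorem comapApp_comapApp (n : ℤ) (U : Opens (ProjectiveSpectrum.top 𝒜))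
    (V : Opens (ProjectiveSpectrum.top ℬ))
    (hUV : V.1 ⊆ ProjectiveSpectrum.comap ψ hψ ⁻¹' U.1)
    (hVU : U.1 ⊆ ProjectiveSpectrum.comap χ hχ ⁻¹' V.1) (s : sect 𝒜 ℳ n (op U)) :
    comapApp χ hχ v' hv' n V U hVU (comapApp ψ hψ v hv n U V hUV s) = s := by
  refine Subtype.ext (funext fun x => Subtype.ext ?_)
  rw [comapApp_apply_coe]
  obtain ⟨W, hxW, i, a, b, m, f, nin, -, hfrac⟩ := s.2 x
  have hcc := comap_comap ψ hψ χ hχ hχψ x.1
  have hz₀ : ProjectiveSpectrum.comap ψ hψ (ProjectiveSpectrum.comap χ hχ x.1) ∈ W := by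
    rw [hcc]; exact hxW
  have h1 : ((comapApp ψ hψ v hv n U V hUV s).1
      ⟨ProjectiveSpectrum.comap χ hχ x.1, hVU x.2⟩).1 =
      LocalizedModule.mk (v (m : M)) ⟨ψ (f : A), nin ⟨_, hz₀⟩⟩ := by
    rw [comapApp_apply_coe]
    exact (congrArg (locModMap ψ hψ v _) (hfrac ⟨_, hz₀⟩)).trans (locModMap_mk ψ hψ v _ _ _)
  have h2 : (s.1 x).1 = LocalizedModule.mk (m : M) ⟨(f : A), nin ⟨x.1, hxW⟩⟩ := hfrac ⟨x.1, hxW⟩
  refine (congrArg (locModMap χ hχ v' x.1) h1).trans ((locModMap_mk χ hχ v' x.1 _ _).trans ?_)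
  refine Eq.trans ?_ h2.symm
  have h3 : ∀ (S : Submonoid A) (m₁ m₂ : M) (s₁ s₂ : S), m₁ = m₂ →
      (s₁ : A) = s₂ → LocalizedModule.mk m₁ s₁ = LocalizedModule.mk m₂ s₂ := by
    intro S m₁ m₂ s₁ s₂ e1 e2
    subst e1
    congr 1
    exact Subtype.ext e2
  exact h3 _ _ _ _ _ (hv'v _) (hχψ _)

include hχ hv' hχψ hψχ hv'v hvv' in
/-- for mutually inverse graded isomorphisms, `GrMod.comap` is bijective on sections -/
theorem comap_app_bijective (n : ℤ) (U : (Proj 𝒜).Opens) :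
    Function.Bijective ((GrMod.comap ψ hψ v hv n).app U) := by
  have hVU : U.1 ⊆ ProjectiveSpectrum.comap χ hχ ⁻¹' (Proj.map ψ hψ ⁻¹ᵁ U).1 := by
    intro x hx
    exact Eq.subst (motive := fun z => z ∈ U.1) (comap_comap ψ hψ χ hχ hχψ x).symm hx
  constructor
  · intro s t hst
    have hst' : comapApp ψ hψ v hv n U (Proj.map ψ hψ ⁻¹ᵁ U) Set.Subset.rfl s =
        comapApp ψ hψ v hv n U (Proj.map ψ hψ ⁻¹ᵁ U) Set.Subset.rfl t := hst
    have := congrArg (comapApp χ hχ v' hv' n _ U hVU) hst'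
    have h1 := comapApp_comapApp ψ hψ v hv χ hχ v' hv' hχψ hv'v n U (Proj.map ψ hψ ⁻¹ᵁ U)
      Set.Subset.rfl hVU s
    have h2 := comapApp_comapApp ψ hψ v hv χ hχ v' hv' hχψ hv'v n U (Proj.map ψ hψ ⁻¹ᵁ U)
      Set.Subset.rfl hVU t
    exact h1.symm.trans (this.trans h2)
  · intro t
    refine ⟨comapApp χ hχ v' hv' n _ U hVU t, ?_⟩
    exact comapApp_comapApp χ hχ v' hv' ψ hψ v hv hψχ hvv' n _ U hVU Set.Subset.rfl t

end Groth.Agent.Helper1.TR
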