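import Mathlib
import Groth.Prelude.Def_RelProj3
import Groth.Agent.Helper1.TR1
import Groth.Agent.Helper4.GenLoc

/-!
# Scheme-level consequences of a graded isomorphism; restriction isomorphisms from sectionwise bijections
-/

set_option autoImplicit false
set_option linter.style.haveILetI false

namespace Groth.Agent.Helper1.TR

open CategoryTheory AlgebraicGeometry TopologicalSpace Opposite GrMod
open scoped HomogeneousIdeal

universe u

section plumbing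

variable {Z P : Scheme.{u}} (j : Z ⟶ P) [IsOpenImmersion j]

/-- a morphism `L ⟶ j_* G` (for an open immersion `j`) which is bijective on sections over opens inside the
range of `j` restricts to an isomorphism -/
theorem isIso_restrict_of_bijective {L : P.Modules} {G : Z.Modules}
    (φ : L ⟶ (Scheme.Modules.pushforward j).obj G)
    (h : ∀ W : P.Opens, W ≤ j.opensRange → Function.Bijective (φ.app W)) :
    IsIso ((Scheme.Modules.restrictFunctor j).map φ) := by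
  apply Groth.Agent.Helper4.GenLoc.isIso_of_app_bijective
  intro V
  exact h (j ''ᵁ V) (by
    rintro _ ⟨x, -, rfl⟩
    exact ⟨x, rfl⟩)

/-- the resulting isomorphism `L|_Z ≅ G` -/
noncomputable def restrictIso {L : P.Modules} {G : Z.Modules}
    (φ : L ⟶ (Scheme.Modules.pushforward j).obj G)
    (h : ∀ W : P.Opens, W ≤ j.opensRange → Function.Bijective (φ.app W)) :
    L.restrict j ≅ G :=
  haveI := isIso_restrict_of_bijective j φ h
  asIso ((Scheme.Modules.restrictFunctor j).map φ) ≪≫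
    (Scheme.Modules.restrictFunctorAdjCounitIso j).app G

end plumbing

variable {A σ : Type u} [CommRing A] [SetLike σ A] [AddSubgroupClass σ A] {𝒜 : ℕ → σ}
  [GradedRing 𝒜]
variable {M τ : Type u} [AddCommGroup M] [Module A M] [SetLike τ M] [AddSubgroupClass τ M]
  {ℳ : ℕ → τ} [SetLike.GradedSMul 𝒜 ℳ]
variable {B σ' : Type u} [CommRing B] [SetLike σ' B] [AddSubgroupClass σ' B] {ℬ : ℕ → σ'}
  [GradedRing ℬ]
variable {N τ' : Type u} [AddCommGroup N] [Module B N] [SetLike τ' N] [AddSubgroupClass τ' N]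
  {𝒩 : ℕ → τ'} [SetLike.GradedSMul ℬ 𝒩]
variable (ψ : 𝒜 →+*ᵍ ℬ) (hψ : ℬ₊ ≤ (𝒜₊).map ψ) (v : M →ₛₗ[ψ.toRingHom] N)
  (hv : ∀ (i : ℕ) (m : M), m ∈ ℳ i → v m ∈ 𝒩 i)
  (χ : ℬ →+*ᵍ 𝒜) (hχ : 𝒜₊ ≤ (ℬ₊).map χ) (v' : N →ₛₗ[χ.toRingHom] M)
  (hv' : ∀ (i : ℕ) (m : N), m ∈ 𝒩 i → v' m ∈ ℳ i)
  (hχψ : ∀ a, χ (ψ a) = a) (hψχ : ∀ b, ψ (χ b) = b)
  (hv'v : ∀ m, v' (v m) = m) (hvv' : ∀ m, v (v' m) = m)

omit [AddSubgroupClass σ A] [GradedRing 𝒜] in
lemma projMap_congr {A σ : Type u} [CommRing A] [SetLike σ A] [AddSubgroupClass σ A] {𝒜 : ℕ → σ}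
    [GradedRing 𝒜] {B σ' : Type u} [CommRing B] [SetLike σ' B] [AddSubgroupClass σ' B] {ℬ : ℕ → σ'}
    [GradedRing ℬ] (f g : 𝒜 →+*ᵍ ℬ) (h : f = g) (hf : ℬ₊ ≤ (𝒜₊).map f) (hg : ℬ₊ ≤ (𝒜₊).map g) :
    Proj.map f hf = Proj.map g hg := by
  subst h; rfl

include hχψ in
theorem projMap_comp_projMap : Proj.map χ hχ ≫ Proj.map ψ hψ = 𝟙 (Proj 𝒜) := by
  rw [← Proj.map_comp ψ χ hψ hχ, ← Proj.map_id]
  apply projMap_congr
  apply GradedRingHom.ext
  intro a
  exact hχψ a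

include hχ hχψ hψχ in
theorem isIso_projMap : IsIso (Proj.map ψ hψ) :=
  ⟨Proj.map χ hχ, projMap_comp_projMap χ hχ ψ hψ hψχ, projMap_comp_projMap ψ hψ χ hχ hχψ⟩

include hχ hv' hχψ hψχ hv'v hvv' in
theorem isIso_comap (n : ℤ) : IsIso (GrMod.comap ψ hψ v hv n) :=
  Groth.Agent.Helper4.GenLoc.isIso_of_app_bijective _
    (comap_app_bijective ψ hψ v hv χ hχ v' hv' hχψ hψχ hv'v hvv' n)

end Groth.Agent.Helper1.TR
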