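import Mathlib
import Groth.Prelude.Def_RelProj3

/-!
# `ℤ`-ification of gradings by additive subgroups

A grading `𝒜 : ℕ → σ` of a commutative ring `A` by additive subgroups is the same thing as a grading by
`ULift ℤ`-submodules, `zGr 𝒜`.  Similarly for module gradings.  The identity maps are mutually inverse graded
homomorphisms.  This is the bridge used to transfer results proved for `Submodule`-gradings (`GrTilde`, `Twist`)
to `AddSubgroupClass`-gradings (`GrMod`, `GrTwist`).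
-/

set_option autoImplicit false
set_option linter.style.haveILetI false

namespace Groth.Agent.Helper1.TRZ

open CategoryTheory AlgebraicGeometry TopologicalSpace Opposite
open scoped HomogeneousIdeal

universe u

attribute [local instance] ULift.algebra'

section ring

variable {A σ : Type u} [CommRing A] [SetLike σ A] [AddSubgroupClass σ A] (𝒜 : ℕ → σ)

/-- the grading `𝒜` as a grading by `ULift ℤ`-submodules -/
def zGr (n : ℕ) : Submodule (ULift.{u} ℤ) A where
  carrier := 𝒜 n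
  add_mem' := add_mem
  zero_mem' := zero_mem _
  smul_mem' c x hx := by
    show c.down • x ∈ 𝒜 n
    exact zsmul_mem hx _

@[simp] lemma mem_zGr {n : ℕ} {a : A} : a ∈ zGr 𝒜 n ↔ a ∈ 𝒜 n := Iff.rfl

/-- the identity `𝒜 i → zGr 𝒜 i` -/
def toZ (i : ℕ) : 𝒜 i →+ zGr 𝒜 i where
  toFun x := ⟨x.1, x.2⟩
  map_zero' := rfl
  map_add' _ _ := rfl

/-- the identity `zGr 𝒜 i → 𝒜 i` -/
def ofZ (i : ℕ) : zGr 𝒜 i →+ 𝒜 i where
  toFun x := ⟨x.1, x.2⟩
  map_zero' := rfl
  map_add' _ _ := rfl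

variable [GradedRing 𝒜]

instance gradedMonoid_zGr : SetLike.GradedMonoid (zGr 𝒜) where
  one_mem := SetLike.GradedOne.one_mem (A := 𝒜)
  mul_mem _ _ _ _ ha hb := SetLike.GradedMul.mul_mem (A := 𝒜) ha hb

end ring

section decomp

variable {M τ : Type u} [AddCommGroup M] [SetLike τ M] [AddSubgroupClass τ M] (ℳ : ℕ → τ)

/-- the grading `ℳ` as a grading by `ULift ℤ`-submodules -/
def zGrM (n : ℕ) : Submodule (ULift.{u} ℤ) M where
  carrier := ℳ n
  add_mem' := add_mem
  zero_mem' := zero_mem _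
  smul_mem' c x hx := by
    show c.down • x ∈ ℳ n
    exact zsmul_mem hx _

@[simp] lemma mem_zGrM {n : ℕ} {a : M} : a ∈ zGrM ℳ n ↔ a ∈ ℳ n := Iff.rfl

/-- the identity `ℳ i → zGrM ℳ i` -/
def toZM (i : ℕ) : ℳ i →+ zGrM ℳ i where
  toFun x := ⟨x.1, x.2⟩
  map_zero' := rfl
  map_add' _ _ := rfl

lemma coe_map_toZM (x : DirectSum ℕ fun i => ℳ i) :
    DirectSum.coeAddMonoidHom (zGrM ℳ) (DirectSum.map (toZM ℳ) x) = DirectSum.coeAddMonoidHom ℳ x := by
  induction x using DirectSum.induction_on with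
  | zero => simp
  | of i y =>
    rw [DirectSum.map_of, DirectSum.coeAddMonoidHom_of, DirectSum.coeAddMonoidHom_of]
    rfl
  | add x y hx hy => rw [map_add, map_add, map_add, hx, hy]

variable [DirectSum.Decomposition ℳ]

instance decomposition_zGrM : DirectSum.Decomposition (zGrM ℳ) :=
  DirectSum.Decomposition.ofAddHom (zGrM ℳ)
    ((DirectSum.map (toZM ℳ)).comp (DirectSum.decomposeAddEquiv ℳ).toAddMonoidHom)
    (by
      classical
      ext m
      show DirectSum.coeAddMonoidHom (zGrM ℳ) (DirectSum.map (toZM ℳ) (DirectSum.decompose ℳ m)) = m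
      rw [coe_map_toZM]
      exact DirectSum.Decomposition.left_inv m)
    (by
      classical
      refine DirectSum.addHom_ext fun i y => ?_
      show DirectSum.map (toZM ℳ) (DirectSum.decompose ℳ
        (DirectSum.coeAddMonoidHom (zGrM ℳ) (DirectSum.of (fun i => zGrM ℳ i) i y))) =
          DirectSum.of (fun i => zGrM ℳ i) i y
      rw [DirectSum.coeAddMonoidHom_of]
      have : DirectSum.decompose ℳ (y : M) = DirectSum.of (fun i => ℳ i) i ⟨y.1, y.2⟩ :=
        DirectSum.decompose_of_mem ℳ (x := (y : M)) y.2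
      rw [this, DirectSum.map_of]
      rfl)

lemma decompose_zGrM (m : M) (i : ℕ) :
    ((DirectSum.decompose (zGrM ℳ) m i : zGrM ℳ i) : M) = (DirectSum.decompose ℳ m i : ℳ i) := by
  show ((DirectSum.map (toZM ℳ) (DirectSum.decompose ℳ m)) i : M) = _
  rw [DirectSum.map_apply]
  rfl

end decomp

section ring2

variable {A σ : Type u} [CommRing A] [SetLike σ A] [AddSubgroupClass σ A] (𝒜 : ℕ → σ) [GradedRing 𝒜]

instance gradedAlgebra_zGr : GradedAlgebra (zGr 𝒜) where
  toGradedMonoid := gradedMonoid_zGr 𝒜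
  toDecomposition := decomposition_zGrM 𝒜

end ring2

section module

variable {A σ : Type u} [CommRing A] [SetLike σ A] [AddSubgroupClass σ A] (𝒜 : ℕ → σ) [GradedRing 𝒜]
variable {M τ : Type u} [AddCommGroup M] [Module A M] [SetLike τ M] [AddSubgroupClass τ M] (ℳ : ℕ → τ)

instance gradedSMul_zGr [SetLike.GradedSMul 𝒜 ℳ] : SetLike.GradedSMul (zGr 𝒜) (zGrM ℳ) where
  smul_mem := fun {_ _ _ _} ha hm => SetLike.GradedSMul.smul_mem (A := 𝒜) (B := ℳ) ha hm

instance isScalarTower_zGr : IsScalarTower (ULift.{u} ℤ) A M where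
  smul_assoc c a m := by
    show (c.down • a) • m = c.down • (a • m)
    exact smul_assoc _ _ _

/-- the identity as a graded ring homomorphism `𝒜 → zGr 𝒜` -/
def idTo : 𝒜 →+*ᵍ zGr 𝒜 where
  toRingHom := RingHom.id A
  map_mem h := h

/-- the identity as a graded ring homomorphism `zGr 𝒜 → 𝒜` -/
def idFrom : zGr 𝒜 →+*ᵍ 𝒜 where
  toRingHom := RingHom.id A
  map_mem h := h

@[simp] lemma idTo_apply (a : A) : idTo 𝒜 a = a := rfl
@[simp] lemma idFrom_apply (a : A) : idFrom 𝒜 a = a := rfl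

lemma irrelevant_zGr_le (I : Ideal A) : ((zGr 𝒜)₊).toIdeal ≤ I ↔ (𝒜₊).toIdeal ≤ I := by
  rw [HomogeneousIdeal.toIdeal_irrelevant_le, HomogeneousIdeal.toIdeal_irrelevant_le]
  rfl

lemma irrelevant_zGr : ((zGr 𝒜)₊).toIdeal = (𝒜₊).toIdeal :=
  le_antisymm ((irrelevant_zGr_le 𝒜 _).2 le_rfl) ((irrelevant_zGr_le 𝒜 _).1 le_rfl)

lemma hTo : (zGr 𝒜)₊ ≤ (𝒜₊).map (idTo 𝒜) := by
  intro a ha
  have ha' : a ∈ (𝒜₊).toIdeal := by rw [← irrelevant_zGr]; exact ha
  show a ∈ Ideal.map (idTo 𝒜) (𝒜₊).toIdeal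
  exact Ideal.mem_map_of_mem (idTo 𝒜) ha'

lemma hFrom : 𝒜₊ ≤ ((zGr 𝒜)₊).map (idFrom 𝒜) := by
  intro a ha
  have ha' : a ∈ ((zGr 𝒜)₊).toIdeal := by rw [irrelevant_zGr]; exact ha
  show a ∈ Ideal.map (idFrom 𝒜) ((zGr 𝒜)₊).toIdeal
  exact Ideal.mem_map_of_mem (idFrom 𝒜) ha'

/-- the identity of `M`, semilinear over `idTo` -/
def vTo : M →ₛₗ[(idTo 𝒜).toRingHom] M where
  toFun m := m
  map_add' _ _ := rfl
  map_smul' _ _ := rfl

/-- the identity of `M`, semilinear over `idFrom` -/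
def vFrom : M →ₛₗ[(idFrom 𝒜).toRingHom] M where
  toFun m := m
  map_add' _ _ := rfl
  map_smul' _ _ := rfl

@[simp] lemma vTo_apply (m : M) : vTo (M := M) 𝒜 m = m := rfl
@[simp] lemma vFrom_apply (m : M) : vFrom (M := M) 𝒜 m = m := rfl

end module

end Groth.Agent.Helper1.TRZ
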