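import Mathlib
import Groth.Prelude.Def_RelProj3
import Groth.Agent.Helper1.TR0
import Groth.Agent.Helper1.TR2
import Groth.Agent.Helper1.TR3
import Groth.Agent.Helper1.TwistIso
import Groth.Agent.Helper1.GrT4
import Groth.Agent.Lead.PerfLib5

/-!
# Transfer of `M(n)~` from gradings by additive subgroups to gradings by submodules
-/

set_option autoImplicit false
set_option linter.style.haveILetI false

namespace Groth.Agent.Helper1.TRT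

open CategoryTheory AlgebraicGeometry TopologicalSpace Opposite
open Groth.Agent.Helper1.TRZ
open scoped HomogeneousIdeal

universe u

attribute [local instance] ULift.algebra'

variable {A σ : Type u} [CommRing A] [SetLike σ A] [AddSubgroupClass σ A] (𝒜 : ℕ → σ) [GradedRing 𝒜]
variable {M τ : Type u} [AddCommGroup M] [Module A M] [SetLike τ M] [AddSubgroupClass τ M] (ℳ : ℕ → τ)
  [SetLike.GradedSMul 𝒜 ℳ]

/-- the canonical isomorphism `Proj (zGr 𝒜) ≅ Proj 𝒜` (as a morphism) -/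
noncomputable def eZ : Proj (zGr 𝒜) ⟶ Proj 𝒜 := Proj.map (idTo 𝒜) (hTo 𝒜)

instance isIso_eZ : IsIso (eZ 𝒜) :=
  TR.isIso_projMap (idTo 𝒜) (hTo 𝒜) (idFrom 𝒜) (hFrom 𝒜) (fun _ => rfl) (fun _ => rfl)

section general

variable {τ' : Type u} [SetLike τ' M] [AddSubgroupClass τ' M] (𝒩 : ℕ → τ')
  [SetLike.GradedSMul (zGr 𝒜) 𝒩] (h𝒩 : ∀ (i : ℕ) (m : M), m ∈ ℳ i ↔ m ∈ 𝒩 i)

/-- the comparison morphism -/
noncomputable def cmp (n : ℤ) :
    GrMod.tilde 𝒜 ℳ n ⟶ (Scheme.Modules.pushforward (eZ 𝒜)).obj (GrMod.tilde (zGr 𝒜) 𝒩 n) :=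
  GrMod.comap (idTo 𝒜) (hTo 𝒜) (vTo 𝒜) (fun i m h => (h𝒩 i m).1 h) n

instance isIso_cmp (n : ℤ) : IsIso (cmp 𝒜 ℳ 𝒩 h𝒩 n) :=
  TR.isIso_comap (idTo 𝒜) (hTo 𝒜) (vTo 𝒜) (fun i m h => (h𝒩 i m).1 h) (idFrom 𝒜) (hFrom 𝒜)
    (vFrom 𝒜) (fun i m h => (h𝒩 i m).2 h) (fun _ => rfl) (fun _ => rfl) (fun _ => rfl)
    (fun _ => rfl) n

/-- `M(n)~` restricted along `Proj (zGr 𝒜) ≅ Proj 𝒜` -/
noncomputable def restrictIso (n : ℤ) :
    (GrMod.tilde 𝒜 ℳ n).restrict (eZ 𝒜) ≅ GrMod.tilde (zGr 𝒜) 𝒩 n :=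
  (Scheme.Modules.restrictFunctor (eZ 𝒜)).mapIso (asIso (cmp 𝒜 ℳ 𝒩 h𝒩 n)) ≪≫
    (Scheme.Modules.restrictFunctorAdjCounitIso (eZ 𝒜)).app _

end general

/-- `M(n)~` restricted along `Proj (zGr 𝒜) ≅ Proj 𝒜` is the `GrTilde` module of the `ℤ`-ified grading -/
noncomputable def tildeRestrictIso (n : ℤ) :
    (GrMod.tilde 𝒜 ℳ n).restrict (eZ 𝒜) ≅ GrTilde.tilde (zGr 𝒜) (zGrM ℳ) n :=
  restrictIso 𝒜 ℳ (zGrM ℳ) (fun _ _ => Iff.rfl) n

/-- `O(n)` restricted along `Proj (zGr 𝒜) ≅ Proj 𝒜` is the `Twist` module of the `ℤ`-ified grading -/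
noncomputable def twistRestrictIso (n : ℤ) :
    (GrTwist.twist 𝒜 n).restrict (eZ 𝒜) ≅ Twist.twist (zGr 𝒜) n :=
  (Scheme.Modules.restrictFunctor (eZ 𝒜)).mapIso (TR0.twistIsoTilde 𝒜 n) ≪≫
    restrictIso 𝒜 𝒜 (zGr 𝒜) (fun _ _ => Iff.rfl) n ≪≫ (TwistIso.twistIsoTilde (zGr 𝒜) n).symm

lemma range_eZ (x : Proj 𝒜) : x ∈ Set.range (eZ 𝒜) :=
  ⟨inv (eZ 𝒜) x, by
    rw [← Scheme.Hom.comp_apply, IsIso.inv_hom_id]
    rfl⟩

/-- **`M(n)~` is quasi-coherent** (gradings by additive subgroups) -/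
theorem isQuasicoherent_tilde [DirectSum.Decomposition ℳ] (n : ℤ) :
    (GrMod.tilde 𝒜 ℳ n).IsQuasicoherent := by
  apply Groth.Agent.Lead.PerfLib.isQuasicoherent_of_locally
  intro x
  refine ⟨_, eZ 𝒜, inferInstance, range_eZ 𝒜 x, ?_⟩
  have := Groth.Agent.Helper1.GrT.isQuasicoherent_tilde (zGr 𝒜) (zGrM ℳ) n
  exact Groth.Agent.Helper4.QcohLimits.isQuasicoherent_of_iso (tildeRestrictIso 𝒜 ℳ n).symm

/-- **`O(n)` is quasi-coherent** (gradings by additive subgroups) -/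
theorem isQuasicoherent_twist (n : ℤ) : (GrTwist.twist 𝒜 n).IsQuasicoherent := by
  apply Groth.Agent.Lead.PerfLib.isQuasicoherent_of_locally
  intro x
  refine ⟨_, eZ 𝒜, inferInstance, range_eZ 𝒜 x, ?_⟩
  have := Groth.Agent.Helper1.TwistIso.isQuasicoherent_twist (zGr 𝒜) n
  exact Groth.Agent.Helper4.QcohLimits.isQuasicoherent_of_iso (twistRestrictIso 𝒜 n).symm

end Groth.Agent.Helper1.TRT
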