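import Mathlib
import Groth.Prelude.Def_RelProj3
import Groth.Agent.Helper1.TR4
import Groth.Agent.Helper1.GrT15

/-!
# `GrMod.comap` is an isomorphism for a bijective degree-preserving semilinear map
(gradings by additive subgroups)
-/

set_option autoImplicit false
set_option linter.unusedSectionVars false
set_option linter.style.haveILetI false

namespace Groth.Agent.Helper1.TRT

open CategoryTheory AlgebraicGeometry TopologicalSpace Opposite GrMod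
open Groth.Agent.Helper1.TRZ
open scoped HomogeneousIdeal

universe u

attribute [local instance] ULift.algebra'

theorem app_bijective_of_isIso {X : Scheme.{u}} {F G : X.Modules} (φ : F ⟶ G) [IsIso φ]
    (U : X.Opens) : Function.Bijective (φ.app U) := by
  haveI : IsIso ((Scheme.Modules.toPresheaf X).map φ) := inferInstance
  haveI : IsIso (((Scheme.Modules.toPresheaf X).map φ).app (op U)) := inferInstance
  exact ConcreteCategory.bijective_of_isIso (((Scheme.Modules.toPresheaf X).map φ).app (op U))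

variable {A σ : Type u} [CommRing A] [SetLike σ A] [AddSubgroupClass σ A] {𝒜 : ℕ → σ}
  [GradedRing 𝒜]
variable {M τ : Type u} [AddCommGroup M] [Module A M] [SetLike τ M] [AddSubgroupClass τ M]
  {ℳ : ℕ → τ} [SetLike.GradedSMul 𝒜 ℳ]
variable {B σ' : Type u} [CommRing B] [SetLike σ' B] [AddSubgroupClass σ' B] {ℬ : ℕ → σ'}
  [GradedRing ℬ]
variable {N τ' : Type u} [AddCommGroup N] [Module B N] [SetLike τ' N] [AddSubgroupClass τ' N]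
  {𝒩 : ℕ → τ'} [SetLike.GradedSMul ℬ 𝒩]
variable (ψ : 𝒜 →+*ᵍ ℬ) (hψ : ℬ₊ ≤ (𝒜₊).map ψ) (v : M →ₛₗ[ψ.toRingHom] N)
  (hv : ∀ (i : ℕ) (m : M), m ∈ ℳ i → v m ∈ 𝒩 i)

/-- the same homomorphism between the `ℤ`-ified gradings -/
def zψ : zGr 𝒜 →+*ᵍ zGr ℬ where
  toRingHom := ψ.toRingHom
  map_mem h := ψ.map_mem h

@[simp] lemma zψ_apply (a : A) : zψ ψ a = ψ a := rfl

include hψ in
lemma hzψ : (zGr ℬ)₊ ≤ ((zGr 𝒜)₊).map (zψ ψ) := by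
  intro b hb
  have hb' : b ∈ (ℬ₊).toIdeal := by rw [← irrelevant_zGr]; exact hb
  have h1 : b ∈ Ideal.map ψ (𝒜₊).toIdeal := hψ hb'
  show b ∈ Ideal.map (zψ ψ) ((zGr 𝒜)₊).toIdeal
  rw [irrelevant_zGr]
  exact h1

/-- the same semilinear map between the `ℤ`-ified graded modules -/
def zv : M →ₛₗ[(zψ ψ).toRingHom] N where
  toFun := v
  map_add' := v.map_add
  map_smul' := v.map_smul'

@[simp] lemma zv_apply (m : M) : zv ψ v m = v m := rfl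

include hv in
lemma hzv : ∀ (i : ℕ) (m : M), m ∈ zGrM ℳ i → zv ψ v m ∈ zGrM 𝒩 i := fun i m h => hv i m h

lemma comap_comap_eq (y : ProjectiveSpectrum (zGr ℬ)) :
    ProjectiveSpectrum.comap ψ hψ (ProjectiveSpectrum.comap (idTo ℬ) (hTo ℬ) y) =
      ProjectiveSpectrum.comap (idTo 𝒜) (hTo 𝒜)
        (ProjectiveSpectrum.comap (zψ ψ) (hzψ ψ hψ) y) := by
  apply ProjectiveSpectrum.ext
  apply HomogeneousIdeal.ext
  rfl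

/-- the square of comparison maps commutes -/
theorem comapApp_square (n : ℤ) (U : Opens (ProjectiveSpectrum.top 𝒜))
    (V : Opens (ProjectiveSpectrum.top ℬ)) (U' : Opens (ProjectiveSpectrum.top (zGr 𝒜)))
    (V' : Opens (ProjectiveSpectrum.top (zGr ℬ)))
    (hUV : V.1 ⊆ ProjectiveSpectrum.comap ψ hψ ⁻¹' U.1)
    (hVV' : V'.1 ⊆ ProjectiveSpectrum.comap (idTo ℬ) (hTo ℬ) ⁻¹' V.1)
    (hUU' : U'.1 ⊆ ProjectiveSpectrum.comap (idTo 𝒜) (hTo 𝒜) ⁻¹' U.1)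
    (hU'V' : V'.1 ⊆ ProjectiveSpectrum.comap (zψ ψ) (hzψ ψ hψ) ⁻¹' U'.1)
    (s : sect 𝒜 ℳ n (op U)) :
    comapApp (ℳ := 𝒩) (𝒩 := zGrM 𝒩) (idTo ℬ) (hTo ℬ) (vTo ℬ) (fun _ _ h => h) n V V' hVV'
        (comapApp ψ hψ v hv n U V hUV s) =
      comapApp (ℳ := zGrM ℳ) (𝒩 := zGrM 𝒩) (zψ ψ) (hzψ ψ hψ) (zv ψ v) (hzv ψ v hv) n U' V' hU'V'
        (comapApp (ℳ := ℳ) (𝒩 := zGrM ℳ) (idTo 𝒜) (hTo 𝒜) (vTo 𝒜) (fun _ _ h => h) n U U'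
          hUU' s) := by
  refine Subtype.ext (funext fun y => Subtype.ext ?_)
  rw [comapApp_apply_coe, comapApp_apply_coe]
  have hx₁ : ProjectiveSpectrum.comap ψ hψ (ProjectiveSpectrum.comap (idTo ℬ) (hTo ℬ) y.1) ∈ U :=
    hUV (hVV' y.2)
  obtain ⟨W, hxW, i, a, b, m, f, nin, -, hfrac⟩ := s.2 ⟨_, hx₁⟩
  have hx₂ : ProjectiveSpectrum.comap (idTo 𝒜) (hTo 𝒜)
      (ProjectiveSpectrum.comap (zψ ψ) (hzψ ψ hψ) y.1) ∈ W := by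
    rw [← comap_comap_eq]; exact hxW
  have h1 : ((comapApp ψ hψ v hv n U V hUV s).1
      ⟨ProjectiveSpectrum.comap (idTo ℬ) (hTo ℬ) y.1, hVV' y.2⟩).1 =
      LocalizedModule.mk (v (m : M)) ⟨ψ (f : A), nin ⟨_, hxW⟩⟩ := by
    rw [comapApp_apply_coe]
    exact (congrArg (locModMap ψ hψ v _) (hfrac ⟨_, hxW⟩)).trans (locModMap_mk ψ hψ v _ _ _)
  have h2 : ((comapApp (ℳ := ℳ) (𝒩 := zGrM ℳ) (idTo 𝒜) (hTo 𝒜) (vTo 𝒜) (fun _ _ h => h) n U U'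
      hUU' s).1
      ⟨ProjectiveSpectrum.comap (zψ ψ) (hzψ ψ hψ) y.1, hU'V' y.2⟩).1 =
      LocalizedModule.mk (m : M) ⟨(f : A), nin ⟨_, hx₂⟩⟩ := by
    rw [comapApp_apply_coe]
    exact (congrArg (locModMap (idTo 𝒜) (hTo 𝒜) (vTo 𝒜) _) (hfrac ⟨_, hx₂⟩)).trans
      (locModMap_mk (idTo 𝒜) (hTo 𝒜) (vTo 𝒜) _ _ _)
  refine (congrArg (locModMap (idTo ℬ) (hTo ℬ) (vTo ℬ) y.1) h1).trans
    ((locModMap_mk (idTo ℬ) (hTo ℬ) (vTo ℬ) y.1 _ _).trans ?_)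
  refine Eq.symm ((congrArg (locModMap (zψ ψ) (hzψ ψ hψ) (zv ψ v) y.1) h2).trans
    ((locModMap_mk (zψ ψ) (hzψ ψ hψ) (zv ψ v) y.1 _ _).trans ?_))
  rfl

/-- **`GrMod.comap` is an isomorphism for a bijective degree-preserving semilinear map**
(gradings by additive subgroups) -/
theorem isIso_comap_of_bijective [DirectSum.Decomposition ℳ] [DirectSum.Decomposition 𝒩]
    (hbij : Function.Bijective v) (n : ℤ) : IsIso (GrMod.comap ψ hψ v hv n) := by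
  apply Groth.Agent.Helper4.GenLoc.isIso_of_app_bijective
  intro U
  haveI := Groth.Agent.Helper1.GrT.isIso_comap_of_bijective (zGr 𝒜) (zGrM ℳ) (zGr ℬ) (zGrM 𝒩)
    (zψ ψ) (hzψ ψ hψ) (zv ψ v) (hzv ψ v hv) hbij.1 hbij.2 n
  have bZ := app_bijective_of_isIso
    (GrMod.comap (ℳ := zGrM ℳ) (𝒩 := zGrM 𝒩) (zψ ψ) (hzψ ψ hψ) (zv ψ v) (hzv ψ v hv) n)
    (Proj.map (idTo 𝒜) (hTo 𝒜) ⁻¹ᵁ U)
  have bA := TR.comap_app_bijective (ℳ := ℳ) (𝒩 := zGrM ℳ) (idTo 𝒜) (hTo 𝒜) (vTo 𝒜)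
    (fun _ _ h => h) (idFrom 𝒜) (hFrom 𝒜) (vFrom 𝒜) (fun _ _ h => h) (fun _ => rfl)
    (fun _ => rfl) (fun _ => rfl) (fun _ => rfl) n U
  have bB := TR.comap_app_bijective (ℳ := 𝒩) (𝒩 := zGrM 𝒩) (idTo ℬ) (hTo ℬ) (vTo ℬ)
    (fun _ _ h => h) (idFrom ℬ) (hFrom ℬ) (vFrom ℬ) (fun _ _ h => h) (fun _ => rfl)
    (fun _ => rfl) (fun _ => rfl) (fun _ => rfl) n (Proj.map ψ hψ ⁻¹ᵁ U)
  have hsq : ∀ s : Γ(GrMod.tilde 𝒜 ℳ n, U),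
      (GrMod.comap (ℳ := 𝒩) (𝒩 := zGrM 𝒩) (idTo ℬ) (hTo ℬ) (vTo ℬ) (fun _ _ h => h) n).app
          (Proj.map ψ hψ ⁻¹ᵁ U) ((GrMod.comap ψ hψ v hv n).app U s) =
        (GrMod.comap (ℳ := zGrM ℳ) (𝒩 := zGrM 𝒩) (zψ ψ) (hzψ ψ hψ) (zv ψ v) (hzv ψ v hv) n).app
          (Proj.map (idTo 𝒜) (hTo 𝒜) ⁻¹ᵁ U)
          ((GrMod.comap (ℳ := ℳ) (𝒩 := zGrM ℳ) (idTo 𝒜) (hTo 𝒜) (vTo 𝒜) (fun _ _ h => h) n).app
            U s) := fun s =>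
    comapApp_square ψ hψ v hv n U (Proj.map ψ hψ ⁻¹ᵁ U) (Proj.map (idTo 𝒜) (hTo 𝒜) ⁻¹ᵁ U)
      (Proj.map (idTo ℬ) (hTo ℬ) ⁻¹ᵁ (Proj.map ψ hψ ⁻¹ᵁ U)) Set.Subset.rfl Set.Subset.rfl
      Set.Subset.rfl Set.Subset.rfl s
  constructor
  · intro s t hst
    apply bA.1
    apply bZ.1
    rw [← hsq s, ← hsq t, hst]
  · intro t
    obtain ⟨s', hs'⟩ := bZ.2 ((GrMod.comap (ℳ := 𝒩) (𝒩 := zGrM 𝒩) (idTo ℬ) (hTo ℬ) (vTo ℬ)
      (fun _ _ h => h) n).app (Proj.map ψ hψ ⁻¹ᵁ U) t)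
    obtain ⟨s, rfl⟩ := bA.2 s'
    refine ⟨s, bB.1 ?_⟩
    rw [hsq s]
    exact hs'

end Groth.Agent.Helper1.TRT
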