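import Mathlib
import Groth.Prelude.Def_RelProj3
import Groth.Agent.Helper1.TR0
import Groth.Agent.Helper1.TR4
import Groth.Agent.Helper1.TR16
import Groth.Agent.Helper1.TwistMul4

/-!
# Sections of the twisting sheaves `O(n)` for gradings by additive subgroups: basic API, and
multiplication by an invertible fraction
-/

set_option autoImplicit false
set_option linter.unusedSectionVars false
set_option linter.style.haveILetI false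

namespace Groth.Agent.Helper1.GT

open CategoryTheory AlgebraicGeometry TopologicalSpace Opposite
open Groth.Agent.Helper1.TRZ
open scoped HomogeneousIdeal

universe u

attribute [local instance] ULift.algebra'

variable {A σ : Type u} [CommRing A] [SetLike σ A] [AddSubgroupClass σ A] {𝒜 : ℕ → σ} [GradedRing 𝒜]

/-- two sections with the same values are equal -/
lemma sect_ext {n : ℤ} {V : (Proj 𝒜).Opens} (s t : Γ(GrTwist.twist 𝒜 n, V))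
    (h : ∀ y : V, GrTwist.val s y = GrTwist.val t y) : s = t :=
  Subtype.ext (funext fun y => Subtype.ext (h y))

lemma val_res {n : ℤ} {U V : (Proj 𝒜).Opens} (h : V ≤ U) (s : Γ(GrTwist.twist 𝒜 n, U)) (y : V) :
    GrTwist.val ((GrTwist.twist 𝒜 n).presheaf.map (homOfLE h).op s) y =
      GrTwist.val s ⟨y.1, h y.2⟩ :=
  rfl

lemma val_zero {n : ℤ} {V : (Proj 𝒜).Opens} (y : V) :
    GrTwist.val (0 : Γ(GrTwist.twist 𝒜 n, V)) y = 0 := rfl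

lemma val_add {n : ℤ} {V : (Proj 𝒜).Opens} (s t : Γ(GrTwist.twist 𝒜 n, V)) (y : V) :
    GrTwist.val (s + t) y = GrTwist.val s y + GrTwist.val t y := rfl

/-- the section `a / b` over an open where `b` does not vanish -/
noncomputable def fracSect (n : ℤ) {i j : ℕ} (a : A) (ha : a ∈ 𝒜 i) (b : A) (hb : b ∈ 𝒜 j)
    (hij : (i : ℤ) = j + n) (W : (Proj 𝒜).Opens)
    (hW : ∀ z : ProjectiveSpectrum.top 𝒜, z ∈ W → b ∉ z.asHomogeneousIdeal) :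
    Γ(GrTwist.twist 𝒜 n, W) :=
  (⟨fun z => ⟨Localization.mk a ⟨b, hW z.1 z.2⟩,
      Submodule.subset_span ⟨i, j, ⟨a, ha⟩, ⟨b, hb⟩, hW z.1 z.2, hij, rfl⟩⟩,
    fun z => ⟨W, z.2, 𝟙 _, i, j, ⟨a, ha⟩, ⟨b, hb⟩, fun w => hW w.1 w.2, Or.inl hij,
      fun _ => rfl⟩⟩ : GrTwist.sectN (𝒜 := 𝒜) n (op W))

lemma val_fracSect (n : ℤ) {i j : ℕ} (a : A) (ha : a ∈ 𝒜 i) (b : A) (hb : b ∈ 𝒜 j)
    (hij : (i : ℤ) = j + n) (W : (Proj 𝒜).Opens)
    (hW : ∀ z : ProjectiveSpectrum.top 𝒜, z ∈ W → b ∉ z.asHomogeneousIdeal) (z : W) :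
    GrTwist.val (fracSect n a ha b hb hij W hW) z = Localization.mk a ⟨b, hW z.1 z.2⟩ := rfl

variable (𝒜) in
/-- the comparison of sections with the `ℤ`-ified Submodule version -/
noncomputable def Θ (n : ℤ) (W : (Proj 𝒜).Opens) (s : Γ(GrTwist.twist 𝒜 n, W)) :
    Γ(GrTilde.tilde (zGr 𝒜) (zGr 𝒜) n, Proj.map (idTo 𝒜) (hTo 𝒜) ⁻¹ᵁ W) :=
  GrMod.comapApp (ℳ := 𝒜) (𝒩 := zGr 𝒜) (idTo 𝒜) (hTo 𝒜) (vTo 𝒜) (fun _ _ h => h) n W
    (Proj.map (idTo 𝒜) (hTo 𝒜) ⁻¹ᵁ W) Set.Subset.rfl (TR0.toTilde 𝒜 n (op W) s)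

lemma Θ_bijective (n : ℤ) (W : (Proj 𝒜).Opens) : Function.Bijective (Θ 𝒜 n W) := by
  have b1 := TR.comap_app_bijective (ℳ := 𝒜) (𝒩 := zGr 𝒜) (idTo 𝒜) (hTo 𝒜) (vTo 𝒜)
    (fun _ _ h => h) (idFrom 𝒜) (hFrom 𝒜) (vFrom 𝒜) (fun _ _ h => h) (fun _ => rfl)
    (fun _ => rfl) (fun _ => rfl) (fun _ => rfl) n W
  have b2 : Function.Bijective (TR0.toTilde 𝒜 n (op W)) :=
    ⟨fun s t h => by
      have := congrArg (TR0.ofTilde 𝒜 n (op W)) h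
      exact this,
     fun t => ⟨TR0.ofTilde 𝒜 n (op W) t, rfl⟩⟩
  exact b1.comp b2

variable (𝒜) in
/-- the comparison of functions -/
noncomputable def κ (W : (Proj 𝒜).Opens) (c : Γ(Proj 𝒜, W)) :
    Γ(Proj (zGr 𝒜), Proj.map (idTo 𝒜) (hTo 𝒜) ⁻¹ᵁ W) :=
  (TRT.eZ 𝒜).app W c

lemma κ_bijective (W : (Proj 𝒜).Opens) : Function.Bijective (κ 𝒜 W) :=
  ConcreteCategory.bijective_of_isIso ((TRT.eZ 𝒜).app W)

lemma Θ_smul (n : ℤ) (W : (Proj 𝒜).Opens) (c : Γ(Proj 𝒜, W)) (s : Γ(GrTwist.twist 𝒜 n, W)) :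
    Θ 𝒜 n W (c • s) = κ 𝒜 W c • Θ 𝒜 n W s := by
  unfold Θ
  let c' : GrTwist.O (𝒜 := 𝒜) (op W) := c
  have h1 : TR0.toTilde 𝒜 n (op W) (c • s) = c' • TR0.toTilde 𝒜 n (op W) s :=
    TR0.toTilde_smul 𝒜 n (op W) c' s
  rw [h1]
  exact GrMod.comapApp_smul (ℳ := 𝒜) (𝒩 := zGr 𝒜) (idTo 𝒜) (hTo 𝒜) (vTo 𝒜) (fun _ _ h => h) n W
    (Proj.map (idTo 𝒜) (hTo 𝒜) ⁻¹ᵁ W) Set.Subset.rfl c (TR0.toTilde 𝒜 n (op W) s)

open Groth.Agent.Helper1.TwistMul in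
/-- **multiplication by an invertible fraction is bijective** -/
theorem smul_fracSect_bijective (n : ℤ) {i j : ℕ} (a : A) (ha : a ∈ 𝒜 i) (b : A) (hb : b ∈ 𝒜 j)
    (hij : (i : ℤ) = j + n) (W : (Proj 𝒜).Opens)
    (hWa : ∀ z : ProjectiveSpectrum.top 𝒜, z ∈ W → a ∉ z.asHomogeneousIdeal)
    (hWb : ∀ z : ProjectiveSpectrum.top 𝒜, z ∈ W → b ∉ z.asHomogeneousIdeal) :
    Function.Bijective (fun c : Γ(Proj 𝒜, W) => c • fracSect n a ha b hb hij W hWb) := by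
  let W' : (Proj (zGr 𝒜)).Opens := Proj.map (idTo 𝒜) (hTo 𝒜) ⁻¹ᵁ W
  have hWa' : ∀ y : ProjectiveSpectrum.top (zGr 𝒜), y ∈ W' → a ∉ y.asHomogeneousIdeal :=
    fun y hy => hWa _ hy
  have hWb' : ∀ y : ProjectiveSpectrum.top (zGr 𝒜), y ∈ W' → b ∉ y.asHomogeneousIdeal :=
    fun y hy => hWb _ hy
  let P : InvPair (zGr 𝒜) n W' := InvPair.ofFrac (zGr 𝒜) n W' a b ha hb hij hWa' hWb'
  have hΘe : Θ 𝒜 n W (fracSect n a ha b hb hij W hWb) = P.eΓ := by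
    refine Subtype.ext (funext fun y => Subtype.ext ?_)
    rfl
  have hcomp : (fun c' : Γ(Proj (zGr 𝒜), W') => c' • P.eΓ) ∘ κ 𝒜 W =
      Θ 𝒜 n W ∘ fun c : Γ(Proj 𝒜, W) => c • fracSect n a ha b hb hij W hWb := by
    funext c
    simp only [Function.comp_apply]
    rw [Θ_smul, hΘe]
  have h1 : Function.Bijective ((fun c' : Γ(Proj (zGr 𝒜), W') => c' • P.eΓ) ∘ κ 𝒜 W) :=
    P.smul_bijective.comp (κ_bijective W)
  rw [hcomp] at h1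
  exact (Function.Bijective.of_comp_iff' (Θ_bijective n W) _).1 h1

end Groth.Agent.Helper1.GT
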