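import Mathlib
import Groth.Prelude.Def_RelProj3
import Groth.Agent.Helper1.GT1

/-!
# Multiplication of sections of the twisting sheaves `O(m) × O(n) → O(m + n)`
(gradings by additive subgroups)
-/

set_option autoImplicit false
set_option linter.unusedSectionVars false
set_option linter.style.haveILetI false

namespace Groth.Agent.Helper1.GT

open CategoryTheory AlgebraicGeometry TopologicalSpace Opposite
open scoped HomogeneousIdeal

universe u

variable {A σ : Type u} [CommRing A] [SetLike σ A] [AddSubgroupClass σ A] {𝒜 : ℕ → σ} [GradedRing 𝒜]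

/-- products of fractions of degrees `m` and `n` are fractions of degree `m + n` -/
lemma mul_mem_twistAt (m n : ℤ) (x : ProjectiveSpectrum 𝒜) {q q' : GrTwist.Loc 𝒜 x}
    (hq : q ∈ GrTwist.twistAt 𝒜 m x) (hq' : q' ∈ GrTwist.twistAt 𝒜 n x) :
    q * q' ∈ GrTwist.twistAt 𝒜 (m + n) x := by
  induction hq using Submodule.span_induction with
  | mem q h =>
    obtain ⟨i, j, a, s, hs, hij, rfl⟩ := h
    induction hq' using Submodule.span_induction with
    | mem q' h' =>
      obtain ⟨i', j', a', s', hs', hij', rfl⟩ := h'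
      rw [Localization.mk_mul]
      exact Submodule.subset_span ⟨i + i', j + j',
        ⟨(a : A) * (a' : A), SetLike.mul_mem_graded a.2 a'.2⟩,
        ⟨(s : A) * (s' : A), SetLike.mul_mem_graded s.2 s'.2⟩,
        fun h => (x.isPrime.mem_or_mem h).elim hs hs', by push_cast; omega, rfl⟩
    | zero => rw [mul_zero]; exact zero_mem _
    | add q₁ q₂ _ _ h₁ h₂ => rw [mul_add]; exact add_mem h₁ h₂
    | smul c q₁ _ h₁ =>
      rw [mul_smul_comm]
      exact Submodule.smul_mem _ c h₁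
  | zero => rw [zero_mul]; exact zero_mem _
  | add q₁ q₂ _ _ h₁ h₂ => rw [add_mul]; exact add_mem h₁ h₂
  | smul c q₁ _ h₁ =>
    rw [smul_mul_assoc]
    exact Submodule.smul_mem _ c h₁

/-- the product of two sections -/
noncomputable def mulSect (m n : ℤ) (W : (Proj 𝒜).Opens) (s : Γ(GrTwist.twist 𝒜 m, W))
    (s' : Γ(GrTwist.twist 𝒜 n, W)) : Γ(GrTwist.twist 𝒜 (m + n), W) :=
  (⟨fun z => ⟨GrTwist.val s z * GrTwist.val s' z,
      mul_mem_twistAt m n z.1 ((s : GrTwist.sectN (𝒜 := 𝒜) m (op W)).1 z).2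
        ((s' : GrTwist.sectN (𝒜 := 𝒜) n (op W)).1 z).2⟩,
    fun z => by
      rcases (s : GrTwist.sectN (𝒜 := 𝒜) m (op W)).2 z with
        ⟨Va, ma, ia, i, j, ⟨a, a_mem⟩, ⟨b, b_mem⟩, nina, ca, wa⟩
      rcases (s' : GrTwist.sectN (𝒜 := 𝒜) n (op W)).2 z with
        ⟨Vb, mb, ib, i', j', ⟨a', a'_mem⟩, ⟨b', b'_mem⟩, ninb, cb, wb⟩
      replace ca : (i : ℤ) = j + m ∨ a = 0 := ca
      replace cb : (i' : ℤ) = j' + n ∨ a' = 0 := cb
      have nin : ∀ y : (Va ⊓ Vb : Opens _), b * b' ∉ y.1.asHomogeneousIdeal := fun y h =>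
        ((y.1.isPrime.mem_or_mem h).elim (nina ⟨y.1, y.2.1⟩)) (ninb ⟨y.1, y.2.2⟩)
      refine ⟨Va ⊓ Vb, ⟨ma, mb⟩, Opens.infLELeft _ _ ≫ ia, i + i', j + j',
        ⟨a * a', SetLike.mul_mem_graded a_mem a'_mem⟩,
        ⟨b * b', SetLike.mul_mem_graded b_mem b'_mem⟩, nin, ?_, fun y => ?_⟩
      · rcases ca with ha | ha
        · rcases cb with hb | hb
          · exact Or.inl (by push_cast; omega)
          · exact Or.inr (show a * a' = 0 by rw [hb, mul_zero])
        · exact Or.inr (show a * a' = 0 by rw [ha, zero_mul])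
      · have e1 := wa ⟨y.1, y.2.1⟩
        have e2 := wb ⟨y.1, y.2.2⟩
        dsimp only at e1 e2 ⊢
        refine (congrArg₂ (· * ·) e1 e2).trans ?_
        rw [Localization.mk_mul]
        rfl⟩ : GrTwist.sectN (𝒜 := 𝒜) (m + n) (op W))

lemma val_mulSect (m n : ℤ) (W : (Proj 𝒜).Opens) (s : Γ(GrTwist.twist 𝒜 m, W))
    (s' : Γ(GrTwist.twist 𝒜 n, W)) (z : W) :
    GrTwist.val (mulSect m n W s s') z = GrTwist.val s z * GrTwist.val s' z := rfl

end Groth.Agent.Helper1.GT
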