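import Mathlib
import Groth.Prelude.Def_RelProj3
import Groth.Agent.Helper1.GM1
import Groth.Agent.Helper1.GT2

/-!
# Multiplication `M(m)~ × O(n) → M(m + n)~` on sections (gradings by additive subgroups)
-/

set_option autoImplicit false
set_option linter.unusedSectionVars false
set_option linter.style.haveILetI false

namespace Groth.Agent.Helper1.GM

open CategoryTheory AlgebraicGeometry TopologicalSpace Opposite
open scoped HomogeneousIdeal

universe u

variable {A σ : Type u} [CommRing A] [SetLike σ A] [AddSubgroupClass σ A] {𝒜 : ℕ → σ} [GradedRing 𝒜]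
variable {M τ : Type u} [AddCommGroup M] [Module A M] [SetLike τ M] [AddSubgroupClass τ M] {ℳ : ℕ → τ}
  [SetLike.GradedSMul 𝒜 ℳ]

/-- a fraction of degree `n` times a module fraction of degree `m` is a module fraction of degree
`m + n` -/
lemma smul_mem_tildeAt (m n : ℤ) (x : ProjectiveSpectrum 𝒜) {r : GrTwist.Loc 𝒜 x}
    {q : GrMod.LocMod 𝒜 (M := M) x} (hr : r ∈ GrTwist.twistAt 𝒜 n x)
    (hq : q ∈ GrMod.tildeAt 𝒜 ℳ m x) : r • q ∈ GrMod.tildeAt 𝒜 ℳ (m + n) x := by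
  induction hr using Submodule.span_induction with
  | mem r h =>
    obtain ⟨i, j, a, s, hs, hij, rfl⟩ := h
    induction hq using Submodule.span_induction with
    | mem q h' =>
      obtain ⟨i', j', m', s', hs', hij', rfl⟩ := h'
      rw [LocalizedModule.mk_smul_mk]
      exact Submodule.subset_span ⟨i + i', j + j',
        ⟨(a : A) • (m' : M), SetLike.GradedSMul.smul_mem a.2 m'.2⟩,
        ⟨(s : A) * (s' : A), SetLike.mul_mem_graded s.2 s'.2⟩,
        fun h => (x.isPrime.mem_or_mem h).elim hs hs', by push_cast; omega, rfl⟩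
    | zero => rw [smul_zero]; exact zero_mem _
    | add q₁ q₂ _ _ h₁ h₂ => rw [smul_add]; exact add_mem h₁ h₂
    | smul c q₁ _ h₁ =>
      rw [GrMod.a0_smul_def, smul_comm, ← GrMod.a0_smul_def]
      exact Submodule.smul_mem _ c h₁
  | zero => rw [zero_smul]; exact zero_mem _
  | add r₁ r₂ _ _ h₁ h₂ => rw [add_smul]; exact add_mem h₁ h₂
  | smul c r₁ _ h₁ =>
    rw [Algebra.smul_def, HomogeneousLocalization.algebraMap_apply, mul_smul, ← GrMod.a0_smul_def]
    exact Submodule.smul_mem _ c h₁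

/-- the product of a section of `M(m)~` and a section of `O(n)` -/
noncomputable def mulSect (m n : ℤ) (W : (Proj 𝒜).Opens) (s : Γ(GrMod.tilde 𝒜 ℳ m, W))
    (a : Γ(GrTwist.twist 𝒜 n, W)) : Γ(GrMod.tilde 𝒜 ℳ (m + n), W) :=
  (⟨fun z => ⟨GrTwist.val a z • GrMod.val s z,
      smul_mem_tildeAt m n z.1 ((a : GrTwist.sectN (𝒜 := 𝒜) n (op W)).1 z).2
        ((s : GrMod.sect 𝒜 ℳ m (op W)).1 z).2⟩,
    fun z => by
      rcases (s : GrMod.sect 𝒜 ℳ m (op W)).2 z with
        ⟨Va, ma, ia, i, j, ⟨mm, mm_mem⟩, ⟨b, b_mem⟩, nina, ca, wa⟩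
      rcases (a : GrTwist.sectN (𝒜 := 𝒜) n (op W)).2 z with
        ⟨Vb, mb, ib, i', j', ⟨a', a'_mem⟩, ⟨b', b'_mem⟩, ninb, cb, wb⟩
      replace ca : (i : ℤ) = j + m ∨ mm = 0 := ca
      replace cb : (i' : ℤ) = j' + n ∨ a' = 0 := cb
      have nin : ∀ y : (Va ⊓ Vb : Opens _), b' * b ∉ y.1.asHomogeneousIdeal := fun y h =>
        ((y.1.isPrime.mem_or_mem h).elim (ninb ⟨y.1, y.2.2⟩)) (nina ⟨y.1, y.2.1⟩)
      refine ⟨Va ⊓ Vb, ⟨ma, mb⟩, Opens.infLELeft _ _ ≫ ia, i' + i, j' + j,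
        ⟨a' • mm, SetLike.GradedSMul.smul_mem a'_mem mm_mem⟩,
        ⟨b' * b, SetLike.mul_mem_graded b'_mem b_mem⟩, nin, ?_, fun y => ?_⟩
      · rcases ca with ha | ha
        · rcases cb with hb | hb
          · exact Or.inl (by push_cast; omega)
          · exact Or.inr (show a' • mm = 0 by rw [hb, zero_smul])
        · exact Or.inr (show a' • mm = 0 by rw [ha, smul_zero])
      · have e1 := wa ⟨y.1, y.2.1⟩
        have e2 := wb ⟨y.1, y.2.2⟩
        dsimp only at e1 e2 ⊢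
        refine (congrArg₂ (· • ·) e2 e1).trans ?_
        rw [LocalizedModule.mk_smul_mk]
        rfl⟩ : GrMod.sect 𝒜 ℳ (m + n) (op W))

lemma val_mulSect (m n : ℤ) (W : (Proj 𝒜).Opens) (s : Γ(GrMod.tilde 𝒜 ℳ m, W))
    (a : Γ(GrTwist.twist 𝒜 n, W)) (z : W) :
    GrMod.val (mulSect m n W s a) z = GrTwist.val a z • GrMod.val s z := rfl

/-- the product, with a prescribed target degree -/
noncomputable def mulSect' (m n k : ℤ) (hk : k = m + n) (W : (Proj 𝒜).Opens)
    (s : Γ(GrMod.tilde 𝒜 ℳ m, W)) (a : Γ(GrTwist.twist 𝒜 n, W)) : Γ(GrMod.tilde 𝒜 ℳ k, W) := by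
  subst hk
  exact mulSect m n W s a

lemma val_mulSect' (m n k : ℤ) (hk : k = m + n) (W : (Proj 𝒜).Opens)
    (s : Γ(GrMod.tilde 𝒜 ℳ m, W)) (a : Γ(GrTwist.twist 𝒜 n, W)) (z : W) :
    GrMod.val (mulSect' m n k hk W s a) z = GrTwist.val a z • GrMod.val s z := by
  subst hk
  rfl

/-- the values of a multiple of a section -/
lemma val_smul {n : ℤ} {V : (Proj 𝒜).Opens} (c : Γ(Proj 𝒜, V)) (s : Γ(GrMod.tilde 𝒜 ℳ n, V))
    (y : V) : GrMod.val (c • s) y =
      ((show GrTwist.O (𝒜 := 𝒜) (op V) from c).1 y).val • GrMod.val s y :=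
  GrMod.coe_smul_val n y.1 _ _

end Groth.Agent.Helper1.GM
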