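import Mathlib
import Groth.Prelude.Def_GrMod3
import Groth.Agent.Helper1.GM1
import Groth.Agent.Helper1.GM3

/-!
# Dehomogenization with respect to an element of degree one: the ring

For `f ∈ 𝒜 1`: the ring homomorphism `A → Γ(D₊(f), O)`, `a = ∑ aᵢ ↦ ∑ aᵢ / f ^ i`; it is
surjective.
-/

set_option autoImplicit false
set_option linter.unusedSectionVars false
set_option linter.style.haveILetI false

namespace Groth.Agent.Helper1.GMH

open CategoryTheory AlgebraicGeometry TopologicalSpace Opposite HomogeneousLocalization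
open scoped HomogeneousIdeal

universe u

variable {A σ : Type u} [CommRing A] [SetLike σ A] [AddSubgroupClass σ A] {𝒜 : ℕ → σ} [GradedRing 𝒜]
variable {f : A} (hf : f ∈ 𝒜 1)

include hf in
lemma pow_mem_one (k : ℕ) : f ^ k ∈ 𝒜 k := by
  have := SetLike.pow_mem_graded k hf
  simpa using this

lemma pow_notMem' {y : ProjectiveSpectrum 𝒜} (hy : f ∉ y.asHomogeneousIdeal) (k : ℕ) :
    f ^ k ∉ y.asHomogeneousIdeal :=
  fun h => hy (y.isPrime.mem_of_pow_mem k h)

lemma smul_one_eq (i : ℕ) : i • (1 : ℕ) = i := by simp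

/-- `a ↦ a / f ^ i` on the degree `i` part -/
noncomputable def dh₀Hom (i : ℕ) : 𝒜 i →+ Away 𝒜 f where
  toFun a := Away.mk 𝒜 hf i a.1 (by rw [smul_one_eq]; exact a.2)
  map_zero' := by
    apply HomogeneousLocalization.val_injective
    rw [Away.val_mk, HomogeneousLocalization.val_zero]
    exact Localization.mk_zero _
  map_add' a b := by
    apply HomogeneousLocalization.val_injective
    rw [HomogeneousLocalization.val_add, Away.val_mk, Away.val_mk, Away.val_mk,
      Localization.add_mk_self]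
    rfl

lemma val_dh₀Hom (i : ℕ) (a : 𝒜 i) :
    (dh₀Hom hf i a).val = Localization.mk a.1 (⟨f ^ i, i, rfl⟩ : Submonoid.powers f) := rfl

/-- the dehomogenization homomorphism `A → A_(f)` -/
noncomputable def dh₀ : A →+* Away 𝒜 f :=
  (DirectSum.toSemiring (fun i => dh₀Hom hf i)
    (by
      apply HomogeneousLocalization.val_injective
      rw [val_dh₀Hom, HomogeneousLocalization.val_one]
      have : (⟨f ^ 0, 0, rfl⟩ : Submonoid.powers f) = 1 := Subtype.ext (pow_zero f)
      rw [this]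
      exact Localization.mk_one)
    (by
      intro i j a b
      apply HomogeneousLocalization.val_injective
      rw [HomogeneousLocalization.val_mul, val_dh₀Hom, val_dh₀Hom, val_dh₀Hom, Localization.mk_mul]
      congr 1
      exact Subtype.ext (pow_add f i j))).comp (DirectSum.decomposeRingEquiv 𝒜).toRingHom

lemma dh₀_of_mem {i : ℕ} {a : A} (ha : a ∈ 𝒜 i) : dh₀ hf a = dh₀Hom hf i ⟨a, ha⟩ := by
  unfold dh₀
  rw [RingHom.comp_apply]
  change DirectSum.toSemiring _ _ _ (DirectSum.decompose 𝒜 a) = _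
  rw [DirectSum.decompose_of_mem 𝒜 ha, DirectSum.toSemiring_of]

lemma val_dh₀_of_mem {i : ℕ} {a : A} (ha : a ∈ 𝒜 i) :
    (dh₀ hf a).val = Localization.mk a (⟨f ^ i, i, rfl⟩ : Submonoid.powers f) := by
  rw [dh₀_of_mem hf ha]
  rfl

lemma dh₀_surjective : Function.Surjective (dh₀ hf) := by
  intro x
  obtain ⟨n, a, ha, rfl⟩ := Away.mk_surjective 𝒜 hf x
  have ha' : a ∈ 𝒜 n := by rw [smul_one_eq] at ha; exact ha
  refine ⟨a, ?_⟩
  rw [dh₀_of_mem hf ha']
  rfl

/-- the dehomogenization homomorphism `A → Γ(D₊(f), O)` -/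
noncomputable def dhA : A →+* Γ(Proj 𝒜, Proj.basicOpen 𝒜 f) :=
  (Proj.awayToSection 𝒜 f).hom.comp (dh₀ hf)

lemma dhA_surjective : Function.Surjective (dhA hf) := by
  have h1 : Function.Bijective (Proj.awayToSection 𝒜 f).hom :=
    ConcreteCategory.bijective_of_isIso (Proj.basicOpenIsoAway 𝒜 f hf Nat.one_pos).hom
  exact h1.2.comp (dh₀_surjective hf)

/-- the values of `dhA a` for `a` homogeneous -/
lemma val_dhA_of_mem {i : ℕ} {a : A} (ha : a ∈ 𝒜 i) (y : (Proj.basicOpen 𝒜 f : (Proj 𝒜).Opens)) :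
    ((show GrTwist.O (𝒜 := 𝒜) (op (Proj.basicOpen 𝒜 f)) from dhA hf a).1 y).val =
      Localization.mk a ⟨f ^ i, pow_notMem'
        ((ProjectiveSpectrum.mem_basicOpen 𝒜 f y.1).1 y.2) i⟩ := by
  have h := ProjectiveSpectrum.Proj.awayToSection_apply 𝒜 f (dh₀ hf a) y
  refine Eq.trans ?_ (h.trans ?_)
  · rfl
  · rw [val_dh₀_of_mem hf ha, Localization.mk_eq_mk', IsLocalization.map_mk', Localization.mk_eq_mk']
    rfl

end Groth.Agent.Helper1.GMH
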