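import Mathlib
import Groth.Prelude.Def_GrMod3
import Groth.Agent.Helper1.GM4
import Groth.Agent.Helper1.GM5

/-!
# Dehomogenization with respect to an element of degree one: graded modules

For `f ∈ 𝒜 1`: the map `dh n : M → Γ(D₊(f), M(n)~)`, `m = ∑ mᵢ ↦ ∑ mᵢ f ^ (n - i)`; it is
semilinear over `dhA`, surjective, and its kernel is `(f - 1) M`.
-/

set_option autoImplicit false
set_option linter.unusedSectionVars false
set_option linter.style.haveILetI false

namespace Groth.Agent.Helper1.GMH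

open CategoryTheory AlgebraicGeometry TopologicalSpace Opposite
open scoped HomogeneousIdeal

universe u

variable {A σ : Type u} [CommRing A] [SetLike σ A] [AddSubgroupClass σ A] {𝒜 : ℕ → σ} [GradedRing 𝒜]
variable {M τ : Type u} [AddCommGroup M] [Module A M] [SetLike τ M] [AddSubgroupClass τ M]
  (ℳ : ℕ → τ) [SetLike.GradedSMul 𝒜 ℳ] [DirectSum.Decomposition ℳ]
variable {f : A} (hf : f ∈ 𝒜 1)

/-- the exponent of the denominator -/
def cexp (n : ℤ) (i : ℕ) : ℕ := ((n.toNat : ℤ) + i - n).toNat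

lemma cexp_spec (n : ℤ) (i : ℕ) : ((n.toNat + i : ℕ) : ℤ) = (cexp n i : ℕ) + n := by
  unfold cexp
  have := Int.self_le_toNat n
  omega

lemma cexp_add (n : ℤ) (i j : ℕ) : cexp n (j + i) = j + cexp n i := by
  unfold cexp
  have := Int.self_le_toNat n
  omega

omit [DirectSum.Decomposition ℳ] in
lemma mk_add_same (y : ProjectiveSpectrum 𝒜) (a b : M)
    (s : y.asHomogeneousIdeal.toIdeal.primeCompl) :
    (LocalizedModule.mk (a + b) s : GrMod.LocMod 𝒜 (M := M) y) =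
      LocalizedModule.mk a s + LocalizedModule.mk b s := by
  rw [LocalizedModule.mk_add_mk, LocalizedModule.mk_eq]
  refine ⟨1, ?_⟩
  simp only [one_smul, smul_add, mul_smul]

variable {ℳ} in
/-- the section `m f ^ (n - i)` for `m` of degree `i` -/
noncomputable def hsec (n : ℤ) (i : ℕ) (m : M) (hm : m ∈ ℳ i) :
    Γ(GrMod.tilde 𝒜 ℳ n, Proj.basicOpen 𝒜 f) :=
  GM.fracSect n (f ^ n.toNat • m) (SetLike.GradedSMul.smul_mem (pow_mem_one hf _) hm)
    (f ^ cexp n i) (pow_mem_one hf _) (cexp_spec n i) _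
    (fun z hz => pow_notMem' ((ProjectiveSpectrum.mem_basicOpen 𝒜 f z).1 hz) _)

variable {ℳ} in
lemma val_hsec (n : ℤ) (i : ℕ) (m : M) (hm : m ∈ ℳ i)
    (y : (Proj.basicOpen 𝒜 f : (Proj 𝒜).Opens)) :
    GrMod.val (hsec hf n i m hm) y = LocalizedModule.mk (f ^ n.toNat • m)
      ⟨f ^ cexp n i, pow_notMem' ((ProjectiveSpectrum.mem_basicOpen 𝒜 f y.1).1 y.2) _⟩ := rfl

/-- `hsec` as an additive map -/
noncomputable def hsecHom (n : ℤ) (i : ℕ) :
    ℳ i →+ Γ(GrMod.tilde 𝒜 ℳ n, Proj.basicOpen 𝒜 f) where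
  toFun m := hsec hf n i m.1 m.2
  map_zero' := by
    apply GM.sect_ext
    intro y
    rw [val_hsec, GM.val_zero]
    simp
  map_add' m m' := by
    apply GM.sect_ext
    intro y
    rw [GM.val_add, val_hsec, val_hsec, val_hsec]
    simp only [AddMemClass.coe_add, smul_add]
    exact mk_add_same y.1 _ _ _

/-- the dehomogenization map -/
noncomputable def dh (n : ℤ) : M →+ Γ(GrMod.tilde 𝒜 ℳ n, Proj.basicOpen 𝒜 f) :=
  (DirectSum.toAddMonoid (fun i => hsecHom ℳ hf n i)).comp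
    (DirectSum.decomposeAddEquiv ℳ).toAddMonoidHom

lemma dh_of_mem (n : ℤ) {i : ℕ} {m : M} (hm : m ∈ ℳ i) : dh ℳ hf n m = hsec hf n i m hm := by
  unfold dh
  rw [AddMonoidHom.comp_apply]
  change DirectSum.toAddMonoid _ (DirectSum.decompose ℳ m) = _
  rw [DirectSum.decompose_of_mem ℳ hm, DirectSum.toAddMonoid_of]
  rfl

omit [SetLike.GradedSMul 𝒜 ℳ] in
/-- additive maps agreeing on homogeneous elements are equal -/
lemma addHom_ext {X : Type*} [AddCommMonoid X] (F G : M →+ X)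
    (h : ∀ (i : ℕ) (m : M), m ∈ ℳ i → F m = G m) (m : M) : F m = G m := by
  induction m using DirectSum.Decomposition.inductionOn ℳ with
  | zero => rw [map_zero, map_zero]
  | homogeneous m => exact h _ _ m.2
  | add m m' hm hm' => rw [map_add, map_add, hm, hm']

/-- **semilinearity** -/
theorem dh_smul (n : ℤ) (a : A) (m : M) : dh ℳ hf n (a • m) = dhA hf a • dh ℳ hf n m := by
  -- reduce to `m` homogeneous
  let F : M →+ Γ(GrMod.tilde 𝒜 ℳ n, Proj.basicOpen 𝒜 f) :=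
    (dh ℳ hf n).comp (DistribSMul.toAddMonoidHom M a)
  let G : M →+ Γ(GrMod.tilde 𝒜 ℳ n, Proj.basicOpen 𝒜 f) :=
    (DistribSMul.toAddMonoidHom _ (dhA hf a)).comp (dh ℳ hf n)
  refine addHom_ext ℳ F G (fun i m hm => ?_) m
  change dh ℳ hf n (a • m) = dhA hf a • dh ℳ hf n m
  -- reduce to `a` homogeneous
  let F' : A →+ Γ(GrMod.tilde 𝒜 ℳ n, Proj.basicOpen 𝒜 f) :=
    (dh ℳ hf n).comp ((AddMonoidHom.flip (smulAddHom A M)) m)
  let G' : A →+ Γ(GrMod.tilde 𝒜 ℳ n, Proj.basicOpen 𝒜 f) :=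
    ((AddMonoidHom.flip (smulAddHom Γ(Proj 𝒜, Proj.basicOpen 𝒜 f)
      Γ(GrMod.tilde 𝒜 ℳ n, Proj.basicOpen 𝒜 f))) (dh ℳ hf n m)).comp (dhA hf).toAddMonoidHom
  refine addHom_ext 𝒜 F' G' (fun j a ha => ?_) a
  change dh ℳ hf n (a • m) = dhA hf a • dh ℳ hf n m
  rw [dh_of_mem ℳ hf n (SetLike.GradedSMul.smul_mem ha hm), dh_of_mem ℳ hf n hm]
  apply GM.sect_ext
  intro y
  rw [GM.val_smul, val_hsec, val_hsec, val_dhA_of_mem hf ha]
  refine Eq.trans ?_ (LocalizedModule.mk_smul_mk _ _ _ _).symm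
  rw [smul_comm]
  congr 1
  apply Subtype.ext
  change f ^ cexp n (j + i) = f ^ j * f ^ cexp n i
  rw [cexp_add, pow_add]

end Groth.Agent.Helper1.GMH
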