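import Mathlib
import Groth.Prelude.Def_GrMod3
import Groth.Agent.Helper1.GM6

/-!
# Dehomogenization with respect to an element of degree one: surjectivity and kernel
-/

set_option autoImplicit false
set_option linter.unusedSectionVars false
set_option linter.style.haveILetI false

namespace Groth.Agent.Helper1.GMH

open CategoryTheory AlgebraicGeometry TopologicalSpace Opposite
open scoped HomogeneousIdeal

universe u

variable {A σ : Type u} [CommRing A] [SetLike σ A] [AddSubgroupClass σ A] {𝒜 : ℕ → σ} [GradedRing 𝒜]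
variable {M τ : Type u} [AddCommGroup M] [Module A M] [SetLike τ M] [AddSubgroupClass τ M]
  (ℳ : ℕ → τ) [SetLike.GradedSMul 𝒜 ℳ] [DirectSum.Decomposition ℳ]
variable {f : A} (hf : f ∈ 𝒜 1)

/-- **`dh` is surjective** -/
theorem dh_surjective (n : ℤ) : Function.Surjective (dh ℳ hf n) := by
  intro s
  obtain ⟨k, i, m, hm, hi, hval⟩ := GMS.exists_global_frac 𝒜 ℳ n Nat.one_pos f hf s
  refine ⟨m, ?_⟩
  rw [dh_of_mem ℳ hf n hm]
  apply GM.sect_ext
  intro y
  rw [val_hsec]
  symm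
  rw [GMS.eq_mk_iff]
  have hc : cexp n i = n.toNat + k := by
    have := cexp_spec n i
    push_cast at this
    omega
  have h1 := hval y.1 y.2
  change f ^ k • GrMod.val s y = GMS.ι₁ y.1 m at h1
  rw [hc, pow_add, mul_smul, h1]
  exact (GMS.ι₁_smul y.1 _ m).symm

/-- evaluation at a point as an additive map -/
noncomputable def valHom (n : ℤ) {V : (Proj 𝒜).Opens} (y : V) :
    Γ(GrMod.tilde 𝒜 ℳ n, V) →+ GrMod.LocMod 𝒜 (M := M) y.1 where
  toFun s := GrMod.val s y
  map_zero' := rfl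
  map_add' _ _ := rfl

/-- **the kernel of `dh` is `(f - 1) M`** -/
theorem exists_of_dh_eq_zero (n : ℤ) (x : M) (hx : dh ℳ hf n x = 0) :
    ∃ x' : M, x = f • x' - x' := by
  classical
  set S := (DirectSum.decompose ℳ x).support with hS
  set xi : ℕ → M := fun i => ((DirectSum.decompose ℳ x i : ℳ i) : M) with hxi
  have hxmem : ∀ i, xi i ∈ ℳ i := fun i => (DirectSum.decompose ℳ x i).2
  have hsum : x = ∑ i ∈ S, xi i := (DirectSum.sum_support_decompose ℳ x).symm
  set p := n.toNat with hp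
  set K := S.sup (cexp n) with hK
  have hcK : ∀ i ∈ S, cexp n i ≤ K := fun i hi => Finset.le_sup (f := cexp n) hi
  set D := ((K : ℤ) + n).toNat with hD
  set z : M := ∑ i ∈ S, f ^ (K - cexp n i + p) • xi i with hz
  have hzmem : z ∈ ℳ D := by
    refine sum_mem fun i hi => ?_
    have h1 : f ^ (K - cexp n i + p) • xi i ∈ ℳ (K - cexp n i + p + i) :=
      SetLike.GradedSMul.smul_mem (pow_mem_one hf _) (hxmem i)
    have h2 : K - cexp n i + p + i = D := by
      have h3 := cexp_spec n i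
      have h4 := hcK i hi
      push_cast at h3
      omega
    rw [← h2]
    exact h1
  -- `z` vanishes at all points of `D₊(f)`
  have hz0 : ∀ y : ProjectiveSpectrum 𝒜, f ∉ y.asHomogeneousIdeal → GMS.ι₁ y z = 0 := by
    intro y hy
    have hyU : y ∈ (Proj.basicOpen 𝒜 f : (Proj 𝒜).Opens) :=
      (ProjectiveSpectrum.mem_basicOpen 𝒜 f y).2 hy
    have h1 : valHom ℳ n ⟨y, hyU⟩ (dh ℳ hf n x) = 0 := by rw [hx, map_zero]
    rw [hsum, map_sum, map_sum] at h1
    have h2 : ∀ i ∈ S, f ^ K • valHom ℳ n ⟨y, hyU⟩ (dh ℳ hf n (xi i)) =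
        GMS.ι₁ y (f ^ (K - cexp n i + p) • xi i) := by
      intro i hi
      rw [dh_of_mem ℳ hf n (hxmem i)]
      change f ^ K • GrMod.val (hsec hf n i (xi i) (hxmem i)) ⟨y, hyU⟩ = _
      rw [val_hsec]
      have h3 : K = K - cexp n i + cexp n i := by have := hcK i hi; omega
      conv_lhs => rw [h3, pow_add, mul_smul]
      have h4 : f ^ cexp n i • (LocalizedModule.mk (f ^ p • xi i)
          (⟨f ^ cexp n i, pow_notMem' hy _⟩ : y.asHomogeneousIdeal.toIdeal.primeCompl) :
            GrMod.LocMod 𝒜 (M := M) y) = GMS.ι₁ y (f ^ p • xi i) :=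
        (GMS.eq_mk_iff y _ _ (pow_notMem' hy _)).1 rfl
      rw [h4, ← GMS.ι₁_smul, smul_smul, ← pow_add]
    rw [hz, GMS.ι₁_sum]
    rw [← Finset.sum_congr rfl h2, ← Finset.smul_sum, h1, smul_zero]
  obtain ⟨N, hN⟩ := GMS.exists_pow_smul_eq_zero 𝒜 ℳ Nat.one_pos f hf z hzmem hz0
  -- the geometric sums
  set e : ℕ → ℕ := fun i => N + (K - cexp n i + p) with he
  have hN' : ∑ i ∈ S, f ^ e i • xi i = 0 := by
    rw [← hN, hz, Finset.smul_sum]
    refine Finset.sum_congr rfl fun i _ => ?_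
    rw [smul_smul, ← pow_add]
  have hgeom : ∀ (k : ℕ) (w : M),
      w - f ^ k • w = f • (-((∑ l ∈ Finset.range k, f ^ l) • w)) -
        (-((∑ l ∈ Finset.range k, f ^ l) • w)) := by
    intro k w
    have h1 : (f - 1) * ∑ l ∈ Finset.range k, f ^ l = f ^ k - 1 := mul_geom_sum f k
    have h2 : f • (-((∑ l ∈ Finset.range k, f ^ l) • w)) -
        (-((∑ l ∈ Finset.range k, f ^ l) • w)) =
        -(((f - 1) * ∑ l ∈ Finset.range k, f ^ l) • w) := by
      rw [mul_smul, sub_smul, one_smul, smul_neg]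
      abel
    rw [h2, h1, sub_smul, one_smul]
    abel
  refine ⟨∑ i ∈ S, -((∑ l ∈ Finset.range (e i), f ^ l) • xi i), ?_⟩
  rw [Finset.smul_sum, ← Finset.sum_sub_distrib]
  have h3 : ∀ i ∈ S, f • (-((∑ l ∈ Finset.range (e i), f ^ l) • xi i)) -
      (-((∑ l ∈ Finset.range (e i), f ^ l) • xi i)) = xi i - f ^ e i • xi i :=
    fun i _ => (hgeom (e i) (xi i)).symm
  rw [Finset.sum_congr rfl h3, Finset.sum_sub_distrib, hN', sub_zero]
  exact hsum

/-- `dh` kills `(f - 1) M` -/
theorem dh_smul_sub (n : ℤ) (x : M) : dh ℳ hf n (f • x - x) = 0 := by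
  rw [map_sub, dh_smul]
  have h1 : dhA hf f = 1 := by
    apply Subtype.ext
    funext y
    apply HomogeneousLocalization.val_injective
    refine (val_dhA_of_mem hf hf y).trans ?_
    refine Eq.trans ?_ (HomogeneousLocalization.val_one (𝒜 := 𝒜)
      (x := y.1.asHomogeneousIdeal.toIdeal.primeCompl)).symm
    have : (⟨f ^ 1, pow_notMem' ((ProjectiveSpectrum.mem_basicOpen 𝒜 f y.1).1 y.2) 1⟩ :
        y.1.asHomogeneousIdeal.toIdeal.primeCompl) =
        ⟨f, (ProjectiveSpectrum.mem_basicOpen 𝒜 f y.1).1 y.2⟩ := Subtype.ext (pow_one f)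
    rw [this]
    exact Localization.mk_self (⟨f, (ProjectiveSpectrum.mem_basicOpen 𝒜 f y.1).1 y.2⟩ :
      y.1.asHomogeneousIdeal.toIdeal.primeCompl)
  rw [h1, one_smul, sub_self]

end Groth.Agent.Helper1.GMH
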