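import Mathlib
import Groth.Prelude.Def_GrMod3
import Groth.Agent.Helper1.GM4
import Groth.Agent.Helper1.GM7
import Groth.Agent.Helper1.TR4
import Groth.Agent.Helper4.FTGlue

/-!
# `M(n)~` is of finite type for a Noetherian graded module (generators of any degrees)
-/

set_option autoImplicit false
set_option linter.unusedSectionVars false
set_option linter.style.haveILetI false

namespace Groth.Agent.Helper1.GMF

open CategoryTheory AlgebraicGeometry TopologicalSpace Opposite HomogeneousLocalization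
open scoped HomogeneousIdeal

universe u

variable {A σ : Type u} [CommRing A] [SetLike σ A] [AddSubgroupClass σ A] (𝒜 : ℕ → σ) [GradedRing 𝒜]
variable {M τ : Type u} [AddCommGroup M] [Module A M] [SetLike τ M] [AddSubgroupClass τ M]
  (ℳ : ℕ → τ) [SetLike.GradedSMul 𝒜 ℳ] [DirectSum.Decomposition ℳ]

/-- the homogeneous components of `a • m` for `m` homogeneous -/
lemma decompose_smul_of_mem (a : A) {i : ℕ} (m : M) (hm : m ∈ ℳ i) (j : ℕ) :
    ((DirectSum.decompose ℳ (a • m)) (j + i) : M) = (DirectSum.decompose 𝒜 a j : A) • m := by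
  classical
  have hsum : a • m = ∑ k ∈ DFinsupp.support (DirectSum.decompose 𝒜 a),
      ((DirectSum.decompose 𝒜 a k : A) • m) := by
    conv_lhs => rw [← DirectSum.sum_support_decompose 𝒜 a]
    rw [Finset.sum_smul]
  have hmem : ∀ k, (DirectSum.decompose 𝒜 a k : A) • m ∈ ℳ (k + i) := fun k =>
    SetLike.GradedSMul.smul_mem (DirectSum.decompose 𝒜 a k).2 hm
  rw [hsum, DirectSum.decompose_sum, DFinsupp.finsetSum_apply, AddSubmonoidClass.coe_finsetSum]
  by_cases hj : j ∈ DFinsupp.support (DirectSum.decompose 𝒜 a)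
  · rw [Finset.sum_eq_single j]
    · exact DirectSum.decompose_of_mem_same ℳ (hmem j)
    · intro k _ hkj
      exact DirectSum.decompose_of_mem_ne ℳ (hmem k) (fun h => hkj (Nat.add_right_cancel h))
    · intro h; exact absurd hj h
  · rw [DFinsupp.notMem_support_iff] at hj
    rw [hj, ZeroMemClass.coe_zero, zero_smul]
    apply Finset.sum_eq_zero
    intro k hk
    have hkj : k ≠ j := by
      rintro rfl
      rw [DFinsupp.mem_support_iff] at hk
      exact hk hj
    exact DirectSum.decompose_of_mem_ne ℳ (hmem k) (fun h => hkj (Nat.add_right_cancel h))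

lemma decompose_smul_of_mem' (a : A) {i : ℕ} (m : M) (hm : m ∈ ℳ i) (k : ℕ) (hk : i ≤ k) :
    ((DirectSum.decompose ℳ (a • m)) k : M) = (DirectSum.decompose 𝒜 a (k - i) : A) • m := by
  have := decompose_smul_of_mem 𝒜 ℳ a m hm (k - i)
  rwa [Nat.sub_add_cancel hk] at this

include 𝒜 in
lemma decompose_smul_of_mem_lt (a : A) {i : ℕ} (m : M) (hm : m ∈ ℳ i) (k : ℕ) (hk : k < i) :
    ((DirectSum.decompose ℳ (a • m)) k : M) = 0 := by
  classical
  have hsum : a • m = ∑ k ∈ DFinsupp.support (DirectSum.decompose 𝒜 a),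
      ((DirectSum.decompose 𝒜 a k : A) • m) := by
    conv_lhs => rw [← DirectSum.sum_support_decompose 𝒜 a]
    rw [Finset.sum_smul]
  have hmem : ∀ k, (DirectSum.decompose 𝒜 a k : A) • m ∈ ℳ (k + i) := fun k =>
    SetLike.GradedSMul.smul_mem (DirectSum.decompose 𝒜 a k).2 hm
  rw [hsum, DirectSum.decompose_sum, DFinsupp.finsetSum_apply, AddSubmonoidClass.coe_finsetSum]
  apply Finset.sum_eq_zero
  intro k' _
  exact DirectSum.decompose_of_mem_ne ℳ (hmem k') (by omega)

/-- the function `c / g ^ l` on `D₊(g)` (zero if `c` is not of the right degree) -/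
noncomputable def awaySec {g : A} {e : ℕ} (hg : g ∈ 𝒜 e) (l : ℕ) (c : A) :
    Γ(Proj 𝒜, Proj.basicOpen 𝒜 g) := by
  classical
  exact if hc : c ∈ 𝒜 (l • e) then (Proj.awayToSection 𝒜 g).hom (Away.mk 𝒜 hg l c hc) else 0

lemma val_awaySec {g : A} {e : ℕ} (hg : g ∈ 𝒜 e) (l : ℕ) (c : A) (hc : c ∈ 𝒜 (l • e))
    (y : (Proj.basicOpen 𝒜 g : (Proj 𝒜).Opens)) :
    ((show GrTwist.O (𝒜 := 𝒜) (op (Proj.basicOpen 𝒜 g)) from awaySec 𝒜 hg l c).1 y).val =
      Localization.mk c ⟨g ^ l, GMH.pow_notMem'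
        ((ProjectiveSpectrum.mem_basicOpen 𝒜 g y.1).1 y.2) l⟩ := by
  unfold awaySec
  rw [dif_pos hc]
  have h := ProjectiveSpectrum.Proj.awayToSection_apply 𝒜 g (Away.mk 𝒜 hg l c hc) y
  refine Eq.trans ?_ (h.trans ?_)
  · rfl
  · rw [Away.val_mk, Localization.mk_eq_mk', IsLocalization.map_mk', Localization.mk_eq_mk']
    rfl

/-- **finite generation of `Γ(D₊(g), M(n)~)`** for a Noetherian module -/
theorem finite_sections [IsNoetherian A M] (n : ℤ) {g : A} {e : ℕ} (he : 0 < e) (hg : g ∈ 𝒜 e) :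
    Module.Finite Γ(Proj 𝒜, Proj.basicOpen 𝒜 g) Γ(GrMod.tilde 𝒜 ℳ n, Proj.basicOpen 𝒜 g) := by
  classical
  set H : Set M := {m | ∃ k i : ℕ, m ∈ ℳ i ∧ (i : ℤ) = k * e + n} with hH
  have hfg : (Submodule.span A H).FG := IsNoetherian.noetherian _
  obtain ⟨G, hGH, hGspan⟩ := (Submodule.fg_span_iff_fg_span_finset_subset H).1 hfg
  have hdeg : ∀ m : M, m ∈ G → ∃ k i : ℕ, m ∈ ℳ i ∧ (i : ℤ) = k * e + n := fun m hm => hGH hm
  choose! kk ii hii hki using hdeg
  have hU : ∀ (l : ℕ) (z : ProjectiveSpectrum.top 𝒜), z ∈ (Proj.basicOpen 𝒜 g : (Proj 𝒜).Opens) →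
      g ^ l ∉ z.asHomogeneousIdeal := fun l z hz =>
    GMH.pow_notMem' ((ProjectiveSpectrum.mem_basicOpen 𝒜 g z).1 hz) l
  have hpow : ∀ l : ℕ, g ^ l ∈ 𝒜 (l * e) := fun l => by
    have := SetLike.pow_mem_graded l hg
    simpa [smul_eq_mul] using this
  -- the generating sections
  let t : M → Γ(GrMod.tilde 𝒜 ℳ n, Proj.basicOpen 𝒜 g) := fun m =>
    if hm : m ∈ G then GM.fracSect n m (hii m hm) (g ^ kk m) (hpow _)
      (by rw [hki m hm]; push_cast; ring) _ (hU _) else 0
  have ht : ∀ (m : M) (hm : m ∈ G) (y : (Proj.basicOpen 𝒜 g : (Proj 𝒜).Opens)),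
      GrMod.val (t m) y = LocalizedModule.mk m ⟨g ^ kk m, hU _ y.1 y.2⟩ := by
    intro m hm y
    simp only [t, dif_pos hm]
    rfl
  refine ⟨⟨G.image t, ?_⟩⟩
  rw [eq_top_iff]
  rintro s -
  obtain ⟨k, i, x, hx, hi, hval⟩ := GMS.exists_global_frac 𝒜 ℳ n he g hg s
  have hxH : x ∈ Submodule.span A (G : Set M) := by
    rw [← hGspan]
    exact Submodule.subset_span ⟨k, i, hx, hi⟩
  obtain ⟨c, hc⟩ := (Submodule.mem_span_finset'.1 hxH : ∃ c : G → A, ∑ m, c m • (m : M) = x)
  -- homogeneous component of degree `i`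
  have hxi : x = ∑ m : G, ((DirectSum.decompose ℳ (c m • (m : M)) i : ℳ i) : M) := by
    conv_lhs => rw [← DirectSum.decompose_of_mem_same ℳ hx, ← hc]
    rw [DirectSum.decompose_sum, DFinsupp.finsetSum_apply, AddSubmonoidClass.coe_finsetSum]
  -- the coefficients
  let r : G → Γ(Proj 𝒜, Proj.basicOpen 𝒜 g) := fun m =>
    if ii m ≤ i then awaySec 𝒜 hg (k - kk m) (DirectSum.decompose 𝒜 (c m) (i - ii m) : A) else 0
  have hs : s = ∑ m : G, r m • t m := by
    apply GM.sect_ext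
    intro y
    have hgk := hU k y.1 y.2
    apply GMS.smul_injective y.1 hgk
    change g ^ k • GrMod.val s y = g ^ k • GMH.valHom ℳ n y (∑ m : G, r m • t m)
    rw [map_sum, Finset.smul_sum]
    refine (hval y.1 y.2).trans ?_
    rw [hxi, GMS.ι₁_sum]
    refine Finset.sum_congr rfl fun m _ => ?_
    change _ = g ^ k • GrMod.val (r m • t m) y
    rw [GM.val_smul, ht m.1 m.2]
    by_cases hm : ii m ≤ i
    · have h1 := hki m.1 m.2
      have hi' : (i : ℤ) = ((k * e : ℕ) : ℤ) + n := by push_cast; exact hi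
      have h1' : (ii m.1 : ℤ) = ((kk m.1 * e : ℕ) : ℤ) + n := by push_cast; exact h1
      have h2 : kk m.1 * e ≤ k * e := by omega
      have h3 : kk m.1 ≤ k := Nat.le_of_mul_le_mul_right h2 he
      have h4 : i - ii m.1 = (k - kk m.1) * e := by
        rw [Nat.sub_mul]
        omega
      have hc' : ((DirectSum.decompose 𝒜 (c m) (i - ii m.1) : 𝒜 (i - ii m.1)) : A) ∈
          𝒜 ((k - kk m.1) • e) := by
        rw [smul_eq_mul, ← h4]
        exact SetLike.coe_mem _
      have hr : r m = awaySec 𝒜 hg (k - kk m.1)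
          (DirectSum.decompose 𝒜 (c m) (i - ii m.1) : A) := by
        simp only [r, if_pos hm]
      rw [hr, val_awaySec 𝒜 hg _ _ hc', decompose_smul_of_mem' 𝒜 ℳ (c m) m.1 (hii m.1 m.2) i hm]
      refine Eq.symm (((GMS.eq_mk_iff y.1 _ _ hgk).1 ?_))
      refine (LocalizedModule.mk_smul_mk _ _ _ _).trans ?_
      congr 1
      apply Subtype.ext
      change g ^ (k - kk m.1) * g ^ kk m.1 = g ^ k
      rw [← pow_add, Nat.sub_add_cancel h3]
    · have hr : r m = 0 := by simp only [r, if_neg hm]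
      rw [hr, decompose_smul_of_mem_lt 𝒜 ℳ (c m) m.1 (hii m.1 m.2) i (by omega)]
      have h0 : ((show GrTwist.O (𝒜 := 𝒜) (op (Proj.basicOpen 𝒜 g)) from
          (0 : Γ(Proj 𝒜, Proj.basicOpen 𝒜 g))).1 y).val = 0 :=
        HomogeneousLocalization.val_zero
      rw [h0, zero_smul, smul_zero]
      exact GMS.ι₁_zero y.1
  rw [hs]
  refine Submodule.sum_mem _ fun m _ => Submodule.smul_mem _ _ (Submodule.subset_span ?_)
  exact Finset.mem_coe.2 (Finset.mem_image_of_mem t m.2)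

end Groth.Agent.Helper1.GMF
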