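import Mathlib
import Groth.Prelude.Def_GrMod2
import Groth.Agent.Helper1.GrT12
import Groth.Agent.Helper4.FTGlue

set_option autoImplicit false
set_option linter.unusedSectionVars false
set_option linter.style.haveILetI false

/-!
# Finite generation of `Γ(D₊(f), M~)` under (TF); `M~` is of finite type
-/

namespace Groth.Agent.Helper1.GrT

open CategoryTheory AlgebraicGeometry TopologicalSpace Opposite DirectSum

universe u

variable {R A : Type u} [CommRing R] [CommRing A] [Algebra R A] (𝒜 : ℕ → Submodule R A)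
  [GradedAlgebra 𝒜]
variable {M : Type u} [AddCommGroup M] [Module R M] [Module A M] [IsScalarTower R A M]
  (ℳ : ℕ → Submodule R M) [DirectSum.Decomposition ℳ] [SetLike.GradedSMul 𝒜 ℳ]

section fin

variable (T : Finset A) (c : A → ℕ) (hc : ∀ g ∈ T, 0 < c g ∧ g ∈ 𝒜 (c g))
  (hT : (HomogeneousIdeal.irrelevant 𝒜).toIdeal = Ideal.span (T : Set A))
  (G : Finset M) (k : M → ℕ) (hk : ∀ m ∈ G, m ∈ ℳ (k m))
  (n0 : ℕ) (hG : ∀ j : ℕ, n0 ≤ j → ∀ x ∈ ℳ j, x ∈ Submodule.span A (G : Set M))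
  (f : A) {e : ℕ} (he : 0 < e) (hf : f ∈ 𝒜 e)

/-- the degree of a monomial -/
def dg (w : Multiset A) : ℕ := (w.map c).sum

lemma dg_cons (g : A) (w : Multiset A) : dg c (g ::ₘ w) = c g + dg c w := by
  unfold dg; simp

lemma dg_zero : dg c (0 : Multiset A) = 0 := by
  unfold dg; simp

lemma dg_add (w w' : Multiset A) : dg c (w + w') = dg c w + dg c w' := by
  unfold dg; simp

lemma dg_replicate (n : ℕ) (g : A) : dg c (Multiset.replicate n g) = n * c g := by
  unfold dg; simp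

include hc in
lemma prod_mem_dg (w : Multiset A) (hw : ∀ g ∈ w, g ∈ T) : w.prod ∈ 𝒜 (dg c w) := by
  induction w using Multiset.induction_on with
  | empty => simpa [dg_zero] using SetLike.GradedOne.one_mem (A := 𝒜)
  | cons g w ih =>
    rw [Multiset.prod_cons, dg_cons]
    exact SetLike.mul_mem_graded (hc g (hw g (Multiset.mem_cons_self g w))).2
      (ih (fun g' hg' => hw g' (Multiset.mem_cons_of_mem hg')))

/-- the generating sections -/
def Gen : Set Γ(GrTilde.tilde 𝒜 ℳ 0, Proj.basicOpen 𝒜 f) :=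
  {s | ∃ m ∈ G, ∃ w ∈ ((e - 1) • T.val).powerset, ∃ l : ℕ, l * e = dg c w + k m ∧
    IsFr 𝒜 ℳ f s (w.prod • m) l}

include he in
lemma Gen_finite : (Gen 𝒜 ℳ T c G k f (e := e)).Finite := by
  classical
  have hsub : Gen 𝒜 ℳ T c G k f (e := e) ⊆
      ⋃ p ∈ (↑(G ×ˢ ((e - 1) • T.val).powerset.toFinset : Finset (M × Multiset A)) :
          Set (M × Multiset A)),
        {s | ∃ l : ℕ, l * e = dg c p.2 + k p.1 ∧ IsFr 𝒜 ℳ f s (p.2.prod • p.1) l} := by
    rintro s ⟨m, hm, w, hw, l, hl, hs⟩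
    simp only [Set.mem_iUnion]
    refine ⟨(m, w), ?_, l, hl, hs⟩
    simp only [Finset.coe_product, Set.mem_prod, Finset.mem_coe, Multiset.mem_toFinset]
    exact ⟨hm, hw⟩
  refine Set.Finite.subset ?_ hsub
  apply Set.Finite.biUnion (Finset.finite_toSet _)
  intro p _
  apply Set.Subsingleton.finite
  rintro s ⟨l, hl, hs⟩ s' ⟨l', hl', hs'⟩
  have : l = l' := by
    have : l * e = l' * e := hl.trans hl'.symm
    exact Nat.eq_of_mul_eq_mul_right he this
  subst this
  exact hs.unique hs'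

include hc hk in
lemma smul_mem_deg (w : Multiset A) (hw : ∀ g ∈ w, g ∈ T) (m : M) (hm : m ∈ G) :
    w.prod • m ∈ ℳ (dg c w + k m) :=
  SetLike.GradedSMul.smul_mem (A := 𝒜) (B := ℳ) (prod_mem_dg 𝒜 T c hc w hw) (hk m hm)

include hc hk he hf in
lemma claim1 : ∀ (n : ℕ) (w : Multiset A), Multiset.card w = n → (∀ g ∈ w, g ∈ T) →
    ∀ m ∈ G, ∀ (l : ℕ), l * e = dg c w + k m →
    ∀ s : Γ(GrTilde.tilde 𝒜 ℳ 0, Proj.basicOpen 𝒜 f), IsFr 𝒜 ℳ f s (w.prod • m) l →
    s ∈ Submodule.span Γ(Proj 𝒜, Proj.basicOpen 𝒜 f) (Gen 𝒜 ℳ T c G k f (e := e)) := by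
  classical
  intro n
  induction n using Nat.strong_induction_on with
  | _ n ih =>
  intro w hcard hw m hm l hl s hs
  by_cases hred : ∀ g, w.count g < e
  · apply Submodule.subset_span
    refine ⟨m, hm, w, ?_, l, hl, hs⟩
    rw [Multiset.mem_powerset, Multiset.le_iff_count]
    intro g
    rw [Multiset.count_nsmul]
    by_cases hg : g ∈ T
    · have h1 : T.val.count g = 1 := Multiset.count_eq_one_of_mem T.nodup hg
      rw [h1, mul_one]
      have := hred g
      omega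
    · have h1 : w.count g = 0 := Multiset.count_eq_zero.2 (fun h => hg (hw g h))
      rw [h1]
      exact Nat.zero_le _
  · push Not at hred
    obtain ⟨g, hge⟩ := hred
    have hgw : g ∈ w := Multiset.count_pos.1 (lt_of_lt_of_le he hge)
    have hgT := hw g hgw
    obtain ⟨hcg, hgdeg⟩ := hc g hgT
    have hle : Multiset.replicate e g ≤ w := Multiset.le_count_iff_replicate_le.1 hge
    obtain ⟨w', hww⟩ := Multiset.le_iff_exists_add.1 hle
    have hw'T : ∀ g' ∈ w', g' ∈ T := fun g' hg' => hw g' (by rw [hww]; exact Multiset.mem_add.2 (Or.inr hg'))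
    have hdg : dg c w = e * c g + dg c w' := by rw [hww, dg_add, dg_replicate]
    have hcard' : Multiset.card w' < n := by
      rw [← hcard, hww, Multiset.card_add, Multiset.card_replicate]
      omega
    have hlc : c g ≤ l := by
      by_contra hcon
      push Not at hcon
      have : l * e < c g * e := Nat.mul_lt_mul_of_pos_right hcon he
      nlinarith
    obtain ⟨l', rfl⟩ := Nat.exists_eq_add_of_le hlc
    have hl' : l' * e = dg c w' + k m := by nlinarith
    have hx' : w'.prod • m ∈ ℳ (l' * e) := by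
      rw [hl']
      exact smul_mem_deg 𝒜 ℳ T c hc G k hk w' hw'T m hm
    obtain ⟨s', hs'⟩ := exists_isFr 𝒜 ℳ f hf (w'.prod • m) l' hx'
    have hs'P := ih _ hcard' w' rfl hw'T m hm l' hl' s' hs'
    have hge' : g ^ e ∈ 𝒜 (c g • e) := by
      have h0 := SetLike.pow_mem_graded e hgdeg
      have h1 : e • c g = c g • e := by simp [smul_eq_mul, mul_comm]
      rwa [h1] at h0
    have h2 := hs'.smul hf (c g) (g ^ e) hge'
    have h3 : g ^ e • w'.prod • m = w.prod • m := by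
      rw [hww, Multiset.prod_add, Multiset.prod_replicate, mul_smul]
    rw [h3] at h2
    rw [hs.unique h2]
    exact Submodule.smul_mem _ _ hs'P

include hc hk he hf hT in
lemma claim2 : ∀ (t : ℕ) (a : A), a ∈ 𝒜 t → ∀ (w : Multiset A), (∀ g ∈ w, g ∈ T) →
    ∀ m ∈ G, ∀ (l : ℕ), l * e = t + dg c w + k m →
    ∀ s : Γ(GrTilde.tilde 𝒜 ℳ 0, Proj.basicOpen 𝒜 f), IsFr 𝒜 ℳ f s ((a * w.prod) • m) l →
    s ∈ Submodule.span Γ(Proj 𝒜, Proj.basicOpen 𝒜 f) (Gen 𝒜 ℳ T c G k f (e := e)) := by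
  classical
  intro t
  induction t using Nat.strong_induction_on with
  | _ t ih =>
  intro a ha w hw m hm l hl s hs
  rcases Nat.eq_zero_or_pos t with rfl | htpos
  · have hx' : w.prod • m ∈ ℳ (l * e) := by
      rw [hl, zero_add]
      exact smul_mem_deg 𝒜 ℳ T c hc G k hk w hw m hm
    obtain ⟨s', hs'⟩ := exists_isFr 𝒜 ℳ f hf (w.prod • m) l hx'
    have hs'P := claim1 𝒜 ℳ T c hc G k hk f he hf _ w rfl hw m hm l (by omega) s' hs'
    have h2 := hs'.smul hf 0 a (by simpa using ha)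
    rw [← mul_smul, zero_add] at h2
    rw [hs.unique h2]
    exact Submodule.smul_mem _ _ hs'P
  · have ha' : a ∈ (HomogeneousIdeal.irrelevant 𝒜).toIdeal :=
      HomogeneousIdeal.mem_irrelevant_of_mem 𝒜 htpos ha
    rw [hT] at ha'
    obtain ⟨b, -, hb⟩ := Submodule.mem_span_finset.1 ha'
    let a' : A → A := fun g => if c g ≤ t then (DirectSum.decompose 𝒜 (b g) (t - c g) : A) else 0
    have hsum : a = ∑ g ∈ T, a' g * g := by
      have h1 : a = ((DirectSum.decompose 𝒜 a t : 𝒜 t) : A) :=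
        (DirectSum.decompose_of_mem_same 𝒜 ha).symm
      rw [h1]
      conv_lhs => rw [← hb]
      rw [DirectSum.decompose_sum, DFinsupp.finsetSum_apply, AddSubmonoidClass.coe_finsetSum]
      refine Finset.sum_congr rfl (fun g hg => ?_)
      rw [smul_eq_mul, DirectSum.coe_decompose_mul_of_right_mem 𝒜 t (hc g hg).2]
      simp only [a']
      split_ifs <;> simp
    have key : ∀ g ∈ T, ∃ s' : Γ(GrTilde.tilde 𝒜 ℳ 0, Proj.basicOpen 𝒜 f),
        IsFr 𝒜 ℳ f s' ((a' g * (g ::ₘ w).prod) • m) l ∧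
        s' ∈ Submodule.span Γ(Proj 𝒜, Proj.basicOpen 𝒜 f) (Gen 𝒜 ℳ T c G k f (e := e)) := by
      intro g hg
      obtain ⟨hcg, hgdeg⟩ := hc g hg
      by_cases hct : c g ≤ t
      · have ha'g : a' g ∈ 𝒜 (t - c g) := by
          simp only [a', if_pos hct]
          exact SetLike.coe_mem _
        have hw' : ∀ g' ∈ g ::ₘ w, g' ∈ T := by
          intro g' hg'
          rcases Multiset.mem_cons.1 hg' with rfl | h
          · exact hg
          · exact hw g' h
        have hl' : l * e = (t - c g) + dg c (g ::ₘ w) + k m := by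
          rw [dg_cons]; omega
        have hx' : (a' g * (g ::ₘ w).prod) • m ∈ ℳ (l * e) := by
          rw [hl', mul_smul]
          have h1 := smul_mem_deg 𝒜 ℳ T c hc G k hk (g ::ₘ w) hw' m hm
          have h2 := SetLike.GradedSMul.smul_mem (A := 𝒜) (B := ℳ) ha'g h1
          rwa [vadd_eq_add, ← add_assoc] at h2
        obtain ⟨s', hs'⟩ := exists_isFr 𝒜 ℳ f hf _ l hx'
        exact ⟨s', hs', ih (t - c g) (by omega) (a' g) ha'g (g ::ₘ w) hw' m hm l hl' s' hs'⟩
      · refine ⟨0, ?_, Submodule.zero_mem _⟩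
        have : a' g = 0 := by simp only [a', if_neg hct]
        rw [this, zero_mul, zero_smul]
        exact IsFr.zero l
    choose! sg hsg hsgP using key
    have h2 := IsFr.sum T sg (fun g => (a' g * (g ::ₘ w).prod) • m) l hsg
    have h3 : ∑ g ∈ T, (a' g * (g ::ₘ w).prod) • m = (a * w.prod) • m := by
      rw [← Finset.sum_smul, hsum, Finset.sum_mul]
      congr 1
      refine Finset.sum_congr rfl (fun g _ => ?_)
      rw [Multiset.prod_cons, mul_assoc]
    rw [h3] at h2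
    rw [hs.unique h2]
    exact Submodule.sum_mem _ (fun g hg => hsgP g hg)

include hc hk he hf hT hG in
lemma claim3 (l : ℕ) (x : M) (hx : x ∈ ℳ (l * e)) (hl0 : n0 ≤ l * e)
    (hlk : ∀ m ∈ G, k m ≤ l * e)
    (s : Γ(GrTilde.tilde 𝒜 ℳ 0, Proj.basicOpen 𝒜 f)) (hs : IsFr 𝒜 ℳ f s x l) :
    s ∈ Submodule.span Γ(Proj 𝒜, Proj.basicOpen 𝒜 f) (Gen 𝒜 ℳ T c G k f (e := e)) := by
  classical
  obtain ⟨a, -, ha⟩ := Submodule.mem_span_finset.1 (hG _ hl0 x hx)
  let a' : M → A := fun m => (DirectSum.decompose 𝒜 (a m) (l * e - k m) : A)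
  have hsum : x = ∑ m ∈ G, a' m • m := by
    have h1 : x = ((DirectSum.decompose ℳ x (l * e) : ℳ (l * e)) : M) :=
      (DirectSum.decompose_of_mem_same ℳ hx).symm
    rw [h1]
    conv_lhs => rw [← ha]
    rw [DirectSum.decompose_sum, DFinsupp.finsetSum_apply, AddSubmonoidClass.coe_finsetSum]
    refine Finset.sum_congr rfl (fun m hm => ?_)
    exact decompose_smul_of_mem' 𝒜 ℳ (a m) m (hk m hm) (l * e) (hlk m hm)
  have key : ∀ m ∈ G, ∃ s' : Γ(GrTilde.tilde 𝒜 ℳ 0, Proj.basicOpen 𝒜 f),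
      IsFr 𝒜 ℳ f s' (a' m • m) l ∧
      s' ∈ Submodule.span Γ(Proj 𝒜, Proj.basicOpen 𝒜 f) (Gen 𝒜 ℳ T c G k f (e := e)) := by
    intro m hm
    have ha'm : a' m ∈ 𝒜 (l * e - k m) := SetLike.coe_mem _
    have hx' : a' m • m ∈ ℳ (l * e) := by
      have h2 := SetLike.GradedSMul.smul_mem (A := 𝒜) (B := ℳ) ha'm (hk m hm)
      rwa [vadd_eq_add, Nat.sub_add_cancel (hlk m hm)] at h2
    obtain ⟨s', hs'⟩ := exists_isFr 𝒜 ℳ f hf _ l hx'
    refine ⟨s', hs', ?_⟩
    have hs'' : IsFr 𝒜 ℳ f s' ((a' m * (0 : Multiset A).prod) • m) l := by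
      rw [Multiset.prod_zero, mul_one]
      exact hs'
    refine claim2 𝒜 ℳ T c hc hT G k hk f he hf (l * e - k m) (a' m) ha'm 0 (by simp) m hm l ?_ s' hs''
    rw [dg_zero]
    have := hlk m hm
    omega
  choose! sg hsg hsgP using key
  have h2 := IsFr.sum G sg (fun m => a' m • m) l hsg
  rw [← hsum] at h2
  rw [hs.unique h2]
  exact Submodule.sum_mem _ (fun m hm => hsgP m hm)

include hc hk he hf hT hG in
theorem span_Gen_eq_top :
    Submodule.span Γ(Proj 𝒜, Proj.basicOpen 𝒜 f) (Gen 𝒜 ℳ T c G k f (e := e)) = ⊤ := by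
  rw [eq_top_iff]
  intro s _
  obtain ⟨l, x, hx, hs⟩ := exists_isFr_of_section 𝒜 ℳ f he hf s
  set j := n0 + G.sup k with hj
  have hs' := hs.mul_pow j
  have hfj : f ^ j ∈ 𝒜 (j * e) := by
    have := SetLike.pow_mem_graded j hf
    simpa [smul_eq_mul] using this
  have hx' : f ^ j • x ∈ ℳ ((l + j) * e) := by
    have h2 := SetLike.GradedSMul.smul_mem (A := 𝒜) (B := ℳ) hfj hx
    rw [vadd_eq_add] at h2
    have : (l + j) * e = j * e + l * e := by ring
    rwa [this]
  have hje : j ≤ j * e := Nat.le_mul_of_pos_right j he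
  have hlje : j * e ≤ (l + j) * e := Nat.mul_le_mul_right e (Nat.le_add_left j l)
  refine claim3 𝒜 ℳ T c hc hT G k hk n0 hG f he hf (l + j) (f ^ j • x) hx' (by omega) ?_ s hs'
  intro m hm
  have : k m ≤ G.sup k := Finset.le_sup (f := k) hm
  omega

include hc hk he hf hT hG in
/-- **finite generation of `Γ(D₊(f), M~)`** under (TF) -/
theorem finite_sections :
    Module.Finite Γ(Proj 𝒜, Proj.basicOpen 𝒜 f) Γ(GrTilde.tilde 𝒜 ℳ 0, Proj.basicOpen 𝒜 f) := by
  rw [Module.finite_def, ← span_Gen_eq_top 𝒜 ℳ T c hc hT G k hk n0 hG f he hf]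
  exact Submodule.fg_span (Gen_finite 𝒜 ℳ T c G k f he)

end fin

/-- a finitely generated irrelevant ideal is generated by finitely many homogeneous elements of
positive degrees -/
lemma exists_homogeneous_generators (hfg : (HomogeneousIdeal.irrelevant 𝒜).toIdeal.FG) :
    ∃ (T : Finset A) (c : A → ℕ), (∀ g ∈ T, 0 < c g ∧ g ∈ 𝒜 (c g)) ∧
      (HomogeneousIdeal.irrelevant 𝒜).toIdeal = Ideal.span (T : Set A) := by
  classical
  obtain ⟨T0, hT0⟩ := hfg
  let T : Finset A := T0.biUnion (fun g => (DFinsupp.support (DirectSum.decompose 𝒜 g)).image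
    (fun i => ((DirectSum.decompose 𝒜 g i : 𝒜 i) : A)))
  have hmemT : ∀ t ∈ T, ∃ g ∈ T0, ∃ i : ℕ, t = ((DirectSum.decompose 𝒜 g i : 𝒜 i) : A) := by
    intro t ht
    obtain ⟨g, hg, ht⟩ := Finset.mem_biUnion.1 ht
    obtain ⟨i, -, rfl⟩ := Finset.mem_image.1 ht
    exact ⟨g, hg, i, rfl⟩
  have hT0I : ∀ g ∈ T0, g ∈ (HomogeneousIdeal.irrelevant 𝒜).toIdeal := by
    intro g hg
    rw [← hT0]
    exact Ideal.subset_span hg
  have hdeg : ∀ t ∈ T, ∃ c : ℕ, 0 < c ∧ t ∈ 𝒜 c := by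
    intro t ht
    obtain ⟨g, hg, i, rfl⟩ := hmemT t ht
    rcases Nat.eq_zero_or_pos i with rfl | hi
    · refine ⟨1, Nat.one_pos, ?_⟩
      have h1 : ((DirectSum.decompose 𝒜 g 0 : 𝒜 0) : A) = 0 := by
        have := (HomogeneousIdeal.mem_irrelevant_iff 𝒜 g).1 (hT0I g hg)
        simpa [GradedRing.proj_apply] using this
      rw [h1]
      exact zero_mem _
    · exact ⟨i, hi, SetLike.coe_mem _⟩
  choose! c hc using hdeg
  refine ⟨T, c, hc, ?_⟩
  apply le_antisymm
  · rw [← hT0, Ideal.span_le]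
    intro g hg
    rw [← DirectSum.sum_support_decompose 𝒜 g]
    apply Ideal.sum_mem
    intro i hi
    apply Ideal.subset_span
    exact Finset.mem_biUnion.2 ⟨g, hg, Finset.mem_image.2 ⟨i, hi, rfl⟩⟩
  · rw [Ideal.span_le]
    intro t ht
    obtain ⟨g, hg, i, rfl⟩ := hmemT t ht
    exact (HomogeneousIdeal.irrelevant 𝒜).isHomogeneous i (hT0I g hg)

/-- **`M~` is of finite type under (TF)** when `S₊` is finitely generated -/
theorem isFiniteType_tilde_of_TF (hfg : (HomogeneousIdeal.irrelevant 𝒜).toIdeal.FG)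
    (hTF : ∃ n : ℕ, (Submodule.span A (⋃ k ∈ Set.Ici n, (ℳ k : Set M))).FG) :
    SheafOfModules.IsFiniteType (R := (Proj 𝒜).ringCatSheaf) (GrTilde.tilde 𝒜 ℳ 0) := by
  classical
  obtain ⟨T, c, hc, hT⟩ := exists_homogeneous_generators 𝒜 hfg
  obtain ⟨n0, hN⟩ := hTF
  obtain ⟨G, hGsub, hGspan⟩ := (Submodule.fg_span_iff_fg_span_finset_subset _).1 hN
  have hdeg : ∀ m : M, m ∈ G → ∃ i : ℕ, m ∈ ℳ i := by
    intro m hm
    have := hGsub hm
    simp only [Set.mem_iUnion, Set.mem_Ici, SetLike.mem_coe] at this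
    obtain ⟨i, -, hmi⟩ := this
    exact ⟨i, hmi⟩
  choose! k hk using hdeg
  have hG : ∀ j : ℕ, n0 ≤ j → ∀ x ∈ ℳ j, x ∈ Submodule.span A (G : Set M) := by
    intro j hj x hx
    rw [← hGspan]
    apply Submodule.subset_span
    simp only [Set.mem_iUnion, Set.mem_Ici, SetLike.mem_coe]
    exact ⟨j, hj, hx⟩
  haveI := isQuasicoherent_tilde 𝒜 ℳ 0
  apply Groth.Agent.Helper4.FTGlue.isFiniteType_of_finite_sections
  intro x
  have hex : ∃ g ∈ T, g ∉ x.asHomogeneousIdeal := by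
    by_contra hcon
    push Not at hcon
    apply x.not_irrelevant_le
    intro a ha
    have ha' : a ∈ (HomogeneousIdeal.irrelevant 𝒜).toIdeal := ha
    rw [hT] at ha'
    have hle : Ideal.span (T : Set A) ≤ x.asHomogeneousIdeal.toIdeal := by
      rw [Ideal.span_le]
      intro g hg
      exact hcon g hg
    exact hle ha'
  obtain ⟨g, hgT, hgx⟩ := hex
  obtain ⟨hcg, hgdeg⟩ := hc g hgT
  exact ⟨Proj.basicOpen 𝒜 g, Proj.isAffineOpen_basicOpen 𝒜 g hgdeg hcg, hgx,
    finite_sections 𝒜 ℳ T c hc hT G k hk n0 hG g hcg hgdeg⟩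

end Groth.Agent.Helper1.GrT
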