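import Mathlib
import Groth.Agent.Helper1.GrT13
import Groth.Agent.Helper1.TwistGenBy
import Groth.Agent.Helper1.GM11

set_option autoImplicit false
set_option linter.unusedSectionVars false

/-!
# `Proj` of a Noetherian graded ring: a uniform degree, compactness, finite type over degree zero
-/

namespace Groth.Agent.Helper1.ProjNoeth

open CategoryTheory AlgebraicGeometry TopologicalSpace Opposite
open Groth.Agent.Helper1.TwistMul

universe u

variable {R A : Type u} [CommRing R] [CommRing A] [Algebra R A] (𝒜 : ℕ → Submodule R A)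
  [GradedAlgebra 𝒜]

section gens

variable (T : Finset A) (c : A → ℕ) (hc : ∀ g ∈ T, 0 < c g ∧ g ∈ 𝒜 (c g))
  (hT : (HomogeneousIdeal.irrelevant 𝒜).toIdeal = Ideal.span (T : Set A))

include hT in
theorem exists_notMem (x : Proj 𝒜) :
    ∃ g ∈ T, g ∉ (show ProjectiveSpectrum 𝒜 from x).asHomogeneousIdeal := by
  by_contra hcon
  push Not at hcon
  apply (show ProjectiveSpectrum 𝒜 from x).not_irrelevant_le
  have : (HomogeneousIdeal.irrelevant 𝒜).toIdeal ≤
      (show ProjectiveSpectrum 𝒜 from x).asHomogeneousIdeal.toIdeal := by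
    rw [hT]
    exact Ideal.span_le.2 fun g hg => hcon g hg
  exact this

include hc hT in
/-- every point has a non-vanishing homogeneous element of degree `a * ∏ c g` -/
theorem hloc (a : ℕ) (x : Proj 𝒜) :
    ∃ b : A, b ∈ 𝒜 (a * ∏ g ∈ T, c g) ∧ x ∈ Proj.basicOpen 𝒜 b := by
  classical
  obtain ⟨g, hg, hgx⟩ := exists_notMem 𝒜 T hT x
  obtain ⟨m, hm⟩ : c g ∣ ∏ g ∈ T, c g := Finset.dvd_prod_of_mem c hg
  refine ⟨g ^ (a * m), ?_, fun h => hgx ((show ProjectiveSpectrum 𝒜 from x).isPrime.mem_of_pow_mem _ h)⟩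
  have := SetLike.pow_mem_graded (a * m) (hc g hg).2
  have e : (a * m) • c g = a * ∏ g ∈ T, c g := by
    rw [hm, smul_eq_mul]; ring
  rwa [e] at this

include hc in
theorem prod_pos : 0 < ∏ g ∈ T, c g := Finset.prod_pos fun g hg => (hc g hg).1

include hc hT in
theorem compactSpace : CompactSpace (Proj 𝒜) := by
  classical
  constructor
  have h1 : (Set.univ : Set (Proj 𝒜)) = ⋃ g ∈ T, ((Proj.basicOpen 𝒜 g : (Proj 𝒜).Opens) :
      Set (Proj 𝒜)) := by
    ext x
    simp only [Set.mem_univ, Set.mem_iUnion, true_iff]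
    obtain ⟨g, hg, hgx⟩ := exists_notMem 𝒜 T hT x
    exact ⟨g, hg, hgx⟩
  rw [h1]
  exact T.finite_toSet.isCompact_biUnion
    (fun g hg => (Proj.isAffineOpen_basicOpen 𝒜 g (hc g hg).2 (hc g hg).1).isCompact)

include hc hT in
/-- homogeneous elements lie in the subalgebra generated over `𝒜 0` by the generators -/
theorem mem_adjoin : ∀ (n : ℕ) (x : A), x ∈ 𝒜 n → x ∈ Algebra.adjoin (𝒜 0) (T : Set A) := by
  classical
  intro n
  induction n using Nat.strong_induction_on with
  | _ n ih =>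
    intro x hx
    rcases Nat.eq_zero_or_pos n with h0 | hpos
    · subst h0
      have : x = algebraMap (𝒜 0) A ⟨x, hx⟩ := rfl
      rw [this]
      exact Subalgebra.algebraMap_mem _ _
    · have hxI : x ∈ (HomogeneousIdeal.irrelevant 𝒜).toIdeal :=
        HomogeneousIdeal.mem_irrelevant_of_mem _ hpos hx
      rw [hT] at hxI
      obtain ⟨a, -, ha⟩ := (Submodule.mem_span_finset).1 hxI
      have hxn : x = ((DirectSum.decompose 𝒜 x n : 𝒜 n) : A) :=
        (DirectSum.decompose_of_mem_same 𝒜 hx).symm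
      rw [hxn, ← ha, DirectSum.decompose_sum, DFinsupp.finsetSum_apply,
        AddSubmonoidClass.coe_finsetSum]
      refine Subalgebra.sum_mem _ fun g hg => ?_
      by_cases hgn : c g ≤ n
      · have h1 := Groth.Agent.Helper1.GrT.decompose_smul_of_mem' 𝒜 𝒜 (a g) g (hc g hg).2 n hgn
        rw [h1]
        refine Subalgebra.mul_mem _ (ih (n - c g) ?_ _ (DirectSum.decompose 𝒜 (a g) (n - c g)).2)
          (Algebra.subset_adjoin hg)
        have := (hc g hg).1
        omega
      · have h1 := Groth.Agent.Helper1.GMF.decompose_smul_of_mem_lt 𝒜 𝒜 (a g) g (hc g hg).2 n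
          (by omega)
        rw [h1]
        exact Subalgebra.zero_mem _

include hc hT in
theorem adjoin_eq_top : Algebra.adjoin (𝒜 0) (T : Set A) = ⊤ := by
  classical
  rw [eq_top_iff]
  intro x _
  rw [← DirectSum.sum_support_decompose 𝒜 x]
  exact Subalgebra.sum_mem _ fun n _ => mem_adjoin 𝒜 T c hc hT n _ (DirectSum.decompose 𝒜 x n).2

include hc hT in
theorem finiteType_zero_of_gens : Algebra.FiniteType (𝒜 0) A :=
  ⟨⟨T, adjoin_eq_top 𝒜 T c hc hT⟩⟩

end gens

section noeth

variable [IsNoetherianRing A]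

theorem exists_gens : ∃ (T : Finset A) (c : A → ℕ), (∀ g ∈ T, 0 < c g ∧ g ∈ 𝒜 (c g)) ∧
    (HomogeneousIdeal.irrelevant 𝒜).toIdeal = Ideal.span (T : Set A) :=
  Groth.Agent.Helper1.GrT.exists_homogeneous_generators 𝒜
    (IsNoetherian.noetherian (HomogeneousIdeal.irrelevant 𝒜).toIdeal)

/-- a Noetherian graded ring is of finite type over its degree-zero part -/
theorem finiteType_zero : Algebra.FiniteType (𝒜 0) A := by
  obtain ⟨T, c, hc, hT⟩ := exists_gens 𝒜
  exact finiteType_zero_of_gens 𝒜 T c hc hT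

theorem compactSpace_proj : CompactSpace (Proj 𝒜) := by
  obtain ⟨T, c, hc, hT⟩ := exists_gens 𝒜
  exact compactSpace 𝒜 T c hc hT

/-- a uniform degree `e > 0`: every point of `Proj` has a non-vanishing homogeneous element of
every degree `a * e` -/
theorem exists_hloc : ∃ e : ℕ, 0 < e ∧ ∀ (a : ℕ) (x : Proj 𝒜),
    ∃ b : A, b ∈ 𝒜 (a * e) ∧ x ∈ Proj.basicOpen 𝒜 b := by
  obtain ⟨T, c, hc, hT⟩ := exists_gens 𝒜
  exact ⟨_, prod_pos 𝒜 T c hc, hloc 𝒜 T c hc hT⟩

end noeth

end Groth.Agent.Helper1.ProjNoeth
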