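import Mathlib
import Groth.Agent.Helper1.ProjNoeth1

set_option autoImplicit false
set_option linter.unusedSectionVars false

/-!
# Twisting sheaves in degrees divisible by a uniform degree
-/

namespace Groth.Agent.Helper1.ProjNoeth

open CategoryTheory AlgebraicGeometry TopologicalSpace Opposite
open Groth.Agent.Helper1.TwistMul

universe u

variable {R A : Type u} [CommRing R] [CommRing A] [Algebra R A] (𝒜 : ℕ → Submodule R A)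
  [GradedAlgebra 𝒜]
variable (e : ℕ) (hloc : ∀ x : Proj 𝒜, ∃ b : A, b ∈ 𝒜 e ∧ x ∈ Proj.basicOpen 𝒜 b)

include hloc in
/-- local invertible sections in degrees `n * e` -/
theorem cover (n : ℤ) (p : Proj 𝒜) :
    ∃ W : (Proj 𝒜).Opens, p ∈ W ∧ Nonempty (InvPair 𝒜 (n * (e : ℤ)) W) := by
  obtain ⟨b, hb, hp⟩ := hloc p
  exact ⟨Proj.basicOpen 𝒜 b, hp, nonempty_invPair_of_le_basicOpen 𝒜 _ b hb le_rfl n⟩

include hloc in
theorem cover_one (p : Proj 𝒜) :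
    ∃ W : (Proj 𝒜).Opens, p ∈ W ∧ Nonempty (InvPair 𝒜 (e : ℤ) W) := by
  obtain ⟨W, hp, h⟩ := cover 𝒜 e hloc 1 p
  rw [one_mul] at h
  exact ⟨W, hp, h⟩

include hloc in
/-- `O(me) ≅ O(e)^{⊗ m}` -/
theorem nonempty_twist_iso_tensorPow (m : ℕ) :
    Nonempty (Twist.twist 𝒜 ((m : ℤ) * (e : ℤ)) ≅ CohB1.tensorPow (Twist.twist 𝒜 (e : ℤ)) m) := by
  induction m with
  | zero =>
    rw [show ((0 : ℕ) : ℤ) * (e : ℤ) = 0 by simp]
    exact nonempty_twist_zero_iso 𝒜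
  | succ m ih =>
    obtain ⟨ε⟩ := ih
    obtain ⟨ε'⟩ := nonempty_twist_tensor_twist_iso_right 𝒜 ((m : ℤ) * (e : ℤ)) (e : ℤ)
      (((m + 1 : ℕ) : ℤ) * (e : ℤ)) (by push_cast; ring) (cover_one 𝒜 e hloc)
    exact ⟨ε'.symm ≪≫ PicGrp.tensorModIso ε (Iso.refl _)⟩

include hloc in
/-- `O(-me) ⊗ O(e)^{⊗ m} ≅ O` -/
theorem nonempty_neg_tensor_tensorPow_iso (m : ℕ) :
    Nonempty (CohB1.tensorMod (Twist.twist 𝒜 (-((m : ℤ) * (e : ℤ))))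
      (CohB1.tensorPow (Twist.twist 𝒜 (e : ℤ)) m) ≅ Coh.structureModule (Proj 𝒜)) := by
  obtain ⟨τ⟩ := nonempty_twist_iso_tensorPow 𝒜 e hloc m
  obtain ⟨μ⟩ := nonempty_twist_tensor_twist_iso_right 𝒜 (-((m : ℤ) * (e : ℤ)))
    ((m : ℤ) * (e : ℤ)) 0 (by ring) (cover 𝒜 e hloc m)
  obtain ⟨ζ⟩ := nonempty_twist_zero_iso 𝒜
  exact ⟨PicGrp.tensorModIso (Iso.refl _) τ.symm ≪≫ μ ≪≫ ζ⟩

end Groth.Agent.Helper1.ProjNoeth
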