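import Mathlib
import Groth.Agent.Helper1.PnDual9
import Groth.Agent.Helper1.DualSh2
import Groth.Agent.Helper1.SerreFin2
import Groth.Agent.Helper3.ProjNoeth
import Groth.Agent.Lead.PerfLib5
import Groth.Agent.S0846
import Groth.Agent.S0022

set_option autoImplicit false
set_option linter.unusedSectionVars false
set_option linter.style.haveILetI false

/-!
# `O(-r-1)` with the residue is a dualizing pair for the coherent modules on `P^r_R`
-/

namespace Groth.Agent.Helper1.PnDual

open CategoryTheory AlgebraicGeometry Limits Opposite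
open Groth.Agent.Helper1.DualSh

universe u

variable (r : ℕ) (R : Type u) [CommRing R]

/-- from the twisting sheaves to all coherent modules -/
theorem isDual_of_isCoh [IsNoetherianRing R]
    (t : Coh.HH (CohB1.ProjSpace r R) (Twist.twistProjSpace r R (-((r : ℤ) + 1))) r →ₗ[R] R)
    (ht : ∀ d : ℤ, IsDual R r t (Twist.twistProjSpace r R d))
    (F : (CohB1.ProjSpace r R).Modules) (hF : Coh.IsCoh F) : IsDual R r t F := by
  haveI : IsNoetherianRing (MvPolynomial (Fin (r + 1)) R) := inferInstance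
  haveI : IsNoetherian (CohB1.ProjSpace r R) :=
    Groth.Agent.Helper3.ProjNoeth.main (CohB1.polyGrading r R)
  have hsum : ∀ (s : ℕ) (d : Fin s → ℤ),
      IsDual R r t (∐ fun j : Fin s => Twist.twistProjSpace r R (d j)) ∧
      Coh.IsCoh (∐ fun j : Fin s => Twist.twistProjSpace r R (d j)) := by
    intro s d
    refine ⟨?_, Groth.Agent.Helper1.SerreFin.isCoh_sigma_fin _
      (fun j => Groth.Agent.Helper1.SerreFin.isCoh_twist r R (d j))⟩
    exact IsDual.of_iso (biproduct.isoCoproduct
      (fun j : Fin s => Twist.twistProjSpace r R (d j))).symm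
      (IsDual.biproduct _ (fun j => ht (d j)))
  have hpres : ∀ G : (CohB1.ProjSpace r R).Modules, Coh.IsCoh G →
      ∃ (s : ℕ) (d : Fin s → ℤ) (φ : (∐ fun j : Fin s => Twist.twistProjSpace r R (d j)) ⟶ G),
        Epi φ := fun G hG => Groth.Agent.S0846.result (CohB1.polyGrading r R) G hG
  obtain ⟨s₀, d₀, π, hπ⟩ := hpres F hF
  haveI := hπ
  have hK : Coh.IsCoh (kernel π) := Groth.Agent.Lead.PerfLib.isCoh_kernel (hsum s₀ d₀).2 hF π
  obtain ⟨s₁, d₁, ρ, hρ⟩ := hpres (kernel π) hK
  haveI := hρ
  haveI : Coh.IsQCoh (kernel π) := hK.1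
  have hsurj := surjective_Hmap_of_epi R π r
    (Groth.Agent.S0022.result r R (kernel π) (r + 1) (Nat.lt_succ_self r))
  exact IsDual.of_epi π hsurj ρ (hsum s₀ d₀).1 (hsum s₁ d₁).1

/-- **`(O(-r-1), residue)` is a dualizing pair for coherent modules on `P^r_R`** -/
theorem exists_dualizing [IsNoetherianRing R] :
    ∃ t : Coh.HH (CohB1.ProjSpace r R) (Twist.twistProjSpace r R (-((r : ℤ) + 1))) r ≃ₗ[R] R,
      ∀ F : (CohB1.ProjSpace r R).Modules, Coh.IsCoh F → IsDual R r t.toLinearMap F := by
  obtain ⟨t, ht⟩ := main_all r R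
  exact ⟨t, fun F hF => isDual_of_isCoh r R t.toLinearMap ht F hF⟩

end Groth.Agent.Helper1.PnDual
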