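import Mathlib
import Groth.Agent.Helper1.ExtDual2
import Groth.Agent.Helper1.ExtTw2
import Groth.Agent.Helper1.PnDual10
import Groth.Agent.Helper1.HHSum
import Groth.Agent.Helper1.ProjNoeth2
import Groth.Agent.S4269
import Groth.Agent.Helper3.NormalSheaf
import Groth.Agent.Helper4.AmpleBasis

/-!
# ExtDual3: `Extⁱ(F, O(-r-1)) ≃ Hʳ⁻ⁱ(P^r_k, F)ᵛ` for coherent `F` on `P^r_k`
-/

set_option autoImplicit false
set_option linter.style.haveILetI false
set_option linter.unusedSectionVars false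

open CategoryTheory CategoryTheory.Limits Abelian AlgebraicGeometry
open Groth.Agent.Helper1.DualSh

namespace Groth.Agent.Helper1.ExtDual

universe u

section general

universe w v' u'

variable {C : Type u'} [Category.{v'} C] [Abelian C] [HasExt.{w} C]

/-- `Ext` out of a finite coproduct vanishes if it does so on the summands -/
theorem subsingleton_ext_sigma {s : ℕ} (M : Fin s → C) (Y : C) (m : ℕ)
    (h : ∀ j, Subsingleton (Ext.{w} (M j) Y m)) : Subsingleton (Ext.{w} (∐ M) Y m) := by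
  have key : ∀ x : Ext.{w} (∐ M) Y m, x = 0 := by
    intro x
    let φ : ((∐ M) ⟶ (∐ M)) →+ Ext.{w} (∐ M) Y m :=
      { toFun := fun f => (Ext.mk₀ f).comp x (zero_add m)
        map_zero' := by rw [Ext.mk₀_zero, Ext.zero_comp]
        map_add' := fun f g => by rw [Ext.mk₀_add, Ext.add_comp] }
    have h1 : φ (𝟙 _) = x := Ext.mk₀_id_comp x
    rw [← h1, ← Groth.Agent.Helper1.HHSum.sum_proj_ι M, map_sum]
    refine Finset.sum_eq_zero (fun j _ => ?_)
    show (Ext.mk₀ (Groth.Agent.Helper1.HHSum.proj M j ≫ Sigma.ι M j)).comp x (zero_add m) = 0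
    rw [← Ext.mk₀_comp_mk₀, Ext.comp_assoc _ _ _ (zero_add 0) (zero_add m) (by omega)]
    haveI := h j
    rw [Subsingleton.elim ((Ext.mk₀ (Sigma.ι M j)).comp x (zero_add m)) 0, Ext.comp_zero]
  exact ⟨fun x y => by rw [key x, key y]⟩

end general

section neg

open Coherent in
/-- a coherent module on `Proj` of a Noetherian graded ring is a quotient of a finite sum of
negative twists -/
theorem exists_epi_neg_twists {R A : Type u} [CommRing R] [CommRing A] [Algebra R A]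
    (𝒜 : ℕ → Submodule R A) [GradedAlgebra 𝒜] [IsNoetherianRing A] (F : (Proj 𝒜).Modules)
    (hF : Coh.IsCoh F) :
    ∃ (r : ℕ) (d : Fin r → ℤ) (φ : (∐ fun j : Fin r => Twist.twist 𝒜 (d j)) ⟶ F),
      Epi φ ∧ ∀ j, d j < 0 := by
  classical
  obtain ⟨e, he, hloc⟩ := Groth.Agent.Helper1.ProjNoeth.exists_hloc 𝒜
  have hloc1 : ∀ x : Proj 𝒜, ∃ b : A, b ∈ 𝒜 e ∧ x ∈ Proj.basicOpen 𝒜 b := fun x => by
    simpa using hloc 1 x
  haveI := Groth.Agent.Helper1.ProjNoeth.compactSpace_proj 𝒜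
  have hamp := Groth.Agent.Helper1.TwistMul.isAmple_twist' 𝒜 e he hloc1
  haveI := Groth.Agent.Helper4.AmpleBasis.quasiSeparatedSpace_of_isAmple hamp
  have hfam : KSix.IsAmpleFamily (fun _ : PUnit.{u + 1} => Twist.twist 𝒜 (e : ℤ)) :=
    ⟨inferInstance, inferInstance, fun _ => hamp.1, fun x => by
      obtain ⟨n, s, h1, h2⟩ := hamp.2.2 x
      exact ⟨PUnit.unit, n, s, h1, h2⟩⟩
  obtain ⟨M, π, ⟨k, N, hN, ⟨eM⟩⟩, hπ⟩ := Groth.Agent.S4269.result (Proj 𝒜) _ hfam F hF.1 hF.2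
  choose i kk hkk hiso using hN
  have hNj : ∀ j, Nonempty (Twist.twist 𝒜 (-((kk j : ℤ) * (e : ℤ))) ≅ N j) := by
    intro j
    obtain ⟨ε⟩ := hiso j
    obtain ⟨ε'⟩ := Groth.Agent.Helper1.ProjNoeth.nonempty_neg_tensor_tensorPow_iso 𝒜 e hloc1 (kk j)
    exact ⟨Groth.Agent.Helper3.NormalSheaf.inverseUnique ε' ε⟩
  refine ⟨k, fun j => -((kk j : ℤ) * (e : ℤ)),
    (Limits.Sigma.mapIso (fun j => (hNj j).some)).hom ≫ (Limits.biproduct.isoCoproduct N).inv ≫
      eM.inv ≫ π, inferInstance, fun j => ?_⟩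
  have h1 : (0 : ℤ) < (kk j : ℤ) * (e : ℤ) :=
    mul_pos (Int.natCast_pos.2 (hkk j)) (Int.natCast_pos.2 he)
  show -((kk j : ℤ) * (e : ℤ)) < 0
  omega

end neg

variable (r : ℕ) (k : Type u) [Field k]

/-- the presentations needed for the duality theorem on `P^r_k` -/
theorem exists_pres [HasExt.{u} (CohB1.ProjSpace r k).Modules]
    (F : (CohB1.ProjSpace r k).Modules) (hF : Coh.IsCoh F) :
    ∃ (E : (CohB1.ProjSpace r k).Modules) (π : E ⟶ F), Epi π ∧ Coh.IsCoh E ∧
      Coh.IsCoh (kernel π) ∧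
      (∀ m : ℕ, 1 ≤ m → Subsingleton
        (Ext.{u} E (Twist.twistProjSpace r k (-((r : ℤ) + 1))) m)) ∧
      (∀ j : ℕ, j < r → Subsingleton (Coh.HH (CohB1.ProjSpace r k) E j)) := by
  haveI : IsNoetherianRing (MvPolynomial (Fin (r + 1)) k) := inferInstance
  haveI : IsNoetherian (CohB1.ProjSpace r k) :=
    Groth.Agent.Helper3.ProjNoeth.main (CohB1.polyGrading r k)
  obtain ⟨s, d, π, hπ, hd⟩ := exists_epi_neg_twists (CohB1.polyGrading r k) F hF
  have hE : Coh.IsCoh (∐ fun j : Fin s => Twist.twistProjSpace r k (d j)) :=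
    Groth.Agent.Helper1.SerreFin.isCoh_sigma_fin _
      (fun j => Groth.Agent.Helper1.SerreFin.isCoh_twist r k (d j))
  haveI := hπ
  refine ⟨∐ fun j : Fin s => Twist.twistProjSpace r k (d j), π, hπ, hE,
    Groth.Agent.Lead.PerfLib.isCoh_kernel hE hF π, fun m hm => ?_, fun j hj => ?_⟩
  · refine subsingleton_ext_sigma _ _ m (fun j => ?_)
    refine Groth.Agent.Helper1.ExtTw.subsingleton_ext_twist_twist r k (d j) _ m ?_
    have := hd j
    rintro (⟨h1, -⟩ | ⟨-, h2⟩) <;> omega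
  · refine Groth.Agent.Helper1.SerreVan.subsingleton_HH_sigma _ j (fun j' => ?_)
    refine Groth.Agent.Helper1.PSB.subsingleton_HH r k (d j') j ?_
    have := hd j'
    rintro (⟨-, h2⟩ | ⟨h1, -⟩) <;> omega

/-- **Serre duality for coherent modules on `P^r_k`, all degrees** -/
theorem main_Pn [HasExt.{u} (CohB1.ProjSpace r k).Modules]
    (F : (CohB1.ProjSpace r k).Modules) (hF : Coh.IsCoh F) (i : ℕ) :
    (∀ j : ℕ, i + j = r → Nonempty (Ext.{u} F (Twist.twistProjSpace r k (-((r : ℤ) + 1))) i ≃ₗ[k]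
      Module.Dual k (Coh.HH (CohB1.ProjSpace r k) F j))) ∧
    (r < i → Subsingleton (Ext.{u} F (Twist.twistProjSpace r k (-((r : ℤ) + 1))) i)) := by
  obtain ⟨t, ht⟩ := Groth.Agent.Helper1.PnDual.exists_dualizing r k
  exact main k r t.toLinearMap (fun F => Coh.IsCoh F) ht (fun F hF => exists_pres r k F hF) i F hF

end Groth.Agent.Helper1.ExtDual
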