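import Mathlib
import Groth.Agent.Helper1.ExtSh7
import Groth.Agent.Helper1.ExtSh5
import Groth.Agent.Helper1.ExtDual3
import Groth.Agent.Lead.ResPropC
import Groth.Agent.Lead.Ref1B

/-!
# ExtSh8: on `P^n_R` (`R` Noetherian) the Ext sheaves of coherent modules are coherent
-/

set_option autoImplicit false
set_option linter.style.haveILetI false
set_option linter.unusedSectionVars false

universe u
open CategoryTheory CategoryTheory.Limits AlgebraicGeometry Opposite
open Groth.Agent.Helper9.TensorSh Groth.Agent.Helper9.TensorAdj Groth.Agent.Helper9.TensorFlat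

namespace Groth.Agent.Helper1.ExtSh

attribute [local instance] hasSheafHom
attribute [local instance] Abelian.hasFiniteBiproducts

section scheme

variable {X : Scheme.{u}} [IsLocallyNoetherian X]

/-- the internal Hom out of a finite sum of invertible modules with coherent inverses into a
coherent module is coherent -/
theorem isCoh_sheafHom_sigma {s : ℕ} (L L' : Fin s → X.Modules)
    (e : ∀ j, Nonempty (CohB1.tensorMod (L j) (L' j) ≅ Coh.structureModule X))
    (hL' : ∀ j, Coh.IsCoh (L' j)) (G : X.Modules) (hG : Coh.IsCoh G) :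
    Coh.IsCoh ((ModSite.sheafHom (O := X.sheaf) (∐ L)).obj G) := by
  have h1 : ∀ j, Coh.IsCoh ((ModSite.sheafHom (O := X.sheaf) (L j)).obj G) := by
    intro j
    obtain ⟨ej⟩ := e j
    have i1 : (ModSite.sheafHom (O := X.sheaf) (L j)).obj G ≅ CohB1.tensorMod (L' j) G :=
      (sheafHomInvIso (O := X.sheaf) (L j) (L' j) ej).app G
    exact Groth.Agent.Lead.PerfLib.isCoh_of_iso i1.symm
      (Groth.Agent.Lead.Ref1B.isCoh_tensorMod _ _ (hL' j) hG)
  have h2 : Coh.IsCoh (⨁ fun j => (ModSite.sheafHom (O := X.sheaf) (L j)).obj G) :=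
    Groth.Agent.Lead.PerfLib.isCoh_of_iso (biproduct.isoCoproduct _).symm
      (Groth.Agent.Helper1.SerreFin.isCoh_sigma_fin _ h1)
  exact prop_of_retract (fun M : X.Modules => Coh.IsCoh M)
    (fun i h => Groth.Agent.Lead.PerfLib.isCoh_of_iso i h)
    (fun f hM hN => Groth.Agent.Lead.PerfLib.isCoh_kernel hM hN f)
    (toBiprod (O := X.sheaf) L G) (ofBiprod (O := X.sheaf) L G)
    (toBiprod_ofBiprod (O := X.sheaf) L G) h2

end scheme

variable (n : ℕ) (R : Type u) [CommRing R] [IsNoetherianRing R]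

/-- finite sums of twists are finite locally free -/
theorem isFinLocFree_sigma_twist {s : ℕ} (d : Fin s → ℤ) :
    FlatMod.IsFinLocFree (∐ fun j : Fin s => Twist.twistProjSpace n R (d j)) := by
  refine Groth.Agent.Helper4.FinLocFree2.isFinLocFree_of_iso (biproduct.isoCoproduct _) ?_
  refine Groth.Agent.Lead.ResProp.isFinLocFree_biproduct _ _ (fun j => ?_)
  exact Groth.Agent.Lead.ParaFLib.isFinLocFree_of_isInvertible _
    (Groth.Agent.Helper1.SerreVan.isInvertible_twist n R (d j))

/-- **coherence of the Ext sheaves on `P^n_R`** -/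
theorem isCoh_extSh_projSpace [HasInjectiveResolutions (ModSite.Mod (CohB1.ProjSpace n R).sheaf)]
    (G : (CohB1.ProjSpace n R).Modules) (hG : Coh.IsCoh G) (i : ℕ)
    (F : (CohB1.ProjSpace n R).Modules) (hF : Coh.IsCoh F) :
    Coh.IsCoh ((ModSite.extSh (O := (CohB1.ProjSpace n R).sheaf) F i).obj G) := by
  haveI : IsNoetherianRing (MvPolynomial (Fin (n + 1)) R) := inferInstance
  haveI : IsNoetherian (CohB1.ProjSpace n R) :=
    Groth.Agent.Helper3.ProjNoeth.main (CohB1.polyGrading n R)
  refine prop_extSh (O := (CohB1.ProjSpace n R).sheaf)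
    (fun M : (CohB1.ProjSpace n R).Modules => Coh.IsCoh M)
    (fun i h => Groth.Agent.Lead.PerfLib.isCoh_of_iso i h)
    (fun f hM hN => Groth.Agent.Lead.PerfLib.isCoh_kernel hM hN f)
    (fun f hM hN => Groth.Agent.Lead.PerfLib.isCoh_cokernel hM hN f) G ?_ i F hF
  intro F hF
  obtain ⟨s, d, π, hπ, -⟩ :=
    Groth.Agent.Helper1.ExtDual.exists_epi_neg_twists (CohB1.polyGrading n R) F hF
  have hE : Coh.IsCoh (∐ fun j : Fin s => Twist.twistProjSpace n R (d j)) :=
    Groth.Agent.Helper1.SerreFin.isCoh_sigma_fin _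
      (fun j => Groth.Agent.Helper1.SerreFin.isCoh_twist n R (d j))
  refine ⟨∐ fun j : Fin s => Twist.twistProjSpace n R (d j), π, hπ,
    Groth.Agent.Lead.PerfLib.isCoh_kernel hE hF π, fun q N => ?_, ?_⟩
  · exact isZero_extSh_of_isFinLocFree _ (isFinLocFree_sigma_twist n R d) q N
  · exact isCoh_sheafHom_sigma (fun j => Twist.twistProjSpace n R (d j))
      (fun j => Twist.twistProjSpace n R (-(d j)))
      (fun j => Groth.Agent.Helper1.ExtTw.nonempty_twist_neg_iso n R (d j))
      (fun j => Groth.Agent.Helper1.SerreFin.isCoh_twist n R (-(d j))) G hG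

end Groth.Agent.Helper1.ExtSh
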