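import Mathlib
import Groth.Agent.Helper1.ExtSh10
import Groth.Agent.Helper1.ExtSh8
import Groth.Agent.Helper1.ExtSh6
import Groth.Agent.Helper1.ClTr3
import Groth.Agent.Helper1.ExtTw2
import Groth.Agent.Helper4.PullTensor
import Groth.Agent.Lead.ParaDesc

/-!
# ExtSh11: `Extⁱ(F, G(d)) ≃ₗ H⁰(X, ℰxtⁱ(F, G(d)))` for `d ≫ 0` on a closed subscheme of `P^n_A`
-/

set_option autoImplicit false
set_option linter.style.haveILetI false
set_option linter.unusedSectionVars false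

universe u

open CategoryTheory CategoryTheory.Limits Abelian AlgebraicGeometry Opposite
open Groth.Agent.Helper9.TensorSh Groth.Agent.Helper9.TensorAdj Groth.Agent.Helper9.TensorFlat
  Groth.Agent.Helper1.ExtTw

namespace Groth.Agent.Helper1.ExtSh

attribute [local instance] hasSheafHom

section twist

variable {X : Scheme.{u}}

/-- `ℋom(F, G ⊗ L) ≅ ℋom(F, G) ⊗ L` for `L ⊗ L' ≅ O` -/
noncomputable def sheafHomTwistIso (L L' : X.Modules)
    (e : CohB1.tensorMod L L' ≅ Coh.structureModule X) (F G : X.Modules) :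
    (SH F).obj (CohB1.tensorMod G L) ≅ CohB1.tensorMod ((SH F).obj G) L :=
  (SH F).mapIso (swapIso (O := X.sheaf) L G) ≪≫
    (twistHomIso (O := X.sheaf) L L' e F).app G ≪≫ swapIso (O := X.sheaf) ((SH F).obj G) L

/-- `ℰxtⁱ(F, G ⊗ L) ≅ ℰxtⁱ(F, G) ⊗ L` for `L ⊗ L' ≅ O` -/
theorem nonempty_extShTwistIso [HasInjectiveResolutions (ModSite.Mod X.sheaf)] (L L' : X.Modules)
    (e : CohB1.tensorMod L L' ≅ Coh.structureModule X) (F G : X.Modules) (i : ℕ) :
    Nonempty ((ModSite.extSh (O := X.sheaf) F i).obj (CohB1.tensorMod G L) ≅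
      CohB1.tensorMod ((ModSite.extSh (O := X.sheaf) F i).obj G) L) := by
  obtain ⟨c⟩ := nonempty_twistExtIso (O := X.sheaf) L L' e F i
  exact ⟨(ModSite.extSh (O := X.sheaf) F i).mapIso (swapIso (O := X.sheaf) L G) ≪≫
    c.app G ≪≫ swapIso (O := X.sheaf) ((ModSite.extSh (O := X.sheaf) F i).obj G) L⟩

end twist

section closed

variable (n : ℕ) (A : Type u) [CommRing A] [IsNoetherianRing A] {X : Scheme.{u}}
  (ι : X ⟶ CohB1.ProjSpace n A) [IsClosedImmersion ι]

/-- `ι^* O(d)` -/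
noncomputable abbrev Ltw (d : ℤ) : X.Modules :=
  (Scheme.Modules.pullback ι).obj (Twist.twistProjSpace n A d)

theorem isInvertible_Ltw (d : ℤ) : PicF.IsInvertible (Ltw n A ι d) :=
  Groth.Agent.Lead.ParaDesc.isInvertible_pullback ι
    (Groth.Agent.Helper1.SerreVan.isInvertible_twist n A d)

theorem nonempty_Ltw_neg_iso (d : ℤ) :
    Nonempty (CohB1.tensorMod (Ltw n A ι d) (Ltw n A ι (-d)) ≅ Coh.structureModule X) := by
  obtain ⟨e⟩ := nonempty_twist_neg_iso n A d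
  exact ⟨(Groth.Agent.Helper4.PullTensor.pullTensorIso ι
    (Groth.Agent.Helper1.SerreVan.isInvertible_twist n A d)
    (Groth.Agent.Helper1.SerreVan.isInvertible_twist n A (-d))).symm ≪≫
    (Scheme.Modules.pullback ι).mapIso e ≪≫ Groth.Agent.Helper8.TildeBC.pullbackUnitIso ι⟩

include ι A n in
theorem isLocallyNoetherian_of_closed : IsLocallyNoetherian X := by
  haveI : IsNoetherianRing (MvPolynomial (Fin (n + 1)) A) := inferInstance
  haveI : IsNoetherian (CohB1.ProjSpace n A) :=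
    Groth.Agent.Helper3.ProjNoeth.main (CohB1.polyGrading n A)
  exact LocallyOfFiniteType.isLocallyNoetherian ι

theorem isCoh_Ltw (d : ℤ) : Coh.IsCoh (Ltw n A ι d) :=
  Groth.Agent.Helper1.SerreFin.isCoh_of_isInvertible _ (isInvertible_Ltw n A ι d)

/-- finite sums of the `ι^* O(d)` are finite locally free -/
theorem isFinLocFree_sigma_Ltw {s : ℕ} (q : Fin s → ℤ) :
    FlatMod.IsFinLocFree (∐ fun j : Fin s => Ltw n A ι (q j)) := by
  refine Groth.Agent.Helper4.FinLocFree2.isFinLocFree_of_iso (biproduct.isoCoproduct _) ?_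
  refine Groth.Agent.Lead.ResProp.isFinLocFree_biproduct _ _ (fun j => ?_)
  exact Groth.Agent.Lead.ParaFLib.isFinLocFree_of_isInvertible _ (isInvertible_Ltw n A ι (q j))

/-- presentations -/
theorem exists_pres (F : X.Modules) (hF : Coh.IsCoh F) :
    ∃ (s : ℕ) (q : Fin s → ℤ) (π : (∐ fun j : Fin s => Ltw n A ι (q j)) ⟶ F), Epi π := by
  have hpF := Groth.Agent.Helper1.ClTr.isCoh_push n A ι F hF
  obtain ⟨s, q, φ, hφ, -⟩ :=
    Groth.Agent.Helper1.ExtDual.exists_epi_neg_twists (CohB1.polyGrading n A) _ hpF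
  haveI : PreservesColimitsOfSize.{0, 0} (Scheme.Modules.pullback ι) :=
    (Scheme.Modules.pullbackPushforwardAdjunction ι).leftAdjoint_preservesColimits
  haveI : (Scheme.Modules.pullback ι).PreservesEpimorphisms := inferInstance
  have h1 : Epi ((Scheme.Modules.pullback ι).map φ) :=
    @Functor.map_epi _ _ _ _ (Scheme.Modules.pullback ι) _ _ _ φ hφ
  have h2 := Groth.Agent.Helper1.ClTr.epi_counit n A ι F hF.1
  let c := PreservesCoproduct.iso (Scheme.Modules.pullback ι)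
    (fun j : Fin s => Twist.twistProjSpace n A (q j))
  have h3 : Epi c.inv := inferInstance
  exact ⟨s, q, c.inv ≫ (Scheme.Modules.pullback ι).map φ ≫
    (Scheme.Modules.pullbackPushforwardAdjunction ι).counit.app F,
    epi_comp' h3 (epi_comp' h1 h2)⟩

/-- coherence of `ℋom(E, G)` for `E` a finite sum of the `ι^* O(q_j)` -/
theorem isCoh_sheafHom_sigma_Ltw {s : ℕ} (q : Fin s → ℤ) (G : X.Modules) (hG : Coh.IsCoh G) :
    Coh.IsCoh ((SH (∐ fun j : Fin s => Ltw n A ι (q j))).obj G) := by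
  haveI := isLocallyNoetherian_of_closed n A ι
  exact isCoh_sheafHom_sigma (fun j => Ltw n A ι (q j)) (fun j => Ltw n A ι (-(q j)))
    (fun j => nonempty_Ltw_neg_iso n A ι (q j)) (fun j => isCoh_Ltw n A ι _) G hG

theorem isCoh_sigma_Ltw {s : ℕ} (q : Fin s → ℤ) :
    Coh.IsCoh (∐ fun j : Fin s => Ltw n A ι (q j)) :=
  Groth.Agent.Helper1.SerreFin.isCoh_sigma_fin _ (fun j => isCoh_Ltw n A ι (q j))

include n A ι in
/-- coherence of `ℋom(F, G)` on a closed subscheme of `P^n_A` -/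
theorem isCoh_sheafHom_closed (F G : X.Modules) (hF : Coh.IsCoh F) (hG : Coh.IsCoh G) :
    Coh.IsCoh ((SH F).obj G) := by
  haveI := isLocallyNoetherian_of_closed n A ι
  obtain ⟨s, q, π, hπ⟩ := exists_pres n A ι F hF
  have hK : Coh.IsCoh (kernel π) :=
    Groth.Agent.Lead.PerfLib.isCoh_kernel (isCoh_sigma_Ltw n A ι q) hF π
  obtain ⟨s', q', p, hp⟩ := exists_pres n A ι (kernel π) hK
  haveI : EnoughInjectives X.Modules :=
    Groth.Agent.Helper9.ModCechExt.enoughInjectives_mod X.ringCatSheaf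
  haveI : HasInjectiveResolutions (ModSite.Mod X.sheaf) :=
    inferInstanceAs (HasInjectiveResolutions X.Modules)
  obtain ⟨c⟩ := @nonempty_kernel_iso_sheafHom_of_pres _ _ _ X.sheaf _ _ _ _ π hπ p hp G
  exact Groth.Agent.Lead.PerfLib.isCoh_of_iso c
    (Groth.Agent.Lead.PerfLib.isCoh_kernel (isCoh_sheafHom_sigma_Ltw n A ι q G hG)
      (isCoh_sheafHom_sigma_Ltw n A ι q' G hG) _)

include n A ι in
/-- coherence of the Ext sheaves on a closed subscheme of `P^n_A` -/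
theorem isCoh_extSh_closed [HasInjectiveResolutions (ModSite.Mod X.sheaf)]
    (G : X.Modules) (hG : Coh.IsCoh G) (i : ℕ) (F : X.Modules) (hF : Coh.IsCoh F) :
    Coh.IsCoh ((ModSite.extSh (O := X.sheaf) F i).obj G) := by
  haveI := isLocallyNoetherian_of_closed n A ι
  refine prop_extSh (O := X.sheaf) (fun M : X.Modules => Coh.IsCoh M)
    (fun i h => Groth.Agent.Lead.PerfLib.isCoh_of_iso i h)
    (fun f hM hN => Groth.Agent.Lead.PerfLib.isCoh_kernel hM hN f)
    (fun f hM hN => Groth.Agent.Lead.PerfLib.isCoh_cokernel hM hN f) G ?_ i F hF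
  intro F hF
  obtain ⟨s, q, π, hπ⟩ := exists_pres n A ι F hF
  refine ⟨∐ fun j : Fin s => Ltw n A ι (q j), π, hπ,
    Groth.Agent.Lead.PerfLib.isCoh_kernel (isCoh_sigma_Ltw n A ι q) hF π, fun m N => ?_, ?_⟩
  · exact isZero_extSh_of_isFinLocFree _ (isFinLocFree_sigma_Ltw n A ι q) m N
  · exact isCoh_sheafHom_sigma_Ltw n A ι q G hG

variable [X.Over (Spec (CommRingCat.of A))]

/-- Serre vanishing for `ℋom(F, G(d))` -/
theorem exists_vanishing_sheafHom (F G : X.Modules) (hF : Coh.IsCoh F) (hG : Coh.IsCoh G) :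
    ∃ d₀ : ℕ, ∀ d : ℕ, d₀ ≤ d → ∀ j : ℕ, 1 ≤ j →
      Subsingleton (Coh.HH X ((SH F).obj (CohB1.tensorMod G (Ltw n A ι (d : ℤ)))) j) := by
  obtain ⟨d₀, hd₀⟩ := Groth.Agent.Helper1.ClTr.vanishing n A ι ((SH F).obj G)
    (isCoh_sheafHom_closed n A ι F G hF hG)
  refine ⟨d₀.toNat, fun d hd j hj => ?_⟩
  obtain ⟨e⟩ := nonempty_Ltw_neg_iso n A ι (d : ℤ)
  have h := hd₀ (d : ℤ) (by omega) j hj
  exact subsingleton_HH_of_iso A (sheafHomTwistIso _ _ e F G).symm j h

/-- **`Extⁱ(F, G(d)) ≃ₗ[A] H⁰(X, ℰxtⁱ(F, G(d)))` for `d ≫ 0`** -/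
theorem exists_ext_linearEquiv_H0_extSh [HasExt.{u} X.Modules]
    [HasInjectiveResolutions (ModSite.Mod X.sheaf)] (F G : X.Modules) (hF : Coh.IsCoh F)
    (hG : Coh.IsCoh G) (i : ℕ) :
    ∃ d₀ : ℕ, ∀ d : ℕ, d₀ ≤ d →
      Nonempty (Ext.{u} F (CohB1.tensorMod G (Ltw n A ι (d : ℤ))) i ≃ₗ[A]
        Coh.HH X ((ModSite.extSh (O := X.sheaf) F i).obj
          (CohB1.tensorMod G (Ltw n A ι (d : ℤ)))) 0) := by
  haveI := isLocallyNoetherian_of_closed n A ι
  refine local_to_global A (fun d : ℕ => CohB1.tensorMod G (Ltw n A ι (d : ℤ)))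
    (fun M : X.Modules => Coh.IsCoh M) ?_ ?_ i F hF
  · intro M hM
    obtain ⟨s, q, π, hπ⟩ := exists_pres n A ι M hM
    exact ⟨_, π, hπ, Groth.Agent.Lead.PerfLib.isCoh_kernel (isCoh_sigma_Ltw n A ι q) hM π,
      isCoh_sigma_Ltw n A ι q, isFinLocFree_sigma_Ltw n A ι q⟩
  · intro M hM
    exact exists_vanishing_sheafHom n A ι M G hM hG

end closed

end Groth.Agent.Helper1.ExtSh
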