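import Mathlib

set_option autoImplicit false

/-!
# Directed colimits of injective modules over a Noetherian ring are injective
-/

namespace Groth.Agent.Helper1.ColimInj
open CategoryTheory Limits

universe u

variable {R : Type u} [CommRing R] [IsNoetherianRing R] {Λ : Type u} [Preorder Λ]
  [IsDirected Λ (· ≤ ·)] [Nonempty Λ]

theorem injective_of_isColimit (K : Λ ⥤ ModuleCat.{u} R)
    (hK : ∀ l, Module.Injective R (K.obj l)) (c : Cocone K) (hc : IsColimit c) :
    Module.Injective R c.pt := by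
  classical
  apply Module.Baer.injective
  intro 𝔞 g
  obtain ⟨s, hs⟩ : 𝔞.FG := IsNoetherian.noetherian 𝔞
  have hmem : ∀ a : s, (a : R) ∈ 𝔞 := fun a => hs ▸ Submodule.subset_span a.2
  let π : (s → R) →ₗ[R] R := Fintype.linearCombination R (fun a : s => (a : R))
  have hπ : LinearMap.range π = 𝔞 := by
    rw [Fintype.range_linearCombination, Subtype.range_coe_subtype]
    exact hs
  have hπmem : ∀ r : s → R, π r ∈ 𝔞 := fun r => hπ ▸ LinearMap.mem_range_self π r
  have hgπ : ∀ r : s → R, g ⟨π r, hπmem r⟩ = ∑ a : s, r a • g ⟨a, hmem a⟩ := by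
    intro r
    have : (⟨π r, hπmem r⟩ : 𝔞) = ∑ a : s, r a • (⟨a, hmem a⟩ : 𝔞) := by
      apply Subtype.ext
      rw [Submodule.coe_sum]
      rfl
    rw [this, map_sum]
    simp_rw [map_smul]
  obtain ⟨t, ht⟩ : (LinearMap.ker π).FG := IsNoetherian.noetherian _
  -- representatives of the images of the generators
  have hrep : ∀ a : s, ∃ (l : Λ) (y : K.obj l), (c.ι.app l).hom y = g ⟨a, hmem a⟩ :=
    fun a => Concrete.isColimit_exists_rep K hc _
  choose lf yf hyf using hrep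
  obtain ⟨l₀, hl₀⟩ := Finset.exists_le (Finset.univ.image lf)
  have hle₀ : ∀ a : s, lf a ≤ l₀ := fun a =>
    hl₀ _ (Finset.mem_image_of_mem _ (Finset.mem_univ a))
  let y₀ : s → K.obj l₀ := fun a => (K.map (homOfLE (hle₀ a))).hom (yf a)
  have hy₀ : ∀ a, (c.ι.app l₀).hom (y₀ a) = g ⟨a, hmem a⟩ := by
    intro a
    rw [← hyf a]
    have := c.w (homOfLE (hle₀ a))
    exact congrArg (fun φ => φ.hom (yf a)) this
  -- the relations hold at a later stage
  have hrel : ∀ r ∈ t, ∃ (m : Λ) (h : l₀ ≤ m),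
      (K.map (homOfLE h)).hom (∑ a : s, r a • y₀ a) = 0 := by
    intro r hr
    have hr' : π r = 0 := by
      have : r ∈ LinearMap.ker π := ht ▸ Submodule.subset_span hr
      exact this
    have h0 : (c.ι.app l₀).hom (∑ a : s, r a • y₀ a) = (c.ι.app l₀).hom 0 := by
      rw [map_sum, map_zero]
      simp_rw [map_smul, hy₀]
      rw [← hgπ r]
      have : (⟨π r, hπmem r⟩ : 𝔞) = 0 := Subtype.ext hr'
      rw [this, map_zero]
    obtain ⟨k, f, f', hk⟩ := (Concrete.isColimit_rep_eq_iff_exists K hc _ _).1 h0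
    refine ⟨k, leOfHom f, ?_⟩
    have h1 : (K.map f') (0 : K.obj l₀) = 0 := map_zero _
    rw [← h1]
    exact hk
  choose! mf hmf1 hmf2 using hrel
  obtain ⟨l₁', hl₁'⟩ := Finset.exists_le (t.image mf)
  obtain ⟨l₁, h01, h11⟩ := exists_ge_ge l₀ l₁'
  let y₁ : s → K.obj l₁ := fun a => (K.map (homOfLE h01)).hom (y₀ a)
  let ψ₀ : (s → R) →ₗ[R] K.obj l₁ := Fintype.linearCombination R y₁
  have hψ₀ : ∀ r : s → R, ψ₀ r = (K.map (homOfLE h01)).hom (∑ a : s, r a • y₀ a) := by
    intro r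
    rw [map_sum]
    simp_rw [map_smul]
    rfl
  have hker : LinearMap.ker π ≤ LinearMap.ker ψ₀ := by
    rw [← ht, Submodule.span_le]
    intro r hr
    show ψ₀ r = 0
    rw [hψ₀]
    have hm : mf r ≤ l₁ := (hl₁' _ (Finset.mem_image_of_mem _ hr)).trans h11
    have : homOfLE h01 = homOfLE (hmf1 r hr) ≫ homOfLE hm := rfl
    rw [this, K.map_comp, ModuleCat.hom_comp, LinearMap.comp_apply, hmf2 r hr, map_zero]
  let π' : ((s → R) ⧸ LinearMap.ker π) →ₗ[R] R := (LinearMap.ker π).liftQ π le_rfl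
  have hπ' : Function.Injective π' := by
    rw [← LinearMap.ker_eq_bot]
    exact Submodule.ker_liftQ_eq_bot _ _ _ le_rfl
  let ψ' : ((s → R) ⧸ LinearMap.ker π) →ₗ[R] K.obj l₁ := (LinearMap.ker π).liftQ ψ₀ hker
  haveI := hK l₁
  obtain ⟨h, hh⟩ := Module.Injective.extension_property R (K.obj l₁) _ _ π' hπ' ψ'
  refine ⟨(c.ι.app l₁).hom ∘ₗ h, ?_⟩
  intro x hx
  obtain ⟨r, rfl⟩ : x ∈ LinearMap.range π := hπ ▸ hx
  rw [hgπ r]
  have h2 : h (π r) = ψ₀ r := by
    have := LinearMap.congr_fun hh (Submodule.Quotient.mk r)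
    exact this
  rw [LinearMap.comp_apply, h2]
  show (c.ι.app l₁).hom (∑ a : s, r a • y₁ a) = _
  rw [map_sum]
  simp_rw [map_smul]
  refine Finset.sum_congr rfl (fun a _ => ?_)
  congr 1
  rw [← hy₀ a]
  have := c.w (homOfLE h01)
  exact congrArg (fun φ => φ.hom (y₀ a)) this

end Groth.Agent.Helper1.ColimInj
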