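import Mathlib

set_option autoImplicit false

/-!
# Injective objects in `J ⥤ ModuleCat R`
-/

namespace Groth.Agent.Helper1.FunCatInj
open CategoryTheory Limits

universe u

variable (R : Type u) [CommRing R] (J : Type u) [SmallCategory J]

instance : IsGrothendieckAbelian.{u} (Jᵒᵖᵒᵖ ⥤ ModuleCat.{u} R) where
  ab5OfSize := ⟨fun K _ _ => inferInstance⟩

instance isGrothendieckAbelian : IsGrothendieckAbelian.{u} (J ⥤ ModuleCat.{u} R) :=
  IsGrothendieckAbelian.of_equivalence (C := Jᵒᵖᵒᵖ ⥤ ModuleCat.{u} R)
    ((opOpEquivalence J).congrLeft)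

instance enoughInjectives : EnoughInjectives (J ⥤ ModuleCat.{u} R) := inferInstance

variable {R J}

instance (j : J) : (evaluationLeftAdjoint (ModuleCat.{u} R) j).PreservesMonomorphisms where
  preserves {X Y} f hf := by
    rw [NatTrans.mono_iff_mono_app]
    intro t
    show Mono (Limits.Sigma.desc fun h : (j ⟶ t) => f ≫ Sigma.ι (fun _ => Y) h)
    have h : (Limits.Sigma.desc fun h : (j ⟶ t) => f ≫ Sigma.ι (fun _ => Y) h) =
        colim.map (Discrete.natTrans (F := Discrete.functor fun _ : (j ⟶ t) => X)
        (G := Discrete.functor fun _ : (j ⟶ t) => Y) (fun _ => f)) := by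
      apply Sigma.hom_ext
      intro a
      rw [Sigma.ι_desc]
      exact (ι_colimMap (Discrete.natTrans (F := Discrete.functor fun _ : (j ⟶ t) => X)
        (G := Discrete.functor fun _ : (j ⟶ t) => Y) (fun _ => f)) ⟨a⟩).symm
    rw [h]
    have : Mono (Discrete.natTrans (F := Discrete.functor fun _ : (j ⟶ t) => X)
        (G := Discrete.functor fun _ : (j ⟶ t) => Y) (fun _ => f)) := by
      rw [NatTrans.mono_iff_mono_app]
      intro a
      exact hf
    have hp : (colim : (Discrete (j ⟶ t) ⥤ ModuleCat.{u} R) ⥤ ModuleCat.{u} R).PreservesMonomorphisms :=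
      inferInstance
    exact hp.preserves _

/-- the values of an injective diagram of modules are injective -/
instance injective_obj (E : J ⥤ ModuleCat.{u} R) [Injective E] (j : J) : Injective (E.obj j) :=
  Injective.injective_of_adjoint (evaluationAdjunctionRight (ModuleCat.{u} R) j) E

end Groth.Agent.Helper1.FunCatInj
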