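import Mathlib
import Groth.Agent.Helper1.DeltaPointwise
import Groth.Agent.Helper1.FunCatInj
import Groth.Agent.Helper1.ColimInj
import Groth.Agent.Helper1.LocCohZero
import Groth.Agent.Helper5.GammaColim

set_option autoImplicit false

/-!
# Local cohomology commutes with directed colimits
-/

namespace Groth.Agent.Helper1.LcColim
open CategoryTheory Limits Opposite
open Groth.Agent.Helper1.DeltaFun Groth.Agent.Helper1.LocCohDelta

universe u

variable {R : Type u} [CommRing R] [IsNoetherianRing R] (I : Ideal R)
  (Λ : Type u) [PartialOrder Λ] [IsDirected Λ (· ≤ ·)] [Nonempty Λ]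

lemma injective_colimit (E : Λ ⥤ ModuleCat.{u} R) [Injective E] : Injective (colimit E) := by
  have h : Module.Injective R ((colimit E : ModuleCat.{u} R) : Type u) :=
    ColimInj.injective_of_isColimit E
      (fun l => Module.injective_module_of_injective_object R (E.obj l)
        (inj := FunCatInj.injective_obj E l))
      (colimit.cocone E) (colimit.isColimit E)
  exact Module.injective_object_of_injective_module R ((colimit E : ModuleCat.{u} R) : Type u)

theorem isIso_post (n : ℕ) (F : Λ ⥤ ModuleCat.{u} R) :
    IsIso (colimit.post F (localCohomology I n)) := by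
  refine DeltaFunctor.isIso_post Λ (lcDelta I) ?_ ?_ ?_ n F
  · intro F
    have : PreservesColimitsOfShape Λ (DRing.gammaI I) :=
      Groth.Agent.Helper5.GammaColim.gammaI_preservesDirected I Λ
    have : PreservesColimitsOfShape Λ (localCohomology I 0) :=
      preservesColimitsOfShape_of_natIso (lcZeroIso I).symm
    exact (inferInstance : IsIso (colimit.post F (localCohomology I 0)))
  · intro E _ n
    have := injective_colimit Λ E
    exact lcDelta_effaceable I (colimit E) n
  · intro E _ n j
    exact lcDelta_effaceable I (E.obj j) n

theorem preservesColimitsOfShape (n : ℕ) : PreservesColimitsOfShape Λ (localCohomology I n) where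
  preservesColimit {F} := by
    have := isIso_post I Λ n F
    exact preservesColimit_of_isIso_post _ _

end Groth.Agent.Helper1.LcColim
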