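import Mathlib
import Groth.Agent.Helper1.LcColim
import Groth.Agent.Helper1.LocCohCd
import Groth.Agent.Helper1.LocCohCmp
import Groth.Agent.Helper1.RDAdd

set_option autoImplicit false

/-!
# Cohomological dimension can be tested on the ring
-/

namespace Groth.Agent.Helper1.LocCohRing
open CategoryTheory Limits Opposite
open Groth.Agent.Helper1.DeltaFun Groth.Agent.Helper1.LocCohDelta

universe u

variable {R : Type u} [CommRing R]

/-- an additive functor killing `R` kills finite free modules -/
lemma isZero_free (F : ModuleCat.{u} R ⥤ ModuleCat.{u} R) [F.Additive]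
    (h : IsZero (F.obj (ModuleCat.of R R))) (n : ℕ) :
    IsZero (F.obj (ModuleCat.of R (Fin n → R))) := by
  let f : Fin n → ModuleCat.{u} R := fun _ => ModuleCat.of R R
  have e1 : ⨁ f ≅ ModuleCat.of R (Fin n → R) := ModuleCat.biproductIsoPi f
  have e2 : F.obj (⨁ f) ≅ ⨁ fun j => F.obj (f j) := F.mapBiproduct f
  have hz : IsZero (⨁ fun j => F.obj (f j)) := by
    rw [IsZero.iff_id_eq_zero]
    apply biproduct.hom_ext
    intro j
    exact h.eq_of_tgt _ _
  exact IsZero.of_iso hz (F.mapIso e1.symm ≪≫ e2)

/-- vanishing passes to quotients if the next degree vanishes on the kernel -/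
lemma isZero_of_epi {A : Type*} [Category A] [Abelian A] {B : Type*} [Category B] [Abelian B]
    (T : DeltaFunctor A B) {X Y : A} (f : X ⟶ Y) [Epi f] (i : ℕ)
    (hX : IsZero ((T.T i).obj X)) (hK : IsZero ((T.T (i + 1)).obj (kernel f))) :
    IsZero ((T.T i).obj Y) := by
  let S := ShortComplex.mk (kernel.ι f) f (kernel.condition f)
  have hS : S.ShortExact :=
    { exact := ShortComplex.exact_kernel f
      mono_f := inferInstanceAs (Mono (kernel.ι f))
      epi_g := inferInstanceAs (Epi f) }
  exact (T.exact₃ S hS i).isZero_of_both_isZero hX hK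

/-- a functor commuting with directed colimits and killing the finitely generated submodules of
`M` kills `M` -/
lemma isZero_of_fg (G : ModuleCat.{u} R ⥤ ModuleCat.{u} R)
    (hG : ∀ (Λ : Type u) [PartialOrder Λ] [IsDirected Λ (· ≤ ·)] [Nonempty Λ],
      PreservesColimitsOfShape Λ G)
    (M : Type u) [AddCommGroup M] [Module R M]
    (h : ∀ N : Submodule R M, N.FG → IsZero (G.obj (ModuleCat.of R N))) :
    IsZero (G.obj (ModuleCat.of R M)) := by
  classical
  let Λ := {N : Submodule R M // N.FG}
  haveI : Nonempty Λ := ⟨⟨⊥, Submodule.fg_bot⟩⟩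
  haveI := hG Λ
  let c := ModuleCat.directLimitCocone (R := R) (fun N : Λ => N.1) (Module.fgSystem R M)
  have hc : IsColimit c := ModuleCat.directLimitIsColimit _ _
  have hc' : IsColimit (G.mapCocone c) := isColimitOfPreserves G hc
  have hz : IsZero (G.mapCocone c).pt := by
    rw [IsZero.iff_id_eq_zero]
    apply hc'.hom_ext
    intro N
    exact (h N.1 N.2).eq_of_src _ _
  exact IsZero.of_iso hz (G.mapIso (Module.fgSystem.equiv R M).toModuleIso.symm)

variable [IsNoetherianRing R] (I : Ideal R)

instance additive_lc (i : ℕ) : (localCohomology I i).Additive :=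
  Functor.additive_of_iso (lcIsoδ I i).symm

/-- one descending step -/
lemma step (i : ℕ) (hR : IsZero ((localCohomology I i).obj (ModuleCat.of R R)))
    (hnext : ∀ M : ModuleCat.{u} R, IsZero ((localCohomology I (i + 1)).obj M))
    (M : Type u) [AddCommGroup M] [Module R M] :
    IsZero ((localCohomology I i).obj (ModuleCat.of R M)) := by
  apply isZero_of_fg (localCohomology I i)
    (fun Λ _ _ _ => LcColim.preservesColimitsOfShape I Λ i)
  intro N hN
  haveI : Module.Finite R N := Module.Finite.iff_fg.2 hN
  obtain ⟨n, f, hf⟩ := Module.Finite.exists_fin' R N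
  haveI : Epi (ModuleCat.ofHom f) := (ModuleCat.epi_iff_surjective _).2 hf
  exact isZero_of_epi (lcDelta I) (ModuleCat.ofHom f) i
    (isZero_free (localCohomology I i) hR n) (hnext _)

theorem cdLE_of_ring (d : ℕ) (h : ∀ i : ℕ, d < i → Subsingleton (LocCoh.H I i R)) :
    LocCoh.CdLE R I d := by
  obtain ⟨s, hs⟩ : I.FG := IsNoetherian.noetherian I
  have key : ∀ (k i : ℕ), d < i → s.card < i + k →
      ∀ M : ModuleCat.{u} R, IsZero ((localCohomology I i).obj M) := by
    intro k
    induction k with
    | zero =>
      intro i _ hi M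
      have := LocCohCd.cdLE_span_finset (R := R) s M i (by omega)
      rw [hs] at this
      exact ModuleCat.isZero_iff_subsingleton.2 this
    | succ k ih =>
      intro i hdi hi M
      exact step I i (ModuleCat.isZero_iff_subsingleton.2 (h i hdi))
        (ih (i + 1) (by omega) (by omega)) M
  intro M _ _ i hi
  exact ModuleCat.isZero_iff_subsingleton.1 (key (s.card + 1) i hi (by omega) (ModuleCat.of R M))

end Groth.Agent.Helper1.LocCohRing
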