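import Mathlib
import Groth.Agent.Helper1.LocCohRing
import Groth.Agent.Helper1.LocCohTors
import Groth.Agent.Helper1.LocCohLinear
import Groth.Agent.Helper1.Horseshoe

set_option autoImplicit false

/-!
# Grothendieck's vanishing theorem for local cohomology
-/

namespace Groth.Agent.Helper1.LocCohVanish
open CategoryTheory Limits Opposite
open Groth.Agent.Helper1.DeltaFun Groth.Agent.Helper1.LocCohDelta

universe u

variable {R : Type u} [CommRing R] [IsNoetherianRing R] (I : Ideal R)

/-- exactness in the middle of the long exact sequence of local cohomology -/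
lemma lc_exact₂ (S : ShortComplex (ModuleCat.{u} R)) (hS : S.ShortExact) (n : ℕ) :
    (S.map (localCohomology I n)).Exact := by
  obtain ⟨w, h⟩ := Horseshoe.exact_rightDerived_map (DRing.gammaI I) S hS n
  exact (ShortComplex.exact_iff_of_iso (S.mapNatIso (lcIsoδ I n))).2 h

lemma isZero_lc_of_subsingleton (M : Type u) [AddCommGroup M] [Module R M] [Subsingleton M]
    (i : ℕ) : IsZero ((localCohomology I i).obj (ModuleCat.of R M)) :=
  Functor.map_isZero _ (ModuleCat.isZero_of_subsingleton _)

/-- an injective endomorphism `a • -` with `a ∈ I` of an `I`-power torsion module forces it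
to vanish -/
lemma subsingleton_of_smul_injective {N : Type u} [AddCommGroup N] [Module R N]
    (hN : LocCoh.IsPowerTorsion I N) (a : R) (ha : a ∈ I)
    (hinj : Function.Injective (fun x : N => a • x)) : Subsingleton N := by
  refine ⟨fun x y => ?_⟩
  suffices h : ∀ z : N, z = 0 by rw [h x, h y]
  intro z
  obtain ⟨k, hk⟩ := hN z
  have h1 : a ^ k • z = 0 := hk _ (Ideal.pow_mem_pow ha k)
  have h2 : ∀ k : ℕ, a ^ k • z = 0 → z = 0 := by
    intro k
    induction k with
    | zero => intro h; simpa using h
    | succ k ih =>
      intro h
      apply ih
      apply hinj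
      show a • a ^ k • z = a • 0
      rw [smul_zero, smul_smul, ← pow_succ']
      exact h
  exact h2 k h1

theorem isZero_lc_fg (n : ℕ) : ∀ (M : Type u) [AddCommGroup M] [Module R M] [Module.Finite R M],
    Module.supportDim R M < (n : WithBot ℕ∞) → ∀ i : ℕ, n ≤ i →
      IsZero ((localCohomology I i).obj (ModuleCat.of R M)) := by
  induction n with
  | zero =>
    intro M _ _ _ hM i _
    have : Module.supportDim R M = ⊥ := by
      by_contra hne
      have h0 : (0 : WithBot ℕ∞) ≤ Module.supportDim R M := by
        obtain ⟨x, hx⟩ := WithBot.ne_bot_iff_exists.1 hne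
        rw [← hx]
        exact WithBot.coe_le_coe.2 (zero_le)
      exact absurd hM (not_lt.2 (by simpa using h0))
    have := (Module.supportDim_eq_bot_iff_subsingleton R M).1 this
    exact isZero_lc_of_subsingleton I M i
  | succ n ih =>
    intro M _ _ hfin
    induction hfin using IsNoetherianRing.induction_on_isQuotientEquivQuotientPrime R with
    | subsingleton N =>
      intro _ i _
      exact isZero_lc_of_subsingleton I N i
    | quotient N p e =>
      intro hdim i hi
      obtain ⟨j, rfl⟩ : ∃ j, i = j + 1 := ⟨i - 1, by omega⟩
      by_cases hIp : I ≤ p.asIdeal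
      · apply isZero_lc_of_isTors I j
        intro x
        refine ⟨1, fun c hc => ?_⟩
        rw [pow_one] at hc
        apply e.injective
        rw [map_smul, map_zero]
        obtain ⟨r, hr⟩ := Submodule.Quotient.mk_surjective _ (e x)
        rw [← hr, ← Submodule.Quotient.mk_smul, Submodule.Quotient.mk_eq_zero, smul_eq_mul]
        exact Ideal.mul_mem_right r _ (hIp hc)
      · obtain ⟨a, haI, hap⟩ := Set.not_subset.1 hIp
        haveI : p.asIdeal.IsPrime := p.2
        have reg : IsSMulRegular N a := by
          intro x y hxy
          apply e.injective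
          have h1 : a • e x = a • e y := by
            rw [← map_smul, ← map_smul]
            exact congrArg e hxy
          rw [Algebra.smul_def, Algebra.smul_def] at h1
          refine mul_left_cancel₀ ?_ h1
          rw [Ideal.Quotient.algebraMap_eq, Ne, Ideal.Quotient.eq_zero_iff_mem]
          exact hap
        have hann : Module.annihilator R N = p.asIdeal := by
          rw [e.annihilator_eq, Ideal.annihilator_quotient]
        have hn : ∀ q ∈ (Module.annihilator R N).minimalPrimes, a ∉ q := by
          intro q hq
          rw [hann, Ideal.minimalPrimes_eq_subsingleton_self, Set.mem_singleton_iff] at hq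
          rw [hq]
          exact hap
        have hd := Module.supportDim_quotSMulTop_succ_le_of_notMem_minimalPrimes (M := N) hn
        have hQ : Module.supportDim R (QuotSMulTop a N) < (n : WithBot ℕ∞) := by
          have h2 := hd.trans_lt hdim
          rw [Nat.cast_add, Nat.cast_one] at h2
          exact lt_of_add_lt_add_right h2
        have hz := ih (QuotSMulTop a N) hQ j (by omega)
        let S := ModuleCat.smulShortComplex (ModuleCat.of R N) a
        have hS : S.ShortExact := IsSMulRegular.smulShortComplex_shortExact (M := ModuleCat.of R N) reg
        have hex := (lcDelta I).exact₁ S hS j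
        have hmono : Mono ((localCohomology I (j + 1)).map S.f) :=
          hex.mono_g (hz.eq_of_src _ _)
        have hf : (localCohomology I (j + 1)).map S.f =
            a • 𝟙 ((localCohomology I (j + 1)).obj (ModuleCat.of R N)) := by
          show (localCohomology I (j + 1)).map (a • 𝟙 (ModuleCat.of R N)) = _
          rw [lc_map_smul, CategoryTheory.Functor.map_id]
        rw [hf] at hmono
        have hinj := (ModuleCat.mono_iff_injective _).1 hmono
        have := subsingleton_of_smul_injective I
          (LocCohTors.isPowerTorsion I (j + 1) (ModuleCat.of R N)) a haI hinj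
        exact ModuleCat.isZero_of_subsingleton _
    | exact N₁ N₂ N₃ f g hf hg hfg h₁ h₃ =>
      intro hdim i hi
      have d₁ := (Module.supportDim_le_of_injective f hf).trans_lt hdim
      have d₃ := (Module.supportDim_le_of_surjective g hg).trans_lt hdim
      let S : ShortComplex (ModuleCat.{u} R) :=
        ModuleCat.shortComplexOfCompEqZero f g hfg.linearMap_comp_eq_zero
      have hS : S.ShortExact :=
        { exact := ModuleCat.shortComplex_exact _ hfg
          mono_f := (ModuleCat.mono_iff_injective _).2 hf
          epi_g := (ModuleCat.epi_iff_surjective _).2 hg }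
      exact (lc_exact₂ I S hS i).isZero_of_both_isZero (h₁ d₁ i hi) (h₃ d₃ i hi)

/-- Grothendieck's vanishing theorem -/
theorem isZero_lc_of_supportDim_lt (M : Type u) [AddCommGroup M] [Module R M] (i : ℕ)
    (hi : Module.supportDim R M < (i : WithBot ℕ∞)) :
    IsZero ((localCohomology I i).obj (ModuleCat.of R M)) := by
  apply LocCohRing.isZero_of_fg (localCohomology I i)
    (fun Λ _ _ _ => LcColim.preservesColimitsOfShape I Λ i)
  intro N hN
  haveI : Module.Finite R N := Module.Finite.iff_fg.2 hN
  exact isZero_lc_fg I i N
    ((Module.supportDim_le_of_injective N.subtype N.injective_subtype).trans_lt hi) i le_rfl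

end Groth.Agent.Helper1.LocCohVanish
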