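import Mathlib
import Groth.Agent.Helper1.LocCohVanish
import Groth.Agent.Lead.InjHull3

set_option autoImplicit false

/-!
# Vanishing of local cohomology below `n` versus vanishing of `Ext` below `n`
-/

namespace Groth.Agent.Helper1.LocCohExt
open CategoryTheory Limits Opposite Abelian
open Groth.Agent.Helper1.DeltaFun Groth.Agent.Helper1.LocCohDelta

universe u

variable {A : Type u} [CommRing A] (J : Ideal A)

section basic

/-- a power-torsion module has no nonzero maps to a module without torsion -/
lemma hom_eq_zero {F G : Type u} [AddCommGroup F] [Module A F] [AddCommGroup G] [Module A G]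
    (hF : LocCoh.IsPowerTorsion J F) (hG : DRing.torsionSub J G = ⊥) (φ : F →ₗ[A] G) : φ = 0 := by
  ext x
  obtain ⟨k, hk⟩ := hF x
  have : φ x ∈ DRing.torsionSub J G := ⟨k, fun a ha => by rw [← map_smul, hk a ha, map_zero]⟩
  rw [hG] at this
  exact this

lemma ext_zero_subsingleton {F G : Type u} [AddCommGroup F] [Module A F] [AddCommGroup G]
    [Module A G] (hF : LocCoh.IsPowerTorsion J F) (hG : DRing.torsionSub J G = ⊥) :
    Subsingleton (Ext (ModuleCat.of A F) (ModuleCat.of A G) 0) := by
  have : Subsingleton (F →ₗ[A] G) :=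
    ⟨fun φ ψ => by rw [hom_eq_zero J hF hG φ, hom_eq_zero J hF hG ψ]⟩
  exact (Ext.addEquiv₀.trans ModuleCat.homAddEquiv).subsingleton

end basic

variable [IsNoetherianRing A]

/-- a module without `J`-torsion embeds in an injective module without `J`-torsion -/
lemma exists_embedding (G : Type u) [AddCommGroup G] [Module A G]
    (hG : DRing.torsionSub J G = ⊥) :
    ∃ (E : Type u) (_ : AddCommGroup E) (_ : Module A E) (f : G →ₗ[A] E),
      Function.Injective f ∧ Module.Injective A E ∧ DRing.torsionSub J E = ⊥ := by
  obtain ⟨E, _, _, f, hf⟩ := Groth.Agent.Lead.InjHullLib.exists_hull (R := A) G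
  refine ⟨E, inferInstance, inferInstance, f, hf.injective, hf.isInjective, ?_⟩
  by_contra hne
  have h1 := hf.essential _ hne
  apply h1
  rw [eq_bot_iff]
  rintro y ⟨⟨k, hk⟩, ⟨g, rfl⟩⟩
  have hg : g ∈ DRing.torsionSub J G := by
    refine ⟨k, fun a ha => ?_⟩
    apply hf.injective
    rw [map_smul, hk a ha, map_zero]
  rw [hG] at hg
  have : g = 0 := hg
  rw [this, map_zero]
  exact Submodule.zero_mem _

omit [IsNoetherianRing A] in
lemma lc_zero_isZero_iff (M : Type u) [AddCommGroup M] [Module A M] :
    IsZero ((localCohomology J 0).obj (ModuleCat.of A M)) ↔ DRing.torsionSub J M = ⊥ := by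
  have e : (localCohomology J 0).obj (ModuleCat.of A M) ≅
      ModuleCat.of A (DRing.torsionSub J M) := (lcZeroIso J).app (ModuleCat.of A M)
  constructor
  · intro h
    have h' := ModuleCat.isZero_iff_subsingleton.1 (IsZero.of_iso h e.symm)
    exact Submodule.eq_bot_of_subsingleton
  · intro h
    have : Subsingleton (DRing.torsionSub J M) := by
      rw [h]
      infer_instance
    exact IsZero.of_iso (ModuleCat.isZero_of_subsingleton _) e

/-- the short exact sequence `0 → G → E → E/G → 0` of an embedding -/
noncomputable def embSC {G E : Type u} [AddCommGroup G] [Module A G] [AddCommGroup E] [Module A E]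
    (f : G →ₗ[A] E) : ShortComplex (ModuleCat.{u} A) :=
  ModuleCat.shortComplexOfCompEqZero f (LinearMap.range f).mkQ
    (LinearMap.exact_map_mkQ_range f).linearMap_comp_eq_zero

omit [IsNoetherianRing A] in
lemma embSC_shortExact {G E : Type u} [AddCommGroup G] [Module A G] [AddCommGroup E] [Module A E]
    (f : G →ₗ[A] E) (hf : Function.Injective f) : (embSC f).ShortExact where
  exact := ModuleCat.shortComplex_exact _ (LinearMap.exact_map_mkQ_range f)
  mono_f := (ModuleCat.mono_iff_injective _).2 hf
  epi_g := (ModuleCat.epi_iff_surjective _).2 (Submodule.mkQ_surjective _)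

/-- (A): vanishing of local cohomology below `n` implies vanishing of `Ext(F, -)` below `n` for
power-torsion `F` -/
theorem ext_subsingleton_of_lc (F : Type u) [AddCommGroup F] [Module A F]
    (hF : LocCoh.IsPowerTorsion J F) (n : ℕ) :
    ∀ (G : Type u) [AddCommGroup G] [Module A G],
      (∀ i < n, IsZero ((localCohomology J i).obj (ModuleCat.of A G))) →
      ∀ i < n, Subsingleton (Ext (ModuleCat.of A F) (ModuleCat.of A G) i) := by
  induction n with
  | zero => intro G _ _ _ i hi; omega
  | succ n ih =>
    intro G _ _ hG i hi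
    have hG0 : DRing.torsionSub J G = ⊥ := (lc_zero_isZero_iff J G).1 (hG 0 (by omega))
    cases i with
    | zero => exact ext_zero_subsingleton J hF hG0
    | succ i =>
      obtain ⟨E, _, _, f, hf, hE, hE0⟩ := exists_embedding J G hG0
      have hS := embSC_shortExact f hf
      have : Injective (ModuleCat.of A E) := Module.injective_object_of_injective_module A E
      have hQ : ∀ j < n, IsZero ((localCohomology J j).obj
          (ModuleCat.of A (E ⧸ LinearMap.range f))) := by
        intro j hj
        have hex := (lcDelta J).exact₃ (embSC f) hS j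
        refine hex.isZero_of_both_isZero ?_ (hG (j + 1) (by omega))
        cases j with
        | zero => exact (lc_zero_isZero_iff J E).2 hE0
        | succ j => exact lcDelta_effaceable J (ModuleCat.of A E) j
      have h1 := ih (E ⧸ LinearMap.range f) hQ i (by omega)
      refine ⟨fun x y => ?_⟩
      suffices h : ∀ z : Ext (ModuleCat.of A F) (ModuleCat.of A G) (i + 1), z = 0 by
        rw [h x, h y]
      intro z
      obtain ⟨x₃, hx₃⟩ := Ext.covariant_sequence_exact₁ (ModuleCat.of A F) hS z
        (Ext.eq_zero_of_injective (I := ModuleCat.of A E) _) rfl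
      have hx₃0 : x₃ = 0 := @Subsingleton.elim _ h1 _ _
      rw [← hx₃, hx₃0]
      exact Ext.zero_comp (ModuleCat.of A F) i hS.extClass (i + 1) rfl

/-- a finite module supported in `V(J)` is `J`-power torsion -/
lemma isPowerTorsion_of_support (F : Type u) [AddCommGroup F] [Module A F] [Module.Finite A F]
    (hF : Module.support A F ⊆ PrimeSpectrum.zeroLocus (J : Set A)) :
    ∃ k : ℕ, J ^ k ≤ Module.annihilator A F := by
  rw [Module.support_eq_zeroLocus, PrimeSpectrum.zeroLocus_subset_zeroLocus_iff] at hF
  exact Ideal.exists_pow_le_of_le_radical_of_fg hF (IsNoetherian.noetherian J)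

lemma isPowerTorsion_of_support' (F : Type u) [AddCommGroup F] [Module A F] [Module.Finite A F]
    (hF : Module.support A F ⊆ PrimeSpectrum.zeroLocus (J : Set A)) :
    LocCoh.IsPowerTorsion J F := by
  obtain ⟨k, hk⟩ := isPowerTorsion_of_support J F hF
  intro x
  exact ⟨k, fun a ha => Module.mem_annihilator.1 (hk ha) x⟩

/-- (6): if `Hom(F, G) = 0` for a finite `F` with support `V(J)` then `Γ_J(G) = 0` -/
lemma torsionSub_eq_bot_of_hom (F : Type u) [AddCommGroup F] [Module A F] [Module.Finite A F]
    (hF : Module.support A F = PrimeSpectrum.zeroLocus (J : Set A))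
    (G : Type u) [AddCommGroup G] [Module A G] (h : Subsingleton (F →ₗ[A] G)) :
    DRing.torsionSub J G = ⊥ := by
  rw [eq_bot_iff]
  rintro x ⟨k, hk⟩
  rw [Submodule.mem_bot]
  by_contra hx
  let N : Submodule A G := Submodule.span A {x}
  have hxN : x ∈ N := Submodule.subset_span rfl
  haveI : Module.Finite A N := Module.Finite.span_singleton A x
  have hsub : Subsingleton (F →ₗ[A] N) := by
    refine ⟨fun φ ψ => ?_⟩
    have := Subsingleton.elim (N.subtype ∘ₗ φ) (N.subtype ∘ₗ ψ)
    ext y
    exact congrArg (fun χ => χ y) this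
  obtain ⟨r, hr, hreg⟩ := IsSMulRegular.subsingleton_linearMap_iff.1 hsub
  have hrad : r ∈ J.radical := by
    have h1 : Module.annihilator A F ≤ J.radical := by
      have h2 : PrimeSpectrum.zeroLocus (J : Set A) ⊆
          PrimeSpectrum.zeroLocus (Module.annihilator A F : Set A) := by
        rw [← hF, Module.support_eq_zeroLocus]
      rw [PrimeSpectrum.zeroLocus_subset_zeroLocus_iff] at h2
      exact h2
    exact h1 hr
  obtain ⟨m, hm⟩ := hrad
  have h3 : (r ^ m) ^ k • x = 0 := hk _ (Ideal.pow_mem_pow hm k)
  have h4 : (r ^ m) ^ k • (⟨x, hxN⟩ : N) = (r ^ m) ^ k • (0 : N) := by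
    rw [smul_zero]
    exact Subtype.ext h3
  have h5 := ((hreg.pow m).pow k) h4
  exact hx (congrArg Subtype.val h5)

/-- (B): vanishing of `Ext(F, -)` below `n` for one finite `F` with support `V(J)` implies
vanishing of local cohomology below `n` -/
theorem lc_isZero_of_ext (F : Type u) [AddCommGroup F] [Module A F] [Module.Finite A F]
    (hF : Module.support A F = PrimeSpectrum.zeroLocus (J : Set A)) (n : ℕ) :
    ∀ (G : Type u) [AddCommGroup G] [Module A G],
      (∀ i < n, Subsingleton (Ext (ModuleCat.of A F) (ModuleCat.of A G) i)) →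
      ∀ i < n, IsZero ((localCohomology J i).obj (ModuleCat.of A G)) := by
  have hFt : LocCoh.IsPowerTorsion J F := isPowerTorsion_of_support' J F hF.le
  induction n with
  | zero => intro G _ _ _ i hi; omega
  | succ n ih =>
    intro G _ _ hG i hi
    have hG0 : DRing.torsionSub J G = ⊥ := by
      apply torsionSub_eq_bot_of_hom J F hF G
      have := hG 0 (by omega)
      have e : Ext (ModuleCat.of A F) (ModuleCat.of A G) 0 ≃+ (F →ₗ[A] G) :=
        Ext.addEquiv₀.trans ModuleCat.homAddEquiv
      exact e.symm.subsingleton
    cases i with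
    | zero => exact (lc_zero_isZero_iff J G).2 hG0
    | succ i =>
      obtain ⟨E, _, _, f, hf, hE, hE0⟩ := exists_embedding J G hG0
      have hS := embSC_shortExact f hf
      have : Injective (ModuleCat.of A E) := Module.injective_object_of_injective_module A E
      have hQ : ∀ j < n, Subsingleton (Ext (ModuleCat.of A F)
          (ModuleCat.of A (E ⧸ LinearMap.range f)) j) := by
        intro j hj
        have hE' : Subsingleton (Ext (ModuleCat.of A F) (ModuleCat.of A E) j) := by
          cases j with
          | zero => exact ext_zero_subsingleton J hFt hE0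
          | succ j => exact ⟨fun x y => by
              rw [Ext.eq_zero_of_injective x, Ext.eq_zero_of_injective y]⟩
        have hG' := hG (j + 1) (by omega)
        refine ⟨fun x y => ?_⟩
        suffices h : ∀ z : Ext (ModuleCat.of A F) (ModuleCat.of A (E ⧸ LinearMap.range f)) j,
            z = 0 by rw [h x, h y]
        intro z
        obtain ⟨x₂, hx₂⟩ := Ext.covariant_sequence_exact₃ (ModuleCat.of A F) hS z rfl
          (@Subsingleton.elim _ hG' _ _)
        have hx₂0 : x₂ = 0 := @Subsingleton.elim _ hE' _ _
        rw [← hx₂, hx₂0]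
        exact Ext.zero_comp (ModuleCat.of A F) j (Ext.mk₀ (embSC f).g) j (add_zero j)
      have h1 := ih (E ⧸ LinearMap.range f) hQ i (by omega)
      have hex := (lcDelta J).exact₁ (embSC f) hS i
      exact hex.isZero_of_both_isZero h1 (lcDelta_effaceable J (ModuleCat.of A E) i)

omit [IsNoetherianRing A] in
lemma support_quotient : Module.support A (A ⧸ J) = PrimeSpectrum.zeroLocus (J : Set A) := by
  rw [Module.support_eq_zeroLocus, Ideal.annihilator_quotient]

theorem lc_iff_ext_all (G : Type u) [AddCommGroup G] [Module A G] (n : ℕ) :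
    (∀ i : ℕ, i < n → Subsingleton (LocCoh.H J i G)) ↔
      ∀ (F : Type u) [AddCommGroup F] [Module A F], Module.Finite A F →
        Module.support A F ⊆ PrimeSpectrum.zeroLocus (J : Set A) →
        ∀ i : ℕ, i < n → Subsingleton (Ext (ModuleCat.of A F) (ModuleCat.of A G) i) := by
  constructor
  · intro h F _ _ hfin hsupp i hi
    exact ext_subsingleton_of_lc J F (isPowerTorsion_of_support' J F hsupp) n G
      (fun j hj => ModuleCat.isZero_iff_subsingleton.2 (h j hj)) i hi
  · intro h i hi
    exact ModuleCat.isZero_iff_subsingleton.1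
      (lc_isZero_of_ext J (A ⧸ J) (support_quotient J) n G
        (h (A ⧸ J) inferInstance (support_quotient J).le) i hi)

theorem lc_iff_ext_one (G : Type u) [AddCommGroup G] [Module A G] (n : ℕ) :
    (∀ i : ℕ, i < n → Subsingleton (LocCoh.H J i G)) ↔
      ∃ (F : Type u) (_ : AddCommGroup F) (_ : Module A F), Module.Finite A F ∧
        Module.support A F = PrimeSpectrum.zeroLocus (J : Set A) ∧
        ∀ i : ℕ, i < n → Subsingleton (Ext (ModuleCat.of A F) (ModuleCat.of A G) i) := by
  constructor
  · intro h
    exact ⟨A ⧸ J, inferInstance, inferInstance, inferInstance, support_quotient J,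
      (lc_iff_ext_all J G n).1 h (A ⧸ J) inferInstance (support_quotient J).le⟩
  · rintro ⟨F, _, _, hfin, hsupp, h⟩ i hi
    exact ModuleCat.isZero_iff_subsingleton.1 (lc_isZero_of_ext J F hsupp n G h i hi)

end Groth.Agent.Helper1.LocCohExt
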