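import Mathlib
import Groth.Agent.Helper1.LocCohExt
import Groth.Agent.Helper2.DepthRees

set_option autoImplicit false

/-!
# Depth as the least nonvanishing degree of local cohomology
-/

namespace Groth.Agent.Helper1.LocCohDepth
open CategoryTheory Limits Opposite Abelian RingTheory.Sequence
open Groth.Agent.Helper1.LocCohExt Groth.Agent.Helper2.DepthRees

universe u

variable {R : Type u} [CommRing R] [IsNoetherianRing R] (I : Ideal R)
  (M : Type u) [AddCommGroup M] [Module R M]

/-- `n ≤ depth_I(M)` iff there is a regular sequence of length `n` in `I` -/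
lemma le_idealDepth_iff (hIM : I • (⊤ : Submodule R M) ≠ ⊤) (n : ℕ) :
    (n : ℕ∞) ≤ LocCoh.idealDepth I M ↔
      ∃ rs : List R, rs.length = n ∧ (∀ r ∈ rs, r ∈ I) ∧ IsWeaklyRegular M rs := by
  rw [LocCoh.idealDepth, if_neg hIM]
  constructor
  · intro h
    by_contra hcon
    push_neg at hcon
    have hlt : ∀ (rs : List R), IsWeaklyRegular M rs ∧ (∀ r ∈ rs, r ∈ I) → rs.length < n := by
      rintro rs ⟨hreg, mem⟩
      by_contra hge
      rw [not_lt] at hge
      have h1 : IsWeaklyRegular M (rs.take n) := by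
        have := hreg
        rw [← List.take_append_drop n rs, isWeaklyRegular_append_iff] at this
        exact this.1
      exact hcon (rs.take n) (by rw [List.length_take]; omega)
        (fun r hr => mem r (List.mem_of_mem_take hr)) h1
    cases n with
    | zero => exact hcon [] rfl (by simp) (IsWeaklyRegular.nil R M)
    | succ m =>
      have h2 : (⨆ (rs : List R) (_ : IsWeaklyRegular M rs ∧ ∀ r ∈ rs, r ∈ I),
          (rs.length : ℕ∞)) ≤ (m : ℕ∞) := by
        refine iSup₂_le ?_
        intro rs hrs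
        have := hlt rs hrs
        exact_mod_cast Nat.lt_succ_iff.1 this
      have h3 := h.trans h2
      have : (m + 1 : ℕ) ≤ m := by exact_mod_cast h3
      omega
  · rintro ⟨rs, rfl, mem, hreg⟩
    exact le_iSup₂ (f := fun (rs : List R)
      (_ : IsWeaklyRegular M rs ∧ ∀ r ∈ rs, r ∈ I) => (rs.length : ℕ∞)) rs ⟨hreg, mem⟩

variable [Module.Finite R M]

/-- `n ≤ depth_I(M)` iff local cohomology vanishes below `n` -/
theorem le_idealDepth_iff_lc (hIM : I • (⊤ : Submodule R M) ≠ ⊤) (n : ℕ) :
    (n : ℕ∞) ≤ LocCoh.idealDepth I M ↔ ∀ i : ℕ, i < n → Subsingleton (LocCoh.H I i M) := by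
  rw [le_idealDepth_iff I M hIM n, ← ext_Q_subsingleton_iff I n (ModuleCat.of R M) hIM]
  constructor
  · intro h i hi
    exact ModuleCat.isZero_iff_subsingleton.1
      (lc_isZero_of_ext I (R ⧸ I) (support_quotient I) n M h i hi)
  · intro h
    exact (lc_iff_ext_all I M n).1 h (R ⧸ I) inferInstance (support_quotient I).le

theorem idealDepth_eq_iff (hIM : I • (⊤ : Submodule R M) ≠ ⊤) (n : ℕ) :
    LocCoh.idealDepth I M = n ↔
      ((∀ i : ℕ, i < n → Subsingleton (LocCoh.H I i M)) ∧ Nontrivial (LocCoh.H I n M)) := by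
  constructor
  · intro h
    have h1 : ∀ i : ℕ, i < n → Subsingleton (LocCoh.H I i M) :=
      (le_idealDepth_iff_lc I M hIM n).1 h.ge
    refine ⟨h1, ?_⟩
    by_contra hnt
    rw [not_nontrivial_iff_subsingleton] at hnt
    have h2 : ((n + 1 : ℕ) : ℕ∞) ≤ LocCoh.idealDepth I M := by
      rw [le_idealDepth_iff_lc I M hIM (n + 1)]
      intro i hi
      rcases Nat.lt_succ_iff_lt_or_eq.1 hi with h' | rfl
      · exact h1 i h'
      · exact hnt
    rw [h] at h2
    have : n + 1 ≤ n := by exact_mod_cast h2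
    omega
  · rintro ⟨h1, h2⟩
    have h3 := (le_idealDepth_iff_lc I M hIM n).2 h1
    refine le_antisymm ?_ h3
    by_contra hcon
    rw [not_le] at hcon
    have h4 : ((n + 1 : ℕ) : ℕ∞) ≤ LocCoh.idealDepth I M := by
      rw [Nat.cast_add, Nat.cast_one]
      exact Order.add_one_le_of_lt hcon
    have h5 := (le_idealDepth_iff_lc I M hIM (n + 1)).1 h4 n (by omega)
    exact not_subsingleton _ h5

end Groth.Agent.Helper1.LocCohDepth
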