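import Mathlib
import Groth.Agent.Helper1.RegBound
import Groth.Agent.Helper6.ExtFin
import Groth.Agent.Helper2.SerreLoc
import Groth.Agent.Helper2.Depth
import Groth.Agent.Helper1.LocCohDepth

set_option autoImplicit false

/-!
# Over a regular local ring of dimension `e`: `e ≤ t + depth N` implies `pd N ≤ t`
(one half of the Auslander–Buchsbaum formula)
-/

namespace Groth.Agent.Helper1.RegAB
open CategoryTheory Abelian IsLocalRing RingTheory.Sequence

universe u

variable {A : Type u} [CommRing A] [IsRegularLocalRing A]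

/-- every finite module over a regular local ring of dimension `e` has `pd ≤ e` -/
lemma pd_le_dim (e : ℕ) (he : ringKrullDim A = e) (N : Type u) [AddCommGroup N] [Module A N]
    [Module.Finite A N] : HasProjectiveDimensionLT (ModuleCat.of A N) (e + 1) :=
  RegBound.hasProjectiveDimensionLT_of_regular_of_dim_le
    (fun m => Groth.Agent.Helper2.SerreLoc.isRegularLocalRing_localization A m.asIdeal) e he.le N

omit [IsRegularLocalRing A] in
lemma subsingleton_ext_of_subsingleton (N : Type u) [AddCommGroup N] [Module A N] [Subsingleton N]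
    (Y : ModuleCat.{u} A) (j : ℕ) : Subsingleton (Ext (ModuleCat.of A N) Y j) := by
  have h0 : 𝟙 (ModuleCat.of A N) = 0 := (ModuleCat.isZero_of_subsingleton _).eq_of_src _ _
  refine ⟨fun x y => ?_⟩
  suffices h : ∀ z : Ext (ModuleCat.of A N) Y j, z = 0 by rw [h x, h y]
  intro z
  rw [← Ext.mk₀_id_comp z, h0, Ext.mk₀_zero, Ext.zero_comp]

/-- `Ext^j(N, A) = 0` for `j > e - depth N` -/
theorem ext_vanish (e : ℕ) (he : ringKrullDim A = e) :
    ∀ (δ : ℕ) (N : Type u) [AddCommGroup N] [Module A N] [Module.Finite A N],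
      (δ : ℕ∞) ≤ LocCoh.depth A N → ∀ j : ℕ, e < j + δ →
        Subsingleton (Ext (ModuleCat.of A N) (ModuleCat.of A A) j) := by
  intro δ
  induction δ with
  | zero =>
    intro N _ _ _ _ j hj
    haveI := pd_le_dim e he N
    exact HasProjectiveDimensionLT.subsingleton (ModuleCat.of A N) (e + 1) j (by omega) _
  | succ δ ih =>
    intro N _ _ _ hd j hj
    rcases subsingleton_or_nontrivial N with hN | hN
    · exact subsingleton_ext_of_subsingleton N _ j
    have hIM := Groth.Agent.Helper2.Depth.smul_top_ne_top A N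
    obtain ⟨rs, hlen, hmem, hreg⟩ := (LocCohDepth.le_idealDepth_iff (maximalIdeal A) N hIM
      (δ + 1)).1 hd
    obtain ⟨x, rs', rfl⟩ : ∃ x rs', rs = x :: rs' := by
      cases rs with
      | nil => simp at hlen
      | cons x rs' => exact ⟨x, rs', rfl⟩
    rw [isWeaklyRegular_cons_iff] at hreg
    obtain ⟨hx, hreg'⟩ := hreg
    have hxm : x ∈ maximalIdeal A := hmem x (List.mem_cons_self)
    have hd' : (δ : ℕ∞) ≤ LocCoh.depth A (QuotSMulTop x N) := by
      by_cases htop : maximalIdeal A • (⊤ : Submodule A (QuotSMulTop x N)) = ⊤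
      · unfold LocCoh.depth LocCoh.idealDepth
        rw [if_pos htop]
        exact le_top
      · refine (LocCohDepth.le_idealDepth_iff (maximalIdeal A) (QuotSMulTop x N) htop δ).2
          ⟨rs', ?_, fun r hr => hmem r (List.mem_cons_of_mem _ hr), hreg'⟩
        simpa using hlen
    have hQ : Subsingleton (Ext (ModuleCat.of A (QuotSMulTop x N)) (ModuleCat.of A A) (j + 1)) :=
      ih (QuotSMulTop x N) hd' (j + 1) (by omega)
    -- `x` acts surjectively on `Ext^j(N, A)`
    let S := ModuleCat.smulShortComplex (ModuleCat.of A N) x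
    have hS : S.ShortExact :=
      IsSMulRegular.smulShortComplex_shortExact (M := ModuleCat.of A N) hx
    have hsurj : ∀ z : Ext (ModuleCat.of A N) (ModuleCat.of A A) j, ∃ z', x • z' = z := by
      intro z
      obtain ⟨z', hz'⟩ := Ext.contravariant_sequence_exact₁ hS (ModuleCat.of A A) z
        (add_comm 1 j) (@Subsingleton.elim _ hQ _ _)
      refine ⟨z', ?_⟩
      rw [← hz']
      show x • z' = (Ext.mk₀ (x • 𝟙 (ModuleCat.of A N))).comp z' (zero_add j)
      rw [Ext.mk₀_smul, Ext.smul_comp, Ext.mk₀_id_comp]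
      rfl
    haveI : Module.Finite A (Ext (ModuleCat.of A N) (ModuleCat.of A A) j) :=
      Groth.Agent.Helper6.ExtFin.finite_ext A j N
    by_contra hnt
    rw [not_subsingleton_iff_nontrivial] at hnt
    have hne := Submodule.top_ne_pointwise_smul_of_mem_jacobson_annihilator
      (M := Ext (ModuleCat.of A N) (ModuleCat.of A A) j) (r := x)
      (maximalIdeal_le_jacobson _ hxm)
    apply hne
    rw [eq_comm, eq_top_iff]
    intro c _
    obtain ⟨c', rfl⟩ := hsurj c
    exact Submodule.smul_mem_pointwise_smul _ _ _ Submodule.mem_top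

/-- one half of Auslander–Buchsbaum: `e ≤ t + depth N` implies `pd N ≤ t` -/
theorem pd_le_of_depth (e : ℕ) (he : ringKrullDim A = e) (N : Type u) [AddCommGroup N]
    [Module A N] [Module.Finite A N] (t : ℕ) (h : (e : ℕ∞) ≤ t + LocCoh.depth A N) :
    HasProjectiveDimensionLE (ModuleCat.of A N) t := by
  refine RegBound.hasProjectiveDimensionLT_of_ext_ring_vanish' e (fun N' _ _ _ => pd_le_dim e he N')
    t N ?_
  intro i hi
  have hδ : ((e - t : ℕ) : ℕ∞) ≤ LocCoh.depth A N := by
    rw [ENat.natCast_sub, tsub_le_iff_left]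
    exact h
  exact ext_vanish e he (e - t) N hδ i (by omega)

end Groth.Agent.Helper1.RegAB
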