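import Mathlib
import Groth.Agent.Helper6.RegDepthExt
import Groth.Agent.Helper7.AusBuchC

/-!
# DepthExt: over a regular local ring of dimension `r`,
`depth M > n ↔ Ext^{r-i}(M, A) = 0` for all `i ≤ min n r`
-/

set_option autoImplicit false
set_option linter.style.haveILetI false
set_option linter.unusedSectionVars false

universe u

open CategoryTheory Abelian IsLocalRing

namespace Groth.Agent.Helper1.DepthExt

variable (A : Type u) [CommRing A] [IsRegularLocalRing A]
  (M : Type u) [AddCommGroup M] [Module A M] [Module.Finite A M]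

/-- the invariants of a nonzero finite module over a regular local ring of dimension `r` -/
theorem exists_pd_depth [Nontrivial M] (r : ℕ) (hr : ringKrullDim A = r) :
    ∃ e d : ℕ, r = e + d ∧ LocCoh.depth A M = d ∧
      HasProjectiveDimensionLT (ModuleCat.of A M) (e + 1) ∧
      Nontrivial (Ext (ModuleCat.of A M) (ModuleCat.of A A) e) := by
  have hpd := Groth.Agent.Helper1.RegAB.pd_le_dim r hr M
  have hne_top : projectiveDimension (ModuleCat.of A M) ≠ ⊤ := by
    rw [projectiveDimension_ne_top_iff]
    exact ⟨r, hpd⟩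
  have nz : ¬ Limits.IsZero (ModuleCat.of A M) := fun h =>
    not_subsingleton M (ModuleCat.subsingleton_of_isZero h)
  obtain ⟨e, he⟩ := Groth.Agent.Helper6.PdQuotAdd.exists_nat_of_ne_top _ nz hne_top
  have hab := Groth.Agent.Helper7.AusBuch.main (R := A) M e he
  rw [Groth.Agent.Helper6.RegDepthExt.depth_self A r hr] at hab
  have hfin : LocCoh.depth A M ≠ ⊤ :=
    Groth.Agent.Helper2.DepthCM.idealDepth_ne_top _ M
      (Groth.Agent.Helper2.Depth.smul_top_ne_top A M)
  obtain ⟨d, hd⟩ := ENat.ne_top_iff_exists.mp hfin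
  rw [← hd] at hab
  have hned : r = e + d := by
    have : ((r : ℕ) : ℕ∞) = ((e + d : ℕ) : ℕ∞) := by
      push_cast
      exact hab
    exact ENat.natCast_inj.mp this
  have hlt : HasProjectiveDimensionLT (ModuleCat.of A M) (e + 1) := by
    have : projectiveDimension (ModuleCat.of A M) ≤ e := le_of_eq he
    exact (projectiveDimension_le_iff _ e).mp this
  exact ⟨e, d, hned, hd.symm, hlt, Groth.Agent.Helper6.RegDepthExt.nontrivial_ext_top A M e he⟩

/-- **depth through the vanishing of `Ext(M, A)`** -/
theorem depth_gt_iff (r : ℕ) (hr : ringKrullDim A = r) (n : ℕ) :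
    (n : ℕ∞) < LocCoh.depth A M ↔
      ∀ i : ℕ, i ≤ n → i ≤ r →
        Subsingleton (Ext (ModuleCat.of A M) (ModuleCat.of A A) (r - i)) := by
  rcases subsingleton_or_nontrivial M with hM | hM
  · rw [Groth.Agent.Helper2.DepthLoc.depth_eq_top_of_subsingleton]
    exact ⟨fun _ i _ _ =>
      Groth.Agent.Helper1.RegAB.subsingleton_ext_of_subsingleton M (ModuleCat.of A A) _,
      fun _ => ENat.natCast_lt_top n⟩
  · obtain ⟨e, d, hed, hd, hlt, htop⟩ := exists_pd_depth A M r hr
    rw [hd, Nat.cast_lt]
    constructor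
    · intro h i hi hir
      exact HasProjectiveDimensionLT.subsingleton (ModuleCat.of A M) (e + 1) (r - i) (by omega)
        (ModuleCat.of A A)
    · intro h
      by_contra hcon
      have h1 := h d (by omega) (by omega)
      have h2 : r - d = e := by omega
      rw [h2] at h1
      exact not_subsingleton _ h1

/-- depth at least `n` through the vanishing of `Ext(M, A)` -/
theorem le_depth_iff (r : ℕ) (hr : ringKrullDim A = r) (n : ℕ) :
    (n : ℕ∞) ≤ LocCoh.depth A M ↔
      ∀ i : ℕ, i < n → i ≤ r →
        Subsingleton (Ext (ModuleCat.of A M) (ModuleCat.of A A) (r - i)) := by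
  rcases Nat.eq_zero_or_pos n with rfl | hn
  · simp
  · obtain ⟨m, rfl⟩ : ∃ m, n = m + 1 := ⟨n - 1, by omega⟩
    have h := depth_gt_iff A M r hr m
    have h2 : ((m + 1 : ℕ) : ℕ∞) ≤ LocCoh.depth A M ↔ (m : ℕ∞) < LocCoh.depth A M := by
      push_cast
      exact ENat.add_one_le_iff (ENat.natCast_ne_top m)
    rw [h2, h]
    exact ⟨fun h i hi => h i (by omega), fun h i hi => h i (by omega)⟩

end Groth.Agent.Helper1.DepthExt
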