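import Mathlib
import Groth.Agent.S10829
import Groth.Agent.Helper5.VarDim
import Groth.Agent.Helper5.VarDim4
import Groth.Agent.Helper4.SN107
import Groth.Agent.Helper3.ProjSmooth
import Groth.Agent.Helper2.SmoothRegSch

/-!
# PnReg: the local rings of `P^r_k` at closed points are regular of dimension `r`
-/

set_option autoImplicit false
set_option linter.style.haveILetI false
set_option linter.unusedSectionVars false

universe u

open CategoryTheory AlgebraicGeometry

namespace Groth.Agent.Helper1.PnReg

variable (r : ℕ) (k : Type u) [Field k]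

theorem isRegularLocalRing_stalk (x : CohB1.ProjSpace r k) :
    IsRegularLocalRing ((CohB1.ProjSpace r k).presheaf.stalk x) := by
  haveI := Groth.Agent.Helper3.ProjSmooth.smooth_toSpec r k
  exact Groth.Agent.Helper2.SmoothRegSch.stalk_regular_of_smooth k _
    (CohB1.ProjSpace.toSpec r k) x

theorem localDim_eq (x : CohB1.ProjSpace r k) :
    FlatMor.localDim (CohB1.ProjSpace r k) x = (r : WithBot ℕ∞) := by
  haveI := Groth.Agent.Helper3.ProjSmooth.smooth_toSpec r k
  haveI : LocallyOfFiniteType (CohB1.ProjSpace.toSpec r k) := inferInstance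
  haveI : IrreducibleSpace (CohB1.ProjSpace r k) := inferInstance
  unfold FlatMor.localDim
  have h : ∀ U : {U : TopologicalSpace.Opens (CohB1.ProjSpace r k) // x ∈ U},
      topologicalKrullDim (U.1 : Set (CohB1.ProjSpace r k)) = (r : WithBot ℕ∞) := by
    intro U
    rw [Groth.Agent.Helper5.VarDim.dim_open_eq k (CohB1.ProjSpace.toSpec r k) U.1 ⟨x, U.2⟩]
    exact Groth.Agent.S10829.result k r
  haveI : Nonempty {U : TopologicalSpace.Opens (CohB1.ProjSpace r k) // x ∈ U} :=
    ⟨⟨⊤, trivial⟩⟩
  simp only [h, ciInf_const]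

theorem ringKrullDim_stalk_of_isClosed (x : CohB1.ProjSpace r k)
    (hx : IsClosed ({x} : Set (CohB1.ProjSpace r k))) :
    ringKrullDim ((CohB1.ProjSpace r k).presheaf.stalk x) = (r : WithBot ℕ∞) := by
  haveI := Groth.Agent.Helper3.ProjSmooth.smooth_toSpec r k
  haveI : LocallyOfFiniteType (CohB1.ProjSpace.toSpec r k) := inferInstance
  obtain ⟨n, -, h2, h3⟩ :=
    Groth.Agent.Helper5.VarDim.localDim_formula k (CohB1.ProjSpace.toSpec r k) x
  rw [localDim_eq, h3 hx] at h2
  simpa using h2.symm

end Groth.Agent.Helper1.PnReg
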