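import Mathlib
import Groth.Agent.Helper1.ExtSh11
import Groth.Agent.Helper1.ExtDual3
import Groth.Agent.Helper1.KzLin3
import Groth.Agent.Helper9.ExtAdj

/-!
# ExtSh12: vanishing of the Ext sheaves `ℰxtⁱ(F, ω_P)` on `P^N_k` in terms of the cohomology of
the negative twists of `F`
-/

set_option autoImplicit false
set_option linter.style.haveILetI false
set_option linter.unusedSectionVars false

universe u

open CategoryTheory CategoryTheory.Limits Abelian AlgebraicGeometry Opposite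
open Groth.Agent.Helper9.TensorSh Groth.Agent.Helper9.TensorAdj Groth.Agent.Helper9.TensorFlat
  Groth.Agent.Helper1.ExtTw

namespace Groth.Agent.Helper1.ExtSh

attribute [local instance] hasSheafHom

section site

variable {C : Type u} [SmallCategory C] {J : GrothendieckTopology C} {O : Sheaf J CommRingCat.{u}}

/-- `Extⁿ(L ⊗ F, G) ≃+ Extⁿ(F, M ⊗ G)` when `L ⊗ M ≅ O` -/
theorem nonempty_ext_adj_addEquiv [HasExt.{u} (ModSite.Mod O)] (L M : ModSite.Mod O)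
    (e : (TL L).obj M ≅ ModSite.unit O) (F G : ModSite.Mod O) (n : ℕ) :
    Nonempty (Ext.{u} ((TL L).obj F) G n ≃+ Ext.{u} F ((TL M).obj G) n) := by
  haveI := isEquivalence_TL L M e
  haveI := isEquivalence_TL' L M e
  haveI : EnoughInjectives (ModSite.Mod O) :=
    Groth.Agent.Helper9.ModCechExt.enoughInjectives_mod (ModSite.ringSh O)
  have hR : ∀ I : ModSite.Mod O, Injective I → Injective ((TL M).obj I) := by
    intro I hI
    exact Injective.injective_of_adjoint (adjOfInv L M e) I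
  obtain ⟨i⟩ := Groth.Agent.Helper9.ExtAdj.nonempty_iso (adjOfInv L M e) hR F n G
  exact ⟨i.addCommGroupIsoToAddEquiv⟩

end site

section scheme

variable {X : Scheme.{u}}

/-- `Extⁿ(F ⊗ L, G) ≃+ Extⁿ(F, G ⊗ M)` when `L ⊗ M ≅ O` -/
theorem nonempty_ext_tensor_addEquiv [inst : HasExt.{u} X.Modules] (L M : X.Modules)
    (e : CohB1.tensorMod L M ≅ Coh.structureModule X) (F G : X.Modules) (n : ℕ) :
    Nonempty (Ext.{u} (CohB1.tensorMod F L) G n ≃+ Ext.{u} F (CohB1.tensorMod G M) n) := by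
  obtain ⟨i⟩ := @nonempty_ext_adj_addEquiv _ _ _ X.sheaf inst L M e F G n
  have e1 : CohB1.tensorMod F L ≅ (TL (O := X.sheaf) L).obj F := swapIso (O := X.sheaf) L F
  have e2 : (TL (O := X.sheaf) M).obj G ≅ CohB1.tensorMod G M := swapIso (O := X.sheaf) G M
  exact ⟨(extIsoIso e1 (Iso.refl G) n).trans (i.trans (extIsoIso (Iso.refl F) e2 n))⟩

/-- tensoring a zero module gives zero -/
theorem isZero_tensorMod_of_isZero {M : X.Modules} (hM : IsZero M) (L : X.Modules) :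
    IsZero (CohB1.tensorMod M L) := by
  have h : IsZero ((TNX L).obj M) := Functor.map_isZero (TNX L) hM
  exact h

end scheme

section proj

variable (N : ℕ) (R : Type u) [CommRing R] [IsNoetherianRing R]

local notation "𝕆(" d ")" => Twist.twistProjSpace N R d

/-- a coherent module on `P^N_R` all of whose high twists have no global sections is zero -/
theorem isZero_of_subsingleton_H0_twists [HasExt.{u} (CohB1.ProjSpace N R).Modules]
    (M : (CohB1.ProjSpace N R).Modules) (hM : Coh.IsCoh M) (q₀ : ℤ)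
    (h : ∀ q : ℤ, q₀ ≤ q →
      Subsingleton (Coh.HH (CohB1.ProjSpace N R) (CohB1.tensorMod M 𝕆(q)) 0)) : IsZero M := by
  have hM' := Groth.Agent.Helper1.KzLin.isCoh_tw N R M hM q₀
  obtain ⟨s, d, φ, hφ, hd⟩ :=
    Groth.Agent.Helper1.ExtDual.exists_epi_neg_twists (CohB1.polyGrading N R) _ hM'
  have hφ0 : φ = 0 := by
    apply Sigma.hom_ext
    intro j
    rw [comp_zero]
    obtain ⟨e⟩ := nonempty_ext_twist_addEquiv N R (d j) (CohB1.tensorMod M 𝕆(q₀)) 0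
    obtain ⟨t⟩ := Groth.Agent.Helper1.KzLin.tw_tw_iso N R M q₀ (-(d j)) (q₀ - d j) (by ring)
    have c : CohB1.tensorMod 𝕆(-(d j)) (CohB1.tensorMod M 𝕆(q₀)) ≅ CohB1.tensorMod M 𝕆(q₀ - d j) :=
      swapIso (O := (CohB1.ProjSpace N R).sheaf) (CohB1.tensorMod M 𝕆(q₀)) 𝕆(-(d j)) ≪≫ t
    have hsub : Subsingleton (Coh.HH (CohB1.ProjSpace N R)
        (CohB1.tensorMod 𝕆(-(d j)) (CohB1.tensorMod M 𝕆(q₀))) 0) :=
      subsingleton_HH_of_iso R c.symm 0 (h _ (by have := hd j; omega))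
    have hsub2 : Subsingleton (Ext.{u} 𝕆(d j) (CohB1.tensorMod M 𝕆(q₀)) 0) :=
      e.toEquiv.subsingleton
    have h0 : (Ext.mk₀ (Sigma.ι (fun j : Fin s => 𝕆(d j)) j ≫ φ) :
        Ext.{u} 𝕆(d j) (CohB1.tensorMod M 𝕆(q₀)) 0) = Ext.mk₀ 0 :=
      @Subsingleton.elim _ hsub2 _ _
    exact (Ext.mk₀_bijective.{u} 𝕆(d j) (CohB1.tensorMod M 𝕆(q₀))).1 h0
  have hz : IsZero (CohB1.tensorMod M 𝕆(q₀)) := by
    rw [IsZero.iff_id_eq_zero]
    have h1 : φ ≫ 𝟙 _ = φ ≫ 0 := by rw [hφ0, zero_comp, zero_comp]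
    exact hφ.left_cancellation _ _ h1
  obtain ⟨t⟩ := Groth.Agent.Helper1.KzLin.tw_tw_iso N R M q₀ (-q₀) 0 (by ring)
  obtain ⟨t0⟩ := Groth.Agent.Helper1.KzLin.tw_zero_iso N R M
  exact IsZero.of_iso (isZero_tensorMod_of_isZero hz _) (t0.symm ≪≫ t.symm)

end proj

section field

variable (N : ℕ) (k : Type u) [Field k]

local notation "ℙ" => CohB1.ProjSpace N k
local notation "𝕆(" d ")" => Twist.twistProjSpace N k d

theorem subsingleton_dual_iff (V : Type u) [AddCommGroup V] [Module k V] :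
    Subsingleton (Module.Dual k V) ↔ Subsingleton V := by
  constructor
  · intro h
    refine ⟨fun v w => ?_⟩
    have h1 : ∀ x : V, x = 0 := fun x =>
      (Module.forall_dual_apply_eq_zero_iff k x).1 (fun φ => by
        rw [Subsingleton.elim φ 0, LinearMap.zero_apply])
    rw [h1 v, h1 w]
  · intro h
    exact Groth.Agent.Helper1.ExtDual.subsingleton_dual_of_subsingleton k V

theorem nonempty_twist_neg_iso' (d : ℤ) :
    Nonempty (CohB1.tensorMod 𝕆(-d) 𝕆(d) ≅ Coh.structureModule ℙ) := by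
  obtain ⟨e⟩ := nonempty_twist_neg_iso N k d
  exact ⟨swapIso (O := (CohB1.ProjSpace N k).sheaf) 𝕆(d) 𝕆(-d) ≪≫ e⟩

variable [HasExt.{u} (CohB1.ProjSpace N k).Modules]
  [HasInjectiveResolutions (ModSite.Mod (CohB1.ProjSpace N k).sheaf)]

/-- for `d ≫ 0`: `H⁰(ℰxtⁱ(F, G) ⊗ O(d)) = 0 ↔ Extⁱ(F ⊗ O(-d), G) = 0` -/
theorem exists_subsingleton_iff (F G : (CohB1.ProjSpace N k).Modules) (hF : Coh.IsCoh F)
    (hG : Coh.IsCoh G) (i : ℕ) :
    ∃ d₀ : ℕ, ∀ d : ℕ, d₀ ≤ d →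
      (Subsingleton (Coh.HH ℙ (CohB1.tensorMod
          ((ModSite.extSh (O := (CohB1.ProjSpace N k).sheaf) F i).obj G) 𝕆((d : ℤ))) 0) ↔
        Subsingleton (Ext.{u} (CohB1.tensorMod F 𝕆(-(d : ℤ))) G i)) := by
  obtain ⟨d₀, hd₀⟩ := exists_ext_linearEquiv_H0_extSh N k (𝟙 (CohB1.ProjSpace N k)) F G hF hG i
  refine ⟨d₀, fun d hd => ?_⟩
  obtain ⟨e⟩ := hd₀ d hd
  -- `G ⊗ 𝟙^* O(d) ≅ G ⊗ O(d)`
  have c : CohB1.tensorMod G (Ltw N k (𝟙 (CohB1.ProjSpace N k)) (d : ℤ)) ≅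
      CohB1.tensorMod G 𝕆((d : ℤ)) :=
    PicGrp.tensorModIso (Iso.refl G) ((Scheme.Modules.pullbackId (CohB1.ProjSpace N k)).app _)
  obtain ⟨e1⟩ := nonempty_twist_neg_iso N k (d : ℤ)
  obtain ⟨e2⟩ := nonempty_twist_neg_iso' N k (d : ℤ)
  obtain ⟨t⟩ := nonempty_extShTwistIso 𝕆((d : ℤ)) 𝕆(-(d : ℤ)) e1 F G i
  obtain ⟨a⟩ := nonempty_ext_tensor_addEquiv 𝕆(-(d : ℤ)) 𝕆((d : ℤ)) e2 F G i
  have c' := (ModSite.extSh (O := (CohB1.ProjSpace N k).sheaf) F i).mapIso c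
  constructor
  · intro h
    have h1 := subsingleton_HH_of_iso k (t.symm ≪≫ c'.symm) 0 h
    have h2 : Subsingleton (Ext.{u} F
        (CohB1.tensorMod G (Ltw N k (𝟙 (CohB1.ProjSpace N k)) (d : ℤ))) i) :=
      e.toEquiv.subsingleton
    have h3 : Subsingleton (Ext.{u} F (CohB1.tensorMod G 𝕆((d : ℤ))) i) :=
      (extIsoIso (Iso.refl F) c i).symm.toEquiv.subsingleton
    exact a.toEquiv.subsingleton
  · intro h
    have h3 : Subsingleton (Ext.{u} F (CohB1.tensorMod G 𝕆((d : ℤ))) i) :=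
      a.symm.toEquiv.subsingleton
    have h2 : Subsingleton (Ext.{u} F
        (CohB1.tensorMod G (Ltw N k (𝟙 (CohB1.ProjSpace N k)) (d : ℤ))) i) :=
      (extIsoIso (Iso.refl F) c i).toEquiv.subsingleton
    have h1 : Subsingleton (Coh.HH ℙ ((ModSite.extSh (O := (CohB1.ProjSpace N k).sheaf) F i).obj
        (CohB1.tensorMod G (Ltw N k (𝟙 (CohB1.ProjSpace N k)) (d : ℤ)))) 0) :=
      e.symm.toEquiv.subsingleton
    exact subsingleton_HH_of_iso k (c' ≪≫ t) 0 h1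

local notation "ωP" => Twist.twistProjSpace N k (-((N : ℤ) + 1))

/-- `ℰxtⁱ(F, ω_P) = 0` for `i > N` -/
theorem isZero_extSh_of_gt (F : (CohB1.ProjSpace N k).Modules) (hF : Coh.IsCoh F) (i : ℕ)
    (hi : N < i) :
    IsZero ((ModSite.extSh (O := (CohB1.ProjSpace N k).sheaf) F i).obj ωP) := by
  have hω := Groth.Agent.Helper1.SerreFin.isCoh_twist N k (-((N : ℤ) + 1))
  obtain ⟨d₀, hd₀⟩ := exists_subsingleton_iff N k F ωP hF hω i
  refine isZero_of_subsingleton_H0_twists N k _ (isCoh_extSh_projSpace N k ωP hω i F hF)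
    (d₀ : ℤ) (fun q hq => ?_)
  obtain ⟨d, rfl⟩ : ∃ d : ℕ, q = (d : ℤ) := ⟨q.toNat, by omega⟩
  rw [hd₀ d (by omega)]
  exact (Groth.Agent.Helper1.ExtDual.main_Pn N k _
    (Groth.Agent.Helper1.KzLin.isCoh_tw N k F hF _) i).2 hi

/-- **`ℰxtⁱ(F, ω_P) = 0` iff `H^{N-i}(P, F(-q)) = 0` for `q ≫ 0`** -/
theorem isZero_extSh_iff (F : (CohB1.ProjSpace N k).Modules) (hF : Coh.IsCoh F) (i : ℕ)
    (hi : i ≤ N) :
    IsZero ((ModSite.extSh (O := (CohB1.ProjSpace N k).sheaf) F i).obj ωP) ↔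
      ∃ q₀ : ℤ, ∀ q : ℤ, q₀ ≤ q →
        Subsingleton (Coh.HH ℙ (CohB1.tensorMod F 𝕆(-q)) (N - i)) := by
  have hω := Groth.Agent.Helper1.SerreFin.isCoh_twist N k (-((N : ℤ) + 1))
  obtain ⟨d₀, hd₀⟩ := exists_subsingleton_iff N k F ωP hF hω i
  have key : ∀ d : ℕ, d₀ ≤ d →
      (Subsingleton (Coh.HH ℙ (CohB1.tensorMod
          ((ModSite.extSh (O := (CohB1.ProjSpace N k).sheaf) F i).obj ωP) 𝕆((d : ℤ))) 0) ↔
        Subsingleton (Coh.HH ℙ (CohB1.tensorMod F 𝕆(-(d : ℤ))) (N - i))) := by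
    intro d hd
    rw [hd₀ d hd]
    obtain ⟨e⟩ := (Groth.Agent.Helper1.ExtDual.main_Pn N k _
      (Groth.Agent.Helper1.KzLin.isCoh_tw N k F hF (-(d : ℤ))) i).1 (N - i) (by omega)
    have hdl := subsingleton_dual_iff k (Coh.HH ℙ (CohB1.tensorMod F 𝕆(-(d : ℤ))) (N - i))
    exact ⟨fun h => hdl.1 e.symm.toEquiv.subsingleton,
      fun h => haveI := hdl.2 h; e.toEquiv.subsingleton⟩
  constructor
  · intro hz
    refine ⟨(d₀ : ℤ), fun q hq => ?_⟩
    obtain ⟨d, rfl⟩ : ∃ d : ℕ, q = (d : ℤ) := ⟨q.toNat, by omega⟩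
    rw [← key d (by omega)]
    exact Groth.Agent.Helper1.GrSh.subsingleton_HH_of_isZero k
      (isZero_tensorMod_of_isZero hz _) 0
  · rintro ⟨q₀, hq₀⟩
    refine isZero_of_subsingleton_H0_twists N k _ (isCoh_extSh_projSpace N k ωP hω i F hF)
      (max q₀ (d₀ : ℤ)) (fun q hq => ?_)
    obtain ⟨d, rfl⟩ : ∃ d : ℕ, q = (d : ℤ) := ⟨q.toNat, by omega⟩
    rw [key d (by omega)]
    exact hq₀ _ (by omega)

end field

end Groth.Agent.Helper1.ExtSh
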