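import Mathlib
import Groth.Agent.Lead.SheafHomAdj
import Groth.Agent.Lead.SheafHomStalk
import Groth.Agent.Helper1.ExtSh1
import Groth.Agent.Helper1.ExtSh9

/-!
# StalkExt1: the stalks of `ℋom(F, G)`, naturally in `F`
-/

set_option autoImplicit false
set_option linter.style.haveILetI false
set_option linter.unusedSectionVars false

universe u

open CategoryTheory CategoryTheory.Limits AlgebraicGeometry Opposite
open Groth.Agent.Helper9.TensorSh Groth.Agent.Helper9.TensorAdj Groth.Agent.Helper9.TensorFlat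
  Groth.Agent.Helper1.ExtSh Groth.Agent.Lead.SheafHomAdj

namespace Groth.Agent.Helper1.StalkExt

variable {X : Scheme.{u}}

local notation "adjL" => Groth.Agent.Lead.SheafHomAdj.adj

/-- the evaluation `F ⊗ ℋom(F, G) → G` of the constructed sheaf Hom -/
noncomputable def evC (F G : X.Modules) :
    (DCoh.tensorBi.obj F).obj (RefHull.homSh F G) ⟶ G :=
  (e F (RefHull.homSh F G) G).symm (𝟙 _)

/-- the evaluation, on sections -/
theorem evC_tmul (F G : X.Modules) (V : X.Opens) (m : Γ(F, V)) (t : Γ(RefHull.homSh F G, V))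
    (x : X) (hx : x ∈ V) :
    G.presheaf.germ V x hx (Scheme.Modules.Hom.app (M := CohB1.tensorMod F (RefHull.homSh F G))
      (evC F G) V (SecTwist.tmul F (RefHull.homSh F G) V m t)) =
      t.1 ⟨x, hx⟩ (F.presheaf.germ V x hx m) := by
  have h := e_app_germ F (evC F G) V t x hx V le_rfl hx m
  rw [rs_self] at h
  rw [← h]
  have h2 : e F (RefHull.homSh F G) G (evC F G) = 𝟙 _ := Equiv.apply_symm_apply _ _
  rw [h2]
  rfl

/-- `ℋom(u, -)` for the constructed sheaf Hom: the mate of `u ⊗ -` -/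
noncomputable def homMapL {F F' : X.Modules} (u : F' ⟶ F) : homFunctor F ⟶ homFunctor F' :=
  conjugateEquiv (adjL F) (adjL F') (DCoh.tensorBi.map u)

theorem adj_homEquiv (F K H : X.Modules) : (adjL F).homEquiv K H = e F K H := by
  change (Adjunction.adjunctionOfEquivRight (e F) (he F)).homEquiv K H = e F K H
  unfold Adjunction.adjunctionOfEquivRight
  rw [Adjunction.mkOfHomEquiv_homEquiv]

theorem homMapL_app {F F' : X.Modules} (u : F' ⟶ F) (G : X.Modules) :
    (homMapL u).app G =
      e F' (RefHull.homSh F G) G ((DCoh.tensorBi.map u).app (RefHull.homSh F G) ≫ evC F G) := by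
  have h := homEquiv_symm_comp_conjugateEquiv (adjL F) (adjL F') (DCoh.tensorBi.map u)
    (𝟙 ((homFunctor F).obj G))
  rw [Category.id_comp] at h
  have h2 := congrArg ((adjL F').homEquiv _ _) h
  rw [Equiv.apply_symm_apply] at h2
  rw [adj_homEquiv, adj_homEquiv] at h2
  exact h2

/-- **the germ formula for `ℋom(u, G)`** -/
theorem homMapL_app_germ {F F' : X.Modules} (u : F' ⟶ F) (G : X.Modules) (U : X.Opens)
    (t : Γ(RefHull.homSh F G, U)) (x : X) (hx : x ∈ U) (ν : F'.presheaf.stalk x) :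
    (((homMapL u).app G).app U t).1 ⟨x, hx⟩ ν = t.1 ⟨x, hx⟩ (RefHull.stalkMapₗ u x ν) := by
  obtain ⟨V, hxV, m, rfl⟩ := TopCat.Presheaf.exists_germ_eq F'.presheaf ν
  have hxW : x ∈ U ⊓ V := ⟨hx, hxV⟩
  have hm : F'.presheaf.germ V x hxV m =
      F'.presheaf.germ (U ⊓ V) x hxW (rs F' inf_le_right m) :=
    (germ_rs F' inf_le_right x hxW m).symm
  rw [hm, homMapL_app]
  refine (e_app_germ F' _ U t x hx (U ⊓ V) inf_le_left hxW _).trans ?_
  rw [RefHull.stalkMapₗ_germ]
  have h1 : Scheme.Modules.Hom.app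
      (M := CohB1.tensorMod F' (RefHull.homSh F G))
      ((DCoh.tensorBi.map u).app (RefHull.homSh F G) ≫ evC F G) (U ⊓ V)
      (SecTwist.tmul F' (RefHull.homSh F G) (U ⊓ V) (rs F' inf_le_right m)
        (rs (RefHull.homSh F G) inf_le_left t)) =
      Scheme.Modules.Hom.app (M := CohB1.tensorMod F (RefHull.homSh F G)) (evC F G) (U ⊓ V)
        ((KoszTw.tensorMap u (𝟙 (RefHull.homSh F G))).app (U ⊓ V)
          (SecTwist.tmul F' (RefHull.homSh F G) (U ⊓ V) (rs F' inf_le_right m)
            (rs (RefHull.homSh F G) inf_le_left t))) := by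
    rw [KoszTw.tensorBi_map_app]
    rfl
  refine (congrArg (fun z => G.presheaf.germ (U ⊓ V) x hxW z) h1).trans ?_
  have h2 := KoszTw.tensorMap_tmul u (𝟙 (RefHull.homSh F G)) (U ⊓ V) (rs F' inf_le_right m)
    (rs (RefHull.homSh F G) inf_le_left t)
  refine (congrArg (fun z => G.presheaf.germ (U ⊓ V) x hxW
    (Scheme.Modules.Hom.app (M := CohB1.tensorMod F (RefHull.homSh F G)) (evC F G) (U ⊓ V) z))
    h2).trans ?_
  refine (evC_tmul F G (U ⊓ V) _ _ x hxW).trans ?_
  rfl

end Groth.Agent.Helper1.StalkExt
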