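import Mathlib
import Groth.Agent.Helper1.StalkExt1
import Groth.Agent.Helper9.SkyMod5

/-!
# StalkExt2: the stalks of the abstract `ℋom(F, G)`, naturally in `F`
-/

set_option autoImplicit false
set_option linter.style.haveILetI false
set_option linter.unusedSectionVars false

universe u

open CategoryTheory CategoryTheory.Limits AlgebraicGeometry Opposite MonoidalCategory
open Groth.Agent.Helper9.TensorSh Groth.Agent.Helper9.TensorAdj Groth.Agent.Helper9.TensorFlat
  Groth.Agent.Helper1.ExtSh Groth.Agent.Lead.SheafHomAdj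

namespace Groth.Agent.Helper1.StalkExt

attribute [local instance] Groth.Agent.Helper9.TensorAdj.hasSheafHom

variable {X : Scheme.{u}}

local notation "adjL" => Groth.Agent.Lead.SheafHomAdj.adj

/-- naturality of the symmetry of the tensor product in the first variable -/
theorem symIso_naturality_left {F F' : X.Modules} (u : F' ⟶ F) :
    (DCoh.tensorBi.map u : (DCoh.tensorBi.obj F' : X.Modules ⥤ X.Modules) ⟶ DCoh.tensorBi.obj F) ≫
        (symIso (O := X.sheaf) F).hom =
      (symIso (O := X.sheaf) F').hom ≫ (ModSite.tensorBi X.sheaf).flip.map u := by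
  refine NatTrans.ext (funext fun N => ?_)
  change (a X.sheaf).map ((ι X.sheaf).map u ▷ (ι X.sheaf).obj N) ≫
      (a X.sheaf).map (β_ ((ι X.sheaf).obj F) ((ι X.sheaf).obj N)).hom =
    (a X.sheaf).map (β_ ((ι X.sheaf).obj F') ((ι X.sheaf).obj N)).hom ≫
      (a X.sheaf).map ((ι X.sheaf).obj N ◁ (ι X.sheaf).map u)
  rw [← Functor.map_comp, ← Functor.map_comp]
  exact congrArg (a X.sheaf).map
    (BraidedCategory.braiding_naturality_left ((ι X.sheaf).map u) ((ι X.sheaf).obj N))

/-- the comparison of the abstract and the constructed sheaf Hom -/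
noncomputable def c1 (F : X.Modules) : SH F ⟶ homFunctor F :=
  conjugateEquiv (adjX F) (adjL F) (symIso (O := X.sheaf) F).hom

instance isIso_c1 (F : X.Modules) : IsIso (c1 F) := by
  unfold c1
  infer_instance

/-- the comparison is compatible with `ℋom(u, -)` -/
theorem sheafHomMap_c1 {F F' : X.Modules} (u : F' ⟶ F) :
    ExtSupp.sheafHomMap (O := X.sheaf) u ≫ c1 F' = c1 F ≫ homMapL u := by
  have h1 := conjugateEquiv_comp (adjX F) (adjX F') (adjL F')
    ((ModSite.tensorBi X.sheaf).flip.map u) (symIso (O := X.sheaf) F').hom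
  have h2 := conjugateEquiv_comp (adjX F) (adjL F) (adjL F') (symIso (O := X.sheaf) F).hom
    (DCoh.tensorBi.map u)
  exact h1.trans ((congrArg (conjugateEquiv (adjX F) (adjL F'))
    (symIso_naturality_left u).symm).trans h2.symm)

/-- the comparison `ℋom(F, G)_x → Hom(F_x, G_x)` for the abstract sheaf Hom -/
noncomputable def cmp (F G : X.Modules) (x : X) :
    ((SH F).obj G).presheaf.stalk x →ₗ[X.presheaf.stalk x] RefHull.StalkHom F G x :=
  (RefHull.evalStalk F G x).comp (RefHull.stalkMapₗ ((c1 F).app G) x)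

theorem cmp_germ (F G : X.Modules) (x : X) (U : X.Opens) (hx : x ∈ U)
    (s : Γ((SH F).obj G, U)) :
    cmp F G x (((SH F).obj G).presheaf.germ U x hx s) =
      (((c1 F).app G).app U s).1 ⟨x, hx⟩ := by
  unfold cmp
  rw [LinearMap.comp_apply]
  have h := RefHull.stalkMapₗ_germ ((c1 F).app G) x hx s
  refine (congrArg (RefHull.evalStalk F G x) h).trans ?_
  exact RefHull.evalStalk_germ F G x hx _

theorem bijective_cmp (F G : X.Modules)
    (hF : SheafOfModules.IsFinitePresentation (R := X.ringCatSheaf) F) (x : X) :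
    Function.Bijective (cmp F G x) := by
  unfold cmp
  rw [LinearMap.coe_comp]
  exact (Groth.Agent.Lead.SheafHomStalk.homShStalkEquiv F G hF x).bijective.comp
    (Groth.Agent.Lead.HomShH.bijective_stalkMapₗ_of_isIso ((c1 F).app G) x)

/-- **naturality of the comparison in the first variable** -/
theorem cmp_naturality {F F' : X.Modules} (u : F' ⟶ F) (G : X.Modules) (x : X)
    (τ : ((SH F).obj G).presheaf.stalk x) :
    cmp F' G x (RefHull.stalkMapₗ ((ExtSupp.sheafHomMap (O := X.sheaf) u).app G) x τ) =
      (cmp F G x τ).comp (RefHull.stalkMapₗ u x) := by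
  obtain ⟨U, hx, s, rfl⟩ := TopCat.Presheaf.exists_germ_eq ((SH F).obj G).presheaf τ
  have h0 := RefHull.stalkMapₗ_germ ((ExtSupp.sheafHomMap (O := X.sheaf) u).app G) x hx s
  refine (congrArg (cmp F' G x) h0).trans ?_
  refine (cmp_germ F' G x U hx _).trans ?_
  rw [cmp_germ]
  have h := congrArg (fun φ : SH F ⟶ homFunctor F' => Scheme.Modules.Hom.app (φ.app G) U s)
    (sheafHomMap_c1 u)
  have h' : Scheme.Modules.Hom.app ((c1 F').app G) U
      (Scheme.Modules.Hom.app ((ExtSupp.sheafHomMap (O := X.sheaf) u).app G) U s) =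
      Scheme.Modules.Hom.app ((homMapL u).app G) U (Scheme.Modules.Hom.app ((c1 F).app G) U s) := h
  rw [h']
  ext ν
  exact homMapL_app_germ u G U _ x hx ν

end Groth.Agent.Helper1.StalkExt
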