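import Mathlib

/-!
# StalkExt3: dimension shifting for `Ext` in the first variable (vanishing form)
-/

set_option autoImplicit false
set_option linter.style.haveILetI false
set_option linter.unusedSectionVars false

universe w v u

open CategoryTheory CategoryTheory.Limits Abelian

namespace Groth.Agent.Helper1.StalkExt

variable {C : Type u} [Category.{v} C] [Abelian C] [HasExt.{w} C]

/-- `Ext¹(X₃, Y) = 0` iff every map `X₁ ⟶ Y` extends to `X₂`, when `Ext¹(X₂, Y) = 0` -/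
theorem subsingleton_ext_one_iff {S : ShortComplex C} (hS : S.ShortExact) (Y : C)
    (h1 : Subsingleton (Ext.{w} S.X₂ Y 1)) :
    Subsingleton (Ext.{w} S.X₃ Y 1) ↔ ∀ f : S.X₁ ⟶ Y, ∃ g : S.X₂ ⟶ Y, S.f ≫ g = f := by
  constructor
  · intro h f
    obtain ⟨x₂, hx₂⟩ := Ext.contravariant_sequence_exact₁ hS Y (Ext.mk₀ f) (n₁ := 1) rfl
      (Subsingleton.elim _ _)
    obtain ⟨g, rfl⟩ := (Ext.mk₀_bijective S.X₂ Y).2 x₂
    refine ⟨g, ?_⟩
    rw [Ext.mk₀_comp_mk₀] at hx₂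
    exact (Ext.mk₀_bijective S.X₁ Y).1 hx₂
  · intro h
    refine ⟨fun a b => ?_⟩
    suffices hz : ∀ z : Ext.{w} S.X₃ Y 1, z = 0 by rw [hz a, hz b]
    intro z
    obtain ⟨x₁, hx₁⟩ := Ext.contravariant_sequence_exact₃ hS Y z (Subsingleton.elim _ _)
      (n₀ := 0) rfl
    obtain ⟨f, rfl⟩ := (Ext.mk₀_bijective S.X₁ Y).2 x₁
    obtain ⟨g, rfl⟩ := h f
    rw [← hx₁, ← Ext.mk₀_comp_mk₀]
    exact hS.extClass_comp_assoc (Ext.mk₀ g)

/-- `Extⁱ⁺²(X₃, Y) = 0 ↔ Extⁱ⁺¹(X₁, Y) = 0`, when `Extⁱ⁺¹(X₂, Y) = Extⁱ⁺²(X₂, Y) = 0` -/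
theorem subsingleton_ext_succ_iff {S : ShortComplex C} (hS : S.ShortExact) (Y : C) (i : ℕ)
    (h1 : Subsingleton (Ext.{w} S.X₂ Y (i + 1))) (h2 : Subsingleton (Ext.{w} S.X₂ Y (i + 2))) :
    Subsingleton (Ext.{w} S.X₃ Y (i + 2)) ↔ Subsingleton (Ext.{w} S.X₁ Y (i + 1)) := by
  constructor
  · intro h
    refine ⟨fun a b => ?_⟩
    suffices hz : ∀ z : Ext.{w} S.X₁ Y (i + 1), z = 0 by rw [hz a, hz b]
    intro z
    obtain ⟨x₂, hx₂⟩ := Ext.contravariant_sequence_exact₁ hS Y z (n₁ := i + 2) (by omega)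
      (Subsingleton.elim _ _)
    rw [← hx₂, Subsingleton.elim x₂ 0, Ext.comp_zero]
  · intro h
    refine ⟨fun a b => ?_⟩
    suffices hz : ∀ z : Ext.{w} S.X₃ Y (i + 2), z = 0 by rw [hz a, hz b]
    intro z
    obtain ⟨x₁, hx₁⟩ := Ext.contravariant_sequence_exact₃ hS Y z (Subsingleton.elim _ _)
      (n₀ := i + 1) (by omega)
    rw [← hx₁, Subsingleton.elim x₁ 0, Ext.comp_zero]

end Groth.Agent.Helper1.StalkExt
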