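import Mathlib
import Groth.Agent.Helper1.StalkExt2
import Groth.Agent.Helper1.StalkExt3
import Groth.Agent.Helper1.ExtSh2

/-!
# StalkExt4: the stalks of `ℰxtⁱ(F, G)` vanish iff `Extⁱ(F_x, G_x)` vanishes
-/

set_option autoImplicit false
set_option linter.style.haveILetI false
set_option linter.unusedSectionVars false

universe w u

open CategoryTheory CategoryTheory.Limits AlgebraicGeometry Opposite Abelian
open Groth.Agent.Helper9.TensorSh Groth.Agent.Helper9.TensorAdj Groth.Agent.Helper9.TensorFlat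
  Groth.Agent.Helper1.ExtSh Groth.Agent.Lead.SheafHomAdj Groth.Agent.Helper9.SkyMod4

namespace Groth.Agent.Helper1.StalkExt

attribute [local instance] Groth.Agent.Helper9.TensorAdj.hasSheafHom

variable {X : Scheme.{u}}

theorem St_map_apply {M N : X.Modules} (φ : M ⟶ N) (x : X) (m : M.presheaf.stalk x) :
    ((St x).map φ).hom m = RefHull.stalkMapₗ φ x m := rfl

/-- a linear map of stalks, as a morphism of `ModuleCat` -/
noncomputable abbrev toHom {M N : X.Modules} {x : X} (f : RefHull.StalkHom M N x) :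
    (St x).obj M ⟶ (St x).obj N := ModuleCat.ofHom f

theorem isZero_St_iff (M : X.Modules) (x : X) :
    IsZero ((St x).obj M) ↔ Subsingleton (M.presheaf.stalk x) :=
  ModuleCat.isZero_iff_subsingleton

/-- `Epi` of the stalk of `ℋom(u, G)` in terms of extension of linear maps -/
theorem epi_St_sheafHomMap_iff {K L : X.Modules} (u : K ⟶ L) (G : X.Modules)
    (hK : SheafOfModules.IsFinitePresentation (R := X.ringCatSheaf) K)
    (hL : SheafOfModules.IsFinitePresentation (R := X.ringCatSheaf) L) (x : X) :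
    Epi ((St x).map ((ExtSupp.sheafHomMap (O := X.sheaf) u).app G)) ↔
      ∀ f : (St x).obj K ⟶ (St x).obj G, ∃ g : (St x).obj L ⟶ (St x).obj G,
        (St x).map u ≫ g = f := by
  rw [ModuleCat.epi_iff_surjective]
  constructor
  · intro h f
    obtain ⟨τ', hτ'⟩ := (bijective_cmp K G hK x).2 f.hom
    obtain ⟨τ, hτ⟩ := h τ'
    refine ⟨toHom (cmp L G x τ), ?_⟩
    have h1 := cmp_naturality u G x τ
    have h2 : RefHull.stalkMapₗ ((ExtSupp.sheafHomMap (O := X.sheaf) u).app G) x τ = τ' := hτ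
    rw [h2, hτ'] at h1
    ext m
    exact (LinearMap.congr_fun h1 m).symm
  · intro h τ'
    obtain ⟨g, hg⟩ := h (toHom (cmp K G x τ'))
    obtain ⟨τ, hτ⟩ := (bijective_cmp L G hL x).2 g.hom
    refine ⟨τ, ?_⟩
    apply (bijective_cmp K G hK x).1
    refine (cmp_naturality u G x τ).trans ?_
    rw [hτ]
    ext m
    exact ModuleCat.hom_ext_iff.1 hg |> fun h' => LinearMap.congr_fun h' m

/-- transport of the instance hypothesis -/
theorem hir_modules' (Y : Scheme.{u}) [h : HasInjectiveResolutions (ModSite.Mod Y.sheaf)] :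
    HasInjectiveResolutions Y.Modules := h

attribute [local instance] hir_modules'

variable [HasInjectiveResolutions (ModSite.Mod X.sheaf)]
  [∀ x : X, HasExt.{w} (ModuleCat.{u} (X.presheaf.stalk x))]

/-- degree `0` -/
theorem isZero_St_extSh_zero_iff (F G : X.Modules)
    (hF : SheafOfModules.IsFinitePresentation (R := X.ringCatSheaf) F) (x : X) :
    IsZero ((St x).obj ((ModSite.extSh (O := X.sheaf) F 0).obj G)) ↔
      Subsingleton (Ext.{w} ((St x).obj F) ((St x).obj G) 0) := by
  haveI : PreservesFiniteLimits (SH F) := preservesFiniteLimits_sheafHom (O := X.sheaf) F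
  have e : (ModSite.extSh (O := X.sheaf) F 0).obj G ≅ (SH F).obj G :=
    ((SH F).rightDerivedZeroIsoSelf).app G
  rw [((St x).mapIso e).isZero_iff, isZero_St_iff]
  have b := bijective_cmp F G hF x
  have e1 : ((SH F).obj G).presheaf.stalk x ≃ RefHull.StalkHom F G x := Equiv.ofBijective _ b
  have e2 : RefHull.StalkHom F G x ≃ ((St x).obj F ⟶ (St x).obj G) :=
    ⟨fun f => ModuleCat.ofHom f, fun f => f.hom, fun _ => rfl, fun _ => rfl⟩
  have e3 : ((St x).obj F ⟶ (St x).obj G) ≃ Ext.{w} ((St x).obj F) ((St x).obj G) 0 :=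
    Equiv.ofBijective _ (Ext.mk₀_bijective _ _)
  exact ((e1.trans e2).trans e3).subsingleton_congr

/-- degree `1` -/
theorem isZero_St_extSh_one_iff (S : ShortComplex X.Modules) (hS : S.ShortExact) (G : X.Modules)
    (x : X) (hK : SheafOfModules.IsFinitePresentation (R := X.ringCatSheaf) S.X₁)
    (hL : SheafOfModules.IsFinitePresentation (R := X.ringCatSheaf) S.X₂)
    (h1 : ∀ N, IsZero ((ModSite.extSh (O := X.sheaf) S.X₂ 1).obj N))
    (hp : Module.Projective (X.presheaf.stalk x) (S.X₂.presheaf.stalk x)) :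
    IsZero ((St x).obj ((ModSite.extSh (O := X.sheaf) S.X₃ 1).obj G)) ↔
      Subsingleton (Ext.{w} ((St x).obj S.X₃) ((St x).obj G) 1) := by
  obtain ⟨e⟩ := nonempty_extSh_one_iso_cokernel S hS h1 G
  refine ((St x).mapIso e).isZero_iff.trans ?_
  refine (PreservesCokernel.iso (St x)
    ((ExtSupp.sheafHomMap (O := X.sheaf) S.f).app G)).isZero_iff.trans ?_
  refine (Preadditive.epi_iff_isZero_cokernel _).symm.trans ?_
  refine (epi_St_sheafHomMap_iff S.f G hK hL x).trans ?_
  haveI : Projective ((St x).obj S.X₂) :=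
    (IsProjective.iff_projective (R := X.presheaf.stalk x) (S.X₂.presheaf.stalk x)).1 hp
  have h1' : Subsingleton (Ext.{w} ((St x).obj S.X₂) ((St x).obj G) 1) :=
    ⟨fun a b => (Ext.eq_zero_of_projective a).trans (Ext.eq_zero_of_projective b).symm⟩
  exact (subsingleton_ext_one_iff (hS.map_of_exact (St x)) ((St x).obj G) h1').symm

/-- shifting the degree -/
theorem isZero_St_extSh_succ_iff (S : ShortComplex X.Modules) (hS : S.ShortExact) (G : X.Modules)
    (x : X) (i : ℕ)
    (h0 : ∀ N, IsZero ((ModSite.extSh (O := X.sheaf) S.X₂ (i + 1)).obj N))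
    (h1 : ∀ N, IsZero ((ModSite.extSh (O := X.sheaf) S.X₂ (i + 2)).obj N))
    (hp : Module.Projective (X.presheaf.stalk x) (S.X₂.presheaf.stalk x))
    (ih : IsZero ((St x).obj ((ModSite.extSh (O := X.sheaf) S.X₁ (i + 1)).obj G)) ↔
      Subsingleton (Ext.{w} ((St x).obj S.X₁) ((St x).obj G) (i + 1))) :
    IsZero ((St x).obj ((ModSite.extSh (O := X.sheaf) S.X₃ (i + 2)).obj G)) ↔
      Subsingleton (Ext.{w} ((St x).obj S.X₃) ((St x).obj G) (i + 2)) := by
  obtain ⟨e⟩ := nonempty_extSh_shift S hS i h0 h1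
  refine ((St x).mapIso (e.app G)).isZero_iff.symm.trans ?_
  refine ih.trans ?_
  haveI : Projective ((St x).obj S.X₂) :=
    (IsProjective.iff_projective (R := X.presheaf.stalk x) (S.X₂.presheaf.stalk x)).1 hp
  have h1' : Subsingleton (Ext.{w} ((St x).obj S.X₂) ((St x).obj G) (i + 1)) :=
    ⟨fun a b => (Ext.eq_zero_of_projective a).trans (Ext.eq_zero_of_projective b).symm⟩
  have h2' : Subsingleton (Ext.{w} ((St x).obj S.X₂) ((St x).obj G) (i + 2)) :=
    ⟨fun a b => (Ext.eq_zero_of_projective a).trans (Ext.eq_zero_of_projective b).symm⟩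
  exact (subsingleton_ext_succ_iff (hS.map_of_exact (St x)) ((St x).obj G) i h1' h2').symm

/-- the hypothesis: the class `𝒞` of modules has finite locally free presentations -/
structure HasPres (𝒞 : X.Modules → Prop) : Prop where
  fp : ∀ F, 𝒞 F → SheafOfModules.IsFinitePresentation (R := X.ringCatSheaf) F
  pres : ∀ F, 𝒞 F → ∃ (K L : X.Modules) (i : K ⟶ L) (p : L ⟶ F) (w : i ≫ p = 0),
    (ShortComplex.mk i p w).ShortExact ∧ 𝒞 K ∧
    SheafOfModules.IsFinitePresentation (R := X.ringCatSheaf) L ∧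
    (∀ q N, IsZero ((ModSite.extSh (O := X.sheaf) L (q + 1)).obj N)) ∧
    ∀ x : X, Module.Projective (X.presheaf.stalk x) (L.presheaf.stalk x)

/-- **the stalks of `ℰxtⁱ(F, G)` vanish iff `Extⁱ(F_x, G_x)` vanishes** -/
theorem isZero_St_extSh_iff {𝒞 : X.Modules → Prop} (h𝒞 : HasPres 𝒞) :
    ∀ (i : ℕ) (F : X.Modules), 𝒞 F → ∀ (G : X.Modules) (x : X),
      (IsZero ((St x).obj ((ModSite.extSh (O := X.sheaf) F i).obj G)) ↔
        Subsingleton (Ext.{w} ((St x).obj F) ((St x).obj G) i)) := by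
  have key : ∀ (i : ℕ) (F : X.Modules), 𝒞 F → ∀ (G : X.Modules) (x : X),
      (IsZero ((St x).obj ((ModSite.extSh (O := X.sheaf) F (i + 1)).obj G)) ↔
        Subsingleton (Ext.{w} ((St x).obj F) ((St x).obj G) (i + 1))) := by
    intro i
    induction i with
    | zero =>
      intro F hF G x
      obtain ⟨K, L, i, p, w, hS, hK, hL, hz, hp⟩ := h𝒞.pres F hF
      exact isZero_St_extSh_one_iff (ShortComplex.mk i p w) hS G x (h𝒞.fp K hK) hL
        (fun N => hz 0 N) (hp x)
    | succ i ih =>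
      intro F hF G x
      obtain ⟨K, L, j, p, w, hS, hK, hL, hz, hp⟩ := h𝒞.pres F hF
      exact isZero_St_extSh_succ_iff (ShortComplex.mk j p w) hS G x i
        (fun N => hz i N) (fun N => hz (i + 1) N) (hp x) (ih K hK G x)
  intro i
  cases i with
  | zero => exact fun F hF G x => isZero_St_extSh_zero_iff F G (h𝒞.fp F hF) x
  | succ i => exact key i

/-- **`ℰxtⁱ(F, G) = 0` iff `Extⁱ(F_x, G_x) = 0` at every point** -/
theorem isZero_extSh_iff_forall {𝒞 : X.Modules → Prop} (h𝒞 : HasPres 𝒞) (i : ℕ) (F : X.Modules)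
    (hF : 𝒞 F) (G : X.Modules) :
    IsZero ((ModSite.extSh (O := X.sheaf) F i).obj G) ↔
      ∀ x : X, Subsingleton (Ext.{w} ((St x).obj F) ((St x).obj G) i) := by
  constructor
  · intro h x
    exact (isZero_St_extSh_iff h𝒞 i F hF G x).1 ((St x).map_isZero h)
  · intro h
    exact Groth.Agent.Helper9.SkyMod5.isZero_of_stalks X _
      (fun x => (isZero_St_extSh_iff h𝒞 i F hF G x).2 (h x))

end Groth.Agent.Helper1.StalkExt
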