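import Mathlib
import Groth.Agent.Helper1.StalkExt4
import Groth.Agent.Helper1.ExtSh11

/-!
# StalkExt5: the stalk criterion for `ℰxt` on closed subschemes of `P^n_A`
-/

set_option autoImplicit false
set_option linter.style.haveILetI false
set_option linter.unusedSectionVars false

universe w u

open CategoryTheory CategoryTheory.Limits AlgebraicGeometry Opposite Abelian
open Groth.Agent.Helper9.TensorSh Groth.Agent.Helper9.TensorAdj Groth.Agent.Helper9.TensorFlat
  Groth.Agent.Helper1.ExtSh Groth.Agent.Helper9.SkyMod4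

namespace Groth.Agent.Helper1.StalkExt

attribute [local instance] Groth.Agent.Helper9.TensorAdj.hasSheafHom

variable (n : ℕ) (A : Type u) [CommRing A] [IsNoetherianRing A] {X : Scheme.{u}}
  (ι : X ⟶ CohB1.ProjSpace n A) [IsClosedImmersion ι]
  [HasInjectiveResolutions (ModSite.Mod X.sheaf)]

include n A ι in
/-- coherent modules on a closed subscheme of `P^n_A` have finite locally free presentations -/
theorem hasPres_closed : HasPres (X := X) (fun F => Coh.IsCoh F) := by
  haveI := isLocallyNoetherian_of_closed n A ι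
  refine ⟨fun F hF => Groth.Agent.Helper4.CohFP.isFP_of_isCoh F hF.1 hF.2, fun F hF => ?_⟩
  obtain ⟨s, q, π, hπ⟩ := exists_pres n A ι F hF
  have hL := isCoh_sigma_Ltw n A ι q
  have hK : Coh.IsCoh (kernel π) := Groth.Agent.Lead.PerfLib.isCoh_kernel hL hF π
  refine ⟨kernel π, _, kernel.ι π, π, kernel.condition π, ?_, hK,
    Groth.Agent.Helper4.CohFP.isFP_of_isCoh _ hL.1 hL.2, fun m N => ?_, fun x => ?_⟩
  · exact { exact := ShortComplex.exact_of_f_is_kernel _ (kernelIsKernel π)
            mono_f := inferInstanceAs (Mono (kernel.ι π))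
            epi_g := hπ }
  · exact isZero_extSh_of_isFinLocFree _ (isFinLocFree_sigma_Ltw n A ι q) m N
  · haveI := hL.1
    haveI := Groth.Agent.Helper4.FinLocFree2.free_stalk_of_isFinLocFree _
      (isFinLocFree_sigma_Ltw n A ι q) x
    infer_instance

include n A ι in
/-- **`ℰxtⁱ(F, G) = 0` iff `Extⁱ(F_x, G_x) = 0` at every point** (closed subschemes of `P^n_A`) -/
theorem isZero_extSh_iff_forall_closed
    [∀ x : X, HasExt.{w} (ModuleCat.{u} (X.presheaf.stalk x))]
    (i : ℕ) (F : X.Modules) (hF : Coh.IsCoh F) (G : X.Modules) :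
    IsZero ((ModSite.extSh (O := X.sheaf) F i).obj G) ↔
      ∀ x : X, Subsingleton (Ext.{w} ((St x).obj F) ((St x).obj G) i) :=
  isZero_extSh_iff_forall (hasPres_closed n A ι) i F hF G

include n A ι in
theorem isZero_St_extSh_iff_closed
    [∀ x : X, HasExt.{w} (ModuleCat.{u} (X.presheaf.stalk x))]
    (i : ℕ) (F : X.Modules) (hF : Coh.IsCoh F) (G : X.Modules) (x : X) :
    IsZero ((St x).obj ((ModSite.extSh (O := X.sheaf) F i).obj G)) ↔
      Subsingleton (Ext.{w} ((St x).obj F) ((St x).obj G) i) :=
  isZero_St_extSh_iff (hasPres_closed n A ι) i F hF G x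

end Groth.Agent.Helper1.StalkExt
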