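import Mathlib
import Groth.Agent.Helper1.StalkExt5
import Groth.Agent.Helper1.ExtSh12
import Groth.Agent.Helper1.ExtTw1
import Groth.Agent.Lead.MeroM

/-!
# StalkExt6: stalks of invertible modules; `ℰxtⁱ(F, ω_P)` on `P^N_k` through the stalks
-/

set_option autoImplicit false
set_option linter.style.haveILetI false
set_option linter.unusedSectionVars false

universe w u

open CategoryTheory CategoryTheory.Limits AlgebraicGeometry Opposite Abelian
open Groth.Agent.Helper9.TensorSh Groth.Agent.Helper9.TensorAdj Groth.Agent.Helper9.TensorFlat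
  Groth.Agent.Helper1.ExtSh Groth.Agent.Helper9.SkyMod4

namespace Groth.Agent.Helper1.StalkExt

attribute [local instance] Groth.Agent.Helper9.TensorAdj.hasSheafHom

/-- the stalk of an invertible module is free of rank one -/
theorem nonempty_stalk_linearEquiv_of_isInvertible {X : Scheme.{u}} (L : X.Modules)
    (hL : PicF.IsInvertible L) (x : X) :
    Nonempty (X.presheaf.stalk x ≃ₗ[X.presheaf.stalk x] L.presheaf.stalk x) := by
  obtain ⟨U, hx, e, he⟩ := Groth.Agent.Lead.MeroM.exists_isLocalBasis L hL x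
  obtain ⟨h1, h2⟩ := he.germ x hx
  refine ⟨LinearEquiv.ofBijective
    (LinearMap.toSpanSingleton (X.presheaf.stalk x) (L.presheaf.stalk x)
      (L.presheaf.germ U x hx e)) ⟨?_, ?_⟩⟩
  · rw [← LinearMap.ker_eq_bot, LinearMap.ker_eq_bot']
    intro ρ hρ
    exact h2 ρ hρ
  · intro μ
    obtain ⟨ρ, hρ⟩ := h1 μ
    exact ⟨ρ, hρ.symm⟩

/-- the stalk of an invertible module, in `ModuleCat` -/
theorem nonempty_St_iso_of_isInvertible {X : Scheme.{u}} (L : X.Modules)
    (hL : PicF.IsInvertible L) (x : X) :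
    Nonempty ((St x).obj L ≅
      ModuleCat.of (X.presheaf.stalk x) (X.presheaf.stalk x)) := by
  obtain ⟨e⟩ := nonempty_stalk_linearEquiv_of_isInvertible L hL x
  exact ⟨(e.symm).toModuleIso⟩

section Pn

variable (N : ℕ) (k : Type u) [Field k]

local notation "ℙ" => CohB1.ProjSpace N k
local notation "𝕆(" d ")" => Twist.twistProjSpace N k d
local notation "ωP" => Twist.twistProjSpace N k (-((N : ℤ) + 1))

variable [HasExt.{u} (CohB1.ProjSpace N k).Modules]
  [HasInjectiveResolutions (ModSite.Mod (CohB1.ProjSpace N k).sheaf)]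
  [∀ x : (CohB1.ProjSpace N k), HasExt.{w} (ModuleCat.{u} ((CohB1.ProjSpace N k).presheaf.stalk x))]

/-- `ℰxtʲ(F, ω_P)_x = 0 ↔ Extʲ(F_x, O_x) = 0` -/
theorem isZero_St_extSh_omega_iff (F : (CohB1.ProjSpace N k).Modules) (hF : Coh.IsCoh F) (j : ℕ)
    (x : ℙ) :
    IsZero ((St x).obj ((ModSite.extSh (O := (CohB1.ProjSpace N k).sheaf) F j).obj ωP)) ↔
      Subsingleton (Ext.{w}
        (ModuleCat.of ((CohB1.ProjSpace N k).presheaf.stalk x) (F.presheaf.stalk x))
        (ModuleCat.of ((CohB1.ProjSpace N k).presheaf.stalk x)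
          ((CohB1.ProjSpace N k).presheaf.stalk x)) j) := by
  refine (isZero_St_extSh_iff_closed N k (𝟙 (CohB1.ProjSpace N k)) j F hF ωP x).trans ?_
  obtain ⟨c⟩ := nonempty_St_iso_of_isInvertible ωP
    (Groth.Agent.Helper1.SerreVan.isInvertible_twist N k _) x
  exact ⟨fun h => Groth.Agent.Helper1.ExtTw.subsingleton_ext_of_iso (Iso.refl _) c.symm j h,
    fun h => Groth.Agent.Helper1.ExtTw.subsingleton_ext_of_iso (Iso.refl _) c j h⟩

/-- **`H^{N-j}(F(-q)) = 0` for `q ≫ 0` iff `Extʲ(F_x, O_x) = 0` at every point** -/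
theorem exists_vanishing_iff_forall_stalk (F : (CohB1.ProjSpace N k).Modules) (hF : Coh.IsCoh F)
    (j : ℕ) (hj : j ≤ N) :
    (∃ q₀ : ℤ, ∀ q : ℤ, q₀ ≤ q →
        Subsingleton (Coh.HH ℙ (CohB1.tensorMod F 𝕆(-q)) (N - j))) ↔
      ∀ x : ℙ, Subsingleton (Ext.{w}
        (ModuleCat.of ((CohB1.ProjSpace N k).presheaf.stalk x) (F.presheaf.stalk x))
        (ModuleCat.of ((CohB1.ProjSpace N k).presheaf.stalk x)
          ((CohB1.ProjSpace N k).presheaf.stalk x)) j) := by
  refine (isZero_extSh_iff N k F hF j hj).symm.trans ?_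
  constructor
  · intro h x
    exact (isZero_St_extSh_omega_iff N k F hF j x).1 ((St x).map_isZero h)
  · intro h
    exact Groth.Agent.Helper9.SkyMod5.isZero_of_stalks _ _
      (fun x => (isZero_St_extSh_omega_iff N k F hF j x).2 (h x))

end Pn

end Groth.Agent.Helper1.StalkExt
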