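import Mathlib
import Groth.Agent.Helper1.StalkExt6
import Groth.Agent.Helper1.PnReg
import Groth.Agent.Helper1.DepthExt
import Groth.Agent.Helper1.Dev1
import Groth.Agent.S0020
import Groth.Agent.Helper4.SN5

/-!
# StalkExt7: closed points suffice; depth of the stalks and vanishing of `H^i(F(-m))` on `P^r_k`
-/

set_option autoImplicit false
set_option linter.style.haveILetI false
set_option linter.unusedSectionVars false

universe w u

open CategoryTheory CategoryTheory.Limits AlgebraicGeometry Opposite Abelian
open Groth.Agent.Helper9.TensorSh Groth.Agent.Helper9.TensorAdj Groth.Agent.Helper9.TensorFlat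
  Groth.Agent.Helper1.ExtSh Groth.Agent.Helper9.SkyMod4

namespace Groth.Agent.Helper1.StalkExt

attribute [local instance] Groth.Agent.Helper9.TensorAdj.hasSheafHom

/-- a module of finite type on a quasi-compact scheme vanishes if its stalks at the closed points
vanish -/
theorem isZero_of_closed_points {X : Scheme.{u}} [CompactSpace X] (M : X.Modules)
    (hM : SheafOfModules.IsFiniteType (R := X.ringCatSheaf) M)
    (h : ∀ x : X, IsClosed ({x} : Set X) → Subsingleton (M.presheaf.stalk x)) : IsZero M := by
  apply Groth.Agent.Helper1.Dev.isZero_of_support_eq_empty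
  by_contra hne
  have hcl : IsClosed (CohB1.support M) := Groth.Agent.S0020.result X M hM
  obtain ⟨x, hx, hxc⟩ := hcl.exists_closed_singleton (Set.nonempty_iff_ne_empty.2 hne)
  exact hx (h x hxc)

section Pn

variable (N : ℕ) (k : Type u) [Field k]

local notation "ℙ" => CohB1.ProjSpace N k
local notation "𝕆(" d ")" => Twist.twistProjSpace N k d
local notation "ωP" => Twist.twistProjSpace N k (-((N : ℤ) + 1))

variable [HasExt.{u} (CohB1.ProjSpace N k).Modules]
  [HasInjectiveResolutions (ModSite.Mod (CohB1.ProjSpace N k).sheaf)]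
  [∀ x : (CohB1.ProjSpace N k),
    HasExt.{w} (ModuleCat.{u} ((CohB1.ProjSpace N k).presheaf.stalk x))]

/-- **`H^{N-j}(F(-q)) = 0` for `q ≫ 0` iff `Extʲ(F_x, O_x) = 0` at every closed point** -/
theorem exists_vanishing_iff_forall_closed (F : (CohB1.ProjSpace N k).Modules) (hF : Coh.IsCoh F)
    (j : ℕ) (hj : j ≤ N) :
    (∃ q₀ : ℤ, ∀ q : ℤ, q₀ ≤ q →
        Subsingleton (Coh.HH ℙ (CohB1.tensorMod F 𝕆(-q)) (N - j))) ↔
      ∀ x : ℙ, IsClosed ({x} : Set ℙ) → Subsingleton (Ext.{w}
        (ModuleCat.of ((CohB1.ProjSpace N k).presheaf.stalk x) (F.presheaf.stalk x))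
        (ModuleCat.of ((CohB1.ProjSpace N k).presheaf.stalk x)
          ((CohB1.ProjSpace N k).presheaf.stalk x)) j) := by
  refine (isZero_extSh_iff N k F hF j hj).symm.trans ?_
  have hω := Groth.Agent.Helper1.SerreFin.isCoh_twist N k (-((N : ℤ) + 1))
  constructor
  · intro h x _
    exact (isZero_St_extSh_omega_iff N k F hF j x).1 ((St x).map_isZero h)
  · intro h
    haveI : IsNoetherianRing (MvPolynomial (Fin (N + 1)) k) := inferInstance
    haveI : IsNoetherian (CohB1.ProjSpace N k) :=
      Groth.Agent.Helper3.ProjNoeth.main (CohB1.polyGrading N k)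
    refine isZero_of_closed_points _ (isCoh_extSh_projSpace N k ωP hω j F hF).2 (fun x hx => ?_)
    exact (isZero_St_iff _ x).1 ((isZero_St_extSh_omega_iff N k F hF j x).2 (h x hx))

end Pn

end Groth.Agent.Helper1.StalkExt
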