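import Mathlib
import Groth.Agent.Helper1.SV1
import Groth.Agent.Helper1.CMcl1
import Groth.Agent.Helper1.ExtSh11
import Groth.Agent.S2928
import Groth.Agent.Helper4.SN62
import Groth.Agent.Helper2.DepthLoc
import Groth.Agent.Lead.Ref1B

set_option autoImplicit false
set_option linter.unusedSectionVars false
set_option linter.style.haveILetI false

/-!
# NegTw: `H^i(X, F ⊗ L^{-m}) = 0` for `m ≫ 0`, `i < depth` at the closed points, `L` ample on a
scheme proper over a field
-/

namespace Groth.Agent.Helper1.NegTw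

open CategoryTheory Limits AlgebraicGeometry TopologicalSpace Opposite
open Groth.Agent.Helper4.TensorAssoc Groth.Agent.Helper4.TensorInv Groth.Agent.Lead.Ref1B

universe u

/-- the depth of the stalk of `F ⊗ N` for `N` invertible is the depth of the stalk of `F` -/
theorem depth_stalk_tensor_invertible {X : Scheme.{u}} (F N : X.Modules)
    (hN : PicF.IsInvertible N) (x : X) :
    LocCoh.depth (X.presheaf.stalk x) ((CohB1.tensorMod F N).presheaf.stalk x) =
      LocCoh.depth (X.presheaf.stalk x) (F.presheaf.stalk x) := by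
  obtain ⟨e⟩ := Groth.Agent.Helper1.StalkExt.nonempty_stalk_linearEquiv_of_isInvertible N hN x
  let e2 : (CohB1.tensorMod F N).presheaf.stalk x ≃ₗ[X.presheaf.stalk x] F.presheaf.stalk x :=
    (stalkTensorEquiv F N x).symm ≪≫ₗ
      (TensorProduct.congr (LinearEquiv.refl _ (F.presheaf.stalk x)) e.symm) ≪≫ₗ
      TensorProduct.rid (X.presheaf.stalk x) (F.presheaf.stalk x)
  exact Groth.Agent.Helper2.DepthCM.idealDepth_congr _ e2

/-- uniqueness of the inverse of an invertible module -/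
noncomputable def invUniqueIso {X : Scheme.{u}} {A A' B B' : X.Modules}
    (hA : PicF.IsInvertible A) (hA' : PicF.IsInvertible A')
    (e : CohB1.tensorMod A A' ≅ Coh.structureModule X)
    (e' : CohB1.tensorMod B' B ≅ Coh.structureModule X) (τ : A ≅ B) : B' ≅ A' :=
  -- B' ≅ B' ⊗ O ≅ B' ⊗ (A ⊗ A') ≅ (B' ⊗ A) ⊗ A' ≅ (B' ⊗ B) ⊗ A' ≅ O ⊗ A' ≅ A'
  (SecTwist.unitorR B').symm ≪≫ PicGrp.tensorModIso (Iso.refl B') e.symm ≪≫
    (assocIso B' A A' hA hA').symm ≪≫
    PicGrp.tensorModIso (PicGrp.tensorModIso (Iso.refl B') τ ≪≫ e') (Iso.refl A') ≪≫ unitorL A'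

section Pn

variable (N : ℕ) (k : Type u) [Field k] {X : Scheme.{u}}
  (c : X ⟶ CohB1.ProjSpace N k) [IsClosedImmersion c]

/-- the depth of the stalks of the direct image at the closed points -/
theorem lt_depth_push (G : X.Modules) (hG : Coh.IsCoh G) (n : ℕ)
    (hdepth : ∀ x : X, IsClosed ({x} : Set X) →
      (n : ℕ∞) < LocCoh.depth (X.presheaf.stalk x) (G.presheaf.stalk x))
    (y : CohB1.ProjSpace N k) (hy : IsClosed ({y} : Set (CohB1.ProjSpace N k))) :
    (n : ℕ∞) < LocCoh.depth ((CohB1.ProjSpace N k).presheaf.stalk y)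
      (((Coh.push c).obj G).presheaf.stalk y) := by
  haveI : IsNoetherianRing (MvPolynomial (Fin (N + 1)) k) := inferInstance
  haveI : IsNoetherian (CohB1.ProjSpace N k) :=
    Groth.Agent.Helper3.ProjNoeth.main (CohB1.polyGrading N k)
  haveI : IsLocallyNoetherian X := LocallyOfFiniteType.isLocallyNoetherian c
  by_cases hyc : y ∈ Set.range c.base
  · obtain ⟨x, rfl⟩ := hyc
    have hx : IsClosed ({x} : Set X) := by
      have h1 : ({x} : Set X) = c.base ⁻¹' {c.base x} := by
        ext z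
        simp only [Set.mem_singleton_iff, Set.mem_preimage]
        exact ⟨fun h => by rw [h], fun h => c.isClosedEmbedding.injective h⟩
      rw [h1]
      exact hy.preimage c.continuous
    haveI := hG.1
    haveI : Module.Finite (X.presheaf.stalk x) (G.presheaf.stalk x) :=
      Groth.Agent.Helper4.FinLocFree2.finite_stalk G hG.2 x
    have h2 := Groth.Agent.Helper1.CMcl.depth_push_stalk c G x
    exact lt_of_lt_of_eq (hdepth x hx) h2.symm
  · haveI := Groth.Agent.Lead.PushStalk.subsingleton_stalk_of_notMem_range (j := c) G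
      c.isClosedEmbedding.isClosed_range y hyc
    have h3 : LocCoh.depth ((CohB1.ProjSpace N k).presheaf.stalk y)
        (((Coh.push c).obj G).presheaf.stalk y) = ⊤ :=
      Groth.Agent.Helper2.DepthLoc.depth_eq_top_of_subsingleton _ _
    rw [h3]
    exact ENat.natCast_lt_top n

/-- vanishing of the cohomology of the negative twists below the depth, for a closed subscheme of
`P^N_k` -/
theorem exists_vanishing_neg_tw (G : X.Modules) (hG : Coh.IsCoh G) (n : ℕ)
    (hdepth : ∀ x : X, IsClosed ({x} : Set X) →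
      (n : ℕ∞) < LocCoh.depth (X.presheaf.stalk x) (G.presheaf.stalk x)) :
    ∃ q₀ : ℤ, ∀ q : ℤ, q₀ ≤ q → ∀ i : ℕ, i ≤ n →
      Subsingleton (Coh.HH X (Groth.Agent.Helper1.ClTr.tw N k c G (-q)) i) := by
  have hP := Groth.Agent.Helper1.ClTr.isCoh_push N k c G hG
  obtain ⟨m₀, hm₀⟩ := (Groth.Agent.S2928.result k N ((Coh.push c).obj G) hP n).2
    (lt_depth_push N k c G hG n hdepth)
  refine ⟨m₀, fun q hq i hi => ?_⟩
  rw [Groth.Agent.Helper1.ClTr.subsingleton_HH_tw_iff N k c G hG.1 (-q) i]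
  exact hm₀ q hq i hi

end Pn

section Main

variable (k : Type u) [Field k] {X : Scheme.{u}} [X.Over (Spec (CommRingCat.of k))]
  [IsProper (X ↘ (Spec (CommRingCat.of k)))]

include k in
/-- **vanishing of `H^i(X, F ⊗ L^{-m})` for `m ≫ 0` and `i` below the depth of `F` at the closed
points** -/
theorem exists_vanishing_neg_pow (L : X.Modules) (hL : CohB1.IsAmple L) (M : X.Modules)
    (hM : ClSub.IsInverseOf L M) (F : X.Modules) (hF : Coh.IsCoh F) (n : ℕ)
    (hdepth : ∀ x : X, IsClosed ({x} : Set X) →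
      (n : ℕ∞) < LocCoh.depth (X.presheaf.stalk x) (F.presheaf.stalk x)) :
    ∃ m₀ : ℕ, ∀ m : ℕ, m₀ ≤ m → ∀ i : ℕ, i ≤ n →
      Subsingleton (Coh.HH X (CohB1.tensorMod F (CohB1.tensorPow M m)) i) := by
  classical
  have hLinv := hL.1
  obtain ⟨e₀⟩ := hM
  have hMinv : PicF.IsInvertible M :=
    Groth.Agent.Helper4.InvOfTensor.isInvertible_of_tensor_iso M L (braid M L ≪≫ e₀)
  obtain ⟨e, he, N, c, hcl, hc, hiso⟩ :=
    Groth.Agent.Helper1.SV.exists_closedImmersion k (X ↘ (Spec (CommRingCat.of k))) hL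
  haveI := hcl
  have hcohr : ∀ r : ℕ, Coh.IsCoh (CohB1.tensorMod F (CohB1.tensorPow M r)) := fun r =>
    isCoh_tensorMod _ _ hF
      (Groth.Agent.Helper1.SerreFin.isCoh_of_isInvertible _ (isInvertible_tensorPow hMinv r))
  have hdr : ∀ (r : ℕ) (x : X), IsClosed ({x} : Set X) →
      (n : ℕ∞) < LocCoh.depth (X.presheaf.stalk x)
        ((CohB1.tensorMod F (CohB1.tensorPow M r)).presheaf.stalk x) := by
    intro r x hx
    rw [depth_stalk_tensor_invertible F _ (isInvertible_tensorPow hMinv r) x]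
    exact hdepth x hx
  have hv : ∀ r : ℕ, ∃ q₀ : ℤ, ∀ q : ℤ, q₀ ≤ q → ∀ i : ℕ, i ≤ n →
      Subsingleton (Coh.HH X (Groth.Agent.Helper1.ClTr.tw N k c
        (CohB1.tensorMod F (CohB1.tensorPow M r)) (-q)) i) :=
    fun r => exists_vanishing_neg_tw N k c _ (hcohr r) n (hdr r)
  choose q₀ hq₀ using hv
  set D : ℕ := (Finset.range e).sup (fun r => (q₀ r).toNat) with hD
  refine ⟨e * D, fun m hm i hi => ?_⟩
  have hr : m % e < e := Nat.mod_lt m he
  have hdD : D ≤ m / e := (Nat.le_div_iff_mul_le he).mpr (by rw [mul_comm]; exact hm)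
  have hd : q₀ (m % e) ≤ ((m / e : ℕ) : ℤ) := by
    have h1 : (q₀ (m % e)).toNat ≤ D :=
      Finset.le_sup (f := fun r => (q₀ r).toNat) (Finset.mem_range.mpr hr)
    have h2 := Int.self_le_toNat (q₀ (m % e))
    have h3 : ((q₀ (m % e)).toNat : ℤ) ≤ ((m / e : ℕ) : ℤ) := by exact_mod_cast h1.trans hdD
    exact h2.trans h3
  have h1 := hq₀ (m % e) ((m / e : ℕ) : ℤ) hd i hi
  -- `c^* O(-q) ≅ M^{e q}`
  obtain ⟨τ⟩ := hiso (m / e)
  obtain ⟨ε⟩ := Groth.Agent.Helper1.ExtSh.nonempty_Ltw_neg_iso N k c ((m / e : ℕ) : ℤ)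
  have σ : CohB1.tensorPow M (e * (m / e)) ≅
      (Scheme.Modules.pullback c).obj (Twist.twistProjSpace N k (-((m / e : ℕ) : ℤ))) :=
    invUniqueIso (Groth.Agent.Helper1.ExtSh.isInvertible_Ltw N k c _)
      (Groth.Agent.Helper1.ExtSh.isInvertible_Ltw N k c _) ε
      (Groth.Agent.Helper4.SN.invPowIso hLinv hMinv e₀ (e * (m / e))) τ
  have hm' : m % e + e * (m / e) = m := Nat.mod_add_div m e
  refine Groth.Agent.Helper1.SerreCrit.subsingleton_HH_of_iso ?_ i h1
  exact PicGrp.tensorModIso (Iso.refl _) σ.symm ≪≫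
    assocIso F (CohB1.tensorPow M (m % e)) (CohB1.tensorPow M (e * (m / e)))
      (isInvertible_tensorPow hMinv _) (isInvertible_tensorPow hMinv _) ≪≫
    PicGrp.tensorModIso (Iso.refl F)
      (powAddIso M hMinv (m % e) (e * (m / e)) ≪≫ powCastIso M hm')

end Main

end Groth.Agent.Helper1.NegTw
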