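import Mathlib
import Groth.Agent.Helper1.HS1
import Groth.Agent.Helper1.Fin11
import Groth.Agent.Helper4.SN213

/-!
# HS2: the fibres of `P^n_S → S` over field-valued points are projective spaces over the field,
compatibly with the twisting sheaves
-/

set_option autoImplicit false
set_option linter.style.haveILetI false
set_option linter.unusedSectionVars false

universe u
open CategoryTheory CategoryTheory.Limits AlgebraicGeometry Opposite

namespace Groth.Agent.Helper1.HS

open Groth.Agent.Helper1.ProjBC Groth.Agent.Helper1.Fin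

variable (K : Type u) [Field K] {S : Scheme.{u}} (n : ℕ) (x : Spec (CommRingCat.of K) ⟶ S)
  {Y : Scheme.{u}} (p : Y ⟶ CohB1.ProjSpaceOver n S) (q : Y ⟶ Spec (CommRingCat.of K))
  (h : IsPullback p q (CohB1.ProjSpaceOver.toBase n S) x)

include h in
theorem isPullback_big :
    IsPullback (p ≫ pullback.fst (CohB1.ProjSpace.toSpec n (ULift.{u} ℤ))
        (specULiftZIsTerminal.from S)) q
      (CohB1.ProjSpace.toSpec n (ULift.{u} ℤ)) (Spec.map (CommRingCat.ofHom (φ₀ K))) := by
  have h2 : IsPullback (pullback.fst (CohB1.ProjSpace.toSpec n (ULift.{u} ℤ))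
      (specULiftZIsTerminal.from S)) (CohB1.ProjSpaceOver.toBase n S)
      (CohB1.ProjSpace.toSpec n (ULift.{u} ℤ)) (specULiftZIsTerminal.from S) :=
    IsPullback.of_hasPullback _ _
  have h3 := h.paste_horiz h2
  have e : x ≫ specULiftZIsTerminal.from S = Spec.map (CommRingCat.ofHom (φ₀ K)) :=
    specULiftZIsTerminal.hom_ext _ _
  rw [e] at h3
  exact h3

/-- the fibre is a projective space over the field -/
noncomputable def fibIso : Y ≅ CohB1.ProjSpace n K :=
  (isPullback_big K n x p q h).isoIsPullback _ _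
    (Groth.Agent.Helper4.SN213.isPullback_γγ (φ₀ K) n)

theorem fibIso_hom_γγ : (fibIso K n x p q h).hom ≫ γγ (φ₀ K) n =
    p ≫ pullback.fst (CohB1.ProjSpace.toSpec n (ULift.{u} ℤ)) (specULiftZIsTerminal.from S) :=
  IsPullback.isoIsPullback_hom_fst _ _ _ _

theorem fibIso_hom_toSpec : (fibIso K n x p q h).hom ≫ CohB1.ProjSpace.toSpec n K = q :=
  IsPullback.isoIsPullback_hom_snd _ _ _ _

/-- the twisting sheaves correspond -/
theorem nonempty_fibIso_twist (m : ℤ) :
    Nonempty ((Scheme.Modules.pullback (fibIso K n x p q h).hom).obj (Twist.twistProjSpace n K m) ≅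
      (Scheme.Modules.pullback p).obj (Twist.twistOver n S m)) := by
  obtain ⟨b⟩ := nonempty_twistBC_int (φ₀ K) n m
  exact ⟨(Scheme.Modules.pullback (fibIso K n x p q h).hom).mapIso b.symm ≪≫
    (Scheme.Modules.pullbackComp (fibIso K n x p q h).hom (γγ (φ₀ K) n)).app
      (Twist.twistProjSpace n (ULift.{u} ℤ) m) ≪≫
    (Scheme.Modules.pullbackCongr (fibIso_hom_γγ K n x p q h)).app
      (Twist.twistProjSpace n (ULift.{u} ℤ) m) ≪≫
    ((Scheme.Modules.pullbackComp p (pullback.fst (CohB1.ProjSpace.toSpec n (ULift.{u} ℤ))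
      (specULiftZIsTerminal.from S))).app (Twist.twistProjSpace n (ULift.{u} ℤ) m)).symm⟩

end Groth.Agent.Helper1.HS
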