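import Mathlib

open Finset Polynomial

namespace Groth.Agent.Helper1.FinDiff

/-- a function `ℤ → ℚ` whose `N`-th finite difference vanishes identically is given by a
polynomial -/
theorem exists_poly (N : ℕ) (φ : ℤ → ℚ)
    (h : ∀ s : ℤ, ∑ k ∈ range (N + 1), ((-1 : ℚ) ^ (N - k) * (N.choose k : ℚ)) * φ (s + k) = 0) :
    ∃ P : Polynomial ℚ, ∀ s : ℤ, φ s = P.eval (s : ℚ) := by
  classical
  let P : Polynomial ℚ := Lagrange.interpolate (range N) (fun i : ℕ => (i : ℚ)) (fun i => φ i)
  have hinj : Set.InjOn (fun i : ℕ => (i : ℚ)) (range N : Set ℕ) :=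
    fun a _ b _ hab => Nat.cast_injective hab
  have hdeg : P.natDegree < N ∨ N = 0 := by
    rcases Nat.eq_zero_or_pos N with h0 | h0
    · exact Or.inr h0
    · left
      have h1 : P.degree < _ := Lagrange.degree_interpolate_lt (r := fun i : ℕ => φ (i : ℤ)) hinj
      rw [card_range] at h1
      by_cases hP : P = 0
      · rw [hP]; simpa using h0
      · exact (natDegree_lt_iff_degree_lt hP).2 h1
  refine ⟨P, ?_⟩
  -- the difference
  let g : ℤ → ℚ := fun s => φ s - P.eval (s : ℚ)
  have hgP : ∀ s : ℤ, ∑ k ∈ range (N + 1), ((-1 : ℚ) ^ (N - k) * (N.choose k : ℚ)) *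
      P.eval ((s + k : ℤ) : ℚ) = 0 := by
    intro s
    rcases hdeg with hd | h0
    · have h1 := congrFun (Polynomial.fwdDiff_iter_eq_zero_of_degree_lt hd) (s : ℚ)
      rw [fwdDiff_iter_eq_sum_shift] at h1
      simp only [Pi.zero_apply] at h1
      rw [← h1]
      refine sum_congr rfl (fun k _ => ?_)
      simp only [zsmul_eq_mul, nsmul_eq_mul, mul_one, Int.cast_mul, Int.cast_pow, Int.cast_neg,
        Int.cast_one, Int.cast_natCast, Int.cast_add]
    · subst h0
      have : P = 0 := by simp [P]
      simp [this]
  have hg : ∀ s : ℤ, ∑ k ∈ range (N + 1), ((-1 : ℚ) ^ (N - k) * (N.choose k : ℚ)) * g (s + k) = 0 := by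
    intro s
    simp only [g, mul_sub, sum_sub_distrib]
    rw [h s, hgP s, sub_zero]
  have hg0 : ∀ i : ℕ, i < N → g i = 0 := by
    intro i hi
    simp only [g]
    have : P.eval _ = _ := Lagrange.eval_interpolate_at_node (r := fun i : ℕ => φ (i : ℤ)) hinj (mem_range.2 hi)
    simp only [Int.cast_natCast]
    rw [sub_eq_zero]
    exact this.symm
  have key : ∀ m : ℕ, ∀ s : ℤ, -(m : ℤ) ≤ s → s < N + m → g s = 0 := by
    intro m
    induction m with
    | zero =>
      intro s hs1 hs2
      obtain ⟨i, rfl⟩ := Int.eq_ofNat_of_zero_le (by simpa using hs1)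
      exact hg0 i (by simpa using hs2)
    | succ m ih =>
      intro s hs1 hs2
      by_cases h1 : s = N + m
      · -- top term of the recurrence at `m`
        have hr := hg m
        rw [sum_range_succ, Nat.sub_self, pow_zero, Nat.choose_self, Nat.cast_one, one_mul,
          sum_eq_zero, zero_add] at hr
        · rw [one_mul] at hr
          rw [h1, add_comm]; exact hr
        · intro k hk
          rw [ih (m + k) (by omega) (by have := mem_range.1 hk; omega), mul_zero]
      · by_cases h2 : s = -((m : ℤ) + 1)
        · have hr := hg s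
          rw [sum_range_succ', sum_eq_zero, zero_add] at hr
          · simp only [Nat.sub_zero, Nat.choose_zero_right, Nat.cast_one, mul_one, Nat.cast_zero,
              add_zero] at hr
            rcases mul_eq_zero.1 hr with h3 | h3
            · exact absurd h3 (pow_ne_zero _ (by norm_num))
            · exact h3
          · intro k hk
            have := mem_range.1 hk
            rw [ih (s + ((k + 1 : ℕ) : ℤ)) (by push_cast; omega) (by push_cast; omega), mul_zero]
        · exact ih s (by push_cast at hs1; omega) (by push_cast at hs2; omega)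
  intro s
  have := key (s.natAbs + 1) s (by omega) (by omega)
  simp only [g] at this
  linarith

end Groth.Agent.Helper1.FinDiff
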