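import Mathlib
import Groth.Agent.Helper1.EulerCoh
import Groth.Agent.Helper1.FinDiff
import Groth.Agent.Helper1.KzPn
import Groth.Agent.Helper1.KzLin3
import Groth.Agent.Lead.PerfLib5

/-!
# The Hilbert polynomial of a coherent module on `P^n_A`, `A` artinian
-/

set_option autoImplicit false
set_option linter.style.haveILetI false
set_option linter.unusedSectionVars false

namespace Groth.Agent.Helper1.EulerPn

open CategoryTheory Limits AlgebraicGeometry Opposite Abelian Finset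
open Groth.Agent.Helper1.HHLes Groth.Agent.Helper1.ProjTop Groth.Agent.Helper1.HHSum
  Groth.Agent.Helper1.EulerLen Groth.Agent.Helper1.EulerCoh Groth.Agent.Helper1.KzMain
  Groth.Agent.Helper1.KzPn Groth.Agent.Helper1.SerreFin Groth.Agent.Helper1.KzSheaf
  Groth.Agent.Helper1.KzLin

universe u

variable (n : ℕ) (A : Type u) [CommRing A] [IsArtinianRing A]

local notation "ℙ" => CohB1.ProjSpace n A

theorem isLocallyNoetherian_projSpace : IsLocallyNoetherian (CohB1.ProjSpace n A) := by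
  haveI : IsNoetherianRing (MvPolynomial (Fin (n + 1)) A) := inferInstance
  haveI : IsNoetherian (CohB1.ProjSpace n A) :=
    Groth.Agent.Helper3.ProjNoeth.main (CohB1.polyGrading n A)
  infer_instance

/-- coherent modules on `P^n_A` have finite-length cohomology vanishing above `n` -/
theorem finLen_of_isCoh (F : (CohB1.ProjSpace n A).Modules) (hF : Coh.IsCoh F) :
    FinLen A (n + 1) F := by
  refine ⟨fun j => ?_, fun j hj => ?_⟩
  · haveI := finite_HH n A F hF j
    exact Module.length_ne_top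
  · haveI : Coh.IsQCoh F := hF.1
    exact Groth.Agent.S0022.result n A F j (by omega)

variable (F : (CohB1.ProjSpace n A).Modules) (hF : Coh.IsCoh F)

/-- `χ(F(s))` -/
noncomputable def chiTw (s : ℤ) : ℤ :=
  chi A (n + 1) (CohB1.tensorMod F (Twist.twistProjSpace n A s))

include hF in
/-- the relation given by the Koszul complex -/
theorem koszul_relation (s : ℤ) :
    ∑ p ∈ range (n + 2), (-1 : ℤ) ^ p * (((n + 1).choose p : ℕ) : ℤ) * chiTw n A F (s - p) = 0 := by
  haveI := isLocallyNoetherian_projSpace n A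
  obtain ⟨N, i1, i2, i3, i4, 𝒩, i5, i6, -, he⟩ := exists_tilde_iso n A F hF
  have hcohT : ∀ t : ℤ, Coh.IsCoh (GrTilde.tilde (CohB1.polyGrading n A) 𝒩 t) := fun t =>
    Groth.Agent.Lead.PerfLib.isCoh_of_iso (he t).some (isCoh_tw n A F hF t)
  have hiso : ∀ p : ℕ, Nonempty (Cs (CohB1.polyGrading n A) 𝒩 (n + 1) s p ≅
      ∐ fun _ : Fin (Nat.choose (n + 1) p) =>
        GrTilde.tilde (CohB1.polyGrading n A) 𝒩 (s - p)) := fun p =>
    nonempty_C_iso_sigma (CohB1.polyGrading n A) 𝒩 (n + 1) p (s - p)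
  have hcohC : ∀ p : ℕ, Coh.IsCoh (Cs (CohB1.polyGrading n A) 𝒩 (n + 1) s p) := fun p =>
    Groth.Agent.Lead.PerfLib.isCoh_of_iso (hiso p).some.symm
      (isCoh_sigma_fin _ (fun _ => hcohT (s - p)))
  have hchi : ∀ p : ℕ, chi A (n + 1) (Cs (CohB1.polyGrading n A) 𝒩 (n + 1) s p) =
      (((n + 1).choose p : ℕ) : ℤ) * chiTw n A F (s - p) := by
    intro p
    have h1 := chi_of_iso (A := A) (X := CohB1.ProjSpace n A) (hiso p).some (n + 1)
    have h2 := chi_sigma_const (A := A) (X := CohB1.ProjSpace n A) ((n + 1).choose p)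
      (GrTilde.tilde (CohB1.polyGrading n A) 𝒩 (s - p)) (n + 1)
    have h3 := chi_of_iso (A := A) (X := CohB1.ProjSpace n A) (he (s - p)).some (n + 1)
    exact h1.trans (h2.trans (congrArg (fun z => (((n + 1).choose p : ℕ) : ℤ) * z) h3.symm))
  haveI : Epi (C := (CohB1.ProjSpace n A).Modules)
      (ds (CohB1.polyGrading n A) 𝒩 (xs n A) (xs_mem n A) (n + 1) s 0) :=
    ds_epi (CohB1.polyGrading n A) 𝒩 (xs n A) (xs_mem n A) (n + 1) (xs_cov n A) s
  haveI : IsLocallyNoetherian (Proj (CohB1.polyGrading n A)) := isLocallyNoetherian_projSpace n A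
  have h := chi_complex (A := A) (X := CohB1.ProjSpace n A) (Cs (CohB1.polyGrading n A) 𝒩 (n + 1) s)
    (ds (CohB1.polyGrading n A) 𝒩 (xs n A) (xs_mem n A) (n + 1) s)
    (ds_comp (CohB1.polyGrading n A) 𝒩 (xs n A) (xs_mem n A) (n + 1) s)
    (ds_exact (CohB1.polyGrading n A) 𝒩 (xs n A) (xs_mem n A) (n + 1) (xs_cov n A) s)
    (n + 1) (fun p => finLen_of_isCoh n A _ (hcohC p))
    (fun p => finLen_of_isCoh n A _
      (Groth.Agent.Lead.PerfLib.isCoh_kernel (hcohC (p + 1)) (hcohC p) _))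
    (n + 1) (Cs_isZero (CohB1.polyGrading n A) 𝒩 (n + 1) s)
  have hz := chi_of_isZero (A := A) (X := CohB1.ProjSpace n A)
    (Cs_isZero (CohB1.polyGrading n A) 𝒩 (n + 1) s (n + 1 + 1) (by omega)) (n + 1)
  rw [sum_range_succ] at h
  have h' : ∑ p ∈ range (n + 2), (-1 : ℤ) ^ p * chi (X := CohB1.ProjSpace n A) A (n + 1)
      (Cs (CohB1.polyGrading n A) 𝒩 (n + 1) s p) = 0 := by
    have h2 : (-1 : ℤ) ^ (n + 1 + 1) * chi (X := CohB1.ProjSpace n A) A (n + 1)
        (Cs (CohB1.polyGrading n A) 𝒩 (n + 1) s (n + 1 + 1)) = 0 := by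
      rw [hz, mul_zero]
    exact (add_zero _).symm.trans ((congrArg (fun z => _ + z) h2.symm).trans h)
  refine Eq.trans ?_ h'
  refine sum_congr rfl (fun p _ => ?_)
  rw [mul_assoc]
  exact congrArg (fun z => (-1 : ℤ) ^ p * z) (hchi p).symm

include hF in
/-- **the Hilbert polynomial** -/
theorem exists_hilbert_poly :
    ∃ P : Polynomial ℚ, ∀ s : ℤ, ((chiTw n A F s : ℤ) : ℚ) = P.eval (s : ℚ) := by
  apply Groth.Agent.Helper1.FinDiff.exists_poly (n + 1) (fun s => ((chiTw n A F s : ℤ) : ℚ))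
  intro s
  have h := koszul_relation n A F hF (s + ((n + 1 : ℕ) : ℤ))
  have h2 : ∑ k ∈ range (n + 1 + 1), ((-1 : ℤ) ^ (n + 1 - k) * (((n + 1).choose k : ℕ) : ℤ)) *
      chiTw n A F (s + k) = 0 := by
    rw [← h, ← sum_range_reflect (fun p : ℕ => (-1 : ℤ) ^ p * (((n + 1).choose p : ℕ) : ℤ) *
      chiTw n A F (s + ((n + 1 : ℕ) : ℤ) - p)) (n + 2)]
    refine sum_congr rfl (fun k hk => ?_)
    have hk' : k ≤ n + 1 := by have := mem_range.1 hk; omega
    have e1 : n + 2 - 1 - k = n + 1 - k := by omega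
    have e2 : s + ((n + 1 : ℕ) : ℤ) - ((n + 1 - k : ℕ) : ℤ) = s + k := by
      rw [Nat.cast_sub hk']; ring
    simp only [e1, e2, Nat.choose_symm hk']
  have h3 := congrArg (fun z : ℤ => (z : ℚ)) h2
  simp only [Int.cast_sum, Int.cast_mul, Int.cast_pow, Int.cast_neg, Int.cast_one,
    Int.cast_natCast, Int.cast_zero] at h3
  exact h3

end Groth.Agent.Helper1.EulerPn
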