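import Mathlib
import Groth.Agent.Helper1.HS2
import Groth.Agent.S2426
import Groth.Agent.Helper1.ProjTop8
import Groth.Agent.Lead.FlatUnivJ
import Groth.Agent.Helper1.AffLin
import Groth.Agent.S0022
import Groth.Agent.Helper4.QcohGlue

/-!
# HS3: the Hilbert polynomial of the restriction of a coherent module on `P^n_S` to a fibre over
a field-valued point, and the vanishing of the cohomology of the fibre above `n`
-/

set_option autoImplicit false
set_option linter.style.haveILetI false
set_option linter.unusedSectionVars false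

universe u
open CategoryTheory CategoryTheory.Limits AlgebraicGeometry Opposite

namespace Groth.Agent.Helper1.HS

variable (K : Type u) [Field K] {S : Scheme.{u}} (n : ℕ) (x : Spec (CommRingCat.of K) ⟶ S)
  {Y : Scheme.{u}} [Y.Over (Spec (CommRingCat.of K))] (p : Y ⟶ CohB1.ProjSpaceOver n S)
  (h : IsPullback p (Y ↘ Spec (CommRingCat.of K)) (CohB1.ProjSpaceOver.toBase n S) x)

theorem length_toNat_eq_finrank (M : Type u) [AddCommGroup M] [Module K M] :
    (Module.length K M).toNat = Module.finrank K M := by
  rw [Module.length_eq_rank, Module.finrank]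
  simp

include h in
/-- **the Hilbert polynomial of a fibre** -/
theorem exists_hilbert_poly_fibre (F : (CohB1.ProjSpaceOver n S).Modules) (hF : Coh.IsCoh F) :
    ∃ P : Polynomial ℚ, ∀ m : ℤ,
      (FGA.eulerCharLE K Y (CohB1.tensorMod ((Scheme.Modules.pullback p).obj F)
        ((Scheme.Modules.pullback p).obj (Twist.twistOver n S m))) n : ℚ) = P.eval (m : ℚ) := by
  haveI : IsClosedImmersion (fibIso K n x p _ h).hom := inferInstance
  obtain ⟨P, hP⟩ := Groth.Agent.S2426.result K n Y (fibIso K n x p _ h).hom
    (fibIso_hom_toSpec K n x p _ h) ((Scheme.Modules.pullback p).obj F)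
    (Groth.Agent.Lead.FlatUnivJ.isCoh_pullback p F hF)
  refine ⟨P, fun m => ?_⟩
  rw [← hP m]
  unfold FGA.eulerCharLE
  push_cast
  refine Finset.sum_congr rfl (fun j _ => ?_)
  obtain ⟨θ⟩ := nonempty_fibIso_twist K n x p _ h m
  have e := Groth.Agent.Helper1.ProjTop.HHlinEquiv K
    (PicGrp.tensorModIso (Iso.refl ((Scheme.Modules.pullback p).obj F)) θ) j
  rw [length_toNat_eq_finrank, e.finrank_eq]

include h in
/-- the cohomology of a fibre vanishes above `n` -/
theorem subsingleton_HH_fibre_gt (M : Y.Modules) [Coh.IsQCoh M] (j : ℕ) (hj : n < j) :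
    Subsingleton (Coh.HH Y M j) := by
  haveI : IsAffineHom (fibIso K n x p _ h).hom := inferInstance
  obtain ⟨e⟩ := Groth.Agent.Helper1.AffLin.nonempty_HH_linearEquiv (fibIso K n x p _ h).hom K
    (fibIso_hom_toSpec K n x p _ h) M j
  haveI : Coh.IsQCoh ((Coh.push (fibIso K n x p _ h).hom).obj M) :=
    Groth.Agent.Helper4.QcohGlue.isQuasicoherent_pushforward _ M
  haveI := Groth.Agent.S0022.result n K ((Coh.push (fibIso K n x p _ h).hom).obj M) j hj
  exact e.toEquiv.subsingleton

end Groth.Agent.Helper1.HS
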