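import Mathlib

/-!
# HS4: families of locally constant functions on a noetherian space take finitely many values
-/

set_option autoImplicit false

namespace Groth.Agent.Helper1.HS

theorem finite_range_of_isLocallyConstant {T : Type*} [TopologicalSpace T]
    [TopologicalSpace.NoetherianSpace T] {ι α : Type*} (g : T → ι → α)
    (hg : ∀ i, IsLocallyConstant (fun t => g t i)) : (Set.range g).Finite := by
  classical
  rcases isEmpty_or_nonempty T with hT | hT
  · have : Set.range g = ∅ := Set.range_eq_empty g
    rw [this]; exact Set.finite_empty
  have hfin : (irreducibleComponents T).Finite :=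
    TopologicalSpace.NoetherianSpace.finite_irreducibleComponents
  choose! pt hpt using
    (fun (C : Set T) (hC : C ∈ irreducibleComponents T) => (hC.1.nonempty : C.Nonempty))
  refine (hfin.image (fun C => g (pt C))).subset ?_
  rintro _ ⟨t, rfl⟩
  refine ⟨irreducibleComponent t, irreducibleComponent_mem_irreducibleComponents t, ?_⟩
  funext i
  exact (hg i).apply_eq_of_isPreconnected
    isIrreducible_irreducibleComponent.2.isPreconnected
    (hpt _ (irreducibleComponent_mem_irreducibleComponents t)) mem_irreducibleComponent

end Groth.Agent.Helper1.HS
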