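import Groth.Agent.Helper1.SL2

set_option autoImplicit false
set_option linter.style.haveILetI false
set_option linter.unusedSectionVars false
set_option linter.unusedVariables false

/-!
# The closed seesaw subscheme of a line bundle (integral geometric fibres)
-/

namespace Groth.Agent.Helper1.SS

open CategoryTheory AlgebraicGeometry AlgebraicGeometry.Scheme.Modules TopologicalSpace Topology
open Groth.Agent.Helper1.UGC Groth.Agent.Helper4 Groth.Agent.Helper4.FinLocFree

universe u

theorem lofp_of_isLocallyNoetherian {X Y : Scheme.{u}} (f : X ⟶ Y)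
    [IsLocallyNoetherian Y] [LocallyOfFiniteType f] : LocallyOfFinitePresentation f := by
  rw [HasRingHomProperty.iff_appLE (P := @LocallyOfFinitePresentation)]
  intro U V e
  have : IsNoetherianRing Γ(Y, U) := IsLocallyNoetherian.component_noetherian U
  rw [← RingHom.FinitePresentation.of_finiteType]
  exact (HasRingHomProperty.iff_appLE (P := @LocallyOfFiniteType)).mp ‹_› U V e

/-- a geometrically integral morphism is surjective -/
theorem surjective_of_geometricallyIntegral {X S : Scheme.{u}} (f : X ⟶ S)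
    [GeometricallyIntegral f] : Surjective f := by
  refine ⟨fun s => ?_⟩
  haveI : IsIntegral (f.fiber s) :=
    fiber_of_geometrically (GeometricallyIntegral.geometrically_isIntegral (f := f)) s
  obtain ⟨y⟩ := (inferInstance : Nonempty (f.fiber s))
  have hy : (f.fiberι s) y ∈ Set.range (f.fiberι s) := ⟨y, rfl⟩
  rw [f.range_fiberι s] at hy
  exact ⟨(f.fiberι s) y, hy⟩

/-- a finite locally free module whose pullback along a surjective morphism has rank `r` has
rank `r` -/
theorem isFinLocFreeOfRank_of_pullback {Y T : Scheme.{u}} (p : Y ⟶ T) [Surjective p]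
    (N : T.Modules) (hN : FlatMod.IsFinLocFree N) (r : ℕ)
    (h : FlatMod.IsFinLocFreeOfRank r ((pullback p).obj N)) : FlatMod.IsFinLocFreeOfRank r N := by
  haveI : N.IsQuasicoherent := FinLocFree4.isQuasicoherent_of_isFinLocFree N hN
  haveI : ((pullback p).obj N).IsQuasicoherent :=
    Groth.Agent.Lead.StalkPull.isQuasicoherent_pullbackObj p N
  intro t
  obtain ⟨y, rfl⟩ := p.surjective t
  obtain ⟨r', hr'⟩ := exists_mem_rankOpen N hN (p y)
  have h1 := mem_rankOpen_pullback p N r' y hr'
  have h2 := mem_rankOpen_of_isFinLocFreeOfRank h y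
  have : r' = r := rank_eq_of_mem_rankOpen _ h1 h2
  subst this
  obtain ⟨U, hx, hU⟩ := (mem_rankOpen_iff N r' _).mp hr'
  exact ⟨U, hx, hU⟩

set_option maxHeartbeats 1600000 in
/-- **the closed seesaw subscheme of a line bundle** -/
theorem exists_closed_seesaw {X S : Scheme.{u}} (f : X ⟶ S) [IsProper f] [Flat f]
    [LocallyOfFinitePresentation f] [GeometricallyIntegral f]
    (L : X.Modules) (hL : FlatMod.IsFinLocFreeOfRank 1 L) :
    ∃ (Z : Scheme.{u}) (ι : Z ⟶ S), IsClosedImmersion ι ∧
      ∀ (T : Scheme.{u}) (u : T ⟶ S),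
        ((∃ u' : T ⟶ Z, u' ≫ ι = u) ↔
          ∃ M : T.Modules, FlatMod.IsFinLocFreeOfRank 1 M ∧
            Nonempty ((pullback (Limits.pullback.fst f u)).obj L ≅
              (pullback (Limits.pullback.snd f u)).obj M)) := by
  have hLf : FlatMod.IsFinLocFree L := isFinLocFree_of_rank hL
  have hLinv : PicF.IsInvertible L := fun x => by
    obtain ⟨U, hx, ⟨e⟩⟩ := hL x
    exact ⟨U, hx, ⟨e ≪≫ Groth.Agent.Helper4.QAffSec.freeOneIso _⟩⟩
  have h := fun s => Groth.Agent.Helper1.SW.isIso_appTop_of_geometricallyIntegral f s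
  haveI : Surjective f := surjective_of_geometricallyIntegral f
  obtain ⟨P⟩ := nonempty_rankPiece f h L hLf 1
  haveI := P.imm
  have UP : ∀ (T : Scheme.{u}) (u : T ⟶ S),
      ((∃ u' : T ⟶ P.Z, u' ≫ P.j = u) ↔
        ∃ M : T.Modules, FlatMod.IsFinLocFreeOfRank 1 M ∧
          Nonempty ((pullback (Limits.pullback.fst f u)).obj L ≅
            (pullback (Limits.pullback.snd f u)).obj M)) := fun T u =>
    P.up u (Limits.pullback.snd f u) (Limits.pullback.fst f u) (IsPullback.of_hasPullback f u)
  refine ⟨P.Z, P.j, ?_, UP⟩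
  apply isClosedImmersion_of_geometricallyIntegral f L hLinv P.j
  intro T g
  rw [UP T g]
  constructor
  · rintro ⟨M, hM, ⟨e⟩⟩
    exact ⟨M, isFinLocFree_of_rank hM, ⟨e.symm⟩⟩
  · rintro ⟨N, hN, ⟨e⟩⟩
    refine ⟨N, ?_, ⟨e.symm⟩⟩
    apply isFinLocFreeOfRank_of_pullback (Limits.pullback.snd f g) N hN 1
    exact Groth.Agent.Helper2.FinLocFreeLim.isFinLocFreeOfRank_of_iso e.symm
      (Groth.Agent.Helper2.FinLocFreeLim.isFinLocFreeOfRank_pullback _ hL)

end Groth.Agent.Helper1.SS
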