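import Mathlib
import Groth.Agent.Helper1.HS4
import Groth.Agent.Helper1.HP9
import Groth.Agent.Helper1.PDeg1
import Groth.Agent.Helper1.NoethApx6
import Groth.Agent.Helper1.FlatTw1
import Groth.Agent.Helper1.SL3
import Groth.Agent.Lead.GFStratN
import Groth.Agent.Lead.IntNumBC
import Groth.Agent.Lead.FlatUnivJ
import Groth.Agent.Helper4.CohFP
import Groth.Agent.Helper4.PullSec

/-!
# HS5: over a noetherian base, the Euler characteristics of the fibres of the twists of a coherent
module by a family of invertible modules form finitely many functions of the index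
-/

set_option autoImplicit false
set_option linter.style.haveILetI false
set_option linter.unusedSectionVars false

universe u
open CategoryTheory CategoryTheory.Limits AlgebraicGeometry Opposite TopologicalSpace

namespace Groth.Agent.Helper1.HS

open Groth.Agent.Lead.GFStrat

variable {X S : Scheme.{u}} (f : X ⟶ S) [IsProper f] [IsNoetherian S]

/-- the stratum `V(J) ∖ V(J')` is a noetherian scheme -/
theorem noeth_stratum (J J' : S.IdealSheafData) :
    IsLocallyNoetherian (↑(J.subschemeι ⁻¹ᵁ J'.support.compl) : Scheme.{u}) ∧
      NoetherianSpace (↑(J.subschemeι ⁻¹ᵁ J'.support.compl) : Scheme.{u}) := by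
  haveI : IsLocallyNoetherian J.subscheme :=
    LocallyOfFiniteType.isLocallyNoetherian J.subschemeι
  haveI : CompactSpace J.subscheme := QuasiCompact.compactSpace_of_compactSpace J.subschemeι
  haveI : IsNoetherian J.subscheme := {}
  haveI : NoetherianSpace J.subscheme := inferInstance
  refine ⟨inferInstance, ?_⟩
  exact (J.subschemeι ⁻¹ᵁ J'.support.compl).ι.isOpenEmbedding.isInducing.noetherianSpace

/-- flat case: finitely many Euler characteristic functions -/
theorem finite_range_eulerChar_of_flat {W : Scheme.{u}} [IsLocallyNoetherian W] [NoetherianSpace W]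
    {XW : Scheme.{u}} (g : XW ⟶ W) [IsProper g] (F : XW.Modules) (hF : Coh.IsCoh F)
    (hfl : FlatMod.IsFlatOver g F) {ι : Type*} (L : ι → XW.Modules)
    (hL : ∀ i, PicF.IsInvertible (L i)) :
    (Set.range (fun w : W => fun i => PerfAux.eulerChar g (CohB1.tensorMod F (L i)) w)).Finite := by
  haveI : LocallyOfFinitePresentation g := Groth.Agent.Helper1.SS.lofp_of_isLocallyNoetherian g
  haveI : IsLocallyNoetherian XW := LocallyOfFiniteType.isLocallyNoetherian g
  apply finite_range_of_isLocallyConstant
  intro i
  have hB := Groth.Agent.Helper1.SerreFin.isCoh_of_isInvertible _ (hL i)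
  have hcoh : Coh.IsCoh (CohB1.tensorMod F (L i)) :=
    Groth.Agent.Lead.Ref1B.isCoh_tensorMod F (L i) hF hB
  exact Groth.Agent.Helper1.NoethApx.isLocallyConstant_eulerChar g _
    (Groth.Agent.Helper4.CohFP.isFP_of_isCoh _ hcoh.1 hcoh.2)
    ((Groth.Agent.Helper1.FlatTw.isFlatOver_tensor_iff g F _ (hL i)).2 hfl)

omit [AlgebraicGeometry.IsNoetherian S] in
/-- the Euler characteristic of a fibre, computed after base change -/
theorem eulerChar_base_change {W : Scheme.{u}} (j : W ⟶ S) (F L : X.Modules)
    (hq : (CohB1.tensorMod F L).IsQuasicoherent) (w : W) :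
    PerfAux.eulerChar f (CohB1.tensorMod F L) (j w) =
      PerfAux.eulerChar (pullback.snd f j)
        (CohB1.tensorMod ((Scheme.Modules.pullback (pullback.fst f j)).obj F)
          ((Scheme.Modules.pullback (pullback.fst f j)).obj L)) w := by
  have h1 := Groth.Agent.Helper1.HP.eulerChar_pullback_of_qcoh
    (IsPullback.of_hasPullback f j) (CohB1.tensorMod F L) w
  have h2 := Groth.Agent.Helper1.PDeg.eulerChar_congr (pullback.snd f j)
    (Groth.Agent.Lead.IntNumBC.pullTensorIso (pullback.fst f j) F L) w
  exact h1.symm.trans h2

/-- **finitely many Euler characteristic functions over a noetherian base** -/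
theorem finite_range_eulerChar (F : X.Modules) (hF : Coh.IsCoh F) {ι : Type*} (L : ι → X.Modules)
    (hL : ∀ i, PicF.IsInvertible (L i)) :
    (Set.range (fun s : S => fun i => PerfAux.eulerChar f (CohB1.tensorMod F (L i)) s)).Finite := by
  haveI : LocallyOfFinitePresentation f := Groth.Agent.Helper1.SS.lofp_of_isLocallyNoetherian f
  haveI : IsLocallyNoetherian X := LocallyOfFiniteType.isLocallyNoetherian f
  haveI : F.IsQuasicoherent := hF.1
  have hFP : CohB1.IsFP F := Groth.Agent.Helper4.CohFP.isFP_of_isCoh _ hF.1 hF.2
  have hq : ∀ i, (CohB1.tensorMod F (L i)).IsQuasicoherent := fun i =>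
    (Groth.Agent.Lead.Ref1B.isCoh_tensorMod F (L i) hF
      (Groth.Agent.Helper1.SerreFin.isCoh_of_isInvertible _ (hL i))).1
  suffices H : ∀ Z : Closeds S, ((fun s : S => fun i =>
      PerfAux.eulerChar f (CohB1.tensorMod F (L i)) s) '' (Z : Set S)).Finite by
    have := H ⊤
    rwa [Closeds.coe_top, Set.image_univ] at this
  intro Z
  induction Z using WellFoundedLT.induction with
  | ind Z ih =>
    by_cases hZ : Z = ⊥
    · subst hZ
      rw [Closeds.coe_bot, Set.image_empty]
      exact Set.finite_empty
    · obtain ⟨Z', hlt, hflat⟩ := exists_stratum f F hF.1 hFP Z hZ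
      obtain ⟨hW1, hW2⟩ := noeth_stratum (Scheme.IdealSheafData.vanishingIdeal Z)
        (Scheme.IdealSheafData.vanishingIdeal Z')
      have hfinW := finite_range_eulerChar_of_flat (pullback.snd f (stratumι
          (Scheme.IdealSheafData.vanishingIdeal Z) (Scheme.IdealSheafData.vanishingIdeal Z')))
        ((Scheme.Modules.pullback (pullback.fst f (stratumι
          (Scheme.IdealSheafData.vanishingIdeal Z) (Scheme.IdealSheafData.vanishingIdeal Z')))).obj F)
        (Groth.Agent.Lead.FlatUnivJ.isCoh_pullback _ F hF) hflat
        (fun i => (Scheme.Modules.pullback (pullback.fst f (stratumι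
          (Scheme.IdealSheafData.vanishingIdeal Z)
          (Scheme.IdealSheafData.vanishingIdeal Z')))).obj (L i))
        (fun i => Groth.Agent.Helper4.PullSec.isInvertible_pullback _ (hL i))
      have hfin := (ih Z' hlt).union hfinW
      refine Set.Finite.subset hfin ?_
      rintro _ ⟨s, hs, rfl⟩
      by_cases hs' : s ∈ (Z' : Set S)
      · exact Or.inl ⟨s, hs', rfl⟩
      · right
        have hrange : Set.range (Scheme.IdealSheafData.vanishingIdeal Z).subschemeι =
            (Z : Set S) := by
          rw [Scheme.IdealSheafData.range_subschemeι,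
            Scheme.IdealSheafData.coe_support_vanishingIdeal]
        rw [← hrange] at hs
        obtain ⟨z, rfl⟩ := hs
        have hz : z ∈ (Scheme.IdealSheafData.vanishingIdeal Z).subschemeι ⁻¹ᵁ
            (Scheme.IdealSheafData.vanishingIdeal Z').support.compl := by
          change (Scheme.IdealSheafData.vanishingIdeal Z).subschemeι z ∉
            ((Scheme.IdealSheafData.vanishingIdeal Z').support : Set S)
          rw [Scheme.IdealSheafData.coe_support_vanishingIdeal]
          exact hs'
        refine ⟨⟨z, hz⟩, ?_⟩
        funext i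
        exact (eulerChar_base_change f (stratumι (Scheme.IdealSheafData.vanishingIdeal Z)
          (Scheme.IdealSheafData.vanishingIdeal Z')) F (L i) (hq i) ⟨z, hz⟩).symm

end Groth.Agent.Helper1.HS
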