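import Mathlib
import Groth.Agent.Helper1.HS3
import Groth.Agent.Helper1.HS5
import Groth.Agent.Helper1.FlatTw2
import Groth.Agent.Helper6.HProj
import Groth.Prelude.Def_FGA

/-!
# HS6: the Euler characteristics of the fibres in the form of `FGA`, in terms of Betti numbers
-/

set_option autoImplicit false
set_option linter.style.haveILetI false
set_option linter.unusedSectionVars false

universe u
open CategoryTheory CategoryTheory.Limits AlgebraicGeometry Opposite TopologicalSpace

namespace Groth.Agent.Helper1.HS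

section Bridge

variable {X S : Scheme.{u}} (f : X ⟶ S)

/-- the alternating sum of the first Betti numbers of a fibre -/
noncomputable def chiLE (G : X.Modules) (s : S) (n : ℕ) : ℤ :=
  (Finset.range (n + 1)).sum fun j => (-1 : ℤ) ^ j * (PerfAux.betti f G s j : ℤ)

/-- the Euler characteristic of `FGA` of the fibre of the identity base change -/
theorem eulerCharLE_fibreAt_eq [QuasiCompact f] [QuasiSeparated f] (A B : X.Modules)
    (hq : (CohB1.tensorMod A B).IsQuasicoherent) (s : (Over.mk (𝟙 S)).left) (n : ℕ) :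
    FGA.eulerCharLE ((Over.mk (𝟙 S)).left.residueField s) (FGA.fibreAt f (Over.mk (𝟙 S)) s).left
      (CohB1.tensorMod (FGA.restrFibre f (Over.mk (𝟙 S)) s (FGA.ET f A (Over.mk (𝟙 S))))
        (FGA.restrFibre f (Over.mk (𝟙 S)) s (FGA.ET f B (Over.mk (𝟙 S))))) n =
      chiLE f (CohB1.tensorMod A B) s n := by
  have e : CohB1.tensorMod (FGA.restrFibre f (Over.mk (𝟙 S)) s (FGA.ET f A (Over.mk (𝟙 S))))
        (FGA.restrFibre f (Over.mk (𝟙 S)) s (FGA.ET f B (Over.mk (𝟙 S)))) ≅
      FGA.restrFibre f (Over.mk (𝟙 S)) s (FGA.ET f (CohB1.tensorMod A B) (Over.mk (𝟙 S))) :=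
    (Groth.Agent.Lead.IntNumBC.pullTensorIso _ _ _).symm ≪≫
      (Scheme.Modules.pullback _).mapIso (Groth.Agent.Lead.IntNumBC.pullTensorIso _ A B).symm
  rw [Groth.Agent.Lead.IntNumBC.eulerCharLE_congr _ _ e n]
  unfold FGA.eulerCharLE chiLE
  refine Finset.sum_congr rfl (fun j _ => ?_)
  have h1 := Groth.Agent.Helper1.HP.betti_pullback_of_qcoh
    (IsPullback.of_hasPullback f (𝟙 S)) (CohB1.tensorMod A B) s j
  congr 2

end Bridge

section Pn

variable (S : Scheme.{u}) (n : ℕ)

/-- the Hilbert polynomial of the fibre, in the form of `FGA` -/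
theorem exists_poly_fibreAt (F : (CohB1.ProjSpaceOver n S).Modules) (hF : Coh.IsCoh F)
    (s : (Over.mk (𝟙 S)).left) :
    ∃ P : Polynomial ℚ, ∀ m : ℤ,
      (FGA.eulerCharLE ((Over.mk (𝟙 S)).left.residueField s)
        (FGA.fibreAt (CohB1.ProjSpaceOver.toBase n S) (Over.mk (𝟙 S)) s).left
        (CohB1.tensorMod
          (FGA.restrFibre (CohB1.ProjSpaceOver.toBase n S) (Over.mk (𝟙 S)) s
            (FGA.ET (CohB1.ProjSpaceOver.toBase n S) F (Over.mk (𝟙 S))))
          (FGA.restrFibre (CohB1.ProjSpaceOver.toBase n S) (Over.mk (𝟙 S)) s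
            (FGA.ET (CohB1.ProjSpaceOver.toBase n S) (Twist.twistOver n S m) (Over.mk (𝟙 S))))) n : ℚ) =
        P.eval (m : ℚ) := by
  have h1 : IsPullback
      (pullback.fst (PicF.XTproj (CohB1.ProjSpaceOver.toBase n S) (Over.mk (𝟙 S)))
        ((Over.mk (𝟙 S)).left.fromSpecResidueField s))
      (pullback.snd (PicF.XTproj (CohB1.ProjSpaceOver.toBase n S) (Over.mk (𝟙 S)))
        ((Over.mk (𝟙 S)).left.fromSpecResidueField s))
      (PicF.XTproj (CohB1.ProjSpaceOver.toBase n S) (Over.mk (𝟙 S)))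
      ((Over.mk (𝟙 S)).left.fromSpecResidueField s) := IsPullback.of_hasPullback _ _
  have h2 : IsPullback (pullback.fst (CohB1.ProjSpaceOver.toBase n S) (𝟙 S))
      (PicF.XTproj (CohB1.ProjSpaceOver.toBase n S) (Over.mk (𝟙 S)))
      (CohB1.ProjSpaceOver.toBase n S) (𝟙 S) := IsPullback.of_hasPullback _ _
  have h3' := h1.paste_horiz h2
  have h3 : IsPullback
      (pullback.fst (PicF.XTproj (CohB1.ProjSpaceOver.toBase n S) (Over.mk (𝟙 S)))
          ((Over.mk (𝟙 S)).left.fromSpecResidueField s) ≫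
        pullback.fst (CohB1.ProjSpaceOver.toBase n S) (𝟙 S))
      (pullback.snd (PicF.XTproj (CohB1.ProjSpaceOver.toBase n S) (Over.mk (𝟙 S)))
        ((Over.mk (𝟙 S)).left.fromSpecResidueField s))
      (CohB1.ProjSpaceOver.toBase n S) ((Over.mk (𝟙 S)).left.fromSpecResidueField s) :=
    Eq.mp (congrArg (fun g => IsPullback _ _ _ g)
      (Category.comp_id (S.fromSpecResidueField s))) h3'
  obtain ⟨P, hP⟩ := exists_hilbert_poly_fibre ((Over.mk (𝟙 S)).left.residueField s) n
    ((Over.mk (𝟙 S)).left.fromSpecResidueField s)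
    (Y := (FGA.fibreAt (CohB1.ProjSpaceOver.toBase n S) (Over.mk (𝟙 S)) s).left)
    (pullback.fst (PicF.XTproj (CohB1.ProjSpaceOver.toBase n S) (Over.mk (𝟙 S)))
        ((Over.mk (𝟙 S)).left.fromSpecResidueField s) ≫
      pullback.fst (CohB1.ProjSpaceOver.toBase n S) (𝟙 S)) h3 F hF
  refine ⟨P, fun m => ?_⟩
  rw [← hP m]
  congr 1
  apply Groth.Agent.Lead.IntNumBC.eulerCharLE_congr
  exact PicGrp.tensorModIso ((Scheme.Modules.pullbackComp _ _).app F)
    ((Scheme.Modules.pullbackComp _ _).app (Twist.twistOver n S m))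

/-- the Betti numbers of the fibres of `P^n_S → S` vanish above `n` -/
theorem betti_toBase_eq_zero (G : (CohB1.ProjSpaceOver n S).Modules) [G.IsQuasicoherent] (s : S)
    (j : ℕ) (hj : n < j) : PerfAux.betti (CohB1.ProjSpaceOver.toBase n S) G s j = 0 := by
  letI : ((CohB1.ProjSpaceOver.toBase n S).fiber s).Over
      (Spec (CommRingCat.of (S.residueField s))) :=
    ⟨(CohB1.ProjSpaceOver.toBase n S).fiberToSpecResidueField s⟩
  have h : IsPullback ((CohB1.ProjSpaceOver.toBase n S).fiberι s)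
      (((CohB1.ProjSpaceOver.toBase n S).fiber s) ↘ Spec (CommRingCat.of (S.residueField s)))
      (CohB1.ProjSpaceOver.toBase n S) (S.fromSpecResidueField s) :=
    IsPullback.of_hasPullback _ _
  haveI : Coh.IsQCoh ((Scheme.Modules.pullback ((CohB1.ProjSpaceOver.toBase n S).fiberι s)).obj G) :=
    Groth.Agent.Lead.StalkPull.isQuasicoherent_pullbackObj _ G
  haveI : Subsingleton (PerfAux.fiberH (CohB1.ProjSpaceOver.toBase n S) G s j) :=
    subsingleton_HH_fibre_gt (S.residueField s) n (S.fromSpecResidueField s)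
      ((CohB1.ProjSpaceOver.toBase n S).fiberι s) h _ j hj
  exact Module.finrank_zero_of_subsingleton

theorem chiLE_eq_eulerChar (G : (CohB1.ProjSpaceOver n S).Modules) [G.IsQuasicoherent] (s : S) :
    chiLE (CohB1.ProjSpaceOver.toBase n S) G s n =
      PerfAux.eulerChar (CohB1.ProjSpaceOver.toBase n S) G s := by
  unfold chiLE PerfAux.eulerChar
  rw [finsum_eq_sum_of_support_subset]
  intro j hj
  rw [Function.mem_support] at hj
  rw [Finset.coe_range, Set.mem_Iio]
  by_contra hcon
  apply hj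
  rw [betti_toBase_eq_zero S n G s j (by omega)]
  simp

end Pn

end Groth.Agent.Helper1.HS
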