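import Mathlib
import Groth.Agent.Helper1.HS6

/-!
# HS7: only finitely many Hilbert polynomials occur among the fibres of a coherent module on
`P^n_S`, `S` noetherian
-/

set_option autoImplicit false
set_option linter.style.haveILetI false
set_option linter.unusedSectionVars false

universe u
open CategoryTheory CategoryTheory.Limits AlgebraicGeometry Opposite TopologicalSpace

namespace Groth.Agent.Helper1.HS

variable (S : Scheme.{u}) (n : ℕ)

/-- the Euler characteristic of the `m`-th twist on the fibre at `s` -/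
noncomputable def hilbFn (F : (CohB1.ProjSpaceOver n S).Modules) (s : S) (m : ℤ) : ℤ :=
  PerfAux.eulerChar (CohB1.ProjSpaceOver.toBase n S) (CohB1.tensorMod F (Twist.twistOver n S m)) s

theorem isQuasicoherent_twist (F : (CohB1.ProjSpaceOver n S).Modules) (hF : Coh.IsCoh F) (m : ℤ) :
    (CohB1.tensorMod F (Twist.twistOver n S m)).IsQuasicoherent :=
  (Groth.Agent.Lead.Ref1B.isCoh_tensorMod F _ hF
    (Groth.Agent.Helper1.SerreFin.isCoh_of_isInvertible _
      (Groth.Agent.Helper1.FlatTw.isInvertible_twistOver n S m))).1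

/-- the `FGA` form of the Euler characteristic of a fibre is `hilbFn` -/
theorem fga_eq_hilbFn (F : (CohB1.ProjSpaceOver n S).Modules) (hF : Coh.IsCoh F)
    (s : (Over.mk (𝟙 S)).left) (m : ℤ) :
    FGA.eulerCharLE ((Over.mk (𝟙 S)).left.residueField s)
        (FGA.fibreAt (CohB1.ProjSpaceOver.toBase n S) (Over.mk (𝟙 S)) s).left
        (CohB1.tensorMod
          (FGA.restrFibre (CohB1.ProjSpaceOver.toBase n S) (Over.mk (𝟙 S)) s
            (FGA.ET (CohB1.ProjSpaceOver.toBase n S) F (Over.mk (𝟙 S))))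
          (FGA.restrFibre (CohB1.ProjSpaceOver.toBase n S) (Over.mk (𝟙 S)) s
            (FGA.ET (CohB1.ProjSpaceOver.toBase n S) (Twist.twistOver n S m) (Over.mk (𝟙 S))))) n =
      hilbFn S n F s m := by
  haveI := Groth.Agent.Helper6.HProj.isProper_toBase n S
  haveI := isQuasicoherent_twist S n F hF m
  rw [eulerCharLE_fibreAt_eq (CohB1.ProjSpaceOver.toBase n S) F (Twist.twistOver n S m)
    (isQuasicoherent_twist S n F hF m) s n]
  exact chiLE_eq_eulerChar S n _ s

/-- the Hilbert polynomial at a point -/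
theorem exists_poly_hilbFn (F : (CohB1.ProjSpaceOver n S).Modules) (hF : Coh.IsCoh F) (s : S) :
    ∃ P : Polynomial ℚ, ∀ m : ℤ, (hilbFn S n F s m : ℚ) = P.eval (m : ℚ) := by
  obtain ⟨P, hP⟩ := exists_poly_fibreAt S n F hF s
  refine ⟨P, fun m => ?_⟩
  rw [← hP m, fga_eq_hilbFn S n F hF s m]

theorem poly_eq_of_eval_int {P Q : Polynomial ℚ}
    (h : ∀ m : ℤ, P.eval (m : ℚ) = Q.eval (m : ℚ)) : P = Q := by
  apply Polynomial.eq_of_infinite_eval_eq
  refine Set.Infinite.mono ?_ (Set.infinite_range_of_injective Int.cast_injective)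
  rintro _ ⟨m, rfl⟩
  exact h m

/-- **finitely many Hilbert polynomials** -/
theorem finite_hilbert_polys [IsNoetherian S] (F : (CohB1.ProjSpaceOver n S).Modules)
    (hF : Coh.IsCoh F) :
    ∃ P : S → Polynomial ℚ, (Set.range P).Finite ∧
      ∀ (s : S) (m : ℤ), (hilbFn S n F s m : ℚ) = (P s).eval (m : ℚ) := by
  classical
  haveI := Groth.Agent.Helper6.HProj.isProper_toBase n S
  choose P hP using exists_poly_hilbFn S n F hF
  refine ⟨P, ?_, hP⟩
  have hfin := finite_range_eulerChar (CohB1.ProjSpaceOver.toBase n S) F hF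
    (fun m : ℤ => Twist.twistOver n S m)
    (fun m => Groth.Agent.Helper1.FlatTw.isInvertible_twistOver n S m)
  have hwd : ∀ s s' : S, hilbFn S n F s = hilbFn S n F s' → P s = P s' := by
    intro s s' hss
    apply poly_eq_of_eval_int
    intro m
    rw [← hP s m, ← hP s' m, hss]
  let G : (ℤ → ℤ) → Polynomial ℚ := fun v =>
    if h : ∃ s, hilbFn S n F s = v then P h.choose else 0
  refine (hfin.image G).subset ?_
  rintro _ ⟨s, rfl⟩
  refine ⟨hilbFn S n F s, ⟨s, rfl⟩, ?_⟩
  have hex : ∃ s', hilbFn S n F s' = hilbFn S n F s := ⟨s, rfl⟩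
  show G (hilbFn S n F s) = P s
  simp only [G, dif_pos hex]
  exact hwd _ _ hex.choose_spec

end Groth.Agent.Helper1.HS
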