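import Mathlib
import Groth.Prelude.Def_FGA
import Groth.Prelude.Def_Twist2

/-!
# Quot schemes, part 1: projective spaces over varying bases, the module `O^r(-l)` on them,
the native Quot sets
-/

set_option autoImplicit false
set_option linter.style.haveILetI false
set_option linter.unusedSectionVars false

universe u
open CategoryTheory CategoryTheory.Limits AlgebraicGeometry Opposite

namespace Groth.Agent.Helper1.QT

variable (n : ℕ)

/-- projective space over `ℤ` -/
noncomputable abbrev PZ : Scheme.{u} := CohB1.ProjSpace n (ULift.{u} ℤ)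

/-- the projection from `P^n_T` to `P^n_ℤ` -/
noncomputable abbrev aT (T : Scheme.{u}) : CohB1.ProjSpaceOver n T ⟶ PZ n :=
  pullback.fst (CohB1.ProjSpace.toSpec n (ULift.{u} ℤ)) (specULiftZIsTerminal.from T)

/-- the projection from `P^n_T` to `T` -/
noncomputable abbrev πT (T : Scheme.{u}) : CohB1.ProjSpaceOver n T ⟶ T :=
  CohB1.ProjSpaceOver.toBase n T

section projMap

variable {T S U : Scheme.{u}}

theorem projMap_aT (φ : T ⟶ S) : FGA.projMap n φ ≫ aT n S = aT n T :=
  (pullback.lift_fst _ _ _).trans (Category.comp_id _)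

theorem projMap_πT (φ : T ⟶ S) : FGA.projMap n φ ≫ πT n S = πT n T ≫ φ :=
  pullback.lift_snd _ _ _

theorem projMap_id (T : Scheme.{u}) : FGA.projMap n (𝟙 T) = 𝟙 _ := by
  apply pullback.hom_ext
  · exact (projMap_aT n (𝟙 T)).trans (Category.id_comp (aT n T)).symm
  · exact ((projMap_πT n (𝟙 T)).trans (Category.comp_id _)).trans
      (Category.id_comp (πT n T)).symm

theorem projMap_comp (ψ : U ⟶ T) (φ : T ⟶ S) :
    FGA.projMap n (ψ ≫ φ) = FGA.projMap n ψ ≫ FGA.projMap n φ := by
  apply pullback.hom_ext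
  · have h : (FGA.projMap n ψ ≫ FGA.projMap n φ) ≫ aT n S = aT n U :=
      (Category.assoc _ _ _).trans
        ((congrArg (fun z => FGA.projMap n ψ ≫ z) (projMap_aT n φ)).trans (projMap_aT n ψ))
    exact (projMap_aT n (ψ ≫ φ)).trans h.symm
  · have h : (FGA.projMap n ψ ≫ FGA.projMap n φ) ≫ πT n S = πT n U ≫ ψ ≫ φ :=
      (Category.assoc _ _ _).trans
        ((congrArg (fun z => FGA.projMap n ψ ≫ z) (projMap_πT n φ)).trans
          ((Category.assoc _ _ _).symm.trans
            ((congrArg (fun z => z ≫ φ) (projMap_πT n ψ)).trans (Category.assoc _ _ _))))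
    exact (projMap_πT n (ψ ≫ φ)).trans h.symm

/-- base change square for `ProjSpaceOver`. -/
theorem isPullback_projMap (φ : T ⟶ S) :
    IsPullback (FGA.projMap n φ) (πT n T) (πT n S) φ := by
  have t : IsPullback (aT n S) (πT n S)
      (CohB1.ProjSpace.toSpec n (ULift.{u} ℤ)) (specULiftZIsTerminal.from S) :=
    IsPullback.of_hasPullback _ _
  have s0 : IsPullback (aT n T) (πT n T)
      (CohB1.ProjSpace.toSpec n (ULift.{u} ℤ)) (specULiftZIsTerminal.from T) :=
    IsPullback.of_hasPullback _ _
  have e2 : φ ≫ specULiftZIsTerminal.from S = specULiftZIsTerminal.from T :=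
    specULiftZIsTerminal.hom_ext _ _
  have s : IsPullback (FGA.projMap n φ ≫ aT n S) (πT n T)
      (CohB1.ProjSpace.toSpec n (ULift.{u} ℤ)) (φ ≫ specULiftZIsTerminal.from S) := by
    rw [projMap_aT, e2]
    exact s0
  exact IsPullback.of_right s (projMap_πT n φ) t

end projMap

section E

variable (r : ℕ) (l : ℤ)

/-- the module `O^r(-l)` on `P^n_ℤ` -/
noncomputable def EZ : (PZ.{u} n).Modules :=
  CohB1.tensorMod (FlatMod.freeMod (PZ.{u} n) r) (Twist.twistProjSpace n (ULift.{u} ℤ) (-l))

/-- the module `O^r(-l)` on `P^n_T` -/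
noncomputable def ET (T : Scheme.{u}) : (CohB1.ProjSpaceOver n T).Modules :=
  (Scheme.Modules.pullback (aT n T)).obj (EZ n r l)

variable {T S U : Scheme.{u}}

/-- the pullback of `O^r(-l)` is `O^r(-l)` -/
noncomputable def Eiso (φ : T ⟶ S) :
    (Scheme.Modules.pullback (FGA.projMap n φ)).obj (ET n r l S) ≅ ET n r l T :=
  (Scheme.Modules.pullbackComp (FGA.projMap n φ) (aT n S)).app (EZ n r l) ≪≫
    (Scheme.Modules.pullbackCongr (projMap_aT n φ)).app (EZ n r l)

/-- the native Quot set -/
def QSet (T : Scheme.{u}) : Type (u + 1) :=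
  {K : Subobject (ET n r l T) // Coh.IsCoh (cokernel K.arrow) ∧
    FlatMod.IsFlatOver (πT n T) (cokernel K.arrow)}

/-- the pullback of submodules -/
noncomputable def qpull (φ : T ⟶ S) (K : Subobject (ET n r l S)) : Subobject (ET n r l T) :=
  imageSubobject ((Scheme.Modules.pullback (FGA.projMap n φ)).map K.arrow ≫ (Eiso n r l φ).hom)

end E

end Groth.Agent.Helper1.QT
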