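import Mathlib
import Groth.Agent.Helper1.QT1

/-!
# Quot schemes, part 2: submodules and quotients; the pullback of a submodule is the kernel of
the pulled back quotient
-/

set_option autoImplicit false
set_option linter.style.haveILetI false
set_option linter.unusedSectionVars false

universe u v
open CategoryTheory CategoryTheory.Limits AlgebraicGeometry Opposite

namespace Groth.Agent.Helper1.QT

section Abelian

variable {𝒜 : Type u} [Category.{v} 𝒜] [Abelian 𝒜]

/-- a subobject is the kernel of its cokernel -/
theorem kernelSubobject_cokernel_π {M : 𝒜} (K : Subobject M) :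
    kernelSubobject (cokernel.π K.arrow) = K := by
  have h := (ShortComplex.exact_iff_image_eq_kernel _).mp
    (ShortComplex.exact_cokernel K.arrow)
  rw [← h]
  exact imageSubobject_mono K.arrow |>.trans (Subobject.mk_arrow K)

/-- the kernels of two quotient maps which differ by an isomorphism agree -/
theorem kernelSubobject_eq_of_iso {M F F' : 𝒜} (q : M ⟶ F) (q' : M ⟶ F') (e : F ≅ F')
    (h : q ≫ e.hom = q') : kernelSubobject q = kernelSubobject q' := by
  rw [← h]
  exact (kernelSubobject_comp_mono q e.hom).symm

/-- two epimorphisms with the same kernel differ by an isomorphism -/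
theorem exists_iso_of_kernelSubobject_eq {M F F' : 𝒜} (q : M ⟶ F) (q' : M ⟶ F') [Epi q] [Epi q']
    (h : kernelSubobject q = kernelSubobject q') : ∃ e : F ≅ F', q ≫ e.hom = q' := by
  -- the arrows of the kernel subobjects
  have h0 : (kernelSubobject q).arrow ≫ q' = 0 := by
    have : (kernelSubobject q).arrow =
        (Subobject.isoOfEq _ _ h).hom ≫ (kernelSubobject q').arrow := by simp
    rw [this, Category.assoc, kernelSubobject_arrow_comp, comp_zero]
  have h0' : (kernelSubobject q').arrow ≫ q = 0 := by
    have : (kernelSubobject q').arrow =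
        (Subobject.isoOfEq _ _ h.symm).hom ≫ (kernelSubobject q).arrow := by simp
    rw [this, Category.assoc, kernelSubobject_arrow_comp, comp_zero]
  have k0 : kernel.ι q ≫ q' = 0 := by
    rw [← kernelSubobject_arrow' q, Category.assoc, h0, comp_zero]
  have k0' : kernel.ι q' ≫ q = 0 := by
    rw [← kernelSubobject_arrow' q', Category.assoc, h0', comp_zero]
  -- `q` is the cokernel of its kernel
  let c := Abelian.epiIsCokernelOfKernel (KernelFork.ofι (kernel.ι q) (kernel.condition q))
    (kernelIsKernel q)
  let c' := Abelian.epiIsCokernelOfKernel (KernelFork.ofι (kernel.ι q') (kernel.condition q'))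
    (kernelIsKernel q')
  let a : F ⟶ F' := c.desc (CokernelCofork.ofπ q' k0)
  let b : F' ⟶ F := c'.desc (CokernelCofork.ofπ q k0')
  have ha : q ≫ a = q' := c.fac (CokernelCofork.ofπ q' k0) WalkingParallelPair.one
  have hb : q' ≫ b = q := c'.fac (CokernelCofork.ofπ q k0') WalkingParallelPair.one
  refine ⟨⟨a, b, ?_, ?_⟩, ha⟩
  · rw [← cancel_epi q, ← Category.assoc, ha, hb, Category.comp_id]
  · rw [← cancel_epi q', ← Category.assoc, hb, ha, Category.comp_id]

/-- the image of a morphism is the kernel of an epimorphism completing it to an exact sequence,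
after transport along an isomorphism -/
theorem imageSubobject_comp_iso_eq_kernel {A B B' C : 𝒜} (f : A ⟶ B) (g : B ⟶ C) (w : f ≫ g = 0)
    (hex : (ShortComplex.mk f g w).Exact) (e : B ≅ B') :
    imageSubobject (f ≫ e.hom) = kernelSubobject (e.inv ≫ g) := by
  have w' : (f ≫ e.hom) ≫ (e.inv ≫ g) = 0 := by
    rw [Category.assoc, Iso.hom_inv_id_assoc, w]
  have hex' : (ShortComplex.mk (f ≫ e.hom) (e.inv ≫ g) w').Exact := by
    refine ShortComplex.exact_of_iso ?_ hex
    exact ShortComplex.isoMk (Iso.refl _) e (Iso.refl _) (by simp) (by simp)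
  exact (ShortComplex.exact_iff_image_eq_kernel _).mp hex'

end Abelian

section Pull

variable (n r : ℕ) (l : ℤ) {T S : Scheme.{u}}

/-- the pullback of a quotient map of `O^r(-l)` -/
noncomputable def pq (φ : T ⟶ S) {F : (CohB1.ProjSpaceOver n S).Modules} (q : ET n r l S ⟶ F) :
    ET n r l T ⟶ (Scheme.Modules.pullback (FGA.projMap n φ)).obj F :=
  (Eiso n r l φ).inv ≫ (Scheme.Modules.pullback (FGA.projMap n φ)).map q

instance epi_pq (φ : T ⟶ S) {F : (CohB1.ProjSpaceOver n S).Modules} (q : ET n r l S ⟶ F)
    [Epi q] : Epi (pq n r l φ q) := by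
  haveI : PreservesColimitsOfSize.{0, 0} (Scheme.Modules.pullback (FGA.projMap n φ)) :=
    (Scheme.Modules.pullbackPushforwardAdjunction (FGA.projMap n φ)).leftAdjoint_preservesColimits
  haveI : Epi ((Scheme.Modules.pullback (FGA.projMap n φ)).map q) := inferInstance
  unfold pq
  infer_instance

/-- **the pullback of a submodule is the kernel of the pullback of its quotient map** -/
theorem qpull_eq_kernel (φ : T ⟶ S) (K : Subobject (ET n r l S)) :
    qpull n r l φ K = kernelSubobject (pq n r l φ (cokernel.π K.arrow)) := by
  haveI : (Scheme.Modules.pullback (FGA.projMap n φ)).Additive :=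
    (Scheme.Modules.pullbackPushforwardAdjunction (FGA.projMap n φ)).left_adjoint_additive
  haveI : PreservesFiniteColimits (Scheme.Modules.pullback (FGA.projMap n φ)) :=
    haveI : PreservesColimitsOfSize.{0, 0} (Scheme.Modules.pullback (FGA.projMap n φ)) :=
      (Scheme.Modules.pullbackPushforwardAdjunction
        (FGA.projMap n φ)).leftAdjoint_preservesColimits
    PreservesColimitsOfSize.preservesFiniteColimits _
  let S₀ : ShortComplex (CohB1.ProjSpaceOver n S).Modules :=
    ShortComplex.mk K.arrow (cokernel.π K.arrow) (cokernel.condition _)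
  have hS₀ : S₀.ShortExact :=
    ShortComplex.ShortExact.mk' (ShortComplex.exact_cokernel K.arrow) inferInstance inferInstance
  have h1 := ((Scheme.Modules.pullback (FGA.projMap n φ)).preservesFiniteColimits_iff_forall_exact_map_and_epi).1
    inferInstance S₀ hS₀
  exact imageSubobject_comp_iso_eq_kernel _ _ _ h1.1 (Eiso n r l φ)

/-- the pullback of the kernel of a quotient map -/
theorem qpull_kernelSubobject (φ : T ⟶ S) {F : (CohB1.ProjSpaceOver n S).Modules}
    (q : ET n r l S ⟶ F) [Epi q] :
    qpull n r l φ (kernelSubobject q) = kernelSubobject (pq n r l φ q) := by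
  rw [qpull_eq_kernel]
  obtain ⟨e, he⟩ := exists_iso_of_kernelSubobject_eq (cokernel.π (kernelSubobject q).arrow) q
    (kernelSubobject_cokernel_π (kernelSubobject q))
  apply kernelSubobject_eq_of_iso _ _ ((Scheme.Modules.pullback (FGA.projMap n φ)).mapIso e)
  unfold pq
  rw [Category.assoc, Functor.mapIso_hom, ← Functor.map_comp, he]

end Pull

end Groth.Agent.Helper1.QT
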