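import Mathlib
import Groth.Agent.Helper1.QT2
import Groth.Agent.Helper1.HS7
import Groth.Agent.Helper1.HP9
import Groth.Agent.Lead.FlatBC2
import Groth.Agent.Lead.FlatUnivJ
import Groth.Agent.Lead.IntNumBC

/-!
# Quot schemes, part 3: coherence, flatness and Hilbert functions under pullback
-/

set_option autoImplicit false
set_option linter.style.haveILetI false
set_option linter.unusedSectionVars false

universe u v
open CategoryTheory CategoryTheory.Limits AlgebraicGeometry Opposite

namespace Groth.Agent.Helper1.QT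

section Abelian

variable {𝒜 : Type u} [Category.{v} 𝒜] [Abelian 𝒜]

/-- the cokernel of the kernel of an epimorphism is its target -/
theorem exists_cokernel_kernelSubobject_iso {M F : 𝒜} (q : M ⟶ F) [Epi q] :
    ∃ e : cokernel (kernelSubobject q).arrow ≅ F,
      cokernel.π (kernelSubobject q).arrow ≫ e.hom = q :=
  exists_iso_of_kernelSubobject_eq (cokernel.π (kernelSubobject q).arrow) q
    (kernelSubobject_cokernel_π (kernelSubobject q))

end Abelian

variable (n : ℕ) {T S : Scheme.{u}}

/-- the pullback of `O(m)` is `O(m)` -/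
noncomputable def twIso (φ : T ⟶ S) (m : ℤ) :
    (Scheme.Modules.pullback (FGA.projMap n φ)).obj (Twist.twistOver n S m) ≅
      Twist.twistOver n T m :=
  (Scheme.Modules.pullbackComp (FGA.projMap n φ) (aT n S)).app
      (Twist.twistProjSpace n (ULift.{u} ℤ) m) ≪≫
    (Scheme.Modules.pullbackCongr (projMap_aT n φ)).app (Twist.twistProjSpace n (ULift.{u} ℤ) m)

/-- coherence and flatness over the base are stable under base change -/
theorem isCoh_isFlatOver_pullback (φ : T ⟶ S) {F : (CohB1.ProjSpaceOver n S).Modules}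
    (hF : Coh.IsCoh F) (hfl : FlatMod.IsFlatOver (πT n S) F) :
    Coh.IsCoh ((Scheme.Modules.pullback (FGA.projMap n φ)).obj F) ∧
      FlatMod.IsFlatOver (πT n T) ((Scheme.Modules.pullback (FGA.projMap n φ)).obj F) := by
  refine ⟨Groth.Agent.Lead.FlatUnivJ.isCoh_pullback _ F hF, ?_⟩
  intro x
  exact Groth.Agent.Lead.FlatBC.main_baseChange (πT n S) (πT n T) (FGA.projMap n φ) φ
    (isPullback_projMap n φ) F hF.1 x (hfl _)

/-- the Hilbert functions of the fibres are stable under base change -/
theorem hilbFn_pullback (φ : T ⟶ S) {F : (CohB1.ProjSpaceOver n S).Modules}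
    (hF : Coh.IsCoh F) (t : T) (m : ℤ) :
    Groth.Agent.Helper1.HS.hilbFn T n ((Scheme.Modules.pullback (FGA.projMap n φ)).obj F) t m =
      Groth.Agent.Helper1.HS.hilbFn S n F (φ t) m := by
  haveI := Groth.Agent.Helper6.HProj.isProper_toBase n S
  haveI := Groth.Agent.Helper1.HS.isQuasicoherent_twist S n F hF m
  unfold Groth.Agent.Helper1.HS.hilbFn
  have h1 := Groth.Agent.Helper1.HP.eulerChar_pullback_of_qcoh (isPullback_projMap n φ)
    (CohB1.tensorMod F (Twist.twistOver n S m)) t
  rw [← h1]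
  apply Groth.Agent.Helper1.PDeg.eulerChar_congr
  exact PicGrp.tensorModIso (Iso.refl _) (twIso n φ m).symm ≪≫
    (Groth.Agent.Lead.IntNumBC.pullTensorIso (FGA.projMap n φ) F (Twist.twistOver n S m)).symm

section Q

variable (r : ℕ) (l : ℤ)

/-- a quotient has Hilbert polynomial `Φ` at all points of the base -/
def HasHP (Φ : Polynomial ℚ) (T : Scheme.{u}) (F : (CohB1.ProjSpaceOver n T).Modules) : Prop :=
  ∀ (t : T) (m : ℤ), (Groth.Agent.Helper1.HS.hilbFn T n F t m : ℚ) = Φ.eval (m : ℚ)

theorem HasHP.pullback {Φ : Polynomial ℚ} (φ : T ⟶ S) {F : (CohB1.ProjSpaceOver n S).Modules}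
    (hF : Coh.IsCoh F) (h : HasHP n Φ S F) :
    HasHP n Φ T ((Scheme.Modules.pullback (FGA.projMap n φ)).obj F) := by
  intro t m
  rw [hilbFn_pullback n φ hF t m]
  exact h (φ t) m

theorem HasHP.of_iso {Φ : Polynomial ℚ} {F F' : (CohB1.ProjSpaceOver n T).Modules} (e : F ≅ F')
    (h : HasHP n Φ T F) : HasHP n Φ T F' := by
  intro t m
  rw [← h t m]
  congr 1
  unfold Groth.Agent.Helper1.HS.hilbFn
  exact (Groth.Agent.Helper1.PDeg.eulerChar_congr _
    (PicGrp.tensorModIso e (Iso.refl _)) t).symm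

/-- the quotient of the pullback of a submodule -/
theorem exists_cokernel_qpull_iso (φ : T ⟶ S) (K : Subobject (ET n r l S)) :
    ∃ e : cokernel (qpull n r l φ K).arrow ≅
        (Scheme.Modules.pullback (FGA.projMap n φ)).obj (cokernel K.arrow),
      cokernel.π (qpull n r l φ K).arrow ≫ e.hom = pq n r l φ (cokernel.π K.arrow) := by
  rw [qpull_eq_kernel]
  exact exists_cokernel_kernelSubobject_iso _

/-- the native Quot sets are stable under pullback -/
theorem qpull_mem (φ : T ⟶ S) (K : QSet n r l S) :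
    Coh.IsCoh (cokernel (qpull n r l φ K.1).arrow) ∧
      FlatMod.IsFlatOver (πT n T) (cokernel (qpull n r l φ K.1).arrow) := by
  obtain ⟨e, -⟩ := exists_cokernel_qpull_iso n r l φ K.1
  obtain ⟨h1, h2⟩ := isCoh_isFlatOver_pullback n φ K.2.1 K.2.2
  refine ⟨Groth.Agent.Lead.PerfLib.isCoh_of_iso e.symm h1, fun x => ?_⟩
  exact Groth.Agent.Lead.FpqcSheaf.isFlatOverAt_of_iso _ e.symm x (h2 x)

end Q

end Groth.Agent.Helper1.QT
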