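import Mathlib
import Groth.Agent.Helper1.QT3
import Groth.Agent.Helper8.DivML

/-!
# Quot schemes, part 19 (abstract): transport of subobjects along an equivalence of abelian
categories
-/

set_option autoImplicit false
set_option linter.style.haveILetI false
set_option linter.unusedSectionVars false

universe u
open CategoryTheory CategoryTheory.Limits

namespace Groth.Agent.Helper1.QU

open Groth.Agent.Helper1.QT

section AbstractTwist

theorem imageSubobject_congr2 {𝒞 : Type*} [Category 𝒞] [Abelian 𝒞] {A B : 𝒞} {f g : A ⟶ B}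
    (h : f = g) : imageSubobject f = imageSubobject g := by
  subst h
  rfl

variable {𝒜 ℬ : Type*} [Category 𝒜] [Category ℬ] [Abelian 𝒜] [Abelian ℬ] (e : 𝒜 ≌ ℬ)
  [e.functor.Additive] {M : 𝒜} {M' : ℬ} (ε : e.functor.obj M ≅ M')

/-- the transport of a subobject -/
noncomputable def twSub (K : Subobject M) : Subobject M' :=
  imageSubobject (e.functor.map K.arrow ≫ ε.hom)

theorem twSub_eq_kernel (K : Subobject M) :
    twSub e ε K = kernelSubobject (ε.inv ≫ e.functor.map (cokernel.π K.arrow)) := by
  haveI : PreservesFiniteColimits e.functor := inferInstance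
  let S₀ : ShortComplex 𝒜 := ShortComplex.mk K.arrow (cokernel.π K.arrow) (cokernel.condition _)
  have hS₀ : S₀.ShortExact :=
    ShortComplex.ShortExact.mk' (ShortComplex.exact_cokernel K.arrow) inferInstance inferInstance
  have h1 := (e.functor.preservesFiniteColimits_iff_forall_exact_map_and_epi).1
    inferInstance S₀ hS₀
  exact imageSubobject_comp_iso_eq_kernel _ _ _ h1.1 ε

theorem twSub_kernelSubobject {F : 𝒜} (q : M ⟶ F) [Epi q] :
    twSub e ε (kernelSubobject q) = kernelSubobject (ε.inv ≫ e.functor.map q) := by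
  rw [twSub_eq_kernel]
  obtain ⟨i, hi⟩ := exists_iso_of_kernelSubobject_eq (cokernel.π (kernelSubobject q).arrow) q
    (kernelSubobject_cokernel_π (kernelSubobject q))
  apply kernelSubobject_eq_of_iso _ _ (e.functor.mapIso i)
  rw [Category.assoc, Functor.mapIso_hom, ← Functor.map_comp, hi]

theorem exists_cokernel_twSub_iso (K : Subobject M) :
    ∃ i : cokernel (twSub e ε K).arrow ≅ e.functor.obj (cokernel K.arrow),
      cokernel.π (twSub e ε K).arrow ≫ i.hom = ε.inv ≫ e.functor.map (cokernel.π K.arrow) := by
  rw [twSub_eq_kernel]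
  haveI : Epi (e.functor.map (cokernel.π K.arrow)) := inferInstance
  haveI : Epi (ε.inv ≫ e.functor.map (cokernel.π K.arrow)) := epi_comp _ _
  exact exists_cokernel_kernelSubobject_iso _

theorem twSub_le_iff (K₁ K₂ : Subobject M) : twSub e ε K₁ ≤ twSub e ε K₂ ↔ K₁ ≤ K₂ := by
  constructor
  · intro h
    rw [twSub_eq_kernel e ε K₂] at h
    have h1 : (twSub e ε K₁).arrow ≫ (ε.inv ≫ e.functor.map (cokernel.π K₂.arrow)) = 0 := by
      rw [← Subobject.ofLE_arrow h, Category.assoc, kernelSubobject_arrow_comp, comp_zero]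
    have h2 : e.functor.map (K₁.arrow ≫ cokernel.π K₂.arrow) = 0 := by
      have h3 := imageSubobject_arrow_comp (e.functor.map K₁.arrow ≫ ε.hom)
      have h4 : (e.functor.map K₁.arrow ≫ ε.hom) ≫
          (ε.inv ≫ e.functor.map (cokernel.π K₂.arrow)) = 0 := by
        rw [← h3, Category.assoc]
        unfold twSub at h1
        rw [h1, comp_zero]
      rw [Functor.map_comp]
      simpa using h4
    have h5 : K₁.arrow ≫ cokernel.π K₂.arrow = 0 := by
      apply e.functor.map_injective
      rw [h2, Functor.map_zero]
    rw [← kernelSubobject_cokernel_π K₂]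
    exact Subobject.le_of_comm (factorThruKernelSubobject _ _ h5)
      (factorThruKernelSubobject_comp_arrow _ _ h5)
  · intro h
    unfold twSub
    have h1 : e.functor.map K₁.arrow ≫ ε.hom =
        e.functor.map (Subobject.ofLE _ _ h) ≫ e.functor.map K₂.arrow ≫ ε.hom := by
      rw [← Category.assoc, ← Functor.map_comp, Subobject.ofLE_arrow]
    rw [imageSubobject_congr2 h1]
    exact imageSubobject_comp_le _ _

theorem twSub_injective : Function.Injective (twSub e ε (M := M)) := by
  intro K₁ K₂ h
  exact le_antisymm ((twSub_le_iff e ε K₁ K₂).1 h.le) ((twSub_le_iff e ε K₂ K₁).1 h.ge)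

theorem twSub_surjective : Function.Surjective (twSub e ε (M := M)) := by
  intro K'
  let k : e.inverse.obj (K' : ℬ) ⟶ M :=
    e.inverse.map (K'.arrow ≫ ε.inv) ≫ (e.unitIso.app M).inv
  haveI : Mono k := by
    haveI : Mono (K'.arrow ≫ ε.inv) := mono_comp _ _
    haveI : Mono (e.inverse.map (K'.arrow ≫ ε.inv)) := inferInstance
    exact mono_comp _ _
  refine ⟨Subobject.mk k, ?_⟩
  unfold twSub
  have h1 : e.functor.map (Subobject.mk k).arrow ≫ ε.hom =
      (e.functor.map (Subobject.underlyingIso k).hom ≫ e.counit.app (K' : ℬ)) ≫ K'.arrow := by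
    have h2 : (Subobject.mk k).arrow = (Subobject.underlyingIso k).hom ≫ k :=
      (Subobject.underlyingIso_hom_comp_eq_mk k).symm
    rw [h2, Functor.map_comp, Functor.map_comp, Category.assoc, Category.assoc, Category.assoc]
    congr 1
    have h3 : e.functor.map ((e.unitIso.app M).inv) = e.counit.app (e.functor.obj M) := by
      have := e.counit_app_functor M
      rw [this]
      rfl
    rw [h3]
    have h4 := e.counit.naturality (K'.arrow ≫ ε.inv)
    simp only [Functor.comp_map, Functor.id_map] at h4
    rw [reassoc_of% h4, Iso.inv_hom_id, Category.comp_id]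
  rw [imageSubobject_congr2 h1]
  haveI : IsIso (e.functor.map (Subobject.underlyingIso k).hom ≫ e.counit.app (K' : ℬ)) :=
    inferInstance
  rw [imageSubobject_iso_comp, imageSubobject_mono, Subobject.mk_arrow]

end AbstractTwist

end Groth.Agent.Helper1.QU
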