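import Mathlib

/-!
# Grassmannians, part 1: identities among the maximal minors of a `d × N` matrix
-/

set_option autoImplicit false
set_option linter.style.haveILetI false

namespace Groth.Agent.Helper1.GR

open Matrix

universe u

variable {d N : ℕ} {Γ : Type*} [CommRing Γ]

/-- the maximal minor on the columns `a 0, …, a (d-1)` -/
noncomputable def minor (B : Matrix (Fin d) (Fin N) Γ) (a : Fin d → Fin N) : Γ :=
  (B.submatrix id a).det

theorem minor_mul (g : Matrix (Fin d) (Fin d) Γ) (B : Matrix (Fin d) (Fin N) Γ)
    (a : Fin d → Fin N) : minor (g * B) a = g.det * minor B a := by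
  unfold minor
  have h : (g * B).submatrix id a = g * B.submatrix id a := by
    ext i j
    simp [Matrix.mul_apply]
  rw [h, det_mul]

theorem minor_map {Γ' : Type*} [CommRing Γ'] (f : Γ →+* Γ') (B : Matrix (Fin d) (Fin N) Γ)
    (a : Fin d → Fin N) : minor (B.map f) a = f (minor B a) := by
  unfold minor
  rw [RingHom.map_det]
  rfl

theorem submatrix_update (B : Matrix (Fin d) (Fin N) Γ) (a : Fin d → Fin N) (i : Fin d)
    (j : Fin N) :
    B.submatrix id (Function.update a i j) = (B.submatrix id a).updateCol i (fun r => B r j) := by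
  ext r c
  by_cases h : c = i
  · subst h
    simp
  · simp [Function.update_of_ne h, Matrix.updateCol_ne h]

theorem minor_update_eq_cramer (B : Matrix (Fin d) (Fin N) Γ) (a : Fin d → Fin N) (i : Fin d)
    (j : Fin N) :
    minor B (Function.update a i j) = (B.submatrix id a).cramer (fun r => B r j) i := by
  unfold minor
  rw [submatrix_update, cramer_apply]

/-- repeated columns -/
theorem minor_eq_zero_of_eq (B : Matrix (Fin d) (Fin N) Γ) (a : Fin d → Fin N) {i l : Fin d}
    (hil : i ≠ l) (h : a i = a l) : minor B a = 0 := by
  unfold minor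
  exact det_zero_of_column_eq hil (fun r => by simp [h])

theorem minor_update_self (B : Matrix (Fin d) (Fin N) Γ) (a : Fin d → Fin N) (i l : Fin d) :
    minor B (Function.update a i (a l)) = if i = l then minor B a else 0 := by
  split_ifs with h
  · subst h
    rw [Function.update_eq_self]
  · apply minor_eq_zero_of_eq B _ h
    rw [Function.update_self, Function.update_of_ne (Ne.symm h)]

/-- Cramer's rule: `∑ᵢ Δ(a[i ↦ j]) B_{r, a i} = Δ(a) B_{r j}` -/
theorem sum_minor_update_mul (B : Matrix (Fin d) (Fin N) Γ) (a : Fin d → Fin N) (j : Fin N)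
    (r : Fin d) :
    ∑ i, minor B (Function.update a i j) * B r (a i) = minor B a * B r j := by
  have h := congrFun (mulVec_cramer (B.submatrix id a) (fun r => B r j)) r
  simp only [mulVec, dotProduct, submatrix_apply, id_eq, Pi.smul_apply, smul_eq_mul] at h
  have h2 : minor B a * B r j = (B.submatrix id a).det * B r j := rfl
  rw [h2, ← h]
  refine Finset.sum_congr rfl fun i _ => ?_
  rw [minor_update_eq_cramer, mul_comm]

/-- if the columns `a` form the identity matrix, the entries are minors -/
theorem entry_eq_minor_of_one (B : Matrix (Fin d) (Fin N) Γ) (a : Fin d → Fin N)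
    (h : B.submatrix id a = 1) (i : Fin d) (j : Fin N) :
    B i j = minor B (Function.update a i j) := by
  rw [minor_update_eq_cramer, h, cramer_one]
  rfl

theorem minor_eq_one_of_one (B : Matrix (Fin d) (Fin N) Γ) (a : Fin d → Fin N)
    (h : B.submatrix id a = 1) : minor B a = 1 := by
  unfold minor
  rw [h, det_one]

/-- the column `j`, scaled by `Δ(a)`, in terms of the columns `a i` -/
theorem minor_smul_col (B : Matrix (Fin d) (Fin N) Γ) (a : Fin d → Fin N) (j : Fin N) :
    (minor B a • fun r => B r j) = ∑ i, minor B (Function.update a i j) • fun r => B r (a i) := by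
  funext r
  rw [Pi.smul_apply, smul_eq_mul, ← sum_minor_update_mul, Finset.sum_apply]
  rfl

/-- the three term type relation `(I3)`:
`Δ(a) Δ(c[i' ↦ j]) = ∑ᵢ Δ(a[i ↦ j]) Δ(c[i' ↦ a i])` -/
theorem minor_mul_minor_update (B : Matrix (Fin d) (Fin N) Γ) (a c : Fin d → Fin N) (i' : Fin d)
    (j : Fin N) :
    minor B a * minor B (Function.update c i' j) =
      ∑ i, minor B (Function.update a i j) * minor B (Function.update c i' (a i)) := by
  have h1 : ∀ j', minor B (Function.update c i' j') =
      (B.submatrix id c).cramer (fun r => B r j') i' := fun j' => minor_update_eq_cramer B c i' j'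
  rw [h1 j]
  have h2 : minor B a * (B.submatrix id c).cramer (fun r => B r j) i' =
      ((B.submatrix id c).cramer (minor B a • fun r => B r j)) i' := by
    rw [map_smul, Pi.smul_apply, smul_eq_mul]
  rw [h2, minor_smul_col, map_sum, Finset.sum_apply]
  refine Finset.sum_congr rfl fun i _ => ?_
  rw [map_smul, Pi.smul_apply, smul_eq_mul, h1]

/-- the relation `(I2)`: `Δ(c) Δ(a)^(d-1) = det (Δ(a[i ↦ c l]))_{i l}` -/
theorem det_minor_update (B : Matrix (Fin d) (Fin N) Γ) (a c : Fin d → Fin N) :
    (Matrix.of fun i l => minor B (Function.update a i (c l))).det =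
      minor B a ^ (d - 1) * minor B c := by
  have h : (Matrix.of fun i l => minor B (Function.update a i (c l))) =
      (B.submatrix id a).adjugate * B.submatrix id c := by
    ext i l
    rw [Matrix.of_apply, minor_update_eq_cramer, cramer_eq_adjugate_mulVec, Matrix.mul_apply]
    rfl
  rw [h, det_mul, det_adjugate, Fintype.card_fin]
  rfl

end Groth.Agent.Helper1.GR
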