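import Mathlib
import Groth.Agent.Helper1.GR1
import Groth.Agent.Helper1.Segre1
import Groth.Agent.Helper3.GradedQuot

/-!
# Grassmannians, part 2: the Plücker algebra

`PA = k[p_a : a ∈ Fin d → Fin N] / J`, where `J` is the largest homogeneous ideal contained in the
kernel of `p_a ↦ Δ_a(x)` (the minors of the generic `d × N` matrix).
-/

set_option autoImplicit false
set_option linter.style.haveILetI false
set_option linter.unusedSectionVars false

namespace Groth.Agent.Helper1.GR

open Matrix MvPolynomial Groth.Agent.Helper3.GradedQuot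

universe u

attribute [local instance] MvPolynomial.gradedAlgebra

variable (k : Type u) [CommRing k] (d N : ℕ)

/-- the index type of Plücker coordinates: all `d`-tuples of columns -/
abbrev Idx := Fin d → Fin N

/-- the polynomial ring on the Plücker coordinates -/
abbrev Rp := MvPolynomial (Idx d N) k

/-- the polynomial ring on the entries of the generic matrix -/
abbrev Xp := MvPolynomial (Fin d × Fin N) k

/-- the generic matrix -/
noncomputable def Xmat : Matrix (Fin d) (Fin N) (Xp k d N) := Matrix.of fun i j => X (i, j)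

/-- `p_a ↦ Δ_a` -/
noncomputable def ψ : Rp k d N →ₐ[k] Xp k d N := aeval (fun a => minor (Xmat k d N) a)

/-- the Plücker ideal -/
noncomputable def J : Ideal (Rp k d N) :=
  ((RingHom.ker (ψ k d N).toRingHom).homogeneousCore (homogeneousSubmodule (Idx d N) k)).toIdeal

theorem J_isHomogeneous : (J k d N).IsHomogeneous (homogeneousSubmodule (Idx d N) k) :=
  ((RingHom.ker (ψ k d N).toRingHom).homogeneousCore (homogeneousSubmodule (Idx d N) k)).2

instance : Fact ((J k d N).IsHomogeneous (homogeneousSubmodule (Idx d N) k)) :=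
  ⟨J_isHomogeneous k d N⟩

theorem J_le_ker : J k d N ≤ RingHom.ker (ψ k d N).toRingHom :=
  Ideal.toIdeal_homogeneousCore_le _ _

theorem mem_J {n : ℕ} {f : Rp k d N} (hf : f.IsHomogeneous n) (h : ψ k d N f = 0) :
    f ∈ J k d N :=
  Ideal.mem_homogeneousCore_of_homogeneous_of_mem ⟨n, hf⟩ h

/-- the Plücker algebra -/
noncomputable abbrev PA := Rp k d N ⧸ J k d N

/-- its grading -/
noncomputable abbrev gr : ℕ → Submodule k (PA k d N) :=
  quotGrading (homogeneousSubmodule (Idx d N) k) (J k d N)

noncomputable instance : GradedAlgebra (gr k d N) :=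
  instGradedAlgebra (homogeneousSubmodule (Idx d N) k) (J k d N)

/-- the Plücker coordinates -/
noncomputable def P (a : Idx d N) : PA k d N := Ideal.Quotient.mk (J k d N) (X a)

theorem P_mem (a : Idx d N) : P k d N a ∈ gr k d N 1 :=
  ⟨X a, isHomogeneous_X k a, rfl⟩

theorem adjoin_range_P : Algebra.adjoin k (Set.range (P k d N)) = ⊤ := by
  have h1 : (Algebra.adjoin k (Set.range (X : Idx d N → Rp k d N))).map
      (Ideal.Quotient.mkₐ k (J k d N)) = ⊤ := by
    rw [adjoin_range_X, Algebra.map_top, AlgHom.range_eq_top]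
    exact Ideal.Quotient.mkₐ_surjective k _
  rw [← h1, AlgHom.map_adjoin, ← Set.range_comp]
  rfl

section Theta

variable {k d N}
variable {Γ : Type*} [CommRing Γ] (ρ : k →+* Γ) (B : Matrix (Fin d) (Fin N) Γ)

/-- evaluation of Plücker polynomials at the minors of `B` -/
noncomputable def Θ₀ : Rp k d N →+* Γ := eval₂Hom ρ (fun a => minor B a)

/-- evaluation at the entries of `B` -/
noncomputable def evB : Xp k d N →+* Γ := eval₂Hom ρ (fun p => B p.1 p.2)

theorem Xmat_map_evB : (Xmat k d N).map (evB ρ B) = B := by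
  ext i j
  simp [Xmat, evB]

theorem Θ₀_eq : Θ₀ ρ B = (evB ρ B).comp (ψ k d N).toRingHom := by
  apply MvPolynomial.ringHom_ext
  · intro c
    simp [Θ₀, evB, ψ]
  · intro a
    have h1 : (evB ρ B) (minor (Xmat k d N) a) = minor B a := by
      rw [← minor_map, Xmat_map_evB]
    simp [Θ₀, ψ, h1]

theorem Θ₀_J {f : Rp k d N} (hf : f ∈ J k d N) : Θ₀ ρ B f = 0 := by
  have h := J_le_ker k d N hf
  rw [RingHom.mem_ker] at h
  rw [Θ₀_eq, RingHom.comp_apply, h, map_zero]

/-- the ring map `PA → Γ` attached to a matrix -/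
noncomputable def Θ : PA k d N →+* Γ :=
  Ideal.Quotient.lift (J k d N) (Θ₀ ρ B) (fun _ hf => Θ₀_J ρ B hf)

theorem Θ_mk (f : Rp k d N) : Θ ρ B (Ideal.Quotient.mk _ f) = Θ₀ ρ B f := rfl

theorem Θ_P (a : Idx d N) : Θ ρ B (P k d N a) = minor B a := by
  unfold P
  rw [Θ_mk]
  simp [Θ₀]

theorem Θ_algebraMap (c : k) : Θ ρ B (algebraMap k (PA k d N) c) = ρ c := by
  have : algebraMap k (PA k d N) c = Ideal.Quotient.mk _ (C c) := rfl
  rw [this, Θ_mk]
  simp [Θ₀]

/-- rescaling the matrix -/
theorem Θ_mul (g : Matrix (Fin d) (Fin d) Γ) {n : ℕ} {f : PA k d N} (hf : f ∈ gr k d N n) :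
    Θ ρ (g * B) f = g.det ^ n * Θ ρ B f := by
  obtain ⟨f₀, hf₀, rfl⟩ := hf
  show Θ ρ (g * B) (Ideal.Quotient.mk _ f₀) = g.det ^ n * Θ ρ B (Ideal.Quotient.mk _ f₀)
  rw [Θ_mk, Θ_mk]
  unfold Θ₀
  rw [← Groth.Agent.Helper1.Segre.eval₂Hom_smul_of_isHomogeneous ρ _ _ f₀ n hf₀]
  congr 2
  funext a
  exact minor_mul g B a

theorem Θ_comp {Γ' : Type*} [CommRing Γ'] (φ : Γ →+* Γ') :
    φ.comp (Θ ρ B) = Θ (φ.comp ρ) (B.map φ) := by
  apply Ideal.Quotient.ringHom_ext
  apply MvPolynomial.ringHom_ext
  · intro c
    simp [Θ, Θ₀]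
  · intro a
    simp [Θ, Θ₀, minor_map]

end Theta

section Relations

/-- repeated columns -/
theorem P_eq_zero_of_eq (a : Idx d N) {i l : Fin d} (hil : i ≠ l) (h : a i = a l) :
    P k d N a = 0 := by
  apply Ideal.Quotient.eq_zero_iff_mem.2
  apply mem_J k d N (isHomogeneous_X k a)
  simp [ψ, minor_eq_zero_of_eq (Xmat k d N) a hil h]

theorem P_update_self (a : Idx d N) (i l : Fin d) :
    P k d N (Function.update a i (a l)) = if i = l then P k d N a else 0 := by
  split_ifs with h
  · subst h
    rw [Function.update_eq_self]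
  · apply P_eq_zero_of_eq k d N _ h
    rw [Function.update_self, Function.update_of_ne (Ne.symm h)]

/-- the relation `(I3)` -/
theorem P_mul_P_update (a c : Idx d N) (i' : Fin d) (j : Fin N) :
    P k d N a * P k d N (Function.update c i' j) =
      ∑ i, P k d N (Function.update a i j) * P k d N (Function.update c i' (a i)) := by
  unfold P
  rw [← map_mul, ← sub_eq_zero]
  simp_rw [← map_mul]
  rw [← map_sum, ← map_sub]
  apply Ideal.Quotient.eq_zero_iff_mem.2
  refine mem_J k d N (n := 2) ?_ ?_
  · apply IsHomogeneous.sub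
    · exact (isHomogeneous_X k _).mul (isHomogeneous_X k _)
    · apply IsHomogeneous.sum
      intro i _
      exact (isHomogeneous_X k _).mul (isHomogeneous_X k _)
  · simp only [ψ, map_sub, map_mul, map_sum, aeval_X]
    rw [sub_eq_zero]
    exact minor_mul_minor_update (Xmat k d N) a c i' j

/-- the relation `(I2)`, multiplied by `P a` so as to hold also for `d = 0` -/
theorem P_mul_det_P_update (a c : Idx d N) :
    P k d N a * (Matrix.of fun i l => P k d N (Function.update a i (c l))).det =
      P k d N a ^ d * P k d N c := by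
  have h1 : (Matrix.of fun i l => P k d N (Function.update a i (c l))) =
      (Matrix.of fun i l => (X (Function.update a i (c l)) : Rp k d N)).map
        (Ideal.Quotient.mk (J k d N)) := by
    ext i l
    rfl
  rw [h1, ← RingHom.mapMatrix_apply, ← RingHom.map_det]
  unfold P
  rw [← map_pow, ← map_mul, ← map_mul, ← sub_eq_zero, ← map_sub]
  apply Ideal.Quotient.eq_zero_iff_mem.2
  refine mem_J k d N (n := d + 1) ?_ ?_
  · apply IsHomogeneous.sub
    · rw [add_comm]
      refine (isHomogeneous_X k a).mul ?_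
      rw [det_apply]
      apply IsHomogeneous.sum
      intro σ _
      have h2 : (∏ i, Matrix.of (fun i l => (X (Function.update a i (c l)) : Rp k d N))
          (σ i) i).IsHomogeneous (∑ _i : Fin d, 1) := by
        apply IsHomogeneous.prod
        intro i _
        exact isHomogeneous_X k _
      simp only [Finset.sum_const, Finset.card_univ, Fintype.card_fin, smul_eq_mul,
        mul_one] at h2
      rcases Int.units_eq_one_or (Equiv.Perm.sign σ) with h | h
      · rw [h, one_smul]; exact h2
      · rw [h, Units.neg_smul, one_smul]; exact h2.neg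
    · have h2 : d + 1 = 1 * d + 1 := by omega
      rw [h2]
      exact ((isHomogeneous_X k a).pow d).mul (isHomogeneous_X k c)
  · rw [map_sub, sub_eq_zero, map_mul, AlgHom.map_det]
    have h2 : ((ψ k d N).mapMatrix
        (Matrix.of fun i l => (X (Function.update a i (c l)) : Rp k d N))) =
        Matrix.of fun i l => minor (Xmat k d N) (Function.update a i (c l)) := by
      ext i l
      simp [ψ]
    rw [h2, det_minor_update]
    simp only [ψ, map_mul, map_pow, aeval_X]
    rcases Nat.eq_zero_or_pos d with hd | hd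
    · subst hd
      simp [minor]
    · rw [← mul_assoc, ← pow_succ', Nat.sub_add_cancel hd]

end Relations

end Groth.Agent.Helper1.GR
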