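import Mathlib
import Groth.Agent.Helper1.PUP3
import Groth.Agent.Helper1.HHSum
import Groth.Agent.Helper4.TensorGen

/-!
# Grassmannians, part 3: bases of local sections of a module
-/

set_option autoImplicit false
set_option linter.style.haveILetI false
set_option linter.unusedSectionVars false

namespace Groth.Agent.Helper1.GR

open CategoryTheory Limits AlgebraicGeometry TopologicalSpace Opposite
open Groth.Agent.Helper4.GenLoc Groth.Agent.Helper4.StalkExact Groth.Agent.Helper1.PUP

universe u

variable {X : Scheme.{u}} {d : ℕ}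

/-- restriction of sections -/
noncomputable abbrev rs (L : X.Modules) {V' V : X.Opens} (h : V' ≤ V) (m : Γ(L, V)) : Γ(L, V') :=
  L.presheaf.map (homOfLE h).op m

/-- restriction of functions -/
noncomputable abbrev rf {V' V : X.Opens} (h : V' ≤ V) (c : Γ(X, V)) : Γ(X, V') :=
  X.presheaf.map (homOfLE h).op c

theorem rs_rs (L : X.Modules) {V'' V' V : X.Opens} (h' : V'' ≤ V') (h : V' ≤ V) (m : Γ(L, V)) :
    rs L h' (rs L h m) = rs L (h'.trans h) m :=
  map_map_thin' L _ _ _ m

theorem rs_smul (L : X.Modules) {V' V : X.Opens} (h : V' ≤ V) (c : Γ(X, V)) (m : Γ(L, V)) :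
    rs L h (c • m) = rf h c • rs L h m :=
  Scheme.Modules.map_smul _ _ _ _

theorem rs_sum (L : X.Modules) {V' V : X.Opens} (h : V' ≤ V) {ι : Type*} (S : Finset ι)
    (m : ι → Γ(L, V)) : rs L h (∑ i ∈ S, m i) = ∑ i ∈ S, rs L h (m i) :=
  map_sum _ _ _

theorem rf_rf {V'' V' V : X.Opens} (h' : V'' ≤ V') (h : V' ≤ V) (c : Γ(X, V)) :
    rf h' (rf h c) = rf (h'.trans h) c := by
  unfold rf
  rw [← ConcreteCategory.comp_apply, ← Functor.map_comp]
  rfl

/-- the linear combination map of a family of local sections -/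
noncomputable def comb (L : X.Modules) {V : X.Opens} (t : Fin d → Γ(L, V)) {V' : X.Opens}
    (h : V' ≤ V) (c : Fin d → Γ(X, V')) : Γ(L, V') :=
  ∑ i, c i • rs L h (t i)

/-- the local sections `t` form a basis of `L` over `V` -/
def IsBasisOn (L : X.Modules) (V : X.Opens) (t : Fin d → Γ(L, V)) : Prop :=
  ∀ (V' : X.Opens) (h : V' ≤ V), Function.Bijective (comb L t h)

theorem rs_comb (L : X.Modules) {V : X.Opens} (t : Fin d → Γ(L, V)) {V'' V' : X.Opens}
    (h' : V'' ≤ V') (h : V' ≤ V) (c : Fin d → Γ(X, V')) :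
    rs L h' (comb L t h c) = comb L t (h'.trans h) (fun i => rf h' (c i)) := by
  unfold comb
  rw [rs_sum]
  refine Finset.sum_congr rfl fun i _ => ?_
  rw [rs_smul, rs_rs]

theorem comb_add (L : X.Modules) {V : X.Opens} (t : Fin d → Γ(L, V)) {V' : X.Opens}
    (h : V' ≤ V) (c c' : Fin d → Γ(X, V')) :
    comb L t h (c + c') = comb L t h c + comb L t h c' := by
  unfold comb
  rw [← Finset.sum_add_distrib]
  refine Finset.sum_congr rfl fun i _ => ?_
  rw [Pi.add_apply, add_smul]

theorem comb_smul (L : X.Modules) {V : X.Opens} (t : Fin d → Γ(L, V)) {V' : X.Opens}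
    (h : V' ≤ V) (r : Γ(X, V')) (c : Fin d → Γ(X, V')) :
    comb L t h (r • c) = r • comb L t h c := by
  unfold comb
  rw [Finset.smul_sum]
  refine Finset.sum_congr rfl fun i _ => ?_
  rw [Pi.smul_apply, smul_eq_mul, mul_smul]

theorem comb_sub (L : X.Modules) {V : X.Opens} (t : Fin d → Γ(L, V)) {V' : X.Opens}
    (h : V' ≤ V) (c c' : Fin d → Γ(X, V')) :
    comb L t h (c - c') = comb L t h c - comb L t h c' := by
  unfold comb
  rw [← Finset.sum_sub_distrib]
  refine Finset.sum_congr rfl fun i _ => ?_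
  rw [Pi.sub_apply, sub_smul]

namespace IsBasisOn

variable {L : X.Modules} {V : X.Opens} {t : Fin d → Γ(L, V)} (ht : IsBasisOn L V t)

include ht in
theorem res {V₁ : X.Opens} (h₁ : V₁ ≤ V) : IsBasisOn L V₁ (fun i => rs L h₁ (t i)) := by
  intro V' h
  have : comb L (fun i => rs L h₁ (t i)) h = comb L t (h.trans h₁) := by
    funext c
    unfold comb
    refine Finset.sum_congr rfl fun i _ => ?_
    rw [rs_rs]
  rw [this]
  exact ht V' _

/-- the coefficients of a section in a basis -/
noncomputable def coef {V' : X.Opens} (h : V' ≤ V) (m : Γ(L, V')) : Fin d → Γ(X, V') :=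
  (Equiv.ofBijective _ (ht V' h)).symm m

theorem comb_coef {V' : X.Opens} (h : V' ≤ V) (m : Γ(L, V')) :
    comb L t h (ht.coef h m) = m :=
  (Equiv.ofBijective _ (ht V' h)).apply_symm_apply m

theorem coef_comb {V' : X.Opens} (h : V' ≤ V) (c : Fin d → Γ(X, V')) :
    ht.coef h (comb L t h c) = c :=
  (Equiv.ofBijective _ (ht V' h)).symm_apply_apply c

theorem coef_unique {V' : X.Opens} (h : V' ≤ V) {m : Γ(L, V')} {c : Fin d → Γ(X, V')}
    (hc : comb L t h c = m) : c = ht.coef h m := by
  rw [← hc, coef_comb]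

theorem coef_rs {V'' V' : X.Opens} (h' : V'' ≤ V') (h : V' ≤ V) (m : Γ(L, V')) :
    ht.coef (h'.trans h) (rs L h' m) = fun i => rf h' (ht.coef h m i) := by
  symm
  apply ht.coef_unique
  rw [← rs_comb L t h' h, comb_coef]

include ht in
theorem eq_zero_of_comb {V' : X.Opens} (h : V' ≤ V) {c : Fin d → Γ(X, V')}
    (hc : comb L t h c = 0) : c = 0 := by
  apply (ht V' h).1
  rw [hc]
  unfold comb
  simp

theorem coef_self (l : Fin d) : ht.coef le_rfl (t l) = fun i => if i = l then 1 else 0 := by
  symm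
  apply ht.coef_unique
  unfold comb
  rw [Finset.sum_eq_single l]
  · simp only [if_true, one_smul]
    show L.presheaf.map (homOfLE (le_refl V)).op (t l) = t l
    have : (homOfLE (le_refl V)).op = 𝟙 (op V) := rfl
    rw [this, CategoryTheory.Functor.map_id]
    rfl
  · intro i _ hi
    simp only [if_neg hi, zero_smul]
  · intro h
    exact absurd (Finset.mem_univ _) h

end IsBasisOn

/-- transport along an isomorphism -/
theorem IsBasisOn.of_iso {L L' : X.Modules} (τ : L ≅ L') {V : X.Opens} {t : Fin d → Γ(L, V)}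
    (ht : IsBasisOn L V t) : IsBasisOn L' V (fun i => τ.hom.app V (t i)) := by
  intro V' h
  have h1 : comb L' (fun i => τ.hom.app V (t i)) h = fun c => τ.hom.app V' (comb L t h c) := by
    funext c
    unfold comb
    rw [map_sum]
    refine Finset.sum_congr rfl fun i _ => ?_
    rw [Scheme.Modules.Hom.app_smul]
    congr 1
    exact (app_res τ.hom (homOfLE h) (t i)).symm
  rw [h1]
  have h2 : Function.Bijective (τ.hom.app V') := by
    refine ⟨fun m m' hm => ?_, fun m => ⟨τ.inv.app V' m, ?_⟩⟩
    · have := congrArg (τ.inv.app V') hm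
      rwa [Groth.Agent.Helper4.TensorGen.iso_inv_hom_app,
        Groth.Agent.Helper4.TensorGen.iso_inv_hom_app] at this
    · exact Groth.Agent.Helper4.TensorGen.iso_hom_inv_app τ V' m
  exact h2.comp (ht V' h)

/-- change of basis by an invertible matrix -/
theorem IsBasisOn.of_matrix {L : X.Modules} {V : X.Opens} {t : Fin d → Γ(L, V)}
    (ht : IsBasisOn L V t) (g g' : Matrix (Fin d) (Fin d) Γ(X, V)) (hg : g * g' = 1)
    (hg' : g' * g = 1) :
    IsBasisOn L V (fun l => ∑ i, g i l • t i) := by
  intro V' h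
  have h1 : comb L (fun l => ∑ i, g i l • t i) h =
      fun c => comb L t h ((g.map (rf h)).mulVec c) := by
    funext c
    unfold comb
    simp_rw [rs_sum, rs_smul, Finset.smul_sum, ← mul_smul]
    rw [Finset.sum_comm]
    refine Finset.sum_congr rfl fun i _ => ?_
    rw [← Finset.sum_smul]
    congr 1
    unfold Matrix.mulVec dotProduct
    refine Finset.sum_congr rfl fun l _ => ?_
    exact mul_comm _ _
  rw [h1]
  refine (ht V' h).comp ?_
  have e1 : (g.map (rf h)) * (g'.map (rf h)) = 1 := by
    have := congrArg (RingHom.mapMatrix (X.presheaf.map (homOfLE h).op).hom) hg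
    rw [map_mul, map_one] at this
    exact this
  have e2 : (g'.map (rf h)) * (g.map (rf h)) = 1 := by
    have := congrArg (RingHom.mapMatrix (X.presheaf.map (homOfLE h).op).hom) hg'
    rw [map_mul, map_one] at this
    exact this
  refine ⟨fun c c' hc => ?_, fun c => ⟨(g'.map (rf h)).mulVec c, ?_⟩⟩
  · have := congrArg (fun w => (g'.map (rf h)).mulVec w) hc
    simp only [Matrix.mulVec_mulVec, e2, Matrix.one_mulVec] at this
    exact this
  · simp only [Matrix.mulVec_mulVec, e1, Matrix.one_mulVec]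

end Groth.Agent.Helper1.GR
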