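import Mathlib
import Groth.Agent.Helper1.GR3
import Groth.Agent.Helper4.FinLocFree

/-!
# Grassmannians, part 4: the standard basis of a free module, frames of global sections
-/

set_option autoImplicit false
set_option linter.style.haveILetI false
set_option linter.unusedSectionVars false

namespace Groth.Agent.Helper1.GR

open CategoryTheory Limits AlgebraicGeometry TopologicalSpace Opposite
open Groth.Agent.Helper4.GenLoc Groth.Agent.Helper4.StalkExact Groth.Agent.Helper1.PUP

universe u

variable (X : Scheme.{u}) (d : ℕ)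

/-- the inclusions of the free module -/
noncomputable def inj (i : Fin d) : Coh.structureModule X ⟶ FlatMod.freeMod X d :=
  Sigma.ι (fun _ : Fin d => Coh.structureModule X) i

/-- the projections of the free module -/
noncomputable def prj (i : Fin d) : FlatMod.freeMod X d ⟶ Coh.structureModule X :=
  Groth.Agent.Helper1.HHSum.proj (fun _ : Fin d => Coh.structureModule X) i

theorem inj_prj (i j : Fin d) :
    inj X d i ≫ prj X d j = if i = j then 𝟙 _ else 0 := by
  unfold inj prj
  rw [Groth.Agent.Helper1.HHSum.ι_proj]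
  split_ifs with h
  · rfl
  · rfl

theorem sum_prj_inj : ∑ i, prj X d i ≫ inj X d i = 𝟙 (FlatMod.freeMod X d) :=
  Groth.Agent.Helper1.HHSum.sum_proj_ι (fun _ : Fin d => Coh.structureModule X)

variable {X d}

theorem prj_inj_app (i j : Fin d) (V : X.Opens) (m : Γ(Coh.structureModule X, V)) :
    (prj X d j).app V ((inj X d i).app V m) = if i = j then m else 0 := by
  have h := congrArg (fun φ : Coh.structureModule X ⟶ Coh.structureModule X => φ.app V m)
    (inj_prj X d i j)
  simp only at h
  split_ifs with hij
  · rw [if_pos hij] at h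
    exact h
  · rw [if_neg hij] at h
    exact h

theorem sum_inj_prj_app (V : X.Opens) (m : Γ(FlatMod.freeMod X d, V)) :
    ∑ i, (inj X d i).app V ((prj X d i).app V m) = m := by
  have h := congrArg (fun φ : FlatMod.freeMod X d ⟶ FlatMod.freeMod X d => φ.app V m)
    (sum_prj_inj X d)
  simp only at h
  rw [sum_app] at h
  exact h

/-- the coordinates of a section of the free module -/
noncomputable def coords (V : X.Opens) (m : Γ(FlatMod.freeMod X d, V)) : Fin d → Γ(X, V) :=
  fun i => toFn ((prj X d i).app V m)

/-- the section with given coordinates -/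
noncomputable def ofCoords (V : X.Opens) (c : Fin d → Γ(X, V)) : Γ(FlatMod.freeMod X d, V) :=
  ∑ i, (inj X d i).app V (c i • one X V)

theorem coords_ofCoords (V : X.Opens) (c : Fin d → Γ(X, V)) : coords V (ofCoords V c) = c := by
  funext j
  unfold coords ofCoords
  rw [map_sum, Finset.sum_eq_single j]
  · rw [prj_inj_app, if_pos rfl, smul_one]
  · intro i _ hi
    rw [prj_inj_app, if_neg hi]
  · intro h
    exact absurd (Finset.mem_univ _) h

theorem ofCoords_coords (V : X.Opens) (m : Γ(FlatMod.freeMod X d, V)) :
    ofCoords V (coords V m) = m := by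
  unfold ofCoords coords
  conv_rhs => rw [← sum_inj_prj_app V m]
  refine Finset.sum_congr rfl fun i _ => ?_
  congr 1
  exact mul_one (toFn ((prj X d i).app V m))

theorem coords_bijective (V : X.Opens) :
    Function.Bijective (coords (X := X) (d := d) V) :=
  ⟨fun m m' h => by rw [← ofCoords_coords V m, h, ofCoords_coords],
    fun c => ⟨ofCoords V c, coords_ofCoords V c⟩⟩

variable {L : X.Modules}

theorem rs_sec (σ : Coh.structureModule X ⟶ L) {V' V : X.Opens} (h : V' ≤ V) :
    rs L h (sec σ V) = sec σ V' := sec_res σ h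

/-- the map from the free module attached to a family of global sections -/
noncomputable def frameMap (σ : Fin d → (Coh.structureModule X ⟶ L)) : FlatMod.freeMod X d ⟶ L :=
  Sigma.desc σ

theorem inj_frameMap (σ : Fin d → (Coh.structureModule X ⟶ L)) (i : Fin d) :
    inj X d i ≫ frameMap σ = σ i :=
  Sigma.ι_desc _ _

theorem frameMap_app (σ : Fin d → (Coh.structureModule X ⟶ L)) {V' V : X.Opens} (h : V' ≤ V)
    (m : Γ(FlatMod.freeMod X d, V')) :
    (frameMap σ).app V' m = comb L (fun i => sec (σ i) V) h (coords V' m) := by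
  conv_lhs => rw [← sum_inj_prj_app V' m, map_sum]
  unfold comb
  refine Finset.sum_congr rfl fun i _ => ?_
  have h1 : (frameMap σ).app V' ((inj X d i).app V' ((prj X d i).app V' m)) =
      (σ i).app V' ((prj X d i).app V' m) := by
    have := congrArg (fun φ : Coh.structureModule X ⟶ L => φ.app V' ((prj X d i).app V' m))
      (inj_frameMap σ i)
    exact this
  rw [h1, app_eq_smul_sec]
  show _ = coords V' m i • rs L h (sec (σ i) V)
  rw [rs_sec]
  rfl

/-- the global sections `σ` form a frame of `L` over `V` -/
def IsFrameOn (σ : Fin d → (Coh.structureModule X ⟶ L)) (V : X.Opens) : Prop :=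
  IsBasisOn L V (fun i => sec (σ i) V)

theorem isFrameOn_iff_bijective (σ : Fin d → (Coh.structureModule X ⟶ L)) (V : X.Opens) :
    IsFrameOn σ V ↔ ∀ V' : X.Opens, V' ≤ V → Function.Bijective ((frameMap σ).app V') := by
  constructor
  · intro hσ V' h
    have h1 : ((frameMap σ).app V' : Γ(FlatMod.freeMod X d, V') → Γ(L, V')) =
        comb L (fun i => sec (σ i) V) h ∘ coords V' := by
      funext m
      exact frameMap_app σ h m
    rw [h1]
    exact (hσ V' h).comp (coords_bijective V')
  · intro hb V' h
    have h1 : comb L (fun i => sec (σ i) V) h =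
        ((frameMap σ).app V' : Γ(FlatMod.freeMod X d, V') → Γ(L, V')) ∘ ofCoords V' := by
      funext c
      rw [Function.comp_apply, frameMap_app σ h, coords_ofCoords]
    rw [h1]
    refine (hb V' h).comp ⟨fun c c' hc => ?_, fun m => ⟨coords V' m, ofCoords_coords V' m⟩⟩
    rw [← coords_ofCoords V' c, hc, coords_ofCoords]

theorem isFrameOn_iff_isIso (σ : Fin d → (Coh.structureModule X ⟶ L)) (V : X.Opens) :
    IsFrameOn σ V ↔ IsIso ((Scheme.Modules.restrictFunctor V.ι).map (frameMap σ)) := by
  rw [isFrameOn_iff_bijective, isIso_restrict_iff]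

theorem IsFrameOn.mono {σ : Fin d → (Coh.structureModule X ⟶ L)} {V V₁ : X.Opens}
    (hσ : IsFrameOn σ V) (h : V₁ ≤ V) : IsFrameOn σ V₁ := by
  rw [isFrameOn_iff_bijective] at hσ ⊢
  intro V' h'
  exact hσ V' (h'.trans h)

/-- a module with a frame over `V` is free over `V` -/
theorem IsFrameOn.nonempty_iso {σ : Fin d → (Coh.structureModule X ⟶ L)} {V : X.Opens}
    (hσ : IsFrameOn σ V) : Nonempty (L.restrict V.ι ≅ FlatMod.freeMod (↑V) d) := by
  rw [isFrameOn_iff_isIso] at hσ
  exact ⟨(asIso ((Scheme.Modules.restrictFunctor V.ι).map (frameMap σ))).symm ≪≫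
    Groth.Agent.Helper4.FinLocFree.restrictFreeIso V.ι d⟩

/-- the standard basis of the free module -/
theorem isFrameOn_inj (V : X.Opens) : IsFrameOn (inj X d) V := by
  rw [isFrameOn_iff_bijective]
  intro V' _
  have : frameMap (inj X d) = 𝟙 (FlatMod.freeMod X d) := by
    apply Sigma.hom_ext
    intro i
    rw [Category.comp_id]
    exact inj_frameMap _ i
  rw [this]
  exact Function.bijective_id

/-- transport of frames along isomorphisms -/
theorem IsFrameOn.of_iso {L' : X.Modules} (τ : L ≅ L') {σ : Fin d → (Coh.structureModule X ⟶ L)}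
    {V : X.Opens} (hσ : IsFrameOn σ V) : IsFrameOn (fun i => σ i ≫ τ.hom) V :=
  IsBasisOn.of_iso τ hσ

end Groth.Agent.Helper1.GR
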