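import Mathlib
import Groth.Agent.Helper1.GR4
import Groth.Agent.Helper1.GR2
import Groth.Agent.Helper1.TwistExact

/-!
# Grassmannians, part 5: two modules with generating sections having the same local frames
and the same coefficient matrices are isomorphic
-/

set_option autoImplicit false
set_option linter.style.haveILetI false
set_option linter.unusedSectionVars false

namespace Groth.Agent.Helper1.GR

open CategoryTheory Limits AlgebraicGeometry TopologicalSpace Opposite
open Groth.Agent.Helper4.GenLoc Groth.Agent.Helper4.StalkExact Groth.Agent.Helper1.PUP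

universe u

variable {X : Scheme.{u}} {d N : ℕ}

/-- frame data for a family of `N` global sections: a cover, on each member a choice of `d`
sections forming a frame, and the coefficient matrix of all sections in that frame -/
structure FrameData {M : X.Modules} (σ : Fin N → (Coh.structureModule X ⟶ M)) (E : Type*)
    (W : E → X.Opens) (a : E → Idx d N) (B : ∀ e, Matrix (Fin d) (Fin N) Γ(X, W e)) : Prop where
  frame : ∀ e, IsFrameOn (fun i => σ (a e i)) (W e)
  rel : ∀ e j, sec (σ j) (W e) = ∑ i, B e i j • sec (σ (a e i)) (W e)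

variable {M : X.Modules} {σ : Fin N → (Coh.structureModule X ⟶ M)} {E : Type*}
  {W : E → X.Opens} {a : E → Idx d N} {B : ∀ e, Matrix (Fin d) (Fin N) Γ(X, W e)}

namespace FrameData

variable (hσ : FrameData σ E W a B)

include hσ in
theorem rel_res (e : E) (j : Fin N) {V : X.Opens} (hV : V ≤ W e) :
    sec (σ j) V = ∑ i, rf hV (B e i j) • sec (σ (a e i)) V := by
  have h := congrArg (rs M hV) (hσ.rel e j)
  rw [rs_sec, rs_sum] at h
  rw [h]
  refine Finset.sum_congr rfl fun i _ => ?_
  rw [rs_smul, rs_sec]

include hσ in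
/-- the value of the map from the free module, in terms of the frame -/
theorem frameMap_app_eq (e : E) {V : X.Opens} (hV : V ≤ W e) (y : Γ(FlatMod.freeMod X N, V)) :
    (frameMap σ).app V y = comb M (fun i => sec (σ (a e i)) (W e)) hV
      (fun i => ∑ j, coords V y j * rf hV (B e i j)) := by
  rw [frameMap_app σ (le_refl V)]
  unfold comb
  simp_rw [rs_sec, Finset.sum_smul, mul_smul]
  rw [Finset.sum_comm]
  refine Finset.sum_congr rfl fun j _ => ?_
  rw [← Finset.smul_sum, ← hσ.rel_res e j hV]

include hσ in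
theorem epi_frameMap (hcov : ⨆ e, W e = ⊤) : Epi (frameMap σ) := by
  apply Groth.Agent.Helper1.TwistExact.epi_of_local_lift
  intro T t x hx
  have hx' : x ∈ ⨆ e, W e := by rw [hcov]; trivial
  obtain ⟨e, he⟩ := Opens.mem_iSup.1 hx'
  refine ⟨T ⊓ W e, inf_le_left, ⟨hx, he⟩, ?_⟩
  set V := T ⊓ W e with hV
  have hVW : V ≤ W e := inf_le_right
  set c := (hσ.frame e).coef hVW (M.presheaf.map (homOfLE (inf_le_left : V ≤ T)).op t) with hc
  refine ⟨∑ i, (inj X N (a e i)).app V (c i • one X V), ?_⟩
  rw [map_sum]
  have h1 := (hσ.frame e).comb_coef hVW (M.presheaf.map (homOfLE (inf_le_left : V ≤ T)).op t)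
  rw [← h1]
  unfold comb
  refine Finset.sum_congr rfl fun i _ => ?_
  have h2 : (frameMap σ).app V ((inj X N (a e i)).app V (c i • one X V)) =
      (σ (a e i)).app V (c i • one X V) :=
    congrArg (fun φ : Coh.structureModule X ⟶ M => φ.app V (c i • one X V))
      (inj_frameMap σ (a e i))
  rw [h2, Scheme.Modules.Hom.app_smul, rs_sec]
  rfl

end FrameData

variable {M' : X.Modules} {σ' : Fin N → (Coh.structureModule X ⟶ M')}

/-- relations among the `σ j` are relations among the `σ' j` -/
theorem comp_frameMap_eq_zero (hσ : FrameData σ E W a B) (hσ' : FrameData σ' E W a B)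
    (hcov : ⨆ e, W e = ⊤) {K : X.Modules} (c : K ⟶ FlatMod.freeMod X N)
    (hc : c ≫ frameMap σ = 0) : c ≫ frameMap σ' = 0 := by
  apply hom_ext_of_cover _ _ W hcov
  intro e V hV m
  have h0 : (frameMap σ).app V (c.app V m) = 0 := by
    have := congrArg (fun φ : K ⟶ M => φ.app V m) hc
    exact this
  rw [hσ.frameMap_app_eq e hV] at h0
  have h1 := (hσ.frame e).eq_zero_of_comb hV h0
  show (frameMap σ').app V (c.app V m) = 0
  rw [hσ'.frameMap_app_eq e hV, h1]
  unfold comb
  simp

/-- two modules with the same frame data are isomorphic, compatibly with the sections -/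
theorem exists_iso_of_frameData (hσ : FrameData σ E W a B) (hσ' : FrameData σ' E W a B)
    (hcov : ⨆ e, W e = ⊤) : ∃ τ : M' ≅ M, ∀ j, σ' j ≫ τ.hom = σ j := by
  haveI := hσ.epi_frameMap hcov
  haveI := hσ'.epi_frameMap hcov
  have h1 : kernel.ι (frameMap σ') ≫ frameMap σ = 0 :=
    comp_frameMap_eq_zero hσ' hσ hcov _ (kernel.condition _)
  have h2 : kernel.ι (frameMap σ) ≫ frameMap σ' = 0 :=
    comp_frameMap_eq_zero hσ hσ' hcov _ (kernel.condition _)
  let τ : M' ⟶ M := (Abelian.epiIsCokernelOfKernel
    (KernelFork.ofι _ (kernel.condition (frameMap σ')))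
    (kernelIsKernel _)).desc (CokernelCofork.ofπ (frameMap σ) h1)
  let τ' : M ⟶ M' := (Abelian.epiIsCokernelOfKernel
    (KernelFork.ofι _ (kernel.condition (frameMap σ)))
    (kernelIsKernel _)).desc (CokernelCofork.ofπ (frameMap σ') h2)
  have hτ : frameMap σ' ≫ τ = frameMap σ :=
    (Abelian.epiIsCokernelOfKernel (KernelFork.ofι _ (kernel.condition (frameMap σ')))
      (kernelIsKernel _)).fac (CokernelCofork.ofπ (frameMap σ) h1) WalkingParallelPair.one
  have hτ' : frameMap σ ≫ τ' = frameMap σ' :=
    (Abelian.epiIsCokernelOfKernel (KernelFork.ofι _ (kernel.condition (frameMap σ)))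
      (kernelIsKernel _)).fac (CokernelCofork.ofπ (frameMap σ') h2) WalkingParallelPair.one
  refine ⟨⟨τ, τ', ?_, ?_⟩, fun j => ?_⟩
  · rw [← cancel_epi (frameMap σ'), reassoc_of% hτ, hτ', Category.comp_id]
  · rw [← cancel_epi (frameMap σ), reassoc_of% hτ', hτ, Category.comp_id]
  · show σ' j ≫ τ = σ j
    rw [← inj_frameMap σ' j, Category.assoc, hτ, inj_frameMap]

end Groth.Agent.Helper1.GR
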