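import Mathlib
import Groth.Agent.Helper1.GR5
import Groth.Agent.Helper4.EpiStalk

/-!
# Grassmannians, part 6: generating sections of a locally free module of rank `d` contain
local frames
-/

set_option autoImplicit false
set_option linter.style.haveILetI false
set_option linter.unusedSectionVars false

namespace Groth.Agent.Helper1.GR

open CategoryTheory Limits AlgebraicGeometry TopologicalSpace Opposite Matrix
open Groth.Agent.Helper4.GenLoc Groth.Agent.Helper4.StalkExact Groth.Agent.Helper1.PUP

universe u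

section Algebra

variable {d N : ℕ} {Γ : Type*} [CommRing Γ]

/-- the Cauchy–Binet expansion over all tuples of columns -/
theorem det_mul_eq_sum (v : Matrix (Fin d) (Fin N) Γ) (c : Matrix (Fin N) (Fin d) Γ) :
    (v * c).det = ∑ a : Fin d → Fin N, (∏ l, c (a l) l) * minor v a := by
  classical
  have h1 : (v * c).det = Matrix.detRowAlternating (n := Fin d) (R := Γ)
      (fun l => ∑ j, c j l • (fun r => v r j)) := by
    rw [← det_transpose]
    show det _ = det _
    congr 1
    ext l r
    simp [Matrix.mul_apply, mul_comm]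
  rw [h1]
  have h2 := (Matrix.detRowAlternating (n := Fin d) (R := Γ)).toMultilinearMap.map_sum
    (fun l j => c j l • (fun r => v r j))
  simp only [AlternatingMap.coe_multilinearMap] at h2
  rw [h2]
  refine Finset.sum_congr rfl fun a _ => ?_
  have h3 := (Matrix.detRowAlternating (n := Fin d) (R := Γ)).toMultilinearMap.map_smul_univ
    (fun l => c (a l) l) (fun l => (fun r => v r (a l)))
  simp only [AlternatingMap.coe_multilinearMap] at h3
  rw [h3, smul_eq_mul]
  congr 1
  show det _ = _
  unfold minor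
  rw [← det_transpose]
  rfl

theorem exists_isUnit_of_sum_eq_one {A : Type*} [CommRing A] [IsLocalRing A] {ι : Type*}
    (S : Finset ι) (f : ι → A) (h : ∑ i ∈ S, f i = 1) : ∃ i ∈ S, IsUnit (f i) := by
  by_contra hcon
  push Not at hcon
  have h1 : ∑ i ∈ S, f i ∈ IsLocalRing.maximalIdeal A :=
    Ideal.sum_mem _ (fun i hi => (IsLocalRing.mem_maximalIdeal _).2 (hcon i hi))
  rw [h] at h1
  exact (IsLocalRing.maximalIdeal.isMaximal A).ne_top
    ((Ideal.eq_top_iff_one _).2 h1)

end Algebra

variable {X : Scheme.{u}} {d N : ℕ}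

theorem exists_common_nhds {ι : Type*} [Finite ι] (x : X) (P : ι → X.Opens → Prop)
    (hP : ∀ i W W', W' ≤ W → P i W → P i W') (h : ∀ i, ∃ W : X.Opens, x ∈ W ∧ P i W) :
    ∃ W : X.Opens, x ∈ W ∧ ∀ i, P i W := by
  classical
  haveI := Fintype.ofFinite ι
  choose W hxW hW using h
  refine ⟨Finset.univ.inf W, ?_, fun i => hP i _ _ (Finset.inf_le (Finset.mem_univ i)) (hW i)⟩
  have : ∀ S : Finset ι, x ∈ S.inf W := by
    intro S
    induction S using Finset.induction_on with
    | empty => simp
    | insert i S _ ih =>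
      rw [Finset.inf_insert]
      exact ⟨hxW i, ih⟩
  exact this _

/-- transfer of bases from an open subscheme -/
theorem IsBasisOn.of_restrict {L : X.Modules} (U : X.Opens) {W : (U : Scheme.{u}).Opens}
    (t : Fin d → Γ(L.restrict U.ι, W)) (ht : IsBasisOn (L.restrict U.ι) W t) :
    IsBasisOn L (U.ι ''ᵁ W) (fun i => (show Γ(L, U.ι ''ᵁ W) from t i)) := by
  intro V' h
  have hV'U : V' ≤ U := h.trans (by
    rintro _ ⟨y, _, rfl⟩
    exact y.2)
  obtain ⟨W', rfl⟩ : ∃ W' : (U : Scheme.{u}).Opens, V' = U.ι ''ᵁ W' :=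
    ⟨U.ι ⁻¹ᵁ V', (image_preimage_of_le' U hV'U).symm⟩
  have h' : W' ≤ W := by
    intro y hy
    obtain ⟨z, hz, hzy⟩ := h ⟨y, hy, rfl⟩
    have : z = y := U.ι.isOpenEmbedding.injective hzy
    rw [← this]
    exact hz
  have key : comb L (fun i => (show Γ(L, U.ι ''ᵁ W) from t i)) h =
      fun c => comb (L.restrict U.ι) t h' (fun i => (U.ι.appIso W').hom.hom (c i)) := by
    funext c
    unfold comb
    refine Finset.sum_congr rfl fun i _ => ?_
    have e1 : (U.ι.appIso W').inv.hom ((U.ι.appIso W').hom.hom (c i)) = c i := by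
      rw [← CommRingCat.comp_apply, Iso.hom_inv_id]
      rfl
    conv_lhs => rw [← e1]
    rfl
  rw [key]
  refine (ht W' h').comp ⟨fun c c' hc => ?_, fun c => ⟨fun i => (U.ι.appIso W').inv.hom (c i), ?_⟩⟩
  · funext i
    have := congrFun hc i
    simp only at this
    have h2 := congrArg (U.ι.appIso W').inv.hom this
    rwa [← CommRingCat.comp_apply, ← CommRingCat.comp_apply, Iso.hom_inv_id] at h2
  · funext i
    simp only
    rw [← CommRingCat.comp_apply, Iso.inv_hom_id]
    rfl

end Groth.Agent.Helper1.GR
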