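import Mathlib
import Groth.Agent.Helper1.GR6

/-!
# Grassmannians, part 7: the frame data of a family of generating sections of a locally free
module of rank `d`
-/

set_option autoImplicit false
set_option linter.style.haveILetI false
set_option linter.unusedSectionVars false

namespace Groth.Agent.Helper1.GR

open CategoryTheory Limits AlgebraicGeometry TopologicalSpace Opposite Matrix
open Groth.Agent.Helper4.GenLoc Groth.Agent.Helper4.StalkExact Groth.Agent.Helper1.PUP

universe u

variable {X : Scheme.{u}} {d N : ℕ} {L : X.Modules}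

/-- a local basis from a trivialisation -/
theorem exists_isBasisOn_of_iso (U : X.Opens)
    (ε : L.restrict U.ι ≅ FlatMod.freeMod (↑U) d) :
    ∃ t : Fin d → Γ(L, U.ι ''ᵁ ⊤), IsBasisOn L (U.ι ''ᵁ ⊤) t := by
  have h1 : IsBasisOn (FlatMod.freeMod (↑U) d) ⊤ (fun i => sec (inj (↑U) d i) ⊤) :=
    isFrameOn_inj ⊤
  have h2 := IsBasisOn.of_iso ε.symm h1
  exact ⟨_, IsBasisOn.of_restrict U _ h2⟩

theorem exists_isBasisOn_nhds (hL : FlatMod.IsFinLocFreeOfRank d L) (x : X) :
    ∃ (V₀ : X.Opens) (t : Fin d → Γ(L, V₀)), x ∈ V₀ ∧ IsBasisOn L V₀ t := by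
  obtain ⟨U, hxU, ⟨ε⟩⟩ := hL x
  obtain ⟨t, ht⟩ := exists_isBasisOn_of_iso U ε
  refine ⟨U.ι ''ᵁ ⊤, t, ?_, ht⟩
  rw [Scheme.Opens.ι_image_top]
  exact hxU

theorem rs_refl (L : X.Modules) {V : X.Opens} (m : Γ(L, V)) : rs L (le_refl V) m = m := by
  show L.presheaf.map (homOfLE (le_refl V)).op m = m
  have : (homOfLE (le_refl V)).op = 𝟙 (op V) := rfl
  rw [this, CategoryTheory.Functor.map_id]
  rfl

/-- sections are locally combinations of the generating sections -/
theorem exists_local_comb (s : Fin N → (Coh.structureModule X ⟶ L)) [Epi (frameMap s)]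
    {V : X.Opens} (m : Γ(L, V)) (x : X) (hx : x ∈ V) :
    ∃ W : X.Opens, x ∈ W ∧ ∃ hW : W ≤ V, ∃ c : Fin N → Γ(X, W),
      rs L hW m = ∑ j, c j • sec (s j) W := by
  obtain ⟨W, hWV, hxW, y, hy⟩ :=
    Groth.Agent.Helper4.EpiStalk.exists_local_lift_of_epi (frameMap s) V m x hx
  refine ⟨W, hxW, hWV, coords W y, ?_⟩
  rw [frameMap_app s (le_refl W)] at hy
  unfold comb at hy
  simp_rw [rs_sec] at hy
  exact hy.symm

theorem exists_frame_nhds (hL : FlatMod.IsFinLocFreeOfRank d L)
    (s : Fin N → (Coh.structureModule X ⟶ L)) [Epi (frameMap s)] (x : X) :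
    ∃ (a : Idx d N) (V : X.Opens), x ∈ V ∧ IsFrameOn (fun i => s (a i)) V := by
  obtain ⟨V₀, t, hxV₀, ht⟩ := exists_isBasisOn_nhds hL x
  -- the coordinates of the sections
  let v : Matrix (Fin d) (Fin N) Γ(X, V₀) := fun i j => ht.coef le_rfl (sec (s j) V₀) i
  have hv : ∀ j, sec (s j) V₀ = ∑ i, v i j • t i := by
    intro j
    have h := ht.comb_coef le_rfl (sec (s j) V₀)
    unfold comb at h
    rw [← h]
    refine Finset.sum_congr rfl fun i _ => ?_
    congr 1
    exact rs_refl L (t i)
  -- the basis in terms of the sections, near `x`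
  obtain ⟨W, hxW, hW⟩ := exists_common_nhds x
    (fun (i : Fin d) (W : X.Opens) => ∃ hW : W ≤ V₀, ∃ c : Fin N → Γ(X, W),
      rs L hW (t i) = ∑ j, c j • sec (s j) W)
    (by
      rintro i W W' hW' ⟨hW, c, hc⟩
      refine ⟨hW'.trans hW, fun j => rf hW' (c j), ?_⟩
      have := congrArg (rs L hW') hc
      rw [rs_rs, rs_sum] at this
      rw [this]
      refine Finset.sum_congr rfl fun j _ => ?_
      rw [rs_smul, rs_sec])
    (by
      intro i
      obtain ⟨W, hxW, hW, c, hc⟩ := exists_local_comb s (t i) x hxV₀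
      exact ⟨W, hxW, hW, c, hc⟩)
  rcases Nat.eq_zero_or_pos d with hd | hd
  · -- rank zero: the empty family is a frame
    subst hd
    refine ⟨fun i => i.elim0, V₀, hxV₀, ?_⟩
    intro V' h
    have := ht V' h
    have e : comb L (fun i : Fin 0 => sec (s ((fun i => i.elim0 : Idx 0 N) i)) V₀) h =
        comb L t h := by
      funext c
      unfold comb
      simp
    rw [e]
    exact this
  have hW₀ : W ≤ V₀ := (hW ⟨0, hd⟩).1
  choose _ c hc using hW
  let cm : Matrix (Fin N) (Fin d) Γ(X, W) := fun j i => c i j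
  have htW := ht.res hW₀
  have hone : (v.map (rf hW₀)) * cm = 1 := by
    ext i' i
    have h1 : rs L hW₀ (t i) = comb L (fun i => rs L hW₀ (t i)) le_rfl
        (fun i' => ((v.map (rf hW₀)) * cm) i' i) := by
      rw [hc i]
      unfold comb
      simp_rw [Matrix.mul_apply, Finset.sum_smul]
      rw [Finset.sum_comm]
      refine Finset.sum_congr rfl fun j _ => ?_
      have h2 := congrArg (rs L hW₀) (hv j)
      rw [rs_sec, rs_sum] at h2
      rw [h2, Finset.smul_sum]
      refine Finset.sum_congr rfl fun i' _ => ?_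
      rw [rs_smul, ← mul_smul, Matrix.map_apply, mul_comm]
      congr 1
      exact (rs_refl L (rs L hW₀ (t i'))).symm
    have h3 := htW.coef_unique le_rfl h1.symm
    rw [htW.coef_self] at h3
    have h4 := congrFun h3 i'
    rw [h4, Matrix.one_apply]
  -- Cauchy–Binet
  have hsum : ∑ a : Idx d N, (∏ l, cm (a l) l) * minor (v.map (rf hW₀)) a = 1 := by
    rw [← det_mul_eq_sum, hone, det_one]
  have hgerm := congrArg (X.presheaf.germ W x hxW).hom hsum
  rw [map_sum, map_one] at hgerm
  obtain ⟨a, -, ha⟩ := exists_isUnit_of_sum_eq_one _ _ hgerm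
  rw [map_mul] at ha
  have ha' := isUnit_of_mul_isUnit_right ha
  have hmin : minor (v.map (rf hW₀)) a = rf hW₀ (minor v a) :=
    minor_map (X.presheaf.map (homOfLE hW₀).op).hom v a
  rw [hmin] at ha'
  have ha'' : IsUnit ((X.presheaf.germ V₀ x hxV₀).hom (minor v a)) := by
    have := X.presheaf.germ_res_apply (homOfLE hW₀) x hxW (minor v a)
    rw [← this]
    exact ha'
  set V := X.basicOpen (minor v a) with hV
  have hxV : x ∈ V := (X.mem_basicOpen (minor v a) x hxV₀).2 ha''
  have hVV₀ : V ≤ V₀ := X.basicOpen_le _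
  refine ⟨a, V, hxV, ?_⟩
  -- the change of basis matrix
  let g : Matrix (Fin d) (Fin d) Γ(X, V) := (v.submatrix id a).map (rf hVV₀)
  have hdet : IsUnit g.det := by
    have h1 : g.det = rf hVV₀ (minor v a) := by
      show ((v.submatrix id a).map (X.presheaf.map (homOfLE hVV₀).op).hom).det = _
      rw [← RingHom.mapMatrix_apply, ← RingHom.map_det]
      rfl
    rw [h1]
    exact RingedSpace.isUnit_res_basicOpen _ (minor v a)
  have hb := (ht.res hVV₀).of_matrix g g⁻¹ (Matrix.mul_nonsing_inv g hdet)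
    (Matrix.nonsing_inv_mul g hdet)
  have he : (fun l => ∑ i, g i l • rs L hVV₀ (t i)) = fun l => sec (s (a l)) V := by
    funext l
    have h2 := congrArg (rs L hVV₀) (hv (a l))
    rw [rs_sec, rs_sum] at h2
    rw [h2]
    refine Finset.sum_congr rfl fun i _ => ?_
    rw [rs_smul]
    rfl
  rw [he] at hb
  exact hb

end Groth.Agent.Helper1.GR
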