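import Mathlib
import Groth.Agent.Helper1.GR7

/-!
# Grassmannians, part 8: the canonical frame data; transition matrices
-/

set_option autoImplicit false
set_option linter.style.haveILetI false
set_option linter.unusedSectionVars false

namespace Groth.Agent.Helper1.GR

open CategoryTheory Limits AlgebraicGeometry TopologicalSpace Opposite Matrix
open Groth.Agent.Helper4.GenLoc Groth.Agent.Helper4.StalkExact Groth.Agent.Helper1.PUP

universe u

variable {X : Scheme.{u}} {d N : ℕ} {L : X.Modules}

section Canonical

variable (s : Fin N → (Coh.structureModule X ⟶ L)) (d)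

/-- the index type of the canonical frame data -/
def FrIdx : Type u := {p : Idx d N × X.Opens // IsFrameOn (fun i => s (p.1 i)) p.2}

variable {s d}

/-- the open of an index -/
def frW (e : FrIdx d s) : X.Opens := e.1.2

/-- the columns of an index -/
def frA (e : FrIdx d s) : Idx d N := e.1.1

theorem frame_frIdx (e : FrIdx d s) : IsFrameOn (fun i => s (frA e i)) (frW e) := e.2

/-- the coefficient matrix of an index -/
noncomputable def frB (e : FrIdx d s) : Matrix (Fin d) (Fin N) Γ(X, frW e) :=
  fun i j => IsBasisOn.coef (frame_frIdx e) le_rfl (sec (s j) (frW e)) i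

variable (s d)

theorem frameData_canonical : FrameData s (FrIdx d s) frW frA frB where
  frame := frame_frIdx
  rel e j := by
    have h := IsBasisOn.comb_coef (frame_frIdx e) le_rfl (sec (s j) (frW e))
    unfold comb at h
    conv_lhs => rw [← h]
    refine Finset.sum_congr rfl fun i _ => ?_
    congr 1
    exact rs_refl L _

theorem iSup_frW (hL : FlatMod.IsFinLocFreeOfRank d L) [Epi (frameMap s)] :
    ⨆ e : FrIdx d s, frW e = ⊤ := by
  rw [eq_top_iff]
  intro x _
  obtain ⟨a, V, hxV, hV⟩ := exists_frame_nhds hL s x
  exact Opens.mem_iSup.2 ⟨⟨(a, V), hV⟩, hxV⟩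

end Canonical

variable {σ : Fin N → (Coh.structureModule X ⟶ L)} {E : Type*}
  {W : E → X.Opens} {a : E → Idx d N} {B : ∀ e, Matrix (Fin d) (Fin N) Γ(X, W e)}

namespace FrameData

variable (hσ : FrameData σ E W a B)

include hσ in
/-- the coefficient matrix is determined by the frame -/
theorem coef_eq (e : E) {V : X.Opens} (hV : V ≤ W e) (j : Fin N) :
    IsBasisOn.coef (hσ.frame e) hV (sec (σ j) V) = fun i => rf hV (B e i j) := by
  symm
  apply IsBasisOn.coef_unique
  unfold comb
  simp_rw [rs_sec]
  exact (hσ.rel_res e j hV).symm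

include hσ in
theorem B_self (e : E) : (B e).submatrix id (a e) = 1 := by
  ext i l
  have h1 := congrFun (hσ.coef_eq e le_rfl (a e l)) i
  have h2 := congrFun (IsBasisOn.coef_self (hσ.frame e) l) i
  simp only at h1
  rw [h2] at h1
  rw [Matrix.submatrix_apply, id, Matrix.one_apply]
  have h3 : rf (le_refl (W e)) (B e i (a e l)) = B e i (a e l) := by
    show X.presheaf.map (homOfLE (le_refl (W e))).op (B e i (a e l)) = _
    have : (homOfLE (le_refl (W e))).op = 𝟙 (op (W e)) := rfl
    rw [this, CategoryTheory.Functor.map_id]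
    rfl
  rw [h3] at h1
  exact h1.symm

include hσ in
/-- the cocycle relation between the coefficient matrices -/
theorem B_trans (e e' : E) {V : X.Opens} (hV : V ≤ W e) (hV' : V ≤ W e') :
    (B e').map (rf hV') = ((B e').map (rf hV')).submatrix id (a e) * (B e).map (rf hV) := by
  ext i' j
  have h1 : sec (σ j) V = comb L (fun i => sec (σ (a e' i)) (W e')) hV'
      (fun i' => (((B e').map (rf hV')).submatrix id (a e) * (B e).map (rf hV)) i' j) := by
    rw [hσ.rel_res e j hV]
    unfold comb
    simp_rw [Matrix.mul_apply, Finset.sum_smul, rs_sec]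
    rw [Finset.sum_comm]
    refine Finset.sum_congr rfl fun i _ => ?_
    rw [hσ.rel_res e' (a e i) hV', Finset.smul_sum]
    refine Finset.sum_congr rfl fun i' _ => ?_
    rw [← mul_smul, mul_comm]
    rfl
  have h2 := IsBasisOn.coef_unique (hσ.frame e') hV' h1.symm
  rw [hσ.coef_eq e' hV' j] at h2
  exact (congrFun h2 i').symm

include hσ in
theorem trans_mul_trans (e e' : E) {V : X.Opens} (hV : V ≤ W e) (hV' : V ≤ W e') :
    ((B e').map (rf hV')).submatrix id (a e) * ((B e).map (rf hV)).submatrix id (a e') = 1 := by
  have h1 : ((B e').map (rf hV')).submatrix id (a e') =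
      (((B e').map (rf hV')).submatrix id (a e) * (B e).map (rf hV)).submatrix id (a e') :=
    congrArg (fun M : Matrix (Fin d) (Fin N) Γ(X, V) => M.submatrix id (a e'))
      (hσ.B_trans e e' hV hV')
  have h2 : ((B e').map (rf hV')).submatrix id (a e') = 1 := by
    have := congrArg (fun M : Matrix (Fin d) (Fin d) Γ(X, W e') =>
      (RingHom.mapMatrix (X.presheaf.map (homOfLE hV').op).hom) M) (hσ.B_self e')
    simp only [map_one] at this
    exact this
  rw [h2] at h1
  rw [h1]
  ext i l
  simp [Matrix.mul_apply]

end FrameData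

end Groth.Agent.Helper1.GR
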