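import Mathlib
import Groth.Agent.Helper4.TwistExt
import Groth.Agent.Helper4.StalkExact

/-!
# Gluing morphisms of modules from compatible data on the small opens of a cover
-/

set_option autoImplicit false
set_option linter.style.haveILetI false

namespace Groth.Agent.Helper1.GlueHom

open CategoryTheory Limits AlgebraicGeometry TopologicalSpace Opposite
open Groth.Agent.Helper4.StalkExact

universe u

variable {X : Scheme.{u}} {N L : X.Modules} {E : Type*} (W : E → X.Opens)

/-- the opens contained in a member of the family -/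
def Small : Type u := {V : X.Opens // ∃ e, V ≤ W e}

/-- the inclusion of the small opens -/
def incl : Small W → Opens X := fun V => V.1

include W in
theorem isBasis (hcov : ⨆ e, W e = ⊤) : Opens.IsBasis (Set.range (incl W)) := by
  rw [Opens.isBasis_iff_nbhd]
  intro U x hx
  have hx' : x ∈ ⨆ e, W e := by rw [hcov]; trivial
  obtain ⟨e, he⟩ := Opens.mem_iSup.1 hx'
  exact ⟨U ⊓ W e, ⟨⟨U ⊓ W e, e, inf_le_right⟩, rfl⟩, ⟨hx, he⟩, inf_le_left⟩

variable (t : ∀ V : Small W, Γ(N, V.1) →+ Γ(L, V.1))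
  (hnat : ∀ (V V' : Small W) (h : V'.1 ≤ V.1) (n : Γ(N, V.1)),
    L.presheaf.map (homOfLE h).op (t V n) = t V' (N.presheaf.map (homOfLE h).op n))

/-- the natural transformation on the small opens -/
noncomputable def α : (inducedFunctor (incl W)).op ⋙ N.presheaf ⟶
    (inducedFunctor (incl W)).op ⋙ L.presheaf where
  app V := AddCommGrpCat.ofHom (t V.unop)
  naturality V V' f := by
    ext n
    exact (hnat V.unop V'.unop (leOfHom f.unop.hom) n).symm

/-- the glued morphism of abelian presheaves -/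
noncomputable def φ (hcov : ⨆ e, W e = ⊤) : N.presheaf ⟶ L.presheaf :=
  TopCat.Sheaf.restrictHomEquivHom N.presheaf ⟨L.presheaf, L.isSheaf⟩ (isBasis W hcov)
    (α W t hnat)

theorem φ_app (hcov : ⨆ e, W e = ⊤) (V : Small W) (n : Γ(N, V.1)) :
    (φ W t hnat hcov).app (op V.1) n = t V n := by
  have h := TopCat.Sheaf.extend_hom_app N.presheaf ⟨L.presheaf, L.isSheaf⟩ (isBasis W hcov)
    (α W t hnat) V
  exact congrArg (fun f => f.hom n) h

theorem φ_res (hcov : ⨆ e, W e = ⊤) {T V : X.Opens} (h : V ≤ T) (n : Γ(N, T)) :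
    L.presheaf.map (homOfLE h).op ((φ W t hnat hcov).app (op T) n) =
      (φ W t hnat hcov).app (op V) (N.presheaf.map (homOfLE h).op n) := by
  have := (φ W t hnat hcov).naturality (homOfLE h).op
  exact (congrArg (fun f => f.hom n) this).symm

variable (hlin : ∀ (V : Small W) (c : Γ(X, V.1)) (n : Γ(N, V.1)), t V (c • n) = c • t V n)

include hlin in
theorem φ_smul (hcov : ⨆ e, W e = ⊤) (T : X.Opens) (c : Γ(X, T)) (n : Γ(N, T)) :
    (φ W t hnat hcov).app (op T) (c • n) = c • (φ W t hnat hcov).app (op T) n := by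
  apply Groth.Agent.Helper4.TwistExt.eq_of_cover L T
  intro y hy
  have hy' : y ∈ ⨆ e, W e := by rw [hcov]; trivial
  obtain ⟨e, he⟩ := Opens.mem_iSup.1 hy'
  refine ⟨T ⊓ W e, inf_le_left, ⟨hy, he⟩, ?_⟩
  rw [φ_res, Scheme.Modules.map_smul, Scheme.Modules.map_smul, φ_res]
  exact (φ_app W t hnat hcov ⟨T ⊓ W e, e, inf_le_right⟩ _).trans
    ((hlin ⟨T ⊓ W e, e, inf_le_right⟩ _ _).trans
      (congrArg (fun z => _ • z) (φ_app W t hnat hcov ⟨T ⊓ W e, e, inf_le_right⟩ _).symm))

include hnat hlin in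
/-- **gluing morphisms of modules** -/
theorem exists_glue (hcov : ⨆ e, W e = ⊤) :
    ∃ τ : N ⟶ L, ∀ (V : Small W) (n : Γ(N, V.1)), τ.app V.1 n = t V n := by
  refine ⟨⟨PresheafOfModules.homMk (φ W t hnat hcov)
    (fun U c n => φ_smul W t hnat hlin hcov U.unop c n)⟩, fun V n => ?_⟩
  exact φ_app W t hnat hcov V n

end Groth.Agent.Helper1.GlueHom
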