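import Mathlib
import Groth.Agent.Helper1.PUP3
import Groth.Agent.Helper1.GlueHom

/-!
# Universal property of projective bundles, part 1: two modules with the same ratios are
isomorphic (arbitrary index type)
-/

set_option autoImplicit false
set_option linter.style.haveILetI false
set_option linter.unusedSectionVars false

namespace Groth.Agent.Helper1.PUP

open CategoryTheory Limits AlgebraicGeometry TopologicalSpace Opposite
open Groth.Agent.Helper4.GenLoc Groth.Agent.Helper4.GenLocIso Groth.Agent.Helper4.StalkExact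
open Groth.Agent.Helper1.GlueHom

universe u

variable {X : Scheme.{u}} {M N : X.Modules} {E : Type*}
  (σ : E → (Coh.structureModule X ⟶ M)) (σ' : E → (Coh.structureModule X ⟶ N))
  (W : E → X.Opens) (hcov : ⨆ e, W e = ⊤)
  (a : ∀ _ e : E, Γ(X, W e))

include hcov in
/-- morphisms out of a module generated by the `σ' e` are determined by the composites -/
theorem hom_ext_of_gen {K : X.Modules} (φ ψ : N ⟶ K)
    (hW' : ∀ e, W e ≤ CohB1.genLocus N (σ' e))
    (h : ∀ e, σ' e ≫ φ = σ' e ≫ ψ) : φ = ψ := by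
  apply hom_ext_of_cover φ ψ W hcov
  intro e V hV n
  obtain ⟨c, rfl⟩ := exists_smul_sec (σ' e) (hV.trans (hW' e)) n
  rw [Scheme.Modules.Hom.app_smul, Scheme.Modules.Hom.app_smul]
  congr 1
  have := congrArg (fun f => sec f V) (h e)
  exact this

theorem ha_res (ha : ∀ k e, a k e • sec (σ e) (W e) = sec (σ k) (W e)) (k e : E) {V : X.Opens}
    (hV : V ≤ W e) :
    X.presheaf.map (homOfLE hV).op (a k e) • sec (σ e) V = sec (σ k) V := by
  have h := congrArg (M.presheaf.map (homOfLE hV).op) (ha k e)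
  rw [Scheme.Modules.map_smul, sec_res, sec_res] at h
  exact h

/-- the local maps -/
noncomputable def tloc (hW' : ∀ e, W e ≤ CohB1.genLocus N (σ' e)) (V : Small W) :
    Γ(N, V.1) →+ Γ(M, V.1) :=
  ((σ V.2.choose).app V.1).hom.comp
    (AddEquiv.ofBijective ((σ' V.2.choose).app V.1).hom
      (bijective_app_of_le (σ' V.2.choose) (V.2.choose_spec.trans (hW' _)))).symm.toAddMonoidHom

theorem tloc_spec (hW' : ∀ e, W e ≤ CohB1.genLocus N (σ' e))
    (ha : ∀ k e, a k e • sec (σ e) (W e) = sec (σ k) (W e))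
    (ha' : ∀ k e, a k e • sec (σ' e) (W e) = sec (σ' k) (W e)) (V : Small W) (k : E)
    (c : Γ(X, V.1)) :
    tloc σ σ' W hW' V (c • sec (σ' k) V.1) = c • sec (σ k) V.1 := by
  have hV := V.2.choose_spec
  set e₀ := V.2.choose with he₀
  have h1 : c • sec (σ' k) V.1 = (σ' e₀).app V.1
      ((c * X.presheaf.map (homOfLE hV).op (a k e₀)) • one X V.1) := by
    rw [Scheme.Modules.Hom.app_smul, mul_smul]
    congr 1
    exact (ha_res σ' W a ha' k e₀ hV).symm
  unfold tloc
  rw [AddMonoidHom.comp_apply, h1]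
  have h2 : (AddEquiv.ofBijective ((σ' e₀).app V.1).hom
      (bijective_app_of_le (σ' e₀) (hV.trans (hW' _)))).symm.toAddMonoidHom
      ((σ' e₀).app V.1 ((c * X.presheaf.map (homOfLE hV).op (a k e₀)) • one X V.1)) =
      (c * X.presheaf.map (homOfLE hV).op (a k e₀)) • one X V.1 :=
    (AddEquiv.ofBijective ((σ' e₀).app V.1).hom
      (bijective_app_of_le (σ' e₀) (hV.trans (hW' _)))).symm_apply_apply _
  rw [h2]
  show (σ e₀).app V.1 _ = _
  rw [Scheme.Modules.Hom.app_smul, mul_smul]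
  congr 1
  exact ha_res σ W a ha k e₀ hV

include hcov in
theorem exists_hom_of_ratios (hW' : ∀ e, W e ≤ CohB1.genLocus N (σ' e))
    (ha : ∀ k e, a k e • sec (σ e) (W e) = sec (σ k) (W e))
    (ha' : ∀ k e, a k e • sec (σ' e) (W e) = sec (σ' k) (W e)) :
    ∃ τ : N ⟶ M, ∀ k, σ' k ≫ τ = σ k := by
  have hnat : ∀ (V V' : Small W) (h : V'.1 ≤ V.1) (n : Γ(N, V.1)),
      M.presheaf.map (homOfLE h).op (tloc σ σ' W hW' V n) =
        tloc σ σ' W hW' V' (N.presheaf.map (homOfLE h).op n) := by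
    intro V V' h n
    obtain ⟨e, hV⟩ := V.2
    obtain ⟨c, rfl⟩ := exists_smul_sec (σ' e) (hV.trans (hW' e)) n
    rw [tloc_spec σ σ' W a hW' ha ha' V e c, Scheme.Modules.map_smul, Scheme.Modules.map_smul,
      sec_res, sec_res]
    exact (tloc_spec σ σ' W a hW' ha ha' V' e _).symm
  have hlin : ∀ (V : Small W) (c : Γ(X, V.1)) (n : Γ(N, V.1)),
      tloc σ σ' W hW' V (c • n) = c • tloc σ σ' W hW' V n := by
    intro V c n
    obtain ⟨e, hV⟩ := V.2
    obtain ⟨c', rfl⟩ := exists_smul_sec (σ' e) (hV.trans (hW' e)) n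
    rw [← mul_smul, tloc_spec σ σ' W a hW' ha ha' V e, tloc_spec σ σ' W a hW' ha ha' V e,
      mul_smul]
  obtain ⟨τ, hτ⟩ := exists_glue W (tloc σ σ' W hW') hnat hlin hcov
  refine ⟨τ, fun k => ?_⟩
  apply hom_ext_of_cover _ _ W hcov
  intro e V hV m
  have h1 : (σ' k ≫ τ).app V m = τ.app V ((σ' k).app V m) := rfl
  rw [h1, app_eq_smul_sec, app_eq_smul_sec, hτ ⟨V, e, hV⟩]
  exact tloc_spec σ σ' W a hW' ha ha' ⟨V, e, hV⟩ k _

include hcov in
/-- two modules with generating families having the same ratios are isomorphic -/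
theorem exists_iso_of_ratios' (hW : ∀ e, W e ≤ CohB1.genLocus M (σ e))
    (hW' : ∀ e, W e ≤ CohB1.genLocus N (σ' e))
    (ha : ∀ k e, a k e • sec (σ e) (W e) = sec (σ k) (W e))
    (ha' : ∀ k e, a k e • sec (σ' e) (W e) = sec (σ' k) (W e)) :
    ∃ τ : N ≅ M, ∀ k, σ' k ≫ τ.hom = σ k := by
  obtain ⟨τ, hτ⟩ := exists_hom_of_ratios σ σ' W hcov a hW' ha ha'
  obtain ⟨τ', hτ'⟩ := exists_hom_of_ratios σ' σ W hcov a hW ha' ha
  refine ⟨⟨τ, τ', ?_, ?_⟩, hτ⟩
  · apply hom_ext_of_gen σ' W hcov _ _ hW'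
    intro e
    rw [← Category.assoc, hτ, hτ', Category.comp_id]
  · apply hom_ext_of_gen σ W hcov _ _ hW
    intro e
    rw [← Category.assoc, hτ', hτ, Category.comp_id]

end Groth.Agent.Helper1.PUP
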