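import Mathlib
import Groth.Agent.Helper1.PUP8
import Groth.Agent.Helper1.PUPg1

/-!
# Universal property of projective bundles, part 2: the morphism to `Proj` of a graded algebra
attached to a family of sections and local ring maps
-/

set_option autoImplicit false
set_option linter.style.haveILetI false

namespace Groth.Agent.Helper1.PUPg

open CategoryTheory Limits AlgebraicGeometry TopologicalSpace Opposite HomogeneousLocalization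
open Groth.Agent.Helper4.GenLoc Groth.Agent.Helper4.GenLocIso Groth.Agent.Helper4.StalkExact
  Groth.Agent.Helper4.PullSec Groth.Agent.Helper4.PullUnit
open Groth.Agent.Helper1.ProjMor Groth.Agent.Helper1.PUP

universe u

variable {X : Scheme.{u}} {L : X.Modules} {E : Type*} (σ : E → (Coh.structureModule X ⟶ L))
  (hcov : ⨆ e, XE σ e = ⊤)
  {R A : Type u} [CommRing R] [CommRing A] [Algebra R A] (𝒜 : ℕ → Submodule R A)
  [GradedAlgebra 𝒜] (t : E → A) (ht : ∀ e, t e ∈ 𝒜 1)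
  (ψ : ∀ e, A →+* Γ((XE σ e : Scheme.{u}), ⊤))
  (hψ : ∀ e k, ψ e (t k) = toTop (ratio σ k e))
  (hcompat : ∀ e e', ∃ u : Γ((XE σ e ⊓ XE σ e' : X.Opens), ⊤), IsUnit u ∧
    ∀ (n : ℕ) (a : A), a ∈ 𝒜 n →
      (X.homOfLE (inf_le_right : XE σ e ⊓ XE σ e' ≤ XE σ e')).appTop.hom (ψ e' a) =
        u ^ n * (X.homOfLE (inf_le_left : XE σ e ⊓ XE σ e' ≤ XE σ e)).appTop.hom (ψ e a))

include hψ in
theorem hunit (e : E) : IsUnit (ψ e (t e)) := by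
  rw [hψ, ratio_self]
  exact isUnit_toTop 1 isUnit_one

/-- the morphism to `Proj` -/
noncomputable def rr : X ⟶ Proj 𝒜 :=
  glue 𝒜 (XE σ) hcov ψ t (fun _ => 1) ht (fun _ => one_pos) (hunit σ t ψ hψ) hcompat

theorem ι_rr (e : E) :
    (XE σ e).ι ≫ rr σ hcov 𝒜 t ht ψ hψ hcompat =
      toAway 𝒜 (ψ e) (ht e) one_pos (hunit σ t ψ hψ e) :=
  ι_glue 𝒜 (XE σ) hcov ψ t (fun _ => 1) ht (fun _ => one_pos) (hunit σ t ψ hψ) hcompat e

theorem rr_toSpec (q : X ⟶ Spec (CommRingCat.of R))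
    (hψC : ∀ e c, ψ e (algebraMap R A c) = ProjUP.toGlobal ((XE σ e).ι ≫ q) c) :
    rr σ hcov 𝒜 t ht ψ hψ hcompat ≫ Proj.toSpecZero 𝒜 ≫
      Spec.map (CommRingCat.ofHom (algebraMap R (𝒜 0))) = q := by
  apply (X.openCoverOfIsOpenCover (XE σ) hcov).hom_ext
  intro e
  show (XE σ e).ι ≫ rr σ hcov 𝒜 t ht ψ hψ hcompat ≫ Proj.toSpecZero 𝒜 ≫
    Spec.map (CommRingCat.ofHom (algebraMap R (𝒜 0))) = (XE σ e).ι ≫ q
  rw [reassoc_of% ι_rr σ hcov 𝒜 t ht ψ hψ hcompat e, reassoc_of% toAway_toSpecZero,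
    ← Spec.map_comp, ← CommRingCat.ofHom_comp]
  conv_rhs => rw [← toSpecΓ_comp_toGlobal ((XE σ e).ι ≫ q)]
  congr 3
  ext c
  simp only [RingHom.comp_apply]
  rw [← hψC e c]
  rfl

/-- the function `t k / t e` on `D₊(t e)`, as an element of the homogeneous localization -/
noncomputable def cP (k e : E) : Away 𝒜 (t e) :=
  Away.mk 𝒜 (ht e) 1 (t k) (by simpa using ht k)

/-- the function `t k / t e` on `D₊(t e)`, as a section of the structure sheaf -/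
noncomputable def cΓ (k e : E) : Γ(Proj 𝒜, Proj.basicOpen 𝒜 (t e)) :=
  (Proj.awayToSection 𝒜 (t e)).hom (cP 𝒜 t ht k e)

theorem awayLift_cP (k e : E) :
    awayLift 𝒜 (ψ e) (hunit σ t ψ hψ e) (cP 𝒜 t ht k e) = toTop (ratio σ k e) := by
  have h1 := awayLift_mk 𝒜 (ψ e) (hunit σ t ψ hψ e) (ht e) 1 (t k) (by simpa using ht k)
  rw [hψ, hψ, ratio_self, toTop_one, one_pow, mul_one] at h1
  exact h1

theorem XE_le_preimage (e : E) :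
    XE σ e ≤ rr σ hcov 𝒜 t ht ψ hψ hcompat ⁻¹ᵁ Proj.basicOpen 𝒜 (t e) := by
  intro x hx
  have h1 := range_toAway 𝒜 (ht e) one_pos (ψ e) (hunit σ t ψ hψ e) ⟨⟨x, hx⟩, rfl⟩
  rw [← ι_rr σ hcov 𝒜 t ht ψ hψ hcompat e] at h1
  exact h1

theorem res_app_cΓ (k e : E) :
    X.presheaf.map (homOfLE (XE_le_preimage σ hcov 𝒜 t ht ψ hψ hcompat e)).op
      ((rr σ hcov 𝒜 t ht ψ hψ hcompat).app _ (cΓ 𝒜 t ht k e)) = ratio σ k e := by
  apply toTop_injective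
  rw [← awayLift_cP σ 𝒜 t ht ψ hψ k e,
    ← pullFun_toAway 𝒜 (ht e) one_pos (ψ e) (hunit σ t ψ hψ e),
    ← appLE_awayToSection 𝒜 (ht e) one_pos]
  have h1 : (toAway 𝒜 (ψ e) (ht e) one_pos (hunit σ t ψ hψ e)).appLE
      (Proj.basicOpen 𝒜 (t e)) ⊤
      (top_le_preimage 𝒜 _ (range_toAway 𝒜 (ht e) one_pos (ψ e) (hunit σ t ψ hψ e))) =
      (rr σ hcov 𝒜 t ht ψ hψ hcompat).app _ ≫
        X.presheaf.map (homOfLE (XE_le_preimage σ hcov 𝒜 t ht ψ hψ hcompat e)).op ≫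
        (XE σ e).topIso.inv := by
    have e1 : (⊤ : (XE σ e : Scheme.{u}).Opens) ≤ (XE σ e).ι ⁻¹ᵁ (XE σ e) :=
      fun (y : XE σ e) _ => y.2
    have e2 : (⊤ : (XE σ e : Scheme.{u}).Opens) ≤
        ((XE σ e).ι ≫ rr σ hcov 𝒜 t ht ψ hψ hcompat) ⁻¹ᵁ Proj.basicOpen 𝒜 (t e) :=
      fun (y : XE σ e) _ => XE_le_preimage σ hcov 𝒜 t ht ψ hψ hcompat e y.2
    rw [← appLE_congr_hom (ι_rr σ hcov 𝒜 t ht ψ hψ hcompat e) _ _ e2,
      ← Scheme.Hom.appLE_comp_appLE _ _ _ (XE σ e) ⊤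
        (XE_le_preimage σ hcov 𝒜 t ht ψ hψ hcompat e) e1,
      Scheme.Opens.ι_appLE, Scheme.Opens.topIso_inv, Scheme.Hom.appLE, Category.assoc]
    rfl
  rw [h1]
  rfl

theorem sec_TT_smul (k e : E) :
    sec (TT 𝒜 (t k) (ht k)) (Proj.basicOpen 𝒜 (t e)) =
      cΓ 𝒜 t ht k e • sec (TT 𝒜 (t e) (ht e)) (Proj.basicOpen 𝒜 (t e)) := by
  unfold TT
  rw [sec_homOfTop', sec_homOfTop']
  exact globalOf_res_eq_smul 𝒜 (ht e) (ht k)

/-- the pulled back coordinate maps -/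
noncomputable def σ' (k : E) : Coh.structureModule X ⟶
    (Scheme.Modules.pullback (rr σ hcov 𝒜 t ht ψ hψ hcompat)).obj
      (Twist.twist 𝒜 ((1 : ℕ) : ℤ)) :=
  pullSec (rr σ hcov 𝒜 t ht ψ hψ hcompat) (TT 𝒜 (t k) (ht k))

variable (hcovP : (⨆ g : 𝒜 1, Proj.basicOpen 𝒜 (g : A)) = ⊤)

include hcovP in
theorem XE_le_genLocus_σ' (e : E) :
    XE σ e ≤ CohB1.genLocus _ (σ' σ hcov 𝒜 t ht ψ hψ hcompat e) := by
  refine (XE_le_preimage σ hcov 𝒜 t ht ψ hψ hcompat e).trans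
    (le_trans ?_ (preimage_genLocus_le (rr σ hcov 𝒜 t ht ψ hψ hcompat) (TT 𝒜 (t e) (ht e))))
  rw [genLocus_TT _ hcovP]

theorem ratio_smul_sec_σ' (k e : E) :
    ratio σ k e • sec (σ' σ hcov 𝒜 t ht ψ hψ hcompat e) (XE σ e) =
      sec (σ' σ hcov 𝒜 t ht ψ hψ hcompat k) (XE σ e) := by
  have h1 : ∀ j, sec (σ' σ hcov 𝒜 t ht ψ hψ hcompat j) (XE σ e) =
      ((Scheme.Modules.pullback (rr σ hcov 𝒜 t ht ψ hψ hcompat)).obj
        (Twist.twist 𝒜 ((1 : ℕ) : ℤ))).presheaf.map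
        (homOfLE (XE_le_preimage σ hcov 𝒜 t ht ψ hψ hcompat e)).op
        (ηapp (rr σ hcov 𝒜 t ht ψ hψ hcompat) _ _ (sec (TT 𝒜 (t j) (ht j))
          (Proj.basicOpen 𝒜 (t e)))) := by
    intro j
    rw [← sec_pullSec]
    exact (sec_res _ _).symm
  rw [h1 k, h1 e, sec_TT_smul 𝒜 t ht k e, ηapp_smul, Scheme.Modules.map_smul, res_app_cΓ]

include hcovP in
/-- the general existence statement -/
theorem exists_iso :
    ∃ τ : (Scheme.Modules.pullback (rr σ hcov 𝒜 t ht ψ hψ hcompat)).obj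
        (Twist.twist 𝒜 ((1 : ℕ) : ℤ)) ≅ L,
      ∀ k, τ.hom.app ⊤ (ProjUP.pullSec (rr σ hcov 𝒜 t ht ψ hψ hcompat)
        (Twist.twist 𝒜 ((1 : ℕ) : ℤ)) (Twist.globalOf 𝒜 ⟨t k, ht k⟩)) = sec (σ k) ⊤ := by
  obtain ⟨τ, hτ⟩ := exists_iso_of_ratios' σ (σ' σ hcov 𝒜 t ht ψ hψ hcompat) (XE σ) hcov (ratio σ)
    (fun e => le_refl _) (XE_le_genLocus_σ' σ hcov 𝒜 t ht ψ hψ hcompat hcovP) (ratio_spec σ)
    (ratio_smul_sec_σ' σ hcov 𝒜 t ht ψ hψ hcompat)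
  refine ⟨τ, fun i => ?_⟩
  have h1 : sec (σ' σ hcov 𝒜 t ht ψ hψ hcompat i ≫ τ.hom) ⊤ = sec (σ i) ⊤ := by rw [hτ i]
  rw [sec_comp] at h1
  have h2 : sec (σ' σ hcov 𝒜 t ht ψ hψ hcompat i) ⊤ =
      ProjUP.pullSec (rr σ hcov 𝒜 t ht ψ hψ hcompat) (Twist.twist 𝒜 ((1 : ℕ) : ℤ))
        (Twist.globalOf 𝒜 ⟨t i, ht i⟩) := by
    rw [pullSec_eq_ηapp]
    have h3 := sec_pullSec (rr σ hcov 𝒜 t ht ψ hψ hcompat) (TT 𝒜 (t i) (ht i)) ⊤
    unfold TT at h3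
    rw [sec_homOfTop] at h3
    exact h3
  rw [h2] at h1
  exact h1

end Groth.Agent.Helper1.PUPg
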