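import Mathlib
import Groth.Agent.Helper1.PUPg2

/-!
# Grassmannians, part 9: functions pulled back along a glued morphism to `Proj`
(general cover)
-/

set_option autoImplicit false
set_option linter.style.haveILetI false
set_option linter.unusedSectionVars false

namespace Groth.Agent.Helper1.GR

open CategoryTheory Limits AlgebraicGeometry TopologicalSpace Opposite HomogeneousLocalization
open Groth.Agent.Helper1.ProjMor Groth.Agent.Helper1.PUP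

universe u

variable {X : Scheme.{u}} {E : Type*} (W : E → X.Opens) (hcov : ⨆ e, W e = ⊤)
  {R A : Type u} [CommRing R] [CommRing A] [Algebra R A] (𝒜 : ℕ → Submodule R A)
  [GradedAlgebra 𝒜] (t : E → A) (ht : ∀ e, t e ∈ 𝒜 1)
  (ψ : ∀ e, A →+* Γ((W e : Scheme.{u}), ⊤))
  (hunit : ∀ e, IsUnit (ψ e (t e)))
  (hcompat : ∀ e e', ∃ u : Γ((W e ⊓ W e' : X.Opens), ⊤), IsUnit u ∧
    ∀ (n : ℕ) (a : A), a ∈ 𝒜 n →
      (X.homOfLE (inf_le_right : W e ⊓ W e' ≤ W e')).appTop.hom (ψ e' a) =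
        u ^ n * (X.homOfLE (inf_le_left : W e ⊓ W e' ≤ W e)).appTop.hom (ψ e a))

/-- the glued morphism to `Proj` -/
noncomputable def gl : X ⟶ Proj 𝒜 :=
  glue 𝒜 W hcov ψ t (fun _ => 1) ht (fun _ => one_pos) hunit hcompat

theorem ι_gl (e : E) :
    (W e).ι ≫ gl W hcov 𝒜 t ht ψ hunit hcompat =
      toAway 𝒜 (ψ e) (ht e) one_pos (hunit e) :=
  ι_glue 𝒜 W hcov ψ t (fun _ => 1) ht (fun _ => one_pos) hunit hcompat e

theorem gl_toSpec (q : X ⟶ Spec (CommRingCat.of R))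
    (hψC : ∀ e c, ψ e (algebraMap R A c) = ProjUP.toGlobal ((W e).ι ≫ q) c) :
    gl W hcov 𝒜 t ht ψ hunit hcompat ≫ Proj.toSpecZero 𝒜 ≫
      Spec.map (CommRingCat.ofHom (algebraMap R (𝒜 0))) = q := by
  apply (X.openCoverOfIsOpenCover W hcov).hom_ext
  intro e
  show (W e).ι ≫ gl W hcov 𝒜 t ht ψ hunit hcompat ≫ Proj.toSpecZero 𝒜 ≫
    Spec.map (CommRingCat.ofHom (algebraMap R (𝒜 0))) = (W e).ι ≫ q
  rw [reassoc_of% ι_gl W hcov 𝒜 t ht ψ hunit hcompat e, reassoc_of% toAway_toSpecZero,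
    ← Spec.map_comp, ← CommRingCat.ofHom_comp]
  conv_rhs => rw [← toSpecΓ_comp_toGlobal ((W e).ι ≫ q)]
  congr 3
  ext c
  simp only [RingHom.comp_apply]
  rw [← hψC e c]
  rfl

theorem W_le_preimage (e : E) :
    W e ≤ gl W hcov 𝒜 t ht ψ hunit hcompat ⁻¹ᵁ Proj.basicOpen 𝒜 (t e) := by
  intro x hx
  have h1 := range_toAway 𝒜 (ht e) one_pos (ψ e) (hunit e) ⟨⟨x, hx⟩, rfl⟩
  rw [← ι_gl W hcov 𝒜 t ht ψ hunit hcompat e] at h1
  exact h1

/-- pulling back a function on `D₊(t e)` and restricting to `W e` -/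
theorem res_app_gl (e : E) (z : Away 𝒜 (t e)) :
    toTop (X.presheaf.map (homOfLE (W_le_preimage W hcov 𝒜 t ht ψ hunit hcompat e)).op
      ((gl W hcov 𝒜 t ht ψ hunit hcompat).app _ ((Proj.awayToSection 𝒜 (t e)).hom z))) =
      awayLift 𝒜 (ψ e) (hunit e) z := by
  rw [← pullFun_toAway 𝒜 (ht e) one_pos (ψ e) (hunit e),
    ← appLE_awayToSection 𝒜 (ht e) one_pos]
  have h1 : (toAway 𝒜 (ψ e) (ht e) one_pos (hunit e)).appLE
      (Proj.basicOpen 𝒜 (t e)) ⊤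
      (top_le_preimage 𝒜 _ (range_toAway 𝒜 (ht e) one_pos (ψ e) (hunit e))) =
      (gl W hcov 𝒜 t ht ψ hunit hcompat).app _ ≫
        X.presheaf.map (homOfLE (W_le_preimage W hcov 𝒜 t ht ψ hunit hcompat e)).op ≫
        (W e).topIso.inv := by
    have e1 : (⊤ : (W e : Scheme.{u}).Opens) ≤ (W e).ι ⁻¹ᵁ (W e) :=
      fun (y : W e) _ => y.2
    have e2 : (⊤ : (W e : Scheme.{u}).Opens) ≤
        ((W e).ι ≫ gl W hcov 𝒜 t ht ψ hunit hcompat) ⁻¹ᵁ Proj.basicOpen 𝒜 (t e) :=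
      fun (y : W e) _ => W_le_preimage W hcov 𝒜 t ht ψ hunit hcompat e y.2
    rw [← appLE_congr_hom (ι_gl W hcov 𝒜 t ht ψ hunit hcompat e) _ _ e2,
      ← Scheme.Hom.appLE_comp_appLE _ _ _ (W e) ⊤
        (W_le_preimage W hcov 𝒜 t ht ψ hunit hcompat e) e1,
      Scheme.Opens.ι_appLE, Scheme.Opens.topIso_inv, Scheme.Hom.appLE, Category.assoc]
    rfl
  rw [h1]
  rfl

end Groth.Agent.Helper1.GR
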