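import Mathlib
import Groth.Agent.Helper1.GR8
import Groth.Agent.Helper1.GR9

/-!
# Grassmannians, part 10: the morphism to `Proj` of the Plücker algebra attached to frame data
-/

set_option autoImplicit false
set_option linter.style.haveILetI false
set_option linter.unusedSectionVars false

namespace Groth.Agent.Helper1.GR

open CategoryTheory Limits AlgebraicGeometry TopologicalSpace Opposite Matrix
  HomogeneousLocalization
open Groth.Agent.Helper4.GenLoc Groth.Agent.Helper4.StalkExact Groth.Agent.Helper1.PUP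
open Groth.Agent.Helper1.ProjMor

universe u

variable {X : Scheme.{u}} {d N : ℕ} {L : X.Modules}
  {σ : Fin N → (Coh.structureModule X ⟶ L)} {E : Type*}
  {W : E → X.Opens} {a : E → Idx d N} {B : ∀ e, Matrix (Fin d) (Fin N) Γ(X, W e)}
  {k : Type u} [CommRing k] (q : X ⟶ Spec (CommRingCat.of k))

/-- `toTop` as a ring homomorphism -/
noncomputable def toTopHom (U : X.Opens) : Γ(X, U) →+* Γ((U : Scheme.{u}), ⊤) :=
  U.topIso.inv.hom

theorem toTopHom_apply {U : X.Opens} (c : Γ(X, U)) : toTopHom U c = toTop c := rfl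

theorem map_toTopHom_res {U U' : X.Opens} (h : U ≤ U') {m n : Type*}
    (M : Matrix m n Γ(X, U')) :
    (M.map (toTopHom U')).map (X.homOfLE h).appTop.hom = (M.map (rf h)).map (toTopHom U) := by
  ext i j
  exact res_toTop h (M i j)

/-- the local ring maps -/
noncomputable def ψG (B : ∀ e, Matrix (Fin d) (Fin N) Γ(X, W e)) (e : E) :
    PA k d N →+* Γ((W e : Scheme.{u}), ⊤) :=
  Θ (ProjUP.toGlobal ((W e).ι ≫ q)) ((B e).map (toTopHom (W e)))

namespace FrameData

variable (hσ : FrameData σ E W a B)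

include hσ in
theorem ψG_P_self (e : E) : ψG q B e (P k d N (a e)) = 1 := by
  unfold ψG
  rw [Θ_P, minor_map, minor_eq_one_of_one _ _ (hσ.B_self e), map_one]

include hσ in
theorem hunit (e : E) : IsUnit (ψG q B e (P k d N (a e))) := by
  rw [hσ.ψG_P_self q e]
  exact isUnit_one

theorem ψG_algebraMap (e : E) (c : k) :
    ψG q B e (algebraMap k (PA k d N) c) = ProjUP.toGlobal ((W e).ι ≫ q) c :=
  Θ_algebraMap _ _ c

theorem res_ψG (e : E) {V : X.Opens} (hV : V ≤ W e) :
    (X.homOfLE hV).appTop.hom.comp (ψG q B e) =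
      Θ (ProjUP.toGlobal (V.ι ≫ q)) (((B e).map (rf hV)).map (toTopHom V)) := by
  unfold ψG
  rw [Θ_comp, ← toGlobal_comp, Scheme.homOfLE_ι_assoc, map_toTopHom_res]

include hσ in
theorem hcompat (e e' : E) :
    ∃ u : Γ((W e ⊓ W e' : X.Opens), ⊤), IsUnit u ∧
    ∀ (n : ℕ) (f : PA k d N), f ∈ gr k d N n →
      (X.homOfLE (inf_le_right : W e ⊓ W e' ≤ W e')).appTop.hom (ψG q B e' f) =
        u ^ n * (X.homOfLE (inf_le_left : W e ⊓ W e' ≤ W e)).appTop.hom (ψG q B e f) := by
  set V := W e ⊓ W e' with hV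
  set g : Matrix (Fin d) (Fin d) Γ(X, V) :=
    ((B e').map (rf (inf_le_right : V ≤ W e'))).submatrix id (a e) with hg
  have h1 := hσ.trans_mul_trans e e' (inf_le_left : V ≤ W e) (inf_le_right : V ≤ W e')
  refine ⟨(g.map (toTopHom V)).det, ?_, ?_⟩
  · have h2 : (g.map (toTopHom V)).det = toTopHom V g.det := by
      rw [← RingHom.mapMatrix_apply, ← RingHom.map_det]
    rw [h2]
    apply IsUnit.map
    have h3 := congrArg Matrix.det h1
    rw [det_mul, det_one] at h3
    exact IsUnit.of_mul_eq_one _ h3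
  · intro n f hf
    have e1 := congrArg (fun φ : PA k d N →+* Γ((V : Scheme.{u}), ⊤) => φ f)
      (res_ψG q (B := B) e' (inf_le_right : V ≤ W e'))
    have e2 := congrArg (fun φ : PA k d N →+* Γ((V : Scheme.{u}), ⊤) => φ f)
      (res_ψG q (B := B) e (inf_le_left : V ≤ W e))
    simp only [RingHom.comp_apply] at e1 e2
    rw [e1, e2, hσ.B_trans e e' (inf_le_left : V ≤ W e) (inf_le_right : V ≤ W e')]
    have e3 : (g * (B e).map (rf (inf_le_left : V ≤ W e))).map (toTopHom V) =
        g.map (toTopHom V) * ((B e).map (rf (inf_le_left : V ≤ W e))).map (toTopHom V) :=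
      Matrix.map_mul
    rw [e3, Θ_mul _ _ _ hf]

variable (hcov : ⨆ e, W e = ⊤)

/-- the classifying morphism of frame data -/
noncomputable def hG : X ⟶ Proj (gr k d N) :=
  gl W hcov (gr k d N) (fun e => P k d N (a e)) (fun e => P_mem k d N (a e)) (ψG q B)
    (hσ.hunit q) (hσ.hcompat q)

theorem hG_toSpec :
    hσ.hG q hcov ≫ Proj.toSpecZero (gr k d N) ≫
      Spec.map (CommRingCat.ofHom (algebraMap k (gr k d N 0))) = q :=
  gl_toSpec W hcov (gr k d N) _ _ (ψG q B) (hσ.hunit q) (hσ.hcompat q) q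
    (fun e c => ψG_algebraMap q e c)

theorem W_le_preimage_hG (e : E) :
    W e ≤ hσ.hG q hcov ⁻¹ᵁ Proj.basicOpen (gr k d N) (P k d N (a e)) :=
  W_le_preimage W hcov (gr k d N) _ _ (ψG q B) (hσ.hunit q) (hσ.hcompat q) e

/-- the ratio `P b / P (a e)` as a function on `D₊(P (a e))` -/
noncomputable def cG (b c : Idx d N) : Γ(Proj (gr k d N), Proj.basicOpen (gr k d N) (P k d N c)) :=
  (Proj.awayToSection (gr k d N) (P k d N c)).hom
    (Away.mk (gr k d N) (P_mem k d N c) 1 (P k d N b) (by simpa using P_mem k d N b))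

/-- the pullback of `P b / P (a e)`, restricted to `W e`, is the minor `Δ_b(B e)` -/
theorem res_app_hG (e : E) (b : Idx d N) :
    X.presheaf.map (homOfLE (hσ.W_le_preimage_hG q hcov e)).op
      ((hσ.hG q hcov).app _ (cG b (a e))) = minor (B e) b := by
  apply toTop_injective
  unfold cG
  have h1 := res_app_gl W hcov (gr k d N) (fun e => P k d N (a e))
    (fun e => P_mem k d N (a e)) (ψG q B) (hσ.hunit q) (hσ.hcompat q) e
    (Away.mk (gr k d N) (P_mem k d N (a e)) 1 (P k d N b) (by simpa using P_mem k d N b))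
  refine h1.trans ?_
  have h2 := awayLift_mk (gr k d N) (ψG q B e) (hσ.hunit q e) (P_mem k d N (a e)) 1
    (P k d N b) (by simpa using P_mem k d N b)
  rw [hσ.ψG_P_self q e, one_pow, mul_one] at h2
  rw [h2]
  unfold ψG
  rw [Θ_P, minor_map]
  rfl

end FrameData

end Groth.Agent.Helper1.GR
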