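import Mathlib

/-!
# Grassmannians, part 11: ratios of elements of degree one in a homogeneous localisation
-/

set_option autoImplicit false
set_option linter.style.haveILetI false
set_option linter.unusedSectionVars false

namespace Groth.Agent.Helper1.GR

open HomogeneousLocalization Matrix

universe u

variable {R A : Type u} [CommRing R] [CommRing A] [Algebra R A] (𝒜 : ℕ → Submodule R A)
  [GradedAlgebra 𝒜] {t : A} (ht : t ∈ 𝒜 1)

/-- the ratio `x / t` of two elements of degree one -/
noncomputable def rt (x : A) (hx : x ∈ 𝒜 1) : Away 𝒜 t :=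
  Away.mk 𝒜 ht 1 x (by simpa using hx)

/-- the inverse of `t` in the localisation -/
noncomputable def invT (t : A) : Localization (Submonoid.powers t) :=
  Localization.mk 1 ⟨t, Submonoid.mem_powers t⟩

theorem algebraMap_mul_invT (t : A) :
    algebraMap A (Localization (Submonoid.powers t)) t * invT t = 1 := by
  unfold invT
  rw [← Localization.mk_one_eq_algebraMap, Localization.mk_mul, mul_one, one_mul]
  exact Localization.mk_self ⟨t, Submonoid.mem_powers t⟩

theorem val_rt (x : A) (hx : x ∈ 𝒜 1) :
    (rt 𝒜 ht x hx).val = algebraMap A (Localization (Submonoid.powers t)) x * invT t := by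
  unfold rt invT
  rw [Away.val_mk, ← Localization.mk_one_eq_algebraMap, Localization.mk_mul, mul_one]
  congr 1
  exact Subtype.ext (by simp)

/-- a quadratic relation among elements of degree one gives a relation among ratios -/
theorem sum_rt_mul_rt {ι : Type*} (S : Finset ι) (x y : ι → A) (hx : ∀ i, x i ∈ 𝒜 1)
    (hy : ∀ i, y i ∈ 𝒜 1) (z : A) (hz : z ∈ 𝒜 1) (h : ∑ i ∈ S, x i * y i = t * z) :
    ∑ i ∈ S, rt 𝒜 ht (x i) (hx i) * rt 𝒜 ht (y i) (hy i) = rt 𝒜 ht z hz := by
  apply val_injective
  rw [← HomogeneousLocalization.algebraMap_apply, map_sum]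
  simp_rw [map_mul, HomogeneousLocalization.algebraMap_apply, val_rt]
  have h1 : ∀ i, algebraMap A (Localization (Submonoid.powers t)) (x i) * invT t *
      (algebraMap A (Localization (Submonoid.powers t)) (y i) * invT t) =
      algebraMap A (Localization (Submonoid.powers t)) (x i * y i) * (invT t * invT t) := by
    intro i
    rw [map_mul]
    ring
  simp_rw [h1]
  rw [← Finset.sum_mul, ← map_sum, h, map_mul]
  calc algebraMap A (Localization (Submonoid.powers t)) t *
        algebraMap A (Localization (Submonoid.powers t)) z * (invT t * invT t)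
      = (algebraMap A (Localization (Submonoid.powers t)) t * invT t) *
        (algebraMap A (Localization (Submonoid.powers t)) z * invT t) := by ring
    _ = _ := by rw [algebraMap_mul_invT, one_mul]

/-- a determinantal relation among elements of degree one gives one among ratios -/
theorem det_rt {d : ℕ} (M : Matrix (Fin d) (Fin d) A) (hM : ∀ i l, M i l ∈ 𝒜 1) (z : A)
    (hz : z ∈ 𝒜 1) (h : t * M.det = t ^ d * z) :
    (Matrix.of fun i l => rt 𝒜 ht (M i l) (hM i l)).det = rt 𝒜 ht z hz := by
  apply val_injective
  rw [← HomogeneousLocalization.algebraMap_apply, RingHom.map_det, val_rt]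
  have h1 : (algebraMap (Away 𝒜 t) (Localization (Submonoid.powers t))).mapMatrix
      (Matrix.of fun i l => rt 𝒜 ht (M i l) (hM i l)) =
      invT t • (algebraMap A (Localization (Submonoid.powers t))).mapMatrix M := by
    ext i l
    simp only [RingHom.mapMatrix_apply, Matrix.map_apply, Matrix.of_apply, HomogeneousLocalization.algebraMap_apply,
      val_rt, Matrix.smul_apply, smul_eq_mul]
    ring
  rw [h1, Matrix.det_smul, Fintype.card_fin, ← RingHom.map_det]
  have h2 := congrArg (algebraMap A (Localization (Submonoid.powers t))) h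
  rw [map_mul, map_mul, map_pow] at h2
  set T := algebraMap A (Localization (Submonoid.powers t)) t with hT
  set D := algebraMap A (Localization (Submonoid.powers t)) M.det with hD
  set Z := algebraMap A (Localization (Submonoid.powers t)) z with hZ
  have hu : T * invT t = 1 := algebraMap_mul_invT t
  calc invT t ^ d * D = (T * invT t) * (invT t ^ d * D) := by rw [hu, one_mul]
    _ = invT t ^ (d + 1) * (T * D) := by ring
    _ = invT t ^ (d + 1) * (T ^ d * Z) := by rw [h2]
    _ = (T * invT t) ^ d * (Z * invT t) := by ring
    _ = Z * invT t := by rw [hu, one_pow, one_mul]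

theorem rt_self : rt 𝒜 ht t ht = 1 := by
  apply val_injective
  rw [val_rt, val_one, algebraMap_mul_invT]

theorem rt_zero (h0 : (0 : A) ∈ 𝒜 1) : rt 𝒜 ht 0 h0 = 0 := by
  apply val_injective
  rw [val_rt, val_zero, map_zero, zero_mul]

theorem rt_congr {x y : A} (hx : x ∈ 𝒜 1) (hy : y ∈ 𝒜 1) (h : x = y) :
    rt 𝒜 ht x hx = rt 𝒜 ht y hy := by
  subst h
  rfl

end Groth.Agent.Helper1.GR
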