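import Mathlib
import Groth.Agent.Helper1.GR5
import Groth.Agent.Helper4.AssMono

/-!
# Grassmannians, part 12: a criterion for frames; monomorphisms are injective on sections
-/

set_option autoImplicit false
set_option linter.style.haveILetI false
set_option linter.unusedSectionVars false

namespace Groth.Agent.Helper1.GR

open CategoryTheory Limits AlgebraicGeometry TopologicalSpace Opposite
open Groth.Agent.Helper4.GenLoc Groth.Agent.Helper4.StalkExact Groth.Agent.Helper1.PUP

universe u

variable {X : Scheme.{u}} {d : ℕ}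

theorem app_injective_of_mono {M N : X.Modules} (φ : M ⟶ N) [Mono φ] (V : X.Opens) :
    Function.Injective (φ.app V) := by
  haveI : Mono ((Scheme.Modules.toPresheaf X).map φ) := inferInstance
  have h1 : Mono (((Scheme.Modules.toPresheaf X).map φ).app (op V)) := inferInstance
  exact (AddCommGrpCat.mono_iff_injective _).1 h1

variable {L : X.Modules}

/-- a family of sections is a frame over `V` if it is linearly independent over all opens
of `V` and generates locally on `V` -/
theorem isFrameOn_of_injective_of_local_lift (σ : Fin d → (Coh.structureModule X ⟶ L))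
    (V : X.Opens)
    (hinj : ∀ V' : X.Opens, V' ≤ V → Function.Injective ((frameMap σ).app V'))
    (hsurj : ∀ (V' : X.Opens) (_ : V' ≤ V) (m : Γ(L, V')) (x : X), x ∈ V' →
      ∃ (W : X.Opens) (hW : W ≤ V'), x ∈ W ∧ ∃ y : Γ(FlatMod.freeMod X d, W),
        (frameMap σ).app W y = rs L hW m) :
    IsFrameOn σ V := by
  rw [isFrameOn_iff_isIso]
  set ψ := (Scheme.Modules.restrictFunctor V.ι).map (frameMap σ) with hψ
  have hle : ∀ T' : (V : Scheme.{u}).Opens, V.ι ''ᵁ T' ≤ V := by
    intro T'
    rintro _ ⟨y, _, rfl⟩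
    exact y.2
  haveI : Mono ψ := by
    apply Groth.Agent.Helper4.AssMono.mono_of_app_injective
    intro T'
    exact hinj (V.ι ''ᵁ T') (hle T')
  haveI : Epi ψ := by
    apply Groth.Agent.Helper1.TwistExact.epi_of_local_lift
    intro T' t x hx
    obtain ⟨W, hW, hxW, y, hy⟩ := hsurj (V.ι ''ᵁ T') (hle T') t x.1 ⟨x, hx, rfl⟩
    obtain ⟨W', rfl⟩ : ∃ W' : (V : Scheme.{u}).Opens, W = V.ι ''ᵁ W' :=
      ⟨V.ι ⁻¹ᵁ W, (image_preimage_of_le' V (hW.trans (hle T'))).symm⟩
    have hW'T' : W' ≤ T' := by
      intro z hz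
      obtain ⟨z', hz', hzz'⟩ := hW ⟨z, hz, rfl⟩
      have : z' = z := V.ι.isOpenEmbedding.injective hzz'
      rw [← this]
      exact hz'
    refine ⟨W', hW'T', ?_, y, hy⟩
    obtain ⟨z, hz, hzx⟩ := hxW
    have : z = x := V.ι.isOpenEmbedding.injective hzx
    rw [← this]
    exact hz
  exact isIso_of_mono_of_epi ψ

end Groth.Agent.Helper1.GR
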