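import Mathlib
import Groth.Agent.Helper1.GR10
import Groth.Agent.Helper1.GR11
import Groth.Agent.Helper1.GR12

/-!
# Grassmannians, part 13: the universal quotient on `Proj` of the Plücker algebra
-/

set_option autoImplicit false
set_option linter.style.haveILetI false
set_option linter.unusedSectionVars false

namespace Groth.Agent.Helper1.GR

open CategoryTheory Limits AlgebraicGeometry TopologicalSpace Opposite Matrix
  HomogeneousLocalization
open Groth.Agent.Helper4.GenLoc Groth.Agent.Helper4.StalkExact Groth.Agent.Helper1.PUP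
open Groth.Agent.Helper1.ProjMor Groth.Agent.Helper1.PUPg

universe u

attribute [local instance] CategoryTheory.Abelian.hasFiniteBiproducts

variable (k : Type u) [CommRing k] (d N : ℕ)

/-- the Grassmannian of rank `d` quotients of `k^N` -/
noncomputable abbrev Gr : Scheme.{u} := Proj (gr k d N)

/-- the Plücker line bundle -/
noncomputable abbrev O1 : (Gr k d N).Modules := Twist.twist (gr k d N) ((1 : ℕ) : ℤ)

/-- the Plücker coordinates as sections of `O(1)` -/
noncomputable def TP (b : Idx d N) : Coh.structureModule (Gr k d N) ⟶ O1 k d N :=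
  TT (gr k d N) (P k d N b) (P_mem k d N b)

theorem hcovP : (⨆ g : gr k d N 1, Proj.basicOpen (gr k d N) (g : PA k d N)) = ⊤ := by
  rw [eq_top_iff, ← Groth.Agent.Helper1.TwistMul.iSup_basicOpen_eq_top_of_adjoin (gr k d N)
    (P k d N) (fun _ => 1) (P_mem k d N) (adjoin_range_P k d N)]
  apply iSup_le
  intro b
  exact le_iSup (fun g : gr k d N 1 => Proj.basicOpen (gr k d N) (g : PA k d N))
    ⟨P k d N b, P_mem k d N b⟩

theorem hcovD : (⨆ b : Idx d N, Proj.basicOpen (gr k d N) (P k d N b)) = ⊤ :=
  Groth.Agent.Helper1.TwistMul.iSup_basicOpen_eq_top_of_adjoin (gr k d N)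
    (P k d N) (fun _ => 1) (P_mem k d N) (adjoin_range_P k d N)

/-- the ratio `P b / P c` as a function on `D₊(P c)` -/
noncomputable def cR (b c : Idx d N) :
    Γ(Gr k d N, Proj.basicOpen (gr k d N) (P k d N c)) :=
  (Proj.awayToSection (gr k d N) (P k d N c)).hom
    (rt (gr k d N) (P_mem k d N c) (P k d N b) (P_mem k d N b))

theorem sec_TP (b c : Idx d N) :
    sec (TP k d N b) (Proj.basicOpen (gr k d N) (P k d N c)) =
      cR k d N b c • sec (TP k d N c) (Proj.basicOpen (gr k d N) (P k d N c)) :=
  sec_TT_smul (gr k d N) (P k d N) (P_mem k d N) b c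

theorem cR_self (c : Idx d N) : cR k d N c c = 1 := by
  unfold cR
  rw [rt_self, map_one]

theorem cR_update_self (c : Idx d N) (i l : Fin d) :
    cR k d N (Function.update c i (c l)) c = if i = l then 1 else 0 := by
  unfold cR
  split_ifs with h
  · rw [rt_congr (gr k d N) (P_mem k d N c) (P_mem k d N _) (P_mem k d N c)
      (by rw [P_update_self, if_pos h]), rt_self, map_one]
  · rw [rt_congr (gr k d N) (P_mem k d N c) (P_mem k d N _) (Submodule.zero_mem _)
      (by rw [P_update_self, if_neg h]), rt_zero, map_zero]

/-- the relation `(I3)` among the ratios -/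
theorem cR_I3 (a c : Idx d N) (i' : Fin d) (j : Fin N) :
    cR k d N (Function.update c i' j) a =
      ∑ i, cR k d N (Function.update a i j) a * cR k d N (Function.update c i' (a i)) a := by
  unfold cR
  have h := sum_rt_mul_rt (gr k d N) (P_mem k d N a) Finset.univ
    (fun i => P k d N (Function.update a i j)) (fun i => P k d N (Function.update c i' (a i)))
    (fun _ => P_mem k d N _) (fun _ => P_mem k d N _) _ (P_mem k d N (Function.update c i' j))
    (P_mul_P_update k d N a c i' j).symm
  rw [← h, map_sum]
  simp_rw [map_mul]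

/-- the relation `(I2)` among the ratios -/
theorem det_cR (a c : Idx d N) :
    (Matrix.of fun i l => cR k d N (Function.update a i (c l)) a).det = cR k d N c a := by
  unfold cR
  have h1 : (Matrix.of fun i l => (Proj.awayToSection (gr k d N) (P k d N a)).hom
      (rt (gr k d N) (P_mem k d N a) (P k d N (Function.update a i (c l))) (P_mem k d N _))) =
      (Proj.awayToSection (gr k d N) (P k d N a)).hom.mapMatrix
        (Matrix.of fun i l => rt (gr k d N) (P_mem k d N a)
          (P k d N (Function.update a i (c l))) (P_mem k d N _)) := by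
    ext i l
    rfl
  rw [h1, ← RingHom.map_det]
  congr 1
  exact det_rt (gr k d N) (P_mem k d N a)
    (Matrix.of fun i l => P k d N (Function.update a i (c l))) (fun _ _ => P_mem k d N _) _
    (P_mem k d N c) (P_mul_det_P_update k d N a c)

/-- the index set of the ambient sum of copies of `O(1)` -/
abbrev KK := Idx d N × Fin d

/-- the ambient module -/
noncomputable abbrev Amb : (Gr k d N).Modules := ⨁ fun _ : KK d N => O1 k d N

/-- the images of the basis vectors -/
noncomputable def Φc (j : Fin N) : Coh.structureModule (Gr k d N) ⟶ Amb k d N :=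
  biproduct.lift (fun κ : KK d N => TP k d N (Function.update κ.1 κ.2 j))

/-- the map whose image is the universal quotient -/
noncomputable def ΦG : FlatMod.freeMod (Gr k d N) N ⟶ Amb k d N := frameMap (Φc k d N)

/-- the universal quotient -/
noncomputable def UQ : (Gr k d N).Modules := Abelian.image (ΦG k d N)

/-- the universal quotient map -/
noncomputable def πU : FlatMod.freeMod (Gr k d N) N ⟶ UQ k d N :=
  Abelian.factorThruImage (ΦG k d N)

/-- the inclusion of the universal quotient -/
noncomputable def ιU : UQ k d N ⟶ Amb k d N := Abelian.image.ι (ΦG k d N)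

instance : Epi (πU k d N) :=
  show Epi (Abelian.factorThruImage (ΦG k d N)) from inferInstance

instance : Mono (ιU k d N) :=
  show Mono (Abelian.image.ι (ΦG k d N)) from inferInstance

theorem πU_ιU : πU k d N ≫ ιU k d N = ΦG k d N := Abelian.image.fac _

/-- the universal sections -/
noncomputable def uG (j : Fin N) : Coh.structureModule (Gr k d N) ⟶ UQ k d N :=
  inj (Gr k d N) N j ≫ πU k d N

theorem frameMap_uG : frameMap (uG k d N) = πU k d N := by
  apply Sigma.hom_ext
  intro j
  exact inj_frameMap (uG k d N) j

theorem uG_ιU_π (j : Fin N) (κ : KK d N) :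
    uG k d N j ≫ ιU k d N ≫ biproduct.π _ κ = TP k d N (Function.update κ.1 κ.2 j) := by
  unfold uG
  rw [Category.assoc, reassoc_of% πU_ιU k d N]
  unfold ΦG
  rw [reassoc_of% inj_frameMap (Φc k d N) j]
  unfold Φc
  rw [biproduct.lift_π]

/-- sections of the ambient module are determined by their components -/
theorem amb_ext {V : (Gr k d N).Opens} (m m' : Γ(Amb k d N, V))
    (h : ∀ κ : KK d N, (biproduct.π (fun _ : KK d N => O1 k d N) κ).app V m =
      (biproduct.π (fun _ : KK d N => O1 k d N) κ).app V m') : m = m' := by
  have h1 : ∀ y : Γ(Amb k d N, V), y = ∑ κ : KK d N,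
      (biproduct.ι (fun _ : KK d N => O1 k d N) κ).app V
        ((biproduct.π (fun _ : KK d N => O1 k d N) κ).app V y) := by
    intro y
    have h2 := congrArg (fun φ : Amb k d N ⟶ Amb k d N => φ.app V y)
      (biproduct.total (f := fun _ : KK d N => O1 k d N))
    simp only at h2
    rw [sum_app] at h2
    exact h2.symm
  rw [h1 m, h1 m']
  refine Finset.sum_congr rfl fun κ _ => ?_
  rw [h κ]

end Groth.Agent.Helper1.GR
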