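import Mathlib
import Groth.Agent.Helper1.GR13

/-!
# Grassmannians, part 14: the universal quotient is locally free of rank `d`; its frame data
-/

set_option autoImplicit false
set_option linter.style.haveILetI false
set_option linter.unusedSectionVars false

namespace Groth.Agent.Helper1.GR

open CategoryTheory Limits AlgebraicGeometry TopologicalSpace Opposite Matrix
  HomogeneousLocalization
open Groth.Agent.Helper4.GenLoc Groth.Agent.Helper4.StalkExact Groth.Agent.Helper1.PUP
open Groth.Agent.Helper1.ProjMor Groth.Agent.Helper1.PUPg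

universe u

attribute [local instance] CategoryTheory.Abelian.hasFiniteBiproducts

section General

variable {X : Scheme.{u}} {d N : ℕ} {L : X.Modules}

/-- the value of the map from the free module, given linear relations -/
theorem frameMap_app_eq_of_rel (σ : Fin N → (Coh.structureModule X ⟶ L)) (a : Idx d N)
    {W₀ : X.Opens} (B : Matrix (Fin d) (Fin N) Γ(X, W₀))
    (hrel : ∀ j, sec (σ j) W₀ = ∑ i, B i j • sec (σ (a i)) W₀)
    {V : X.Opens} (hV : V ≤ W₀) (y : Γ(FlatMod.freeMod X N, V)) :
    (frameMap σ).app V y = comb L (fun i => sec (σ (a i)) W₀) hV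
      (fun i => ∑ j, coords V y j * rf hV (B i j)) := by
  have hrel' : ∀ j, sec (σ j) V = ∑ i, rf hV (B i j) • sec (σ (a i)) V := by
    intro j
    have h := congrArg (rs L hV) (hrel j)
    rw [rs_sec, rs_sum] at h
    rw [h]
    refine Finset.sum_congr rfl fun i _ => ?_
    rw [rs_smul, rs_sec]
  rw [frameMap_app σ (le_refl V)]
  unfold comb
  simp_rw [rs_sec, Finset.sum_smul, mul_smul]
  rw [Finset.sum_comm]
  refine Finset.sum_congr rfl fun j _ => ?_
  rw [← Finset.smul_sum, ← hrel' j]

theorem frameMap_comp_app (σ : Fin d → (Coh.structureModule X ⟶ L)) {V' V : X.Opens}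
    (h : V' ≤ V) (c : Fin d → Γ(X, V')) :
    (frameMap σ).app V' (ofCoords V' c) = comb L (fun i => sec (σ i) V) h c := by
  rw [frameMap_app σ h, coords_ofCoords]

end General

variable (k : Type u) [CommRing k] (d N : ℕ)

/-- the components of the universal sections, on `D₊(P a)` -/
theorem π_ιU_sec_uG (a : Idx d N) (j : Fin N) (κ : KK d N) {V : (Gr k d N).Opens}
    (hV : V ≤ Proj.basicOpen (gr k d N) (P k d N a)) :
    (biproduct.π (fun _ : KK d N => O1 k d N) κ).app V ((ιU k d N).app V (sec (uG k d N j) V)) =
      rf hV (cR k d N (Function.update κ.1 κ.2 j) a) • sec (TP k d N a) V := by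
  have h1 : (biproduct.π (fun _ : KK d N => O1 k d N) κ).app V
      ((ιU k d N).app V (sec (uG k d N j) V)) =
      sec (uG k d N j ≫ ιU k d N ≫ biproduct.π _ κ) V := rfl
  rw [h1, uG_ιU_π]
  have h2 := congrArg (rs (O1 k d N) hV) (sec_TP k d N (Function.update κ.1 κ.2 j) a)
  rw [rs_sec, rs_smul, rs_sec] at h2
  exact h2

/-- the linear relations among the universal sections on `D₊(P a)` -/
theorem sec_uG (a : Idx d N) (j : Fin N) :
    sec (uG k d N j) (Proj.basicOpen (gr k d N) (P k d N a)) =
      ∑ i, cR k d N (Function.update a i j) a •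
        sec (uG k d N (a i)) (Proj.basicOpen (gr k d N) (P k d N a)) := by
  apply app_injective_of_mono (ιU k d N)
  apply amb_ext
  intro κ
  rw [π_ιU_sec_uG k d N a j κ le_rfl, map_sum, map_sum]
  simp_rw [Scheme.Modules.Hom.app_smul, π_ιU_sec_uG k d N a _ κ le_rfl, ← mul_smul]
  rw [← Finset.sum_smul]
  congr 1
  have h := cR_I3 k d N a κ.1 κ.2 j
  have e : ∀ c : Γ(Gr k d N, Proj.basicOpen (gr k d N) (P k d N a)), rf (le_refl _) c = c := by
    intro c
    show (Gr k d N).presheaf.map (homOfLE (le_refl _)).op c = c
    have : (homOfLE (le_refl (Proj.basicOpen (gr k d N) (P k d N a)))).op = 𝟙 _ := rfl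
    rw [this, CategoryTheory.Functor.map_id]
    rfl
  simp_rw [e]
  exact h

theorem isFrameOn_uG (a : Idx d N) :
    IsFrameOn (fun i => uG k d N (a i)) (Proj.basicOpen (gr k d N) (P k d N a)) := by
  apply isFrameOn_of_injective_of_local_lift
  · intro V' hV' y y' hy
    rw [← ofCoords_coords V' y, ← ofCoords_coords V' y']
    congr 1
    rw [frameMap_app _ hV', frameMap_app _ hV'] at hy
    have h0 : comb (UQ k d N) (fun i => sec (uG k d N (a i)) _) hV'
        (coords V' y - coords V' y') = 0 := by
      rw [comb_sub, hy, sub_self]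
    set c := coords V' y - coords V' y' with hc
    have hc0 : c = 0 := by
      funext i'
      have h1 := congrArg (fun m => (biproduct.π (fun _ : KK d N => O1 k d N) (a, i')).app V'
        ((ιU k d N).app V' m)) h0
      simp only [map_zero] at h1
      unfold comb at h1
      rw [map_sum, map_sum] at h1
      simp_rw [rs_sec, Scheme.Modules.Hom.app_smul, π_ιU_sec_uG k d N a _ (a, i') hV',
        cR_update_self] at h1
      rw [Finset.sum_eq_single i'] at h1
      · rw [if_pos rfl] at h1
        have e1 : rf hV' (1 : Γ(Gr k d N, Proj.basicOpen (gr k d N) (P k d N a))) = 1 :=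
          map_one ((Gr k d N).presheaf.map (homOfLE hV').op).hom
        rw [e1, one_smul] at h1
        have hV'' : V' ≤ CohB1.genLocus _ (TP k d N a) := by
          unfold TP
          rw [genLocus_TT _ (hcovP k d N)]
          exact hV'
        exact eq_zero_of_smul_sec (TP k d N a) hV'' _ h1
      · intro i _ hi
        rw [if_neg (Ne.symm hi)]
        have e0 : rf hV' (0 : Γ(Gr k d N, Proj.basicOpen (gr k d N) (P k d N a))) = 0 :=
          map_zero ((Gr k d N).presheaf.map (homOfLE hV').op).hom
        rw [e0, zero_smul, smul_zero]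
      · intro h
        exact absurd (Finset.mem_univ _) h
    exact sub_eq_zero.mp hc0
  · intro V' hV' m x hx
    obtain ⟨W, hWV, hxW, y, hy⟩ :=
      Groth.Agent.Helper4.EpiStalk.exists_local_lift_of_epi (πU k d N) V' m x hx
    refine ⟨W, hWV, hxW, ofCoords W (fun i => ∑ j, coords W y j *
      rf (hWV.trans hV') (cR k d N (Function.update a i j) a)), ?_⟩
    rw [frameMap_comp_app _ (hWV.trans hV')]
    show _ = (UQ k d N).presheaf.map (homOfLE hWV).op m
    rw [← hy, ← frameMap_uG]
    exact (frameMap_app_eq_of_rel (uG k d N) a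
      (fun i j => cR k d N (Function.update a i j) a) (sec_uG k d N a) (hWV.trans hV') y).symm

/-- the frame data of the universal quotient -/
theorem frameData_uG : FrameData (uG k d N) (Idx d N)
    (fun a => Proj.basicOpen (gr k d N) (P k d N a)) id
    (fun a => fun i j => cR k d N (Function.update a i j) a) where
  frame := isFrameOn_uG k d N
  rel a j := sec_uG k d N a j

theorem isFinLocFreeOfRank_UQ : FlatMod.IsFinLocFreeOfRank d (UQ k d N) := by
  intro x
  have hx : x ∈ ⨆ b : Idx d N, Proj.basicOpen (gr k d N) (P k d N b) := by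
    rw [hcovD]; trivial
  obtain ⟨a, ha⟩ := Opens.mem_iSup.1 hx
  exact ⟨_, ha, (isFrameOn_uG k d N a).nonempty_iso⟩

end Groth.Agent.Helper1.GR
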