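import Mathlib
import Groth.Agent.Helper1.GR14
import Groth.Agent.Helper1.PUP6

/-!
# Grassmannians, part 15: pullback of frames; the existence part of the universal property
-/

set_option autoImplicit false
set_option linter.style.haveILetI false
set_option linter.unusedSectionVars false

namespace Groth.Agent.Helper1.GR

open CategoryTheory Limits AlgebraicGeometry TopologicalSpace Opposite Matrix
  HomogeneousLocalization
open Groth.Agent.Helper4.GenLoc Groth.Agent.Helper4.StalkExact Groth.Agent.Helper1.PUP
open Groth.Agent.Helper1.ProjMor Groth.Agent.Helper1.PUPg Groth.Agent.Helper4.PullSec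
  Groth.Agent.Helper4.PullUnit

universe u

section Pullback

variable {X' X : Scheme.{u}} (f : X' ⟶ X) {d : ℕ} {L : X.Modules}

theorem inj_pullbackFreeIso_inv (i : Fin d) :
    inj X' d i ≫ (Groth.Agent.Helper8.TildeBC.pullbackFreeIso f d).inv =
      (pullbackUnitIso f).inv ≫ (Scheme.Modules.pullback f).map (inj X d i) := by
  unfold Groth.Agent.Helper8.TildeBC.pullbackFreeIso inj
  rw [Iso.trans_inv, PreservesCoproduct.inv_hom]
  have h1 : Sigma.ι (fun _ : Fin d => Coh.structureModule X') i ≫
      (Sigma.mapIso fun _ : Fin d => Groth.Agent.Helper8.TildeBC.pullbackUnitIso f).inv =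
      (pullbackUnitIso f).inv ≫ Sigma.ι (fun _ : Fin d =>
        (Scheme.Modules.pullback f).obj (Coh.structureModule X)) i := by
    rw [Sigma.ι_mapIso_inv]
    rfl
  rw [reassoc_of% h1, ι_comp_sigmaComparison]

/-- the map from the free module attached to pulled back sections -/
theorem frameMap_pullSec (σ : Fin d → (Coh.structureModule X ⟶ L)) :
    frameMap (fun i => pullSec f (σ i)) =
      (Groth.Agent.Helper8.TildeBC.pullbackFreeIso f d).inv ≫
        (Scheme.Modules.pullback f).map (frameMap σ) := by
  apply Sigma.hom_ext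
  intro i
  have h := inj_pullbackFreeIso_inv f (d := d) i
  unfold inj at h
  rw [reassoc_of% h, ← Functor.map_comp]
  have h2 : Sigma.ι (fun _ : Fin d => Coh.structureModule X) i ≫ frameMap σ = σ i :=
    inj_frameMap σ i
  rw [h2]
  exact inj_frameMap (fun i => pullSec f (σ i)) i

/-- the pullback of a frame is a frame -/
theorem IsFrameOn.pullback {σ : Fin d → (Coh.structureModule X ⟶ L)} {V : X.Opens}
    (hσ : IsFrameOn σ V) : IsFrameOn (fun i => pullSec f (σ i)) (f ⁻¹ᵁ V) := by
  rw [isFrameOn_iff_isIso] at hσ ⊢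
  haveI := hσ
  have h1 : IsIso ((Scheme.Modules.restrictFunctor (f ⁻¹ᵁ V).ι).map
      ((Scheme.Modules.pullback f).map (frameMap σ))) := by
    rw [isIso_restrict_pullback_iff (f ⁻¹ᵁ V).ι V.ι f (f ∣_ V) (morphismRestrict_ι f _).symm]
    infer_instance
  rw [frameMap_pullSec, Functor.map_comp]
  infer_instance

/-- the pullback of a linear relation between sections -/
theorem sec_pullSec_of_rel {N : ℕ} (σ : Fin N → (Coh.structureModule X ⟶ L)) (a : Idx d N)
    {V : X.Opens} (B : Matrix (Fin d) (Fin N) Γ(X, V)) (j : Fin N)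
    (hrel : sec (σ j) V = ∑ i, B i j • sec (σ (a i)) V) :
    sec (pullSec f (σ j)) (f ⁻¹ᵁ V) =
      ∑ i, (f.app V).hom (B i j) • sec (pullSec f (σ (a i))) (f ⁻¹ᵁ V) := by
  rw [sec_pullSec, hrel, map_sum]
  refine Finset.sum_congr rfl fun i _ => ?_
  rw [ηapp_smul, sec_pullSec]

end Pullback

section Existence

variable {X : Scheme.{u}} {d N : ℕ} {L : X.Modules}
  {σ : Fin N → (Coh.structureModule X ⟶ L)} {E : Type*}
  {W : E → X.Opens} {a : E → Idx d N} {B : ∀ e, Matrix (Fin d) (Fin N) Γ(X, W e)}
  {k : Type u} [CommRing k] (q : X ⟶ Spec (CommRingCat.of k))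
  (hσ : FrameData σ E W a B) (hcov : ⨆ e, W e = ⊤)

/-- the pulled back universal sections have the same frame data -/
theorem FrameData.pull_uG :
    FrameData (fun j => pullSec (hσ.hG q hcov) (uG k d N j)) E W a B where
  frame e := ((isFrameOn_uG k d N (a e)).pullback (hσ.hG q hcov)).mono
    (hσ.W_le_preimage_hG q hcov e)
  rel e j := by
    have h1 := sec_pullSec_of_rel (hσ.hG q hcov) (uG k d N) (a e)
      (fun i j => cR k d N (Function.update (a e) i j) (a e)) j (sec_uG k d N (a e) j)
    have h2 := congrArg (rs _ (hσ.W_le_preimage_hG q hcov e)) h1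
    rw [rs_sec, rs_sum] at h2
    rw [h2]
    refine Finset.sum_congr rfl fun i _ => ?_
    rw [rs_smul, rs_sec]
    congr 1
    have h3 := hσ.res_app_hG q hcov e (Function.update (a e) i j)
    rw [entry_eq_minor_of_one (B e) (a e) (hσ.B_self e) i j]
    exact h3

include hσ in
/-- **existence**: the pullback of the universal quotient along the classifying morphism -/
theorem FrameData.exists_iso_pullback :
    ∃ τ : (Scheme.Modules.pullback (hσ.hG q hcov)).obj (UQ k d N) ≅ L,
      ∀ j, pullSec (hσ.hG q hcov) (uG k d N j) ≫ τ.hom = σ j :=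
  exists_iso_of_frameData hσ (hσ.pull_uG q hcov) hcov

end Existence

end Groth.Agent.Helper1.GR
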