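import Mathlib
import Groth.Agent.Helper1.TwistMul7

/-!
# Universal property of projective bundles, part 3: algebra of symmetric algebras
-/

set_option autoImplicit false
set_option linter.style.haveILetI false

namespace Groth.Agent.Helper1.PUPg

open CategoryTheory AlgebraicGeometry

universe u

variable {A S M : Type u} [CommRing A] [CommRing S] [Algebra A S] (𝒮 : ℕ → Submodule A S)
  [GradedAlgebra 𝒮] [AddCommGroup M] [Module A M] (ι : M →ₗ[A] S) (hι : ∀ m : M, ι m ∈ 𝒮 1)
  (hsym : IsSymmetricAlgebra ι)

include hsym in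
theorem adjoin_range_ι : Algebra.adjoin A (Set.range ι) = ⊤ := by
  rw [eq_top_iff]
  have key : ∀ x : S, x ∈ Algebra.adjoin A (Set.range ι) := by
    intro x
    induction x using hsym.induction with
    | algebraMap r => exact Subalgebra.algebraMap_mem _ r
    | ι m => exact Algebra.subset_adjoin ⟨m, rfl⟩
    | mul a b ha hb => exact Subalgebra.mul_mem _ ha hb
    | add a b ha hb => exact Subalgebra.add_mem _ ha hb
  exact fun x _ => key x

include hι hsym in
theorem hcovP : (⨆ g : 𝒮 1, Proj.basicOpen 𝒮 (g : S)) = ⊤ := by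
  rw [eq_top_iff, ← Groth.Agent.Helper1.TwistMul.iSup_basicOpen_eq_top_of_adjoin 𝒮
    (fun m : M => ι m) (fun _ => 1) hι (adjoin_range_ι ι hsym)]
  apply iSup_le
  intro m
  exact le_iSup (fun g : 𝒮 1 => Proj.basicOpen 𝒮 (g : S)) ⟨ι m, hι m⟩

include hι hsym in
/-- two ring maps out of a symmetric algebra differing by the unit `u` on the generators differ
by `u ^ n` in degree `n` -/
theorem scale {B : Type u} [CommRing B] (φ φ' : S →+* B) (u : B)
    (hA : ∀ c : A, φ' (algebraMap A S c) = φ (algebraMap A S c))
    (hm : ∀ m : M, φ' (ι m) = u * φ (ι m)) (n : ℕ) (a : S) (ha : a ∈ 𝒮 n) :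
    φ' a = u ^ n * φ a := by
  have key : ∀ x : S, ∀ k : ℕ, φ' (DirectSum.decompose 𝒮 x k : S) =
      u ^ k * φ (DirectSum.decompose 𝒮 x k : S) := by
    intro x
    induction x using hsym.induction with
    | algebraMap r =>
      intro k
      have h0 : algebraMap A S r ∈ 𝒮 0 := SetLike.algebraMap_mem_graded 𝒮 r
      by_cases hk : k = 0
      · subst hk
        rw [DirectSum.decompose_of_mem_same 𝒮 h0, pow_zero, one_mul, hA]
      · rw [DirectSum.decompose_of_mem_ne 𝒮 h0 (Ne.symm hk), map_zero, map_zero, mul_zero]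
    | ι m =>
      intro k
      by_cases hk : k = 1
      · subst hk
        rw [DirectSum.decompose_of_mem_same 𝒮 (hι m), pow_one, hm]
      · rw [DirectSum.decompose_of_mem_ne 𝒮 (hι m) (Ne.symm hk), map_zero, map_zero, mul_zero]
    | mul a b ha hb =>
      intro k
      rw [DirectSum.decompose_mul, DirectSum.coe_mul_apply_eq_sum_antidiagonal, map_sum, map_sum,
        Finset.mul_sum]
      refine Finset.sum_congr rfl fun ij hij => ?_
      have hk : ij.1 + ij.2 = k := Finset.HasAntidiagonal.mem_antidiagonal.mp hij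
      rw [map_mul, map_mul, ha, hb, ← hk, pow_add]
      ring
    | add a b ha hb =>
      intro k
      rw [DirectSum.decompose_add, DirectSum.add_apply, AddMemClass.coe_add, map_add, map_add,
        ha, hb, mul_add]
  have := key a n
  rwa [DirectSum.decompose_of_mem_same 𝒮 ha] at this

include hsym in
/-- ring maps out of a symmetric algebra -/
theorem exists_ringHom {B : Type u} [CommRing B] (ρ : A →+* B) (f : M →+ B)
    (hf : ∀ (a : A) (m : M), f (a • m) = ρ a * f m) :
    ∃ ψ : S →+* B, (∀ m, ψ (ι m) = f m) ∧ ∀ c, ψ (algebraMap A S c) = ρ c := by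
  letI : Algebra A B := ρ.toAlgebra
  let g : M →ₗ[A] B :=
    { toFun := f
      map_add' := f.map_add
      map_smul' := fun a m => by
        rw [hf, RingHom.id_apply, Algebra.smul_def]
        rfl }
  refine ⟨(hsym.lift g).toRingHom, fun m => ?_, fun c => ?_⟩
  · exact hsym.lift_eq g m
  · exact (hsym.lift g).commutes c

end Groth.Agent.Helper1.PUPg
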