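import Mathlib
import Groth.Agent.Helper1.PUP9
import Groth.Agent.Helper1.PUPg2

/-!
# Universal property of projective bundles, part 5: uniqueness (general form)
-/

set_option autoImplicit false
set_option linter.style.haveILetI false

namespace Groth.Agent.Helper1.PUPg

open CategoryTheory Limits AlgebraicGeometry TopologicalSpace Opposite HomogeneousLocalization
open Groth.Agent.Helper4.GenLoc Groth.Agent.Helper4.GenLocIso Groth.Agent.Helper4.StalkExact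
  Groth.Agent.Helper4.PullSec Groth.Agent.Helper4.PullUnit
open Groth.Agent.Helper1.ProjMor Groth.Agent.Helper1.PUP Groth.Agent.Helper1.Segre

universe u

variable {X : Scheme.{u}} {E : Type*}
  {R A : Type u} [CommRing R] [CommRing A] [Algebra R A] (𝒜 : ℕ → Submodule R A)
  [GradedAlgebra 𝒜] (t : E → A) (ht : ∀ e, t e ∈ 𝒜 1)
  (hcovP : (⨆ g : 𝒜 1, Proj.basicOpen 𝒜 (g : A)) = ⊤)

/-- the pulled back coordinate maps, for an arbitrary morphism to `Proj` -/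
noncomputable def σr (r : X ⟶ Proj 𝒜) (k : E) :
    Coh.structureModule X ⟶ (Scheme.Modules.pullback r).obj (Twist.twist 𝒜 ((1 : ℕ) : ℤ)) :=
  pullSec r (TT 𝒜 (t k) (ht k))

include hcovP in
theorem genLocus_σr (r : X ⟶ Proj 𝒜) (k : E) :
    CohB1.genLocus _ (σr 𝒜 t ht r k) = r ⁻¹ᵁ Proj.basicOpen 𝒜 (t k) := by
  unfold σr
  rw [genLocus_pullSec r (Groth.Agent.Helper1.TwistMul.isInvertible_twist _ hcovP _),
    genLocus_TT _ hcovP]

theorem sec_σr_top (r : X ⟶ Proj 𝒜) (k : E) :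
    sec (σr 𝒜 t ht r k) ⊤ =
      ProjUP.pullSec r (Twist.twist 𝒜 ((1 : ℕ) : ℤ)) (Twist.globalOf 𝒜 ⟨t k, ht k⟩) := by
  rw [pullSec_eq_ηapp]
  have h3 := sec_pullSec r (TT 𝒜 (t k) (ht k)) ⊤
  unfold TT at h3
  rw [sec_homOfTop] at h3
  exact h3

theorem sec_σr_smul (r : X ⟶ Proj 𝒜) (k e : E) {V : X.Opens}
    (hV : V ≤ r ⁻¹ᵁ Proj.basicOpen 𝒜 (t e)) :
    sec (σr 𝒜 t ht r k) V =
      X.presheaf.map (homOfLE hV).op (r.app _ (cΓ 𝒜 t ht k e)) • sec (σr 𝒜 t ht r e) V := by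
  have h1 : ∀ j, sec (σr 𝒜 t ht r j) V =
      ((Scheme.Modules.pullback r).obj (Twist.twist 𝒜 ((1 : ℕ) : ℤ))).presheaf.map
        (homOfLE hV).op
        (ηapp r _ _ (sec (TT 𝒜 (t j) (ht j)) (Proj.basicOpen 𝒜 (t e)))) := by
    intro j
    rw [← sec_pullSec]
    exact (sec_res _ _).symm
  rw [h1 k, h1 e, sec_TT_smul 𝒜 t ht k e, ηapp_smul, Scheme.Modules.map_smul]

section Uniq

variable (r r' : X ⟶ Proj 𝒜)
  (hrr' : r ≫ Proj.toSpecZero 𝒜 ≫ Spec.map (CommRingCat.ofHom (algebraMap R (𝒜 0))) =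
    r' ≫ Proj.toSpecZero 𝒜 ≫ Spec.map (CommRingCat.ofHom (algebraMap R (𝒜 0))))
  (τ : (Scheme.Modules.pullback r).obj (Twist.twist 𝒜 ((1 : ℕ) : ℤ)) ≅
    (Scheme.Modules.pullback r').obj (Twist.twist 𝒜 ((1 : ℕ) : ℤ)))
  (hτ : ∀ k, σr 𝒜 t ht r k ≫ τ.hom = σr 𝒜 t ht r' k)

include hcovP hτ in
theorem preimage_eq (e : E) :
    r ⁻¹ᵁ Proj.basicOpen 𝒜 (t e) = r' ⁻¹ᵁ Proj.basicOpen 𝒜 (t e) := by
  rw [← genLocus_σr 𝒜 t ht hcovP, ← genLocus_σr 𝒜 t ht hcovP, ← hτ e,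
    Groth.Agent.Helper4.AmpleIso.genLocus_comp_iso]

include hcovP hτ in
theorem res_app_eq (k e : E) {V : X.Opens}
    (hV : V ≤ r ⁻¹ᵁ Proj.basicOpen 𝒜 (t e)) (hV' : V ≤ r' ⁻¹ᵁ Proj.basicOpen 𝒜 (t e)) :
    X.presheaf.map (homOfLE hV).op (r.app _ (cΓ 𝒜 t ht k e)) =
      X.presheaf.map (homOfLE hV').op (r'.app _ (cΓ 𝒜 t ht k e)) := by
  have h1 := sec_σr_smul 𝒜 t ht r k e hV
  have h2 := sec_σr_smul 𝒜 t ht r' k e hV'
  have h3 : ∀ j, sec (σr 𝒜 t ht r' j) V = τ.hom.app V (sec (σr 𝒜 t ht r j) V) := by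
    intro j
    rw [← hτ j]
    rfl
  rw [h3 k, h3 e, h1, Scheme.Modules.Hom.app_smul] at h2
  have h4 : (X.presheaf.map (homOfLE hV).op (r.app _ (cΓ 𝒜 t ht k e)) -
      X.presheaf.map (homOfLE hV').op (r'.app _ (cΓ 𝒜 t ht k e))) •
      sec (σr 𝒜 t ht r' e) V = 0 := by
    rw [sub_smul, h3 e, h2, sub_self]
  refine sub_eq_zero.mp (eq_zero_of_smul_sec (σr 𝒜 t ht r' e) ?_ _ h4)
  rw [genLocus_σr 𝒜 t ht hcovP]
  exact hV'

variable (hgenA : ∀ (e : E) (T : Subring (Away 𝒜 (t e))),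
    (∀ c : R, fromZeroRingHom 𝒜 (Submonoid.powers (t e)) (algebraMap R (𝒜 0) c) ∈ T) →
    (∀ k, cP 𝒜 t ht k e ∈ T) → T = ⊤)

include hrr' hτ hcovP hgenA in
theorem ι_comp_eq (e : E) {V : X.Opens}
    (hV : V ≤ r ⁻¹ᵁ Proj.basicOpen 𝒜 (t e)) (hV' : V ≤ r' ⁻¹ᵁ Proj.basicOpen 𝒜 (t e)) :
    V.ι ≫ r = V.ι ≫ r' := by
  have hg := range_ι_comp_subset r _ V hV
  have hg' := range_ι_comp_subset r' _ V hV'
  have key : pullFun 𝒜 (V.ι ≫ r) (ht e) one_pos hg =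
      pullFun 𝒜 (V.ι ≫ r') (ht e) one_pos hg' := by
    have hT := hgenA e (RingHom.eqLocus
      (pullFun 𝒜 (V.ι ≫ r) (ht e) one_pos hg)
      (pullFun 𝒜 (V.ι ≫ r') (ht e) one_pos hg')) ?_ ?_
    · ext z
      have hz : z ∈ RingHom.eqLocus
          (pullFun 𝒜 (V.ι ≫ r) (ht e) one_pos hg)
          (pullFun 𝒜 (V.ι ≫ r') (ht e) one_pos hg') := by
        rw [hT]; trivial
      exact hz
    · intro c
      show pullFun 𝒜 (V.ι ≫ r) (ht e) one_pos hg _ =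
        pullFun 𝒜 (V.ι ≫ r') (ht e) one_pos hg' _
      rw [pullFun_fromZero, pullFun_fromZero]
      have h1 : ∀ g : (V : Scheme.{u}) ⟶ Proj 𝒜,
          ProjUP.toGlobal (g ≫ Proj.toSpecZero 𝒜) (algebraMap R (𝒜 0) c) =
          ProjUP.toGlobal (g ≫ Proj.toSpecZero 𝒜 ≫
            Spec.map (CommRingCat.ofHom (algebraMap R (𝒜 0)))) c := by
        intro g
        rw [← Category.assoc, toGlobal_comp_SpecMap]
        rfl
      rw [h1, h1, Category.assoc, Category.assoc, hrr']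
    · intro l
      show pullFun 𝒜 (V.ι ≫ r) (ht e) one_pos hg _ =
        pullFun 𝒜 (V.ι ≫ r') (ht e) one_pos hg' _
      rw [← appLE_awayToSection, ← appLE_awayToSection,
        ι_comp_appLE r _ V hV, ι_comp_appLE r' _ V hV']
      have h2 := res_app_eq 𝒜 t ht hcovP r r' τ hτ l e hV hV'
      exact congrArg V.topIso.inv.hom h2
  rw [eq_toSpecΓ_pullFun 𝒜 (V.ι ≫ r) (ht e) one_pos hg,
    eq_toSpecΓ_pullFun 𝒜 (V.ι ≫ r') (ht e) one_pos hg', key]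

include hrr' hτ hcovP hgenA in
theorem eq_of_hτ (hcovD : ⨆ e, Proj.basicOpen 𝒜 (t e) = ⊤) : r = r' := by
  have hcov : ⨆ e : E, r ⁻¹ᵁ Proj.basicOpen 𝒜 (t e) = ⊤ := by
    rw [eq_top_iff]
    intro x _
    have hx : r x ∈ (⨆ e : E, Proj.basicOpen 𝒜 (t e)) := by
      rw [hcovD]; trivial
    obtain ⟨e, he⟩ := Opens.mem_iSup.mp hx
    exact Opens.mem_iSup.mpr ⟨e, he⟩
  apply (X.openCoverOfIsOpenCover _ hcov).hom_ext
  intro e
  exact ι_comp_eq 𝒜 t ht hcovP r r' hrr' τ hτ hgenA e le_rfl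
    (preimage_eq 𝒜 t ht hcovP r r' τ hτ e).le

end Uniq

end Groth.Agent.Helper1.PUPg
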