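import Mathlib
import Groth.Agent.Helper1.PUPg5
import Groth.Agent.Helper1.PUPg3

/-!
# Universal property of projective bundles, part 6: uniqueness for symmetric algebras
-/

set_option autoImplicit false
set_option linter.style.haveILetI false

namespace Groth.Agent.Helper1.PUPg

open CategoryTheory Limits AlgebraicGeometry TopologicalSpace Opposite HomogeneousLocalization

universe u

variable {A S M : Type u} [CommRing A] [CommRing S] [Algebra A S] (𝒮 : ℕ → Submodule A S)
  [GradedAlgebra 𝒮] [AddCommGroup M] [Module A M] (ι : M →ₗ[A] S) (hι : ∀ m : M, ι m ∈ 𝒮 1)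
  (hsym : IsSymmetricAlgebra ι)

/-- the powers of an element, as elements of the submonoid of powers -/
def pw (t : S) (n : ℕ) : Submonoid.powers t := ⟨t ^ n, n, rfl⟩

include hsym in
/-- the chart rings of `Proj` of a symmetric algebra are generated by constants and ratios -/
theorem away_gen_sym (e : M) (T : Subring (Away 𝒮 (ι e)))
    (hC : ∀ c : A, fromZeroRingHom 𝒮 (Submonoid.powers (ι e)) (algebraMap A (𝒮 0) c) ∈ T)
    (hr : ∀ k, cP 𝒮 (fun m => ι m) hι k e ∈ T) : T = ⊤ := by
  let val : Away 𝒮 (ι e) →+* Localization.Away (ι e) :=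
    algebraMap (Away 𝒮 (ι e)) (Localization.Away (ι e))
  have hval : ∀ x, val x = x.val := fun x => HomogeneousLocalization.algebraMap_apply _
  let T' : Subring (Localization.Away (ι e)) := T.map val
  have hzero : ∀ n : ℕ, Localization.mk (0 : S) (pw (ι e) n) ∈ T' := by
    intro n
    rw [Localization.mk_zero]
    exact T'.zero_mem
  have key : ∀ x : S, ∀ n : ℕ, Localization.mk (DirectSum.decompose 𝒮 x n : S)
      (pw (ι e) n) ∈ T' := by
    intro x
    induction x using hsym.induction with
    | algebraMap r =>
      intro n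
      have h0 : algebraMap A S r ∈ 𝒮 0 := SetLike.algebraMap_mem_graded 𝒮 r
      by_cases hn : n = 0
      · subst hn
        rw [DirectSum.decompose_of_mem_same 𝒮 h0]
        refine ⟨_, hC r, ?_⟩
        rw [hval]
        show Localization.mk _ 1 = _
        congr 1
        exact Subtype.ext (pow_zero (ι e)).symm
      · rw [DirectSum.decompose_of_mem_ne 𝒮 h0 (Ne.symm hn)]
        exact hzero n
    | ι m =>
      intro n
      by_cases hn : n = 1
      · subst hn
        rw [DirectSum.decompose_of_mem_same 𝒮 (hι m)]
        refine ⟨_, hr m, ?_⟩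
        rw [hval]
        unfold cP
        rw [Away.val_mk]
        rfl
      · rw [DirectSum.decompose_of_mem_ne 𝒮 (hι m) (Ne.symm hn)]
        exact hzero n
    | mul a b ha hb =>
      intro n
      rw [DirectSum.decompose_mul, DirectSum.coe_mul_apply_eq_sum_antidiagonal]
      have h1 : Localization.mk (∑ ij ∈ Finset.HasAntidiagonal.antidiagonal n,
          ((DirectSum.decompose 𝒮 a ij.1 : S) * (DirectSum.decompose 𝒮 b ij.2 : S)))
          (pw (ι e) n) =
          ∑ ij ∈ Finset.HasAntidiagonal.antidiagonal n,
            Localization.mk (DirectSum.decompose 𝒮 a ij.1 : S) (pw (ι e) ij.1) *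
            Localization.mk (DirectSum.decompose 𝒮 b ij.2 : S) (pw (ι e) ij.2) := by
        rw [Localization.mk_sum]
        refine Finset.sum_congr rfl fun ij hij => ?_
        have hk : ij.1 + ij.2 = n := Finset.HasAntidiagonal.mem_antidiagonal.mp hij
        rw [Localization.mk_mul]
        congr 1
        apply Subtype.ext
        show (ι e) ^ n = (ι e) ^ ij.1 * (ι e) ^ ij.2
        rw [← hk, pow_add]
      rw [h1]
      exact T'.sum_mem fun ij _ => T'.mul_mem (ha ij.1) (hb ij.2)
    | add a b ha hb =>
      intro n
      rw [DirectSum.decompose_add, DirectSum.add_apply, AddMemClass.coe_add,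
        ← Localization.add_mk_self]
      exact T'.add_mem (ha n) (hb n)
  rw [eq_top_iff]
  intro x _
  obtain ⟨n, a, ha, rfl⟩ := Away.mk_surjective 𝒮 (hι e) x
  have ha' : a ∈ 𝒮 n := by simpa using ha
  have h2 := key a n
  rw [DirectSum.decompose_of_mem_same 𝒮 ha'] at h2
  obtain ⟨y, hyT, hy⟩ := h2
  have h3 : y = Away.mk 𝒮 (hι e) n a ha := by
    apply HomogeneousLocalization.val_injective
    rw [← hval, hy, Away.val_mk]
    rfl
  rw [← h3]
  exact hyT

end Groth.Agent.Helper1.PUPg
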