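import Mathlib
import Groth.Agent.Helper1.PUPg6

/-!
# Grassmannians, part 16: general uniqueness tools for morphisms to `Proj`
-/

set_option autoImplicit false
set_option linter.style.haveILetI false
set_option linter.unusedSectionVars false

namespace Groth.Agent.Helper1.GR

open CategoryTheory Limits AlgebraicGeometry TopologicalSpace Opposite HomogeneousLocalization
open Groth.Agent.Helper1.ProjMor Groth.Agent.Helper1.PUP Groth.Agent.Helper1.PUPg
  Groth.Agent.Helper1.Segre

universe u

variable {X : Scheme.{u}} {E : Type*}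
  {R A : Type u} [CommRing R] [CommRing A] [Algebra R A] (𝒜 : ℕ → Submodule R A)
  [GradedAlgebra 𝒜] (t : E → A) (ht : ∀ e, t e ∈ 𝒜 1)

/-- the chart rings of `Proj` of an algebra generated by elements of degree one are generated
by constants and ratios -/
theorem away_gen_of_adjoin (hgen : Algebra.adjoin R (Set.range t) = ⊤) (e : E)
    (T : Subring (Away 𝒜 (t e)))
    (hC : ∀ c : R, fromZeroRingHom 𝒜 (Submonoid.powers (t e)) (algebraMap R (𝒜 0) c) ∈ T)
    (hr : ∀ k, PUPg.cP 𝒜 t ht k e ∈ T) : T = ⊤ := by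
  let val : Away 𝒜 (t e) →+* Localization.Away (t e) :=
    algebraMap (Away 𝒜 (t e)) (Localization.Away (t e))
  have hval : ∀ x, val x = x.val := fun x => HomogeneousLocalization.algebraMap_apply _
  let T' : Subring (Localization.Away (t e)) := T.map val
  have hzero : ∀ n : ℕ, Localization.mk (0 : A) (pw (t e) n) ∈ T' := by
    intro n
    rw [Localization.mk_zero]
    exact T'.zero_mem
  have key : ∀ x : A, ∀ n : ℕ, Localization.mk (DirectSum.decompose 𝒜 x n : A)
      (pw (t e) n) ∈ T' := by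
    intro x
    have hx : x ∈ Algebra.adjoin R (Set.range t) := by rw [hgen]; trivial
    induction hx using Algebra.adjoin_induction with
    | algebraMap r =>
      intro n
      have h0 : algebraMap R A r ∈ 𝒜 0 := SetLike.algebraMap_mem_graded 𝒜 r
      by_cases hn : n = 0
      · subst hn
        rw [DirectSum.decompose_of_mem_same 𝒜 h0]
        refine ⟨_, hC r, ?_⟩
        rw [hval]
        show Localization.mk _ 1 = _
        congr 1
        exact Subtype.ext (pow_zero (t e)).symm
      · rw [DirectSum.decompose_of_mem_ne 𝒜 h0 (Ne.symm hn)]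
        exact hzero n
    | mem x hx =>
      obtain ⟨m, rfl⟩ := hx
      intro n
      by_cases hn : n = 1
      · subst hn
        rw [DirectSum.decompose_of_mem_same 𝒜 (ht m)]
        refine ⟨_, hr m, ?_⟩
        rw [hval]
        unfold PUPg.cP
        rw [Away.val_mk]
        rfl
      · rw [DirectSum.decompose_of_mem_ne 𝒜 (ht m) (Ne.symm hn)]
        exact hzero n
    | mul a b _ _ ha hb =>
      intro n
      rw [DirectSum.decompose_mul, DirectSum.coe_mul_apply_eq_sum_antidiagonal]
      have h1 : Localization.mk (∑ ij ∈ Finset.HasAntidiagonal.antidiagonal n,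
          ((DirectSum.decompose 𝒜 a ij.1 : A) * (DirectSum.decompose 𝒜 b ij.2 : A)))
          (pw (t e) n) =
          ∑ ij ∈ Finset.HasAntidiagonal.antidiagonal n,
            Localization.mk (DirectSum.decompose 𝒜 a ij.1 : A) (pw (t e) ij.1) *
            Localization.mk (DirectSum.decompose 𝒜 b ij.2 : A) (pw (t e) ij.2) := by
        rw [Localization.mk_sum]
        refine Finset.sum_congr rfl fun ij hij => ?_
        have hk : ij.1 + ij.2 = n := Finset.HasAntidiagonal.mem_antidiagonal.mp hij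
        rw [Localization.mk_mul]
        congr 1
        apply Subtype.ext
        show (t e) ^ n = (t e) ^ ij.1 * (t e) ^ ij.2
        rw [← hk, pow_add]
      rw [h1]
      exact T'.sum_mem fun ij _ => T'.mul_mem (ha ij.1) (hb ij.2)
    | add a b _ _ ha hb =>
      intro n
      rw [DirectSum.decompose_add, DirectSum.add_apply, AddMemClass.coe_add,
        ← Localization.add_mk_self]
      exact T'.add_mem (ha n) (hb n)
  rw [eq_top_iff]
  intro x _
  obtain ⟨n, a, ha, rfl⟩ := Away.mk_surjective 𝒜 (ht e) x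
  have ha' : a ∈ 𝒜 n := by simpa using ha
  have h2 := key a n
  rw [DirectSum.decompose_of_mem_same 𝒜 ha'] at h2
  obtain ⟨y, hyT, hy⟩ := h2
  have h3 : y = Away.mk 𝒜 (ht e) n a ha := by
    apply HomogeneousLocalization.val_injective
    rw [← hval, hy, Away.val_mk]
    rfl
  rw [← h3]
  exact hyT

section Uniq

variable (r r' : X ⟶ Proj 𝒜)
  (hrr' : r ≫ Proj.toSpecZero 𝒜 ≫ Spec.map (CommRingCat.ofHom (algebraMap R (𝒜 0))) =
    r' ≫ Proj.toSpecZero 𝒜 ≫ Spec.map (CommRingCat.ofHom (algebraMap R (𝒜 0))))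
  (hgenA : ∀ (e : E) (T : Subring (Away 𝒜 (t e))),
    (∀ c : R, fromZeroRingHom 𝒜 (Submonoid.powers (t e)) (algebraMap R (𝒜 0) c) ∈ T) →
    (∀ k, PUPg.cP 𝒜 t ht k e ∈ T) → T = ⊤)

include hrr' hgenA in
/-- two morphisms to `Proj` over the base agree on an open mapped into `D₊(t e)` by both if
they pull back the ratios `t k / t e` to the same functions -/
theorem ι_comp_eq_of_res_app_eq (e : E) {V : X.Opens}
    (hV : V ≤ r ⁻¹ᵁ Proj.basicOpen 𝒜 (t e)) (hV' : V ≤ r' ⁻¹ᵁ Proj.basicOpen 𝒜 (t e))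
    (hres : ∀ l, X.presheaf.map (homOfLE hV).op (r.app _ (PUPg.cΓ 𝒜 t ht l e)) =
      X.presheaf.map (homOfLE hV').op (r'.app _ (PUPg.cΓ 𝒜 t ht l e))) :
    V.ι ≫ r = V.ι ≫ r' := by
  have hg := range_ι_comp_subset r _ V hV
  have hg' := range_ι_comp_subset r' _ V hV'
  have key : pullFun 𝒜 (V.ι ≫ r) (ht e) one_pos hg =
      pullFun 𝒜 (V.ι ≫ r') (ht e) one_pos hg' := by
    have hT := hgenA e (RingHom.eqLocus
      (pullFun 𝒜 (V.ι ≫ r) (ht e) one_pos hg)
      (pullFun 𝒜 (V.ι ≫ r') (ht e) one_pos hg')) ?_ ?_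
    · ext z
      have hz : z ∈ RingHom.eqLocus
          (pullFun 𝒜 (V.ι ≫ r) (ht e) one_pos hg)
          (pullFun 𝒜 (V.ι ≫ r') (ht e) one_pos hg') := by
        rw [hT]; trivial
      exact hz
    · intro c
      show pullFun 𝒜 (V.ι ≫ r) (ht e) one_pos hg _ =
        pullFun 𝒜 (V.ι ≫ r') (ht e) one_pos hg' _
      rw [pullFun_fromZero, pullFun_fromZero]
      have h1 : ∀ g : (V : Scheme.{u}) ⟶ Proj 𝒜,
          ProjUP.toGlobal (g ≫ Proj.toSpecZero 𝒜) (algebraMap R (𝒜 0) c) =
          ProjUP.toGlobal (g ≫ Proj.toSpecZero 𝒜 ≫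
            Spec.map (CommRingCat.ofHom (algebraMap R (𝒜 0)))) c := by
        intro g
        rw [← Category.assoc, toGlobal_comp_SpecMap]
        rfl
      rw [h1, h1, Category.assoc, Category.assoc, hrr']
    · intro l
      show pullFun 𝒜 (V.ι ≫ r) (ht e) one_pos hg _ =
        pullFun 𝒜 (V.ι ≫ r') (ht e) one_pos hg' _
      rw [← appLE_awayToSection, ← appLE_awayToSection,
        ι_comp_appLE r _ V hV, ι_comp_appLE r' _ V hV']
      exact congrArg V.topIso.inv.hom (hres l)
  rw [eq_toSpecΓ_pullFun 𝒜 (V.ι ≫ r) (ht e) one_pos hg,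
    eq_toSpecΓ_pullFun 𝒜 (V.ι ≫ r') (ht e) one_pos hg', key]

end Uniq

end Groth.Agent.Helper1.GR
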