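import Mathlib
import Groth.Agent.Helper1.GR15
import Groth.Agent.Helper1.GR16

/-!
# Grassmannians, part 17: operations on frame data (pullback, isomorphisms, sums)
-/

set_option autoImplicit false
set_option linter.style.haveILetI false
set_option linter.unusedSectionVars false

namespace Groth.Agent.Helper1.GR

open CategoryTheory Limits AlgebraicGeometry TopologicalSpace Opposite Matrix
open Groth.Agent.Helper4.GenLoc Groth.Agent.Helper4.StalkExact Groth.Agent.Helper1.PUP
  Groth.Agent.Helper4.PullSec

universe u

variable {X : Scheme.{u}} {d N : ℕ} {L : X.Modules}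
  {σ : Fin N → (Coh.structureModule X ⟶ L)} {E : Type*}
  {W : E → X.Opens} {a : E → Idx d N} {B : ∀ e, Matrix (Fin d) (Fin N) Γ(X, W e)}

/-- pullback of frame data -/
theorem FrameData.pullback {X' : Scheme.{u}} (f : X' ⟶ X) (hσ : FrameData σ E W a B) :
    FrameData (fun j => pullSec f (σ j)) E (fun e => f ⁻¹ᵁ W e) a
      (fun e => (B e).map (f.app (W e)).hom) where
  frame e := (hσ.frame e).pullback f
  rel e j := sec_pullSec_of_rel f σ (a e) (B e) j (hσ.rel e j)

/-- transport of frame data along an isomorphism -/
theorem FrameData.of_iso {L' : X.Modules} (τ : L ≅ L') (hσ : FrameData σ E W a B) :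
    FrameData (fun j => σ j ≫ τ.hom) E W a B where
  frame e := (hσ.frame e).of_iso τ
  rel e j := by
    have h := congrArg (τ.hom.app (W e)) (hσ.rel e j)
    rw [map_sum] at h
    refine h.trans ?_
    refine Finset.sum_congr rfl fun i _ => ?_
    rw [Scheme.Modules.Hom.app_smul]
    rfl

theorem FrameData.congr {σ' : Fin N → (Coh.structureModule X ⟶ L)} (h : σ = σ')
    (hσ : FrameData σ E W a B) : FrameData σ' E W a B := h ▸ hσ

/-- the coefficient matrices of a sum of frame data -/
def sumB {E' : Type*} {W' : E' → X.Opens} (B : ∀ e, Matrix (Fin d) (Fin N) Γ(X, W e))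
    (B' : ∀ e, Matrix (Fin d) (Fin N) Γ(X, W' e)) :
    ∀ e : E ⊕ E', Matrix (Fin d) (Fin N) Γ(X, Sum.elim W W' e)
  | Sum.inl e => B e
  | Sum.inr e => B' e

/-- the sum of two frame data for the same sections -/
theorem FrameData.sum {E' : Type*} {W' : E' → X.Opens} {a' : E' → Idx d N}
    {B' : ∀ e, Matrix (Fin d) (Fin N) Γ(X, W' e)} (hσ : FrameData σ E W a B)
    (hσ' : FrameData σ E' W' a' B') :
    FrameData σ (E ⊕ E') (Sum.elim W W') (Sum.elim a a') (sumB B B') where
  frame e := by
    cases e with
    | inl e => exact hσ.frame e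
    | inr e => exact hσ'.frame e
  rel e j := by
    cases e with
    | inl e => exact hσ.rel e j
    | inr e => exact hσ'.rel e j

end Groth.Agent.Helper1.GR
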