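import Mathlib
import Groth.Agent.Helper1.GR17
import Groth.Agent.Helper3.ProjClosedSub

/-!
# Grassmannians, part 18: the uniqueness part of the universal property
-/

set_option autoImplicit false
set_option linter.style.haveILetI false
set_option linter.unusedSectionVars false

namespace Groth.Agent.Helper1.GR

open CategoryTheory Limits AlgebraicGeometry TopologicalSpace Opposite Matrix
  HomogeneousLocalization
open Groth.Agent.Helper4.GenLoc Groth.Agent.Helper4.StalkExact Groth.Agent.Helper1.PUP
  Groth.Agent.Helper4.PullSec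

universe u

variable {X : Scheme.{u}} (k : Type u) [CommRing k] (d N : ℕ)

/-- the structure morphism of the Grassmannian -/
noncomputable def GrToSpec : Gr k d N ⟶ Spec (CommRingCat.of k) :=
  Proj.toSpecZero (gr k d N) ≫ Spec.map (CommRingCat.ofHom (algebraMap k (gr k d N 0)))

/-- the standard opens of the Grassmannian -/
noncomputable abbrev DG (a : Idx d N) : (Gr k d N).Opens :=
  Proj.basicOpen (gr k d N) (P k d N a)

/-- the coefficient matrix of the universal quotient on `D₊(P a)` -/
noncomputable def BU (a : Idx d N) : Matrix (Fin d) (Fin N) Γ(Gr k d N, DG k d N a) :=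
  fun i j => cR k d N (Function.update a i j) a

theorem frameData_uG' : FrameData (uG k d N) (Idx d N) (DG k d N) id (BU k d N) :=
  frameData_uG k d N

theorem det_BU_submatrix (a c : Idx d N) : ((BU k d N a).submatrix id c).det = cR k d N c a :=
  det_cR k d N a c

section

variable {k d N}
variable (h h' : X ⟶ Gr k d N)
  (τ : (Scheme.Modules.pullback h).obj (UQ k d N) ≅ (Scheme.Modules.pullback h').obj (UQ k d N))
  (hτ : ∀ j, pullSec h (uG k d N j) ≫ τ.hom = pullSec h' (uG k d N j))

include hτ in
/-- the combined frame data of the pulled back sections -/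
theorem frameData_sum :
    FrameData (fun j => pullSec h' (uG k d N j)) (Idx d N ⊕ Idx d N)
      (Sum.elim (fun a => h ⁻¹ᵁ DG k d N a) (fun a => h' ⁻¹ᵁ DG k d N a)) (Sum.elim id id)
      (sumB (fun a => (BU k d N a).map (h.app (DG k d N a)).hom)
        (fun a => (BU k d N a).map (h'.app (DG k d N a)).hom)) :=
  FrameData.sum ((((frameData_uG' k d N).pullback h).of_iso τ).congr (funext hτ))
    ((frameData_uG' k d N).pullback h')

include hτ in
theorem preimage_le (a : Idx d N) : h ⁻¹ᵁ DG k d N a ≤ h' ⁻¹ᵁ DG k d N a := by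
  intro x hx
  have hx' : h' x ∈ ⨆ b : Idx d N, DG k d N b := by
    rw [hcovD]; trivial
  obtain ⟨b, hb⟩ := Opens.mem_iSup.1 hx'
  set V' : X.Opens := h ⁻¹ᵁ DG k d N a ⊓ h' ⁻¹ᵁ DG k d N b with hV'
  have hxV' : x ∈ V' := ⟨hx, hb⟩
  have h1 := (frameData_sum h h' τ hτ).trans_mul_trans (Sum.inl a) (Sum.inr b)
    (inf_le_left : V' ≤ _) (inf_le_right : V' ≤ _)
  have h2 := congrArg Matrix.det h1
  rw [det_mul, det_one] at h2
  have h3 : IsUnit ((((BU k d N b).map (h'.app (DG k d N b)).hom).map
      (rf (inf_le_right : V' ≤ h' ⁻¹ᵁ DG k d N b))).submatrix id a).det :=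
    IsUnit.of_mul_eq_one _ h2
  have h4 : ((((BU k d N b).map (h'.app (DG k d N b)).hom).map
      (rf (inf_le_right : V' ≤ h' ⁻¹ᵁ DG k d N b))).submatrix id a).det =
      rf (inf_le_right : V' ≤ h' ⁻¹ᵁ DG k d N b)
        ((h'.app (DG k d N b)).hom (cR k d N a b)) := by
    rw [← det_BU_submatrix k d N b a]
    have e1 : (((BU k d N b).map (h'.app (DG k d N b)).hom).map
        (rf (inf_le_right : V' ≤ h' ⁻¹ᵁ DG k d N b))).submatrix id a =
        ((X.presheaf.map (homOfLE (inf_le_right : V' ≤ h' ⁻¹ᵁ DG k d N b)).op).hom.comp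
          (h'.app (DG k d N b)).hom).mapMatrix ((BU k d N b).submatrix id a) := by
      ext i l
      rfl
    rw [e1, ← RingHom.map_det]
    rfl
  rw [h4] at h3
  have h5 : V' ≤ X.basicOpen ((h'.app (DG k d N b)).hom (cR k d N a b)) := by
    have e2 := Scheme.basicOpen_res X ((h'.app (DG k d N b)).hom (cR k d N a b))
      (homOfLE (inf_le_right : V' ≤ h' ⁻¹ᵁ DG k d N b)).op
    rw [Scheme.basicOpen_of_isUnit _ h3] at e2
    exact e2.le.trans inf_le_right
  have h6 := h5 hxV'
  rw [← Scheme.Hom.preimage_basicOpen] at h6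
  exact Groth.Agent.Helper3.ProjClosedSub.basicOpen_awayToSection_le (gr k d N)
    (P_mem k d N a) (P_mem k d N b) h6

include hτ in
/-- the pulled back coefficient matrices agree -/
theorem res_BU_eq (a : Idx d N) {V : X.Opens} (hV : V ≤ h ⁻¹ᵁ DG k d N a)
    (hV' : V ≤ h' ⁻¹ᵁ DG k d N a) :
    ((BU k d N a).map (h'.app (DG k d N a)).hom).map (rf hV') =
      ((BU k d N a).map (h.app (DG k d N a)).hom).map (rf hV) := by
  have hS := frameData_sum h h' τ hτ
  have h1 := hS.B_trans (Sum.inl a) (Sum.inr a) hV hV'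
  have h2 := hS.B_self (Sum.inr a)
  have h3 : (((BU k d N a).map (h'.app (DG k d N a)).hom).map (rf hV')).submatrix id a = 1 := by
    have := congrArg (RingHom.mapMatrix (X.presheaf.map (homOfLE hV').op).hom) h2
    exact this.trans (map_one (RingHom.mapMatrix (X.presheaf.map (homOfLE hV').op).hom))
  have h4 : ((BU k d N a).map (h'.app (DG k d N a)).hom).map (rf hV') =
      (((BU k d N a).map (h'.app (DG k d N a)).hom).map (rf hV')).submatrix id a *
        ((BU k d N a).map (h.app (DG k d N a)).hom).map (rf hV) := h1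
  rw [h3, Matrix.one_mul] at h4
  exact h4

include hτ in
/-- the pulled back ratios agree -/
theorem res_cR_eq (a b : Idx d N) {V : X.Opens} (hV : V ≤ h ⁻¹ᵁ DG k d N a)
    (hV' : V ≤ h' ⁻¹ᵁ DG k d N a) :
    rf hV ((h.app (DG k d N a)).hom (cR k d N b a)) =
      rf hV' ((h'.app (DG k d N a)).hom (cR k d N b a)) := by
  have h1 := res_BU_eq h h' τ hτ a hV hV'
  have key : ∀ (g : X ⟶ Gr k d N) (hg : V ≤ g ⁻¹ᵁ DG k d N a),
      rf hg ((g.app (DG k d N a)).hom (cR k d N b a)) =
        ((((BU k d N a).map (g.app (DG k d N a)).hom).map (rf hg)).submatrix id b).det := by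
    intro g hg
    rw [← det_BU_submatrix k d N a b]
    have e1 : (((BU k d N a).map (g.app (DG k d N a)).hom).map (rf hg)).submatrix id b =
        ((X.presheaf.map (homOfLE hg).op).hom.comp
          (g.app (DG k d N a)).hom).mapMatrix ((BU k d N a).submatrix id b) := by
      ext i l
      rfl
    rw [e1, ← RingHom.map_det]
    rfl
  rw [key h hV, key h' hV', h1]

end

end Groth.Agent.Helper1.GR
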