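import Mathlib

/-!
# Checking properties of a morphism on a family of chart squares
-/

set_option autoImplicit false
set_option linter.style.haveILetI false

namespace Groth.Agent.Helper1.IM

open CategoryTheory Limits AlgebraicGeometry TopologicalSpace

universe u

section

variable {D P : Scheme.{u}} (r : D ⟶ P) {ι : Type u} {A B : ι → Scheme.{u}}
  (θ : ∀ a, A a ⟶ B a) (e : ∀ a, A a ⟶ D) (j : ∀ a, B a ⟶ P)
  [∀ a, IsOpenImmersion (j a)] [∀ a, IsOpenImmersion (e a)]

/-- target-local properties can be checked on chart squares covering the target -/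
theorem of_charts (Q : MorphismProperty Scheme.{u}) [IsZariskiLocalAtTarget Q]
    (comm : ∀ a, e a ≫ r = θ a ≫ j a)
    (pre : ∀ a, r ⁻¹ᵁ (j a).opensRange = (e a).opensRange)
    (hj : ∀ x : P, ∃ a, x ∈ (j a).opensRange) (h : ∀ a, Q (θ a)) : Q r := by
  let 𝒰 : P.OpenCover := Scheme.Cover.mkOfCovers ι B j
    (fun x => by obtain ⟨a, y, hy⟩ := hj x; exact ⟨a, y, hy⟩) (fun a => inferInstance)
  refine IsZariskiLocalAtTarget.of_openCover (P := Q) 𝒰 ?_
  intro a
  have sq : IsPullback (θ a) (e a) (j a) r :=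
    IsOpenImmersion.isPullback _ _ _ _ (comm a) (pre a)
  have h1 := h a
  have h2 : sq.flip.isoPullback.hom ≫ pullback.snd r (j a) = θ a := sq.flip.isoPullback_hom_snd
  rw [← h2] at h1
  exact (MorphismProperty.cancel_left_of_respectsIso Q _ _).1 h1

/-- conversely, base-change-stable properties pass to the charts -/
theorem charts_of (Q : MorphismProperty Scheme.{u}) [Q.IsStableUnderBaseChange]
    (comm : ∀ a, e a ≫ r = θ a ≫ j a)
    (pre : ∀ a, r ⁻¹ᵁ (j a).opensRange = (e a).opensRange) (h : Q r) (a : ι) : Q (θ a) := by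
  have sq : IsPullback (θ a) (e a) (j a) r :=
    IsOpenImmersion.isPullback _ _ _ _ (comm a) (pre a)
  exact MorphismProperty.of_isPullback sq.flip h

/-- the union of the chart targets -/
def chartUnion : P.Opens := ⨆ a, (j a).opensRange

include θ e in
theorem range_subset_chartUnion (comm : ∀ a, e a ≫ r = θ a ≫ j a)
    (he : ∀ x : D, ∃ a, x ∈ (e a).opensRange) :
    Set.range r ⊆ Set.range (chartUnion j).ι := by
  rintro _ ⟨x, rfl⟩
  obtain ⟨a, y, rfl⟩ := he x
  rw [Scheme.Opens.range_ι]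
  refine Opens.mem_iSup.mpr ⟨a, θ a y, ?_⟩
  have := congrArg (fun φ : A a ⟶ P => φ y) (comm a)
  exact this.symm

/-- corestriction to the union of the charts -/
theorem exists_corestrict (comm : ∀ a, e a ≫ r = θ a ≫ j a)
    (pre : ∀ a, r ⁻¹ᵁ (j a).opensRange = (e a).opensRange)
    (he : ∀ x : D, ∃ a, x ∈ (e a).opensRange)
    (Q : MorphismProperty Scheme.{u}) [IsZariskiLocalAtTarget Q] (h : ∀ a, Q (θ a)) :
    ∃ r' : D ⟶ (chartUnion j : P.Opens), r' ≫ (chartUnion j).ι = r ∧ Q r' := by
  let W := chartUnion j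
  have hr := range_subset_chartUnion r θ e j comm he
  let r' : D ⟶ (W : P.Opens) := IsOpenImmersion.lift W.ι r hr
  have hr' : r' ≫ W.ι = r := IsOpenImmersion.lift_fac _ _ _
  have hjW : ∀ a, Set.range (j a) ⊆ Set.range W.ι := by
    intro a
    rw [Scheme.Opens.range_ι]
    rintro _ ⟨y, rfl⟩
    exact Opens.mem_iSup.mpr ⟨a, y, rfl⟩
  let j' : ∀ a, B a ⟶ (W : P.Opens) := fun a => IsOpenImmersion.lift W.ι (j a) (hjW a)
  have hj' : ∀ a, j' a ≫ W.ι = j a := fun a => IsOpenImmersion.lift_fac _ _ _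
  haveI : ∀ a, IsOpenImmersion (j' a) := by
    intro a
    have : IsOpenImmersion (j' a ≫ W.ι) := by rw [hj']; infer_instance
    exact IsOpenImmersion.of_comp _ W.ι
  have hrange : ∀ a, (j' a).opensRange = W.ι ⁻¹ᵁ (j a).opensRange := by
    intro a
    ext x
    constructor
    · rintro ⟨y, rfl⟩
      refine ⟨y, ?_⟩
      have := congrArg (fun φ : B a ⟶ P => φ y) (hj' a)
      exact this.symm
    · rintro ⟨y, hy⟩
      refine ⟨y, W.ι.injective ?_⟩
      have := congrArg (fun φ : B a ⟶ P => φ y) (hj' a)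
      exact this.trans hy
  refine ⟨r', hr', ?_⟩
  apply of_charts r' θ e j' Q
  · intro a
    rw [← cancel_mono W.ι, Category.assoc, Category.assoc, hr', hj', comm]
  · intro a
    rw [hrange, ← pre a]
    ext x
    show W.ι (r' x) ∈ (j a).opensRange ↔ r x ∈ (j a).opensRange
    have := congrArg (fun φ : D ⟶ P => φ x) hr'
    rw [← this]
    rfl
  · intro x
    obtain ⟨a, ha⟩ := Opens.mem_iSup.mp x.2
    refine ⟨a, ?_⟩
    rw [hrange]
    exact ha
  · exact h

/-- a morphism which is a closed immersion on chart squares covering the source is an immersion -/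
theorem isImmersion_of_charts (comm : ∀ a, e a ≫ r = θ a ≫ j a)
    (pre : ∀ a, r ⁻¹ᵁ (j a).opensRange = (e a).opensRange)
    (he : ∀ x : D, ∃ a, x ∈ (e a).opensRange) (h : ∀ a, IsClosedImmersion (θ a)) :
    IsImmersion r := by
  obtain ⟨r', hr', hQ⟩ := exists_corestrict r θ e j comm pre he @IsClosedImmersion h
  haveI := hQ
  rw [← hr']
  infer_instance

/-- a morphism which is an isomorphism on chart squares covering the source is an open
immersion -/
theorem isOpenImmersion_of_charts (comm : ∀ a, e a ≫ r = θ a ≫ j a)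
    (pre : ∀ a, r ⁻¹ᵁ (j a).opensRange = (e a).opensRange)
    (he : ∀ x : D, ∃ a, x ∈ (e a).opensRange) (h : ∀ a, IsIso (θ a)) :
    IsOpenImmersion r := by
  obtain ⟨r', hr', hQ⟩ := exists_corestrict r θ e j comm pre he (MorphismProperty.isomorphisms _) h
  haveI : IsIso r' := hQ
  rw [← hr']
  infer_instance

end

section single

variable {D P : Scheme.{u}} (r : D ⟶ P) {A B : Scheme.{u}} (θ : A ⟶ B) (e : A ⟶ D) (j : B ⟶ P)
  [IsOpenImmersion j] [IsOpenImmersion e]

/-- a chart square whose target lies in an open `W` through which `r` factors is a chart square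
of the corestriction -/
theorem corestrict_square (W : P.Opens) (r' : D ⟶ (W : P.Opens)) (hr' : r' ≫ W.ι = r)
    (comm : e ≫ r = θ ≫ j) (pre : r ⁻¹ᵁ j.opensRange = e.opensRange)
    (hle : j.opensRange ≤ W) :
    ∃ (j' : B ⟶ (W : P.Opens)) (_ : IsOpenImmersion j'), j' ≫ W.ι = j ∧ e ≫ r' = θ ≫ j' ∧
      r' ⁻¹ᵁ j'.opensRange = e.opensRange := by
  have hjW : Set.range j ⊆ Set.range W.ι := by
    rw [Scheme.Opens.range_ι]
    rintro _ ⟨y, rfl⟩
    exact hle ⟨y, rfl⟩
  let j' : B ⟶ (W : P.Opens) := IsOpenImmersion.lift W.ι j hjW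
  have hj' : j' ≫ W.ι = j := IsOpenImmersion.lift_fac _ _ _
  haveI : IsOpenImmersion j' := by
    have : IsOpenImmersion (j' ≫ W.ι) := by rw [hj']; infer_instance
    exact IsOpenImmersion.of_comp _ W.ι
  have hrange : j'.opensRange = W.ι ⁻¹ᵁ j.opensRange := by
    ext x
    constructor
    · rintro ⟨y, rfl⟩
      refine ⟨y, ?_⟩
      have := congrArg (fun φ : B ⟶ P => φ y) hj'
      exact this.symm
    · rintro ⟨y, hy⟩
      refine ⟨y, W.ι.injective ?_⟩
      have := congrArg (fun φ : B ⟶ P => φ y) hj'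
      exact this.trans hy
  refine ⟨j', inferInstance, hj', ?_, ?_⟩
  · rw [← cancel_mono W.ι, Category.assoc, Category.assoc, hr', hj', comm]
  · rw [hrange, ← pre]
    ext x
    show W.ι (r' x) ∈ j.opensRange ↔ r x ∈ j.opensRange
    have := congrArg (fun φ : D ⟶ P => φ x) hr'
    rw [← this]
    rfl

/-- charts of an immersion inside the coborder are closed immersions -/
theorem isClosedImmersion_chart_of_isImmersion [IsImmersion r]
    (comm : e ≫ r = θ ≫ j) (pre : r ⁻¹ᵁ j.opensRange = e.opensRange)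
    (hle : j.opensRange ≤ r.coborderRange) : IsClosedImmersion θ := by
  obtain ⟨j', hj'o, -, comm', pre'⟩ := corestrict_square r θ e j r.coborderRange r.liftCoborder
    r.liftCoborder_ι comm pre hle
  haveI := hj'o
  exact charts_of r.liftCoborder (fun _ : PUnit.{u + 1} => θ) (fun _ => e) (fun _ => j')
    @IsClosedImmersion (fun _ => comm') (fun _ => pre') inferInstance PUnit.unit

/-- charts of an open immersion inside its range are isomorphisms -/
theorem isIso_chart_of_isOpenImmersion [IsOpenImmersion r]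
    (comm : e ≫ r = θ ≫ j) (pre : r ⁻¹ᵁ j.opensRange = e.opensRange)
    (hle : j.opensRange ≤ r.opensRange) : IsIso θ := by
  haveI : IsOpenImmersion θ :=
    charts_of r (fun _ : PUnit.{u + 1} => θ) (fun _ => e) (fun _ => j)
      @IsOpenImmersion (fun _ => comm) (fun _ => pre) inferInstance PUnit.unit
  apply isIso_of_isOpenImmersion_of_opensRange_eq_top
  ext b
  simp only [Opens.coe_top, Set.mem_univ, iff_true]
  obtain ⟨x, hx⟩ := hle (⟨b, rfl⟩ : j b ∈ j.opensRange)
  have hx' : x ∈ r ⁻¹ᵁ j.opensRange := ⟨b, hx.symm⟩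
  rw [pre] at hx'
  obtain ⟨y, rfl⟩ := hx'
  refine ⟨y, j.injective ?_⟩
  have := congrArg (fun φ : A ⟶ P => φ y) comm
  exact this.symm.trans hx

/-- inverse images of affine opens inside the coborder under an immersion are affine -/
theorem isAffineOpen_preimage_of_isImmersion [IsImmersion r] {W : P.Opens} (hW : IsAffineOpen W)
    (hle : W ≤ r.coborderRange) : IsAffineOpen (r ⁻¹ᵁ W) := by
  have h1 : IsAffineOpen (r.coborderRange.ι ⁻¹ᵁ W) :=
    hW.preimage_of_isOpenImmersion _ (by rw [Scheme.Opens.opensRange_ι]; exact hle)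
  have h2 := h1.preimage r.liftCoborder
  have h3 : r.liftCoborder ⁻¹ᵁ (r.coborderRange.ι ⁻¹ᵁ W) = r ⁻¹ᵁ W := by
    rw [← Scheme.Hom.comp_preimage, r.liftCoborder_ι]
  rwa [h3] at h2

end single

end Groth.Agent.Helper1.IM
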