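import Mathlib

/-!
# Base change of a graded ring: graded pieces and degree-zero localizations, part 1

Setting: a pushout square of commutative rings `R → R'`, `R → A`, `A' = A ⊗_R R'`, where `A` and
`A'` are graded (by additive subgroups), the structure maps land in degree zero and `A → A'` is
graded.  We show that the graded pieces `A_n` (as `R`-modules) base change to `A'_n`.
-/

set_option autoImplicit false
set_option linter.style.haveILetI false

namespace Groth.Agent.Helper1.PB

open HomogeneousLocalization TensorProduct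

universe u

section

variable {R R' A A' : Type u} {σ σ' : Type*} [CommRing R] [CommRing R'] [CommRing A] [CommRing A']
  [Algebra R R'] [Algebra R A] [Algebra R' A'] [Algebra A A'] [Algebra R A']
  [IsScalarTower R R' A'] [IsScalarTower R A A']
  [SetLike σ A] [AddSubgroupClass σ A] [SetLike σ' A'] [AddSubgroupClass σ' A']
  (𝒜 : ℕ → σ) [GradedRing 𝒜] (𝒜' : ℕ → σ') [GradedRing 𝒜']
  (h0 : ∀ r : R, algebraMap R A r ∈ 𝒜 0)

/-- the degree-`n` piece as an `R`-submodule -/
def piece (n : ℕ) : Submodule R A where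
  carrier := {a | a ∈ 𝒜 n}
  add_mem' := fun ha hb => add_mem ha hb
  zero_mem' := zero_mem _
  smul_mem' := fun r a ha => by
    show r • a ∈ 𝒜 n
    rw [Algebra.smul_def]
    have := SetLike.mul_mem_graded (h0 r) ha
    rwa [zero_add] at this

theorem mem_piece (n : ℕ) (a : A) : a ∈ piece 𝒜 h0 n ↔ a ∈ 𝒜 n := Iff.rfl

/-- projection onto the degree-`n` piece -/
def projL (n : ℕ) : A →ₗ[R] piece 𝒜 h0 n where
  toFun a := ⟨(DirectSum.decompose 𝒜 a n : A), (DirectSum.decompose 𝒜 a n).2⟩
  map_add' a b := by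
    apply Subtype.ext
    show ((DirectSum.decompose 𝒜 (a + b) n : 𝒜 n) : A) = _
    rw [DirectSum.decompose_add, DirectSum.add_apply]
    rfl
  map_smul' r a := by
    apply Subtype.ext
    show ((DirectSum.decompose 𝒜 (r • a) n : 𝒜 n) : A) = r • ((DirectSum.decompose 𝒜 a n : 𝒜 n) : A)
    rw [Algebra.smul_def, Algebra.smul_def, DirectSum.coe_decompose_mul_of_left_mem_zero 𝒜 (h0 r)]

theorem projL_coe (n : ℕ) (a : A) :
    ((projL 𝒜 h0 n a : piece 𝒜 h0 n) : A) = (DirectSum.decompose 𝒜 a n : A) := rfl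

theorem projL_subtype (n : ℕ) : projL 𝒜 h0 n ∘ₗ (piece 𝒜 h0 n).subtype = LinearMap.id := by
  ext m
  show ((DirectSum.decompose 𝒜 (m : A) n : 𝒜 n) : A) = m
  exact DirectSum.decompose_of_mem_same 𝒜 m.2

variable [Algebra.IsPushout R R' A A']

/-- the canonical isomorphism `R' ⊗_R A ≃ A'` -/
noncomputable def bcEquiv : R' ⊗[R] A ≃ₗ[R'] A' :=
  (Algebra.IsPushout.out (R := R) (S := R') (R' := A) (S' := A')).equiv

theorem bcEquiv_tmul (r' : R') (a : A) :
    bcEquiv (R := R) (R' := R') (A := A) (A' := A') (r' ⊗ₜ a) = r' • algebraMap A A' a := by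
  unfold bcEquiv
  rw [IsBaseChange.equiv_tmul]
  rfl

/-- `R' ⊗_R A_n → A'` -/
noncomputable def ev (n : ℕ) : R' ⊗[R] piece 𝒜 h0 n →ₗ[R'] A' :=
  (bcEquiv (R := R) (R' := R') (A := A) (A' := A')).toLinearMap ∘ₗ
    (piece 𝒜 h0 n).subtype.baseChange R'

theorem ev_tmul (n : ℕ) (r' : R') (m : piece 𝒜 h0 n) :
    ev (R' := R') (A' := A') 𝒜 h0 n (r' ⊗ₜ m) = r' • algebraMap A A' (m : A) := by
  unfold ev
  rw [LinearMap.comp_apply, LinearMap.baseChange_tmul]
  exact bcEquiv_tmul r' _

theorem ev_injective (n : ℕ) : Function.Injective (ev (R' := R') (A' := A') 𝒜 h0 n) := by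
  unfold ev
  rw [LinearMap.coe_comp]
  refine Function.Injective.comp (LinearEquiv.injective _) ?_
  have h : (projL 𝒜 h0 n).baseChange R' ∘ₗ (piece 𝒜 h0 n).subtype.baseChange R' = LinearMap.id := by
    rw [← LinearMap.baseChange_comp, projL_subtype, LinearMap.baseChange_id]
  intro x y hxy
  have := congrArg ((projL 𝒜 h0 n).baseChange R') hxy
  rw [← LinearMap.comp_apply, ← LinearMap.comp_apply, h] at this
  exact this

variable (h0' : ∀ r' : R', algebraMap R' A' r' ∈ 𝒜' 0) (φ : 𝒜 →+*ᵍ 𝒜')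
  (hφ : ∀ a, φ a = algebraMap A A' a)

include h0' hφ in
/-- the graded pieces of `A'` are generated by the images of those of `A` -/
theorem ev_surjective (n : ℕ) (y : A') (hy : y ∈ 𝒜' n) :
    ∃ t, ev (R' := R') (A' := A') 𝒜 h0 n t = y := by
  obtain ⟨w, rfl⟩ := (bcEquiv (R := R) (R' := R') (A := A) (A' := A')).surjective y
  refine ⟨(projL 𝒜 h0 n).baseChange R' w, ?_⟩
  have key : ∀ w : R' ⊗[R] A, ev (R' := R') (A' := A') 𝒜 h0 n ((projL 𝒜 h0 n).baseChange R' w) =
      (DirectSum.decompose 𝒜' (bcEquiv (R := R) (R' := R') (A := A) (A' := A') w) n : A') := by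
    intro w
    induction w using TensorProduct.induction_on with
    | zero => simp
    | tmul r' a =>
      rw [LinearMap.baseChange_tmul, ev_tmul, bcEquiv_tmul, Algebra.smul_def, Algebra.smul_def,
        DirectSum.coe_decompose_mul_of_left_mem_zero 𝒜' (h0' r'), projL_coe, ← hφ, ← hφ,
        GradedRingHom.map_directSumDecompose]
    | add x y hx hy =>
      rw [map_add, map_add, hx, hy, map_add, DirectSum.decompose_add, DirectSum.add_apply]
      rfl
  rw [key]
  exact DirectSum.decompose_of_mem_same 𝒜' hy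

end

end Groth.Agent.Helper1.PB
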