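import Mathlib
import Groth.Agent.Helper1.PB1

/-!
# Base change of a graded ring, part 2: degree-zero localizations base change

`A'_(φ f) = A_(f) ⊗_R R'`.
-/

set_option autoImplicit false
set_option linter.style.haveILetI false

namespace Groth.Agent.Helper1.PB

open HomogeneousLocalization TensorProduct

universe u

section

variable {R R' A A' : Type u} {σ σ' : Type*} [CommRing R] [CommRing R'] [CommRing A] [CommRing A']
  [Algebra R R'] [Algebra R A] [Algebra R' A'] [Algebra A A'] [Algebra R A']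
  [IsScalarTower R R' A'] [IsScalarTower R A A']
  [SetLike σ A] [AddSubgroupClass σ A] [SetLike σ' A'] [AddSubgroupClass σ' A']
  (𝒜 : ℕ → σ) [GradedRing 𝒜] (𝒜' : ℕ → σ') [GradedRing 𝒜']
  (h0 : ∀ r : R, algebraMap R A r ∈ 𝒜 0)
  {d : ℕ} {f : A} (hf : f ∈ 𝒜 d)
  [Algebra R (Away 𝒜 f)]
  (hB : ∀ r : R, (algebraMap R (Away 𝒜 f) r).val =
    algebraMap A (Localization (Submonoid.powers f)) (algebraMap R A r))

omit [Algebra R (Away 𝒜 f)] in
theorem away_mk_congr (k : ℕ) {a b : A} (e : a = b) (ha : a ∈ 𝒜 (k • d)) (hb : b ∈ 𝒜 (k • d)) :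
    Away.mk 𝒜 hf k a ha = Away.mk 𝒜 hf k b hb := by
  subst e; rfl

include h0 hB in
theorem smul_away_mk (k : ℕ) (a : A) (ha : a ∈ 𝒜 (k • d)) (r : R)
    (hra : algebraMap R A r * a ∈ 𝒜 (k • d)) :
    r • Away.mk 𝒜 hf k a ha = Away.mk 𝒜 hf k (algebraMap R A r * a) hra := by
  apply HomogeneousLocalization.val_injective
  rw [Algebra.smul_def, HomogeneousLocalization.val_mul, hB, Away.val_mk, Away.val_mk,
    ← Localization.mk_one_eq_algebraMap, Localization.mk_mul, one_mul]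

/-- `a ↦ a / f^k` on the degree-`k•d` piece -/
def awayL (k n : ℕ) (hn : n = k • d) : piece 𝒜 h0 n →ₗ[R] Away 𝒜 f where
  toFun m := Away.mk 𝒜 hf k (m : A) (hn ▸ (mem_piece 𝒜 h0 n m).1 m.2)
  map_add' m m' := by
    apply HomogeneousLocalization.val_injective
    rw [HomogeneousLocalization.val_add, Away.val_mk, Away.val_mk, Away.val_mk,
      Localization.add_mk_self]
    rfl
  map_smul' r m := by
    have hra : algebraMap R A r * (m : A) ∈ 𝒜 (k • d) := by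
      have := SetLike.mul_mem_graded (h0 r) (hn ▸ (mem_piece 𝒜 h0 n m).1 m.2 : (m : A) ∈ 𝒜 (k • d))
      rwa [zero_add] at this
    exact (away_mk_congr 𝒜 hf k (Algebra.smul_def r (m : A)) _ hra).trans
      (smul_away_mk 𝒜 h0 hf hB k (m : A) _ r hra).symm

theorem awayL_val (k n : ℕ) (hn : n = k • d) (m : piece 𝒜 h0 n) :
    (awayL 𝒜 h0 hf hB k n hn m).val =
      Localization.mk (m : A) (⟨f ^ k, k, rfl⟩ : Submonoid.powers f) := rfl

/-- multiplication by `f^m` between graded pieces -/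
def mulL (m n n' : ℕ) (hn' : n' = m • d + n) : piece 𝒜 h0 n →ₗ[R] piece 𝒜 h0 n' where
  toFun a := ⟨f ^ m * (a : A), (mem_piece 𝒜 h0 n' _).2
    (hn' ▸ SetLike.mul_mem_graded (SetLike.pow_mem_graded m hf) ((mem_piece 𝒜 h0 n a).1 a.2))⟩
  map_add' a b := Subtype.ext (mul_add _ _ _)
  map_smul' r a := Subtype.ext (mul_smul_comm r (f ^ m) (a : A))

theorem mulL_coe (m n n' : ℕ) (hn' : n' = m • d + n) (a : piece 𝒜 h0 n) :
    ((mulL 𝒜 h0 hf m n n' hn' a : piece 𝒜 h0 n') : A) = f ^ m * (a : A) := rfl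

theorem awayL_mulL (m k K n n' : ℕ) (hK : K = m + k) (hn : n = k • d) (hn' : n' = m • d + n)
    (hK' : n' = K • d) :
    awayL 𝒜 h0 hf hB K n' hK' ∘ₗ mulL 𝒜 h0 hf m n n' hn' = awayL 𝒜 h0 hf hB k n hn := by
  ext a
  show Localization.mk (f ^ m * (a : A)) (⟨f ^ K, K, rfl⟩ : Submonoid.powers f) =
    Localization.mk (a : A) (⟨f ^ k, k, rfl⟩ : Submonoid.powers f)
  subst hK
  rw [Localization.mk_eq_mk_iff, Localization.r_iff_exists]
  refine ⟨1, ?_⟩
  simp only [OneMemClass.coe_one, one_mul]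
  ring

variable [Algebra.IsPushout R R' A A']

theorem ev_mulL (m n n' : ℕ) (hn' : n' = m • d + n) (t : R' ⊗[R] piece 𝒜 h0 n) :
    ev (R' := R') (A' := A') 𝒜 h0 n' ((mulL 𝒜 h0 hf m n n' hn').baseChange R' t) =
      (algebraMap A A' f) ^ m * ev (R' := R') (A' := A') 𝒜 h0 n t := by
  induction t using TensorProduct.induction_on with
  | zero => simp
  | tmul r' a =>
    rw [LinearMap.baseChange_tmul, ev_tmul, ev_tmul, mulL_coe, map_mul, map_pow, mul_smul_comm]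
  | add x y hx hy => rw [map_add, map_add, hx, hy, map_add, mul_add]

/-- every element of `R' ⊗ A_(f)` comes from some `R' ⊗ A_{kd}` -/
theorem exists_rep (z : R' ⊗[R] Away 𝒜 f) :
    ∃ (k n : ℕ) (hn : n = k • d) (t : R' ⊗[R] piece 𝒜 h0 n),
      z = (awayL 𝒜 h0 hf hB k n hn).baseChange R' t := by
  induction z using TensorProduct.induction_on with
  | zero => exact ⟨0, 0 • d, rfl, 0, by simp⟩
  | tmul r' b =>
    obtain ⟨k, a, ha, rfl⟩ := Away.mk_surjective 𝒜 hf b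
    exact ⟨k, k • d, rfl, r' ⊗ₜ ⟨a, ha⟩, by rw [LinearMap.baseChange_tmul]; rfl⟩
  | add x y hx hy =>
    obtain ⟨k₁, n₁, hn₁, t₁, rfl⟩ := hx
    obtain ⟨k₂, n₂, hn₂, t₂, rfl⟩ := hy
    have e₁ : (k₂ + k₁) • d = k₂ • d + n₁ := by rw [hn₁, add_smul]
    have e₂ : (k₂ + k₁) • d = k₁ • d + n₂ := by rw [hn₂, add_smul, add_comm]
    refine ⟨k₂ + k₁, (k₂ + k₁) • d, rfl,
      (mulL 𝒜 h0 hf k₂ n₁ _ e₁).baseChange R' t₁ + (mulL 𝒜 h0 hf k₁ n₂ _ e₂).baseChange R' t₂, ?_⟩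
    rw [map_add, ← LinearMap.comp_apply, ← LinearMap.comp_apply, ← LinearMap.baseChange_comp,
      ← LinearMap.baseChange_comp,
      awayL_mulL 𝒜 h0 hf hB k₂ k₁ (k₂ + k₁) n₁ _ rfl hn₁ e₁ rfl,
      awayL_mulL 𝒜 h0 hf hB k₁ k₂ (k₂ + k₁) n₂ _ (add_comm _ _) hn₂ e₂ rfl]

variable (h0' : ∀ r' : R', algebraMap R' A' r' ∈ 𝒜' 0) (φ : 𝒜 →+*ᵍ 𝒜')
  (hφ : ∀ a, φ a = algebraMap A A' a)
  [Algebra R' (Away 𝒜' (φ f))] [Algebra (Away 𝒜 f) (Away 𝒜' (φ f))] [Algebra R (Away 𝒜' (φ f))]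
  [IsScalarTower R R' (Away 𝒜' (φ f))] [IsScalarTower R (Away 𝒜 f) (Away 𝒜' (φ f))]
  (hB' : ∀ r' : R', (algebraMap R' (Away 𝒜' (φ f)) r').val =
    algebraMap A' (Localization (Submonoid.powers (φ f))) (algebraMap R' A' r'))
  (hBB' : ∀ b, algebraMap (Away 𝒜 f) (Away 𝒜' (φ f)) b = Away.map φ f b)

/-- the canonical map `R' ⊗_R A_(f) → A'_(φ f)` -/
noncomputable def LL : R' ⊗[R] Away 𝒜 f →ₗ[R'] Away 𝒜' (φ f) :=
  LinearMap.liftBaseChange R' (IsScalarTower.toAlgHom R (Away 𝒜 f) (Away 𝒜' (φ f))).toLinearMap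

include hφ hB' hBB' in
theorem val_LL_awayL (k n : ℕ) (hn : n = k • d) (t : R' ⊗[R] piece 𝒜 h0 n) :
    (LL 𝒜 𝒜' φ ((awayL 𝒜 h0 hf hB k n hn).baseChange R' t)).val =
      Localization.mk (ev (R' := R') (A' := A') 𝒜 h0 n t)
        (⟨φ f ^ k, k, rfl⟩ : Submonoid.powers (φ f)) := by
  induction t using TensorProduct.induction_on with
  | zero => simp [Localization.mk_zero]
  | tmul r' a =>
    subst hn
    rw [LinearMap.baseChange_tmul, ev_tmul]
    unfold LL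
    rw [LinearMap.liftBaseChange_tmul]
    show (r' • algebraMap (Away 𝒜 f) (Away 𝒜' (φ f)) (Away.mk 𝒜 hf k (a : A) _)).val = _
    rw [hBB', Away.map_mk, Algebra.smul_def r', HomogeneousLocalization.val_mul, hB', Away.val_mk,
      ← Localization.mk_one_eq_algebraMap, Localization.mk_mul, one_mul]
    congr 1
    rw [hφ]
    exact (Algebra.smul_def r' _).symm
  | add x y hx hy =>
    rw [map_add, map_add, HomogeneousLocalization.val_add, hx, hy, map_add,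
      Localization.add_mk_self]

include h0 hf hB h0' hφ hB' hBB' in
theorem LL_surjective : Function.Surjective (LL (R := R) (R' := R') 𝒜 𝒜' φ (f := f)) := by
  intro b'
  obtain ⟨k, a', ha', rfl⟩ := Away.mk_surjective 𝒜' (φ.map_mem hf) b'
  obtain ⟨t, ht⟩ := ev_surjective 𝒜 𝒜' h0 h0' φ hφ (k • d) a' ha'
  refine ⟨(awayL 𝒜 h0 hf hB k (k • d) rfl).baseChange R' t, ?_⟩
  apply HomogeneousLocalization.val_injective
  rw [val_LL_awayL 𝒜 𝒜' h0 hf hB φ hφ hB' hBB', ht, Away.val_mk]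
  rfl

include h0 hf hB hφ hB' hBB' in
theorem LL_injective : Function.Injective (LL (R := R) (R' := R') 𝒜 𝒜' φ (f := f)) := by
  rw [injective_iff_map_eq_zero]
  intro z hz
  obtain ⟨k, n, hn, t, rfl⟩ := exists_rep (R' := R') 𝒜 h0 hf hB z
  have h1 := congrArg HomogeneousLocalization.val hz
  rw [val_LL_awayL 𝒜 𝒜' h0 hf hB φ hφ hB' hBB', HomogeneousLocalization.val_zero,
    Localization.mk_eq_mk'_apply, IsLocalization.mk'_eq_zero_iff] at h1
  obtain ⟨⟨_, m, rfl⟩, hm⟩ := h1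
  have hm' : φ f ^ m * ev (R' := R') (A' := A') 𝒜 h0 n t = 0 := hm
  rw [hφ, ← ev_mulL 𝒜 h0 hf m n (m • d + n) rfl] at hm'
  have h2 : (mulL 𝒜 h0 hf m n (m • d + n) rfl).baseChange R' t = 0 :=
    ev_injective 𝒜 h0 _ (hm'.trans (map_zero _).symm)
  have e : m • d + n = (m + k) • d := by rw [hn, add_smul]
  rw [← awayL_mulL 𝒜 h0 hf hB m k (m + k) n (m • d + n) rfl hn rfl e, LinearMap.baseChange_comp,
    LinearMap.comp_apply, h2, map_zero]

include h0 hf hB h0' hφ hB' hBB' in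
/-- **Degree-zero localizations commute with base change.** -/
theorem isPushout_away : Algebra.IsPushout R R' (Away 𝒜 f) (Away 𝒜' (φ f)) := by
  refine ⟨IsBaseChange.of_equiv (LinearEquiv.ofBijective (LL (R := R) (R' := R') 𝒜 𝒜' φ (f := f))
    ⟨LL_injective 𝒜 𝒜' h0 hf hB φ hφ hB' hBB', LL_surjective 𝒜 𝒜' h0 hf hB h0' φ hφ hB' hBB'⟩) ?_⟩
  intro b
  show LL (R := R) (R' := R') 𝒜 𝒜' φ (f := f) (1 ⊗ₜ b) = _
  unfold LL
  rw [LinearMap.liftBaseChange_tmul, one_smul]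

end

end Groth.Agent.Helper1.PB
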