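import Mathlib
import Groth.Agent.Helper1.PB2

/-!
# Base change of a graded ring, part 3: the categorical form

`A'_(φ f) = A_(f) ⊗_R R'` as a pushout square in `CommRingCat`, and the irrelevant ideal of a base
change.
-/

set_option autoImplicit false
set_option linter.style.haveILetI false

namespace Groth.Agent.Helper1.PB

open HomogeneousLocalization CategoryTheory Limits
open scoped HomogeneousIdeal

universe u

section

variable {R R' A A' : CommRingCat.{u}} {σ σ' : Type*}
  [SetLike σ A] [AddSubgroupClass σ A] [SetLike σ' A'] [AddSubgroupClass σ' A']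
  (𝒜 : ℕ → σ) [GradedRing 𝒜] (𝒜' : ℕ → σ') [GradedRing 𝒜']
  (α : R ⟶ R') (s : R ⟶ A) (s' : R' ⟶ A') (φ : 𝒜 →+*ᵍ 𝒜')
  (H : IsPushout α s s' (CommRingCat.ofHom φ.toRingHom))
  (hs : ∀ r, s.hom r ∈ 𝒜 0) (hs' : ∀ r', s'.hom r' ∈ 𝒜' 0)

include H in
theorem phi_s (r : R) : φ (s.hom r) = s'.hom (α.hom r) := by
  have := congrArg (fun t => t.hom r) H.w
  exact this.symm

include H hs hs' in
/-- **Degree-zero localizations commute with base change**, categorical form. -/
theorem isPushout_away_cat {d : ℕ} {f : A} (hf : f ∈ 𝒜 d)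
    (t : R ⟶ CommRingCat.of (Away 𝒜 f))
    (ht : ∀ r, (t.hom r).val = algebraMap A (Localization (Submonoid.powers f)) (s.hom r))
    (t' : R' ⟶ CommRingCat.of (Away 𝒜' (φ f)))
    (ht' : ∀ r', (t'.hom r').val =
      algebraMap A' (Localization (Submonoid.powers (φ f))) (s'.hom r')) :
    IsPushout α t t' (CommRingCat.ofHom (Away.map φ f)) := by
  letI : Algebra R R' := α.hom.toAlgebra
  letI : Algebra R A := s.hom.toAlgebra
  letI : Algebra R' A' := s'.hom.toAlgebra
  letI : Algebra A A' := φ.toRingHom.toAlgebra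
  letI : Algebra R A' := (φ.toRingHom.comp s.hom).toAlgebra
  haveI : IsScalarTower R A A' := .of_algebraMap_eq' rfl
  haveI : IsScalarTower R R' A' := .of_algebraMap_eq' (by
    ext r
    exact phi_s 𝒜 𝒜' α s s' φ H r)
  haveI : Algebra.IsPushout R R' A A' := CommRingCat.isPushout_iff_isPushout.mp H
  letI : Algebra R (Away 𝒜 f) := t.hom.toAlgebra
  letI : Algebra R' (Away 𝒜' (φ f)) := t'.hom.toAlgebra
  letI : Algebra (Away 𝒜 f) (Away 𝒜' (φ f)) := (Away.map φ f).toAlgebra
  letI : Algebra R (Away 𝒜' (φ f)) := ((Away.map φ f).comp t.hom).toAlgebra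
  haveI : IsScalarTower R (Away 𝒜 f) (Away 𝒜' (φ f)) := .of_algebraMap_eq' rfl
  have htr : ∀ r : R, t.hom r = Away.mk 𝒜 hf 0 (s.hom r) (by rw [zero_smul]; exact hs r) := by
    intro r
    apply HomogeneousLocalization.val_injective
    rw [ht, Away.val_mk, ← Localization.mk_one_eq_algebraMap]
    congr 1
    exact Subtype.ext (pow_zero f).symm
  haveI : IsScalarTower R R' (Away 𝒜' (φ f)) := .of_algebraMap_eq' (by
    ext r
    show (Away.map φ f (t.hom r)).val = (t'.hom (α.hom r)).val
    rw [htr, Away.map_mk, ht', Away.val_mk, ← Localization.mk_one_eq_algebraMap,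
      phi_s 𝒜 𝒜' α s s' φ H r]
    congr 1
    exact Subtype.ext (pow_zero _))
  have key : Algebra.IsPushout R R' (Away 𝒜 f) (Away 𝒜' (φ f)) :=
    isPushout_away 𝒜 𝒜' hs hf ht hs' φ (fun _ => rfl) ht' (fun _ => rfl)
  exact CommRingCat.isPushout_iff_isPushout.mpr key

include H hs hs' in
/-- the graded pieces of a base change are generated by the images -/
theorem mem_map_of_mem {n : ℕ} (I : Ideal A) (hI : ∀ a ∈ 𝒜 n, a ∈ I) (y : A') (hy : y ∈ 𝒜' n) :
    y ∈ I.map φ := by
  letI : Algebra R R' := α.hom.toAlgebra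
  letI : Algebra R A := s.hom.toAlgebra
  letI : Algebra R' A' := s'.hom.toAlgebra
  letI : Algebra A A' := φ.toRingHom.toAlgebra
  letI : Algebra R A' := (φ.toRingHom.comp s.hom).toAlgebra
  haveI : IsScalarTower R A A' := .of_algebraMap_eq' rfl
  haveI : IsScalarTower R R' A' := .of_algebraMap_eq' (by
    ext r
    exact phi_s 𝒜 𝒜' α s s' φ H r)
  haveI : Algebra.IsPushout R R' A A' := CommRingCat.isPushout_iff_isPushout.mp H
  obtain ⟨t, rfl⟩ := ev_surjective (R' := R') 𝒜 𝒜' hs hs' φ (fun _ => rfl) n y hy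
  clear hy
  induction t using TensorProduct.induction_on with
  | zero => rw [map_zero]; exact zero_mem _
  | tmul r' m =>
    rw [ev_tmul, Algebra.smul_def]
    exact Ideal.mul_mem_left _ _ (Ideal.mem_map_of_mem φ (hI _ m.2))
  | add x y hx hy => rw [map_add]; exact add_mem hx hy

include H hs hs' in
/-- the irrelevant ideal of a base change is generated by the image of the irrelevant ideal -/
theorem irrelevant_le_map : 𝒜'₊ ≤ 𝒜₊.map φ := by
  classical
  intro y hy
  show y ∈ Ideal.map φ (𝒜₊).toIdeal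
  rw [← DirectSum.sum_support_decompose 𝒜' y]
  refine Ideal.sum_mem _ fun n _ => ?_
  by_cases hn : n = 0
  · subst hn
    have : ((DirectSum.decompose 𝒜' y 0 : 𝒜' 0) : A') = 0 := by
      have := (HomogeneousIdeal.mem_irrelevant_iff 𝒜' y).mp hy
      rwa [GradedRing.proj_apply] at this
    rw [this]
    exact zero_mem _
  · refine mem_map_of_mem 𝒜 𝒜' α s s' φ H hs hs' (n := n) _ ?_ _ (DirectSum.decompose 𝒜' y n).2
    intro a ha
    exact HomogeneousIdeal.mem_irrelevant_of_mem 𝒜 (Nat.pos_of_ne_zero hn) ha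

end

end Groth.Agent.Helper1.PB
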