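import Mathlib
import Groth.Prelude.Def_RelProj4
import Groth.Agent.Helper1.PB3
import Groth.Agent.Helper1.RP23
import Groth.Agent.Helper1.CN4
import Groth.Agent.Helper1.IM3

/-!
# Base change of a relative Proj: `Proj(ψ^*𝒮) = Proj(𝒮) ×_Y Y'`
-/

set_option autoImplicit false
set_option linter.style.haveILetI false

namespace Groth.Agent.Helper1.PB

open CategoryTheory Limits AlgebraicGeometry TopologicalSpace Opposite RelProj RelSpec
  HomogeneousLocalization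
open scoped HomogeneousIdeal
open Groth.Agent.Helper1.RP

universe u

variable {Y Y' : Scheme.{u}} {g : Y' ⟶ Y} {𝒮 : QCGrAlg Y} {𝒮' : QCGrAlg Y'}
  (u : QGrHom g 𝒮 𝒮') {P : Scheme.{u}} (p : P ⟶ Y)
  (chart : ∀ (U : Y.Opens) (hU : IsAffineOpen U),
    (((p ⁻¹ᵁ U : P.Opens) : Scheme.{u}) ≅ Proj (𝒮.deg U hU)))
  {P' : Scheme.{u}} (p' : P' ⟶ Y')
  (chart' : ∀ (U' : Y'.Opens) (hU' : IsAffineOpen U'),
    (((p' ⁻¹ᵁ U' : P'.Opens) : Scheme.{u}) ≅ Proj (𝒮'.deg U' hU')))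

/-- the pushout square of a base change, in graded form -/
theorem isPushout_gradedAt (hu : IsQBaseChange u.toQHom) (U : Y.Opens) (hU : IsAffineOpen U)
    (U' : Y'.Opens) (hU' : IsAffineOpen U') (hle : U' ≤ g ⁻¹ᵁ U) :
    IsPushout (g.appLE U U' hle) (𝒮.str.app (op U)) (𝒮'.str.app (op U'))
      (CommRingCat.ofHom (u.gradedAt U hU U' hU' hle).toRingHom) :=
  hu U hU U' hU' hle

/-- for a base change, `Proj(u)` is everywhere defined -/
theorem domQ_eq_top_of_isQBaseChange (hu : IsQBaseChange u.toQHom) :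
    domQ u p' chart' = ⊤ := by
  rw [_root_.eq_top_iff]
  intro x _
  obtain ⟨U, hU, U', hU', hle, hxU'⟩ := exists_pair (g := g) (p' x)
  have hx : x ∈ p' ⁻¹ᵁ U' := hxU'
  unfold RelProj.domQ
  refine Opens.mem_iSup.mpr ⟨⟨(⟨U, hU⟩, ⟨U', hU'⟩), hle⟩, ?_⟩
  refine ⟨(chart' U' hU').hom ⟨x, hx⟩, ?_, emb_chart_hom p' chart' U' hU' x hx⟩
  show (chart' U' hU').hom ⟨x, hx⟩ ∈ RelCone.domOpen (u.gradedAt U hU U' hU' hle)
  rw [domOpen_eq_top_of_le _ (irrelevant_le_map (𝒮.deg U hU) (𝒮'.deg U' hU') _ _ _ _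
    (isPushout_gradedAt u hu U hU U' hU' hle) (𝒮.str_mem U hU) (𝒮'.str_mem U' hU'))]
  trivial

/-- the structure map `O(U) → 𝒮(U)_(f)` -/
noncomputable def strAway (𝒮 : QCGrAlg Y) (U : Y.Opens) (hU : IsAffineOpen U)
    (f : 𝒮.presheaf.obj (op U)) :
    Y.presheaf.obj (op U) ⟶ CommRingCat.of (Away (𝒮.deg U hU) f) :=
  𝒮.strZero U hU ≫ CommRingCat.ofHom (fromZeroRingHom (𝒮.deg U hU) (Submonoid.powers f))

theorem strAway_val (𝒮 : QCGrAlg Y) (U : Y.Opens) (hU : IsAffineOpen U)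
    (f : 𝒮.presheaf.obj (op U)) (r : Y.presheaf.obj (op U)) :
    ((strAway 𝒮 U hU f).hom r).val =
      algebraMap (𝒮.presheaf.obj (op U)) (Localization (Submonoid.powers f))
        ((𝒮.str.app (op U)).hom r) := by
  rw [← Localization.mk_one_eq_algebraMap]
  rfl

/-- the standard chart of `P` lies over `U` -/
theorem awayι_emb_p (hP : IsRelProj 𝒮 p chart) (U : Y.Opens) (hU : IsAffineOpen U) {d : ℕ}
    (hd : 0 < d) (f : 𝒮.presheaf.obj (op U)) (hf : f ∈ 𝒮.deg U hU d) :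
    (Proj.awayι (𝒮.deg U hU) f hf hd ≫ emb p chart U hU) ≫ p =
      Spec.map (strAway 𝒮 U hU f) ≫ hU.fromSpec := by
  rw [Category.assoc, emb_p (pA := p) (chartA := chart) hP U hU]
  unfold RP.str strAway
  rw [Proj.awayι_toSpecZero_assoc, Spec.map_comp, Category.assoc]

theorem isPushout_strAway (hu : IsQBaseChange u.toQHom) (U : Y.Opens) (hU : IsAffineOpen U)
    (U' : Y'.Opens) (hU' : IsAffineOpen U') (hle : U' ≤ g ⁻¹ᵁ U) {d : ℕ}
    (f : 𝒮.presheaf.obj (op U)) (hf : f ∈ 𝒮.deg U hU d) :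
    IsPushout (g.appLE U U' hle) (strAway 𝒮 U hU f)
      (strAway 𝒮' U' hU' (u.gradedAt U hU U' hU' hle f))
      (CommRingCat.ofHom (Away.map (u.gradedAt U hU U' hU' hle) f)) :=
  isPushout_away_cat (𝒮.deg U hU) (𝒮'.deg U' hU') _ _ _ _
    (isPushout_gradedAt u hu U hU U' hU' hle) (𝒮.str_mem U hU) (𝒮'.str_mem U' hU') hf
    (strAway 𝒮 U hU f) (strAway_val 𝒮 U hU f)
    (strAway 𝒮' U' hU' (u.gradedAt U hU U' hU' hle f))
    (strAway_val 𝒮' U' hU' (u.gradedAt U hU U' hU' hle f))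

end Groth.Agent.Helper1.PB
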