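import Mathlib
import Groth.Prelude.Def_RelProj4
import Groth.Agent.Helper1.PB4
import Groth.Agent.Helper1.PUP5
import Groth.Agent.Helper1.RP15
import Groth.Agent.Helper1.RP16

/-!
# The structure map of a relative Proj on sections over a standard chart
-/

set_option autoImplicit false
set_option linter.unusedSectionVars false
set_option linter.style.haveILetI false

namespace Groth.Agent.Helper1.GMFl

open CategoryTheory CategoryTheory.Limits AlgebraicGeometry TopologicalSpace Opposite RelProj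
open HomogeneousLocalization
open Groth.Agent.Helper1.RP
open scoped HomogeneousIdeal

universe u

/-- sections of `Spec B ⟶ U ⊆ Y` over `U` -/
theorem appLE_specMap_fromSpec {Y : Scheme.{u}} {U : Y.Opens} (hU : IsAffineOpen U)
    {B : CommRingCat.{u}} (φ : Γ(Y, U) ⟶ B)
    (h : (⊤ : (Spec B).Opens) ≤ (Spec.map φ ≫ hU.fromSpec) ⁻¹ᵁ U) :
    (Spec.map φ ≫ hU.fromSpec).appLE U ⊤ h = φ ≫ (Scheme.ΓSpecIso B).inv := by
  apply Spec.map_injective
  have h1 := IsAffineOpen.SpecMap_appLE_fromSpec (Spec.map φ ≫ hU.fromSpec) hU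
    (isAffineOpen_top (Spec B)) h
  rw [IsAffineOpen.fromSpec_top, Scheme.isoSpec_Spec_inv, ← Category.assoc, ← Spec.map_comp] at h1
  exact (cancel_mono hU.fromSpec).1 h1

variable {Y P : Scheme.{u}} {𝒮 : QCGrAlg Y} {p : P ⟶ Y}
  {chart : ∀ (U : Y.Opens) (hU : IsAffineOpen U),
    (((p ⁻¹ᵁ U : P.Opens) : Scheme.{u}) ≅ Proj (𝒮.deg U hU))}

theorem le_preimage_emb_p (U : Y.Opens) (hU : IsAffineOpen U) (O : (Proj (𝒮.deg U hU)).Opens) :
    O ≤ (emb p chart U hU ≫ p) ⁻¹ᵁ U := by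
  intro y _
  have h1 : (emb p chart U hU) y ∈ (emb p chart U hU).opensRange := ⟨y, rfl⟩
  rw [opensRange_emb] at h1
  exact h1

/-- **the structure map on sections over `D₊(f)`** -/
theorem appLE_emb_p (hP : IsRelProj 𝒮 p chart) (U : Y.Opens) (hU : IsAffineOpen U) {e : ℕ}
    (he : 0 < e) (f : 𝒮.presheaf.obj (op U)) (hf : f ∈ 𝒮.deg U hU e) :
    (emb p chart U hU ≫ p).appLE U (Proj.basicOpen (𝒮.deg U hU) f)
        (le_preimage_emb_p U hU _) =
      PB.strAway 𝒮 U hU f ≫ Proj.awayToSection (𝒮.deg U hU) f := by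
  haveI : IsIso (Proj.awayToSection (𝒮.deg U hU) f) :=
    (Proj.basicOpenIsoAway (𝒮.deg U hU) f hf he).isIso_hom
  have h1 := PUP.awayToSection_awayι_appLE (𝒮.deg U hU) hf he
  have h3 : Proj.awayι (𝒮.deg U hU) f hf he ≫ emb p chart U hU ≫ p =
      Spec.map (PB.strAway 𝒮 U hU f) ≫ hU.fromSpec := by
    rw [← Category.assoc]
    exact PB.awayι_emb_p p chart hP U hU he f hf
  have h2 : (emb p chart U hU ≫ p).appLE U (Proj.basicOpen (𝒮.deg U hU) f)
        (le_preimage_emb_p U hU _) ≫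
      (Proj.awayι (𝒮.deg U hU) f hf he).appLE (Proj.basicOpen (𝒮.deg U hU) f) ⊤
        (PUP.awayι_preimage_self (𝒮.deg U hU) hf he).ge =
      PB.strAway 𝒮 U hU f ≫ (Scheme.ΓSpecIso _).inv := by
    rw [Scheme.Hom.appLE_comp_appLE, PUP.appLE_congr_hom h3]
    exact appLE_specMap_fromSpec hU _ _
  have h4 : (Proj.awayι (𝒮.deg U hU) f hf he).appLE (Proj.basicOpen (𝒮.deg U hU) f) ⊤
        (PUP.awayι_preimage_self (𝒮.deg U hU) hf he).ge =
      inv (Proj.awayToSection (𝒮.deg U hU) f) ≫ (Scheme.ΓSpecIso _).inv := by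
    rw [← h1, IsIso.inv_hom_id_assoc]
  rw [h4, ← Category.assoc, cancel_mono] at h2
  rw [← h2, Category.assoc, IsIso.inv_hom_id, Category.comp_id]

/-- values of the structure map -/
theorem val_appLE_emb_p (hP : IsRelProj 𝒮 p chart) (U : Y.Opens) (hU : IsAffineOpen U) {e : ℕ}
    (he : 0 < e) (f : 𝒮.presheaf.obj (op U)) (hf : f ∈ 𝒮.deg U hU e) (r : Γ(Y, U))
    (y : (Proj.basicOpen (𝒮.deg U hU) f : (Proj (𝒮.deg U hU)).Opens)) :
    ((show GrTwist.O (𝒜 := 𝒮.deg U hU) (op (Proj.basicOpen (𝒮.deg U hU) f)) from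
      ((emb p chart U hU ≫ p).appLE U (Proj.basicOpen (𝒮.deg U hU) f)
        (le_preimage_emb_p U hU _)).hom r).1 y).val =
      Localization.mk ((𝒮.str.app (op U)).hom r) 1 := by
  rw [appLE_emb_p hP U hU he f hf]
  have h := ProjectiveSpectrum.Proj.awayToSection_apply (𝒮.deg U hU) f
    ((PB.strAway 𝒮 U hU f).hom r) y
  refine Eq.trans ?_ (h.trans ?_)
  · rfl
  · rw [PB.strAway_val, IsLocalization.map_eq, Localization.mk_one_eq_algebraMap]
    rfl

end Groth.Agent.Helper1.GMFl
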