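import Mathlib
import Groth.Agent.Helper1.RP5

/-!
# Relative Proj toolkit, part 11: algebras generated in degree one; (TN)-surjective maps
-/

set_option autoImplicit false
set_option linter.style.haveILetI false

namespace Groth.Agent.Helper1.RP

open CategoryTheory Limits AlgebraicGeometry TopologicalSpace HomogeneousIdeal
  HomogeneousLocalization

universe u

section gen

variable {A : Type u} [CommRing A] {𝒜 : ℕ → AddSubgroup A} [GradedRing 𝒜]
  (hgen : Subring.closure ((𝒜 0 : Set A) ∪ (𝒜 1 : Set A)) = ⊤)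

include hgen in
theorem irrelevant_le_span_one : (𝒜₊).toIdeal ≤ Ideal.span (𝒜 1 : Set A) := by
  have hI : (Ideal.span (𝒜 1 : Set A)).IsHomogeneous 𝒜 :=
    Ideal.homogeneous_span 𝒜 _ (fun x hx => ⟨1, hx⟩)
  have key : ∀ a : A, ∃ a0 ∈ 𝒜 0, a - a0 ∈ Ideal.span (𝒜 1 : Set A) := by
    intro a
    have ha : a ∈ Subring.closure ((𝒜 0 : Set A) ∪ (𝒜 1 : Set A)) := by rw [hgen]; trivial
    induction ha using Subring.closure_induction with
    | mem x hx =>
      rcases hx with hx | hx
      · exact ⟨x, hx, by rw [sub_self]; exact zero_mem _⟩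
      · refine ⟨0, zero_mem _, ?_⟩
        rw [sub_zero]
        exact Ideal.subset_span hx
    | zero => exact ⟨0, zero_mem _, by rw [sub_self]; exact zero_mem _⟩
    | one => exact ⟨1, SetLike.GradedOne.one_mem, by rw [sub_self]; exact zero_mem _⟩
    | add x y _ _ hx hy =>
      obtain ⟨x0, hx0, hx1⟩ := hx
      obtain ⟨y0, hy0, hy1⟩ := hy
      refine ⟨x0 + y0, add_mem hx0 hy0, ?_⟩
      have : x + y - (x0 + y0) = (x - x0) + (y - y0) := by ring
      rw [this]
      exact add_mem hx1 hy1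
    | neg x _ hx =>
      obtain ⟨x0, hx0, hx1⟩ := hx
      refine ⟨-x0, neg_mem hx0, ?_⟩
      have : -x - -x0 = -(x - x0) := by ring
      rw [this]
      exact neg_mem hx1
    | mul x y _ _ hx hy =>
      obtain ⟨x0, hx0, hx1⟩ := hx
      obtain ⟨y0, hy0, hy1⟩ := hy
      refine ⟨x0 * y0, by simpa using SetLike.mul_mem_graded hx0 hy0, ?_⟩
      have : x * y - x0 * y0 = (x - x0) * y + x0 * (y - y0) := by ring
      rw [this]
      exact add_mem (Ideal.mul_mem_right _ _ hx1) (Ideal.mul_mem_left _ _ hy1)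
  rw [HomogeneousIdeal.toIdeal_irrelevant_le]
  intro i hi x hx
  obtain ⟨a0, ha0, h1⟩ := key x
  have h2 := hI i h1
  have h3 : ((DirectSum.decompose 𝒜 (x - a0)) i : A) = x := by
    rw [DirectSum.decompose_sub, DirectSum.sub_apply, AddSubgroupClass.coe_sub,
      DirectSum.decompose_of_mem_same 𝒜 hx, DirectSum.decompose_of_mem_ne 𝒜 ha0 hi.ne, sub_zero]
  rw [h3] at h2
  exact h2

variable {T : Type u} [CommRing T] {𝒯 : ℕ → AddSubgroup T} [GradedRing 𝒯] (f : 𝒯 →+*ᵍ 𝒜)

include hgen in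
/-- a graded hom onto the degree one part of an algebra generated in degree one is surjective in
all positive degrees -/
theorem surj_of_gen_deg_one (h1 : ∀ s ∈ 𝒜 1, ∃ t ∈ 𝒯 1, f t = s) :
    ∀ k, 1 ≤ k → ∀ s ∈ 𝒜 k, ∃ t ∈ 𝒯 k, f t = s := by
  intro k hk
  induction k, hk using Nat.le_induction with
  | base => exact h1
  | succ k hk ih =>
    intro x hx
    have hxI : x ∈ Ideal.span (𝒜 1 : Set A) :=
      irrelevant_le_span_one hgen
        (HomogeneousIdeal.mem_irrelevant_of_mem _ (Nat.succ_pos k) hx)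
    obtain ⟨n, a, g, hsum⟩ := Submodule.mem_span_set'.1 hxI
    have hx' : x = ∑ i, ((DirectSum.decompose 𝒜 (a i)) k : A) * (g i : A) := by
      have h2 : ((DirectSum.decompose 𝒜 x) (k + 1) : A) = x :=
        DirectSum.decompose_of_mem_same 𝒜 hx
      rw [← h2, ← hsum, DirectSum.decompose_sum, DFinsupp.finset_sum_apply,
        AddSubmonoidClass.coe_finset_sum]
      refine Finset.sum_congr rfl fun i _ => ?_
      rw [smul_eq_mul]
      exact DirectSum.coe_decompose_mul_add_of_right_mem 𝒜 (g i).2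
    choose t ht hft using fun i => ih _ (SetLike.coe_mem ((DirectSum.decompose 𝒜 (a i)) k))
    choose t' ht' hft' using fun i => h1 _ (g i).2
    refine ⟨∑ i, t i * t' i, ?_, ?_⟩
    · exact sum_mem fun i _ => SetLike.mul_mem_graded (ht i) (ht' i)
    · rw [map_sum, hx']
      refine Finset.sum_congr rfl fun i _ => ?_
      rw [map_mul, hft, hft']

end gen

section TN

variable {A B σ τ : Type u} [CommRing A] [SetLike σ A] [AddSubgroupClass σ A]
  [CommRing B] [SetLike τ B] [AddSubgroupClass τ B]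
  {𝒜 : ℕ → σ} {ℬ : ℕ → τ} [GradedRing 𝒜] [GradedRing ℬ]
  (f : 𝒜 →+*ᵍ ℬ)

theorem isClosedImmersion_map_of_TN (n : ℕ)
    (hsurj : ∀ k, n ≤ k → ∀ y ∈ ℬ k, ∃ x ∈ 𝒜 k, f x = y) (hf : ℬ₊ ≤ 𝒜₊.map f) :
    IsClosedImmersion (Proj.map f hf) := by
  refine map_of_away f @IsClosedImmersion hf ?_
  intro i hi s hs
  exact IsClosedImmersion.spec_of_surjective _ (away_map_surjective_of_TN f n hsurj hi s hs)

end TN

end Groth.Agent.Helper1.RP
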