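import Mathlib
import Groth.Prelude.Def_RelProj
import Groth.Agent.Helper1.RP3

/-!
# Relative Proj toolkit, part 13: the open `X_f` of a global homogeneous section
-/

set_option autoImplicit false
set_option linter.style.haveILetI false

namespace Groth.Agent.Helper1.RP

open CategoryTheory Limits AlgebraicGeometry TopologicalSpace Opposite RelProj
open scoped HomogeneousIdeal

universe u

theorem image_preimage_homOfLE {X : Scheme.{u}} {V W : X.Opens} (h : V ≤ W)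
    (T : (W : Scheme.{u}).Opens) :
    V.ι ''ᵁ ((X.homOfLE h) ⁻¹ᵁ T) = W.ι ''ᵁ T ⊓ V :=
  Scheme.ι_image_homOfLE_eq_ι_image_inf h T

variable {Y P : Scheme.{u}} (𝒮 : QCGrAlg Y) (p : P ⟶ Y)
  (chart : ∀ (U : Y.Opens) (hU : IsAffineOpen U),
    (((p ⁻¹ᵁ U : P.Opens) : Scheme.{u}) ≅ Proj (𝒮.deg U hU)))
  (f : 𝒮.presheaf.obj (op ⊤))

/-- the restriction of a global section -/
abbrev resTop (U : Y.Opens) : 𝒮.presheaf.obj (op U) :=
  (𝒮.presheaf.map (homOfLE (le_top : U ≤ ⊤)).op).hom f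

/-- the piece of `X_f` over an affine open -/
noncomputable def Dpiece (U : Y.Opens) (hU : IsAffineOpen U) : P.Opens :=
  (p ⁻¹ᵁ U).ι ''ᵁ ((chart U hU).hom ⁻¹ᵁ Proj.basicOpen (𝒮.deg U hU) (resTop 𝒮 f U))

theorem Dpiece_le (U : Y.Opens) (hU : IsAffineOpen U) : Dpiece 𝒮 p chart f U hU ≤ p ⁻¹ᵁ U := by
  rintro _ ⟨x, _, rfl⟩
  exact x.2

theorem Dpiece_congr {W W' : Y.Opens} (h : W = W') (hW : IsAffineOpen W)
    (hW' : IsAffineOpen W') : Dpiece 𝒮 p chart f W hW = Dpiece 𝒮 p chart f W' hW' := by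
  subst h
  rfl

variable {𝒮 p chart}

theorem res_resTop {U V : Y.Opens} (hU : IsAffineOpen U) (hV : IsAffineOpen V) (i : V ≤ U) :
    𝒮.res hU hV i (resTop 𝒮 f U) = resTop 𝒮 f V := by
  show (𝒮.presheaf.map (homOfLE i).op).hom ((𝒮.presheaf.map (homOfLE le_top).op).hom f) = _
  rw [← CommRingCat.comp_apply, ← 𝒮.presheaf.map_comp]
  rfl

theorem Dpiece_basicOpen (hP : IsRelProj 𝒮 p chart) (U : Y.Opens) (hU : IsAffineOpen U)
    (r : Γ(Y, U)) :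
    Dpiece 𝒮 p chart f (Y.basicOpen r) (hU.basicOpen r) =
      Dpiece 𝒮 p chart f U hU ⊓ p ⁻¹ᵁ (Y.basicOpen r) := by
  unfold Dpiece
  rw [← image_preimage_homOfLE (p.preimage_mono (Y.basicOpen_le r)),
    ← Scheme.Hom.comp_preimage, hP.chart_res U hU r, Scheme.Hom.comp_preimage,
    Proj.map_preimage_basicOpen, res_resTop]

/-- the open `X_f` -/
noncomputable def Xf (𝒮 : QCGrAlg Y) (p : P ⟶ Y)
    (chart : ∀ (U : Y.Opens) (hU : IsAffineOpen U),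
      (((p ⁻¹ᵁ U : P.Opens) : Scheme.{u}) ≅ Proj (𝒮.deg U hU)))
    (f : 𝒮.presheaf.obj (op ⊤)) : P.Opens :=
  ⨆ U : Y.affineOpens, Dpiece 𝒮 p chart f U.1 U.2

theorem Xf_inf (hP : IsRelProj 𝒮 p chart) (U : Y.Opens) (hU : IsAffineOpen U) :
    Xf 𝒮 p chart f ⊓ p ⁻¹ᵁ U = Dpiece 𝒮 p chart f U hU := by
  apply le_antisymm
  · rintro x ⟨hx, hxU⟩
    obtain ⟨V, hxV⟩ := Opens.mem_iSup.1 hx
    have hxV' : x ∈ p ⁻¹ᵁ V.1 := Dpiece_le 𝒮 p chart f V.1 V.2 hxV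
    obtain ⟨r, s, e, hxr⟩ := exists_basicOpen_le_affine_inter hU V.2 (p x) ⟨hxU, hxV'⟩
    have h1 : x ∈ Dpiece 𝒮 p chart f (Y.basicOpen s) (V.2.basicOpen s) := by
      rw [Dpiece_basicOpen f hP V.1 V.2 s]
      refine ⟨hxV, ?_⟩
      show p x ∈ Y.basicOpen s
      rw [← e]
      exact hxr
    rw [← Dpiece_congr 𝒮 p chart f e (hU.basicOpen r) (V.2.basicOpen s),
      Dpiece_basicOpen f hP U hU r] at h1
    exact h1.1
  · exact le_inf (le_iSup_of_le ⟨U, hU⟩ le_rfl) (Dpiece_le 𝒮 p chart f U hU)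

theorem isAffineOpen_Dpiece {d : ℕ} (hd : 0 < d) (U : Y.Opens) (hU : IsAffineOpen U)
    (hf : resTop 𝒮 f U ∈ 𝒮.deg U hU d) : IsAffineOpen (Dpiece 𝒮 p chart f U hU) := by
  unfold Dpiece
  exact ((Proj.isAffineOpen_basicOpen (𝒮.deg U hU) (resTop 𝒮 f U) hf hd).preimage_of_isIso
    (chart U hU).hom).image_of_isOpenImmersion _

theorem isAffineHom_Xf (hP : IsRelProj 𝒮 p chart) {d : ℕ} (hd : 0 < d)
    (hf : ∀ (U : Y.Opens) (hU : IsAffineOpen U), resTop 𝒮 f U ∈ 𝒮.deg U hU d) :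
    IsAffineHom ((Xf 𝒮 p chart f).ι ≫ p) := by
  apply isAffineHom_of_forall_exists_isAffineOpen
  intro y
  obtain ⟨_, ⟨U, hU, rfl⟩, hyU, -⟩ :=
    Y.isBasis_affineOpens.exists_subset_of_mem_open (Set.mem_univ y) isOpen_univ
  refine ⟨U, hyU, hU, ?_⟩
  rw [Scheme.Hom.comp_preimage, ← (Xf 𝒮 p chart f).ι.isAffineOpen_iff_of_isOpenImmersion,
    Scheme.Hom.image_preimage_eq_opensRange_inf, Scheme.Opens.opensRange_ι, Xf_inf f hP U hU]
  exact isAffineOpen_Dpiece f hd U hU (hf U hU)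

end Groth.Agent.Helper1.RP
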