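import Mathlib
import Groth.Prelude.Def_GrMod3
import Groth.Agent.Helper1.GM1
import Groth.Agent.Helper1.TildeExact
import Groth.Agent.Helper4.AssMono

/-!
# Exactness properties of `M ↦ M(n)~` for gradings by additive subgroups
-/

set_option autoImplicit false
set_option linter.style.haveILetI false

namespace Groth.Agent.Helper1.GM

open CategoryTheory CategoryTheory.Limits AlgebraicGeometry TopologicalSpace Opposite
open scoped HomogeneousIdeal

universe u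

variable {A σ : Type u} [CommRing A] [SetLike σ A] [AddSubgroupClass σ A] (𝒜 : ℕ → σ) [GradedRing 𝒜]
variable {M τ : Type u} [AddCommGroup M] [Module A M] [SetLike τ M] [AddSubgroupClass τ M] {ℳ : ℕ → τ}
  [SetLike.GradedSMul 𝒜 ℳ]
variable {N τ' : Type u} [AddCommGroup N] [Module A N] [SetLike τ' N] [AddSubgroupClass τ' N]
  {𝒩 : ℕ → τ'} [SetLike.GradedSMul 𝒜 𝒩]
variable {Q τ'' : Type u} [AddCommGroup Q] [Module A Q] [SetLike τ'' Q] [AddSubgroupClass τ'' Q]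
  {𝒬 : ℕ → τ''} [SetLike.GradedSMul 𝒜 𝒬]
variable (u : M →ₗ[A] N) (hu : ∀ (i : ℕ) (m : M), m ∈ ℳ i → u m ∈ 𝒩 i)
variable (v : N →ₗ[A] Q) (hv : ∀ (i : ℕ) (m : N), m ∈ 𝒩 i → v m ∈ 𝒬 i)

/-- **(TN)-injective maps induce monomorphisms** -/
theorem mono_map [DirectSum.Decomposition 𝒩] (n : ℤ)
    (hinj : ∃ n₀ : ℕ, ∀ k : ℕ, n₀ ≤ k → ∀ m ∈ ℳ k, u m = 0 → m = 0) :
    Mono (GrMod.map 𝒜 u hu n) := by
  obtain ⟨n₀, hn₀⟩ := hinj
  apply Groth.Agent.Helper4.AssMono.mono_of_app_injective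
  intro V
  rw [injective_iff_map_eq_zero]
  intro s hs
  apply sect_ext
  intro y
  rw [val_zero]
  obtain ⟨W, hW, hyW, i, j, m, f, hm, hf, hij, hval⟩ := exists_local_frac s y
  obtain ⟨hfy, hv1⟩ := hval y.1 hyW
  have h0 : GrMod.val ((GrMod.map 𝒜 u hu n).app V s) y = 0 := by rw [hs]; rfl
  rw [GrMod.map_app_val] at h0
  have hv1' : GrMod.val s y = LocalizedModule.mk m ⟨f, hfy⟩ := hv1
  rw [hv1', GrMod.locMap_mk, mk_eq_zero_iff] at h0
  obtain ⟨g, hg, hgm⟩ := h0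
  obtain ⟨k, g', hg'k, hg'y, hg'm⟩ :=
    exists_homogeneous_smul_eq_zero (ℳ := 𝒩) y.1 (u m) (hu i m hm) g hg hgm
  obtain ⟨d, h, hd, hh, hhy⟩ := exists_pos_deg_notMem (𝒜 := 𝒜) y.1
  rw [hv1', mk_eq_zero_iff]
  refine ⟨h ^ n₀ * g', fun hmem => ?_, ?_⟩
  · rcases y.1.isPrime.mem_or_mem hmem with h1 | h1
    · exact hhy (y.1.isPrime.mem_of_pow_mem _ h1)
    · exact hg'y h1
  · have hmem : (h ^ n₀ * g') • m ∈ ℳ (n₀ • d + k + i) :=
      SetLike.GradedSMul.smul_mem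
        (SetLike.mul_mem_graded (SetLike.pow_mem_graded n₀ hh) hg'k) hm
    refine hn₀ _ ?_ _ hmem ?_
    · have : n₀ ≤ n₀ • d := by
        rw [smul_eq_mul]
        exact Nat.le_mul_of_pos_right n₀ hd
      omega
    · rw [map_smul, mul_smul, hg'm, smul_zero]

/-- **(TN)-surjective maps induce epimorphisms** -/
theorem epi_map (n : ℤ)
    (hsurj : ∃ n₀ : ℕ, ∀ k : ℕ, n₀ ≤ k → ∀ m' ∈ 𝒩 k, ∃ m ∈ ℳ k, u m = m') :
    Epi (GrMod.map 𝒜 u hu n) := by
  obtain ⟨n₀, hn₀⟩ := hsurj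
  apply Groth.Agent.Helper1.TwistExact.epi_of_local_lift
  intro T t x hx
  obtain ⟨W, hW, hxW, i, j, m', f, hm', hf, hij, hval⟩ := exists_local_frac t ⟨x, hx⟩
  rcases hij with hij | hzero
  · obtain ⟨d, h, hd, hh, hhx⟩ := exists_pos_deg_notMem (𝒜 := 𝒜) (show ProjectiveSpectrum 𝒜 from x)
    have hmem : h ^ n₀ • m' ∈ 𝒩 (n₀ • d + i) :=
      SetLike.GradedSMul.smul_mem (SetLike.pow_mem_graded n₀ hh) hm'
    have hge : n₀ ≤ n₀ • d + i := by
      have : n₀ ≤ n₀ • d := by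
        rw [smul_eq_mul]
        exact Nat.le_mul_of_pos_right n₀ hd
      omega
    obtain ⟨m, hm, hum⟩ := hn₀ _ hge _ hmem
    let W' : (Proj 𝒜).Opens := W ⊓ Proj.basicOpen 𝒜 h
    have hW'T : W' ≤ T := inf_le_left.trans hW
    have hnin : ∀ z : ProjectiveSpectrum.top 𝒜, z ∈ W' → h ^ n₀ * f ∉ z.asHomogeneousIdeal := by
      intro z hz hmem'
      rcases z.isPrime.mem_or_mem hmem' with h1 | h1
      · exact hz.2 (z.isPrime.mem_of_pow_mem _ h1)
      · exact (hval z hz.1).1 h1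
    have hdeg : ((n₀ • d + i : ℕ) : ℤ) = ((n₀ • d + j : ℕ) : ℤ) + n := by
      push_cast; rw [hij]; ring
    refine ⟨W', hW'T, ⟨hxW, hhx⟩, fracSect n m hm (h ^ n₀ * f)
      (SetLike.mul_mem_graded (SetLike.pow_mem_graded n₀ hh) hf) hdeg W' hnin, ?_⟩
    apply sect_ext
    intro z
    rw [GrMod.map_app_val, val_fracSect, GrMod.locMap_mk, val_res hW'T]
    obtain ⟨hfz, hvz⟩ := hval z.1 z.2.1
    refine Eq.trans ?_ hvz.symm
    apply mk_eq_mk_of_smul
    rw [hum, mul_smul, smul_comm]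
  · refine ⟨W, hW, hxW, 0, ?_⟩
    rw [map_zero]
    apply sect_ext
    intro z
    rw [val_zero, val_res hW]
    obtain ⟨hfz, hvz⟩ := hval z.1 z.2
    refine Eq.symm (hvz.trans ?_)
    rw [hzero, LocalizedModule.zero_mk]

omit [AddSubgroupClass σ A] [GradedRing 𝒜] [SetLike.GradedSMul 𝒜 ℳ] [SetLike.GradedSMul 𝒜 𝒩] in
include hu in
/-- a degree-preserving map commutes with taking homogeneous components -/
lemma map_decompose [DirectSum.Decomposition ℳ] [DirectSum.Decomposition 𝒩] (m : M) (k : ℕ) :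
    u ((DirectSum.decompose ℳ m k : ℳ k) : M) = ((DirectSum.decompose 𝒩 (u m) k : 𝒩 k) : N) := by
  classical
  conv_rhs => rw [← DirectSum.sum_support_decompose ℳ m, map_sum, DirectSum.decompose_sum,
    DFinsupp.finsetSum_apply, AddSubmonoidClass.coe_finsetSum]
  by_cases hk : k ∈ (DirectSum.decompose ℳ m).support
  · rw [Finset.sum_eq_single k]
    · exact (DirectSum.decompose_of_mem_same 𝒩 (hu k _ (DirectSum.decompose ℳ m k).2)).symm
    · intro l _ hlk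
      exact DirectSum.decompose_of_mem_ne 𝒩 (hu l _ (DirectSum.decompose ℳ m l).2) hlk
    · intro h; exact absurd hk h
  · have h0 : ((DirectSum.decompose ℳ m k : ℳ k) : M) = 0 := by
      rw [DFinsupp.notMem_support_iff] at hk
      rw [hk]; rfl
    rw [h0, map_zero]
    refine (Finset.sum_eq_zero fun l hl => ?_).symm
    exact DirectSum.decompose_of_mem_ne 𝒩 (hu l _ (DirectSum.decompose ℳ m l).2)
      (fun h => hk (h ▸ hl))

/-- **exactness of `M ↦ M(n)~`** -/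
theorem exact_map [DirectSum.Decomposition ℳ] [DirectSum.Decomposition 𝒩]
    [DirectSum.Decomposition 𝒬] (n : ℤ) (hex : Function.Exact u v)
    (w : GrMod.map 𝒜 u hu n ≫ GrMod.map 𝒜 v hv n = 0) :
    (ShortComplex.mk (GrMod.map 𝒜 u hu n) (GrMod.map 𝒜 v hv n) w).Exact := by
  apply Groth.Agent.Helper1.TildeExact.exact_of_local_lift
  intro T t ht x hx
  change (GrMod.map 𝒜 v hv n).app T t = 0 at ht
  change Γ(GrMod.tilde 𝒜 𝒩 n, T) at t
  obtain ⟨W, hW, hxW, i, j, m', f, hm', hf, hij, hval⟩ := exists_local_frac t ⟨x, hx⟩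
  rcases hij with hij | hzero
  · obtain ⟨hfx, hvx⟩ := hval x hxW
    have h0 : GrMod.val ((GrMod.map 𝒜 v hv n).app T t) ⟨x, hx⟩ = 0 := by rw [ht]; rfl
    rw [GrMod.map_app_val] at h0
    have hvx' : GrMod.val t ⟨x, hx⟩ = LocalizedModule.mk m' ⟨f, hfx⟩ := hvx
    rw [hvx', GrMod.locMap_mk, mk_eq_zero_iff] at h0
    obtain ⟨g, hg, hgm⟩ := h0
    obtain ⟨k, g', hg'k, hg'x, hg'm⟩ :=
      exists_homogeneous_smul_eq_zero (ℳ := 𝒬) (show ProjectiveSpectrum 𝒜 from x) (v m')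
        (hv i m' hm') g hg hgm
    have hker : v (g' • m') = 0 := by rw [map_smul, hg'm]
    obtain ⟨m₀, hm₀⟩ := (hex _).1 hker
    have hmem : g' • m' ∈ 𝒩 (k + i) := SetLike.GradedSMul.smul_mem hg'k hm'
    have hum : u ((DirectSum.decompose ℳ m₀ (k + i) : ℳ (k + i)) : M) = g' • m' := by
      rw [map_decompose u hu, hm₀]
      exact DirectSum.decompose_of_mem_same 𝒩 hmem
    let W' : (Proj 𝒜).Opens := W ⊓ Proj.basicOpen 𝒜 g'
    have hW'T : W' ≤ T := inf_le_left.trans hW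
    have hnin : ∀ z : ProjectiveSpectrum.top 𝒜, z ∈ W' → g' * f ∉ z.asHomogeneousIdeal := by
      intro z hz hmem'
      rcases z.isPrime.mem_or_mem hmem' with h1 | h1
      · exact hz.2 h1
      · exact (hval z hz.1).1 h1
    have hdeg : ((k + i : ℕ) : ℤ) = ((k + j : ℕ) : ℤ) + n := by
      push_cast; rw [hij]; ring
    refine ⟨W', hW'T, ⟨hxW, hg'x⟩, fracSect n _ (DirectSum.decompose ℳ m₀ (k + i)).2 (g' * f)
      (SetLike.mul_mem_graded hg'k hf) hdeg W' hnin, ?_⟩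
    apply sect_ext
    intro z
    change GrMod.val ((GrMod.map 𝒜 u hu n).app W' _) z = _
    rw [GrMod.map_app_val, val_fracSect, GrMod.locMap_mk]
    change _ = GrMod.val ((GrMod.tilde 𝒜 𝒩 n).presheaf.map (homOfLE hW'T).op t) z
    rw [val_res hW'T]
    obtain ⟨hfz, hvz⟩ := hval z.1 z.2.1
    refine Eq.trans ?_ hvz.symm
    apply mk_eq_mk_of_smul
    rw [hum, mul_smul, smul_comm]
  · refine ⟨W, hW, hxW, 0, ?_⟩
    rw [map_zero]
    apply sect_ext
    intro z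
    change _ = GrMod.val ((GrMod.tilde 𝒜 𝒩 n).presheaf.map (homOfLE hW).op t) z
    rw [val_zero, val_res hW]
    obtain ⟨hfz, hvz⟩ := hval z.1 z.2
    refine Eq.symm (hvz.trans ?_)
    rw [hzero, LocalizedModule.zero_mk]

end Groth.Agent.Helper1.GM
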