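import Mathlib
import Groth.Prelude.Def_RelProj3
import Groth.Agent.Helper1.TR4
import Groth.Agent.Helper1.RP15

/-!
# Chartwise description of the twisting sheaves and of `ℳ(n)~` on a relative Proj
-/

set_option autoImplicit false
set_option linter.style.haveILetI false

namespace Groth.Agent.Helper1.TRR

open CategoryTheory AlgebraicGeometry TopologicalSpace Opposite RelProj
open scoped HomogeneousIdeal

universe u

variable {Y P : Scheme.{u}} {𝒮 : QCGrAlg Y} {p : P ⟶ Y}
  {chart : ∀ (U : Y.Opens) (hU : IsAffineOpen U),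
    (((p ⁻¹ᵁ U : P.Opens) : Scheme.{u}) ≅ Proj (𝒮.deg U hU))}

/-- the charts cover the relative Proj -/
theorem exists_chart (x : P) : ∃ (U : Y.Opens) (hU : IsAffineOpen U),
    x ∈ Set.range (emb p chart U hU) := by
  obtain ⟨_, ⟨U, hU : IsAffineOpen U, rfl⟩, hxU, -⟩ :=
    Y.isBasis_affineOpens.exists_subset_of_mem_open (Set.mem_univ (p x)) isOpen_univ
  refine ⟨U, hU, ?_⟩
  have : x ∈ (emb p chart U hU).opensRange := by
    rw [RP.opensRange_emb]
    exact hxU
  exact this

section twist

variable {n : ℤ} {L : P.Modules}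
  {lam : ∀ (U : Y.Opens) (hU : IsAffineOpen U),
    L ⟶ (Scheme.Modules.pushforward (emb p chart U hU)).obj (GrTwist.twist (𝒮.deg U hU) n)}

/-- over a chart the relative twisting sheaf is the twisting sheaf of `Proj 𝒮(U)` -/
noncomputable def twistChartIso (hL : IsRelTwist 𝒮 p chart n L lam) (U : Y.Opens)
    (hU : IsAffineOpen U) : L.restrict (emb p chart U hU) ≅ GrTwist.twist (𝒮.deg U hU) n :=
  TR.restrictIso (emb p chart U hU) (lam U hU) (fun W hW =>
    hL.bijective U hU W (by rwa [RP.opensRange_emb] at hW))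

/-- **the relative twisting sheaf is quasi-coherent** -/
theorem isQuasicoherent_of_isRelTwist (hL : IsRelTwist 𝒮 p chart n L lam) :
    L.IsQuasicoherent := by
  apply Groth.Agent.Lead.PerfLib.isQuasicoherent_of_locally
  intro x
  obtain ⟨U, hU, hx⟩ := exists_chart (chart := chart) x
  refine ⟨_, emb p chart U hU, inferInstance, hx, ?_⟩
  have := TRT.isQuasicoherent_twist (𝒮.deg U hU) n
  exact Groth.Agent.Helper4.QcohLimits.isQuasicoherent_of_iso (twistChartIso hL U hU).symm

end twist

section tilde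

variable {ℳ : GrModule 𝒮} {n : ℤ} {F : P.Modules}
  {lam : ∀ (U : Y.Opens) (hU : IsAffineOpen U),
    F ⟶ (Scheme.Modules.pushforward (emb p chart U hU)).obj
      (GrMod.tilde (𝒮.deg U hU) (ℳ.deg U hU) n)}

/-- over a chart the module `ℳ(n)~` is the module `ℳ(U)(n)~` on `Proj 𝒮(U)` -/
noncomputable def tildeChartIso (hF : IsRelTilde 𝒮 p chart ℳ n F lam) (U : Y.Opens)
    (hU : IsAffineOpen U) :
    F.restrict (emb p chart U hU) ≅ GrMod.tilde (𝒮.deg U hU) (ℳ.deg U hU) n :=
  TR.restrictIso (emb p chart U hU) (lam U hU) (fun W hW =>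
    hF.bijective U hU W (by rwa [RP.opensRange_emb] at hW))

/-- **the module `ℳ(n)~` on a relative Proj is quasi-coherent** -/
theorem isQuasicoherent_of_isRelTilde (hF : IsRelTilde 𝒮 p chart ℳ n F lam) :
    F.IsQuasicoherent := by
  apply Groth.Agent.Lead.PerfLib.isQuasicoherent_of_locally
  intro x
  obtain ⟨U, hU, hx⟩ := exists_chart (chart := chart) x
  refine ⟨_, emb p chart U hU, inferInstance, hx, ?_⟩
  have := TRT.isQuasicoherent_tilde (𝒮.deg U hU) (ℳ.deg U hU) n
  exact Groth.Agent.Helper4.QcohLimits.isQuasicoherent_of_iso (tildeChartIso hF U hU).symm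

end tilde

end Groth.Agent.Helper1.TRR
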