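import Mathlib
import Groth.Prelude.Def_RelProj3
import Groth.Agent.Helper1.TR5
import Groth.Agent.Helper1.GrT5
import Groth.Agent.Helper4.TwistExt

/-!
# Vanishing of `M(n)~` under (TN), for gradings by additive subgroups and on a relative Proj
-/

set_option autoImplicit false
set_option linter.style.haveILetI false

namespace Groth.Agent.Helper1.TRT

open CategoryTheory CategoryTheory.Limits AlgebraicGeometry TopologicalSpace Opposite
open Groth.Agent.Helper1.TRZ
open scoped HomogeneousIdeal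

universe u

attribute [local instance] ULift.algebra'

section general

variable {X : Scheme.{u}}

/-- sections of a zero module vanish -/
lemma section_eq_zero_of_isZero {G : X.Modules} (h : IsZero G) (V : X.Opens) (s : Γ(G, V)) :
    s = 0 := by
  have h1 := h.eq_of_src (𝟙 G) 0
  have h2 := congrArg (fun φ : G ⟶ G => (Scheme.Modules.Hom.app φ V).hom s) h1
  exact h2

/-- a module all of whose sections vanish is zero -/
lemma isZero_of_sections_eq_zero {G : X.Modules} (h : ∀ (V : X.Opens) (s : Γ(G, V)), s = 0) :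
    IsZero G := by
  rw [IsZero.iff_id_eq_zero]
  apply Scheme.Modules.hom_ext
  intro V
  ext s
  exact h V s

/-- a module is zero as soon as its restrictions to the members of a cover by open immersions are -/
theorem isZero_of_locally (G : X.Modules)
    (h : ∀ x : X, ∃ (Z : Scheme.{u}) (j : Z ⟶ X) (_ : IsOpenImmersion j), x ∈ Set.range j ∧
      IsZero (G.restrict j)) : IsZero G := by
  apply isZero_of_sections_eq_zero
  intro V s
  apply Groth.Agent.Helper4.TwistExt.eq_of_cover G V s 0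
  intro y hy
  obtain ⟨Z, j, hj, ⟨z, rfl⟩, hz⟩ := h y
  refine ⟨j ''ᵁ (j ⁻¹ᵁ V), j.image_preimage_le V, ⟨z, hy, rfl⟩, ?_⟩
  rw [map_zero]
  exact section_eq_zero_of_isZero hz (j ⁻¹ᵁ V)
    (show Γ(G.restrict j, j ⁻¹ᵁ V) from G.presheaf.map (homOfLE (j.image_preimage_le V)).op s)

lemma isZero_of_iso {G G' : X.Modules} (e : G ≅ G') (h : IsZero G') : IsZero G :=
  IsZero.of_iso h e

end general

variable {A σ : Type u} [CommRing A] [SetLike σ A] [AddSubgroupClass σ A] (𝒜 : ℕ → σ) [GradedRing 𝒜]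
variable {M τ : Type u} [AddCommGroup M] [Module A M] [SetLike τ M] [AddSubgroupClass τ M] (ℳ : ℕ → τ)
  [SetLike.GradedSMul 𝒜 ℳ] [DirectSum.Decomposition ℳ]

/-- **`M(n)~ = 0` when every element is killed by a power of every homogeneous element of
positive degree** -/
theorem isZero_tilde_of_torsion (n : ℤ)
    (h : ∀ (z : M) (d : ℕ) (f : A), 0 < d → f ∈ 𝒜 d → ∃ k : ℕ, f ^ k • z = 0) :
    IsZero (GrMod.tilde 𝒜 ℳ n) := by
  apply isZero_of_locally
  intro x
  refine ⟨_, eZ 𝒜, inferInstance, range_eZ 𝒜 x, ?_⟩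
  exact isZero_of_iso (tildeRestrictIso 𝒜 ℳ n)
    (Groth.Agent.Helper1.GrT.isZero_tilde_of_torsion (zGr 𝒜) (zGrM ℳ) n h)

/-- **`M(n)~ = 0` under (TN)** -/
theorem isZero_tilde_of_TN (n : ℤ) (n₀ : ℕ) (hTN : ∀ k : ℕ, n₀ ≤ k → ∀ m ∈ ℳ k, m = 0) :
    IsZero (GrMod.tilde 𝒜 ℳ n) := by
  classical
  apply isZero_tilde_of_torsion
  intro z d f hd hf
  refine ⟨n₀, ?_⟩
  rw [← DirectSum.sum_support_decompose ℳ z, Finset.smul_sum]
  refine Finset.sum_eq_zero fun i _ => ?_
  have h1 : f ^ n₀ ∈ 𝒜 (n₀ • d) := SetLike.pow_mem_graded n₀ hf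
  have h2 : f ^ n₀ • ((DirectSum.decompose ℳ z i : ℳ i) : M) ∈ ℳ (n₀ • d + i) :=
    SetLike.GradedSMul.smul_mem h1 (DirectSum.decompose ℳ z i).2
  refine hTN _ ?_ _ h2
  have : n₀ ≤ n₀ • d := by
    rw [smul_eq_mul]
    exact Nat.le_mul_of_pos_right n₀ hd
  omega

end Groth.Agent.Helper1.TRT

namespace Groth.Agent.Helper1.TRR

open CategoryTheory CategoryTheory.Limits AlgebraicGeometry TopologicalSpace Opposite RelProj
open scoped HomogeneousIdeal

universe u

variable {Y P : Scheme.{u}} {𝒮 : QCGrAlg Y} {p : P ⟶ Y}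
  {chart : ∀ (U : Y.Opens) (hU : IsAffineOpen U),
    (((p ⁻¹ᵁ U : P.Opens) : Scheme.{u}) ≅ Proj (𝒮.deg U hU))}
  {ℳ : GrModule 𝒮} {n : ℤ} {F : P.Modules}
  {lam : ∀ (U : Y.Opens) (hU : IsAffineOpen U),
    F ⟶ (Scheme.Modules.pushforward (emb p chart U hU)).obj
      (GrMod.tilde (𝒮.deg U hU) (ℳ.deg U hU) n)}

/-- **`ℳ(n)~ = 0` on a relative Proj under (TN)** -/
theorem isZero_of_isRelTilde_of_isTN (hTN : ℳ.IsTN) (hF : IsRelTilde 𝒮 p chart ℳ n F lam) :
    IsZero F := by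
  obtain ⟨n₀, hn₀⟩ := hTN
  apply TRT.isZero_of_locally
  intro x
  obtain ⟨U, hU, hx⟩ := exists_chart (chart := chart) x
  refine ⟨_, emb p chart U hU, inferInstance, hx, ?_⟩
  exact TRT.isZero_of_iso (tildeChartIso hF U hU)
    (TRT.isZero_tilde_of_TN (𝒮.deg U hU) (ℳ.deg U hU) n n₀ (hn₀ U hU))

end Groth.Agent.Helper1.TRR
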