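import Mathlib
import Groth.Prelude.Def_RelProj3
import Groth.Agent.Helper1.TR7
import Groth.Agent.Helper1.GM2
import Groth.Agent.Lead.LocLift2
import Groth.Agent.Lead.ModDict3
import Groth.Agent.Lead.ModDict14

/-!
# Exactness properties of `ℳ ↦ ℳ(n)~` on a relative Proj
-/

set_option autoImplicit false
set_option linter.style.haveILetI false

namespace Groth.Agent.Helper1.TR

open CategoryTheory CategoryTheory.Limits AlgebraicGeometry TopologicalSpace Opposite

universe u

section general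

variable {X : Scheme.{u}}

/-- exactness of a short complex of modules is local for covers by open immersions -/
theorem exact_of_restrict (S : ShortComplex X.Modules)
    (h : ∀ x : X, ∃ (Z : Scheme.{u}) (j : Z ⟶ X) (_ : IsOpenImmersion j), x ∈ Set.range j ∧
      (S.map (Scheme.Modules.restrictFunctor j)).Exact) : S.Exact := by
  rw [ShortComplex.exact_iff_isZero_homology]
  apply TRT.isZero_of_locally
  intro x
  obtain ⟨Z, j, hj, hx, hex⟩ := h x
  refine ⟨Z, j, hj, hx, ?_⟩
  haveI : PreservesFiniteLimits (Scheme.Modules.restrictFunctor j) := inferInstance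
  haveI : PreservesFiniteColimits (Scheme.Modules.restrictFunctor j) := inferInstance
  rw [ShortComplex.exact_iff_isZero_homology] at hex
  exact IsZero.of_iso hex (S.mapHomologyIso (Scheme.Modules.restrictFunctor j)).symm

variable {Z P : Scheme.{u}} (j : Z ⟶ P) [IsOpenImmersion j]

/-- naturality of `restrictIso` -/
theorem restrictIso_naturality {L L' : P.Modules} {G G' : Z.Modules}
    (φ : L ⟶ (Scheme.Modules.pushforward j).obj G)
    (h : ∀ W : P.Opens, W ≤ j.opensRange → Function.Bijective (φ.app W))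
    (φ' : L' ⟶ (Scheme.Modules.pushforward j).obj G')
    (h' : ∀ W : P.Opens, W ≤ j.opensRange → Function.Bijective (φ'.app W))
    (a : L ⟶ L') (b : G ⟶ G')
    (hsq : a ≫ φ' = φ ≫ (Scheme.Modules.pushforward j).map b) :
    (Scheme.Modules.restrictFunctor j).map a ≫ (restrictIso j φ' h').hom =
      (restrictIso j φ h).hom ≫ b := by
  have hnat := (Scheme.Modules.restrictFunctorAdjCounitIso j).hom.naturality b
  simp only [Functor.comp_map, Functor.id_map] at hnat
  simp only [restrictIso, Iso.trans_hom, asIso_hom, Iso.app_hom]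
  rw [← Category.assoc, ← Functor.map_comp, hsq, Functor.map_comp, Category.assoc, hnat,
    Category.assoc]

end general

end Groth.Agent.Helper1.TR

namespace Groth.Agent.Helper1.TRR

open CategoryTheory CategoryTheory.Limits AlgebraicGeometry TopologicalSpace Opposite RelProj
open scoped HomogeneousIdeal

universe u

variable {Y P : Scheme.{u}} {𝒮 : QCGrAlg Y} {p : P ⟶ Y}
  {chart : ∀ (U : Y.Opens) (hU : IsAffineOpen U),
    (((p ⁻¹ᵁ U : P.Opens) : Scheme.{u}) ≅ Proj (𝒮.deg U hU))}

section maps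

variable {ℳ 𝒩 : GrModule 𝒮} {n : ℤ} {F G : P.Modules}
  {lam : ∀ (U : Y.Opens) (hU : IsAffineOpen U),
    F ⟶ (Scheme.Modules.pushforward (emb p chart U hU)).obj
      (GrMod.tilde (𝒮.deg U hU) (ℳ.deg U hU) n)}
  {lam' : ∀ (U : Y.Opens) (hU : IsAffineOpen U),
    G ⟶ (Scheme.Modules.pushforward (emb p chart U hU)).obj
      (GrMod.tilde (𝒮.deg U hU) (𝒩.deg U hU) n)}
  (hF : IsRelTilde 𝒮 p chart ℳ n F lam) (hG : IsRelTilde 𝒮 p chart 𝒩 n G lam')
  (u : ℳ.mod ⟶ 𝒩.mod) (hu : IsGrModHom u) (ut : F ⟶ G)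

/-- the linear map over an affine open underlying a morphism of `𝒮`-modules -/
abbrev uAt (U : Y.Opens) : ℳ.mod.val.obj (op U) →ₗ[𝒮.presheaf.obj (op U)] 𝒩.mod.val.obj (op U) :=
  (u.val.app (op U)).hom

/-- over a chart, a morphism pinned by the chartwise identifications is `GrMod.map` -/
theorem chart_square
    (hut : ∀ (U : Y.Opens) (hU : IsAffineOpen U),
      ut ≫ lam' U hU = lam U hU ≫ (Scheme.Modules.pushforward (emb p chart U hU)).map
        (GrMod.map (𝒮.deg U hU) (uAt u U) (hu U hU) n))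
    (U : Y.Opens) (hU : IsAffineOpen U) :
    (Scheme.Modules.restrictFunctor (emb p chart U hU)).map ut ≫ (tildeChartIso hG U hU).hom =
      (tildeChartIso hF U hU).hom ≫ GrMod.map (𝒮.deg U hU) (uAt u U) (hu U hU) n :=
  TR.restrictIso_naturality (emb p chart U hU) (lam U hU) _ (lam' U hU) _ ut _ (hut U hU)

include hF hG in
/-- **(TN)-injective homomorphisms induce monomorphisms on a relative Proj** -/
theorem mono_of_isTNInjective
    (hinj : ∃ n₀ : ℕ, ∀ (U : Y.Opens) (hU : IsAffineOpen U) (k : ℕ), n₀ ≤ k →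
      ∀ m ∈ ℳ.deg U hU k, (u.val.app (op U)).hom m = 0 → m = 0)
    (hut : ∀ (U : Y.Opens) (hU : IsAffineOpen U),
      ut ≫ lam' U hU = lam U hU ≫ (Scheme.Modules.pushforward (emb p chart U hU)).map
        (GrMod.map (𝒮.deg U hU) (uAt u U) (hu U hU) n)) : Mono ut := by
  obtain ⟨n₀, hn₀⟩ := hinj
  apply Groth.Agent.Lead.ModDict.mono_of_restrict ut
    (fun i : {U : Y.Opens // IsAffineOpen U} => Proj (𝒮.deg i.1 i.2))
    (fun i => emb p chart i.1 i.2) (fun x => by
      obtain ⟨U, hU, hx⟩ := exists_chart (chart := chart) x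
      exact ⟨⟨U, hU⟩, hx⟩)
  rintro ⟨U, hU⟩
  have hsq := chart_square hF hG u hu ut hut U hU
  haveI := GM.mono_map (𝒮.deg U hU) (uAt u U) (hu U hU) n ⟨n₀, hn₀ U hU⟩
  have h1 : (Scheme.Modules.restrictFunctor (emb p chart U hU)).map ut =
      (tildeChartIso hF U hU).hom ≫ GrMod.map (𝒮.deg U hU) (uAt u U) (hu U hU) n ≫
        (tildeChartIso hG U hU).inv := by
    rw [← Category.assoc, ← hsq, Category.assoc, Iso.hom_inv_id, Category.comp_id]
  show Mono ((Scheme.Modules.restrictFunctor (emb p chart U hU)).map ut)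
  rw [h1]
  infer_instance

include hF hG in
/-- **(TN)-surjective homomorphisms induce epimorphisms on a relative Proj** -/
theorem epi_of_isTNSurjective
    (hsurj : ∃ n₀ : ℕ, ∀ (U : Y.Opens) (hU : IsAffineOpen U) (k : ℕ), n₀ ≤ k →
      ∀ m' ∈ 𝒩.deg U hU k, ∃ m ∈ ℳ.deg U hU k, (u.val.app (op U)).hom m = m')
    (hut : ∀ (U : Y.Opens) (hU : IsAffineOpen U),
      ut ≫ lam' U hU = lam U hU ≫ (Scheme.Modules.pushforward (emb p chart U hU)).map
        (GrMod.map (𝒮.deg U hU) (uAt u U) (hu U hU) n)) : Epi ut := by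
  obtain ⟨n₀, hn₀⟩ := hsurj
  apply Groth.Agent.Lead.ModDict.epi_of_restrict ut
    (fun i : {U : Y.Opens // IsAffineOpen U} => Proj (𝒮.deg i.1 i.2))
    (fun i => emb p chart i.1 i.2) (fun x => by
      obtain ⟨U, hU, hx⟩ := exists_chart (chart := chart) x
      exact ⟨⟨U, hU⟩, hx⟩)
  rintro ⟨U, hU⟩
  have hsq := chart_square hF hG u hu ut hut U hU
  haveI := GM.epi_map (𝒮.deg U hU) (uAt u U) (hu U hU) n ⟨n₀, hn₀ U hU⟩
  have h1 : (Scheme.Modules.restrictFunctor (emb p chart U hU)).map ut =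
      (tildeChartIso hF U hU).hom ≫ GrMod.map (𝒮.deg U hU) (uAt u U) (hu U hU) n ≫
        (tildeChartIso hG U hU).inv := by
    rw [← Category.assoc, ← hsq, Category.assoc, Iso.hom_inv_id, Category.comp_id]
  show Epi ((Scheme.Modules.restrictFunctor (emb p chart U hU)).map ut)
  rw [h1]
  infer_instance

end maps

end Groth.Agent.Helper1.TRR
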