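import Mathlib
import Groth.Prelude.Def_RelProj3
import Groth.Agent.Helper1.TR9
import Groth.Agent.Helper1.GlueHom

/-!
# Gluing the morphism `ℳ(n)~ ⟶ 𝒩(n)~` on a relative Proj
-/

set_option autoImplicit false
set_option linter.style.haveILetI false

namespace Groth.Agent.Helper1.TRG

open CategoryTheory CategoryTheory.Limits AlgebraicGeometry TopologicalSpace Opposite RelProj
open scoped HomogeneousIdeal

universe u

section alg

variable {A σ : Type u} [CommRing A] [SetLike σ A] [AddSubgroupClass σ A] {𝒜 : ℕ → σ} [GradedRing 𝒜]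
variable {B σ' : Type u} [CommRing B] [SetLike σ' B] [AddSubgroupClass σ' B] {ℬ : ℕ → σ'}
  [GradedRing ℬ]
variable {M N : Type u} [AddCommGroup M] [Module A M] [AddCommGroup N] [Module A N]
variable {M' N' : Type u} [AddCommGroup M'] [Module B M'] [AddCommGroup N'] [Module B N']
variable (ψ : 𝒜 →+*ᵍ ℬ) (hψ : ℬ₊ ≤ (𝒜₊).map ψ)
  (vM : M →ₛₗ[ψ.toRingHom] M') (vN : N →ₛₗ[ψ.toRingHom] N')
  (u : M →ₗ[A] N) (u' : M' →ₗ[B] N') (hcomm : ∀ m, u' (vM m) = vN (u m))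

include hcomm in
/-- the maps of localized modules induced by a commutative square commute -/
lemma locModMap_locMap (y : ProjectiveSpectrum ℬ)
    (q : GrMod.LocMod 𝒜 (M := M) (ProjectiveSpectrum.comap ψ hψ y)) :
    GrMod.locModMap ψ hψ vN y (GrMod.locMap u (ProjectiveSpectrum.comap ψ hψ y) q) =
      GrMod.locMap u' y (GrMod.locModMap ψ hψ vM y q) := by
  induction q using LocalizedModule.induction_on with
  | h m s =>
    rw [GrMod.locMap_mk, GrMod.locModMap_mk, GrMod.locModMap_mk, GrMod.locMap_mk, hcomm]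

end alg

variable {Y P : Scheme.{u}} {𝒮 : QCGrAlg Y} {p : P ⟶ Y}
  {chart : ∀ (U : Y.Opens) (hU : IsAffineOpen U),
    (((p ⁻¹ᵁ U : P.Opens) : Scheme.{u}) ≅ Proj (𝒮.deg U hU))}

variable {ℳ 𝒩 : GrModule 𝒮} {n : ℤ} {F G : P.Modules}
  {lam : ∀ (U : Y.Opens) (hU : IsAffineOpen U),
    F ⟶ (Scheme.Modules.pushforward (emb p chart U hU)).obj
      (GrMod.tilde (𝒮.deg U hU) (ℳ.deg U hU) n)}
  {lam' : ∀ (U : Y.Opens) (hU : IsAffineOpen U),
    G ⟶ (Scheme.Modules.pushforward (emb p chart U hU)).obj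
      (GrMod.tilde (𝒮.deg U hU) (𝒩.deg U hU) n)}

/-- the image under the chart immersion over `U` of the image of a point of the chart over a
basic open is its image under the chart immersion over the basic open -/
lemma emb_comap (hP : IsRelProj 𝒮 p chart) (U : Y.Opens) (hU : IsAffineOpen U) (r : Γ(Y, U))
    (y : ProjectiveSpectrum (𝒮.deg (Y.basicOpen r) (hU.basicOpen r))) :
    (emb p chart U hU).base (ProjectiveSpectrum.comap
      (𝒮.res hU (hU.basicOpen r) (Y.basicOpen_le r)) (𝒮.irrelevant_le_map U hU r) y) =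
      (emb p chart (Y.basicOpen r) (hU.basicOpen r)).base y :=
  congrArg (fun φ : Proj (𝒮.deg (Y.basicOpen r) (hU.basicOpen r)) ⟶ P => φ.base y)
    (map_res_emb hP U hU r)

variable (lam lam') in
/-- the composite `F ⟶ emb_* ℳ(U)(n)~ ⟶ emb_* 𝒩(U)(n)~` -/
noncomputable def aU (u : ℳ.mod ⟶ 𝒩.mod) (hu : IsGrModHom u) (U : Y.Opens) (hU : IsAffineOpen U) :
    F ⟶ (Scheme.Modules.pushforward (emb p chart U hU)).obj
      (GrMod.tilde (𝒮.deg U hU) (𝒩.deg U hU) n) :=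
  lam U hU ≫ (Scheme.Modules.pushforward (emb p chart U hU)).map
    (GrMod.map (𝒮.deg U hU) (TRR.uAt u U) (hu U hU) n)

variable (lam lam') in
/-- the relation "`t = ũ(s)` read in the chart over `U`" -/
def Rel (u : ℳ.mod ⟶ 𝒩.mod) (hu : IsGrModHom u) (U : Y.Opens) (hU : IsAffineOpen U) (V : P.Opens)
    (s : Γ(F, V)) (t : Γ(G, V)) : Prop :=
  (lam' U hU).app V t = (aU lam u hu U hU).app V s

lemma res_comm (u : ℳ.mod ⟶ 𝒩.mod) {U D : Y.Opens} (hU : IsAffineOpen U) (hD : IsAffineOpen D)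
    (i : D ≤ U) (m : ℳ.mod.val.obj (op U)) :
    TRR.uAt u D (ℳ.res hU hD i m) = 𝒩.res hU hD i (TRR.uAt u U m) := by
  have := u.val.naturality (homOfLE i).op
  exact congrArg (fun f => f.hom m) this

include lam lam' in
theorem rel_fwd (hP : IsRelProj 𝒮 p chart) (hF : IsRelTilde 𝒮 p chart ℳ n F lam)
    (hG : IsRelTilde 𝒮 p chart 𝒩 n G lam') (u : ℳ.mod ⟶ 𝒩.mod) (hu : IsGrModHom u)
    (U : Y.Opens) (hU : IsAffineOpen U) (r : Γ(Y, U)) (V : P.Opens) (s : Γ(F, V)) (t : Γ(G, V))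
    (h : Rel lam lam' u hu U hU V s t) :
    Rel lam lam' u hu (Y.basicOpen r) (hU.basicOpen r) V s t := by
  apply GM.sect_ext
  rintro ⟨y, hy⟩
  have hy' : (emb p chart U hU).base (ProjectiveSpectrum.comap
      (𝒮.res hU (hU.basicOpen r) (Y.basicOpen_le r)) (𝒮.irrelevant_le_map U hU r) y) ∈ V := by
    rw [emb_comap hP]; exact hy
  have e1 := hG.compat U hU r V t y hy hy'
  have e2 := hF.compat U hU r V s y hy hy'
  have e3 : GrMod.val (V := emb p chart U hU ⁻¹ᵁ V) ((lam' U hU).app V t) ⟨_, hy'⟩ =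
      GrMod.locMap (TRR.uAt u U) _
        (GrMod.val (V := emb p chart U hU ⁻¹ᵁ V) ((lam U hU).app V s) ⟨_, hy'⟩) := by
    rw [show (lam' U hU).app V t = _ from h]
    rfl
  refine e1.trans ?_
  rw [e3]
  refine (locModMap_locMap _ _ (ℳ.res hU (hU.basicOpen r) (Y.basicOpen_le r))
    (𝒩.res hU (hU.basicOpen r) (Y.basicOpen_le r)) (TRR.uAt u U)
    (TRR.uAt u (Y.basicOpen r)) (fun m => res_comm u hU (hU.basicOpen r) _ m) y _).trans ?_
  rw [← e2]
  rfl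

include lam lam' in
lemma rel_congr (u : ℳ.mod ⟶ 𝒩.mod) (hu : IsGrModHom u) (D₁ D₂ : Y.Opens) (e : D₁ = D₂)
    (h₁ : IsAffineOpen D₁) (h₂ : IsAffineOpen D₂) (V : P.Opens) (s : Γ(F, V)) (t : Γ(G, V))
    (h : Rel lam lam' u hu D₁ h₁ V s t) : Rel lam lam' u hu D₂ h₂ V s t := by
  subst e
  exact h

include lam lam' in
lemma rel_res (u : ℳ.mod ⟶ 𝒩.mod) (hu : IsGrModHom u) (U : Y.Opens) (hU : IsAffineOpen U)
    {V V' : P.Opens} (hV : V' ≤ V) (s : Γ(F, V)) (t : Γ(G, V))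
    (h : Rel lam lam' u hu U hU V s t) :
    Rel lam lam' u hu U hU V' (F.presheaf.map (homOfLE hV).op s)
      (G.presheaf.map (homOfLE hV).op t) := by
  unfold Rel at h ⊢
  rw [Groth.Agent.Helper4.StalkExact.app_res, Groth.Agent.Helper4.StalkExact.app_res, h]

include lam lam' in
theorem rel_bwd (hP : IsRelProj 𝒮 p chart) (hF : IsRelTilde 𝒮 p chart ℳ n F lam)
    (hG : IsRelTilde 𝒮 p chart 𝒩 n G lam') (u : ℳ.mod ⟶ 𝒩.mod) (hu : IsGrModHom u)
    (U : Y.Opens) (hU : IsAffineOpen U) (r : Γ(Y, U)) (V : P.Opens)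
    (hV : V ≤ p ⁻¹ᵁ (Y.basicOpen r)) (s : Γ(F, V)) (t : Γ(G, V))
    (h : Rel lam lam' u hu (Y.basicOpen r) (hU.basicOpen r) V s t) :
    Rel lam lam' u hu U hU V s t := by
  obtain ⟨t', ht'⟩ := (hG.bijective U hU V (hV.trans (p.preimage_mono (Y.basicOpen_le r)))).2
    ((aU lam u hu U hU).app V s)
  have h1 : Rel lam lam' u hu (Y.basicOpen r) (hU.basicOpen r) V s t' :=
    rel_fwd hP hF hG u hu U hU r V s t' ht'
  have h2 : t' = t := (hG.bijective (Y.basicOpen r) (hU.basicOpen r) V hV).1 (h1.trans h.symm)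
  subst h2
  exact ht'

include lam lam' in
theorem rel_indep (hP : IsRelProj 𝒮 p chart) (hF : IsRelTilde 𝒮 p chart ℳ n F lam)
    (hG : IsRelTilde 𝒮 p chart 𝒩 n G lam') (u : ℳ.mod ⟶ 𝒩.mod) (hu : IsGrModHom u)
    (U U' : Y.Opens) (hU : IsAffineOpen U) (hU' : IsAffineOpen U') (V : P.Opens)
    (hV : V ≤ p ⁻¹ᵁ U) (hV' : V ≤ p ⁻¹ᵁ U') (s : Γ(F, V)) (t : Γ(G, V))
    (h : Rel lam lam' u hu U hU V s t) : Rel lam lam' u hu U' hU' V s t := by
  obtain ⟨t', ht'⟩ := (hG.bijective U' hU' V hV').2 ((aU lam u hu U' hU').app V s)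
  have ht'' : Rel lam lam' u hu U' hU' V s t' := ht'
  suffices h2 : t' = t by subst h2; exact ht''
  apply Groth.Agent.Helper4.TwistExt.eq_of_cover G V
  intro x hx
  obtain ⟨r, r', e, hxr⟩ := exists_basicOpen_le_affine_inter hU hU' (p x) ⟨hV hx, hV' hx⟩
  refine ⟨V ⊓ p ⁻¹ᵁ (Y.basicOpen r), inf_le_left, ⟨hx, hxr⟩, ?_⟩
  have hVD : V ⊓ p ⁻¹ᵁ (Y.basicOpen r) ≤ p ⁻¹ᵁ (Y.basicOpen r) := inf_le_right
  have hVD' : V ⊓ p ⁻¹ᵁ (Y.basicOpen r) ≤ p ⁻¹ᵁ (Y.basicOpen r') := by rw [← e]; exact hVD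
  -- `t` restricted satisfies the relation for `U'`
  have h3 := rel_res u hu U hU (inf_le_left : V ⊓ p ⁻¹ᵁ (Y.basicOpen r) ≤ V) s t h
  have h4 := rel_fwd hP hF hG u hu U hU r _ _ _ h3
  have h5 := rel_congr u hu _ _ e (hU.basicOpen r) (hU'.basicOpen r') _ _ _ h4
  have h6 := rel_bwd hP hF hG u hu U' hU' r' _ hVD' _ _ h5
  have h7 := rel_res u hu U' hU' (inf_le_left : V ⊓ p ⁻¹ᵁ (Y.basicOpen r) ≤ V) s t' ht''
  exact (hG.bijective U' hU' _ (inf_le_left.trans hV')).1 (h7.trans h6.symm)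

end Groth.Agent.Helper1.TRG
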