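import Mathlib
import Groth.Prelude.Def_RelProj3
import Groth.Agent.Helper1.TR11
import Groth.Agent.Helper1.GT1

/-!
# Gluing sections of a relative twisting sheaf from chartwise sections
-/

set_option autoImplicit false
set_option linter.style.haveILetI false

namespace Groth.Agent.Helper1.TRS

open CategoryTheory CategoryTheory.Limits AlgebraicGeometry TopologicalSpace Opposite RelProj
open scoped HomogeneousIdeal

universe u

variable {Y P : Scheme.{u}} {𝒮 : QCGrAlg Y} {p : P ⟶ Y}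
  {chart : ∀ (U : Y.Opens) (hU : IsAffineOpen U),
    (((p ⁻¹ᵁ U : P.Opens) : Scheme.{u}) ≅ Proj (𝒮.deg U hU))}
  {n : ℤ} {L : P.Modules}
  {lam : ∀ (U : Y.Opens) (hU : IsAffineOpen U),
    L ⟶ (Scheme.Modules.pushforward (emb p chart U hU)).obj (GrTwist.twist (𝒮.deg U hU) n)}
  {X' : P.Opens}
  (σ : ∀ (U : Y.Opens) (hU : IsAffineOpen U),
    Γ(GrTwist.twist (𝒮.deg U hU) n, emb p chart U hU ⁻¹ᵁ X'))

/-- the chartwise sections are compatible along restriction to basic opens -/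
def Compat : Prop :=
  ∀ (U : Y.Opens) (hU : IsAffineOpen U) (r : Γ(Y, U))
    (y : ProjectiveSpectrum (𝒮.deg (Y.basicOpen r) (hU.basicOpen r)))
    (hy : (emb p chart (Y.basicOpen r) (hU.basicOpen r)).base y ∈ X')
    (hy' : (emb p chart U hU).base (ProjectiveSpectrum.comap
      (𝒮.res hU (hU.basicOpen r) (Y.basicOpen_le r)) (𝒮.irrelevant_le_map U hU r) y) ∈ X'),
    GrTwist.val (σ (Y.basicOpen r) (hU.basicOpen r)) ⟨y, hy⟩ =
      GrTwist.locMap (𝒮.res hU (hU.basicOpen r) (Y.basicOpen_le r)) (𝒮.irrelevant_le_map U hU r) y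
        (GrTwist.val (σ U hU) ⟨_, hy'⟩)

variable (lam) in
/-- "`t` reads as `σ_U` in the chart over `U`" -/
def RelS (U : Y.Opens) (hU : IsAffineOpen U) (V : P.Opens) (hV : V ≤ X') (t : Γ(L, V)) : Prop :=
  ∀ (y : ProjectiveSpectrum (𝒮.deg U hU)) (hy : (emb p chart U hU).base y ∈ V),
    GrTwist.val (V := emb p chart U hU ⁻¹ᵁ V) ((lam U hU).app V t) ⟨y, hy⟩ =
      GrTwist.val (σ U hU) ⟨y, hV hy⟩

include lam in
theorem rel_fwd (hP : IsRelProj 𝒮 p chart) (hL : IsRelTwist 𝒮 p chart n L lam) (hσ : Compat σ)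
    (U : Y.Opens) (hU : IsAffineOpen U) (r : Γ(Y, U)) (V : P.Opens) (hV : V ≤ X') (t : Γ(L, V))
    (h : RelS lam σ U hU V hV t) : RelS lam σ (Y.basicOpen r) (hU.basicOpen r) V hV t := by
  intro y hy
  have hy' : (emb p chart U hU).base (ProjectiveSpectrum.comap
      (𝒮.res hU (hU.basicOpen r) (Y.basicOpen_le r)) (𝒮.irrelevant_le_map U hU r) y) ∈ V := by
    rw [TRG.emb_comap hP]; exact hy
  rw [hL.compat U hU r V t y hy hy', h _ hy', hσ U hU r y (hV hy) (hV hy')]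

include lam in
lemma rel_congr (D₁ D₂ : Y.Opens) (e : D₁ = D₂)
    (h₁ : IsAffineOpen D₁) (h₂ : IsAffineOpen D₂) (V : P.Opens) (hV : V ≤ X') (t : Γ(L, V))
    (h : RelS lam σ D₁ h₁ V hV t) : RelS lam σ D₂ h₂ V hV t := by
  subst e
  exact h

include lam in
lemma rel_res (U : Y.Opens) (hU : IsAffineOpen U) {V V' : P.Opens} (hV : V ≤ X') (hVV : V' ≤ V)
    (t : Γ(L, V)) (h : RelS lam σ U hU V hV t) :
    RelS lam σ U hU V' (hVV.trans hV) (L.presheaf.map (homOfLE hVV).op t) := by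
  intro y hy
  rw [Groth.Agent.Helper4.StalkExact.app_res]
  exact h y (hVV hy)

include lam in
lemma rel_unique (hL : IsRelTwist 𝒮 p chart n L lam) (U : Y.Opens) (hU : IsAffineOpen U)
    (V : P.Opens) (hV : V ≤ X') (hVU : V ≤ p ⁻¹ᵁ U) (t t' : Γ(L, V))
    (h : RelS lam σ U hU V hV t) (h' : RelS lam σ U hU V hV t') : t = t' := by
  apply (hL.bijective U hU V hVU).1
  apply GT.sect_ext
  rintro ⟨y, hy⟩
  exact (h y hy).trans (h' y hy).symm

include lam in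
lemma exists_rel (hL : IsRelTwist 𝒮 p chart n L lam) (U : Y.Opens) (hU : IsAffineOpen U)
    (V : P.Opens) (hV : V ≤ X') (hVU : V ≤ p ⁻¹ᵁ U) : ∃ t : Γ(L, V), RelS lam σ U hU V hV t := by
  obtain ⟨t, ht⟩ := (hL.bijective U hU V hVU).2
    ((GrTwist.twist (𝒮.deg U hU) n).presheaf.map
      (homOfLE ((emb p chart U hU).preimage_mono hV)).op (σ U hU))
  refine ⟨t, fun y hy => ?_⟩
  have h1 : (lam U hU).app V t = _ := ht
  rw [h1]
  rfl

include lam in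
theorem rel_bwd (hP : IsRelProj 𝒮 p chart) (hL : IsRelTwist 𝒮 p chart n L lam) (hσ : Compat σ)
    (U : Y.Opens) (hU : IsAffineOpen U) (r : Γ(Y, U)) (V : P.Opens) (hV : V ≤ X')
    (hVr : V ≤ p ⁻¹ᵁ (Y.basicOpen r)) (t : Γ(L, V))
    (h : RelS lam σ (Y.basicOpen r) (hU.basicOpen r) V hV t) : RelS lam σ U hU V hV t := by
  obtain ⟨t', ht'⟩ := exists_rel σ hL U hU V hV (hVr.trans (p.preimage_mono (Y.basicOpen_le r)))
  have h1 := rel_fwd σ hP hL hσ U hU r V hV t' ht'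
  have h2 : t' = t := rel_unique σ hL _ (hU.basicOpen r) V hV hVr t' t h1 h
  subst h2
  exact ht'

include lam in
theorem rel_indep (hP : IsRelProj 𝒮 p chart) (hL : IsRelTwist 𝒮 p chart n L lam) (hσ : Compat σ)
    (U U' : Y.Opens) (hU : IsAffineOpen U) (hU' : IsAffineOpen U') (V : P.Opens) (hV : V ≤ X')
    (hVU : V ≤ p ⁻¹ᵁ U) (hVU' : V ≤ p ⁻¹ᵁ U') (t : Γ(L, V))
    (h : RelS lam σ U hU V hV t) : RelS lam σ U' hU' V hV t := by
  obtain ⟨t', ht'⟩ := exists_rel σ hL U' hU' V hV hVU'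
  suffices h2 : t' = t by subst h2; exact ht'
  apply Groth.Agent.Helper4.TwistExt.eq_of_cover L V
  intro x hx
  obtain ⟨r, r', e, hxr⟩ := exists_basicOpen_le_affine_inter hU hU' (p x) ⟨hVU hx, hVU' hx⟩
  refine ⟨V ⊓ p ⁻¹ᵁ (Y.basicOpen r), inf_le_left, ⟨hx, hxr⟩, ?_⟩
  have hVD : V ⊓ p ⁻¹ᵁ (Y.basicOpen r) ≤ p ⁻¹ᵁ (Y.basicOpen r) := inf_le_right
  have hVD' : V ⊓ p ⁻¹ᵁ (Y.basicOpen r) ≤ p ⁻¹ᵁ (Y.basicOpen r') := by rw [← e]; exact hVD
  have hVX : V ⊓ p ⁻¹ᵁ (Y.basicOpen r) ≤ X' := inf_le_left.trans hV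
  have h3 := rel_res σ U hU hV (inf_le_left : V ⊓ p ⁻¹ᵁ (Y.basicOpen r) ≤ V) t h
  have h4 := rel_fwd σ hP hL hσ U hU r _ hVX _ h3
  have h5 := rel_congr σ _ _ e (hU.basicOpen r) (hU'.basicOpen r') _ hVX _ h4
  have h6 := rel_bwd σ hP hL hσ U' hU' r' _ hVX hVD' _ h5
  have h7 := rel_res σ U' hU' hV (inf_le_left : V ⊓ p ⁻¹ᵁ (Y.basicOpen r) ≤ V) t' ht'
  exact rel_unique σ hL U' hU' _ hVX (inf_le_left.trans hVU') _ _ h7 h6

include lam in
/-- **compatible chartwise sections glue to a section of the relative twisting sheaf** -/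
theorem exists_section (hP : IsRelProj 𝒮 p chart) (hL : IsRelTwist 𝒮 p chart n L lam)
    (hσ : Compat σ) :
    ∃ t : Γ(L, X'), ∀ (U : Y.Opens) (hU : IsAffineOpen U), RelS lam σ U hU X' le_rfl t := by
  let I : Type u := {U : Y.Opens // IsAffineOpen U}
  let T : I → P.Opens := fun U => X' ⊓ p ⁻¹ᵁ U.1
  have hTX : ∀ i : I, T i ≤ X' := fun i => inf_le_left
  have hTU : ∀ i : I, T i ≤ p ⁻¹ᵁ i.1 := fun i => inf_le_right
  have hcover : X' ≤ iSup T := by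
    intro x hx
    obtain ⟨_, ⟨U, hU : IsAffineOpen U, rfl⟩, hxU, -⟩ :=
      Y.isBasis_affineOpens.exists_subset_of_mem_open (Set.mem_univ (p x)) isOpen_univ
    exact Opens.mem_iSup.2 ⟨⟨U, hU⟩, hx, hxU⟩
  choose τ hτ using fun i : I => exists_rel σ hL i.1 i.2 (T i) (hTX i) (hTU i)
  have hcompat : TopCat.Presheaf.IsCompatible L.presheaf T τ := by
    intro i j
    have h1 := rel_res σ i.1 i.2 (hTX i) (inf_le_left : T i ⊓ T j ≤ T i) (τ i) (hτ i)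
    have h2 := rel_res σ j.1 j.2 (hTX j) (inf_le_right : T i ⊓ T j ≤ T j) (τ j) (hτ j)
    have h3 := rel_indep σ hP hL hσ i.1 j.1 i.2 j.2 (T i ⊓ T j) (inf_le_left.trans (hTX i))
      (inf_le_left.trans (hTU i)) (inf_le_right.trans (hTU j)) _ h1
    exact rel_unique σ hL j.1 j.2 (T i ⊓ T j) (inf_le_left.trans (hTX i))
      (inf_le_right.trans (hTU j)) _ _ h3 h2
  obtain ⟨t, ht, -⟩ := TopCat.Sheaf.existsUnique_gluing'
    (⟨L.presheaf, L.isSheaf⟩ : TopCat.Sheaf Ab P) T X' (fun i => homOfLE (hTX i)) hcover τ hcompat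
  refine ⟨t, fun U hU y hy => ?_⟩
  have hyT : (emb p chart U hU).base y ∈ T ⟨U, hU⟩ := ⟨hy, RP.emb_mem p chart U hU y⟩
  have h1 : L.presheaf.map (homOfLE (hTX ⟨U, hU⟩)).op t = τ ⟨U, hU⟩ := ht ⟨U, hU⟩
  have h2 := hτ ⟨U, hU⟩ y hyT
  rw [← h1, Groth.Agent.Helper4.StalkExact.app_res] at h2
  exact h2

end Groth.Agent.Helper1.TRS
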