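import Mathlib
import Groth.Prelude.Def_RelProj3
import Groth.Agent.Helper1.TR17
import Groth.Agent.Helper1.RP13
import Groth.Agent.Helper1.EpiDesc
import Groth.Agent.Helper1.BasisIso

/-!
# The relative twisting sheaf `O_P(nd)` is trivial over `X_f`, `f` of degree `d`
-/

set_option autoImplicit false
set_option linter.style.haveILetI false

namespace Groth.Agent.Helper1.TRS

open CategoryTheory CategoryTheory.Limits AlgebraicGeometry TopologicalSpace Opposite RelProj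
open Groth.Agent.Helper1.RP
open scoped HomogeneousIdeal

universe u

variable {Y P : Scheme.{u}} {𝒮 : QCGrAlg Y} {p : P ⟶ Y}
  {chart : ∀ (U : Y.Opens) (hU : IsAffineOpen U),
    (((p ⁻¹ᵁ U : P.Opens) : Scheme.{u}) ≅ Proj (𝒮.deg U hU))}
  (f : 𝒮.presheaf.obj (op ⊤)) {Xf : P.Opens}
  (hXf : ∀ (U : Y.Opens) (hU : IsAffineOpen U), Xf ⊓ p ⁻¹ᵁ U = Dpiece 𝒮 p chart f U hU)

include hXf in
lemma emb_mem_Xf_iff (U : Y.Opens) (hU : IsAffineOpen U) (y : Proj (𝒮.deg U hU)) :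
    (emb p chart U hU).base y ∈ Xf ↔ resTop 𝒮 f U ∉ y.asHomogeneousIdeal := by
  have h1 : (emb p chart U hU).base y ∈ Xf ↔ (emb p chart U hU).base y ∈ Xf ⊓ p ⁻¹ᵁ U :=
    ⟨fun h => ⟨h, emb_mem p chart U hU y⟩, fun h => h.1⟩
  rw [h1, hXf U hU]
  unfold Dpiece
  constructor
  · rintro ⟨x, hx, hxy⟩
    have hx' : (chart U hU).hom x ∈ Proj.basicOpen (𝒮.deg U hU) (resTop 𝒮 f U) := hx
    have h2 : x = (chart U hU).inv y := by
      apply (p ⁻¹ᵁ U).ι.isOpenEmbedding.injective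
      refine Eq.trans (show (p ⁻¹ᵁ U).ι x = (emb p chart U hU) y from hxy) ?_
      unfold emb
      rw [Scheme.Hom.comp_apply]
    rw [h2, ← Scheme.Hom.comp_apply, Iso.inv_hom_id] at hx'
    exact hx'
  · intro hy
    refine ⟨(chart U hU).inv y, ?_, ?_⟩
    · show (chart U hU).hom ((chart U hU).inv y) ∈ Proj.basicOpen (𝒮.deg U hU) (resTop 𝒮 f U)
      rw [← Scheme.Hom.comp_apply, Iso.inv_hom_id]
      exact hy
    · unfold emb
      rw [Scheme.Hom.comp_apply]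
      rfl

variable {d : ℕ} (hf : ∀ (U : Y.Opens) (hU : IsAffineOpen U), resTop 𝒮 f U ∈ 𝒮.deg U hU d)

include hf in
lemma pow_mem_deg (U : Y.Opens) (hU : IsAffineOpen U) (k : ℕ) :
    resTop 𝒮 f U ^ k ∈ 𝒮.deg U hU (k * d) := by
  have := SetLike.pow_mem_graded k (hf U hU)
  simpa [smul_eq_mul] using this

include hXf in
lemma pow_notMem (U : Y.Opens) (hU : IsAffineOpen U) (k : ℕ) (z : ProjectiveSpectrum.top (𝒮.deg U hU))
    (hz : z ∈ emb p chart U hU ⁻¹ᵁ Xf) : resTop 𝒮 f U ^ k ∉ z.asHomogeneousIdeal := fun h =>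
  (emb_mem_Xf_iff f hXf U hU z).1 hz (z.isPrime.mem_of_pow_mem k h)

/-- the section `f ^ k` of `O(kd)` over the chart piece of `X_f` -/
noncomputable def powSect (k : ℤ) (U : Y.Opens) (hU : IsAffineOpen U) :
    Γ(GrTwist.twist (𝒮.deg U hU) (k * d), emb p chart U hU ⁻¹ᵁ Xf) :=
  GT.fracSect (k * d) (resTop 𝒮 f U ^ k.toNat) (pow_mem_deg f hf U hU k.toNat)
    (resTop 𝒮 f U ^ (-k).toNat) (pow_mem_deg f hf U hU (-k).toNat)
    (by
      have h1 : (k.toNat : ℤ) = ((-k).toNat : ℤ) + k := by omega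
      push_cast
      rw [h1]
      ring)
    _ (pow_notMem f hXf U hU (-k).toNat)

lemma compat_powSect (k : ℤ) : Compat (powSect f hXf hf k) := by
  intro U hU r y hy hy'
  unfold powSect
  rw [GT.val_fracSect, GT.val_fracSect, GrTwist.locMap_mk]
  have h1 : ∀ m : ℕ, (𝒮.res hU (hU.basicOpen r) (Y.basicOpen_le r)) (resTop 𝒮 f U ^ m) =
      resTop 𝒮 f (Y.basicOpen r) ^ m := by
    intro m
    rw [map_pow, res_resTop]
  congr 1
  · exact (h1 _).symm
  · exact Subtype.ext (h1 _).symm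

include hXf hf in
/-- **`O_P(kd)` is trivial over `X_f`** -/
theorem nonempty_iso_restrict_Xf (hP : IsRelProj 𝒮 p chart) (k : ℤ) {L : P.Modules}
    {lam : ∀ (U : Y.Opens) (hU : IsAffineOpen U),
      L ⟶ (Scheme.Modules.pushforward (emb p chart U hU)).obj
        (GrTwist.twist (𝒮.deg U hU) (k * d))}
    (hL : IsRelTwist 𝒮 p chart (k * d) L lam) :
    Nonempty (L.restrict Xf.ι ≅ Coh.structureModule (Xf : Scheme.{u})) := by
  obtain ⟨t, ht⟩ := exists_section (powSect f hXf hf k) hP hL (compat_powSect f hXf hf k)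
  have hle : Xf.ι ''ᵁ ⊤ ≤ Xf := (Scheme.Opens.ι_image_top Xf).le
  let N := L.restrict Xf.ι
  let t' : Γ(N, ⊤) := L.presheaf.map (homOfLE hle).op t
  let φ := Groth.Agent.Lead.LocLift.homOfTop N t'
  suffices IsIso φ from ⟨(asIso φ).symm⟩
  apply BasisIso.isIso_of_bijective_on_basis φ
    {V : (Xf : Scheme.{u}).Opens | ∃ (U : Y.Opens) (_ : IsAffineOpen U), Xf.ι ''ᵁ V ≤ p ⁻¹ᵁ U}
  · intro V x hx
    obtain ⟨_, ⟨U, hU : IsAffineOpen U, rfl⟩, hxU, -⟩ :=
      Y.isBasis_affineOpens.exists_subset_of_mem_open (Set.mem_univ (p (Xf.ι x))) isOpen_univ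
    refine ⟨V ⊓ Xf.ι ⁻¹ᵁ (p ⁻¹ᵁ U), ⟨U, hU, ?_⟩, ⟨hx, hxU⟩, inf_le_left⟩
    rintro _ ⟨z, hz, rfl⟩
    exact hz.2
  · rintro V ⟨U, hU, hVU⟩
    have hWX : Xf.ι ''ᵁ V ≤ Xf := by
      rintro _ ⟨z, -, rfl⟩
      exact z.2
    have h1 : ∀ r : Γ((Xf : Scheme.{u}), V), φ.app V r =
        ((Xf.ι.appIso V).inv r) • L.presheaf.map (homOfLE hWX).op t := by
      intro r
      have hres : N.presheaf.map (homOfLE (le_top : V ≤ ⊤)).op t' =
          L.presheaf.map (homOfLE hWX).op t := by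
        change L.presheaf.map _ (L.presheaf.map _ t) = _
        rw [← ConcreteCategory.comp_apply, ← L.presheaf.map_comp]
        rfl
      rw [EpiDesc.homOfTop_app, hres]
      rfl
    have h2 : Function.Bijective (fun r : Γ((Xf : Scheme.{u}), V) => (Xf.ι.appIso V).inv r) :=
      (ConcreteCategory.isIso_iff_bijective (Xf.ι.appIso V).inv).mp inferInstance
    -- the chart description
    have hrel := rel_res (powSect f hXf hf k) U hU le_rfl hWX t (ht U hU)
    have hWa : ∀ z : ProjectiveSpectrum.top (𝒮.deg U hU), z ∈ emb p chart U hU ⁻¹ᵁ (Xf.ι ''ᵁ V) →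
        resTop 𝒮 f U ^ k.toNat ∉ z.asHomogeneousIdeal :=
      fun z hz => pow_notMem f hXf U hU _ z (hWX hz)
    have hWb : ∀ z : ProjectiveSpectrum.top (𝒮.deg U hU), z ∈ emb p chart U hU ⁻¹ᵁ (Xf.ι ''ᵁ V) →
        resTop 𝒮 f U ^ (-k).toNat ∉ z.asHomogeneousIdeal :=
      fun z hz => pow_notMem f hXf U hU _ z (hWX hz)
    have hij : ((k.toNat * d : ℕ) : ℤ) = ((-k).toNat * d : ℕ) + k * d := by
      have h1 : (k.toNat : ℤ) = ((-k).toNat : ℤ) + k := by omega
      push_cast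
      rw [h1]
      ring
    have hF : (lam U hU).app (Xf.ι ''ᵁ V) (L.presheaf.map (homOfLE hWX).op t) =
        GT.fracSect (k * d) (resTop 𝒮 f U ^ k.toNat) (pow_mem_deg f hf U hU k.toNat)
          (resTop 𝒮 f U ^ (-k).toNat) (pow_mem_deg f hf U hU (-k).toNat) hij
          (emb p chart U hU ⁻¹ᵁ (Xf.ι ''ᵁ V)) hWb := by
      apply GT.sect_ext
      rintro ⟨y, hy⟩
      exact hrel y hy
    have h3 := GT.smul_fracSect_bijective (k * d) (resTop 𝒮 f U ^ k.toNat)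
      (pow_mem_deg f hf U hU k.toNat) (resTop 𝒮 f U ^ (-k).toNat)
      (pow_mem_deg f hf U hU (-k).toNat) hij (emb p chart U hU ⁻¹ᵁ (Xf.ι ''ᵁ V)) hWa hWb
    haveI : IsIso ((emb p chart U hU).app (Xf.ι ''ᵁ V)) :=
      Scheme.Hom.isIso_app (emb p chart U hU) _ (by rw [opensRange_emb]; exact hVU)
    have h4 : Function.Bijective ((emb p chart U hU).app (Xf.ι ''ᵁ V)) :=
      ConcreteCategory.bijective_of_isIso _
    have h5 : Function.Bijective (fun c : Γ(P, Xf.ι ''ᵁ V) =>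
        c • L.presheaf.map (homOfLE hWX).op t) := by
      have hcomp : (lam U hU).app (Xf.ι ''ᵁ V) ∘ (fun c : Γ(P, Xf.ι ''ᵁ V) =>
          c • L.presheaf.map (homOfLE hWX).op t) =
          (fun c' : Γ(Proj (𝒮.deg U hU), emb p chart U hU ⁻¹ᵁ (Xf.ι ''ᵁ V)) => c' •
            GT.fracSect (k * d) (resTop 𝒮 f U ^ k.toNat) (pow_mem_deg f hf U hU k.toNat)
              (resTop 𝒮 f U ^ (-k).toNat) (pow_mem_deg f hf U hU (-k).toNat) hij
              (emb p chart U hU ⁻¹ᵁ (Xf.ι ''ᵁ V)) hWb) ∘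
          (emb p chart U hU).app (Xf.ι ''ᵁ V) := by
        funext c
        simp only [Function.comp_apply]
        rw [Scheme.Modules.Hom.app_smul, hF]
        rfl
      have h6 := h3.comp h4
      rw [← hcomp] at h6
      exact (Function.Bijective.of_comp_iff' (hL.bijective U hU _ hVU) _).1 h6
    have h7 : ⇑(ConcreteCategory.hom (Scheme.Modules.Hom.app φ V)) =
        (fun c : Γ(P, Xf.ι ''ᵁ V) => c • L.presheaf.map (homOfLE hWX).op t) ∘
          fun r : Γ((Xf : Scheme.{u}), V) => (Xf.ι.appIso V).inv r := funext h1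
    rw [h7]
    exact h5.comp h2

end Groth.Agent.Helper1.TRS
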