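import Mathlib
import Groth.Prelude.Def_RelProj3
import Groth.Agent.Helper1.TR18
import Groth.Agent.Helper1.RP11

/-!
# `X_f` is the locus where the section `α_d(f)` of `O_P(d)` generates
-/

set_option autoImplicit false
set_option linter.style.haveILetI false

namespace Groth.Agent.Helper1.TRS

open CategoryTheory CategoryTheory.Limits AlgebraicGeometry TopologicalSpace Opposite RelProj
open Groth.Agent.Helper1.RP
open scoped HomogeneousIdeal

universe u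

variable {Y P : Scheme.{u}} {𝒮 : QCGrAlg Y} {p : P ⟶ Y}
  {chart : ∀ (U : Y.Opens) (hU : IsAffineOpen U),
    (((p ⁻¹ᵁ U : P.Opens) : Scheme.{u}) ≅ Proj (𝒮.deg U hU))}
  (f : 𝒮.presheaf.obj (op ⊤)) {Xf : P.Opens}
  (hXf : ∀ (U : Y.Opens) (hU : IsAffineOpen U), Xf ⊓ p ⁻¹ᵁ U = Dpiece 𝒮 p chart f U hU)
  {d : ℕ} (hf : ∀ (U : Y.Opens) (hU : IsAffineOpen U), resTop 𝒮 f U ∈ 𝒮.deg U hU d)

include hXf hf in
/-- multiplication by a section reading `f ^ k` in every chart is bijective on the small opens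
of `X_f` -/
theorem smul_bijective_of_val (m k : ℤ) (hm : m = k * d) {L : P.Modules}
    {lam : ∀ (U : Y.Opens) (hU : IsAffineOpen U),
      L ⟶ (Scheme.Modules.pushforward (emb p chart U hU)).obj (GrTwist.twist (𝒮.deg U hU) m)}
    (hL : IsRelTwist 𝒮 p chart m L lam) (t : Γ(L, Xf))
    (ht : ∀ (U : Y.Opens) (hU : IsAffineOpen U) (y : ProjectiveSpectrum (𝒮.deg U hU))
      (hy : (emb p chart U hU).base y ∈ Xf),
      GrTwist.val (V := emb p chart U hU ⁻¹ᵁ Xf) ((lam U hU).app Xf t) ⟨y, hy⟩ =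
        Localization.mk (resTop 𝒮 f U ^ k.toNat)
          ⟨resTop 𝒮 f U ^ (-k).toNat, pow_notMem f hXf U hU _ y hy⟩)
    (U : Y.Opens) (hU : IsAffineOpen U) (W : P.Opens) (hWX : W ≤ Xf) (hWU : W ≤ p ⁻¹ᵁ U) :
    Function.Bijective (fun c : Γ(P, W) => c • L.presheaf.map (homOfLE hWX).op t) := by
  subst hm
  have hrel : ∀ (y : ProjectiveSpectrum (𝒮.deg U hU)) (hy : (emb p chart U hU).base y ∈ W),
      GrTwist.val (V := emb p chart U hU ⁻¹ᵁ W)
        ((lam U hU).app W (L.presheaf.map (homOfLE hWX).op t)) ⟨y, hy⟩ =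
      Localization.mk (resTop 𝒮 f U ^ k.toNat)
          ⟨resTop 𝒮 f U ^ (-k).toNat, pow_notMem f hXf U hU _ y (hWX hy)⟩ := by
    intro y hy
    rw [Groth.Agent.Helper4.StalkExact.app_res]
    exact ht U hU y (hWX hy)
  have hWa : ∀ z : ProjectiveSpectrum.top (𝒮.deg U hU), z ∈ emb p chart U hU ⁻¹ᵁ W →
      resTop 𝒮 f U ^ k.toNat ∉ z.asHomogeneousIdeal :=
    fun z hz => pow_notMem f hXf U hU _ z (hWX hz)
  have hWb : ∀ z : ProjectiveSpectrum.top (𝒮.deg U hU), z ∈ emb p chart U hU ⁻¹ᵁ W →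
      resTop 𝒮 f U ^ (-k).toNat ∉ z.asHomogeneousIdeal :=
    fun z hz => pow_notMem f hXf U hU _ z (hWX hz)
  have hij : ((k.toNat * d : ℕ) : ℤ) = ((-k).toNat * d : ℕ) + k * d := by
    have h1 : (k.toNat : ℤ) = ((-k).toNat : ℤ) + k := by omega
    push_cast
    rw [h1]
    ring
  have hF : (lam U hU).app W (L.presheaf.map (homOfLE hWX).op t) =
      GT.fracSect (k * d) (resTop 𝒮 f U ^ k.toNat) (pow_mem_deg f hf U hU k.toNat)
        (resTop 𝒮 f U ^ (-k).toNat) (pow_mem_deg f hf U hU (-k).toNat) hij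
        (emb p chart U hU ⁻¹ᵁ W) hWb := by
    apply GT.sect_ext
    rintro ⟨y, hy⟩
    exact hrel y hy
  have h3 := GT.smul_fracSect_bijective (k * d) (resTop 𝒮 f U ^ k.toNat)
    (pow_mem_deg f hf U hU k.toNat) (resTop 𝒮 f U ^ (-k).toNat)
    (pow_mem_deg f hf U hU (-k).toNat) hij (emb p chart U hU ⁻¹ᵁ W) hWa hWb
  haveI : IsIso ((emb p chart U hU).app W) :=
    Scheme.Hom.isIso_app (emb p chart U hU) _ (by rw [opensRange_emb]; exact hWU)
  have h4 : Function.Bijective ((emb p chart U hU).app W) :=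
    ConcreteCategory.bijective_of_isIso _
  have hcomp : (lam U hU).app W ∘ (fun c : Γ(P, W) =>
      c • L.presheaf.map (homOfLE hWX).op t) =
      (fun c' : Γ(Proj (𝒮.deg U hU), emb p chart U hU ⁻¹ᵁ W) => c' •
        GT.fracSect (k * d) (resTop 𝒮 f U ^ k.toNat) (pow_mem_deg f hf U hU k.toNat)
          (resTop 𝒮 f U ^ (-k).toNat) (pow_mem_deg f hf U hU (-k).toNat) hij
          (emb p chart U hU ⁻¹ᵁ W) hWb) ∘
      (emb p chart U hU).app W := by
    funext c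
    simp only [Function.comp_apply]
    rw [Scheme.Modules.Hom.app_smul, hF]
    rfl
  have h6 := h3.comp h4
  rw [← hcomp] at h6
  exact (Function.Bijective.of_comp_iff' (hL.bijective U hU _ hWU) _).1 h6

section ring

variable {A σ : Type u} [CommRing A] [SetLike σ A] [AddSubgroupClass σ A] {𝒜 : ℕ → σ} [GradedRing 𝒜]

lemma val_smul {n : ℤ} {V : (Proj 𝒜).Opens} (c : Γ(Proj 𝒜, V)) (s : Γ(GrTwist.twist 𝒜 n, V))
    (y : V) : GrTwist.val (c • s) y =
      ((show GrTwist.O (𝒜 := 𝒜) (op V) from c).1 y).val * GrTwist.val s y :=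
  GrTwist.coe_smul_val n y.1 _ _

/-- a multiple of `f / 1`, `f` in the prime, is not `g / 1` with `g` outside the prime -/
lemma mul_mk_ne (y : ProjectiveSpectrum 𝒜) (q : GrTwist.Loc 𝒜 y) (a g : A)
    (ha : a ∈ y.asHomogeneousIdeal) (hg : g ∉ y.asHomogeneousIdeal) :
    q * Localization.mk a 1 ≠ Localization.mk g 1 := by
  intro h
  rw [Localization.mk_one_eq_algebraMap, Localization.mk_one_eq_algebraMap] at h
  have h1 : algebraMap A (Localization.AtPrime y.asHomogeneousIdeal.toIdeal) a ∈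
      IsLocalRing.maximalIdeal (Localization.AtPrime y.asHomogeneousIdeal.toIdeal) :=
    (IsLocalization.AtPrime.to_map_mem_maximal_iff _ y.asHomogeneousIdeal.toIdeal a).2 ha
  have h2 : algebraMap A (Localization.AtPrime y.asHomogeneousIdeal.toIdeal) g ∈
      IsLocalRing.maximalIdeal (Localization.AtPrime y.asHomogeneousIdeal.toIdeal) := by
    rw [← h]
    exact Ideal.mul_mem_left _ _ h1
  exact hg ((IsLocalization.AtPrime.to_map_mem_maximal_iff _ y.asHomogeneousIdeal.toIdeal g).1 h2)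

end ring

lemma map_map_apply (L : P.Modules) {U V W : P.Opens} (h1 : V ≤ U) (h2 : W ≤ V) (x : Γ(L, U)) :
    L.presheaf.map (homOfLE h2).op (L.presheaf.map (homOfLE h1).op x) =
      L.presheaf.map (homOfLE (h2.trans h1)).op x := by
  rw [← ConcreteCategory.comp_apply, ← L.presheaf.map_comp]
  rfl

section main

variable {L : P.Modules}
  {lam : ∀ (U : Y.Opens) (hU : IsAffineOpen U),
    L ⟶ (Scheme.Modules.pushforward (emb p chart U hU)).obj (GrTwist.twist (𝒮.deg U hU) (d : ℤ))}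
  (s : Coh.structureModule P ⟶ L)
  (hs : ∀ (U : Y.Opens) (hU : IsAffineOpen U) (y : Proj (𝒮.deg U hU)),
    GrTwist.val (V := emb p chart U hU ⁻¹ᵁ ⊤)
      ((lam U hU).app ⊤ (s.app ⊤ (show Γ(Coh.structureModule P, ⊤) from (1 : Γ(P, ⊤)))))
      ⟨y, Set.mem_univ _⟩ = Localization.mk (resTop 𝒮 f U) 1)

/-- the values of `s` on any open -/
lemma app_eq_smul (W : P.Opens) (c : Γ(P, W)) :
    s.app W c = c • L.presheaf.map (homOfLE (le_top : W ≤ ⊤)).op
      (s.app ⊤ (show Γ(Coh.structureModule P, ⊤) from (1 : Γ(P, ⊤)))) := by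
  rw [← Groth.Agent.Helper4.StalkExact.app_res]
  have h2 : (Coh.structureModule P).presheaf.map (homOfLE (le_top : W ≤ ⊤)).op
      (show Γ(Coh.structureModule P, ⊤) from (1 : Γ(P, ⊤))) =
      (show Γ(Coh.structureModule P, W) from (1 : Γ(P, W))) :=
    map_one (P.presheaf.map (homOfLE (le_top : W ≤ ⊤)).op).hom
  rw [h2, ← Scheme.Modules.Hom.app_smul]
  congr 1
  show c = c * 1
  rw [mul_one]

include hs in
lemma val_app_one (U : Y.Opens) (hU : IsAffineOpen U) (W : P.Opens)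
    (y : ProjectiveSpectrum (𝒮.deg U hU)) (hy : (emb p chart U hU).base y ∈ W) :
    GrTwist.val (V := emb p chart U hU ⁻¹ᵁ W) ((lam U hU).app W
      (L.presheaf.map (homOfLE (le_top : W ≤ ⊤)).op
        (s.app ⊤ (show Γ(Coh.structureModule P, ⊤) from (1 : Γ(P, ⊤)))))) ⟨y, hy⟩ =
      Localization.mk (resTop 𝒮 f U) 1 := by
  rw [Groth.Agent.Helper4.StalkExact.app_res]
  exact hs U hU y

include hXf hf hs in
theorem isIso_restrict_Xf (hL : IsRelTwist 𝒮 p chart (d : ℤ) L lam) :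
    IsIso ((Scheme.Modules.restrictFunctor Xf.ι).map s) := by
  apply BasisIso.isIso_of_bijective_on_basis _
    {V : (Xf : Scheme.{u}).Opens | ∃ (U : Y.Opens) (_ : IsAffineOpen U), Xf.ι ''ᵁ V ≤ p ⁻¹ᵁ U}
  · intro V x hx
    obtain ⟨_, ⟨U, hU : IsAffineOpen U, rfl⟩, hxU, -⟩ :=
      Y.isBasis_affineOpens.exists_subset_of_mem_open (Set.mem_univ (p (Xf.ι x))) isOpen_univ
    refine ⟨V ⊓ Xf.ι ⁻¹ᵁ (p ⁻¹ᵁ U), ⟨U, hU, ?_⟩, ⟨hx, hxU⟩, inf_le_left⟩
    rintro _ ⟨z, hz, rfl⟩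
    exact hz.2
  · rintro V ⟨U, hU, hVU⟩
    have hWX : Xf.ι ''ᵁ V ≤ Xf := by
      rintro _ ⟨z, -, rfl⟩
      exact z.2
    let t : Γ(L, Xf) := L.presheaf.map (homOfLE (le_top : Xf ≤ ⊤)).op
      (s.app ⊤ (show Γ(Coh.structureModule P, ⊤) from (1 : Γ(P, ⊤))))
    have ht : ∀ (U : Y.Opens) (hU : IsAffineOpen U) (y : ProjectiveSpectrum (𝒮.deg U hU))
        (hy : (emb p chart U hU).base y ∈ Xf),
        GrTwist.val (V := emb p chart U hU ⁻¹ᵁ Xf) ((lam U hU).app Xf t) ⟨y, hy⟩ =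
          Localization.mk (resTop 𝒮 f U ^ (1 : ℤ).toNat)
            ⟨resTop 𝒮 f U ^ (-(1 : ℤ)).toNat, pow_notMem f hXf U hU _ y hy⟩ := by
      intro U hU y hy
      rw [val_app_one f s hs U hU Xf y hy, Localization.mk_eq_mk_iff]
      apply Localization.r_of_eq
      show resTop 𝒮 f U ^ (-(1 : ℤ)).toNat * resTop 𝒮 f U = 1 * resTop 𝒮 f U ^ (1 : ℤ).toNat
      have e1 : (1 : ℤ).toNat = 1 := rfl
      have e2 : (-(1 : ℤ)).toNat = 0 := rfl
      rw [e1, e2, pow_zero, pow_one]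
    have hb := smul_bijective_of_val f hXf hf (d : ℤ) 1 (one_mul _).symm hL t ht U hU
      (Xf.ι ''ᵁ V) hWX hVU
    have h1 : ∀ c : Γ(P, Xf.ι ''ᵁ V), s.app (Xf.ι ''ᵁ V) c =
        c • L.presheaf.map (homOfLE hWX).op t := by
      intro c
      rw [app_eq_smul s, map_map_apply]
    have h7 : ⇑(ConcreteCategory.hom (Scheme.Modules.Hom.app
        ((Scheme.Modules.restrictFunctor Xf.ι).map s) V)) =
        (fun c : Γ(P, Xf.ι ''ᵁ V) => c • L.presheaf.map (homOfLE hWX).op t) := funext h1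
    rw [h7]
    exact hb

include hXf hs in
theorem le_Xf_of_isIso (hgen : 𝒮.IsGenDegOne) (hL : IsRelTwist 𝒮 p chart (d : ℤ) L lam)
    (U' : P.Opens) (hU' : IsIso ((Scheme.Modules.restrictFunctor U'.ι).map s)) : U' ≤ Xf := by
  intro x hx
  obtain ⟨_, ⟨U, hU : IsAffineOpen U, rfl⟩, hxU, -⟩ :=
    Y.isBasis_affineOpens.exists_subset_of_mem_open (Set.mem_univ (p x)) isOpen_univ
  have hxU' : x ∈ p ⁻¹ᵁ U := hxU
  set y : Proj (𝒮.deg U hU) := (chart U hU).hom ⟨x, hxU'⟩ with hy_def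
  have hyx : (emb p chart U hU) y = x := emb_chart_hom p chart U hU x hxU'
  rw [← hyx, emb_mem_Xf_iff f hXf U hU y]
  intro hfy
  -- an element of degree one outside `y`
  obtain ⟨g, hg1, hgy⟩ : ∃ g, g ∈ 𝒮.deg U hU 1 ∧ g ∉ y.asHomogeneousIdeal := by
    by_contra hcon
    push Not at hcon
    apply y.not_irrelevant_le
    intro a ha
    have h1 := irrelevant_le_span_one (hgen U hU) ha
    have h2 : Ideal.span ((𝒮.deg U hU 1 : Set _)) ≤ y.asHomogeneousIdeal.toIdeal :=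
      Ideal.span_le.2 fun b hb => hcon b hb
    exact h2 h1
  -- the open `W = U' ∩ p⁻¹ U`
  let V : (U' : Scheme.{u}).Opens := U'.ι ⁻¹ᵁ (p ⁻¹ᵁ U)
  have hWU : U'.ι ''ᵁ V ≤ p ⁻¹ᵁ U := by
    rintro _ ⟨z, hz, rfl⟩
    exact hz
  have hxW : x ∈ U'.ι ''ᵁ V := ⟨⟨x, hx⟩, hxU, rfl⟩
  have hyW : (emb p chart U hU).base y ∈ U'.ι ''ᵁ V := by
    have : (emb p chart U hU).base y = x := hyx
    rw [this]; exact hxW
  have hbij : Function.Bijective (s.app (U'.ι ''ᵁ V)) :=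
    TRT.app_bijective_of_isIso ((Scheme.Modules.restrictFunctor U'.ι).map s) V
  -- the section `g ^ d`
  have hgd : g ^ d ∈ 𝒮.deg U hU d := by
    have := SetLike.pow_mem_graded d hg1
    simpa [smul_eq_mul] using this
  let G := GT.fracSect (d : ℤ) (g ^ d) hgd 1 (SetLike.GradedOne.one_mem) (by simp)
    (emb p chart U hU ⁻¹ᵁ (U'.ι ''ᵁ V))
    (fun z _ h => z.isPrime.ne_top ((Ideal.eq_top_iff_one _).mpr h))
  obtain ⟨τ, hτ⟩ := (hL.bijective U hU _ hWU).2 G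
  obtain ⟨c, hc⟩ := hbij.2 τ
  rw [app_eq_smul s] at hc
  have h1 := congrArg (fun z => GrTwist.val (V := emb p chart U hU ⁻¹ᵁ (U'.ι ''ᵁ V))
    ((lam U hU).app (U'.ι ''ᵁ V) z) ⟨y, hyW⟩) hc
  simp only [] at h1
  rw [hτ, Scheme.Modules.Hom.app_smul] at h1
  have h2 := val_smul ((emb p chart U hU).app (U'.ι ''ᵁ V) c)
    ((lam U hU).app (U'.ι ''ᵁ V) (L.presheaf.map (homOfLE (le_top : U'.ι ''ᵁ V ≤ ⊤)).op
      (s.app ⊤ (show Γ(Coh.structureModule P, ⊤) from (1 : Γ(P, ⊤))))))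
    ⟨y, hyW⟩
  rw [val_app_one f s hs U hU _ y hyW] at h2
  have h3 : GrTwist.val G ⟨y, hyW⟩ = Localization.mk (g ^ d) 1 := rfl
  rw [h3] at h1
  exact mul_mk_ne y _ (resTop 𝒮 f U) (g ^ d) hfy
    (fun h => hgy (y.isPrime.mem_of_pow_mem d h)) (h2.symm.trans h1)

include hXf hf hs in
/-- **`X_f` is the locus where `α_d(f)` generates `O_P(d)`** -/
theorem Xf_eq_genLocus (hgen : 𝒮.IsGenDegOne) (hL : IsRelTwist 𝒮 p chart (d : ℤ) L lam) :
    Xf = CohB1.genLocus L s := by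
  apply le_antisymm
  · exact le_sSup (isIso_restrict_Xf f hXf hf s hs hL)
  · exact sSup_le fun U' hU' => le_Xf_of_isIso f hXf s hs hgen hL U' hU'

end main

end Groth.Agent.Helper1.TRS
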