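import Mathlib
import Groth.Prelude.Def_RelProj4
import Groth.Agent.Helper1.Fl2
import Groth.Agent.Helper1.GM1
import Groth.Agent.Helper1.GT1
import Groth.Agent.Helper1.TR19

/-!
# Values of the structure map of a relative Proj, read in a chart
-/

set_option autoImplicit false
set_option linter.unusedSectionVars false
set_option linter.style.haveILetI false

namespace Groth.Agent.Helper1.CF

open CategoryTheory CategoryTheory.Limits AlgebraicGeometry TopologicalSpace Opposite RelProj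
open HomogeneousLocalization
open Groth.Agent.Helper1.RP
open scoped HomogeneousIdeal

universe u

variable {Y P : Scheme.{u}} {𝒮 : QCGrAlg Y} {p : P ⟶ Y}
  {chart : ∀ (U : Y.Opens) (hU : IsAffineOpen U),
    (((p ⁻¹ᵁ U : P.Opens) : Scheme.{u}) ≅ Proj (𝒮.deg U hU))}

/-- **the function `p^♯ a`, read in the chart over `U`, has value `a / 1` everywhere** -/
theorem val_emb_p (hP : IsRelProj 𝒮 p chart) (U : Y.Opens) (hU : IsAffineOpen U) (a : Γ(Y, U))
    (y : ↥(emb p chart U hU ⁻¹ᵁ (p ⁻¹ᵁ U))) :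
    ((show GrTwist.O (𝒜 := 𝒮.deg U hU) (op (emb p chart U hU ⁻¹ᵁ (p ⁻¹ᵁ U))) from
      ((emb p chart U hU).app (p ⁻¹ᵁ U)).hom ((p.app U).hom a)).1 y).val =
      Localization.mk ((𝒮.str.app (op U)).hom a) 1 := by
  obtain ⟨e, f, he, hf, hfy⟩ := GM.exists_pos_deg_notMem (𝒜 := 𝒮.deg U hU) y.1
  have h := GMFl.val_appLE_emb_p hP U hU he f hf a ⟨y.1, hfy⟩
  rw [← h]
  rfl

end Groth.Agent.Helper1.CF
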