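import Mathlib
import Groth.Agent.Helper1.QH2
import Groth.Prelude.Def_RelSpec2

/-!
# The universal property of `𝒮[z]` over affine opens
-/

set_option autoImplicit false
set_option linter.style.haveILetI false

namespace Groth.Agent.Helper1.QH

open CategoryTheory Limits AlgebraicGeometry TopologicalSpace Opposite RelSpec RelProj RelCone

universe u

noncomputable section

variable {S : Scheme.{u}} {𝒮 𝒮h : QCGrAlg S} {ι : 𝒮.toQCAlg ⟶ 𝒮h.toQCAlg}
  {z : 𝒮h.presheaf.obj (op ⊤)} (h : IsPolyOver 𝒮 𝒮h ι z) (U : S.Opens) (hU : IsAffineOpen U)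

include h hU in
theorem polyOver_ringHom_ext {R : Type*} [Semiring R] {f g : 𝒮h.presheaf.obj (op U) →+* R}
    (h1 : ∀ a, f ((ι.hom.app (op U)).hom a) = g ((ι.hom.app (op U)).hom a))
    (h2 : f (restrictTop 𝒮h z U) = g (restrictTop 𝒮h z U)) : f = g := by
  have hc : f.comp (h.polyEquiv U hU).toRingHom = g.comp (h.polyEquiv U hU).toRingHom := by
    apply Polynomial.ringHom_ext
    · intro a
      simp only [RingHom.comp_apply, RingEquiv.toRingHom_eq_coe, RingHom.coe_coe,
        IsPolyOver.polyEquiv_apply, Polynomial.eval₂_C]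
      exact h1 a
    · simp only [RingHom.comp_apply, RingEquiv.toRingHom_eq_coe, RingHom.coe_coe,
        IsPolyOver.polyEquiv_apply, Polynomial.eval₂_X]
      exact h2
  ext y
  obtain ⟨p, rfl⟩ := (h.polyEquiv U hU).surjective y
  exact congrArg (fun k => k p) hc

/-- the ring homomorphism `𝒮h(U) → R` extending `f : 𝒮(U) → R` with `z ↦ b` -/
def polyOverLift {R : Type u} [CommRing R] (f : 𝒮.presheaf.obj (op U) →+* R) (b : R) :
    𝒮h.presheaf.obj (op U) →+* R :=
  (Polynomial.eval₂RingHom f b).comp (h.polyEquiv U hU).symm.toRingHom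

theorem polyOverLift_ι {R : Type u} [CommRing R] (f : 𝒮.presheaf.obj (op U) →+* R) (b : R)
    (a : 𝒮.presheaf.obj (op U)) :
    polyOverLift h U hU f b ((ι.hom.app (op U)).hom a) = f a := by
  have e : h.polyEquiv U hU (Polynomial.C a) = (ι.hom.app (op U)).hom a := by
    rw [IsPolyOver.polyEquiv_apply, Polynomial.eval₂_C]
  rw [polyOverLift, RingHom.comp_apply, ← e]
  simp

theorem polyOverLift_z {R : Type u} [CommRing R] (f : 𝒮.presheaf.obj (op U) →+* R) (b : R) :
    polyOverLift h U hU f b (restrictTop 𝒮h z U) = b := by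
  have e : h.polyEquiv U hU Polynomial.X = restrictTop 𝒮h z U := by
    rw [IsPolyOver.polyEquiv_apply, Polynomial.eval₂_X]
  rw [polyOverLift, RingHom.comp_apply, ← e]
  simp

theorem restrictTop_res (𝒜 : QCGrAlg S) (z : 𝒜.presheaf.obj (op ⊤)) {U V : S.Opens} (i : V ≤ U) :
    (𝒜.presheaf.map (homOfLE i).op).hom (restrictTop 𝒜 z U) = restrictTop 𝒜 z V := by
  change ((𝒜.presheaf.map (homOfLE le_top).op) ≫ (𝒜.presheaf.map (homOfLE i).op)).hom z = _
  rw [← Functor.map_comp]
  rfl

theorem hom_naturality_apply {A B : QCAlg S} (φ : A ⟶ B) {U V : S.Opens} (i : V ≤ U)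
    (a : A.presheaf.obj (op U)) :
    (B.presheaf.map (homOfLE i).op).hom ((φ.hom.app (op U)).hom a) =
      (φ.hom.app (op V)).hom ((A.presheaf.map (homOfLE i).op).hom a) := by
  have := congrArg (fun k => k.hom a) (φ.hom.naturality (homOfLE i).op)
  simp only [CommRingCat.hom_comp, RingHom.comp_apply] at this
  exact this.symm

theorem hom_str_apply {A B : QCAlg S} (φ : A ⟶ B) (U : S.Opens) (r : Γ(S, U)) :
    (φ.hom.app (op U)).hom ((A.str.app (op U)).hom r) = (B.str.app (op U)).hom r := by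
  have h0 := NatTrans.congr_app φ.comm (op U)
  rw [NatTrans.comp_app] at h0
  rw [← h0]; rfl

end

end Groth.Agent.Helper1.QH
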