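import Mathlib
import Groth.Agent.Helper1.QH3

/-!
# Homomorphisms of quasi-coherent algebras from data on affine opens, natural for basic opens only;
morphisms of modules from data on affine opens
-/

set_option autoImplicit false
set_option linter.style.haveILetI false

namespace Groth.Agent.Helper1.QH

open CategoryTheory Limits AlgebraicGeometry TopologicalSpace Opposite RelSpec

universe u

noncomputable section

variable {S : Scheme.{u}}

/-- A family of ring homomorphisms `A(U) → B(U)` over the affine opens, natural for restrictions
to basic opens and compatible with the structure maps. -/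
structure AffHomB (A B : QCAlg S) where
  app : ∀ (U : S.Opens) (_ : IsAffineOpen U), A.presheaf.obj (op U) ⟶ B.presheaf.obj (op U)
  naturality : ∀ (U : S.Opens) (hU : IsAffineOpen U) (r : Γ(S, U)),
    A.presheaf.map (homOfLE (S.basicOpen_le r)).op ≫ app (S.basicOpen r) (hU.basicOpen r) =
      app U hU ≫ B.presheaf.map (homOfLE (S.basicOpen_le r)).op
  str : ∀ (U : S.Opens) (hU : IsAffineOpen U), A.str.app (op U) ≫ app U hU = B.str.app (op U)

namespace AffHomB

variable {A B : QCAlg S} (a : AffHomB A B)

/-- the natural transformation on the affine site -/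
def restrict : (Scheme.AffineZariskiSite.toOpensFunctor S).op ⋙ A.presheaf ⟶
    (Scheme.AffineZariskiSite.toOpensFunctor S).op ⋙ B.presheaf where
  app U := a.app U.unop.1 U.unop.2
  naturality := by
    rintro ⟨U⟩ ⟨V⟩ ⟨i⟩
    obtain ⟨f, hf⟩ := i.le
    obtain rfl : U.basicOpen f = V := Subtype.ext hf
    exact a.naturality U.1 U.2 f

/-- the map of presheaves of rings extending the affine data -/
def toPresheafHom : A.presheaf ⟶ B.presheaf :=
  Functor.IsCoverDense.restrictHomEquivHom (G := Scheme.AffineZariskiSite.toOpensFunctor S)
    (K := Opens.grothendieckTopology S) (ℱ := A.presheaf)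
    (ℱ' := (⟨B.presheaf, B.isSheaf⟩ : TopCat.Sheaf CommRingCat.{u} S.carrier)) a.restrict

theorem toPresheafHom_restrict :
    (Scheme.AffineZariskiSite.toOpensFunctor S).op.whiskerLeft a.toPresheafHom = a.restrict :=
  (Functor.IsCoverDense.restrictHomEquivHom (G := Scheme.AffineZariskiSite.toOpensFunctor S)
    (K := Opens.grothendieckTopology S) (ℱ := A.presheaf)
    (ℱ' := (⟨B.presheaf, B.isSheaf⟩ : TopCat.Sheaf CommRingCat.{u} S.carrier))).symm_apply_apply _

theorem toPresheafHom_app (U : S.Opens) (hU : IsAffineOpen U) :
    a.toPresheafHom.app (op U) = a.app U hU :=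
  NatTrans.congr_app a.toPresheafHom_restrict (op ⟨U, hU⟩)

/-- the homomorphism of quasi-coherent algebras extending the affine data -/
def toHom : A ⟶ B where
  hom := a.toPresheafHom
  comm := by
    apply presheafHom_ext_affine B
    intro U hU
    rw [NatTrans.comp_app, a.toPresheafHom_app U hU, a.str U hU]

theorem toHom_app (U : S.Opens) (hU : IsAffineOpen U) :
    a.toHom.hom.app (op U) = a.app U hU := a.toPresheafHom_app U hU

end AffHomB

end

end Groth.Agent.Helper1.QH
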