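import Mathlib
import Groth.Agent.Helper1.QH4

/-!
# Morphisms of modules from data on affine opens
-/

set_option autoImplicit false
set_option linter.style.haveILetI false

namespace Groth.Agent.Helper1.QH

open CategoryTheory Limits AlgebraicGeometry TopologicalSpace Opposite RelSpec

universe u

noncomputable section

variable {S : Scheme.{u}}

/-- A family of additive maps `M(U) → N(U)` over the affine opens, natural for restrictions
to basic opens and linear over the functions. -/
structure AffModHom (M N : S.Modules) where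
  app : ∀ (U : S.Opens) (_ : IsAffineOpen U), Γ(M, U) ⟶ Γ(N, U)
  naturality : ∀ (U : S.Opens) (hU : IsAffineOpen U) (r : Γ(S, U)),
    M.presheaf.map (homOfLE (S.basicOpen_le r)).op ≫ app (S.basicOpen r) (hU.basicOpen r) =
      app U hU ≫ N.presheaf.map (homOfLE (S.basicOpen_le r)).op
  smul : ∀ (U : S.Opens) (hU : IsAffineOpen U) (a : Γ(S, U)) (m : Γ(M, U)),
    app U hU (a • m) = a • app U hU m

namespace AffModHom

variable {M N : S.Modules} (f : AffModHom M N)

/-- the natural transformation on the affine site -/
def restrict : (Scheme.AffineZariskiSite.toOpensFunctor S).op ⋙ M.presheaf ⟶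
    (Scheme.AffineZariskiSite.toOpensFunctor S).op ⋙ N.presheaf where
  app U := f.app U.unop.1 U.unop.2
  naturality := by
    rintro ⟨U⟩ ⟨V⟩ ⟨i⟩
    obtain ⟨r, hr⟩ := i.le
    obtain rfl : U.basicOpen r = V := Subtype.ext hr
    exact f.naturality U.1 U.2 r

/-- the map of presheaves of abelian groups extending the affine data -/
def toPresheafHom : M.presheaf ⟶ N.presheaf :=
  Functor.IsCoverDense.restrictHomEquivHom (G := Scheme.AffineZariskiSite.toOpensFunctor S)
    (K := Opens.grothendieckTopology S) (ℱ := M.presheaf)
    (ℱ' := (⟨N.presheaf, N.isSheaf⟩ : TopCat.Sheaf Ab S.carrier)) f.restrict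

theorem toPresheafHom_restrict :
    (Scheme.AffineZariskiSite.toOpensFunctor S).op.whiskerLeft f.toPresheafHom = f.restrict :=
  (Functor.IsCoverDense.restrictHomEquivHom (G := Scheme.AffineZariskiSite.toOpensFunctor S)
    (K := Opens.grothendieckTopology S) (ℱ := M.presheaf)
    (ℱ' := (⟨N.presheaf, N.isSheaf⟩ : TopCat.Sheaf Ab S.carrier))).symm_apply_apply _

theorem toPresheafHom_app (U : S.Opens) (hU : IsAffineOpen U) :
    f.toPresheafHom.app (op U) = f.app U hU :=
  NatTrans.congr_app f.toPresheafHom_restrict (op ⟨U, hU⟩)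

theorem toPresheafHom_smul (W : S.Opens) (a : Γ(S, W)) (m : Γ(M, W)) :
    f.toPresheafHom.app (op W) (a • m) = a • f.toPresheafHom.app (op W) m := by
  refine section_ext_affine N W _ _ (fun U hU i => ?_)
  have hn := fun x : Γ(M, W) =>
    congrArg (fun k => k.hom x) (f.toPresheafHom.naturality (homOfLE i).op)
  simp only [AddCommGrpCat.hom_comp, AddMonoidHom.coe_comp, Function.comp_apply] at hn
  rw [Scheme.Modules.map_smul]
  erw [← hn, ← hn]
  rw [Scheme.Modules.map_smul, f.toPresheafHom_app U hU]
  exact f.smul U hU _ _

/-- the morphism of modules extending the affine data -/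
def toHom : M ⟶ N :=
  ⟨PresheafOfModules.homMk f.toPresheafHom (fun W a m => f.toPresheafHom_smul W.unop a m)⟩

theorem toHom_app (U : S.Opens) (hU : IsAffineOpen U) : f.toHom.app U = f.app U hU :=
  f.toPresheafHom_app U hU

end AffModHom

end

end Groth.Agent.Helper1.QH
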