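import Mathlib

/-!
# Symmetric algebras: change of rings along semilinear maps
-/

set_option autoImplicit false
set_option linter.style.haveILetI false

namespace Groth.Agent.Helper1.SY

universe u v

noncomputable section

section ext

variable {R : Type*} {M : Type*} [CommRing R] [AddCommGroup M] [Module R M]

/-- ring homomorphisms out of a symmetric algebra are determined by their values on scalars and
generators -/
theorem sym_ringHom_ext {T : Type*} [Semiring T] {φ ψ : SymmetricAlgebra R M →+* T}
    (h1 : ∀ a : R, φ (algebraMap R _ a) = ψ (algebraMap R _ a))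
    (h2 : ∀ m : M, φ (SymmetricAlgebra.ι R M m) = ψ (SymmetricAlgebra.ι R M m)) : φ = ψ := by
  refine RingHom.ext (fun x => ?_)
  induction x using SymmetricAlgebra.induction with
  | algebraMap r => exact h1 r
  | ι x => exact h2 x
  | mul a b ha hb => rw [map_mul, map_mul, ha, hb]
  | add a b ha hb => rw [map_add, map_add, ha, hb]

end ext

section map

variable {R R' : Type*} {M M' : Type*} [CommRing R] [CommRing R'] [AddCommGroup M] [Module R M]
  [AddCommGroup M'] [Module R' M']

/-- the ring homomorphism of symmetric algebras induced by a semilinear map -/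
def symMap (ρ : R →+* R') (r : M →+ M') (hr : ∀ (a : R) (m : M), r (a • m) = ρ a • r m) :
    SymmetricAlgebra R M →+* SymmetricAlgebra R' M' :=
  letI : Algebra R (SymmetricAlgebra R' M') :=
    ((algebraMap R' (SymmetricAlgebra R' M')).comp ρ).toAlgebra
  (SymmetricAlgebra.lift
    ({ toFun := fun m => SymmetricAlgebra.ι R' M' (r m)
       map_add' := fun x y => by rw [map_add, map_add]
       map_smul' := fun a m => by
        rw [hr, map_smul, RingHom.id_apply, Algebra.smul_def, Algebra.smul_def]
        rfl } : M →ₗ[R] SymmetricAlgebra R' M')).toRingHom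

@[simp] theorem symMap_ι (ρ : R →+* R') (r : M →+ M')
    (hr : ∀ (a : R) (m : M), r (a • m) = ρ a • r m) (m : M) :
    symMap ρ r hr (SymmetricAlgebra.ι R M m) = SymmetricAlgebra.ι R' M' (r m) := by
  letI : Algebra R (SymmetricAlgebra R' M') :=
    ((algebraMap R' (SymmetricAlgebra R' M')).comp ρ).toAlgebra
  exact SymmetricAlgebra.lift_ι_apply _ m

@[simp] theorem symMap_algebraMap (ρ : R →+* R') (r : M →+ M')
    (hr : ∀ (a : R) (m : M), r (a • m) = ρ a • r m) (a : R) :
    symMap ρ r hr (algebraMap R _ a) = algebraMap R' _ (ρ a) := by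
  letI : Algebra R (SymmetricAlgebra R' M') :=
    ((algebraMap R' (SymmetricAlgebra R' M')).comp ρ).toAlgebra
  exact AlgHom.commutes _ a

theorem symMap_id : symMap (RingHom.id R) (AddMonoidHom.id M) (fun _ _ => rfl) =
    RingHom.id (SymmetricAlgebra R M) :=
  sym_ringHom_ext (fun a => by simp) (fun m => by simp)

theorem symMap_comp {R'' M'' : Type*} [CommRing R''] [AddCommGroup M''] [Module R'' M'']
    (ρ : R →+* R') (r : M →+ M') (hr : ∀ (a : R) (m : M), r (a • m) = ρ a • r m)
    (ρ' : R' →+* R'') (r' : M' →+ M'') (hr' : ∀ (a : R') (m : M'), r' (a • m) = ρ' a • r' m) :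
    (symMap ρ' r' hr').comp (symMap ρ r hr) =
      symMap (ρ'.comp ρ) (r'.comp r) (fun a m => by
        rw [AddMonoidHom.comp_apply, hr, hr']; rfl) :=
  sym_ringHom_ext (fun a => by simp) (fun m => by simp)

end map

end

end Groth.Agent.Helper1.SY
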