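import Mathlib
import Groth.Agent.Helper1.SY1

/-!
# Symmetric algebras commute with localization away from an element
-/

set_option autoImplicit false
set_option linter.style.haveILetI false

namespace Groth.Agent.Helper1.SY

universe u v

noncomputable section

variable {R : Type*} (R' : Type*) {M M' : Type*} [CommRing R] [CommRing R'] [AddCommGroup M]
  [Module R M]
  [AddCommGroup M'] [Module R' M'] [Algebra R R'] [Module R M'] [IsScalarTower R R' M']
  (a : R) [IsLocalization.Away a R'] (r : M →ₗ[R] M') [IsLocalizedModule (Submonoid.powers a) r]

/-- the comparison map `Sym_R M → Sym_{R'} M'` -/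
def symLocMap : SymmetricAlgebra R M →+* SymmetricAlgebra R' M' :=
  symMap (algebraMap R R') r.toAddMonoidHom (fun c m => by
    change r (c • m) = algebraMap R R' c • r m
    rw [map_smul, algebraMap_smul])

theorem symLocMap_ι (m : M) :
    symLocMap R' r (SymmetricAlgebra.ι R M m) = SymmetricAlgebra.ι R' M' (r m) :=
  symMap_ι _ _ _ m

theorem symLocMap_algebraMap (c : R) :
    symLocMap R' r (algebraMap R _ c) = algebraMap R' _ (algebraMap R R' c) :=
  symMap_algebraMap _ _ _ c

/-- the element inverted -/
abbrev symX : SymmetricAlgebra R M := algebraMap R (SymmetricAlgebra R M) a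

include a in
theorem isUnit_symLocMap_symX : IsUnit (symLocMap R' r (symX (M := M) a)) := by
  rw [symX, symLocMap_algebraMap]
  exact (IsLocalization.Away.algebraMap_isUnit (S := R') a).map _

/-- `L → Sym' ` -/
def symLocBack : Localization.Away (symX (M := M) a) →+* SymmetricAlgebra R' M' :=
  IsLocalization.Away.lift (symX (M := M) a) (g := symLocMap R' r) (isUnit_symLocMap_symX R' a r)

theorem symLocBack_algebraMap (s : SymmetricAlgebra R M) :
    symLocBack R' a r (algebraMap _ (Localization.Away (symX (M := M) a)) s) = symLocMap R' r s :=
  IsLocalization.Away.lift_eq _ _ _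

end

end Groth.Agent.Helper1.SY
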