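import Mathlib
import Groth.Agent.Helper1.SY2

/-!
# Symmetric algebras commute with localization away from an element, part 2
-/

set_option autoImplicit false
set_option linter.style.haveILetI false

namespace Groth.Agent.Helper1.SY

universe u v

noncomputable section

variable {R : Type*} (R' : Type*) {M M' : Type*} [CommRing R] [CommRing R'] [AddCommGroup M]
  [Module R M]
  [AddCommGroup M'] [Module R' M'] [Algebra R R'] [Module R M'] [IsScalarTower R R' M']
  (a : R) [IsLocalization.Away a R'] (r : M →ₗ[R] M') [IsLocalizedModule (Submonoid.powers a) r]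

/-- `R' → L` -/
def ringToLoc : R' →+* Localization.Away (symX (M := M) a) :=
  IsLocalization.Away.lift a
    (g := (algebraMap (SymmetricAlgebra R M) (Localization.Away (symX (M := M) a))).comp
      (algebraMap R (SymmetricAlgebra R M)))
    (by
      change IsUnit (algebraMap _ (Localization.Away (symX (M := M) a)) (symX (M := M) a))
      exact IsLocalization.Away.algebraMap_isUnit _)

theorem ringToLoc_algebraMap (c : R) :
    ringToLoc (M := M) R' a (algebraMap R R' c) =
      algebraMap _ (Localization.Away (symX (M := M) a)) (algebraMap R (SymmetricAlgebra R M) c) :=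
  IsLocalization.Away.lift_eq _ _ _

/-- the `R'`-algebra structure on `L` -/
abbrev algLoc : Algebra R' (Localization.Away (symX (M := M) a)) := (ringToLoc (M := M) R' a).toAlgebra

theorem isScalarTower_loc :
    letI := algLoc (M := M) R' a
    IsScalarTower R R' (Localization.Away (symX (M := M) a)) := by
  letI := algLoc (M := M) R' a
  refine IsScalarTower.of_algebraMap_eq (fun c => ?_)
  rw [IsScalarTower.algebraMap_apply R (SymmetricAlgebra R M)]
  exact (ringToLoc_algebraMap R' a c).symm

/-- `M → L`, `R`-linear -/
def modToLoc₀ : M →ₗ[R] Localization.Away (symX (M := M) a) :=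
  ((Algebra.linearMap (SymmetricAlgebra R M) (Localization.Away (symX (M := M) a))).restrictScalars
    R).comp (SymmetricAlgebra.ι R M)

theorem isUnit_end (s : Submonoid.powers a) :
    IsUnit (algebraMap R (Module.End R (Localization.Away (symX (M := M) a))) s) := by
  obtain ⟨_, n, rfl⟩ := s
  rw [Module.End.isUnit_iff]
  have hu : IsUnit (algebraMap R (Localization.Away (symX (M := M) a)) (a ^ n)) := by
    rw [IsScalarTower.algebraMap_apply R (SymmetricAlgebra R M), map_pow, map_pow]
    exact (IsLocalization.Away.algebraMap_isUnit (symX (M := M) a)).pow n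
  obtain ⟨v, hv⟩ := hu
  refine ⟨fun x y hxy => ?_, fun y => ⟨(↑v⁻¹ : Localization.Away (symX (M := M) a)) * y, ?_⟩⟩
  · simp only [Module.algebraMap_end_apply] at hxy
    rw [Algebra.smul_def, Algebra.smul_def, ← hv] at hxy
    exact v.isUnit.mul_left_cancel hxy
  · simp only [Module.algebraMap_end_apply]
    rw [Algebra.smul_def, ← hv, ← mul_assoc, Units.mul_inv, one_mul]

/-- `M' → L`, `R`-linear -/
def modToLoc₁ : M' →ₗ[R] Localization.Away (symX (M := M) a) :=
  IsLocalizedModule.lift (Submonoid.powers a) r (modToLoc₀ a) (isUnit_end a)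

theorem modToLoc₁_apply (m : M) :
    modToLoc₁ a r (r m) = algebraMap _ _ (SymmetricAlgebra.ι R M m) :=
  IsLocalizedModule.lift_apply (Submonoid.powers a) r (modToLoc₀ a) (isUnit_end a) m

/-- `Sym' → L` -/
def symLocFwd : SymmetricAlgebra R' M' →+* Localization.Away (symX (M := M) a) :=
  letI := algLoc (M := M) R' a
  haveI := isScalarTower_loc (M := M) R' a
  (SymmetricAlgebra.lift
    ((modToLoc₁ a r).extendScalarsOfIsLocalization (Submonoid.powers a) R')).toRingHom

theorem symLocFwd_ι (m' : M') :
    symLocFwd R' a r (SymmetricAlgebra.ι R' M' m') = modToLoc₁ a r m' := by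
  letI := algLoc (M := M) R' a
  haveI := isScalarTower_loc (M := M) R' a
  exact SymmetricAlgebra.lift_ι_apply _ m'

theorem symLocFwd_algebraMap (b : R') :
    symLocFwd R' a r (algebraMap R' _ b) = ringToLoc (M := M) R' a b := by
  letI := algLoc (M := M) R' a
  haveI := isScalarTower_loc (M := M) R' a
  exact AlgHom.commutes _ b

end

end Groth.Agent.Helper1.SY
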