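import Mathlib
import Groth.Agent.Helper1.SY3

/-!
# Symmetric algebras commute with localization away from an element, part 3
-/

set_option autoImplicit false
set_option linter.style.haveILetI false

namespace Groth.Agent.Helper1.SY

universe u v

noncomputable section

variable {R : Type*} (R' : Type*) {M M' : Type*} [CommRing R] [CommRing R'] [AddCommGroup M]
  [Module R M]
  [AddCommGroup M'] [Module R' M'] [Algebra R R'] [Module R M'] [IsScalarTower R R' M']
  (a : R) [IsLocalization.Away a R'] (r : M →ₗ[R] M') [IsLocalizedModule (Submonoid.powers a) r]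

theorem symLocFwd_comp_symLocMap :
    (symLocFwd R' a r).comp (symLocMap R' r) =
      algebraMap (SymmetricAlgebra R M) (Localization.Away (symX (M := M) a)) :=
  sym_ringHom_ext
    (fun c => by
      rw [RingHom.comp_apply, symLocMap_algebraMap, symLocFwd_algebraMap, ringToLoc_algebraMap])
    (fun m => by rw [RingHom.comp_apply, symLocMap_ι, symLocFwd_ι, modToLoc₁_apply])

theorem symLocFwd_comp_back :
    (symLocFwd R' a r).comp (symLocBack R' a r) =
      RingHom.id (Localization.Away (symX (M := M) a)) := by
  apply IsLocalization.ringHom_ext (Submonoid.powers (symX (M := M) a))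
  refine RingHom.ext (fun s => ?_)
  rw [RingHom.comp_apply, RingHom.comp_apply, symLocBack_algebraMap, RingHom.id_comp,
    ← RingHom.comp_apply, symLocFwd_comp_symLocMap]

theorem symLocBack_ringToLoc (b : R') :
    symLocBack R' a r (ringToLoc (M := M) R' a b) = algebraMap R' (SymmetricAlgebra R' M') b := by
  have : (symLocBack R' a r).comp (ringToLoc (M := M) R' a) =
      algebraMap R' (SymmetricAlgebra R' M') := by
    apply IsLocalization.ringHom_ext (Submonoid.powers a)
    refine RingHom.ext (fun c => ?_)
    rw [RingHom.comp_apply, RingHom.comp_apply, ringToLoc_algebraMap, symLocBack_algebraMap,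
      symLocMap_algebraMap, RingHom.comp_apply]
  exact congrArg (fun k => k b) this

theorem modToLoc₁_smul (c : R) (m' : M') :
    modToLoc₁ a r (c • m') = ringToLoc (M := M) R' a (algebraMap R R' c) * modToLoc₁ a r m' := by
  rw [map_smul, Algebra.smul_def, ringToLoc_algebraMap,
    IsScalarTower.algebraMap_apply R (SymmetricAlgebra R M)]

theorem symLocBack_modToLoc₁ (m' : M') :
    symLocBack R' a r (modToLoc₁ a r m') = SymmetricAlgebra.ι R' M' m' := by
  obtain ⟨⟨m, ⟨_, n, rfl⟩⟩, hm⟩ := IsLocalizedModule.surj (Submonoid.powers a) r m'
  change (a ^ n) • m' = r m at hm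
  have hu : IsUnit (algebraMap R' (SymmetricAlgebra R' M') (algebraMap R R' (a ^ n))) := by
    rw [map_pow, map_pow]
    exact ((IsLocalization.Away.algebraMap_isUnit (S := R') a).map _).pow n
  apply hu.mul_left_cancel
  have h1 : algebraMap R' (SymmetricAlgebra R' M') (algebraMap R R' (a ^ n)) *
      symLocBack R' a r (modToLoc₁ a r m') = symLocBack R' a r (modToLoc₁ a r ((a ^ n) • m')) := by
    rw [modToLoc₁_smul R', map_mul, symLocBack_ringToLoc]
  rw [h1, hm, modToLoc₁_apply, symLocBack_algebraMap, symLocMap_ι, ← hm, ← Algebra.smul_def,
    ← map_smul, algebraMap_smul]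

theorem symLocBack_comp_fwd :
    (symLocBack R' a r).comp (symLocFwd R' a r) = RingHom.id (SymmetricAlgebra R' M') :=
  sym_ringHom_ext
    (fun b => by
      rw [RingHom.comp_apply, symLocFwd_algebraMap, symLocBack_ringToLoc, RingHom.id_apply])
    (fun m' => by
      rw [RingHom.comp_apply, symLocFwd_ι, symLocBack_modToLoc₁, RingHom.id_apply])

/-- the symmetric algebra of a localized module is the localization of the symmetric algebra -/
theorem isLocalization_symLocMap :
    letI := (symLocMap R' r).toAlgebra
    IsLocalization.Away (symX (M := M) a) (SymmetricAlgebra R' M') := by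
  letI := (symLocMap R' r).toAlgebra
  let e : Localization.Away (symX (M := M) a) ≃ₐ[SymmetricAlgebra R M] SymmetricAlgebra R' M' :=
    { toFun := symLocBack R' a r
      invFun := symLocFwd R' a r
      left_inv := fun x => congrArg (fun k => k x) (symLocFwd_comp_back R' a r)
      right_inv := fun x => congrArg (fun k => k x) (symLocBack_comp_fwd R' a r)
      map_mul' := map_mul _
      map_add' := map_add _
      commutes' := fun s => symLocBack_algebraMap R' a r s }
  exact IsLocalization.isLocalization_of_algEquiv (Submonoid.powers (symX (M := M) a)) e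

end

end Groth.Agent.Helper1.SY
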