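import Mathlib
import Groth.Agent.Helper1.SY4
import Groth.Agent.Helper4.QcqsMod

/-!
# Sections of a quasi-coherent module over a basic open are a localized module
-/

set_option autoImplicit false
set_option linter.style.haveILetI false

namespace Groth.Agent.Helper1.SY

open CategoryTheory Limits AlgebraicGeometry TopologicalSpace Opposite

universe u

noncomputable section

theorem isLocalizedModule_of_zero_surj {R R' M M' : Type*} [CommRing R] [CommRing R']
    [Algebra R R'] [AddCommGroup M] [Module R M] [AddCommGroup M'] [Module R' M'] [Module R M']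
    [IsScalarTower R R' M'] (a : R) (ha : IsUnit (algebraMap R R' a)) (r : M →ₗ[R] M')
    (hzero : ∀ m, r m = 0 → ∃ n : ℕ, a ^ n • m = 0)
    (hsurj : ∀ t : M', ∃ (n : ℕ) (m : M), (a ^ n) • t = r m) :
    IsLocalizedModule (Submonoid.powers a) r where
  map_units := by
    rintro ⟨_, n, rfl⟩
    rw [Module.End.isUnit_iff]
    obtain ⟨v, hv⟩ := ha.pow n
    rw [← map_pow] at hv
    refine ⟨fun x y hxy => ?_, fun y => ⟨(↑v⁻¹ : R') • y, ?_⟩⟩
    · simp only [Module.algebraMap_end_apply] at hxy
      rw [← algebraMap_smul R' (a ^ n) x, ← algebraMap_smul R' (a ^ n) y, ← hv] at hxy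
      have := congrArg (fun z => (↑v⁻¹ : R') • z) hxy
      simpa [smul_smul] using this
    · simp only [Module.algebraMap_end_apply]
      rw [← algebraMap_smul R' (a ^ n), ← hv, smul_smul, Units.mul_inv, one_smul]
  surj t := by
    obtain ⟨n, m, h⟩ := hsurj t
    exact ⟨⟨m, ⟨a ^ n, n, rfl⟩⟩, h⟩
  exists_of_eq := by
    intro x y hxy
    obtain ⟨n, hn⟩ := hzero (x - y) (by rw [map_sub, hxy, sub_self])
    refine ⟨⟨a ^ n, n, rfl⟩, ?_⟩
    change a ^ n • x = a ^ n • y
    rw [smul_sub, sub_eq_zero] at hn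
    exact hn

variable {S : Scheme.{u}} (E : S.Modules)

/-- restriction of sections as a linear map over the functions of the bigger open -/
def resLin {U V : S.Opens} (i : V ≤ U) :
    letI : Algebra Γ(S, U) Γ(S, V) := (S.presheaf.map (homOfLE i).op).hom.toAlgebra
    letI : Module Γ(S, U) Γ(E, V) := Module.compHom _ (algebraMap Γ(S, U) Γ(S, V))
    Γ(E, U) →ₗ[Γ(S, U)] Γ(E, V) :=
  letI : Algebra Γ(S, U) Γ(S, V) := (S.presheaf.map (homOfLE i).op).hom.toAlgebra
  letI : Module Γ(S, U) Γ(E, V) := Module.compHom _ (algebraMap Γ(S, U) Γ(S, V))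
  { toFun := fun m => E.presheaf.map (homOfLE i).op m
    map_add' := fun x y => map_add _ x y
    map_smul' := fun c m => Scheme.Modules.map_smul E (homOfLE i) c m }

theorem isLocalizedModule_resLin [E.IsQuasicoherent] {U : S.Opens} (hU : IsAffineOpen U)
    (f : Γ(S, U)) :
    letI : Algebra Γ(S, U) Γ(S, S.basicOpen f) :=
      (S.presheaf.map (homOfLE (S.basicOpen_le f)).op).hom.toAlgebra
    letI : Module Γ(S, U) Γ(E, S.basicOpen f) :=
      Module.compHom _ (algebraMap Γ(S, U) Γ(S, S.basicOpen f))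
    IsLocalizedModule (Submonoid.powers f) (resLin E (S.basicOpen_le f)) := by
  letI : Algebra Γ(S, U) Γ(S, S.basicOpen f) :=
    (S.presheaf.map (homOfLE (S.basicOpen_le f)).op).hom.toAlgebra
  letI : Module Γ(S, U) Γ(E, S.basicOpen f) :=
    Module.compHom _ (algebraMap Γ(S, U) Γ(S, S.basicOpen f))
  haveI : IsScalarTower Γ(S, U) Γ(S, S.basicOpen f) Γ(E, S.basicOpen f) :=
    ⟨fun x y z => by
      change (x • y) • z = algebraMap Γ(S, U) Γ(S, S.basicOpen f) x • (y • z)
      rw [Algebra.smul_def, mul_smul]⟩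
  have hloc := Groth.Agent.Helper4.QcqsMod.isLocalizingOn_of_isAffineOpen E hU
  refine isLocalizedModule_of_zero_surj (R' := Γ(S, S.basicOpen f)) f
    (S.toRingedSpace.isUnit_res_basicOpen f) _ ?_ ?_
  · intro m hm
    have hm' : E.presheaf.map (homOfLE (S.basicOpen_le f)).op m = 0 := hm
    exact hloc.zero f m hm'
  · intro t
    obtain ⟨n, m, h⟩ := hloc.surj f t
    refine ⟨n, m, ?_⟩
    exact h

end

end Groth.Agent.Helper1.SY
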