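import Mathlib
import Groth.Agent.Helper1.SY5
import Groth.Agent.Helper1.AQ2

/-!
# The symmetric algebra of a quasi-coherent module, on the affine site
-/

set_option autoImplicit false
set_option linter.style.haveILetI false

namespace Groth.Agent.Helper1.SY

open CategoryTheory Limits AlgebraicGeometry TopologicalSpace Opposite

universe u

noncomputable section

variable {S : Scheme.{u}} (E : S.Modules)

/-- the restriction map of symmetric algebras of sections -/
def symRes {U V : S.Opens} (i : V ≤ U) :
    SymmetricAlgebra Γ(S, U) Γ(E, U) →+* SymmetricAlgebra Γ(S, V) Γ(E, V) :=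
  symMap (S.presheaf.map (homOfLE i).op).hom (E.presheaf.map (homOfLE i).op).hom
    (fun c m => Scheme.Modules.map_smul E (homOfLE i) c m)

theorem symRes_ι {U V : S.Opens} (i : V ≤ U) (m : Γ(E, U)) :
    symRes E i (SymmetricAlgebra.ι _ _ m) =
      SymmetricAlgebra.ι _ _ (E.presheaf.map (homOfLE i).op m) :=
  symMap_ι _ _ _ m

theorem symRes_algebraMap {U V : S.Opens} (i : V ≤ U) (c : Γ(S, U)) :
    symRes E i (algebraMap _ _ c) = algebraMap _ _ (S.presheaf.map (homOfLE i).op c) :=
  symMap_algebraMap _ _ _ c

/-- the symmetric algebra on the affine site -/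
def symFunctor : S.AffineZariskiSiteᵒᵖ ⥤ CommRingCat.{u} where
  obj U := CommRingCat.of (SymmetricAlgebra Γ(S, U.unop.toOpens) Γ(E, U.unop.toOpens))
  map {U V} i := CommRingCat.ofHom (symRes E (Scheme.AffineZariskiSite.toOpens_mono i.unop.le))
  map_id U := by
    ext1
    refine sym_ringHom_ext (fun c => ?_) (fun m => ?_)
    · rw [CommRingCat.hom_ofHom, symRes_algebraMap]
      have : S.presheaf.map (homOfLE (Scheme.AffineZariskiSite.toOpens_mono
          (𝟙 U : U ⟶ U).unop.le)).op = 𝟙 _ := S.presheaf.map_id _
      rw [this]; rfl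
    · rw [CommRingCat.hom_ofHom, symRes_ι]
      have : E.presheaf.map (homOfLE (Scheme.AffineZariskiSite.toOpens_mono
          (𝟙 U : U ⟶ U).unop.le)).op = 𝟙 _ := E.presheaf.map_id _
      rw [this]; rfl
  map_comp {U V W} i k := by
    ext1
    refine sym_ringHom_ext (fun c => ?_) (fun m => ?_)
    · rw [CommRingCat.hom_comp, CommRingCat.hom_ofHom, CommRingCat.hom_ofHom,
        CommRingCat.hom_ofHom, RingHom.comp_apply, symRes_algebraMap, symRes_algebraMap,
        symRes_algebraMap, ← ConcreteCategory.comp_apply, ← Functor.map_comp]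
      rfl
    · rw [CommRingCat.hom_comp, CommRingCat.hom_ofHom, CommRingCat.hom_ofHom,
        CommRingCat.hom_ofHom, RingHom.comp_apply, symRes_ι, symRes_ι,
        symRes_ι, ← ConcreteCategory.comp_apply, ← Functor.map_comp]
      rfl

/-- the structure map -/
def symStr : (Scheme.AffineZariskiSite.toOpensFunctor S).op ⋙ S.presheaf ⟶ symFunctor E where
  app U := CommRingCat.ofHom (algebraMap Γ(S, U.unop.toOpens)
    (SymmetricAlgebra Γ(S, U.unop.toOpens) Γ(E, U.unop.toOpens)))
  naturality {U V} i := by
    ext c
    exact (symRes_algebraMap E (Scheme.AffineZariskiSite.toOpens_mono i.unop.le) c).symm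

end

end Groth.Agent.Helper1.SY
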