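import Mathlib
import Groth.Agent.Helper1.SY6

/-!
# The symmetric algebra of a quasi-coherent module, on the affine site: localization
-/

set_option autoImplicit false
set_option linter.style.haveILetI false

namespace Groth.Agent.Helper1.SY

open CategoryTheory Limits AlgebraicGeometry TopologicalSpace Opposite

universe u

noncomputable section

variable {S : Scheme.{u}} (E : S.Modules)

theorem symStr_coequifibered [E.IsQuasicoherent] : (symStr E).Coequifibered := by
  rw [Scheme.AffineZariskiSite.coequifibered_iff_forall_isLocalizationAway]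
  intro U f
  letI : Algebra Γ(S, U.toOpens) Γ(S, S.basicOpen f) :=
    (S.presheaf.map (homOfLE (S.basicOpen_le f)).op).hom.toAlgebra
  letI : Module Γ(S, U.toOpens) Γ(E, S.basicOpen f) :=
    Module.compHom _ (algebraMap Γ(S, U.toOpens) Γ(S, S.basicOpen f))
  haveI : IsScalarTower Γ(S, U.toOpens) Γ(S, S.basicOpen f) Γ(E, S.basicOpen f) :=
    ⟨fun x y z => by
      change (x • y) • z = algebraMap Γ(S, U.toOpens) Γ(S, S.basicOpen f) x • (y • z)
      rw [Algebra.smul_def, mul_smul]⟩
  haveI : IsLocalization.Away f Γ(S, S.basicOpen f) := U.2.isLocalization_basicOpen f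
  haveI := isLocalizedModule_resLin E U.2 f
  exact isLocalization_symLocMap Γ(S, S.basicOpen f) f (resLin E (S.basicOpen_le f))

end

end Groth.Agent.Helper1.SY
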