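import Mathlib
import Groth.Agent.Helper1.SY7
import Groth.Agent.Helper1.QH5

/-!
# The symmetric algebra of a quasi-coherent module as a quasi-coherent algebra
-/

set_option autoImplicit false
set_option linter.style.haveILetI false

namespace Groth.Agent.Helper1.SY

open CategoryTheory Limits AlgebraicGeometry TopologicalSpace Opposite RelSpec
  Groth.Agent.Helper1.AQ Groth.Agent.Helper1.QH

universe u

noncomputable section

variable {S : Scheme.{u}} (E : S.Modules) [E.IsQuasicoherent]

/-- the symmetric algebra as a quasi-coherent algebra -/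
def symAlg : QCAlg S := AQ.alg (symStr_coequifibered E)

variable (U : S.Opens) (hU : IsAffineOpen U)

/-- sections over an affine open: `Sym(E(U)) → Sym(E)(U)` -/
def symSec : SymmetricAlgebra Γ(S, U) Γ(E, U) →+* (symAlg E).presheaf.obj (op U) :=
  (inv (gammaAff (symStr_coequifibered E) U hU)).hom

/-- sections over an affine open: `Sym(E)(U) → Sym(E(U))` -/
def symSecInv : (symAlg E).presheaf.obj (op U) →+* SymmetricAlgebra Γ(S, U) Γ(E, U) :=
  (gammaAff (symStr_coequifibered E) U hU).hom

theorem symSecInv_symSec (x : SymmetricAlgebra Γ(S, U) Γ(E, U)) :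
    symSecInv E U hU (symSec E U hU x) = x := by
  have := congrArg (fun k => k.hom x)
    (IsIso.inv_hom_id (gammaAff (symStr_coequifibered E) U hU))
  exact this

theorem symSec_symSecInv (y : (symAlg E).presheaf.obj (op U)) :
    symSec E U hU (symSecInv E U hU y) = y := by
  have := congrArg (fun k => k.hom y)
    (IsIso.hom_inv_id (gammaAff (symStr_coequifibered E) U hU))
  exact this

theorem symSecInv_str (c : Γ(S, U)) :
    symSecInv E U hU (((symAlg E).str.app (op U)).hom c) = algebraMap _ _ c := by
  have := congrArg (fun k => k.hom c) (π_app_gammaAff (symStr_coequifibered E) U hU)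
  exact this

theorem symSec_algebraMap (c : Γ(S, U)) :
    symSec E U hU (algebraMap _ _ c) = ((symAlg E).str.app (op U)).hom c := by
  rw [← symSecInv_str E U hU c, symSec_symSecInv]

theorem symSecInv_res (r : Γ(S, U)) (y : (symAlg E).presheaf.obj (op U)) :
    symSecInv E (S.basicOpen r) (hU.basicOpen r)
        (((symAlg E).presheaf.map (homOfLE (S.basicOpen_le r)).op).hom y) =
      symRes E (S.basicOpen_le r) (symSecInv E U hU y) := by
  have := congrArg (fun k => k.hom y) (gammaAff_naturality (symStr_coequifibered E)
    (homOfLE ((aff U hU).basicOpen_le r)))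
  exact this

theorem symSec_res (r : Γ(S, U)) (x : SymmetricAlgebra Γ(S, U) Γ(E, U)) :
    ((symAlg E).presheaf.map (homOfLE (S.basicOpen_le r)).op).hom (symSec E U hU x) =
      symSec E (S.basicOpen r) (hU.basicOpen r) (symRes E (S.basicOpen_le r) x) := by
  have h := symSecInv_res E U hU r (symSec E U hU x)
  rw [symSecInv_symSec] at h
  rw [← h, symSec_symSecInv]

end

end Groth.Agent.Helper1.SY
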