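import Mathlib
import Groth.Agent.Helper1.SY8

/-!
# The symmetric algebra of a quasi-coherent module: the universal property
-/

set_option autoImplicit false
set_option linter.style.haveILetI false

namespace Groth.Agent.Helper1.SY

open CategoryTheory Limits AlgebraicGeometry TopologicalSpace Opposite RelSpec
  Groth.Agent.Helper1.AQ Groth.Agent.Helper1.QH

universe u

noncomputable section

variable {S : Scheme.{u}} (E : S.Modules) [E.IsQuasicoherent]

/-- the canonical map `E → Sym(E)` on affine opens -/
def symJAff : AffModHom E (symAlg E).toModule where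
  app U hU := AddCommGrpCat.ofHom ((symSec E U hU).toAddMonoidHom.comp
    (SymmetricAlgebra.ι Γ(S, U) Γ(E, U)).toAddMonoidHom)
  naturality U hU r := by
    ext m
    change symSec E _ _ (SymmetricAlgebra.ι _ _ (E.presheaf.map _ m)) =
      ((symAlg E).presheaf.map _).hom (symSec E U hU (SymmetricAlgebra.ι _ _ m))
    rw [symSec_res, symRes_ι]
  smul U hU a m := by
    change symSec E U hU (SymmetricAlgebra.ι _ _ (a • m)) =
      ((symAlg E).str.app (op U)).hom a * symSec E U hU (SymmetricAlgebra.ι _ _ m)
    rw [map_smul, Algebra.smul_def, map_mul, symSec_algebraMap]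

/-- the canonical map `E → Sym(E)` -/
def symJ : E ⟶ (symAlg E).toModule := (symJAff E).toHom

theorem symJ_app (U : S.Opens) (hU : IsAffineOpen U) (m : Γ(E, U)) :
    (symJ E).app U m = symSec E U hU (SymmetricAlgebra.ι _ _ m) := by
  rw [symJ, AffModHom.toHom_app _ U hU]
  rfl

end

end Groth.Agent.Helper1.SY
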