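import Mathlib
import Groth.Agent.Helper1.SY9

/-!
# The symmetric algebra of a quasi-coherent module: the universal property, part 2
-/

set_option autoImplicit false
set_option linter.style.haveILetI false

namespace Groth.Agent.Helper1.SY

open CategoryTheory Limits AlgebraicGeometry TopologicalSpace Opposite RelSpec
  Groth.Agent.Helper1.AQ Groth.Agent.Helper1.QH

universe u

noncomputable section

variable {S : Scheme.{u}} {E : S.Modules} (B : QCAlg S) (φ : E ⟶ B.toModule)

/-- `φ_U` as a linear map into the algebra `B(U)` -/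
def linOf (U : S.Opens) :
    letI : Algebra Γ(S, U) (B.presheaf.obj (op U)) := (B.str.app (op U)).hom.toAlgebra
    Γ(E, U) →ₗ[Γ(S, U)] B.presheaf.obj (op U) :=
  letI : Algebra Γ(S, U) (B.presheaf.obj (op U)) := (B.str.app (op U)).hom.toAlgebra
  { toFun := fun m => φ.app U m
    map_add' := fun x y => map_add _ x y
    map_smul' := fun c m => Scheme.Modules.Hom.app_smul φ c m }

/-- the extension of `φ_U` to the symmetric algebra -/
def symLift (U : S.Opens) : SymmetricAlgebra Γ(S, U) Γ(E, U) →+* B.presheaf.obj (op U) :=
  letI : Algebra Γ(S, U) (B.presheaf.obj (op U)) := (B.str.app (op U)).hom.toAlgebra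
  (SymmetricAlgebra.lift (linOf B φ U)).toRingHom

theorem symLift_ι (U : S.Opens) (m : Γ(E, U)) :
    symLift B φ U (SymmetricAlgebra.ι _ _ m) = φ.app U m := by
  letI : Algebra Γ(S, U) (B.presheaf.obj (op U)) := (B.str.app (op U)).hom.toAlgebra
  exact SymmetricAlgebra.lift_ι_apply _ m

theorem symLift_algebraMap (U : S.Opens) (c : Γ(S, U)) :
    symLift B φ U (algebraMap _ _ c) = (B.str.app (op U)).hom c := by
  letI : Algebra Γ(S, U) (B.presheaf.obj (op U)) := (B.str.app (op U)).hom.toAlgebra
  exact AlgHom.commutes _ c

theorem symLift_res {U V : S.Opens} (i : V ≤ U) (x : SymmetricAlgebra Γ(S, U) Γ(E, U)) :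
    (B.presheaf.map (homOfLE i).op).hom (symLift B φ U x) = symLift B φ V (symRes E i x) := by
  have : (B.presheaf.map (homOfLE i).op).hom.comp (symLift B φ U) =
      (symLift B φ V).comp (symRes E i) := by
    refine sym_ringHom_ext (fun c => ?_) (fun m => ?_)
    · rw [RingHom.comp_apply, RingHom.comp_apply, symLift_algebraMap, symRes_algebraMap,
        symLift_algebraMap]
      exact congrArg (fun k => k.hom c) (B.str.naturality (homOfLE i).op).symm
    · rw [RingHom.comp_apply, RingHom.comp_apply, symLift_ι, symRes_ι, symLift_ι]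
      have := congrArg (fun k => k.hom m) (φ.mapPresheaf.naturality (homOfLE i).op)
      exact this.symm
  exact congrArg (fun k => k x) this

end

end Groth.Agent.Helper1.SY
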