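import Mathlib
import Groth.Agent.Helper1.SY10

/-!
# The symmetric algebra of a quasi-coherent module: the universal property, part 3
-/

set_option autoImplicit false
set_option linter.style.haveILetI false

namespace Groth.Agent.Helper1.SY

open CategoryTheory Limits AlgebraicGeometry TopologicalSpace Opposite RelSpec
  Groth.Agent.Helper1.AQ Groth.Agent.Helper1.QH

universe u

noncomputable section

variable {S : Scheme.{u}} {E : S.Modules} [E.IsQuasicoherent] (B : QCAlg S) (φ : E ⟶ B.toModule)

/-- the extension of `φ` to the symmetric algebra, on affine opens -/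
def symDescAff : AffHomB (symAlg E) B where
  app U hU := CommRingCat.ofHom ((symLift B φ U).comp (symSecInv E U hU))
  naturality U hU r := by
    ext y
    change symLift B φ (S.basicOpen r) (symSecInv E (S.basicOpen r) (hU.basicOpen r)
        (((symAlg E).presheaf.map (homOfLE (S.basicOpen_le r)).op).hom y)) =
      (B.presheaf.map (homOfLE (S.basicOpen_le r)).op).hom (symLift B φ U (symSecInv E U hU y))
    rw [symSecInv_res E U hU r y, ← symLift_res]
  str U hU := by
    ext c
    change symLift B φ U (symSecInv E U hU (((symAlg E).str.app (op U)).hom c)) =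
      (B.str.app (op U)).hom c
    rw [symSecInv_str, symLift_algebraMap]

/-- the extension of `φ` to the symmetric algebra -/
def symDesc : symAlg E ⟶ B := (symDescAff B φ).toHom

theorem symDesc_app (U : S.Opens) (hU : IsAffineOpen U) (y : (symAlg E).presheaf.obj (op U)) :
    ((symDesc B φ).hom.app (op U)).hom y = symLift B φ U (symSecInv E U hU y) := by
  rw [symDesc, AffHomB.toHom_app _ U hU]
  rfl

theorem symJ_symDesc : symJ E ≫ QCAlg.Hom.toModuleMap (symDesc B φ) = φ := by
  apply modHom_ext_affine
  intro U hU
  ext m
  change ((symDesc B φ).hom.app (op U)).hom ((symJ E).app U m) = φ.app U m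
  rw [symJ_app E U hU, symDesc_app B φ U hU, symSecInv_symSec, symLift_ι]

theorem symDesc_unique (ψ : symAlg E ⟶ B) (h : symJ E ≫ QCAlg.Hom.toModuleMap ψ = φ) :
    ψ = symDesc B φ := by
  apply hom_ext_affine
  intro U hU
  ext y
  rw [symDesc_app B φ U hU]
  have hc : (ψ.hom.app (op U)).hom.comp (symSec E U hU) = symLift B φ U := by
    refine sym_ringHom_ext (fun c => ?_) (fun m => ?_)
    · rw [RingHom.comp_apply, symSec_algebraMap, symLift_algebraMap, hom_str_apply]
    · rw [RingHom.comp_apply, symLift_ι, ← symJ_app E U hU, ← h]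
      rfl
  rw [← hc, RingHom.comp_apply, symSec_symSecInv]

variable (E) in
/-- `Sym(E)` with `E → Sym(E)` is the symmetric algebra of `E` -/
theorem isSymAlg_symAlg : IsSymAlg E (symAlg E) (symJ E) :=
  fun B φ => ⟨symDesc B φ, symJ_symDesc B φ, fun ψ h => symDesc_unique B φ ψ h⟩

end

end Groth.Agent.Helper1.SY
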