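import Mathlib
import Groth.Agent.Helper1.SY11

/-!
# The structure theorem: sections of a symmetric algebra over affine opens
-/

set_option autoImplicit false
set_option linter.style.haveILetI false

namespace Groth.Agent.Helper1.SY

open CategoryTheory Limits AlgebraicGeometry TopologicalSpace Opposite RelSpec
  Groth.Agent.Helper1.AQ Groth.Agent.Helper1.QH

universe u

noncomputable section

variable {S : Scheme.{u}} {E : S.Modules} [E.IsQuasicoherent] {A : QCAlg S} {j : E ⟶ A.toModule}
  (hA : IsSymAlg E A j)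

theorem toModuleMap_comp {A B C : QCAlg S} (f : A ⟶ B) (g : B ⟶ C) :
    QCAlg.Hom.toModuleMap (f ≫ g) = QCAlg.Hom.toModuleMap f ≫ QCAlg.Hom.toModuleMap g := rfl

theorem toModuleMap_id (A : QCAlg S) : QCAlg.Hom.toModuleMap (𝟙 A) = 𝟙 A.toModule := rfl

include hA in
/-- the comparison `Sym(E) → A` is an isomorphism -/
theorem symDesc_comp_inv :
    ∃ ψ : A ⟶ symAlg E, ψ ≫ symDesc A j = 𝟙 A ∧ symDesc A j ≫ ψ = 𝟙 (symAlg E) := by
  obtain ⟨ψ, hψ, -⟩ := hA (symAlg E) (symJ E)
  refine ⟨ψ, ?_, ?_⟩
  · obtain ⟨χ, -, hχ⟩ := hA A j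
    rw [hχ (ψ ≫ symDesc A j) (by
      change j ≫ QCAlg.Hom.toModuleMap (ψ ≫ symDesc A j) = j
      rw [toModuleMap_comp, ← Category.assoc, hψ, symJ_symDesc]),
      hχ (𝟙 A) (by
      change j ≫ QCAlg.Hom.toModuleMap (𝟙 A) = j
      rw [toModuleMap_id, Category.comp_id])]
  · rw [symDesc_unique (symAlg E) (symJ E) (symDesc A j ≫ ψ) (by
      rw [toModuleMap_comp, ← Category.assoc, symJ_symDesc, hψ]),
      ← symDesc_unique (symAlg E) (symJ E) (𝟙 _) (by rw [toModuleMap_id, Category.comp_id])]

include hA in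
theorem symDesc_app_bijective (U : S.Opens) :
    Function.Bijective ((symDesc A j).hom.app (op U)).hom := by
  obtain ⟨ψ, h1, h2⟩ := symDesc_comp_inv hA
  have e1 : ∀ y, ((symDesc A j).hom.app (op U)).hom ((ψ.hom.app (op U)).hom y) = y := fun y => by
    have := congrArg (fun k : A ⟶ A => (k.hom.app (op U)).hom y) h1
    exact this
  have e2 : ∀ y, (ψ.hom.app (op U)).hom (((symDesc A j).hom.app (op U)).hom y) = y := fun y => by
    have := congrArg (fun k : symAlg E ⟶ symAlg E => (k.hom.app (op U)).hom y) h2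
    exact this
  exact ⟨Function.LeftInverse.injective e2, Function.RightInverse.surjective e1⟩

include hA in
/-- STRUCTURE THEOREM: over an affine open `U`, the algebra `A(U)` with `j_U` is the symmetric
algebra of the `Γ(U)`-module `E(U)`. -/
theorem symLift_bijective (U : S.Opens) (hU : IsAffineOpen U) :
    Function.Bijective (symLift A j U) := by
  have h : ∀ x, symLift A j U x = ((symDesc A j).hom.app (op U)).hom (symSec E U hU x) := fun x => by
    rw [symDesc_app A j U hU, symSecInv_symSec]
  have hb := symDesc_app_bijective hA U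
  constructor
  · intro x y hxy
    rw [h, h] at hxy
    have := hb.1 hxy
    have := congrArg (symSecInv E U hU) this
    rwa [symSecInv_symSec, symSecInv_symSec] at this
  · intro y
    obtain ⟨z, hz⟩ := hb.2 y
    exact ⟨symSecInv E U hU z, by rw [h, symSec_symSecInv, hz]⟩

end

end Groth.Agent.Helper1.SY
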