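import Mathlib
import Groth.Agent.Helper1.SY12
import Groth.Agent.Helper4.SecDict

/-!
# Finiteness of symmetric algebras
-/

set_option autoImplicit false
set_option linter.style.haveILetI false

namespace Groth.Agent.Helper1.SY

open CategoryTheory Limits AlgebraicGeometry TopologicalSpace Opposite RelSpec
  Groth.Agent.Helper1.AQ Groth.Agent.Helper1.QH

universe u

noncomputable section

theorem sym_finiteType {R M : Type*} [CommRing R] [AddCommGroup M] [Module R M]
    [Module.Finite R M] : Algebra.FiniteType R (SymmetricAlgebra R M) := by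
  classical
  obtain ⟨s, hs⟩ := (Module.finite_def.mp (inferInstance : Module.Finite R M))
  refine ⟨⟨s.image (SymmetricAlgebra.ι R M), ?_⟩⟩
  rw [eq_top_iff]
  intro x _
  induction x using SymmetricAlgebra.induction with
  | algebraMap r => exact Subalgebra.algebraMap_mem _ r
  | ι m =>
    have hm : m ∈ Submodule.span R (s : Set M) := by rw [hs]; trivial
    refine Submodule.span_induction (p := fun m _ => SymmetricAlgebra.ι R M m ∈
      Algebra.adjoin R ((s.image (SymmetricAlgebra.ι R M) : Finset _) : Set (SymmetricAlgebra R M)))
      ?_ ?_ ?_ ?_ hm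
    · intro y hy
      exact Algebra.subset_adjoin (by
        rw [Finset.coe_image]; exact ⟨y, hy, rfl⟩)
    · rw [map_zero]; exact Subalgebra.zero_mem _
    · intro a b _ _ ha hb
      rw [map_add]; exact Subalgebra.add_mem _ ha hb
    · intro c a _ ha
      rw [map_smul]; exact Subalgebra.smul_mem _ ha c
  | mul a b ha hb => exact Subalgebra.mul_mem _ (ha trivial) (hb trivial)
  | add a b ha hb => exact Subalgebra.add_mem _ (ha trivial) (hb trivial)

variable {S : Scheme.{u}} {E : S.Modules} [E.IsQuasicoherent] {A : QCAlg S} {j : E ⟶ A.toModule}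
  (hA : IsSymAlg E A j)

include hA in
theorem str_finiteType_of_finite (U : S.Opens) (hU : IsAffineOpen U)
    [Module.Finite Γ(S, U) Γ(E, U)] : (A.str.app (op U)).hom.FiniteType := by
  have h1 : (A.str.app (op U)).hom =
      (symLift A j U).comp (algebraMap Γ(S, U) (SymmetricAlgebra Γ(S, U) Γ(E, U))) := by
    ext c
    rw [RingHom.comp_apply, symLift_algebraMap]
  rw [h1]
  refine RingHom.FiniteType.comp (RingHom.FiniteType.of_surjective _ (symLift_bijective hA U hU).2) ?_
  exact (RingHom.finiteType_algebraMap).mpr sym_finiteType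

end

end Groth.Agent.Helper1.SY
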