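import Mathlib
import Groth.Agent.Helper1.SY13
import Groth.Agent.Helper4.QcohEpi

/-!
# Surjections of symmetric algebras
-/

set_option autoImplicit false
set_option linter.style.haveILetI false

namespace Groth.Agent.Helper1.SY

open CategoryTheory Limits AlgebraicGeometry TopologicalSpace Opposite RelSpec
  Groth.Agent.Helper1.AQ Groth.Agent.Helper1.QH

universe u

noncomputable section

theorem symMap_surjective {R R' M M' : Type*} [CommRing R] [CommRing R'] [AddCommGroup M]
    [Module R M] [AddCommGroup M'] [Module R' M'] (ρ : R →+* R') (r : M →+ M')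
    (hr : ∀ (a : R) (m : M), r (a • m) = ρ a • r m) (hρ : Function.Surjective ρ)
    (hr' : Function.Surjective r) : Function.Surjective (symMap ρ r hr) := by
  intro y
  induction y using SymmetricAlgebra.induction with
  | algebraMap c =>
    obtain ⟨a, rfl⟩ := hρ c
    exact ⟨algebraMap _ _ a, symMap_algebraMap _ _ _ a⟩
  | ι m' =>
    obtain ⟨m, rfl⟩ := hr' m'
    exact ⟨SymmetricAlgebra.ι _ _ m, symMap_ι _ _ _ m⟩
  | mul a b ha hb =>
    obtain ⟨x, rfl⟩ := ha
    obtain ⟨y, rfl⟩ := hb
    exact ⟨x * y, map_mul _ _ _⟩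
  | add a b ha hb =>
    obtain ⟨x, rfl⟩ := ha
    obtain ⟨y, rfl⟩ := hb
    exact ⟨x + y, map_add _ _ _⟩

variable {S : Scheme.{u}} {E F : S.Modules} [E.IsQuasicoherent] [F.IsQuasicoherent]
  {A B : QCAlg S} {j : E ⟶ A.toModule} {k : F ⟶ B.toModule}
  (hA : IsSymAlg E A j) (hB : IsSymAlg F B k) (u : E ⟶ F) (ψ : A ⟶ B)
  (hψ : j ≫ QCAlg.Hom.toModuleMap ψ = u ≫ k)

/-- the map of symmetric algebras of sections induced by a map of modules -/
def symMapOf (U : S.Opens) :
    SymmetricAlgebra Γ(S, U) Γ(E, U) →+* SymmetricAlgebra Γ(S, U) Γ(F, U) :=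
  symMap (RingHom.id _) (u.app U).hom (fun a m => Scheme.Modules.Hom.app_smul u a m)

include hψ in
theorem hom_comp_symLift (U : S.Opens) :
    (ψ.hom.app (op U)).hom.comp (symLift A j U) = (symLift B k U).comp (symMapOf u U) := by
  refine sym_ringHom_ext (fun c => ?_) (fun m => ?_)
  · rw [RingHom.comp_apply, RingHom.comp_apply, symLift_algebraMap, symMapOf, symMap_algebraMap,
      RingHom.id_apply, symLift_algebraMap, hom_str_apply]
  · rw [RingHom.comp_apply, RingHom.comp_apply, symLift_ι, symMapOf, symMap_ι, symLift_ι]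
    have := congrArg (fun f : E ⟶ B.toModule => f.app U m) hψ
    exact this

include hB hψ in
theorem hom_app_surjective_of_epi [Epi u] (U : S.Opens) (hU : IsAffineOpen U) :
    Function.Surjective (ψ.hom.app (op U)).hom := by
  have h1 : Function.Surjective ((symLift B k U).comp (symMapOf u U)) := by
    rw [RingHom.coe_comp]
    refine (symLift_bijective hB U hU).2.comp (symMap_surjective _ _ _ (fun x => ⟨x, rfl⟩) ?_)
    exact Groth.Agent.Helper4.QcohEpi.app_surjective_of_epi u hU
  rw [← hom_comp_symLift u ψ hψ U, RingHom.coe_comp] at h1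
  exact Function.Surjective.of_comp h1

end

end Groth.Agent.Helper1.SY
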