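import Mathlib
import Groth.Agent.Helper1.SY14

/-!
# Ring-level universal property of the sections of a symmetric algebra over an affine open
-/

set_option autoImplicit false
set_option linter.style.haveILetI false

namespace Groth.Agent.Helper1.SY

open CategoryTheory Limits AlgebraicGeometry TopologicalSpace Opposite RelSpec
  Groth.Agent.Helper1.AQ Groth.Agent.Helper1.QH

universe u

noncomputable section

variable {S : Scheme.{u}} {E : S.Modules} [E.IsQuasicoherent] {A : QCAlg S} {j : E ⟶ A.toModule}
  (hA : IsSymAlg E A j) (U : S.Opens) (hU : IsAffineOpen U)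

include hA hU in
/-- ring homomorphisms out of `A(U)` are determined on the structure map and on `j` -/
theorem secHom_ext {T : Type*} [Semiring T] {f g : A.presheaf.obj (op U) →+* T}
    (h1 : ∀ c : Γ(S, U), f ((A.str.app (op U)).hom c) = g ((A.str.app (op U)).hom c))
    (h2 : ∀ m : Γ(E, U), f (j.app U m) = g (j.app U m)) : f = g := by
  have hc : f.comp (symLift A j U) = g.comp (symLift A j U) := by
    refine sym_ringHom_ext (fun c => ?_) (fun m => ?_)
    · rw [RingHom.comp_apply, RingHom.comp_apply, symLift_algebraMap]; exact h1 c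
    · rw [RingHom.comp_apply, RingHom.comp_apply, symLift_ι]; exact h2 m
  refine RingHom.ext (fun y => ?_)
  obtain ⟨x, rfl⟩ := (symLift_bijective hA U hU).2 y
  exact congrArg (fun k => k x) hc

/-- the inverse of the comparison `Sym(E(U)) → A(U)` -/
def secEquiv : SymmetricAlgebra Γ(S, U) Γ(E, U) ≃+* A.presheaf.obj (op U) :=
  RingEquiv.ofBijective (symLift A j U) (symLift_bijective hA U hU)

/-- the ring homomorphism out of `A(U)` extending a semilinear map on `E(U)` -/
def secDesc {T : Type u} [CommRing T] (s : Γ(S, U) →+* T) (φ : Γ(E, U) →+ T)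
    (hφ : ∀ (c : Γ(S, U)) (m : Γ(E, U)), φ (c • m) = s c * φ m) :
    A.presheaf.obj (op U) →+* T :=
  letI : Algebra Γ(S, U) T := s.toAlgebra
  ((SymmetricAlgebra.lift ({ toFun := φ
                             map_add' := map_add φ
                             map_smul' := fun c m => by
                              rw [hφ, RingHom.id_apply, Algebra.smul_def]; rfl } :
      Γ(E, U) →ₗ[Γ(S, U)] T)).toRingHom).comp (secEquiv hA U hU).symm.toRingHom

theorem secDesc_str {T : Type u} [CommRing T] (s : Γ(S, U) →+* T) (φ : Γ(E, U) →+ T)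
    (hφ : ∀ (c : Γ(S, U)) (m : Γ(E, U)), φ (c • m) = s c * φ m) (c : Γ(S, U)) :
    secDesc hA U hU s φ hφ ((A.str.app (op U)).hom c) = s c := by
  letI : Algebra Γ(S, U) T := s.toAlgebra
  have h1 : (secEquiv hA U hU).symm ((A.str.app (op U)).hom c) = algebraMap _ _ c := by
    rw [RingEquiv.symm_apply_eq]
    exact (symLift_algebraMap A j U c).symm
  rw [secDesc, RingHom.comp_apply]
  erw [h1]
  exact AlgHom.commutes _ c

theorem secDesc_j {T : Type u} [CommRing T] (s : Γ(S, U) →+* T) (φ : Γ(E, U) →+ T)
    (hφ : ∀ (c : Γ(S, U)) (m : Γ(E, U)), φ (c • m) = s c * φ m) (m : Γ(E, U)) :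
    secDesc hA U hU s φ hφ (j.app U m) = φ m := by
  letI : Algebra Γ(S, U) T := s.toAlgebra
  have h1 : (secEquiv hA U hU).symm (j.app U m) = SymmetricAlgebra.ι _ _ m := by
    rw [RingEquiv.symm_apply_eq]
    exact (symLift_ι A j U m).symm
  rw [secDesc, RingHom.comp_apply]
  erw [h1]
  exact SymmetricAlgebra.lift_ι_apply _ m

end

end Groth.Agent.Helper1.SY
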