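import Mathlib
import Groth.Agent.Helper1.SY15

/-!
# The symmetric algebra of a direct sum is the tensor product (sections over affine opens)
-/

set_option autoImplicit false
set_option linter.style.haveILetI false

namespace Groth.Agent.Helper1.SY

open CategoryTheory Limits AlgebraicGeometry TopologicalSpace Opposite RelSpec
  Groth.Agent.Helper1.AQ Groth.Agent.Helper1.QH

universe u

noncomputable section

variable {S : Scheme.{u}} {E F : S.Modules}

theorem biprod_total_app (U : S.Opens) (x : Γ(E ⊞ F, U)) :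
    x = (biprod.inl : E ⟶ E ⊞ F).app U ((biprod.fst : E ⊞ F ⟶ E).app U x) +
      (biprod.inr : F ⟶ E ⊞ F).app U ((biprod.snd : E ⊞ F ⟶ F).app U x) := by
  have h := congrArg (fun f : E ⊞ F ⟶ E ⊞ F => f.app U x) (biprod.total (X := E) (Y := F))
  simp only [Scheme.Modules.Hom.add_app, Scheme.Modules.Hom.comp_app,
    Scheme.Modules.Hom.id_app] at h
  exact h.symm

theorem biprod_inl_fst_app (U : S.Opens) (m : Γ(E, U)) :
    (biprod.fst : E ⊞ F ⟶ E).app U ((biprod.inl : E ⟶ E ⊞ F).app U m) = m := by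
  have h := congrArg (fun f : E ⟶ E => f.app U m) (biprod.inl_fst (X := E) (Y := F))
  simp only [Scheme.Modules.Hom.comp_app, Scheme.Modules.Hom.id_app] at h
  exact h

theorem biprod_inl_snd_app (U : S.Opens) (m : Γ(E, U)) :
    (biprod.snd : E ⊞ F ⟶ F).app U ((biprod.inl : E ⟶ E ⊞ F).app U m) = 0 := by
  have h := congrArg (fun f : E ⟶ F => f.app U m) (biprod.inl_snd (X := E) (Y := F))
  simp only [Scheme.Modules.Hom.comp_app, Scheme.Modules.Hom.zero_app] at h
  exact h

theorem biprod_inr_snd_app (U : S.Opens) (m : Γ(F, U)) :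
    (biprod.snd : E ⊞ F ⟶ F).app U ((biprod.inr : F ⟶ E ⊞ F).app U m) = m := by
  have h := congrArg (fun f : F ⟶ F => f.app U m) (biprod.inr_snd (X := E) (Y := F))
  simp only [Scheme.Modules.Hom.comp_app, Scheme.Modules.Hom.id_app] at h
  exact h

theorem biprod_inr_fst_app (U : S.Opens) (m : Γ(F, U)) :
    (biprod.fst : E ⊞ F ⟶ E).app U ((biprod.inr : F ⟶ E ⊞ F).app U m) = 0 := by
  have h := congrArg (fun f : F ⟶ E => f.app U m) (biprod.inr_fst (X := E) (Y := F))
  simp only [Scheme.Modules.Hom.comp_app, Scheme.Modules.Hom.zero_app] at h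
  exact h

end

end Groth.Agent.Helper1.SY
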