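import Mathlib
import Groth.Agent.Helper1.SY16
import Groth.Agent.Helper4.QcohLimits

/-!
# The symmetric algebra of a direct sum is the tensor product, part 2
-/

set_option autoImplicit false
set_option linter.style.haveILetI false

namespace Groth.Agent.Helper1.SY

open CategoryTheory Limits AlgebraicGeometry TopologicalSpace Opposite RelSpec
  Groth.Agent.Helper1.AQ Groth.Agent.Helper1.QH

universe u

noncomputable section

variable {S : Scheme.{u}}

/-- the map `j` on sections, as an additive map into the ring `A(U)` -/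
def jR {E : S.Modules} {A : QCAlg S} (j : E ⟶ A.toModule) (U : S.Opens) :
    Γ(E, U) →+ A.presheaf.obj (op U) := (j.app U).hom

theorem jR_smul {E : S.Modules} {A : QCAlg S} (j : E ⟶ A.toModule) (U : S.Opens) (c : Γ(S, U))
    (m : Γ(E, U)) : jR j U (c • m) = (A.str.app (op U)).hom c * jR j U m :=
  Scheme.Modules.Hom.app_smul j c m

section
variable {E : S.Modules} [E.IsQuasicoherent] {A : QCAlg S} {j : E ⟶ A.toModule}
  (hA : IsSymAlg E A j) (U : S.Opens) (hU : IsAffineOpen U)

include hA hU in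
theorem secHom_ext' {T : Type*} [Semiring T] {f g : A.presheaf.obj (op U) →+* T}
    (h1 : ∀ c : Γ(S, U), f ((A.str.app (op U)).hom c) = g ((A.str.app (op U)).hom c))
    (h2 : ∀ m : Γ(E, U), f (jR j U m) = g (jR j U m)) : f = g :=
  secHom_ext hA U hU h1 h2

theorem secDesc_jR {T : Type u} [CommRing T] (s : Γ(S, U) →+* T) (φ : Γ(E, U) →+ T)
    (hφ : ∀ (c : Γ(S, U)) (m : Γ(E, U)), φ (c • m) = s c * φ m) (m : Γ(E, U)) :
    secDesc hA U hU s φ hφ (jR j U m) = φ m := secDesc_j hA U hU s φ hφ m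

end

variable {E F : S.Modules} [E.IsQuasicoherent] [F.IsQuasicoherent]
  {AE AF A : QCAlg S} {jE : E ⟶ AE.toModule} {jF : F ⟶ AF.toModule} {j : E ⊞ F ⟶ A.toModule}
  (hAE : IsSymAlg E AE jE) (hAF : IsSymAlg F AF jF) (hA : IsSymAlg (E ⊞ F) A j)
  (ψE : AE ⟶ A) (ψF : AF ⟶ A)
  (hψE : jE ≫ QCAlg.Hom.toModuleMap ψE = biprod.inl ≫ j)
  (hψF : jF ≫ QCAlg.Hom.toModuleMap ψF = biprod.inr ≫ j)

include hψE in
theorem ψE_jE (U : S.Opens) (m : Γ(E, U)) :
    (ψE.hom.app (op U)).hom (jR jE U m) = jR j U ((biprod.inl : E ⟶ E ⊞ F).app U m) := by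
  have := congrArg (fun f : E ⟶ A.toModule => f.app U m) hψE
  exact this

include hψF in
theorem ψF_jF (U : S.Opens) (m : Γ(F, U)) :
    (ψF.hom.app (op U)).hom (jR jF U m) = jR j U ((biprod.inr : F ⟶ E ⊞ F).app U m) := by
  have := congrArg (fun f : F ⟶ A.toModule => f.app U m) hψF
  exact this

include hAE hAF hA hψE hψF in
theorem isPushout_biprod (U : S.Opens) (hU : IsAffineOpen U) :
    IsPushout (AE.str.app (op U)) (AF.str.app (op U)) (ψE.hom.app (op U)) (ψF.hom.app (op U)) := by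
  haveI : (E ⊞ F).IsQuasicoherent := Groth.Agent.Helper4.QcohLimits.isQuasicoherent_biprod E F
  have hw : AE.str.app (op U) ≫ ψE.hom.app (op U) = AF.str.app (op U) ≫ ψF.hom.app (op U) := by
    rw [← NatTrans.comp_app, ← NatTrans.comp_app, ψE.comm, ψF.comm]
  refine ⟨⟨hw⟩, ⟨PushoutCocone.IsColimit.mk _ (fun s => CommRingCat.ofHom
    (secDesc hA U hU (AE.str.app (op U) ≫ s.inl).hom
      ((s.inl.hom.toAddMonoidHom.comp ((jR jE U).comp ((biprod.fst : E ⊞ F ⟶ E).app U).hom)) +
        (s.inr.hom.toAddMonoidHom.comp ((jR jF U).comp ((biprod.snd : E ⊞ F ⟶ F).app U).hom)))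
      ?_)) ?_ ?_ ?_⟩⟩
  · intro c x
    have hc : (AF.str.app (op U) ≫ s.inr).hom c = (AE.str.app (op U) ≫ s.inl).hom c :=
      congrArg (fun k => k.hom c) s.condition.symm
    change s.inl.hom (jR jE U ((biprod.fst : E ⊞ F ⟶ E).app U (c • x))) +
        s.inr.hom (jR jF U ((biprod.snd : E ⊞ F ⟶ F).app U (c • x))) =
      (AE.str.app (op U) ≫ s.inl).hom c *
        (s.inl.hom (jR jE U ((biprod.fst : E ⊞ F ⟶ E).app U x)) +
          s.inr.hom (jR jF U ((biprod.snd : E ⊞ F ⟶ F).app U x)))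
    rw [Scheme.Modules.Hom.app_smul, Scheme.Modules.Hom.app_smul, jR_smul, jR_smul, map_mul,
      map_mul, mul_add]
    congr 1
    rw [← hc]
    rfl
  · intro s
    ext1
    refine secHom_ext' hAE U hU (fun c => ?_) (fun m => ?_)
    · rw [CommRingCat.hom_comp, RingHom.comp_apply, CommRingCat.hom_ofHom, hom_str_apply,
        secDesc_str]
      rfl
    · rw [CommRingCat.hom_comp, RingHom.comp_apply, CommRingCat.hom_ofHom, ψE_jE ψE hψE,
        secDesc_jR]
      change s.inl.hom (jR jE U ((biprod.fst : E ⊞ F ⟶ E).app U _)) +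
        s.inr.hom (jR jF U ((biprod.snd : E ⊞ F ⟶ F).app U _)) = _
      rw [biprod_inl_fst_app, biprod_inl_snd_app, map_zero, map_zero, add_zero]
  · intro s
    ext1
    refine secHom_ext' hAF U hU (fun c => ?_) (fun m => ?_)
    · rw [CommRingCat.hom_comp, RingHom.comp_apply, CommRingCat.hom_ofHom, hom_str_apply,
        secDesc_str]
      exact congrArg (fun k => k.hom c) s.condition
    · rw [CommRingCat.hom_comp, RingHom.comp_apply, CommRingCat.hom_ofHom, ψF_jF ψF hψF,
        secDesc_jR]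
      change s.inl.hom (jR jE U ((biprod.fst : E ⊞ F ⟶ E).app U _)) +
        s.inr.hom (jR jF U ((biprod.snd : E ⊞ F ⟶ F).app U _)) = _
      rw [biprod_inr_fst_app, biprod_inr_snd_app, map_zero, map_zero, zero_add]
  · intro s m h1 h2
    ext1
    refine secHom_ext' hA U hU (fun c => ?_) (fun x => ?_)
    · rw [CommRingCat.hom_ofHom, secDesc_str, ← hom_str_apply ψE U c]
      exact congrArg (fun k => k.hom ((AE.str.app (op U)).hom c)) h1
    · rw [CommRingCat.hom_ofHom, secDesc_jR]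
      conv_lhs => rw [biprod_total_app U x, map_add, map_add, ← ψE_jE ψE hψE, ← ψF_jF ψF hψF]
      change (ψE.hom.app (op U) ≫ m).hom _ + (ψF.hom.app (op U) ≫ m).hom _ = _
      rw [h1, h2]
      rfl

end

end Groth.Agent.Helper1.SY
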