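import Mathlib
import Groth.Prelude.Def_RelProj4
import Groth.Agent.Helper1.CF1
import Groth.Agent.Helper1.QH5
import Groth.Agent.Helper1.TR11
import Groth.Agent.Helper1.SY17

/-!
# The canonical map `E ⟶ p_* O_P(1)` for a module map `j : E ⟶ 𝒮` landing in degree one
-/

set_option autoImplicit false
set_option linter.unusedSectionVars false
set_option linter.style.haveILetI false

namespace Groth.Agent.Helper1.CF

open CategoryTheory CategoryTheory.Limits AlgebraicGeometry TopologicalSpace Opposite RelProj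
open HomogeneousLocalization
open Groth.Agent.Helper1.RP Groth.Agent.Helper1.QH Groth.Agent.Helper1.SY
open scoped HomogeneousIdeal

universe u

variable {Y P : Scheme.{u}} {𝒮 : QCGrAlg Y} {p : P ⟶ Y}
  {chart : ∀ (U : Y.Opens) (hU : IsAffineOpen U),
    (((p ⁻¹ᵁ U : P.Opens) : Scheme.{u}) ≅ Proj (𝒮.deg U hU))}
  {O1 : P.Modules}
  {lam : ∀ (U : Y.Opens) (hU : IsAffineOpen U),
    O1 ⟶ (Scheme.Modules.pushforward (emb p chart U hU)).obj (GrTwist.twist (𝒮.deg U hU) 1)}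

section ring

variable {A σ : Type u} [CommRing A] [SetLike σ A] [AddSubgroupClass σ A] {𝒜 : ℕ → σ} [GradedRing 𝒜]

lemma one_notMem' (z : ProjectiveSpectrum 𝒜) : (1 : A) ∉ z.asHomogeneousIdeal := fun h =>
  z.isPrime.ne_top ((Ideal.eq_top_iff_one _).2 h)

/-- the section `a / 1` of `O(1)` for `a` of degree one -/
noncomputable def degOneSect (a : A) (ha : a ∈ 𝒜 1) (W : (Proj 𝒜).Opens) :
    Γ(GrTwist.twist 𝒜 1, W) :=
  GT.fracSect 1 a ha 1 SetLike.GradedOne.one_mem (by norm_num) W (fun z _ => one_notMem' z)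

lemma val_degOneSect (a : A) (ha : a ∈ 𝒜 1) (W : (Proj 𝒜).Opens) (z : W) :
    GrTwist.val (degOneSect a ha W) z = Localization.mk a 1 := rfl

end ring

variable {E : Y.Modules} (j : E ⟶ 𝒮.toModule)
  (hj1 : ∀ (U : Y.Opens) (hU : IsAffineOpen U) (x : Γ(E, U)), (j.app U) x ∈ 𝒮.deg U hU 1)
  (hP : IsRelProj 𝒮 p chart) (hO1 : IsRelTwist 𝒮 p chart 1 O1 lam)

include hj1 hO1 in
lemma exists_tU (U : Y.Opens) (hU : IsAffineOpen U) (e : Γ(E, U)) :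
    ∃ t : Γ(O1, p ⁻¹ᵁ U), ∀ y : ↥(emb p chart U hU ⁻¹ᵁ (p ⁻¹ᵁ U)),
      GrTwist.val (V := emb p chart U hU ⁻¹ᵁ (p ⁻¹ᵁ U)) ((lam U hU).app (p ⁻¹ᵁ U) t) y =
        Localization.mk (jR (A := 𝒮.toQCAlg) j U e) 1 := by
  obtain ⟨t, ht⟩ := (hO1.bijective U hU (p ⁻¹ᵁ U) le_rfl).2
    (degOneSect (jR (A := 𝒮.toQCAlg) j U e) (hj1 U hU e) (emb p chart U hU ⁻¹ᵁ (p ⁻¹ᵁ U)))
  refine ⟨t, fun y => ?_⟩
  have h1 : (lam U hU).app (p ⁻¹ᵁ U) t = _ := ht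
  rw [h1]
  rfl

/-- the canonical section over `p⁻¹ U` attached to a section of `E` over `U` -/
noncomputable def tU (U : Y.Opens) (hU : IsAffineOpen U) (e : Γ(E, U)) : Γ(O1, p ⁻¹ᵁ U) :=
  (exists_tU j hj1 hO1 U hU e).choose

lemma val_tU (U : Y.Opens) (hU : IsAffineOpen U) (e : Γ(E, U))
    (y : ↥(emb p chart U hU ⁻¹ᵁ (p ⁻¹ᵁ U))) :
    GrTwist.val (V := emb p chart U hU ⁻¹ᵁ (p ⁻¹ᵁ U))
      ((lam U hU).app (p ⁻¹ᵁ U) (tU j hj1 hO1 U hU e)) y =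
        Localization.mk (jR (A := 𝒮.toQCAlg) j U e) 1 :=
  (exists_tU j hj1 hO1 U hU e).choose_spec y

include hO1 in
/-- sections over `p⁻¹ U` are determined by their values in the chart -/
lemma ext_of_val (U : Y.Opens) (hU : IsAffineOpen U) (s t : Γ(O1, p ⁻¹ᵁ U))
    (h : ∀ y : ↥(emb p chart U hU ⁻¹ᵁ (p ⁻¹ᵁ U)),
      GrTwist.val (V := emb p chart U hU ⁻¹ᵁ (p ⁻¹ᵁ U)) ((lam U hU).app (p ⁻¹ᵁ U) s) y =
      GrTwist.val (V := emb p chart U hU ⁻¹ᵁ (p ⁻¹ᵁ U)) ((lam U hU).app (p ⁻¹ᵁ U) t) y) :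
    s = t := by
  apply (hO1.bijective U hU (p ⁻¹ᵁ U) le_rfl).1
  exact GT.sect_ext _ _ h

lemma tU_add (U : Y.Opens) (hU : IsAffineOpen U) (e e' : Γ(E, U)) :
    tU j hj1 hO1 U hU (e + e') = tU j hj1 hO1 U hU e + tU j hj1 hO1 U hU e' := by
  apply ext_of_val hO1 U hU
  intro y
  rw [map_add, val_tU]
  refine Eq.trans ?_ (GT.val_add (n := 1) (V := emb p chart U hU ⁻¹ᵁ (p ⁻¹ᵁ U)) _ _ y).symm
  rw [val_tU, val_tU, map_add, Localization.add_mk_self]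

end Groth.Agent.Helper1.CF
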