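import Mathlib
import Groth.Prelude.Def_RelProj3
import Groth.Agent.Helper1.GT2
import Groth.Agent.Helper1.TR17
import Groth.Agent.Helper1.TR19
import Groth.Agent.Helper4.TensorLift

/-!
# The multiplication map `O_P(m) ⊗ O_P(n) ⟶ O_P(m + n)` on a relative Proj
-/

set_option autoImplicit false
set_option linter.style.haveILetI false

namespace Groth.Agent.Helper1.TRM

open CategoryTheory CategoryTheory.Limits AlgebraicGeometry TopologicalSpace Opposite RelProj
open Groth.Agent.Helper1.RP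
open scoped HomogeneousIdeal

universe u

variable {Y P : Scheme.{u}} {𝒮 : QCGrAlg Y} {p : P ⟶ Y}
  {chart : ∀ (U : Y.Opens) (hU : IsAffineOpen U),
    (((p ⁻¹ᵁ U : P.Opens) : Scheme.{u}) ≅ Proj (𝒮.deg U hU))}
  {m n : ℤ} {L L' L'' : P.Modules}
  {lam : ∀ (U : Y.Opens) (hU : IsAffineOpen U),
    L ⟶ (Scheme.Modules.pushforward (emb p chart U hU)).obj (GrTwist.twist (𝒮.deg U hU) m)}
  {lam' : ∀ (U : Y.Opens) (hU : IsAffineOpen U),
    L' ⟶ (Scheme.Modules.pushforward (emb p chart U hU)).obj (GrTwist.twist (𝒮.deg U hU) n)}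
  {lam'' : ∀ (U : Y.Opens) (hU : IsAffineOpen U),
    L'' ⟶ (Scheme.Modules.pushforward (emb p chart U hU)).obj
      (GrTwist.twist (𝒮.deg U hU) (m + n))}

/-- the reading of a section in the chart over `U` -/
noncomputable def rd {k : ℤ} {M : P.Modules}
    (μ : ∀ (U : Y.Opens) (hU : IsAffineOpen U),
      M ⟶ (Scheme.Modules.pushforward (emb p chart U hU)).obj (GrTwist.twist (𝒮.deg U hU) k))
    (U : Y.Opens) (hU : IsAffineOpen U) (V : P.Opens) (s : Γ(M, V)) :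
    Γ(GrTwist.twist (𝒮.deg U hU) k, emb p chart U hU ⁻¹ᵁ V) :=
  (μ U hU).app V s

lemma rd_add {k : ℤ} {M : P.Modules}
    (μ : ∀ (U : Y.Opens) (hU : IsAffineOpen U),
      M ⟶ (Scheme.Modules.pushforward (emb p chart U hU)).obj (GrTwist.twist (𝒮.deg U hU) k))
    (U : Y.Opens) (hU : IsAffineOpen U) (V : P.Opens) (s t : Γ(M, V)) :
    rd μ U hU V (s + t) = rd μ U hU V s + rd μ U hU V t :=
  map_add ((μ U hU).app V).hom s t

lemma rd_smul {k : ℤ} {M : P.Modules}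
    (μ : ∀ (U : Y.Opens) (hU : IsAffineOpen U),
      M ⟶ (Scheme.Modules.pushforward (emb p chart U hU)).obj (GrTwist.twist (𝒮.deg U hU) k))
    (U : Y.Opens) (hU : IsAffineOpen U) (V : P.Opens) (r : Γ(P, V)) (s : Γ(M, V)) :
    rd μ U hU V (r • s) = ((emb p chart U hU).app V r) • rd μ U hU V s := by
  unfold rd
  rw [Scheme.Modules.Hom.app_smul]
  rfl

lemma rd_res {k : ℤ} {M : P.Modules}
    (μ : ∀ (U : Y.Opens) (hU : IsAffineOpen U),
      M ⟶ (Scheme.Modules.pushforward (emb p chart U hU)).obj (GrTwist.twist (𝒮.deg U hU) k))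
    (U : Y.Opens) (hU : IsAffineOpen U) {V V' : P.Opens} (i : V' ⟶ V) (s : Γ(M, V))
    (y : ProjectiveSpectrum (𝒮.deg U hU)) (hy : (emb p chart U hU).base y ∈ V') :
    GrTwist.val (rd μ U hU V' (M.presheaf.map i.op s)) ⟨y, hy⟩ =
      GrTwist.val (rd μ U hU V s) ⟨y, i.le hy⟩ := by
  unfold rd
  rw [Groth.Agent.Helper4.StalkExact.app_res]
  rfl

variable (lam lam') in
/-- the chartwise products of the readings -/
noncomputable def σ (V : P.Opens) (s : Γ(L, V)) (s' : Γ(L', V)) (U : Y.Opens)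
    (hU : IsAffineOpen U) :
    Γ(GrTwist.twist (𝒮.deg U hU) (m + n), emb p chart U hU ⁻¹ᵁ V) :=
  GT.mulSect m n (emb p chart U hU ⁻¹ᵁ V) (rd lam U hU V s) (rd lam' U hU V s')

lemma compat_σ (hL : IsRelTwist 𝒮 p chart m L lam) (hL' : IsRelTwist 𝒮 p chart n L' lam')
    (V : P.Opens) (s : Γ(L, V)) (s' : Γ(L', V)) : TRS.Compat (X' := V) (σ lam lam' V s s') := by
  intro U hU r y hy hy'
  unfold σ
  rw [GT.val_mulSect, GT.val_mulSect, map_mul]
  congr 1
  · exact hL.compat U hU r V s y hy hy'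
  · exact hL'.compat U hU r V s' y hy hy'

/-- a section of the relative twisting sheaf is determined by its readings -/
lemma ext_of_rd {k : ℤ} {M : P.Modules}
    {μ : ∀ (U : Y.Opens) (hU : IsAffineOpen U),
      M ⟶ (Scheme.Modules.pushforward (emb p chart U hU)).obj (GrTwist.twist (𝒮.deg U hU) k)}
    (hM : IsRelTwist 𝒮 p chart k M μ) (V : P.Opens) (t t' : Γ(M, V))
    (h : ∀ (U : Y.Opens) (hU : IsAffineOpen U) (y : ProjectiveSpectrum (𝒮.deg U hU))
      (hy : (emb p chart U hU).base y ∈ V),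
      GrTwist.val (rd μ U hU V t) ⟨y, hy⟩ = GrTwist.val (rd μ U hU V t') ⟨y, hy⟩) : t = t' := by
  apply Groth.Agent.Helper4.TwistExt.eq_of_cover M V
  intro x hx
  obtain ⟨_, ⟨U, hU : IsAffineOpen U, rfl⟩, hxU, -⟩ :=
    Y.isBasis_affineOpens.exists_subset_of_mem_open (Set.mem_univ (p x)) isOpen_univ
  refine ⟨V ⊓ p ⁻¹ᵁ U, inf_le_left, ⟨hx, hxU⟩, ?_⟩
  apply (hM.bijective U hU _ inf_le_right).1
  apply GT.sect_ext
  rintro ⟨y, hy⟩
  have h1 := rd_res μ U hU (homOfLE (inf_le_left : V ⊓ p ⁻¹ᵁ U ≤ V)) t y hy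
  have h2 := rd_res μ U hU (homOfLE (inf_le_left : V ⊓ p ⁻¹ᵁ U ≤ V)) t' y hy
  exact h1.trans ((h U hU y _).trans h2.symm)

variable (hP : IsRelProj 𝒮 p chart) (hL : IsRelTwist 𝒮 p chart m L lam)
  (hL' : IsRelTwist 𝒮 p chart n L' lam') (hL'' : IsRelTwist 𝒮 p chart (m + n) L'' lam'')

include hP hL hL' hL'' in
lemma exists_mul (V : P.Opens) (s : Γ(L, V)) (s' : Γ(L', V)) :
    ∃ t : Γ(L'', V), ∀ (U : Y.Opens) (hU : IsAffineOpen U)
      (y : ProjectiveSpectrum (𝒮.deg U hU)) (hy : (emb p chart U hU).base y ∈ V),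
      GrTwist.val (rd lam'' U hU V t) ⟨y, hy⟩ =
        GrTwist.val (rd lam U hU V s) ⟨y, hy⟩ * GrTwist.val (rd lam' U hU V s') ⟨y, hy⟩ := by
  obtain ⟨t, ht⟩ := TRS.exists_section (σ lam lam' V s s') hP hL'' (compat_σ hL hL' V s s')
  exact ⟨t, fun U hU y hy => ht U hU y hy⟩

/-- the product of two sections -/
noncomputable def mul (V : P.Opens) (s : Γ(L, V)) (s' : Γ(L', V)) : Γ(L'', V) :=
  Classical.choose (exists_mul hP hL hL' hL'' V s s')

lemma rd_mul (V : P.Opens) (s : Γ(L, V)) (s' : Γ(L', V)) (U : Y.Opens) (hU : IsAffineOpen U)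
    (y : ProjectiveSpectrum (𝒮.deg U hU)) (hy : (emb p chart U hU).base y ∈ V) :
    GrTwist.val (rd lam'' U hU V (mul hP hL hL' hL'' V s s')) ⟨y, hy⟩ =
      GrTwist.val (rd lam U hU V s) ⟨y, hy⟩ * GrTwist.val (rd lam' U hU V s') ⟨y, hy⟩ :=
  Classical.choose_spec (exists_mul hP hL hL' hL'' V s s') U hU y hy

lemma mul_add_left (V : P.Opens) (s s₁ : Γ(L, V)) (s' : Γ(L', V)) :
    mul hP hL hL' hL'' V (s + s₁) s' = mul hP hL hL' hL'' V s s' + mul hP hL hL' hL'' V s₁ s' := by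
  apply ext_of_rd hL'' V
  intro U hU y hy
  rw [rd_mul hP hL hL' hL'' V (s + s₁) s' U hU y hy, rd_add, rd_add, GT.val_add, GT.val_add,
    rd_mul hP hL hL' hL'' V s s' U hU y hy, rd_mul hP hL hL' hL'' V s₁ s' U hU y hy, add_mul]

lemma mul_add_right (V : P.Opens) (s : Γ(L, V)) (s' s₁' : Γ(L', V)) :
    mul hP hL hL' hL'' V s (s' + s₁') =
      mul hP hL hL' hL'' V s s' + mul hP hL hL' hL'' V s s₁' := by
  apply ext_of_rd hL'' V
  intro U hU y hy
  rw [rd_mul hP hL hL' hL'' V s (s' + s₁') U hU y hy, rd_add, rd_add, GT.val_add, GT.val_add,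
    rd_mul hP hL hL' hL'' V s s' U hU y hy, rd_mul hP hL hL' hL'' V s s₁' U hU y hy, mul_add]

lemma mul_smul_left (V : P.Opens) (r : Γ(P, V)) (s : Γ(L, V)) (s' : Γ(L', V)) :
    mul hP hL hL' hL'' V (r • s) s' = r • mul hP hL hL' hL'' V s s' := by
  apply ext_of_rd hL'' V
  intro U hU y hy
  rw [rd_mul hP hL hL' hL'' V (r • s) s' U hU y hy, rd_smul, rd_smul, TRS.val_smul,
    TRS.val_smul, rd_mul hP hL hL' hL'' V s s' U hU y hy, mul_assoc]

lemma mul_smul_right (V : P.Opens) (r : Γ(P, V)) (s : Γ(L, V)) (s' : Γ(L', V)) :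
    mul hP hL hL' hL'' V s (r • s') = r • mul hP hL hL' hL'' V s s' := by
  apply ext_of_rd hL'' V
  intro U hU y hy
  rw [rd_mul hP hL hL' hL'' V s (r • s') U hU y hy, rd_smul, rd_smul, TRS.val_smul,
    TRS.val_smul, rd_mul hP hL hL' hL'' V s s' U hU y hy, mul_left_comm]

lemma mul_map {V V' : P.Opens} (i : V' ⟶ V) (s : Γ(L, V)) (s' : Γ(L', V)) :
    L''.presheaf.map i.op (mul hP hL hL' hL'' V s s') =
      mul hP hL hL' hL'' V' (L.presheaf.map i.op s) (L'.presheaf.map i.op s') := by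
  apply ext_of_rd hL'' V'
  intro U hU y hy
  rw [rd_res lam'' U hU i _ y hy, rd_mul hP hL hL' hL'' V s s' U hU y (i.le hy),
    rd_mul hP hL hL' hL'' V' _ _ U hU y hy, rd_res lam U hU i s y hy, rd_res lam' U hU i s' y hy]

open Groth.Agent.Helper4.TensorLift in
/-- the bilinear family of products -/
noncomputable def bil : Bil L L' L'' where
  f V s s' := mul hP hL hL' hL'' V s s'
  add_left V s s₁ s' := mul_add_left hP hL hL' hL'' V s s₁ s'
  add_right V s s' s₁' := mul_add_right hP hL hL' hL'' V s s' s₁'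
  smul_left V r s s' := mul_smul_left hP hL hL' hL'' V r s s'
  smul_right V r s s' := mul_smul_right hP hL hL' hL'' V r s s'
  map {V V'} i s s' := mul_map hP hL hL' hL'' i s s'

/-- the multiplication map -/
noncomputable def mulHom : CohB1.tensorMod L L' ⟶ L'' :=
  (bil hP hL hL' hL'').lift

lemma mulHom_tmul (V : P.Opens) (s : Γ(L, V)) (s' : Γ(L', V)) :
    (mulHom hP hL hL' hL'').app V (SecTwist.tmul L L' V s s') =
      mul hP hL hL' hL'' V s s' :=
  (bil hP hL hL' hL'').lift_tmul V s s'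

end Groth.Agent.Helper1.TRM
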