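import Mathlib
import Groth.Prelude.Def_RelProj4
import Groth.Agent.Helper1.CF2
import Groth.Agent.Helper1.TR25

/-!
# The canonical map `E ⟶ p_* O_P(1)`: restriction, linearity, and the morphism
-/

set_option autoImplicit false
set_option linter.unusedSectionVars false
set_option linter.style.haveILetI false

namespace Groth.Agent.Helper1.CF

open CategoryTheory CategoryTheory.Limits AlgebraicGeometry TopologicalSpace Opposite RelProj
open HomogeneousLocalization
open Groth.Agent.Helper1.RP Groth.Agent.Helper1.QH Groth.Agent.Helper1.SY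
open scoped HomogeneousIdeal

universe u

variable {Y P : Scheme.{u}} {𝒮 : QCGrAlg Y} {p : P ⟶ Y}
  {chart : ∀ (U : Y.Opens) (hU : IsAffineOpen U),
    (((p ⁻¹ᵁ U : P.Opens) : Scheme.{u}) ≅ Proj (𝒮.deg U hU))}
  {O1 : P.Modules}
  {lam : ∀ (U : Y.Opens) (hU : IsAffineOpen U),
    O1 ⟶ (Scheme.Modules.pushforward (emb p chart U hU)).obj (GrTwist.twist (𝒮.deg U hU) 1)}
  {E : Y.Modules} (j : E ⟶ 𝒮.toModule)
  (hj1 : ∀ (U : Y.Opens) (hU : IsAffineOpen U) (x : Γ(E, U)), (j.app U) x ∈ 𝒮.deg U hU 1)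
  (hP : IsRelProj 𝒮 p chart) (hO1 : IsRelTwist 𝒮 p chart 1 O1 lam)

include hP in
/-- compatibility with restriction to a basic open -/
lemma tU_res (U : Y.Opens) (hU : IsAffineOpen U) (r : Γ(Y, U)) (e : Γ(E, U)) :
    O1.presheaf.map (homOfLE (p.preimage_mono (Y.basicOpen_le r))).op (tU j hj1 hO1 U hU e) =
      tU j hj1 hO1 (Y.basicOpen r) (hU.basicOpen r)
        (E.presheaf.map (homOfLE (Y.basicOpen_le r)).op e) := by
  apply ext_of_val hO1 (Y.basicOpen r) (hU.basicOpen r)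
  intro y
  have hy' : (emb p chart U hU).base (ProjectiveSpectrum.comap
      (𝒮.res hU (hU.basicOpen r) (Y.basicOpen_le r)) (𝒮.irrelevant_le_map U hU r) y.1) ∈
      p ⁻¹ᵁ (Y.basicOpen r) := by
    rw [TRG.emb_comap hP]; exact y.2
  rw [val_tU]
  refine (hO1.compat U hU r (p ⁻¹ᵁ (Y.basicOpen r)) _ y.1 y.2 hy').trans ?_
  have h1 : GrTwist.val (V := emb p chart U hU ⁻¹ᵁ (p ⁻¹ᵁ (Y.basicOpen r)))
      ((lam U hU).app (p ⁻¹ᵁ (Y.basicOpen r))
        (O1.presheaf.map (homOfLE (p.preimage_mono (Y.basicOpen_le r))).op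
          (tU j hj1 hO1 U hU e))) ⟨_, hy'⟩ =
      Localization.mk (jR (A := 𝒮.toQCAlg) j U e) 1 := by
    rw [Groth.Agent.Helper4.StalkExact.app_res]
    exact val_tU j hj1 hO1 U hU e ⟨_, p.preimage_mono (Y.basicOpen_le r) hy'⟩
  rw [h1, GrTwist.locMap_mk]
  have h2 : jR (A := 𝒮.toQCAlg) j (Y.basicOpen r)
      (E.presheaf.map (homOfLE (Y.basicOpen_le r)).op e) =
      𝒮.res hU (hU.basicOpen r) (Y.basicOpen_le r) (jR (A := 𝒮.toQCAlg) j U e) :=
    Groth.Agent.Helper4.StalkExact.app_res j (homOfLE (Y.basicOpen_le r)) e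
  rw [h2]
  congr 1
  exact Subtype.ext (map_one _)

include hP in
/-- linearity over the functions on the base -/
lemma tU_smul (U : Y.Opens) (hU : IsAffineOpen U) (a : Γ(Y, U)) (e : Γ(E, U)) :
    tU j hj1 hO1 U hU (a • e) = ((p.app U).hom a) • tU j hj1 hO1 U hU e := by
  apply ext_of_val hO1 U hU
  intro y
  rw [val_tU]
  have h1 := TRM.rd_smul lam U hU (p ⁻¹ᵁ U) ((p.app U).hom a) (tU j hj1 hO1 U hU e)
  unfold TRM.rd at h1
  rw [h1]
  refine Eq.trans ?_ (TRS.val_smul (n := 1) (V := emb p chart U hU ⁻¹ᵁ (p ⁻¹ᵁ U)) _ _ y).symm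
  rw [val_tU]
  have h2 := val_emb_p hP U hU a y
  rw [h2, jR_smul, Localization.mk_mul, one_mul]

/-- the affine-local data of the canonical map -/
noncomputable def canAff : AffModHom E ((Scheme.Modules.pushforward p).obj O1) where
  app U hU := AddCommGrpCat.ofHom
    (AddMonoidHom.mk' (fun e => (tU j hj1 hO1 U hU e : Γ(O1, p ⁻¹ᵁ U)))
      (fun e e' => tU_add j hj1 hO1 U hU e e'))
  naturality U hU r := by
    ext e
    exact (tU_res j hj1 hP hO1 U hU r e).symm
  smul U hU a e := tU_smul j hj1 hP hO1 U hU a e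

/-- **the canonical map `E ⟶ p_* O_P(1)`** -/
noncomputable def can : E ⟶ (Scheme.Modules.pushforward p).obj O1 := (canAff j hj1 hP hO1).toHom

theorem can_app (U : Y.Opens) (hU : IsAffineOpen U) (e : Γ(E, U)) :
    (can j hj1 hP hO1).app U e = tU j hj1 hO1 U hU e := by
  rw [can, AffModHom.toHom_app _ U hU]
  rfl

/-- the characterizing property of the canonical map -/
theorem val_can (U : Y.Opens) (hU : IsAffineOpen U) (e : Γ(E, U))
    (y : ↥(emb p chart U hU ⁻¹ᵁ (p ⁻¹ᵁ U))) :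
    GrTwist.val (V := emb p chart U hU ⁻¹ᵁ (p ⁻¹ᵁ U))
        ((lam U hU).app (p ⁻¹ᵁ U) (((can j hj1 hP hO1).app U) e)) y =
      algebraMap (𝒮.presheaf.obj (op U)) (GrTwist.Loc (𝒮.deg U hU) y.1)
        ((j.app U) e : 𝒮.presheaf.obj (op U)) := by
  rw [can_app j hj1 hP hO1 U hU e, val_tU, Localization.mk_one_eq_algebraMap]
  rfl

end Groth.Agent.Helper1.CF
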