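import Mathlib
import Groth.Agent.Helper1.PC1

/-!
# `Proj R[t] ≅ Spec R` for a graded ring which is a polynomial ring on a degree-one element
-/

set_option autoImplicit false
set_option linter.style.haveILetI false

namespace Groth.Agent.Helper1.PL

open CategoryTheory Limits AlgebraicGeometry TopologicalSpace Opposite
  HomogeneousLocalization DirectSum
open scoped HomogeneousIdeal

universe u

noncomputable section

section ring

variable {R A : Type u} [CommRing R] [CommRing A] {𝒜 : ℕ → AddSubgroup A} [GradedRing 𝒜]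
  (s : R →+* A) (hs : ∀ r, s r ∈ 𝒜 0) (t : A) (ht : t ∈ 𝒜 1)

include hs ht in
theorem term_mem (r : R) (i : ℕ) : s r * t ^ i ∈ 𝒜 i := by
  have h1 : t ^ i ∈ 𝒜 (i • 1) := SetLike.pow_mem_graded i ht
  have h2 := SetLike.mul_mem_graded (hs r) h1
  simpa using h2

include hs ht in
theorem exists_eq_of_mem (hsurj : Function.Surjective (Polynomial.eval₂RingHom s t)) {n : ℕ}
    {a : A} (ha : a ∈ 𝒜 n) : ∃ r, a = s r * t ^ n := by
  obtain ⟨p, rfl⟩ := hsurj a
  refine ⟨p.coeff n, ?_⟩
  have hN : p.natDegree < max p.natDegree n + 1 := by omega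
  have h1 : Polynomial.eval₂ s t p =
      ∑ i ∈ Finset.range (max p.natDegree n + 1), s (p.coeff i) * t ^ i :=
    Polynomial.eval₂_eq_sum_range' s hN t
  have h2 := congrArg (GradedRing.proj 𝒜 n) h1
  rw [map_sum, Finset.sum_eq_single n] at h2
  · rw [PC.proj_of_mem (term_mem s hs t ht _ n), if_pos rfl] at h2
    rw [← h2]
    have h3 := PC.proj_of_mem ha n
    rw [if_pos rfl] at h3
    exact h3.symm
  · intro j _ hne
    rw [PC.proj_of_mem (term_mem s hs t ht _ j), if_neg hne]
  · intro hn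
    exact absurd (Finset.mem_range.mpr (by omega)) hn

include hs ht in
theorem basicOpen_eq_top (hsurj : Function.Surjective (Polynomial.eval₂RingHom s t)) :
    Proj.basicOpen 𝒜 t = ⊤ := by
  have h := Proj.iSup_basicOpen_eq_top 𝒜 (fun _ : Unit => t) ?_
  · rw [← h]
    exact (ciSup_const (a := Proj.basicOpen 𝒜 t)).symm
  · have : (𝒜₊) ≤ (⟨Ideal.span (Set.range fun _ : Unit => t), ?_⟩ : HomogeneousIdeal 𝒜) := ?_
    · exact this
    · apply Ideal.homogeneous_span
      rintro _ ⟨_, rfl⟩
      exact ⟨1, ht⟩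
    · rw [HomogeneousIdeal.irrelevant_le]
      intro i hi b hb
      obtain ⟨r, rfl⟩ := exists_eq_of_mem s hs t ht hsurj hb
      change _ ∈ Ideal.span _
      obtain ⟨k, rfl⟩ : ∃ k, i = k + 1 := ⟨i - 1, by omega⟩
      rw [pow_succ, ← mul_assoc]
      exact Ideal.mul_mem_left _ _ (Ideal.subset_span ⟨(), rfl⟩)

variable (s₀ : R →+* 𝒜 0) (hs₀ : ∀ r, (s₀ r : A) = s r)

include hs₀ ht in
theorem toAway_surjective (hsurj : Function.Surjective (Polynomial.eval₂RingHom s t)) :
    Function.Surjective ((fromZeroRingHom 𝒜 (Submonoid.powers t)).comp s₀) := by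
  have hs : ∀ r, s r ∈ 𝒜 0 := fun r => by rw [← hs₀]; exact (s₀ r).2
  intro q
  obtain ⟨k, x, hx, rfl⟩ := Away.mk_surjective 𝒜 ht q
  obtain ⟨r, rfl⟩ := exists_eq_of_mem s hs t ht hsurj hx
  refine ⟨r, ?_⟩
  apply val_injective
  rw [Away.val_mk, RingHom.comp_apply]
  change Localization.mk ((s₀ r : A)) 1 = _
  rw [Localization.mk_eq_mk_iff, Localization.r_iff_exists]
  refine ⟨1, ?_⟩
  simp only [OneMemClass.coe_one, one_mul, smul_eq_mul, mul_one, hs₀]
  ring

include hs₀ in
theorem toAway_injective (hinj : Function.Injective (Polynomial.eval₂RingHom s t)) :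
    Function.Injective ((fromZeroRingHom 𝒜 (Submonoid.powers t)).comp s₀) := by
  rw [injective_iff_map_eq_zero]
  intro r hr
  have h1 := congrArg HomogeneousLocalization.val hr
  rw [RingHom.comp_apply, HomogeneousLocalization.val_zero] at h1
  change Localization.mk ((s₀ r : A)) 1 = 0 at h1
  rw [Localization.mk_eq_mk', IsLocalization.mk'_eq_zero_iff] at h1
  obtain ⟨⟨_, k, rfl⟩, hk⟩ := h1
  have h2 : Polynomial.eval₂RingHom s t (Polynomial.C r * Polynomial.X ^ k) = 0 := by
    rw [map_mul, map_pow]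
    simp only [Polynomial.coe_eval₂RingHom, Polynomial.eval₂_C, Polynomial.eval₂_X]
    rw [← hs₀, mul_comm]
    exact hk
  have h3 := hinj (h2.trans (map_zero _).symm)
  have h4 := congrArg (fun p => Polynomial.coeff p k) h3
  simpa using h4

include hs₀ ht in
/-- `Proj 𝒜 → Spec R` is an isomorphism when `𝒜 = R[t]` with `t` of degree one -/
theorem isIso_toSpecZero_comp (hbij : Function.Bijective (Polynomial.eval₂RingHom s t)) :
    IsIso (Proj.toSpecZero 𝒜 ≫ Spec.map (CommRingCat.ofHom s₀)) := by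
  have hs : ∀ r, s r ∈ 𝒜 0 := fun r => by rw [← hs₀]; exact (s₀ r).2
  have h1 : Proj.awayι 𝒜 t ht one_pos ≫ (Proj.toSpecZero 𝒜 ≫ Spec.map (CommRingCat.ofHom s₀)) =
      Spec.map (CommRingCat.ofHom ((fromZeroRingHom 𝒜 (Submonoid.powers t)).comp s₀)) := by
    rw [Proj.awayι_toSpecZero_assoc, ← Spec.map_comp]
    rfl
  haveI : IsIso (Proj.awayι 𝒜 t ht one_pos) := by
    haveI : Epi (Proj.awayι 𝒜 t ht one_pos).base := by
      rw [TopCat.epi_iff_surjective]
      intro x
      have : x ∈ (Proj.awayι 𝒜 t ht one_pos).opensRange := by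
        rw [Proj.opensRange_awayι, basicOpen_eq_top s hs t ht hbij.2]
        trivial
      exact this
    exact IsOpenImmersion.isIso _
  haveI : IsIso (Spec.map
      (CommRingCat.ofHom ((fromZeroRingHom 𝒜 (Submonoid.powers t)).comp s₀))) := by
    haveI : IsIso (CommRingCat.ofHom ((fromZeroRingHom 𝒜 (Submonoid.powers t)).comp s₀)) :=
      (ConcreteCategory.isIso_iff_bijective _).mpr
        ⟨toAway_injective s t s₀ hs₀ hbij.1, toAway_surjective s t ht s₀ hs₀ hbij.2⟩
    infer_instance
  exact IsIso.of_isIso_fac_left h1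

end ring

end

end Groth.Agent.Helper1.PL
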