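import Mathlib
import Groth.Prelude.Def_Pic
import Groth.Agent.Helper4.TwistLocal

/-!
# Local generators of an invertible module
-/

set_option autoImplicit false
set_option linter.style.haveILetI false

namespace Groth.Agent.Helper1.PL

open CategoryTheory Limits AlgebraicGeometry TopologicalSpace Opposite
open Groth.Agent.Helper4.GenLoc Groth.Agent.Helper4.TensorGen

universe u

noncomputable section

variable {X : Scheme.{u}}

/-- an invertible module is, near every point, free of rank one on a generator over an affine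
open -/
theorem exists_affine_generator (L : X.Modules) (hL : PicF.IsInvertible L) (x : X) :
    ∃ (V : X.Opens) (_ : IsAffineOpen V) (e : Γ(L, V)), x ∈ V ∧
      Function.Bijective (fun r : Γ(X, V) => r • e) := by
  obtain ⟨W, hxW, hW, ⟨ε⟩⟩ := Groth.Agent.Helper4.TwistLocal.exists_affine_triv L hL x
  have hT : W.ι ''ᵁ ⊤ = W := Scheme.Opens.ι_image_top W
  refine ⟨W.ι ''ᵁ ⊤, by rw [hT]; exact hW,
    (show Γ(L, W.ι ''ᵁ ⊤) from ε.inv.app ⊤ (one (W : Scheme.{u}) ⊤)), by rw [hT]; exact hxW, ?_, ?_⟩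
  · intro r r' h
    have h' : (r - r') • (show Γ(L, W.ι ''ᵁ ⊤) from ε.inv.app ⊤ (one (W : Scheme.{u}) ⊤)) = 0 := by
      rw [sub_smul]; exact sub_eq_zero.mpr h
    set d := r - r' with hd
    let c : Γ((W : Scheme.{u}), ⊤) := (W.ι.appIso ⊤).hom d
    have hc : (W.ι.appIso ⊤).inv c = d := by
      change ((W.ι.appIso ⊤).hom ≫ (W.ι.appIso ⊤).inv) d = d
      rw [Iso.hom_inv_id]; rfl
    have h1 : ε.inv.app ⊤ (c • one (W : Scheme.{u}) ⊤) = 0 := by
      rw [Scheme.Modules.Hom.app_smul]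
      rw [← hc] at h'
      exact h'
    have h2 := congrArg (ε.hom.app ⊤) h1
    rw [iso_hom_inv_app, map_zero] at h2
    have h3 : c = 0 := by
      rw [← smul_one ⊤ c, h2]; rfl
    have h4 : d = 0 := by rw [← hc, h3, map_zero]
    exact sub_eq_zero.mp h4
  · intro m
    let m' : Γ(L.restrict W.ι, ⊤) := m
    let c : Γ((W : Scheme.{u}), ⊤) := toFn (ε.hom.app ⊤ m')
    refine ⟨(W.ι.appIso ⊤).inv c, ?_⟩
    have h1 : ε.hom.app ⊤ m' = c • one (W : Scheme.{u}) ⊤ := (mul_one c).symm
    have h2 : m' = ε.inv.app ⊤ (ε.hom.app ⊤ m') := (iso_inv_hom_app ε ⊤ m').symm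
    rw [h1, Scheme.Modules.Hom.app_smul] at h2
    exact h2.symm

end

end Groth.Agent.Helper1.PL
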