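import Mathlib
import Groth.Prelude.Def_RelProj2
import Groth.Agent.Helper1.PL1
import Groth.Agent.Helper1.PL2
import Groth.Agent.Helper1.SY12

/-!
# `Proj Sym(L) ≅ X` for an invertible module `L`
-/

set_option autoImplicit false
set_option linter.style.haveILetI false

namespace Groth.Agent.Helper1.PL

open CategoryTheory Limits AlgebraicGeometry TopologicalSpace Opposite RelSpec RelProj
open Groth.Agent.Helper1.SY

universe u

noncomputable section

variable {X : Scheme.{u}} {L : X.Modules} [L.IsQuasicoherent] {A : QCAlg X} {j : L ⟶ A.toModule}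

/-- if `L(V)` is free on `e`, then `A(V)` is the polynomial ring on `j e` -/
theorem eval₂_bijective (hA : IsSymAlg L A j) (V : X.Opens) (hV : IsAffineOpen V) (e : Γ(L, V))
    (he : Function.Bijective (fun r : Γ(X, V) => r • e)) :
    Function.Bijective (Polynomial.eval₂RingHom (A.str.app (op V)).hom
      (show A.presheaf.obj (op V) from j.app V e)) := by
  classical
  let eq : Γ(X, V) ≃ₗ[Γ(X, V)] Γ(L, V) :=
    LinearEquiv.ofBijective (LinearMap.toSpanSingleton Γ(X, V) Γ(L, V) e) he
  let b : Module.Basis PUnit.{1} Γ(X, V) Γ(L, V) := (Module.Basis.singleton PUnit.{1} Γ(X, V)).map eq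
  have hb : b PUnit.unit.{1} = e := by
    simp [b, eq]
  let φ : Polynomial Γ(X, V) →+* A.presheaf.obj (op V) :=
    (symLift A j V).comp (((SymmetricAlgebra.equivMvPolynomial b).symm.toRingEquiv.toRingHom).comp
      ((MvPolynomial.pUnitAlgEquiv Γ(X, V)).symm.toRingEquiv.toRingHom))
  have hφ : φ = Polynomial.eval₂RingHom (A.str.app (op V)).hom
      (show A.presheaf.obj (op V) from j.app V e) := by
    apply Polynomial.ringHom_ext
    · intro r
      have h1 : (MvPolynomial.pUnitAlgEquiv Γ(X, V)).symm (Polynomial.C r) = MvPolynomial.C r := by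
        simp
      have h2 : (SymmetricAlgebra.equivMvPolynomial b).symm (MvPolynomial.C r) =
          algebraMap _ _ r := by
        rw [← MvPolynomial.algebraMap_eq]
        exact AlgEquiv.commutes _ r
      change symLift A j V ((SymmetricAlgebra.equivMvPolynomial b).symm
        ((MvPolynomial.pUnitAlgEquiv Γ(X, V)).symm (Polynomial.C r))) = _
      rw [h1, h2, symLift_algebraMap]
      simp
    · have h1 : (MvPolynomial.pUnitAlgEquiv Γ(X, V)).symm Polynomial.X =
          MvPolynomial.X PUnit.unit.{1} := by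
        simp
      change symLift A j V ((SymmetricAlgebra.equivMvPolynomial b).symm
        ((MvPolynomial.pUnitAlgEquiv Γ(X, V)).symm Polynomial.X)) = _
      rw [h1, SymmetricAlgebra.equivMvPolynomial_symm_X, hb, symLift_ι]
      simp
  rw [← hφ]
  exact (symLift_bijective hA V hV).comp
    ((SymmetricAlgebra.equivMvPolynomial b).symm.bijective.comp
      (MvPolynomial.pUnitAlgEquiv Γ(X, V)).symm.bijective)

/-- over an affine open where `L` is free on a generator, the structure morphism of
`Proj 𝒮L(V)` is an isomorphism -/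
theorem isIso_toSpecZero_strZero {𝒮L : QCGrAlg X} {j : L ⟶ 𝒮L.toModule}
    (hj : IsGrSymAlg L 𝒮L j) (V : X.Opens) (hV : IsAffineOpen V) (e : Γ(L, V))
    (he : Function.Bijective (fun r : Γ(X, V) => r • e)) :
    IsIso (Proj.toSpecZero (𝒮L.deg V hV) ≫ Spec.map (𝒮L.strZero V hV)) := by
  have hbij := eval₂_bijective hj.1 V hV e he
  exact isIso_toSpecZero_comp (𝒜 := 𝒮L.deg V hV) (𝒮L.str.app (op V)).hom
    (show 𝒮L.presheaf.obj (op V) from j.app V e) (hj.2 V hV e) (𝒮L.strZero V hV).hom
    (fun r => rfl) hbij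

/-- `Proj(Sym L) → X` is an isomorphism for `L` invertible -/
theorem isIso_relProj_of_isInvertible {PL : Scheme.{u}} (hL : PicF.IsInvertible L)
    {𝒮L : QCGrAlg X} {j : L ⟶ 𝒮L.toModule} (hj : IsGrSymAlg L 𝒮L j)
    (pL : PL ⟶ X) (chartL : ∀ (U : X.Opens) (hU : IsAffineOpen U),
      (((pL ⁻¹ᵁ U : PL.Opens) : Scheme.{u}) ≅ Proj (𝒮L.deg U hU)))
    (hPL : IsRelProj 𝒮L pL chartL) : IsIso pL := by
  change MorphismProperty.isomorphisms Scheme pL
  apply IsZariskiLocalAtTarget.of_forall_exists_morphismRestrict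
  intro x
  obtain ⟨V, hV, e, hxV, he⟩ := exists_affine_generator L hL x
  refine ⟨V, hxV, ?_⟩
  change IsIso (pL ∣_ V)
  haveI := isIso_toSpecZero_strZero hj V hV e he
  have h1 : pL ∣_ V = (chartL V hV).hom ≫
      (Proj.toSpecZero (𝒮L.deg V hV) ≫ Spec.map (𝒮L.strZero V hV)) ≫ hV.isoSpec.inv := by
    rw [← cancel_mono V.ι, morphismRestrict_ι, ← hPL.chart_over V hV]
    simp only [Category.assoc, IsAffineOpen.isoSpec_inv_ι]
  rw [h1]
  infer_instance

end

end Groth.Agent.Helper1.PL
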