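import Mathlib
import Groth.Prelude.Def_RelProj
import Groth.Agent.Helper1.RP9

/-!
# Relative Proj toolkit, part 10: existence of the relative Proj
-/

set_option autoImplicit false
set_option linter.style.haveILetI false

namespace Groth.Agent.Helper1.RP

open CategoryTheory Limits AlgebraicGeometry TopologicalSpace Opposite RelProj
open scoped HomogeneousIdeal

universe u

variable {Y : Scheme.{u}} (𝒮 : QCGrAlg Y)

/-- an affine open as an object of the small affine Zariski site -/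
abbrev az (U : Y.Opens) (hU : IsAffineOpen U) : Y.AffineZariskiSite := ⟨U, hU⟩

noncomputable instance : ((gluingData 𝒮).functor ⋙ Scheme.forget).IsLocallyDirected :=
  (gluingData 𝒮).instIsLocallyDirectedI₀CompFunctorForgetOfIsThin

/-- the relative Proj -/
noncomputable def relProj : Scheme.{u} := (gluingData 𝒮).glued

/-- the structure morphism of the relative Proj -/
noncomputable def relProjHom : relProj 𝒮 ⟶ Y := (gluingData 𝒮).toBase

/-- the inclusion of a chart -/
noncomputable def relProjι (U : Y.Opens) (hU : IsAffineOpen U) :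
    Proj (𝒮.deg U hU) ⟶ relProj 𝒮 :=
  colimit.ι (gluingData 𝒮).functor (az U hU)

instance (U : Y.Opens) (hU : IsAffineOpen U) : IsOpenImmersion (relProjι 𝒮 U hU) :=
  inferInstanceAs (IsOpenImmersion (colimit.ι (gluingData 𝒮).functor (az U hU)))

theorem relProjι_hom (U : Y.Opens) (hU : IsAffineOpen U) :
    relProjι 𝒮 U hU ≫ relProjHom 𝒮 = str 𝒮 U hU := by
  exact (Scheme.Cover.RelativeGluingData.ι_toBase (gluingData 𝒮) (az U hU)).trans
    (toOpen_ι 𝒮 U hU)

theorem opensRange_relProjι (U : Y.Opens) (hU : IsAffineOpen U) :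
    (relProjι 𝒮 U hU).opensRange = relProjHom 𝒮 ⁻¹ᵁ U := by
  have := (gluingData 𝒮).toBase_preimage_eq_opensRange_ι (az U hU)
  exact this.symm.trans
    (congrArg (fun V => (gluingData 𝒮).toBase ⁻¹ᵁ V) (Scheme.Opens.opensRange_ι U))

theorem relProjι_res (U : Y.Opens) (hU : IsAffineOpen U) (r : Γ(Y, U)) :
    Proj.map (𝒮.res hU (hU.basicOpen r) (Y.basicOpen_le r)) (𝒮.irrelevant_le_map U hU r) ≫
      relProjι 𝒮 U hU = relProjι 𝒮 (Y.basicOpen r) (hU.basicOpen r) := by
  have hle : az (Y.basicOpen r) (hU.basicOpen r) ≤ az U hU := ⟨r, rfl⟩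
  exact colimit.w (gluingData 𝒮).functor (homOfLE hle)

theorem range_relProjι (U : Y.Opens) (hU : IsAffineOpen U) :
    Set.range (relProjι 𝒮 U hU) = Set.range (relProjHom 𝒮 ⁻¹ᵁ U).ι := by
  rw [Scheme.Opens.range_ι, ← opensRange_relProjι]
  rfl

/-- the charts of the relative Proj -/
noncomputable def relProjChart (U : Y.Opens) (hU : IsAffineOpen U) :
    ((relProjHom 𝒮 ⁻¹ᵁ U : (relProj 𝒮).Opens) : Scheme.{u}) ≅ Proj (𝒮.deg U hU) :=
  (IsOpenImmersion.isoOfRangeEq (relProjι 𝒮 U hU) (relProjHom 𝒮 ⁻¹ᵁ U).ι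
    (range_relProjι 𝒮 U hU)).symm

theorem relProjChart_inv_ι (U : Y.Opens) (hU : IsAffineOpen U) :
    (relProjChart 𝒮 U hU).inv ≫ (relProjHom 𝒮 ⁻¹ᵁ U).ι = relProjι 𝒮 U hU :=
  IsOpenImmersion.isoOfRangeEq_hom_fac _ _ (range_relProjι 𝒮 U hU)

theorem isRelProj_relProj : IsRelProj 𝒮 (relProjHom 𝒮) (relProjChart 𝒮) where
  chart_over U hU := by
    rw [← cancel_epi (relProjChart 𝒮 U hU).inv, Iso.inv_hom_id_assoc,
      reassoc_of% relProjChart_inv_ι 𝒮 U hU, relProjι_hom]
    rfl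
  chart_res U hU r := by
    rw [← cancel_epi (relProjChart 𝒮 (Y.basicOpen r) (hU.basicOpen r)).inv,
      Iso.inv_hom_id_assoc, ← cancel_mono (relProjChart 𝒮 U hU).inv, Category.assoc,
      Category.assoc, Iso.hom_inv_id, Category.comp_id,
      ← cancel_mono (relProjHom 𝒮 ⁻¹ᵁ U).ι, Category.assoc, Category.assoc,
      Scheme.homOfLE_ι, relProjChart_inv_ι, relProjChart_inv_ι, relProjι_res]

theorem exists_isRelProj :
    ∃ (P : Scheme.{u}) (p : P ⟶ Y)
      (chart : ∀ (U : Y.Opens) (hU : IsAffineOpen U),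
        (((p ⁻¹ᵁ U : P.Opens) : Scheme.{u}) ≅ Proj (𝒮.deg U hU))),
      IsRelProj 𝒮 p chart :=
  ⟨relProj 𝒮, relProjHom 𝒮, relProjChart 𝒮, isRelProj_relProj 𝒮⟩

end Groth.Agent.Helper1.RP
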