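import Mathlib
import Groth.Agent.Helper1.RP5

/-!
# Relative Proj toolkit, part 6: finite type for algebras generated in degree one
with finitely generated degree one part
-/

set_option autoImplicit false
set_option linter.style.haveILetI false

namespace Groth.Agent.Helper1.RP

open CategoryTheory Limits AlgebraicGeometry TopologicalSpace HomogeneousIdeal
  HomogeneousLocalization

universe u

section

variable {R A : Type u} [CommRing R] [CommRing A]
  {𝒜 : ℕ → AddSubgroup A} [GradedRing 𝒜]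
  (f0 : R →+* 𝒜 0) (T : Finset A) (hT : (↑T : Set A) ⊆ (𝒜 1 : Set A))
  (hspan : ∀ x ∈ 𝒜 1, ∃ c : A → R, x = ∑ t ∈ T, ((f0 (c t) : 𝒜 0) : A) * t)
  (hgen : Subring.closure ((𝒜 0 : Set A) ∪ (𝒜 1 : Set A)) = ⊤)

include hspan hgen in
theorem adjoin_eq_top : Algebra.adjoin (𝒜 0) (↑T : Set A) = ⊤ := by
  rw [_root_.eq_top_iff]
  intro a _
  have ha : a ∈ Subring.closure ((𝒜 0 : Set A) ∪ (𝒜 1 : Set A)) := by rw [hgen]; trivial
  have hle : Subring.closure ((𝒜 0 : Set A) ∪ (𝒜 1 : Set A)) ≤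
      (Algebra.adjoin (𝒜 0) (↑T : Set A)).toSubring := by
    rw [Subring.closure_le]
    rintro x (hx | hx)
    · exact (Algebra.adjoin (𝒜 0) (↑T : Set A)).algebraMap_mem ⟨x, hx⟩
    · obtain ⟨c, rfl⟩ := hspan x hx
      refine Subalgebra.sum_mem _ fun t ht => ?_
      exact Subalgebra.mul_mem _ ((Algebra.adjoin (𝒜 0) (↑T : Set A)).algebraMap_mem (f0 (c t)))
        (Algebra.subset_adjoin ht)
  exact hle ha

include hT hspan hgen in
theorem irrelevant_le_span : (𝒜₊).toIdeal ≤ Ideal.span (↑T : Set A) := by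
  have hI : (Ideal.span (↑T : Set A)).IsHomogeneous 𝒜 :=
    Ideal.homogeneous_span 𝒜 _ (fun x hx => ⟨1, hT hx⟩)
  have key : ∀ a : A, ∃ a0 ∈ 𝒜 0, a - a0 ∈ Ideal.span (↑T : Set A) := by
    intro a
    have ha : a ∈ Subring.closure ((𝒜 0 : Set A) ∪ (𝒜 1 : Set A)) := by rw [hgen]; trivial
    induction ha using Subring.closure_induction with
    | mem x hx =>
      rcases hx with hx | hx
      · exact ⟨x, hx, by rw [sub_self]; exact zero_mem _⟩
      · refine ⟨0, zero_mem _, ?_⟩
        rw [sub_zero]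
        obtain ⟨c, rfl⟩ := hspan x hx
        exact Ideal.sum_mem _ fun t ht => Ideal.mul_mem_left _ _ (Ideal.subset_span ht)
    | zero => exact ⟨0, zero_mem _, by rw [sub_self]; exact zero_mem _⟩
    | one => exact ⟨1, SetLike.GradedOne.one_mem, by rw [sub_self]; exact zero_mem _⟩
    | add x y _ _ hx hy =>
      obtain ⟨x0, hx0, hx1⟩ := hx
      obtain ⟨y0, hy0, hy1⟩ := hy
      refine ⟨x0 + y0, add_mem hx0 hy0, ?_⟩
      have : x + y - (x0 + y0) = (x - x0) + (y - y0) := by ring
      rw [this]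
      exact add_mem hx1 hy1
    | neg x _ hx =>
      obtain ⟨x0, hx0, hx1⟩ := hx
      refine ⟨-x0, neg_mem hx0, ?_⟩
      have : -x - -x0 = -(x - x0) := by ring
      rw [this]
      exact neg_mem hx1
    | mul x y _ _ hx hy =>
      obtain ⟨x0, hx0, hx1⟩ := hx
      obtain ⟨y0, hy0, hy1⟩ := hy
      refine ⟨x0 * y0, by simpa using SetLike.mul_mem_graded hx0 hy0, ?_⟩
      have : x * y - x0 * y0 = (x - x0) * y + x0 * (y - y0) := by ring
      rw [this]
      exact add_mem (Ideal.mul_mem_right _ _ hx1) (Ideal.mul_mem_left _ _ hy1)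
  rw [HomogeneousIdeal.toIdeal_irrelevant_le]
  intro i hi x hx
  obtain ⟨a0, ha0, h1⟩ := key x
  have h2 := hI i h1
  have h3 : ((DirectSum.decompose 𝒜 (x - a0)) i : A) = x := by
    rw [DirectSum.decompose_sub, DirectSum.sub_apply, AddSubgroupClass.coe_sub,
      DirectSum.decompose_of_mem_same 𝒜 hx, DirectSum.decompose_of_mem_ne 𝒜 ha0 hi.ne, sub_zero]
  rw [h3] at h2
  exact h2

/-- total version of `t' ↦ t'/t` -/
noncomputable def frac {t : A} (ht : t ∈ 𝒜 1) (t' : A) : Away 𝒜 t := by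
  classical
  exact if hm : t' ∈ 𝒜 1 then Away.mk 𝒜 ht 1 t' (by simpa using hm) else 0

theorem val_frac {t : A} (ht : t ∈ 𝒜 1) (t' : A) (hm : t' ∈ 𝒜 1) :
    (frac ht t').val = Localization.mk t' ⟨t, Submonoid.mem_powers t⟩ := by
  unfold frac
  rw [dif_pos hm, Away.val_mk]
  congr 1
  exact Subtype.ext (pow_one t)

include hT hspan in
theorem fromZero_mem_adjoin {t : A} [DecidableEq (Away 𝒜 t)] (ht : t ∈ 𝒜 1) (a : 𝒜 0) :
    letI : Algebra R (Away 𝒜 t) := ((fromZeroRingHom 𝒜 (Submonoid.powers t)).comp f0).toAlgebra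
    fromZeroRingHom 𝒜 (Submonoid.powers t) a ∈
      Algebra.adjoin R ((↑(T.image (frac ht)) : Set (Away 𝒜 t))) := by
  letI : Algebra R (Away 𝒜 t) := ((fromZeroRingHom 𝒜 (Submonoid.powers t)).comp f0).toAlgebra
  have hat : (a : A) * t ∈ 𝒜 1 := by simpa using SetLike.mul_mem_graded a.2 ht
  obtain ⟨c, hc⟩ := hspan _ hat
  have key : fromZeroRingHom 𝒜 (Submonoid.powers t) a =
      ∑ t' ∈ T, (fromZeroRingHom 𝒜 (Submonoid.powers t)) (f0 (c t')) * frac ht t' := by
    apply val_injective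
    rw [← HomogeneousLocalization.algebraMap_apply, ← HomogeneousLocalization.algebraMap_apply, map_sum]
    have h1 : ∀ t' ∈ T, algebraMap (Away 𝒜 t) (Localization (Submonoid.powers t))
        ((fromZeroRingHom 𝒜 (Submonoid.powers t)) (f0 (c t')) * frac ht t') =
        algebraMap A (Localization (Submonoid.powers t)) (((f0 (c t') : 𝒜 0) : A) * t') *
          Localization.mk 1 ⟨t, Submonoid.mem_powers t⟩ := by
      intro t' ht'
      rw [map_mul, HomogeneousLocalization.algebraMap_apply, HomogeneousLocalization.algebraMap_apply, val_frac ht t' (hT ht'), map_mul]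
      simp only [fromZeroRingHom, RingHom.coe_mk, MonoidHom.coe_mk, OneHom.coe_mk, val_mk]
      rw [← Localization.mk_one_eq_algebraMap, ← Localization.mk_one_eq_algebraMap,
        Localization.mk_mul, Localization.mk_mul, Localization.mk_mul]
      simp only [one_mul, mul_one]
      congr 1
      exact Subtype.ext (one_mul t)
    rw [Finset.sum_congr rfl h1, ← Finset.sum_mul, ← map_sum, ← hc, HomogeneousLocalization.algebraMap_apply]
    simp only [fromZeroRingHom, RingHom.coe_mk, MonoidHom.coe_mk, OneHom.coe_mk, val_mk]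
    rw [← Localization.mk_one_eq_algebraMap, Localization.mk_mul, Localization.mk_eq_mk_iff,
      Localization.r_iff_exists]
    refine ⟨1, ?_⟩
    simp [mul_comm]
  rw [key]
  refine Subalgebra.sum_mem _ fun t' ht' => ?_
  refine Subalgebra.mul_mem _ ?_ (Algebra.subset_adjoin (Finset.mem_image_of_mem _ ht'))
  exact Subalgebra.algebraMap_mem _ (c t')

include hT hspan hgen in
theorem finiteType_away {t : A} (ht : t ∈ 𝒜 1) :
    ((fromZeroRingHom 𝒜 (Submonoid.powers t)).comp f0).FiniteType := by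
  classical
  letI : Algebra R (Away 𝒜 t) := ((fromZeroRingHom 𝒜 (Submonoid.powers t)).comp f0).toAlgebra
  haveI : Algebra.FiniteType (𝒜 0) A := ⟨⟨T, adjoin_eq_top f0 T hspan hgen⟩⟩
  obtain ⟨G, hG⟩ := (Away.finiteType (𝒜 := 𝒜) t 1 ht).out
  show Algebra.FiniteType R (Away 𝒜 t)
  refine ⟨⟨T.image (frac ht) ∪ G, ?_⟩⟩
  rw [_root_.eq_top_iff]
  rintro b -
  have hb : b ∈ Algebra.adjoin (𝒜 0) (↑G : Set (Away 𝒜 t)) := by rw [hG]; trivial
  induction hb using Algebra.adjoin_induction with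
  | mem x hx =>
    exact Algebra.subset_adjoin (by
      rw [Finset.coe_union]; exact Or.inr hx)
  | algebraMap a =>
    have := fromZero_mem_adjoin f0 T hT hspan ht a
    refine Algebra.adjoin_mono ?_ this
    rw [Finset.coe_union]
    exact Set.subset_union_left
  | add x y _ _ hx hy => exact add_mem hx hy
  | mul x y _ _ hx hy => exact mul_mem hx hy

include hT hspan hgen in
theorem finiteType_proj :
    LocallyOfFiniteType (Proj.toSpecZero 𝒜 ≫ Spec.map (CommRingCat.ofHom f0)) ∧
      QuasiCompact (Proj.toSpecZero 𝒜 ≫ Spec.map (CommRingCat.ofHom f0)) := by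
  haveI : Algebra.FiniteType (𝒜 0) A := ⟨⟨T, adjoin_eq_top f0 T hspan hgen⟩⟩
  refine ⟨?_, inferInstance⟩
  let 𝒰 := Proj.affineOpenCoverOfIrrelevantLESpan 𝒜 (fun t : T => t.1) (m := fun _ => 1)
    (fun t => hT t.2) (fun _ => Nat.one_pos) (by
      have : Set.range (fun t : T => t.1) = (↑T : Set A) := by
        ext x; simp
      rw [this]
      exact irrelevant_le_span f0 T hT hspan hgen)
  apply IsZariskiLocalAtSource.of_openCover (P := @LocallyOfFiniteType) 𝒰.openCover
  intro t
  show LocallyOfFiniteType (Proj.awayι 𝒜 t.1 (hT t.2) Nat.one_pos ≫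
    Proj.toSpecZero 𝒜 ≫ Spec.map (CommRingCat.ofHom f0))
  rw [Proj.awayι_toSpecZero_assoc, ← Spec.map_comp,
    HasRingHomProperty.Spec_iff (P := @LocallyOfFiniteType)]
  exact finiteType_away f0 T hT hspan hgen (hT t.2)

end

end Groth.Agent.Helper1.RP
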