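import Mathlib

/-!
# `Proj.map` of a graded homomorphism surjective in positive degrees is a closed immersion

Generic gradings (any `SetLike` classes of additive subgroups), and surjectivity is only needed in
positive degrees.
-/

set_option autoImplicit false
set_option linter.style.haveILetI false

namespace Groth.Agent.Helper1.RPP

open CategoryTheory CategoryTheory.Limits AlgebraicGeometry HomogeneousLocalization

universe u

variable {A B σ τ : Type u} [CommRing A] [SetLike σ A] [AddSubgroupClass σ A]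
  [CommRing B] [SetLike τ B] [AddSubgroupClass τ B]
  (𝒜 : ℕ → σ) (ℬ : ℕ → τ) [GradedRing 𝒜] [GradedRing ℬ]

/-- every point of Proj lies in some `D_+(s)` with `s` homogeneous of positive degree -/
theorem exists_basicOpen (x : Proj 𝒜) :
    ∃ (s : A) (d : ℕ), 0 < d ∧ s ∈ 𝒜 d ∧ x ∈ Proj.basicOpen 𝒜 s := by
  have h := (Proj.affineOpenCover 𝒜).covers x
  generalize (Proj.affineOpenCover 𝒜).idx x = i at h
  obtain ⟨⟨n, hn⟩, ⟨s, hs⟩⟩ := i
  have hs' : s ∈ 𝒜 n := hs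
  refine ⟨s, n, hn, hs', ?_⟩
  have h2 : x ∈ (Proj.awayι 𝒜 s hs' hn).opensRange := h
  rw [Proj.opensRange_awayι] at h2
  exact h2

variable {𝒜 ℬ}

theorem away_map_surjective (φ : 𝒜 →+*ᵍ ℬ)
    (hsurj : ∀ d : ℕ, 0 < d → ∀ b ∈ ℬ d, ∃ a ∈ 𝒜 d, φ a = b)
    (s : A) (d : ℕ) (hd : 0 < d) (hs : s ∈ 𝒜 d) : Function.Surjective (Away.map φ s) := by
  intro z
  obtain ⟨n, b, hb, rfl⟩ := Away.mk_surjective ℬ (φ.map_mem hs) z
  -- replace `(n, b)` by `(n + 1, b * φ s)`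
  have hb' : b * φ s ∈ ℬ ((n + 1) • d) := by
    rw [add_smul, one_smul]
    exact SetLike.mul_mem_graded hb (φ.map_mem hs)
  have hpos : 0 < (n + 1) • d := by
    rw [smul_eq_mul]
    exact Nat.mul_pos (Nat.succ_pos n) hd
  obtain ⟨a, ha, hab⟩ := hsurj _ hpos _ hb'
  refine ⟨Away.mk 𝒜 hs (n + 1) a ha, ?_⟩
  rw [Away.map_mk]
  apply HomogeneousLocalization.val_injective
  rw [Away.val_mk, Away.val_mk, hab, Localization.mk_eq_mk_iff, Localization.r_iff_exists]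
  refine ⟨1, ?_⟩
  simp only [OneMemClass.coe_one, one_mul]
  change φ s ^ n * (b * φ s) = φ s ^ (n + 1) * b
  ring

theorem app_surjective (φ : 𝒜 →+*ᵍ ℬ)
    (hsurj : ∀ d : ℕ, 0 < d → ∀ b ∈ ℬ d, ∃ a ∈ 𝒜 d, φ a = b)
    (hφ : HomogeneousIdeal.irrelevant ℬ ≤ (HomogeneousIdeal.irrelevant 𝒜).map φ)
    (s : A) (d : ℕ) (hd : 0 < d) (hs : s ∈ 𝒜 d) :
    Function.Surjective ((Proj.map φ hφ).app (Proj.basicOpen 𝒜 s)).hom := by
  have h1 := Proj.awayToSection_comp_appLE φ hφ hs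
  have hiso𝒜 : IsIso (Proj.awayToSection 𝒜 s) :=
    (Proj.basicOpenIsoAway 𝒜 s hs hd).isIso_hom
  have hisoℬ : IsIso (Proj.awayToSection ℬ (φ s)) :=
    (Proj.basicOpenIsoAway ℬ (φ s) (φ.map_mem hs) hd).isIso_hom
  have h2 : Scheme.Hom.appLE (Proj.map φ hφ) (Proj.basicOpen 𝒜 s) (Proj.basicOpen ℬ (φ s))
      (by rfl) =
      inv (Proj.awayToSection 𝒜 s) ≫ CommRingCat.ofHom (Away.map φ s) ≫
        Proj.awayToSection ℬ (φ s) := by
    rw [← h1, IsIso.inv_hom_id_assoc]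
  have h3 : (Proj.map φ hφ).app (Proj.basicOpen 𝒜 s) =
      Scheme.Hom.appLE (Proj.map φ hφ) (Proj.basicOpen 𝒜 s)
        (Proj.map φ hφ ⁻¹ᵁ Proj.basicOpen 𝒜 s) le_rfl := (Scheme.Hom.appLE_eq_app _).symm
  rw [h3]
  change Function.Surjective (Scheme.Hom.appLE (Proj.map φ hφ) (Proj.basicOpen 𝒜 s)
    (Proj.basicOpen ℬ (φ s)) (by rfl)).hom
  rw [h2]
  simp only [CommRingCat.hom_comp, RingHom.coe_comp, CommRingCat.hom_ofHom]
  refine (Function.Surjective.comp ?_ ?_).comp ?_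
  · exact (ConcreteCategory.bijective_of_isIso (Proj.awayToSection ℬ (φ s))).2
  · exact away_map_surjective φ hsurj s d hd hs
  · exact (ConcreteCategory.bijective_of_isIso (inv (Proj.awayToSection 𝒜 s))).2

set_option backward.isDefEq.respectTransparency.types false in
/-- **`Proj.map φ` is a closed immersion** when `φ` is surjective in positive degrees -/
theorem isClosedImmersion_map
    (φ : 𝒜 →+*ᵍ ℬ) (hsurj : ∀ d : ℕ, 0 < d → ∀ b ∈ ℬ d, ∃ a ∈ 𝒜 d, φ a = b)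
    (hφ : HomogeneousIdeal.irrelevant ℬ ≤ (HomogeneousIdeal.irrelevant 𝒜).map φ) :
    IsClosedImmersion (Proj.map φ hφ) := by
  let U : (Σ i : ℕ+, 𝒜 i) → (Proj 𝒜).affineOpens := fun i =>
    ⟨Proj.basicOpen 𝒜 (i.2 : A), Proj.isAffineOpen_basicOpen 𝒜 (i.2 : A) i.2.2 i.1.2⟩
  have hU : ⨆ i, (U i : (Proj 𝒜).Opens) = ⊤ := by
    refine top_le_iff.mp fun x _ => TopologicalSpace.Opens.mem_iSup.mpr ?_
    obtain ⟨s, d, hd, hs, hx⟩ := exists_basicOpen 𝒜 x
    exact ⟨⟨⟨d, hd⟩, ⟨s, hs⟩⟩, hx⟩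
  rw [HasAffineProperty.iff_of_iSup_eq_top (P := @IsClosedImmersion) U hU]
  intro i
  refine ⟨?_, ?_⟩
  · have : IsAffineOpen (Proj.map φ hφ ⁻¹ᵁ (U i : (Proj 𝒜).Opens)) := by
      change IsAffineOpen (Proj.map φ hφ ⁻¹ᵁ Proj.basicOpen 𝒜 (i.2 : A))
      rw [Proj.map_preimage_basicOpen]
      exact Proj.isAffineOpen_basicOpen ℬ (φ i.2) (φ.map_mem i.2.2) i.1.2
    exact this
  · rw [morphismRestrict_appTop]
    have hcomp : ∀ {X Y Z : CommRingCat.{u}} (f : X ⟶ Y) (g : Y ⟶ Z) (_ : IsIso g),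
        Function.Surjective f.hom → Function.Surjective (f ≫ g).hom := by
      intro X Y Z f g _ hf
      rw [CommRingCat.hom_comp, RingHom.coe_comp]
      exact (ConcreteCategory.bijective_of_isIso g).2.comp hf
    have key : ∀ (W : (Proj 𝒜).Opens), W = Proj.basicOpen 𝒜 (i.2 : A) →
        Function.Surjective ((Proj.map φ hφ).app W).hom := by
      rintro W rfl
      exact app_surjective φ hsurj hφ (i.2 : A) i.1 i.1.2 i.2.2
    have hiso : ∀ {V W : (Proj ℬ).Opens} (h : V = W),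
        IsIso ((Proj ℬ).presheaf.map (eqToHom h).op) := by
      intro V W h
      subst h
      rw [eqToHom_refl, op_id, CategoryTheory.Functor.map_id]
      infer_instance
    exact hcomp _ _ (hiso _) (key _ (Scheme.Opens.ι_image_top _))

end Groth.Agent.Helper1.RPP
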