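import Mathlib
import Groth.Agent.Helper1.RPP1
import Groth.Agent.Helper1.RP6
import Groth.Agent.Helper1.RP2

/-!
# `Proj` of a graded ring generated by finitely many degree-one elements over a base ring `R`
is proper over `Spec R`

(no finiteness assumption on the degree-zero part over `R`)
-/

set_option autoImplicit false
set_option linter.style.haveILetI false
set_option linter.unusedSectionVars false

namespace Groth.Agent.Helper1.RPP

open CategoryTheory CategoryTheory.Limits AlgebraicGeometry HomogeneousLocalization MvPolynomial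
open scoped HomogeneousIdeal

universe u

attribute [local instance] MvPolynomial.gradedAlgebra

section poly

variable (ι : Type u) [Finite ι] (R : Type u) [CommRing R]

instance finiteType_gradeZero :
    Algebra.FiniteType (homogeneousSubmodule ι R 0) (MvPolynomial ι R) := by
  have : Algebra.FiniteType R (MvPolynomial ι R) := inferInstance
  haveI : IsScalarTower R (homogeneousSubmodule ι R 0) (MvPolynomial ι R) :=
    ⟨fun r s a => smul_mul_assoc r (s : MvPolynomial ι R) a⟩
  exact Algebra.FiniteType.of_restrictScalars_finiteType R _ _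

theorem surj_gradeZero :
    Function.Surjective (algebraMap R (homogeneousSubmodule ι R 0)) := by
  rintro ⟨p, hp⟩
  have hp' : p.IsHomogeneous 0 := hp
  have h0 : p.totalDegree = 0 := Nat.le_zero.mp hp'.totalDegree_le
  refine ⟨p.coeff 0, ?_⟩
  apply Subtype.ext
  show MvPolynomial.C (p.coeff 0) = p
  exact ((MvPolynomial.totalDegree_eq_zero_iff_eq_C).mp h0).symm

/-- the structure morphism of `Proj R[ι]` -/
noncomputable def polyToSpec : Proj (homogeneousSubmodule ι R) ⟶ Spec (CommRingCat.of R) :=
  Proj.toSpecZero (homogeneousSubmodule ι R) ≫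
    Spec.map (CommRingCat.ofHom (algebraMap R (homogeneousSubmodule ι R 0)))

instance isProper_polyToSpec : IsProper (polyToSpec ι R) := by
  haveI : IsClosedImmersion
      (Spec.map (CommRingCat.ofHom (algebraMap R (homogeneousSubmodule ι R 0)))) :=
    IsClosedImmersion.spec_of_surjective _ (surj_gradeZero ι R)
  have a1 : IsProper (Proj.toSpecZero (homogeneousSubmodule ι R)) := inferInstance
  have b1 : IsProper
      (Spec.map (CommRingCat.ofHom (algebraMap R (homogeneousSubmodule ι R 0)))) := inferInstance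
  exact MorphismProperty.comp_mem _ _ _ a1 b1

end poly

section main

variable {R A : Type u} [CommRing R] [CommRing A]
  {𝒜 : ℕ → AddSubgroup A} [GradedRing 𝒜]
  (f0 : R →+* 𝒜 0) (T : Finset A) (hT : (↑T : Set A) ⊆ (𝒜 1 : Set A))
  (hspan : ∀ x ∈ 𝒜 1, ∃ c : A → R, x = ∑ t ∈ T, ((f0 (c t) : 𝒜 0) : A) * t)
  (hgen : Subring.closure ((𝒜 0 : Set A) ∪ (𝒜 1 : Set A)) = ⊤)

/-- the coefficient homomorphism `R → A` -/
noncomputable def coeffHom : R →+* A := (algebraMap (𝒜 0) A).comp f0

lemma coeffHom_apply (r : R) : coeffHom f0 r = ((f0 r : 𝒜 0) : A) := rfl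

/-- the evaluation homomorphism `R[T] → A` -/
noncomputable def evalHom : MvPolynomial T R →+* A :=
  eval₂Hom (coeffHom f0) (fun t : T => (t : A))

lemma evalHom_C (r : R) : evalHom f0 T (C r) = ((f0 r : 𝒜 0) : A) := by
  unfold evalHom
  rw [coe_eval₂Hom, eval₂_C]
  rfl

lemma evalHom_X (t : T) : evalHom f0 T (X t) = (t : A) := by
  unfold evalHom
  rw [coe_eval₂Hom, eval₂_X]

include hT in
lemma evalHom_mem {d : ℕ} {p : MvPolynomial T R} (hp : p ∈ homogeneousSubmodule T R d) :
    evalHom f0 T p ∈ 𝒜 d := by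
  have hp' : p.IsHomogeneous d := hp
  unfold evalHom
  rw [coe_eval₂Hom, eval₂_eq]
  refine sum_mem fun m hm => ?_
  have h1 : coeffHom f0 (coeff m p) ∈ 𝒜 0 := (f0 (coeff m p)).2
  have h2 : ∏ i ∈ m.support, ((i : T) : A) ^ m i ∈ 𝒜 (∑ i ∈ m.support, m i • 1) :=
    SetLike.prod_pow_mem_graded 𝒜 (fun _ => 1) (fun i : T => (i : A)) (fun i => m i)
      (fun i _ => hT i.2)
  have h3 : (∑ i ∈ m.support, m i • 1) = d := by
    rw [hp'.degree_eq_sum_deg_support hm]
    simp
  rw [h3] at h2
  have := SetLike.mul_mem_graded h1 h2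
  rwa [zero_add] at this

/-- the evaluation homomorphism as a graded homomorphism -/
noncomputable def evalGr : (homogeneousSubmodule T R) →+*ᵍ 𝒜 where
  toRingHom := evalHom f0 T
  map_mem := fun hp => evalHom_mem f0 T hT hp

include hT hspan hgen in
theorem evalHom_surj_pos : ∀ d : ℕ, 0 < d → ∀ x ∈ 𝒜 d,
    ∃ p ∈ homogeneousSubmodule T R d, evalHom f0 T p = x := by
  classical
  have base : ∀ x ∈ 𝒜 1, ∃ p ∈ homogeneousSubmodule T R 1, evalHom f0 T p = x := by
    intro x hx
    obtain ⟨c, rfl⟩ := hspan x hx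
    refine ⟨∑ t : T, C (c t.1) * X t, ?_, ?_⟩
    · refine Submodule.sum_mem _ fun t _ => ?_
      have h1 : (C (c t.1) : MvPolynomial T R) ∈ homogeneousSubmodule T R 0 :=
        isHomogeneous_C _ _
      have h2 : (X t : MvPolynomial T R) ∈ homogeneousSubmodule T R 1 := isHomogeneous_X _ _
      have := SetLike.mul_mem_graded h1 h2
      rwa [zero_add] at this
    · rw [map_sum]
      rw [← Finset.sum_coe_sort T (fun t => ((f0 (c t) : 𝒜 0) : A) * t)]
      refine Finset.sum_congr rfl fun t _ => ?_
      rw [map_mul, evalHom_C, evalHom_X]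
  intro d hd
  induction d, hd using Nat.le_induction with
  | base => exact base
  | succ d hd ih =>
    intro x hx
    have hxirr : x ∈ (𝒜₊).toIdeal :=
      HomogeneousIdeal.mem_irrelevant_of_mem 𝒜 (Nat.succ_pos d) hx
    have hxspan := RP.irrelevant_le_span f0 T hT hspan hgen hxirr
    obtain ⟨a, ha⟩ := (Submodule.mem_span_finset' (s := T)).1 hxspan
    -- take the degree `d + 1` component
    have hx' : x = ∑ t : T,
        (DirectSum.decompose 𝒜 (a t) d : A) * (t : A) := by
      have h1 : (DirectSum.decompose 𝒜 x (d + 1) : A) = x :=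
        DirectSum.decompose_of_mem_same 𝒜 hx
      rw [← h1, ← ha, DirectSum.decompose_sum, DirectSum.sum_apply,
        AddSubmonoidClass.coe_finset_sum]
      refine Finset.sum_congr rfl fun t _ => ?_
      exact DirectSum.coe_decompose_mul_add_of_right_mem 𝒜 (hT t.2)
    choose q hq1 hq2 using fun t : T => ih (DirectSum.decompose 𝒜 (a t) d : A) (SetLike.coe_mem _)
    refine ⟨∑ t : T, q t * X t, ?_, ?_⟩
    · refine Submodule.sum_mem _ fun t _ => ?_
      have h2 : (X t : MvPolynomial T R) ∈ homogeneousSubmodule T R 1 := isHomogeneous_X _ _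
      exact SetLike.mul_mem_graded (hq1 t) h2
    · rw [map_sum, hx']
      refine Finset.sum_congr rfl fun t _ => ?_
      rw [map_mul, hq2, evalHom_X]

include hT hspan hgen in
theorem irrelevant_le_map :
    𝒜₊ ≤ ((homogeneousSubmodule T R)₊).map (evalGr f0 T hT) := by
  have h1 := RP.irrelevant_le_span f0 T hT hspan hgen
  have h2 : Ideal.span (↑T : Set A) ≤
      (((homogeneousSubmodule T R)₊).map (evalGr f0 T hT)).toIdeal := by
    rw [Ideal.span_le]
    intro t ht
    have h3 : (X (⟨t, ht⟩ : T) : MvPolynomial T R) ∈ ((homogeneousSubmodule T R)₊).toIdeal :=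
      HomogeneousIdeal.mem_irrelevant_of_mem _ Nat.one_pos (isHomogeneous_X _ _)
    have h4 := Ideal.mem_map_of_mem (evalGr f0 T hT) h3
    have h5 : (evalGr f0 T hT) (X (⟨t, ht⟩ : T)) = t := evalHom_X f0 T ⟨t, ht⟩
    rw [h5] at h4
    exact h4
  exact h1.trans h2

include hT hspan hgen in
/-- **`Proj 𝒜 ⟶ Spec R` is proper** when `𝒜` is generated over `𝒜 0` by `𝒜 1` and `𝒜 1` is
generated as an `R`-module by finitely many elements -/
theorem isProper_proj :
    IsProper (Proj.toSpecZero 𝒜 ≫ Spec.map (CommRingCat.ofHom f0)) := by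
  have hirr := irrelevant_le_map f0 T hT hspan hgen
  haveI : IsClosedImmersion (Proj.map (evalGr f0 T hT) hirr) :=
    isClosedImmersion_map (evalGr f0 T hT) (evalHom_surj_pos f0 T hT hspan hgen) hirr
  have h1 : Proj.toSpecZero 𝒜 ≫ Spec.map (CommRingCat.ofHom f0) =
      Proj.map (evalGr f0 T hT) hirr ≫ polyToSpec T R := by
    unfold polyToSpec
    rw [← Category.assoc, Groth.Agent.Helper1.RP.map_toSpecZero, Category.assoc, ← Spec.map_comp]
    congr 2
    ext r
    exact (evalHom_C f0 T r).symm
  rw [h1]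
  infer_instance

end main

end Groth.Agent.Helper1.RPP
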