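import Mathlib
import Groth.Prelude.Def_RelProj
import Groth.Agent.Helper1.RPP2

/-!
# A relative `Proj` of an algebra generated by its degree-one part of finite type is proper
-/

set_option autoImplicit false
set_option linter.style.haveILetI false

namespace Groth.Agent.Helper1.RPP

open CategoryTheory CategoryTheory.Limits AlgebraicGeometry Opposite TopologicalSpace RelProj

universe u

theorem isProper_of_isRelProj {Y P : Scheme.{u}} (𝒮 : RelProj.QCGrAlg Y)
    (hgen : 𝒮.IsGenDegOne) (hft : 𝒮.IsFTDeg 1) (p : P ⟶ Y)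
    (chart : ∀ (U : Y.Opens) (hU : IsAffineOpen U),
      (((p ⁻¹ᵁ U : P.Opens) : Scheme.{u}) ≅ Proj (𝒮.deg U hU)))
    (hP : RelProj.IsRelProj 𝒮 p chart) : IsProper p := by
  rw [IsZariskiLocalAtTarget.iff_of_iSup_eq_top (P := @IsProper)
    (fun U : Y.affineOpens => U.1) (iSup_affineOpens_eq_top Y)]
  rintro ⟨U, hU'⟩
  have hU : IsAffineOpen U := hU'
  have h := hP.chart_over U hU
  have h2 : (p ∣_ U) ≫ U.ι = (p ⁻¹ᵁ U).ι ≫ p := morphismRestrict_ι p U
  obtain ⟨T, hT, hspan⟩ := hft U hU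
  haveI h4 := isProper_proj (𝒜 := 𝒮.deg U hU) (𝒮.strZero U hU).hom T hT hspan (hgen U hU)
  have h3 : p ∣_ U = (chart U hU).hom ≫ (Proj.toSpecZero (𝒮.deg U hU) ≫
      Spec.map (CommRingCat.ofHom (𝒮.strZero U hU).hom)) ≫ hU.isoSpec.inv := by
    rw [← cancel_mono U.ι, h2, ← h]
    simp only [Category.assoc, IsAffineOpen.isoSpec_inv_ι]
    rfl
  change IsProper (p ∣_ U)
  rw [h3]
  infer_instance

end Groth.Agent.Helper1.RPP
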