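import Mathlib
import Groth.Prelude.Def_RelProj3
import Groth.Agent.Helper1.TR5
import Groth.Agent.Helper1.RP11
import Groth.Agent.Helper1.TwistMul5
import Groth.Agent.Helper4.AmpleLocal

/-!
# Invertibility of the twisting sheaves for gradings by additive subgroups and on a relative Proj
-/

set_option autoImplicit false
set_option linter.style.haveILetI false

namespace Groth.Agent.Helper1.TRT

open CategoryTheory AlgebraicGeometry TopologicalSpace Opposite
open Groth.Agent.Helper1.TRZ
open scoped HomogeneousIdeal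

universe u

attribute [local instance] ULift.algebra'

section cover

variable {R A : Type u} [CommRing R] [CommRing A] [Algebra R A] (𝒜 : ℕ → Submodule R A)
  [GradedAlgebra 𝒜]

/-- if the irrelevant ideal is generated in degree one, the `D₊(f)`, `f` of degree one, cover `Proj` -/
theorem iSup_basicOpen_eq_top (h : (𝒜₊).toIdeal ≤ Ideal.span (𝒜 1 : Set A)) :
    (⨆ f : 𝒜 1, Proj.basicOpen 𝒜 (f : A)) = ⊤ := by
  rw [eq_top_iff]
  intro x _
  have hx : ∃ f ∈ (𝒜 1 : Set A), f ∉ (show ProjectiveSpectrum 𝒜 from x).asHomogeneousIdeal := by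
    by_contra hcon
    push Not at hcon
    apply (show ProjectiveSpectrum 𝒜 from x).not_irrelevant_le
    have : (𝒜₊).toIdeal ≤ (show ProjectiveSpectrum 𝒜 from x).asHomogeneousIdeal.toIdeal :=
      h.trans (Ideal.span_le.2 fun f hf => hcon f hf)
    exact this
  obtain ⟨f, hf, hfx⟩ := hx
  exact Opens.mem_iSup.2 ⟨⟨f, hf⟩, hfx⟩

end cover

variable {A : Type u} [CommRing A] (𝒜 : ℕ → AddSubgroup A) [GradedRing 𝒜]

/-- **`O(n)` is invertible when the ring is generated in degrees `0` and `1`** (gradings by additive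
subgroups) -/
theorem isInvertible_twist (hgen : Subring.closure ((𝒜 0 : Set A) ∪ (𝒜 1 : Set A)) = ⊤) (n : ℤ) :
    PicF.IsInvertible (GrTwist.twist 𝒜 n) := by
  apply Groth.Agent.Helper4.AmpleLocal.isInvertible_of_cover
  intro x
  refine ⟨_, eZ 𝒜, inferInstance, range_eZ 𝒜 x, ?_⟩
  have h1 : ((zGr 𝒜)₊).toIdeal ≤ Ideal.span ((zGr 𝒜) 1 : Set A) :=
    (irrelevant_zGr_le 𝒜 _).2 (RP.irrelevant_le_span_one hgen)
  have h2 := Groth.Agent.Helper1.TwistMul.isInvertible_twist (zGr 𝒜)
    (iSup_basicOpen_eq_top (zGr 𝒜) h1) n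
  exact Groth.Agent.Helper4.AmpleIso.isInvertible_of_iso (twistRestrictIso 𝒜 n).symm h2

end Groth.Agent.Helper1.TRT

namespace Groth.Agent.Helper1.TRR

open CategoryTheory AlgebraicGeometry TopologicalSpace Opposite RelProj
open scoped HomogeneousIdeal

universe u

variable {Y P : Scheme.{u}} {𝒮 : QCGrAlg Y} {p : P ⟶ Y}
  {chart : ∀ (U : Y.Opens) (hU : IsAffineOpen U),
    (((p ⁻¹ᵁ U : P.Opens) : Scheme.{u}) ≅ Proj (𝒮.deg U hU))}
  {n : ℤ} {L : P.Modules}
  {lam : ∀ (U : Y.Opens) (hU : IsAffineOpen U),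
    L ⟶ (Scheme.Modules.pushforward (emb p chart U hU)).obj (GrTwist.twist (𝒮.deg U hU) n)}

/-- **the relative twisting sheaves are invertible when `𝒮` is generated by `𝒮_1`** -/
theorem isInvertible_of_isRelTwist (hgen : 𝒮.IsGenDegOne) (hL : IsRelTwist 𝒮 p chart n L lam) :
    PicF.IsInvertible L := by
  apply Groth.Agent.Helper4.AmpleLocal.isInvertible_of_cover
  intro x
  obtain ⟨U, hU, hx⟩ := exists_chart (chart := chart) x
  refine ⟨_, emb p chart U hU, inferInstance, hx, ?_⟩
  exact Groth.Agent.Helper4.AmpleIso.isInvertible_of_iso (twistChartIso hL U hU).symm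
    (TRT.isInvertible_twist (𝒮.deg U hU) (hgen U hU) n)

end Groth.Agent.Helper1.TRR
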