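import Mathlib
import Groth.Prelude.Def_RelProj3
import Groth.Agent.Helper1.TR6
import Groth.Agent.Helper1.TwistAmple
import Groth.Agent.Helper1.RPP3

/-!
# `O(n)`, `n ≥ 1`, is ample on a `Proj` generated in degree one with finitely many generators
(gradings by additive subgroups), and relatively ample on a relative `Proj`
-/

set_option autoImplicit false
set_option linter.style.haveILetI false

namespace Groth.Agent.Helper1.RPP

open CategoryTheory CategoryTheory.Limits AlgebraicGeometry Opposite TopologicalSpace RelProj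
open Groth.Agent.Helper1.TRZ Groth.Agent.Helper1.TRT
open scoped HomogeneousIdeal

universe u

attribute [local instance] ULift.algebra'

section local_

variable {A : Type u} [CommRing A] (𝒜 : ℕ → AddSubgroup A) [GradedRing 𝒜]

/-- **`O(n)` is ample for `n ≥ 1`** when the ring is generated in degrees `0`, `1` and `Proj` is
quasi-compact (gradings by additive subgroups) -/
theorem isAmple_grTwist (hgen : Subring.closure ((𝒜 0 : Set A) ∪ (𝒜 1 : Set A)) = ⊤)
    [CompactSpace (Proj 𝒜)] (n : ℕ) (hn : 0 < n) :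
    CohB1.IsAmple (GrTwist.twist 𝒜 (n : ℤ)) := by
  haveI : CompactSpace (Proj (zGr 𝒜)) := QuasiCompact.compactSpace_of_compactSpace (eZ 𝒜)
  have h1 : ((zGr 𝒜)₊).toIdeal ≤ Ideal.span ((zGr 𝒜) 1 : Set A) :=
    (irrelevant_zGr_le 𝒜 _).2 (RP.irrelevant_le_span_one hgen)
  have h2 := Groth.Agent.Helper1.TwistMul.isAmple_twist (zGr 𝒜)
    (iSup_basicOpen_eq_top (zGr 𝒜) h1) n hn
  have h3 : CohB1.IsAmple ((GrTwist.twist 𝒜 (n : ℤ)).restrict (eZ 𝒜)) :=
    Groth.Agent.Helper4.AmpleIso.isAmple_of_iso (twistRestrictIso 𝒜 (n : ℤ)).symm h2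
  have h4 : CohB1.IsAmple ((GrTwist.twist 𝒜 (n : ℤ)).restrict (𝟙 (Proj 𝒜))) :=
    Groth.Agent.Helper4.AmpleLocal.isAmple_restrict_of_range_le (𝟙 (Proj 𝒜)) (eZ 𝒜)
      (fun x _ => range_eZ 𝒜 x) h3
  exact Groth.Agent.Helper4.AmpleIso.isAmple_of_iso
    (Scheme.Modules.restrictFunctorId.app (GrTwist.twist 𝒜 (n : ℤ))) h4

end local_

section finite

variable {R A : Type u} [CommRing R] [CommRing A]
  {𝒜 : ℕ → AddSubgroup A} [GradedRing 𝒜]
  (f0 : R →+* 𝒜 0) (T : Finset A) (hT : (↑T : Set A) ⊆ (𝒜 1 : Set A))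
  (hspan : ∀ x ∈ 𝒜 1, ∃ c : A → R, x = ∑ t ∈ T, ((f0 (c t) : 𝒜 0) : A) * t)
  (hgen : Subring.closure ((𝒜 0 : Set A) ∪ (𝒜 1 : Set A)) = ⊤)

include f0 hT hspan hgen in
theorem compactSpace_proj : CompactSpace (Proj 𝒜) := by
  haveI : Algebra.FiniteType (𝒜 0) A := ⟨⟨T, RP.adjoin_eq_top f0 T hspan hgen⟩⟩
  exact QuasiCompact.compactSpace_of_compactSpace (Proj.toSpecZero 𝒜)

end finite

section relative

variable {Y P : Scheme.{u}} {𝒮 : QCGrAlg Y} {p : P ⟶ Y}
  {chart : ∀ (U : Y.Opens) (hU : IsAffineOpen U),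
    (((p ⁻¹ᵁ U : P.Opens) : Scheme.{u}) ≅ Proj (𝒮.deg U hU))}
  {n : ℕ} {L : P.Modules}
  {lam : ∀ (U : Y.Opens) (hU : IsAffineOpen U),
    L ⟶ (Scheme.Modules.pushforward (emb p chart U hU)).obj
      (GrTwist.twist (𝒮.deg U hU) (n : ℤ))}

/-- **the relative twisting sheaf `O_P(n)`, `n ≥ 1`, is relatively ample** when `𝒮` is generated
by `𝒮_1` of finite type -/
theorem isRelAmple_of_isRelTwist (hgen : 𝒮.IsGenDegOne) (hft : 𝒮.IsFTDeg 1)
    (hP : IsRelProj 𝒮 p chart) (hn : 0 < n)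
    (hL : IsRelTwist 𝒮 p chart (n : ℤ) L lam) : RelAmple.IsRelAmple p L := by
  haveI : IsProper p := isProper_of_isRelProj 𝒮 hgen hft p chart hP
  refine ⟨inferInstance, fun V => ?_⟩
  obtain ⟨T, hT, hspan⟩ := hft V.1 V.2
  haveI : CompactSpace (Proj (𝒮.deg V.1 V.2)) :=
    compactSpace_proj (𝒮.strZero V.1 V.2).hom T hT hspan (hgen V.1 V.2)
  have h1 := isAmple_grTwist (𝒮.deg V.1 V.2) (hgen V.1 V.2) n hn
  have h2 : CohB1.IsAmple (L.restrict (emb p chart V.1 V.2)) :=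
    Groth.Agent.Helper4.AmpleIso.isAmple_of_iso (TRR.twistChartIso hL V.1 V.2).symm h1
  haveI : CompactSpace ((p ⁻¹ᵁ V.1 : P.Opens) : Scheme.{u}) :=
    isCompact_iff_compactSpace.mp
      (QuasiCompact.isCompact_preimage (f := p) _ V.1.isOpen V.2.isCompact)
  refine Groth.Agent.Helper4.AmpleLocal.isAmple_restrict_of_range_le (p ⁻¹ᵁ V.1).ι
    (emb p chart V.1 V.2) ?_ h2
  intro x hx
  have h3 : x ∈ (emb p chart V.1 V.2).opensRange := by
    rw [RP.opensRange_emb]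
    obtain ⟨y, rfl⟩ := hx
    exact y.2
  exact h3

end relative

end Groth.Agent.Helper1.RPP
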