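import Mathlib
import Groth.Prelude.Def_RelProj3
import Groth.Agent.Helper1.RPP4

/-!
# `O(d)` on `Proj` of a graded ring of finite type: invertible and ample for suitable `d`

`Hloc 𝒜 d`: every point of `Proj 𝒜` has a non-vanishing homogeneous element of degree `d`.
-/

set_option autoImplicit false
set_option linter.style.haveILetI false

namespace Groth.Agent.Helper1.RPP

open CategoryTheory CategoryTheory.Limits AlgebraicGeometry Opposite TopologicalSpace
open Groth.Agent.Helper1.TRZ Groth.Agent.Helper1.TRT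
open scoped HomogeneousIdeal

universe u

attribute [local instance] ULift.algebra'

section generic

variable {A B σ τ : Type u} [CommRing A] [SetLike σ A] [AddSubgroupClass σ A]
  [CommRing B] [SetLike τ B] [AddSubgroupClass τ B]
  (𝒜 : ℕ → σ) (ℬ : ℕ → τ) [GradedRing 𝒜] [GradedRing ℬ]

/-- every point of `Proj 𝒜` has a non-vanishing homogeneous element of degree `d` -/
def Hloc (d : ℕ) : Prop := ∀ x : Proj 𝒜, ∃ b : A, b ∈ 𝒜 d ∧ x ∈ Proj.basicOpen 𝒜 b

variable {𝒜 ℬ}

theorem Hloc.mul {d : ℕ} (h : Hloc 𝒜 d) (m : ℕ) (hm : 0 < m) : Hloc 𝒜 (m * d) := by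
  intro x
  obtain ⟨b, hb, hx⟩ := h x
  refine ⟨b ^ m, ?_, ?_⟩
  · have := SetLike.pow_mem_graded m hb
    rwa [smul_eq_mul] at this
  · rw [Proj.basicOpen_pow 𝒜 b m hm]
    exact hx

theorem Hloc.map {d : ℕ} (h : Hloc 𝒜 d) (ψ : 𝒜 →+*ᵍ ℬ) (hψ : ℬ₊ ≤ 𝒜₊.map ψ) : Hloc ℬ d := by
  intro y
  obtain ⟨b, hb, hx⟩ := h (Proj.map ψ hψ y)
  refine ⟨ψ b, ψ.map_mem hb, ?_⟩
  have : y ∈ Proj.map ψ hψ ⁻¹ᵁ Proj.basicOpen 𝒜 b := hx
  rwa [Proj.map_preimage_basicOpen] at this

end generic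

section twist

variable {A : Type u} [CommRing A] (𝒜 : ℕ → AddSubgroup A) [GradedRing 𝒜]

/-- `O(n)` is invertible under `Hloc 𝒜 n` (gradings by additive subgroups) -/
theorem isInvertible_grTwist_of_hloc (n : ℕ) (h : Hloc 𝒜 n) :
    PicF.IsInvertible (GrTwist.twist 𝒜 (n : ℤ)) := by
  apply Groth.Agent.Helper4.AmpleLocal.isInvertible_of_cover
  intro x
  refine ⟨_, eZ 𝒜, inferInstance, range_eZ 𝒜 x, ?_⟩
  have h2 := Groth.Agent.Helper1.TwistMul.isInvertible_twist' (zGr 𝒜) n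
    (h.map (idTo 𝒜) (hTo 𝒜))
  exact Groth.Agent.Helper4.AmpleIso.isInvertible_of_iso (twistRestrictIso 𝒜 (n : ℤ)).symm h2

/-- `O(n)`, `n ≥ 1`, is ample under `Hloc 𝒜 n` on a quasi-compact `Proj` -/
theorem isAmple_grTwist_of_hloc [CompactSpace (Proj 𝒜)] (n : ℕ) (hn : 0 < n) (h : Hloc 𝒜 n) :
    CohB1.IsAmple (GrTwist.twist 𝒜 (n : ℤ)) := by
  haveI : CompactSpace (Proj (zGr 𝒜)) := QuasiCompact.compactSpace_of_compactSpace (eZ 𝒜)
  have h2 := Groth.Agent.Helper1.TwistMul.isAmple_twist' (zGr 𝒜) n hn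
    (h.map (idTo 𝒜) (hTo 𝒜))
  have h3 : CohB1.IsAmple ((GrTwist.twist 𝒜 (n : ℤ)).restrict (eZ 𝒜)) :=
    Groth.Agent.Helper4.AmpleIso.isAmple_of_iso (twistRestrictIso 𝒜 (n : ℤ)).symm h2
  have h4 : CohB1.IsAmple ((GrTwist.twist 𝒜 (n : ℤ)).restrict (𝟙 (Proj 𝒜))) :=
    Groth.Agent.Helper4.AmpleLocal.isAmple_restrict_of_range_le (𝟙 (Proj 𝒜)) (eZ 𝒜)
      (fun x _ => range_eZ 𝒜 x) h3
  exact Groth.Agent.Helper4.AmpleIso.isAmple_of_iso
    (Scheme.Modules.restrictFunctorId.app (GrTwist.twist 𝒜 (n : ℤ))) h4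

end twist

section finiteType

variable {R A : Type u} [CommRing R] [CommRing A] {𝒜 : ℕ → AddSubgroup A} [GradedRing 𝒜]
  (φ : R →+* A) (hφ0 : ∀ r, φ r ∈ 𝒜 0) (hft : φ.FiniteType)

include hφ0 hft in
/-- for a graded ring of finite type over a ring mapping into degree `0`, the irrelevant ideal is
generated by finitely many homogeneous elements of positive degrees -/
theorem exists_finset_irrelevant_le_span :
    ∃ G : Finset A, (∀ g ∈ G, ∃ k : ℕ, 0 < k ∧ g ∈ 𝒜 k) ∧
      (𝒜₊).toIdeal ≤ Ideal.span (↑G : Set A) := by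
  classical
  letI := φ.toAlgebra
  obtain ⟨G₀, hG₀⟩ := (hft : Algebra.FiniteType R A).out
  -- positive-degree components of the generators
  let G : Finset A := G₀.biUnion fun g =>
    ((DirectSum.decompose 𝒜 g).support.filter (0 < ·)).image
      (fun k => (DirectSum.decompose 𝒜 g k : A))
  have hGpos : ∀ g ∈ G, ∃ k : ℕ, 0 < k ∧ g ∈ 𝒜 k := by
    intro g hg
    simp only [G, Finset.mem_biUnion, Finset.mem_image, Finset.mem_filter] at hg
    obtain ⟨g₀, -, k, ⟨-, hk⟩, rfl⟩ := hg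
    exact ⟨k, hk, SetLike.coe_mem _⟩
  refine ⟨G, hGpos, ?_⟩
  have hGirr : Ideal.span (↑G : Set A) ≤ (𝒜₊).toIdeal := by
    rw [Ideal.span_le]
    intro g hg
    obtain ⟨k, hk, hgk⟩ := hGpos g hg
    exact HomogeneousIdeal.mem_irrelevant_of_mem 𝒜 hk hgk
  -- every element is a degree zero element plus an element of the span
  have key : ∀ a : A, ∃ a0 ∈ 𝒜 0, a - a0 ∈ Ideal.span (↑G : Set A) := by
    intro a
    have ha : a ∈ Algebra.adjoin R (↑G₀ : Set A) := by rw [hG₀]; trivial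
    induction ha using Algebra.adjoin_induction with
    | mem x hx =>
      refine ⟨(DirectSum.decompose 𝒜 x 0 : A), SetLike.coe_mem _, ?_⟩
      have hsum := DirectSum.sum_support_decompose 𝒜 x
      have hsplit := Finset.sum_filter_add_sum_filter_not (DirectSum.decompose 𝒜 x).support
        (fun k => 0 < k) (fun k => (DirectSum.decompose 𝒜 x k : A))
      have hzero : ∑ k ∈ (DirectSum.decompose 𝒜 x).support.filter (fun k => ¬ 0 < k),
          (DirectSum.decompose 𝒜 x k : A) = (DirectSum.decompose 𝒜 x 0 : A) := by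
        apply Finset.sum_eq_single 0
        · intro b hb hb0
          exact absurd (Nat.pos_of_ne_zero hb0) (Finset.mem_filter.1 hb).2
        · intro h0
          have h0' : 0 ∉ (DirectSum.decompose 𝒜 x).support := fun h =>
            h0 (Finset.mem_filter.2 ⟨h, lt_irrefl 0⟩)
          rw [DFinsupp.mem_support_iff, not_not] at h0'
          rw [h0']; rfl
      have h1 : x - (DirectSum.decompose 𝒜 x 0 : A) =
          ∑ k ∈ (DirectSum.decompose 𝒜 x).support.filter (0 < ·),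
            (DirectSum.decompose 𝒜 x k : A) := by
        rw [sub_eq_iff_eq_add, ← hzero, hsplit, hsum]
      rw [h1]
      refine Ideal.sum_mem _ fun k hk => Ideal.subset_span ?_
      simp only [G, Finset.coe_biUnion, Set.mem_iUnion, Finset.mem_coe, Finset.mem_image]
      exact ⟨x, hx, k, hk, rfl⟩
    | algebraMap r =>
      exact ⟨algebraMap R A r, hφ0 r, by rw [sub_self]; exact zero_mem _⟩
    | add x y _ _ hx hy =>
      obtain ⟨x0, hx0, hx1⟩ := hx
      obtain ⟨y0, hy0, hy1⟩ := hy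
      refine ⟨x0 + y0, add_mem hx0 hy0, ?_⟩
      have : x + y - (x0 + y0) = (x - x0) + (y - y0) := by ring
      rw [this]
      exact add_mem hx1 hy1
    | mul x y _ _ hx hy =>
      obtain ⟨x0, hx0, hx1⟩ := hx
      obtain ⟨y0, hy0, hy1⟩ := hy
      refine ⟨x0 * y0, ?_, ?_⟩
      · have := SetLike.mul_mem_graded hx0 hy0
        rwa [add_zero] at this
      · have : x * y - x0 * y0 = (x - x0) * y + x0 * (y - y0) := by ring
        rw [this]
        exact add_mem (Ideal.mul_mem_right _ _ hx1) (Ideal.mul_mem_left _ _ hy1)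
  intro a ha
  obtain ⟨a0, ha0, ha1⟩ := key a
  have h2 : a0 ∈ (𝒜₊).toIdeal := by
    have : a0 = a - (a - a0) := by ring
    rw [this]
    exact sub_mem ha (hGirr ha1)
  have h3 : a0 = 0 := by
    have h4 : a0 ∈ 𝒜₊ := h2
    rw [HomogeneousIdeal.mem_irrelevant_iff, GradedRing.proj_apply,
      DirectSum.decompose_of_mem_same 𝒜 ha0] at h4
    exact h4
  rw [h3, sub_zero] at ha1
  exact ha1

include hφ0 hft in
/-- **a uniform degree**: for a graded ring of finite type there is `d > 0` with `Hloc 𝒜 d` -/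
theorem exists_hloc_of_finiteType : ∃ d : ℕ, 0 < d ∧ Hloc 𝒜 d := by
  classical
  obtain ⟨G, hGpos, hG⟩ := exists_finset_irrelevant_le_span φ hφ0 hft
  choose! k hk hgk using hGpos
  refine ⟨∏ g ∈ G, k g, Finset.prod_pos fun g hg => hk g hg, ?_⟩
  intro x
  have hx : ∃ g ∈ G, g ∉ (show ProjectiveSpectrum 𝒜 from x).asHomogeneousIdeal := by
    by_contra hcon
    push Not at hcon
    apply (show ProjectiveSpectrum 𝒜 from x).not_irrelevant_le
    have : (𝒜₊).toIdeal ≤ (show ProjectiveSpectrum 𝒜 from x).asHomogeneousIdeal.toIdeal :=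
      hG.trans (Ideal.span_le.2 fun g hg => hcon g hg)
    exact this
  obtain ⟨g, hg, hgx⟩ := hx
  have hdvd : k g ∣ ∏ g ∈ G, k g := Finset.dvd_prod_of_mem k hg
  obtain ⟨m, hm⟩ := hdvd
  have hmpos : 0 < m := by
    rcases Nat.eq_zero_or_pos m with h | h
    · exfalso
      rw [h, mul_zero] at hm
      exact (Finset.prod_pos fun g hg => hk g hg).ne' hm
    · exact h
  refine ⟨g ^ m, ?_, ?_⟩
  · have := SetLike.pow_mem_graded m (hgk g hg)
    rw [smul_eq_mul, mul_comm] at this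
    rw [hm]
    exact this
  · rw [Proj.basicOpen_pow 𝒜 g m hmpos]
    exact hgx

end finiteType

end Groth.Agent.Helper1.RPP
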