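import Mathlib
import Groth.Agent.Helper4.PullRel
import Groth.Agent.Helper4.AmpleLocal

/-!
# Modules whose generating loci form a basis of the topology

`GenBasis L`: the loci `X_s`, `s` a global section of a positive tensor power of `L`, form a basis
of the topology of `X` (no quasi-compactness). The pullback of such an invertible module along a
topological embedding from a quasi-compact scheme is ample.
-/

set_option autoImplicit false
set_option linter.style.haveILetI false

namespace Groth.Agent.Helper1.RPP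

open CategoryTheory CategoryTheory.Limits AlgebraicGeometry Opposite TopologicalSpace
open Groth.Agent.Helper4.AmpleIso Groth.Agent.Helper4.AmpleBasis Groth.Agent.Helper4.AmpleRestrict
  Groth.Agent.Helper4.PullAmple Groth.Agent.Helper4.PullSec Groth.Agent.Helper4.PullUnit
  Groth.Agent.Helper4.GenLoc

universe u

variable {X Y : Scheme.{u}}

/-- the generating loci of sections of positive tensor powers of `L` form a basis -/
def GenBasis (L : X.Modules) : Prop :=
  ∀ (x : X) (W : X.Opens), x ∈ W →
    ∃ (m : ℕ) (τ : Coh.structureModule X ⟶ CohB1.tensorPow L (m + 1)),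
      x ∈ CohB1.genLocus _ τ ∧ CohB1.genLocus _ τ ≤ W

theorem GenBasis.of_iso {L L' : X.Modules} (e : L ≅ L') (h : GenBasis L) : GenBasis L' := by
  intro x W hx
  obtain ⟨m, τ, h1, h2⟩ := h x W hx
  refine ⟨m, τ ≫ (tensorPowIso e (m + 1)).hom, ?_, ?_⟩
  · rw [genLocus_comp_iso]; exact h1
  · rw [genLocus_comp_iso]; exact h2

theorem GenBasis.restrict {L : X.Modules} (h : GenBasis L) (j : Y ⟶ X) [IsOpenImmersion j] :
    GenBasis (L.restrict j) := by
  intro y W hy
  obtain ⟨m, τ, h1, h2⟩ := h (j y) (j ''ᵁ W) ⟨y, hy, rfl⟩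
  refine ⟨m, resSec j τ ≫ (resPowIso j L (m + 1)).inv, ?_, ?_⟩
  · have := genLocus_comp_iso (resPowIso j L (m + 1)).symm (resSec j τ)
    rw [Iso.symm_hom] at this
    rw [this, genLocus_resSec]
    exact h1
  · have := genLocus_comp_iso (resPowIso j L (m + 1)).symm (resSec j τ)
    rw [Iso.symm_hom] at this
    rw [this, genLocus_resSec]
    intro z hz
    obtain ⟨z', hz', hzz⟩ := h2 hz
    have : z' = z := j.isOpenEmbedding.injective hzz
    exact this ▸ hz'

/-- `GenBasis` descends along an isomorphism of schemes -/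
theorem GenBasis.of_restrict_iso {L : X.Modules} (j : Y ⟶ X) [IsIso j]
    (h : GenBasis (L.restrict j)) : GenBasis L := by
  have h1 := h.restrict (inv j)
  have e : (L.restrict j).restrict (inv j) ≅ L :=
    ((Scheme.Modules.restrictFunctorComp (inv j) j).app L).symm ≪≫
      (Scheme.Modules.restrictFunctorCongr (IsIso.inv_hom_id j)).app L ≪≫
      Scheme.Modules.restrictFunctorId.app L
  exact h1.of_iso e

/-- **pullback of a module with `GenBasis` along a topological embedding from a quasi-compact
scheme is ample** -/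
theorem isAmple_pullback_of_genBasis {X' : Scheme.{u}} (f : X' ⟶ X) [CompactSpace X']
    (hf : Topology.IsEmbedding f) {L : X.Modules} (hinv : PicF.IsInvertible L)
    (hL : GenBasis L) : CohB1.IsAmple ((Scheme.Modules.pullback f).obj L) := by
  have hinv' := isInvertible_pullback f hinv
  rw [isAmple_iff_isBasis _ hinv']
  refine Opens.isBasis_iff_nbhd.mpr fun {U' x'} hx' => ?_
  obtain ⟨U, hU, hUU'⟩ := hf.isInducing.isOpen_iff.mp U'.2
  have hxU : f x' ∈ (⟨U, hU⟩ : X.Opens) := by
    change x' ∈ f ⁻¹' U
    rw [hUU']; exact hx'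
  obtain ⟨m, τ, h1, h2⟩ := hL (f x') ⟨U, hU⟩ hxU
  refine ⟨_, ⟨m, pullPowSec f hinv (m + 1) τ, rfl⟩, ?_, ?_⟩
  · rw [genLocus_pullPowSec]; exact h1
  · rw [genLocus_pullPowSec]
    intro y hy
    have : y ∈ f ⁻¹' U := h2 hy
    rw [hUU'] at this
    exact this

end Groth.Agent.Helper1.RPP
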