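import Mathlib
import Groth.Prelude.Def_RelProj3
import Groth.Agent.Helper1.RPP7
import Groth.Agent.Helper1.RPP5
import Groth.Agent.Helper1.TwistMul6

/-!
# `O(1)` on a `Proj` generated in degree one has `GenBasis`
-/

set_option autoImplicit false
set_option linter.style.haveILetI false

namespace Groth.Agent.Helper1.RPP

open CategoryTheory CategoryTheory.Limits AlgebraicGeometry Opposite TopologicalSpace
open Groth.Agent.Helper1.TRZ Groth.Agent.Helper1.TRT Groth.Agent.Helper1.TwistMul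
open scoped HomogeneousIdeal

universe u

attribute [local instance] ULift.algebra'

section sub

variable {R A : Type u} [CommRing R] [CommRing A] [Algebra R A] (𝒜 : ℕ → Submodule R A)
  [GradedAlgebra 𝒜]

/-- the `D₊(h)`, `h` homogeneous of positive degree, form a basis of `Proj 𝒜` when the `D₊(g)`,
`g` of degree one, cover it -/
theorem exists_basicOpen_nhd (hcov : (⨆ g : 𝒜 1, Proj.basicOpen 𝒜 (g : A)) = ⊤)
    (x : Proj 𝒜) (W : (Proj 𝒜).Opens) (hx : x ∈ W) :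
    ∃ (m : ℕ) (h : A), h ∈ 𝒜 (m + 1) ∧ x ∈ Proj.basicOpen 𝒜 h ∧ Proj.basicOpen 𝒜 h ≤ W := by
  obtain ⟨_, ⟨a, rfl⟩, hxa, haW⟩ :=
    (ProjectiveSpectrum.isTopologicalBasis_basic_opens 𝒜).exists_subset_of_mem_open
      (u := ((W : Set (Proj 𝒜)) : Set (ProjectiveSpectrum 𝒜)))
      (a := (show ProjectiveSpectrum 𝒜 from x)) hx W.2
  have hxa' : (show ProjectiveSpectrum 𝒜 from x) ∈ ProjectiveSpectrum.basicOpen 𝒜 a := hxa
  rw [ProjectiveSpectrum.basicOpen_eq_union_of_projection, Opens.mem_iSup] at hxa'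
  obtain ⟨i, hi⟩ := hxa'
  have hx' : x ∈ (⨆ g : 𝒜 1, Proj.basicOpen 𝒜 (g : A)) := by rw [hcov]; trivial
  obtain ⟨g, hg⟩ := Opens.mem_iSup.1 hx'
  refine ⟨i, GradedRing.proj 𝒜 i a * (g : A), ?_, ?_, ?_⟩
  · exact SetLike.mul_mem_graded (SetLike.coe_mem (DirectSum.decompose 𝒜 a i)) g.2
  · rw [Proj.basicOpen_mul]
    exact ⟨hi, hg⟩
  · rw [Proj.basicOpen_mul]
    intro z hz
    have hz1 : (show ProjectiveSpectrum 𝒜 from z) ∈
        ProjectiveSpectrum.basicOpen 𝒜 (GradedRing.proj 𝒜 i a) := hz.1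
    have hz2 : (show ProjectiveSpectrum 𝒜 from z) ∈ ProjectiveSpectrum.basicOpen 𝒜 a := by
      rw [ProjectiveSpectrum.basicOpen_eq_union_of_projection, Opens.mem_iSup]
      exact ⟨i, hz1⟩
    exact haW hz2

/-- **`O(1)` has `GenBasis`** on a `Proj` covered by the `D₊(g)`, `g` of degree one -/
theorem genBasis_twist (hcov : (⨆ g : 𝒜 1, Proj.basicOpen 𝒜 (g : A)) = ⊤) :
    GenBasis (Twist.twist 𝒜 1) := by
  intro x W hx
  obtain ⟨m, h, hh, hxh, hhW⟩ := exists_basicOpen_nhd 𝒜 hcov x W hx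
  obtain ⟨e⟩ := nonempty_twist_iso_tensorPow 𝒜 hcov (m + 1)
  let e' : GrTilde.tilde 𝒜 𝒜 ((m + 1 : ℕ) : ℤ) ≅ CohB1.tensorPow (Twist.twist 𝒜 1) (m + 1) :=
    (TwistIso.twistIsoTilde 𝒜 ((m + 1 : ℕ) : ℤ)).symm ≪≫ e
  refine ⟨m, secHom 𝒜 (m + 1) h hh ≫ e'.hom, ?_, ?_⟩
  · rw [Groth.Agent.Helper4.AmpleIso.genLocus_comp_iso, genLocus_secHom 𝒜 hcov]
    exact hxh
  · rw [Groth.Agent.Helper4.AmpleIso.genLocus_comp_iso, genLocus_secHom 𝒜 hcov]
    exact hhW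

end sub

section grp

variable {A : Type u} [CommRing A] (𝒜 : ℕ → AddSubgroup A) [GradedRing 𝒜]

/-- **`O(1)` has `GenBasis`** when the irrelevant ideal is generated in degree one (gradings by
additive subgroups) -/
theorem genBasis_grTwist (h : (𝒜₊).toIdeal ≤ Ideal.span (𝒜 1 : Set A)) :
    GenBasis (GrTwist.twist 𝒜 1) := by
  have h1 : ((zGr 𝒜)₊).toIdeal ≤ Ideal.span ((zGr 𝒜) 1 : Set A) :=
    (irrelevant_zGr_le 𝒜 _).2 h
  have h2 := genBasis_twist (zGr 𝒜) (iSup_basicOpen_eq_top (zGr 𝒜) h1)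
  have h3 : GenBasis ((GrTwist.twist 𝒜 1).restrict (eZ 𝒜)) :=
    h2.of_iso (twistRestrictIso 𝒜 1).symm
  exact GenBasis.of_restrict_iso (eZ 𝒜) h3

/-- `O(1)` is invertible when the irrelevant ideal is generated in degree one -/
theorem isInvertible_grTwist_one (h : (𝒜₊).toIdeal ≤ Ideal.span (𝒜 1 : Set A)) :
    PicF.IsInvertible (GrTwist.twist 𝒜 1) := by
  have h1 : ((zGr 𝒜)₊).toIdeal ≤ Ideal.span ((zGr 𝒜) 1 : Set A) :=
    (irrelevant_zGr_le 𝒜 _).2 h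
  apply Groth.Agent.Helper4.AmpleLocal.isInvertible_of_cover
  intro x
  refine ⟨_, eZ 𝒜, inferInstance, range_eZ 𝒜 x, ?_⟩
  have h2 := Groth.Agent.Helper1.TwistMul.isInvertible_twist (zGr 𝒜)
    (iSup_basicOpen_eq_top (zGr 𝒜) h1) 1
  exact Groth.Agent.Helper4.AmpleIso.isInvertible_of_iso (twistRestrictIso 𝒜 1).symm h2

end grp

end Groth.Agent.Helper1.RPP
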