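import Mathlib
import Groth.Agent.Lead.BCMap5
import Groth.Agent.Lead.BCMap11
import Groth.Agent.Lead.StalkPull
import Groth.Agent.Helper4.QcohLocal

/-!
# The adjoint of a map `F ⟶ f_* G` is an isomorphism when generators go to generators

For quasi-coherent `F`, `G` and `κ : F ⟶ f_* G`: if around every point of the source there are
affine opens `V ⊆ f⁻¹ U` and a section `s` of `F` over `U` generating `F(U)` freely, whose image
generates `G(V)` freely, then the adjoint map `f^* F ⟶ G` is an isomorphism.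
-/

set_option autoImplicit false
set_option linter.style.haveILetI false

namespace Groth.Agent.Helper1.PBIso

open CategoryTheory CategoryTheory.Limits AlgebraicGeometry TopologicalSpace Opposite

universe u

variable {X Y : Scheme.{u}} (f : X ⟶ Y) {F : Y.Modules} {G : X.Modules}
  [F.IsQuasicoherent] [G.IsQuasicoherent] (κ : F ⟶ (Scheme.Modules.pushforward f).obj G)

theorem isIso_adjoint_of_generators
    (h : ∀ x : X, ∃ (U : Y.Opens) (V : X.Opens) (e : V ≤ f ⁻¹ᵁ U), IsAffineOpen U ∧
      IsAffineOpen V ∧ x ∈ V ∧ ∃ s : Γ(F, U), Function.Bijective (fun c : Γ(Y, U) => c • s) ∧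
        Function.Bijective (fun c : Γ(X, V) =>
          c • G.presheaf.map (homOfLE e).op (κ.app U s))) :
    IsIso (((Scheme.Modules.pullbackPushforwardAdjunction f).homEquiv F G).symm κ) := by
  set ν := ((Scheme.Modules.pullbackPushforwardAdjunction f).homEquiv F G).symm κ with hν
  haveI := Groth.Agent.Lead.StalkPull.isQuasicoherent_pullbackObj f F
  apply Groth.Agent.Helper4.QcohLocal.isIso_of_app_bijective_of_affine_cover
  intro x
  obtain ⟨U, V, e, hU, hV, hxV, s, hs, ht⟩ := h x
  refine ⟨V, hV, hxV, ?_⟩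
  letI := (f.appLE U V e).hom.toAlgebra
  letI : Module Γ(Y, U) Γ((Scheme.Modules.pullback f).obj F, V) :=
    Module.compHom _ (f.appLE U V e).hom
  haveI : IsScalarTower Γ(Y, U) Γ(X, V) Γ((Scheme.Modules.pullback f).obj F, V) :=
    IsScalarTower.of_compHom _ _ _
  obtain ⟨ρ, hρ, hb⟩ := Groth.Agent.Lead.BCMap.exists_isBaseChange_pbSec f F hU hV e
  have hkey : ∀ m, ν.app V (ρ m) = G.presheaf.map (homOfLE e).op (κ.app U m) := by
    intro m
    rw [hρ, ← Groth.Agent.Lead.BCMap.homEquiv_app f F ν U V e m, hν, Equiv.apply_symm_apply]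
  let e₀ : Γ(Y, U) ≃ₗ[Γ(Y, U)] Γ(F, U) :=
    LinearEquiv.ofBijective (LinearMap.toSpanSingleton Γ(Y, U) Γ(F, U) s) hs
  have hβ := Groth.Agent.Lead.BCMap.bijective_of_two_isBaseChange (R := Γ(Y, U)) (R' := Γ(X, V))
    (Algebra.linearMap Γ(Y, U) Γ(X, V)) (IsBaseChange.linearMap _ _) ρ hb e₀
    (LinearMap.toSpanSingleton Γ(X, V) _ (ρ s)) (fun c => by
      change (algebraMap Γ(Y, U) Γ(X, V) c) • ρ s = ρ (c • s)
      rw [map_smul, algebraMap_smul])
  have hcomp : (ν.app V : _ → _) ∘ (LinearMap.toSpanSingleton Γ(X, V) _ (ρ s)) =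
      fun c : Γ(X, V) => c • G.presheaf.map (homOfLE e).op (κ.app U s) := by
    funext c
    simp only [Function.comp_apply, LinearMap.toSpanSingleton_apply]
    rw [Scheme.Modules.Hom.app_smul, hkey]
  have h2 : Function.Bijective ((ν.app V : _ → _) ∘
      (LinearMap.toSpanSingleton Γ(X, V) _ (ρ s))) := by rw [hcomp]; exact ht
  exact (Function.Bijective.of_comp_iff (ν.app V) hβ).1 h2

end Groth.Agent.Helper1.PBIso
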