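import Mathlib
import Groth.Agent.Helper1.GlueHom
import Groth.Agent.Helper4.StalkExact

/-!
# Gluing a morphism of modules from a family of local descriptions

`F, G` modules on `X`, `W i` an open cover, and for every `i` morphisms `a i : F ⟶ E i`,
`b i : G ⟶ E i` with `b i` bijective on the sections over the opens inside `W i`.  If the relations
`b i t = a i s` are independent of `i` on the opens inside `W i ⊓ W j`, and `E i` is supported on
`W i`, there is exactly one `τ : F ⟶ G` with `τ ≫ b i = a i` for all `i`.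
-/

set_option autoImplicit false

namespace Groth.Agent.Helper1.GlueFam

open CategoryTheory AlgebraicGeometry TopologicalSpace Opposite

universe u

variable {X : Scheme.{u}} {F G : X.Modules} {ι : Type u} (W : ι → X.Opens)
  (hcov : ⨆ i, W i = ⊤) (E : ι → X.Modules) (a : ∀ i, F ⟶ E i) (b : ∀ i, G ⟶ E i)
  (hb : ∀ i (V : X.Opens), V ≤ W i → Function.Bijective ((b i).app V))
  (hind : ∀ i j (V : X.Opens), V ≤ W i → V ≤ W j → ∀ (s : Γ(F, V)) (t : Γ(G, V)),
    (b i).app V t = (a i).app V s → (b j).app V t = (a j).app V s)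
  (hsupp : ∀ i (V : X.Opens),
    Function.Injective ((E i).presheaf.map (homOfLE (inf_le_left : V ⊓ W i ≤ V)).op))

/-- the local value of the glued morphism -/
noncomputable def tV (V : GlueHom.Small W) : Γ(F, V.1) →+ Γ(G, V.1) :=
  (AddEquiv.ofBijective ((b V.2.choose).app V.1).hom
    (hb V.2.choose V.1 V.2.choose_spec)).symm.toAddMonoidHom.comp ((a V.2.choose).app V.1).hom

lemma rel_tV₀ (V : GlueHom.Small W) (s : Γ(F, V.1)) :
    (b V.2.choose).app V.1 (tV W E a b hb V s) = (a V.2.choose).app V.1 s :=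
  (AddEquiv.ofBijective ((b V.2.choose).app V.1).hom
    (hb V.2.choose V.1 V.2.choose_spec)).apply_symm_apply ((a V.2.choose).app V.1 s)

include hind in
lemma rel_tV (V : GlueHom.Small W) (s : Γ(F, V.1)) (i : ι) (hV : V.1 ≤ W i) :
    (b i).app V.1 (tV W E a b hb V s) = (a i).app V.1 s :=
  hind _ i V.1 V.2.choose_spec hV s _ (rel_tV₀ W E a b hb V s)

include hind in
lemma tV_eq (V : GlueHom.Small W) (s : Γ(F, V.1)) (t : Γ(G, V.1)) (i : ι) (hV : V.1 ≤ W i)
    (h : (b i).app V.1 t = (a i).app V.1 s) : tV W E a b hb V s = t :=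
  (hb i V.1 hV).1 ((rel_tV W E a b hb hind V s i hV).trans h.symm)

include hcov hb hind hsupp in
/-- **existence and uniqueness of the glued morphism** -/
theorem existsUnique : ∃! τ : F ⟶ G, ∀ i, τ ≫ b i = a i := by
  obtain ⟨τ, hτ⟩ := GlueHom.exists_glue (N := F) (L := G) W (tV W E a b hb)
    (fun V V' h s => by
      refine (tV_eq W E a b hb hind V' _ _ V.2.choose (h.trans V.2.choose_spec) ?_).symm
      rw [Groth.Agent.Helper4.StalkExact.app_res, Groth.Agent.Helper4.StalkExact.app_res,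
        rel_tV₀ W E a b hb V s])
    (fun V c s => by
      refine tV_eq W E a b hb hind V _ _ V.2.choose V.2.choose_spec ?_
      rw [Scheme.Modules.Hom.app_smul, Scheme.Modules.Hom.app_smul, rel_tV₀ W E a b hb V s])
    hcov
  refine ⟨τ, fun i => ?_, fun τ' hτ' => ?_⟩
  · apply Scheme.Modules.hom_ext
    intro V
    ext s
    apply hsupp i V
    change (E i).presheaf.map _ ((b i).app V (τ.app V s)) = (E i).presheaf.map _ ((a i).app V s)
    rw [← Groth.Agent.Helper4.StalkExact.app_res, ← Groth.Agent.Helper4.StalkExact.app_res,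
      ← Groth.Agent.Helper4.StalkExact.app_res]
    set s' := F.presheaf.map (homOfLE (inf_le_left : V ⊓ W i ≤ V)).op s
    have h1 : τ.app (V ⊓ W i) s' = tV W E a b hb ⟨V ⊓ W i, i, inf_le_right⟩ s' :=
      hτ ⟨V ⊓ W i, i, inf_le_right⟩ s'
    rw [h1]
    exact rel_tV W E a b hb hind ⟨V ⊓ W i, i, inf_le_right⟩ s' i inf_le_right
  · apply Scheme.Modules.hom_ext
    intro V
    ext s
    apply Groth.Agent.Helper4.TwistExt.eq_of_cover G V
    intro x hx
    have hx' : x ∈ ⨆ i, W i := by rw [hcov]; trivial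
    obtain ⟨i, hi⟩ := Opens.mem_iSup.1 hx'
    refine ⟨V ⊓ W i, inf_le_left, ⟨hx, hi⟩, ?_⟩
    rw [← Groth.Agent.Helper4.StalkExact.app_res τ', ← Groth.Agent.Helper4.StalkExact.app_res τ]
    set s' := F.presheaf.map (homOfLE (inf_le_left : V ⊓ W i ≤ V)).op s
    have h1 : τ.app (V ⊓ W i) s' = tV W E a b hb ⟨V ⊓ W i, i, inf_le_right⟩ s' :=
      hτ ⟨V ⊓ W i, i, inf_le_right⟩ s'
    rw [h1]
    refine (tV_eq W E a b hb hind ⟨V ⊓ W i, i, inf_le_right⟩ s' _ i inf_le_right ?_).symm
    have := congrArg (fun φ => (Scheme.Modules.Hom.app φ (V ⊓ W i)).hom s') (hτ' i)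
    exact this

end Groth.Agent.Helper1.GlueFam
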