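import Mathlib
import Groth.Prelude.Def_RelProj3
import Groth.Agent.Helper1.TR11

/-!
# Existence and uniqueness of the morphism `ℳ(n)~ ⟶ 𝒩(n)~` on a relative Proj
-/

set_option autoImplicit false
set_option linter.style.haveILetI false

namespace Groth.Agent.Helper1.TRG

open CategoryTheory CategoryTheory.Limits AlgebraicGeometry TopologicalSpace Opposite RelProj
open scoped HomogeneousIdeal

universe u

section general

variable {Z P : Scheme.{u}} (j : Z ⟶ P) [IsOpenImmersion j]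

/-- morphisms into a direct image along an open immersion are determined by their restrictions -/
theorem eq_of_restrict_eq {L : P.Modules} {T : Z.Modules}
    (a b : L ⟶ (Scheme.Modules.pushforward j).obj T)
    (h : (Scheme.Modules.restrictFunctor j).map a = (Scheme.Modules.restrictFunctor j).map b) :
    a = b := by
  apply ((Scheme.Modules.restrictAdjunction j).homEquiv L T).symm.injective
  rw [Adjunction.homEquiv_counit, Adjunction.homEquiv_counit, h]

/-- morphisms into a direct image along an open immersion are determined by their values on the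
opens inside the image -/
theorem eq_of_app_eq {L : P.Modules} {T : Z.Modules}
    (a b : L ⟶ (Scheme.Modules.pushforward j).obj T)
    (h : ∀ (W : P.Opens), W ≤ j.opensRange → ∀ s : Γ(L, W), a.app W s = b.app W s) : a = b := by
  apply eq_of_restrict_eq
  apply Scheme.Modules.hom_ext
  intro V
  ext s
  exact h (j ''ᵁ V) (by rintro _ ⟨x, -, rfl⟩; exact ⟨x, rfl⟩) s

end general

variable {Y P : Scheme.{u}} {𝒮 : QCGrAlg Y} {p : P ⟶ Y}
  {chart : ∀ (U : Y.Opens) (hU : IsAffineOpen U),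
    (((p ⁻¹ᵁ U : P.Opens) : Scheme.{u}) ≅ Proj (𝒮.deg U hU))}

variable {ℳ 𝒩 : GrModule 𝒮} {n : ℤ} {F G : P.Modules}
  {lam : ∀ (U : Y.Opens) (hU : IsAffineOpen U),
    F ⟶ (Scheme.Modules.pushforward (emb p chart U hU)).obj
      (GrMod.tilde (𝒮.deg U hU) (ℳ.deg U hU) n)}
  {lam' : ∀ (U : Y.Opens) (hU : IsAffineOpen U),
    G ⟶ (Scheme.Modules.pushforward (emb p chart U hU)).obj
      (GrMod.tilde (𝒮.deg U hU) (𝒩.deg U hU) n)}

variable (p) in
/-- the inverse images of the affine opens of the base -/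
def Wf : {U : Y.Opens // IsAffineOpen U} → P.Opens := fun U => p ⁻¹ᵁ U.1

lemma hcov : ⨆ e, Wf p e = ⊤ := by
  rw [eq_top_iff]
  intro x _
  obtain ⟨_, ⟨U, hU : IsAffineOpen U, rfl⟩, hxU, -⟩ :=
    Y.isBasis_affineOpens.exists_subset_of_mem_open (Set.mem_univ (p x)) isOpen_univ
  exact Opens.mem_iSup.2 ⟨⟨U, hU⟩, hxU⟩

variable (hP : IsRelProj 𝒮 p chart) (hF : IsRelTilde 𝒮 p chart ℳ n F lam)
  (hG : IsRelTilde 𝒮 p chart 𝒩 n G lam') (u : ℳ.mod ⟶ 𝒩.mod) (hu : IsGrModHom u)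

variable (lam) in
include hG in
/-- the local value of the glued morphism -/
noncomputable def tV (V : GlueHom.Small (Wf p)) : Γ(F, V.1) →+ Γ(G, V.1) :=
  (AddEquiv.ofBijective ((lam' V.2.choose.1 V.2.choose.2).app V.1).hom
    (hG.bijective V.2.choose.1 V.2.choose.2 V.1 V.2.choose_spec)).symm.toAddMonoidHom.comp
    ((aU lam u hu V.2.choose.1 V.2.choose.2).app V.1).hom

lemma rel_tV₀ (V : GlueHom.Small (Wf p)) (s : Γ(F, V.1)) :
    Rel lam lam' u hu V.2.choose.1 V.2.choose.2 V.1 s (tV lam hG u hu V s) := by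
  unfold Rel
  exact (AddEquiv.ofBijective ((lam' V.2.choose.1 V.2.choose.2).app V.1).hom
    (hG.bijective V.2.choose.1 V.2.choose.2 V.1 V.2.choose_spec)).apply_symm_apply
    ((aU lam u hu V.2.choose.1 V.2.choose.2).app V.1 s)

include hP hF in
lemma rel_tV (V : GlueHom.Small (Wf p)) (s : Γ(F, V.1)) (U : Y.Opens) (hU : IsAffineOpen U)
    (hV : V.1 ≤ p ⁻¹ᵁ U) : Rel lam lam' u hu U hU V.1 s (tV lam hG u hu V s) :=
  rel_indep hP hF hG u hu _ U _ hU V.1 V.2.choose_spec hV s _ (rel_tV₀ hG u hu V s)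

include hP hF in
lemma tV_eq (V : GlueHom.Small (Wf p)) (s : Γ(F, V.1)) (t : Γ(G, V.1)) (U : Y.Opens)
    (hU : IsAffineOpen U) (hV : V.1 ≤ p ⁻¹ᵁ U) (h : Rel lam lam' u hu U hU V.1 s t) :
    tV lam hG u hu V s = t :=
  (hG.bijective U hU V.1 hV).1 ((rel_tV hP hF hG u hu V s U hU hV).trans h.symm)

include hP hF hG in
/-- **existence and uniqueness of the morphism induced by a homomorphism of graded modules** -/
theorem existsUnique_map :
    ∃! ut : F ⟶ G, ∀ (U : Y.Opens) (hU : IsAffineOpen U),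
      ut ≫ lam' U hU = lam U hU ≫ (Scheme.Modules.pushforward (emb p chart U hU)).map
        (GrMod.map (𝒮.deg U hU) (TRR.uAt u U) (hu U hU) n) := by
  obtain ⟨τ, hτ⟩ := GlueHom.exists_glue (N := F) (L := G) (Wf p) (tV lam hG u hu)
    (fun V V' h s => by
      refine (tV_eq hP hF hG u hu V' _ _ V.2.choose.1 V.2.choose.2 (h.trans V.2.choose_spec)
        ?_).symm
      exact rel_res u hu _ _ h s _ (rel_tV₀ hG u hu V s))
    (fun V c s => by
      refine tV_eq hP hF hG u hu V _ _ V.2.choose.1 V.2.choose.2 V.2.choose_spec ?_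
      have h := rel_tV₀ (lam := lam) hG u hu V s
      unfold Rel at h ⊢
      rw [Scheme.Modules.Hom.app_smul, Scheme.Modules.Hom.app_smul, h])
    hcov
  refine ⟨τ, fun U hU => ?_, fun τ' hτ' => ?_⟩
  · apply eq_of_app_eq
    intro W hW s
    rw [RP.opensRange_emb] at hW
    have h1 : τ.app W s = tV lam hG u hu ⟨W, ⟨U, hU⟩, hW⟩ s := hτ ⟨W, ⟨U, hU⟩, hW⟩ s
    have h2 := rel_tV hP hF hG u hu ⟨W, ⟨U, hU⟩, hW⟩ s U hU hW
    show (lam' U hU).app W (τ.app W s) = (aU lam u hu U hU).app W s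
    rw [h1]
    exact h2
  · apply Scheme.Modules.hom_ext
    intro V
    ext s
    apply Groth.Agent.Helper4.TwistExt.eq_of_cover G V
    intro x hx
    obtain ⟨_, ⟨U, hU : IsAffineOpen U, rfl⟩, hxU, -⟩ :=
      Y.isBasis_affineOpens.exists_subset_of_mem_open (Set.mem_univ (p x)) isOpen_univ
    refine ⟨V ⊓ p ⁻¹ᵁ U, inf_le_left, ⟨hx, hxU⟩, ?_⟩
    rw [← Groth.Agent.Helper4.StalkExact.app_res τ', ← Groth.Agent.Helper4.StalkExact.app_res τ]
    set s' := F.presheaf.map (homOfLE (inf_le_left : V ⊓ p ⁻¹ᵁ U ≤ V)).op s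
    have h1 : τ.app (V ⊓ p ⁻¹ᵁ U) s' = tV lam hG u hu ⟨V ⊓ p ⁻¹ᵁ U, ⟨U, hU⟩, inf_le_right⟩ s' :=
      hτ ⟨V ⊓ p ⁻¹ᵁ U, ⟨U, hU⟩, inf_le_right⟩ s'
    rw [h1]
    refine (tV_eq hP hF hG u hu ⟨V ⊓ p ⁻¹ᵁ U, ⟨U, hU⟩, inf_le_right⟩ s' _ U hU inf_le_right ?_).symm
    have := congrArg (fun φ => (Scheme.Modules.Hom.app φ (V ⊓ p ⁻¹ᵁ U)).hom s') (hτ' U hU)
    exact this

end Groth.Agent.Helper1.TRG
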