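import Mathlib
import Groth.Prelude.Def_RelProj3
import Groth.Agent.Helper1.TR17
import Groth.Agent.Helper1.RP3
import Groth.Agent.Helper1.GlueFam
import Groth.Agent.Helper1.TR12

/-!
# The comparison map `O_{Proj 𝒜}(n) ⟶ h_* O_{Proj ℬ}(n)` of a morphism of relative Proj's
-/

set_option autoImplicit false
set_option linter.style.haveILetI false

namespace Groth.Agent.Helper1.TRC

open CategoryTheory CategoryTheory.Limits AlgebraicGeometry TopologicalSpace Opposite RelProj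
open Groth.Agent.Helper1.RP
open scoped HomogeneousIdeal

universe u

variable {Y PA PB : Scheme.{u}} {𝒜 ℬ : QCGrAlg Y}
  (φ : 𝒜.toQCAlg ⟶ ℬ.toQCAlg) (hφ : IsGradedHom φ)
  (hirr : ∀ (U : Y.Opens) (hU : IsAffineOpen U),
    (ℬ.deg U hU)₊ ≤ ((𝒜.deg U hU)₊).map (gradedHomAt φ hφ U hU))
  {pA : PA ⟶ Y} {pB : PB ⟶ Y}
  {chartA : ∀ (U : Y.Opens) (hU : IsAffineOpen U),
    (((pA ⁻¹ᵁ U : PA.Opens) : Scheme.{u}) ≅ Proj (𝒜.deg U hU))}
  {chartB : ∀ (U : Y.Opens) (hU : IsAffineOpen U),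
    (((pB ⁻¹ᵁ U : PB.Opens) : Scheme.{u}) ≅ Proj (ℬ.deg U hU))}
  {h : PB ⟶ PA} (hh : IsRelProjMap φ hφ hirr chartA chartB h) {n : ℤ}
  {LA : PA.Modules}
  {lamA : ∀ (U : Y.Opens) (hU : IsAffineOpen U),
    LA ⟶ (Scheme.Modules.pushforward (emb pA chartA U hU)).obj (GrTwist.twist (𝒜.deg U hU) n)}
  {LB : PB.Modules}
  {lamB : ∀ (U : Y.Opens) (hU : IsAffineOpen U),
    LB ⟶ (Scheme.Modules.pushforward (emb pB chartB U hU)).obj (GrTwist.twist (ℬ.deg U hU) n)}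

include hh in
lemma emb_sq (U : Y.Opens) (hU : IsAffineOpen U) :
    emb pB chartB U hU ≫ h =
      Proj.map (gradedHomAt φ hφ U hU) (hirr U hU) ≫ emb pA chartA U hU := by
  unfold emb
  rw [Category.assoc, hh U hU, Iso.inv_hom_id_assoc]

include hh in
lemma emb_sq_apply (U : Y.Opens) (hU : IsAffineOpen U) (y : Proj (ℬ.deg U hU)) :
    h.base ((emb pB chartB U hU).base y) =
      (emb pA chartA U hU).base
        (ProjectiveSpectrum.comap (gradedHomAt φ hφ U hU) (hirr U hU) y) :=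
  congrArg (fun ψ : Proj (ℬ.deg U hU) ⟶ PA => ψ.base y) (emb_sq φ hφ hirr hh U hU)

variable (lamA) in
/-- the morphism `LA ⟶ h_* embB_* O(n)` reading a section of `LA` in the chart over `U` and
applying `a / f ↦ φ a / φ f` -/
noncomputable def aU (U : Y.Opens) (hU : IsAffineOpen U) :
    LA ⟶ (Scheme.Modules.pushforward h).obj ((Scheme.Modules.pushforward (emb pB chartB U hU)).obj
      (GrTwist.twist (ℬ.deg U hU) n)) :=
  lamA U hU ≫ (Scheme.Modules.pushforward (emb pA chartA U hU)).map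
      (GrTwist.comap (gradedHomAt φ hφ U hU) (hirr U hU) n) ≫
    (Scheme.Modules.pushforwardComp (Proj.map (gradedHomAt φ hφ U hU) (hirr U hU))
      (emb pA chartA U hU)).hom.app (GrTwist.twist (ℬ.deg U hU) n) ≫
    (Scheme.Modules.pushforwardCongr (emb_sq φ hφ hirr hh U hU).symm).hom.app
      (GrTwist.twist (ℬ.deg U hU) n) ≫
    (Scheme.Modules.pushforwardComp (emb pB chartB U hU) h).inv.app (GrTwist.twist (ℬ.deg U hU) n)

variable (lamB) in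
/-- the morphism `h_* LB ⟶ h_* embB_* O(n)` -/
noncomputable def bU (U : Y.Opens) (hU : IsAffineOpen U) :
    (Scheme.Modules.pushforward h).obj LB ⟶
      (Scheme.Modules.pushforward h).obj ((Scheme.Modules.pushforward (emb pB chartB U hU)).obj
        (GrTwist.twist (ℬ.deg U hU) n)) :=
  (Scheme.Modules.pushforward h).map (lamB U hU)

lemma val_aU (U : Y.Opens) (hU : IsAffineOpen U) (V : PA.Opens) (s : Γ(LA, V))
    (y : ProjectiveSpectrum (ℬ.deg U hU)) (hy : (emb pB chartB U hU).base y ∈ h ⁻¹ᵁ V)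
    (hy' : (emb pA chartA U hU).base
      (ProjectiveSpectrum.comap (gradedHomAt φ hφ U hU) (hirr U hU) y) ∈ V) :
    GrTwist.val (V := emb pB chartB U hU ⁻¹ᵁ (h ⁻¹ᵁ V)) ((aU φ hφ hirr hh lamA U hU).app V s)
      ⟨y, hy⟩ =
    GrTwist.locMap (gradedHomAt φ hφ U hU) (hirr U hU) y
      (GrTwist.val (V := emb pA chartA U hU ⁻¹ᵁ V) ((lamA U hU).app V s) ⟨_, hy'⟩) := rfl

section ring

variable {A σA : Type u} [CommRing A] [SetLike σA A] [AddSubgroupClass σA A] {𝒜₁ : ℕ → σA}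
  [GradedRing 𝒜₁]
variable {A' σA' : Type u} [CommRing A'] [SetLike σA' A'] [AddSubgroupClass σA' A']
  {𝒜₂ : ℕ → σA'} [GradedRing 𝒜₂]
variable {B σB : Type u} [CommRing B] [SetLike σB B] [AddSubgroupClass σB B] {ℬ₁ : ℕ → σB}
  [GradedRing ℬ₁]
variable {B' σB' : Type u} [CommRing B'] [SetLike σB' B'] [AddSubgroupClass σB' B']
  {ℬ₂ : ℕ → σB'} [GradedRing ℬ₂]
variable (ψ : 𝒜₁ →+*ᵍ ℬ₁) (hψ : ℬ₁₊ ≤ (𝒜₁₊).map ψ) (ψ' : 𝒜₂ →+*ᵍ ℬ₂) (hψ' : ℬ₂₊ ≤ (𝒜₂₊).map ψ')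
  (ρA : 𝒜₁ →+*ᵍ 𝒜₂) (hρA : 𝒜₂₊ ≤ (𝒜₁₊).map ρA) (ρB : ℬ₁ →+*ᵍ ℬ₂) (hρB : ℬ₂₊ ≤ (ℬ₁₊).map ρB)
  (hcomm : ∀ a : A, ρB (ψ a) = ψ' (ρA a))

include hcomm in
lemma comap_square (y : ProjectiveSpectrum ℬ₂) :
    ProjectiveSpectrum.comap ψ hψ (ProjectiveSpectrum.comap ρB hρB y) =
      ProjectiveSpectrum.comap ρA hρA (ProjectiveSpectrum.comap ψ' hψ' y) := by
  apply ProjectiveSpectrum.ext
  apply HomogeneousIdeal.ext
  ext a
  show ρB (ψ a) ∈ y.asHomogeneousIdeal.toIdeal ↔ ψ' (ρA a) ∈ y.asHomogeneousIdeal.toIdeal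
  rw [hcomm]

include hcomm in
/-- the two ways around a commutative square of graded rings agree on the values of a section -/
lemma locMap_square {n : ℤ} {O : (Proj 𝒜₁).Opens} (F : Γ(GrTwist.twist 𝒜₁ n, O))
    (y : ProjectiveSpectrum ℬ₂)
    (h₁ : ProjectiveSpectrum.comap ψ hψ (ProjectiveSpectrum.comap ρB hρB y) ∈ O)
    (h₂ : ProjectiveSpectrum.comap ρA hρA (ProjectiveSpectrum.comap ψ' hψ' y) ∈ O) :
    GrTwist.locMap ρB hρB y (GrTwist.locMap ψ hψ (ProjectiveSpectrum.comap ρB hρB y)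
        (GrTwist.val F ⟨_, h₁⟩)) =
      GrTwist.locMap ψ' hψ' y (GrTwist.locMap ρA hρA (ProjectiveSpectrum.comap ψ' hψ' y)
        (GrTwist.val F ⟨_, h₂⟩)) := by
  obtain ⟨N, hxN, iN, i, j, a, b, nin, -, hfrac⟩ := (F : GrTwist.sectN (𝒜 := 𝒜₁) n (op O)).2 ⟨_, h₁⟩
  have hx₂ : ProjectiveSpectrum.comap ρA hρA (ProjectiveSpectrum.comap ψ' hψ' y) ∈ N := by
    rw [← comap_square ψ hψ ψ' hψ' ρA hρA ρB hρB hcomm]; exact hxN
  have e1 : GrTwist.val F ⟨_, h₁⟩ = Localization.mk (a : A) ⟨b, nin ⟨_, hxN⟩⟩ := hfrac ⟨_, hxN⟩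
  have e2 : GrTwist.val F ⟨_, h₂⟩ = Localization.mk (a : A) ⟨b, nin ⟨_, hx₂⟩⟩ := hfrac ⟨_, hx₂⟩
  rw [e1, e2, GrTwist.locMap_mk, GrTwist.locMap_mk, GrTwist.locMap_mk, GrTwist.locMap_mk]
  congr 1
  · exact hcomm _
  · exact Subtype.ext (hcomm _)

end ring

variable (lamA lamB) in
/-- "`t = θ(s)` read in the chart over `U`" -/
def Rel (U : Y.Opens) (hU : IsAffineOpen U) (V : PA.Opens) (s : Γ(LA, V))
    (t : Γ((Scheme.Modules.pushforward h).obj LB, V)) : Prop :=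
  (bU lamB U hU).app V t = (aU φ hφ hirr hh lamA U hU).app V s

/-- the valuewise form of the relation -/
lemma rel_iff (U : Y.Opens) (hU : IsAffineOpen U) (V : PA.Opens) (s : Γ(LA, V))
    (t : Γ((Scheme.Modules.pushforward h).obj LB, V)) :
    Rel φ hφ hirr hh lamA lamB U hU V s t ↔
      ∀ (y : ProjectiveSpectrum (ℬ.deg U hU)) (hy : (emb pB chartB U hU).base y ∈ h ⁻¹ᵁ V)
        (hy' : (emb pA chartA U hU).base
          (ProjectiveSpectrum.comap (gradedHomAt φ hφ U hU) (hirr U hU) y) ∈ V),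
        GrTwist.val (V := emb pB chartB U hU ⁻¹ᵁ (h ⁻¹ᵁ V)) ((lamB U hU).app (h ⁻¹ᵁ V) t) ⟨y, hy⟩ =
          GrTwist.locMap (gradedHomAt φ hφ U hU) (hirr U hU) y
            (GrTwist.val (V := emb pA chartA U hU ⁻¹ᵁ V) ((lamA U hU).app V s) ⟨_, hy'⟩) := by
  constructor
  · intro H y hy hy'
    have := congrArg (fun z => GrTwist.val (V := emb pB chartB U hU ⁻¹ᵁ (h ⁻¹ᵁ V)) z ⟨y, hy⟩) H
    exact this
  · intro H
    apply GT.sect_ext
    rintro ⟨y, hy⟩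
    have hy' : (emb pA chartA U hU).base
        (ProjectiveSpectrum.comap (gradedHomAt φ hφ U hU) (hirr U hU) y) ∈ V := by
      rw [← emb_sq_apply φ hφ hirr hh U hU y]; exact hy
    exact H y hy hy'

lemma rel_res (U : Y.Opens) (hU : IsAffineOpen U) {V V' : PA.Opens} (hV : V' ≤ V) (s : Γ(LA, V))
    (t : Γ((Scheme.Modules.pushforward h).obj LB, V))
    (H : Rel φ hφ hirr hh lamA lamB U hU V s t) :
    Rel φ hφ hirr hh lamA lamB U hU V' (LA.presheaf.map (homOfLE hV).op s)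
      (((Scheme.Modules.pushforward h).obj LB).presheaf.map (homOfLE hV).op t) := by
  unfold Rel at H ⊢
  rw [Groth.Agent.Helper4.StalkExact.app_res, Groth.Agent.Helper4.StalkExact.app_res, H]

lemma rel_congr (D₁ D₂ : Y.Opens) (e : D₁ = D₂) (h₁ : IsAffineOpen D₁) (h₂ : IsAffineOpen D₂)
    (V : PA.Opens) (s : Γ(LA, V)) (t : Γ((Scheme.Modules.pushforward h).obj LB, V))
    (H : Rel φ hφ hirr hh lamA lamB D₁ h₁ V s t) : Rel φ hφ hirr hh lamA lamB D₂ h₂ V s t := by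
  subst e
  exact H

variable (hA : IsRelProj 𝒜 pA chartA) (hB : IsRelProj ℬ pB chartB)
  (hLA : IsRelTwist 𝒜 pA chartA n LA lamA) (hLB : IsRelTwist ℬ pB chartB n LB lamB)

include hA hB hh in
lemma preimage_le {U : Y.Opens} {V : PA.Opens} (hV : V ≤ pA ⁻¹ᵁ U) : h ⁻¹ᵁ V ≤ pB ⁻¹ᵁ U := by
  intro z hz
  have h1 : (h ≫ pA).base z ∈ U := hV hz
  rw [relProjMap_comm φ hφ hirr hA hB h hh] at h1
  exact h1

include hA hB hLB hh in
lemma bU_bijective (U : Y.Opens) (hU : IsAffineOpen U) (V : PA.Opens) (hV : V ≤ pA ⁻¹ᵁ U) :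
    Function.Bijective ((bU lamB (h := h) U hU).app V) :=
  hLB.bijective U hU (h ⁻¹ᵁ V) (preimage_le φ hφ hirr hh hA hB hV)

include hA hB hLA hLB in
theorem rel_fwd (U : Y.Opens) (hU : IsAffineOpen U) (r : Γ(Y, U)) (V : PA.Opens) (s : Γ(LA, V))
    (t : Γ((Scheme.Modules.pushforward h).obj LB, V))
    (H : Rel φ hφ hirr hh lamA lamB U hU V s t) :
    Rel φ hφ hirr hh lamA lamB (Y.basicOpen r) (hU.basicOpen r) V s t := by
  rw [rel_iff] at H ⊢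
  intro y hy hy'
  have hy₂ : (emb pB chartB U hU).base (ProjectiveSpectrum.comap
      (ℬ.res hU (hU.basicOpen r) (Y.basicOpen_le r)) (ℬ.irrelevant_le_map U hU r) y) ∈ h ⁻¹ᵁ V := by
    rw [TRG.emb_comap hB]; exact hy
  have hy₃ : (emb pA chartA U hU).base (ProjectiveSpectrum.comap
      (𝒜.res hU (hU.basicOpen r) (Y.basicOpen_le r)) (𝒜.irrelevant_le_map U hU r)
      (ProjectiveSpectrum.comap (gradedHomAt φ hφ (Y.basicOpen r) (hU.basicOpen r))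
        (hirr _ (hU.basicOpen r)) y)) ∈ V := by
    rw [TRG.emb_comap hA]; exact hy'
  have hy₄ : (emb pA chartA U hU).base (ProjectiveSpectrum.comap (gradedHomAt φ hφ U hU)
      (hirr U hU) (ProjectiveSpectrum.comap
      (ℬ.res hU (hU.basicOpen r) (Y.basicOpen_le r)) (ℬ.irrelevant_le_map U hU r) y)) ∈ V := by
    rw [← emb_sq_apply φ hφ hirr hh U hU]; exact hy₂
  rw [hLB.compat U hU r (h ⁻¹ᵁ V) t y hy hy₂, H _ hy₂ hy₄,
    hLA.compat U hU r V s _ hy' hy₃]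
  exact locMap_square (gradedHomAt φ hφ U hU) (hirr U hU)
    (gradedHomAt φ hφ (Y.basicOpen r) (hU.basicOpen r)) (hirr _ (hU.basicOpen r))
    (𝒜.res hU (hU.basicOpen r) (Y.basicOpen_le r)) (𝒜.irrelevant_le_map U hU r)
    (ℬ.res hU (hU.basicOpen r) (Y.basicOpen_le r)) (ℬ.irrelevant_le_map U hU r)
    (fun a => DFunLike.congr_fun
      (res_gradedHomAt φ hφ hU (hU.basicOpen r) (Y.basicOpen_le r)).symm a)
    ((lamA U hU).app V s) y hy₄ hy₃

include hA hB hLA hLB in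
theorem rel_bwd (U : Y.Opens) (hU : IsAffineOpen U) (r : Γ(Y, U)) (V : PA.Opens)
    (hV : V ≤ pA ⁻¹ᵁ (Y.basicOpen r)) (s : Γ(LA, V))
    (t : Γ((Scheme.Modules.pushforward h).obj LB, V))
    (H : Rel φ hφ hirr hh lamA lamB (Y.basicOpen r) (hU.basicOpen r) V s t) :
    Rel φ hφ hirr hh lamA lamB U hU V s t := by
  obtain ⟨t', ht'⟩ := (bU_bijective φ hφ hirr hh hA hB hLB U hU V
    (hV.trans (pA.preimage_mono (Y.basicOpen_le r)))).2 ((aU φ hφ hirr hh lamA U hU).app V s)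
  have h1 : Rel φ hφ hirr hh lamA lamB (Y.basicOpen r) (hU.basicOpen r) V s t' :=
    rel_fwd φ hφ hirr hh hA hB hLA hLB U hU r V s t' ht'
  have h2 : t' = t := (bU_bijective φ hφ hirr hh hA hB hLB _ (hU.basicOpen r) V hV).1
    (h1.trans H.symm)
  subst h2
  exact ht'

include hA hB hLA hLB in
theorem rel_indep (U U' : Y.Opens) (hU : IsAffineOpen U) (hU' : IsAffineOpen U') (V : PA.Opens)
    (hV : V ≤ pA ⁻¹ᵁ U) (hV' : V ≤ pA ⁻¹ᵁ U') (s : Γ(LA, V))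
    (t : Γ((Scheme.Modules.pushforward h).obj LB, V))
    (H : Rel φ hφ hirr hh lamA lamB U hU V s t) : Rel φ hφ hirr hh lamA lamB U' hU' V s t := by
  obtain ⟨t', ht'⟩ := (bU_bijective φ hφ hirr hh hA hB hLB U' hU' V hV').2
    ((aU φ hφ hirr hh lamA U' hU').app V s)
  have ht'' : Rel φ hφ hirr hh lamA lamB U' hU' V s t' := ht'
  suffices h2 : t' = t by subst h2; exact ht''
  apply Groth.Agent.Helper4.TwistExt.eq_of_cover ((Scheme.Modules.pushforward h).obj LB) V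
  intro x hx
  obtain ⟨r, r', e, hxr⟩ := exists_basicOpen_le_affine_inter hU hU' (pA x) ⟨hV hx, hV' hx⟩
  refine ⟨V ⊓ pA ⁻¹ᵁ (Y.basicOpen r), inf_le_left, ⟨hx, hxr⟩, ?_⟩
  have hVD : V ⊓ pA ⁻¹ᵁ (Y.basicOpen r) ≤ pA ⁻¹ᵁ (Y.basicOpen r) := inf_le_right
  have hVD' : V ⊓ pA ⁻¹ᵁ (Y.basicOpen r) ≤ pA ⁻¹ᵁ (Y.basicOpen r') := by rw [← e]; exact hVD
  have h3 := rel_res φ hφ hirr hh U hU (inf_le_left : V ⊓ pA ⁻¹ᵁ (Y.basicOpen r) ≤ V) s t H
  have h4 := rel_fwd φ hφ hirr hh hA hB hLA hLB U hU r _ _ _ h3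
  have h5 := rel_congr φ hφ hirr hh _ _ e (hU.basicOpen r) (hU'.basicOpen r') _ _ _ h4
  have h6 := rel_bwd φ hφ hirr hh hA hB hLA hLB U' hU' r' _ hVD' _ _ h5
  have h7 := rel_res φ hφ hirr hh U' hU' (inf_le_left : V ⊓ pA ⁻¹ᵁ (Y.basicOpen r) ≤ V) s t' ht''
  exact (bU_bijective φ hφ hirr hh hA hB hLB U' hU' _ (inf_le_left.trans hV')).1 (h7.trans h6.symm)

include hA hB hLA hLB hh in
/-- **existence and uniqueness of the comparison map of the twisting sheaves** -/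
theorem existsUnique_comap :
    ∃! θ : LA ⟶ (Scheme.Modules.pushforward h).obj LB,
      ∀ (U : Y.Opens) (hU : IsAffineOpen U) (W : PA.Opens) (s : Γ(LA, W))
        (y : ProjectiveSpectrum (ℬ.deg U hU))
        (hy : (emb pB chartB U hU).base y ∈ h ⁻¹ᵁ W)
        (hy' : (emb pA chartA U hU).base
          (ProjectiveSpectrum.comap (gradedHomAt φ hφ U hU) (hirr U hU) y) ∈ W),
        GrTwist.val (V := emb pB chartB U hU ⁻¹ᵁ (h ⁻¹ᵁ W))
            ((lamB U hU).app (h ⁻¹ᵁ W) (θ.app W s)) ⟨y, hy⟩ =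
          GrTwist.locMap (gradedHomAt φ hφ U hU) (hirr U hU) y
            (GrTwist.val (V := emb pA chartA U hU ⁻¹ᵁ W) ((lamA U hU).app W s) ⟨_, hy'⟩) := by
  have key : ∀ θ : LA ⟶ (Scheme.Modules.pushforward h).obj LB,
      (∀ (U : Y.Opens) (hU : IsAffineOpen U) (W : PA.Opens) (s : Γ(LA, W))
        (y : ProjectiveSpectrum (ℬ.deg U hU))
        (hy : (emb pB chartB U hU).base y ∈ h ⁻¹ᵁ W)
        (hy' : (emb pA chartA U hU).base
          (ProjectiveSpectrum.comap (gradedHomAt φ hφ U hU) (hirr U hU) y) ∈ W),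
        GrTwist.val (V := emb pB chartB U hU ⁻¹ᵁ (h ⁻¹ᵁ W))
            ((lamB U hU).app (h ⁻¹ᵁ W) (θ.app W s)) ⟨y, hy⟩ =
          GrTwist.locMap (gradedHomAt φ hφ U hU) (hirr U hU) y
            (GrTwist.val (V := emb pA chartA U hU ⁻¹ᵁ W) ((lamA U hU).app W s) ⟨_, hy'⟩)) ↔
      ∀ i : {U : Y.Opens // IsAffineOpen U},
        θ ≫ bU lamB i.1 i.2 = aU φ hφ hirr hh lamA i.1 i.2 := by
    intro θ
    constructor
    · intro H i
      apply Scheme.Modules.hom_ext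
      intro V
      ext s
      exact (rel_iff φ hφ hirr hh i.1 i.2 V s (θ.app V s)).2 (H i.1 i.2 V s)
    · intro H U hU W s
      refine (rel_iff φ hφ hirr hh U hU W s (θ.app W s)).1 ?_
      have := congrArg (fun ψ => (Scheme.Modules.Hom.app ψ W).hom s) (H ⟨U, hU⟩)
      exact this
  have hEU := GlueFam.existsUnique (F := LA) (G := (Scheme.Modules.pushforward h).obj LB)
    (TRG.Wf pA) TRG.hcov
    (fun i => (Scheme.Modules.pushforward h).obj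
      ((Scheme.Modules.pushforward (emb pB chartB i.1 i.2)).obj (GrTwist.twist (ℬ.deg i.1 i.2) n)))
    (fun i => aU φ hφ hirr hh lamA i.1 i.2) (fun i => bU lamB i.1 i.2)
    (fun i V hV => bU_bijective φ hφ hirr hh hA hB hLB i.1 i.2 V hV)
    (fun i j V hV hV' s t H => rel_indep φ hφ hirr hh hA hB hLA hLB i.1 j.1 i.2 j.2 V hV hV' s t H)
    (fun i V => by
      intro s t hst
      apply GT.sect_ext
      rintro ⟨y, hy⟩
      have hy2 : (emb pB chartB i.1 i.2).base y ∈ h ⁻¹ᵁ (V ⊓ TRG.Wf pA i) := by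
        refine ⟨hy, ?_⟩
        show h.base ((emb pB chartB i.1 i.2).base y) ∈ pA ⁻¹ᵁ i.1
        rw [emb_sq_apply φ hφ hirr hh i.1 i.2 y]
        exact emb_mem pA chartA i.1 i.2 _
      have := congrArg (fun z => GrTwist.val
        (V := emb pB chartB i.1 i.2 ⁻¹ᵁ (h ⁻¹ᵁ (V ⊓ TRG.Wf pA i))) z ⟨y, hy2⟩) hst
      exact this)
  obtain ⟨θ, hθ, hθu⟩ := hEU
  exact ⟨θ, (key θ).2 hθ, fun θ' hθ' => hθu θ' ((key θ').1 hθ')⟩

end Groth.Agent.Helper1.TRC
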