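import Mathlib
import Groth.Prelude.Def_RelProj3
import Groth.Agent.Helper1.TR20
import Groth.Agent.Helper1.TR19
import Groth.Agent.Helper1.TR5
import Groth.Agent.Helper1.PBIso

/-!
# Inverse image of `O(n)` under a morphism of relative Proj's induced by a graded homomorphism,
the source algebra generated in degree one
-/

set_option autoImplicit false
set_option linter.style.haveILetI false

namespace Groth.Agent.Helper1.TRS

open CategoryTheory CategoryTheory.Limits AlgebraicGeometry TopologicalSpace Opposite RelProj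
open Groth.Agent.Helper1.RP
open scoped HomogeneousIdeal

universe u

variable {Y P : Scheme.{u}} {𝒮 : QCGrAlg Y} {p : P ⟶ Y}
  {chart : ∀ (U : Y.Opens) (hU : IsAffineOpen U),
    (((p ⁻¹ᵁ U : P.Opens) : Scheme.{u}) ≅ Proj (𝒮.deg U hU))}

/-- a section reading `a / b` in a chart, `a` and `b` invertible, is a free generator -/
theorem smul_bijective_of_fracSect {m : ℤ} {L : P.Modules}
    {lam : ∀ (U : Y.Opens) (hU : IsAffineOpen U),
      L ⟶ (Scheme.Modules.pushforward (emb p chart U hU)).obj (GrTwist.twist (𝒮.deg U hU) m)}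
    (hL : IsRelTwist 𝒮 p chart m L lam) (U : Y.Opens) (hU : IsAffineOpen U) (W : P.Opens)
    (hWU : W ≤ p ⁻¹ᵁ U) {i j : ℕ} (a : 𝒮.presheaf.obj (op U)) (ha : a ∈ 𝒮.deg U hU i)
    (b : 𝒮.presheaf.obj (op U)) (hb : b ∈ 𝒮.deg U hU j) (hij : (i : ℤ) = j + m)
    (hWa : ∀ z : ProjectiveSpectrum.top (𝒮.deg U hU), z ∈ emb p chart U hU ⁻¹ᵁ W →
      a ∉ z.asHomogeneousIdeal)
    (hWb : ∀ z : ProjectiveSpectrum.top (𝒮.deg U hU), z ∈ emb p chart U hU ⁻¹ᵁ W →
      b ∉ z.asHomogeneousIdeal)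
    (t : Γ(L, W))
    (ht : (lam U hU).app W t = GT.fracSect m a ha b hb hij (emb p chart U hU ⁻¹ᵁ W) hWb) :
    Function.Bijective (fun c : Γ(P, W) => c • t) := by
  have h3 := GT.smul_fracSect_bijective m a ha b hb hij (emb p chart U hU ⁻¹ᵁ W) hWa hWb
  haveI : IsIso ((emb p chart U hU).app W) :=
    Scheme.Hom.isIso_app (emb p chart U hU) _ (by rw [opensRange_emb]; exact hWU)
  have h4 : Function.Bijective ((emb p chart U hU).app W) :=
    ConcreteCategory.bijective_of_isIso _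
  have hcomp : (lam U hU).app W ∘ (fun c : Γ(P, W) => c • t) =
      (fun c' : Γ(Proj (𝒮.deg U hU), emb p chart U hU ⁻¹ᵁ W) => c' •
        GT.fracSect m a ha b hb hij (emb p chart U hU ⁻¹ᵁ W) hWb) ∘
      (emb p chart U hU).app W := by
    funext c
    simp only [Function.comp_apply]
    rw [Scheme.Modules.Hom.app_smul, ht]
    rfl
  have h6 := h3.comp h4
  rw [← hcomp] at h6
  exact (Function.Bijective.of_comp_iff' (hL.bijective U hU _ hWU) _).1 h6

end Groth.Agent.Helper1.TRS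

namespace Groth.Agent.Helper1.TRC

open CategoryTheory CategoryTheory.Limits AlgebraicGeometry TopologicalSpace Opposite RelProj
open Groth.Agent.Helper1.RP
open scoped HomogeneousIdeal

universe u

variable {Y PA PB : Scheme.{u}} {𝒜 ℬ : QCGrAlg Y}
  (φ : 𝒜.toQCAlg ⟶ ℬ.toQCAlg) (hφ : IsGradedHom φ)
  (hirr : ∀ (U : Y.Opens) (hU : IsAffineOpen U),
    (ℬ.deg U hU)₊ ≤ ((𝒜.deg U hU)₊).map (gradedHomAt φ hφ U hU))
  {pA : PA ⟶ Y} {pB : PB ⟶ Y}
  {chartA : ∀ (U : Y.Opens) (hU : IsAffineOpen U),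
    (((pA ⁻¹ᵁ U : PA.Opens) : Scheme.{u}) ≅ Proj (𝒜.deg U hU))}
  {chartB : ∀ (U : Y.Opens) (hU : IsAffineOpen U),
    (((pB ⁻¹ᵁ U : PB.Opens) : Scheme.{u}) ≅ Proj (ℬ.deg U hU))}
  {h : PB ⟶ PA} (hh : IsRelProjMap φ hφ hirr chartA chartB h) {n : ℤ}
  {LA : PA.Modules}
  {lamA : ∀ (U : Y.Opens) (hU : IsAffineOpen U),
    LA ⟶ (Scheme.Modules.pushforward (emb pA chartA U hU)).obj (GrTwist.twist (𝒜.deg U hU) n)}
  {LB : PB.Modules}
  {lamB : ∀ (U : Y.Opens) (hU : IsAffineOpen U),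
    LB ⟶ (Scheme.Modules.pushforward (emb pB chartB U hU)).obj (GrTwist.twist (ℬ.deg U hU) n)}
  (hLA : IsRelTwist 𝒜 pA chartA n LA lamA) (hLB : IsRelTwist ℬ pB chartB n LB lamB)

lemma pow_mem_of_mem_one {A σ : Type*} [CommRing A] [SetLike σ A] [AddSubgroupClass σ A]
    (𝒜₁ : ℕ → σ) [GradedRing 𝒜₁] {f : A} (hf : f ∈ 𝒜₁ 1) (k : ℕ) : f ^ k ∈ 𝒜₁ k := by
  have := SetLike.pow_mem_graded k hf
  simpa using this

include hh hLA hLB in
/-- the adjoint of the comparison map is an isomorphism when `𝒜` is generated in degree one -/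
theorem isIso_adjoint (hgen : 𝒜.IsGenDegOne)
    (θ : LA ⟶ (Scheme.Modules.pushforward h).obj LB)
    (hθ : ∀ (U : Y.Opens) (hU : IsAffineOpen U) (W : PA.Opens) (s : Γ(LA, W))
        (y : ProjectiveSpectrum (ℬ.deg U hU))
        (hy : (emb pB chartB U hU).base y ∈ h ⁻¹ᵁ W)
        (hy' : (emb pA chartA U hU).base
          (ProjectiveSpectrum.comap (gradedHomAt φ hφ U hU) (hirr U hU) y) ∈ W),
        GrTwist.val (V := emb pB chartB U hU ⁻¹ᵁ (h ⁻¹ᵁ W))
            ((lamB U hU).app (h ⁻¹ᵁ W) (θ.app W s)) ⟨y, hy⟩ =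
          GrTwist.locMap (gradedHomAt φ hφ U hU) (hirr U hU) y
            (GrTwist.val (V := emb pA chartA U hU ⁻¹ᵁ W) ((lamA U hU).app W s) ⟨_, hy'⟩)) :
    IsIso (((Scheme.Modules.pullbackPushforwardAdjunction h).homEquiv LA LB).symm θ) := by
  haveI := TRR.isQuasicoherent_of_isRelTwist hLA
  haveI := TRR.isQuasicoherent_of_isRelTwist hLB
  apply PBIso.isIso_adjoint_of_generators
  intro x
  obtain ⟨_, ⟨U, hU : IsAffineOpen U, rfl⟩, hxU, -⟩ :=
    Y.isBasis_affineOpens.exists_subset_of_mem_open (Set.mem_univ (pB x)) isOpen_univ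
  have hxU' : x ∈ pB ⁻¹ᵁ U := hxU
  set y : Proj (ℬ.deg U hU) := (chartB U hU).hom ⟨x, hxU'⟩ with hy_def
  have hyx : (emb pB chartB U hU) y = x := emb_chart_hom pB chartB U hU x hxU'
  -- a degree-one element not vanishing at `y`
  obtain ⟨f, hf, hfy⟩ : ∃ f ∈ 𝒜.deg U hU 1,
      gradedHomAt φ hφ U hU f ∉ y.asHomogeneousIdeal := by
    by_contra hcon
    push Not at hcon
    apply y.not_irrelevant_le
    refine (hirr U hU).trans ?_
    intro b hb
    have hb' : b ∈ ((𝒜.deg U hU)₊).toIdeal.map (gradedHomAt φ hφ U hU) := hb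
    have hle : ((𝒜.deg U hU)₊).toIdeal.map (gradedHomAt φ hφ U hU) ≤
        y.asHomogeneousIdeal.toIdeal := by
      rw [Ideal.map_le_iff_le_comap]
      refine (RP.irrelevant_le_span_one (hgen U hU)).trans ?_
      rw [Ideal.span_le]
      intro a ha
      exact hcon a ha
    exact hle hb'
  set ψ := gradedHomAt φ hφ U hU with hψ_def
  set DA : (Proj (𝒜.deg U hU)).Opens := Proj.basicOpen (𝒜.deg U hU) f with hDA
  set DB : (Proj (ℬ.deg U hU)).Opens := Proj.basicOpen (ℬ.deg U hU) (ψ f) with hDB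
  set WA : PA.Opens := (emb pA chartA U hU) ''ᵁ DA with hWA_def
  set WB : PB.Opens := (emb pB chartB U hU) ''ᵁ DB with hWB_def
  have hWA : IsAffineOpen WA :=
    (Proj.isAffineOpen_basicOpen (𝒜.deg U hU) f hf Nat.one_pos).image_of_isOpenImmersion _
  have hWB : IsAffineOpen WB :=
    (Proj.isAffineOpen_basicOpen (ℬ.deg U hU) (ψ f) (ψ.map_mem hf)
      Nat.one_pos).image_of_isOpenImmersion _
  have hWAU : WA ≤ pA ⁻¹ᵁ U := by
    rintro _ ⟨z, -, rfl⟩
    exact emb_mem pA chartA U hU z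
  have hWBU : WB ≤ pB ⁻¹ᵁ U := by
    rintro _ ⟨z, -, rfl⟩
    exact emb_mem pB chartB U hU z
  have hpreA : emb pA chartA U hU ⁻¹ᵁ WA = DA := Scheme.Hom.preimage_image_eq _ _
  have hpreB : emb pB chartB U hU ⁻¹ᵁ WB = DB := Scheme.Hom.preimage_image_eq _ _
  have e : WB ≤ h ⁻¹ᵁ WA := by
    rintro _ ⟨z, hz, rfl⟩
    change h.base ((emb pB chartB U hU).base z) ∈ WA
    rw [emb_sq_apply φ hφ hirr hh U hU z]
    refine ⟨_, ?_, rfl⟩
    exact hz
  have hxWB : x ∈ WB := ⟨y, hfy, hyx⟩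
  -- the generators
  have ha : f ^ n.toNat ∈ 𝒜.deg U hU n.toNat := pow_mem_of_mem_one _ hf _
  have hb : f ^ (-n).toNat ∈ 𝒜.deg U hU (-n).toNat := pow_mem_of_mem_one _ hf _
  have ha' : ψ f ^ n.toNat ∈ ℬ.deg U hU n.toNat := pow_mem_of_mem_one _ (ψ.map_mem hf) _
  have hb' : ψ f ^ (-n).toNat ∈ ℬ.deg U hU (-n).toNat := pow_mem_of_mem_one _ (ψ.map_mem hf) _
  have hij : ((n.toNat : ℕ) : ℤ) = ((-n).toNat : ℕ) + n := by omega
  have hnotA : ∀ (k : ℕ) (z : ProjectiveSpectrum.top (𝒜.deg U hU)),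
      z ∈ emb pA chartA U hU ⁻¹ᵁ WA → f ^ k ∉ z.asHomogeneousIdeal := by
    intro k z hz hmem
    rw [hpreA] at hz
    exact hz (z.isPrime.mem_of_pow_mem _ hmem)
  have hnotB : ∀ (k : ℕ) (z : ProjectiveSpectrum.top (ℬ.deg U hU)),
      z ∈ emb pB chartB U hU ⁻¹ᵁ WB → ψ f ^ k ∉ z.asHomogeneousIdeal := by
    intro k z hz hmem
    rw [hpreB] at hz
    exact hz (z.isPrime.mem_of_pow_mem _ hmem)
  obtain ⟨s, hs⟩ := (hLA.bijective U hU WA hWAU).2
    (GT.fracSect n (f ^ n.toNat) ha (f ^ (-n).toNat) hb hij (emb pA chartA U hU ⁻¹ᵁ WA)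
      (hnotA _))
  refine ⟨WA, WB, e, hWA, hWB, hxWB, s, ?_, ?_⟩
  · exact TRS.smul_bijective_of_fracSect hLA U hU WA hWAU _ ha _ hb hij (hnotA _) (hnotA _) s hs
  · refine TRS.smul_bijective_of_fracSect hLB U hU WB hWBU _ ha' _ hb' hij (hnotB _) (hnotB _)
      _ ?_
    rw [Groth.Agent.Helper4.StalkExact.app_res]
    apply GT.sect_ext
    rintro ⟨z, hz⟩
    have hzB : (emb pB chartB U hU).base z ∈ h ⁻¹ᵁ WA := e hz
    have hzA : (emb pA chartA U hU).base
        (ProjectiveSpectrum.comap (gradedHomAt φ hφ U hU) (hirr U hU) z) ∈ WA := by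
      rw [← emb_sq_apply φ hφ hirr hh U hU z]
      exact hzB
    rw [GT.val_fracSect]
    refine (hθ U hU WA s z hzB hzA).trans ?_
    rw [hs, GT.val_fracSect, GrTwist.locMap_mk]
    congr 1
    · exact map_pow ψ f _
    · exact Subtype.ext (map_pow ψ f _)

end Groth.Agent.Helper1.TRC
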