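import Mathlib
import Groth.Prelude.Def_RelProj3
import Groth.Agent.Helper1.TR23
import Groth.Agent.Helper1.SY17

/-!
# The canonical surjection `p^* E ⟶ O_{P(E)}(1)`
-/

set_option autoImplicit false
set_option linter.style.haveILetI false

namespace Groth.Agent.Helper1.PBIso

open CategoryTheory CategoryTheory.Limits AlgebraicGeometry TopologicalSpace Opposite

universe u

variable {X Y : Scheme.{u}} (f : X ⟶ Y) {F : Y.Modules} {G : X.Modules}
  [G.IsQuasicoherent] (κ : F ⟶ (Scheme.Modules.pushforward f).obj G)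

/-- the adjoint of `κ : F ⟶ f_* G` is an epimorphism when locally a section in the image of `κ`
generates `G` -/
theorem epi_adjoint_of_generators
    (h : ∀ x : X, ∃ (U : Y.Opens) (V : X.Opens) (e : V ≤ f ⁻¹ᵁ U),
      IsAffineOpen V ∧ x ∈ V ∧ ∃ s : Γ(F, U),
        Function.Surjective (fun c : Γ(X, V) =>
          c • G.presheaf.map (homOfLE e).op (κ.app U s))) :
    Epi (((Scheme.Modules.pullbackPushforwardAdjunction f).homEquiv F G).symm κ) := by
  set ν := ((Scheme.Modules.pullbackPushforwardAdjunction f).homEquiv F G).symm κ with hν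
  apply Groth.Agent.Helper4.QcohLocal.epi_of_app_surjective_of_affine_cover
  intro x
  obtain ⟨U, V, e, hV, hxV, s, ht⟩ := h x
  refine ⟨V, hV, hxV, ?_⟩
  have hkey : ν.app V (Groth.Agent.Lead.BCMap.pbSec f F U V e s) =
      G.presheaf.map (homOfLE e).op (κ.app U s) := by
    rw [← Groth.Agent.Lead.BCMap.homEquiv_app f F ν U V e s, hν, Equiv.apply_symm_apply]
  intro t
  obtain ⟨c, hc⟩ := ht t
  refine ⟨c • Groth.Agent.Lead.BCMap.pbSec f F U V e s, ?_⟩
  rw [Scheme.Modules.Hom.app_smul, hkey]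
  exact hc

end Groth.Agent.Helper1.PBIso

namespace Groth.Agent.Helper1.SY

open CategoryTheory Limits AlgebraicGeometry TopologicalSpace Opposite RelSpec RelProj
open scoped HomogeneousIdeal

universe u

variable {S : Scheme.{u}} {E : S.Modules} [E.IsQuasicoherent] {𝒮 : QCGrAlg S}
  {j : E ⟶ 𝒮.toModule} (hj : IsGrSymAlg E 𝒮 j) (U : S.Opens) (hU : IsAffineOpen U)

include hj in
/-- the irrelevant ideal of the graded symmetric algebra is generated by the image of `j` -/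
theorem irrelevant_le_span_range_j :
    ((𝒮.deg U hU)₊).toIdeal ≤
      Ideal.span (Set.range (jR (A := 𝒮.toQCAlg) j U)) := by
  classical
  set I : Ideal (𝒮.presheaf.obj (op U)) :=
    Ideal.span (Set.range (jR (A := 𝒮.toQCAlg) j U)) with hI
  -- every element is congruent to a scalar modulo `I`
  have h1 : ∀ x : 𝒮.presheaf.obj (op U), ∃ c : Γ(S, U), x - (𝒮.str.app (op U)).hom c ∈ I := by
    intro x
    obtain ⟨x', rfl⟩ := (symLift_bijective hj.1 U hU).2 x
    induction x' using SymmetricAlgebra.induction with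
    | algebraMap r =>
      refine ⟨r, ?_⟩
      rw [symLift_algebraMap, sub_self]
      exact zero_mem _
    | ι m =>
      refine ⟨0, ?_⟩
      rw [symLift_ι, map_zero, sub_zero]
      exact Ideal.subset_span ⟨m, rfl⟩
    | mul a b ha hb =>
      obtain ⟨c, hc⟩ := ha
      obtain ⟨c', hc'⟩ := hb
      refine ⟨c * c', ?_⟩
      rw [map_mul, map_mul]
      have : symLift 𝒮.toQCAlg j U a * symLift 𝒮.toQCAlg j U b -
          (𝒮.str.app (op U)).hom c * (𝒮.str.app (op U)).hom c' =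
          (symLift 𝒮.toQCAlg j U a - (𝒮.str.app (op U)).hom c) * symLift 𝒮.toQCAlg j U b +
            (𝒮.str.app (op U)).hom c * (symLift 𝒮.toQCAlg j U b - (𝒮.str.app (op U)).hom c') := by
        ring
      rw [this]
      exact I.add_mem (I.mul_mem_right _ hc) (I.mul_mem_left _ hc')
    | add a b ha hb =>
      obtain ⟨c, hc⟩ := ha
      obtain ⟨c', hc'⟩ := hb
      refine ⟨c + c', ?_⟩
      rw [map_add, map_add]
      have : symLift 𝒮.toQCAlg j U a + symLift 𝒮.toQCAlg j U b -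
          ((𝒮.str.app (op U)).hom c + (𝒮.str.app (op U)).hom c') =
          (symLift 𝒮.toQCAlg j U a - (𝒮.str.app (op U)).hom c) +
            (symLift 𝒮.toQCAlg j U b - (𝒮.str.app (op U)).hom c') := by ring
      rw [this]
      exact I.add_mem hc hc'
  -- the projection to degree zero kills `I`
  have h2 : I ≤ RingHom.ker (GradedRing.projZeroRingHom (𝒮.deg U hU)) := by
    rw [hI, Ideal.span_le]
    rintro _ ⟨m, rfl⟩
    rw [SetLike.mem_coe, RingHom.mem_ker, GradedRing.projZeroRingHom_apply]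
    exact DirectSum.decompose_of_mem_ne (𝒮.deg U hU) (hj.2 U hU m) one_ne_zero
  rw [HomogeneousIdeal.toIdeal_irrelevant_le]
  intro d hd x hx
  obtain ⟨c, hc⟩ := h1 x
  have h3 := h2 hc
  rw [RingHom.mem_ker, map_sub, GradedRing.projZeroRingHom_apply, GradedRing.projZeroRingHom_apply,
    DirectSum.decompose_of_mem_ne (𝒮.deg U hU) hx (Nat.pos_iff_ne_zero.1 hd),
    DirectSum.decompose_of_mem_same (𝒮.deg U hU) (𝒮.str_mem U hU c), zero_sub, neg_eq_zero] at h3
  rw [h3, sub_zero] at hc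
  exact hc

end Groth.Agent.Helper1.SY

namespace Groth.Agent.Helper1.TRS

open CategoryTheory CategoryTheory.Limits AlgebraicGeometry TopologicalSpace Opposite RelProj
open Groth.Agent.Helper1.RP Groth.Agent.Helper1.SY
open scoped HomogeneousIdeal

universe u

variable {Y P : Scheme.{u}} {E : Y.Modules} [E.IsQuasicoherent] {𝒮 : QCGrAlg Y}
  {j : E ⟶ 𝒮.toModule} (hj : IsGrSymAlg E 𝒮 j) {p : P ⟶ Y}
  {chart : ∀ (U : Y.Opens) (hU : IsAffineOpen U),
    (((p ⁻¹ᵁ U : P.Opens) : Scheme.{u}) ≅ Proj (𝒮.deg U hU))}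
  {O1 : P.Modules}
  {lam : ∀ (U : Y.Opens) (hU : IsAffineOpen U),
    O1 ⟶ (Scheme.Modules.pushforward (emb p chart U hU)).obj (GrTwist.twist (𝒮.deg U hU) 1)}
  (hO1 : IsRelTwist 𝒮 p chart 1 O1 lam)

include hj hO1 in
/-- **the canonical map `p^* E ⟶ O_{P(E)}(1)` is an epimorphism** -/
theorem epi_adjoint_canonical (φ : E ⟶ (Scheme.Modules.pushforward p).obj O1)
    (hφ : ∀ (U : Y.Opens) (hU : IsAffineOpen U) (e : Γ(E, U))
      (y : ↥(emb p chart U hU ⁻¹ᵁ (p ⁻¹ᵁ U))),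
      GrTwist.val (V := emb p chart U hU ⁻¹ᵁ (p ⁻¹ᵁ U))
          ((lam U hU).app (p ⁻¹ᵁ U) ((φ.app U) e)) y =
        algebraMap (𝒮.presheaf.obj (op U)) (GrTwist.Loc (𝒮.deg U hU) y.1)
          ((j.app U) e : 𝒮.presheaf.obj (op U))) :
    Epi (((Scheme.Modules.pullbackPushforwardAdjunction p).homEquiv E O1).symm φ) := by
  haveI := TRR.isQuasicoherent_of_isRelTwist hO1
  apply PBIso.epi_adjoint_of_generators
  intro x
  obtain ⟨_, ⟨U, hU : IsAffineOpen U, rfl⟩, hxU, -⟩ :=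
    Y.isBasis_affineOpens.exists_subset_of_mem_open (Set.mem_univ (p x)) isOpen_univ
  have hxU' : x ∈ p ⁻¹ᵁ U := hxU
  set y : Proj (𝒮.deg U hU) := (chart U hU).hom ⟨x, hxU'⟩ with hy_def
  have hyx : (emb p chart U hU) y = x := emb_chart_hom p chart U hU x hxU'
  obtain ⟨m, hmy⟩ : ∃ m : Γ(E, U), jR (A := 𝒮.toQCAlg) j U m ∉ y.asHomogeneousIdeal := by
    by_contra hcon
    push Not at hcon
    apply y.not_irrelevant_le
    intro b hb
    have h1 : Ideal.span (Set.range (jR (A := 𝒮.toQCAlg) j U)) ≤ y.asHomogeneousIdeal.toIdeal := by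
      rw [Ideal.span_le]
      rintro _ ⟨m, rfl⟩
      exact hcon m
    exact h1 (irrelevant_le_span_range_j hj U hU hb)
  set g : 𝒮.presheaf.obj (op U) := jR (A := 𝒮.toQCAlg) j U m with hg_def
  have hg : g ∈ 𝒮.deg U hU 1 := hj.2 U hU m
  set D : (Proj (𝒮.deg U hU)).Opens := Proj.basicOpen (𝒮.deg U hU) g with hD
  set V : P.Opens := (emb p chart U hU) ''ᵁ D with hV_def
  have hV : IsAffineOpen V :=
    (Proj.isAffineOpen_basicOpen (𝒮.deg U hU) g hg Nat.one_pos).image_of_isOpenImmersion _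
  have hVU : V ≤ p ⁻¹ᵁ U := by
    rintro _ ⟨z, -, rfl⟩
    exact emb_mem p chart U hU z
  have hpre : emb p chart U hU ⁻¹ᵁ V = D := Scheme.Hom.preimage_image_eq _ _
  have h1mem : (1 : 𝒮.presheaf.obj (op U)) ∈ 𝒮.deg U hU 0 := SetLike.GradedOne.one_mem
  have hij : ((1 : ℕ) : ℤ) = ((0 : ℕ) : ℤ) + 1 := by norm_num
  have hWa : ∀ z : ProjectiveSpectrum.top (𝒮.deg U hU), z ∈ emb p chart U hU ⁻¹ᵁ V →
      g ∉ z.asHomogeneousIdeal := by
    intro z hz
    rw [hpre] at hz
    exact hz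
  have hWb : ∀ z : ProjectiveSpectrum.top (𝒮.deg U hU), z ∈ emb p chart U hU ⁻¹ᵁ V →
      (1 : 𝒮.presheaf.obj (op U)) ∉ z.asHomogeneousIdeal := by
    intro z _ h1
    exact z.isPrime.ne_top ((Ideal.eq_top_iff_one _).2 h1)
  refine ⟨U, V, hVU, hV, ⟨y, hmy, hyx⟩, m, ?_⟩
  refine (smul_bijective_of_fracSect hO1 U hU V hVU g hg 1 h1mem hij hWa hWb _ ?_).2
  rw [Groth.Agent.Helper4.StalkExact.app_res]
  apply GT.sect_ext
  rintro ⟨z, hz⟩
  rw [GT.val_fracSect]
  have hz' : z ∈ emb p chart U hU ⁻¹ᵁ (p ⁻¹ᵁ U) := hVU hz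
  refine (hφ U hU m ⟨z, hz'⟩).trans ?_
  exact (Localization.mk_one_eq_algebraMap _).symm

end Groth.Agent.Helper1.TRS
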