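import Mathlib
import Groth.Prelude.Def_RelProj3
import Groth.Agent.Helper1.RPP8
import Groth.Agent.Helper1.TR24

/-!
# The fundamental sheaf of a projective bundle pulls back to a relatively ample module along a
topological embedding
-/

set_option autoImplicit false
set_option linter.style.haveILetI false

namespace Groth.Agent.Helper1.RPP

open CategoryTheory CategoryTheory.Limits AlgebraicGeometry Opposite TopologicalSpace RelProj
open scoped HomogeneousIdeal

universe u

section general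

variable {Y P : Scheme.{u}} {𝒮 : QCGrAlg Y} {p : P ⟶ Y}
  {chart : ∀ (U : Y.Opens) (hU : IsAffineOpen U),
    (((p ⁻¹ᵁ U : P.Opens) : Scheme.{u}) ≅ Proj (𝒮.deg U hU))}
  {O1 : P.Modules}
  {lam : ∀ (U : Y.Opens) (hU : IsAffineOpen U),
    O1 ⟶ (Scheme.Modules.pushforward (emb p chart U hU)).obj (GrTwist.twist (𝒮.deg U hU) 1)}

/-- `O_P(1)` is invertible when the irrelevant ideals are generated in degree one -/
theorem isInvertible_relTwist_one
    (hirr : ∀ (U : Y.Opens) (hU : IsAffineOpen U),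
      ((𝒮.deg U hU)₊).toIdeal ≤ Ideal.span (𝒮.deg U hU 1 : Set (𝒮.presheaf.obj (op U))))
    (hO1 : IsRelTwist 𝒮 p chart 1 O1 lam) : PicF.IsInvertible O1 := by
  apply Groth.Agent.Helper4.AmpleLocal.isInvertible_of_cover
  intro x
  obtain ⟨U, hU, hx⟩ := TRR.exists_chart (chart := chart) x
  refine ⟨_, emb p chart U hU, inferInstance, hx, ?_⟩
  exact Groth.Agent.Helper4.AmpleIso.isInvertible_of_iso (TRR.twistChartIso hO1 U hU).symm
    (isInvertible_grTwist_one (𝒮.deg U hU) (hirr U hU))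

/-- over an affine open of the base, `O_P(1)` has `GenBasis` -/
theorem genBasis_relTwist_one_restrict
    (hirr : ∀ (U : Y.Opens) (hU : IsAffineOpen U),
      ((𝒮.deg U hU)₊).toIdeal ≤ Ideal.span (𝒮.deg U hU 1 : Set (𝒮.presheaf.obj (op U))))
    (hO1 : IsRelTwist 𝒮 p chart 1 O1 lam) (V : Y.Opens) (hV : IsAffineOpen V) :
    GenBasis (O1.restrict (p ⁻¹ᵁ V).ι) := by
  have h3 : GenBasis (GrTwist.twist (𝒮.deg V hV) 1) := genBasis_grTwist _ (hirr V hV)
  have h4 : GenBasis (O1.restrict (emb p chart V hV)) :=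
    h3.of_iso (TRR.twistChartIso hO1 V hV).symm
  have h5 : GenBasis ((O1.restrict (p ⁻¹ᵁ V).ι).restrict (chart V hV).inv) :=
    h4.of_iso ((Scheme.Modules.restrictFunctorComp (chart V hV).inv (p ⁻¹ᵁ V).ι).app O1)
  exact GenBasis.of_restrict_iso (chart V hV).inv h5

/-- **EGA II 4.4.4-type statement**: if `g : X ⟶ P = Proj 𝒮` is a topological embedding and `𝒮` has
irrelevant ideals generated in degree one, then `g^* O_P(1)` is ample relative to `g ≫ p`, as soon
as the latter is quasi-compact -/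
theorem isRelAmple_pullback_relTwist_one {X : Scheme.{u}}
    (hirr : ∀ (U : Y.Opens) (hU : IsAffineOpen U),
      ((𝒮.deg U hU)₊).toIdeal ≤ Ideal.span (𝒮.deg U hU 1 : Set (𝒮.presheaf.obj (op U))))
    (hO1 : IsRelTwist 𝒮 p chart 1 O1 lam) (g : X ⟶ P) [QuasiCompact (g ≫ p)]
    (hemb : Topology.IsEmbedding g.base) :
    RelAmple.IsRelAmple (g ≫ p) ((Scheme.Modules.pullback g).obj O1) := by
  have hinv := isInvertible_relTwist_one hirr hO1
  refine ⟨inferInstance, fun V => ?_⟩
  haveI : CompactSpace ((g ⁻¹ᵁ (p ⁻¹ᵁ V.1) : X.Opens) : Scheme.{u}) :=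
    isCompact_iff_compactSpace.mp
      (QuasiCompact.isCompact_preimage (f := g ≫ p) _ V.1.isOpen V.2.isCompact)
  have hemb' : Topology.IsEmbedding (g ∣_ (p ⁻¹ᵁ V.1)) := by
    rw [morphismRestrict_base]
    exact hemb.restrictPreimage _
  have h1 := isAmple_pullback_of_genBasis (g ∣_ (p ⁻¹ᵁ V.1)) hemb'
    (Groth.Agent.Helper4.QAffSec.isInvertible_restrict (p ⁻¹ᵁ V.1).ι hinv)
    (genBasis_relTwist_one_restrict hirr hO1 V.1 V.2)
  exact Groth.Agent.Helper4.AmpleIso.isAmple_of_iso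
    (Groth.Agent.Helper4.PullSec.resPullIso g (p ⁻¹ᵁ V.1) O1).symm h1

end general

section sym

variable {Y : Scheme.{u}} {E : Y.Modules} [E.IsQuasicoherent] {𝒮 : QCGrAlg Y}
  {j : E ⟶ 𝒮.toModule}

/-- the irrelevant ideals of a graded symmetric algebra are generated in degree one -/
theorem irrelevant_le_span_one_of_isGrSymAlg (hj : IsGrSymAlg E 𝒮 j) (U : Y.Opens)
    (hU : IsAffineOpen U) :
    ((𝒮.deg U hU)₊).toIdeal ≤ Ideal.span (𝒮.deg U hU 1 : Set (𝒮.presheaf.obj (op U))) := by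
  refine (SY.irrelevant_le_span_range_j hj U hU).trans (Ideal.span_mono ?_)
  rintro _ ⟨m, rfl⟩
  exact hj.2 U hU m

end sym

end Groth.Agent.Helper1.RPP
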