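import Mathlib
import Groth.Agent.Helper1.SG1
import Groth.Agent.Helper1.SY1

/-!
# Transport of a grading along a ring isomorphism; semilinear maps of symmetric algebras are graded
-/

set_option autoImplicit false

namespace Groth.Agent.Helper1.SG

open scoped DirectSum

section transport

variable {A B σ : Type*} [CommRing A] [CommRing B] [SetLike σ A] [AddSubgroupClass σ A]
  (𝒜 : ℕ → σ) (e : A ≃+* B)

/-- the transported grading, by additive subgroups -/
def mapDeg (n : ℕ) : AddSubgroup B :=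
  (AddSubgroup.ofClass (𝒜 n)).comap e.symm.toAddMonoidHom

theorem mem_mapDeg {n : ℕ} {b : B} : b ∈ mapDeg 𝒜 e n ↔ e.symm b ∈ 𝒜 n := Iff.rfl

theorem apply_mem_mapDeg {n : ℕ} {a : A} (ha : a ∈ 𝒜 n) : e a ∈ mapDeg 𝒜 e n := by
  rw [mem_mapDeg, RingEquiv.symm_apply_apply]
  exact ha

variable [GradedRing 𝒜]

instance gradedMonoid_mapDeg : SetLike.GradedMonoid (mapDeg 𝒜 e) where
  one_mem := by
    rw [mem_mapDeg, map_one]
    exact SetLike.GradedOne.one_mem
  mul_mem := by
    intro i j x y hx hy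
    rw [mem_mapDeg] at hx hy ⊢
    rw [map_mul]
    exact SetLike.GradedMul.mul_mem hx hy

/-- the piecewise maps -/
def pieceHom (i : ℕ) : 𝒜 i →+ mapDeg 𝒜 e i where
  toFun a := ⟨e a, apply_mem_mapDeg 𝒜 e a.2⟩
  map_zero' := Subtype.ext (by simp)
  map_add' a b := Subtype.ext (by simp)

/-- the decomposition map of the transported grading -/
def decomposeHom : B →+ ⨁ i, mapDeg 𝒜 e i :=
  (DirectSum.map (pieceHom 𝒜 e)).comp
    ((DirectSum.decomposeAddEquiv 𝒜).toAddMonoidHom.comp e.symm.toAddMonoidHom)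

theorem coe_map_pieceHom (x : ⨁ i, 𝒜 i) :
    DirectSum.coeAddMonoidHom (mapDeg 𝒜 e) (DirectSum.map (pieceHom 𝒜 e) x) =
      e (DirectSum.coeAddMonoidHom 𝒜 x) := by
  induction x using DirectSum.induction_on with
  | zero => simp
  | of i a =>
    rw [DirectSum.map_of, DirectSum.coeAddMonoidHom_of, DirectSum.coeAddMonoidHom_of]
    rfl
  | add x y hx hy => rw [map_add, map_add, hx, hy, map_add, map_add]

instance decomposition_mapDeg : DirectSum.Decomposition (mapDeg 𝒜 e) :=
  DirectSum.Decomposition.ofAddHom (mapDeg 𝒜 e) (decomposeHom 𝒜 e)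
    (by
      ext b
      change DirectSum.coeAddMonoidHom (mapDeg 𝒜 e) (DirectSum.map (pieceHom 𝒜 e)
        (DirectSum.decompose 𝒜 (e.symm b))) = b
      rw [coe_map_pieceHom]
      have : DirectSum.coeAddMonoidHom 𝒜 (DirectSum.decompose 𝒜 (e.symm b)) = e.symm b :=
        (DirectSum.decompose 𝒜).left_inv (e.symm b)
      rw [this, RingEquiv.apply_symm_apply])
    (by
      refine DirectSum.addHom_ext fun i y => ?_
      obtain ⟨y, hy⟩ := y
      change DirectSum.map (pieceHom 𝒜 e) (DirectSum.decompose 𝒜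
        (e.symm (DirectSum.coeAddMonoidHom (mapDeg 𝒜 e) (DirectSum.of _ i ⟨y, hy⟩)))) =
          DirectSum.of _ i ⟨y, hy⟩
      rw [DirectSum.coeAddMonoidHom_of]
      have hy' : e.symm y ∈ 𝒜 i := hy
      rw [DirectSum.decompose_of_mem 𝒜 hy', DirectSum.map_of]
      congr 1
      exact Subtype.ext (e.apply_symm_apply y))

instance gradedRing_mapDeg : GradedRing (mapDeg 𝒜 e) where

end transport

end Groth.Agent.Helper1.SG
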