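import Mathlib
import Groth.Agent.Helper1.SG2

/-!
# Semilinear maps of symmetric algebras are graded
-/

set_option autoImplicit false

namespace Groth.Agent.Helper1.SG

open Groth.Agent.Helper1.SY

variable {R R' : Type*} {M M' : Type*} [CommRing R] [CommRing R'] [AddCommGroup M] [Module R M]
  [AddCommGroup M'] [Module R' M']

theorem symMap_mem_symPow (ρ : R →+* R') (r : M →+ M')
    (hr : ∀ (a : R) (m : M), r (a • m) = ρ a • r m) {n : ℕ} {x : SymmetricAlgebra R M}
    (hx : x ∈ symPow R M n) : symMap ρ r hr x ∈ symPow R' M' n := by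
  unfold symPow at hx
  induction hx using Submodule.pow_induction_on_left' with
  | algebraMap c =>
    rw [symMap_algebraMap]
    exact algebraMap_mem_symPow_zero R' M' (ρ c)
  | add x y i hx hy ihx ihy =>
    rw [map_add]
    exact add_mem ihx ihy
  | mem_mul m hm i x hx ih =>
    obtain ⟨m, rfl⟩ := hm
    rw [map_mul, symMap_ι]
    have h1 := ι_mem_symPow_one R' M' (r m)
    have h2 := SetLike.GradedMul.mul_mem (A := symPow R' M') h1 ih
    rwa [add_comm] at h2

end Groth.Agent.Helper1.SG
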