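import Mathlib
import Groth.Prelude.Def_RelProj2
import Groth.Agent.Helper1.SG3
import Groth.Agent.Helper1.SY12

/-!
# The graded symmetric algebra of a quasi-coherent module

Any symmetric algebra `(A, j)` of a quasi-coherent module `E` (in the sense of `RelSpec.IsSymAlg`)
carries a grading making it a `RelProj.QCGrAlg` with `j` in degree one (`RelProj.IsGrSymAlg`).
-/

set_option autoImplicit false
set_option linter.style.haveILetI false

namespace Groth.Agent.Helper1.SG

open CategoryTheory Limits AlgebraicGeometry TopologicalSpace Opposite RelSpec RelProj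
  Groth.Agent.Helper1.SY

universe u

noncomputable section

variable {S : Scheme.{u}} {E : S.Modules} [E.IsQuasicoherent] {A : QCAlg S} {j : E ⟶ A.toModule}
  (hA : IsSymAlg E A j)

/-- the section isomorphism `Sym(E(U)) ≃ A(U)` over an affine open -/
def secEquiv' (U : S.Opens) (hU : IsAffineOpen U) :
    SymmetricAlgebra Γ(S, U) Γ(E, U) ≃+* A.presheaf.obj (op U) :=
  RingEquiv.ofBijective (symLift A j U) (symLift_bijective hA U hU)

theorem secEquiv'_apply (U : S.Opens) (hU : IsAffineOpen U) (x : SymmetricAlgebra Γ(S, U) Γ(E, U)) :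
    secEquiv' hA U hU x = symLift A j U x := rfl

/-- the degree-`n` part of `A(U)` -/
def symDeg (U : S.Opens) (hU : IsAffineOpen U) (n : ℕ) : AddSubgroup (A.presheaf.obj (op U)) :=
  mapDeg (symPow Γ(S, U) Γ(E, U)) (secEquiv' hA U hU) n

theorem symLift_mem_symDeg (U : S.Opens) (hU : IsAffineOpen U) {n : ℕ}
    {x : SymmetricAlgebra Γ(S, U) Γ(E, U)} (hx : x ∈ symPow Γ(S, U) Γ(E, U) n) :
    symLift A j U x ∈ symDeg hA U hU n :=
  apply_mem_mapDeg (symPow Γ(S, U) Γ(E, U)) (secEquiv' hA U hU) hx

theorem exists_of_mem_symDeg (U : S.Opens) (hU : IsAffineOpen U) {n : ℕ}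
    {y : A.presheaf.obj (op U)} (hy : y ∈ symDeg hA U hU n) :
    ∃ x ∈ symPow Γ(S, U) Γ(E, U) n, symLift A j U x = y :=
  ⟨(secEquiv' hA U hU).symm y, hy, (secEquiv' hA U hU).apply_symm_apply y⟩

/-- the graded symmetric algebra -/
def grAlg : QCGrAlg S where
  toQCAlg := A
  deg U hU n := symDeg hA U hU n
  graded U hU := gradedRing_mapDeg (symPow Γ(S, U) Γ(E, U)) (secEquiv' hA U hU)
  map_mem := by
    intro U V hU hV i d x hx
    obtain ⟨a, ha, rfl⟩ := exists_of_mem_symDeg hA U hU hx
    rw [symLift_res]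
    exact symLift_mem_symDeg hA V hV (symMap_mem_symPow _ _ _ ha)
  str_mem := by
    intro U hU r
    rw [← symLift_algebraMap A j U r]
    exact symLift_mem_symDeg hA U hU (algebraMap_mem_symPow_zero _ _ r)

theorem isGrSymAlg_grAlg : IsGrSymAlg E (grAlg hA) j := by
  refine ⟨hA, fun U hU x => ?_⟩
  change (j.app U) x ∈ symDeg hA U hU 1
  rw [← symLift_ι A j U x]
  exact symLift_mem_symDeg hA U hU (ι_mem_symPow_one _ _ x)

end

end Groth.Agent.Helper1.SG
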