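import Mathlib
import Groth.Prelude.Def_RelProj3
import Groth.Agent.Helper1.TR24
import Groth.Agent.Helper1.PL2

/-!
# For an invertible module `L`, the canonical map `p^* L ⟶ O_{P(L)}(1)` is an isomorphism
-/

set_option autoImplicit false
set_option linter.style.haveILetI false

namespace Groth.Agent.Helper1.SG

open CategoryTheory CategoryTheory.Limits AlgebraicGeometry TopologicalSpace Opposite RelProj
open Groth.Agent.Helper1.RP Groth.Agent.Helper1.SY Groth.Agent.Helper1.TRS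
open scoped HomogeneousIdeal

universe u

variable {Y P : Scheme.{u}} {E : Y.Modules} [E.IsQuasicoherent] {𝒮 : QCGrAlg Y}
  {j : E ⟶ 𝒮.toModule} (hj : IsGrSymAlg E 𝒮 j) {p : P ⟶ Y}
  {chart : ∀ (U : Y.Opens) (hU : IsAffineOpen U),
    (((p ⁻¹ᵁ U : P.Opens) : Scheme.{u}) ≅ Proj (𝒮.deg U hU))}
  {O1 : P.Modules}
  {lam : ∀ (U : Y.Opens) (hU : IsAffineOpen U),
    O1 ⟶ (Scheme.Modules.pushforward (emb p chart U hU)).obj (GrTwist.twist (𝒮.deg U hU) 1)}
  (hO1 : IsRelTwist 𝒮 p chart 1 O1 lam)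

include hj hO1 in
/-- **for `E` invertible the canonical map `p^* E ⟶ O_{P(E)}(1)` is an isomorphism** -/
theorem isIso_adjoint_canonical (hE : PicF.IsInvertible E)
    (φ : E ⟶ (Scheme.Modules.pushforward p).obj O1)
    (hφ : ∀ (U : Y.Opens) (hU : IsAffineOpen U) (e : Γ(E, U))
      (y : ↥(emb p chart U hU ⁻¹ᵁ (p ⁻¹ᵁ U))),
      GrTwist.val (V := emb p chart U hU ⁻¹ᵁ (p ⁻¹ᵁ U))
          ((lam U hU).app (p ⁻¹ᵁ U) ((φ.app U) e)) y =
        algebraMap (𝒮.presheaf.obj (op U)) (GrTwist.Loc (𝒮.deg U hU) y.1)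
          ((j.app U) e : 𝒮.presheaf.obj (op U))) :
    IsIso (((Scheme.Modules.pullbackPushforwardAdjunction p).homEquiv E O1).symm φ) := by
  haveI := TRR.isQuasicoherent_of_isRelTwist hO1
  apply PBIso.isIso_adjoint_of_generators
  intro x
  obtain ⟨U, hU, m, hxU, hm⟩ := Groth.Agent.Helper1.PL.exists_affine_generator E hE (p x)
  have hxU' : x ∈ p ⁻¹ᵁ U := hxU
  set y : Proj (𝒮.deg U hU) := (chart U hU).hom ⟨x, hxU'⟩ with hy_def
  have hyx : (emb p chart U hU) y = x := emb_chart_hom p chart U hU x hxU'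
  have hmy : jR (A := 𝒮.toQCAlg) j U m ∉ y.asHomogeneousIdeal := by
    intro hcon
    apply y.not_irrelevant_le
    intro b hb
    have h1 : Ideal.span (Set.range (jR (A := 𝒮.toQCAlg) j U)) ≤ y.asHomogeneousIdeal.toIdeal := by
      rw [Ideal.span_le]
      rintro _ ⟨m', rfl⟩
      obtain ⟨c, rfl⟩ := hm.2 m'
      change jR (A := 𝒮.toQCAlg) j U (c • m) ∈ y.asHomogeneousIdeal.toIdeal
      rw [jR_smul]
      exact Ideal.mul_mem_left _ _ hcon
    exact h1 (irrelevant_le_span_range_j hj U hU hb)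
  set g : 𝒮.presheaf.obj (op U) := jR (A := 𝒮.toQCAlg) j U m with hg_def
  have hg : g ∈ 𝒮.deg U hU 1 := hj.2 U hU m
  set D : (Proj (𝒮.deg U hU)).Opens := Proj.basicOpen (𝒮.deg U hU) g with hD
  set V : P.Opens := (emb p chart U hU) ''ᵁ D with hV_def
  have hV : IsAffineOpen V :=
    (Proj.isAffineOpen_basicOpen (𝒮.deg U hU) g hg Nat.one_pos).image_of_isOpenImmersion _
  have hVU : V ≤ p ⁻¹ᵁ U := by
    rintro _ ⟨z, -, rfl⟩
    exact emb_mem p chart U hU z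
  have hpre : emb p chart U hU ⁻¹ᵁ V = D := Scheme.Hom.preimage_image_eq _ _
  have h1mem : (1 : 𝒮.presheaf.obj (op U)) ∈ 𝒮.deg U hU 0 := SetLike.GradedOne.one_mem
  have hij : ((1 : ℕ) : ℤ) = ((0 : ℕ) : ℤ) + 1 := by norm_num
  have hWa : ∀ z : ProjectiveSpectrum.top (𝒮.deg U hU), z ∈ emb p chart U hU ⁻¹ᵁ V →
      g ∉ z.asHomogeneousIdeal := by
    intro z hz
    rw [hpre] at hz
    exact hz
  have hWb : ∀ z : ProjectiveSpectrum.top (𝒮.deg U hU), z ∈ emb p chart U hU ⁻¹ᵁ V →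
      (1 : 𝒮.presheaf.obj (op U)) ∉ z.asHomogeneousIdeal := by
    intro z _ h1
    exact z.isPrime.ne_top ((Ideal.eq_top_iff_one _).2 h1)
  refine ⟨U, V, hVU, hU, hV, ⟨y, hmy, hyx⟩, m, hm, ?_⟩
  refine smul_bijective_of_fracSect hO1 U hU V hVU g hg 1 h1mem hij hWa hWb _ ?_
  rw [Groth.Agent.Helper4.StalkExact.app_res]
  apply GT.sect_ext
  rintro ⟨z, hz⟩
  rw [GT.val_fracSect]
  have hz' : z ∈ emb p chart U hU ⁻¹ᵁ (p ⁻¹ᵁ U) := hVU hz
  refine (hφ U hU m ⟨z, hz'⟩).trans ?_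
  exact (Localization.mk_one_eq_algebraMap _).symm

end Groth.Agent.Helper1.SG
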