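import Mathlib

/-!
# The subsheaf of a product of `O`-modules cut out by a local linear condition

Given `O_X`-modules `Q i` and a condition `C V σ` on families `σ i ∈ Γ(Q i, V)` which is linear,
stable under restriction and local, there is an `O_X`-module `L` with morphisms `π i : L ⟶ Q i`
whose sections over `V` are exactly the families satisfying `C V`.
-/

set_option autoImplicit false
set_option linter.style.haveILetI false

namespace Groth.Agent.Helper1.SubProd

open CategoryTheory AlgebraicGeometry TopologicalSpace Opposite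

universe u

variable {X : Scheme.{u}} {ι : Type u} (Q : ι → X.Modules)

/-- a local linear condition on families of sections -/
structure LocalCond where
  /-- the condition -/
  C : ∀ V : X.Opens, (∀ i, Γ(Q i, V)) → Prop
  zero : ∀ V, C V 0
  add : ∀ V σ σ', C V σ → C V σ' → C V (σ + σ')
  smul : ∀ V (r : Γ(X, V)) σ, C V σ → C V (r • σ)
  res : ∀ {V V' : X.Opens} (f : V' ⟶ V) σ, C V σ →
    C V' (fun i => (Q i).presheaf.map f.op (σ i))
  loc : ∀ (V : X.Opens) (σ : ∀ i, Γ(Q i, V)),
    (∀ x ∈ V, ∃ (V' : X.Opens) (f : V' ⟶ V), x ∈ V' ∧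
      C V' (fun i => (Q i).presheaf.map f.op (σ i))) → C V σ

variable {Q} (c : LocalCond Q)

/-- the submodule of families satisfying the condition -/
def sub (V : X.Opens) : Submodule Γ(X, V) (∀ i, Γ(Q i, V)) where
  carrier := {σ | c.C V σ}
  add_mem' := fun {σ σ'} h h' => c.add V σ σ' h h'
  zero_mem' := c.zero V
  smul_mem' := fun r σ h => c.smul V r σ h

/-- the restriction maps -/
noncomputable def resMap {V V' : X.Opens} (f : V' ⟶ V) : sub c V →+ sub c V' where
  toFun σ := ⟨fun i => (Q i).presheaf.map f.op (σ.1 i), c.res f σ.1 σ.2⟩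
  map_zero' := by
    apply Subtype.ext
    funext i
    exact map_zero ((Q i).presheaf.map f.op).hom
  map_add' σ σ' := by
    apply Subtype.ext
    funext i
    exact map_add ((Q i).presheaf.map f.op).hom (σ.1 i) (σ'.1 i)

/-- the underlying presheaf of abelian groups -/
noncomputable def ab : (Opens X)ᵒᵖ ⥤ Ab.{u} where
  obj V := AddCommGrpCat.of (sub c V.unop)
  map f := AddCommGrpCat.ofHom (resMap c f.unop)
  map_id V := by
    apply AddCommGrpCat.hom_ext
    apply AddMonoidHom.ext
    intro σ
    apply Subtype.ext
    funext i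
    show (Q i).presheaf.map (𝟙 V) (σ.1 i) = σ.1 i
    rw [(Q i).presheaf.map_id]
    rfl
  map_comp f g := by
    apply AddCommGrpCat.hom_ext
    apply AddMonoidHom.ext
    intro σ
    apply Subtype.ext
    funext i
    show (Q i).presheaf.map (f ≫ g) (σ.1 i) =
      (Q i).presheaf.map g ((Q i).presheaf.map f (σ.1 i))
    rw [(Q i).presheaf.map_comp]
    rfl

noncomputable instance (V : (Opens X)ᵒᵖ) :
    Module ((X.ringCatSheaf.obj).obj V) ((ab c).obj V) :=
  inferInstanceAs (Module Γ(X, V.unop) (sub c V.unop))

/-- the presheaf of modules -/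
noncomputable def pmod : PresheafOfModules.{u} X.ringCatSheaf.obj :=
  PresheafOfModules.ofPresheaf (ab c) (fun V V' f r m => by
    apply Subtype.ext
    funext i
    exact Scheme.Modules.map_smul (Q i) f.unop r (m.1 i))


lemma isSheaf_ab : TopCat.Presheaf.IsSheaf (ab c) := by
  rw [TopCat.Presheaf.isSheaf_iff_isSheafUniqueGluing]
  intro κ U sf hsf
  -- componentwise gluing
  have hcomp : ∀ i, TopCat.Presheaf.IsCompatible (Q i).presheaf U
      (fun k => (show sub c (U k) from sf k).1 i) := by
    intro i k k'
    have := hsf k k'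
    exact congrArg (fun σ : sub c (U k ⊓ U k') => σ.1 i) this
  choose s hs hs' using fun i => TopCat.Sheaf.existsUnique_gluing
    (⟨(Q i).presheaf, (Q i).isSheaf⟩ : TopCat.Sheaf Ab X) U
    (fun k => (show sub c (U k) from sf k).1 i) (hcomp i)
  have hC : c.C (iSup U) s := by
    apply c.loc
    intro x hx
    obtain ⟨k, hk⟩ := Opens.mem_iSup.1 hx
    refine ⟨U k, Opens.leSupr U k, hk, ?_⟩
    have : (fun i => (Q i).presheaf.map (Opens.leSupr U k).op (s i)) =
        (show sub c (U k) from sf k).1 := by
      funext i
      exact hs i k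
    rw [this]
    exact (show sub c (U k) from sf k).2
  refine ⟨(⟨s, hC⟩ : sub c (iSup U)), ?_, ?_⟩
  · intro k
    apply Subtype.ext
    funext i
    exact hs i k
  · intro t ht
    apply Subtype.ext
    funext i
    apply hs' i
    intro k
    exact congrArg (fun σ : sub c (U k) => σ.1 i) (ht k)

/-- the sheaf of modules -/
noncomputable def L : X.Modules where
  val := pmod c
  isSheaf := isSheaf_ab c

/-- the projections -/
noncomputable def π (i : ι) : L c ⟶ Q i :=
  ⟨PresheafOfModules.homMk (M₁ := pmod c) (M₂ := (Q i).val)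
    { app := fun V => AddCommGrpCat.ofHom
        { toFun := fun σ => (show sub c V.unop from σ).1 i
          map_zero' := rfl
          map_add' := fun _ _ => rfl }
      naturality := fun _ _ _ => rfl }
    (fun _ _ _ => rfl)⟩


lemma π_app (i : ι) (V : X.Opens) (s : Γ(L c, V)) :
    (π c i).app V s = (show sub c V from s).1 i := rfl

/-- sections are determined by their components -/
lemma ext (V : X.Opens) (s s' : Γ(L c, V)) (h : ∀ i, (π c i).app V s = (π c i).app V s') :
    s = s' := by
  have : (show sub c V from s) = (show sub c V from s') := Subtype.ext (funext h)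
  exact this

/-- the components of a section satisfy the condition -/
lemma cond (V : X.Opens) (s : Γ(L c, V)) : c.C V (fun i => (π c i).app V s) :=
  (show sub c V from s).2

/-- every family satisfying the condition is the family of components of a section -/
lemma exists_section (V : X.Opens) (σ : ∀ i, Γ(Q i, V)) (hσ : c.C V σ) :
    ∃ s : Γ(L c, V), ∀ i, (π c i).app V s = σ i :=
  ⟨(show Γ(L c, V) from (⟨σ, hσ⟩ : sub c V)), fun _ => rfl⟩

/-- **the subsheaf of a product cut out by a local linear condition** -/
theorem exists_subProd (c : LocalCond Q) : ∃ (L : X.Modules) (π : ∀ i, L ⟶ Q i),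
    (∀ (V : X.Opens) (s s' : Γ(L, V)), (∀ i, (π i).app V s = (π i).app V s') → s = s') ∧
    (∀ (V : X.Opens) (s : Γ(L, V)), c.C V (fun i => (π i).app V s)) ∧
    (∀ (V : X.Opens) (σ : ∀ i, Γ(Q i, V)), c.C V σ → ∃ s : Γ(L, V), ∀ i, (π i).app V s = σ i) :=
  ⟨L c, π c, ext c, cond c, exists_section c⟩

end Groth.Agent.Helper1.SubProd
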