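import Groth.Agent.Helper4.TensorInv
import Groth.Prelude.Def_Pic
import Mathlib

/-!
# Invertibility of a restriction from local trivializations inside the open
-/

set_option autoImplicit false
universe u
open CategoryTheory AlgebraicGeometry TopologicalSpace Opposite

namespace Groth.Agent.Helper1.InvRestrict

open Groth.Agent.Helper4.TensorInv

variable {X : Scheme.{u}}

/-- a module which is trivial on opens covering `U` restricts to an invertible module on `U` -/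
theorem isInvertible_restrict_of_cover (L : X.Modules) (U : X.Opens)
    (h : ∀ x ∈ U, ∃ W : X.Opens, W ≤ U ∧ x ∈ W ∧
      Nonempty (L.restrict W.ι ≅ Coh.structureModule (W : Scheme.{u}))) :
    PicF.IsInvertible (L.restrict U.ι) := by
  intro y
  obtain ⟨W, hWU, hyW, hW⟩ := h y.1 y.2
  refine ⟨U.ι ⁻¹ᵁ W, hyW, ?_⟩
  have hrange : Set.range ((U.ι ⁻¹ᵁ W).ι ≫ U.ι) ⊆ Set.range W.ι := by
    rintro _ ⟨z, rfl⟩
    rw [Scheme.Opens.range_ι]
    exact z.2
  let k : ((U.ι ⁻¹ᵁ W : (U : Scheme.{u}).Opens) : Scheme.{u}) ⟶ (W : Scheme.{u}) :=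
    IsOpenImmersion.lift W.ι ((U.ι ⁻¹ᵁ W).ι ≫ U.ι) hrange
  have hk : k ≫ W.ι = (U.ι ⁻¹ᵁ W).ι ≫ U.ι := IsOpenImmersion.lift_fac _ _ _
  haveI : IsOpenImmersion (k ≫ W.ι) := by rw [hk]; infer_instance
  haveI : IsOpenImmersion k := IsOpenImmersion.of_comp k W.ι
  have h1 : IsTrivAlong L (k ≫ W.ι) := IsTrivAlong.comp W.ι hW k
  obtain ⟨i⟩ := h1.congr hk
  exact ⟨((Scheme.Modules.restrictFunctorComp (U.ι ⁻¹ᵁ W).ι U.ι).app L).symm ≪≫ i⟩

end Groth.Agent.Helper1.InvRestrict
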