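import Mathlib
import Groth.Prelude.Def_RelProj3
import Groth.Agent.Helper1.TR6
import Groth.Agent.Helper1.InvRestrict
import Groth.Agent.Helper1.GM1
import Groth.Agent.Helper4.AmpleLocal

/-!
# Local triviality of the twisting sheaves on `D₊(f)`; the period of a quasi-compact open
-/

set_option autoImplicit false
set_option linter.style.haveILetI false

namespace Groth.Agent.Helper1.TRT

open CategoryTheory CategoryTheory.Limits AlgebraicGeometry TopologicalSpace Opposite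
open Groth.Agent.Helper1.TRZ Groth.Agent.Helper4.TensorInv
open scoped HomogeneousIdeal

universe u

attribute [local instance] ULift.algebra'

/-- triviality along a composite, from an identification of the restriction -/
theorem isTrivAlong_of_restrictIso {X Y Z : Scheme.{u}} {L : X.Modules} {j : Y ⟶ X}
    [IsOpenImmersion j] {G : Y.Modules} (e : L.restrict j ≅ G) (k : Z ⟶ Y) [IsOpenImmersion k]
    (h : IsTrivAlong G k) : IsTrivAlong L (k ≫ j) := by
  obtain ⟨i⟩ := h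
  exact ⟨(Scheme.Modules.restrictFunctorComp k j).app L ≪≫
    (Scheme.Modules.restrictFunctor k).mapIso e ≪≫ i⟩

variable {A σ : Type u} [CommRing A] [SetLike σ A] [AddSubgroupClass σ A] (𝒜 : ℕ → σ) [GradedRing 𝒜]

/-- `O(kd)` is trivial along `D₊(f) ⟶ Proj`, `f` of degree `d` (gradings by additive subgroups;
the source `D₊(f)` is taken in the `ℤ`-ified Proj) -/
theorem isTrivAlong_twist {d : ℕ} (f : A) (hf : f ∈ 𝒜 d) (k : ℤ) :
    IsTrivAlong (GrTwist.twist 𝒜 (k * d)) ((Proj.basicOpen (zGr 𝒜) f).ι ≫ eZ 𝒜) := by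
  obtain ⟨P⟩ := Groth.Agent.Helper1.TwistMul.nonempty_invPair_of_le_basicOpen (zGr 𝒜)
    (Proj.basicOpen (zGr 𝒜) f) f hf le_rfl k
  obtain ⟨e⟩ := P.nonempty_iso_twist
  exact ⟨(Scheme.Modules.restrictFunctorComp (Proj.basicOpen (zGr 𝒜) f).ι (eZ 𝒜)).app _ ≪≫
    (Scheme.Modules.restrictFunctor (Proj.basicOpen (zGr 𝒜) f).ι).mapIso
      (twistRestrictIso 𝒜 (k * d)) ≪≫ e⟩

end Groth.Agent.Helper1.TRT

namespace Groth.Agent.Helper1.TRR

open CategoryTheory CategoryTheory.Limits AlgebraicGeometry TopologicalSpace Opposite RelProj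
open Groth.Agent.Helper1.TRZ Groth.Agent.Helper4.TensorInv
open scoped HomogeneousIdeal

universe u

attribute [local instance] ULift.algebra'

variable {Y P : Scheme.{u}} {𝒮 : QCGrAlg Y} {p : P ⟶ Y}
  {chart : ∀ (U : Y.Opens) (hU : IsAffineOpen U),
    (((p ⁻¹ᵁ U : P.Opens) : Scheme.{u}) ≅ Proj (𝒮.deg U hU))}

variable (p chart) in
/-- the open immersion `D₊(f) ⟶ P` over an affine open of the base -/
noncomputable def jf (U : Y.Opens) (hU : IsAffineOpen U) (f : 𝒮.presheaf.obj (op U)) :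
    ((Proj.basicOpen (zGr (𝒮.deg U hU)) f : (Proj (zGr (𝒮.deg U hU))).Opens) : Scheme.{u}) ⟶ P :=
  ((Proj.basicOpen (zGr (𝒮.deg U hU)) f).ι ≫ TRT.eZ (𝒮.deg U hU)) ≫ emb p chart U hU

instance (U : Y.Opens) (hU : IsAffineOpen U) (f : 𝒮.presheaf.obj (op U)) :
    IsOpenImmersion (jf p chart U hU f) := by
  unfold jf; infer_instance

/-- the relative twisting sheaf `O_P(kd)` is trivial along `D₊(f) ⟶ P`, `f` of degree `d` -/
theorem isTrivAlong_of_isRelTwist {n : ℤ} {L : P.Modules}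
    {lam : ∀ (U : Y.Opens) (hU : IsAffineOpen U),
      L ⟶ (Scheme.Modules.pushforward (emb p chart U hU)).obj (GrTwist.twist (𝒮.deg U hU) n)}
    (hL : IsRelTwist 𝒮 p chart n L lam) (U : Y.Opens) (hU : IsAffineOpen U) {d : ℕ}
    (f : 𝒮.presheaf.obj (op U)) (hf : f ∈ 𝒮.deg U hU d) (k : ℤ) (hn : n = k * d) :
    IsTrivAlong L (jf p chart U hU f) := by
  subst hn
  exact TRT.isTrivAlong_of_restrictIso (twistChartIso hL U hU) _
    (TRT.isTrivAlong_twist (𝒮.deg U hU) f hf k)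

/-- every point of a relative Proj lies in the image of some `D₊(f) ⟶ P`, `f` homogeneous of
positive degree -/
theorem exists_jf (x : P) : ∃ (U : Y.Opens) (hU : IsAffineOpen U) (d : ℕ)
    (f : 𝒮.presheaf.obj (op U)), 0 < d ∧ f ∈ 𝒮.deg U hU d ∧ x ∈ (jf p chart U hU f).opensRange := by
  obtain ⟨U, hU, y, rfl⟩ := exists_chart (chart := chart) x
  obtain ⟨z, rfl⟩ := TRT.range_eZ (𝒮.deg U hU) y
  obtain ⟨d, f, hd, hf, hfz⟩ := GM.exists_pos_deg_notMem (𝒜 := zGr (𝒮.deg U hU))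
    (show ProjectiveSpectrum (zGr (𝒮.deg U hU)) from z)
  refine ⟨U, hU, d, f, hd, hf, ⟨⟨z, hfz⟩, rfl⟩⟩

/-- **the period of a quasi-compact open of a relative Proj** -/
theorem exists_period (U : P.Opens) (hU : IsCompact (U : Set P)) :
    ∃ d : ℕ, 0 < d ∧ ∀ (n : ℤ), (d : ℤ) ∣ n →
      ∀ (L : P.Modules)
        (lam : ∀ (V : Y.Opens) (hV : IsAffineOpen V),
          L ⟶ (Scheme.Modules.pushforward (emb p chart V hV)).obj (GrTwist.twist (𝒮.deg V hV) n)),
        IsRelTwist 𝒮 p chart n L lam → PicF.IsInvertible (L.restrict U.ι) := by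
  classical
  choose V hV d f hd hf hx using fun x : P => exists_jf (p := p) (chart := chart) x
  obtain ⟨t, ht⟩ := hU.elim_finite_subcover
    (fun x : P => ((jf p chart (V x) (hV x) (f x)).opensRange : Set P))
    (fun x => (jf p chart (V x) (hV x) (f x)).opensRange.isOpen)
    (fun x _ => Set.mem_iUnion.2 ⟨x, hx x⟩)
  refine ⟨∏ x ∈ t, d x, Finset.prod_pos fun x _ => hd x, ?_⟩
  intro n hn L lam hL
  apply Groth.Agent.Helper1.InvRestrict.isInvertible_restrict_of_cover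
  intro x hxU
  obtain ⟨y, hy⟩ := Set.mem_iUnion.1 (ht hxU)
  obtain ⟨hyt, hxy⟩ := Set.mem_iUnion.1 hy
  have hdvd : (d y : ℤ) ∣ n := by
    refine Dvd.dvd.trans ?_ hn
    exact_mod_cast Finset.dvd_prod_of_mem d hyt
  obtain ⟨k, hk⟩ := hdvd
  have h1 : IsTrivAlong L (jf p chart (V y) (hV y) (f y)) :=
    isTrivAlong_of_isRelTwist hL (V y) (hV y) (f y) (hf y) k (by rw [hk, mul_comm])
  have h2 := Groth.Agent.Helper4.AmpleLocal.IsTrivAlong.opensRange' _ h1
  refine ⟨(jf p chart (V y) (hV y) (f y)).opensRange ⊓ U, inf_le_right, ⟨hxy, hxU⟩, ?_⟩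
  exact IsTrivAlong.of_le inf_le_left h2

end Groth.Agent.Helper1.TRR
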