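import Mathlib
import Groth.Agent.Helper4.TensorAssoc

/-!
# Sections of `A ⊗ B` over an open where `B` is trivial with a given generator
-/

set_option autoImplicit false
set_option linter.style.haveILetI false

namespace Groth.Agent.Helper1.TensGen

open CategoryTheory CategoryTheory.Limits AlgebraicGeometry TopologicalSpace Opposite
open Groth.Agent.Helper4.TensorLift Groth.Agent.Helper4.TensorAssoc

universe u

variable {X : Scheme.{u}} (A B : X.Modules) (U : X.Opens)
  (ε : B.restrict U.ι ≅ Coh.structureModule (U : Scheme.{u}))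

include ε in
/-- over an open inside a trivializing open of `B`, every section of `A ⊗ B` is a pure tensor with
a given generator of `B` -/
theorem exists_tmul_gen {W : X.Opens} (hW : W ≤ U) (t' : Γ(B, W))
    (ht' : Function.Surjective (fun c : Γ(X, W) => c • t'))
    (x : Γ(CohB1.tensorMod A B, W)) : ∃ a : Γ(A, W), x = SecTwist.tmul A B W a t' := by
  obtain ⟨x₀, rfl⟩ := (tt_bijective_of_le A B U ε hW).2 x
  induction x₀ using TensorProduct.induction_on with
  | zero =>
    refine ⟨0, ?_⟩
    refine (tt_zero A B W).trans ?_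
    rw [tmul_eq']
    have : pure A B W 0 t' = 0 :=
      TensorProduct.zero_tmul (R := RR X W) (SS A W) (N := SS B W) t'
    rw [this]
    exact (tt_zero A B W).symm
  | tmul a b =>
    obtain ⟨c, hc⟩ := ht' b
    refine ⟨c • (show Γ(A, W) from a), ?_⟩
    have h1 : tt A B W (a ⊗ₜ b) = SecTwist.tmul A B W a b := rfl
    rw [h1, tmul_smul_left, ← tmul_smul_right]
    exact congrArg (SecTwist.tmul A B W a) hc.symm
  | add x y hx hy =>
    obtain ⟨a, ha⟩ := hx
    obtain ⟨a', ha'⟩ := hy
    refine ⟨a + a', ?_⟩
    refine (tt_add A B W x y).trans ?_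
    rw [ha, ha', tmul_add_left]
    rfl

end Groth.Agent.Helper1.TensGen
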