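import Mathlib
import Groth.Prelude.Def_RelProj3
import Groth.Agent.Helper1.TR25
import Groth.Agent.Helper1.TR23
import Groth.Agent.Helper1.TR15
import Groth.Agent.Helper1.TR6
import Groth.Agent.Helper1.TensGen
import Groth.Agent.Helper1.BasisIso
import Groth.Agent.Helper4.AmpleLocal

/-!
# `O_P(m) ⊗ O_P(n) ≅ O_P(m + n)` on a relative Proj, where `O_P(n)` is locally generated by a
power of a homogeneous element
-/

set_option autoImplicit false
set_option linter.style.haveILetI false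

namespace Groth.Agent.Helper1.GT

open CategoryTheory AlgebraicGeometry TopologicalSpace Opposite
open scoped HomogeneousIdeal

universe u

variable {A σ : Type u} [CommRing A] [SetLike σ A] [AddSubgroupClass σ A] {𝒜 : ℕ → σ} [GradedRing 𝒜]

/-- the product of two sections, with a prescribed target degree -/
noncomputable def mulSect' (m n k : ℤ) (hk : k = m + n) (W : (Proj 𝒜).Opens)
    (s : Γ(GrTwist.twist 𝒜 m, W)) (s' : Γ(GrTwist.twist 𝒜 n, W)) : Γ(GrTwist.twist 𝒜 k, W) := by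
  subst hk
  exact mulSect m n W s s'

lemma val_mulSect' (m n k : ℤ) (hk : k = m + n) (W : (Proj 𝒜).Opens)
    (s : Γ(GrTwist.twist 𝒜 m, W)) (s' : Γ(GrTwist.twist 𝒜 n, W)) (z : W) :
    GrTwist.val (mulSect' m n k hk W s s') z = GrTwist.val s z * GrTwist.val s' z := by
  subst hk
  rfl

lemma pow_mem_mul {d : ℕ} {f : A} (hf : f ∈ 𝒜 d) (k : ℕ) : f ^ k ∈ 𝒜 (k * d) := by
  have := SetLike.pow_mem_graded k hf
  simpa [smul_eq_mul] using this

lemma mk_mul_mk_swap (x : ProjectiveSpectrum 𝒜) (a b : A) (ha : a ∉ x.asHomogeneousIdeal)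
    (hb : b ∉ x.asHomogeneousIdeal) :
    (Localization.mk a ⟨b, hb⟩ : GrTwist.Loc 𝒜 x) * Localization.mk b ⟨a, ha⟩ = 1 := by
  rw [Localization.mk_mul]
  have h : (⟨b, hb⟩ : x.asHomogeneousIdeal.toIdeal.primeCompl) * ⟨a, ha⟩ =
      ⟨a * b, fun h => (x.isPrime.mem_or_mem h).elim ha hb⟩ := Subtype.ext (mul_comm b a)
  rw [h]
  exact Localization.mk_self (⟨a * b, _⟩ : x.asHomogeneousIdeal.toIdeal.primeCompl)

end Groth.Agent.Helper1.GT

namespace Groth.Agent.Helper1.TRM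

open CategoryTheory CategoryTheory.Limits AlgebraicGeometry TopologicalSpace Opposite RelProj
open Groth.Agent.Helper1.RP Groth.Agent.Helper4.TensorInv
open scoped HomogeneousIdeal

universe u

variable {Y P : Scheme.{u}} {𝒮 : QCGrAlg Y} {p : P ⟶ Y}
  {chart : ∀ (U : Y.Opens) (hU : IsAffineOpen U),
    (((p ⁻¹ᵁ U : P.Opens) : Scheme.{u}) ≅ Proj (𝒮.deg U hU))}

/-- opens inside the image of `D₊(f)` -/
lemma of_le_opensRange_jf (U : Y.Opens) (hU : IsAffineOpen U) (f : 𝒮.presheaf.obj (op U))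
    (W : P.Opens) (hW : W ≤ (TRR.jf p chart U hU f).opensRange) :
    W ≤ p ⁻¹ᵁ U ∧ ∀ z : ProjectiveSpectrum.top (𝒮.deg U hU),
      z ∈ emb p chart U hU ⁻¹ᵁ W → f ∉ z.asHomogeneousIdeal := by
  constructor
  · intro x hx
    obtain ⟨w, rfl⟩ := hW hx
    exact emb_mem p chart U hU _
  · intro z hz
    obtain ⟨w, hw⟩ := hW hz
    have h1 : (emb p chart U hU).base ((TRT.eZ (𝒮.deg U hU)).base w.1) =
        (emb p chart U hU).base z := hw
    have h2 : (TRT.eZ (𝒮.deg U hU)).base w.1 = z :=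
      (emb p chart U hU).isOpenEmbedding.injective h1
    rw [← h2]
    exact w.2

lemma mem_opensRange_jf (U : Y.Opens) (hU : IsAffineOpen U) (f : 𝒮.presheaf.obj (op U))
    (y : Proj (𝒮.deg U hU)) (hy : f ∉ y.asHomogeneousIdeal) :
    (emb p chart U hU).base y ∈ (TRR.jf p chart U hU f).opensRange := by
  obtain ⟨z, rfl⟩ := TRT.range_eZ (𝒮.deg U hU) y
  exact ⟨⟨z, hy⟩, rfl⟩

variable {m n : ℤ} {L L' L'' : P.Modules}
  {lam : ∀ (U : Y.Opens) (hU : IsAffineOpen U),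
    L ⟶ (Scheme.Modules.pushforward (emb p chart U hU)).obj (GrTwist.twist (𝒮.deg U hU) m)}
  {lam' : ∀ (U : Y.Opens) (hU : IsAffineOpen U),
    L' ⟶ (Scheme.Modules.pushforward (emb p chart U hU)).obj (GrTwist.twist (𝒮.deg U hU) n)}
  {lam'' : ∀ (U : Y.Opens) (hU : IsAffineOpen U),
    L'' ⟶ (Scheme.Modules.pushforward (emb p chart U hU)).obj
      (GrTwist.twist (𝒮.deg U hU) (m + n))}
  (hP : IsRelProj 𝒮 p chart) (hL : IsRelTwist 𝒮 p chart m L lam)
  (hL' : IsRelTwist 𝒮 p chart n L' lam') (hL'' : IsRelTwist 𝒮 p chart (m + n) L'' lam'')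

/-- **the multiplication map is bijective on the small opens where `O(n)` is generated by a power
of a homogeneous element** -/
theorem mulHom_app_bijective (U : Y.Opens) (hU : IsAffineOpen U) {d : ℕ}
    (f : 𝒮.presheaf.obj (op U)) (hf : f ∈ 𝒮.deg U hU d) (k : ℤ) (hn : n = k * d) (W : P.Opens)
    (hW : W ≤ (TRR.jf p chart U hU f).opensRange) :
    Function.Bijective ((mulHom hP hL hL' hL'').app W) := by
  obtain ⟨hWU, hWf⟩ := of_le_opensRange_jf U hU f W hW
  obtain ⟨ε'⟩ := Groth.Agent.Helper4.AmpleLocal.IsTrivAlong.opensRange' _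
    (TRR.isTrivAlong_of_isRelTwist hL' U hU f hf k hn)
  have ha : f ^ k.toNat ∈ 𝒮.deg U hU (k.toNat * d) := GT.pow_mem_mul hf _
  have hb : f ^ (-k).toNat ∈ 𝒮.deg U hU ((-k).toNat * d) := GT.pow_mem_mul hf _
  have hij : ((k.toNat * d : ℕ) : ℤ) = ((-k).toNat * d : ℕ) + n := by
    have h1 : (k.toNat : ℤ) = ((-k).toNat : ℤ) + k := by omega
    rw [hn]
    push_cast
    rw [h1]
    ring
  have hij' : (((-k).toNat * d : ℕ) : ℤ) = (k.toNat * d : ℕ) + (-n) := by
    rw [hij]; ring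
  have hWp : ∀ (j : ℕ) (z : ProjectiveSpectrum.top (𝒮.deg U hU)),
      z ∈ emb p chart U hU ⁻¹ᵁ W → f ^ j ∉ z.asHomogeneousIdeal :=
    fun j z hz hmem => hWf z hz (z.isPrime.mem_of_pow_mem _ hmem)
  obtain ⟨t', ht'⟩ := (hL'.bijective U hU W hWU).2
    (GT.fracSect n _ ha _ hb hij (emb p chart U hU ⁻¹ᵁ W) (hWp _))
  have hgen' := TRS.smul_bijective_of_fracSect hL' U hU W hWU _ ha _ hb hij (hWp _) (hWp _) t' ht'
  have hrd' : ∀ (y : ProjectiveSpectrum (𝒮.deg U hU)) (hy : (emb p chart U hU).base y ∈ W),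
      GrTwist.val (rd lam' U hU W t') ⟨y, hy⟩ =
        Localization.mk (f ^ k.toNat) ⟨f ^ (-k).toNat, hWp _ y hy⟩ := by
    intro y hy
    unfold rd
    rw [ht']
    rfl
  constructor
  · intro x x' hxx'
    obtain ⟨s, rfl⟩ := TensGen.exists_tmul_gen L L' _ ε' hW t' hgen'.2 x
    obtain ⟨s₁, rfl⟩ := TensGen.exists_tmul_gen L L' _ ε' hW t' hgen'.2 x'
    rw [mulHom_tmul, mulHom_tmul] at hxx'
    have hss : s = s₁ := by
      apply (hL.bijective U hU W hWU).1
      apply GT.sect_ext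
      rintro ⟨y, hy⟩
      have h1 := rd_mul hP hL hL' hL'' W s t' U hU y hy
      have h2 := rd_mul hP hL hL' hL'' W s₁ t' U hU y hy
      rw [hxx'] at h1
      have h3 : GrTwist.val (rd lam U hU W s) ⟨y, hy⟩ *
            GrTwist.val (rd lam' U hU W t') ⟨y, hy⟩ =
          GrTwist.val (rd lam U hU W s₁) ⟨y, hy⟩ * GrTwist.val (rd lam' U hU W t') ⟨y, hy⟩ :=
        h1.symm.trans h2
      rw [hrd' y hy] at h3
      have h4 := congrArg (· * (Localization.mk (f ^ (-k).toNat) ⟨f ^ k.toNat, hWp _ y hy⟩ :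
        GrTwist.Loc (𝒮.deg U hU) y)) h3
      simp only [mul_assoc] at h4
      rw [GT.mk_mul_mk_swap y _ _ (hWp _ y hy) (hWp _ y hy), mul_one, mul_one] at h4
      exact h4
    rw [hss]
  · intro s''
    obtain ⟨s, hs⟩ := (hL.bijective U hU W hWU).2
      (GT.mulSect' (m + n) (-n) m (by ring) _ (rd lam'' U hU W s'')
        (GT.fracSect (-n) _ hb _ ha hij' (emb p chart U hU ⁻¹ᵁ W) (hWp _)))
    refine ⟨SecTwist.tmul L L' W s t', ?_⟩
    rw [mulHom_tmul]
    apply (hL''.bijective U hU W hWU).1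
    apply GT.sect_ext
    rintro ⟨y, hy⟩
    refine (rd_mul hP hL hL' hL'' W s t' U hU y hy).trans ?_
    have hs' : rd lam U hU W s = _ := hs
    rw [hs', GT.val_mulSect', hrd' y hy, GT.val_fracSect, mul_assoc,
      mul_comm (Localization.mk (f ^ (-k).toNat) _), GT.mk_mul_mk_swap y _ _ (hWp _ y hy) (hWp _ y hy),
      mul_one]
    rfl

end Groth.Agent.Helper1.TRM

namespace Groth.Agent.Helper1.TRM

open CategoryTheory CategoryTheory.Limits AlgebraicGeometry TopologicalSpace Opposite RelProj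
open Groth.Agent.Helper1.RP
open scoped HomogeneousIdeal

universe u

variable {Y P : Scheme.{u}} {𝒮 : QCGrAlg Y} {p : P ⟶ Y}
  {chart : ∀ (U : Y.Opens) (hU : IsAffineOpen U),
    (((p ⁻¹ᵁ U : P.Opens) : Scheme.{u}) ≅ Proj (𝒮.deg U hU))}
  {m n : ℤ} {L L' L'' : P.Modules}
  {lam : ∀ (U : Y.Opens) (hU : IsAffineOpen U),
    L ⟶ (Scheme.Modules.pushforward (emb p chart U hU)).obj (GrTwist.twist (𝒮.deg U hU) m)}
  {lam' : ∀ (U : Y.Opens) (hU : IsAffineOpen U),
    L' ⟶ (Scheme.Modules.pushforward (emb p chart U hU)).obj (GrTwist.twist (𝒮.deg U hU) n)}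
  {lam'' : ∀ (U : Y.Opens) (hU : IsAffineOpen U),
    L'' ⟶ (Scheme.Modules.pushforward (emb p chart U hU)).obj
      (GrTwist.twist (𝒮.deg U hU) (m + n))}
  (hP : IsRelProj 𝒮 p chart) (hL : IsRelTwist 𝒮 p chart m L lam)
  (hL' : IsRelTwist 𝒮 p chart n L' lam') (hL'' : IsRelTwist 𝒮 p chart (m + n) L'' lam'')

/-- every point of a relative Proj of an algebra generated in degree one lies in the image of
some `D₊(f)`, `f` of degree one -/
lemma exists_jf_one (hgen : 𝒮.IsGenDegOne) (x : P) :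
    ∃ (U : Y.Opens) (hU : IsAffineOpen U) (f : 𝒮.presheaf.obj (op U)), f ∈ 𝒮.deg U hU 1 ∧
      x ∈ (TRR.jf p chart U hU f).opensRange := by
  obtain ⟨_, ⟨U, hU : IsAffineOpen U, rfl⟩, hxU, -⟩ :=
    Y.isBasis_affineOpens.exists_subset_of_mem_open (Set.mem_univ (p x)) isOpen_univ
  have hxU' : x ∈ p ⁻¹ᵁ U := hxU
  set y : Proj (𝒮.deg U hU) := (chart U hU).hom ⟨x, hxU'⟩ with hy_def
  have hyx : (emb p chart U hU) y = x := emb_chart_hom p chart U hU x hxU'
  obtain ⟨f, hf, hfy⟩ : ∃ f ∈ 𝒮.deg U hU 1, f ∉ y.asHomogeneousIdeal := by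
    by_contra hcon
    push Not at hcon
    apply y.not_irrelevant_le
    intro b hb
    have hle : Ideal.span (𝒮.deg U hU 1 : Set (𝒮.presheaf.obj (op U))) ≤
        y.asHomogeneousIdeal.toIdeal := by
      rw [Ideal.span_le]
      intro a ha
      exact hcon a ha
    exact hle (RP.irrelevant_le_span_one (hgen U hU) hb)
  refine ⟨U, hU, f, hf, ?_⟩
  rw [← hyx]
  exact mem_opensRange_jf U hU f y hfy

include hP hL hL' hL'' in
/-- **`O_P(m) ⊗ O_P(n) ≅ O_P(m + n)`** for an algebra generated in degree one -/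
theorem isIso_mulHom (hgen : 𝒮.IsGenDegOne) : IsIso (mulHom hP hL hL' hL'') := by
  apply BasisIso.isIso_of_bijective_on_basis _
    {W : P.Opens | ∃ (U : Y.Opens) (hU : IsAffineOpen U) (f : 𝒮.presheaf.obj (op U)),
      f ∈ 𝒮.deg U hU 1 ∧ W ≤ (TRR.jf p chart U hU f).opensRange}
  · intro V x hx
    obtain ⟨U, hU, f, hf, hxf⟩ := exists_jf_one (p := p) (chart := chart) hgen x
    exact ⟨V ⊓ (TRR.jf p chart U hU f).opensRange, ⟨U, hU, f, hf, inf_le_right⟩, ⟨hx, hxf⟩,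
      inf_le_left⟩
  · rintro W ⟨U, hU, f, hf, hW⟩
    exact mulHom_app_bijective hP hL hL' hL'' U hU f hf n (by simp) W hW

end Groth.Agent.Helper1.TRM
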