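import Mathlib
import Groth.Prelude.Def_RelProj3
import Groth.Agent.Helper1.TR26
import Groth.Agent.Helper1.TR11

/-!
# The structure sheaf of a relative Proj is its twisting sheaf of degree zero
-/

set_option autoImplicit false
set_option linter.style.haveILetI false

namespace Groth.Agent.Helper1.GT

open CategoryTheory AlgebraicGeometry TopologicalSpace Opposite
open scoped HomogeneousIdeal

universe u

variable {A σ : Type u} [CommRing A] [SetLike σ A] [AddSubgroupClass σ A] {𝒜 : ℕ → σ} [GradedRing 𝒜]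
variable {B τ : Type u} [CommRing B] [SetLike τ B] [AddSubgroupClass τ B] {ℬ : ℕ → τ} [GradedRing ℬ]

/-- the values of the image of a function under the sheaf component of `Proj.map` -/
lemma val_map_app (ψ : 𝒜 →+*ᵍ ℬ) (hψ : ℬ₊ ≤ (𝒜₊).map ψ) (V : (Proj 𝒜).Opens) (c : Γ(Proj 𝒜, V))
    (y : (Proj.map ψ hψ ⁻¹ᵁ V : (Proj ℬ).Opens)) :
    ((show GrTwist.O (𝒜 := ℬ) (op (Proj.map ψ hψ ⁻¹ᵁ V)) from (Proj.map ψ hψ).app V c).1 y).val =
      GrTwist.locMap ψ hψ y.1
        (((show GrTwist.O (𝒜 := 𝒜) (op V) from c).1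
          ⟨ProjectiveSpectrum.comap ψ hψ y.1, y.2⟩).val) := by
  have h : (show GrTwist.O (𝒜 := ℬ) (op (Proj.map ψ hψ ⁻¹ᵁ V)) from (Proj.map ψ hψ).app V c).1 y =
      HomogeneousLocalization.localRingHom ψ _ _ rfl
        ((show GrTwist.O (𝒜 := 𝒜) (op V) from c).1 ⟨ProjectiveSpectrum.comap ψ hψ y.1, y.2⟩) := rfl
  rw [h, HomogeneousLocalization.val_localRingHom]
  rfl

lemma one_notMem (z : ProjectiveSpectrum 𝒜) : (1 : A) ∉ z.asHomogeneousIdeal := fun h =>
  z.isPrime.ne_top ((Ideal.eq_top_iff_one _).2 h)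

/-- the section `1` of `O(0)` -/
noncomputable def oneSect (W : (Proj 𝒜).Opens) : Γ(GrTwist.twist 𝒜 0, W) :=
  fracSect 0 (1 : A) SetLike.GradedOne.one_mem (1 : A) SetLike.GradedOne.one_mem (by norm_num) W
    (fun z _ => one_notMem z)

lemma val_oneSect (W : (Proj 𝒜).Opens) (z : W) : GrTwist.val (oneSect (𝒜 := 𝒜) W) z = 1 := by
  unfold oneSect
  rw [val_fracSect]
  exact Localization.mk_self (⟨1, one_notMem z.1⟩ : z.1.asHomogeneousIdeal.toIdeal.primeCompl)

lemma smul_oneSect_bijective (W : (Proj 𝒜).Opens) :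
    Function.Bijective (fun c : Γ(Proj 𝒜, W) => c • oneSect (𝒜 := 𝒜) W) :=
  smul_fracSect_bijective 0 (1 : A) SetLike.GradedOne.one_mem (1 : A) SetLike.GradedOne.one_mem
    (by norm_num) W (fun z _ => one_notMem z) (fun z _ => one_notMem z)

end Groth.Agent.Helper1.GT

namespace Groth.Agent.Helper1.TRM

open CategoryTheory CategoryTheory.Limits AlgebraicGeometry TopologicalSpace Opposite RelProj
open Groth.Agent.Helper1.RP
open scoped HomogeneousIdeal

universe u

variable {Y P : Scheme.{u}} {𝒮 : QCGrAlg Y} (p : P ⟶ Y)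
  (chart : ∀ (U : Y.Opens) (hU : IsAffineOpen U),
    (((p ⁻¹ᵁ U : P.Opens) : Scheme.{u}) ≅ Proj (𝒮.deg U hU)))

/-- the chart identifications of the structure sheaf with `O(0)` -/
noncomputable def lamZero (U : Y.Opens) (hU : IsAffineOpen U) :
    Coh.structureModule P ⟶ (Scheme.Modules.pushforward (emb p chart U hU)).obj
      (GrTwist.twist (𝒮.deg U hU) 0) :=
  (SheafOfModules.unitHomEquiv _).symm
    (PresheafOfModules.sectionsMk
      (M := ((Scheme.Modules.pushforward (emb p chart U hU)).obj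
        (GrTwist.twist (𝒮.deg U hU) 0)).val)
      (fun V => (show ((Scheme.Modules.pushforward (emb p chart U hU)).obj
          (GrTwist.twist (𝒮.deg U hU) 0)).val.obj V from
        GT.oneSect (𝒜 := 𝒮.deg U hU) (emb p chart U hU ⁻¹ᵁ V.unop)))
      (by intro V W f; rfl))

lemma rd_lamZero (U : Y.Opens) (hU : IsAffineOpen U) (V : P.Opens) (c : Γ(P, V)) :
    rd (lamZero p chart) U hU V (show Γ(Coh.structureModule P, V) from c) =
      ((emb p chart U hU).app V c) • GT.oneSect (𝒜 := 𝒮.deg U hU) (emb p chart U hU ⁻¹ᵁ V) :=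
  rfl

lemma val_rd_lamZero (U : Y.Opens) (hU : IsAffineOpen U) (V : P.Opens) (c : Γ(P, V))
    (y : ProjectiveSpectrum (𝒮.deg U hU)) (hy : (emb p chart U hU).base y ∈ V) :
    GrTwist.val (rd (lamZero p chart) U hU V (show Γ(Coh.structureModule P, V) from c)) ⟨y, hy⟩ =
      ((show GrTwist.O (𝒜 := 𝒮.deg U hU) (op (emb p chart U hU ⁻¹ᵁ V)) from
        (emb p chart U hU).app V c).1 ⟨y, hy⟩).val := by
  rw [rd_lamZero, TRS.val_smul, GT.val_oneSect, mul_one]
  rfl

end Groth.Agent.Helper1.TRM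

namespace Groth.Agent.Helper1.TRM

open CategoryTheory CategoryTheory.Limits AlgebraicGeometry TopologicalSpace Opposite RelProj
open Groth.Agent.Helper1.RP
open scoped HomogeneousIdeal

universe u

variable {Y P : Scheme.{u}} {𝒮 : QCGrAlg Y} {p : P ⟶ Y}
  {chart : ∀ (U : Y.Opens) (hU : IsAffineOpen U),
    (((p ⁻¹ᵁ U : P.Opens) : Scheme.{u}) ≅ Proj (𝒮.deg U hU))}

/-- **the structure sheaf of a relative Proj, with the canonical chart identifications, is its
twisting sheaf of degree zero** -/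
theorem isRelTwist_zero (hP : IsRelProj 𝒮 p chart) :
    IsRelTwist 𝒮 p chart 0 (Coh.structureModule P) (lamZero p chart) where
  bijective U hU W hW := by
    haveI : IsIso ((emb p chart U hU).app W) :=
      Scheme.Hom.isIso_app (emb p chart U hU) _ (by rw [opensRange_emb]; exact hW)
    have h4 : Function.Bijective ((emb p chart U hU).app W) :=
      ConcreteCategory.bijective_of_isIso _
    have h3 := GT.smul_oneSect_bijective (𝒜 := 𝒮.deg U hU) (emb p chart U hU ⁻¹ᵁ W)
    exact h3.comp h4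
  compat U hU r W s y hy hy' := by
    have key : ∀ (g : Proj (𝒮.deg (Y.basicOpen r) (hU.basicOpen r)) ⟶ P)
        (_ : Proj.map (𝒮.res hU (hU.basicOpen r) (Y.basicOpen_le r))
          (𝒮.irrelevant_le_map U hU r) ≫ emb p chart U hU = g) (hyg : g.base y ∈ W),
        ((show GrTwist.O (𝒜 := 𝒮.deg (Y.basicOpen r) (hU.basicOpen r)) (op (g ⁻¹ᵁ W)) from
          g.app W s).1 ⟨y, hyg⟩).val =
        GrTwist.locMap (𝒮.res hU (hU.basicOpen r) (Y.basicOpen_le r))
          (𝒮.irrelevant_le_map U hU r) y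
          (((show GrTwist.O (𝒜 := 𝒮.deg U hU) (op (emb p chart U hU ⁻¹ᵁ W)) from
            (emb p chart U hU).app W s).1 ⟨_, hy'⟩).val) := by
      rintro g rfl hyg
      exact GT.val_map_app (𝒮.res hU (hU.basicOpen r) (Y.basicOpen_le r))
        (𝒮.irrelevant_le_map U hU r) (emb p chart U hU ⁻¹ᵁ W) ((emb p chart U hU).app W s)
        ⟨y, hyg⟩
    have h1 := key _ (map_res_emb hP U hU r) hy
    refine (val_rd_lamZero p chart _ (hU.basicOpen r) W s y hy).trans ?_
    refine h1.trans ?_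
    congr 1
    exact (val_rd_lamZero p chart U hU W s _ hy').symm

end Groth.Agent.Helper1.TRM
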