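import Mathlib
import Groth.Prelude.Def_GrTwist
import Groth.Agent.Helper1.RP7
import Groth.Agent.Helper1.GT1

/-!
# Twisting sheaves along a localization at a degree zero element: injectivity of the maps of
localizations and descent of sections
-/

set_option autoImplicit false
set_option linter.style.haveILetI false

namespace Groth.Agent.Helper1.GTD

open CategoryTheory AlgebraicGeometry TopologicalSpace Opposite
open Groth.Agent.Helper1.RP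
open scoped HomogeneousIdeal

universe u

variable {A B σ τ : Type u} [CommRing A] [SetLike σ A] [AddSubgroupClass σ A]
  [CommRing B] [SetLike τ B] [AddSubgroupClass τ B]
  {𝒜 : ℕ → σ} {ℬ : ℕ → τ} [GradedRing 𝒜] [GradedRing ℬ]
  {ψ : 𝒜 →+*ᵍ ℬ} {c : A} (h : IsLocAway ψ c) (hirr : ℬ₊ ≤ 𝒜₊.map ψ)

include h in
lemma psi_c_pow_notMem (z : ProjectiveSpectrum ℬ) (k : ℕ) :
    ψ c ^ k ∉ z.asHomogeneousIdeal := fun hm =>
  z.isPrime.ne_top (Ideal.eq_top_of_isUnit_mem _ hm (h.unit.pow k))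

include h in
lemma mul_psi_c_pow_notMem (z : ProjectiveSpectrum ℬ) (k : ℕ) {b : B}
    (hb : b ∉ z.asHomogeneousIdeal) : b * ψ c ^ k ∉ z.asHomogeneousIdeal := fun hm =>
  (z.isPrime.mem_or_mem hm).elim hb (psi_c_pow_notMem h z k)

include h in
/-- the map on homogeneous spectra is injective -/
lemma comap_injective : Function.Injective (ProjectiveSpectrum.comap ψ hirr) := by
  intro z z' hzz
  have key : ∀ (w w' : ProjectiveSpectrum ℬ),
      ProjectiveSpectrum.comap ψ hirr w = ProjectiveSpectrum.comap ψ hirr w' → ∀ b : B,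
      b ∈ w.asHomogeneousIdeal.toIdeal → b ∈ w'.asHomogeneousIdeal.toIdeal := by
    intro w w' hw b hb
    obtain ⟨a, k, hak⟩ := h.surj b
    have ha : a ∈ (ProjectiveSpectrum.comap ψ hirr w).asHomogeneousIdeal.toIdeal := by
      show ψ a ∈ w.asHomogeneousIdeal.toIdeal
      rw [← hak]; exact Ideal.mul_mem_right _ _ hb
    rw [hw] at ha
    have ha' : ψ a ∈ w'.asHomogeneousIdeal.toIdeal := ha
    rw [← hak] at ha'
    exact (w'.isPrime.mem_or_mem ha').resolve_right (psi_c_pow_notMem h w' k)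
  apply ProjectiveSpectrum.ext
  apply HomogeneousIdeal.ext
  ext b
  exact ⟨key z z' hzz b, key z' z hzz.symm b⟩

include h in
/-- equality of fractions downstairs comes from an equation upstairs -/
lemma exists_mul_eq_of_mk_eq (z : ProjectiveSpectrum ℬ) (a a' s s' : A)
    (hs : ψ s ∉ z.asHomogeneousIdeal) (hs' : ψ s' ∉ z.asHomogeneousIdeal)
    (heq : (Localization.mk (ψ a) ⟨ψ s, hs⟩ : GrTwist.Loc ℬ z) =
      Localization.mk (ψ a') ⟨ψ s', hs'⟩) :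
    ∃ t : A, ψ t ∉ z.asHomogeneousIdeal ∧ t * (s' * a) = t * (s * a') := by
  rw [Localization.mk_eq_mk_iff, Localization.r_iff_exists] at heq
  obtain ⟨u, hu⟩ := heq
  obtain ⟨t₀, k, ht₀⟩ := h.surj (u : B)
  have h0 : ψ (t₀ * (s' * a - s * a')) = 0 := by
    rw [map_mul, ← ht₀, map_sub, map_mul, map_mul]
    have hu' : (u : B) * (ψ s' * ψ a) = (u : B) * (ψ s * ψ a') := hu
    calc (u : B) * ψ c ^ k * (ψ s' * ψ a - ψ s * ψ a')
        = ψ c ^ k * ((u : B) * (ψ s' * ψ a) - (u : B) * (ψ s * ψ a')) := by ring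
      _ = 0 := by rw [hu', sub_self, mul_zero]
  obtain ⟨m, hm⟩ := h.ker _ h0
  refine ⟨c ^ m * t₀, ?_, ?_⟩
  · rw [map_mul, ← ht₀, map_pow]
    intro hmem
    rcases z.isPrime.mem_or_mem hmem with h1 | h1
    · exact psi_c_pow_notMem h z m h1
    · exact mul_psi_c_pow_notMem h z k u.2 h1
  · have : c ^ m * t₀ * (s' * a) - c ^ m * t₀ * (s * a') = 0 := by
      rw [← hm]; ring
    exact sub_eq_zero.1 this

include h in
/-- the homomorphisms of localizations are injective -/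
lemma locMap_injective (z : ProjectiveSpectrum ℬ) :
    Function.Injective (GrTwist.locMap ψ hirr z) := by
  intro q q' hqq
  induction q using Localization.induction_on with
  | H p =>
    induction q' using Localization.induction_on with
    | H p' =>
      obtain ⟨a, s⟩ := p
      obtain ⟨a', s'⟩ := p'
      rw [GrTwist.locMap_mk, GrTwist.locMap_mk] at hqq
      obtain ⟨t, ht, hteq⟩ := exists_mul_eq_of_mk_eq h z a a' s s' s.2 s'.2 hqq
      rw [Localization.mk_eq_mk_iff, Localization.r_iff_exists]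
      exact ⟨⟨t, ht⟩, hteq⟩


include h in
lemma pow_mul_mem (hc : c ∈ 𝒜 0) (l : ℕ) {i : ℕ} {a : A} (ha : a ∈ 𝒜 i) : c ^ l * a ∈ 𝒜 i := by
  have h0 : c ^ l ∈ 𝒜 0 := by simpa using SetLike.pow_mem_graded l hc
  simpa using SetLike.mul_mem_graded h0 ha

include h in
/-- the local data of the descended section -/
lemma exists_data (hc : c ∈ 𝒜 0) (n : ℤ) (V : (Proj 𝒜).Opens) (V'' : (Proj ℬ).Opens)
    (hsurj : ∀ x : ProjectiveSpectrum.top 𝒜, x ∈ V →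
      ∃ z : ProjectiveSpectrum.top ℬ, z ∈ V'' ∧ ProjectiveSpectrum.comap ψ hirr z = x)
    (τ'' : Γ(GrTwist.twist ℬ n, V'')) (x : V) :
    ∃ (i j : ℕ) (a₁ b₁ : A), a₁ ∈ 𝒜 i ∧ b₁ ∈ 𝒜 j ∧ ((i : ℤ) = j + n ∨ a₁ = 0) ∧
      b₁ ∉ x.1.asHomogeneousIdeal ∧
      ∀ (z : ProjectiveSpectrum.top ℬ), z ∈ V'' → ProjectiveSpectrum.comap ψ hirr z = x.1 →
        ∃ N'' : (Proj ℬ).Opens, z ∈ N'' ∧ ∀ (w : ProjectiveSpectrum.top ℬ), w ∈ N'' →
          ∃ (hwV : w ∈ V'') (hb : ψ b₁ ∉ w.asHomogeneousIdeal),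
            GrTwist.val τ'' ⟨w, hwV⟩ = Localization.mk (ψ a₁) ⟨ψ b₁, hb⟩ := by
  obtain ⟨z₀, hz₀, hz₀x⟩ := hsurj x.1 x.2
  obtain ⟨N, hzN, iN, i, j, a', b', nin, hij, hfrac⟩ :=
    (τ'' : GrTwist.sectN (𝒜 := ℬ) n (op V'')).2 ⟨z₀, hz₀⟩
  replace hij : (i : ℤ) = j + n ∨ (a' : B) = 0 := hij
  obtain ⟨a, ha, k, hak⟩ := h.surj_homog hc a'.2
  obtain ⟨b, hb, l, hbl⟩ := h.surj_homog hc b'.2
  have hb₁ : ∀ w : ProjectiveSpectrum.top ℬ, w ∈ N → ψ (c ^ k * b) ∉ w.asHomogeneousIdeal := by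
    intro w hw hmem
    rw [map_mul, map_pow, ← hbl] at hmem
    rcases w.isPrime.mem_or_mem hmem with h1 | h1
    · exact psi_c_pow_notMem h w k h1
    · exact mul_psi_c_pow_notMem h w l (nin ⟨w, hw⟩) h1
  have hb₁x : c ^ k * b ∉ x.1.asHomogeneousIdeal := by
    intro hmem
    rw [← hz₀x] at hmem
    exact hb₁ z₀ hzN hmem
  rcases hij with hij | ha0
  · refine ⟨i, j, c ^ l * a, c ^ k * b, pow_mul_mem h hc l ha, pow_mul_mem h hc k hb, Or.inl hij,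
      hb₁x, ?_⟩
    intro z hz hzx
    obtain rfl : z = z₀ := comap_injective h hirr (hzx.trans hz₀x.symm)
    refine ⟨N, hzN, fun w hw => ⟨(leOfHom iN) hw, hb₁ w hw, ?_⟩⟩
    refine (hfrac ⟨w, hw⟩).trans ?_
    rw [Localization.mk_eq_mk_iff]
    apply Localization.r_of_eq
    show ψ (c ^ k * b) * (a' : B) = (b' : B) * ψ (c ^ l * a)
    rw [map_mul, map_mul, map_pow, map_pow, ← hak, ← hbl]
    ring
  · refine ⟨i, j, 0, c ^ k * b, zero_mem _, pow_mul_mem h hc k hb, Or.inr rfl, hb₁x, ?_⟩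
    intro z hz hzx
    obtain rfl : z = z₀ := comap_injective h hirr (hzx.trans hz₀x.symm)
    refine ⟨N, hzN, fun w hw => ⟨(leOfHom iN) hw, hb₁ w hw, ?_⟩⟩
    refine (hfrac ⟨w, hw⟩).trans ?_
    rw [ha0, map_zero, Localization.mk_zero, Localization.mk_zero]


include h in
/-- **descent of sections of the twisting sheaves along a localization at a degree zero element** -/
theorem exists_descent (hc : c ∈ 𝒜 0) (n : ℤ) (V : (Proj 𝒜).Opens) (V'' : (Proj ℬ).Opens)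
    (hV : ∀ z : ProjectiveSpectrum.top ℬ, z ∈ V'' → ProjectiveSpectrum.comap ψ hirr z ∈ V)
    (hsurj : ∀ x : ProjectiveSpectrum.top 𝒜, x ∈ V →
      ∃ z : ProjectiveSpectrum.top ℬ, z ∈ V'' ∧ ProjectiveSpectrum.comap ψ hirr z = x)
    (τ'' : Γ(GrTwist.twist ℬ n, V'')) :
    ∃ τ : Γ(GrTwist.twist 𝒜 n, V), ∀ (z : ProjectiveSpectrum.top ℬ) (hz : z ∈ V''),
      GrTwist.val τ'' ⟨z, hz⟩ = GrTwist.locMap ψ hirr z (GrTwist.val τ ⟨_, hV z hz⟩) := by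
  haveI := h.isOpenImmersion_map hc hirr
  choose i j a₁ b₁ ha₁ hb₁ hij hbx hdata using exists_data h hirr hc n V V'' hsurj τ''
  -- equality of two local descriptions at a common point
  have hcmp : ∀ (x x₀ : V) (w : ProjectiveSpectrum.top ℬ)
      (hxw : ProjectiveSpectrum.comap ψ hirr w = x.1)
      (hb : ψ (b₁ x) ∉ w.asHomogeneousIdeal) (hb₀ : ψ (b₁ x₀) ∉ w.asHomogeneousIdeal)
      (_ : (Localization.mk (ψ (a₁ x)) ⟨ψ (b₁ x), hb⟩ : GrTwist.Loc ℬ w) =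
        Localization.mk (ψ (a₁ x₀)) ⟨ψ (b₁ x₀), hb₀⟩)
      (hb₀x : b₁ x₀ ∉ x.1.asHomogeneousIdeal),
      (Localization.mk (a₁ x) ⟨b₁ x, hbx x⟩ : GrTwist.Loc 𝒜 x.1) =
        Localization.mk (a₁ x₀) ⟨b₁ x₀, hb₀x⟩ := by
    intro x x₀ w hxw hb hb₀ heq hb₀x
    obtain ⟨t, ht, hteq⟩ := exists_mul_eq_of_mk_eq h w _ _ _ _ hb hb₀ heq
    rw [Localization.mk_eq_mk_iff, Localization.r_iff_exists]
    refine ⟨⟨t, ?_⟩, hteq⟩
    intro hmem
    rw [← hxw] at hmem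
    exact ht hmem
  refine ⟨(⟨fun x => ⟨Localization.mk (a₁ x) ⟨b₁ x, hbx x⟩, ?_⟩, ?_⟩ :
    GrTwist.sectN (𝒜 := 𝒜) n (op V)), ?_⟩
  · rcases hij x with hx | hx
    · exact Submodule.subset_span ⟨i x, j x, ⟨a₁ x, ha₁ x⟩, ⟨b₁ x, hb₁ x⟩, hbx x, hx, rfl⟩
    · rw [hx, Localization.mk_zero]; exact zero_mem _
  · intro x₀
    obtain ⟨z₀, hz₀, hz₀x⟩ := hsurj x₀.1 x₀.2
    obtain ⟨N'', hzN, hN⟩ := hdata x₀ z₀ hz₀ hz₀x
    have hnin : ∀ x : ((Proj.map ψ hirr ''ᵁ N'' ⊓ V : (Proj 𝒜).Opens)),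
        b₁ x₀ ∉ x.1.asHomogeneousIdeal := by
      rintro ⟨x, ⟨w, hw, rfl⟩, hxV⟩
      obtain ⟨-, hb, -⟩ := hN w hw
      exact hb
    refine ⟨Proj.map ψ hirr ''ᵁ N'' ⊓ V, ⟨⟨z₀, hzN, hz₀x⟩, x₀.2⟩, homOfLE inf_le_right,
      i x₀, j x₀, ⟨a₁ x₀, ha₁ x₀⟩, ⟨b₁ x₀, hb₁ x₀⟩, hnin, hij x₀, ?_⟩
    rintro ⟨x, ⟨w, hw, hwx⟩, hxV⟩
    have hwx' : ProjectiveSpectrum.comap ψ hirr w = x := hwx
    obtain ⟨hwV, hb₀, hval₀⟩ := hN w hw
    obtain ⟨Nx, hwNx, hNx⟩ := hdata ⟨x, hxV⟩ w hwV hwx'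
    obtain ⟨hwV', hb, hval⟩ := hNx w hwNx
    exact hcmp ⟨x, hxV⟩ x₀ w hwx' hb hb₀ (hval.symm.trans hval₀) _
  · intro z hz
    obtain ⟨Nz, hzNz, hNz⟩ := hdata ⟨_, hV z hz⟩ z hz rfl
    obtain ⟨hwV, hb, hval⟩ := hNz z hzNz
    refine hval.trans ?_
    exact (GrTwist.locMap_mk ψ hirr z (a₁ ⟨_, hV z hz⟩)
      ⟨b₁ ⟨_, hV z hz⟩, hbx ⟨_, hV z hz⟩⟩).symm

end Groth.Agent.Helper1.GTD
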