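import Mathlib
import Groth.Prelude.Def_RelProj2
import Groth.Agent.Helper1.TR31
import Groth.Agent.Helper1.RP9
import Groth.Agent.Helper1.RP15
import Groth.Agent.Helper1.TR11

/-!
# Chart transitions of the twisting sheaves of a relative Proj along the small affine Zariski site
-/

set_option autoImplicit false
set_option linter.style.haveILetI false

namespace Groth.Agent.Helper1.TRE

open CategoryTheory CategoryTheory.Limits AlgebraicGeometry TopologicalSpace Opposite RelProj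
open Groth.Agent.Helper1.RP
open scoped HomogeneousIdeal

universe u

variable {Y : Scheme.{u}} (𝒮 : QCGrAlg Y)

/-- the restriction homomorphism of a pair of the affine site -/
noncomputable def ρ {U V : Y.AffineZariskiSite} (h : V ≤ U) :
    𝒮.deg U.1 U.2 →+*ᵍ 𝒮.deg V.1 V.2 :=
  𝒮.res U.2 V.2 (Scheme.AffineZariskiSite.toOpens_mono h)

lemma irr {U V : Y.AffineZariskiSite} (h : V ≤ U) :
    (𝒮.deg V.1 V.2)₊ ≤ ((𝒮.deg U.1 U.2)₊).map (ρ 𝒮 h) :=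
  irrelevant_le_map_of_le 𝒮 h

/-- reduction of a statement about pairs of the affine site to basic opens -/
lemma pair_cases {motive : ∀ (U V : Y.AffineZariskiSite), V ≤ U → Prop}
    (H : ∀ (U : Y.AffineZariskiSite) (r : Γ(Y, U.1)),
      motive U (U.basicOpen r) (U.basicOpen_le r))
    {U V : Y.AffineZariskiSite} (h : V ≤ U) : motive U V h := by
  obtain ⟨r, hr⟩ := h
  obtain ⟨V, hV⟩ := V
  change Y.basicOpen r = V at hr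
  subst hr
  exact H U r

lemma isLocAway_ρ {U V : Y.AffineZariskiSite} (h : V ≤ U) :
    ∃ c, c ∈ 𝒮.deg U.1 U.2 0 ∧ IsLocAway (ρ 𝒮 h) c := by
  refine pair_cases (motive := fun U V h => ∃ c, c ∈ 𝒮.deg U.1 U.2 0 ∧ IsLocAway (ρ 𝒮 h) c) ?_ h
  intro U r
  exact ⟨_, 𝒮.str_mem U.1 U.2 r, isLocAway_res 𝒮 U.1 U.2 r⟩

lemma locMap_injective_ρ {U V : Y.AffineZariskiSite} (h : V ≤ U)
    (z : ProjectiveSpectrum (𝒮.deg V.1 V.2)) :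
    Function.Injective (GrTwist.locMap (ρ 𝒮 h) (irr 𝒮 h) z) := by
  obtain ⟨c, -, hc⟩ := isLocAway_ρ 𝒮 h
  exact GTD.locMap_injective hc (irr 𝒮 h) z

lemma comap_injective_ρ {U V : Y.AffineZariskiSite} (h : V ≤ U) :
    Function.Injective (ProjectiveSpectrum.comap (ρ 𝒮 h) (irr 𝒮 h)) := by
  obtain ⟨c, -, hc⟩ := isLocAway_ρ 𝒮 h
  exact GTD.comap_injective hc (irr 𝒮 h)

lemma ρ_comp {U V W : Y.AffineZariskiSite} (h₁ : V ≤ U) (h₂ : W ≤ V)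
    (a : 𝒮.presheaf.obj (op U.1)) : ρ 𝒮 h₂ (ρ 𝒮 h₁ a) = ρ 𝒮 (h₂.trans h₁) a := by
  have := res_comp 𝒮 U.2 V.2 W.2 (Scheme.AffineZariskiSite.toOpens_mono h₁)
    (Scheme.AffineZariskiSite.toOpens_mono h₂)
  exact (DFunLike.congr_fun this a).symm

/-- any two affine opens have a common basic open around a common point -/
lemma exists_common (U U₀ : Y.AffineZariskiSite) (s : Y) (hs : s ∈ U.1) (hs₀ : s ∈ U₀.1) :
    ∃ D : Y.AffineZariskiSite, D ≤ U ∧ D ≤ U₀ ∧ s ∈ D.1 := by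
  obtain ⟨r, r₀, e, hsr⟩ := exists_basicOpen_le_affine_inter U.2 U₀.2 s ⟨hs, hs₀⟩
  exact ⟨U.basicOpen r, U.basicOpen_le r, ⟨r₀, e.symm⟩, hsr⟩

variable {𝒮} {P : Scheme.{u}} {p : P ⟶ Y}
  {chart : ∀ (U : Y.Opens) (hU : IsAffineOpen U),
    (((p ⁻¹ᵁ U : P.Opens) : Scheme.{u}) ≅ Proj (𝒮.deg U hU))}

lemma map_ρ_emb (hP : IsRelProj 𝒮 p chart) {U V : Y.AffineZariskiSite} (h : V ≤ U) :
    Proj.map (ρ 𝒮 h) (irr 𝒮 h) ≫ emb p chart U.1 U.2 = emb p chart V.1 V.2 := by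
  refine pair_cases (motive := fun U V h =>
    Proj.map (ρ 𝒮 h) (irr 𝒮 h) ≫ emb p chart U.1 U.2 = emb p chart V.1 V.2) ?_ h
  intro U r
  exact map_res_emb hP U.1 U.2 r

lemma emb_comap_ρ (hP : IsRelProj 𝒮 p chart) {U V : Y.AffineZariskiSite} (h : V ≤ U)
    (z : ProjectiveSpectrum (𝒮.deg V.1 V.2)) :
    (emb p chart U.1 U.2).base (ProjectiveSpectrum.comap (ρ 𝒮 h) (irr 𝒮 h) z) =
      (emb p chart V.1 V.2).base z :=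
  congrArg (fun φ : Proj (𝒮.deg V.1 V.2) ⟶ P => φ.base z) (map_ρ_emb hP h)

lemma exists_comap_ρ (hP : IsRelProj 𝒮 p chart) {U V : Y.AffineZariskiSite} (h : V ≤ U)
    (y : ProjectiveSpectrum (𝒮.deg U.1 U.2)) (hy : (emb p chart U.1 U.2).base y ∈ p ⁻¹ᵁ V.1) :
    ∃ z : ProjectiveSpectrum (𝒮.deg V.1 V.2),
      ProjectiveSpectrum.comap (ρ 𝒮 h) (irr 𝒮 h) z = y := by
  rw [← opensRange_emb p chart V.1 V.2] at hy
  obtain ⟨z, hz⟩ := hy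
  refine ⟨z, ?_⟩
  apply (emb p chart U.1 U.2).isOpenEmbedding.injective
  exact (emb_comap_ρ hP h z).trans hz


section ring

variable {A σA : Type u} [CommRing A] [SetLike σA A] [AddSubgroupClass σA A] {𝒜 : ℕ → σA}
  [GradedRing 𝒜]
variable {B σB : Type u} [CommRing B] [SetLike σB B] [AddSubgroupClass σB B] {ℬ : ℕ → σB}
  [GradedRing ℬ]
variable {C σC : Type u} [CommRing C] [SetLike σC C] [AddSubgroupClass σC C] {𝒞 : ℕ → σC}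
  [GradedRing 𝒞]
variable (ψ : 𝒜 →+*ᵍ ℬ) (hψ : ℬ₊ ≤ (𝒜₊).map ψ) (φ : ℬ →+*ᵍ 𝒞) (hφ : 𝒞₊ ≤ (ℬ₊).map φ)
  (χ : 𝒜 →+*ᵍ 𝒞) (hχ : 𝒞₊ ≤ (𝒜₊).map χ) (hcomm : ∀ a : A, φ (ψ a) = χ a)

include hcomm in
lemma comap_triangle (z : ProjectiveSpectrum 𝒞) :
    ProjectiveSpectrum.comap ψ hψ (ProjectiveSpectrum.comap φ hφ z) =
      ProjectiveSpectrum.comap χ hχ z := by
  apply ProjectiveSpectrum.ext
  apply HomogeneousIdeal.ext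
  ext a
  show φ (ψ a) ∈ z.asHomogeneousIdeal.toIdeal ↔ χ a ∈ z.asHomogeneousIdeal.toIdeal
  rw [hcomm]

include hcomm in
/-- the two ways around a commutative triangle of graded rings agree on the values of a section -/
lemma locMap_triangle {n : ℤ} {O : (Proj 𝒜).Opens} (F : Γ(GrTwist.twist 𝒜 n, O))
    (z : ProjectiveSpectrum 𝒞)
    (h₁ : ProjectiveSpectrum.comap ψ hψ (ProjectiveSpectrum.comap φ hφ z) ∈ O)
    (h₂ : ProjectiveSpectrum.comap χ hχ z ∈ O) :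
    GrTwist.locMap φ hφ z (GrTwist.locMap ψ hψ (ProjectiveSpectrum.comap φ hφ z)
        (GrTwist.val F ⟨_, h₁⟩)) =
      GrTwist.locMap χ hχ z (GrTwist.val F ⟨_, h₂⟩) := by
  obtain ⟨N, hxN, iN, i, j, a, b, nin, -, hfrac⟩ := (F : GrTwist.sectN (𝒜 := 𝒜) n (op O)).2 ⟨_, h₁⟩
  have hx₂ : ProjectiveSpectrum.comap χ hχ z ∈ N := by
    rw [← comap_triangle ψ hψ φ hφ χ hχ hcomm]; exact hxN
  have e1 : GrTwist.val F ⟨_, h₁⟩ = Localization.mk (a : A) ⟨b, nin ⟨_, hxN⟩⟩ := hfrac ⟨_, hxN⟩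
  have e2 : GrTwist.val F ⟨_, h₂⟩ = Localization.mk (a : A) ⟨b, nin ⟨_, hx₂⟩⟩ := hfrac ⟨_, hx₂⟩
  rw [e1, e2, GrTwist.locMap_mk, GrTwist.locMap_mk, GrTwist.locMap_mk]
  congr 1
  · exact hcomm _
  · exact Subtype.ext (hcomm _)

end ring

variable (n : ℤ)

/-- transitivity of the chart transitions, on the values of a section -/
lemma locMap_trans {U V D : Y.AffineZariskiSite} (h₁ : V ≤ U) (h₂ : D ≤ V) (h₃ : D ≤ U)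
    {O : (Proj (𝒮.deg U.1 U.2)).Opens} (F : Γ(GrTwist.twist (𝒮.deg U.1 U.2) n, O))
    (z : ProjectiveSpectrum (𝒮.deg D.1 D.2))
    (hz₁ : ProjectiveSpectrum.comap (ρ 𝒮 h₁) (irr 𝒮 h₁)
      (ProjectiveSpectrum.comap (ρ 𝒮 h₂) (irr 𝒮 h₂) z) ∈ O)
    (hz₂ : ProjectiveSpectrum.comap (ρ 𝒮 h₃) (irr 𝒮 h₃) z ∈ O) :
    GrTwist.locMap (ρ 𝒮 h₂) (irr 𝒮 h₂) z (GrTwist.locMap (ρ 𝒮 h₁) (irr 𝒮 h₁)
        (ProjectiveSpectrum.comap (ρ 𝒮 h₂) (irr 𝒮 h₂) z) (GrTwist.val F ⟨_, hz₁⟩)) =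
      GrTwist.locMap (ρ 𝒮 h₃) (irr 𝒮 h₃) z (GrTwist.val F ⟨_, hz₂⟩) :=
  locMap_triangle (ρ 𝒮 h₁) (irr 𝒮 h₁) (ρ 𝒮 h₂) (irr 𝒮 h₂) (ρ 𝒮 h₃) (irr 𝒮 h₃)
    (fun a => ρ_comp 𝒮 h₁ h₂ a) F z hz₁ hz₂

lemma comap_trans {U V D : Y.AffineZariskiSite} (h₁ : V ≤ U) (h₂ : D ≤ V) (h₃ : D ≤ U)
    (z : ProjectiveSpectrum (𝒮.deg D.1 D.2)) :
    ProjectiveSpectrum.comap (ρ 𝒮 h₁) (irr 𝒮 h₁)
      (ProjectiveSpectrum.comap (ρ 𝒮 h₂) (irr 𝒮 h₂) z) =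
      ProjectiveSpectrum.comap (ρ 𝒮 h₃) (irr 𝒮 h₃) z :=
  comap_triangle (ρ 𝒮 h₁) (irr 𝒮 h₁) (ρ 𝒮 h₂) (irr 𝒮 h₂) (ρ 𝒮 h₃) (irr 𝒮 h₃)
    (fun a => ρ_comp 𝒮 h₁ h₂ a) z

/-- the forward chart transition on sections -/
noncomputable def fwd (hP : IsRelProj 𝒮 p chart) {U V : Y.AffineZariskiSite} (h : V ≤ U)
    (W : P.Opens) (τ : Γ(GrTwist.twist (𝒮.deg U.1 U.2) n, emb p chart U.1 U.2 ⁻¹ᵁ W)) :
    Γ(GrTwist.twist (𝒮.deg V.1 V.2) n, emb p chart V.1 V.2 ⁻¹ᵁ W) :=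
  GrTwist.comapApp (ρ 𝒮 h) (irr 𝒮 h) n (emb p chart U.1 U.2 ⁻¹ᵁ W) (emb p chart V.1 V.2 ⁻¹ᵁ W)
    (fun z hz => by
      show (emb p chart U.1 U.2).base (ProjectiveSpectrum.comap (ρ 𝒮 h) (irr 𝒮 h) z) ∈ W
      rw [emb_comap_ρ hP h z]; exact hz) τ

lemma val_fwd (hP : IsRelProj 𝒮 p chart) {U V : Y.AffineZariskiSite} (h : V ≤ U)
    (W : P.Opens) (τ : Γ(GrTwist.twist (𝒮.deg U.1 U.2) n, emb p chart U.1 U.2 ⁻¹ᵁ W))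
    (z : ProjectiveSpectrum (𝒮.deg V.1 V.2)) (hz : (emb p chart V.1 V.2).base z ∈ W)
    (hz' : (emb p chart U.1 U.2).base (ProjectiveSpectrum.comap (ρ 𝒮 h) (irr 𝒮 h) z) ∈ W) :
    GrTwist.val (fwd n hP h W τ) ⟨z, hz⟩ =
      GrTwist.locMap (ρ 𝒮 h) (irr 𝒮 h) z (GrTwist.val τ ⟨_, hz'⟩) := rfl

/-- the backward chart transition on sections -/
lemma exists_bwd (hP : IsRelProj 𝒮 p chart) {U V : Y.AffineZariskiSite} (h : V ≤ U)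
    (W : P.Opens) (hW : W ≤ p ⁻¹ᵁ V.1)
    (τ'' : Γ(GrTwist.twist (𝒮.deg V.1 V.2) n, emb p chart V.1 V.2 ⁻¹ᵁ W)) :
    ∃ τ : Γ(GrTwist.twist (𝒮.deg U.1 U.2) n, emb p chart U.1 U.2 ⁻¹ᵁ W),
      ∀ (z : ProjectiveSpectrum (𝒮.deg V.1 V.2)) (hz : (emb p chart V.1 V.2).base z ∈ W)
        (hz' : (emb p chart U.1 U.2).base
          (ProjectiveSpectrum.comap (ρ 𝒮 h) (irr 𝒮 h) z) ∈ W),
        GrTwist.val τ'' ⟨z, hz⟩ =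
          GrTwist.locMap (ρ 𝒮 h) (irr 𝒮 h) z (GrTwist.val τ ⟨_, hz'⟩) := by
  obtain ⟨c, hc0, hc⟩ := isLocAway_ρ 𝒮 h
  have hV : ∀ z : ProjectiveSpectrum.top (𝒮.deg V.1 V.2), z ∈ emb p chart V.1 V.2 ⁻¹ᵁ W →
      ProjectiveSpectrum.comap (ρ 𝒮 h) (irr 𝒮 h) z ∈ emb p chart U.1 U.2 ⁻¹ᵁ W := by
    intro z hz
    show (emb p chart U.1 U.2).base (ProjectiveSpectrum.comap (ρ 𝒮 h) (irr 𝒮 h) z) ∈ W
    rw [emb_comap_ρ hP h z]; exact hz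
  have hsurj : ∀ x : ProjectiveSpectrum.top (𝒮.deg U.1 U.2), x ∈ emb p chart U.1 U.2 ⁻¹ᵁ W →
      ∃ z : ProjectiveSpectrum.top (𝒮.deg V.1 V.2), z ∈ emb p chart V.1 V.2 ⁻¹ᵁ W ∧
        ProjectiveSpectrum.comap (ρ 𝒮 h) (irr 𝒮 h) z = x := by
    intro x hx
    obtain ⟨z, rfl⟩ := exists_comap_ρ hP h x (hW hx)
    refine ⟨z, ?_, rfl⟩
    show (emb p chart V.1 V.2).base z ∈ W
    rw [← emb_comap_ρ hP h z]; exact hx
  obtain ⟨τ, hτ⟩ := GTD.exists_descent hc (irr 𝒮 h) hc0 n (emb p chart U.1 U.2 ⁻¹ᵁ W)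
    (emb p chart V.1 V.2 ⁻¹ᵁ W) hV hsurj τ''
  exact ⟨τ, fun z hz hz' => hτ z hz⟩

end Groth.Agent.Helper1.TRE
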