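import Mathlib
import Groth.Prelude.Def_RelProj2
import Groth.Agent.Helper1.TR32
import Groth.Agent.Helper1.SubProd
import Groth.Agent.Helper1.TR19
import Groth.Agent.Helper1.TR27

/-!
# Existence of the twisting sheaves `O_P(n)` of a relative Proj: the sheaf of compatible families
-/

set_option autoImplicit false
set_option linter.style.haveILetI false

namespace Groth.Agent.Helper1.TRE

open CategoryTheory CategoryTheory.Limits AlgebraicGeometry TopologicalSpace Opposite RelProj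
open Groth.Agent.Helper1.RP
open scoped HomogeneousIdeal

universe u

variable {Y P : Scheme.{u}} {𝒮 : QCGrAlg Y} (p : P ⟶ Y)
  (chart : ∀ (U : Y.Opens) (hU : IsAffineOpen U),
    (((p ⁻¹ᵁ U : P.Opens) : Scheme.{u}) ≅ Proj (𝒮.deg U hU))) (n : ℤ)

/-- the direct images of the chartwise twisting sheaves -/
noncomputable def Q (U : Y.AffineZariskiSite) : P.Modules :=
  (Scheme.Modules.pushforward (emb p chart U.1 U.2)).obj (GrTwist.twist (𝒮.deg U.1 U.2) n)

/-- the reading of a component -/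
noncomputable def rdQ {V : P.Opens} (U : Y.AffineZariskiSite) (s : Γ(Q p chart n U, V)) :
    Γ(GrTwist.twist (𝒮.deg U.1 U.2) n, emb p chart U.1 U.2 ⁻¹ᵁ V) := s

/-- compatibility of a family of chartwise sections along the affine site -/
def IsCompat (V : P.Opens) (σ : ∀ U : Y.AffineZariskiSite, Γ(Q p chart n U, V)) : Prop :=
  ∀ (U D : Y.AffineZariskiSite) (h : D ≤ U) (z : ProjectiveSpectrum (𝒮.deg D.1 D.2))
    (hz : (emb p chart D.1 D.2).base z ∈ V)
    (hz' : (emb p chart U.1 U.2).base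
      (ProjectiveSpectrum.comap (ρ 𝒮 h) (irr 𝒮 h) z) ∈ V),
    GrTwist.val (rdQ p chart n D (σ D)) ⟨z, hz⟩ =
      GrTwist.locMap (ρ 𝒮 h) (irr 𝒮 h) z (GrTwist.val (rdQ p chart n U (σ U)) ⟨_, hz'⟩)

variable {p chart}

/-- the values of functions in two charts -/
lemma val_app_ρ (hP : IsRelProj 𝒮 p chart) {U D : Y.AffineZariskiSite} (h : D ≤ U) (V : P.Opens)
    (r : Γ(P, V)) (z : ProjectiveSpectrum (𝒮.deg D.1 D.2))
    (hz : (emb p chart D.1 D.2).base z ∈ V)
    (hz' : (emb p chart U.1 U.2).base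
      (ProjectiveSpectrum.comap (ρ 𝒮 h) (irr 𝒮 h) z) ∈ V) :
    ((show GrTwist.O (𝒜 := 𝒮.deg D.1 D.2) (op (emb p chart D.1 D.2 ⁻¹ᵁ V)) from
        (emb p chart D.1 D.2).app V r).1 ⟨z, hz⟩).val =
      GrTwist.locMap (ρ 𝒮 h) (irr 𝒮 h) z
        (((show GrTwist.O (𝒜 := 𝒮.deg U.1 U.2) (op (emb p chart U.1 U.2 ⁻¹ᵁ V)) from
          (emb p chart U.1 U.2).app V r).1 ⟨_, hz'⟩).val) := by
  have key : ∀ (g : Proj (𝒮.deg D.1 D.2) ⟶ P)
      (_ : Proj.map (ρ 𝒮 h) (irr 𝒮 h) ≫ emb p chart U.1 U.2 = g) (hzg : g.base z ∈ V),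
      ((show GrTwist.O (𝒜 := 𝒮.deg D.1 D.2) (op (g ⁻¹ᵁ V)) from g.app V r).1 ⟨z, hzg⟩).val =
      GrTwist.locMap (ρ 𝒮 h) (irr 𝒮 h) z
        (((show GrTwist.O (𝒜 := 𝒮.deg U.1 U.2) (op (emb p chart U.1 U.2 ⁻¹ᵁ V)) from
          (emb p chart U.1 U.2).app V r).1 ⟨_, hz'⟩).val) := by
    rintro g rfl hzg
    exact GT.val_map_app (ρ 𝒮 h) (irr 𝒮 h) (emb p chart U.1 U.2 ⁻¹ᵁ V)
      ((emb p chart U.1 U.2).app V r) ⟨z, hzg⟩
  exact key _ (map_ρ_emb hP h) hz

variable (p chart) in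
lemma rdQ_smul {V : P.Opens} (U : Y.AffineZariskiSite) (r : Γ(P, V))
    (s : Γ(Q p chart n U, V)) :
    rdQ p chart n U (r • s) = ((emb p chart U.1 U.2).app V r) • rdQ p chart n U s := rfl

/-- the local linear condition -/
noncomputable def cond (hP : IsRelProj 𝒮 p chart) : SubProd.LocalCond (Q p chart n) where
  C := IsCompat p chart n
  zero V := by
    intro U D h z hz hz'
    exact (map_zero _).symm
  add V σ σ' hσ hσ' := by
    intro U D h z hz hz'
    have h1 := hσ U D h z hz hz'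
    have h2 := hσ' U D h z hz hz'
    refine Eq.trans ?_ (map_add _ _ _).symm
    exact congrArg₂ (· + ·) h1 h2
  smul V r σ hσ := by
    intro U D h z hz hz'
    have h1 := hσ U D h z hz hz'
    have e1 : rdQ p chart n D ((r • σ) D) =
        ((emb p chart D.1 D.2).app V r) • rdQ p chart n D (σ D) := rfl
    have e2 : rdQ p chart n U ((r • σ) U) =
        ((emb p chart U.1 U.2).app V r) • rdQ p chart n U (σ U) := rfl
    rw [e1, e2, TRS.val_smul, TRS.val_smul, map_mul, h1]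
    exact congrArg (· * _) (val_app_ρ hP h V r z hz hz')
  res {V V'} f σ hσ := by
    intro U D h z hz hz'
    exact hσ U D h z (f.le hz) (f.le hz')
  loc V σ hloc := by
    intro U D h z hz hz'
    obtain ⟨V', f, hxV', hC⟩ := hloc _ hz
    have hz'' : (emb p chart U.1 U.2).base
        (ProjectiveSpectrum.comap (ρ 𝒮 h) (irr 𝒮 h) z) ∈ V' := by
      rw [emb_comap_ρ hP h z]; exact hxV'
    exact hC U D h z hxV' hz''

end Groth.Agent.Helper1.TRE
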