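import Mathlib
import Groth.Prelude.Def_RelProj2
import Groth.Agent.Helper1.TR33

/-!
# Existence of the twisting sheaves `O_P(n)` of a relative Proj: the chart maps are bijective
-/

set_option autoImplicit false
set_option linter.style.haveILetI false

namespace Groth.Agent.Helper1.TRE

open CategoryTheory CategoryTheory.Limits AlgebraicGeometry TopologicalSpace Opposite RelProj
open Groth.Agent.Helper1.RP
open scoped HomogeneousIdeal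

universe u

variable {Y P : Scheme.{u}} {𝒮 : QCGrAlg Y} {p : P ⟶ Y}
  {chart : ∀ (U : Y.Opens) (hU : IsAffineOpen U),
    (((p ⁻¹ᵁ U : P.Opens) : Scheme.{u}) ≅ Proj (𝒮.deg U hU))} (n : ℤ)
  (hP : IsRelProj 𝒮 p chart)

include hP in
lemma mem_up {U D : Y.AffineZariskiSite} (h : D ≤ U) {W : P.Opens}
    (z : ProjectiveSpectrum (𝒮.deg D.1 D.2)) (hz : (emb p chart D.1 D.2).base z ∈ W) :
    (emb p chart U.1 U.2).base (ProjectiveSpectrum.comap (ρ 𝒮 h) (irr 𝒮 h) z) ∈ W := by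
  rw [emb_comap_ρ hP h z]; exact hz

include hP in
lemma mem_down {U D : Y.AffineZariskiSite} (h : D ≤ U) {W : P.Opens}
    (z : ProjectiveSpectrum (𝒮.deg D.1 D.2))
    (hz : (emb p chart U.1 U.2).base (ProjectiveSpectrum.comap (ρ 𝒮 h) (irr 𝒮 h) z) ∈ W) :
    (emb p chart D.1 D.2).base z ∈ W := by
  rw [← emb_comap_ρ hP h z]; exact hz

variable (U₀ : Y.AffineZariskiSite) (W : P.Opens) (hW : W ≤ p ⁻¹ᵁ U₀.1)
  (τ : Γ(GrTwist.twist (𝒮.deg U₀.1 U₀.2) n, emb p chart U₀.1 U₀.2 ⁻¹ᵁ W))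

/-- "`τ'` is the transfer of `τ` to the chart over `U`" -/
def Ad (U : Y.AffineZariskiSite) (O : (Proj (𝒮.deg U.1 U.2)).Opens)
    (τ' : Γ(GrTwist.twist (𝒮.deg U.1 U.2) n, O)) : Prop :=
  ∀ (D : Y.AffineZariskiSite) (h : D ≤ U) (h₀ : D ≤ U₀)
    (z : ProjectiveSpectrum (𝒮.deg D.1 D.2))
    (hz : ProjectiveSpectrum.comap (ρ 𝒮 h) (irr 𝒮 h) z ∈ O)
    (hz₀ : (emb p chart U₀.1 U₀.2).base
      (ProjectiveSpectrum.comap (ρ 𝒮 h₀) (irr 𝒮 h₀) z) ∈ W),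
    GrTwist.locMap (ρ 𝒮 h) (irr 𝒮 h) z (GrTwist.val τ' ⟨_, hz⟩) =
      GrTwist.locMap (ρ 𝒮 h₀) (irr 𝒮 h₀) z
        (GrTwist.val (V := emb p chart U₀.1 U₀.2 ⁻¹ᵁ W) τ ⟨_, hz₀⟩)

include hP hW in
lemma Ad_unique (U : Y.AffineZariskiSite) (O : (Proj (𝒮.deg U.1 U.2)).Opens)
    (hO : O ≤ emb p chart U.1 U.2 ⁻¹ᵁ W)
    (τ' τ'' : Γ(GrTwist.twist (𝒮.deg U.1 U.2) n, O))
    (h' : Ad n U₀ W τ U O τ') (h'' : Ad n U₀ W τ U O τ'') : τ' = τ'' := by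
  apply GT.sect_ext
  rintro ⟨y, hy⟩
  have hyW : (emb p chart U.1 U.2).base y ∈ W := hO hy
  obtain ⟨D, hDU, hD₀, hsD⟩ := exists_common U U₀ (p.base ((emb p chart U.1 U.2).base y))
    (emb_mem p chart U.1 U.2 y) (hW hyW)
  obtain ⟨z, rfl⟩ := exists_comap_ρ hP hDU y hsD
  have hz₀ : (emb p chart U₀.1 U₀.2).base
      (ProjectiveSpectrum.comap (ρ 𝒮 hD₀) (irr 𝒮 hD₀) z) ∈ W := by
    rw [emb_comap_ρ hP hD₀ z, ← emb_comap_ρ hP hDU z]; exact hyW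
  exact locMap_injective_ρ 𝒮 hDU z
    ((h' D hDU hD₀ z hy hz₀).trans (h'' D hDU hD₀ z hy hz₀).symm)

lemma Ad_res (U : Y.AffineZariskiSite) {O O' : (Proj (𝒮.deg U.1 U.2)).Opens} (hOO : O' ≤ O)
    (τ' : Γ(GrTwist.twist (𝒮.deg U.1 U.2) n, O)) (h' : Ad n U₀ W τ U O τ') :
    Ad n U₀ W τ U O' ((GrTwist.twist (𝒮.deg U.1 U.2) n).presheaf.map (homOfLE hOO).op τ') := by
  intro D h h₀ z hz hz₀
  exact h' D h h₀ z (hOO hz) hz₀


include hP in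
/-- the transfer exists over the part of `W` lying over a common basic open -/
lemma exists_Ad_local (U D : Y.AffineZariskiSite) (h : D ≤ U) (h₀ : D ≤ U₀) :
    ∃ τ' : Γ(GrTwist.twist (𝒮.deg U.1 U.2) n, emb p chart U.1 U.2 ⁻¹ᵁ (W ⊓ p ⁻¹ᵁ D.1)),
      Ad n U₀ W τ U (emb p chart U.1 U.2 ⁻¹ᵁ (W ⊓ p ⁻¹ᵁ D.1)) τ' := by
  set Wk : P.Opens := W ⊓ p ⁻¹ᵁ D.1 with hWk
  have hWkW : Wk ≤ W := inf_le_left
  let τ₀ : Γ(GrTwist.twist (𝒮.deg U₀.1 U₀.2) n, emb p chart U₀.1 U₀.2 ⁻¹ᵁ Wk) :=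
    (GrTwist.twist (𝒮.deg U₀.1 U₀.2) n).presheaf.map
      (homOfLE ((emb p chart U₀.1 U₀.2).preimage_mono hWkW)).op τ
  obtain ⟨τk, hτk⟩ := exists_bwd n hP h Wk inf_le_right (fwd n hP h₀ Wk τ₀)
  refine ⟨τk, ?_⟩
  intro D' h' h₀' z' hz hz₀
  have hx : (emb p chart D'.1 D'.2).base z' ∈ Wk := mem_down hP h' z' hz
  obtain ⟨E, hED, hED', hsE⟩ := exists_common D D' (p.base ((emb p chart D'.1 D'.2).base z'))
    hx.2 (emb_mem p chart D'.1 D'.2 z')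
  obtain ⟨w, rfl⟩ := exists_comap_ρ hP hED' z' hsE
  apply locMap_injective_ρ 𝒮 hED' w
  -- memberships
  have hwE : (emb p chart E.1 E.2).base w ∈ Wk := mem_down hP hED' w hx
  have hzD : (emb p chart D.1 D.2).base
      (ProjectiveSpectrum.comap (ρ 𝒮 hED) (irr 𝒮 hED) w) ∈ Wk := mem_up hP hED w hwE
  have hz1 : (emb p chart U.1 U.2).base (ProjectiveSpectrum.comap (ρ 𝒮 h) (irr 𝒮 h)
      (ProjectiveSpectrum.comap (ρ 𝒮 hED) (irr 𝒮 hED) w)) ∈ Wk := mem_up hP h _ hzD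
  have hzE : (emb p chart U.1 U.2).base
      (ProjectiveSpectrum.comap (ρ 𝒮 (hED.trans h)) (irr 𝒮 (hED.trans h)) w) ∈ Wk :=
    mem_up hP (hED.trans h) w hwE
  have hz₀E : (emb p chart U₀.1 U₀.2).base
      (ProjectiveSpectrum.comap (ρ 𝒮 (hED.trans h₀)) (irr 𝒮 (hED.trans h₀)) w) ∈ W :=
    hWkW (mem_up hP (hED.trans h₀) w hwE)
  have hz₀D : (emb p chart U₀.1 U₀.2).base (ProjectiveSpectrum.comap (ρ 𝒮 h₀) (irr 𝒮 h₀)
      (ProjectiveSpectrum.comap (ρ 𝒮 hED) (irr 𝒮 hED) w)) ∈ Wk := mem_up hP h₀ _ hzD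
  -- the left side
  have s1 := locMap_trans n h' hED' (hED.trans h) τk w hz hzE
  have s2 := locMap_trans n h hED (hED.trans h) τk w hz1 hzE
  have s3 := hτk (ProjectiveSpectrum.comap (ρ 𝒮 hED) (irr 𝒮 hED) w) hzD hz1
  have s4 : GrTwist.val (fwd n hP h₀ Wk τ₀) ⟨_, hzD⟩ =
      GrTwist.locMap (ρ 𝒮 h₀) (irr 𝒮 h₀) (ProjectiveSpectrum.comap (ρ 𝒮 hED) (irr 𝒮 hED) w)
        (GrTwist.val (V := emb p chart U₀.1 U₀.2 ⁻¹ᵁ W) τ ⟨_, hWkW hz₀D⟩) := rfl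
  have s5 := locMap_trans n h₀ hED (hED.trans h₀) τ w (hWkW hz₀D) hz₀E
  have s6 := locMap_trans n h₀' hED' (hED.trans h₀) τ w hz₀ hz₀E
  rw [s1, ← s2, ← s3, s4, s5, s6]


include hP hW in
/-- the transfer of `τ` to the chart over `U` -/
lemma exists_Ad (U : Y.AffineZariskiSite) :
    ∃ τ' : Γ(GrTwist.twist (𝒮.deg U.1 U.2) n, emb p chart U.1 U.2 ⁻¹ᵁ W),
      Ad n U₀ W τ U (emb p chart U.1 U.2 ⁻¹ᵁ W) τ' := by
  let K : Type u := {D : Y.AffineZariskiSite // D ≤ U ∧ D ≤ U₀}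
  let T : K → (Proj (𝒮.deg U.1 U.2)).Opens :=
    fun k => emb p chart U.1 U.2 ⁻¹ᵁ (W ⊓ p ⁻¹ᵁ k.1.1)
  have hTW : ∀ k : K, T k ≤ emb p chart U.1 U.2 ⁻¹ᵁ W :=
    fun k => (emb p chart U.1 U.2).preimage_mono inf_le_left
  choose τk hτk using fun k : K => exists_Ad_local n hP U₀ W τ U k.1 k.2.1 k.2.2
  have hcover : emb p chart U.1 U.2 ⁻¹ᵁ W ≤ iSup T := by
    intro y hy
    have hyW : (emb p chart U.1 U.2).base y ∈ W := hy
    obtain ⟨D, hDU, hD₀, hsD⟩ := exists_common U U₀ (p.base ((emb p chart U.1 U.2).base y))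
      (emb_mem p chart U.1 U.2 y) (hW hyW)
    exact Opens.mem_iSup.2 ⟨⟨D, hDU, hD₀⟩, hyW, hsD⟩
  have hcompat : TopCat.Presheaf.IsCompatible (GrTwist.twist (𝒮.deg U.1 U.2) n).presheaf T τk := by
    intro k k'
    have h1 := Ad_res n U₀ W τ U (inf_le_left : T k ⊓ T k' ≤ T k) (τk k) (hτk k)
    have h2 := Ad_res n U₀ W τ U (inf_le_right : T k ⊓ T k' ≤ T k') (τk k') (hτk k')
    exact Ad_unique n hP U₀ W hW τ U (T k ⊓ T k') (inf_le_left.trans (hTW k)) _ _ h1 h2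
  obtain ⟨τ', hτ', -⟩ := TopCat.Sheaf.existsUnique_gluing'
    (⟨(GrTwist.twist (𝒮.deg U.1 U.2) n).presheaf, (GrTwist.twist (𝒮.deg U.1 U.2) n).isSheaf⟩ :
      TopCat.Sheaf Ab (Proj (𝒮.deg U.1 U.2))) T (emb p chart U.1 U.2 ⁻¹ᵁ W)
    (fun k => homOfLE (hTW k)) hcover τk hcompat
  refine ⟨τ', ?_⟩
  intro D h h₀ z hz hz₀
  have hzk : ProjectiveSpectrum.comap (ρ 𝒮 h) (irr 𝒮 h) z ∈ T ⟨D, h, h₀⟩ := by
    refine ⟨hz, ?_⟩
    show p.base ((emb p chart U.1 U.2).base (ProjectiveSpectrum.comap (ρ 𝒮 h) (irr 𝒮 h) z)) ∈ D.1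
    rw [emb_comap_ρ hP h z]
    exact emb_mem p chart D.1 D.2 z
  have h3 : (GrTwist.twist (𝒮.deg U.1 U.2) n).presheaf.map (homOfLE (hTW ⟨D, h, h₀⟩)).op τ' =
      τk ⟨D, h, h₀⟩ := hτ' ⟨D, h, h₀⟩
  have h4 : GrTwist.val τ' ⟨_, hz⟩ = GrTwist.val (τk ⟨D, h, h₀⟩) ⟨_, hzk⟩ := by
    rw [← h3]; rfl
  rw [h4]
  exact hτk ⟨D, h, h₀⟩ D h h₀ z hzk hz₀


include hP in
/-- the components of a compatible family are the transfers of its component over `U₀` -/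
lemma Ad_of_isCompat (σ : ∀ U : Y.AffineZariskiSite, Γ(Q p chart n U, W))
    (hσ : IsCompat p chart n W σ) (U : Y.AffineZariskiSite) :
    Ad n U₀ W (rdQ p chart n U₀ (σ U₀)) U (emb p chart U.1 U.2 ⁻¹ᵁ W) (rdQ p chart n U (σ U)) := by
  intro D h h₀ z hz hz₀
  have hzD : (emb p chart D.1 D.2).base z ∈ W := mem_down hP h z hz
  exact (hσ U D h z hzD hz).symm.trans (hσ U₀ D h₀ z hzD hz₀)

include hP hW in
/-- a family of transfers is compatible -/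
lemma isCompat_of_Ad (σ : ∀ U : Y.AffineZariskiSite, Γ(Q p chart n U, W))
    (hσ : ∀ U, Ad n U₀ W τ U (emb p chart U.1 U.2 ⁻¹ᵁ W) (rdQ p chart n U (σ U))) :
    IsCompat p chart n W σ := by
  intro U D h z hz hz'
  obtain ⟨E, hED, hE₀, hsE⟩ := exists_common D U₀ (p.base ((emb p chart D.1 D.2).base z))
    (emb_mem p chart D.1 D.2 z) (hW hz)
  obtain ⟨w, rfl⟩ := exists_comap_ρ hP hED z hsE
  apply locMap_injective_ρ 𝒮 hED w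
  have hwE : (emb p chart E.1 E.2).base w ∈ W := mem_down hP hED w hz
  have hz₀ : (emb p chart U₀.1 U₀.2).base
      (ProjectiveSpectrum.comap (ρ 𝒮 hE₀) (irr 𝒮 hE₀) w) ∈ W := mem_up hP hE₀ w hwE
  have hzU : (emb p chart U.1 U.2).base
      (ProjectiveSpectrum.comap (ρ 𝒮 (hED.trans h)) (irr 𝒮 (hED.trans h)) w) ∈ W :=
    mem_up hP (hED.trans h) w hwE
  have s1 := hσ D E hED hE₀ w hz hz₀
  have s2 := locMap_trans n h hED (hED.trans h) (rdQ p chart n U (σ U)) w hz' hzU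
  have s3 := hσ U E (hED.trans h) hE₀ w hzU hz₀
  rw [s1, s2, s3]

include hP in
/-- **existence of the twisting sheaf `O_P(n)` of a relative Proj** -/
theorem exists_isRelTwist :
    ∃ (L : P.Modules) (lam : ∀ (U : Y.Opens) (hU : IsAffineOpen U),
      L ⟶ (Scheme.Modules.pushforward (emb p chart U hU)).obj (GrTwist.twist (𝒮.deg U hU) n)),
      IsRelTwist 𝒮 p chart n L lam := by
  obtain ⟨L, π, hext, hcond, hex⟩ := SubProd.exists_subProd (cond n hP)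
  refine ⟨L, fun U hU => π ⟨U, hU⟩, ?_, ?_⟩
  · intro U₀ hU₀ W hW
    constructor
    · intro s s' hss
      apply hext W
      intro U
      have h1 := Ad_of_isCompat n hP ⟨U₀, hU₀⟩ W _ (hcond W s) U
      have h2 := Ad_of_isCompat n hP ⟨U₀, hU₀⟩ W _ (hcond W s') U
      have hss' : rdQ p chart n ⟨U₀, hU₀⟩ ((π ⟨U₀, hU₀⟩).app W s) =
          rdQ p chart n ⟨U₀, hU₀⟩ ((π ⟨U₀, hU₀⟩).app W s') := hss
      rw [← hss'] at h2
      exact Ad_unique n hP ⟨U₀, hU₀⟩ W hW _ U _ le_rfl _ _ h1 h2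
    · intro τ
      choose σ hσ using exists_Ad n hP ⟨U₀, hU₀⟩ W hW τ
      obtain ⟨s, hs⟩ := hex W σ (isCompat_of_Ad n hP ⟨U₀, hU₀⟩ W hW τ σ hσ)
      refine ⟨s, ?_⟩
      refine (hs ⟨U₀, hU₀⟩).trans ?_
      apply Ad_unique n hP ⟨U₀, hU₀⟩ W hW τ ⟨U₀, hU₀⟩ _ le_rfl _ _ (hσ ⟨U₀, hU₀⟩)
      intro D h h₀ z hz hz₀
      rfl
  · intro U hU r W s y hy hy'
    exact hcond W s ⟨U, hU⟩ (Scheme.AffineZariskiSite.basicOpen ⟨U, hU⟩ r)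
      (Scheme.AffineZariskiSite.basicOpen_le ⟨U, hU⟩ r) y hy hy'

end Groth.Agent.Helper1.TRE
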