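import Mathlib
import Groth.Agent.Helper1.PB4

/-!
# Base change of a relative Proj, part 2: the pullback square
-/

set_option autoImplicit false
set_option linter.style.haveILetI false

namespace Groth.Agent.Helper1.PB

open CategoryTheory Limits AlgebraicGeometry TopologicalSpace Opposite RelProj RelSpec
  HomogeneousLocalization
open scoped HomogeneousIdeal
open Groth.Agent.Helper1.RP

universe u

variable {Y Y' : Scheme.{u}} {g : Y' ⟶ Y} {𝒮 : QCGrAlg Y} {𝒮' : QCGrAlg Y'}
  {u : QGrHom g 𝒮 𝒮'} {P : Scheme.{u}} {p : P ⟶ Y}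
  {chart : ∀ (U : Y.Opens) (hU : IsAffineOpen U),
    (((p ⁻¹ᵁ U : P.Opens) : Scheme.{u}) ≅ Proj (𝒮.deg U hU))}
  {P' : Scheme.{u}} {p' : P' ⟶ Y'}
  {chart' : ∀ (U' : Y'.Opens) (hU' : IsAffineOpen U'),
    (((p' ⁻¹ᵁ U' : P'.Opens) : Scheme.{u}) ≅ Proj (𝒮'.deg U' hU'))}

/-- an everywhere defined `Proj(u)` lies over `g` -/
theorem projQMap_comm (hP : IsRelProj 𝒮 p chart) (hP' : IsRelProj 𝒮' p' chart') {h : P' ⟶ P}
    (hh : IsProjQMap u p chart p' chart' h) : h ≫ p = p' ≫ g := by
  have h1 := projQMapOn_comm hP hP' (Groth.Agent.Helper1.CN.projQMapOn_of_projQMap hh)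
  haveI : IsIso (domQ u p' chart').ι := by
    rw [hh.1, ← Scheme.topIso_hom]; infer_instance
  rw [Category.assoc] at h1
  exact (cancel_epi _).1 h1

/-- the standard chart of `P'` lies over `U'` -/
theorem awayEmb_p (hP' : IsRelProj 𝒮' p' chart') (U : Y.Opens) (hU : IsAffineOpen U)
    (U' : Y'.Opens) (hU' : IsAffineOpen U') (hle : U' ≤ g ⁻¹ᵁ U) {d : ℕ} (hd : 0 < d)
    (f : 𝒮.presheaf.obj (op U)) (hf : f ∈ 𝒮.deg U hU d) :
    awayEmb u p' chart' U hU U' hU' hle hd f hf ≫ p' =
      Spec.map (strAway 𝒮' U' hU' (u.gradedAt U hU U' hU' hle f)) ≫ hU'.fromSpec :=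
  awayι_emb_p p' chart' hP' U' hU' hd _ ((u.gradedAt U hU U' hU' hle).map_mem hf)

section chartsq

variable (hu : IsQBaseChange u.toQHom) (hP : IsRelProj 𝒮 p chart)
  (hP' : IsRelProj 𝒮' p' chart') (i : ChartIdx u)

include hu in
/-- the pullback square of affine schemes over a standard chart -/
theorem isPullback_chart :
    IsPullback (Spec.map (CommRingCat.ofHom (Away.map (u.gradedAt i.U i.hU i.U' i.hU' i.hle) i.f)))
      (Spec.map (strAway 𝒮' i.U' i.hU' (u.gradedAt i.U i.hU i.U' i.hU' i.hle i.f)))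
      (Spec.map (strAway 𝒮 i.U i.hU i.f)) (Spec.map (g.appLE i.U i.U' i.hle)) :=
  (isPullback_SpecMap_of_isPushout _ _ _ _
    (isPushout_strAway u hu i.U i.hU i.U' i.hU' i.hle i.f i.hf)).flip

/-- the standard chart of `P ×_Y Y'` -/
noncomputable def chartJ :
    pullback (Spec.map (strAway 𝒮 i.U i.hU i.f)) (Spec.map (g.appLE i.U i.U' i.hle)) ⟶
      pullback p g :=
  pullback.map _ _ p g (Proj.awayι (𝒮.deg i.U i.hU) i.f i.hf i.hd ≫ emb p chart i.U i.hU)
    i.hU'.fromSpec i.hU.fromSpec (awayι_emb_p p chart hP i.U i.hU i.hd i.f i.hf).symm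
    (IsAffineOpen.SpecMap_appLE_fromSpec g i.hU i.hU' i.hle)

instance : IsOpenImmersion (chartJ hP i) := by
  unfold chartJ
  infer_instance

theorem range_chartJ :
    Set.range (chartJ hP i) =
      pullback.fst p g ⁻¹' Set.range (Proj.awayι (𝒮.deg i.U i.hU) i.f i.hf i.hd ≫
        emb p chart i.U i.hU) ∩ pullback.snd p g ⁻¹' (i.U' : Set Y') := by
  unfold chartJ
  rw [Scheme.Pullback.range_map, IsAffineOpen.range_fromSpec]

end chartsq

/-- **Base change of a relative Proj.** -/
theorem isPullback_of_isProjQMap (hu : IsQBaseChange u.toQHom) (hP : IsRelProj 𝒮 p chart)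
    (hP' : IsRelProj 𝒮' p' chart') {h : P' ⟶ P} (hh : IsProjQMap u p chart p' chart' h) :
    IsPullback h p' p g := by
  have w : h ≫ p = p' ≫ g := projQMap_comm hP hP' hh
  let c : P' ⟶ pullback p g := pullback.lift h p' w
  suffices hc : IsIso c from
    IsPullback.of_iso_pullback ⟨w⟩ (asIso c) (pullback.lift_fst _ _ _) (pullback.lift_snd _ _ _)
  have hr := Groth.Agent.Helper1.CN.projQMapOn_of_projQMap hh
  refine Groth.Agent.Helper1.IM.of_charts c (ι := ChartIdx u)
    (fun i => (isPullback_chart hu i).isoPullback.hom)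
    (fun i => awayEmb u p' chart' i.U i.hU i.U' i.hU' i.hle i.hd i.f i.hf)
    (fun i => chartJ hP i) (MorphismProperty.isomorphisms Scheme.{u}) ?_ ?_ ?_ ?_
  · -- commutativity
    intro i
    apply pullback.hom_ext
    · rw [Category.assoc, Category.assoc, pullback.lift_fst]
      unfold chartJ
      rw [pullback.lift_fst, IsPullback.isoPullback_hom_fst_assoc]
      exact hh.2 i.U i.hU i.U' i.hU' i.hle i.d i.hd i.f i.hf
    · rw [Category.assoc, Category.assoc, pullback.lift_snd]
      unfold chartJ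
      rw [pullback.lift_snd, IsPullback.isoPullback_hom_snd_assoc]
      exact awayEmb_p hP' i.U i.hU i.U' i.hU' i.hle i.hd i.f i.hf
  · -- preimages
    intro i
    ext x
    have hx0 : x ∈ domQ u p' chart' := by rw [hh.1]; trivial
    constructor
    · intro hx
      have hx' : c x ∈ Set.range (chartJ hP i) := hx
      rw [range_chartJ] at hx'
      obtain ⟨h1, h2⟩ := hx'
      have e1 : (pullback.fst p g) (c x) = h x := by
        rw [← Scheme.Hom.comp_apply, pullback.lift_fst]
      have e2 : (pullback.snd p g) (c x) = p' x := by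
        rw [← Scheme.Hom.comp_apply, pullback.lift_snd]
      have h1' : h x ∈ Set.range (Proj.awayι (𝒮.deg i.U i.hU) i.f i.hf i.hd ≫
          emb p chart i.U i.hU) := by rw [← e1]; exact h1
      have h2' : p' x ∈ i.U' := by rw [← e2]; exact h2
      have key := projQMapOn_preimage hP' hr i.U i.hU i.U' i.hU' i.hle i.hd i.f i.hf
      have hmem : (⟨x, hx0⟩ : ((domQ u p' chart' : P'.Opens) : Scheme.{u})) ∈
          (liftEmb u p' chart' i.U i.hU i.U' i.hU' i.hle i.hd i.f i.hf).opensRange := by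
        rw [← key]
        exact ⟨h1', h2'⟩
      obtain ⟨y, hy⟩ := hmem
      refine ⟨y, ?_⟩
      have := congrArg (fun t => (domQ u p' chart').ι t) hy
      rw [← liftEmb_ι u p' chart' i.U i.hU i.U' i.hU' i.hle i.hd i.f i.hf, Scheme.Hom.comp_apply]
      exact this
    · rintro ⟨y, rfl⟩
      show c _ ∈ Set.range (chartJ hP i)
      rw [range_chartJ]
      constructor
      · refine Set.mem_preimage.mpr ?_
        rw [← Scheme.Hom.comp_apply, pullback.lift_fst, ← Scheme.Hom.comp_apply,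
          hh.2 i.U i.hU i.U' i.hU' i.hle i.d i.hd i.f i.hf, Scheme.Hom.comp_apply]
        exact ⟨_, rfl⟩
      · refine Set.mem_preimage.mpr ?_
        rw [← Scheme.Hom.comp_apply, pullback.lift_snd]
        exact emb_mem p' chart' i.U' i.hU' _
  · -- the charts cover
    intro x
    obtain ⟨U, hU, U', hU', hle, hxU'⟩ := exists_pair (g := g) (pullback.snd p g x)
    have hpx : p (pullback.fst p g x) = g (pullback.snd p g x) := by
      rw [← Scheme.Hom.comp_apply, ← Scheme.Hom.comp_apply, pullback.condition]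
    have hx1 : pullback.fst p g x ∈ p ⁻¹ᵁ U := by
      show p (pullback.fst p g x) ∈ U
      rw [hpx]
      exact hle hxU'
    obtain ⟨d, hd, f, hf, hfx⟩ := exists_homog_notMem ((chart U hU).hom ⟨_, hx1⟩)
    have hz : (chart U hU).hom ⟨_, hx1⟩ ∈ Proj.basicOpen (𝒮.deg U hU) f := hfx
    rw [← Proj.opensRange_awayι _ _ hf hd] at hz
    obtain ⟨y, hy⟩ := hz
    refine ⟨⟨U, hU, U', hU', hle, d, hd, f, hf⟩, ?_⟩
    show x ∈ Set.range (chartJ hP _)
    rw [range_chartJ]
    refine ⟨⟨y, ?_⟩, hxU'⟩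
    rw [Scheme.Hom.comp_apply]
    have : (Proj.awayι (𝒮.deg U hU) f hf hd) y = (chart U hU).hom ⟨_, hx1⟩ := hy
    rw [this]
    exact emb_chart_hom p chart U hU _ hx1
  · intro i
    exact Iso.isIso_hom _

end Groth.Agent.Helper1.PB
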