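import Mathlib
import Groth.Agent.Helper1.PB5

/-!
# Base change of a relative Proj, part 3: from presheaf-level data
-/

set_option autoImplicit false
set_option linter.style.haveILetI false

namespace Groth.Agent.Helper1.PB

open CategoryTheory Limits AlgebraicGeometry TopologicalSpace Opposite RelProj RelSpec
  HomogeneousLocalization
open scoped HomogeneousIdeal
open Groth.Agent.Helper1.RP

universe u

variable {Y Y' : Scheme.{u}} (ψ : Y' ⟶ Y) (𝒮 : QCGrAlg Y) (𝒮' : QCGrAlg Y')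
  (u : 𝒮.presheaf ⟶ ψ.base _* 𝒮'.presheaf)
  (hu : 𝒮.str ≫ u = ψ.c ≫ (TopCat.Presheaf.pushforward CommRingCat.{u} ψ.base).map 𝒮'.str)

/-- a morphism of presheaves of rings over `ψ`, as a `ψ`-morphism of quasi-coherent algebras -/
def qHomOf : QHom ψ 𝒮.toQCAlg 𝒮'.toQCAlg where
  app U := u.app (op U)
  naturality i := (u.naturality (homOfLE i).op).symm
  str_app U := by
    have := congrArg (fun t => t.app (op U)) hu
    exact this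

theorem qHomOf_appLE (U : Y.Opens) (U' : Y'.Opens) (hle : U' ≤ ψ ⁻¹ᵁ U) :
    (qHomOf ψ 𝒮 𝒮' u hu).appLE U U' hle =
      (u.app (op U) : 𝒮.presheaf.obj (op U) ⟶ 𝒮'.presheaf.obj (op (ψ ⁻¹ᵁ U))) ≫
        𝒮'.presheaf.map (homOfLE hle).op := rfl

variable (φ : ∀ (U : Y.Opens) (hU : IsAffineOpen U) (U' : Y'.Opens) (hU' : IsAffineOpen U')
    (_ : U' ≤ ψ ⁻¹ᵁ U), 𝒮.deg U hU →+*ᵍ 𝒮'.deg U' hU')
  (hφ : ∀ (U : Y.Opens) (hU : IsAffineOpen U) (U' : Y'.Opens) (hU' : IsAffineOpen U')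
    (hle : U' ≤ ψ ⁻¹ᵁ U), (φ U hU U' hU' hle).toRingHom =
      ((u.app (op U) : 𝒮.presheaf.obj (op U) ⟶ 𝒮'.presheaf.obj (op (ψ ⁻¹ᵁ U))) ≫
        𝒮'.presheaf.map (homOfLE hle).op).hom)

/-- the graded `ψ`-morphism attached to presheaf-level data -/
def qGrHomOf : QGrHom ψ 𝒮 𝒮' where
  toQHom := qHomOf ψ 𝒮 𝒮' u hu
  map_mem U hU U' hU' hle d x hx := by
    have h1 : (φ U hU U' hU' hle) x ∈ 𝒮'.deg U' hU' d := (φ U hU U' hU' hle).map_mem hx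
    have h2 : (φ U hU U' hU' hle) x =
        (𝒮'.presheaf.map (homOfLE hle).op).hom ((u.app (op U)).hom x) :=
      congrArg (fun t : 𝒮.presheaf.obj (op U) →+* 𝒮'.presheaf.obj (op U') => t x)
        (hφ U hU U' hU' hle)
    rw [h2] at h1
    exact h1

theorem gradedAt_qGrHomOf (U : Y.Opens) (hU : IsAffineOpen U) (U' : Y'.Opens)
    (hU' : IsAffineOpen U') (hle : U' ≤ ψ ⁻¹ᵁ U) :
    φ U hU U' hU' hle = (qGrHomOf ψ 𝒮 𝒮' u hu φ hφ).gradedAt U hU U' hU' hle := by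
  apply DFunLike.ext
  intro x
  exact congrArg (fun t : 𝒮.presheaf.obj (op U) →+* 𝒮'.presheaf.obj (op U') => t x)
    (hφ U hU U' hU' hle)

theorem isQBaseChange_qGrHomOf
    (hpo : ∀ (U : Y.Opens) (hU : IsAffineOpen U) (U' : Y'.Opens) (hU' : IsAffineOpen U')
      (hle : U' ≤ ψ ⁻¹ᵁ U),
      IsPushout (ψ.appLE U U' hle) (𝒮.str.app (op U)) (𝒮'.str.app (op U'))
        ((u.app (op U) : 𝒮.presheaf.obj (op U) ⟶ 𝒮'.presheaf.obj (op (ψ ⁻¹ᵁ U))) ≫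
          𝒮'.presheaf.map (homOfLE hle).op)) :
    IsQBaseChange (qGrHomOf ψ 𝒮 𝒮' u hu φ hφ).toQHom :=
  fun U hU U' hU' hle => hpo U hU U' hU' hle

variable {P P' : Scheme.{u}} {p : P ⟶ Y}
  {chart : ∀ (U : Y.Opens) (hU : IsAffineOpen U),
    (((p ⁻¹ᵁ U : P.Opens) : Scheme.{u}) ≅ Proj (𝒮.deg U hU))}
  {p' : P' ⟶ Y'}
  {chart' : ∀ (U' : Y'.Opens) (hU' : IsAffineOpen U'),
    (((p' ⁻¹ᵁ U' : P'.Opens) : Scheme.{u}) ≅ Proj (𝒮'.deg U' hU'))}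

/-- a chartwise `Proj.map` description gives the standard chart equations -/
theorem awayEmb_of_map (v : QGrHom ψ 𝒮 𝒮') (U : Y.Opens) (hU : IsAffineOpen U) (U' : Y'.Opens)
    (hU' : IsAffineOpen U') (hle : U' ≤ ψ ⁻¹ᵁ U)
    (φ₀ : 𝒮.deg U hU →+*ᵍ 𝒮'.deg U' hU') (e : φ₀ = v.gradedAt U hU U' hU' hle)
    (hirr₀ : (𝒮'.deg U' hU')₊ ≤ ((𝒮.deg U hU)₊).map φ₀) (g : P' ⟶ P)
    (hg : (p' ⁻¹ᵁ U').ι ≫ g = (chart' U' hU').hom ≫ Proj.map φ₀ hirr₀ ≫ emb p chart U hU)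
    {d : ℕ} (hd : 0 < d) (f : 𝒮.presheaf.obj (op U)) (hf : f ∈ 𝒮.deg U hU d) :
    awayEmb v p' chart' U hU U' hU' hle hd f hf ≫ g =
      Spec.map (CommRingCat.ofHom (Away.map (v.gradedAt U hU U' hU' hle) f)) ≫
        Proj.awayι (𝒮.deg U hU) f hf hd ≫ emb p chart U hU := by
  subst e
  unfold awayEmb emb
  rw [Category.assoc, Category.assoc, hg, Iso.inv_hom_id_assoc,
    Proj.awayι_comp_map_assoc _ hirr₀ hd f hf]
  rfl

end Groth.Agent.Helper1.PB
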