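import Mathlib

/-!
# Base change descends along "dehomogenization" quotients

Abstract lemma: if `v : M → N` has the universal property of base change along `ψ : A → B`, and
`dM : M → P`, `dN : N → Q` are surjective maps, semilinear over surjections `δA : A → R`,
`δB : B → R'`, with `ker dN` generated by the `(g - 1) • x`, `δB g = 1`, then the induced map
`β : P → Q` is a base change along `R → R'`.
-/

set_option autoImplicit false
set_option linter.style.haveILetI false

namespace Groth.Agent.Helper1.DehomBC

universe u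

theorem isBaseChange_of_dehom
    {A B : Type u} [CommRing A] [CommRing B] (ψ : A →+* B)
    {M N : Type u} [AddCommGroup M] [Module A M] [AddCommGroup N] [Module B N]
    (v : M →ₛₗ[ψ] N)
    (hbc : ∀ (Q : Type u) [AddCommGroup Q] [Module B Q] (w : M →ₛₗ[ψ] Q),
      ∃! g : N →ₗ[B] Q, ∀ m : M, g (v m) = w m)
    {R R' : Type u} [CommRing R] [CommRing R'] [Algebra R R']
    {P Q : Type u} [AddCommGroup P] [Module R P] [AddCommGroup Q] [Module R Q] [Module R' Q]
    [IsScalarTower R R' Q] (β : P →ₗ[R] Q)
    (δA : A →+* R) (δB : B →+* R') (hδ : ∀ a, algebraMap R R' (δA a) = δB (ψ a))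
    (hδB : Function.Surjective δB)
    (dM : M →+ P) (dN : N →+ Q)
    (hdM : ∀ (a : A) (m : M), dM (a • m) = δA a • dM m)
    (hdN : ∀ (b : B) (x : N), dN (b • x) = δB b • dN x)
    (sM : Function.Surjective dM) (sN : Function.Surjective dN)
    (hβ : ∀ m, β (dM m) = dN (v m))
    (hker : ∀ x, dN x = 0 → ∃ (g : B) (x' : N), δB g = 1 ∧ x = g • x' - x') :
    IsBaseChange R' β := by
  apply IsBaseChange.of_lift_unique
  intro Q' _ _ _ _ w
  letI : AddCommGroup Q' := Module.addCommMonoidToAddCommGroup R'
  letI : Module B Q' := Module.compHom Q' δB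
  have hBsmul : ∀ (b : B) (q : Q'), b • q = δB b • q := fun _ _ => rfl
  -- the semilinear map `M → Q'`
  let w' : M →ₛₗ[ψ] Q' :=
    { toFun := fun m => w (dM m)
      map_add' := fun m m' => by rw [map_add, map_add]
      map_smul' := fun a m => by
        rw [hdM, map_smul, hBsmul, ← hδ, algebraMap_smul] }
  obtain ⟨g₀, hg₀, hg₀u⟩ := hbc Q' w'
  have hg₀' : ∀ m, g₀ (v m) = w (dM m) := hg₀
  -- `g₀` kills the kernel of `dN`
  have hkill : ∀ x, dN x = 0 → g₀ x = 0 := by
    intro x hx
    obtain ⟨g, x', hg, rfl⟩ := hker x hx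
    rw [map_sub, map_smul, hBsmul, hg, one_smul, sub_self]
  have hwd : ∀ x x', dN x = dN x' → g₀ x = g₀ x' := by
    intro x x' h
    have := hkill (x - x') (by rw [map_sub, h, sub_self])
    rwa [map_sub, sub_eq_zero] at this
  -- the lift
  let lift : Q →ₗ[R'] Q' :=
    { toFun := fun q => g₀ (Function.surjInv sN q)
      map_add' := fun q q' => by
        rw [← map_add]
        apply hwd
        rw [map_add, Function.surjInv_eq sN, Function.surjInv_eq sN, Function.surjInv_eq sN]
      map_smul' := fun r q => by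
        obtain ⟨b, rfl⟩ := hδB r
        rw [RingHom.id_apply, ← hBsmul, ← map_smul]
        apply hwd
        rw [hdN, Function.surjInv_eq sN, Function.surjInv_eq sN] }
  have hlift : ∀ x, lift (dN x) = g₀ x := fun x => hwd _ _ (Function.surjInv_eq sN _)
  refine ⟨lift, ?_, ?_⟩
  · ext p
    obtain ⟨m, rfl⟩ := sM p
    change lift (β (dM m)) = w (dM m)
    rw [hβ, hlift, hg₀']
  · intro l hl
    have hl' : ∀ p, l (β p) = w p := fun p => congrArg (fun t => t p) hl
    -- `l ∘ dN` is `B`-linear and agrees with `w'` on `v M`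
    let l' : N →ₗ[B] Q' :=
      { toFun := fun x => l (dN x)
        map_add' := fun x x' => by rw [map_add, map_add]
        map_smul' := fun b x => by
          rw [hdN, map_smul, RingHom.id_apply, hBsmul] }
    have h1 : l' = g₀ := hg₀u l' (fun m => by
      change l (dN (v m)) = w (dM m)
      rw [← hβ, hl'])
    ext q
    obtain ⟨x, rfl⟩ := sN q
    rw [hlift, ← h1]
    rfl

end Groth.Agent.Helper1.DehomBC
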