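import Mathlib
import Groth.Agent.Lead.BCMap5
import Groth.Agent.Lead.BCMap11
import Groth.Agent.Lead.StalkPull
import Groth.Agent.Helper4.QcohLocal

/-!
# The adjoint of a map `F ⟶ f_* G` is an isomorphism when it is a base change on affine opens

For quasi-coherent `F`, `G` and `κ : F ⟶ f_* G`: if around every point of the source there are
affine opens `V ⊆ f⁻¹ U` such that `Γ(U, F) → Γ(V, G)` is a base change along `Γ(U) → Γ(V)`, then
the adjoint map `f^* F ⟶ G` is an isomorphism.
-/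

set_option autoImplicit false
set_option linter.style.haveILetI false

namespace Groth.Agent.Helper1.PBIso

open CategoryTheory CategoryTheory.Limits AlgebraicGeometry TopologicalSpace Opposite

universe u

variable {X Y : Scheme.{u}} (f : X ⟶ Y) {F : Y.Modules} {G : X.Modules}
  [F.IsQuasicoherent] [G.IsQuasicoherent] (κ : F ⟶ (Scheme.Modules.pushforward f).obj G)

theorem isIso_adjoint_of_isBaseChange
    (h : ∀ x : X, ∃ (U : Y.Opens) (V : X.Opens) (e : V ≤ f ⁻¹ᵁ U), IsAffineOpen U ∧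
      IsAffineOpen V ∧ x ∈ V ∧
        letI := (f.appLE U V e).hom.toAlgebra
        letI : Module Γ(Y, U) Γ(G, V) := Module.compHom _ (f.appLE U V e).hom
        haveI : IsScalarTower Γ(Y, U) Γ(X, V) Γ(G, V) := IsScalarTower.of_compHom _ _ _
        ∃ β : Γ(F, U) →ₗ[Γ(Y, U)] Γ(G, V),
          (∀ m, β m = G.presheaf.map (homOfLE e).op (κ.app U m)) ∧ IsBaseChange Γ(X, V) β) :
    IsIso (((Scheme.Modules.pullbackPushforwardAdjunction f).homEquiv F G).symm κ) := by
  set ν := ((Scheme.Modules.pullbackPushforwardAdjunction f).homEquiv F G).symm κ with hν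
  haveI := Groth.Agent.Lead.StalkPull.isQuasicoherent_pullbackObj f F
  apply Groth.Agent.Helper4.QcohLocal.isIso_of_app_bijective_of_affine_cover
  intro x
  obtain ⟨U, V, e, hU, hV, hxV, hβ⟩ := h x
  refine ⟨V, hV, hxV, ?_⟩
  letI := (f.appLE U V e).hom.toAlgebra
  letI : Module Γ(Y, U) Γ(G, V) := Module.compHom _ (f.appLE U V e).hom
  haveI : IsScalarTower Γ(Y, U) Γ(X, V) Γ(G, V) := IsScalarTower.of_compHom _ _ _
  letI : Module Γ(Y, U) Γ((Scheme.Modules.pullback f).obj F, V) :=
    Module.compHom _ (f.appLE U V e).hom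
  haveI : IsScalarTower Γ(Y, U) Γ(X, V) Γ((Scheme.Modules.pullback f).obj F, V) :=
    IsScalarTower.of_compHom _ _ _
  obtain ⟨β, hβ1, hβ2⟩ := hβ
  obtain ⟨ρ, hρ, hb⟩ := Groth.Agent.Lead.BCMap.exists_isBaseChange_pbSec f F hU hV e
  have hkey : ∀ m, ν.app V (ρ m) = β m := by
    intro m
    rw [hρ, ← Groth.Agent.Lead.BCMap.homEquiv_app f F ν U V e m, hν, Equiv.apply_symm_apply, hβ1]
  let νL : Γ((Scheme.Modules.pullback f).obj F, V) →ₗ[Γ(X, V)] Γ(G, V) :=
    { toFun := fun s => ν.app V s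
      map_add' := fun s t => map_add _ s t
      map_smul' := fun r s => Scheme.Modules.Hom.app_smul ν r s }
  exact Groth.Agent.Lead.BCMap.bijective_of_two_isBaseChange (R := Γ(Y, U)) (R' := Γ(X, V))
    ρ hb β hβ2 (LinearEquiv.refl _ _) νL hkey

end Groth.Agent.Helper1.PBIso
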