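import Mathlib
import Groth.Prelude.Def_RelProj3
import Groth.Agent.Helper1.GM7
import Groth.Agent.Helper1.TR27
import Groth.Agent.Helper1.TR4
import Groth.Agent.Helper1.DehomBC
import Groth.Agent.Helper1.PBIso2

/-!
# Base change for `M(n)~` along a homomorphism of graded rings, degree-one generation

`Φ^*(M(n)~) ⟶ (M ⊗_A B)(n)~` is an isomorphism when the irrelevant ideal of `A` is generated in
degree one.
-/

set_option autoImplicit false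
set_option linter.unusedSectionVars false
set_option linter.style.haveILetI false

namespace Groth.Agent.Helper1.GMH

open CategoryTheory AlgebraicGeometry TopologicalSpace Opposite
open scoped HomogeneousIdeal

universe u

variable {A σ : Type u} [CommRing A] [SetLike σ A] [AddSubgroupClass σ A] {𝒜 : ℕ → σ} [GradedRing 𝒜]
variable {M τ : Type u} [AddCommGroup M] [Module A M] [SetLike τ M] [AddSubgroupClass τ M]
  (ℳ : ℕ → τ) [SetLike.GradedSMul 𝒜 ℳ] [DirectSum.Decomposition ℳ]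
variable {B σ' : Type u} [CommRing B] [SetLike σ' B] [AddSubgroupClass σ' B] {ℬ : ℕ → σ'}
  [GradedRing ℬ]
variable {N τ' : Type u} [AddCommGroup N] [Module B N] [SetLike τ' N] [AddSubgroupClass τ' N]
  (𝒩 : ℕ → τ') [SetLike.GradedSMul ℬ 𝒩] [DirectSum.Decomposition 𝒩]
variable (ψ : 𝒜 →+*ᵍ ℬ) (hψ : ℬ₊ ≤ (𝒜₊).map ψ) (v : M →ₛₗ[ψ.toRingHom] N)
  (hv : ∀ (i : ℕ) (m : M), m ∈ ℳ i → v m ∈ 𝒩 i)
variable {f : A} (hf : f ∈ 𝒜 1)

/-- `D₊(ψ f) ⊆ Φ⁻¹ D₊(f)` -/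
lemma basicOpen_le : (Proj.basicOpen ℬ (ψ f) : (Proj ℬ).Opens) ≤
    Proj.map ψ hψ ⁻¹ᵁ (Proj.basicOpen 𝒜 f) := fun _ h => h

/-- the map on sections `Γ(D₊(f), M(n)~) → Γ(D₊(ψ f), N(n)~)` -/
noncomputable def secMap (n : ℤ) : Γ(GrMod.tilde 𝒜 ℳ n, Proj.basicOpen 𝒜 f) →
    Γ(GrMod.tilde ℬ 𝒩 n, Proj.basicOpen ℬ (ψ f)) := fun s =>
  (GrMod.tilde ℬ 𝒩 n).presheaf.map (homOfLE (basicOpen_le ψ hψ (f := f))).op
    ((GrMod.comap ψ hψ v hv n).app (Proj.basicOpen 𝒜 f) s)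

omit [DirectSum.Decomposition ℳ] [DirectSum.Decomposition 𝒩] in
lemma val_secMap (n : ℤ) (s : Γ(GrMod.tilde 𝒜 ℳ n, Proj.basicOpen 𝒜 f))
    (y : (Proj.basicOpen ℬ (ψ f) : (Proj ℬ).Opens)) :
    GrMod.val (secMap ℳ 𝒩 ψ hψ v hv n s) y =
      GrMod.locModMap ψ hψ v y.1
        (GrMod.val s ⟨ProjectiveSpectrum.comap ψ hψ y.1, basicOpen_le ψ hψ y.2⟩) := rfl

/-- **compatibility of `dh` with `v`** -/
theorem secMap_dh (n : ℤ) (m : M) :
    secMap ℳ 𝒩 ψ hψ v hv n (dh ℳ hf n m) = dh 𝒩 (ψ.map_mem hf) n (v m) := by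
  let F : M →+ Γ(GrMod.tilde ℬ 𝒩 n, Proj.basicOpen ℬ (ψ f)) :=
    { toFun := fun m => secMap ℳ 𝒩 ψ hψ v hv n (dh ℳ hf n m)
      map_zero' := by
        apply GM.sect_ext
        intro y
        rw [val_secMap, map_zero, GM.val_zero, GM.val_zero, map_zero]
      map_add' := fun a b => by
        apply GM.sect_ext
        intro y
        rw [val_secMap, map_add, GM.val_add, GM.val_add, map_add, val_secMap, val_secMap] }
  let G : M →+ Γ(GrMod.tilde ℬ 𝒩 n, Proj.basicOpen ℬ (ψ f)) :=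
    (dh 𝒩 (ψ.map_mem hf) n).comp v.toAddMonoidHom
  refine addHom_ext ℳ F G (fun i m hm => ?_) m
  change secMap ℳ 𝒩 ψ hψ v hv n (dh ℳ hf n m) = dh 𝒩 (ψ.map_mem hf) n (v m)
  rw [dh_of_mem ℳ hf n hm, dh_of_mem 𝒩 (ψ.map_mem hf) n (hv i m hm)]
  apply GM.sect_ext
  intro y
  rw [val_secMap, val_hsec, val_hsec, GrMod.locModMap_mk]
  have h1 : v (f ^ n.toNat • m) = ψ f ^ n.toNat • v m := by
    rw [LinearMap.map_smulₛₗ, ← map_pow]
    rfl
  rw [h1]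
  congr 1
  exact Subtype.ext (map_pow ψ f _)

/-- **compatibility of `dhA` with `ψ`** -/
theorem appLE_dhA (a : A) :
    ((Proj.map ψ hψ).appLE (Proj.basicOpen 𝒜 f) (Proj.basicOpen ℬ (ψ f))
      (basicOpen_le ψ hψ)).hom (dhA hf a) = dhA (ψ.map_mem hf) (ψ a) := by
  let F : A →+ Γ(Proj ℬ, Proj.basicOpen ℬ (ψ f)) :=
    ((((Proj.map ψ hψ).appLE (Proj.basicOpen 𝒜 f) (Proj.basicOpen ℬ (ψ f))
      (basicOpen_le ψ hψ)).hom.comp (dhA hf)) : A →+* _).toAddMonoidHom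
  let G : A →+ Γ(Proj ℬ, Proj.basicOpen ℬ (ψ f)) :=
    ((dhA (ψ.map_mem hf)).comp ψ.toRingHom : A →+* _).toAddMonoidHom
  refine addHom_ext 𝒜 F G (fun i a ha => ?_) a
  change ((Proj.map ψ hψ).appLE (Proj.basicOpen 𝒜 f) (Proj.basicOpen ℬ (ψ f))
      (basicOpen_le ψ hψ)).hom (dhA hf a) = dhA (ψ.map_mem hf) (ψ a)
  apply Subtype.ext
  funext y
  apply HomogeneousLocalization.val_injective
  refine Eq.trans ?_ (val_dhA_of_mem (ψ.map_mem hf) (ψ.map_mem ha) y).symm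
  refine (GT.val_map_app ψ hψ (Proj.basicOpen 𝒜 f) (dhA hf a) ⟨y.1, basicOpen_le ψ hψ y.2⟩).trans ?_
  rw [val_dhA_of_mem hf ha, GrTwist.locMap_mk]
  congr 1
  exact Subtype.ext (map_pow ψ f _)

end Groth.Agent.Helper1.GMH
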