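import Mathlib
import Groth.Prelude.Def_RelProj3
import Groth.Agent.Helper1.GM8

/-!
# Base change for `M(n)~` along a homomorphism of graded rings, degree-one generation (assembly)
-/

set_option autoImplicit false
set_option linter.unusedSectionVars false
set_option linter.style.haveILetI false

namespace Groth.Agent.Helper1.GMH

open CategoryTheory AlgebraicGeometry TopologicalSpace Opposite
open scoped HomogeneousIdeal

universe u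

variable {A σ : Type u} [CommRing A] [SetLike σ A] [AddSubgroupClass σ A] {𝒜 : ℕ → σ} [GradedRing 𝒜]
variable {M τ : Type u} [AddCommGroup M] [Module A M] [SetLike τ M] [AddSubgroupClass τ M]
  (ℳ : ℕ → τ) [SetLike.GradedSMul 𝒜 ℳ] [DirectSum.Decomposition ℳ]
variable {B σ' : Type u} [CommRing B] [SetLike σ' B] [AddSubgroupClass σ' B] {ℬ : ℕ → σ'}
  [GradedRing ℬ]
variable {N τ' : Type u} [AddCommGroup N] [Module B N] [SetLike τ' N] [AddSubgroupClass τ' N]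
  (𝒩 : ℕ → τ') [SetLike.GradedSMul ℬ 𝒩] [DirectSum.Decomposition 𝒩]
variable (ψ : 𝒜 →+*ᵍ ℬ) (hψ : ℬ₊ ≤ (𝒜₊).map ψ) (v : M →ₛₗ[ψ.toRingHom] N)
  (hv : ∀ (i : ℕ) (m : M), m ∈ ℳ i → v m ∈ 𝒩 i)
variable {f : A} (hf : f ∈ 𝒜 1)

omit [AddCommGroup M] [Module A M] [SetLike τ M] [AddSubgroupClass τ M]
  [SetLike.GradedSMul 𝒜 ℳ] [DirectSum.Decomposition ℳ] in
lemma dhA_self : dhA hf f = 1 := by
  apply Subtype.ext
  funext y
  apply HomogeneousLocalization.val_injective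
  refine (val_dhA_of_mem hf hf y).trans ?_
  refine Eq.trans ?_ (HomogeneousLocalization.val_one (𝒜 := 𝒜)
    (x := y.1.asHomogeneousIdeal.toIdeal.primeCompl)).symm
  have : (⟨f ^ 1, pow_notMem' ((ProjectiveSpectrum.mem_basicOpen 𝒜 f y.1).1 y.2) 1⟩ :
      y.1.asHomogeneousIdeal.toIdeal.primeCompl) =
      ⟨f, (ProjectiveSpectrum.mem_basicOpen 𝒜 f y.1).1 y.2⟩ := Subtype.ext (pow_one f)
  rw [this]
  exact Localization.mk_self (⟨f, (ProjectiveSpectrum.mem_basicOpen 𝒜 f y.1).1 y.2⟩ :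
    y.1.asHomogeneousIdeal.toIdeal.primeCompl)

include hf in
/-- **the map on sections over `D₊(f)` is a base change** -/
theorem exists_isBaseChange_secMap
    (hbc : ∀ (Q : Type u) [AddCommGroup Q] [Module B Q] (w : M →ₛₗ[ψ.toRingHom] Q),
      ∃! g : N →ₗ[B] Q, ∀ m : M, g (v m) = w m) (n : ℤ) :
    letI := ((Proj.map ψ hψ).appLE (Proj.basicOpen 𝒜 f) (Proj.basicOpen ℬ (ψ f))
      (basicOpen_le ψ hψ)).hom.toAlgebra
    letI : Module Γ(Proj 𝒜, Proj.basicOpen 𝒜 f) Γ(GrMod.tilde ℬ 𝒩 n, Proj.basicOpen ℬ (ψ f)) :=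
      Module.compHom _ ((Proj.map ψ hψ).appLE (Proj.basicOpen 𝒜 f) (Proj.basicOpen ℬ (ψ f))
        (basicOpen_le ψ hψ)).hom
    haveI : IsScalarTower Γ(Proj 𝒜, Proj.basicOpen 𝒜 f) Γ(Proj ℬ, Proj.basicOpen ℬ (ψ f))
        Γ(GrMod.tilde ℬ 𝒩 n, Proj.basicOpen ℬ (ψ f)) := IsScalarTower.of_compHom _ _ _
    ∃ β : Γ(GrMod.tilde 𝒜 ℳ n, Proj.basicOpen 𝒜 f) →ₗ[Γ(Proj 𝒜, Proj.basicOpen 𝒜 f)]
        Γ(GrMod.tilde ℬ 𝒩 n, Proj.basicOpen ℬ (ψ f)),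
      (∀ m, β m = (GrMod.tilde ℬ 𝒩 n).presheaf.map (homOfLE (basicOpen_le ψ hψ (f := f))).op
        ((GrMod.comap ψ hψ v hv n).app (Proj.basicOpen 𝒜 f) m)) ∧
      IsBaseChange Γ(Proj ℬ, Proj.basicOpen ℬ (ψ f)) β := by
  letI := ((Proj.map ψ hψ).appLE (Proj.basicOpen 𝒜 f) (Proj.basicOpen ℬ (ψ f))
    (basicOpen_le ψ hψ)).hom.toAlgebra
  letI : Module Γ(Proj 𝒜, Proj.basicOpen 𝒜 f) Γ(GrMod.tilde ℬ 𝒩 n, Proj.basicOpen ℬ (ψ f)) :=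
    Module.compHom _ ((Proj.map ψ hψ).appLE (Proj.basicOpen 𝒜 f) (Proj.basicOpen ℬ (ψ f))
      (basicOpen_le ψ hψ)).hom
  haveI : IsScalarTower Γ(Proj 𝒜, Proj.basicOpen 𝒜 f) Γ(Proj ℬ, Proj.basicOpen ℬ (ψ f))
      Γ(GrMod.tilde ℬ 𝒩 n, Proj.basicOpen ℬ (ψ f)) := IsScalarTower.of_compHom _ _ _
  have hg : ψ f ∈ ℬ 1 := ψ.map_mem hf
  -- the linear map
  let β : Γ(GrMod.tilde 𝒜 ℳ n, Proj.basicOpen 𝒜 f) →ₗ[Γ(Proj 𝒜, Proj.basicOpen 𝒜 f)]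
      Γ(GrMod.tilde ℬ 𝒩 n, Proj.basicOpen ℬ (ψ f)) :=
    { toFun := secMap ℳ 𝒩 ψ hψ v hv n
      map_add' := fun s t => by
        apply GM.sect_ext
        intro y
        rw [val_secMap, GM.val_add, GM.val_add, map_add, val_secMap, val_secMap]
      map_smul' := fun r s => by
        obtain ⟨a, rfl⟩ := dhA_surjective hf r
        obtain ⟨m, rfl⟩ := dh_surjective ℳ hf n s
        rw [← dh_smul, secMap_dh ℳ 𝒩 ψ hψ v hv hf, secMap_dh ℳ 𝒩 ψ hψ v hv hf,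
          LinearMap.map_smulₛₗ, dh_smul, RingHom.id_apply]
        change dhA hg (ψ a) • dh 𝒩 hg n (v m) = ((Proj.map ψ hψ).appLE (Proj.basicOpen 𝒜 f)
          (Proj.basicOpen ℬ (ψ f)) (basicOpen_le ψ hψ)).hom (dhA hf a) • dh 𝒩 hg n (v m)
        rw [appLE_dhA ψ hψ hf a] }
  refine ⟨β, fun m => rfl, ?_⟩
  refine DehomBC.isBaseChange_of_dehom ψ.toRingHom v hbc β (dhA hf) (dhA hg) (fun a => ?_)
    (dhA_surjective hg) (dh ℳ hf n) (dh 𝒩 hg n) (dh_smul ℳ hf n) (dh_smul 𝒩 hg n)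
    (dh_surjective ℳ hf n) (dh_surjective 𝒩 hg n) (fun m => ?_) (fun x hx => ?_)
  · exact appLE_dhA ψ hψ hf a
  · exact secMap_dh ℳ 𝒩 ψ hψ v hv hf n m
  · obtain ⟨x', hx'⟩ := exists_of_dh_eq_zero 𝒩 hg n x hx
    exact ⟨ψ f, x', dhA_self hg, hx'⟩

end Groth.Agent.Helper1.GMH
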