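import Mathlib
import Groth.Prelude.Def_RelProj3
import Groth.Agent.Helper1.GM9

/-!
# Base change for `M(n)~` along a homomorphism of graded rings, degree-one generation: the theorem
-/

set_option autoImplicit false
set_option linter.unusedSectionVars false
set_option linter.style.haveILetI false

namespace Groth.Agent.Helper1.GMH

open CategoryTheory AlgebraicGeometry TopologicalSpace Opposite
open scoped HomogeneousIdeal

universe u

variable {A σ : Type u} [CommRing A] [SetLike σ A] [AddSubgroupClass σ A] {𝒜 : ℕ → σ} [GradedRing 𝒜]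
variable {M τ : Type u} [AddCommGroup M] [Module A M] [SetLike τ M] [AddSubgroupClass τ M]
  (ℳ : ℕ → τ) [SetLike.GradedSMul 𝒜 ℳ] [DirectSum.Decomposition ℳ]
variable {B σ' : Type u} [CommRing B] [SetLike σ' B] [AddSubgroupClass σ' B] {ℬ : ℕ → σ'}
  [GradedRing ℬ]
variable {N τ' : Type u} [AddCommGroup N] [Module B N] [SetLike τ' N] [AddSubgroupClass τ' N]
  (𝒩 : ℕ → τ') [SetLike.GradedSMul ℬ 𝒩] [DirectSum.Decomposition 𝒩]
variable (ψ : 𝒜 →+*ᵍ ℬ) (hψ : ℬ₊ ≤ (𝒜₊).map ψ) (v : M →ₛₗ[ψ.toRingHom] N)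
  (hv : ∀ (i : ℕ) (m : M), m ∈ ℳ i → v m ∈ 𝒩 i)

include hψ in
/-- every point of `Proj ℬ` lies in some `D₊(ψ f)`, `f` of degree one -/
lemma exists_degOne_notMem (hgen : (𝒜₊).toIdeal = Ideal.span (𝒜 1 : Set A))
    (y : ProjectiveSpectrum ℬ) : ∃ f ∈ 𝒜 1, ψ f ∉ y.asHomogeneousIdeal := by
  by_contra hcon
  push Not at hcon
  apply y.not_irrelevant_le
  intro b hb
  have h1 : b ∈ Ideal.map ψ (𝒜₊).toIdeal := hψ hb
  rw [hgen, Ideal.map_span] at h1
  refine (Ideal.span_le (I := y.asHomogeneousIdeal.toIdeal)).2 ?_ h1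
  rintro _ ⟨a, ha, rfl⟩
  exact hcon a ha

/-- **`Φ^*(M(n)~) ⟶ N(n)~` is an isomorphism for `N = M ⊗_A B`, `A₊` generated in degree one** -/
theorem isIso_adjoint_comap (hgen : (𝒜₊).toIdeal = Ideal.span (𝒜 1 : Set A))
    (hbc : ∀ (Q : Type u) [AddCommGroup Q] [Module B Q] (w : M →ₛₗ[ψ.toRingHom] Q),
      ∃! g : N →ₗ[B] Q, ∀ m : M, g (v m) = w m) (n : ℤ) :
    IsIso (((Scheme.Modules.pullbackPushforwardAdjunction (Proj.map ψ hψ)).homEquiv _ _).symm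
      (GrMod.comap ψ hψ v hv n)) := by
  haveI := TRT.isQuasicoherent_tilde 𝒜 ℳ n
  haveI := TRT.isQuasicoherent_tilde ℬ 𝒩 n
  apply PBIso.isIso_adjoint_of_isBaseChange
  intro y
  obtain ⟨f, hf, hfy⟩ := exists_degOne_notMem ψ hψ hgen y
  exact ⟨Proj.basicOpen 𝒜 f, Proj.basicOpen ℬ (ψ f), basicOpen_le ψ hψ,
    Proj.isAffineOpen_basicOpen 𝒜 f hf Nat.one_pos,
    Proj.isAffineOpen_basicOpen ℬ (ψ f) (ψ.map_mem hf) Nat.one_pos,
    (ProjectiveSpectrum.mem_basicOpen ℬ (ψ f) y).2 hfy,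
    exists_isBaseChange_secMap ℳ 𝒩 ψ hψ v hv hf hbc n⟩

end Groth.Agent.Helper1.GMH
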