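import Mathlib
import Groth.Prelude.Def_RelProj3
import Groth.Agent.Helper1.TR5
import Groth.Agent.Helper1.RP6
import Groth.Agent.Helper1.GrT13
import Groth.Agent.Helper4.FTRestrict

/-!
# Finite type of `M~` under (TF), for gradings by additive subgroups and on a relative Proj
-/

set_option autoImplicit false
set_option linter.style.haveILetI false

namespace Groth.Agent.Helper1.TRT

open CategoryTheory CategoryTheory.Limits AlgebraicGeometry TopologicalSpace Opposite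
open Groth.Agent.Helper1.TRZ
open scoped HomogeneousIdeal

universe u

attribute [local instance] ULift.algebra'

section

variable {A σ : Type u} [CommRing A] [SetLike σ A] [AddSubgroupClass σ A] (𝒜 : ℕ → σ) [GradedRing 𝒜]
variable {M τ : Type u} [AddCommGroup M] [Module A M] [SetLike τ M] [AddSubgroupClass τ M] (ℳ : ℕ → τ)
  [SetLike.GradedSMul 𝒜 ℳ] [DirectSum.Decomposition ℳ]

/-- **`M~` is of finite type under (TF)** when `S₊` is finitely generated (gradings by additive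
subgroups) -/
theorem isFiniteType_tilde_of_TF (hfg : (𝒜₊).toIdeal.FG)
    (hTF : ∃ n : ℕ, (Submodule.span A (⋃ k ∈ Set.Ici n, (ℳ k : Set M))).FG) :
    SheafOfModules.IsFiniteType (R := (Proj 𝒜).ringCatSheaf) (GrMod.tilde 𝒜 ℳ 0) := by
  haveI := isQuasicoherent_tilde 𝒜 ℳ 0
  apply Groth.Agent.Lead.PerfLib.isFiniteType_of_locally
  intro x
  refine ⟨_, eZ 𝒜, inferInstance, range_eZ 𝒜 x, ?_⟩
  have hfg' : ((zGr 𝒜)₊).toIdeal.FG := by rw [irrelevant_zGr]; exact hfg
  haveI := Groth.Agent.Helper1.GrT.isFiniteType_tilde_of_TF (zGr 𝒜) (zGrM ℳ) hfg' hTF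
  exact Groth.Agent.Helper4.FTRestrict.SoM.isFiniteType_of_iso (R := (Proj (zGr 𝒜)).ringCatSheaf)
    (tildeRestrictIso 𝒜 ℳ 0).symm

end

section

variable {R A : Type u} [CommRing R] [CommRing A]
  {𝒜 : ℕ → AddSubgroup A} [GradedRing 𝒜]
  (f0 : R →+* 𝒜 0) (T : Finset A) (hT : (↑T : Set A) ⊆ (𝒜 1 : Set A))
  (hspan : ∀ x ∈ 𝒜 1, ∃ c : A → R, x = ∑ t ∈ T, ((f0 (c t) : 𝒜 0) : A) * t)
  (hgen : Subring.closure ((𝒜 0 : Set A) ∪ (𝒜 1 : Set A)) = ⊤)

include hT hspan hgen in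
/-- the irrelevant ideal of a ring generated in degree one by finitely many elements is finitely
generated -/
theorem irrelevant_fg : (𝒜₊).toIdeal.FG := by
  have h1 : (𝒜₊).toIdeal = Ideal.span (↑T : Set A) := by
    apply le_antisymm (RP.irrelevant_le_span f0 T hT hspan hgen)
    rw [Ideal.span_le]
    intro t ht
    exact HomogeneousIdeal.mem_irrelevant_of_mem 𝒜 Nat.one_pos (hT ht)
  rw [h1]
  exact ⟨T, rfl⟩

end

end Groth.Agent.Helper1.TRT

namespace Groth.Agent.Helper1.TRR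

open CategoryTheory CategoryTheory.Limits AlgebraicGeometry TopologicalSpace Opposite RelProj
open scoped HomogeneousIdeal

universe u

variable {Y P : Scheme.{u}} {𝒮 : QCGrAlg Y} {p : P ⟶ Y}
  {chart : ∀ (U : Y.Opens) (hU : IsAffineOpen U),
    (((p ⁻¹ᵁ U : P.Opens) : Scheme.{u}) ≅ Proj (𝒮.deg U hU))}

/-- the irrelevant ideals of `𝒮(U)` are finitely generated when `𝒮` is generated by `𝒮_1` of
finite type -/
theorem irrelevant_fg (hgen : 𝒮.IsGenDegOne) (hft : 𝒮.IsFTDeg 1) (U : Y.Opens)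
    (hU : IsAffineOpen U) : ((𝒮.deg U hU)₊).toIdeal.FG := by
  obtain ⟨T, hT, hspan⟩ := hft U hU
  exact TRT.irrelevant_fg (𝒮.strZero U hU).hom T hT hspan (hgen U hU)

variable {ℳ : GrModule 𝒮} {F : P.Modules}
  {lam : ∀ (U : Y.Opens) (hU : IsAffineOpen U),
    F ⟶ (Scheme.Modules.pushforward (emb p chart U hU)).obj
      (GrMod.tilde (𝒮.deg U hU) (ℳ.deg U hU) 0)}

/-- **`ℳ~` is of finite type on a relative Proj under (TF)** -/
theorem isFiniteType_of_isRelTilde_of_isTF (hgen : 𝒮.IsGenDegOne) (hft : 𝒮.IsFTDeg 1)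
    (hTF : ℳ.IsTF) (hF : IsRelTilde 𝒮 p chart ℳ 0 F lam) :
    SheafOfModules.IsFiniteType (R := P.ringCatSheaf) F := by
  obtain ⟨n₀, hn₀⟩ := hTF
  haveI := isQuasicoherent_of_isRelTilde hF
  apply Groth.Agent.Lead.PerfLib.isFiniteType_of_locally
  intro x
  obtain ⟨U, hU, hx⟩ := exists_chart (chart := chart) x
  refine ⟨_, emb p chart U hU, inferInstance, hx, ?_⟩
  haveI := TRT.isFiniteType_tilde_of_TF (𝒮.deg U hU) (ℳ.deg U hU) (irrelevant_fg hgen hft U hU)
    ⟨n₀, hn₀ U hU⟩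
  exact Groth.Agent.Helper4.FTRestrict.SoM.isFiniteType_of_iso
    (R := (Proj (𝒮.deg U hU)).ringCatSheaf) (tildeChartIso hF U hU).symm

end Groth.Agent.Helper1.TRR
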