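import Mathlib
import Groth.Prelude.Def_RelProj3
import Groth.Agent.Helper1.GM11
import Groth.Agent.Helper1.TR0
import Groth.Agent.Helper1.TR5
import Groth.Agent.Helper1.TR8

/-!
# `M(n)~` and `O(n)` are of finite type in the Noetherian case (generators of any degrees)
-/

set_option autoImplicit false
set_option linter.unusedSectionVars false
set_option linter.style.haveILetI false

namespace Groth.Agent.Helper1.GMF

open CategoryTheory AlgebraicGeometry TopologicalSpace Opposite
open scoped HomogeneousIdeal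

universe u

section

variable {A σ : Type u} [CommRing A] [SetLike σ A] [AddSubgroupClass σ A] (𝒜 : ℕ → σ) [GradedRing 𝒜]
variable {M τ : Type u} [AddCommGroup M] [Module A M] [SetLike τ M] [AddSubgroupClass τ M]
  (ℳ : ℕ → τ) [SetLike.GradedSMul 𝒜 ℳ] [DirectSum.Decomposition ℳ]

/-- **`M(n)~` is of finite type** for a Noetherian graded module -/
theorem isFiniteType_tilde [IsNoetherian A M] (n : ℤ) :
    SheafOfModules.IsFiniteType (R := (Proj 𝒜).ringCatSheaf) (GrMod.tilde 𝒜 ℳ n) := by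
  haveI := TRT.isQuasicoherent_tilde 𝒜 ℳ n
  apply Groth.Agent.Helper4.FTGlue.isFiniteType_of_finite_sections
  intro x
  obtain ⟨d, g, hd, hg, hgx⟩ := GM.exists_pos_deg_notMem (𝒜 := 𝒜) x
  exact ⟨Proj.basicOpen 𝒜 g, Proj.isAffineOpen_basicOpen 𝒜 g hg hd, hgx,
    finite_sections 𝒜 ℳ n hd hg⟩

/-- **`O(n)` is of finite type** for a Noetherian graded ring -/
theorem isFiniteType_twist [IsNoetherianRing A] (n : ℤ) :
    SheafOfModules.IsFiniteType (R := (Proj 𝒜).ringCatSheaf) (GrTwist.twist 𝒜 n) := by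
  haveI := isFiniteType_tilde 𝒜 𝒜 n
  exact Groth.Agent.Helper4.FTRestrict.SoM.isFiniteType_of_iso (R := (Proj 𝒜).ringCatSheaf)
    (TR0.twistIsoTilde 𝒜 n).symm

end

open RelProj

variable {Y P : Scheme.{u}} {𝒮 : QCGrAlg Y} {p : P ⟶ Y}
  {chart : ∀ (U : Y.Opens) (hU : IsAffineOpen U),
    (((p ⁻¹ᵁ U : P.Opens) : Scheme.{u}) ≅ Proj (𝒮.deg U hU))}
  {n : ℤ} {L : P.Modules}
  {lam : ∀ (U : Y.Opens) (hU : IsAffineOpen U),
    L ⟶ (Scheme.Modules.pushforward (emb p chart U hU)).obj (GrTwist.twist (𝒮.deg U hU) n)}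

/-- **the relative twisting sheaf is of finite type** when the rings `𝒮(U)` are Noetherian -/
theorem isFiniteType_of_isRelTwist
    (hN : ∀ (U : Y.Opens) (_ : IsAffineOpen U), IsNoetherianRing (𝒮.presheaf.obj (op U)))
    (hL : IsRelTwist 𝒮 p chart n L lam) :
    SheafOfModules.IsFiniteType (R := P.ringCatSheaf) L := by
  haveI := TRR.isQuasicoherent_of_isRelTwist hL
  apply Groth.Agent.Lead.PerfLib.isFiniteType_of_locally
  intro x
  obtain ⟨U, hU, hx⟩ := TRR.exists_chart (chart := chart) x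
  refine ⟨_, emb p chart U hU, inferInstance, hx, ?_⟩
  haveI := hN U hU
  haveI := isFiniteType_twist (𝒮.deg U hU) n
  exact Groth.Agent.Helper4.FTRestrict.SoM.isFiniteType_of_iso
    (R := (Proj (𝒮.deg U hU)).ringCatSheaf) (TRR.twistChartIso hL U hU).symm

end Groth.Agent.Helper1.GMF
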