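import Mathlib
import Groth.Prelude.Def_RelProj2
import Groth.Agent.Helper1.SG4
import Groth.Agent.Helper1.SY14
import Groth.Agent.Helper1.SY17

/-!
# Graded symmetric algebras: the grading is the one by symmetric powers; maps induced by module maps
-/

set_option autoImplicit false
set_option linter.style.haveILetI false

namespace Groth.Agent.Helper1.SG

open CategoryTheory Limits AlgebraicGeometry TopologicalSpace Opposite RelSpec RelProj
  Groth.Agent.Helper1.SY
open scoped HomogeneousIdeal

universe u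

noncomputable section

variable {S : Scheme.{u}} {E : S.Modules} [E.IsQuasicoherent] {𝒮 : QCGrAlg S} {j : E ⟶ 𝒮.toModule}
  (hj : IsGrSymAlg E 𝒮 j)

include hj in
/-- symmetric powers land in the graded pieces -/
theorem symLift_mem_deg (U : S.Opens) (hU : IsAffineOpen U) {n : ℕ}
    {x : SymmetricAlgebra Γ(S, U) Γ(E, U)} (hx : x ∈ symPow Γ(S, U) Γ(E, U) n) :
    symLift 𝒮.toQCAlg j U x ∈ 𝒮.deg U hU n := by
  unfold symPow at hx
  induction hx using Submodule.pow_induction_on_left' with
  | algebraMap c =>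
    rw [symLift_algebraMap]
    exact 𝒮.str_mem U hU c
  | add x y i hx hy ihx ihy =>
    rw [map_add]
    exact add_mem ihx ihy
  | mem_mul m hm i x hx ih =>
    obtain ⟨m, rfl⟩ := hm
    rw [map_mul, symLift_ι]
    have h1 : (show 𝒮.presheaf.obj (op U) from (j.app U) m) ∈ 𝒮.deg U hU 1 := hj.2 U hU m
    have h2 := SetLike.mul_mem_graded h1 ih
    rwa [add_comm] at h2

include hj in
/-- the graded pieces are exactly the symmetric powers -/
theorem exists_of_mem_deg (U : S.Opens) (hU : IsAffineOpen U) {n : ℕ}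
    {y : 𝒮.presheaf.obj (op U)} (hy : y ∈ 𝒮.deg U hU n) :
    ∃ x ∈ symPow Γ(S, U) Γ(E, U) n, symLift 𝒮.toQCAlg j U x = y := by
  classical
  obtain ⟨x, rfl⟩ := (symLift_bijective hj.1 U hU).2 y
  refine ⟨(DirectSum.decompose (symPow Γ(S, U) Γ(E, U)) x n : SymmetricAlgebra Γ(S, U) Γ(E, U)),
    SetLike.coe_mem _, ?_⟩
  -- decompose `x` and compare components
  have hsum := DirectSum.sum_support_decompose (symPow Γ(S, U) Γ(E, U)) x
  have h1 : symLift 𝒮.toQCAlg j U x =
      ∑ i ∈ (DirectSum.decompose (symPow Γ(S, U) Γ(E, U)) x).support,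
        symLift 𝒮.toQCAlg j U
          (DirectSum.decompose (symPow Γ(S, U) Γ(E, U)) x i : SymmetricAlgebra Γ(S, U) Γ(E, U)) := by
    conv_lhs => rw [← hsum]
    rw [map_sum]
  have h2 : ∀ i, symLift 𝒮.toQCAlg j U
      (DirectSum.decompose (symPow Γ(S, U) Γ(E, U)) x i : SymmetricAlgebra Γ(S, U) Γ(E, U)) ∈
        𝒮.deg U hU i := fun i => symLift_mem_deg hj U hU (SetLike.coe_mem _)
  -- the `n`-th component of the left side
  have h3 : (DirectSum.decompose (𝒮.deg U hU) (symLift 𝒮.toQCAlg j U x) n :
      𝒮.presheaf.obj (op U)) = symLift 𝒮.toQCAlg j U x :=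
    DirectSum.decompose_of_mem_same _ hy
  symm
  calc symLift 𝒮.toQCAlg j U x
      = (DirectSum.decompose (𝒮.deg U hU) (symLift 𝒮.toQCAlg j U x) n :
          𝒮.presheaf.obj (op U)) := h3.symm
    _ = ∑ i ∈ (DirectSum.decompose (symPow Γ(S, U) Γ(E, U)) x).support,
          (DirectSum.decompose (𝒮.deg U hU) (symLift 𝒮.toQCAlg j U
            (DirectSum.decompose (symPow Γ(S, U) Γ(E, U)) x i :
              SymmetricAlgebra Γ(S, U) Γ(E, U))) n : 𝒮.presheaf.obj (op U)) := by
        conv_lhs => rw [h1]
        rw [DirectSum.decompose_sum, DFinsupp.finsetSum_apply, AddSubmonoidClass.coe_finsetSum]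
    _ = symLift 𝒮.toQCAlg j U
          (DirectSum.decompose (symPow Γ(S, U) Γ(E, U)) x n :
            SymmetricAlgebra Γ(S, U) Γ(E, U)) := by
        rw [Finset.sum_eq_single n]
        · exact DirectSum.decompose_of_mem_same _ (h2 n)
        · intro i _ hin
          exact DirectSum.decompose_of_mem_ne _ (h2 i) hin
        · intro hn
          rw [DFinsupp.notMem_support_iff] at hn
          rw [hn]
          simp

include hj in
theorem isGenDegOne : 𝒮.IsGenDegOne := by
  intro U hU
  rw [eq_top_iff]
  intro y _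
  obtain ⟨x, rfl⟩ := (symLift_bijective hj.1 U hU).2 y
  induction x using SymmetricAlgebra.induction with
  | algebraMap c =>
    rw [symLift_algebraMap]
    exact Subring.subset_closure (Or.inl (𝒮.str_mem U hU c))
  | ι m =>
    rw [symLift_ι]
    exact Subring.subset_closure (Or.inr (hj.2 U hU m))
  | mul a b ha hb =>
    rw [map_mul]
    exact Subring.mul_mem _ (ha trivial) (hb trivial)
  | add a b ha hb =>
    rw [map_add]
    exact Subring.add_mem _ (ha trivial) (hb trivial)

end

end Groth.Agent.Helper1.SG
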