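import Mathlib
import Groth.Agent.Helper1.GR18
import Groth.Agent.Helper4.SN338
import Groth.Prelude.Def_GrassD

/-!
# Grassmannians, part 19: the universal property of the Grassmannian of a free module over an
affine base, in the form of sections and in the form `Grass.IsGrass`
-/

set_option autoImplicit false
set_option linter.style.haveILetI false
set_option linter.unusedSectionVars false

namespace Groth.Agent.Helper1.GR

open CategoryTheory Limits AlgebraicGeometry TopologicalSpace Opposite Matrix
  HomogeneousLocalization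
open Groth.Agent.Helper4.GenLoc Groth.Agent.Helper4.StalkExact Groth.Agent.Helper1.PUP
  Groth.Agent.Helper4.PullSec Groth.Agent.Helper4.PullUnit

universe u

variable {X : Scheme.{u}} (k : Type u) [CommRing k] (d N : ℕ)

/-- **uniqueness** -/
theorem Gr_hom_ext (h h' : X ⟶ Gr k d N) (hq : h ≫ GrToSpec k d N = h' ≫ GrToSpec k d N)
    (τ : (Scheme.Modules.pullback h).obj (UQ k d N) ≅ (Scheme.Modules.pullback h').obj (UQ k d N))
    (hτ : ∀ j, pullSec h (uG k d N j) ≫ τ.hom = pullSec h' (uG k d N j)) : h = h' := by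
  have hcov : ⨆ a : Idx d N, h ⁻¹ᵁ DG k d N a = ⊤ := by
    rw [eq_top_iff]
    intro x _
    have hx : h x ∈ (⨆ a : Idx d N, DG k d N a) := by
      rw [hcovD]; trivial
    obtain ⟨a, ha⟩ := Opens.mem_iSup.mp hx
    exact Opens.mem_iSup.mpr ⟨a, ha⟩
  apply (X.openCoverOfIsOpenCover _ hcov).hom_ext
  intro a
  refine ι_comp_eq_of_res_app_eq (gr k d N) (P k d N) (P_mem k d N) h h' hq
    (fun e T hC hr => away_gen_of_adjoin (gr k d N) (P k d N) (P_mem k d N)
      (adjoin_range_P k d N) e T hC hr) a le_rfl (preimage_le h h' τ hτ a) ?_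
  intro l
  exact res_cR_eq h h' τ hτ a l le_rfl (preimage_le h h' τ hτ a)

/-- **existence** -/
theorem Gr_exists_hom (q : X ⟶ Spec (CommRingCat.of k)) (L : X.Modules)
    (hL : FlatMod.IsFinLocFreeOfRank d L) (s : Fin N → (Coh.structureModule X ⟶ L))
    [Epi (frameMap s)] :
    ∃ (h : X ⟶ Gr k d N) (_ : h ≫ GrToSpec k d N = q)
      (τ : (Scheme.Modules.pullback h).obj (UQ k d N) ≅ L),
      ∀ j, pullSec h (uG k d N j) ≫ τ.hom = s j := by
  have hσ := frameData_canonical d s
  have hcov := iSup_frW d s hL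
  obtain ⟨τ, hτ⟩ := hσ.exists_iso_pullback q hcov
  exact ⟨hσ.hG q hcov, hσ.hG_toSpec q hcov, τ, hτ⟩

section IsGrass

variable {k d N}

/-- morphisms out of the pullback of a free module are determined on the basis sections -/
theorem hom_ext_pullback_free {T Y : Scheme.{u}} (g : T ⟶ Y) {L : T.Modules}
    (φ φ' : (Scheme.Modules.pullback g).obj (FlatMod.freeMod Y N) ⟶ L)
    (h : ∀ j, pullSec g (inj Y N j) ≫ φ = pullSec g (inj Y N j) ≫ φ') : φ = φ' := by
  rw [← cancel_epi (Groth.Agent.Helper8.TildeBC.pullbackFreeIso g N).inv]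
  apply Sigma.hom_ext
  intro j
  have h1 := inj_pullbackFreeIso_inv g (d := N) j
  unfold inj at h1
  have h2 := h j
  unfold pullSec at h2
  simp only [Category.assoc] at h2
  rw [reassoc_of% h1, reassoc_of% h1]
  exact h2

theorem pullSec_inj {T Y : Scheme.{u}} (g : T ⟶ Y) (j : Fin N) :
    pullSec g (inj Y N j) = inj T N j ≫ (Groth.Agent.Helper8.TildeBC.pullbackFreeIso g N).inv :=
  (inj_pullbackFreeIso_inv g j).symm

variable (k d N)

/-- the universal quotient map, from the pullback of the free module on the base -/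
noncomputable def qG : (Scheme.Modules.pullback (GrToSpec k d N)).obj
    (FlatMod.freeMod (Spec (CommRingCat.of k)) N) ⟶ UQ k d N :=
  (Groth.Agent.Helper8.TildeBC.pullbackFreeIso (GrToSpec k d N) N).hom ≫ πU k d N

theorem pullSec_inj_qG (j : Fin N) :
    pullSec (GrToSpec k d N) (inj _ N j) ≫ qG k d N = uG k d N j := by
  unfold qG
  rw [pullSec_inj, Category.assoc, Iso.inv_hom_id_assoc]
  rfl

variable {k d N}

theorem pullSec_quotBC {T : Scheme.{u}} {g : T ⟶ Spec (CommRingCat.of k)} (h : T ⟶ Gr k d N)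
    (hg : h ≫ GrToSpec k d N = g) (j : Fin N) :
    pullSec g (inj _ N j) ≫ Grass.quotBC hg (qG k d N) = pullSec h (uG k d N j) := by
  subst hg
  unfold Grass.quotBC
  have h0 : (Scheme.Modules.pullbackCongr (rfl : h ≫ GrToSpec k d N = h ≫ GrToSpec k d N)).inv.app
      (FlatMod.freeMod (Spec (CommRingCat.of k)) N) = 𝟙 _ := by
    simp [Scheme.Modules.pullbackCongr]
  rw [h0, Category.id_comp, ← Category.assoc, Groth.Agent.Helper4.SN338.pullSec_comp,
    ← Groth.Agent.Helper4.SN338.pullSec_map, pullSec_inj_qG]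

variable (k d N)

/-- **the Grassmannian of rank `d` quotients of the free module of rank `N` over `Spec k`** -/
theorem isGrass_Gr :
    Grass.IsGrass (GrToSpec k d N) (FlatMod.freeMod (Spec (CommRingCat.of k)) N) d (UQ k d N)
      (qG k d N) where
  rank := isFinLocFreeOfRank_UQ k d N
  epi := by unfold qG; infer_instance
  univ T g L hL s hs := by
    -- the sections of `L`
    let σ : Fin N → (Coh.structureModule T ⟶ L) := fun j => pullSec g (inj _ N j) ≫ s
    have hfm : frameMap σ = (Groth.Agent.Helper8.TildeBC.pullbackFreeIso g N).inv ≫ s := by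
      apply Sigma.hom_ext
      intro j
      have h1 := inj_frameMap σ j
      unfold inj at h1
      rw [h1]
      show pullSec g (inj _ N j) ≫ s = _
      rw [pullSec_inj, Category.assoc]
      rfl
    haveI : Epi (frameMap σ) := by rw [hfm]; infer_instance
    obtain ⟨h, hg, τ, hτ⟩ := Gr_exists_hom k d N g L hL σ
    refine ⟨h, ⟨hg, τ, ?_⟩, ?_⟩
    · apply hom_ext_pullback_free
      intro j
      rw [← Category.assoc, pullSec_quotBC h hg j, hτ j]
    · rintro h' ⟨hg', τ', hτ'⟩
      symm
      apply Gr_hom_ext k d N h h' (hg.trans hg'.symm) (τ ≪≫ τ'.symm)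
      intro j
      rw [Iso.trans_hom, Iso.symm_hom, ← Category.assoc, hτ j, Iso.comp_inv_eq,
        ← pullSec_quotBC h' hg' j, Category.assoc, hτ']

end IsGrass

end Groth.Agent.Helper1.GR
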