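import Mathlib
import Groth.Agent.Helper1.RPP2
import Groth.Prelude.Def_CohB1

/-!
# Grassmannians, part 20: `Proj` of a graded algebra generated by `m + 1` elements of degree one
is a closed subscheme of `P^m`
-/

set_option autoImplicit false
set_option linter.style.haveILetI false
set_option linter.unusedSectionVars false

namespace Groth.Agent.Helper1.GR

open CategoryTheory Limits AlgebraicGeometry HomogeneousLocalization MvPolynomial
open scoped HomogeneousIdeal

universe u

attribute [local instance] MvPolynomial.gradedAlgebra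

variable {R A : Type u} [CommRing R] [CommRing A] [Algebra R A] (𝒜 : ℕ → Submodule R A)
  [GradedAlgebra 𝒜] {ι : Type} (t : ι → A) (ht : ∀ i, t i ∈ 𝒜 1)

include ht in
theorem aeval_mem {n : ℕ} {p : MvPolynomial ι R} (hp : p ∈ homogeneousSubmodule ι R n) :
    aeval t p ∈ 𝒜 n := by
  classical
  have hp' : p.IsHomogeneous n := hp
  rw [aeval_def, eval₂_eq]
  refine Submodule.sum_mem _ fun m hm => ?_
  have h1 : algebraMap R A (coeff m p) ∈ 𝒜 0 := SetLike.algebraMap_mem_graded 𝒜 _
  have h2 : ∏ i ∈ m.support, t i ^ m i ∈ 𝒜 (∑ i ∈ m.support, m i • 1) :=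
    SetLike.prod_pow_mem_graded 𝒜 (fun _ => 1) t (fun i => m i) (fun i _ => ht i)
  have h3 : (∑ i ∈ m.support, m i • 1) = n := by
    rw [hp'.degree_eq_sum_deg_support hm]
    simp
  rw [h3] at h2
  have := SetLike.mul_mem_graded h1 h2
  rwa [zero_add] at this

/-- evaluation at the generators, as a graded ring homomorphism -/
noncomputable def aevalGr : (homogeneousSubmodule ι R) →+*ᵍ 𝒜 where
  toRingHom := (aeval t : MvPolynomial ι R →ₐ[R] A).toRingHom
  map_mem := fun hp => aeval_mem 𝒜 t ht hp

theorem aevalGr_apply (p : MvPolynomial ι R) : aevalGr 𝒜 t ht p = aeval t p := rfl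

include ht in
theorem aeval_surj (hgen : Algebra.adjoin R (Set.range t) = ⊤) (n : ℕ) (x : A) (hx : x ∈ 𝒜 n) :
    ∃ p ∈ homogeneousSubmodule ι R n, aeval t p = x := by
  have hx' : x ∈ (aeval t : MvPolynomial ι R →ₐ[R] A).range := by
    rw [← Algebra.adjoin_range_eq_range_aeval, hgen]
    trivial
  obtain ⟨p, rfl⟩ := hx'
  change aeval t p ∈ 𝒜 n at hx
  refine ⟨homogeneousComponent n p, homogeneousComponent_isHomogeneous n p, ?_⟩
  -- compare the components of degree `n`
  have h1 : aeval t p = ∑ i ∈ Finset.range (p.totalDegree + 1),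
      aeval t (homogeneousComponent i p) := by
    conv_lhs => rw [← sum_homogeneousComponent p, map_sum]
  have h2 : (DirectSum.decompose 𝒜 (aeval t p) n : A) = aeval t p :=
    DirectSum.decompose_of_mem_same 𝒜 hx
  show aeval t (homogeneousComponent n p) = aeval t p
  rw [← h2, h1, DirectSum.decompose_sum, DirectSum.sum_apply, AddSubmonoidClass.coe_finset_sum]
  by_cases hn : n ∈ Finset.range (p.totalDegree + 1)
  · rw [Finset.sum_eq_single n]
    · exact (DirectSum.decompose_of_mem_same 𝒜
        (aeval_mem 𝒜 t ht (homogeneousComponent_isHomogeneous n p))).symm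
    · intro i _ hi
      exact DirectSum.decompose_of_mem_ne 𝒜
        (aeval_mem 𝒜 t ht (homogeneousComponent_isHomogeneous i p)) hi
    · intro h
      exact absurd hn h
  · have h3 : homogeneousComponent n p = 0 := by
      apply homogeneousComponent_eq_zero
      simp only [Finset.mem_range, not_lt] at hn
      omega
    rw [h3, map_zero]
    symm
    apply Finset.sum_eq_zero
    intro i hi
    have hi' : i ≠ n := fun h => hn (h ▸ hi)
    exact DirectSum.decompose_of_mem_ne 𝒜
      (aeval_mem 𝒜 t ht (homogeneousComponent_isHomogeneous i p)) hi'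

include ht in
theorem irrelevant_le_map_aevalGr (hgen : Algebra.adjoin R (Set.range t) = ⊤) :
    𝒜₊ ≤ ((homogeneousSubmodule ι R)₊).map (aevalGr 𝒜 t ht) := by
  classical
  intro x hx
  have hx0 : (DirectSum.decompose 𝒜 x 0 : A) = 0 := hx
  rw [← DirectSum.sum_support_decompose 𝒜 x]
  refine Ideal.sum_mem _ fun n hn => ?_
  rcases Nat.eq_zero_or_pos n with h0 | hpos
  · subst h0
    rw [hx0]
    exact Ideal.zero_mem _
  · obtain ⟨p, hp, hpx⟩ := aeval_surj 𝒜 t ht hgen n _ (SetLike.coe_mem (DirectSum.decompose 𝒜 x n))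
    have h3 : p ∈ ((homogeneousSubmodule ι R)₊).toIdeal :=
      HomogeneousIdeal.mem_irrelevant_of_mem _ hpos hp
    have h4 := Ideal.mem_map_of_mem (aevalGr 𝒜 t ht) h3
    rw [aevalGr_apply, hpx] at h4
    exact h4

/-- the embedding into `Proj` of the polynomial ring -/
noncomputable def projEmb (hgen : Algebra.adjoin R (Set.range t) = ⊤) :
    Proj 𝒜 ⟶ Proj (homogeneousSubmodule ι R) :=
  Proj.map (aevalGr 𝒜 t ht) (irrelevant_le_map_aevalGr 𝒜 t ht hgen)

instance isClosedImmersion_projEmb (hgen : Algebra.adjoin R (Set.range t) = ⊤) :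
    IsClosedImmersion (projEmb 𝒜 t ht hgen) :=
  Groth.Agent.Helper1.RPP.isClosedImmersion_map (aevalGr 𝒜 t ht)
    (fun n _ x hx => aeval_surj 𝒜 t ht hgen n x hx) _

theorem projEmb_toSpec (hgen : Algebra.adjoin R (Set.range t) = ⊤) :
    projEmb 𝒜 t ht hgen ≫ Proj.toSpecZero (homogeneousSubmodule ι R) ≫
      Spec.map (CommRingCat.ofHom (algebraMap R (homogeneousSubmodule ι R 0))) =
    Proj.toSpecZero 𝒜 ≫ Spec.map (CommRingCat.ofHom (algebraMap R (𝒜 0))) := by
  unfold projEmb
  rw [← Category.assoc, Groth.Agent.Helper1.RP.map_toSpecZero, Category.assoc, ← Spec.map_comp]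
  congr 2
  ext r
  show aeval t (algebraMap R (MvPolynomial ι R) r) = algebraMap R A r
  rw [AlgHom.commutes]

end Groth.Agent.Helper1.GR
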