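import Mathlib
import Groth.Agent.Helper1.GR19
import Groth.Agent.Helper1.GR20

/-!
# Grassmannians, part 21: the Plücker embedding into `P^(C(N,d)-1)`
-/

set_option autoImplicit false
set_option linter.style.haveILetI false
set_option linter.unusedSectionVars false

namespace Groth.Agent.Helper1.GR

open CategoryTheory Limits AlgebraicGeometry Matrix MvPolynomial
  Groth.Agent.Helper3.GradedQuot

universe u

attribute [local instance] MvPolynomial.gradedAlgebra

section Algebra

variable {d N : ℕ} {Γ : Type*} [CommRing Γ]

theorem minor_comp_perm (B : Matrix (Fin d) (Fin N) Γ) (a : Fin d → Fin N)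
    (σ : Equiv.Perm (Fin d)) :
    minor B (a ∘ σ) = (Equiv.Perm.sign σ : ℤ) * minor B a := by
  unfold minor
  have h : B.submatrix id (a ∘ σ) = (B.submatrix id a).submatrix id σ := rfl
  rw [h, det_permute']

end Algebra

variable (k : Type u) [CommRing k] (d N : ℕ)

/-- the Plücker coordinates are alternating -/
theorem P_comp_perm (a : Idx d N) (σ : Equiv.Perm (Fin d)) :
    P k d N (a ∘ σ) = ((Equiv.Perm.sign σ : ℤ) : PA k d N) * P k d N a := by
  unfold P
  have h1 : (((Equiv.Perm.sign σ : ℤ) : PA k d N)) =
      Ideal.Quotient.mk (J k d N) (((Equiv.Perm.sign σ : ℤ) : Rp k d N)) := by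
    rw [map_intCast]
  rw [h1, ← map_mul, ← sub_eq_zero, ← map_sub]
  apply Ideal.Quotient.eq_zero_iff_mem.2
  refine mem_J k d N (n := 1) ?_ ?_
  · apply IsHomogeneous.sub (isHomogeneous_X k _)
    have : (((Equiv.Perm.sign σ : ℤ) : Rp k d N)) = C (((Equiv.Perm.sign σ : ℤ) : k)) := by
      rw [map_intCast]
    rw [this]
    have h2 := (isHomogeneous_C (Idx d N) (((Equiv.Perm.sign σ : ℤ) : k))).mul
      (isHomogeneous_X k a)
    rwa [zero_add] at h2
  · simp only [ψ, map_sub, map_mul, aeval_X, map_intCast]
    rw [sub_eq_zero]
    exact minor_comp_perm (Xmat k d N) a σ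

/-- the index set of the Plücker embedding: subsets of `Fin N` with `d` elements -/
abbrev Sub := {S : Finset (Fin N) // S.card = d}

/-- the increasing enumeration of a subset -/
noncomputable def ordS (S : Sub d N) : Idx d N := fun i => S.1.orderEmbOfFin S.2 i

theorem card_Sub : Fintype.card (Sub d N) = N.choose d := by
  rw [Fintype.card_subtype]
  have : (Finset.univ.filter fun S : Finset (Fin N) => S.card = d) =
      Finset.powersetCard d Finset.univ := by
    ext S
    simp [Finset.mem_powersetCard]
  rw [this, Finset.card_powersetCard, Finset.card_univ, Fintype.card_fin]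

/-- every Plücker coordinate is zero or, up to sign, one attached to a subset -/
theorem P_mem_adjoin (b : Idx d N) :
    P k d N b ∈ Algebra.adjoin k (Set.range fun S : Sub d N => P k d N (ordS d N S)) := by
  classical
  by_cases hb : Function.Injective b
  · let S : Sub d N := ⟨Finset.univ.image b, by
      rw [Finset.card_image_of_injective _ hb, Finset.card_univ, Fintype.card_fin]⟩
    have hr : ∀ i, ∃ i', ordS d N S i' = b i := by
      intro i
      have h1 : b i ∈ (S.1 : Set (Fin N)) := by
        simp [S]
      rw [← Finset.range_orderEmbOfFin S.1 S.2] at h1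
      exact h1
    choose f hf using hr
    have hfi : Function.Injective f := by
      intro i i' h
      apply hb
      rw [← hf i, ← hf i', h]
    let σ : Equiv.Perm (Fin d) := Equiv.ofBijective f (Finite.injective_iff_bijective.1 hfi)
    have hbσ : b = ordS d N S ∘ σ := by
      funext i
      exact (hf i).symm
    rw [hbσ, P_comp_perm]
    refine Subalgebra.mul_mem _ ?_ (Algebra.subset_adjoin ⟨S, rfl⟩)
    exact Subalgebra.intCast_mem _ _
  · have : ∃ i l, i ≠ l ∧ b i = b l := by
      by_contra hcon
      push Not at hcon
      exact hb fun i l h => by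
        by_contra hne
        exact hcon i l hne h
    obtain ⟨i, l, hil, h⟩ := this
    rw [P_eq_zero_of_eq k d N b hil h]
    exact Subalgebra.zero_mem _

theorem adjoin_range_P_ordS :
    Algebra.adjoin k (Set.range fun S : Sub d N => P k d N (ordS d N S)) = ⊤ := by
  rw [eq_top_iff, ← adjoin_range_P k d N]
  apply Algebra.adjoin_le
  rintro _ ⟨b, rfl⟩
  exact P_mem_adjoin k d N b

end Groth.Agent.Helper1.GR
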