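import Mathlib
import Groth.Agent.Helper1.GR21
import Groth.Agent.Helper1.Fin11
import Groth.Agent.Helper4.SN213

/-!
# Grassmannians, part 22: the Plücker embedding over `Spec k`, as a closed immersion into
`CohB1.ProjSpaceOver (C(N,d) - 1) (Spec k)`
-/

set_option autoImplicit false
set_option linter.style.haveILetI false
set_option linter.unusedSectionVars false

namespace Groth.Agent.Helper1.GR

open CategoryTheory Limits AlgebraicGeometry Matrix MvPolynomial
  Groth.Agent.Helper3.GradedQuot Groth.Agent.Helper1.Fin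

universe u

variable (k : Type u) [CommRing k] (d N : ℕ)

instance isIso_κκ (m : ℕ) : IsIso (κκ k m) := by
  unfold κκ
  exact IsIso.comp_isIso' inferInstance (Groth.Agent.Helper4.SN213.isIso_ββ (φ₀ k) m)

/-- the Plücker embedding of the Grassmannian -/
theorem exists_closedImmersion_Gr (hdN : d ≤ N) :
    ∃ c : Gr k d N ⟶ CohB1.ProjSpaceOver (N.choose d - 1) (Spec (CommRingCat.of k)),
      IsClosedImmersion c ∧
        c ≫ CohB1.ProjSpaceOver.toBase (N.choose d - 1) (Spec (CommRingCat.of k)) =
          GrToSpec k d N := by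
  have hpos : 0 < N.choose d := Nat.choose_pos hdN
  have hcard : Fintype.card (Fin (N.choose d - 1 + 1)) = Fintype.card (Sub d N) := by
    rw [Fintype.card_fin, card_Sub, Nat.sub_add_cancel hpos]
  let e : Fin (N.choose d - 1 + 1) ≃ Sub d N := Fintype.equivOfCardEq hcard
  let t : Fin (N.choose d - 1 + 1) → PA k d N := fun i => P k d N (ordS d N (e i))
  have ht : ∀ i, t i ∈ gr k d N 1 := fun i => P_mem k d N _
  have hgen : Algebra.adjoin k (Set.range t) = ⊤ := by
    rw [← adjoin_range_P_ordS k d N]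
    congr 1
    ext x
    constructor
    · rintro ⟨i, rfl⟩
      exact ⟨e i, rfl⟩
    · rintro ⟨S, rfl⟩
      exact ⟨e.symm S, by simp [t]⟩
  let c₀ : Gr k d N ⟶ CohB1.ProjSpace (N.choose d - 1) k := projEmb (gr k d N) t ht hgen
  haveI : IsClosedImmersion c₀ := isClosedImmersion_projEmb (gr k d N) t ht hgen
  have hc₀ : c₀ ≫ CohB1.ProjSpace.toSpec (N.choose d - 1) k = GrToSpec k d N :=
    projEmb_toSpec (gr k d N) t ht hgen
  refine ⟨c₀ ≫ inv (κκ k (N.choose d - 1)), inferInstance, ?_⟩
  rw [Category.assoc, ← κκ_toSpec k (N.choose d - 1), IsIso.inv_hom_id_assoc, hc₀]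

end Groth.Agent.Helper1.GR
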