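import Mathlib

/-!
# Grassmannian, part 23: morphisms of schemes from natural maps on affine points
-/

set_option autoImplicit false
set_option linter.style.haveILetI false

namespace Groth.Agent.Helper1.GR

open CategoryTheory Limits AlgebraicGeometry

universe u

section Raw

variable {X Y : Scheme.{u}}

/-- two morphisms agreeing on all affine points agree -/
theorem hom_ext_of_affine_points (f f' : X ⟶ Y)
    (h : ∀ (C : CommRingCat.{u}) (g : Spec C ⟶ X), g ≫ f = g ≫ f') : f = f' :=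
  Scheme.Cover.hom_ext X.affineOpenCover.openCover f f' (fun i => h _ _)

/-- a natural family of maps on affine points is induced by a morphism -/
theorem exists_hom_of_affine_points
    (T : ∀ (C : CommRingCat.{u}), (Spec C ⟶ X) → (Spec C ⟶ Y))
    (hT : ∀ (C D : CommRingCat.{u}) (ψ : C ⟶ D) (g : Spec C ⟶ X),
      T D (Spec.map ψ ≫ g) = Spec.map ψ ≫ T C g) :
    ∃ f : X ⟶ Y, ∀ (C : CommRingCat.{u}) (g : Spec C ⟶ X), g ≫ f = T C g := by
  -- naturality for arbitrary morphisms between affine schemes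
  have hT' : ∀ (C D : CommRingCat.{u}) (w : Spec D ⟶ Spec C) (g : Spec C ⟶ X),
      T D (w ≫ g) = w ≫ T C g := by
    intro C D w g
    have := hT C D (Spec.preimage w) g
    rwa [Spec.map_preimage] at this
  let 𝒰 := X.affineOpenCover
  have hcompat : ∀ i j, pullback.fst (𝒰.openCover.f i) (𝒰.openCover.f j) ≫ T _ (𝒰.f i) =
      pullback.snd (𝒰.openCover.f i) (𝒰.openCover.f j) ≫ T _ (𝒰.f j) := by
    intro i j
    apply Scheme.Cover.hom_ext
      (pullback (𝒰.openCover.f i) (𝒰.openCover.f j)).affineOpenCover.openCover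
    intro k
    let w := (pullback (𝒰.openCover.f i) (𝒰.openCover.f j)).affineOpenCover.f k
    change w ≫ pullback.fst _ _ ≫ T _ (𝒰.f i) = w ≫ pullback.snd _ _ ≫ T _ (𝒰.f j)
    have h1 := hT' _ _ (w ≫ pullback.fst (𝒰.openCover.f i) (𝒰.openCover.f j)) (𝒰.f i)
    have h2 := hT' _ _ (w ≫ pullback.snd (𝒰.openCover.f i) (𝒰.openCover.f j)) (𝒰.f j)
    have h3 : (w ≫ pullback.fst (𝒰.openCover.f i) (𝒰.openCover.f j)) ≫ 𝒰.f i =
        (w ≫ pullback.snd (𝒰.openCover.f i) (𝒰.openCover.f j)) ≫ 𝒰.f j := by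
      rw [Category.assoc, Category.assoc]
      congr 1
      exact pullback.condition
    exact (Category.assoc _ _ _).symm.trans (h1.symm.trans ((congrArg (T _) h3).trans
      (h2.trans (Category.assoc _ _ _))))
  let f : X ⟶ Y := 𝒰.openCover.glueMorphisms (fun i => T _ (𝒰.f i)) hcompat
  have hf : ∀ i, 𝒰.f i ≫ f = T _ (𝒰.f i) := fun i =>
    𝒰.openCover.ι_glueMorphisms (fun i => T _ (𝒰.f i)) hcompat i
  refine ⟨f, fun C g => ?_⟩
  apply Scheme.Cover.hom_ext (𝒰.openCover.pullback₁ g)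
  intro i
  apply Scheme.Cover.hom_ext ((𝒰.openCover.pullback₁ g).X i).affineOpenCover.openCover
  intro k
  let w := ((𝒰.openCover.pullback₁ g).X i).affineOpenCover.f k
  change w ≫ pullback.fst g (𝒰.openCover.f i) ≫ g ≫ f =
    w ≫ pullback.fst g (𝒰.openCover.f i) ≫ T C g
  have h1 := hT' _ _ (w ≫ pullback.fst g (𝒰.openCover.f i)) g
  have h2 := hT' _ _ (w ≫ pullback.snd g (𝒰.openCover.f i)) (𝒰.f i)
  have hc : pullback.fst g (𝒰.openCover.f i) ≫ g = pullback.snd g (𝒰.openCover.f i) ≫ 𝒰.f i :=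
    pullback.condition
  have h3 : (w ≫ pullback.snd g (𝒰.openCover.f i)) ≫ 𝒰.f i =
      (w ≫ pullback.fst g (𝒰.openCover.f i)) ≫ g := by
    rw [Category.assoc, Category.assoc]
    congr 1
    exact hc.symm
  have h4 : w ≫ pullback.fst g (𝒰.openCover.f i) ≫ g ≫ f =
      (w ≫ pullback.snd g (𝒰.openCover.f i)) ≫ 𝒰.f i ≫ f := by
    have := congrArg (fun z => z ≫ f) h3
    simp only [Category.assoc] at this ⊢
    exact this.symm
  refine h4.trans ?_
  have h5 : (w ≫ pullback.snd g (𝒰.openCover.f i)) ≫ 𝒰.f i ≫ f =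
      (w ≫ pullback.snd g (𝒰.openCover.f i)) ≫ T _ (𝒰.f i) := congrArg _ (hf i)
  exact h5.trans (h2.symm.trans ((congrArg (T _) h3).trans (h1.trans (Category.assoc _ _ _))))

/-- **affine Yoneda**: mutually inverse natural maps on affine points give an isomorphism -/
theorem exists_iso_of_affine_points
    (T : ∀ (C : CommRingCat.{u}), (Spec C ⟶ X) → (Spec C ⟶ Y))
    (hT : ∀ (C D : CommRingCat.{u}) (ψ : C ⟶ D) (g : Spec C ⟶ X),
      T D (Spec.map ψ ≫ g) = Spec.map ψ ≫ T C g)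
    (T' : ∀ (C : CommRingCat.{u}), (Spec C ⟶ Y) → (Spec C ⟶ X))
    (hT' : ∀ (C D : CommRingCat.{u}) (ψ : C ⟶ D) (g : Spec C ⟶ Y),
      T' D (Spec.map ψ ≫ g) = Spec.map ψ ≫ T' C g)
    (h1 : ∀ C g, T' C (T C g) = g) (h2 : ∀ C g, T C (T' C g) = g) :
    ∃ e : X ≅ Y, ∀ (C : CommRingCat.{u}) (g : Spec C ⟶ X), g ≫ e.hom = T C g := by
  obtain ⟨f, hf⟩ := exists_hom_of_affine_points T hT
  obtain ⟨f', hf'⟩ := exists_hom_of_affine_points T' hT'
  refine ⟨⟨f, f', ?_, ?_⟩, hf⟩
  · apply hom_ext_of_affine_points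
    intro C g
    rw [← Category.assoc, hf, hf', h1, Category.comp_id]
  · apply hom_ext_of_affine_points
    intro C g
    rw [← Category.assoc, hf', hf, h2, Category.comp_id]

end Raw

end Groth.Agent.Helper1.GR
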