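import Mathlib
import Groth.Agent.Helper1.GR23

/-!
# Grassmannian, part 24: schemes over `Spec R` with the same functor of points on affine
`R`-schemes are isomorphic
-/

set_option autoImplicit false
set_option linter.style.haveILetI false

namespace Groth.Agent.Helper1.GR

open CategoryTheory Limits AlgebraicGeometry

universe u w

variable {R : Type u} [CommRing R]

/-- the affine `R`-scheme `Spec A` -/
noncomputable abbrev ptO (A : CommAlgCat.{u} R) : Over (Spec (CommRingCat.of R)) :=
  Over.mk (Spec.map (CommRingCat.ofHom (algebraMap R A)))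

/-- a description of the affine points of an `R`-scheme by a functor on `R`-algebras -/
structure PointsData (X : Over (Spec (CommRingCat.of R))) (F : CommAlgCat.{u} R ⥤ Type w) where
  /-- the bijections -/
  e : ∀ A : CommAlgCat.{u} R, (ptO A ⟶ X) ≃ F.obj A
  /-- naturality -/
  he : ∀ (A B : CommAlgCat.{u} R) (φ : A ⟶ B) (g : ptO A ⟶ X) (g' : ptO B ⟶ X),
      g'.left = Spec.map (CommRingCat.ofHom φ.hom.toRingHom) ≫ g.left →
        e B g' = F.map φ (e A g)

section Two

variable {X Y : Over (Spec (CommRingCat.of R))} {F : CommAlgCat.{u} R ⥤ Type w}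
  (dX : PointsData X F) (dY : PointsData Y F)

/-- transport of points -/
noncomputable def Tpt (A : CommAlgCat.{u} R) (x : ptO A ⟶ X) : ptO A ⟶ Y :=
  (dY.e A).symm (dX.e A x)

theorem Tpt_Tpt (A : CommAlgCat.{u} R) (x : ptO A ⟶ X) : Tpt dY dX A (Tpt dX dY A x) = x := by
  unfold Tpt
  simp

theorem spec_comp_hom (A B : CommAlgCat.{u} R) (φ : A ⟶ B) :
    Spec.map (CommRingCat.ofHom φ.hom.toRingHom) ≫ (ptO A).hom = (ptO B).hom := by
  change Spec.map _ ≫ Spec.map _ = Spec.map _
  rw [← Spec.map_comp]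
  congr 1
  ext r
  exact φ.hom.commutes r

theorem Tpt_natural (A B : CommAlgCat.{u} R) (φ : A ⟶ B) (x : ptO A ⟶ X) (x' : ptO B ⟶ X)
    (hx : x'.left = Spec.map (CommRingCat.ofHom φ.hom.toRingHom) ≫ x.left) :
    (Tpt dX dY B x').left = Spec.map (CommRingCat.ofHom φ.hom.toRingHom) ≫ (Tpt dX dY A x).left := by
  let y : ptO A ⟶ Y := Tpt dX dY A x
  have hw : (Spec.map (CommRingCat.ofHom φ.hom.toRingHom) ≫ y.left) ≫ Y.hom = (ptO B).hom := by
    rw [Category.assoc, Over.w y]
    exact spec_comp_hom A B φ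
  let y' : ptO B ⟶ Y := Over.homMk (Spec.map (CommRingCat.ofHom φ.hom.toRingHom) ≫ y.left) hw
  have h1 : dY.e B y' = F.map φ (dY.e A y) := dY.he A B φ y y' rfl
  have h2 : dX.e B x' = F.map φ (dX.e A x) := dX.he A B φ x x' hx
  have h3 : dY.e A y = dX.e A x := by
    change dY.e A ((dY.e A).symm (dX.e A x)) = _
    simp
  have h4 : Tpt dX dY B x' = y' := by
    unfold Tpt
    rw [Equiv.symm_apply_eq, h1, h3, h2]
  rw [h4]
  rfl

end Two

section Raw

variable (X : Over (Spec (CommRingCat.of R)))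

/-- the `R`-algebra attached to an affine point of an `R`-scheme -/
noncomputable def ptAlg {C : CommRingCat.{u}} (g : Spec C ⟶ X.left) : CommAlgCat.{u} R :=
  letI : Algebra R C := (Spec.preimage (g ≫ X.hom)).hom.toAlgebra
  CommAlgCat.of R C

theorem ptAlg_hom {C : CommRingCat.{u}} (g : Spec C ⟶ X.left) :
    (ptO (ptAlg X g)).hom = g ≫ X.hom := by
  change Spec.map (CommRingCat.ofHom (Spec.preimage (g ≫ X.hom)).hom) = _
  exact Spec.map_preimage _

/-- an affine point as a point over `R` -/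
noncomputable def pt {C : CommRingCat.{u}} (g : Spec C ⟶ X.left) : ptO (ptAlg X g) ⟶ X :=
  Over.homMk (U := ptO (ptAlg X g)) (V := X) (show (ptO (ptAlg X g)).left ⟶ X.left from g)
    (ptAlg_hom X g).symm

theorem pt_left {C : CommRingCat.{u}} (g : Spec C ⟶ X.left) : (pt X g).left = g := rfl

/-- change of the algebra structure of a point -/
noncomputable def ptHom {C D : CommRingCat.{u}} (ψ : C ⟶ D) (g : Spec C ⟶ X.left)
    (g' : Spec D ⟶ X.left) (h : g' ≫ X.hom = Spec.map ψ ≫ g ≫ X.hom) :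
    ptAlg X g ⟶ ptAlg X g' :=
  CommAlgCat.ofHom (R := R)
    (X := (ptAlg X g)) (Y := (ptAlg X g'))
    { toRingHom := ψ.hom
      commutes' := by
        intro r
        have h1 : Spec.preimage (g' ≫ X.hom) = Spec.preimage (g ≫ X.hom) ≫ ψ := by
          apply Spec.map_injective
          rw [Spec.map_preimage, Spec.map_comp, Spec.map_preimage]
          exact h
        exact (congrArg (fun z => z.hom r) h1).symm }

theorem ptHom_hom {C D : CommRingCat.{u}} (ψ : C ⟶ D) (g : Spec C ⟶ X.left)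
    (g' : Spec D ⟶ X.left) (h : g' ≫ X.hom = Spec.map ψ ≫ g ≫ X.hom) :
    CommRingCat.ofHom (ptHom X ψ g g' h).hom.toRingHom = ψ := rfl

end Raw

section Main

variable {X Y : Over (Spec (CommRingCat.of R))} {F : CommAlgCat.{u} R ⥤ Type w}
  (dX : PointsData X F) (dY : PointsData Y F)

/-- the raw transport of affine points -/
noncomputable def Traw (C : CommRingCat.{u}) (g : Spec C ⟶ X.left) : Spec C ⟶ Y.left :=
  (Tpt dX dY (ptAlg X g) (pt X g)).left

theorem Traw_hom (C : CommRingCat.{u}) (g : Spec C ⟶ X.left) :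
    Traw dX dY C g ≫ Y.hom = g ≫ X.hom :=
  (Over.w (Tpt dX dY (ptAlg X g) (pt X g))).trans (ptAlg_hom X g)

/-- `Traw` may be computed with any presentation of the point -/
theorem Traw_eq (A : CommAlgCat.{u} R) (x : ptO A ⟶ X) :
    Traw dX dY (CommRingCat.of A) x.left = (Tpt dX dY A x).left := by
  have h0 : x.left ≫ X.hom = Spec.map (𝟙 (CommRingCat.of A)) ≫ x.left ≫ X.hom := by
    rw [Spec.map_id, Category.id_comp]
  -- the identity as a map of algebras `A ⟶ ptAlg X x.left`
  have hcomm : ∀ r : R, (RingHom.id A) (algebraMap R A r) =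
      algebraMap R (ptAlg X x.left) r := by
    intro r
    have h1 : Spec.preimage (x.left ≫ X.hom) = CommRingCat.ofHom (algebraMap R A) := by
      apply Spec.map_injective
      rw [Spec.map_preimage]
      exact Over.w x
    exact (congrArg (fun z => z.hom r) h1).symm
  let φ : A ⟶ ptAlg X x.left := CommAlgCat.ofHom (R := R) (X := A) (Y := ptAlg X x.left)
    { toRingHom := RingHom.id A
      commutes' := hcomm }
  have h2 := Tpt_natural dX dY A (ptAlg X x.left) φ x (pt X x.left) (by
    change x.left = Spec.map (𝟙 _) ≫ x.left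
    rw [Spec.map_id, Category.id_comp])
  refine h2.trans ?_
  change Spec.map (𝟙 _) ≫ _ = _
  rw [Spec.map_id, Category.id_comp]

theorem Traw_natural (C D : CommRingCat.{u}) (ψ : C ⟶ D) (g : Spec C ⟶ X.left) :
    Traw dX dY D (Spec.map ψ ≫ g) = Spec.map ψ ≫ Traw dX dY C g := by
  have h : (Spec.map ψ ≫ g) ≫ X.hom = Spec.map ψ ≫ g ≫ X.hom := Category.assoc _ _ _
  exact Tpt_natural dX dY (ptAlg X g) (ptAlg X (Spec.map ψ ≫ g))
    (ptHom X ψ g (Spec.map ψ ≫ g) h) (pt X g) (pt X (Spec.map ψ ≫ g)) rfl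

theorem Traw_Traw (C : CommRingCat.{u}) (g : Spec C ⟶ X.left) :
    Traw dY dX C (Traw dX dY C g) = g := by
  have h1 := Traw_eq dY dX (ptAlg X g) (Tpt dX dY (ptAlg X g) (pt X g))
  refine h1.trans ?_
  rw [Tpt_Tpt]
  rfl

include dX dY in
/-- **two `R`-schemes with the same affine points are isomorphic** -/
theorem exists_iso_of_pointsData :
    ∃ i : X.left ≅ Y.left, i.hom ≫ Y.hom = X.hom := by
  obtain ⟨i, hi⟩ := exists_iso_of_affine_points (Traw dX dY) (Traw_natural dX dY)
    (Traw dY dX) (Traw_natural dY dX) (Traw_Traw dX dY) (Traw_Traw dY dX)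
  refine ⟨i, ?_⟩
  apply hom_ext_of_affine_points
  intro C g
  rw [← Category.assoc, hi, Traw_hom]

end Main

end Groth.Agent.Helper1.GR
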