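import Mathlib
import Groth.Agent.Helper4.FinLocFree5

/-!
# Grassmannian, part 25: algebra — ranks along ring isomorphisms, linear maps out of `A ⊗ R^N`
-/

set_option autoImplicit false
set_option linter.style.haveILetI false

namespace Groth.Agent.Helper1.GR

open TensorProduct

universe u

section Rank

variable {A B : Type*} [CommRing A] [CommRing B] (e : A ≃+* B)
  {M : Type*} [AddCommGroup M] [Module A M] [Module B M]

/-- the rank at a prime is invariant under a semilinear change of rings along an isomorphism -/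
theorem rankAtStalk_eq_of_ringEquiv (h : ∀ (a : A) (m : M), e a • m = a • m)
    (p : PrimeSpectrum B) :
    Module.rankAtStalk (R := A) M (PrimeSpectrum.comap (e : A →+* B) p) =
      Module.rankAtStalk (R := B) M p := by
  let p' : PrimeSpectrum A := PrimeSpectrum.comap (e : A →+* B) p
  have hmem : ∀ a : A, a ∈ p'.asIdeal.primeCompl ↔ e a ∈ p.asIdeal.primeCompl := fun a => Iff.rfl
  let Rp := Localization.AtPrime p.asIdeal
  let Mp := LocalizedModule p.asIdeal.primeCompl M
  letI algA : Algebra A Rp := ((algebraMap B Rp).comp (e : A →+* B)).toAlgebra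
  have halg : ∀ a : A, algebraMap A Rp a = algebraMap B Rp (e a) := fun a => rfl
  letI modA : Module A Mp := Module.compHom Mp (e : A →+* B)
  have hsm : ∀ (a : A) (m : Mp), a • m = e a • m := fun a m => rfl
  haveI : IsScalarTower A Rp Mp := by
    refine ⟨fun a r m => ?_⟩
    rw [hsm, Algebra.smul_def, halg, mul_smul, algebraMap_smul]
  haveI : IsLocalization.AtPrime Rp p'.asIdeal := by
    change IsLocalization p'.asIdeal.primeCompl Rp
    rw [isLocalization_iff]
    refine ⟨?_, ?_, ?_⟩
    · intro y
      rw [halg]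
      exact IsLocalization.map_units Rp (⟨e y, (hmem y).mp y.2⟩ : p.asIdeal.primeCompl)
    · intro z
      obtain ⟨⟨b, s⟩, hbs⟩ := IsLocalization.surj p.asIdeal.primeCompl z
      refine ⟨(e.symm b, ⟨e.symm s, ?_⟩), ?_⟩
      · rw [hmem, e.apply_symm_apply]; exact s.2
      · simp only [halg, e.apply_symm_apply]
        exact hbs
    · intro x y hxy
      rw [halg, halg] at hxy
      obtain ⟨c, hc⟩ := IsLocalization.exists_of_eq (M := p.asIdeal.primeCompl) hxy
      refine ⟨⟨e.symm c, ?_⟩, ?_⟩
      · rw [hmem, e.apply_symm_apply]; exact c.2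
      · apply e.injective
        simp only [map_mul, e.apply_symm_apply]
        exact hc
  let f : M →ₗ[A] Mp :=
    { toFun := LocalizedModule.mkLinearMap p.asIdeal.primeCompl M
      map_add' := map_add _
      map_smul' := by
        intro a m
        rw [← h a m, map_smul]
        rfl }
  have hf : ∀ m, f m = LocalizedModule.mkLinearMap p.asIdeal.primeCompl M m := fun m => rfl
  haveI : IsLocalizedModule p'.asIdeal.primeCompl f := by
    refine ⟨?_, ?_, ?_⟩
    · intro x
      rw [Module.End.isUnit_iff]
      have h1 := IsLocalizedModule.map_units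
        (LocalizedModule.mkLinearMap p.asIdeal.primeCompl M)
        (⟨e x, (hmem x).mp x.2⟩ : p.asIdeal.primeCompl)
      rw [Module.End.isUnit_iff] at h1
      exact h1
    · intro y
      obtain ⟨⟨m, s⟩, hms⟩ := IsLocalizedModule.surj p.asIdeal.primeCompl
        (LocalizedModule.mkLinearMap p.asIdeal.primeCompl M) y
      refine ⟨(m, ⟨e.symm s, ?_⟩), ?_⟩
      · rw [hmem, e.apply_symm_apply]; exact s.2
      · change (e.symm s : A) • y = f m
        rw [hsm, e.apply_symm_apply, hf]
        exact hms
    · intro x y hxy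
      rw [hf, hf] at hxy
      obtain ⟨c, hc⟩ := IsLocalizedModule.exists_of_eq (S := p.asIdeal.primeCompl) hxy
      refine ⟨⟨e.symm c, ?_⟩, ?_⟩
      · rw [hmem, e.apply_symm_apply]; exact c.2
      · change (e.symm c : A) • x = (e.symm c : A) • y
        rw [← h, ← h, e.apply_symm_apply]
        exact hc
  exact (Groth.Agent.Helper4.FinLocFree5.finrank_eq_rankAtStalk_of_isLocalization p' Rp Mp f).symm

/-- constancy of the rank transfers along a ring isomorphism -/
theorem rankAtStalk_const_of_ringEquiv (h : ∀ (a : A) (m : M), e a • m = a • m) (d : ℕ)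
    (hd : ∀ p : PrimeSpectrum B, Module.rankAtStalk (R := B) M p = d) (p : PrimeSpectrum A) :
    Module.rankAtStalk (R := A) M p = d := by
  have h1 := rankAtStalk_eq_of_ringEquiv e h (PrimeSpectrum.comap (e.symm : B →+* A) p)
  rw [hd] at h1
  rw [← h1]
  congr 1
  ext x
  simp

theorem rankAtStalk_const_of_ringEquiv' (h : ∀ (a : A) (m : M), e a • m = a • m) (d : ℕ)
    (hd : ∀ p : PrimeSpectrum A, Module.rankAtStalk (R := A) M p = d) (p : PrimeSpectrum B) :
    Module.rankAtStalk (R := B) M p = d := by
  rw [← rankAtStalk_eq_of_ringEquiv e h p, hd]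

end Rank

section Lam

variable (R : Type*) [CommRing R] (A : Type*) [CommRing A] [Algebra R A] (N : ℕ)
  {Q : Type*} [AddCommGroup Q] [Module A Q]

/-- the standard generators of `A ⊗ R^N` -/
noncomputable def bvec (j : Fin N) : A ⊗[R] (Fin N → R) := (1 : A) ⊗ₜ[R] Pi.single j (1 : R)

/-- the linear map out of `A ⊗ R^N` with prescribed values on the standard generators -/
noncomputable def lam (v : Fin N → Q) : A ⊗[R] (Fin N → R) →ₗ[A] Q :=
  (Fintype.linearCombination A v) ∘ₗ (TensorProduct.piScalarRight R A A (Fin N)).toLinearMap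

theorem lam_bvec (v : Fin N → Q) (j : Fin N) : lam R A N v (bvec R A N j) = v j := by
  unfold lam bvec
  simp only [LinearMap.comp_apply, LinearEquiv.coe_coe, TensorProduct.piScalarRight_apply,
    TensorProduct.piScalarRightHom_tmul, Fintype.linearCombination_apply]
  rw [Finset.sum_eq_single j]
  · simp
  · intro i _ hij
    simp [Pi.single_apply, hij]
  · intro hj
    exact absurd (Finset.mem_univ j) hj

theorem span_bvec : Submodule.span A (Set.range (bvec R A N)) = ⊤ := by
  rw [eq_top_iff]
  intro x _
  have hx : x = (TensorProduct.piScalarRight R A A (Fin N)).symm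
      (TensorProduct.piScalarRight R A A (Fin N) x) :=
    ((TensorProduct.piScalarRight R A A (Fin N)).symm_apply_apply x).symm
  rw [hx]
  generalize TensorProduct.piScalarRight R A A (Fin N) x = y
  have hy : y = ∑ j, y j • (Pi.single j (1 : A) : Fin N → A) := by
    funext i
    simp [Finset.sum_apply, Pi.single_apply]
  rw [hy, map_sum]
  refine Submodule.sum_mem _ fun j _ => ?_
  rw [map_smul, TensorProduct.piScalarRight_symm_single]
  exact Submodule.smul_mem _ _ (Submodule.subset_span ⟨j, rfl⟩)

/-- linear maps out of `A ⊗ R^N` are determined on the standard generators -/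
theorem lam_ext {Q' : Type*} [AddCommGroup Q'] [Module A Q']
    (f g : A ⊗[R] (Fin N → R) →ₗ[A] Q') (h : ∀ j, f (bvec R A N j) = g (bvec R A N j)) : f = g := by
  apply LinearMap.ext_on (span_bvec R A N)
  rintro _ ⟨j, rfl⟩
  exact h j

theorem eq_lam (f : A ⊗[R] (Fin N → R) →ₗ[A] Q) :
    f = lam R A N (fun j => f (bvec R A N j)) := by
  apply lam_ext
  intro j
  rw [lam_bvec]

theorem range_lam (v : Fin N → Q) :
    LinearMap.range (lam R A N v) = Submodule.span A (Set.range v) := by
  rw [← Submodule.map_top, ← span_bvec R A N, Submodule.map_span]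
  congr 1
  ext q
  constructor
  · rintro ⟨_, ⟨j, rfl⟩, rfl⟩
    exact ⟨j, (lam_bvec R A N v j).symm⟩
  · rintro ⟨j, rfl⟩
    exact ⟨_, ⟨j, rfl⟩, lam_bvec R A N v j⟩

theorem lam_comp {Q' : Type*} [AddCommGroup Q'] [Module A Q'] (v : Fin N → Q) (g : Q →ₗ[A] Q') :
    g ∘ₗ lam R A N v = lam R A N (fun j => g (v j)) := by
  apply lam_ext
  intro j
  rw [LinearMap.comp_apply, lam_bvec, lam_bvec]

end Lam

end Groth.Agent.Helper1.GR
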