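import Mathlib
import Groth.Agent.Helper1.ExtHom1
import Groth.Agent.Helper1.TensorLin1
import Groth.Agent.Helper1.SHLoc3
import Groth.Agent.Helper4.SN57
import Groth.Agent.Helper9.Unitor1

/-!
# ExtHom2: `Extⁿ(F, G) ≃ₗ[k] Hⁿ(X, Hom(F, G))` for `F` finite locally free, `k`-linearly

`X` a scheme over a field `k`, `F` finite locally free with internal Hom `R` (any right adjoint of
`F ⊗ -`).  Then `Extⁿ(F, G) ≃ₗ[k] Hⁿ(X, R G)` for all `G` and `n`.
-/

set_option autoImplicit false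
set_option linter.style.haveILetI false
set_option linter.unusedSectionVars false

universe u

open CategoryTheory CategoryTheory.Limits Abelian AlgebraicGeometry Opposite
open Groth.Agent.Helper9.TensorSh Groth.Agent.Helper9.TensorAdj Groth.Agent.Helper9.TensorFlat
  Groth.Agent.Helper9.Unitor1

namespace Groth.Agent.Helper1.ExtHom

variable (k : Type u) [Field k] {X : Scheme.{u}} [X.Over (Spec (CommRingCat.of k))]

section H0

/-- naturality of `H⁰ ≃ Γ` -/
lemma h0Equiv_HHlin {M N : X.Modules} (φ : M ⟶ N) (x : Coh.HH X M 0) :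
    Groth.Agent.Lead.ProperFinA.h0Equiv N (Canon.HHlin k φ 0 x) =
      φ.app ⊤ (Groth.Agent.Lead.ProperFinA.h0Equiv M x) :=
  (Sheaf.H.equiv₀_naturality (isTerminalTop (α := TopologicalSpace.Opens X))
    ((SheafOfModules.toSheaf X.ringCatSheaf).map φ) x).symm

theorem evalH0_injective (L : X.Modules) : Function.Injective (Groth.Agent.Helper4.SN.evalH0 k L) := by
  rw [injective_iff_map_eq_zero]
  intro s hs
  apply Groth.Agent.Helper4.SN.eq_zero_of_sec1
  have h1 : (Groth.Agent.Lead.ProperFinA.h0Equiv L).symm (Groth.Agent.Helper4.SN.sec1 L s) = 0 := hs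
  exact (AddEquiv.map_eq_zero_iff _).1 h1

/-- `Hom(O, L) ≃ₗ H⁰(L)` -/
noncomputable def evalH0Equiv (L : X.Modules) :
    (Coh.structureModule X ⟶ L) ≃ₗ[k] Coh.HH X L 0 :=
  LinearEquiv.ofBijective (Groth.Agent.Helper4.SN.evalH0 k L)
    ⟨evalH0_injective k L, Groth.Agent.Helper4.SN.evalH0_surjective k L⟩

theorem evalH0_comp {L L' : X.Modules} (s : Coh.structureModule X ⟶ L) (ψ : L ⟶ L') :
    Groth.Agent.Helper4.SN.evalH0 k L' (s ≫ ψ) =
      Canon.HHlin k ψ 0 (Groth.Agent.Helper4.SN.evalH0 k L s) := by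
  apply (Groth.Agent.Lead.ProperFinA.h0Equiv L').injective
  rw [h0Equiv_HHlin]
  refine ((Groth.Agent.Lead.ProperFinA.h0Equiv L').apply_symm_apply _).trans ?_
  refine Eq.trans ?_ (congrArg (ψ.app ⊤)
    ((Groth.Agent.Lead.ProperFinA.h0Equiv L).apply_symm_apply _)).symm
  rfl

end H0

section Adj

variable {C D : Type*} [Category C] [Category D] [Preadditive C] [Preadditive D]
  [Linear k C] [Linear k D] {L : C ⥤ D} {G : D ⥤ C} (adj : L ⊣ G) [L.Additive] [G.Additive]
  [G.Linear k]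

/-- the adjunction bijection, as a linear equivalence -/
noncomputable def homLinEquiv (A : C) (B : D) : (L.obj A ⟶ B) ≃ₗ[k] (A ⟶ G.obj B) :=
  { adj.homAddEquiv A B with
    map_smul' := fun a f => by
      show adj.homEquiv A B (a • f) = a • adj.homEquiv A B f
      rw [Adjunction.homEquiv_unit, Adjunction.homEquiv_unit, G.map_smul, Linear.comp_smul] }

lemma homLinEquiv_apply (A : C) (B : D) (f : L.obj A ⟶ B) :
    homLinEquiv k adj A B f = adj.homEquiv A B f := rfl

end Adj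

variable (F : X.Modules) {R : X.Modules ⥤ X.Modules}
  (ad : (DCoh.tensorBi (X := X)).obj F ⊣ R) [HasExt.{u} X.Modules]

/-- `F ⊗ O ≅ F` -/
noncomputable def ru : ((DCoh.tensorBi (X := X)).obj F).obj (Coh.structureModule X) ≅ F :=
  rUnitor X.sheaf F

/-- `Ext⁰(F, G) ≃ₗ H⁰(R G)` -/
noncomputable def e₀ [R.Additive] [R.Linear k] (G : X.Modules) :
    Ext.{u} F G 0 ≃ₗ[k] Coh.HH X (R.obj G) 0 :=
  (Ext.linearEquiv₀ (R := k)).trans
    ((Linear.homCongr k (ru F).symm (Iso.refl G)).trans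
      ((homLinEquiv k ad (Coh.structureModule X) G).trans (evalH0Equiv k (R.obj G))))

theorem e₀_mk₀ [R.Additive] [R.Linear k] (G : X.Modules) (f : F ⟶ G) :
    e₀ k F ad G (Ext.mk₀ f) = Groth.Agent.Helper4.SN.evalH0 k (R.obj G)
      (ad.homEquiv (Coh.structureModule X) G ((ru F).hom ≫ f)) := by
  have h1 : Ext.linearEquiv₀ (R := k) (Ext.mk₀ f) = f := by
    apply (Ext.mk₀_bijective _ _).1
    rw [Ext.mk₀_linearEquiv₀_apply]
  show Groth.Agent.Helper4.SN.evalH0 k (R.obj G) (ad.homEquiv (Coh.structureModule X) G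
    (Linear.homCongr k (ru F).symm (Iso.refl G) (Ext.linearEquiv₀ (R := k) (Ext.mk₀ f)))) = _
  rw [h1, Linear.homCongr_apply]
  simp

theorem e₀_nat [R.Additive] [R.Linear k] (G G' : X.Modules) (φ : G ⟶ G') (x : Ext.{u} F G 0) :
    e₀ k F ad G' (x.comp (Ext.mk₀ φ) (add_zero 0)) =
      Canon.HHlin k (R.map φ) 0 (e₀ k F ad G x) := by
  obtain ⟨f, rfl⟩ := (Ext.mk₀_bijective _ _).2 x
  rw [Ext.mk₀_comp_mk₀, e₀_mk₀, e₀_mk₀, ← evalH0_comp, ← Adjunction.homEquiv_naturality_right,
    Category.assoc]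

include ad in
/-- **`Extⁿ(F, G) ≃ₗ[k] Hⁿ(X, Hom(F, G))` for `F` finite locally free** -/
theorem nonempty_ext_linearEquiv_sheafHom (hF : FlatMod.IsFinLocFree F) (G : X.Modules) (n : ℕ) :
    Nonempty (Ext.{u} F G n ≃ₗ[k] Coh.HH X (R.obj G) n) := by
  haveI : ((DCoh.tensorBi (X := X)).obj F).Additive := inferInstance
  haveI : R.Additive := ad.right_adjoint_additive
  haveI : PreservesFiniteLimits R := by
    haveI : PreservesLimitsOfSize.{0, 0} R := ad.rightAdjoint_preservesLimits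
    exact PreservesLimitsOfSize.preservesFiniteLimits _
  haveI := Groth.Agent.Helper1.SHLoc.preservesFiniteColimits_sheafHom F hF ad
  haveI : EnoughInjectives X.Modules :=
    Groth.Agent.Helper9.ModCechExt.enoughInjectives_mod X.ringCatSheaf
  haveI : R.Linear k := Groth.Agent.Helper1.TensorLin.linear_of_leftAdjoint ad
  refine main k F R ?_ (e₀ k F ad) (e₀_nat k F ad) n G
  intro I hI m hm
  haveI := hI
  haveI : Injective (R.obj I) := Groth.Agent.Helper1.SHLoc.injective_sheafHom_obj F hF ad I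
  obtain ⟨j⟩ := @Groth.Agent.Helper9.ModUnitExt.nonempty_addEquiv _ _
    (Opens.grothendieckTopology X) X.ringCatSheaf ‹HasExt.{u} X.Modules› (R.obj I) m
  obtain ⟨m, rfl⟩ : ∃ m', m = m' + 1 := ⟨m - 1, by omega⟩
  have hsub : Subsingleton (Ext.{u} (Coh.structureModule X) (R.obj I) (m + 1)) :=
    Ext.subsingleton_of_injective _ _ m
  exact @Equiv.subsingleton _ _ j.symm.toEquiv hsub

end Groth.Agent.Helper1.ExtHom
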