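import Mathlib
import Groth.Agent.Helper1.StalkExt7
import Groth.Agent.Helper1.ExtRing
import Groth.Agent.Helper1.PnReg
import Groth.Agent.Helper4.FinLocFree2
import Groth.Agent.Helper4.CohFP

/-!
# HorrB: a coherent module on `P^d_K` whose cohomology in degrees `< d` vanishes for all
sufficiently negative twists is finite locally free
-/

set_option autoImplicit false
set_option linter.style.haveILetI false
set_option linter.unusedSectionVars false

universe u
open CategoryTheory CategoryTheory.Limits AlgebraicGeometry Opposite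

namespace Groth.Agent.Helper1.Horr

variable (d : ℕ) (K : Type u) [Field K]

local notation "ℙ" => CohB1.ProjSpace d K
local notation "𝕆(" n ")" => Twist.twistProjSpace d K n

/-- a finite module over a regular local ring with `Extⁱ(M, A) = 0` for `1 ≤ i ≤ dim A` is free -/
theorem free_of_ext_vanish (A : Type u) [CommRing A] [IsRegularLocalRing A] (r : ℕ)
    (hr : ringKrullDim A = r) (M : Type u) [AddCommGroup M] [Module A M] [Module.Finite A M]
    (h : ∀ i : ℕ, 1 ≤ i → i ≤ r →
      Subsingleton (Abelian.Ext.{u} (ModuleCat.of A M) (ModuleCat.of A A) i)) :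
    Module.Free A M := by
  have hpd := Groth.Agent.Helper1.TorLib.hasProjectiveDimensionLT_of_isRegularLocalRing r hr
    (ModuleCat.of A M)
  have h1 : HasProjectiveDimensionLT (ModuleCat.of A M) (0 + 1) := by
    rw [Groth.Agent.Helper1.ExtRing.hasProjectiveDimensionLT_iff_ext_ring_vanish]
    intro i hi
    by_cases hir : i ≤ r
    · exact h i hi hir
    · exact HasProjectiveDimensionLT.subsingleton _ (r + 1) i (by omega) _
  have h2 : Projective (ModuleCat.of A M) := projective_iff_hasProjectiveDimensionLT_one.mpr h1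
  haveI : Module.Projective A M := (IsProjective.iff_projective (R := A) (P := M)).mpr h2
  exact Module.free_of_flat_of_isLocalRing

/-- the stalks at closed points are free -/
theorem free_stalk_of_vanishing (F : (ℙ).Modules) (hF : Coh.IsCoh F)
    (h : ∀ i : ℕ, i < d → ∃ n₀ : ℤ, ∀ n : ℤ, n ≤ n₀ →
      Subsingleton (Coh.HH ℙ (CohB1.tensorMod F 𝕆(n)) i))
    (x : ℙ) (hx : IsClosed ({x} : Set ℙ)) :
    Module.Free ((ℙ).presheaf.stalk x) (F.presheaf.stalk x) := by
  haveI : EnoughInjectives (ℙ).Modules :=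
    Groth.Agent.Helper9.ModCechExt.enoughInjectives_mod (ℙ).ringCatSheaf
  haveI : HasExt.{u} (ℙ).Modules := hasExt_of_enoughInjectives _
  haveI : HasInjectiveResolutions (ModSite.Mod (ℙ).sheaf) :=
    inferInstanceAs (HasInjectiveResolutions (ℙ).Modules)
  haveI := Groth.Agent.Helper1.PnReg.isRegularLocalRing_stalk d K x
  haveI := hF.1
  haveI : Module.Finite ((ℙ).presheaf.stalk x) (F.presheaf.stalk x) :=
    Groth.Agent.Helper4.FinLocFree2.finite_stalk F hF.2 x
  refine free_of_ext_vanish _ d (Groth.Agent.Helper1.PnReg.ringKrullDim_stalk_of_isClosed d K x hx)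
    _ (fun i hi hid => ?_)
  have key := (Groth.Agent.Helper1.StalkExt.exists_vanishing_iff_forall_closed d K F hF i hid).1
  refine key ?_ x hx
  obtain ⟨n₀, hn₀⟩ := h (d - i) (by omega)
  exact ⟨-n₀, fun q hq => hn₀ (-q) (by omega)⟩

/-- **a coherent module on `P^d_K` whose cohomology in degrees `< d` vanishes for all sufficiently
negative twists is finite locally free** -/
theorem isFinLocFree_of_vanishing (F : (ℙ).Modules) (hF : Coh.IsCoh F)
    (h : ∀ i : ℕ, i < d → ∃ n₀ : ℤ, ∀ n : ℤ, n ≤ n₀ →
      Subsingleton (Coh.HH ℙ (CohB1.tensorMod F 𝕆(n)) i)) :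
    FlatMod.IsFinLocFree F := by
  haveI : IsNoetherianRing (MvPolynomial (Fin (d + 1)) K) := inferInstance
  haveI : IsNoetherian ℙ := Groth.Agent.Helper3.ProjNoeth.main (CohB1.polyGrading d K)
  haveI := hF.1
  have hfp : SheafOfModules.IsFinitePresentation (R := (ℙ).ringCatSheaf) F :=
    Groth.Agent.Helper4.CohFP.isFP_of_isCoh F hF.1 hF.2
  intro y
  obtain ⟨x, hxy, hxc⟩ := (isClosed_closure (s := ({y} : Set ℙ))).exists_closed_singleton
    ⟨y, subset_closure rfl⟩
  have hfree := free_stalk_of_vanishing d K F hF h x hxc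
  obtain ⟨U, hU, hxU⟩ := Groth.Agent.Helper4.QcohLimits.exists_affine_nhd x
  obtain ⟨V, n, hxV, hV⟩ := Groth.Agent.Helper4.FinLocFree.exists_isFreeAlong_of_fp_of_free_stalk
    F hU x hxU (Groth.Agent.Helper4.FPGlue.fp_sections F hfp hU) hfree
  refine ⟨V, n, ?_, hV⟩
  obtain ⟨z, hzV, hz⟩ := mem_closure_iff.1 hxy V V.isOpen hxV
  rw [Set.mem_singleton_iff] at hz
  rw [← hz]
  exact hzV

end Groth.Agent.Helper1.Horr
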