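import Mathlib
import Groth.Agent.Helper1.ExtSh6
import Groth.Agent.Helper1.SerreVan
import Groth.Agent.Helper1.TwistMul6

/-!
# HorrA: the twisting functors on `P^d_K`
-/

set_option autoImplicit false
set_option linter.style.haveILetI false
set_option linter.unusedSectionVars false

universe u
open CategoryTheory CategoryTheory.Limits AlgebraicGeometry Opposite
open Groth.Agent.Helper9.TensorSh Groth.Agent.Helper9.TensorAdj Groth.Agent.Helper9.TensorFlat
  Groth.Agent.Helper9.TensorAssoc3 Groth.Agent.Helper1.ExtTw Groth.Agent.Helper1.Inv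
  Groth.Agent.Helper9.Unitor1

namespace Groth.Agent.Helper1.Horr

variable (d : ℕ) (K : Type u) [CommRing K]

local notation "ℙ" => CohB1.ProjSpace d K
local notation "𝕆(" n ")" => Twist.twistProjSpace d K n

/-- the twisting functor `F ↦ F(n)` -/
noncomputable abbrev tw (n : ℤ) : (ℙ).Modules ⥤ (ℙ).Modules :=
  TN (O := (ℙ).sheaf) 𝕆(n)

lemma tw_obj (n : ℤ) (F : (ℙ).Modules) : (tw d K n).obj F = CohB1.tensorMod F 𝕆(n) := rfl

/-- `O(a) ⊗ O(b) ≅ O(a + b)` -/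
theorem nonempty_mulIso (a b c : ℤ) (h : c = a + b) :
    Nonempty (CohB1.tensorMod 𝕆(a) 𝕆(b) ≅ 𝕆(c)) :=
  Groth.Agent.Helper1.TwistMul.nonempty_twist_tensor_twist_iso
    (CohB1.polyGrading d K) (Groth.Agent.Helper1.SerreFin.hcov_poly d K) a b c h

/-- `F(a)(b) ≅ F(a + b)`, naturally in `F` -/
theorem nonempty_twAdd (a b c : ℤ) (h : c = a + b) :
    Nonempty (tw d K a ⋙ tw d K b ≅ tw d K c) := by
  obtain ⟨e⟩ := nonempty_mulIso d K a b c h
  have e1 : tw d K a ⋙ tw d K b ≅ TN (O := (ℙ).sheaf) ((TL (O := (ℙ).sheaf) 𝕆(a)).obj 𝕆(b)) :=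
    NatIso.ofComponents (fun F => (((assoc3 (O := (ℙ).sheaf)).app F).app 𝕆(a)).app 𝕆(b)) (by
      intro F F' f
      have h1 := congrArg (fun t => t.app 𝕆(b))
        (congrArg (fun t => t.app 𝕆(a)) ((assoc3 (O := (ℙ).sheaf)).hom.naturality f))
      exact h1)
  exact ⟨e1 ≪≫ (ModSite.tensorBi (ℙ).sheaf).flip.mapIso e⟩

/-- `F(0) ≅ F`, naturally in `F` -/
theorem nonempty_twZero : Nonempty (tw d K 0 ≅ 𝟭 (ℙ).Modules) := by
  obtain ⟨e⟩ := Groth.Agent.Helper1.TwistMul.nonempty_twist_zero_iso (CohB1.polyGrading d K)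
  exact ⟨(ModSite.tensorBi (ℙ).sheaf).flip.mapIso e ≪≫ rUnitorIso (ℙ).sheaf⟩

/-- `F(a)(b) ≅ F(a + b)` -/
noncomputable def twAdd (a b c : ℤ) (h : c = a + b) : tw d K a ⋙ tw d K b ≅ tw d K c :=
  (nonempty_twAdd d K a b c h).some

/-- `F(0) ≅ F` -/
noncomputable def twZero : tw d K 0 ≅ 𝟭 (ℙ).Modules := (nonempty_twZero d K).some

/-- twisting by `n` is an equivalence, with inverse twisting by `-n` -/
noncomputable def twEquiv (n : ℤ) : (ℙ).Modules ≌ (ℙ).Modules :=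
  CategoryTheory.Equivalence.mk (tw d K n) (tw d K (-n))
    ((twZero d K).symm ≪≫ (twAdd d K n (-n) 0 (by ring)).symm)
    (twAdd d K (-n) n 0 (by ring) ≪≫ twZero d K)

instance isEquivalence_tw (n : ℤ) : (tw d K n).IsEquivalence :=
  (twEquiv d K n).isEquivalence_functor

instance additive_tw (n : ℤ) : (tw d K n).Additive :=
  @additive_TN _ _ _ (ℙ).sheaf 𝕆(n)

instance preservesBinaryBiproducts_tw (n : ℤ) : PreservesBinaryBiproducts (tw d K n) :=
  preservesBinaryBiproducts_of_preservesBiproducts _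

/-- `F(a)(b) ≅ F(c)` on objects -/
noncomputable def twAddObj (F : (ℙ).Modules) (a b c : ℤ) (h : c = a + b) :
    CohB1.tensorMod (CohB1.tensorMod F 𝕆(a)) 𝕆(b) ≅ CohB1.tensorMod F 𝕆(c) :=
  (twAdd d K a b c h).app F

/-- `F(0) ≅ F` on objects -/
noncomputable def twZeroObj (F : (ℙ).Modules) : CohB1.tensorMod F 𝕆(0) ≅ F :=
  (twZero d K).app F

/-- `O(n) ≅ O ⊗ O(n)` -/
noncomputable def unitTw (n : ℤ) : (tw d K n).obj (Coh.structureModule ℙ) ≅ 𝕆(n) :=
  (lUnitorIso (O := (ℙ).sheaf)).app 𝕆(n)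

end Groth.Agent.Helper1.Horr
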