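import Mathlib
import Groth.Agent.Helper1.HorrA
import Groth.Agent.Helper1.PnDual10
import Groth.Agent.Helper1.KzGGPn
import Groth.Agent.Helper1.KzLin1
import Groth.Agent.Helper4.SN50
import Groth.Agent.Helper1.KzLin3

/-!
# HorrC: splitting off a twisting sheaf from a coherent module on `P^d_K` without intermediate
cohomology
-/

set_option autoImplicit false
set_option linter.style.haveILetI false
set_option linter.unusedSectionVars false

universe u
open CategoryTheory CategoryTheory.Limits AlgebraicGeometry Opposite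
open Groth.Agent.Helper9.TensorSh Groth.Agent.Helper9.TensorAdj Groth.Agent.Helper9.TensorFlat
  Groth.Agent.Helper1.DualSh Groth.Agent.Helper1.KzReg

namespace Groth.Agent.Helper1.Horr

variable (d : ℕ) (K : Type u) [Field K]

local notation "ℙ" => CohB1.ProjSpace d K
local notation "𝕆(" n ")" => Twist.twistProjSpace d K n
local notation "ωP" => Twist.twistProjSpace d K (-((d : ℤ) + 1))

theorem exists_functional_ne_zero (V : Type u) [AddCommGroup V] [Module K V]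
    (h : ¬ Subsingleton V) : ∃ ψ : V →ₗ[K] K, ψ ≠ 0 := by
  rw [not_subsingleton_iff_nontrivial] at h
  obtain ⟨v, hv⟩ := exists_ne (0 : V)
  by_contra hcon
  push Not at hcon
  apply hv
  rw [← Module.forall_dual_apply_eq_zero_iff K v]
  intro φ
  rw [hcon φ]
  rfl

/-- a coherent module with nonzero top cohomology has a nonzero map to `ω` -/
theorem exists_hom_ne_zero (F : (ℙ).Modules) (hF : Coh.IsCoh F)
    (h : ¬ Subsingleton (Coh.HH ℙ F d)) : ∃ φ : F ⟶ ωP, φ ≠ 0 := by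
  obtain ⟨t, ht⟩ := Groth.Agent.Helper1.PnDual.exists_dualizing d K
  obtain ⟨ψ, hψ⟩ := exists_functional_ne_zero K _ h
  obtain ⟨φ, hφ, -⟩ := ht F hF ψ
  refine ⟨φ, fun h0 => hψ ?_⟩
  apply LinearMap.ext
  intro x
  rw [hφ x, h0, Hmap_zero, map_zero]
  rfl

/-- the endomorphisms of `ω` are the scalars -/
theorem end_omega (c : ωP ⟶ ωP) : ∃ a : K, c = a • 𝟙 ωP := by
  obtain ⟨t, ht⟩ := Groth.Agent.Helper1.PnDual.exists_dualizing d K
  have hω := Groth.Agent.Helper1.SerreFin.isCoh_twist d K (-((d : ℤ) + 1))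
  let ψ : Coh.HH ℙ ωP d →ₗ[K] K := t.toLinearMap ∘ₗ Canon.HHlin K c d
  obtain ⟨φ, -, huniq⟩ := ht ωP hω ψ
  refine ⟨ψ (t.symm 1), ?_⟩
  have h1 : c = φ := huniq c (fun x => rfl)
  have h2 : (ψ (t.symm 1)) • 𝟙 ωP = φ := by
    apply huniq
    intro x
    have hx : x = (t x) • t.symm 1 := by
      apply t.injective
      rw [map_smul, LinearEquiv.apply_symm_apply, smul_eq_mul, mul_one]
    have h3 : Sheaf.H.map ((SheafOfModules.toSheaf (ℙ).ringCatSheaf).map
        ((ψ (t.symm 1)) • 𝟙 ωP)) d x = (ψ (t.symm 1)) • x :=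
      Groth.Agent.Helper4.SN.HHlin_smul_id K ωP (ψ (t.symm 1)) d x
    rw [h3]
    conv_lhs => rw [hx]
    rw [map_smul, LinearEquiv.coe_coe, map_smul, smul_eq_mul, smul_eq_mul, mul_comm]
  rw [h1, h2]

/-- the regularity has a least value, unless the module is `m`-regular for all `m` -/
theorem exists_min_reg (F : (ℙ).Modules) (hF : Coh.IsCoh F)
    (hnot : ¬ ∀ m : ℤ, IsReg d K F m) :
    ∃ m : ℤ, IsReg d K F m ∧ ¬ IsReg d K F (m - 1) := by
  classical
  push Not at hnot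
  obtain ⟨m₀, hm₀⟩ := hnot
  obtain ⟨d₀, hd₀⟩ := Groth.Agent.Helper1.SerreVan.vanishing d K F hF
  have h1 : IsReg d K F (d₀ + d) := by
    apply isReg_of_le d K F hF
    intro i hi hid
    exact hd₀ _ (by omega) i hi
  have hlt : m₀ < d₀ + d := by
    by_contra hcon
    push Not at hcon
    obtain ⟨k, hk⟩ : ∃ k : ℕ, m₀ = d₀ + d + k := ⟨(m₀ - (d₀ + d)).toNat, by omega⟩
    apply hm₀
    rw [hk]
    exact isReg_add d K F hF _ h1 k
  have hex : ∃ k : ℕ, IsReg d K F (m₀ + k) := by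
    refine ⟨(d₀ + d - m₀).toNat, ?_⟩
    have e : m₀ + ((d₀ + d - m₀).toNat : ℤ) = d₀ + d := by omega
    rw [e]
    exact h1
  have hk0 : Nat.find hex ≠ 0 := by
    intro h0
    have := Nat.find_spec hex
    rw [h0] at this
    apply hm₀
    simpa using this
  refine ⟨m₀ + (Nat.find hex : ℤ), Nat.find_spec hex, ?_⟩
  have hmin := Nat.find_min hex (m := Nat.find hex - 1) (by omega)
  have e : m₀ + (Nat.find hex : ℤ) - 1 = m₀ + ((Nat.find hex - 1 : ℕ) : ℤ) := by
    have : 1 ≤ Nat.find hex := Nat.one_le_iff_ne_zero.2 hk0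
    push_cast [this]
    ring
  rw [e]
  exact hmin

open Groth.Agent.Helper1.KzLin in
/-- **splitting off a twisting sheaf** from a coherent module without intermediate cohomology whose
top cohomology does not vanish for all sufficiently negative twists -/
theorem exists_split (hd : 1 ≤ d) (F : (ℙ).Modules) (hF : Coh.IsCoh F)
    (hmid : ∀ (n : ℤ) (i : ℕ), 1 ≤ i → i < d →
      Subsingleton (Coh.HH ℙ (CohB1.tensorMod F 𝕆(n)) i))
    (hnv : ¬ ∃ q₀ : ℤ, ∀ q : ℤ, q₀ ≤ q →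
      Subsingleton (Coh.HH ℙ (CohB1.tensorMod F 𝕆(-q)) d)) :
    ∃ (a : ℤ) (G : (ℙ).Modules), Nonempty (F ≅ G ⊞ 𝕆(a)) := by
  -- not regular for all `m`
  have hnot : ¬ ∀ m : ℤ, IsReg d K F m := by
    intro h
    apply hnv
    refine ⟨0, fun q _ => ?_⟩
    have h1 := h (-q + d) d hd
    rwa [show -q + (d : ℤ) - (d : ℤ) = -q by ring] at h1
  obtain ⟨m, hm, hm'⟩ := exists_min_reg d K F hF hnot
  -- the top cohomology of `F(m-1-d)` is nonzero
  have htop : ¬ Subsingleton (Coh.HH ℙ (CohB1.tensorMod F 𝕆(m - 1 - d)) d) := by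
    intro h
    apply hm'
    apply isReg_of_le d K F hF
    intro i hi hid
    by_cases hlt : i < d
    · exact hmid _ i hi hlt
    · have hid' : i = d := by omega
      subst hid'
      exact h
  have hF'coh : Coh.IsCoh (CohB1.tensorMod F 𝕆(m - 1 - d)) := isCoh_tw d K F hF _
  obtain ⟨φ, hφ⟩ := exists_hom_ne_zero d K _ hF'coh htop
  -- global generation of `F(m)`
  obtain ⟨ι, p, hp⟩ := Groth.Agent.Helper1.KzMultPn.isGloballyGenerated_of_isReg d K F hF m m
    le_rfl hm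
  haveI := hp
  obtain ⟨n, hn⟩ : ∃ n : ℤ, n = -((d : ℤ) + 1) := ⟨_, rfl⟩
  haveI : Epi ((tw d K n).map p) := @Functor.map_epi _ _ _ _ (tw d K n) _ _ _ p hp
  let e1 : (tw d K n).obj (CohB1.tensorMod F 𝕆(m)) ≅ CohB1.tensorMod F 𝕆(m - 1 - d) :=
    twAddObj d K F m n (m - 1 - d) (by rw [hn]; ring)
  let Ψ : (tw d K n).obj (SheafOfModules.free ι) ⟶ CohB1.tensorMod F 𝕆(m - 1 - d) :=
    (tw d K n).map p ≫ e1.hom
  haveI : Epi Ψ := epi_comp _ _
  have hΦ : Ψ ≫ φ ≠ 0 := by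
    intro h0
    apply hφ
    rw [← cancel_epi Ψ, h0, comp_zero]
  -- some component is nonzero
  have hcomp : ∃ j : ι, (tw d K n).map (ιF ι j) ≫ Ψ ≫ φ ≠ 0 := by
    by_contra hcon
    push Not at hcon
    apply hΦ
    have hcol := isColimitOfPreserves (tw d K n)
      (SheafOfModules.isColimitFreeCofan (R := (ℙ).ringCatSheaf) ι)
    refine hcol.hom_ext (fun ⟨j⟩ => ?_)
    exact (hcon j).trans comp_zero.symm
  obtain ⟨j, hj⟩ := hcomp
  let u : ωP ≅ (tw d K n).obj (Coh.structureModule ℙ) :=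
    eqToIso (by rw [hn]) ≪≫ (unitTw d K n).symm
  let c : ωP ⟶ ωP := u.hom ≫ (tw d K n).map (ιF ι j) ≫ Ψ ≫ φ
  have hc : c ≠ 0 := by
    intro h0
    apply hj
    rw [← cancel_epi u.hom]
    rw [comp_zero]
    exact h0
  obtain ⟨a, ha⟩ := end_omega d K c
  have ha0 : a ≠ 0 := by
    rintro rfl
    apply hc
    rw [ha, zero_smul]
  let σ : ωP ⟶ CohB1.tensorMod F 𝕆(m - 1 - d) :=
    a⁻¹ • (u.hom ≫ (tw d K n).map (ιF ι j) ≫ Ψ)
  have hσ : σ ≫ φ = 𝟙 ωP := by
    have h1 : (u.hom ≫ (tw d K n).map (ιF ι j) ≫ Ψ) ≫ φ = c := by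
      simp only [c, Category.assoc]
    show (a⁻¹ • _) ≫ φ = _
    rw [Linear.smul_comp, h1, ha, smul_smul, inv_mul_cancel₀ ha0, one_smul]
  -- the splitting
  let S : ShortComplex (ℙ).Modules := ShortComplex.mk (kernel.ι φ) φ (kernel.condition φ)
  have hSex : S.Exact := ShortComplex.exact_of_f_is_kernel _ (kernelIsKernel φ)
  have hsplit : S.Splitting := ShortComplex.Splitting.ofExactOfSection S hSex σ hσ
    (inferInstance : Mono (kernel.ι φ))
  have e2 : CohB1.tensorMod F 𝕆(m - 1 - d) ≅ kernel φ ⊞ ωP := hsplit.isoBinaryBiproduct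
  -- untwisting
  obtain ⟨n', hn'⟩ : ∃ n' : ℤ, n' = -(m - 1 - d) := ⟨_, rfl⟩
  have e3 : F ≅ (tw d K n').obj (CohB1.tensorMod F 𝕆(m - 1 - d)) :=
    (twZeroObj d K F).symm ≪≫ (twAddObj d K F (m - 1 - d) n' 0 (by rw [hn']; ring)).symm
  obtain ⟨e4⟩ := nonempty_mulIso d K (-((d : ℤ) + 1)) n' (-m) (by rw [hn']; ring)
  have e5 : (tw d K n').obj (kernel φ ⊞ ωP) ≅ (tw d K n').obj (kernel φ) ⊞ 𝕆(-m) :=
    (tw d K n').mapBiprod _ _ ≪≫ biprod.mapIso (Iso.refl _) e4
  exact ⟨-m, (tw d K n').obj (kernel φ), ⟨e3 ≪≫ (tw d K n').mapIso e2 ≪≫ e5⟩⟩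

end Groth.Agent.Helper1.Horr
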