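import Mathlib
import Groth.Agent.Helper1.HorrB
import Groth.Agent.Helper1.HorrC
import Groth.Agent.Helper1.StalkExt6
import Groth.Agent.Lead.PerfLib7

/-!
# HorrD: Horrocks' splitting criterion on `P^d_K`, the induction
-/

set_option autoImplicit false
set_option linter.style.haveILetI false
set_option linter.unusedSectionVars false

universe u
open CategoryTheory CategoryTheory.Limits AlgebraicGeometry Opposite

namespace Groth.Agent.Helper1.Horr

variable (d : ℕ) (K : Type u) [Field K]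

local notation "ℙ" => CohB1.ProjSpace d K
local notation "𝕆(" n ")" => Twist.twistProjSpace d K n

section Rank

variable {X : Scheme.{u}}

/-- the rank of the stalk at a point -/
noncomputable def rk (x : X) (F : X.Modules) : ℕ :=
  Module.finrank (X.presheaf.stalk x) (F.presheaf.stalk x)

theorem rk_of_iso (x : X) {F G : X.Modules} (e : F ≅ G) : rk x F = rk x G :=
  LinearEquiv.finrank_eq ((DerSch.stalkFunctor X x).mapIso e).toLinearEquiv

instance (x : X) : PreservesBinaryBiproducts (DerSch.stalkFunctor X x) :=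
  preservesBinaryBiproducts_of_preservesBiproducts _

/-- the rank of `G ⊞ L` for `G` finite locally free and `L` invertible -/
theorem rk_biprod (x : X) (G L : X.Modules) (hG : FlatMod.IsFinLocFree G)
    (hL : PicF.IsInvertible L) : rk x (G ⊞ L) = rk x G + 1 := by
  haveI : G.IsQuasicoherent := Groth.Agent.Helper4.FinLocFree4.isQuasicoherent_of_isFinLocFree G hG
  haveI : Module.Free (X.presheaf.stalk x) (G.presheaf.stalk x) :=
    Groth.Agent.Helper4.FinLocFree2.free_stalk_of_isFinLocFree G hG x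
  haveI : Module.Finite (X.presheaf.stalk x) (G.presheaf.stalk x) :=
    Groth.Agent.Helper4.FinLocFree2.finite_stalk G
      (Groth.Agent.Lead.PerfLib.isCoh_of_isFinLocFree hG).2 x
  obtain ⟨eL⟩ := Groth.Agent.Helper1.StalkExt.nonempty_stalk_linearEquiv_of_isInvertible L hL x
  haveI : Module.Free (X.presheaf.stalk x) (L.presheaf.stalk x) := Module.Free.of_equiv eL
  haveI : Module.Finite (X.presheaf.stalk x) (L.presheaf.stalk x) := Module.Finite.equiv eL
  let e1 : (DerSch.stalkFunctor X x).obj (G ⊞ L) ≅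
      ModuleCat.of (X.presheaf.stalk x) (G.presheaf.stalk x × L.presheaf.stalk x) :=
    (DerSch.stalkFunctor X x).mapBiprod G L ≪≫ ModuleCat.biprodIsoProd _ _
  have h1 : rk x (G ⊞ L) =
      Module.finrank (X.presheaf.stalk x) (G.presheaf.stalk x × L.presheaf.stalk x) :=
    LinearEquiv.finrank_eq e1.toLinearEquiv
  rw [h1, Module.finrank_prod, ← LinearEquiv.finrank_eq eL, Module.finrank_self]
  rfl

end Rank

/-- a nonzero finite free module over a nontrivial ring has a nonzero functional -/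
theorem exists_linearMap_ne_zero (A : Type u) [CommRing A] (M : Type u) [AddCommGroup M]
    [Module A M] [Module.Free A M] [Nontrivial M] : ∃ f : M →ₗ[A] A, f ≠ 0 := by
  haveI : Nontrivial A := Module.nontrivial A M
  let b := Module.Free.chooseBasis A M
  haveI : Nonempty (Module.Free.ChooseBasisIndex A M) := by
    by_contra hcon
    rw [not_nonempty_iff] at hcon
    haveI : Subsingleton M := b.repr.toEquiv.subsingleton
    exact not_subsingleton M ‹_›
  obtain ⟨i⟩ := ‹Nonempty (Module.Free.ChooseBasisIndex A M)›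
  refine ⟨b.coord i, fun h => ?_⟩
  have h1 : b.coord i (b i) = 1 := by simp
  rw [h, LinearMap.zero_apply] at h1
  exact zero_ne_one h1

/-- the top cohomology of a nonzero finite locally free module on `P^d_K` does not vanish for all
sufficiently negative twists -/
theorem not_exists_vanishing_top (F : (ℙ).Modules) (hF : FlatMod.IsFinLocFree F)
    (hne : ¬ IsZero F) :
    ¬ ∃ q₀ : ℤ, ∀ q : ℤ, q₀ ≤ q → Subsingleton (Coh.HH ℙ (CohB1.tensorMod F 𝕆(-q)) d) := by
  intro h
  haveI : EnoughInjectives (ℙ).Modules :=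
    Groth.Agent.Helper9.ModCechExt.enoughInjectives_mod (ℙ).ringCatSheaf
  haveI : HasExt.{u} (ℙ).Modules := hasExt_of_enoughInjectives _
  haveI : HasInjectiveResolutions (ModSite.Mod (ℙ).sheaf) :=
    inferInstanceAs (HasInjectiveResolutions (ℙ).Modules)
  haveI : IsNoetherianRing (MvPolynomial (Fin (d + 1)) K) := inferInstance
  haveI : IsNoetherian ℙ := Groth.Agent.Helper3.ProjNoeth.main (CohB1.polyGrading d K)
  have hcoh := Groth.Agent.Lead.PerfLib.isCoh_of_isFinLocFree hF
  haveI := hcoh.1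
  have key := (Groth.Agent.Helper1.StalkExt.exists_vanishing_iff_forall_closed.{u, u} d K F hcoh 0
    (Nat.zero_le d)).1 h
  apply hne
  refine Groth.Agent.Helper1.StalkExt.isZero_of_closed_points F hcoh.2 (fun x hx => ?_)
  by_contra hns
  rw [not_subsingleton_iff_nontrivial] at hns
  haveI : Module.Free ((ℙ).presheaf.stalk x) (F.presheaf.stalk x) :=
    Groth.Agent.Helper4.FinLocFree2.free_stalk_of_isFinLocFree F hF x
  obtain ⟨f, hf⟩ := exists_linearMap_ne_zero ((ℙ).presheaf.stalk x) (F.presheaf.stalk x)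
  have hsub := key x hx
  apply hf
  have h1 : Abelian.Ext.mk₀ (ModuleCat.ofHom f) =
      (Abelian.Ext.mk₀ (0 : ModuleCat.of ((ℙ).presheaf.stalk x) (F.presheaf.stalk x) ⟶
        ModuleCat.of ((ℙ).presheaf.stalk x) ((ℙ).presheaf.stalk x))) := Subsingleton.elim _ _
  have h2 := (Abelian.Ext.mk₀_bijective _ _).1 h1
  have h3 := congrArg ModuleCat.Hom.hom h2
  simpa using h3

section Cat

variable {C : Type*} [Category C] [HasZeroMorphisms C] [HasFiniteCoproducts C]
  [HasBinaryBiproducts C]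

/-- `∐ f ≅ f 0 ⊞ ∐ (f ∘ succ)` -/
theorem nonempty_sigma_succ_iso {n : ℕ} (f : Fin (n + 1) → C) :
    Nonempty (∐ f ≅ f 0 ⊞ ∐ fun i : Fin n => f i.succ) := by
  let c₁ : Cofan fun i : Fin n => f i.succ := Cofan.mk (∐ fun i : Fin n => f i.succ) (Sigma.ι _)
  have t₁ : IsColimit c₁ := coproductIsCoproduct _
  let c₂ : BinaryCofan (f 0) c₁.pt := (BinaryBiproduct.bicone (f 0) c₁.pt).toCocone
  have t₂ : IsColimit c₂ := BinaryBiproduct.isColimit _ _
  exact ⟨(coproductIsCoproduct f).coconePointUniqueUpToIso (extendCofanIsColimit f t₁ t₂)⟩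

theorem isZero_sigma_fin_zero [HasZeroObject C] (f : Fin 0 → C) : IsZero (∐ f) := by
  rw [IsZero.iff_id_eq_zero]
  apply Sigma.hom_ext
  intro j
  exact j.elim0

end Cat

/-- **Horrocks**: a finite locally free module on `P^d_K`, `d ≥ 1`, without intermediate
cohomology is a direct sum of twisting sheaves (as many as the rank of a stalk) -/
theorem exists_iso_sigma (hd : 1 ≤ d) (x₀ : ℙ) : ∀ (r : ℕ) (F : (ℙ).Modules),
    FlatMod.IsFinLocFree F →
    (∀ (n : ℤ) (i : ℕ), 1 ≤ i → i < d →
      Subsingleton (Coh.HH ℙ (CohB1.tensorMod F 𝕆(n)) i)) →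
    rk x₀ F = r → ∃ a : Fin r → ℤ, Nonempty (F ≅ ∐ fun j => 𝕆(a j)) := by
  haveI : IsNoetherianRing (MvPolynomial (Fin (d + 1)) K) := inferInstance
  haveI : IsNoetherian ℙ := Groth.Agent.Helper3.ProjNoeth.main (CohB1.polyGrading d K)
  -- the common part: splitting off one summand
  have split : ∀ F : (ℙ).Modules, FlatMod.IsFinLocFree F →
      (∀ (n : ℤ) (i : ℕ), 1 ≤ i → i < d →
        Subsingleton (Coh.HH ℙ (CohB1.tensorMod F 𝕆(n)) i)) → ¬ IsZero F →
      ∃ (a : ℤ) (G : (ℙ).Modules), Nonempty (F ≅ G ⊞ 𝕆(a)) ∧ FlatMod.IsFinLocFree G ∧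
        (∀ (n : ℤ) (i : ℕ), 1 ≤ i → i < d →
          Subsingleton (Coh.HH ℙ (CohB1.tensorMod G 𝕆(n)) i)) ∧ rk x₀ F = rk x₀ G + 1 := by
    intro F hF hmid hz
    obtain ⟨a, G, ⟨e⟩⟩ := exists_split d K hd F
      (Groth.Agent.Lead.PerfLib.isCoh_of_isFinLocFree hF) hmid
      (not_exists_vanishing_top d K F hF hz)
    have hip : (biprod.inl ≫ e.inv) ≫ (e.hom ≫ biprod.fst) = 𝟙 G := by simp
    have hG : FlatMod.IsFinLocFree G :=
      Groth.Agent.Lead.PerfLib.isFinLocFree_of_retract hF _ _ hip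
    refine ⟨a, G, ⟨e⟩, hG, fun n i hi hid => ?_, ?_⟩
    · refine Groth.Agent.Helper1.KzMain.subsingleton_HH_of_retract
        ((tw d K n).map (biprod.inl ≫ e.inv)) ((tw d K n).map (e.hom ≫ biprod.fst)) ?_ i
        (hmid n i hi hid)
      rw [← Functor.map_comp, hip, CategoryTheory.Functor.map_id]
    · rw [rk_of_iso x₀ e, rk_biprod x₀ G _ hG
        (Groth.Agent.Helper1.SerreVan.isInvertible_twist d K a)]
  intro r
  induction r with
  | zero =>
    intro F hF hmid hr
    by_cases hz : IsZero F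
    · exact ⟨Fin.elim0, ⟨hz.iso (isZero_sigma_fin_zero _)⟩⟩
    · exfalso
      obtain ⟨a, G, -, -, -, hrk⟩ := split F hF hmid hz
      omega
  | succ r ih =>
    intro F hF hmid hr
    by_cases hz : IsZero F
    · exfalso
      have h0 : IsZero ((DerSch.stalkFunctor ℙ x₀).obj F) :=
        (DerSch.stalkFunctor ℙ x₀).map_isZero hz
      haveI : Subsingleton (F.presheaf.stalk x₀) := ModuleCat.subsingleton_of_isZero h0
      have h1 : rk x₀ F = 0 := Module.finrank_zero_of_subsingleton
      omega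
    · obtain ⟨a, G, ⟨e⟩, hG, hmidG, hrk⟩ := split F hF hmid hz
      obtain ⟨a', ⟨e'⟩⟩ := ih G hG hmidG (by omega)
      obtain ⟨e''⟩ := nonempty_sigma_succ_iso (fun j : Fin (r + 1) => 𝕆((Fin.cons a a' : Fin (r + 1) → ℤ) j))
      refine ⟨Fin.cons a a', ⟨e ≪≫ biprod.braiding _ _ ≪≫ biprod.mapIso (Iso.refl _) e' ≪≫ ?_⟩⟩
      exact e''.symm

end Groth.Agent.Helper1.Horr
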