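import Mathlib
import Groth.Agent.Helper1.HorrD
import Groth.Agent.Helper1.PSB1
import Groth.Agent.Helper1.Dev9

/-!
# HorrE: Horrocks' splitting criterion on `P^d_K`, both directions
-/

set_option autoImplicit false
set_option linter.style.haveILetI false
set_option linter.unusedSectionVars false

universe u
open CategoryTheory CategoryTheory.Limits AlgebraicGeometry Opposite
open Groth.Agent.Helper1.ProjTop

namespace Groth.Agent.Helper1.Horr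

variable (d : ℕ) (K : Type u) [Field K]

local notation "ℙ" => CohB1.ProjSpace d K
local notation "𝕆(" n ")" => Twist.twistProjSpace d K n

/-- the cohomology of a twisted direct sum of twisting sheaves -/
theorem subsingleton_HH_of_iso_sigma {r : ℕ} (a : Fin r → ℤ) (F : (ℙ).Modules)
    (e : F ≅ ∐ fun j => 𝕆(a j)) (n : ℤ) (i : ℕ)
    (h : ∀ j, ¬ ((i = 0 ∧ 0 ≤ a j + n) ∨ (i = d ∧ a j + n ≤ -((d : ℤ) + 1)))) :
    Subsingleton (Coh.HH ℙ (CohB1.tensorMod F 𝕆(n)) i) := by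
  obtain ⟨e1⟩ := Groth.Agent.Helper1.TwistExact.nonempty_sigma_tensor_iso
    (fun j => 𝕆(a j)) 𝕆(n)
  have e2 : (∐ fun j => CohB1.tensorMod 𝕆(a j) 𝕆(n)) ≅ ∐ fun j => 𝕆(a j + n) :=
    Sigma.mapIso (fun j => (nonempty_mulIso d K (a j) n (a j + n) rfl).some)
  have e3 : CohB1.tensorMod F 𝕆(n) ≅ ∐ fun j => 𝕆(a j + n) :=
    PicGrp.tensorModIso e (Iso.refl _) ≪≫ e1 ≪≫ e2
  haveI : Subsingleton (Coh.HH ℙ (∐ fun j => 𝕆(a j + n)) i) := by
    apply Groth.Agent.Helper1.SerreVan.subsingleton_HH_sigma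
    intro j
    exact Groth.Agent.Helper1.PSB.subsingleton_HH d K (a j + n) i (h j)
  exact (HHlinEquiv K (X := ℙ) e3 i).toEquiv.subsingleton

/-- **Horrocks, the easy direction** -/
theorem vanishing_of_iso_sigma (hd : 1 ≤ d) {r : ℕ} (a : Fin r → ℤ) (F : (ℙ).Modules)
    (e : F ≅ ∐ fun j => 𝕆(a j)) :
    (∃ n₀ : ℤ, ∀ n : ℤ, n ≤ n₀ → Subsingleton (Coh.HH ℙ (CohB1.tensorMod F 𝕆(n)) 0)) ∧
      ∀ (n : ℤ) (i : ℕ), 1 ≤ i → i < d →
        Subsingleton (Coh.HH ℙ (CohB1.tensorMod F 𝕆(n)) i) := by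
  constructor
  · obtain ⟨N, hN⟩ := (Set.finite_range a).bddAbove
    refine ⟨-N - 1, fun n hn => subsingleton_HH_of_iso_sigma d K a F e n 0 (fun j => ?_)⟩
    have h1 : a j ≤ N := hN ⟨j, rfl⟩
    rintro (⟨-, h2⟩ | ⟨h2, h3⟩) <;> omega
  · intro n i hi hid
    refine subsingleton_HH_of_iso_sigma d K a F e n i (fun j => ?_)
    rintro (⟨h2, -⟩ | ⟨h2, -⟩) <;> omega

/-- **Horrocks' splitting criterion** on `P^d_K`, `d ≥ 1` -/
theorem horrocks (hd : 1 ≤ d) (F : (ℙ).Modules) (hF : Coh.IsCoh F) (hF0 : ¬ IsZero F) :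
    (∃ (r : ℕ) (a : Fin r → ℤ), Nonempty (F ≅ ∐ fun j => 𝕆(a j))) ↔
      ((∃ n₀ : ℤ, ∀ n : ℤ, n ≤ n₀ → Subsingleton (Coh.HH ℙ (CohB1.tensorMod F 𝕆(n)) 0)) ∧
        ∀ (n : ℤ) (i : ℕ), 1 ≤ i → i < d →
          Subsingleton (Coh.HH ℙ (CohB1.tensorMod F 𝕆(n)) i)) := by
  constructor
  · rintro ⟨r, a, ⟨e⟩⟩
    exact vanishing_of_iso_sigma d K hd a F e
  · rintro ⟨⟨n₀, h0⟩, hmid⟩
    have hlf : FlatMod.IsFinLocFree F := by
      refine isFinLocFree_of_vanishing d K F hF (fun i hi => ?_)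
      rcases i with _ | i
      · exact ⟨n₀, h0⟩
      · exact ⟨0, fun n _ => hmid n (i + 1) (by omega) hi⟩
    have hne : Nonempty ℙ := by
      by_contra hcon
      rw [not_nonempty_iff] at hcon
      exact hF0 (Groth.Agent.Helper1.Dev.isZero_of_support_eq_empty F (Set.eq_empty_of_isEmpty _))
    obtain ⟨x₀⟩ := hne
    obtain ⟨a, ha⟩ := exists_iso_sigma d K hd x₀ (rk x₀ F) F hlf hmid rfl
    exact ⟨_, a, ha⟩

end Groth.Agent.Helper1.Horr
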