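import Mathlib
import Groth.Agent.Helper1.HorrE
import Groth.Agent.Helper1.ExtHom2

/-!
# HorrF: Horrocks' criterion for finite locally free modules of given rank, all `d ≥ 0`
-/

set_option autoImplicit false
set_option linter.style.haveILetI false
set_option linter.unusedSectionVars false

universe u
open CategoryTheory CategoryTheory.Limits AlgebraicGeometry Opposite
open Groth.Agent.Helper9.TensorSh Groth.Agent.Helper9.TensorAdj Groth.Agent.Helper9.TensorFlat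
  Groth.Agent.Helper1.DualSh Groth.Agent.Helper1.KzReg Groth.Agent.Helper1.ProjTop

namespace Groth.Agent.Helper1.Horr

variable (d : ℕ) (K : Type u) [Field K]

local notation "ℙ" => CohB1.ProjSpace d K
local notation "𝕆(" n ")" => Twist.twistProjSpace d K n
local notation "ωP" => Twist.twistProjSpace d K (-((d : ℤ) + 1))

open Groth.Agent.Helper1.KzLin in
/-- the core of the splitting argument: `F` is `m`-regular and `H^d(F(m-1-d)) ≠ 0` -/
theorem exists_split_core (F : (ℙ).Modules) (hF : Coh.IsCoh F) (m : ℤ) (hm : IsReg d K F m)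
    (htop : ¬ Subsingleton (Coh.HH ℙ (CohB1.tensorMod F 𝕆(m - 1 - d)) d)) :
    ∃ (a : ℤ) (G : (ℙ).Modules), Nonempty (F ≅ G ⊞ 𝕆(a)) := by
  have hF'coh : Coh.IsCoh (CohB1.tensorMod F 𝕆(m - 1 - d)) := isCoh_tw d K F hF _
  obtain ⟨φ, hφ⟩ := exists_hom_ne_zero d K _ hF'coh htop
  -- global generation of `F(m)`
  obtain ⟨ι, p, hp⟩ := Groth.Agent.Helper1.KzMultPn.isGloballyGenerated_of_isReg d K F hF m m
    le_rfl hm
  haveI := hp
  obtain ⟨n, hn⟩ : ∃ n : ℤ, n = -((d : ℤ) + 1) := ⟨_, rfl⟩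
  haveI : Epi ((tw d K n).map p) := @Functor.map_epi _ _ _ _ (tw d K n) _ _ _ p hp
  let e1 : (tw d K n).obj (CohB1.tensorMod F 𝕆(m)) ≅ CohB1.tensorMod F 𝕆(m - 1 - d) :=
    twAddObj d K F m n (m - 1 - d) (by rw [hn]; ring)
  let Ψ : (tw d K n).obj (SheafOfModules.free ι) ⟶ CohB1.tensorMod F 𝕆(m - 1 - d) :=
    (tw d K n).map p ≫ e1.hom
  haveI : Epi Ψ := epi_comp _ _
  have hΦ : Ψ ≫ φ ≠ 0 := by
    intro h0
    apply hφ
    rw [← cancel_epi Ψ, h0, comp_zero]
  -- some component is nonzero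
  have hcomp : ∃ j : ι, (tw d K n).map (ιF ι j) ≫ Ψ ≫ φ ≠ 0 := by
    by_contra hcon
    push Not at hcon
    apply hΦ
    have hcol := isColimitOfPreserves (tw d K n)
      (SheafOfModules.isColimitFreeCofan (R := (ℙ).ringCatSheaf) ι)
    refine hcol.hom_ext (fun ⟨j⟩ => ?_)
    exact (hcon j).trans comp_zero.symm
  obtain ⟨j, hj⟩ := hcomp
  let u : ωP ≅ (tw d K n).obj (Coh.structureModule ℙ) :=
    eqToIso (by rw [hn]) ≪≫ (unitTw d K n).symm
  let c : ωP ⟶ ωP := u.hom ≫ (tw d K n).map (ιF ι j) ≫ Ψ ≫ φ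
  have hc : c ≠ 0 := by
    intro h0
    apply hj
    rw [← cancel_epi u.hom]
    rw [comp_zero]
    exact h0
  obtain ⟨a, ha⟩ := end_omega d K c
  have ha0 : a ≠ 0 := by
    rintro rfl
    apply hc
    rw [ha, zero_smul]
  let σ : ωP ⟶ CohB1.tensorMod F 𝕆(m - 1 - d) :=
    a⁻¹ • (u.hom ≫ (tw d K n).map (ιF ι j) ≫ Ψ)
  have hσ : σ ≫ φ = 𝟙 ωP := by
    have h1 : (u.hom ≫ (tw d K n).map (ιF ι j) ≫ Ψ) ≫ φ = c := by
      simp only [c, Category.assoc]
    show (a⁻¹ • _) ≫ φ = _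
    rw [Linear.smul_comp, h1, ha, smul_smul, inv_mul_cancel₀ ha0, one_smul]
  -- the splitting
  let S : ShortComplex (ℙ).Modules := ShortComplex.mk (kernel.ι φ) φ (kernel.condition φ)
  have hSex : S.Exact := ShortComplex.exact_of_f_is_kernel _ (kernelIsKernel φ)
  have hsplit : S.Splitting := ShortComplex.Splitting.ofExactOfSection S hSex σ hσ
    (inferInstance : Mono (kernel.ι φ))
  have e2 : CohB1.tensorMod F 𝕆(m - 1 - d) ≅ kernel φ ⊞ ωP := hsplit.isoBinaryBiproduct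
  -- untwisting
  obtain ⟨n', hn'⟩ : ∃ n' : ℤ, n' = -(m - 1 - d) := ⟨_, rfl⟩
  have e3 : F ≅ (tw d K n').obj (CohB1.tensorMod F 𝕆(m - 1 - d)) :=
    (twZeroObj d K F).symm ≪≫ (twAddObj d K F (m - 1 - d) n' 0 (by rw [hn']; ring)).symm
  obtain ⟨e4⟩ := nonempty_mulIso d K (-((d : ℤ) + 1)) n' (-m) (by rw [hn']; ring)
  have e5 : (tw d K n').obj (kernel φ ⊞ ωP) ≅ (tw d K n').obj (kernel φ) ⊞ 𝕆(-m) :=
    (tw d K n').mapBiprod _ _ ≪≫ biprod.mapIso (Iso.refl _) e4
  exact ⟨-m, (tw d K n').obj (kernel φ), ⟨e3 ≪≫ (tw d K n').mapIso e2 ≪≫ e5⟩⟩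

/-- a nonzero globally generated module has a nonzero global section -/
theorem not_subsingleton_H0_of_gg {X : Scheme.{u}} [X.Over (Spec (CommRingCat.of K))]
    (F : X.Modules) (hgg : Curv2.IsGloballyGenerated F) (hz : ¬ IsZero F) :
    ¬ Subsingleton (Coh.HH X F 0) := by
  obtain ⟨ι, p, hp⟩ := hgg
  intro hsub
  apply hz
  have hp0 : p = 0 := by
    apply Groth.Agent.Helper1.KzLin.free_hom_ext_zero
    intro j
    apply (Groth.Agent.Helper1.ExtHom.evalH0Equiv K F).injective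
    exact Subsingleton.elim _ _
  rw [IsZero.iff_id_eq_zero]
  have h1 : p ≫ 𝟙 F = p ≫ 0 := by rw [hp0, zero_comp, zero_comp]
  exact (cancel_epi p).1 h1

/-- splitting off a twisting sheaf on `P^0_K` -/
theorem exists_split_zero (hd : d = 0) (F : (ℙ).Modules) (hF : Coh.IsCoh F) (hz : ¬ IsZero F) :
    ∃ (a : ℤ) (G : (ℙ).Modules), Nonempty (F ≅ G ⊞ 𝕆(a)) := by
  subst hd
  have hreg : ∀ m : ℤ, IsReg 0 K F m := by
    intro m
    apply isReg_of_le 0 K F hF
    intro i hi hid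
    omega
  have hgg := Groth.Agent.Helper1.KzMultPn.isGloballyGenerated_of_isReg 0 K F hF 0 0 le_rfl
    (hreg 0)
  have hz' : ¬ IsZero (CohB1.tensorMod F (Twist.twistProjSpace 0 K 0)) :=
    fun h => hz (h.of_iso (twZeroObj 0 K F).symm)
  have htop := not_subsingleton_H0_of_gg K _ hgg hz'
  refine exists_split_core 0 K F hF 1 (hreg 1) ?_
  have e : (1 : ℤ) - 1 - ((0 : ℕ) : ℤ) = 0 := by norm_num
  rw [e]
  exact htop

/-- the stalk rank of a finite locally free module of rank `r` -/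
theorem rk_of_isFinLocFreeOfRank {X : Scheme.{u}} (x : X) {r : ℕ} (E : X.Modules)
    (hE : FlatMod.IsFinLocFreeOfRank r E) : rk x E = r := by
  haveI : E.IsQuasicoherent := Groth.Agent.Helper4.FinLocFree4.isQuasicoherent_of_isFinLocFree E
    (Groth.Agent.Helper4.FinLocFree7.isFinLocFree_of_rank E hE)
  obtain ⟨V, hxV, hV⟩ := hE x
  obtain ⟨b⟩ := Groth.Agent.Helper4.FinLocFree2.nonempty_basis_stalk_of_isFreeAlong E
    (V := V) (n := r) hV x hxV
  haveI : Nontrivial (X.presheaf.stalk x) := inferInstance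
  have h := Module.finrank_eq_card_basis b
  rw [Fintype.card_fin] at h
  exact h

/-- **Horrocks**, all `d ≥ 0`: a finite locally free module on `P^d_K` without intermediate
cohomology is a direct sum of twisting sheaves (as many as the rank of a stalk) -/
theorem exists_iso_sigma_all (x₀ : ℙ) : ∀ (r : ℕ) (F : (ℙ).Modules),
    FlatMod.IsFinLocFree F →
    (∀ (n : ℤ) (i : ℕ), 1 ≤ i → i < d →
      Subsingleton (Coh.HH ℙ (CohB1.tensorMod F 𝕆(n)) i)) →
    rk x₀ F = r → ∃ a : Fin r → ℤ, Nonempty (F ≅ ∐ fun j => 𝕆(a j)) := by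
  rcases Nat.eq_zero_or_pos d with hd | hd
  swap
  · exact exists_iso_sigma d K hd x₀
  haveI : IsNoetherianRing (MvPolynomial (Fin (d + 1)) K) := inferInstance
  haveI : IsNoetherian ℙ := Groth.Agent.Helper3.ProjNoeth.main (CohB1.polyGrading d K)
  have split : ∀ F : (ℙ).Modules, FlatMod.IsFinLocFree F → ¬ IsZero F →
      ∃ (a : ℤ) (G : (ℙ).Modules), Nonempty (F ≅ G ⊞ 𝕆(a)) ∧ FlatMod.IsFinLocFree G ∧
        rk x₀ F = rk x₀ G + 1 := by
    intro F hF hz
    obtain ⟨a, G, ⟨e⟩⟩ := exists_split_zero d K hd F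
      (Groth.Agent.Lead.PerfLib.isCoh_of_isFinLocFree hF) hz
    have hip : (biprod.inl ≫ e.inv) ≫ (e.hom ≫ biprod.fst) = 𝟙 G := by simp
    have hG : FlatMod.IsFinLocFree G :=
      Groth.Agent.Lead.PerfLib.isFinLocFree_of_retract hF _ _ hip
    refine ⟨a, G, ⟨e⟩, hG, ?_⟩
    rw [rk_of_iso x₀ e, rk_biprod x₀ G _ hG
      (Groth.Agent.Helper1.SerreVan.isInvertible_twist d K a)]
  have hmid0 : ∀ G : (ℙ).Modules, ∀ (n : ℤ) (i : ℕ), 1 ≤ i → i < d →
      Subsingleton (Coh.HH ℙ (CohB1.tensorMod G 𝕆(n)) i) := by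
    intro G n i hi hid
    omega
  intro r
  induction r with
  | zero =>
    intro F hF hmid hr
    by_cases hz : IsZero F
    · exact ⟨Fin.elim0, ⟨hz.iso (isZero_sigma_fin_zero _)⟩⟩
    · exfalso
      obtain ⟨a, G, -, -, hrk⟩ := split F hF hz
      omega
  | succ r ih =>
    intro F hF hmid hr
    by_cases hz : IsZero F
    · exfalso
      have h0 : IsZero ((DerSch.stalkFunctor ℙ x₀).obj F) :=
        (DerSch.stalkFunctor ℙ x₀).map_isZero hz
      haveI : Subsingleton (F.presheaf.stalk x₀) := ModuleCat.subsingleton_of_isZero h0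
      have h1 : rk x₀ F = 0 := Module.finrank_zero_of_subsingleton
      omega
    · obtain ⟨a, G, ⟨e⟩, hG, hrk⟩ := split F hF hz
      obtain ⟨a', ⟨e'⟩⟩ := ih G hG (hmid0 G) (by omega)
      obtain ⟨e''⟩ := nonempty_sigma_succ_iso
        (fun j : Fin (r + 1) => 𝕆((Fin.cons a a' : Fin (r + 1) → ℤ) j))
      exact ⟨Fin.cons a a', ⟨e ≪≫ biprod.braiding _ _ ≪≫ biprod.mapIso (Iso.refl _) e' ≪≫
        e''.symm⟩⟩

/-- **Horrocks' criterion for a finite locally free module of rank `r`** on `P^d_K`, all `d` -/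
theorem horrocks_rank (r : ℕ) (E : (ℙ).Modules) (hE : FlatMod.IsFinLocFreeOfRank r E) :
    (∃ a : Fin r → ℤ, Nonempty (E ≅ ∐ fun j : Fin r => 𝕆(a j))) ↔
      ∀ (i : ℕ) (n : ℤ), 0 < i → i < d →
        Subsingleton (Coh.HH ℙ (CohB1.tensorMod E 𝕆(n)) i) := by
  constructor
  · rintro ⟨a, ⟨e⟩⟩ i n hi hid
    refine subsingleton_HH_of_iso_sigma d K a E e n i (fun j => ?_)
    rintro (⟨h2, -⟩ | ⟨h2, -⟩) <;> omega
  · intro h
    by_cases hne : Nonempty ℙ
    · obtain ⟨x₀⟩ := hne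
      exact exists_iso_sigma_all d K x₀ r E
        (Groth.Agent.Helper4.FinLocFree7.isFinLocFree_of_rank E hE)
        (fun n i hi hid => h i n hi hid) (rk_of_isFinLocFreeOfRank x₀ E hE)
    · rw [not_nonempty_iff] at hne
      have hz : ∀ M : (ℙ).Modules, IsZero M := fun M =>
        Groth.Agent.Helper1.Dev.isZero_of_support_eq_empty M (Set.eq_empty_of_isEmpty _)
      exact ⟨fun _ => 0, ⟨(hz _).iso (hz _)⟩⟩

end Groth.Agent.Helper1.Horr
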