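import Mathlib
import Groth.Agent.Helper1.GR25
import Groth.Agent.Helper1.GR4
import Groth.Agent.Helper1.HorrF
import Groth.Agent.Helper9.TP1
import Groth.Agent.Lead.AffHomA
import Groth.Agent.Lead.KAmple
import Groth.Agent.Helper4.QcohLocal

/-!
# Grassmannian, part 26: finite locally free modules of rank `d` on `Spec A` and finite projective
modules of rank `d`
-/

set_option autoImplicit false
set_option linter.style.haveILetI false

namespace Groth.Agent.Helper1.GR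

open CategoryTheory Limits AlgebraicGeometry TopologicalSpace Opposite
open Groth.Agent.Helper1.PUP Groth.Agent.Helper4.GenLoc

universe u

variable (𝔸 : CommRingCat.{u})

/-- the ring isomorphism `A ≃ Γ(Spec A, ⊤)` -/
noncomputable def eΓ : 𝔸 ≃+* Γ(Spec 𝔸, ⊤) :=
  (Scheme.ΓSpecIso 𝔸).symm.commRingCatIsoToRingEquiv

theorem eΓ_apply (a : 𝔸) : eΓ 𝔸 a = (Scheme.ΓSpecIso 𝔸).inv a := rfl

variable {𝔸}

theorem eΓ_smul (L : (Spec 𝔸).Modules) (a : 𝔸) (m : Γ(L, ⊤)) : eΓ 𝔸 a • m = a • m := by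
  rw [Scheme.Modules.smul_Spec_def]
  have h : ((⊤ : (Spec 𝔸).Opens).leTop) = 𝟙 _ := Subsingleton.elim _ _
  rw [h]
  erw [CategoryTheory.Functor.map_id]
  rfl

theorem smul_eΓ_symm (L : (Spec 𝔸).Modules) (r : Γ(Spec 𝔸, ⊤)) (m : Γ(L, ⊤)) :
    (eΓ 𝔸).symm r • m = r • m := by
  rw [← eΓ_smul, RingEquiv.apply_symm_apply]

section Sheaf

variable (L : (Spec 𝔸).Modules) {d : ℕ}

theorem isQuasicoherent_of_rank (hL : FlatMod.IsFinLocFreeOfRank d L) : L.IsQuasicoherent :=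
  Groth.Agent.Helper4.FinLocFree4.isQuasicoherent_of_isFinLocFree L
    (Groth.Agent.Helper4.FinLocFree7.isFinLocFree_of_rank L hL)

theorem finite_projective_Γ (hL : FlatMod.IsFinLocFreeOfRank d L) :
    Module.Finite 𝔸 Γ(L, ⊤) ∧ Module.Projective 𝔸 Γ(L, ⊤) := by
  haveI := isQuasicoherent_of_rank L hL
  have hiso : IsIso L.fromTildeΓ := inferInstance
  have h1 : FlatMod.IsFinLocFree (tilde (moduleSpecΓFunctor.obj L)) :=
    Groth.Agent.Helper4.FinLocFree2.isFinLocFree_of_iso (asIso L.fromTildeΓ).symm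
      (Groth.Agent.Helper4.FinLocFree7.isFinLocFree_of_rank L hL)
  exact Groth.Agent.Helper9.TP1.finite_projective_of_isFinLocFree_tilde 𝔸
    (moduleSpecΓFunctor.obj L) h1

theorem rankAtStalk_Γ' [L.IsQuasicoherent] (x : Spec 𝔸) :
    Module.rankAtStalk (R := Γ(Spec 𝔸, ⊤)) Γ(L, ⊤)
      ((isAffineOpen_top (Spec 𝔸)).primeIdealOf ⟨x, trivial⟩) =
      Module.finrank ((Spec 𝔸).presheaf.stalk x) (L.presheaf.stalk x) :=
  (Groth.Agent.Helper4.FinLocFree5.finrank_stalk_eq_rankAtStalk L (isAffineOpen_top (Spec 𝔸))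
    x trivial).symm

theorem rankAtStalk_Γ (hL : FlatMod.IsFinLocFreeOfRank d L) (p : PrimeSpectrum 𝔸) :
    Module.rankAtStalk (R := 𝔸) Γ(L, ⊤) p = d := by
  haveI := isQuasicoherent_of_rank L hL
  apply rankAtStalk_const_of_ringEquiv (eΓ 𝔸) (eΓ_smul L) d
  intro P
  obtain ⟨y, hy, hyP⟩ := Groth.Agent.Helper4.FinLocFree5.exists_point_of_prime
    (isAffineOpen_top (Spec 𝔸)) P
  rw [← hyP, rankAtStalk_Γ' L y]
  exact Groth.Agent.Helper1.Horr.rk_of_isFinLocFreeOfRank y L hL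

end Sheaf

section Tilde

variable (Q : ModuleCat.{u} 𝔸) {d : ℕ}

/-- global sections of `Q~` -/
noncomputable def tildeΓEquiv : Q ≃ₗ[𝔸] Γ(tilde Q, ⊤) :=
  (asIso (tilde.toOpen Q ⊤)).toLinearEquiv

theorem tildeΓEquiv_apply (q : Q) : tildeΓEquiv Q q = (tilde.toOpen Q ⊤).hom q := rfl

theorem isFinLocFreeOfRank_tilde [Module.Finite 𝔸 Q] [Module.Projective 𝔸 Q]
    (hd : ∀ p : PrimeSpectrum 𝔸, Module.rankAtStalk (R := 𝔸) Q p = d) :
    FlatMod.IsFinLocFreeOfRank d (tilde Q) := by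
  have h1 := Groth.Agent.Helper9.TP1.isFinLocFree_tilde 𝔸 Q inferInstance inferInstance
  intro x
  obtain ⟨U, n, hxU, hU⟩ := h1 x
  refine ⟨U, hxU, ?_⟩
  have h2 : Module.finrank ((Spec 𝔸).presheaf.stalk x) ((tilde Q).presheaf.stalk x) = n :=
    Groth.Agent.Lead.KAmple.finrank_stalk_of_isFreeAlong (tilde Q) hU x hxU
  have h3 : ∀ p : PrimeSpectrum 𝔸, Module.rankAtStalk (R := 𝔸) Γ(tilde Q, ⊤) p = d := by
    intro p
    rw [← hd p]
    exact congrFun (Module.rankAtStalk_eq_of_equiv (tildeΓEquiv Q).symm) p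
  have h4 := rankAtStalk_const_of_ringEquiv' (eΓ 𝔸) (eΓ_smul (tilde Q)) d h3
    ((isAffineOpen_top (Spec 𝔸)).primeIdealOf ⟨x, trivial⟩)
  rw [rankAtStalk_Γ' (tilde Q) x, h2] at h4
  rw [← h4]
  exact hU

end Tilde

section Sections

variable {L : (Spec 𝔸).Modules} {N : ℕ}

/-- linear combinations of global sections over `A` and over `Γ(Spec A, ⊤)` -/
theorem sum_smul_eΓ (x : Fin N → Γ(L, ⊤)) (c : Fin N → Γ(Spec 𝔸, ⊤)) :
    ∑ j, c j • x j = ∑ j, (eΓ 𝔸).symm (c j) • x j :=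
  Finset.sum_congr rfl fun j _ => (smul_eΓ_symm L (c j) (x j)).symm

/-- an epimorphic family of sections generates the global sections -/
theorem span_sec_of_epi [L.IsQuasicoherent] (t : Fin N → (Coh.structureModule (Spec 𝔸) ⟶ L))
    [Epi (frameMap t)] :
    Submodule.span 𝔸 (Set.range fun j => sec (t j) ⊤) = ⊤ := by
  rw [eq_top_iff]
  intro m _
  haveI : (FlatMod.freeMod (Spec 𝔸) N).IsQuasicoherent :=
    Groth.Agent.Helper4.FinLocFree4.isQuasicoherent_freeMod _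
  obtain ⟨m', hm'⟩ := Groth.Agent.Helper4.QcohEpi.app_surjective_of_epi (frameMap t)
    (isAffineOpen_top (Spec 𝔸)) m
  rw [← hm', frameMap_app t le_rfl m']
  unfold comb
  have h1 : ∀ i, rs L (le_refl (⊤ : (Spec 𝔸).Opens)) (sec (t i) ⊤) = sec (t i) ⊤ :=
    fun i => rs_sec (t i) le_rfl
  simp only [h1]
  rw [sum_smul_eΓ]
  exact Submodule.sum_mem _ fun j _ => Submodule.smul_mem _ _ (Submodule.subset_span ⟨j, rfl⟩)

/-- a generating family of global sections gives an epimorphism from the free module -/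
theorem epi_frameMap_of_span [L.IsQuasicoherent] (t : Fin N → (Coh.structureModule (Spec 𝔸) ⟶ L))
    (h : Submodule.span 𝔸 (Set.range fun j => sec (t j) ⊤) = ⊤) : Epi (frameMap t) := by
  apply Groth.Agent.Helper4.QcohLocal.epi_of_app_surjective_of_affine_cover
  intro x
  refine ⟨⊤, isAffineOpen_top _, trivial, fun m => ?_⟩
  have hm : m ∈ Submodule.span 𝔸 (Set.range fun j => sec (t j) ⊤) := by rw [h]; trivial
  obtain ⟨c, hc⟩ := (Submodule.mem_span_range_iff_exists_fun 𝔸).mp hm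
  refine ⟨ofCoords ⊤ (fun j => eΓ 𝔸 (c j)), ?_⟩
  rw [frameMap_app t le_rfl, coords_ofCoords]
  unfold comb
  have h1 : ∀ i, rs L (le_refl (⊤ : (Spec 𝔸).Opens)) (sec (t i) ⊤) = sec (t i) ⊤ :=
    fun i => rs_sec (t i) le_rfl
  simp only [h1, eΓ_smul]
  exact hc

end Sections

section Iso

variable (L L' : (Spec 𝔸).Modules) [L.IsQuasicoherent] [L'.IsQuasicoherent]

/-- a linear map of global sections lifts to a morphism of quasi-coherent modules -/
theorem exists_hom_of_linearMap (θ : Γ(L, ⊤) →ₗ[𝔸] Γ(L', ⊤)) :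
    ∃ τ : L ⟶ L', ∀ m : Γ(L, ⊤), τ.app ⊤ m = θ m := by
  apply Groth.Agent.Lead.AffHomA.exists_hom L L' θ.toAddMonoidHom
  intro r m
  change θ (r • m) = r • θ m
  rw [← smul_eΓ_symm L r m, ← smul_eΓ_symm L' r (θ m), map_smul]

/-- a linear isomorphism of global sections lifts to an isomorphism of quasi-coherent modules -/
theorem exists_iso_of_linearEquiv (θ : Γ(L, ⊤) ≃ₗ[𝔸] Γ(L', ⊤)) :
    ∃ τ : L ≅ L', ∀ m : Γ(L, ⊤), τ.hom.app ⊤ m = θ m := by
  obtain ⟨α, hα⟩ := exists_hom_of_linearMap L L' θ.toLinearMap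
  obtain ⟨β, hβ⟩ := exists_hom_of_linearMap L' L θ.symm.toLinearMap
  refine ⟨⟨α, β, ?_, ?_⟩, hα⟩
  · apply Groth.Agent.Lead.AffHomA.hom_ext
    intro m
    change β.app ⊤ (α.app ⊤ m) = m
    rw [hα, hβ]
    exact θ.symm_apply_apply m
  · apply Groth.Agent.Lead.AffHomA.hom_ext
    intro m
    change α.app ⊤ (β.app ⊤ m) = m
    rw [hβ, hα]
    exact θ.apply_symm_apply m

end Iso

end Groth.Agent.Helper1.GR
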