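import Mathlib
import Groth.Agent.Helper1.GR19
import Groth.Agent.Helper1.GR24
import Groth.Agent.Helper1.GR26
import Groth.Agent.Helper2.FinLocFreeLim

/-!
# Grassmannian, part 27: the affine points of `Gr` are the points of Mathlib's Grassmannian functor
-/

set_option autoImplicit false
set_option linter.style.haveILetI false
set_option linter.unusedSectionVars false

namespace Groth.Agent.Helper1.GR

open CategoryTheory Limits AlgebraicGeometry TopologicalSpace Opposite TensorProduct
open Groth.Agent.Helper1.PUP Groth.Agent.Helper4.GenLoc Groth.Agent.Helper4.PullSec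

universe u

section Alg

variable {A : Type*} [CommRing A] {V Q Q' : Type*} [AddCommGroup V] [Module A V]
  [AddCommGroup Q] [Module A Q] [AddCommGroup Q'] [Module A Q']

/-- two surjections with the same kernel have isomorphic targets -/
theorem exists_equiv_of_ker_eq (f : V →ₗ[A] Q) (f' : V →ₗ[A] Q') (hf : Function.Surjective f)
    (hf' : Function.Surjective f') (h : LinearMap.ker f = LinearMap.ker f') :
    ∃ θ : Q ≃ₗ[A] Q', ∀ v, θ (f v) = f' v := by
  refine ⟨(f.quotKerEquivOfSurjective hf).symm ≪≫ₗ Submodule.quotEquivOfEq _ _ h ≪≫ₗ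
    f'.quotKerEquivOfSurjective hf', fun v => ?_⟩
  have h1 : (f.quotKerEquivOfSurjective hf).symm (f v) = Submodule.Quotient.mk v := by
    rw [LinearEquiv.symm_apply_eq]
    rfl
  simp only [LinearEquiv.trans_apply, h1, Submodule.quotEquivOfEq_mk]
  rfl

end Alg

variable {R : Type u} [CommRing R] {d N : ℕ} {A : Type u} [CommRing A] [Algebra R A]

section Point

variable (h : Spec (CommRingCat.of A) ⟶ Gr R d N)

/-- the pullback of the universal quotient -/
noncomputable abbrev Lh : (Spec (CommRingCat.of A)).Modules :=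
  (Scheme.Modules.pullback h).obj (UQ R d N)

/-- the pulled back sections -/
noncomputable abbrev th (j : Fin N) : Coh.structureModule (Spec (CommRingCat.of A)) ⟶ Lh h :=
  pullSec h (uG R d N j)

theorem rank_Lh : FlatMod.IsFinLocFreeOfRank d (Lh h) :=
  Groth.Agent.Helper2.FinLocFreeLim.isFinLocFreeOfRank_pullback h (isFinLocFreeOfRank_UQ R d N)

instance isQuasicoherent_Lh : (Lh h).IsQuasicoherent := isQuasicoherent_of_rank _ (rank_Lh h)

instance epi_frameMap_th : Epi (frameMap (th h)) := by
  have h1 : frameMap (th h) = (Groth.Agent.Helper8.TildeBC.pullbackFreeIso h N).inv ≫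
      (Scheme.Modules.pullback h).map (frameMap (uG R d N)) := frameMap_pullSec h (uG R d N)
  rw [h1, frameMap_uG]
  infer_instance

noncomputable instance instModuleΓ (L : (Spec (CommRingCat.of A)).Modules) : Module A Γ(L, ⊤) :=
  Scheme.Modules.instModuleCarrierCarrierObjOppositeOpensCarrierCarrierCommRingCatSpecAbPresheafOp
    (R := CommRingCat.of A) (M := L) (U := ⊤)

/-- the global sections `x_j` -/
noncomputable def xh (j : Fin N) : Γ(Lh h, ⊤) := sec (th h j) ⊤

/-- the surjection `A ⊗ R^N → Γ(h^*UQ)` -/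
noncomputable def lamh : A ⊗[R] (Fin N → R) →ₗ[A] Γ(Lh h, ⊤) := lam R A N (xh h)

theorem lamh_surjective : Function.Surjective (lamh h) := by
  rw [← LinearMap.range_eq_top]
  unfold lamh
  rw [range_lam]
  exact span_sec_of_epi (𝔸 := CommRingCat.of A) (th h)

/-- the point of Mathlib's Grassmannian functor attached to a morphism to `Gr` -/
noncomputable def toG : Module.Grassmannian A (A ⊗[R] (Fin N → R)) d :=
  letI e := (lamh h).quotKerEquivOfSurjective (lamh_surjective h)
  haveI := (finite_projective_Γ (𝔸 := CommRingCat.of A) (Lh h) (rank_Lh h)).1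
  haveI := (finite_projective_Γ (𝔸 := CommRingCat.of A) (Lh h) (rank_Lh h)).2
  { toSubmodule := LinearMap.ker (lamh h)
    finite_quotient := Module.Finite.equiv e.symm
    projective_quotient := Module.Projective.of_equiv e.symm
    rankAtStalk_eq := fun p => by
      rw [congrFun (Module.rankAtStalk_eq_of_equiv e) p]
      exact rankAtStalk_Γ (𝔸 := CommRingCat.of A) (Lh h) (rank_Lh h) p }

theorem toG_toSubmodule : (toG h).toSubmodule = LinearMap.ker (lamh h) := rfl

end Point

section Lin

variable {L L' : (Spec (CommRingCat.of A)).Modules}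

/-- the map on global sections as an `A`-linear map -/
noncomputable def appA (α : L ⟶ L') : Γ(L, ⊤) →ₗ[A] Γ(L', ⊤) where
  toFun := α.app ⊤
  map_add' := map_add _
  map_smul' := by
    intro a m
    have h1 := eΓ_smul (𝔸 := CommRingCat.of A) L a m
    have h2 := eΓ_smul (𝔸 := CommRingCat.of A) L' a (α.app ⊤ m)
    change α.app ⊤ (a • m) = a • α.app ⊤ m
    rw [← h1, ← h2]
    exact Scheme.Modules.Hom.app_smul α _ m

theorem appA_apply (α : L ⟶ L') (m : Γ(L, ⊤)) : appA α m = α.app ⊤ m := rfl

theorem appA_injective_of_iso (τ : L ≅ L') : Function.Injective (appA τ.hom) := by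
  intro m m' hmm
  have h1 : ∀ z, τ.inv.app ⊤ (τ.hom.app ⊤ z) = z := by
    intro z
    have h2 := congrArg (fun ψ => (Scheme.Modules.Hom.app ψ ⊤) z) τ.hom_inv_id
    exact h2
  rw [← h1 m, ← h1 m']
  exact congrArg _ hmm

end Lin

section Inj

theorem toG_injective (h h' : Spec (CommRingCat.of A) ⟶ Gr R d N)
    (hq : h ≫ GrToSpec R d N = h' ≫ GrToSpec R d N) (hG : toG h = toG h') : h = h' := by
  have hker : LinearMap.ker (lamh h) = LinearMap.ker (lamh h') := by
    rw [← toG_toSubmodule, ← toG_toSubmodule, hG]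
  obtain ⟨θ, hθ⟩ := exists_equiv_of_ker_eq (lamh h) (lamh h') (lamh_surjective h)
    (lamh_surjective h') hker
  obtain ⟨τ, hτ⟩ := exists_iso_of_linearEquiv (𝔸 := CommRingCat.of A) (Lh h) (Lh h') θ
  apply Gr_hom_ext R d N h h' hq τ
  intro j
  apply hom_ext_of_sec
  rw [sec_comp, hτ]
  have h1 := hθ (bvec R A N j)
  unfold lamh at h1
  rw [lam_bvec, lam_bvec] at h1
  exact h1

end Inj

section Surj

variable (U : Module.Grassmannian A (A ⊗[R] (Fin N → R)) d)

/-- the quotient module of a point of the Grassmannian functor -/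
noncomputable abbrev Qm : ModuleCat.{u} (CommRingCat.of A) :=
  ModuleCat.of A ((A ⊗[R] (Fin N → R)) ⧸ U.toSubmodule)

/-- the sheaf attached to a point of the Grassmannian functor -/
noncomputable abbrev LU : (Spec (CommRingCat.of A)).Modules := tilde (Qm U)

theorem rank_LU : FlatMod.IsFinLocFreeOfRank d (LU U) := by
  haveI : Module.Finite (CommRingCat.of A) (Qm U) := U.finite_quotient
  haveI : Module.Projective (CommRingCat.of A) (Qm U) := U.projective_quotient
  exact isFinLocFreeOfRank_tilde (𝔸 := CommRingCat.of A) (Qm U) (fun p => U.rankAtStalk_eq p)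

/-- the surjection `A ⊗ R^N → Γ(Q~)` -/
noncomputable def lamU : A ⊗[R] (Fin N → R) →ₗ[A] Γ(LU U, ⊤) :=
  (tildeΓEquiv (𝔸 := CommRingCat.of A) (Qm U)).toLinearMap ∘ₗ U.toSubmodule.mkQ

theorem lamU_surjective : Function.Surjective (lamU U) :=
  (tildeΓEquiv (𝔸 := CommRingCat.of A) (Qm U)).surjective.comp (Submodule.mkQ_surjective _)

theorem ker_lamU : LinearMap.ker (lamU U) = U.toSubmodule := by
  unfold lamU
  rw [LinearMap.ker_comp]
  have : LinearMap.ker (tildeΓEquiv (𝔸 := CommRingCat.of A) (Qm U)).toLinearMap = ⊥ :=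
    LinearMap.ker_eq_bot.mpr (tildeΓEquiv (𝔸 := CommRingCat.of A) (Qm U)).injective
  rw [this, Submodule.comap_bot, Submodule.ker_mkQ]

/-- the sections of `Q~` -/
noncomputable def sU (j : Fin N) : Coh.structureModule (Spec (CommRingCat.of A)) ⟶ LU U :=
  Groth.Agent.Lead.LocLift.homOfTop (LU U) (lamU U (bvec R A N j))

theorem sec_sU (j : Fin N) : sec (sU U j) ⊤ = lamU U (bvec R A N j) := sec_homOfTop _

theorem lamU_eq : lamU U = lam R A N (fun j => sec (sU U j) ⊤) := by
  rw [eq_lam R A N (lamU U)]
  congr 1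
  funext j
  exact (sec_sU U j).symm

theorem epi_frameMap_sU : Epi (frameMap (sU U)) := by
  apply epi_frameMap_of_span (𝔸 := CommRingCat.of A)
  have h1 := range_lam R A N (fun j => sec (sU U j) ⊤)
  rw [← lamU_eq, LinearMap.range_eq_top.mpr (lamU_surjective U)] at h1
  exact h1.symm

theorem toG_surjective (q : Spec (CommRingCat.of A) ⟶ Spec (CommRingCat.of R)) :
    ∃ h : Spec (CommRingCat.of A) ⟶ Gr R d N, h ≫ GrToSpec R d N = q ∧ toG h = U := by
  haveI := epi_frameMap_sU U
  obtain ⟨h, hq, τ, hτ⟩ := Gr_exists_hom R d N q (LU U) (rank_LU U) (sU U)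
  refine ⟨h, hq, ?_⟩
  apply Module.Grassmannian.ext
  rw [toG_toSubmodule, ← ker_lamU U]
  have h1 : (appA τ.hom) ∘ₗ lamh h = lamU U := by
    unfold lamh
    rw [lam_comp, lamU_eq]
    congr 1
    funext j
    rw [appA_apply]
    have h2 := congrArg (fun σ => sec σ ⊤) (hτ j)
    simp only [sec_comp] at h2
    exact h2
  rw [← h1, LinearMap.ker_comp]
  have : LinearMap.ker (appA τ.hom) = ⊥ := LinearMap.ker_eq_bot.mpr (appA_injective_of_iso τ)
  rw [this, Submodule.comap_bot]

end Surj

section Equiv

variable (R d N)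

/-- the Grassmannian as an `R`-scheme -/
noncomputable abbrev GrO : Over (Spec (CommRingCat.of R)) := Over.mk (GrToSpec R d N)

/-- **the bijection between affine points of `Gr` and points of the Grassmannian functor** -/
noncomputable def eGr (A : CommAlgCat.{u} R) :
    (ptO A ⟶ GrO R d N) ≃ (Module.Grassmannian.functor (R := R) (M := Fin N → R) d).obj A :=
  Equiv.ofBijective (fun g => toG (A := A) g.left) (by
    constructor
    · intro g g' hgg
      apply Over.OverMorphism.ext
      exact toG_injective g.left g'.left ((Over.w g).trans (Over.w g').symm) hgg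
    · intro U
      obtain ⟨h, hq, hU⟩ := toG_surjective (A := A) U (ptO A).hom
      exact ⟨Over.homMk h hq, hU⟩)

theorem eGr_apply (A : CommAlgCat.{u} R) (g : ptO A ⟶ GrO R d N) :
    eGr R d N A g = toG (A := A) g.left := rfl

end Equiv

end Groth.Agent.Helper1.GR
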