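import Mathlib
import Groth.Agent.Helper1.GR27
import Groth.Agent.Lead.BCMap3

/-!
# Grassmannian, part 28: naturality of the bijection between affine points of `Gr` and points of
the Grassmannian functor
-/

set_option autoImplicit false
set_option linter.style.haveILetI false
set_option linter.unusedSectionVars false

namespace Groth.Agent.Helper1.GR

open CategoryTheory Limits AlgebraicGeometry TopologicalSpace Opposite TensorProduct
open Groth.Agent.Helper1.PUP Groth.Agent.Helper4.GenLoc Groth.Agent.Helper4.PullSec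
open Groth.Agent.Lead.BCMap

universe u

section Alg

universe w

variable {R : Type*} [CommRing R] {A B : Type w} [CommRing A] [CommRing B] [Algebra R A]
  [Algebra R B] [Algebra A B] [IsScalarTower R A B] {N : ℕ}
  {QA QB : Type*} [AddCommGroup QA] [Module A QA] [AddCommGroup QB] [Module B QB] [Module A QB]
  [IsScalarTower A B QB]

theorem baseChangeMkQ_bvec (U : Submodule A (A ⊗[R] (Fin N → R))) (j : Fin N) :
    Module.Grassmannian.baseChangeMkQ B U (bvec R B N j) =
      (1 : B) ⊗ₜ[A] U.mkQ (bvec R A N j) := by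
  unfold Module.Grassmannian.baseChangeMkQ bvec
  simp only [LinearMap.comp_apply, LinearEquiv.coe_coe,
    TensorProduct.AlgebraTensorModule.cancelBaseChange_symm_tmul, LinearMap.baseChange_tmul]

/-- the kernel of the base change of a quotient -/
theorem ker_lam_eq_ker_baseChangeMkQ (lA : A ⊗[R] (Fin N → R) →ₗ[A] QA)
    (hlA : Function.Surjective lA) (ρ : QA →ₗ[A] QB) (hρ : IsBaseChange B ρ) :
    LinearMap.ker (lam R B N (fun j => ρ (lA (bvec R A N j)))) =
      LinearMap.ker (Module.Grassmannian.baseChangeMkQ B (LinearMap.ker lA)) := by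
  let e := lA.quotKerEquivOfSurjective hlA
  have hρ' : IsBaseChange B (ρ.comp e.toLinearMap) := IsBaseChange.comp_equiv e ρ hρ
  have key : hρ'.equiv.toLinearMap ∘ₗ Module.Grassmannian.baseChangeMkQ B (LinearMap.ker lA) =
      lam R B N (fun j => ρ (lA (bvec R A N j))) := by
    apply lam_ext
    intro j
    rw [LinearMap.comp_apply, baseChangeMkQ_bvec, lam_bvec]
    change hρ'.equiv ((1 : B) ⊗ₜ[A] _) = _
    rw [IsBaseChange.equiv_tmul, one_smul]
    rfl
  rw [← key, LinearMap.ker_comp]
  have : LinearMap.ker hρ'.equiv.toLinearMap = ⊥ :=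
    LinearMap.ker_eq_bot.mpr hρ'.equiv.injective
  rw [this, Submodule.comap_bot]

end Alg

section Sec

variable {X Y : Scheme.{u}} (a : X ⟶ Y) {M : Y.Modules}

theorem sec_pullSec_top (T : Coh.structureModule Y ⟶ M) :
    sec (pullSec a T) ⊤ = pbSec a M ⊤ ⊤ (top_le a) (sec T ⊤) := by
  have h1 := sec_pullSec a T ⊤
  rw [pbSec_apply]
  have h2 : ∀ m : Γ((Scheme.Modules.pullback a).obj M, a ⁻¹ᵁ ⊤),
      ((Scheme.Modules.pullback a).obj M).presheaf.map (homOfLE (top_le a)).op m = m := by
    intro m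
    have : (homOfLE (top_le a)) = 𝟙 (⊤ : X.Opens) := Subsingleton.elim _ _
    rw [this]
    erw [CategoryTheory.Functor.map_id]
    rfl
  rw [h2]
  exact h1

end Sec

variable {R : Type u} [CommRing R] {d N : ℕ} {A B : Type u} [CommRing A] [Algebra R A]
  [CommRing B] [Algebra R B] (φ : A →ₐ[R] B) (h : Spec (CommRingCat.of A) ⟶ Gr R d N)

/-- the ring map as a morphism of `CommRingCat` -/
noncomputable abbrev φc : CommRingCat.of A ⟶ CommRingCat.of B := CommRingCat.ofHom φ.toRingHom

/-- the comparison of pullbacks -/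
noncomputable def κh : (Scheme.Modules.pullback (Spec.map (φc φ))).obj (Lh h) ≅
    Lh (Spec.map (φc φ) ≫ h) :=
  (Scheme.Modules.pullbackComp (Spec.map (φc φ)) h).app (UQ R d N)

theorem th_comp (j : Fin N) :
    th (Spec.map (φc φ) ≫ h) j = pullSec (Spec.map (φc φ)) (th h j) ≫ (κh φ h).hom := by
  have h1 := Groth.Agent.Helper4.SN338.pullSec_comp (Spec.map (φc φ)) h (uG R d N j)
  rw [← h1, Category.assoc]
  unfold κh
  rw [Iso.app_hom, Iso.inv_hom_id_app, Category.comp_id]

theorem xh_comp (j : Fin N) :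
    xh (Spec.map (φc φ) ≫ h) j =
      (κh φ h).hom.app ⊤ (pbSec (Spec.map (φc φ)) (Lh h) ⊤ ⊤ (top_le _) (xh h j)) := by
  unfold xh
  rw [th_comp, sec_comp, sec_pullSec_top]

/-- **naturality** at the level of submodules -/
theorem ker_lamh_comp :
    letI : Algebra A B := φ.toRingHom.toAlgebra
    letI : IsScalarTower R A B := IsScalarTower.of_algebraMap_eq' φ.comp_algebraMap.symm
    LinearMap.ker (lamh (Spec.map (φc φ) ≫ h)) =
      LinearMap.ker (Module.Grassmannian.baseChangeMkQ B (LinearMap.ker (lamh h))) := by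
  letI : Algebra A B := φ.toRingHom.toAlgebra
  letI : IsScalarTower R A B := IsScalarTower.of_algebraMap_eq' φ.comp_algebraMap.symm
  letI : Algebra (CommRingCat.of A) (CommRingCat.of B) := (φc φ).hom.toAlgebra
  letI mA : Module (CommRingCat.of A) ((moduleSpecΓFunctor (R := CommRingCat.of B)).obj
      ((Scheme.Modules.pullback (Spec.map (φc φ))).obj (Lh h))) :=
    Module.compHom _ (φc φ).hom
  haveI : IsScalarTower (CommRingCat.of A) (CommRingCat.of B)
      ((moduleSpecΓFunctor (R := CommRingCat.of B)).obj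
        ((Scheme.Modules.pullback (Spec.map (φc φ))).obj (Lh h))) :=
    IsScalarTower.of_compHom _ _ _
  obtain ⟨ρ, hρ1, hρ2⟩ := exists_isBaseChange_spec (φc φ) (Lh h)
  -- the `A`-module structure on the sections of `L_{h'}`
  letI mA' : Module A Γ(Lh (Spec.map (φc φ) ≫ h), ⊤) := Module.compHom _ φ.toRingHom
  haveI : IsScalarTower A B Γ(Lh (Spec.map (φc φ) ≫ h), ⊤) := IsScalarTower.of_compHom _ _ _
  -- `κ` on global sections, `B`-linear
  let κB : Γ((Scheme.Modules.pullback (Spec.map (φc φ))).obj (Lh h), ⊤) ≃ₗ[B]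
      Γ(Lh (Spec.map (φc φ) ≫ h), ⊤) :=
    LinearEquiv.ofBijective (appA (κh φ h).hom)
      ⟨appA_injective_of_iso (κh φ h), by
        intro m
        refine ⟨(κh φ h).inv.app ⊤ m, ?_⟩
        have h2 := congrArg (fun ψ => (Scheme.Modules.Hom.app ψ ⊤) m) (κh φ h).inv_hom_id
        exact h2⟩
  let ρ0 : Γ(Lh h, ⊤) → Γ((Scheme.Modules.pullback (Spec.map (φc φ))).obj (Lh h), ⊤) :=
    fun m => ρ m
  have hρ0add : ∀ m m', ρ0 (m + m') = ρ0 m + ρ0 m' := fun m m' => ρ.map_add m m'
  have hρ0smul : ∀ (a : A) (m : Γ(Lh h, ⊤)), ρ0 (a • m) = φ.toRingHom a • ρ0 m :=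
    fun a m => ρ.map_smul a m
  let ρ' : Γ(Lh h, ⊤) →ₗ[A] Γ(Lh (Spec.map (φc φ) ≫ h), ⊤) :=
    { toFun := fun m => κB (ρ0 m)
      map_add' := fun m m' => by rw [hρ0add, map_add]
      map_smul' := fun a m => by
        rw [hρ0smul, map_smul]
        rfl }
  have hρ' : IsBaseChange B ρ' := by
    refine IsBaseChange.of_equiv (hρ2.equiv.trans κB) (fun x => ?_)
    change κB (hρ2.equiv ((1 : B) ⊗ₜ x)) = κB (ρ0 x)
    congr 1
    refine (IsBaseChange.equiv_tmul hρ2 _ _).trans ?_
    exact one_smul _ _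
  have key := ker_lam_eq_ker_baseChangeMkQ (R := R) (lamh h) (lamh_surjective h) ρ' hρ'
  rw [← key]
  have hl : lamh (Spec.map (φc φ) ≫ h) = lam R B N (fun j => ρ' (lamh h (bvec R A N j))) := by
    unfold lamh
    congr 1
    funext j
    rw [lam_bvec, xh_comp]
    change _ = κB (ρ (xh h j))
    rw [hρ1]
    rfl
  rw [hl]

end Groth.Agent.Helper1.GR
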