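import Mathlib
import Groth.Agent.Helper1.GR28
import Groth.Agent.Helper1.GR22

/-!
# Grassmannian, part 29: schemes representing Mathlib's Grassmannian functor on affine schemes
-/

set_option autoImplicit false
set_option linter.style.haveILetI false
set_option linter.unusedSectionVars false

namespace Groth.Agent.Helper1.GR

open CategoryTheory Limits AlgebraicGeometry TopologicalSpace Opposite TensorProduct

universe u

variable (R : Type u) [CommRing R] (d N : ℕ)

/-- the affine points of `Gr` -/
noncomputable def pointsData_Gr :
    PointsData (GrO R d N) (Module.Grassmannian.functor (R := R) (M := Fin N → R) d) where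
  e := eGr R d N
  he := by
    intro A B φ g g' hg
    apply Module.Grassmannian.ext
    change (toG (A := B) g'.left).toSubmodule =
      (Module.Grassmannian.map φ.hom (toG (A := A) g.left)).toSubmodule
    rw [Module.Grassmannian.map_toSubmodule, toG_toSubmodule, toG_toSubmodule, hg]
    exact ker_lamh_comp φ.hom g.left

variable {R d N}

/-- **a scheme representing the Grassmannian functor on affine schemes is `Gr`** -/
theorem exists_iso_Gr_of_pointsData (X : Over (Spec (CommRingCat.of R)))
    (dX : PointsData X (Module.Grassmannian.functor (R := R) (M := Fin N → R) d)) :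
    ∃ i : X.left ≅ Gr R d N, i.hom ≫ GrToSpec R d N = X.hom :=
  exists_iso_of_pointsData dX (pointsData_Gr R d N)

/-- **Plücker embedding** of a scheme representing the Grassmannian functor -/
theorem exists_closedImmersion_of_pointsData (X : Over (Spec (CommRingCat.of R)))
    (dX : PointsData X (Module.Grassmannian.functor (R := R) (M := Fin N → R) d)) (hdN : d ≤ N) :
    ∃ c : X.left ⟶ CohB1.ProjSpaceOver (N.choose d - 1) (Spec (CommRingCat.of R)),
      IsClosedImmersion c ∧
        c ≫ CohB1.ProjSpaceOver.toBase (N.choose d - 1) (Spec (CommRingCat.of R)) = X.hom := by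
  obtain ⟨i, hi⟩ := exists_iso_Gr_of_pointsData X dX
  obtain ⟨c, hc1, hc2⟩ := exists_closedImmersion_Gr R d N hdN
  refine ⟨i.hom ≫ c, inferInstance, ?_⟩
  rw [Category.assoc, hc2]
  exact hi

end Groth.Agent.Helper1.GR
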