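import Mathlib
import Groth.Agent.Helper1.GR24

/-!
# Grassmannian, part 33: closed conditions on affine points are represented by closed subschemes
-/

set_option autoImplicit false
set_option linter.style.haveILetI false

namespace Groth.Agent.Helper1.GR

open CategoryTheory Limits AlgebraicGeometry

universe u

section Local

variable {X Z T : Scheme.{u}}

/-- factoring through a monomorphism is local on the source -/
theorem exists_lift_of_cover (ι : Z ⟶ X) [Mono ι] (g : T ⟶ X) (𝒱 : T.OpenCover)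
    (h : ∀ k, ∃ w : 𝒱.X k ⟶ Z, w ≫ ι = 𝒱.f k ≫ g) : ∃ w : T ⟶ Z, w ≫ ι = g := by
  choose w hw using h
  have hcompat : ∀ i j, pullback.fst (𝒱.f i) (𝒱.f j) ≫ w i = pullback.snd (𝒱.f i) (𝒱.f j) ≫ w j := by
    intro i j
    rw [← cancel_mono ι, Category.assoc, Category.assoc, hw, hw, ← Category.assoc,
      ← Category.assoc, pullback.condition]
  refine ⟨𝒱.glueMorphisms w hcompat, ?_⟩
  apply 𝒱.hom_ext
  intro k
  rw [← Category.assoc, 𝒱.ι_glueMorphisms, hw]

/-- an element of a ring which vanishes on an affine open cover of the spectrum is zero -/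
theorem eq_zero_of_cover {C : CommRingCat.{u}} (c : C) (𝒱 : (Spec C).OpenCover)
    (D : 𝒱.I₀ → CommRingCat.{u}) (ψ : ∀ k, C ⟶ D k) (v : ∀ k, 𝒱.X k ⟶ Spec (D k))
    (hv : ∀ k, 𝒱.f k = v k ≫ Spec.map (ψ k)) (h : ∀ k, ψ k c = 0) : c = 0 := by
  have h1 : (Scheme.ΓSpecIso C).inv c = 0 := by
    apply Scheme.zero_of_zero_cover _ 𝒱
    intro k
    rw [hv k]
    have h2 : (v k ≫ Spec.map (ψ k)).app ⊤ ((Scheme.ΓSpecIso C).inv c) =
        (v k).app ⊤ ((Spec.map (ψ k)).app ⊤ ((Scheme.ΓSpecIso C).inv c)) := rfl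
    rw [h2]
    have h3 : (Spec.map (ψ k)).app ⊤ ((Scheme.ΓSpecIso C).inv c) =
        (Scheme.ΓSpecIso (D k)).inv (ψ k c) := by
      have := Scheme.ΓSpecIso_inv_naturality (ψ k)
      exact (congrArg (fun z => z.hom c) this).symm
    rw [h3, h k, map_zero]
    exact map_zero _
  have h4 := congrArg (Scheme.ΓSpecIso C).hom h1
  rw [map_zero] at h4
  rw [← h4]
  exact (congrArg (fun z => z.hom c) (Scheme.ΓSpecIso C).inv_hom_id).symm

end Local

section Raw

variable {X : Scheme.{u}}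

/-- a closed condition on the affine points of a scheme -/
structure ClosedCond (X : Scheme.{u}) where
  /-- the condition -/
  P : ∀ C : CommRingCat.{u}, (Spec C ⟶ X) → Prop
  /-- it is cut out by an ideal on every affine point -/
  closed : ∀ (C : CommRingCat.{u}) (g : Spec C ⟶ X), ∃ I : Ideal C,
    ∀ (D : CommRingCat.{u}) (ψ : C ⟶ D), P D (Spec.map ψ ≫ g) ↔ I ≤ RingHom.ker ψ.hom

namespace ClosedCond

variable (𝒞 : ClosedCond X)

/-- the ideal of an affine point -/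
noncomputable def I (C : CommRingCat.{u}) (g : Spec C ⟶ X) : Ideal C := (𝒞.closed C g).choose

theorem I_spec (C : CommRingCat.{u}) (g : Spec C ⟶ X) (D : CommRingCat.{u}) (ψ : C ⟶ D) :
    𝒞.P D (Spec.map ψ ≫ g) ↔ 𝒞.I C g ≤ RingHom.ker ψ.hom := (𝒞.closed C g).choose_spec D ψ

theorem P_iff (C : CommRingCat.{u}) (g : Spec C ⟶ X) : 𝒞.P C g ↔ 𝒞.I C g = ⊥ := by
  have h := 𝒞.I_spec C g C (𝟙 C)
  rw [Spec.map_id, Category.id_comp] at h
  rw [h]
  constructor
  · intro h1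
    rw [eq_bot_iff]
    intro c hc
    have := h1 hc
    rwa [RingHom.mem_ker] at this
  · intro h1
    rw [h1]
    exact bot_le

/-- the condition is stable under base change -/
theorem P_comp (C : CommRingCat.{u}) (g : Spec C ⟶ X) (h : 𝒞.P C g) (D : CommRingCat.{u})
    (ψ : C ⟶ D) : 𝒞.P D (Spec.map ψ ≫ g) := by
  rw [𝒞.I_spec, (𝒞.P_iff C g).mp h]
  exact bot_le

theorem P_comp' (C : CommRingCat.{u}) (g : Spec C ⟶ X) (h : 𝒞.P C g) (D : CommRingCat.{u})
    (v : Spec D ⟶ Spec C) : 𝒞.P D (v ≫ g) := by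
  have := 𝒞.P_comp C g h D (Spec.preimage v)
  rwa [Spec.map_preimage] at this

/-- uniqueness of the ideal -/
theorem I_unique (C : CommRingCat.{u}) (g : Spec C ⟶ X) (J : Ideal C)
    (hJ : ∀ (D : CommRingCat.{u}) (ψ : C ⟶ D), 𝒞.P D (Spec.map ψ ≫ g) ↔ J ≤ RingHom.ker ψ.hom) :
    J = 𝒞.I C g := by
  apply le_antisymm
  · have h1 := (hJ (CommRingCat.of (C ⧸ 𝒞.I C g)) (CommRingCat.ofHom (Ideal.Quotient.mk _))).mp
      ((𝒞.I_spec C g _ _).mpr (by
        change _ ≤ RingHom.ker (Ideal.Quotient.mk (𝒞.I C g))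
        rw [Ideal.mk_ker]))
    change _ ≤ RingHom.ker (Ideal.Quotient.mk (𝒞.I C g)) at h1
    rwa [Ideal.mk_ker] at h1
  · have h1 := (𝒞.I_spec C g (CommRingCat.of (C ⧸ J)) (CommRingCat.ofHom (Ideal.Quotient.mk _))).mp
      ((hJ _ _).mpr (by
        change _ ≤ RingHom.ker (Ideal.Quotient.mk J)
        rw [Ideal.mk_ker]))
    change _ ≤ RingHom.ker (Ideal.Quotient.mk J) at h1
    rwa [Ideal.mk_ker] at h1

/-- the ideal of a composite -/
theorem I_comp (C : CommRingCat.{u}) (g : Spec C ⟶ X) (D : CommRingCat.{u}) (ψ : C ⟶ D) :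
    𝒞.I D (Spec.map ψ ≫ g) = (𝒞.I C g).map ψ.hom := by
  symm
  apply 𝒞.I_unique
  intro E θ
  rw [← Category.assoc, ← Spec.map_comp, 𝒞.I_spec, Ideal.map_le_iff_le_comap]
  rw [CommRingCat.hom_comp, ← RingHom.comap_ker]

/-- the condition is local -/
theorem P_of_cover (C : CommRingCat.{u}) (g : Spec C ⟶ X) (𝒱 : (Spec C).OpenCover)
    (D : 𝒱.I₀ → CommRingCat.{u}) (v' : ∀ k, 𝒱.X k ⟶ Spec (D k)) (v : ∀ k, Spec (D k) ⟶ Spec C)
    (hv : ∀ k, 𝒱.f k = v' k ≫ v k) (h : ∀ k, 𝒞.P (D k) (v k ≫ g)) : 𝒞.P C g := by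
  rw [P_iff, eq_bot_iff]
  intro c hc
  apply eq_zero_of_cover c 𝒱 D (fun k => Spec.preimage (v k)) v'
  · intro k
    rw [Spec.map_preimage]
    exact hv k
  · intro k
    have h1 := h k
    rw [← Spec.map_preimage (v k), 𝒞.I_spec] at h1
    exact h1 hc

/-- the ideal sheaf of the condition -/
noncomputable def idealSheaf : X.IdealSheafData where
  ideal U := 𝒞.I Γ(X, U.1) U.2.fromSpec
  map_ideal_basicOpen U f := by
    have h1 : (X.affineBasicOpen f).2.fromSpec =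
        Spec.map (X.presheaf.map (homOfLE (X.basicOpen_le f)).op) ≫ U.2.fromSpec :=
      (U.2.map_fromSpec (X.affineBasicOpen f).2 (homOfLE (X.basicOpen_le f)).op).symm
    have h2 := 𝒞.I_comp Γ(X, U.1) U.2.fromSpec Γ(X, (X.affineBasicOpen f).1)
      (X.presheaf.map (homOfLE (X.basicOpen_le f)).op)
    exact h2.symm.trans (congrArg (𝒞.I _) h1.symm)

/-- the closed subscheme of the condition -/
noncomputable abbrev Z : Scheme.{u} := 𝒞.idealSheaf.subscheme

/-- the inclusion of the closed subscheme of the condition -/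
noncomputable abbrev ι : 𝒞.Z ⟶ X := 𝒞.idealSheaf.subschemeι

/-- the affine charts of the closed subscheme -/
theorem chart_ι (U : X.affineOpens) :
    𝒞.idealSheaf.subschemeCover.f U ≫ 𝒞.ι =
      Spec.map (CommRingCat.ofHom (Ideal.Quotient.mk (𝒞.I Γ(X, U.1) U.2.fromSpec))) ≫
        U.2.fromSpec := by
  rw [Scheme.IdealSheafData.subschemeCover_map_subschemeι, Scheme.IdealSheafData.glueDataObjι_ι]
  rfl

/-- points factoring through the closed subscheme satisfy the condition -/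
theorem P_of_lift (C : CommRingCat.{u}) (w : Spec C ⟶ 𝒞.Z) : 𝒞.P C (w ≫ 𝒞.ι) := by
  let 𝒲 := 𝒞.idealSheaf.subschemeCover.openCover.pullback₁ w
  let 𝒱 : (Spec C).OpenCover := 𝒲.bind (fun i => (𝒲.X i).affineOpenCover.openCover)
  apply 𝒞.P_of_cover C (w ≫ 𝒞.ι) 𝒱 (fun k => (𝒲.X k.1).affineOpenCover.X k.2)
    (fun k => 𝟙 _) (fun k => 𝒱.f k)
  · intro k
    exact (Category.id_comp _).symm
  · rintro ⟨i, j⟩
    -- the chart
    let U : X.affineOpens := i
    let a := (𝒲.X i).affineOpenCover.f j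
    have hc : pullback.fst w (𝒞.idealSheaf.subschemeCover.openCover.f i) ≫ w =
        pullback.snd w (𝒞.idealSheaf.subschemeCover.openCover.f i) ≫
          𝒞.idealSheaf.subschemeCover.f U := pullback.condition
    have h1 : (a ≫ pullback.fst w (𝒞.idealSheaf.subschemeCover.openCover.f i)) ≫ w ≫ 𝒞.ι =
        (a ≫ pullback.snd w (𝒞.idealSheaf.subschemeCover.openCover.f i)) ≫
        Spec.map (CommRingCat.ofHom (Ideal.Quotient.mk (𝒞.I Γ(X, U.1) U.2.fromSpec))) ≫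
          U.2.fromSpec := by
      have h2 := congrArg (fun z => a ≫ z ≫ 𝒞.ι) hc
      have h3 := congrArg (fun z => (a ≫ pullback.snd w
        (𝒞.idealSheaf.subschemeCover.openCover.f i)) ≫ z) (𝒞.chart_ι U)
      simp only [Category.assoc] at h2 h3 ⊢
      exact h2.trans h3
    refine (congrArg (𝒞.P _) h1).mpr ?_
    have h4 : 𝒞.P _ (Spec.map (CommRingCat.ofHom (Ideal.Quotient.mk
        (𝒞.I Γ(X, U.1) U.2.fromSpec))) ≫ U.2.fromSpec) := by
      refine (𝒞.I_spec _ _ _ _).mpr ?_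
      change _ ≤ RingHom.ker (Ideal.Quotient.mk _)
      rw [Ideal.mk_ker]
      exact le_of_eq rfl
    exact 𝒞.P_comp' _ _ h4 _ _

/-- points satisfying the condition factor through the closed subscheme -/
theorem exists_lift_of_P (C : CommRingCat.{u}) (g : Spec C ⟶ X) (h : 𝒞.P C g) :
    ∃ w : Spec C ⟶ 𝒞.Z, w ≫ 𝒞.ι = g := by
  let 𝒰 := X.openCoverOfIsOpenCover _ (iSup_affineOpens_eq_top X)
  let 𝒲 := 𝒰.pullback₁ g
  let 𝒱 : (Spec C).OpenCover := 𝒲.bind (fun i => (𝒲.X i).affineOpenCover.openCover)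
  apply exists_lift_of_cover 𝒞.ι g 𝒱
  rintro ⟨i, j⟩
  let U : X.affineOpens := i
  let a := (𝒲.X i).affineOpenCover.f j
  -- the morphism to the chart `Spec Γ(X, U)`
  let u : Spec ((𝒲.X i).affineOpenCover.X j) ⟶ Spec Γ(X, U.1) :=
    (a ≫ pullback.snd g (𝒰.f i)) ≫ U.2.isoSpec.hom
  have hc : pullback.fst g (𝒰.f i) ≫ g = pullback.snd g (𝒰.f i) ≫ U.1.ι := pullback.condition
  have h1 : (a ≫ pullback.fst g (𝒰.f i)) ≫ g = u ≫ U.2.fromSpec := by
    have hiso : U.2.isoSpec.hom ≫ U.2.fromSpec = U.1.ι := IsAffineOpen.isoSpec_hom_fromSpec _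
    have e1 : (a ≫ pullback.fst g (𝒰.f i)) ≫ g = a ≫ pullback.snd g (𝒰.f i) ≫ U.1.ι := by
      rw [Category.assoc]
      exact congrArg (fun z => a ≫ z) hc
    have e2 : u ≫ U.2.fromSpec = a ≫ pullback.snd g (𝒰.f i) ≫ U.1.ι := by
      change ((a ≫ pullback.snd g (𝒰.f i)) ≫ U.2.isoSpec.hom) ≫ U.2.fromSpec = _
      rw [Category.assoc, Category.assoc]
      exact congrArg (fun z => a ≫ pullback.snd g (𝒰.f i) ≫ z) hiso
    exact e1.trans e2.symm
  have h2 : 𝒞.P _ (u ≫ U.2.fromSpec) := by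
    refine (congrArg (𝒞.P _) h1).mp ?_
    exact 𝒞.P_comp' C g h _ (a ≫ pullback.fst g (𝒰.f i))
  have h2' : 𝒞.I Γ(X, U.1) U.2.fromSpec ≤ RingHom.ker (Spec.preimage u).hom := by
    rw [← 𝒞.I_spec, Spec.map_preimage]
    exact h2
  -- factor through the quotient
  let θ' : CommRingCat.of (Γ(X, U.1) ⧸ 𝒞.I Γ(X, U.1) U.2.fromSpec) ⟶
      (𝒲.X i).affineOpenCover.X j :=
    CommRingCat.ofHom (Ideal.Quotient.lift _ (Spec.preimage u).hom (fun c hc => h2' hc))
  have h3 : CommRingCat.ofHom (Ideal.Quotient.mk (𝒞.I Γ(X, U.1) U.2.fromSpec)) ≫ θ' =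
      Spec.preimage u := by
    apply CommRingCat.hom_ext
    apply RingHom.ext
    intro c
    rfl
  refine ⟨Spec.map θ' ≫ 𝒞.idealSheaf.subschemeCover.f U, ?_⟩
  have h5 : (Spec.map θ' ≫ 𝒞.idealSheaf.subschemeCover.f U) ≫ 𝒞.ι = u ≫ U.2.fromSpec := by
    have e1 := congrArg (fun z => Spec.map θ' ≫ z) (𝒞.chart_ι U)
    have e2 : Spec.map θ' ≫ Spec.map (CommRingCat.ofHom (Ideal.Quotient.mk
        (𝒞.I Γ(X, U.1) U.2.fromSpec))) = u := by
      rw [← Spec.map_comp, h3, Spec.map_preimage]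
    rw [Category.assoc]
    refine e1.trans ?_
    exact (Category.assoc _ _ _).symm.trans (congrArg (fun z => z ≫ U.2.fromSpec) e2)
  exact h5.trans h1.symm

/-- **a closed condition on affine points is represented by a closed subscheme** -/
theorem lift_iff (C : CommRingCat.{u}) (g : Spec C ⟶ X) :
    (∃ w : Spec C ⟶ 𝒞.Z, w ≫ 𝒞.ι = g) ↔ 𝒞.P C g := by
  constructor
  · rintro ⟨w, rfl⟩
    exact 𝒞.P_of_lift C w
  · exact 𝒞.exists_lift_of_P C g

/-- the same for arbitrary schemes -/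
theorem lift_iff' {T : Scheme.{u}} (g : T ⟶ X) :
    (∃ w : T ⟶ 𝒞.Z, w ≫ 𝒞.ι = g) ↔ ∀ (C : CommRingCat.{u}) (t : Spec C ⟶ T), 𝒞.P C (t ≫ g) := by
  constructor
  · rintro ⟨w, rfl⟩ C t
    rw [← Category.assoc]
    exact 𝒞.P_of_lift C (t ≫ w)
  · intro h
    apply exists_lift_of_cover 𝒞.ι g T.affineOpenCover.openCover
    intro k
    exact 𝒞.exists_lift_of_P _ _ (h _ _)

end ClosedCond

end Raw

end Groth.Agent.Helper1.GR
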