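import Mathlib
import Groth.Agent.Helper1.GR24
import Groth.Agent.Helper1.GR33

/-!
# Grassmannian, part 34: closed conditions on the points of an `R`-scheme, in terms of
`R`-algebras
-/

set_option autoImplicit false
set_option linter.style.haveILetI false

namespace Groth.Agent.Helper1.GR

open CategoryTheory Limits AlgebraicGeometry

universe u w

variable {R : Type u} [CommRing R]

section

variable (X : Over (Spec (CommRingCat.of R)))

/-- the identity as a morphism of algebras to the algebra of a point -/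
noncomputable def ptId (A : CommAlgCat.{u} R) (x : ptO A ⟶ X) : A ⟶ ptAlg X x.left :=
  CommAlgCat.ofHom (R := R) (X := A) (Y := ptAlg X x.left)
    { toRingHom := RingHom.id A
      commutes' := by
        intro r
        have h1 : Spec.preimage (x.left ≫ X.hom) = CommRingCat.ofHom (algebraMap R A) := by
          apply Spec.map_injective
          rw [Spec.map_preimage]
          exact Over.w x
        exact (congrArg (fun z => z.hom r) h1).symm }

theorem ptId_hom (A : CommAlgCat.{u} R) (x : ptO A ⟶ X) :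
    CommRingCat.ofHom (ptId X A x).hom.toRingHom = 𝟙 (CommRingCat.of A) := rfl

/-- a closed condition on the points of an `R`-scheme with values in `R`-algebras -/
structure PtCond where
  /-- the condition -/
  P : ∀ A : CommAlgCat.{u} R, (ptO A ⟶ X) → Prop
  /-- it is cut out by an ideal on every point -/
  closed : ∀ (A : CommAlgCat.{u} R) (x : ptO A ⟶ X), ∃ I : Ideal A,
    ∀ (B : CommAlgCat.{u} R) (φ : A ⟶ B) (x' : ptO B ⟶ X),
      x'.left = Spec.map (CommRingCat.ofHom φ.hom.toRingHom) ≫ x.left →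
        (P B x' ↔ I ≤ RingHom.ker φ.hom.toRingHom)

end

namespace PtCond

variable {X : Over (Spec (CommRingCat.of R))} (𝒦 : PtCond X)

/-- the raw closed condition -/
noncomputable def toClosedCond : ClosedCond X.left where
  P C g := 𝒦.P (ptAlg X g) (pt X g)
  closed C g := by
    obtain ⟨I, hI⟩ := 𝒦.closed (ptAlg X g) (pt X g)
    refine ⟨I, ?_⟩
    intro D ψ
    have h : (Spec.map ψ ≫ g) ≫ X.hom = Spec.map ψ ≫ g ≫ X.hom := Category.assoc _ _ _
    exact hI (ptAlg X (Spec.map ψ ≫ g)) (ptHom X ψ g (Spec.map ψ ≫ g) h)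
      (pt X (Spec.map ψ ≫ g)) rfl

theorem toClosedCond_P_iff (A : CommAlgCat.{u} R) (x : ptO A ⟶ X) :
    𝒦.toClosedCond.P (CommRingCat.of A) x.left ↔ 𝒦.P A x := by
  obtain ⟨I, hI⟩ := 𝒦.closed A x
  have h1 := hI A (𝟙 A) x (by
    change x.left = Spec.map (𝟙 _) ≫ x.left
    rw [Spec.map_id, Category.id_comp])
  have h2 := hI (ptAlg X x.left) (ptId X A x) (pt X x.left) (by
    change x.left = Spec.map (𝟙 _) ≫ x.left
    rw [Spec.map_id, Category.id_comp])
  change 𝒦.P (ptAlg X x.left) (pt X x.left) ↔ _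
  rw [h1, h2]
  rfl

/-- **a closed condition on the points of an `R`-scheme is represented by a closed subscheme** -/
theorem exists_closed :
    ∃ (Z : Scheme.{u}) (ι : Z ⟶ X.left), IsClosedImmersion ι ∧
      (∀ (A : CommAlgCat.{u} R) (x : ptO A ⟶ X),
        (∃ h : (ptO A).left ⟶ Z, h ≫ ι = x.left) ↔ 𝒦.P A x) ∧
      ∀ {T : Scheme.{u}} (g : T ⟶ X.left),
        (∃ w : T ⟶ Z, w ≫ ι = g) ↔
          ∀ (C : CommRingCat.{u}) (t : Spec C ⟶ T), 𝒦.P (ptAlg X (t ≫ g)) (pt X (t ≫ g)) := by
  refine ⟨𝒦.toClosedCond.Z, 𝒦.toClosedCond.ι, inferInstance, ?_, ?_⟩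
  · intro A x
    exact (𝒦.toClosedCond.lift_iff (CommRingCat.of A) x.left).trans (𝒦.toClosedCond_P_iff A x)
  · intro T g
    exact 𝒦.toClosedCond.lift_iff' g

end PtCond

end Groth.Agent.Helper1.GR
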