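import Mathlib

/-!
# Grassmannian, part 35: algebra of closed conditions on points of the Grassmannian functor
-/

set_option autoImplicit false
set_option linter.style.haveILetI false
set_option linter.unusedSectionVars false

namespace Groth.Agent.Helper1.GR

open TensorProduct

universe u v w w'

section PI

variable {A : Type u} [CommRing A] {Q : Type v} [AddCommGroup Q] [Module A Q]
  [Module.Finite A Q] [Module.Projective A Q]

/-- the vanishing of a family of elements of a finite projective module after a base change is a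
closed condition on the base change -/
theorem exists_ideal_forall_tmul_eq_zero {S : Type w} (q : S → Q) :
    ∃ I : Ideal A, ∀ (D : Type w') [CommRing D] [Algebra A D],
      (∀ s, (1 : D) ⊗ₜ[A] q s = 0) ↔ I ≤ RingHom.ker (algebraMap A D) := by
  obtain ⟨n, p, i, -, -, hpi⟩ := Module.Finite.exists_comp_eq_id_of_projective A Q
  refine ⟨Ideal.span (Set.range fun sj : S × Fin n => i (q sj.1) sj.2), ?_⟩
  intro D _ _
  rw [Ideal.span_le]
  have key : ∀ x : Q, (1 : D) ⊗ₜ[A] x = 0 ↔ ∀ j, algebraMap A D (i x j) = 0 := by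
    intro x
    constructor
    · intro h j
      have h1 : (i.baseChange D) ((1 : D) ⊗ₜ[A] x) = 0 := by rw [h, map_zero]
      rw [LinearMap.baseChange_tmul] at h1
      have h2 := congrArg (TensorProduct.piScalarRight A D D (Fin n)) h1
      rw [map_zero, piScalarRight_apply, piScalarRightHom_tmul] at h2
      have h3 := congrFun h2 j
      simpa [Algebra.smul_def] using h3
    · intro h
      have h1 : (1 : D) ⊗ₜ[A] (i x) = 0 := by
        apply (TensorProduct.piScalarRight A D D (Fin n)).injective
        rw [map_zero, piScalarRight_apply, piScalarRightHom_tmul]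
        ext j
        simpa [Algebra.smul_def] using h j
      have h2 : (p.baseChange D) ((1 : D) ⊗ₜ[A] (i x)) = 0 := by rw [h1, map_zero]
      rw [LinearMap.baseChange_tmul] at h2
      have : p (i x) = x := LinearMap.congr_fun hpi x
      rwa [this] at h2
  constructor
  · rintro h _ ⟨⟨s, j⟩, rfl⟩
    exact (key (q s)).mp (h s) j
  · intro h s
    exact (key (q s)).mpr (fun j => h ⟨⟨s, j⟩, rfl⟩)

end PI

section Inst

variable {R : Type u} [CommRing R] {M : Type v} [AddCommGroup M] [Module R M]
  {A : Type w} [CommRing A] [Algebra R A] (D : Type w) [CommRing D] [Algebra R D]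
  [Algebra A D] [IsScalarTower R A D]

/-- the canonical map `A ⊗ M → D ⊗ M` -/
noncomputable def ιD : A ⊗[R] M →ₗ[R] D ⊗[R] M :=
  LinearMap.rTensor M ((Algebra.linearMap A D).restrictScalars R)

theorem ιD_tmul (a : A) (m : M) : ιD (R := R) D (a ⊗ₜ[R] m) = algebraMap A D a ⊗ₜ[R] m := rfl

theorem baseChangeMkQ_ιD (U : Submodule A (A ⊗[R] M)) (t : A ⊗[R] M) :
    Module.Grassmannian.baseChangeMkQ D U (ιD D t) = (1 : D) ⊗ₜ[A] U.mkQ t := by
  induction t using TensorProduct.induction_on with
  | zero => simp
  | tmul a m =>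
    rw [ιD_tmul]
    simp only [Module.Grassmannian.baseChangeMkQ, LinearMap.comp_apply, LinearEquiv.coe_coe,
      TensorProduct.AlgebraTensorModule.cancelBaseChange_symm_tmul, LinearMap.baseChange_tmul]
    rw [Algebra.algebraMap_eq_smul_one, TensorProduct.smul_tmul, ← map_smul,
      TensorProduct.smul_tmul', smul_eq_mul, mul_one]
  | add x y hx hy =>
    rw [map_add, map_add, hx, hy, map_add, TensorProduct.tmul_add]

theorem cancelBaseChange_tmul_eq (d : D) (t : A ⊗[R] M) :
    TensorProduct.AlgebraTensorModule.cancelBaseChange R A D D M (d ⊗ₜ[A] t) = d • ιD D t := by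
  induction t using TensorProduct.induction_on with
  | zero => simp
  | tmul a m =>
    rw [ιD_tmul, TensorProduct.AlgebraTensorModule.cancelBaseChange_tmul,
      TensorProduct.smul_tmul', smul_eq_mul, Algebra.smul_def, mul_comm]
  | add x y hx hy =>
    rw [TensorProduct.tmul_add, map_add, hx, hy, map_add, smul_add]

/-- the kernel of the base change of a quotient map is spanned by the image of the kernel -/
theorem ker_baseChangeMkQ_eq_span (U : Submodule A (A ⊗[R] M)) :
    LinearMap.ker (Module.Grassmannian.baseChangeMkQ D U) =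
      Submodule.span D (ιD (R := R) D '' (U : Set (A ⊗[R] M))) := by
  apply le_antisymm
  · intro x hx
    rw [LinearMap.mem_ker] at hx
    set y := (TensorProduct.AlgebraTensorModule.cancelBaseChange R A D D M).symm x with hy
    have hx' : (U.mkQ.baseChange D) y = 0 := hx
    have hex := lTensor_exact (R := A) (M := U) (f := U.subtype) (g := U.mkQ) D
      (LinearMap.exact_subtype_mkQ U) (Submodule.mkQ_surjective U)
    have hx'' : (LinearMap.lTensor D U.mkQ) y = 0 := by
      rw [← hx']
      exact (congrFun (LinearMap.baseChange_eq_ltensor (A := D) U.mkQ) y).symm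
    obtain ⟨z, hz⟩ := (hex y).mp hx''
    have hxy : x = TensorProduct.AlgebraTensorModule.cancelBaseChange R A D D M y := by
      rw [hy, LinearEquiv.apply_symm_apply]
    rw [hxy, ← hz]
    clear hz hxy hx'' hx' hy hx
    induction z using TensorProduct.induction_on with
    | zero => simp
    | tmul d u =>
      rw [LinearMap.lTensor_tmul, cancelBaseChange_tmul_eq]
      exact Submodule.smul_mem _ _ (Submodule.subset_span ⟨u.1, u.2, rfl⟩)
    | add z z' hz hz' =>
      rw [map_add, map_add]
      exact Submodule.add_mem _ hz hz'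
  · rw [Submodule.span_le]
    rintro _ ⟨u, hu, rfl⟩
    rw [SetLike.mem_coe, LinearMap.mem_ker, baseChangeMkQ_ιD]
    have : U.mkQ u = 0 := by
      rw [Submodule.mkQ_apply, Submodule.Quotient.mk_eq_zero]
      exact hu
    rw [this, TensorProduct.tmul_zero]

/-- the criterion for the inclusion of the image of a base-changed submodule in another one -/
theorem map_ker_baseChangeMkQ_le_iff {M' : Type v} [AddCommGroup M'] [Module R M']
    (U' : Submodule A (A ⊗[R] M')) (U : Submodule A (A ⊗[R] M))
    (TA : A ⊗[R] M' → A ⊗[R] M) (TD : D ⊗[R] M' →ₗ[D] D ⊗[R] M)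
    (hT : ∀ t, TD (ιD D t) = ιD D (TA t)) :
    (LinearMap.ker (Module.Grassmannian.baseChangeMkQ D U')).map TD ≤
        LinearMap.ker (Module.Grassmannian.baseChangeMkQ D U) ↔
      ∀ u : U', (1 : D) ⊗ₜ[A] U.mkQ (TA u) = 0 := by
  rw [ker_baseChangeMkQ_eq_span D U', Submodule.map_span, Submodule.span_le]
  constructor
  · intro h u
    have h1 : TD (ιD D (u : A ⊗[R] M')) ∈
        LinearMap.ker (Module.Grassmannian.baseChangeMkQ D U) :=
      h ⟨_, ⟨u.1, u.2, rfl⟩, rfl⟩
    rw [hT, LinearMap.mem_ker, baseChangeMkQ_ιD] at h1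
    exact h1
  · rintro h _ ⟨_, ⟨u, hu, rfl⟩, rfl⟩
    rw [SetLike.mem_coe, hT, LinearMap.mem_ker, baseChangeMkQ_ιD]
    exact h ⟨u, hu⟩

end Inst

section AlgHom

variable {R : Type u} [CommRing R] {M : Type v} [AddCommGroup M] [Module R M]
  {A : Type w} [CommRing A] [Algebra R A] {k : ℕ}

theorem rTensor_eq_ιD {D : Type w} [CommRing D] [Algebra R D] (φ : A →ₐ[R] D) (t : A ⊗[R] M) :
    letI : Algebra A D := φ.toRingHom.toAlgebra
    LinearMap.rTensor M φ.toLinearMap t = ιD (R := R) (M := M) (A := A) D t := by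
  letI : Algebra A D := φ.toRingHom.toAlgebra
  exact congrArg (fun f => LinearMap.rTensor M f t) (LinearMap.ext fun _ => rfl)

/-- the membership of a family of elements in the base change of a point of the Grassmannian
functor is a closed condition -/
theorem exists_ideal_mem_map (U : Module.Grassmannian A (A ⊗[R] M) k) {S : Type w'}
    (t : S → A ⊗[R] M) :
    ∃ I : Ideal A, ∀ (D : Type w) [CommRing D] [Algebra R D] (φ : A →ₐ[R] D),
      (∀ s, LinearMap.rTensor M φ.toLinearMap (t s) ∈
        (Module.Grassmannian.map φ U).toSubmodule) ↔ I ≤ RingHom.ker φ.toRingHom := by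
  haveI := U.finite_quotient
  haveI := U.projective_quotient
  obtain ⟨I, hI⟩ := exists_ideal_forall_tmul_eq_zero (A := A)
    (Q := (A ⊗[R] M) ⧸ U.toSubmodule) (fun s => U.toSubmodule.mkQ (t s))
  refine ⟨I, ?_⟩
  intro D _ _ φ
  letI : Algebra A D := φ.toRingHom.toAlgebra
  letI : IsScalarTower R A D := IsScalarTower.of_algebraMap_eq' φ.comp_algebraMap.symm
  refine Iff.trans ?_ (hI D)
  apply forall_congr'
  intro s
  change LinearMap.rTensor M φ.toLinearMap (t s) ∈
    LinearMap.ker (Module.Grassmannian.baseChangeMkQ D U.toSubmodule) ↔ _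
  rw [LinearMap.mem_ker, rTensor_eq_ιD φ (t s), baseChangeMkQ_ιD]

/-- the inclusion of the images of base changes of points of Grassmannian functors under natural
maps is a closed condition -/
theorem exists_ideal_map_le {M' : Type v} [AddCommGroup M'] [Module R M'] {k' : ℕ}
    {S : Type w'} (U' : S → Module.Grassmannian A (A ⊗[R] M') k')
    (U : S → Module.Grassmannian A (A ⊗[R] M) k) (TA : S → A ⊗[R] M' → A ⊗[R] M) :
    ∃ I : Ideal A, ∀ (D : Type w) [CommRing D] [Algebra R D] (φ : A →ₐ[R] D)
      (TD : S → D ⊗[R] M' →ₗ[D] D ⊗[R] M)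
      (_ : ∀ s t, TD s (LinearMap.rTensor M' φ.toLinearMap t) =
        LinearMap.rTensor M φ.toLinearMap (TA s t)),
      (∀ s, (Module.Grassmannian.map φ (U' s)).toSubmodule.map (TD s) ≤
        (Module.Grassmannian.map φ (U s)).toSubmodule) ↔ I ≤ RingHom.ker φ.toRingHom := by
  have h : ∀ s, ∃ I : Ideal A, ∀ (D : Type w) [CommRing D] [Algebra A D],
      (∀ u : (U' s).toSubmodule, (1 : D) ⊗ₜ[A] (U s).toSubmodule.mkQ (TA s u) = 0) ↔
        I ≤ RingHom.ker (algebraMap A D) := by
    intro s
    haveI := (U s).finite_quotient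
    haveI := (U s).projective_quotient
    exact exists_ideal_forall_tmul_eq_zero (A := A)
      (Q := (A ⊗[R] M) ⧸ (U s).toSubmodule)
      (fun u : (U' s).toSubmodule => (U s).toSubmodule.mkQ (TA s u))
  choose I hI using h
  refine ⟨⨆ s, I s, ?_⟩
  intro D _ _ φ TD hT
  letI : Algebra A D := φ.toRingHom.toAlgebra
  letI : IsScalarTower R A D := IsScalarTower.of_algebraMap_eq' φ.comp_algebraMap.symm
  rw [iSup_le_iff]
  apply forall_congr'
  intro s
  refine Iff.trans ?_ (hI s D)
  change (LinearMap.ker (Module.Grassmannian.baseChangeMkQ D (U' s).toSubmodule)).map (TD s) ≤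
    LinearMap.ker (Module.Grassmannian.baseChangeMkQ D (U s).toSubmodule) ↔ _
  apply map_ker_baseChangeMkQ_le_iff D (U' s).toSubmodule (U s).toSubmodule (TA s) (TD s)
  intro t
  have := hT s t
  rw [rTensor_eq_ιD φ t, rTensor_eq_ιD φ (TA s t)] at this
  exact this

end AlgHom

end Groth.Agent.Helper1.GR
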