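import Mathlib
import Groth.Agent.Helper1.GR34
import Groth.Agent.Helper1.GR35

/-!
# Grassmannian, part 36: closed conditions on schemes whose points carry points of Grassmannian
functors; closed subschemes with prescribed points
-/

set_option autoImplicit false
set_option linter.style.haveILetI false
set_option linter.unusedSectionVars false

namespace Groth.Agent.Helper1.GR

open CategoryTheory Limits AlgebraicGeometry TensorProduct

universe u w

variable {R : Type u} [CommRing R]

/-- a natural family of points of a Grassmannian functor attached to the points of an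
`R`-scheme -/
structure GPt (X : Over (Spec (CommRingCat.of R))) (M : Type u) [AddCommGroup M] [Module R M]
    (k : ℕ) where
  /-- the family -/
  u : ∀ A : CommAlgCat.{u} R, (ptO A ⟶ X) → Module.Grassmannian A (A ⊗[R] M) k
  /-- naturality -/
  hu : ∀ (A B : CommAlgCat.{u} R) (φ : A ⟶ B) (x : ptO A ⟶ X) (x' : ptO B ⟶ X),
    x'.left = Spec.map (CommRingCat.ofHom φ.hom.toRingHom) ≫ x.left →
      u B x' = Module.Grassmannian.map φ.hom (u A x)

variable {X : Over (Spec (CommRingCat.of R))}

section

variable {M M' : Type u} [AddCommGroup M] [Module R M] [AddCommGroup M'] [Module R M']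
  {k k' : ℕ}

/-- the family attached to a description of the points by a Grassmannian functor -/
def GPt.ofPointsData (dX : PointsData X (Module.Grassmannian.functor (R := R) (M := M) k)) :
    GPt X M k where
  u A x := dX.e A x
  hu := dX.he

/-- the closed condition that natural elements belong to the submodule -/
noncomputable def PtCond.ofElem (γ : GPt X M k) {S : Type w}
    (t : S → ∀ A : CommAlgCat.{u} R, A ⊗[R] M)
    (ht : ∀ s (A B : CommAlgCat.{u} R) (φ : A ⟶ B),
      LinearMap.rTensor M φ.hom.toLinearMap (t s A) = t s B) : PtCond X where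
  P A x := ∀ s, t s A ∈ (γ.u A x).toSubmodule
  closed A x := by
    obtain ⟨I, hI⟩ := exists_ideal_mem_map (γ.u A x) (fun s => t s A)
    refine ⟨I, ?_⟩
    intro B φ x' hx'
    rw [γ.hu A B φ x x' hx']
    have := hI B φ.hom
    simp only [ht] at this
    exact this

/-- the closed condition that natural maps carry submodules into submodules -/
noncomputable def PtCond.ofMap {S : Type w} (γ' : S → GPt X M' k') (γ : S → GPt X M k)
    (T : S → ∀ A : CommAlgCat.{u} R, A ⊗[R] M' →ₗ[A] A ⊗[R] M)
    (hT : ∀ s (A B : CommAlgCat.{u} R) (φ : A ⟶ B) (t : A ⊗[R] M'),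
      T s B (LinearMap.rTensor M' φ.hom.toLinearMap t) =
        LinearMap.rTensor M φ.hom.toLinearMap (T s A t)) : PtCond X where
  P A x := ∀ s, ((γ' s).u A x).toSubmodule.map (T s A) ≤ ((γ s).u A x).toSubmodule
  closed A x := by
    obtain ⟨I, hI⟩ := exists_ideal_map_le (fun s => (γ' s).u A x) (fun s => (γ s).u A x)
      (fun s => T s A)
    refine ⟨I, ?_⟩
    intro B φ x' hx'
    have := hI B φ.hom (fun s => T s B) (fun s t => hT s A B φ t)
    simp only [← (γ' _).hu A B φ x x' hx', ← (γ _).hu A B φ x x' hx'] at this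
    exact this

end

/-- the conjunction of two closed conditions -/
def PtCond.inf (𝒦₁ 𝒦₂ : PtCond X) : PtCond X where
  P A x := 𝒦₁.P A x ∧ 𝒦₂.P A x
  closed A x := by
    obtain ⟨I₁, h₁⟩ := 𝒦₁.closed A x
    obtain ⟨I₂, h₂⟩ := 𝒦₂.closed A x
    refine ⟨I₁ ⊔ I₂, fun B φ x' hx' => ?_⟩
    rw [h₁ B φ x' hx', h₂ B φ x' hx', sup_le_iff]

/-- **the closed subscheme of a closed condition, with a description of its points** -/
theorem PtCond.exists_sub (𝒦 : PtCond X) {F' : CommAlgCat.{u} R → Type w}
    (j : ∀ A, F' A → (ptO A ⟶ X)) (hj : ∀ A, Function.Injective (j A))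
    (hr : ∀ A x, 𝒦.P A x ↔ x ∈ Set.range (j A)) :
    ∃ (Z : Over (Spec (CommRingCat.of R))) (c : Z ⟶ X) (e' : ∀ A, (ptO A ⟶ Z) ≃ F' A),
      IsClosedImmersion c.left ∧ ∀ A z, z ≫ c = j A (e' A z) := by
  obtain ⟨Z, ι, hι, h1, -⟩ := 𝒦.exists_closed
  let Zo : Over (Spec (CommRingCat.of R)) := Over.mk (ι ≫ X.hom)
  let c : Zo ⟶ X := Over.homMk ι rfl
  have hex : ∀ A (z : ptO A ⟶ Zo), ∃ y, j A y = z ≫ c := by
    intro A z
    exact (hr A (z ≫ c)).mp ((h1 A (z ≫ c)).mp ⟨z.left, rfl⟩)
  choose f hf using hex
  have hbij : ∀ A, Function.Bijective (f A) := by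
    intro A
    constructor
    · intro z z' hzz
      have h2 : z ≫ c = z' ≫ c := by rw [← hf, ← hf, hzz]
      have h3 : z.left ≫ ι = z'.left ≫ ι := congrArg (fun w => w.left) h2
      have h4 : z.left = z'.left := (cancel_mono ι).mp h3
      exact Over.OverMorphism.ext h4
    · intro y
      obtain ⟨h, hh⟩ := (h1 A (j A y)).mpr ((hr A (j A y)).mpr ⟨y, rfl⟩)
      have hw : h ≫ Zo.hom = (ptO A).hom := by
        change h ≫ ι ≫ X.hom = _
        rw [← Category.assoc, hh]
        exact Over.w (j A y)
      let z : ptO A ⟶ Zo := Over.homMk h hw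
      refine ⟨z, ?_⟩
      apply hj A
      rw [hf]
      exact Over.OverMorphism.ext hh
  refine ⟨Zo, c, fun A => Equiv.ofBijective (f A) (hbij A), hι, ?_⟩
  intro A z
  exact (hf A z).symm

end Groth.Agent.Helper1.GR
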