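import Mathlib
import Groth.Agent.Helper1.GR36
import Groth.Agent.Helper1.GR29
import Groth.Agent.Helper6.HProj

/-!
# Grassmannian, part 40: products of Grassmannians over an affine base
-/

set_option autoImplicit false
set_option linter.style.haveILetI false
set_option linter.unusedSectionVars false

namespace Groth.Agent.Helper1.GR

open CategoryTheory Limits AlgebraicGeometry TensorProduct

universe u

variable {R : Type u} [CommRing R]

section Prod

variable (X Y : Over (Spec (CommRingCat.of R)))

/-- the product of two `R`-schemes -/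
noncomputable def prodO : Over (Spec (CommRingCat.of R)) :=
  Over.mk (pullback.fst X.hom Y.hom ≫ X.hom)

/-- the first projection -/
noncomputable def prodO.fst : prodO X Y ⟶ X := Over.homMk (pullback.fst X.hom Y.hom) rfl

/-- the second projection -/
noncomputable def prodO.snd : prodO X Y ⟶ Y :=
  Over.homMk (pullback.snd X.hom Y.hom) (by
    change pullback.snd _ _ ≫ Y.hom = pullback.fst _ _ ≫ X.hom
    exact pullback.condition.symm)

variable {X Y}

/-- the morphism to the product -/
noncomputable def prodO.lift {T : Over (Spec (CommRingCat.of R))} (x : T ⟶ X) (y : T ⟶ Y) :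
    T ⟶ prodO X Y :=
  Over.homMk (pullback.lift x.left y.left (by rw [Over.w x, Over.w y])) (by
    change pullback.lift _ _ _ ≫ pullback.fst _ _ ≫ X.hom = _
    rw [pullback.lift_fst_assoc, Over.w x])

theorem prodO.lift_fst {T : Over (Spec (CommRingCat.of R))} (x : T ⟶ X) (y : T ⟶ Y) :
    prodO.lift x y ≫ prodO.fst X Y = x :=
  Over.OverMorphism.ext (pullback.lift_fst _ _ _)

theorem prodO.lift_snd {T : Over (Spec (CommRingCat.of R))} (x : T ⟶ X) (y : T ⟶ Y) :
    prodO.lift x y ≫ prodO.snd X Y = y :=
  Over.OverMorphism.ext (pullback.lift_snd _ _ _)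

theorem prodO.hom_ext {T : Over (Spec (CommRingCat.of R))} (z z' : T ⟶ prodO X Y)
    (h1 : z ≫ prodO.fst X Y = z' ≫ prodO.fst X Y)
    (h2 : z ≫ prodO.snd X Y = z' ≫ prodO.snd X Y) : z = z' := by
  apply Over.OverMorphism.ext
  apply pullback.hom_ext
  · exact congrArg (fun w => w.left) h1
  · exact congrArg (fun w => w.left) h2

theorem prodO.isProper (hX : IsProper X.hom) (hY : IsProper Y.hom) :
    IsProper (prodO X Y).hom := by
  change IsProper (pullback.fst X.hom Y.hom ≫ X.hom)
  haveI : IsProper (pullback.fst X.hom Y.hom) :=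
    MorphismProperty.pullback_fst (P := @IsProper) _ _ hY
  infer_instance

end Prod

section Comp

variable {M : Type u} [AddCommGroup M] [Module R M] {k : ℕ}
  {X X' : Over (Spec (CommRingCat.of R))}

/-- composition of a family of Grassmannian points with a morphism -/
noncomputable def GPt.comp (γ : GPt X M k) (p : X' ⟶ X) : GPt X' M k where
  u A x := γ.u A (x ≫ p)
  hu A B φ x x' hx := γ.hu A B φ (x ≫ p) (x' ≫ p) (by
    change x'.left ≫ p.left = _ ≫ x.left ≫ p.left
    rw [hx, Category.assoc])

theorem GPt.comp_u (γ : GPt X M k) (p : X' ⟶ X) (A : CommAlgCat.{u} R) (x : ptO A ⟶ X') :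
    (γ.comp p).u A x = γ.u A (x ≫ p) := rfl

end Comp

/-- a proper `R`-scheme whose points are the tuples of `m + 1` points of a Grassmannian functor -/
structure ProdData (R : Type u) [CommRing R] (k N m : ℕ) where
  /-- the scheme -/
  P : Over (Spec (CommRingCat.of R))
  /-- it is proper -/
  proper : IsProper P.hom
  /-- the components -/
  γ : Fin (m + 1) → GPt P (Fin N → R) k
  /-- the points are the tuples -/
  bij : ∀ A : CommAlgCat.{u} R,
    Function.Bijective (fun (x : ptO A ⟶ P) (i : Fin (m + 1)) => (γ i).u A x)

theorem isProper_GrToSpec (k N : ℕ) (hkN : k ≤ N) : IsProper (GrToSpec R k N) := by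
  obtain ⟨c, hc1, hc2⟩ := exists_closedImmersion_Gr R k N hkN
  rw [← hc2]
  haveI := Groth.Agent.Helper6.HProj.isProper_toBase (N.choose k - 1)
    (Spec (CommRingCat.of R))
  infer_instance

theorem nonempty_prodData (k N : ℕ) (hkN : k ≤ N) : ∀ m, Nonempty (ProdData R k N m) := by
  intro m
  induction m with
  | zero =>
    refine ⟨⟨GrO R k N, isProper_GrToSpec k N hkN,
      fun _ => GPt.ofPointsData (pointsData_Gr R k N), ?_⟩⟩
    intro A
    constructor
    · intro x x' h
      exact (eGr R k N A).injective (congrFun h 0)
    · intro V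
      refine ⟨(eGr R k N A).symm (V 0), ?_⟩
      funext i
      have hi : i = 0 := Fin.ext (by omega)
      rw [hi]
      exact (eGr R k N A).apply_symm_apply (V 0)
  | succ m ih =>
    obtain ⟨D⟩ := ih
    let γG : GPt (GrO R k N) (Fin N → R) k := GPt.ofPointsData (pointsData_Gr R k N)
    let γ' : Fin (m + 1 + 1) → GPt (prodO D.P (GrO R k N)) (Fin N → R) k :=
      Fin.lastCases (γG.comp (prodO.snd D.P (GrO R k N)))
        (fun i => (D.γ i).comp (prodO.fst D.P (GrO R k N)))
    have hγlast : γ' (Fin.last (m + 1)) = γG.comp (prodO.snd D.P (GrO R k N)) :=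
      Fin.lastCases_last
    have hγcast : ∀ i : Fin (m + 1), γ' i.castSucc =
        (D.γ i).comp (prodO.fst D.P (GrO R k N)) := fun i => Fin.lastCases_castSucc i
    refine ⟨⟨prodO D.P (GrO R k N), prodO.isProper D.proper (isProper_GrToSpec k N hkN),
      γ', ?_⟩⟩
    intro A
    constructor
    · intro x x' h
      apply prodO.hom_ext
      · apply (D.bij A).1
        funext i
        have := congrFun h i.castSucc
        simp only [hγcast, GPt.comp_u] at this
        exact this
      · apply (eGr R k N A).injective
        have := congrFun h (Fin.last (m + 1))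
        simp only [hγlast, GPt.comp_u] at this
        exact this
    · intro V
      obtain ⟨x₁, hx₁⟩ := (D.bij A).2 (fun i => V i.castSucc)
      refine ⟨prodO.lift x₁ ((eGr R k N A).symm (V (Fin.last (m + 1)))), ?_⟩
      funext i
      refine Fin.lastCases ?_ ?_ i
      · simp only [hγlast, GPt.comp_u, prodO.lift_snd]
        exact (eGr R k N A).apply_symm_apply _
      · intro i
        simp only [hγcast, GPt.comp_u, prodO.lift_fst]
        exact congrFun hx₁ i

end Groth.Agent.Helper1.GR
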