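import Mathlib
import Groth.Agent.Helper1.PUPg2
import Groth.Agent.Helper1.PUPg3

/-!
# Universal property of projective bundles, part 4: existence for `Proj` of a symmetric algebra
-/

set_option autoImplicit false
set_option linter.style.haveILetI false

namespace Groth.Agent.Helper1.PUPg

open CategoryTheory Limits AlgebraicGeometry TopologicalSpace Opposite HomogeneousLocalization
open Groth.Agent.Helper4.GenLoc Groth.Agent.Helper4.GenLocIso Groth.Agent.Helper4.StalkExact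
open Groth.Agent.Helper1.ProjMor Groth.Agent.Helper1.PUP

universe u

variable {X : Scheme.{u}} {A S M : Type u} [CommRing A] [CommRing S] [Algebra A S]
  (𝒮 : ℕ → Submodule A S) [GradedAlgebra 𝒮] [AddCommGroup M] [Module A M] (ι : M →ₗ[A] S)
  (hι : ∀ m : M, ι m ∈ 𝒮 1) (hsym : IsSymmetricAlgebra ι)
  (q : X ⟶ Spec (CommRingCat.of A)) (L : X.Modules) (v : M →+ ProjUP.Γm L)
  (hv : ∀ (a : A) (m : M), v (a • m) = ProjUP.toGlobal q a • v m)

/-- the maps `O ⟶ L` attached to the sections `v m` -/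
noncomputable def σv (m : M) : Coh.structureModule X ⟶ L :=
  Groth.Agent.Lead.LocLift.homOfTop L (v m)

theorem sec_σv (m : M) (V : X.Opens) :
    sec (σv L v m) V = L.presheaf.map (homOfLE (le_top : V ≤ ⊤)).op (v m) :=
  sec_homOfTop' _ _

theorem ratio_add (m m' e : M) :
    ratio (σv L v) (m + m') e = ratio (σv L v) m e + ratio (σv L v) m' e := by
  have h1 := ratio_spec (σv L v) (m + m') e
  have h2 := ratio_spec (σv L v) m e
  have h3 := ratio_spec (σv L v) m' e
  have h4 : (ratio (σv L v) (m + m') e - (ratio (σv L v) m e + ratio (σv L v) m' e)) •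
      sec (σv L v e) (XE (σv L v) e) = 0 := by
    rw [sub_smul, add_smul, h1, h2, h3, sec_σv, sec_σv, sec_σv, map_add, map_add, sub_self]
  exact sub_eq_zero.mp (eq_zero_of_smul_sec _ le_rfl _ h4)

include hv in
theorem ratio_smul (a : A) (m e : M) :
    ratio (σv L v) (a • m) e =
      X.presheaf.map (homOfLE (le_top : XE (σv L v) e ≤ ⊤)).op (ProjUP.toGlobal q a) *
        ratio (σv L v) m e := by
  have h1 := ratio_spec (σv L v) (a • m) e
  have h2 := ratio_spec (σv L v) m e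
  have h4 : (ratio (σv L v) (a • m) e -
      X.presheaf.map (homOfLE (le_top : XE (σv L v) e ≤ ⊤)).op (ProjUP.toGlobal q a) *
        ratio (σv L v) m e) • sec (σv L v e) (XE (σv L v) e) = 0 := by
    rw [sub_smul, mul_smul, h1, h2, sec_σv, sec_σv, hv, Scheme.Modules.map_smul, sub_self]
  exact sub_eq_zero.mp (eq_zero_of_smul_sec _ le_rfl _ h4)

theorem toTop_res_top {U : X.Opens} (g : Γ(X, ⊤)) :
    toTop (X.presheaf.map (homOfLE (le_top : U ≤ ⊤)).op g) = U.ι.appTop.hom g := by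
  unfold toTop
  rw [Scheme.Opens.ι_appTop, Scheme.Opens.topIso_inv]
  have : X.presheaf.map (homOfLE (le_top : U ≤ ⊤)).op ≫
      X.presheaf.map (eqToHom U.ι_image_top).op =
      X.presheaf.map (homOfLE (x := U.ι ''ᵁ ⊤) le_top).op := by
    rw [← Functor.map_comp]
    rfl
  exact congrArg (fun f => f.hom g) this

/-- the additive maps `m ↦ σ_m / σ_e` -/
noncomputable def fe (e : M) : M →+ Γ((XE (σv L v) e : Scheme.{u}), ⊤) :=
  AddMonoidHom.mk' (fun m => toTop (ratio (σv L v) m e)) (fun m m' => by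
    show toTop _ = toTop _ + toTop _
    rw [ratio_add]
    unfold toTop
    exact map_add _ _ _)

include hv in
theorem fe_smul (e : M) (a : A) (m : M) :
    fe L v e (a • m) = ProjUP.toGlobal ((XE (σv L v) e).ι ≫ q) a * fe L v e m := by
  show toTop _ = _ * toTop _
  rw [ratio_smul q L v hv, toGlobal_comp, RingHom.comp_apply, ← toTop_res_top]
  unfold toTop
  exact map_mul _ _ _

/-- the local ring maps -/
noncomputable def ψ (e : M) : S →+* Γ((XE (σv L v) e : Scheme.{u}), ⊤) :=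
  (exists_ringHom ι hsym (ProjUP.toGlobal ((XE (σv L v) e).ι ≫ q)) (fe L v e)
    (fe_smul q L v hv e)).choose

theorem ψ_ι (e m : M) : ψ ι hsym q L v hv e (ι m) = toTop (ratio (σv L v) m e) :=
  (exists_ringHom ι hsym (ProjUP.toGlobal ((XE (σv L v) e).ι ≫ q)) (fe L v e)
    (fe_smul q L v hv e)).choose_spec.1 m

theorem ψ_C (e : M) (c : A) : ψ ι hsym q L v hv e (algebraMap A S c) =
    ProjUP.toGlobal ((XE (σv L v) e).ι ≫ q) c :=
  (exists_ringHom ι hsym (ProjUP.toGlobal ((XE (σv L v) e).ι ≫ q)) (fe L v e)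
    (fe_smul q L v hv e)).choose_spec.2 c

include hι in
theorem hcompat (e e' : M) :
    ∃ u : Γ((XE (σv L v) e ⊓ XE (σv L v) e' : X.Opens), ⊤), IsUnit u ∧
    ∀ (k : ℕ) (a : S), a ∈ 𝒮 k →
      (X.homOfLE (inf_le_right : XE (σv L v) e ⊓ XE (σv L v) e' ≤ XE (σv L v) e')).appTop.hom
        (ψ ι hsym q L v hv e' a) =
        u ^ k * (X.homOfLE (inf_le_left : XE (σv L v) e ⊓ XE (σv L v) e' ≤
          XE (σv L v) e)).appTop.hom (ψ ι hsym q L v hv e a) := by
  refine ⟨toTop (X.presheaf.map (homOfLE (inf_le_right :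
    XE (σv L v) e ⊓ XE (σv L v) e' ≤ XE (σv L v) e')).op (ratio (σv L v) e e')), ?_, ?_⟩
  · apply isUnit_toTop
    exact IsUnit.of_mul_eq_one _
      ((mul_comm _ _).trans (ratio_mul_inv (σv L v) e e' inf_le_left inf_le_right))
  · intro k a ha
    refine scale 𝒮 ι hι hsym
      ((X.homOfLE (inf_le_left : XE (σv L v) e ⊓ XE (σv L v) e' ≤
        XE (σv L v) e)).appTop.hom.comp (ψ ι hsym q L v hv e))
      ((X.homOfLE (inf_le_right : XE (σv L v) e ⊓ XE (σv L v) e' ≤
        XE (σv L v) e')).appTop.hom.comp (ψ ι hsym q L v hv e')) _ ?_ ?_ k a ha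
    · intro c
      rw [RingHom.comp_apply, RingHom.comp_apply, ψ_C, ψ_C, ← RingHom.comp_apply,
        ← RingHom.comp_apply, ← toGlobal_comp, ← toGlobal_comp, Scheme.homOfLE_ι_assoc,
        Scheme.homOfLE_ι_assoc]
    · intro m
      rw [RingHom.comp_apply, RingHom.comp_apply, ψ_ι, ψ_ι, res_toTop, res_toTop,
        ratio_cocycle (σv L v) m e e' inf_le_left inf_le_right, mul_comm]
      unfold toTop
      rw [map_mul]

include hι hv hsym in
/-- **existence part of the universal property of the projective bundle of a module** -/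
theorem exists_to_proj_sym (hL : PicF.IsInvertible L) (hgen : ProjUP.GeneratedBy L v) :
    ∃ (r : X ⟶ Proj 𝒮) (_ : r ≫ Proj.toSpecZero 𝒮 ≫
        Spec.map (CommRingCat.ofHom (algebraMap A (𝒮 0))) = q)
      (τ : (Scheme.Modules.pullback r).obj (Twist.twist 𝒮 ((1 : ℕ) : ℤ)) ≅ L),
      ∀ m : M, τ.hom.app ⊤ (ProjUP.pullSec r (Twist.twist 𝒮 ((1 : ℕ) : ℤ))
        (Twist.globalOf 𝒮 ⟨ι m, hι m⟩)) = v m := by
  have hσ : ∀ k, sec (σv L v k) ⊤ = v k := fun k => sec_homOfTop (v k)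
  have hs' : ProjUP.GeneratedBy L (fun e => (sec (σv L v e) ⊤ : ProjUP.Γm L)) := by
    have : (fun e => (sec (σv L v e) ⊤ : ProjUP.Γm L)) = v := funext hσ
    rw [this]
    exact hgen
  have hcov := iSup_XE_eq_top hL (σv L v) hs'
  obtain ⟨τ, hτ⟩ := exists_iso (σv L v) hcov 𝒮 (fun m => ι m) hι (ψ ι hsym q L v hv)
    (fun e k => ψ_ι ι hsym q L v hv e k) (hcompat 𝒮 ι hι hsym q L v hv) (hcovP 𝒮 ι hι hsym)
  refine ⟨rr (σv L v) hcov 𝒮 (fun m => ι m) hι (ψ ι hsym q L v hv)
    (fun e k => ψ_ι ι hsym q L v hv e k) (hcompat 𝒮 ι hι hsym q L v hv),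
    rr_toSpec (σv L v) hcov 𝒮 (fun m => ι m) hι (ψ ι hsym q L v hv)
      (fun e k => ψ_ι ι hsym q L v hv e k) (hcompat 𝒮 ι hι hsym q L v hv) q
      (fun e c => ψ_C ι hsym q L v hv e c), τ, fun m => ?_⟩
  rw [hτ m, hσ]

end Groth.Agent.Helper1.PUPg
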