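import Mathlib
import Groth.Agent.Helper4.SN192
import Groth.Agent.Helper4.AssMono
import Groth.Agent.Helper4.AssFin
import Groth.Agent.Helper1.KzExt5
import Groth.Agent.Helper3.ProjNoeth

set_option autoImplicit false
set_option linter.unusedSectionVars false
set_option linter.style.haveILetI false

/-!
# Mumford's regularity bound, I: regular sections of `O(1)` and the cut
-/

namespace Groth.Agent.Helper1.MF

open CategoryTheory Limits AlgebraicGeometry TopologicalSpace Opposite
open Groth.Agent.Helper4.SN Groth.Agent.Helper4.StalkDict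

universe u

variable (n : ℕ) (k : Type u) [Field k]

local notation "𝕆(" d ")" => Twist.twistProjSpace n k d
local notation "ℙ" => CohB1.ProjSpace n k

/-- over an infinite field, some section of `O(1)` is a nonzerodivisor on two given coherent
modules -/
theorem exists_mono_mulS [Infinite k] (N₁ N₂ : (CohB1.ProjSpace n k).Modules)
    (h₁ : Coh.IsCoh N₁) (h₂ : Coh.IsCoh N₂) :
    ∃ t : Coh.structureModule ℙ ⟶ 𝕆(((1 : ℕ) : ℤ)),
      Mono (mulS t N₁) ∧ Mono (mulS t N₂) := by
  haveI : IsNoetherianRing (MvPolynomial (Fin (n + 1)) k) := inferInstance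
  haveI : IsNoetherian (CohB1.ProjSpace n k) :=
    Groth.Agent.Helper3.ProjNoeth.main (CohB1.polyGrading n k)
  have hc : IsCompact ((⊤ : (CohB1.ProjSpace n k).Opens) : Set (CohB1.ProjSpace n k)) := by
    simpa using isCompact_univ
  have f1 := Groth.Agent.Helper4.AssFin.finite_assPoints_of_isCompact N₁ h₁.1 h₁.2 ⊤ hc
  have f2 := Groth.Agent.Helper4.AssFin.finite_assPoints_of_isCompact N₂ h₂.1 h₂.2 ⊤ hc
  obtain ⟨t, -, ht⟩ := havoid_projSpace k n _ (f1.union f2)
  haveI : N₁.IsQuasicoherent := h₁.1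
  haveI : N₂.IsQuasicoherent := h₂.1
  have hL : Coh.IsCoh 𝕆(((1 : ℕ) : ℤ)) := Groth.Agent.Helper1.SerreFin.isCoh_twist n k _
  haveI : (𝕆(((1 : ℕ) : ℤ))).IsQuasicoherent := hL.1
  haveI : (CohB1.tensorMod N₁ 𝕆(((1 : ℕ) : ℤ))).IsQuasicoherent :=
    Groth.Agent.Lead.QcohTensor.isQuasicoherent_tensorMod N₁ _
  haveI : (CohB1.tensorMod N₂ 𝕆(((1 : ℕ) : ℤ))).IsQuasicoherent :=
    Groth.Agent.Lead.QcohTensor.isQuasicoherent_tensorMod N₂ _
  refine ⟨t, ?_, ?_⟩
  · apply Groth.Agent.Helper4.AssMono.mono_of_off_ass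
    intro x hx
    exact (stalkLin_mulS_bijective t N₁ x (ht x (Or.inl ⟨trivial, hx⟩))).1
  · apply Groth.Agent.Helper4.AssMono.mono_of_off_ass
    intro x hx
    exact (stalkLin_mulS_bijective t N₂ x (ht x (Or.inr ⟨trivial, hx⟩))).1

end Groth.Agent.Helper1.MF
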