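import Mathlib
import Groth.Agent.Helper1.MF1

set_option autoImplicit false
set_option linter.unusedSectionVars false
set_option linter.style.haveILetI false

/-!
# Mumford's regularity bound, II: naturality of multiplication by a section, and a snake lemma
-/

namespace Groth.Agent.Helper1.MF

open CategoryTheory Limits AlgebraicGeometry TopologicalSpace Opposite
open Groth.Agent.Helper4.SN Groth.Agent.Helper4.StalkDict

universe u

section Snake

variable {D : Type*} [Category D] [Abelian D]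

/-- for a morphism of short exact sequences whose third component is a monomorphism, the map
induced on the cokernels of the first two components is a monomorphism -/
theorem mono_cokernel_map (S₁ S₂ : ShortComplex D) (h₁ : S₁.ShortExact) (h₂ : S₂.ShortExact)
    (φ : S₁ ⟶ S₂) [Mono φ.τ₃] :
    Mono (cokernel.map φ.τ₁ φ.τ₂ S₁.f S₂.f φ.comm₁₂) := by
  haveI := h₂.mono_f
  rw [Preadditive.mono_iff_cancel_zero]
  intro T x hx
  -- lift `x` to `S₂.X₁`
  obtain ⟨T₁, p₁, hp₁, y, hy⟩ := surjective_up_to_refinements_of_epi (cokernel.π φ.τ₁) x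
  have e1 : (y ≫ S₂.f) ≫ cokernel.π φ.τ₂ = 0 := by
    have : y ≫ S₂.f ≫ cokernel.π φ.τ₂ =
        (y ≫ cokernel.π φ.τ₁) ≫ cokernel.map φ.τ₁ φ.τ₂ S₁.f S₂.f φ.comm₁₂ := by
      rw [Category.assoc, cokernel.π_desc]
    rw [Category.assoc, this, ← hy, Category.assoc, hx, comp_zero]
  have hex : (ShortComplex.mk φ.τ₂ (cokernel.π φ.τ₂) (cokernel.condition _)).Exact :=
    ShortComplex.exact_of_g_is_cokernel _ (cokernelIsCokernel φ.τ₂)
  obtain ⟨T₂, p₂, hp₂, z, hz⟩ := hex.exact_up_to_refinements (y ≫ S₂.f) e1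
  dsimp at hz
  have e2 : z ≫ S₁.g = 0 := by
    rw [← cancel_mono φ.τ₃, Category.assoc, zero_comp, ← φ.comm₂₃, ← Category.assoc, ← hz,
      Category.assoc, Category.assoc, S₂.zero, comp_zero, comp_zero]
  obtain ⟨T₃, p₃, hp₃, w, hw⟩ := h₁.exact.exact_up_to_refinements z e2
  have e3 : w ≫ φ.τ₁ = p₃ ≫ p₂ ≫ y := by
    rw [← cancel_mono S₂.f]
    calc (w ≫ φ.τ₁) ≫ S₂.f = w ≫ S₁.f ≫ φ.τ₂ := by rw [Category.assoc, φ.comm₁₂]
      _ = (p₃ ≫ z) ≫ φ.τ₂ := by rw [hw, Category.assoc]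
      _ = p₃ ≫ p₂ ≫ y ≫ S₂.f := by rw [Category.assoc, ← hz]
      _ = (p₃ ≫ p₂ ≫ y) ≫ S₂.f := by simp only [Category.assoc]
  have e4 : (p₃ ≫ p₂ ≫ p₁) ≫ x = 0 := by
    calc (p₃ ≫ p₂ ≫ p₁) ≫ x = p₃ ≫ p₂ ≫ (p₁ ≫ x) := by simp only [Category.assoc]
      _ = (p₃ ≫ p₂ ≫ y) ≫ cokernel.π φ.τ₁ := by rw [hy]; simp only [Category.assoc]
      _ = 0 := by rw [← e3, Category.assoc, cokernel.condition, comp_zero]
  haveI : Epi (p₃ ≫ p₂ ≫ p₁) := epi_comp _ _
  rwa [← cancel_epi (p₃ ≫ p₂ ≫ p₁), comp_zero]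

end Snake

section Nat

variable {X : Scheme.{u}} {L : X.Modules}

/-- naturality of multiplication by a section -/
theorem mulS_naturality (t : Coh.structureModule X ⟶ L) {N N' : X.Modules} (φ : N ⟶ N') :
    mulS t N ≫ KoszTw.tensorMap φ (𝟙 L) = φ ≫ mulS t N' := by
  apply Scheme.Modules.hom_ext
  intro U
  ext x
  show (KoszTw.tensorMap φ (𝟙 L)).app U ((mulS t N).app U x) =
    (mulS t N').app U (φ.app U x)
  rw [mulS_app, mulS_app, KoszTw.tensorMap_tmul]
  rfl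

end Nat

end Groth.Agent.Helper1.MF
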