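import Mathlib
import Groth.Agent.Helper1.MF2
import Groth.Agent.Helper4.NApx80
import Groth.Agent.Lead.BCFieldC
import Groth.Agent.Helper6.HProj

set_option autoImplicit false
set_option linter.unusedSectionVars false
set_option linter.style.haveILetI false

/-!
# Mumford's regularity bound, III: the cokernel of a regular section
-/

namespace Groth.Agent.Helper1.MF

open CategoryTheory Limits AlgebraicGeometry TopologicalSpace Opposite
open Groth.Agent.Helper4.TensorLift Groth.Agent.Helper1.KzReg Groth.Agent.Helper1.KzMultPn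
  Groth.Agent.Helper1.KzLin Groth.Agent.Helper1.SerreVan Groth.Agent.Helper1.TwistExact
  Groth.Agent.Helper1.HHLes Groth.Agent.Helper1.ProjTop Groth.Agent.Helper1.SerreFin
  Groth.Agent.Helper1.KzMult Groth.Agent.Helper1.KzExt

universe u

variable (n : ℕ) (k : Type u) [Field k]

local notation "𝕆(" d ")" => Twist.twistProjSpace n k d
local notation "ℙ" => CohB1.ProjSpace n k

/-- the Euler characteristic on `P^n_k` -/
noncomputable abbrev chi (G : (CohB1.ProjSpace n k).Modules) : ℤ :=
  Curv2.euler k (CohB1.ProjSpace n k) G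

theorem chi_congr {G G' : (CohB1.ProjSpace n k).Modules} (e : G ≅ G') :
    chi n k G = chi n k G' :=
  Groth.Agent.Lead.BCField.euler_congr k _ e

variable (F : (CohB1.ProjSpace n k).Modules) (hF : Coh.IsCoh F)
  (ι : CohB1.tensorMod F (Twist.twistProjSpace n k (-1)) ⟶ F) [Mono ι]

include hF in
/-- the Euler characteristic of the twists of the cokernel -/
theorem chi_cokernel (r : ℤ) :
    chi n k (CohB1.tensorMod (cokernel ι) 𝕆(r)) =
      chi n k (CohB1.tensorMod F 𝕆(r)) - chi n k (CohB1.tensorMod F 𝕆(r - 1)) := by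
  haveI : IsProper ((CohB1.ProjSpace n k) ↘ (Spec (CommRingCat.of k))) :=
    Groth.Agent.Helper6.HProj.isProper_toSpec n k
  have hG := isCoh_coker n k F hF ι
  obtain ⟨e⟩ := Sj_X₁_iso n k F ι r (r - 1) rfl
  have h1 : Coh.IsCoh (Sj n k F ι r).X₁ :=
    isCoh_tw n k _ (isCoh_tw n k F hF (-1)) r
  have h2 : Coh.IsCoh (Sj n k F ι r).X₂ := isCoh_tw n k F hF r
  have h3 : Coh.IsCoh (Sj n k F ι r).X₃ := isCoh_tw n k _ hG r
  have h := Groth.Agent.Helper4.NApx80.euler_additive k (CohB1.ProjSpace n k) (Sj n k F ι r)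
    (Sj_shortExact n k F ι r) h1 h2 h3
  have h4 : chi n k (Sj n k F ι r).X₁ = chi n k (CohB1.tensorMod F 𝕆(r - 1)) := chi_congr n k e
  show chi n k (Sj n k F ι r).X₃ = chi n k (Sj n k F ι r).X₂ - _
  rw [← h4]
  unfold chi
  omega

include hF in
/-- regularity passes to the cokernel -/
theorem isReg_cokernel (m : ℤ) (h : IsReg n k F m) : IsReg n k (cokernel ι) m := by
  intro i hi
  have hS := Sj_shortExact n k F ι (m - i)
  obtain ⟨e⟩ := Sj_X₁_iso n k F ι (m - i) (m - (i + 1 : ℕ)) (by push_cast; ring)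
  have h2 : Subsingleton (Coh.HH ℙ (Sj n k F ι (m - i)).X₂ i) := h i hi
  have h1 : Subsingleton (Coh.HH ℙ (Sj n k F ι (m - i)).X₁ (i + 1)) := by
    haveI := h (i + 1) (by omega)
    exact (HHlinEquiv k (X := ℙ) e (i + 1)).toEquiv.subsingleton
  constructor
  intro x y
  have hx : ∀ z : Coh.HH ℙ (Sj n k F ι (m - i)).X₃ i, z = 0 := by
    intro z
    have hz : δ k (Sj n k F ι (m - i)) hS i z = 0 := Subsingleton.elim _ _
    obtain ⟨w, hw⟩ := (exact_g_δ k (Sj n k F ι (m - i)) hS i z).1 hz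
    rw [← hw, Subsingleton.elim w 0, map_zero]
  exact (hx x).trans (hx y).symm

include hF in
/-- the global sections of the twists of the cokernel are bounded by those of the module -/
theorem finrank_H0_cokernel_le (m : ℤ) (h : IsReg n k F m) (j : ℤ) (hj : m ≤ j) :
    Module.finrank k (Coh.HH ℙ (CohB1.tensorMod (cokernel ι) 𝕆(j)) 0) ≤
      Module.finrank k (Coh.HH ℙ (CohB1.tensorMod F 𝕆(j)) 0) := by
  have hS := Sj_shortExact n k F ι j
  obtain ⟨e⟩ := Sj_X₁_iso n k F ι j (j - 1) rfl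
  have h1 : Subsingleton (Coh.HH ℙ (Sj n k F ι j).X₁ 1) := by
    haveI := subsingleton_HH_of_isReg n k F hF m h 1 le_rfl (j - 1) (by push_cast; omega)
    exact (HHlinEquiv k (X := ℙ) e 1).toEquiv.subsingleton
  have hsurj : Function.Surjective (Canon.HHlin k (Sj n k F ι j).g 0) := by
    intro z
    apply (exact_g_δ k (Sj n k F ι j) hS 0 z).1
    exact Subsingleton.elim _ _
  haveI : Module.Finite k (Coh.HH ℙ (CohB1.tensorMod F 𝕆(j)) 0) :=
    finite_HH n k _ (isCoh_tw n k F hF j) 0
  haveI : Module.Finite k (Coh.HH ℙ (Sj n k F ι j).X₂ 0) :=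
    finite_HH n k _ (isCoh_tw n k F hF j) 0
  exact LinearMap.finrank_le_finrank_of_surjective hsurj

end Groth.Agent.Helper1.MF
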