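import Mathlib
import Groth.Agent.Helper1.MF3

set_option autoImplicit false
set_option linter.unusedSectionVars false
set_option linter.style.haveILetI false

/-!
# Mumford's regularity bound, IV: cutting a subsheaf by a regular section
-/

namespace Groth.Agent.Helper1.MF

open CategoryTheory Limits AlgebraicGeometry TopologicalSpace Opposite
open Groth.Agent.Helper4.TensorLift Groth.Agent.Helper1.KzReg Groth.Agent.Helper1.KzMultPn
  Groth.Agent.Helper1.KzLin Groth.Agent.Helper1.SerreVan Groth.Agent.Helper1.TwistExact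
  Groth.Agent.Helper1.HHLes Groth.Agent.Helper1.ProjTop Groth.Agent.Helper1.SerreFin
  Groth.Agent.Helper1.KzMult Groth.Agent.Helper1.KzExt Groth.Agent.Helper4.SN

universe u

variable (n : ℕ) (k : Type u) [Field k]

local notation "𝕆(" d ")" => Twist.twistProjSpace n k d
local notation "ℙ" => CohB1.ProjSpace n k

/-- over an infinite field, some section of `O(1)` is a nonzerodivisor on two given coherent
modules -/
theorem exists_mono_mulS' [Infinite k] (N₁ N₂ : (CohB1.ProjSpace n k).Modules)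
    (h₁ : Coh.IsCoh N₁) (h₂ : Coh.IsCoh N₂) :
    ∃ t : Coh.structureModule ℙ ⟶ 𝕆(1), Mono (mulS t N₁) ∧ Mono (mulS t N₂) := by
  have h := exists_mono_mulS n k N₁ N₂ h₁ h₂
  rw [Nat.cast_one] at h
  exact h

/-- a chosen isomorphism `N(-1)(1) ≅ N` -/
noncomputable def αIso (N : (CohB1.ProjSpace n k).Modules) :
    CohB1.tensorMod (CohB1.tensorMod N 𝕆(-1)) 𝕆(1) ≅ N :=
  Classical.choice (tw_tw_iso n k N (-1) 1 0 (by norm_num)) ≪≫
    Classical.choice (nonempty_tensor_twist_zero k n N 0 rfl)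

variable (t : Coh.structureModule (CohB1.ProjSpace n k) ⟶ Twist.twistProjSpace n k 1)

/-- the map `N(-1) ⟶ N` defined by a section of `O(1)` -/
noncomputable def ιOf (N : (CohB1.ProjSpace n k).Modules) : CohB1.tensorMod N 𝕆(-1) ⟶ N :=
  mulS t (CohB1.tensorMod N 𝕆(-1)) ≫ (αIso n k N).hom

theorem mono_ιOf (N : (CohB1.ProjSpace n k).Modules)
    [Mono (mulS t (CohB1.tensorMod N 𝕆(-1)))] : Mono (ιOf n k t N) := by
  unfold ιOf
  infer_instance

/-- **the cut of a subsheaf is a subsheaf of the cut** -/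
theorem exists_mono_cokernel (S : ShortComplex (CohB1.ProjSpace n k).Modules) (hS : S.ShortExact)
    [Mono (mulS t (CohB1.tensorMod S.X₃ 𝕆(-1)))] :
    ∃ j : cokernel (ιOf n k t S.X₁) ⟶ cokernel (ιOf n k t S.X₂), Mono j := by
  have hS1 : (S.map (DCoh.tensorRightMod 𝕆(-1))).ShortExact :=
    shortExact_map_tensorRightMod hS _ (isInvertible_twist n k (-1))
  have hS2 : ((S.map (DCoh.tensorRightMod 𝕆(-1))).map (DCoh.tensorRightMod 𝕆(1))).ShortExact :=
    shortExact_map_tensorRightMod hS1 _ (isInvertible_twist n k 1)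
  let φ : S.map (DCoh.tensorRightMod 𝕆(-1)) ⟶
      (S.map (DCoh.tensorRightMod 𝕆(-1))).map (DCoh.tensorRightMod 𝕆(1)) :=
    { τ₁ := mulS t (CohB1.tensorMod S.X₁ 𝕆(-1))
      τ₂ := mulS t (CohB1.tensorMod S.X₂ 𝕆(-1))
      τ₃ := mulS t (CohB1.tensorMod S.X₃ 𝕆(-1))
      comm₁₂ := by
        show mulS t _ ≫ (DCoh.tensorRightMod 𝕆(1)).map ((DCoh.tensorRightMod 𝕆(-1)).map S.f) =
          (DCoh.tensorRightMod 𝕆(-1)).map S.f ≫ mulS t _
        rw [KoszTw.tensorRightMod_map ((DCoh.tensorRightMod 𝕆(-1)).map S.f)]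
        exact mulS_naturality t _
      comm₂₃ := by
        show mulS t _ ≫ (DCoh.tensorRightMod 𝕆(1)).map ((DCoh.tensorRightMod 𝕆(-1)).map S.g) =
          (DCoh.tensorRightMod 𝕆(-1)).map S.g ≫ mulS t _
        rw [KoszTw.tensorRightMod_map ((DCoh.tensorRightMod 𝕆(-1)).map S.g)]
        exact mulS_naturality t _ }
  haveI : Mono φ.τ₃ := inferInstanceAs (Mono (mulS t (CohB1.tensorMod S.X₃ 𝕆(-1))))
  have hm := mono_cokernel_map _ _ hS1 hS2 φ
  let e1 : cokernel (ιOf n k t S.X₁) ≅ cokernel (mulS t (CohB1.tensorMod S.X₁ 𝕆(-1))) :=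
    cokernelCompIsIso _ _
  let e2 : cokernel (ιOf n k t S.X₂) ≅ cokernel (mulS t (CohB1.tensorMod S.X₂ 𝕆(-1))) :=
    cokernelCompIsIso _ _
  refine ⟨e1.hom ≫ cokernel.map φ.τ₁ φ.τ₂ _ _ φ.comm₁₂ ≫ e2.inv, ?_⟩
  haveI h2 : Mono (cokernel.map φ.τ₁ φ.τ₂ _ _ φ.comm₁₂ ≫ e2.inv) :=
    @mono_comp _ _ _ _ _ _ hm _ inferInstance
  exact @mono_comp _ _ _ _ _ _ inferInstance _ h2

end Groth.Agent.Helper1.MF
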