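import Mathlib
import Groth.Agent.Helper1.MF4
import Groth.Agent.Helper5.ShStab1
import Groth.Agent.Helper1.EulerCoh

set_option autoImplicit false
set_option linter.unusedSectionVars false
set_option linter.style.haveILetI false

/-!
# Mumford's regularity bound, V: the geometric input of the induction
-/

namespace Groth.Agent.Helper1.MF

open CategoryTheory Limits AlgebraicGeometry TopologicalSpace Opposite
open Groth.Agent.Helper4.TensorLift Groth.Agent.Helper1.KzReg Groth.Agent.Helper1.KzMultPn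
  Groth.Agent.Helper1.KzLin Groth.Agent.Helper1.SerreVan Groth.Agent.Helper1.TwistExact
  Groth.Agent.Helper1.HHLes Groth.Agent.Helper1.ProjTop Groth.Agent.Helper1.SerreFin
  Groth.Agent.Helper1.KzMult Groth.Agent.Helper1.KzExt Groth.Agent.Helper4.SN

universe u

variable (n : ℕ) (k : Type u) [Field k]

local notation "𝕆(" d ")" => Twist.twistProjSpace n k d
local notation "ℙ" => CohB1.ProjSpace n k

/-- a coherent module all of whose twists have Euler characteristic zero vanishes -/
theorem isZero_of_chi_eq_zero (F : (CohB1.ProjSpace n k).Modules) (hF : Coh.IsCoh F)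
    (h : ∀ r : ℤ, chi n k (CohB1.tensorMod F 𝕆(r)) = 0) : IsZero F := by
  obtain ⟨d₀, hd₀⟩ := vanishing n k F hF
  have hreg : IsReg n k F (d₀ + n) := by
    apply isReg_of_le n k F hF
    intro i _ hin
    exact hd₀ _ (by omega) i (by omega)
  have hgg := isGloballyGenerated_of_isReg n k F hF (d₀ + n) (d₀ + n) le_rfl hreg
  have hv : ∀ p : ℕ, 0 < p → Subsingleton (Coh.HH ℙ (CohB1.tensorMod F 𝕆(d₀ + n)) p) :=
    fun p hp => hd₀ _ (by omega) p hp
  have he := Groth.Agent.Helper5.ShStab1.euler_eq_finrank_of_vanishing k (CohB1.ProjSpace n k)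
    _ hv
  have h0 : Module.finrank k (Coh.HH ℙ (CohB1.tensorMod F 𝕆(d₀ + n)) 0) = 0 := by
    have := h (d₀ + n)
    unfold chi at this
    rw [he] at this
    exact_mod_cast this
  haveI : Module.Finite k (Coh.HH ℙ (CohB1.tensorMod F 𝕆(d₀ + n)) 0) :=
    finite_HH n k _ (isCoh_tw n k F hF _) 0
  have hsub : Subsingleton (Coh.HH ℙ (CohB1.tensorMod F 𝕆(d₀ + n)) 0) :=
    Module.finrank_zero_iff.1 h0
  have hz : IsZero (CohB1.tensorMod F 𝕆(d₀ + n)) := by
    by_contra hcon
    exact Groth.Agent.Helper5.ShStab1.not_subsingleton_HH0 _ hgg hcon hsub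
  rw [Groth.Agent.Lead.EpiPull.isZero_iff_support,
    Groth.Agent.Helper4.SN.support_tensorMod_eq_left F _ (isInvertible_twist n k _),
    ← Groth.Agent.Lead.EpiPull.isZero_iff_support] at hz
  exact hz

/-- the zero module is `m`-regular for all `m` -/
theorem isReg_of_isZero (F : (CohB1.ProjSpace n k).Modules) (hF : IsZero F) (m : ℤ) :
    IsReg n k F m := by
  intro i _
  have hz : IsZero (CohB1.tensorMod F 𝕆(m - i)) := by
    rw [Groth.Agent.Lead.EpiPull.isZero_iff_support,
      Groth.Agent.Helper4.SN.support_tensorMod_eq_left F _ (isInvertible_twist n k _),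
      ← Groth.Agent.Lead.EpiPull.isZero_iff_support]
    exact hF
  exact Groth.Agent.Helper1.KzChase.subsingleton_HH_of_isZero hz i

section Step

variable (p : ℕ) (E F : (CohB1.ProjSpace n k).Modules) (hE : Coh.IsCoh E) (hF : Coh.IsCoh F)

include hE hF in
/-- **the cut**: over an infinite field, a subsheaf `F ⊆ E` of a `0`-regular module with bounded
sections can be cut by a hyperplane to a subsheaf of a module with the same properties -/
theorem exists_cut [Infinite k] (i : F ⟶ E) [Mono i] (hEreg : IsReg n k E 0)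
    (hEb : ∀ m : ℕ, Module.finrank k (Coh.HH ℙ (CohB1.tensorMod E 𝕆((m : ℤ))) 0) ≤
      p * (n + m).choose n) :
    ∃ (ι : CohB1.tensorMod F 𝕆(-1) ⟶ F) (_ : Mono ι) (E' : (CohB1.ProjSpace n k).Modules)
      (j : cokernel ι ⟶ E'), Mono j ∧ Coh.IsCoh E' ∧ IsReg n k E' 0 ∧
        ∀ m : ℕ, Module.finrank k (Coh.HH ℙ (CohB1.tensorMod E' 𝕆((m : ℤ))) 0) ≤
          p * (n + m).choose n := by
  have hQ : Coh.IsCoh (cokernel i) := Groth.Agent.Lead.PerfLib.isCoh_cokernel hF hE i
  obtain ⟨t, ht1, ht2⟩ := exists_mono_mulS' n k (CohB1.tensorMod E 𝕆(-1))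
    (CohB1.tensorMod (cokernel i) 𝕆(-1)) (isCoh_tw n k E hE (-1)) (isCoh_tw n k _ hQ (-1))
  let S : ShortComplex (CohB1.ProjSpace n k).Modules :=
    ShortComplex.mk i (cokernel.π i) (cokernel.condition i)
  have hS : S.ShortExact :=
    ShortComplex.ShortExact.mk' (ShortComplex.exact_of_g_is_cokernel _ (cokernelIsCokernel i))
      (inferInstanceAs (Mono i)) (inferInstanceAs (Epi (cokernel.π i)))
  haveI : Mono (mulS t (CohB1.tensorMod S.X₃ 𝕆(-1))) := ht2
  haveI : Mono (mulS t (CohB1.tensorMod E 𝕆(-1))) := ht1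
  haveI hmi : Mono (KoszTw.tensorMap i (𝟙 𝕆(-1))) :=
    Groth.Agent.Helper4.H1Twist.mono_tensorMap i _ (isInvertible_twist n k (-1))
  haveI : Mono (mulS t (CohB1.tensorMod F 𝕆(-1))) := by
    have hnat := mulS_naturality t (KoszTw.tensorMap i (𝟙 𝕆(-1)))
    haveI : Mono (mulS t (CohB1.tensorMod F 𝕆(-1)) ≫
        KoszTw.tensorMap (KoszTw.tensorMap i (𝟙 𝕆(-1))) (𝟙 𝕆(1))) := by
      rw [hnat]
      exact mono_comp _ _
    exact mono_of_mono _ (KoszTw.tensorMap (KoszTw.tensorMap i (𝟙 𝕆(-1))) (𝟙 𝕆(1)))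
  haveI hιF : Mono (ιOf n k t F) := mono_ιOf n k t F
  haveI hιE : Mono (ιOf n k t E) := mono_ιOf n k t E
  obtain ⟨j, hj⟩ := exists_mono_cokernel n k t S hS
  refine ⟨ιOf n k t F, hιF, cokernel (ιOf n k t E), j, hj, isCoh_coker n k E hE _,
    isReg_cokernel n k E hE _ 0 hEreg, fun m => ?_⟩
  exact (finrank_H0_cokernel_le n k E hE (ιOf n k t E) 0 hEreg m (by omega)).trans (hEb m)

end Step

end Groth.Agent.Helper1.MF
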