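import Mathlib
import Groth.Agent.Helper1.MF5

set_option autoImplicit false
set_option linter.unusedSectionVars false
set_option linter.style.haveILetI false

/-!
# Mumford's regularity bound, VI: from the cokernel back to the module
-/

namespace Groth.Agent.Helper1.MF

open CategoryTheory Limits AlgebraicGeometry TopologicalSpace Opposite
open Groth.Agent.Helper4.TensorLift Groth.Agent.Helper1.KzReg Groth.Agent.Helper1.KzMultPn
  Groth.Agent.Helper1.KzLin Groth.Agent.Helper1.SerreVan Groth.Agent.Helper1.TwistExact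
  Groth.Agent.Helper1.HHLes Groth.Agent.Helper1.ProjTop Groth.Agent.Helper1.SerreFin
  Groth.Agent.Helper1.KzMult Groth.Agent.Helper1.KzExt Groth.Agent.Helper4.SN

universe u

variable (n : ℕ) (k : Type u) [Field k]

local notation "𝕆(" d ")" => Twist.twistProjSpace n k d
local notation "ℙ" => CohB1.ProjSpace n k

variable (F : (CohB1.ProjSpace n k).Modules) (hF : Coh.IsCoh F)
  (ι : CohB1.tensorMod F (Twist.twistProjSpace n k (-1)) ⟶ F) [Mono ι]

include hF in
/-- `F` is `(m₀ + u)`-regular when the cokernel is `m₀`-regular and `h¹(F(m₀ - 1)) ≤ u` -/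
theorem isReg_of_cokernel (m₀ : ℤ) (hG : IsReg n k (cokernel ι) m₀) (u : ℕ)
    (hu : h1 n k F (m₀ - 1) ≤ u) : IsReg n k F (m₀ + u) := by
  intro i hi
  rcases Nat.lt_or_ge i 2 with h | h
  · have hi1 : i = 1 := by omega
    subst hi1
    apply vanishing_H1 n k F hF ι m₀ hG
    push_cast
    have : (h1 n k F (m₀ - 1) : ℤ) ≤ u := by exact_mod_cast hu
    omega
  · apply vanishing_ge_two n k F hF ι m₀ hG i h
    have : (0 : ℤ) ≤ u := Int.natCast_nonneg _
    omega

/-- the Euler characteristic when the cohomology vanishes in degrees `≥ 2` -/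
theorem chi_eq_sub (G : (CohB1.ProjSpace n k).Modules)
    (h : ∀ i : ℕ, 2 ≤ i → Subsingleton (Coh.HH ℙ G i)) :
    chi n k G = (Module.finrank k (Coh.HH ℙ G 0) : ℤ) - (Module.finrank k (Coh.HH ℙ G 1) : ℤ) := by
  unfold chi Curv2.euler
  have hsupp : (Function.support fun i : ℕ =>
      (-1 : ℤ) ^ i * (Module.finrank k (Coh.HH ℙ G i) : ℤ)) ⊆ ↑(Finset.range 2) := by
    intro i hi
    simp only [Finset.coe_range, Set.mem_Iio]
    by_contra hcon
    apply hi
    haveI := h i (by omega)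
    show (-1 : ℤ) ^ i * (Module.finrank k (Coh.HH ℙ G i) : ℤ) = 0
    rw [Module.finrank_zero_of_subsingleton]
    simp
  rw [finsum_eq_sum_of_support_subset _ hsupp, Finset.sum_range_succ, Finset.sum_range_one]
  ring

include hF in
/-- the bound for `h¹(F(m₀ - 1))` -/
theorem h1_le (E : (CohB1.ProjSpace n k).Modules) (hE : Coh.IsCoh E) (i : F ⟶ E) [Mono i]
    (m₀ : ℤ) (hG : IsReg n k (cokernel ι) m₀) (B : ℕ)
    (hB : Module.finrank k (Coh.HH ℙ (CohB1.tensorMod E 𝕆(m₀ - 1)) 0) ≤ B) :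
    (h1 n k F (m₀ - 1) : ℤ) ≤ B - chi n k (CohB1.tensorMod F 𝕆(m₀ - 1)) := by
  have hv : ∀ i : ℕ, 2 ≤ i → Subsingleton (Coh.HH ℙ (CohB1.tensorMod F 𝕆(m₀ - 1)) i) :=
    fun i hi => vanishing_ge_two n k F hF ι m₀ hG i hi (m₀ - 1) (by omega)
  rw [chi_eq_sub n k _ hv]
  haveI : Mono (KoszTw.tensorMap i (𝟙 𝕆(m₀ - 1))) :=
    Groth.Agent.Helper4.H1Twist.mono_tensorMap i _ (isInvertible_twist n k _)
  have hinj := Groth.Agent.Helper1.EulerCoh.injective_HHlin_zero (A := k)
    (KoszTw.tensorMap i (𝟙 𝕆(m₀ - 1)))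
  haveI : Module.Finite k (Coh.HH ℙ (CohB1.tensorMod E 𝕆(m₀ - 1)) 0) :=
    finite_HH n k _ (isCoh_tw n k E hE _) 0
  have hle := LinearMap.finrank_le_finrank_of_injective hinj
  show (Module.finrank k (Coh.HH ℙ (CohB1.tensorMod F 𝕆(m₀ - 1)) 1) : ℤ) ≤ _
  have h2 : (Module.finrank k (Coh.HH ℙ (CohB1.tensorMod F 𝕆(m₀ - 1)) 0) : ℤ) ≤ B := by
    exact_mod_cast hle.trans hB
  omega

end Groth.Agent.Helper1.MF
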