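import Mathlib

set_option autoImplicit false

/-!
# Mumford's regularity bound, VII: the arithmetic
-/

namespace Groth.Agent.Helper1.MF

open Finset

/-- the shifted coefficient vector -/
def shiftCoeff {n : ℕ} (a : Fin (n + 1) → ℤ) (i : Fin (n + 1)) : ℤ :=
  if h : (i : ℕ) + 1 < n + 1 then a ⟨(i : ℕ) + 1, h⟩ else 0

theorem shiftCoeff_eq_zero {n : ℕ} (a : Fin (n + 1) → ℤ) (e : ℕ)
    (ha : ∀ j : Fin (n + 1), e + 1 ≤ (j : ℕ) → a j = 0) (i : Fin (n + 1)) (hi : e ≤ (i : ℕ)) :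
    shiftCoeff a i = 0 := by
  unfold shiftCoeff
  split_ifs with h
  · exact ha _ (by simpa using hi)
  · rfl

/-- Pascal's rule for the difference -/
theorem choose_sub_choose (x : ℤ) (j : ℕ) :
    Ring.choose x (j + 1) - Ring.choose (x - 1) (j + 1) = Ring.choose (x - 1) j := by
  have h := Ring.choose_succ_succ (x - 1) j
  rw [sub_add_cancel] at h
  rw [h]
  ring

/-- the difference of a binomial expansion -/
theorem sum_diff {n : ℕ} (a : Fin (n + 1) → ℤ) (x : ℤ) :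
    ∑ j : Fin (n + 1), a j * Ring.choose x (j : ℕ) -
      ∑ j : Fin (n + 1), a j * Ring.choose (x - 1) (j : ℕ) =
      ∑ i : Fin (n + 1), shiftCoeff a i * Ring.choose (x - 1) (i : ℕ) := by
  rw [← Finset.sum_sub_distrib, Fin.sum_univ_succ, Fin.sum_univ_castSucc (n := n)]
  have h0 : a 0 * Ring.choose x ((0 : Fin (n + 1)) : ℕ) -
      a 0 * Ring.choose (x - 1) ((0 : Fin (n + 1)) : ℕ) = 0 := by
    simp [Ring.choose_zero_right]
  have hl : shiftCoeff a (Fin.last n) = 0 := by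
    unfold shiftCoeff
    simp
  rw [h0, hl, zero_mul, add_zero, zero_add]
  refine Finset.sum_congr rfl (fun i _ => ?_)
  have h1 : shiftCoeff a i.castSucc = a i.succ := by
    unfold shiftCoeff
    have : ((i.castSucc : Fin (n + 1)) : ℕ) + 1 < n + 1 := by simp
    rw [dif_pos this]
    congr 1
  rw [h1, ← mul_sub]
  congr 1
  have := choose_sub_choose x (i : ℕ)
  simpa using this

/-- the polynomial bound -/
theorem bound (p n : ℕ) (a : Fin (n + 1) → ℤ) (m₀ : ℤ) (N N₂ : ℕ) (hN : (N : ℤ) ≤ m₀)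
    (hN₂ : (N₂ : ℤ) ≤ m₀) :
    ((p * (n + N).choose n : ℕ) : ℤ) - ∑ j : Fin (n + 1), a j * ((N₂.choose (j : ℕ) : ℕ) : ℤ) ≤
      (p : ℤ) * ((n : ℤ) + m₀) ^ n + ∑ j : Fin (n + 1), (a j ^ 2 + 1) * m₀ ^ (j : ℕ) := by
  have hm0 : (0 : ℤ) ≤ m₀ := le_trans (Int.natCast_nonneg N) hN
  have h1 : ((p * (n + N).choose n : ℕ) : ℤ) ≤ (p : ℤ) * ((n : ℤ) + m₀) ^ n := by
    push_cast
    apply mul_le_mul_of_nonneg_left _ (Int.natCast_nonneg p)
    have h2 : (((n + N).choose n : ℕ) : ℤ) ≤ (((n + N) ^ n : ℕ) : ℤ) := by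
      exact_mod_cast Nat.choose_le_pow (n + N) n
    refine h2.trans ?_
    push_cast
    apply pow_le_pow_left₀ (by positivity)
    linarith
  have h2 : - ∑ j : Fin (n + 1), a j * ((N₂.choose (j : ℕ) : ℕ) : ℤ) ≤
      ∑ j : Fin (n + 1), (a j ^ 2 + 1) * m₀ ^ (j : ℕ) := by
    rw [← Finset.sum_neg_distrib]
    apply Finset.sum_le_sum
    intro j _
    have hc : ((N₂.choose (j : ℕ) : ℕ) : ℤ) ≤ m₀ ^ (j : ℕ) := by
      have h3 : ((N₂.choose (j : ℕ) : ℕ) : ℤ) ≤ ((N₂ ^ (j : ℕ) : ℕ) : ℤ) := by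
        exact_mod_cast Nat.choose_le_pow N₂ j
      refine h3.trans ?_
      push_cast
      exact pow_le_pow_left₀ (Int.natCast_nonneg N₂) hN₂ _
    have hc0 : (0 : ℤ) ≤ ((N₂.choose (j : ℕ) : ℕ) : ℤ) := Int.natCast_nonneg _
    have ha : -a j ≤ a j ^ 2 + 1 := by nlinarith [sq_nonneg (a j + 1), sq_nonneg (a j)]
    have ha0 : (0 : ℤ) ≤ a j ^ 2 + 1 := by positivity
    calc -(a j * ((N₂.choose (j : ℕ) : ℕ) : ℤ)) = (-a j) * ((N₂.choose (j : ℕ) : ℕ) : ℤ) := by ring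
      _ ≤ (a j ^ 2 + 1) * ((N₂.choose (j : ℕ) : ℕ) : ℤ) := mul_le_mul_of_nonneg_right ha hc0
      _ ≤ (a j ^ 2 + 1) * m₀ ^ (j : ℕ) := mul_le_mul_of_nonneg_left hc ha0
  linarith

end Groth.Agent.Helper1.MF
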