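import Mathlib
import Groth.Agent.Helper1.MF6
import Groth.Agent.Helper1.MF7

set_option autoImplicit false
set_option linter.unusedSectionVars false
set_option linter.style.haveILetI false

/-!
# Mumford's regularity bound, VIII: the induction
-/

namespace Groth.Agent.Helper1.MF

open CategoryTheory Limits AlgebraicGeometry TopologicalSpace Opposite
open Groth.Agent.Helper4.TensorLift Groth.Agent.Helper1.KzReg Groth.Agent.Helper1.KzMultPn
  Groth.Agent.Helper1.KzLin Groth.Agent.Helper1.SerreVan Groth.Agent.Helper1.TwistExact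
  Groth.Agent.Helper1.HHLes Groth.Agent.Helper1.ProjTop Groth.Agent.Helper1.SerreFin
  Groth.Agent.Helper1.KzMult Groth.Agent.Helper1.KzExt Groth.Agent.Helper4.SN

universe u

set_option maxHeartbeats 1600000 in
/-- **Mumford's theorem**, inductive form over infinite fields, for subsheaves of a `0`-regular
module with bounded sections -/
theorem mumford_aux (n p : ℕ) : ∀ (e s : ℕ), ∃ P : MvPolynomial (Fin (n + 1)) ℤ,
    ∀ (k : Type u) [Field k] [Infinite k] (E F : (CohB1.ProjSpace n k).Modules)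
      (_ : Coh.IsCoh E) (_ : Coh.IsCoh F) (i : F ⟶ E) [Mono i]
      (_ : IsReg n k E 0)
      (_ : ∀ m : ℕ, Module.finrank k (Coh.HH (CohB1.ProjSpace n k)
        (CohB1.tensorMod E (Twist.twistProjSpace n k (m : ℤ))) 0) ≤ p * (n + m).choose n)
      (a : Fin (n + 1) → ℤ) (_ : ∀ j : Fin (n + 1), e ≤ (j : ℕ) → a j = 0)
      (_ : ∀ r : ℤ, chi n k (CohB1.tensorMod F (Twist.twistProjSpace n k r)) =
        ∑ j : Fin (n + 1), a j * Ring.choose (r - s) (j : ℕ)),
      IsReg n k F (MvPolynomial.eval a P) := by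
  intro e
  induction e with
  | zero =>
    intro s
    refine ⟨0, ?_⟩
    intro k _ _ E F hE hF i _ hEreg hEb a ha hχ
    apply isReg_of_isZero
    apply isZero_of_chi_eq_zero n k F hF
    intro r
    rw [hχ r]
    apply Finset.sum_eq_zero
    intro j _
    rw [ha j (Nat.zero_le _), zero_mul]
  | succ e ih =>
    intro s
    obtain ⟨P', hP'⟩ := ih (s + 1)
    let σ : Fin (n + 1) → MvPolynomial (Fin (n + 1)) ℤ := fun i =>
      if h : (i : ℕ) + 1 < n + 1 then MvPolynomial.X ⟨(i : ℕ) + 1, h⟩ else 0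
    let Q : MvPolynomial (Fin (n + 1)) ℤ := MvPolynomial.bind₁ σ P'
    let M₀ : MvPolynomial (Fin (n + 1)) ℤ := Q ^ 2 + 1 + MvPolynomial.C (s : ℤ)
    let U : MvPolynomial (Fin (n + 1)) ℤ :=
      MvPolynomial.C (p : ℤ) * (MvPolynomial.C (n : ℤ) + M₀) ^ n +
        ∑ j : Fin (n + 1), (MvPolynomial.X j ^ 2 + 1) * M₀ ^ (j : ℕ)
    refine ⟨M₀ + U, ?_⟩
    intro k _ _ E F hE hF i _ hEreg hEb a ha hχ
    have hσ : ∀ i, MvPolynomial.eval a (σ i) = shiftCoeff a i := by
      intro i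
      simp only [σ]
      unfold shiftCoeff
      split_ifs <;> simp
    have hQ : MvPolynomial.eval a Q = MvPolynomial.eval (shiftCoeff a) P' := by
      show MvPolynomial.eval₂Hom (RingHom.id ℤ) a (MvPolynomial.bind₁ σ P') = _
      rw [MvPolynomial.eval₂Hom_bind₁]
      have : (fun i => MvPolynomial.eval₂Hom (RingHom.id ℤ) a (σ i)) = shiftCoeff a := by
        funext i
        exact hσ i
      rw [this]
      rfl
    set m₀' : ℤ := MvPolynomial.eval (shiftCoeff a) P' with hm₀'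
    set m₀ : ℤ := m₀' ^ 2 + 1 + s with hm₀
    have hM₀ : MvPolynomial.eval a M₀ = m₀ := by
      simp only [M₀, map_add, map_pow, map_one, MvPolynomial.eval_C, hQ]
      exact hm₀.symm
    have hU : MvPolynomial.eval a U = (p : ℤ) * ((n : ℤ) + m₀) ^ n +
        ∑ j : Fin (n + 1), (a j ^ 2 + 1) * m₀ ^ (j : ℕ) := by
      simp only [U, map_add, map_mul, map_pow, map_one, MvPolynomial.eval_C, map_sum,
        MvPolynomial.eval_X, hM₀]
    obtain ⟨ι, hι, E', j, hj, hE', hE'reg, hE'b⟩ := exists_cut n k p E F hE hF i hEreg hEb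
    have hF' := isCoh_coker n k F hF ι
    have hχ' : ∀ r : ℤ, chi n k (CohB1.tensorMod (cokernel ι) (Twist.twistProjSpace n k r)) =
        ∑ i : Fin (n + 1), shiftCoeff a i * Ring.choose (r - ((s + 1 : ℕ) : ℤ)) (i : ℕ) := by
      intro r
      rw [chi_cokernel n k F hF ι r, hχ r, hχ (r - 1)]
      have h1 := sum_diff a (r - s)
      have e1 : r - 1 - (s : ℤ) = r - s - 1 := by ring
      have e2 : r - ((s + 1 : ℕ) : ℤ) = r - s - 1 := by push_cast; ring
      rw [e1, e2]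
      exact h1
    have hreg' : IsReg n k (cokernel ι) m₀' :=
      hP' k E' (cokernel ι) hE' hF' j hE'reg hE'b (shiftCoeff a)
        (shiftCoeff_eq_zero a e ha) hχ'
    have hle : m₀' ≤ m₀ := by
      have := sq_nonneg (m₀' - 1)
      have hs : (0 : ℤ) ≤ s := Int.natCast_nonneg s
      nlinarith [sq_nonneg m₀']
    have hreg0 : IsReg n k (cokernel ι) m₀ := by
      obtain ⟨d, hd⟩ : ∃ d : ℕ, m₀ = m₀' + d := ⟨(m₀ - m₀').toNat, by omega⟩
      rw [hd]
      exact isReg_add n k _ hF' m₀' hreg' d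
    -- the bound
    have hs0 : (0 : ℤ) ≤ s := Int.natCast_nonneg s
    have hsq : (0 : ℤ) ≤ m₀' ^ 2 := sq_nonneg _
    obtain ⟨N, hN⟩ : ∃ N : ℕ, (N : ℤ) = m₀ - 1 := ⟨(m₀ - 1).toNat, by omega⟩
    obtain ⟨N₂, hN₂⟩ : ∃ N₂ : ℕ, (N₂ : ℤ) = m₀' ^ 2 := ⟨(m₀' ^ 2).toNat, by omega⟩
    have hB := hEb N
    rw [hN] at hB
    have hh1 := h1_le n k F hF ι E hE i m₀ hreg0 (p * (n + N).choose n) hB
    have hχ0 : chi n k (CohB1.tensorMod F (Twist.twistProjSpace n k (m₀ - 1))) =
        ∑ j : Fin (n + 1), a j * ((N₂.choose (j : ℕ) : ℕ) : ℤ) := by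
      rw [hχ (m₀ - 1)]
      refine Finset.sum_congr rfl (fun j _ => ?_)
      have e3 : m₀ - 1 - (s : ℤ) = ((N₂ : ℕ) : ℤ) := by rw [hN₂]; ring
      rw [e3, Ring.choose_natCast]
    rw [hχ0] at hh1
    have hb := bound p n a m₀ N N₂ (by omega) (by omega)
    have hUle : (h1 n k F (m₀ - 1) : ℤ) ≤ MvPolynomial.eval a U := by
      rw [hU]
      exact hh1.trans hb
    have hU0 : (0 : ℤ) ≤ MvPolynomial.eval a U := le_trans (Int.natCast_nonneg _) hUle
    obtain ⟨u, hu⟩ : ∃ u : ℕ, (u : ℤ) = MvPolynomial.eval a U :=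
      ⟨(MvPolynomial.eval a U).toNat, by omega⟩
    have hfin := isReg_of_cokernel n k F hF ι m₀ hreg0 u (by rw [← hu] at hUle; exact_mod_cast hUle)
    rw [map_add, hM₀, ← hu]
    exact hfin

end Groth.Agent.Helper1.MF
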