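import Mathlib
import Groth.Agent.Helper1.MF8
import Groth.Agent.Helper1.HS2
import Groth.Agent.Lead.BCFieldB
import Groth.Agent.Helper3.FlatPullEx

set_option autoImplicit false
set_option linter.unusedSectionVars false
set_option linter.style.haveILetI false

/-!
# Mumford's regularity bound, IX: extension of the base field
-/

namespace Groth.Agent.Helper1.MF

open CategoryTheory Limits AlgebraicGeometry TopologicalSpace Opposite
open Groth.Agent.Helper1.KzReg Groth.Agent.Helper1.KzLin Groth.Agent.Helper1.SerreFin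
  Groth.Agent.Helper1.ProjBC

universe u

variable (n : ℕ) (k K : Type u) [Field k] [Field K] [Algebra k K]

/-- the base change morphism `P^n_K ⟶ P^n_k` -/
noncomputable abbrev γ : CohB1.ProjSpace n K ⟶ CohB1.ProjSpace n k := γγ (algebraMap k K) n

theorem isPullback_γ :
    IsPullback (γ n k K) (CohB1.ProjSpace n K ↘ Spec (CommRingCat.of K))
      (CohB1.ProjSpace n k ↘ Spec (CommRingCat.of k))
      (Spec.map (CommRingCat.ofHom (algebraMap k K))) :=
  Groth.Agent.Helper4.SN213.isPullback_γγ (algebraMap k K) n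

/-- the pullback of a twist is the twist of the pullback -/
theorem nonempty_pullback_tw (G : (CohB1.ProjSpace n k).Modules) (r : ℤ) :
    Nonempty ((Scheme.Modules.pullback (γ n k K)).obj
        (CohB1.tensorMod G (Twist.twistProjSpace n k r)) ≅
      CohB1.tensorMod ((Scheme.Modules.pullback (γ n k K)).obj G) (Twist.twistProjSpace n K r)) := by
  obtain ⟨b⟩ := Groth.Agent.Helper1.HS.nonempty_twistBC_int (algebraMap k K) n r
  exact ⟨Groth.Agent.Lead.IntNumBC.pullTensorIso (γ n k K) _ _ ≪≫
    PicGrp.tensorModIso (Iso.refl _) b⟩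

/-- cohomology of the twists after extension of the base field -/
theorem finrank_HH_pullback_tw (G : (CohB1.ProjSpace n k).Modules) (hG : Coh.IsCoh G) (r : ℤ)
    (i : ℕ) :
    Module.finrank K (Coh.HH (CohB1.ProjSpace n K)
      (CohB1.tensorMod ((Scheme.Modules.pullback (γ n k K)).obj G)
        (Twist.twistProjSpace n K r)) i) =
    Module.finrank k (Coh.HH (CohB1.ProjSpace n k)
      (CohB1.tensorMod G (Twist.twistProjSpace n k r)) i) := by
  haveI : IsProper (CohB1.ProjSpace n k ↘ Spec (CommRingCat.of k)) :=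
    Groth.Agent.Helper6.HProj.isProper_toSpec n k
  haveI : (CohB1.tensorMod G (Twist.twistProjSpace n k r)).IsQuasicoherent :=
    (isCoh_tw n k G hG r).1
  obtain ⟨e⟩ := nonempty_pullback_tw n k K G r
  rw [← Groth.Agent.Lead.BCField.finrank_HH_baseChange k K (CohB1.ProjSpace n k)
    (CohB1.ProjSpace n K) (γ n k K) (isPullback_γ n k K) _ i]
  exact (Groth.Agent.Lead.BCField.HHlinEquiv K e i).symm.finrank_eq

theorem subsingleton_HH_pullback_tw_iff (G : (CohB1.ProjSpace n k).Modules) (hG : Coh.IsCoh G)
    (r : ℤ) (i : ℕ) :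
    Subsingleton (Coh.HH (CohB1.ProjSpace n K)
      (CohB1.tensorMod ((Scheme.Modules.pullback (γ n k K)).obj G)
        (Twist.twistProjSpace n K r)) i) ↔
    Subsingleton (Coh.HH (CohB1.ProjSpace n k)
      (CohB1.tensorMod G (Twist.twistProjSpace n k r)) i) := by
  haveI : IsProper (CohB1.ProjSpace n k ↘ Spec (CommRingCat.of k)) :=
    Groth.Agent.Helper6.HProj.isProper_toSpec n k
  haveI : (CohB1.tensorMod G (Twist.twistProjSpace n k r)).IsQuasicoherent :=
    (isCoh_tw n k G hG r).1
  obtain ⟨e⟩ := nonempty_pullback_tw n k K G r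
  rw [← Groth.Agent.Lead.BCField.subsingleton_HH_baseChange_iff k K (CohB1.ProjSpace n k)
    (CohB1.ProjSpace n K) (γ n k K) (isPullback_γ n k K) _ i]
  exact (Groth.Agent.Lead.BCField.HHlinEquiv K e i).symm.toEquiv.subsingleton_congr

theorem isReg_pullback_iff (G : (CohB1.ProjSpace n k).Modules) (hG : Coh.IsCoh G) (m : ℤ) :
    IsReg n K ((Scheme.Modules.pullback (γ n k K)).obj G) m ↔ IsReg n k G m :=
  forall_congr' fun i => forall_congr' fun _ => subsingleton_HH_pullback_tw_iff n k K G hG _ i

theorem chi_pullback_tw (G : (CohB1.ProjSpace n k).Modules) (hG : Coh.IsCoh G) (r : ℤ) :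
    chi n K (CohB1.tensorMod ((Scheme.Modules.pullback (γ n k K)).obj G)
      (Twist.twistProjSpace n K r)) =
    chi n k (CohB1.tensorMod G (Twist.twistProjSpace n k r)) := by
  unfold chi Curv2.euler
  refine finsum_congr (fun i => ?_)
  rw [finrank_HH_pullback_tw n k K G hG r i]

end Groth.Agent.Helper1.MF
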