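import Mathlib
import Groth.Agent.Helper1.MF9
import Groth.Agent.Helper1.Dev4
import Groth.Agent.Lead.FlatUnivJ
import Groth.Agent.Helper6.HomogRank
import Groth.Agent.S0843

set_option autoImplicit false
set_option linter.unusedSectionVars false
set_option linter.style.haveILetI false

/-!
# Mumford's regularity bound, X: subsheaves of a free module, over any field
-/

namespace Groth.Agent.Helper1.MF

open CategoryTheory Limits AlgebraicGeometry TopologicalSpace Opposite
open Groth.Agent.Helper1.KzReg Groth.Agent.Helper1.KzLin Groth.Agent.Helper1.SerreFin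
  Groth.Agent.Helper1.ProjBC

universe u

section Free

variable (n : ℕ) (k : Type u) [Field k] (p : ℕ)

theorem isReg_freeMod : IsReg n k (FlatMod.freeMod (CohB1.ProjSpace n k) p) 0 := by
  apply isReg_of_le n k _ (Groth.Agent.Helper1.Dev.isCoh_freeMod _ p)
  intro i hi hin
  obtain ⟨e⟩ := sigmaO_tw_iso n k p (0 - (i : ℤ))
  haveI := subsingleton_HH_sigmaTw n k p (0 - (i : ℤ)) i hi (by omega)
  exact (Groth.Agent.Lead.BCField.HHlinEquiv k e i).toEquiv.subsingleton

theorem finrank_H0_freeMod (m : ℕ) :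
    Module.finrank k (Coh.HH (CohB1.ProjSpace n k)
      (CohB1.tensorMod (FlatMod.freeMod (CohB1.ProjSpace n k) p)
        (Twist.twistProjSpace n k (m : ℤ))) 0) ≤ p * (n + m).choose n := by
  obtain ⟨e⟩ := sigmaO_tw_iso n k p (m : ℤ)
  rw [(Groth.Agent.Lead.BCField.HHlinEquiv k e 0).finrank_eq,
    (Groth.Agent.Helper1.EulerCoh.sigmaEquiv (A := k)
      (fun _ : Fin p => Twist.twistProjSpace n k (m : ℤ)) 0).finrank_eq]
  obtain ⟨φ⟩ := Groth.Agent.S0843.result k n m
  haveI : Module.Finite k (Coh.HH (CohB1.ProjSpace n k) (Twist.twistProjSpace n k (m : ℤ)) 0) :=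
    finite_HH_twist n k _ 0
  rw [Module.finrank_pi_fintype]
  simp only [Finset.sum_const, Finset.card_univ, Fintype.card_fin, smul_eq_mul]
  rw [LinearEquiv.finrank_eq φ, Groth.Agent.Helper6.HomogRank.finrank_homogeneousSubmodule,
    add_comm m n]

end Free

/-- **Mumford's theorem**: a polynomial bound for the regularity of a subsheaf of `O^p` on `P^n_k`
in terms of the coefficients of its Hilbert polynomial in the binomial basis -/
theorem mumford (n p : ℕ) : ∃ P : MvPolynomial (Fin (n + 1)) ℤ,
    ∀ (k : Type u) [Field k] (F : (CohB1.ProjSpace n k).Modules) (_ : Coh.IsCoh F)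
      (i : F ⟶ FlatMod.freeMod (CohB1.ProjSpace n k) p) [Mono i] (a : Fin (n + 1) → ℤ)
      (_ : ∀ r : ℤ, chi n k (CohB1.tensorMod F (Twist.twistProjSpace n k r)) =
        ∑ j : Fin (n + 1), a j * Ring.choose r (j : ℕ)),
      IsReg n k F (MvPolynomial.eval a P) := by
  obtain ⟨P, hP⟩ := mumford_aux.{u} n p (n + 1) 0
  refine ⟨P, ?_⟩
  intro k _ F hF i _ a hχ
  let K := AlgebraicClosure k
  haveI : Infinite K := IsAlgClosed.instInfinite
  have hE := Groth.Agent.Helper1.Dev.isCoh_freeMod (CohB1.ProjSpace n k) p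
  haveI hflat : Flat (γ n k K) := by
    have h1 : Flat (Spec.map (CommRingCat.ofHom (algebraMap k K))) := by
      rw [HasRingHomProperty.Spec_iff (P := @Flat)]
      exact RingHom.flat_algebraMap_iff.mpr inferInstance
    exact MorphismProperty.of_isPullback (P := @Flat) (isPullback_γ n k K).flip h1
  haveI : Mono ((Scheme.Modules.pullback (γ n k K)).map i) :=
    Groth.Agent.Helper3.FlatPullEx.mono_pullback (γ n k K) i
  rw [← isReg_pullback_iff n k K F hF]
  apply hP K _ _ (Groth.Agent.Lead.FlatUnivJ.isCoh_pullback (γ n k K) _ hE)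
    (Groth.Agent.Lead.FlatUnivJ.isCoh_pullback (γ n k K) _ hF)
    ((Scheme.Modules.pullback (γ n k K)).map i)
    ((isReg_pullback_iff n k K _ hE 0).2 (isReg_freeMod n k p))
  · intro m
    rw [finrank_HH_pullback_tw n k K _ hE]
    exact finrank_H0_freeMod n k p m
  · intro j hj
    exact absurd j.2 (by omega)
  · intro r
    rw [chi_pullback_tw n k K F hF, hχ r]
    simp

end Groth.Agent.Helper1.MF
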