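import Mathlib
import Groth.Agent.Helper1.MF10

set_option autoImplicit false
set_option linter.unusedSectionVars false
set_option linter.style.haveILetI false

/-!
# Mumford's regularity bound, XI: kernels of quotients with a given Hilbert polynomial
-/

namespace Groth.Agent.Helper1.MF

open CategoryTheory Limits AlgebraicGeometry TopologicalSpace Opposite
open Groth.Agent.Helper4.TensorLift Groth.Agent.Helper1.KzReg Groth.Agent.Helper1.KzMultPn
  Groth.Agent.Helper1.KzLin Groth.Agent.Helper1.SerreVan Groth.Agent.Helper1.TwistExact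
  Groth.Agent.Helper1.HHLes Groth.Agent.Helper1.ProjTop Groth.Agent.Helper1.SerreFin
  Groth.Agent.Helper1.KzMult Groth.Agent.Helper1.KzExt Groth.Agent.Helper4.SN

universe u

section Poly

open Polynomial

/-- the backward difference of a polynomial -/
noncomputable def bdiff (Φ : ℚ[X]) : ℚ[X] := Φ - Φ.comp (X - C 1)

theorem eval_bdiff (Φ : ℚ[X]) (r : ℚ) : (bdiff Φ).eval r = Φ.eval r - Φ.eval (r - 1) := by
  unfold bdiff
  simp

theorem degree_bdiff_lt (Φ : ℚ[X]) (d : ℕ) (h : Φ.degree < ((d + 1 : ℕ) : WithBot ℕ)) :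
    (bdiff Φ).degree < (d : WithBot ℕ) := by
  by_cases h0 : Φ = 0
  · subst h0
    unfold bdiff
    simp only [Polynomial.zero_comp, sub_zero, degree_zero]
    exact WithBot.bot_lt_coe d
  · have hq : natDegree (X - C (1 : ℚ)) = 1 := natDegree_X_sub_C 1
    have hlc : leadingCoeff (Φ.comp (X - C 1)) = leadingCoeff Φ := by
      rw [leadingCoeff_comp (by rw [hq]; exact one_ne_zero), leadingCoeff_X_sub_C, one_pow, mul_one]
    have hnd : natDegree (Φ.comp (X - C 1)) = natDegree Φ := by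
      rw [natDegree_comp, hq, mul_one]
    have hne : Φ.comp (X - C 1) ≠ 0 := by
      intro hz
      apply h0
      rw [← leadingCoeff_eq_zero, ← hlc, hz, leadingCoeff_zero]
    have hdeg : degree Φ = degree (Φ.comp (X - C 1)) := by
      rw [degree_eq_natDegree h0, degree_eq_natDegree hne, hnd]
    have hlt := degree_sub_lt_left hdeg h0 hlc.symm
    have h2 : Φ.degree ≤ (d : WithBot ℕ) := by
      rw [degree_eq_natDegree h0] at h ⊢
      have : Φ.natDegree < d + 1 := by exact_mod_cast h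
      exact_mod_cast Nat.lt_succ_iff.mp this
    exact lt_of_lt_of_le hlt h2

end Poly

variable (n : ℕ) (k : Type u) [Field k]

local notation "𝕆(" d ")" => Twist.twistProjSpace n k d
local notation "ℙ" => CohB1.ProjSpace n k

/-- additivity of the Euler characteristic of the twists -/
theorem chi_shortExact_tw (S : ShortComplex (CohB1.ProjSpace n k).Modules) (hS : S.ShortExact)
    (h₁ : Coh.IsCoh S.X₁) (h₂ : Coh.IsCoh S.X₂) (h₃ : Coh.IsCoh S.X₃) (r : ℤ) :
    chi n k (CohB1.tensorMod S.X₂ 𝕆(r)) =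
      chi n k (CohB1.tensorMod S.X₁ 𝕆(r)) + chi n k (CohB1.tensorMod S.X₃ 𝕆(r)) := by
  haveI : IsProper ((CohB1.ProjSpace n k) ↘ (Spec (CommRingCat.of k))) :=
    Groth.Agent.Helper6.HProj.isProper_toSpec n k
  exact Groth.Agent.Helper4.NApx80.euler_additive k (CohB1.ProjSpace n k)
    (S.map (DCoh.tensorRightMod 𝕆(r)))
    (shortExact_map_tensorRightMod hS _ (isInvertible_twist n k r))
    (isCoh_tw n k _ h₁ r) (isCoh_tw n k _ h₂ r) (isCoh_tw n k _ h₃ r)

/-- regularity is invariant under isomorphisms -/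
theorem isReg_of_iso {G G' : (CohB1.ProjSpace n k).Modules} (e : G ≅ G') (m : ℤ)
    (h : IsReg n k G m) : IsReg n k G' m := by
  intro i hi
  haveI := h i hi
  exact (Groth.Agent.Lead.BCField.HHlinEquiv k
    (PicGrp.tensorModIso e (Iso.refl 𝕆(m - i))) i).symm.toEquiv.subsingleton

/-- the bound of `h¹` of the kernel by the Euler characteristic of the quotient -/
theorem h1_le_chi (S : ShortComplex (CohB1.ProjSpace n k).Modules) (hS : S.ShortExact)
    (h₁ : Coh.IsCoh S.X₁) (h₂ : Coh.IsCoh S.X₂) (h₃ : Coh.IsCoh S.X₃) (hreg : IsReg n k S.X₂ 0)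
    (ι : CohB1.tensorMod S.X₁ 𝕆(-1) ⟶ S.X₁) [Mono ι] (m₀ : ℤ) (hm₀ : 1 ≤ m₀)
    (hG : IsReg n k (cokernel ι) m₀) :
    (h1 n k S.X₁ (m₀ - 1) : ℤ) ≤ chi n k (CohB1.tensorMod S.X₃ 𝕆(m₀ - 1)) := by
  haveI := hS.mono_f
  have hb := h1_le n k S.X₁ h₁ ι S.X₂ h₂ S.f m₀ hG _ le_rfl
  have hv : ∀ q : ℕ, 0 < q → Subsingleton (Coh.HH ℙ (CohB1.tensorMod S.X₂ 𝕆(m₀ - 1)) q) :=
    fun q hq => subsingleton_HH_of_isReg n k S.X₂ h₂ 0 hreg q hq (m₀ - 1) (by omega)
  have he := Groth.Agent.Helper5.ShStab1.euler_eq_finrank_of_vanishing k (CohB1.ProjSpace n k)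
    _ hv
  have hadd := chi_shortExact_tw n k S hS h₁ h₂ h₃ (m₀ - 1)
  unfold chi at hadd hb ⊢
  rw [he] at hadd
  omega

set_option maxHeartbeats 1600000 in
/-- **Mumford's theorem for kernels of quotients**: the kernel of a quotient of a `0`-regular
module with Hilbert polynomial `Φ` is `m`-regular, with `m` depending only on `Φ` -/
theorem mumford_quot_aux : ∀ (d : ℕ) (Φ : Polynomial ℚ), Φ.degree < (d : WithBot ℕ) → ∃ m : ℤ,
    ∀ (n : ℕ) (k : Type u) [Field k] [Infinite k]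
      (S : ShortComplex (CohB1.ProjSpace n k).Modules), S.ShortExact →
      Coh.IsCoh S.X₁ → Coh.IsCoh S.X₂ → Coh.IsCoh S.X₃ → IsReg n k S.X₂ 0 →
      (∀ r : ℤ, (chi n k (CohB1.tensorMod S.X₃ (Twist.twistProjSpace n k r)) : ℚ) =
        Φ.eval (r : ℚ)) → IsReg n k S.X₁ m := by
  intro d
  induction d with
  | zero =>
    intro Φ hΦ
    refine ⟨0, ?_⟩
    intro n k _ _ S hS h₁ h₂ h₃ hreg hχ
    have hΦ0 : Φ = 0 := by
      rw [← Polynomial.degree_eq_bot]
      exact Nat.WithBot.lt_zero_iff.mp hΦ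
    have hz : IsZero S.X₃ := by
      apply isZero_of_chi_eq_zero n k S.X₃ h₃
      intro r
      have := hχ r
      rw [hΦ0, Polynomial.eval_zero] at this
      exact_mod_cast this
    haveI := hS.mono_f
    haveI : Epi S.f := hS.exact.epi_f (hz.eq_of_tgt _ _)
    haveI : IsIso S.f := isIso_of_mono_of_epi S.f
    exact isReg_of_iso n k (asIso S.f).symm 0 hreg
  | succ d ih =>
    intro Φ hΦ
    obtain ⟨m₀', hm₀'⟩ := ih (bdiff Φ) (degree_bdiff_lt Φ d (by exact_mod_cast hΦ))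
    let m₀ : ℤ := max m₀' 1
    let u : ℕ := ⌊Φ.eval ((m₀ - 1 : ℤ) : ℚ)⌋.toNat
    refine ⟨m₀ + u, ?_⟩
    intro n k _ _ S hS h₁ h₂ h₃ hreg hχ
    obtain ⟨t, ht1, ht2⟩ := exists_mono_mulS' n k (CohB1.tensorMod S.X₂ (Twist.twistProjSpace n k (-1)))
      (CohB1.tensorMod S.X₃ (Twist.twistProjSpace n k (-1)))
      (isCoh_tw n k _ h₂ (-1)) (isCoh_tw n k _ h₃ (-1))
    haveI := hS.mono_f
    haveI : Mono (mulS t (CohB1.tensorMod S.X₃ (Twist.twistProjSpace n k (-1)))) := ht2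
    haveI : Mono (mulS t (CohB1.tensorMod S.X₂ (Twist.twistProjSpace n k (-1)))) := ht1
    haveI hmi : Mono (KoszTw.tensorMap S.f (𝟙 (Twist.twistProjSpace n k (-1)))) :=
      Groth.Agent.Helper4.H1Twist.mono_tensorMap S.f _ (isInvertible_twist n k (-1))
    haveI : Mono (mulS t (CohB1.tensorMod S.X₁ (Twist.twistProjSpace n k (-1)))) := by
      have hnat := mulS_naturality t (KoszTw.tensorMap S.f (𝟙 (Twist.twistProjSpace n k (-1))))
      haveI : Mono (mulS t (CohB1.tensorMod S.X₁ (Twist.twistProjSpace n k (-1))) ≫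
          KoszTw.tensorMap (KoszTw.tensorMap S.f (𝟙 (Twist.twistProjSpace n k (-1))))
            (𝟙 (Twist.twistProjSpace n k 1))) := by
        rw [hnat]
        exact mono_comp _ _
      exact mono_of_mono _ (KoszTw.tensorMap (KoszTw.tensorMap S.f
        (𝟙 (Twist.twistProjSpace n k (-1)))) (𝟙 (Twist.twistProjSpace n k 1)))
    haveI hιK : Mono (ιOf n k t S.X₁) := mono_ιOf n k t S.X₁
    haveI hιE : Mono (ιOf n k t S.X₂) := mono_ιOf n k t S.X₂
    obtain ⟨j, hj⟩ := exists_mono_cokernel n k t S hS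
    have hK' := isCoh_coker n k S.X₁ h₁ (ιOf n k t S.X₁)
    have hE' := isCoh_coker n k S.X₂ h₂ (ιOf n k t S.X₂)
    have hE'reg := isReg_cokernel n k S.X₂ h₂ (ιOf n k t S.X₂) 0 hreg
    let S' : ShortComplex (CohB1.ProjSpace n k).Modules :=
      ShortComplex.mk j (cokernel.π j) (cokernel.condition j)
    have hS' : S'.ShortExact :=
      ShortComplex.ShortExact.mk' (ShortComplex.exact_of_g_is_cokernel _ (cokernelIsCokernel j))
        hj (inferInstanceAs (Epi (cokernel.π j)))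
    have hQ' : Coh.IsCoh S'.X₃ := Groth.Agent.Lead.PerfLib.isCoh_cokernel hK' hE' j
    have hχ' : ∀ r : ℤ, (chi n k (CohB1.tensorMod S'.X₃ (Twist.twistProjSpace n k r)) : ℚ) =
        (bdiff Φ).eval (r : ℚ) := by
      intro r
      have a1 := chi_shortExact_tw n k S' hS' hK' hE' hQ' r
      have a2 := chi_cokernel n k S.X₁ h₁ (ιOf n k t S.X₁) r
      have a3 := chi_cokernel n k S.X₂ h₂ (ιOf n k t S.X₂) r
      have a4 := chi_shortExact_tw n k S hS h₁ h₂ h₃ r
      have a5 := chi_shortExact_tw n k S hS h₁ h₂ h₃ (r - 1)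
      have a6 := hχ r
      have a7 := hχ (r - 1)
      rw [eval_bdiff]
      have e : (((r - 1 : ℤ)) : ℚ) = (r : ℚ) - 1 := by push_cast; ring
      rw [e] at a7
      rw [← a6, ← a7]
      have : chi n k (CohB1.tensorMod S'.X₃ (Twist.twistProjSpace n k r)) =
          chi n k (CohB1.tensorMod S.X₃ (Twist.twistProjSpace n k r)) -
            chi n k (CohB1.tensorMod S.X₃ (Twist.twistProjSpace n k (r - 1))) := by
        change chi n k (CohB1.tensorMod (cokernel (ιOf n k t S.X₂)) (Twist.twistProjSpace n k r)) =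
          chi n k (CohB1.tensorMod (cokernel (ιOf n k t S.X₁)) (Twist.twistProjSpace n k r)) + _
          at a1
        omega
      rw [this]
      push_cast
      ring
    have hregK' : IsReg n k (cokernel (ιOf n k t S.X₁)) m₀' :=
      hm₀' n k S' hS' hK' hE' hQ' hE'reg hχ'
    have hle : m₀' ≤ m₀ := le_max_left _ _
    have h1m : 1 ≤ m₀ := le_max_right _ _
    have hregK0 : IsReg n k (cokernel (ιOf n k t S.X₁)) m₀ := by
      obtain ⟨e, he⟩ : ∃ e : ℕ, m₀ = m₀' + e := ⟨(m₀ - m₀').toNat, by omega⟩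
      rw [he]
      exact isReg_add n k _ hK' m₀' hregK' e
    have hb := h1_le_chi n k S hS h₁ h₂ h₃ hreg (ιOf n k t S.X₁) m₀ h1m hregK0
    have hu : h1 n k S.X₁ (m₀ - 1) ≤ u := by
      have h3 : ((h1 n k S.X₁ (m₀ - 1) : ℤ) : ℚ) ≤ Φ.eval ((m₀ - 1 : ℤ) : ℚ) := by
        rw [← hχ (m₀ - 1)]
        exact_mod_cast hb
      have h4 : (h1 n k S.X₁ (m₀ - 1) : ℤ) ≤ ⌊Φ.eval ((m₀ - 1 : ℤ) : ℚ)⌋ := Int.le_floor.mpr h3
      show h1 n k S.X₁ (m₀ - 1) ≤ ⌊Φ.eval ((m₀ - 1 : ℤ) : ℚ)⌋.toNat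
      omega
    exact isReg_of_cokernel n k S.X₁ h₁ (ιOf n k t S.X₁) m₀ hregK0 u hu

end Groth.Agent.Helper1.MF
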