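import Mathlib
import Groth.Agent.Helper1.MF11

set_option autoImplicit false
set_option linter.unusedSectionVars false
set_option linter.style.haveILetI false

/-!
# Mumford's regularity bound, XII: kernels of quotients, over any field
-/

namespace Groth.Agent.Helper1.MF

open CategoryTheory Limits AlgebraicGeometry TopologicalSpace Opposite
open Groth.Agent.Helper1.KzReg Groth.Agent.Helper1.KzLin Groth.Agent.Helper1.SerreFin
  Groth.Agent.Helper1.ProjBC

universe u

/-- **Mumford's theorem for kernels of quotients**, over any field: the kernel of a quotient of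
a `0`-regular coherent module on `P^n_k` with Hilbert polynomial `Φ` is `m`-regular, with `m`
depending only on `Φ` -/
theorem mumford_quot (Φ : Polynomial ℚ) : ∃ m : ℤ,
    ∀ (n : ℕ) (k : Type u) [Field k]
      (S : ShortComplex (CohB1.ProjSpace n k).Modules), S.ShortExact →
      Coh.IsCoh S.X₁ → Coh.IsCoh S.X₂ → Coh.IsCoh S.X₃ → IsReg n k S.X₂ 0 →
      (∀ r : ℤ, (chi n k (CohB1.tensorMod S.X₃ (Twist.twistProjSpace n k r)) : ℚ) =
        Φ.eval (r : ℚ)) → IsReg n k S.X₁ m := by
  obtain ⟨m, hm⟩ := mumford_quot_aux.{u} (Φ.natDegree + 1) Φ (by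
    by_cases h0 : Φ = 0
    · subst h0
      rw [Polynomial.degree_zero]
      exact WithBot.bot_lt_coe _
    · rw [Polynomial.degree_eq_natDegree h0]
      exact_mod_cast Nat.lt_succ_self _)
  refine ⟨m, ?_⟩
  intro n k _ S hS h₁ h₂ h₃ hreg hχ
  let K := AlgebraicClosure k
  haveI : Infinite K := IsAlgClosed.instInfinite
  haveI hflat : Flat (γ n k K) := by
    have h1 : Flat (Spec.map (CommRingCat.ofHom (algebraMap k K))) := by
      rw [HasRingHomProperty.Spec_iff (P := @Flat)]
      exact RingHom.flat_algebraMap_iff.mpr inferInstance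
    exact MorphismProperty.of_isPullback (P := @Flat) (isPullback_γ n k K).flip h1
  haveI : PreservesFiniteLimits (Scheme.Modules.pullback (γ n k K)) :=
    Groth.Agent.Helper3.FlatPullEx.preservesFiniteLimits_pullback (γ n k K)
  haveI : PreservesFiniteColimits (Scheme.Modules.pullback (γ n k K)) :=
    haveI : PreservesColimitsOfSize.{0, 0} (Scheme.Modules.pullback (γ n k K)) :=
      (Scheme.Modules.pullbackPushforwardAdjunction (γ n k K)).leftAdjoint_preservesColimits
    PreservesColimitsOfSize.preservesFiniteColimits _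
  haveI : (Scheme.Modules.pullback (γ n k K)).Additive :=
    (Scheme.Modules.pullbackPushforwardAdjunction (γ n k K)).left_adjoint_additive
  have hSK : (S.map (Scheme.Modules.pullback (γ n k K))).ShortExact :=
    hS.map_of_exact (Scheme.Modules.pullback (γ n k K))
  rw [← isReg_pullback_iff n k K S.X₁ h₁]
  apply hm n K (S.map (Scheme.Modules.pullback (γ n k K))) hSK
    (Groth.Agent.Lead.FlatUnivJ.isCoh_pullback (γ n k K) _ h₁)
    (Groth.Agent.Lead.FlatUnivJ.isCoh_pullback (γ n k K) _ h₂)
    (Groth.Agent.Lead.FlatUnivJ.isCoh_pullback (γ n k K) _ h₃)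
    ((isReg_pullback_iff n k K _ h₂ 0).2 hreg)
  intro r
  show ((chi n K (CohB1.tensorMod ((Scheme.Modules.pullback (γ n k K)).obj S.X₃)
    (Twist.twistProjSpace n K r)) : ℤ) : ℚ) = _
  rw [chi_pullback_tw n k K S.X₃ h₃, hχ r]

end Groth.Agent.Helper1.MF
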