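import Mathlib
import Groth.Agent.Helper4.TensorGen
import Groth.Agent.Helper4.GenLocIso
import Groth.Agent.Helper4.TwistLocal
import Groth.Agent.Helper4.TensorRes
import Groth.Agent.Helper4.TensorInv

/-!
# Flatness and twists, part 3: tensoring sections with a generating section is bijective
-/

set_option autoImplicit false
set_option linter.style.haveILetI false

namespace Groth.Agent.Helper1.FlatTw

open CategoryTheory Limits AlgebraicGeometry TopologicalSpace Opposite
open Groth.Agent.Helper4.TensorInv Groth.Agent.Helper4.TensorRes Groth.Agent.Helper4.TensorGen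
  Groth.Agent.Helper4.GenLoc

universe u

variable {X : Scheme.{u}}

/-- the comparison isomorphism `F|_U ≅ (F ⊗ M)|_U` attached to a trivialization of `M` over `U` -/
noncomputable def trivTensorIso (F M : X.Modules) (U : X.Opens)
    (ε : M.restrict U.ι ≅ Coh.structureModule (U : Scheme.{u})) :
    F.restrict U.ι ≅ (CohB1.tensorMod F M).restrict U.ι :=
  (SecTwist.unitorR (F.restrict U.ι)).symm ≪≫ PicGrp.tensorModIso (Iso.refl _) ε.symm ≪≫
    resIso U.ι F M

theorem unitorR_inv_app {Y : Scheme.{u}} (G : Y.Modules) (V : Y.Opens) (t : Γ(G, V)) :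
    (SecTwist.unitorR G).inv.app V t =
      SecTwist.tmul G (Coh.structureModule Y) V t (one Y V) := by
  have h : (SecTwist.unitorR G).hom.app V
      (SecTwist.tmul G (Coh.structureModule Y) V t (one Y V)) = t := by
    have := SecTwist.unitorR_tmul G V t (1 : Y.ringCatSheaf.obj.obj (op V))
    exact this.trans (one_smul _ _)
  conv_lhs => rw [← h]
  exact iso_inv_hom_app _ V _

theorem trivTensorIso_hom_app (F M : X.Modules) (U : X.Opens)
    (ε : M.restrict U.ι ≅ Coh.structureModule (U : Scheme.{u})) (V : (U : Scheme.{u}).Opens)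
    (t : Γ(F.restrict U.ι, V)) :
    (trivTensorIso F M U ε).hom.app V t =
      SecTwist.tmul F M (U.ι ''ᵁ V) t (ε.inv.app V (one (U : Scheme.{u}) V)) := by
  unfold trivTensorIso
  rw [Iso.trans_hom, Iso.trans_hom, Iso.symm_hom, Scheme.Modules.Hom.comp_app,
    Scheme.Modules.Hom.comp_app]
  change (resIso U.ι F M).hom.app V ((PicGrp.tensorModIso (Iso.refl _) ε.symm).hom.app V
    ((SecTwist.unitorR (F.restrict U.ι)).inv.app V t)) = _
  rw [unitorR_inv_app, tensorModIso_hom_tmul, resIso_hom_tmul]
  rfl

/-- tensoring sections with the trivializing section is bijective -/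
theorem tmul_bijective (F M : X.Modules) (U : X.Opens)
    (ε : M.restrict U.ι ≅ Coh.structureModule (U : Scheme.{u})) (V : (U : Scheme.{u}).Opens) :
    Function.Bijective (fun t : Γ(F, U.ι ''ᵁ V) =>
      SecTwist.tmul F M (U.ι ''ᵁ V) t (ε.inv.app V (one (U : Scheme.{u}) V))) := by
  have h : (fun t : Γ(F, U.ι ''ᵁ V) =>
      SecTwist.tmul F M (U.ι ''ᵁ V) t (ε.inv.app V (one (U : Scheme.{u}) V))) =
      fun t : Γ(F.restrict U.ι, V) => (trivTensorIso F M U ε).hom.app V t := by
    funext t
    exact (trivTensorIso_hom_app F M U ε V t).symm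
  rw [h]
  constructor
  · intro a b hab
    have := congrArg ((trivTensorIso F M U ε).inv.app V) hab
    rwa [iso_inv_hom_app, iso_inv_hom_app] at this
  · intro b
    exact ⟨(trivTensorIso F M U ε).inv.app V b,
      iso_hom_inv_app (trivTensorIso F M U ε) V (show Γ((CohB1.tensorMod F M).restrict U.ι, V) from b)⟩

end Groth.Agent.Helper1.FlatTw
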