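import Mathlib
import Groth.Agent.Helper1.FlatTw3
import Groth.Agent.Helper4.TensorAssoc
import Groth.Agent.Helper4.TensorLift

/-!
# Flatness and twists, part 4: the twist `t ↦ t ⊗ s^n` is linear, and bijective on the generating
locus of `s`
-/

set_option autoImplicit false
set_option linter.style.haveILetI false

namespace Groth.Agent.Helper1.FlatTw

open CategoryTheory Limits AlgebraicGeometry TopologicalSpace Opposite
open Groth.Agent.Helper4.TensorInv Groth.Agent.Helper4.TensorRes Groth.Agent.Helper4.TensorGen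
  Groth.Agent.Helper4.GenLoc Groth.Agent.Helper4.TensorAssoc Groth.Agent.Helper4.GenLocIso

universe u

variable {X : Scheme.{u}} {L : X.Modules}

theorem trivGenLocus_inv_one (M : X.Modules) (σ : Coh.structureModule X ⟶ M)
    (V : ((CohB1.genLocus M σ : X.Opens) : Scheme.{u}).Opens) :
    (trivGenLocus M σ).inv.app V (one _ V) = SecTwist.val σ ((CohB1.genLocus M σ).ι ''ᵁ V) := by
  unfold trivGenLocus
  rw [Iso.trans_inv, Iso.symm_inv, Scheme.Modules.Hom.comp_app]
  change ((Scheme.Modules.restrictFunctor (CohB1.genLocus M σ).ι).map σ).app V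
    ((Scheme.Modules.restrictUnitIso (CohB1.genLocus M σ).ι).inv.app V (one _ V)) = _
  rw [restrictUnitIso_inv_one]
  rfl

theorem le_genLocus_powHom (hL : PicF.IsInvertible L) (s : Coh.structureModule X ⟶ L) (n : ℕ) :
    CohB1.genLocus L s ≤ CohB1.genLocus (CohB1.tensorPow L n) (SecTwist.powHom s n) := by
  cases n with
  | zero =>
    change _ ≤ CohB1.genLocus (Coh.structureModule X) (𝟙 _)
    rw [genLocus_id]
    exact le_top
  | succ n => rw [genLocus_powHom hL s n]

/-- **the twist is bijective on the generating locus** -/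
theorem twist_bijective (hL : PicF.IsInvertible L) (s : Coh.structureModule X ⟶ L) (n : ℕ)
    (F : X.Modules) (W : X.Opens) (hW : W ≤ CohB1.genLocus L s) :
    Function.Bijective (SecTwist.twist s n F W) := by
  set U := CohB1.genLocus (CohB1.tensorPow L n) (SecTwist.powHom s n) with hU
  have hWU : W ≤ U := hW.trans (le_genLocus_powHom hL s n)
  have hV : U.ι ''ᵁ (U.ι ⁻¹ᵁ W) = W := image_preimage_of_le' (U := U) hWU
  have h1 := tmul_bijective F (CohB1.tensorPow L n) U
    (trivGenLocus (CohB1.tensorPow L n) (SecTwist.powHom s n)) (U.ι ⁻¹ᵁ W)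
  rw [trivGenLocus_inv_one, SecTwist.val_powHom] at h1
  have h2 : Function.Bijective (SecTwist.twist s n F (U.ι ''ᵁ (U.ι ⁻¹ᵁ W))) := h1
  rw [hV] at h2
  exact h2

theorem twist_add (s : Coh.structureModule X ⟶ L) (n : ℕ) (F : X.Modules) (W : X.Opens)
    (t t' : Γ(F, W)) :
    SecTwist.twist s n F W (t + t') = SecTwist.twist s n F W t + SecTwist.twist s n F W t' :=
  Groth.Agent.Helper4.TensorLift.tmul_add_left _ _ W t t' _

theorem twist_smul (s : Coh.structureModule X ⟶ L) (n : ℕ) (F : X.Modules) (W : X.Opens)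
    (r : Γ(X, W)) (t : Γ(F, W)) :
    SecTwist.twist s n F W (r • t) = r • SecTwist.twist s n F W t :=
  Groth.Agent.Helper4.TensorLift.tmul_smul_left _ _ W r t _

theorem twist_zero (s : Coh.structureModule X ⟶ L) (n : ℕ) (F : X.Modules) (W : X.Opens) :
    SecTwist.twist s n F W 0 = 0 :=
  Groth.Agent.Helper4.TwistLocal.tmul_zero_left _ _ W _

theorem twist_sum (s : Coh.structureModule X ⟶ L) (n : ℕ) (F : X.Modules) (W : X.Opens)
    {ι : Type*} (S : Finset ι) (t : ι → Γ(F, W)) :
    SecTwist.twist s n F W (∑ i ∈ S, t i) = ∑ i ∈ S, SecTwist.twist s n F W (t i) := by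
  classical
  induction S using Finset.induction_on with
  | empty => simp [twist_zero]
  | insert a S ha ih =>
    rw [Finset.sum_insert ha, Finset.sum_insert ha]
    exact (twist_add s n F W _ _).trans (congrArg _ ih)

/-- naturality of the twist in the module -/
theorem tensorMap_twist (s : Coh.structureModule X ⟶ L) (n : ℕ) {F F' : X.Modules} (φ : F ⟶ F')
    (W : X.Opens) (t : Γ(F, W)) :
    (KoszTw.tensorMap φ (𝟙 (CohB1.tensorPow L n))).app W (SecTwist.twist s n F W t) =
      SecTwist.twist s n F' W (φ.app W t) := by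
  unfold SecTwist.twist
  rw [KoszTw.tensorMap_tmul]
  rfl

end Groth.Agent.Helper1.FlatTw
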