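import Mathlib
import Groth.Agent.Helper1.FlatTw4
import Groth.Agent.Helper4.TwistExt
import Groth.Agent.Helper4.QcohLimits
import Groth.Agent.Helper4.StalkExact

/-!
# Flatness and twists, part 5: eventual vanishing of twists, common extensions of twists
-/

set_option autoImplicit false
set_option linter.style.haveILetI false

namespace Groth.Agent.Helper1.FlatTw

open CategoryTheory Limits AlgebraicGeometry TopologicalSpace Opposite
open Groth.Agent.Helper4.TwistLocal Groth.Agent.Helper4.TwistExt Groth.Agent.Helper4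
open Groth.Agent.Helper4.QAffSec

universe u

variable {X : Scheme.{u}}

/-- a global section vanishing on `X_s` is killed by all large powers of `s` -/
theorem exists_forall_twist_eq_zero [CompactSpace X] (L : X.Modules) (hL : PicF.IsInvertible L)
    (s : Coh.structureModule X ⟶ L) (F : X.Modules) [F.IsQuasicoherent] (t : Γ(F, ⊤))
    (ht : F.presheaf.map (homOfLE (le_top : CohB1.genLocus L s ≤ ⊤)).op t = 0) :
    ∃ k : ℕ, ∀ n : ℕ, k ≤ n → SecTwist.twist s n F ⊤ t = 0 := by
  classical
  have key : ∀ x : X, ∃ (T : X.Opens) (k : ℕ), x ∈ T ∧ ∀ n, k ≤ n →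
      SecTwist.twist s n F T (F.presheaf.map (homOfLE (le_top : T ≤ ⊤)).op t) = 0 := by
    intro x
    obtain ⟨W, hxW, hW, ⟨ε⟩⟩ := exists_affine_triv L hL x
    have hT : W.ι ''ᵁ ⊤ = W := Scheme.Opens.ι_image_top W
    obtain ⟨k, hk⟩ := exists_twist_eq_zero_local L s F W hW.isCompact ε
      (F.presheaf.map (homOfLE (le_top : W.ι ''ᵁ ⊤ ≤ ⊤)).op t) (by
        intro V h1 h2
        rw [res_res]
        have : F.presheaf.map (homOfLE (h1.trans le_top)).op t =
            F.presheaf.map (homOfLE h2).op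
              (F.presheaf.map (homOfLE (le_top : CohB1.genLocus L s ≤ ⊤)).op t) := by
          rw [res_res]
        rw [this, ht, map_zero])
    exact ⟨W.ι ''ᵁ ⊤, k, by rw [hT]; exact hxW, hk⟩
  choose T k hxT hk using key
  obtain ⟨S, hS⟩ := CompactSpace.elim_nhds_subcover (fun x => (T x : Set X))
    (fun x => (T x).isOpen.mem_nhds (hxT x))
  refine ⟨S.sup k, fun n hn => ?_⟩
  apply AssDict.section_eq_zero_of_germ (CohB1.tensorMod F (CohB1.tensorPow L n)) ⊤
    (SecTwist.twist s n F ⊤ t)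
  intro y hy
  have hy' : y ∈ ⋃ x ∈ S, (T x : Set X) := by rw [hS]; trivial
  simp only [Set.mem_iUnion] at hy'
  obtain ⟨x, hxS, hyx⟩ := hy'
  have h1 := hk x n ((Finset.le_sup hxS).trans hn)
  have h2 := SecTwist.map_twist s n F (homOfLE (le_top : T x ≤ ⊤)) t
  have h3 : (CohB1.tensorMod F (CohB1.tensorPow L n)).presheaf.map
      (homOfLE (le_top : T x ≤ ⊤)).op (SecTwist.twist s n F ⊤ t) = 0 :=
    h2.trans h1
  have h4 := QcqsMod.germ_res (CohB1.tensorMod F (CohB1.tensorPow L n))
    (le_top : T x ≤ ⊤) y hyx (SecTwist.twist s n F ⊤ t)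
  rw [h3, map_zero] at h4
  exact h4.symm

/-- finitely many sections over `X_s` extend after twisting by a common power of `s` -/
theorem exists_common_twist_extends [CompactSpace X] [QuasiSeparatedSpace X] (L : X.Modules)
    (hL : PicF.IsInvertible L) (s : Coh.structureModule X ⟶ L) (F : X.Modules)
    [F.IsQuasicoherent] {ι : Type u} [Fintype ι] [DecidableEq ι]
    (x : ι → Γ(F, CohB1.genLocus L s)) :
    ∃ (n : ℕ) (t' : ι → Γ(CohB1.tensorMod F (CohB1.tensorPow L n), ⊤)), ∀ i,
      (CohB1.tensorMod F (CohB1.tensorPow L n)).presheaf.map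
          (homOfLE (le_top : CohB1.genLocus L s ≤ ⊤)).op (t' i) =
        SecTwist.twist s n F (CohB1.genLocus L s) (x i) := by
  let Fl : X.Modules := ∐ fun _ : ι => F
  haveI : Fl.IsQuasicoherent := QcohLimits.isQuasicoherent_sigma _ (fun _ => inferInstance)
  let π : ∀ i : ι, Fl ⟶ F := fun i => Sigma.desc (fun j => if j = i then 𝟙 F else 0)
  have hιπ : ∀ i j : ι, Sigma.ι (fun _ : ι => F) j ≫ π i = if j = i then 𝟙 F else 0 :=
    fun i j => Sigma.ι_desc _ j
  let t : Γ(Fl, CohB1.genLocus L s) := ∑ j, (Sigma.ι (fun _ : ι => F) j).app (CohB1.genLocus L s) (x j)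
  have hπt : ∀ i, (π i).app (CohB1.genLocus L s) t = x i := by
    intro i
    change (π i).app (CohB1.genLocus L s) (∑ j, (Sigma.ι (fun _ : ι => F) j).app (CohB1.genLocus L s) (x j)) = x i
    rw [map_sum ((π i).app (CohB1.genLocus L s)).hom _ Finset.univ]
    have h1 : ∀ j, ((π i).app (CohB1.genLocus L s)).hom ((Sigma.ι (fun _ : ι => F) j).app (CohB1.genLocus L s) (x j)) =
        if j = i then x j else 0 := by
      intro j
      have h2 : ((π i).app (CohB1.genLocus L s)).hom ((Sigma.ι (fun _ : ι => F) j).app (CohB1.genLocus L s) (x j)) =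
          (Sigma.ι (fun _ : ι => F) j ≫ π i).app (CohB1.genLocus L s) (x j) := rfl
      rw [h2, hιπ]
      split_ifs
      · rfl
      · rfl
    rw [Finset.sum_congr rfl (fun j _ => h1 j), Finset.sum_ite_eq' Finset.univ i]
    simp
  obtain ⟨n, -, t', ht'⟩ := exists_twist_extends L hL s Fl t
  refine ⟨n, fun i => (KoszTw.tensorMap (π i) (𝟙 (CohB1.tensorPow L n))).app ⊤ t', fun i => ?_⟩
  have e1 := StalkExact.app_res (KoszTw.tensorMap (π i) (𝟙 (CohB1.tensorPow L n)))
    (homOfLE (le_top : CohB1.genLocus L s ≤ ⊤)) t'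
  refine e1.symm.trans ?_
  have e2 : (KoszTw.tensorMap (π i) (𝟙 (CohB1.tensorPow L n))).app (CohB1.genLocus L s)
      ((CohB1.tensorMod Fl (CohB1.tensorPow L n)).presheaf.map (homOfLE (le_top : CohB1.genLocus L s ≤ ⊤)).op t') =
      (KoszTw.tensorMap (π i) (𝟙 (CohB1.tensorPow L n))).app (CohB1.genLocus L s) (SecTwist.twist s n Fl (CohB1.genLocus L s) t) :=
    congrArg _ ht'
  refine e2.trans ?_
  rw [tensorMap_twist, hπt]

end Groth.Agent.Helper1.FlatTw
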