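import Mathlib
import Groth.Agent.Helper1.FlatTw5
import Groth.Agent.Helper1.SerreFin1
import Groth.Agent.Lead.QcohTensor

/-!
# Flatness and twists, part 6: flatness of the modules of global sections of the large twists gives
flatness of the module of sections over `X_s`
-/

set_option autoImplicit false
set_option linter.style.haveILetI false

namespace Groth.Agent.Helper1.FlatTw

open CategoryTheory Limits AlgebraicGeometry TopologicalSpace Opposite
open Groth.Agent.Helper4.TensorInv Groth.Agent.Helper4.TensorAssoc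

universe u v w

section Alg

variable {A : Type v} {R : Type w} [CommRing A] [CommRing R] (φ : A →+* R)

/-- elementwise flatness over `A` of an `R`-module, along `φ : A →+* R` (equational criterion) -/
def FlatAlong (M : Type*) [AddCommGroup M] [Module R M] : Prop :=
  ∀ (l : ℕ) (f : Fin l → A) (x : Fin l → M), ∑ i, φ (f i) • x i = 0 →
    ∃ (k : ℕ) (a : Fin l → Fin k → A) (y : Fin k → M),
      (∀ i, x i = ∑ j, φ (a i j) • y j) ∧ ∀ j, ∑ i, f i * a i j = 0

theorem flatAlong_iff (M : Type*) [AddCommGroup M] [Module R M] :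
    FlatAlong φ M ↔ @Module.Flat A M _ _ (Module.compHom M φ) := by
  letI := Module.compHom M φ
  rw [Module.Flat.iff_forall_isTrivialRelation]
  constructor
  · intro h l f x hx
    exact h l f x hx
  · intro h l f x hx
    exact h hx

theorem FlatAlong.of_bijective {M M' : Type*} [AddCommGroup M] [Module R M] [AddCommGroup M']
    [Module R M'] (g : M →ₗ[R] M') (hg : Function.Bijective g) (h : FlatAlong φ M) :
    FlatAlong φ M' := by
  intro l f x hx
  let e := LinearEquiv.ofBijective g hg
  obtain ⟨k, a, y, hy1, hy2⟩ := h l f (fun i => e.symm (x i)) (by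
    have : e.symm (∑ i, φ (f i) • x i) = 0 := by rw [hx, map_zero]
    rw [map_sum] at this
    simpa only [map_smul] using this)
  refine ⟨k, a, fun j => e (y j), fun i => ?_, hy2⟩
  have := congrArg e (hy1 i)
  rw [LinearEquiv.apply_symm_apply, map_sum] at this
  simpa only [map_smul] using this

end Alg

variable {X : Scheme.{u}} {L : X.Modules}

theorem FlatAlong.of_iso {A : Type v} [CommRing A] (φ : A →+* Γ(X, ⊤)) {M M' : X.Modules}
    (e : M ≅ M') (h : FlatAlong φ Γ(M, ⊤)) : FlatAlong φ Γ(M', ⊤) := by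
  let g : Γ(M, ⊤) →ₗ[Γ(X, ⊤)] Γ(M', ⊤) :=
    { toFun := e.hom.app ⊤
      map_add' := fun a b => map_add (e.hom.app ⊤).hom a b
      map_smul' := fun r a => Scheme.Modules.Hom.app_smul e.hom r a }
  refine FlatAlong.of_bijective φ g ⟨?_, ?_⟩ h
  · intro a b hab
    have h1 : e.inv.app ⊤ (e.hom.app ⊤ a) = e.inv.app ⊤ (e.hom.app ⊤ b) :=
      congrArg (e.inv.app ⊤) hab
    rwa [Groth.Agent.Helper4.TensorGen.iso_inv_hom_app,
      Groth.Agent.Helper4.TensorGen.iso_inv_hom_app] at h1
  · intro b
    exact ⟨e.inv.app ⊤ b, Groth.Agent.Helper4.TensorGen.iso_hom_inv_app e ⊤ b⟩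

/-- **flatness of the sections over `X_s` from flatness of the global sections of the large
twists** -/
theorem flatAlong_genLocus [CompactSpace X] [QuasiSeparatedSpace X] (hL : PicF.IsInvertible L)
    (s : Coh.structureModule X ⟶ L) (F : X.Modules) [F.IsQuasicoherent]
    {A : Type v} [CommRing A] (φ : A →+* Γ(X, ⊤)) (n₀ : ℕ)
    (h : ∀ n, n₀ ≤ n → FlatAlong φ Γ(CohB1.tensorMod F (CohB1.tensorPow L n), ⊤)) :
    FlatAlong ((X.presheaf.map (homOfLE (le_top : CohB1.genLocus L s ≤ ⊤)).op).hom.comp φ)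
      Γ(F, CohB1.genLocus L s) := by
  classical
  intro l f x hx
  -- Step 1: common extension
  obtain ⟨n, t₀, ht₀⟩ := exists_common_twist_extends L hL s F (ι := ULift.{u} (Fin l))
    (fun i => x i.down)
  let t' : Fin l → Γ(CohB1.tensorMod F (CohB1.tensorPow L n), ⊤) := fun i => t₀ ⟨i⟩
  have ht' : ∀ i, (CohB1.tensorMod F (CohB1.tensorPow L n)).presheaf.map
      (homOfLE (le_top : CohB1.genLocus L s ≤ ⊤)).op (t' i) =
      SecTwist.twist s n F (CohB1.genLocus L s) (x i) := fun i => ht₀ ⟨i⟩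
  have hB := Groth.Agent.Helper1.SerreFin.isCoh_of_isInvertible _ (isInvertible_tensorPow hL n)
  haveI : (CohB1.tensorPow L n).IsQuasicoherent := hB.1
  haveI : (CohB1.tensorMod F (CohB1.tensorPow L n)).IsQuasicoherent :=
    Groth.Agent.Lead.QcohTensor.isQuasicoherent_tensorMod F _
  -- Step 2: the combination vanishes on `X_s`
  have hz : (CohB1.tensorMod F (CohB1.tensorPow L n)).presheaf.map
      (homOfLE (le_top : CohB1.genLocus L s ≤ ⊤)).op (∑ i, φ (f i) • t' i) = 0 := by
    rw [map_sum]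
    have h1 : ∀ i, (CohB1.tensorMod F (CohB1.tensorPow L n)).presheaf.map
        (homOfLE (le_top : CohB1.genLocus L s ≤ ⊤)).op (φ (f i) • t' i) =
        SecTwist.twist s n F (CohB1.genLocus L s)
          (((X.presheaf.map (homOfLE (le_top : CohB1.genLocus L s ≤ ⊤)).op).hom.comp φ) (f i) •
            x i) := by
      intro i
      rw [Scheme.Modules.map_smul, ht', twist_smul]
      rfl
    rw [Finset.sum_congr rfl (fun i _ => h1 i)]
    refine (twist_sum s n F (CohB1.genLocus L s) Finset.univ _).symm.trans ?_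
    exact (congrArg (SecTwist.twist s n F (CohB1.genLocus L s)) hx).trans (twist_zero s n F _)
  -- Step 3: kill by a large power
  obtain ⟨k₀, hk₀⟩ := exists_forall_twist_eq_zero L hL s
    (CohB1.tensorMod F (CohB1.tensorPow L n)) (∑ i, φ (f i) • t' i) hz
  obtain ⟨n', hn'⟩ : ∃ n', n' = max k₀ n₀ := ⟨_, rfl⟩
  have hz' := hk₀ n' (by rw [hn']; exact le_max_left _ _)
  have hz'' : ∑ i, φ (f i) • SecTwist.twist s n' (CohB1.tensorMod F (CohB1.tensorPow L n)) ⊤ (t' i)
      = 0 := by
    refine Eq.trans ?_ hz'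
    refine Eq.trans ?_ (twist_sum s n' (CohB1.tensorMod F (CohB1.tensorPow L n)) ⊤ Finset.univ
      (fun i => φ (f i) • t' i)).symm
    exact Finset.sum_congr rfl (fun i _ => (twist_smul s n' _ ⊤ _ _).symm)
  -- Step 4: flatness upstairs
  have hP : FlatAlong φ Γ(CohB1.tensorMod (CohB1.tensorMod F (CohB1.tensorPow L n))
      (CohB1.tensorPow L n'), ⊤) := by
    have e : CohB1.tensorMod F (CohB1.tensorPow L (n + n')) ≅
        CohB1.tensorMod (CohB1.tensorMod F (CohB1.tensorPow L n)) (CohB1.tensorPow L n') :=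
      (PicGrp.tensorModIso (Iso.refl F) (powAddIso L hL n n')).symm ≪≫
        (assocIso F _ _ (isInvertible_tensorPow hL n) (isInvertible_tensorPow hL n')).symm
    exact FlatAlong.of_iso φ e (h (n + n') (by rw [hn']; exact (le_max_right _ _).trans (Nat.le_add_left _ _)))
  obtain ⟨k, a, y, hy1, hy2⟩ := hP l f _ hz''
  -- Step 5: come back to `X_s`
  have hb1 := twist_bijective hL s n F (CohB1.genLocus L s) le_rfl
  have hb2 := twist_bijective hL s n' (CohB1.tensorMod F (CohB1.tensorPow L n))
    (CohB1.genLocus L s) le_rfl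
  have hsurj : ∀ j, ∃ y' : Γ(F, CohB1.genLocus L s),
      SecTwist.twist s n' (CohB1.tensorMod F (CohB1.tensorPow L n)) (CohB1.genLocus L s)
        (SecTwist.twist s n F (CohB1.genLocus L s) y') =
      (CohB1.tensorMod (CohB1.tensorMod F (CohB1.tensorPow L n)) (CohB1.tensorPow L n')).presheaf.map
        (homOfLE (le_top : CohB1.genLocus L s ≤ ⊤)).op (y j) := by
    intro j
    obtain ⟨w, hw⟩ := hb2.2 ((CohB1.tensorMod (CohB1.tensorMod F (CohB1.tensorPow L n))
      (CohB1.tensorPow L n')).presheaf.map (homOfLE (le_top : CohB1.genLocus L s ≤ ⊤)).op (y j))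
    obtain ⟨y', hy'⟩ := hb1.2 w
    exact ⟨y', by rw [hy', hw]⟩
  choose y' hy' using hsurj
  refine ⟨k, a, y', fun i => ?_, hy2⟩
  apply hb1.1
  apply hb2.1
  refine Eq.trans ?_ ((congrArg (SecTwist.twist s n' (CohB1.tensorMod F (CohB1.tensorPow L n))
    (CohB1.genLocus L s)) (twist_sum s n F (CohB1.genLocus L s) Finset.univ _)).trans
    (twist_sum s n' _ (CohB1.genLocus L s) Finset.univ _)).symm
  have h2 : ∀ j, SecTwist.twist s n' (CohB1.tensorMod F (CohB1.tensorPow L n)) (CohB1.genLocus L s)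
      (SecTwist.twist s n F (CohB1.genLocus L s)
        (((X.presheaf.map (homOfLE (le_top : CohB1.genLocus L s ≤ ⊤)).op).hom.comp φ) (a i j) •
          y' j)) =
      (CohB1.tensorMod (CohB1.tensorMod F (CohB1.tensorPow L n)) (CohB1.tensorPow L n')).presheaf.map
        (homOfLE (le_top : CohB1.genLocus L s ≤ ⊤)).op (φ (a i j) • y j) := by
    intro j
    refine (congrArg (SecTwist.twist s n' (CohB1.tensorMod F (CohB1.tensorPow L n))
      (CohB1.genLocus L s)) (twist_smul s n F (CohB1.genLocus L s) _ (y' j))).trans ?_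
    refine (twist_smul s n' (CohB1.tensorMod F (CohB1.tensorPow L n)) (CohB1.genLocus L s) _ _).trans ?_
    refine Eq.trans ?_ (Scheme.Modules.map_smul _ (homOfLE (le_top : CohB1.genLocus L s ≤ ⊤))
      (φ (a i j)) (y j)).symm
    exact congrArg _ (hy' j)
  refine Eq.trans ?_ (Finset.sum_congr rfl (fun j _ => h2 j)).symm
  refine Eq.trans ?_ (map_sum ((CohB1.tensorMod (CohB1.tensorMod F (CohB1.tensorPow L n))
    (CohB1.tensorPow L n')).presheaf.map (homOfLE (le_top : CohB1.genLocus L s ≤ ⊤)).op).hom _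
    Finset.univ)
  refine Eq.trans ?_ (congrArg _ (hy1 i))
  refine Eq.trans ?_ (SecTwist.map_twist s n' _ (homOfLE (le_top : CohB1.genLocus L s ≤ ⊤))
    (t' i)).symm
  exact congrArg _ (ht' i).symm

end Groth.Agent.Helper1.FlatTw
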