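import Mathlib
import Groth.Agent.Helper1.FlatTw6
import Groth.Agent.Helper5.AffFlat1
import Groth.Agent.Lead.PerfLib11
import Groth.Agent.Helper4.FinLocFree4

/-!
# Flatness and twists, part 7: sections of finite locally free modules on affine schemes are flat;
the dictionary with flatness over the base
-/

set_option autoImplicit false
set_option linter.style.haveILetI false

namespace Groth.Agent.Helper1.FlatTw

open CategoryTheory Limits AlgebraicGeometry TopologicalSpace Opposite

universe u

theorem FlatAlong.congr {A R : Type*} [CommRing A] [CommRing R] {φ ψ : A →+* R} (h : φ = ψ)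
    {M : Type*} [AddCommGroup M] [Module R M] (hM : FlatAlong φ M) : FlatAlong ψ M := h ▸ hM

/-- global sections of a finite locally free module on an affine scheme form a flat module -/
theorem flatAlong_of_isFinLocFree (V : Scheme.{u}) [IsAffine V] (N : V.Modules)
    (hN : FlatMod.IsFinLocFree N) : FlatAlong (RingHom.id Γ(V, ⊤)) Γ(N, ⊤) := by
  haveI : N.IsQuasicoherent :=
    Groth.Agent.Helper4.FinLocFree4.isQuasicoherent_of_isFinLocFree N hN
  have hfl : FlatMod.IsFlatOver (𝟙 V) N := Groth.Agent.Lead.PerfLib.isFlatOver_of_isFinLocFree _ hN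
  have e : (⊤ : V.Opens) ≤ (𝟙 V) ⁻¹ᵁ ⊤ := le_rfl
  have h1 := (Groth.Agent.Helper5.AffFlat.flat_sections_iff (𝟙 V) N (isAffineOpen_top V)
    (isAffineOpen_top V) e).1 (fun x _ => hfl x)
  have h2 := (flatAlong_iff ((𝟙 V : V ⟶ V).appLE ⊤ ⊤ e).hom Γ(N, ⊤)).2 h1
  refine FlatAlong.congr ?_ h2
  ext a
  simp [Scheme.Hom.appLE]

end Groth.Agent.Helper1.FlatTw
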