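import Mathlib
import Groth.Agent.Helper1.FlatTw7
import Groth.Agent.Helper1.FlatTw2
import Groth.Agent.Helper4.OpenBC
import Groth.Agent.Helper4.AmpleRestrict
import Groth.Agent.Lead.LocLift3

/-!
# Flatness and twists, part 8: a quasi-coherent module whose large twists by a relatively ample
module have finite locally free direct images is flat over the base
-/

set_option autoImplicit false
set_option linter.style.haveILetI false

namespace Groth.Agent.Helper1.FlatTw

open CategoryTheory Limits AlgebraicGeometry TopologicalSpace Opposite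
open Groth.Agent.Helper4.TensorInv Groth.Agent.Helper4.TensorAssoc Groth.Agent.Helper4.TensorRes

universe u

theorem flatAlong_of_isFinLocFree_push {Z V : Scheme.{u}} [IsAffine V] (g : Z ⟶ V) (G : Z.Modules)
    (h : FlatMod.IsFinLocFree ((Scheme.Modules.pushforward g).obj G)) :
    FlatAlong g.appTop.hom Γ(G, ⊤) := by
  have h1 := flatAlong_of_isFinLocFree V _ h
  intro l f x hx
  obtain ⟨k, a, y, hy1, hy2⟩ := h1 l f x hx
  exact ⟨k, a, y, hy1, hy2⟩

variable {X Y : Scheme.{u}} (f : X ⟶ Y)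

/-- **flatness from local freeness of the direct images of the large twists** -/
theorem isFlatOver_of_isFinLocFree_push_twist [QuasiCompact f] [QuasiSeparated f] (L : X.Modules)
    (hL : PicF.IsInvertible L)
    (ha : ∀ W : Y.Opens, IsAffineOpen W → CohB1.IsAmple (L.restrict (f ⁻¹ᵁ W).ι))
    (F : X.Modules) [F.IsQuasicoherent] (n₀ : ℕ)
    (h : ∀ n : ℕ, n₀ ≤ n →
      FlatMod.IsFinLocFree ((Coh.push f).obj (CohB1.tensorMod F (CohB1.tensorPow L n)))) :
    FlatMod.IsFlatOver f F := by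
  intro x
  obtain ⟨V, hV, hxV, -⟩ := exists_isAffineOpen_mem_and_subset (X := Y) (x := f.base x)
    (U := ⊤) trivial
  haveI : IsAffine (V : Scheme.{u}) := hV
  set XV : X.Opens := f ⁻¹ᵁ V with hXV
  haveI : CompactSpace ((XV : X.Opens) : Scheme.{u}) :=
    QuasiCompact.compactSpace_of_compactSpace (f ∣_ V)
  haveI : QuasiSeparatedSpace ((XV : X.Opens) : Scheme.{u}) :=
    quasiSeparatedSpace_of_quasiSeparated (f ∣_ V)
  obtain ⟨hLV, -, hpts⟩ := ha V hV
  let x' : ((XV : X.Opens) : Scheme.{u}) := ⟨x, hxV⟩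
  obtain ⟨m, σ, hxW, hWaff⟩ := hpts x'
  have hM : PicF.IsInvertible (CohB1.tensorPow (L.restrict XV.ι) (m + 1)) :=
    isInvertible_tensorPow hLV (m + 1)
  haveI : (F.restrict XV.ι).IsQuasicoherent := Scheme.Modules.isQuasicoherent_restrictFunctor XV.ι F
  -- flatness of the modules of global sections of the twists
  have key : ∀ k : ℕ, n₀ ≤ k → FlatAlong (f ∣_ V).appTop.hom
      Γ(CohB1.tensorMod (F.restrict XV.ι)
        (CohB1.tensorPow (CohB1.tensorPow (L.restrict XV.ι) (m + 1)) k), ⊤) := by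
    intro k hk
    have hN : n₀ ≤ (m + 1) * k := hk.trans (Nat.le_mul_of_pos_left k (Nat.succ_pos m))
    have h1 := Groth.Agent.Lead.LocLift.isFinLocFree_restrict (h _ hN) V.ι
    have h2 := isFinLocFree_of_iso ((Groth.Agent.Helper4.OpenBC.iso f V).app
      (CohB1.tensorMod F (CohB1.tensorPow L ((m + 1) * k)))) h1
    have e : CohB1.tensorMod (F.restrict XV.ι)
        (CohB1.tensorPow (CohB1.tensorPow (L.restrict XV.ι) (m + 1)) k) ≅
        (CohB1.tensorMod F (CohB1.tensorPow L ((m + 1) * k))).restrict XV.ι :=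
      PicGrp.tensorModIso (Iso.refl _) (powMulIso (L.restrict XV.ι) hLV (m + 1) k) ≪≫
        PicGrp.tensorModIso (Iso.refl _)
          (Groth.Agent.Helper4.AmpleRestrict.resPowIso XV.ι L ((m + 1) * k)) ≪≫
        resIso XV.ι F (CohB1.tensorPow L ((m + 1) * k))
    have h3 := isFinLocFree_of_iso ((Scheme.Modules.pushforward (f ∣_ V)).mapIso e.symm) h2
    exact flatAlong_of_isFinLocFree_push (f ∣_ V) _ h3
  have hfl := flatAlong_genLocus hM σ (F.restrict XV.ι) (f ∣_ V).appTop.hom n₀ key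
  set W := CohB1.genLocus (CohB1.tensorPow (L.restrict XV.ι) (m + 1)) σ with hW
  have e : W ≤ (f ∣_ V) ⁻¹ᵁ ⊤ := le_top
  have hfl' : FlatAlong ((f ∣_ V).appLE ⊤ W e).hom Γ(F.restrict XV.ι, W) := by
    refine FlatAlong.congr ?_ hfl
    ext a
    simp [Scheme.Hom.appLE, Scheme.Hom.appTop]
  have h4 := (Groth.Agent.Helper5.AffFlat.flat_sections_iff (f ∣_ V) (F.restrict XV.ι)
    (isAffineOpen_top (V : Scheme.{u})) hWaff e).2 ((flatAlong_iff _ _).1 hfl') x' hxW
  have h5 := (Groth.Agent.Helper9.RPL3.isFlatOverAt_target_iff (f ∣_ V) V.ι (F.restrict XV.ι) x').2 h4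
  rw [morphismRestrict_ι] at h5
  exact (Groth.Agent.Helper9.RPL3.isFlatOverAt_restrict_iff f XV.ι F x').1 h5

end Groth.Agent.Helper1.FlatTw
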