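import Mathlib

/-!
# HT10: a linear map from a finite module to a finite projective module which is bijective on all
fibres is bijective
-/

set_option autoImplicit false
set_option linter.style.haveILetI false
set_option linter.unusedSectionVars false

universe u
open TensorProduct

namespace Groth.Agent.Helper1.HT

variable {R : Type u} [CommRing R]

/-- a field extension of the residue field at a prime, from a field-valued point with that
kernel -/
theorem subsingleton_of_fibres (C : Type u) [AddCommGroup C] [Module R C] [Module.Finite R C]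
    (h : ∀ p : PrimeSpectrum R, ∃ (K : Type u) (_ : Field K) (_ : Algebra R K),
      RingHom.ker (algebraMap R K) = p.asIdeal ∧ Subsingleton (K ⊗[R] C)) : Subsingleton C := by
  rw [← Module.support_eq_empty_iff (R := R)]
  ext p
  simp only [Set.mem_empty_iff_false, iff_false]
  intro hp
  rw [Module.mem_support_iff_nontrivial_residueField_tensorProduct] at hp
  obtain ⟨K, _, _, hker, hsub⟩ := h p
  let φ : p.asIdeal.ResidueField →+* K :=
    Ideal.ResidueField.lift p.asIdeal (algebraMap R K) (le_of_eq hker.symm) (by
      intro a ha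
      simp only [Submonoid.mem_comap, IsUnit.mem_submonoid_iff]
      apply IsUnit.mk0
      intro h0
      exact ha (hker ▸ (RingHom.mem_ker.mpr h0)))
  letI : Algebra p.asIdeal.ResidueField K := φ.toAlgebra
  haveI : IsScalarTower R p.asIdeal.ResidueField K := IsScalarTower.of_algebraMap_eq (fun r =>
    (Ideal.ResidueField.lift_algebraMap p.asIdeal (algebraMap R K) _ _ r).symm)
  let e := AlgebraTensorModule.cancelBaseChange R p.asIdeal.ResidueField K K C
  haveI := hp
  haveI : Nontrivial (K ⊗[p.asIdeal.ResidueField] (p.asIdeal.ResidueField ⊗[R] C)) :=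
    inferInstance
  exact not_subsingleton (K ⊗[p.asIdeal.ResidueField] (p.asIdeal.ResidueField ⊗[R] C))
    e.toEquiv.subsingleton

/-- **fibrewise criterion for bijectivity** -/
theorem bijective_of_fibres {M N : Type u} [AddCommGroup M] [Module R M] [AddCommGroup N]
    [Module R N] [Module.Finite R M] [Module.Finite R N] [Module.Projective R N]
    (β : M →ₗ[R] N)
    (h : ∀ p : PrimeSpectrum R, ∃ (K : Type u) (_ : Field K) (_ : Algebra R K),
      RingHom.ker (algebraMap R K) = p.asIdeal ∧ Function.Bijective (β.lTensor K)) :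
    Function.Bijective β := by
  -- surjectivity
  have hsurj : Function.Surjective β := by
    rw [← LinearMap.range_eq_top, ← Submodule.Quotient.subsingleton_iff]
    refine subsingleton_of_fibres (R := R) _ ?_
    intro p
    obtain ⟨K, i1, i2, hker, hbij⟩ := h p
    refine ⟨K, i1, i2, hker, ?_⟩
    have hs : Function.Surjective ((LinearMap.range β).mkQ.lTensor K) :=
      LinearMap.lTensor_surjective K (Submodule.mkQ_surjective _)
    have hz : (LinearMap.range β).mkQ ∘ₗ β = 0 := by
      ext x
      simp
    refine subsingleton_of_forall_eq 0 (fun a => ?_)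
    obtain ⟨a', rfl⟩ := hs a
    obtain ⟨a'', rfl⟩ := hbij.2 a'
    rw [← LinearMap.comp_apply, ← LinearMap.lTensor_comp, hz, LinearMap.lTensor_zero,
      LinearMap.zero_apply]
  refine ⟨?_, hsurj⟩
  -- injectivity
  obtain ⟨σ, hσ⟩ := Module.projective_lifting_property β LinearMap.id hsurj
  have hσ' : ∀ n, β (σ n) = n := fun n => LinearMap.congr_fun hσ n
  let π : M →ₗ[R] M := LinearMap.id - σ ∘ₗ β
  have hπ : ∀ x, π x ∈ LinearMap.ker β := by
    intro x
    simp [π, hσ']
  let π' : M →ₗ[R] LinearMap.ker β := π.codRestrict (LinearMap.ker β) hπ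
  have hπ' : ∀ k : LinearMap.ker β, π' k.1 = k := by
    intro k
    apply Subtype.ext
    have hk : β k.1 = 0 := k.2
    simp [π', π, hk]
  haveI : Module.Finite R (LinearMap.ker β) :=
    Module.Finite.of_surjective π' (fun k => ⟨k.1, hπ' k⟩)
  have hcomp : π' ∘ₗ (LinearMap.ker β).subtype = LinearMap.id := by
    ext k
    simp [hπ' k]
  have hzero : β ∘ₗ (LinearMap.ker β).subtype = 0 := by
    ext k
    exact k.2
  have hsub : Subsingleton (LinearMap.ker β) := by
    refine subsingleton_of_fibres (R := R) _ ?_
    intro p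
    obtain ⟨K, i1, i2, hker, hbij⟩ := h p
    refine ⟨K, i1, i2, hker, ?_⟩
    refine subsingleton_of_forall_eq 0 (fun y => ?_)
    have h1 : (β.lTensor K) (((LinearMap.ker β).subtype.lTensor K) y) = 0 := by
      rw [← LinearMap.comp_apply, ← LinearMap.lTensor_comp, hzero, LinearMap.lTensor_zero,
        LinearMap.zero_apply]
    have h2 : ((LinearMap.ker β).subtype.lTensor K) y = 0 := hbij.1 (by rw [h1, map_zero])
    have h3 := congrArg (π'.lTensor K) h2
    rw [← LinearMap.comp_apply, ← LinearMap.lTensor_comp, hcomp, LinearMap.lTensor_id,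
      LinearMap.id_apply, map_zero] at h3
    exact h3
  rw [← LinearMap.ker_eq_bot, ← Submodule.subsingleton_iff_eq_bot]
  exact hsub

/-- comparison of a map with its base change along two base change maps -/
theorem bijective_lTensor_of_isBaseChange {R' M₁ M₂ N₁ N₂ : Type u} [CommRing R']
    [Algebra R R'] [AddCommGroup M₁] [Module R M₁] [AddCommGroup M₂] [Module R M₂]
    [AddCommGroup N₁] [Module R N₁] [Module R' N₁] [IsScalarTower R R' N₁]
    [AddCommGroup N₂] [Module R N₂] [Module R' N₂] [IsScalarTower R R' N₂]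
    (ρ₁ : M₁ →ₗ[R] N₁) (h₁ : IsBaseChange R' ρ₁) (ρ₂ : M₂ →ₗ[R] N₂) (h₂ : IsBaseChange R' ρ₂)
    (b : M₁ →ₗ[R] M₂) (β : N₁ → N₂) (hadd : ∀ x y, β (x + y) = β x + β y)
    (hsmul : ∀ (r : R') x, β (r • x) = r • β x)
    (hβ : ∀ m, β (ρ₁ m) = ρ₂ (b m)) (hbij : Function.Bijective β) :
    Function.Bijective (b.lTensor R') := by
  have key : ∀ t : R' ⊗[R] M₁, β (h₁.equiv t) = h₂.equiv (b.lTensor R' t) := by
    intro t
    induction t using TensorProduct.induction_on with
    | zero =>
      have : β 0 = 0 := by
        have := hadd 0 0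
        simpa using this
      simp [this]
    | tmul r' m =>
      rw [IsBaseChange.equiv_tmul, LinearMap.lTensor_tmul, IsBaseChange.equiv_tmul, hsmul, hβ]
    | add x y hx hy => rw [map_add, hadd, map_add, map_add, hx, hy]
  have h3 : (b.lTensor R' : R' ⊗[R] M₁ → R' ⊗[R] M₂) =
      h₂.equiv.symm ∘ β ∘ h₁.equiv := by
    funext t
    simp only [Function.comp_apply, key, LinearEquiv.symm_apply_apply]
  rw [h3]
  exact h₂.equiv.symm.bijective.comp (hbij.comp h₁.equiv.bijective)

end Groth.Agent.Helper1.HT
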