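import Mathlib
import Groth.Agent.Helper1.HT10
import Groth.Agent.Lead.BCMap5
import Groth.Agent.Helper4.QcohLocal
import Groth.Agent.Helper4.FinLocFree4
import Groth.Agent.Helper4.TensorGen

/-!
# HT11: a morphism from a quasi-coherent module of finite type to a finite locally free module
which is an isomorphism on all fibres is an isomorphism
-/

set_option autoImplicit false
set_option linter.style.haveILetI false
set_option linter.unusedSectionVars false
set_option maxHeartbeats 400000

universe u
open CategoryTheory CategoryTheory.Limits AlgebraicGeometry Opposite TensorProduct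
open AlgebraicGeometry.Scheme.Modules
open Groth.Agent.Lead.BCMap

namespace Groth.Agent.Helper1.HT

variable {T : Scheme.{u}}

/-- the kernel of the evaluation of the functions over an affine open at the point of a prime -/
theorem appLE_fromSpecResidueField_eq_zero_iff {U : T.Opens} (hU : IsAffineOpen U)
    (p : PrimeSpectrum Γ(T, U))
    (e : (⊤ : (Spec (T.residueField (hU.fromSpec p))).Opens) ≤
      (T.fromSpecResidueField (hU.fromSpec p)) ⁻¹ᵁ U) (a : Γ(T, U)) :
    (T.fromSpecResidueField (hU.fromSpec p)).appLE U ⊤ e a = 0 ↔ a ∈ p.asIdeal := by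
  rw [← AlgebraicGeometry.basicOpen_eq_bot_iff, Scheme.basicOpen_appLE, top_inf_eq]
  have h1 : hU.fromSpec p ∈ T.basicOpen a ↔ a ∉ p.asIdeal := by
    have := hU.fromSpec_preimage_basicOpen a
    have h2 : p ∈ hU.fromSpec ⁻¹ᵁ T.basicOpen a ↔ p ∈ PrimeSpectrum.basicOpen a := by
      rw [this]
      rfl
    exact h2
  constructor
  · intro h
    by_contra hc
    have h3 := h1.2 hc
    have : (IsLocalRing.closedPoint (T.residueField (hU.fromSpec p))) ∈
        (T.fromSpecResidueField (hU.fromSpec p)) ⁻¹ᵁ T.basicOpen a := by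
      show (T.fromSpecResidueField (hU.fromSpec p)) _ ∈ T.basicOpen a
      rw [Scheme.fromSpecResidueField_apply]
      exact h3
    rw [h] at this
    exact this
  · intro h
    ext s
    simp only [TopologicalSpace.Opens.coe_bot, Set.mem_empty_iff_false, iff_false]
    intro hs
    have : (T.fromSpecResidueField (hU.fromSpec p)) s ∈ T.basicOpen a := hs
    rw [Scheme.fromSpecResidueField_apply] at this
    exact (h1.1 this) h

/-- an isomorphism of modules is bijective on sections -/
theorem app_bijective_of_isIso {M N : T.Modules} (φ : M ⟶ N) [IsIso φ] (U : T.Opens) :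
    Function.Bijective (φ.app U) := by
  constructor
  · intro a b hab
    have h1 := Groth.Agent.Helper4.TensorGen.iso_inv_hom_app (asIso φ) U a
    have h2 := Groth.Agent.Helper4.TensorGen.iso_inv_hom_app (asIso φ) U b
    have hab' : (asIso φ).hom.app U a = (asIso φ).hom.app U b := hab
    rw [← h1, ← h2, hab']
  · intro z
    exact ⟨(asIso φ).inv.app U z, Groth.Agent.Helper4.TensorGen.iso_hom_inv_app (asIso φ) U z⟩

/-- **Nakayama for sheaves** -/
theorem isIso_of_fibres {M N : T.Modules} [M.IsQuasicoherent]
    (hM : SheafOfModules.IsFiniteType (R := T.ringCatSheaf) M) (hN : FlatMod.IsFinLocFree N)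
    (β : M ⟶ N)
    (h : ∀ t : T, IsIso ((Scheme.Modules.pullback (T.fromSpecResidueField t)).map β)) :
    IsIso β := by
  haveI : N.IsQuasicoherent :=
    Groth.Agent.Helper4.FinLocFree4.isQuasicoherent_of_isFinLocFree N hN
  apply Groth.Agent.Helper4.QcohLocal.isIso_of_app_bijective_of_affine_cover
  intro x
  obtain ⟨U, hU, n, hxU, ⟨b⟩⟩ := Groth.Agent.Helper4.FinLocFree2.exists_affine_basis N hN x
  refine ⟨U, hU, hxU, ?_⟩
  haveI : Module.Finite Γ(T, U) Γ(M, U) :=
    Groth.Agent.Helper4.SecDict.finite_sections hU M inferInstance hM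
  haveI : Module.Free Γ(T, U) Γ(N, U) := Module.Free.of_basis b
  haveI : Module.Finite Γ(T, U) Γ(N, U) := Module.Finite.of_basis b
  let βU : Γ(M, U) →ₗ[Γ(T, U)] Γ(N, U) :=
    { toFun := β.app U
      map_add' := fun a b => map_add (β.app U).hom a b
      map_smul' := fun r a => Scheme.Modules.Hom.app_smul β r a }
  show Function.Bijective βU
  apply bijective_of_fibres
  intro p
  set t := hU.fromSpec p with ht
  have htU : t ∈ U := by
    have : t ∈ Set.range hU.fromSpec := ⟨p, rfl⟩
    rw [hU.range_fromSpec] at this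
    exact this
  have e : (⊤ : (Spec (T.residueField t)).Opens) ≤ (T.fromSpecResidueField t) ⁻¹ᵁ U := by
    intro s _
    show (T.fromSpecResidueField t) s ∈ U
    rw [Scheme.fromSpecResidueField_apply]
    exact htU
  have hfield : IsField Γ(Spec (T.residueField t), ⊤) :=
    MulEquiv.isField (Field.toIsField (T.residueField t))
      (Scheme.ΓSpecIso (T.residueField t)).commRingCatIsoToRingEquiv.toMulEquiv
  letI : Field Γ(Spec (T.residueField t), ⊤) := hfield.toField
  letI alg : Algebra Γ(T, U) Γ(Spec (T.residueField t), ⊤) :=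
    ((T.fromSpecResidueField t).appLE U ⊤ e).hom.toAlgebra
  letI : Module Γ(T, U) Γ((Scheme.Modules.pullback (T.fromSpecResidueField t)).obj M, ⊤) :=
    Module.compHom _ ((T.fromSpecResidueField t).appLE U ⊤ e).hom
  haveI : IsScalarTower Γ(T, U) Γ(Spec (T.residueField t), ⊤)
      Γ((Scheme.Modules.pullback (T.fromSpecResidueField t)).obj M, ⊤) :=
    IsScalarTower.of_compHom _ _ _
  letI : Module Γ(T, U) Γ((Scheme.Modules.pullback (T.fromSpecResidueField t)).obj N, ⊤) :=
    Module.compHom _ ((T.fromSpecResidueField t).appLE U ⊤ e).hom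
  haveI : IsScalarTower Γ(T, U) Γ(Spec (T.residueField t), ⊤)
      Γ((Scheme.Modules.pullback (T.fromSpecResidueField t)).obj N, ⊤) :=
    IsScalarTower.of_compHom _ _ _
  refine ⟨Γ(Spec (T.residueField t), ⊤), inferInstance, alg, ?_, ?_⟩
  · ext a
    rw [RingHom.mem_ker]
    exact appLE_fromSpecResidueField_eq_zero_iff hU p e a
  · obtain ⟨ρM, hρM, hbcM⟩ := exists_isBaseChange_pbSec (T.fromSpecResidueField t) M hU
      (isAffineOpen_top _) e
    obtain ⟨ρN, hρN, hbcN⟩ := exists_isBaseChange_pbSec (T.fromSpecResidueField t) N hU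
      (isAffineOpen_top _) e
    haveI := h t
    refine bijective_lTensor_of_isBaseChange ρM hbcM ρN hbcN βU
      (((Scheme.Modules.pullback (T.fromSpecResidueField t)).map β).app ⊤)
      (fun x y => map_add (((Scheme.Modules.pullback (T.fromSpecResidueField t)).map β).app
        ⊤).hom x y)
      (fun r x => Scheme.Modules.Hom.app_smul _ r x) ?_ ?_
    · intro m
      rw [hρM, hρN]
      exact (pbSec_naturality (T.fromSpecResidueField t) β U ⊤ e m).symm
    · exact app_bijective_of_isIso _ ⊤

end Groth.Agent.Helper1.HT
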