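import Mathlib
import Groth.Prelude
import Groth.Agent.Lead.ProperFinA
import Groth.Agent.Helper9.Betti2

set_option autoImplicit false
set_option linter.style.haveILetI false
set_option linter.unusedSectionVars false
set_option linter.unusedVariables false

/-!
# `H⁰` of a free module on a scheme over a field with only constant global functions
-/

namespace Groth.Agent.Helper1.FibFree

open CategoryTheory Limits AlgebraicGeometry TopologicalSpace Opposite
open Groth.Agent.Helper9.Betti2

universe u

variable {Z : Scheme.{u}}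

/-- `H⁰(Z, M) ≃ Γ(Z, M)`, linearly over the global functions -/
noncomputable def h0LinEquiv (M : Z.Modules) :
    Coh.HH Z M 0 ≃ₗ[Coh.Γtop Z] ((Γf Z).obj M : ModuleCat.{u} (Coh.Γtop Z)) :=
  { (Groth.Agent.Lead.ProperFinA.h0Equiv M) with
    map_smul' := by
      intro a x
      exact Groth.Agent.Lead.ProperFinA.h0Equiv_smul M a x }

/-- `H⁰` of a free module is free over the global functions -/
noncomputable def h0FreeEquiv (r : ℕ) :
    Coh.HH Z (FlatMod.freeMod Z r) 0 ≃ₗ[Coh.Γtop Z] (Fin r → Coh.Γtop Z) :=
  (h0LinEquiv (FlatMod.freeMod Z r)).trans (ΓfFreeIso Z r).toLinearEquiv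

/-- the dimension of `H⁰` of a free module of rank `r`, when the global functions are the
constants -/
theorem finrank_HH_zero_freeMod {K : Type u} [Field K] [Z.Over (Spec (CommRingCat.of K))]
    (hbij : Function.Bijective (Coh.toGlobal (Z ↘ Spec (CommRingCat.of K)))) (r : ℕ) :
    Module.finrank K (Coh.HH Z (FlatMod.freeMod Z r) 0) = r := by
  let σ : K ≃+* Coh.Γtop Z := RingEquiv.ofBijective _ hbij
  let E₀ : Coh.HH Z (FlatMod.freeMod Z r) 0 ≃+ (Fin r → K) :=
    (h0FreeEquiv (Z := Z) r).toAddEquiv.trans
      (AddEquiv.piCongrRight (fun _ : Fin r => σ.symm.toAddEquiv))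
  let E : Coh.HH Z (FlatMod.freeMod Z r) 0 ≃ₗ[K] (Fin r → K) :=
    { E₀ with
      map_smul' := by
        intro a x
        have h1 : a • x = (σ a : Coh.Γtop Z) • x := rfl
        ext i
        change σ.symm ((h0FreeEquiv (Z := Z) r) (a • x) i) =
          a * σ.symm ((h0FreeEquiv (Z := Z) r) x i)
        rw [h1, map_smul, Pi.smul_apply, smul_eq_mul, map_mul, RingEquiv.symm_apply_apply] }
  rw [E.finrank_eq, Module.finrank_fin_fun]

end Groth.Agent.Helper1.FibFree
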