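import Mathlib
import Groth.Agent.Helper1.FlatTw8
import Groth.Agent.Helper1.FibFree1
import Groth.Agent.Lead.ProperFinA

set_option autoImplicit false
set_option linter.style.haveILetI false
set_option linter.unusedSectionVars false

universe u
open CategoryTheory Limits AlgebraicGeometry TopologicalSpace Opposite
open Groth.Agent.Helper4.TensorInv Groth.Agent.Helper4.TensorAssoc Groth.Agent.Helper4.TensorRes
open Groth.Agent.Helper1.FlatTw

namespace Groth.Agent.Helper1.HP

variable (A : Type u) [CommRing A] {X : Scheme.{u}} [X.Over (Spec (CommRingCat.of A))]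

theorem flatAlong_of_flat_HH (G : X.Modules) (h : Module.Flat A (Coh.HH X G 0)) :
    FlatAlong (X ↘ Spec (CommRingCat.of A)).appTop.hom Γ(G, ⊤) := by
  classical
  intro l c x hx
  let ι := Groth.Agent.Lead.ProperFinA.h0Equiv G
  have hι : ∀ (r : Coh.Γtop X) (z : Coh.HH X G 0), ι (r • z) =
      @HSMul.hSMul (X.ringCatSheaf.obj.obj (op ⊤)) (G.val.obj (op ⊤)) (G.val.obj (op ⊤)) _ r (ι z) :=
    fun r z => Groth.Agent.Lead.ProperFinA.h0Equiv_smul G r z
  let c' : Fin l → A := fun i => (Scheme.ΓSpecIso (CommRingCat.of A)).hom.hom (c i)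
  have hc' : ∀ i, Coh.toGlobal (X ↘ Spec (CommRingCat.of A)) (c' i) =
      (X ↘ Spec (CommRingCat.of A)).appTop.hom (c i) := by
    intro i
    show (X ↘ Spec (CommRingCat.of A)).appTop.hom
      ((Scheme.ΓSpecIso (CommRingCat.of A)).inv.hom
        ((Scheme.ΓSpecIso (CommRingCat.of A)).hom.hom (c i))) = _
    congr 1
    have := congrArg (fun φ => φ.hom (c i)) (Scheme.ΓSpecIso (CommRingCat.of A)).hom_inv_id
    exact this
  let x' : Fin l → Coh.HH X G 0 := fun i => ι.symm (x i)
  have hx' : ∑ i, c' i • x' i = 0 := by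
    apply ι.injective
    rw [map_zero, map_sum]
    refine Eq.trans ?_ hx
    apply Finset.sum_congr rfl
    intro i _
    show ι ((Coh.toGlobal (X ↘ Spec (CommRingCat.of A)) (c' i)) • x' i) = _
    rw [hι, hc', AddEquiv.apply_symm_apply]
    rfl
  obtain ⟨k, a', y', hy1, hy2⟩ := (Module.Flat.iff_forall_isTrivialRelation.1 h) hx'
  refine ⟨k, fun i j => (Scheme.ΓSpecIso (CommRingCat.of A)).inv.hom (a' i j),
    fun j => ι (y' j), fun i => ?_, fun j => ?_⟩
  · have h1 := congrArg ι (hy1 i)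
    rw [AddEquiv.apply_symm_apply, map_sum] at h1
    rw [h1]
    apply Finset.sum_congr rfl
    intro j _
    show ι ((Coh.toGlobal (X ↘ Spec (CommRingCat.of A)) (a' i j)) • y' j) = _
    rw [hι]
    rfl
  · have h2 := congrArg (Scheme.ΓSpecIso (CommRingCat.of A)).inv.hom (hy2 j)
    rw [map_zero, map_sum] at h2
    rw [← h2]
    apply Finset.sum_congr rfl
    intro i _
    rw [map_mul]
    congr 1
    have := congrArg (fun φ => φ.hom (c i)) (Scheme.ΓSpecIso (CommRingCat.of A)).hom_inv_id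
    exact this.symm

/-- **flatness from flatness of the sections of the large twists**, over an affine base -/
theorem isFlatOver_of_flat_HH_twist [QuasiCompact (X ↘ Spec (CommRingCat.of A))]
    [QuasiSeparated (X ↘ Spec (CommRingCat.of A))] {L : X.Modules} (hL : CohB1.IsAmple L)
    (F : X.Modules) [F.IsQuasicoherent] (n₀ : ℕ)
    (h : ∀ n : ℕ, n₀ ≤ n →
      Module.Flat A (Coh.HH X (CohB1.tensorMod F (CohB1.tensorPow L n)) 0)) :
    FlatMod.IsFlatOver (X ↘ Spec (CommRingCat.of A)) F := by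
  intro x
  obtain ⟨hLinv, hcpt, hpts⟩ := hL
  haveI : CompactSpace X := hcpt
  haveI : QuasiSeparatedSpace X :=
    quasiSeparatedSpace_of_quasiSeparated (X ↘ Spec (CommRingCat.of A))
  obtain ⟨m, σ, hxW, hWaff⟩ := hpts x
  have hM : PicF.IsInvertible (CohB1.tensorPow L (m + 1)) := isInvertible_tensorPow hLinv (m + 1)
  have key : ∀ k : ℕ, n₀ ≤ k → FlatAlong (X ↘ Spec (CommRingCat.of A)).appTop.hom
      Γ(CohB1.tensorMod F (CohB1.tensorPow (CohB1.tensorPow L (m + 1)) k), ⊤) := by
    intro k hk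
    have hN : n₀ ≤ (m + 1) * k := hk.trans (Nat.le_mul_of_pos_left k (Nat.succ_pos m))
    have h1 := flatAlong_of_flat_HH A _ (h _ hN)
    exact FlatAlong.of_iso _
      (PicGrp.tensorModIso (Iso.refl F) (powMulIso L hLinv (m + 1) k)).symm h1
  have hfl := flatAlong_genLocus hM σ F (X ↘ Spec (CommRingCat.of A)).appTop.hom n₀ key
  set W := CohB1.genLocus (CohB1.tensorPow L (m + 1)) σ with hW
  have e : W ≤ (X ↘ Spec (CommRingCat.of A)) ⁻¹ᵁ ⊤ := le_top
  have hfl' : FlatAlong ((X ↘ Spec (CommRingCat.of A)).appLE ⊤ W e).hom Γ(F, W) := by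
    refine FlatAlong.congr ?_ hfl
    ext a
    simp [Scheme.Hom.appLE, Scheme.Hom.appTop]
  exact (Groth.Agent.Helper5.AffFlat.flat_sections_iff (X ↘ Spec (CommRingCat.of A)) F
    (isAffineOpen_top (Spec (CommRingCat.of A))) hWaff e).2 ((flatAlong_iff _ _).1 hfl') x hxW

end Groth.Agent.Helper1.HP
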