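import Groth.Agent.Helper1.Bridge6

set_option autoImplicit false

/-!
# Fibres over an affine base: `fiberRank = dRank` of the Čech complex
-/

namespace Groth.Agent.Helper1.Bridge

open CategoryTheory Limits MonoidalCategory HomologicalComplex AlgebraicGeometry TensorProduct
open Groth.Agent.Helper1.FlatCx Groth.Agent.Helper1.ACech Groth.Agent.Helper1.NatCech
open Groth.Agent.Helper1.BCFlatCoh

universe u

lemma toGlobal_comp_SpecMap {Z : Scheme.{u}} {R k : Type u} [CommRing R] [CommRing k]
    (g : Z ⟶ Spec (CommRingCat.of R)) (φ : CommRingCat.of k ⟶ CommRingCat.of R) (a : k) :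
    Coh.toGlobal (g ≫ Spec.map φ) a = Coh.toGlobal g (φ.hom a) := by
  rw [Groth.Agent.Helper1.AffLin.toGlobal_comp]
  have e : Coh.toGlobal (Spec.map φ) a =
      (Scheme.ΓSpecIso (CommRingCat.of R)).inv.hom (φ.hom a) := by
    have := Scheme.ΓSpecIso_inv_naturality φ
    exact (ConcreteCategory.congr_hom this a).symm
  rw [e]
  rfl

variable (A : Type u) [CommRing A] {X : Scheme.{u}} [X.Over (Spec (CommRingCat.of A))]
  (y : PrimeSpectrum A) (F : X.Modules) (p : ℕ)

theorem fiberRank_eq_finrank :
    CohIII.fiberRank (X ↘ Spec (CommRingCat.of A)) F p y =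
      letI := fiberOver A (X := X) y
      Module.finrank y.asIdeal.ResidueField
        (Coh.HH ((X ↘ Spec (CommRingCat.of A)).fiber y)
          (CohIII.fiberMod (X ↘ Spec (CommRingCat.of A)) F y) p) := by
  letI := fiberOver A (X := X) y
  unfold CohIII.fiberRank Module.finrank
  congr 1
  refine rank_eq_of_equiv_equiv (resIso A y).hom.hom (AddEquiv.refl _)
    (resIso A y).commRingCatIsoToRingEquiv.bijective ?_
  intro r m
  have h := toGlobal_comp_SpecMap
    ((X ↘ Spec (CommRingCat.of A)).fiberToSpecResidueField y) (resIso A y).inv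
    ((resIso A y).hom.hom r)
  have h2 : (resIso A y).inv.hom ((resIso A y).hom.hom r) = r := by
    change ((resIso A y).hom ≫ (resIso A y).inv).hom r = r
    rw [Iso.hom_inv_id]
    rfl
  replace h := h.trans (congrArg (Coh.toGlobal
      ((X ↘ Spec (CommRingCat.of A)).fiberToSpecResidueField y)) h2)
  change Sheaf.H.map (Coh.smulAb _ (Coh.toGlobal
      ((X ↘ Spec (CommRingCat.of A)).fiberToSpecResidueField y) r)) p m =
    Sheaf.H.map (Coh.smulAb _ (Coh.toGlobal
      ((X ↘ Spec (CommRingCat.of A)).fiberToSpecResidueField y ≫ Spec.map (resIso A y).inv)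
        ((resIso A y).hom.hom r))) p m
  exact congrArg (fun z => Sheaf.H.map (Coh.smulAb
    (CohIII.fiberMod (X ↘ Spec (CommRingCat.of A)) F y) z) p m) h.symm

end Groth.Agent.Helper1.Bridge
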