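import Groth.Agent.Helper1.FBC1
import Groth.Agent.Lead.BCMap11

set_option autoImplicit false
set_option linter.unusedVariables false
set_option linter.style.haveILetI false
universe u
open CategoryTheory CategoryTheory.Limits AlgebraicGeometry TopologicalSpace Opposite TensorProduct

/-!
# Algebraic preliminaries for base change along a pushout of rings
-/

noncomputable section

namespace Groth.Agent.Helper1.FBC

/-- a base change along `A → A'` is a base change along `R → R'` when `A' = A ⊗_R R'` -/
theorem isBaseChange_restrictScalars_of_isPushout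
    {R R' A A' M N : Type u} [CommRing R] [CommRing R'] [CommRing A] [CommRing A']
    [Algebra R R'] [Algebra R A] [Algebra A A'] [Algebra R' A'] [Algebra R A']
    [IsScalarTower R A A'] [IsScalarTower R R' A'] [Algebra.IsPushout R R' A A']
    [AddCommGroup M] [Module R M] [Module A M] [IsScalarTower R A M]
    [AddCommGroup N] [Module A N] [Module A' N] [IsScalarTower A A' N]
    [Module R N] [IsScalarTower R A N] [Module R' N] [IsScalarTower R' A' N]
    [IsScalarTower R R' N]
    (ρ : M →ₗ[A] N) (h : IsBaseChange A' ρ) : IsBaseChange R' (ρ.restrictScalars R) := by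
  refine IsBaseChange.of_equiv
    ((Algebra.IsPushout.cancelBaseChange R R' A A' M).symm ≪≫ₗ (h.equiv.restrictScalars R')) ?_
  intro x
  show h.equiv ((Algebra.IsPushout.cancelBaseChange R R' A A' M).symm (1 ⊗ₜ x)) = ρ x
  rw [Algebra.IsPushout.cancelBaseChange_symm_tmul, map_one, IsBaseChange.equiv_tmul, one_smul]

/-- two base changes of the same module, one along `R → R'` and one along `A → A'` with
`A' = A ⊗_R R'`, are identified by any compatible linear map -/
theorem bijective_of_isBaseChange_of_isPushout'
    {R R' A A' M N₁ N₂ : Type u} [CommRing R] [CommRing R'] [CommRing A] [CommRing A']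
    [Algebra R R'] [Algebra R A] [Algebra A A'] [Algebra R' A'] [Algebra R A']
    [IsScalarTower R A A'] [IsScalarTower R R' A'] [Algebra.IsPushout R R' A A']
    [AddCommGroup M] [Module R M] [Module A M] [IsScalarTower R A M]
    [AddCommGroup N₁] [Module R N₁] [Module R' N₁] [IsScalarTower R R' N₁]
    [AddCommGroup N₂] [Module A N₂] [Module A' N₂] [IsScalarTower A A' N₂]
    [Module R' N₂] [IsScalarTower R' A' N₂]
    (ρ₁ : M →ₗ[R] N₁) (h₁ : IsBaseChange R' ρ₁) (ρ₂ : M →ₗ[A] N₂) (h₂ : IsBaseChange A' ρ₂)
    (β : N₂ →ₗ[R'] N₁) (hβ : ∀ m, β (ρ₂ m) = ρ₁ m) : Function.Bijective β := by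
  let E₂ : R' ⊗[R] M ≃ₗ[R'] N₂ :=
    (Algebra.IsPushout.cancelBaseChange R R' A A' M).symm ≪≫ₗ (h₂.equiv.restrictScalars R')
  have key : ∀ t : R' ⊗[R] M, β (E₂ t) = h₁.equiv t := by
    intro t
    induction t using TensorProduct.induction_on with
    | zero => simp
    | tmul r' m =>
      have h3 : E₂ (r' ⊗ₜ m) = r' • ρ₂ m := by
        change h₂.equiv ((Algebra.IsPushout.cancelBaseChange R R' A A' M).symm (r' ⊗ₜ m)) = _
        rw [Algebra.IsPushout.cancelBaseChange_symm_tmul, IsBaseChange.equiv_tmul,
          algebraMap_smul]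
      rw [h3, map_smul, hβ, IsBaseChange.equiv_tmul]
    | add x y hx hy => rw [map_add, map_add, map_add, hx, hy]
  have hβ' : (β : N₂ → N₁) = h₁.equiv ∘ E₂.symm := by
    funext n
    obtain ⟨t, rfl⟩ := E₂.surjective n
    rw [key]
    simp
  rw [hβ']
  exact h₁.equiv.bijective.comp E₂.symm.bijective

section toGlobal

variable {X : Scheme.{u}} {R A : Type u} [CommRing R] [CommRing A]

/-- the global functions attached to a composite `X ⟶ Spec A ⟶ Spec R` -/
theorem toGlobal_comp_specMap (φ : X ⟶ Spec (CommRingCat.of A)) (ψ : R →+* A) (r : R) :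
    Coh.toGlobal (φ ≫ Spec.map (CommRingCat.ofHom ψ)) r = Coh.toGlobal φ (ψ r) := by
  unfold Coh.toGlobal
  have h1 := Scheme.ΓSpecIso_inv_naturality (CommRingCat.ofHom ψ)
  have h2 := congrArg (fun t => t.hom r) h1
  simp only [CommRingCat.hom_comp, RingHom.coe_comp, Function.comp_apply] at h2
  simp only [Scheme.Hom.comp_appTop, CommRingCat.hom_comp, RingHom.coe_comp, Function.comp_apply]
  exact congrArg (fun t => φ.appTop.hom t) h2.symm

end toGlobal

end Groth.Agent.Helper1.FBC
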