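import Mathlib
import Groth.Agent.Helper1.TensorLin1
import Groth.Prelude.Def_DDual2
import Groth.Prelude.Def_KoszTw

/-!
# HP1: `- ⊗ B` is linear over the base ring
-/

set_option autoImplicit false
set_option linter.style.haveILetI false
set_option linter.unusedSectionVars false

universe u
open CategoryTheory CategoryTheory.Limits AlgebraicGeometry Opposite MonoidalCategory
open Groth.Agent.Helper9.TensorSh Groth.Agent.Helper9.TensorAdj Groth.Agent.Helper9.TensorFlat
open Groth.Agent.Helper1.TensorLin

namespace Groth.Agent.Helper1.HP

variable {X : Scheme.{u}}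

/-- whiskering a multiplication on the right is a multiplication -/
lemma whiskerRight_smulP (P Q : PM X.sheaf) (r : Coh.Γtop X) :
    smulP P r ▷ Q = smulP (P ⊗ Q) r := by
  apply PresheafOfModules.hom_ext
  intro U
  rw [PresheafOfModules.whiskerRight_app]
  apply ModuleCat.MonoidalCategory.tensor_ext
  intro p q
  rw [ModuleCat.MonoidalCategory.whiskerRight_apply]
  exact (TensorProduct.smul_tmul' (res U r) p q).symm

/-- **`(r · id_M) ⊗ B = r · id_{M ⊗ B}`** -/
theorem tensorRightMod_map_smulModΓ (M B : X.Modules) (r : Coh.Γtop X) :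
    (DCoh.tensorRightMod B).map (Formal.smulModΓ M r) =
      Formal.smulModΓ ((DCoh.tensorRightMod B).obj M) r := by
  show (a X.sheaf).map ((ι X.sheaf).map (Formal.smulModΓ M r) ▷ (ι X.sheaf).obj B) = _
  rw [ι_map_smulModΓ, whiskerRight_smulP]
  exact a_map_smulP _ r

section Over

variable (A : Type u) [CommRing A] [X.Over (Spec (CommRingCat.of A))]

/-- `- ⊗ B` is linear over the base ring -/
instance linear_tensorRightMod (B : X.Modules) : (DCoh.tensorRightMod B).Linear A where
  map_smul {M N} f a := by
    rw [KLin.smul_def, Functor.map_comp, KLin.smul_def]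
    congr 1
    exact tensorRightMod_map_smulModΓ M B _

end Over

end Groth.Agent.Helper1.HP
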