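import Groth.Agent.Helper1.ZarIso8
import Groth.Agent.Helper1.FormA
import Groth.Agent.Helper1.Dev4
import Groth.Agent.Lead.ThickBC
import Groth.Agent.Helper4.QcohLimits

set_option autoImplicit false
set_option linter.style.haveILetI false

/-!
# `O_X ⟶ i_* O_{X_J}` exhibits `i_* O_{X_J}` as `O_X / J O_X`

For `X` over `Spec A`, an ideal `J` of `A` and `i : X_J ⟶ X` the base change of
`Spec (A/J) ⟶ Spec A`, the canonical morphism `O_X ⟶ i_* O_{X_J}` is a quotient map modulo `J`
in the sense of `Form.IsQuot`.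
-/

namespace Groth.Agent.Helper1.QuotPush

open CategoryTheory Limits AlgebraicGeometry Opposite
open Groth.Agent.Helper1.Form Groth.Agent.Helper1.ZarIso Groth.Agent.Helper4

universe u

variable {A : Type u} [CommRing A] {X : Scheme.{u}} [X.Over (Spec (CommRingCat.of A))]

/-- the ring map `A → Γ(X, U)` -/
noncomputable def ρ (U : X.Opens) : A →+* Γ(X, U) :=
  (Coh.resTop X (op U)).comp (Coh.toGlobal (X ↘ Spec (CommRingCat.of A)))

lemma smulMod_app (M : X.Modules) (a : A) (U : X.Opens) (m : Γ(M, U)) :
    (Formal.smulMod A M a).app U m = (ρ (A := A) U a) • m := rfl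

lemma smul_hom_app {M N : X.Modules} (f : M ⟶ N) (a : A) (U : X.Opens) (m : Γ(M, U)) :
    (a • f).app U m = f.app U ((ρ (A := A) U a) • m) := rfl

lemma ker_specMap_appTop (J : Ideal A) :
    RingHom.ker ((Spec.map (CommRingCat.ofHom (Ideal.Quotient.mk J))).app ⊤).hom =
      J.map (Scheme.ΓSpecIso (CommRingCat.of A)).inv.hom := by
  have hinv : ∀ a : A, (Scheme.ΓSpecIso (CommRingCat.of A)).hom.hom
      ((Scheme.ΓSpecIso (CommRingCat.of A)).inv.hom a) = a := fun a => by
    have := congrArg (fun φ => φ.hom a) (Scheme.ΓSpecIso (CommRingCat.of A)).inv_hom_id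
    exact this
  have hinv' : ∀ x, (Scheme.ΓSpecIso (CommRingCat.of A)).inv.hom
      ((Scheme.ΓSpecIso (CommRingCat.of A)).hom.hom x) = x := fun x => by
    have := congrArg (fun φ => φ.hom x) (Scheme.ΓSpecIso (CommRingCat.of A)).hom_inv_id
    exact this
  have hnat : ∀ x, (Scheme.ΓSpecIso (CommRingCat.of (A ⧸ J))).hom.hom
      ((Spec.map (CommRingCat.ofHom (Ideal.Quotient.mk J))).appTop.hom x) =
      Ideal.Quotient.mk J ((Scheme.ΓSpecIso (CommRingCat.of A)).hom.hom x) := fun x => by
    have := congrArg (fun φ => φ.hom x)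
      (Scheme.ΓSpecIso_naturality (CommRingCat.ofHom (Ideal.Quotient.mk J)))
    exact this
  have hinj : Function.Injective (Scheme.ΓSpecIso (CommRingCat.of (A ⧸ J))).hom.hom := by
    intro a b hab
    have h1 := congrArg (Scheme.ΓSpecIso (CommRingCat.of (A ⧸ J))).inv.hom hab
    have h2 : ∀ x, (Scheme.ΓSpecIso (CommRingCat.of (A ⧸ J))).inv.hom
      ((Scheme.ΓSpecIso (CommRingCat.of (A ⧸ J))).hom.hom x) = x := fun x => by
      have := congrArg (fun φ => φ.hom x) (Scheme.ΓSpecIso (CommRingCat.of (A ⧸ J))).hom_inv_id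
      exact this
    rwa [h2, h2] at h1
  apply le_antisymm
  · intro x hx
    rw [RingHom.mem_ker] at hx
    have hx' : (Spec.map (CommRingCat.ofHom (Ideal.Quotient.mk J))).appTop.hom x = 0 := hx
    have h1 := hnat x
    rw [hx', map_zero] at h1
    have h2 : (Scheme.ΓSpecIso (CommRingCat.of A)).hom.hom x ∈ J :=
      Ideal.Quotient.eq_zero_iff_mem.mp h1.symm
    rw [← hinv' x]
    exact Ideal.mem_map_of_mem _ h2
  · rw [Ideal.map_le_iff_le_comap]
    intro a ha
    rw [Ideal.mem_comap, RingHom.mem_ker]
    change (Spec.map (CommRingCat.ofHom (Ideal.Quotient.mk J))).appTop.hom _ = 0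
    apply hinj
    rw [hnat, hinv, map_zero]
    exact Ideal.Quotient.eq_zero_iff_mem.mpr ha

variable (J : Ideal A) {XJ : Scheme.{u}} {i : XJ ⟶ X} {fJ : XJ ⟶ Spec (CommRingCat.of (A ⧸ J))}
  (hsq : IsPullback i fJ (X ↘ Spec (CommRingCat.of A))
    (Spec.map (CommRingCat.ofHom (Ideal.Quotient.mk J))))

include hsq in
lemma ker_app_eq {U : X.Opens} (hU : IsAffineOpen U) :
    RingHom.ker (i.app U).hom = J.map (ρ (A := A) U) := by
  haveI : IsClosedImmersion (Spec.map (CommRingCat.ofHom (Ideal.Quotient.mk J))) :=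
    IsClosedImmersion.spec_of_surjective _ Ideal.Quotient.mk_surjective
  have e : U ≤ (X ↘ Spec (CommRingCat.of A)) ⁻¹ᵁ ⊤ := fun _ _ => trivial
  have h := Groth.Agent.Lead.ThickBC.ker_app_eq_map hsq
    ⟨⊤, isAffineOpen_top (Spec (CommRingCat.of A))⟩ ⟨U, hU⟩ e
  rw [h, ker_specMap_appTop, Ideal.map_map]
  rfl


include hsq in
/-- **`O_X ⟶ i_* O_{X_J}` is the quotient of `O_X` modulo `J`.** -/
theorem isQuot_unitToPush : IsQuot J (unitToPush i) := by
  haveI : IsClosedImmersion (Spec.map (CommRingCat.ofHom (Ideal.Quotient.mk J))) :=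
    IsClosedImmersion.spec_of_surjective _ Ideal.Quotient.mk_surjective
  haveI : IsClosedImmersion i := Groth.Agent.Lead.ThickBC.isClosedImmersion_of_isPullback hsq
  haveI : (Coh.structureModule X).IsQuasicoherent :=
    (Groth.Agent.Helper1.Dev.isCoh_structureModule X).1
  haveI : (Coh.structureModule XJ).IsQuasicoherent :=
    (Groth.Agent.Helper1.Dev.isCoh_structureModule XJ).1
  haveI : ((Scheme.Modules.pushforward i).obj (Coh.structureModule XJ)).IsQuasicoherent :=
    QcohGlue.isQuasicoherent_pushforward i _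
  haveI hepi : Epi (unitToPush i) := by
    apply QcohLocal.epi_of_app_surjective_of_affine_cover
    intro x
    obtain ⟨U, hU, hx⟩ := QcohLimits.exists_affine_nhd x
    exact ⟨U, hU, hx, i.app_surjective U hU⟩
  have hkills : Kills J (unitToPush i) := by
    intro a ha
    apply QcohLocal.eq_zero_of_app_eq_zero_of_affine_cover
    intro x
    obtain ⟨U, hU, hx⟩ := QcohLimits.exists_affine_nhd x
    refine ⟨U, hU, hx, fun m => ?_⟩
    rw [smul_hom_app]
    have h1 : ρ (A := A) U a ∈ RingHom.ker (i.app U).hom := by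
      rw [ker_app_eq J hsq hU]
      exact Ideal.mem_map_of_mem _ ha
    rw [RingHom.mem_ker] at h1
    change (i.app U).hom (ρ (A := A) U a * (show Γ(X, U) from m)) = 0
    rw [map_mul, h1, zero_mul]
  refine ⟨hepi, hkills, fun {W} f hf => ?_⟩
  haveI : (kernel (unitToPush i)).IsQuasicoherent := QcohLimits.isQuasicoherent_kernel _
  have hz : kernel.ι (unitToPush i) ≫ f = 0 := by
    apply QcohLocal.eq_zero_of_app_eq_zero_of_affine_cover
    intro x
    obtain ⟨U, hU, hx⟩ := QcohLimits.exists_affine_nhd x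
    refine ⟨U, hU, hx, fun k => ?_⟩
    change f.app U ((kernel.ι (unitToPush i)).app U k) = 0
    set r : Γ(X, U) := (kernel.ι (unitToPush i)).app U k with hr
    have h1 : (i.app U).hom r = 0 := by
      have := congrArg (fun φ => (Scheme.Modules.Hom.app φ U) k) (kernel.condition (unitToPush i))
      exact this
    have h2 : r ∈ J.map (ρ (A := A) U) := by
      rw [← ker_app_eq J hsq hU, RingHom.mem_ker]
      exact h1
    have key : ∀ r' : Γ(X, U), r' ∈ J.map (ρ (A := A) U) →
        f.app U (show Γ(Coh.structureModule X, U) from r') = 0 := by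
      intro r' hr'
      refine Submodule.span_induction ?_ ?_ ?_ ?_ hr'
      · rintro _ ⟨a, ha, rfl⟩
        have h3 : (a • f).app U (show Γ(Coh.structureModule X, U) from (1 : Γ(X, U))) = 0 := by
          rw [hf a ha]
          rfl
        have h4 : (ρ (A := A) U a) • (show Γ(Coh.structureModule X, U) from (1 : Γ(X, U))) =
            (show Γ(Coh.structureModule X, U) from ρ (A := A) U a) :=
          mul_one (ρ (A := A) U a)
        have h5 := smul_hom_app f a U (show Γ(Coh.structureModule X, U) from (1 : Γ(X, U)))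
        rw [h4] at h5
        exact h5.symm.trans h3
      · exact map_zero _
      · intro a b _ _ ha hb
        have : f.app U (show Γ(Coh.structureModule X, U) from a + b) =
            f.app U (show Γ(Coh.structureModule X, U) from a) +
            f.app U (show Γ(Coh.structureModule X, U) from b) := map_add _ _ _
        rw [this, ha, hb, add_zero]
      · intro c b _ hb
        have : f.app U (show Γ(Coh.structureModule X, U) from c • b) =
            c • f.app U (show Γ(Coh.structureModule X, U) from b) :=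
          Scheme.Modules.Hom.app_smul f c _
        rw [this, hb, smul_zero]
    exact key r h2
  exact ⟨Abelian.epiDesc (unitToPush i) f hz, Abelian.comp_epiDesc _ _ _⟩

end Groth.Agent.Helper1.QuotPush
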