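import Mathlib
import Groth.Agent.Helper1.QuotPush1
import Groth.Agent.Helper1.Rees2
import Groth.Agent.Helper1.Dev2
import Groth.Agent.Helper4.QcohEpi
import Groth.Agent.Helper4.QcohExt
import Groth.Agent.Helper4.QcohLimits
import Groth.Agent.Lead.HomSh2

/-!
# Sections of `N/JN` over an affine open

For a quasi-coherent `N` over `X/Spec A`, an ideal `J ⊆ A` and an affine open `U`, the map
`Γ(N, U) → Γ(N/JN, U)` is surjective, kills `J·Γ(N, U)`, and (for `J` finitely generated) its
kernel is exactly `J·Γ(N, U)`.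
-/

set_option autoImplicit false
set_option linter.style.haveILetI false

namespace Groth.Agent.Helper1.KLQuot

open CategoryTheory Limits AlgebraicGeometry Opposite
open Groth.Agent.Helper1.Form Groth.Agent.Helper1.QuotPush Groth.Agent.Helper4
open Groth.Agent.Helper1.Dev

universe u

variable {A : Type u} [CommRing A] {X : Scheme.{u}} [X.Over (Spec (CommRingCat.of A))]

/-- a morphism killed by `J` kills `J·Γ(N, U)` -/
lemma app_eq_zero_of_mem_smul_top {J : Ideal A} {N N' : X.Modules} {p : N ⟶ N'}
    (hp : Kills J p) (U : X.Opens) {s : Γ(N, U)}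
    (hs : s ∈ (J.map (ρ (A := A) U)) • (⊤ : Submodule Γ(X, U) Γ(N, U))) : p.app U s = 0 := by
  have key : ∀ r ∈ J.map (ρ (A := A) U), ∀ n : Γ(N, U), p.app U (r • n) = 0 := by
    intro r hr
    refine Submodule.span_induction (p := fun r _ => ∀ n : Γ(N, U), p.app U (r • n) = 0)
      ?_ ?_ ?_ ?_ hr
    · rintro _ ⟨a, ha, rfl⟩ n
      have h1 := congrArg (fun f => f.app U n) (hp a ha)
      exact h1
    · intro n
      rw [zero_smul, map_zero]
    · intro x y _ _ hx hy n
      rw [add_smul, map_add, hx, hy, add_zero]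
    · intro x y _ hy n
      have : (x • y) • n = y • (x • n) := by
        rw [smul_eq_mul, mul_comm, mul_smul]
      rw [this, hy]
  refine Submodule.smul_induction_on hs (fun r hr n _ => key r hr n) ?_
  intro x y hx hy
  rw [map_add, hx, hy, add_zero]

lemma isQuasicoherent_of_isQuot {J : Ideal A} {N N' : X.Modules} [N.IsQuasicoherent]
    {p : N ⟶ N'} (hp : IsQuot J p) : N'.IsQuasicoherent := by
  haveI : (∐ fun _ : J => N).IsQuasicoherent :=
    QcohLimits.isQuasicoherent_sigma _ (fun _ => inferInstance)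
  haveI := QcohLimits.isQuasicoherent_cokernel (Formal.smulFamily J N)
  exact QcohLimits.isQuasicoherent_of_iso ((isQuot_cokernelπ J N).iso hp)

instance isQuasicoherent_modPow (I : Ideal A) (n : ℕ) (N : X.Modules) [N.IsQuasicoherent] :
    (Formal.modPow I n N).IsQuasicoherent :=
  isQuasicoherent_of_isQuot (isQuot_modPowπ I n N)

/-- `Γ(N, U) → Γ(N/JN, U)` is surjective for `U` affine -/
lemma app_surjective {J : Ideal A} {N N' : X.Modules} [N.IsQuasicoherent]
    {p : N ⟶ N'} (hp : IsQuot J p) {U : X.Opens} (hU : IsAffineOpen U) :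
    Function.Surjective (p.app U) := by
  haveI := hp.epi
  haveI := isQuasicoherent_of_isQuot hp
  exact QcohEpi.app_surjective_of_epi p hU

/-- the kernel of `Γ(N, U) → Γ(N/JN, U)` is `J·Γ(N, U)`, for `J` finitely generated -/
theorem mem_smul_top_of_app_eq_zero {N N' : X.Modules} [N.IsQuasicoherent] {r : ℕ}
    (g : Fin r → A) {p : N ⟶ N'} (hp : IsQuot (Ideal.span (Set.range g)) p) {U : X.Opens}
    (hU : IsAffineOpen U) (s : Γ(N, U)) (hs : p.app U s = 0) :
    s ∈ ((Ideal.span (Set.range g)).map (ρ (A := A) U)) •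
      (⊤ : Submodule Γ(X, U) Γ(N, U)) := by
  classical
  let σ : (∐ fun _ : Fin r => N) ⟶ N := Sigma.desc (fun j : Fin r => Formal.smulMod A N (g j))
  have h0 : IsQuot (Ideal.span (Set.range g)) (cokernel.π σ) :=
    Groth.Agent.Helper1.Rees.isQuot_cokernel_fin g N
  have hfac : cokernel.π σ ≫ (h0.iso hp).hom = p := h0.fac_iso_hom hp
  have hs0 : (cokernel.π σ).app U s = 0 := by
    have h1 : (h0.iso hp).hom.app U ((cokernel.π σ).app U s) = 0 :=
      (congrArg (fun f => f.app U s) hfac).trans hs
    have h2 := congrArg ((h0.iso hp).inv.app U) h1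
    rw [map_zero] at h2
    rw [← h2]
    have h3 := congrArg (fun f => f.app U ((cokernel.π σ).app U s)) (h0.iso hp).hom_inv_id
    exact h3.symm
  obtain ⟨a, ha⟩ := QcohExt.exists_of_app_g_eq_zero (imCokSC σ) (imCokSC_shortExact σ) s hs0
  haveI : (∐ fun _ : Fin r => N).IsQuasicoherent :=
    QcohLimits.isQuasicoherent_colimit (Discrete.functor fun _ : Fin r => N)
      (fun _ => ‹N.IsQuasicoherent›)
  haveI := QcohLimits.isQuasicoherent_image σ
  obtain ⟨t, ht⟩ := QcohEpi.app_surjective_of_epi (Abelian.factorThruImage σ) hU a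
  have hst : σ.app U t = s := by
    rw [← ha, ← ht]
    have := congrArg (fun f => f.app U t) (Abelian.image.fac σ)
    exact this.symm
  have htot := congrArg (fun f => f.app U t)
    (Groth.Agent.Lead.HomSh.sigma_total (I := Fin r) N)
  simp only [] at htot
  rw [Groth.Agent.Lead.HomSh.sum_app_apply] at htot
  have hs' : s = ∑ i : Fin r, ρ (A := A) U (g i) •
      (Sigma.desc (fun j : Fin r => if j = i then 𝟙 N else 0)).app U t := by
    rw [← hst]
    conv_lhs => rw [← show _ = t from htot]
    rw [map_sum]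
    refine Finset.sum_congr rfl fun i _ => ?_
    have h1 : Sigma.ι (fun _ : Fin r => N) i ≫ σ = Formal.smulMod A N (g i) :=
      Sigma.ι_desc _ _
    have h2 := congrArg (fun f => f.app U
      ((Sigma.desc (fun j : Fin r => if j = i then 𝟙 N else 0)).app U t)) h1
    exact h2
  rw [hs']
  refine Submodule.sum_mem _ fun i _ => ?_
  exact Submodule.smul_mem_smul
    (Ideal.mem_map_of_mem _ (Ideal.subset_span ⟨i, rfl⟩)) Submodule.mem_top

end Groth.Agent.Helper1.KLQuot
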