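import Groth.Agent.Helper1.GammaLin1

set_option autoImplicit false

/-!
# `H⁰ = Γ` naturally, and upgrading additive natural isomorphisms to linear ones
-/

namespace Groth.Agent.Helper1.GammaLin

open CategoryTheory Limits Opposite TopologicalSpace AlgebraicGeometry

universe u

section H0

variable (A : Type u) [CommRing A] {X : Scheme.{u}} [X.Over (Spec (CommRingCat.of A))]

/-- `H⁰(X, G) ≅ Γ(X, G)` naturally in `G` -/
noncomputable def h0Iso : CohIII.HAb X 0 ≅
    CohIII.globalSectionsA A ⋙ forget₂ (ModuleCat.{u} A) AddCommGrpCat.{u} :=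
  NatIso.ofComponents (fun G =>
    (Sheaf.H.equiv₀ ((SheafOfModules.toSheaf X.ringCatSheaf).obj G)
      (Limits.isTerminalTop (α := X.Opens))).toAddCommGrpIso)
    (by
      intro G G' φ
      apply AddCommGrpCat.hom_ext
      apply AddMonoidHom.ext
      intro x
      exact (Sheaf.H.equiv₀_naturality (Limits.isTerminalTop (α := X.Opens))
        ((SheafOfModules.toSheaf X.ringCatSheaf).map φ) x).symm)

end H0

section upgrade

variable {A : Type u} [CommRing A] {G G' : ModuleCat.{u} A ⥤ ModuleCat.{u} A}
  (hG : ∀ (M : ModuleCat.{u} A) (a : A), G.map (a • 𝟙 M) = a • 𝟙 (G.obj M))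
  (hG' : ∀ (M : ModuleCat.{u} A) (a : A), G'.map (a • 𝟙 M) = a • 𝟙 (G'.obj M))
  (e : G ⋙ forget₂ (ModuleCat.{u} A) AddCommGrpCat.{u} ≅
    G' ⋙ forget₂ (ModuleCat.{u} A) AddCommGrpCat.{u})

/-- the additive map underlying `e.hom` -/
noncomputable def fwd (M : ModuleCat.{u} A) : G.obj M →+ G'.obj M := (e.hom.app M).hom

/-- the additive map underlying `e.inv` -/
noncomputable def bwd (M : ModuleCat.{u} A) : G'.obj M →+ G.obj M := (e.inv.app M).hom

lemma bwd_fwd (M : ModuleCat.{u} A) (x : G.obj M) : bwd e M (fwd e M x) = x := by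
  have := congrArg (fun k => k.hom x) (e.hom_inv_id_app M)
  exact this

lemma fwd_bwd (M : ModuleCat.{u} A) (x : G'.obj M) : fwd e M (bwd e M x) = x := by
  have := congrArg (fun k => k.hom x) (e.inv_hom_id_app M)
  exact this

lemma fwd_naturality {M N : ModuleCat.{u} A} (g : M ⟶ N) (x : G.obj M) :
    fwd e N ((G.map g).hom x) = (G'.map g).hom (fwd e M x) := by
  have := congrArg (fun k => k.hom x) (e.hom.naturality g)
  exact this

include hG hG' in
lemma fwd_smul (M : ModuleCat.{u} A) (a : A) (x : G.obj M) :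
    fwd e M (a • x) = a • fwd e M x := by
  have h1 : a • x = (G.map (a • 𝟙 M)).hom x := by rw [hG]; rfl
  have h2 : a • fwd e M x = (G'.map (a • 𝟙 M)).hom (fwd e M x) := by rw [hG']; rfl
  rw [h1, h2, fwd_naturality]

/-- the components, as linear equivalences -/
noncomputable def upgradeEquiv (M : ModuleCat.{u} A) : G.obj M ≃ₗ[A] G'.obj M where
  toFun := fwd e M
  invFun := bwd e M
  map_add' := map_add _
  map_smul' a x := fwd_smul hG hG' e M a x
  left_inv := bwd_fwd e M
  right_inv := fwd_bwd e M

/-- an additive natural isomorphism between `A`-linear functors is `A`-linear -/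
noncomputable def upgrade : G ≅ G' :=
  NatIso.ofComponents (fun M => (upgradeEquiv hG hG' e M).toModuleIso) (by
    intro M N g
    ext x
    exact fwd_naturality e g x)

end upgrade

end Groth.Agent.Helper1.GammaLin
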