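import Mathlib
import Groth.Agent.Lead.FLFDual2
import Groth.Agent.Helper9.TensorAssoc3
import Groth.Agent.Helper9.ExtZRQuot
import Groth.Agent.Helper1.ExtSh9
import Groth.Agent.Helper1.GammaLin2

/-!
# HomDual1: `Hom(E, f^*(M~) ⊗ F) ≅ Γ(X, f^*(M~) ⊗ (F ⊗ E^∨))`, naturally in `M`, for `E` finite
locally free
-/

set_option autoImplicit false
set_option linter.style.haveILetI false
set_option linter.unusedSectionVars false

universe u

open CategoryTheory CategoryTheory.Limits AlgebraicGeometry Opposite MonoidalCategory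

namespace Groth.Agent.Helper1.HomDual

open Groth.Agent.Helper9.TensorSh Groth.Agent.Helper9.TensorAdj Groth.Agent.Helper9.TensorFlat
  Groth.Agent.Helper9.TensorAssoc3

variable {X : Scheme.{u}}

/-- the right unitor, typed through the tensor bifunctor -/
noncomputable def uR (E : X.Modules) :
    (DCoh.tensorBi.obj E).obj (Coh.structureModule X) ≅ E := SecTwist.unitorR E

/-- `Hom(E, H) ≃+ Hom(O, E^∨ ⊗ H)` for `E` finite locally free -/
noncomputable def dualEquiv (E : X.Modules) (hE : FlatMod.IsFinLocFree E) (H : X.Modules) :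
    (E ⟶ H) ≃+ (Coh.structureModule X ⟶ (DCoh.tensorBi.obj (RefHull.dual E)).obj H) where
  toFun x := (Groth.Agent.Lead.FLFDual.adjDual' E hE).homEquiv _ _ ((uR E).hom ≫ x)
  invFun y := (uR E).inv ≫ ((Groth.Agent.Lead.FLFDual.adjDual' E hE).homEquiv _ _).symm y
  left_inv x := by simp
  right_inv y := by simp
  map_add' x y := by
    rw [Preadditive.comp_add]
    exact ((Groth.Agent.Lead.FLFDual.adjDual' E hE).homAddEquiv _ _).map_add _ _

/-- `Hom(E, -) ≅ Hom(O, E^∨ ⊗ -)` for `E` finite locally free -/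
noncomputable def coyonedaDualIso (E : X.Modules) (hE : FlatMod.IsFinLocFree E) :
    preadditiveCoyoneda.obj (op E) ≅
      DCoh.tensorBi.obj (RefHull.dual E) ⋙
        preadditiveCoyoneda.obj (op (Coh.structureModule X)) :=
  NatIso.ofComponents (fun H => (dualEquiv E hE H).toAddCommGrpIso) (by
    intro H H' g
    apply AddCommGrpCat.hom_ext
    apply AddMonoidHom.ext
    intro (x : E ⟶ H)
    show (Groth.Agent.Lead.FLFDual.adjDual' E hE).homEquiv _ _
        ((uR E).hom ≫ (x ≫ g)) =
      (Groth.Agent.Lead.FLFDual.adjDual' E hE).homEquiv _ _ ((uR E).hom ≫ x) ≫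
        (DCoh.tensorBi.obj (RefHull.dual E)).map g
    rw [← Category.assoc, Adjunction.homEquiv_naturality_right])

/-- `E ⊗ (N ⊗ F) ≅ N ⊗ (F ⊗ E)`, naturally in `N` -/
noncomputable def tensorRightAssocIso (F E : X.Modules) :
    DCoh.tensorRightMod F ⋙ DCoh.tensorBi.obj E ≅
      DCoh.tensorRightMod (CohB1.tensorMod F E) :=
  Functor.isoWhiskerLeft (TN (O := X.sheaf) F) (symIso (O := X.sheaf) E) ≪≫
    NatIso.ofComponents (fun N => assocObj (O := X.sheaf) N F E)
      (fun g => nat1P ((ι X.sheaf).map g) ((ι X.sheaf).obj F) ((ι X.sheaf).obj E))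

variable (A : Type u) [CommRing A] [X.Over (Spec (CommRingCat.of A))]

/-- `Hom(O, -) ≅ H⁰` -/
noncomputable def coyonedaUnitIso :
    preadditiveCoyoneda.obj (op (Coh.structureModule X)) ≅ CohIII.HAb X 0 :=
  NatIso.ofComponents (fun L =>
    (Groth.Agent.Helper1.ExtSh.evalH0AEquiv A L).toAddEquiv.toAddCommGrpIso) (by
    intro L L' ψ
    apply AddCommGrpCat.hom_ext
    apply AddMonoidHom.ext
    intro (s : Coh.structureModule X ⟶ L)
    exact Groth.Agent.Helper1.ExtSh.evalH0A_comp A s ψ)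

/-- **`Hom(E, f^*(M~) ⊗ F) ≅ Γ(X, f^*(M~) ⊗ (F ⊗ E^∨))`, naturally in `M`** -/
noncomputable def homTensorIso (F E : X.Modules) (hE : FlatMod.IsFinLocFree E) :
    CohIII.tensorAFunctor A F ⋙ preadditiveCoyoneda.obj (op E) ≅
      (CohIII.tensorAFunctor A (CohB1.tensorMod F (RefHull.dual E)) ⋙ CohIII.globalSectionsA A) ⋙
        forget₂ (ModuleCat.{u} A) AddCommGrpCat.{u} :=
  Functor.isoWhiskerLeft (CohIII.tensorAFunctor A F) (coyonedaDualIso E hE) ≪≫
    Functor.isoWhiskerLeft (tilde.functor (CommRingCat.of A) ⋙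
      Scheme.Modules.pullback (X ↘ Spec (CommRingCat.of A)))
      (Functor.isoWhiskerRight (tensorRightAssocIso F (RefHull.dual E))
        (preadditiveCoyoneda.obj (op (Coh.structureModule X))) ≪≫
      Functor.isoWhiskerLeft (DCoh.tensorRightMod (CohB1.tensorMod F (RefHull.dual E)))
        (coyonedaUnitIso A ≪≫ Groth.Agent.Helper1.GammaLin.h0Iso A))

end Groth.Agent.Helper1.HomDual
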