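import Mathlib
import Groth.Agent.Helper1.HomDual1
import Groth.Agent.Helper1.FormD
import Groth.Agent.Helper1.TensorLin1
import Groth.Agent.Lead.ResPropF

/-!
# FLFCompl1: maps of completions of finite locally free modules, from `H⁰ = lim H⁰`
-/

set_option autoImplicit false
set_option linter.style.haveILetI false
set_option linter.unusedSectionVars false

universe u

open CategoryTheory CategoryTheory.Limits AlgebraicGeometry Opposite

namespace Groth.Agent.Helper1.FLFCompl

open Groth.Agent.Helper1.Form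

variable {A : Type u} [CommRing A] {X : Scheme.{u}} [X.Over (Spec (CommRingCat.of A))]

/-- a linear left adjoint (with linear right adjoint) preserves quotients `M/JM` -/
lemma isQuot_map_of_adj {L G : X.Modules ⥤ X.Modules} (adj : L ⊣ G) [L.Additive] [G.Additive]
    [L.Linear A] [G.Linear A] {J : Ideal A} {M N : X.Modules} {p : M ⟶ N} (hp : IsQuot J p) :
    IsQuot J (L.map p) := by
  haveI := hp.epi
  haveI : L.PreservesEpimorphisms := Functor.preservesEpimorphisms_of_adjunction adj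
  refine ⟨inferInstance, fun a ha => by rw [← Functor.map_smul, hp.kills a ha, Functor.map_zero], ?_⟩
  intro Z g hg
  have h1 : Kills J (adj.homEquiv M Z g) := fun a ha => by
    rw [Adjunction.homEquiv_unit, ← Linear.comp_smul, ← Functor.map_smul, hg a ha,
      Functor.map_zero, comp_zero]
  refine ⟨(adj.homEquiv N Z).symm (hp.desc _ h1), ?_⟩
  rw [← Adjunction.homEquiv_naturality_left_symm, hp.fac_desc, Equiv.symm_apply_apply]

/-- `H⁰` of a morphism -/
noncomputable abbrev Hmap {M N : X.Modules} (g : M ⟶ N) : Coh.HH X M 0 →+ Coh.HH X N 0 :=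
  Sheaf.H.map ((SheafOfModules.toSheaf X.ringCatSheaf).map g) 0

lemma Hmap_comp {M N P : X.Modules} (g : M ⟶ N) (g' : N ⟶ P) (x : Coh.HH X M 0) :
    Hmap (g ≫ g') x = Hmap g' (Hmap g x) :=
  (Formal.HHmap_comp g g' 0 x).symm

lemma Hmap_id (M : X.Modules) (x : Coh.HH X M 0) : Hmap (𝟙 M) x = x := by
  have h : (SheafOfModules.toSheaf X.ringCatSheaf).map (𝟙 M) = 𝟙 _ := CategoryTheory.Functor.map_id _ M
  exact (congrArg (fun f => Sheaf.H.map f 0 x) h).trans (Sheaf.H.map_id_apply x)

variable (A)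

/-- the dual of `E` tensored with `-` -/
noncomputable abbrev T (E : X.Modules) : X.Modules ⥤ X.Modules :=
  DCoh.tensorBi.obj (RefHull.dual E)

/-- `Hom(E, P) ≃+ H⁰(E^∨ ⊗ P)` -/
noncomputable def Ξ (E : X.Modules) (hE : FlatMod.IsFinLocFree E) (P : X.Modules) :
    (E ⟶ P) ≃+ Coh.HH X ((T E).obj P) 0 :=
  (HomDual.dualEquiv E hE P).trans
    (Groth.Agent.Helper1.ExtSh.evalH0AEquiv A ((T E).obj P)).toAddEquiv

lemma dualEquiv_comp (E : X.Modules) (hE : FlatMod.IsFinLocFree E) {P P' : X.Modules}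
    (f : E ⟶ P) (g : P ⟶ P') :
    HomDual.dualEquiv E hE P' (f ≫ g) = HomDual.dualEquiv E hE P f ≫ (T E).map g := by
  show (Groth.Agent.Lead.FLFDual.adjDual' E hE).homEquiv _ _ ((HomDual.uR E).hom ≫ (f ≫ g)) =
    (Groth.Agent.Lead.FLFDual.adjDual' E hE).homEquiv _ _ ((HomDual.uR E).hom ≫ f) ≫
      (DCoh.tensorBi.obj (RefHull.dual E)).map g
  rw [← Category.assoc, Adjunction.homEquiv_naturality_right]

lemma Ξ_comp (E : X.Modules) (hE : FlatMod.IsFinLocFree E) {P P' : X.Modules}
    (f : E ⟶ P) (g : P ⟶ P') :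
    Ξ A E hE P' (f ≫ g) = Hmap ((T E).map g) (Ξ A E hE P f) := by
  show Groth.Agent.Helper1.ExtSh.evalH0A A _ (HomDual.dualEquiv E hE P' (f ≫ g)) = _
  rw [dualEquiv_comp]
  exact Groth.Agent.Helper1.ExtSh.evalH0A_comp A _ _

end Groth.Agent.Helper1.FLFCompl
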