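import Mathlib
import Groth.Agent.Helper1.FLFCompl1

/-!
# FLFCompl2: maps of completions of finite locally free modules, from `H⁰ = lim H⁰`
-/

set_option autoImplicit false
set_option linter.style.haveILetI false
set_option linter.unusedSectionVars false

universe u

open CategoryTheory CategoryTheory.Limits AlgebraicGeometry Opposite

namespace Groth.Agent.Helper1.FLFCompl

open Groth.Agent.Helper1.Form

variable {A : Type u} [CommRing A] {X : Scheme.{u}} [X.Over (Spec (CommRingCat.of A))]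
variable (I : Ideal A) (E E' : X.Modules) (hE : FlatMod.IsFinLocFree E)

include hE in
/-- `E^∨ ⊗ -` carries the quotient map `E' → E'/I^nE'` to a quotient map -/
lemma isQuot_q (n : ℕ) : IsQuot (I ^ n) ((T E).map (Formal.modPowπ I n E')) :=
  isQuot_map_of_adj (Groth.Agent.Lead.FLFDual.adjDual E hE) (isQuot_modPowπ I n E')

/-- `(E^∨ ⊗ E')/I^n ≅ E^∨ ⊗ (E'/I^n)` -/
noncomputable def θ (n : ℕ) :
    Formal.modPow I n ((T E).obj E') ≅ (T E).obj (Formal.modPow I n E') :=
  (isQuot_modPowπ I n ((T E).obj E')).iso (isQuot_q I E E' hE n)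

lemma π_θ_hom (n : ℕ) :
    Formal.modPowπ I n ((T E).obj E') ≫ (θ I E E' hE n).hom = (T E).map (Formal.modPowπ I n E') :=
  IsQuot.fac_iso_hom _ _

lemma θ_inv_trans (n : ℕ) :
    (θ I E E' hE (n + 1)).inv ≫ Formal.modPowTrans I n ((T E).obj E') =
      (T E).map (Formal.modPowTrans I n E') ≫ (θ I E E' hE n).inv := by
  rw [Iso.inv_comp_eq, ← Category.assoc, Iso.eq_comp_inv]
  haveI : Epi (Formal.modPowπ I (n + 1) ((T E).obj E')) := (isQuot_modPowπ I (n + 1) _).epi
  rw [← cancel_epi (Formal.modPowπ I (n + 1) ((T E).obj E'))]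
  have h1 : Formal.modPowπ I (n + 1) ((T E).obj E') ≫ Formal.modPowTrans I n ((T E).obj E') ≫
      (θ I E E' hE n).hom = (T E).map (Formal.modPowπ I n E') := by
    rw [← Category.assoc, Formal.modPowπ_trans, π_θ_hom]
  have h2 : Formal.modPowπ I (n + 1) ((T E).obj E') ≫ (θ I E E' hE (n + 1)).hom ≫
      (T E).map (Formal.modPowTrans I n E') = (T E).map (Formal.modPowπ I n E') := by
    rw [← Category.assoc, π_θ_hom, ← Functor.map_comp, Formal.modPowπ_trans]
  exact h1.trans h2.symm


variable (A) in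
/-- the key equivalence: `φ` induces the `n`-th component of `ψ` iff the class of `φ` maps to the
`n`-th class built from `ψ` -/
lemma key (n : ℕ) (t : E ⟶ Formal.modPow I n E') (φ : E ⟶ E') :
    φ ≫ Formal.modPowπ I n E' = t ↔
      Hmap (Formal.modPowπ I n ((T E).obj E')) (Ξ A E hE E' φ) =
        Hmap (θ I E E' hE n).inv (Ξ A E hE _ t) := by
  have h0 : Ξ A E hE _ (φ ≫ Formal.modPowπ I n E') =
      Hmap (θ I E E' hE n).hom (Hmap (Formal.modPowπ I n ((T E).obj E')) (Ξ A E hE E' φ)) := by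
    rw [Ξ_comp, ← Hmap_comp, π_θ_hom]
  constructor
  · intro h
    rw [← h, h0, ← Hmap_comp, Iso.hom_inv_id, Hmap_id]
  · intro h
    apply (Ξ A E hE _).injective
    rw [h0, h, ← Hmap_comp, Iso.inv_hom_id, Hmap_id]

variable (A) in
include hE in
/-- **maps of completions of finite locally free modules come from unique maps of modules, as
soon as `H⁰ = lim H⁰` holds for `E^∨ ⊗ E'`** -/
theorem main
    (hH : Function.Bijective (Formal.toHHlim I ((T E).obj E') 0))
    (ψ : Formal.completion I E ⟶ Formal.completion I E') :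
    ∃! φ : E ⟶ E', ∀ n : ℕ,
      Formal.modPowπ I (n + 1) E ≫ ψ.app (op n) = φ ≫ Formal.modPowπ I (n + 1) E' := by
  -- the components of `ψ`
  let t : ∀ n : ℕ, E ⟶ Formal.modPow I (n + 1) E' := fun n =>
    Formal.modPowπ I (n + 1) E ≫ ψ.app (op n)
  have ht : ∀ n, t (n + 1) ≫ Formal.modPowTrans I (n + 1) E' = t n := by
    intro n
    have h1 := ψ.naturality (homOfLE (Nat.le_add_right n 1)).op
    rw [completion_map_succ, completion_map_succ] at h1
    show (Formal.modPowπ I (n + 1 + 1) E ≫ ψ.app (op (n + 1))) ≫ Formal.modPowTrans I (n + 1) E' =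
      Formal.modPowπ I (n + 1) E ≫ ψ.app (op n)
    exact (Category.assoc _ _ _).trans
      ((congrArg (fun z => Formal.modPowπ I (n + 1 + 1) E ≫ z) h1.symm).trans
        ((Category.assoc _ _ _).symm.trans
          (congrArg (fun z => z ≫ ψ.app (op n)) (Formal.modPowπ_trans I (n + 1) E))))
  let x : ∀ n, Formal.HHmodPow I ((T E).obj E') 0 n := fun n =>
    Hmap (θ I E E' hE (n + 1)).inv (Ξ A E hE _ (t n))
  have hx : x ∈ Formal.HHlim I ((T E).obj E') 0 := by
    intro n
    show Hmap (Formal.modPowTrans I (n + 1) ((T E).obj E'))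
      (Hmap (θ I E E' hE (n + 1 + 1)).inv (Ξ A E hE _ (t (n + 1)))) =
        Hmap (θ I E E' hE (n + 1)).inv (Ξ A E hE _ (t n))
    rw [← Hmap_comp, θ_inv_trans, Hmap_comp, ← Ξ_comp, ht]
  obtain ⟨y, hy⟩ := hH.2 ⟨x, hx⟩
  have hy' : ∀ n, Hmap (Formal.modPowπ I (n + 1) ((T E).obj E')) y = x n := fun n =>
    congrFun (congrArg Subtype.val hy) n
  refine ⟨(Ξ A E hE E').symm y, ?_, ?_⟩
  · intro n
    refine ((key A I E E' hE (n + 1) (t n) _).2 ?_).symm
    rw [AddEquiv.apply_symm_apply]
    exact hy' n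
  · intro φ' hφ'
    apply (Ξ A E hE E').injective
    rw [AddEquiv.apply_symm_apply]
    apply hH.1
    rw [hy]
    apply Subtype.ext
    funext n
    exact (key A I E E' hE (n + 1) (t n) φ').1 (hφ' n).symm

end Groth.Agent.Helper1.FLFCompl
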