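import Mathlib

/-!
# LimProp1: "maps into `M` are the same as compatible families of maps into the `N k`"

For an object `M` with compatible maps `r k : M ⟶ N k` to an inverse system `N`, `LimProp S Y` says
that maps `S ⟶ M` are the same as compatible families of maps `S ⟶ N k`.  The property passes to
coproducts and cokernels in `S`, and is compatible with adjunctions and isomorphisms.
-/

set_option autoImplicit false

universe v u v' u'

open CategoryTheory CategoryTheory.Limits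

namespace Groth.Agent.Helper1.LimProp

variable {C : Type u} [Category.{v} C]

/-- an object `M` with compatible maps to an inverse system `N` indexed by `ℕ` -/
structure Sys (C : Type u) [Category.{v} C] where
  M : C
  N : ℕ → C
  r : ∀ k, M ⟶ N k
  τ : ∀ k, N (k + 1) ⟶ N k
  hr : ∀ k, r (k + 1) ≫ τ k = r k

/-- compatible families of maps from `S` -/
def Compat (S : C) (Y : Sys C) (t : ∀ k, S ⟶ Y.N k) : Prop := ∀ k, t (k + 1) ≫ Y.τ k = t k

/-- maps `S ⟶ M` are determined by their components -/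
def LimInj (S : C) (Y : Sys C) : Prop :=
  ∀ φ φ' : S ⟶ Y.M, (∀ k, φ ≫ Y.r k = φ' ≫ Y.r k) → φ = φ'

/-- every compatible family of maps from `S` comes from a map `S ⟶ M` -/
def LimSurj (S : C) (Y : Sys C) : Prop :=
  ∀ t : ∀ k, S ⟶ Y.N k, Compat S Y t → ∃ φ : S ⟶ Y.M, ∀ k, φ ≫ Y.r k = t k

/-- maps `S ⟶ M` are the same as compatible families of maps `S ⟶ N k` -/
def LimProp (S : C) (Y : Sys C) : Prop :=
  ∀ t : ∀ k, S ⟶ Y.N k, Compat S Y t → ∃! φ : S ⟶ Y.M, ∀ k, φ ≫ Y.r k = t k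

lemma compat_comp (S : C) (Y : Sys C) (φ : S ⟶ Y.M) : Compat S Y (fun k => φ ≫ Y.r k) := by
  intro k
  rw [Category.assoc, Y.hr]

lemma limProp_iff (S : C) (Y : Sys C) : LimProp S Y ↔ LimInj S Y ∧ LimSurj S Y := by
  constructor
  · intro h
    refine ⟨?_, fun t ht => (h t ht).exists⟩
    intro φ φ' hφ
    exact (h _ (compat_comp S Y φ')).unique hφ (fun _ => rfl)
  · rintro ⟨h1, h2⟩ t ht
    obtain ⟨φ, hφ⟩ := h2 t ht
    exact ⟨φ, hφ, fun φ' hφ' => h1 _ _ (fun k => (hφ' k).trans (hφ k).symm)⟩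

lemma LimProp.inj {S : C} {Y : Sys C} (h : LimProp S Y) : LimInj S Y := ((limProp_iff S Y).1 h).1

lemma LimProp.surj {S : C} {Y : Sys C} (h : LimProp S Y) : LimSurj S Y := ((limProp_iff S Y).1 h).2

/-- `LimInj` passes to coproducts -/
lemma LimInj.sigma {ι : Type*} (S : ι → C) [HasCoproduct S] {Y : Sys C}
    (h : ∀ i, LimInj (S i) Y) : LimInj (∐ S) Y := by
  intro φ φ' hφ
  apply Sigma.hom_ext
  intro i
  apply h i
  intro k
  rw [Category.assoc, Category.assoc, hφ k]

/-- `LimProp` passes to coproducts -/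
lemma LimProp.sigma {ι : Type*} (S : ι → C) [HasCoproduct S] {Y : Sys C}
    (h : ∀ i, LimProp (S i) Y) : LimProp (∐ S) Y := by
  rw [limProp_iff]
  refine ⟨LimInj.sigma S (fun i => (h i).inj), ?_⟩
  intro t ht
  have h' : ∀ i, ∃ φ : S i ⟶ Y.M, ∀ k, φ ≫ Y.r k = Sigma.ι S i ≫ t k := fun i =>
    (h i).surj (fun k => Sigma.ι S i ≫ t k) (fun k => by rw [Category.assoc, ht k])
  choose φ hφ using h'
  refine ⟨Sigma.desc φ, fun k => ?_⟩
  apply Sigma.hom_ext
  intro i
  rw [← Category.assoc, Sigma.ι_desc, hφ i k]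

/-- `LimProp` passes to cokernels -/
lemma LimProp.of_cokernel [HasZeroMorphisms C] {S' S Q : C} (u : S' ⟶ S) (p : S ⟶ Q) [Epi p]
    (hfac : ∀ {Z : C} (σ : S ⟶ Z), u ≫ σ = 0 → ∃ φ : Q ⟶ Z, p ≫ φ = σ) (w : u ≫ p = 0)
    {Y : Sys C} (hS : LimProp S Y) (hS' : LimInj S' Y) : LimProp Q Y := by
  rw [limProp_iff]
  constructor
  · intro φ φ' hφ
    rw [← cancel_epi p]
    apply hS.inj
    intro k
    rw [Category.assoc, Category.assoc, hφ k]
  · intro t ht
    obtain ⟨σ, hσ⟩ := hS.surj (fun k => p ≫ t k) (fun k => by rw [Category.assoc, ht k])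
    have h0 : u ≫ σ = 0 := by
      apply hS'
      intro k
      rw [Category.assoc, hσ k, ← Category.assoc, w, zero_comp, zero_comp]
    obtain ⟨φ, hφ⟩ := hfac σ h0
    refine ⟨φ, fun k => ?_⟩
    rw [← cancel_epi p, ← Category.assoc, hφ, hσ k]

/-- `LimProp` is invariant under isomorphisms of the source -/
lemma LimProp.of_iso_source {S S' : C} (e : S ≅ S') {Y : Sys C} (h : LimProp S Y) :
    LimProp S' Y := by
  intro t ht
  obtain ⟨φ, hφ, hu⟩ := h (fun k => e.hom ≫ t k) (fun k => by rw [Category.assoc, ht k])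
  refine ⟨e.inv ≫ φ, fun k => ?_, fun φ' hφ' => ?_⟩
  · rw [Category.assoc, hφ k, e.inv_hom_id_assoc]
  · rw [← hu (e.hom ≫ φ') (fun k => by rw [Category.assoc, hφ' k]), e.inv_hom_id_assoc]

/-- `LimProp` is invariant under isomorphisms of the target -/
lemma LimProp.of_iso_target {S : C} {Y Y' : Sys C} (e : Y.M ≅ Y'.M) (eN : ∀ k, Y.N k ≅ Y'.N k)
    (hr : ∀ k, Y.r k ≫ (eN k).hom = e.hom ≫ Y'.r k)
    (hτ : ∀ k, Y.τ k ≫ (eN k).hom = (eN (k + 1)).hom ≫ Y'.τ k) (h : LimProp S Y) :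
    LimProp S Y' := by
  intro t ht
  obtain ⟨φ, hφ, hu⟩ := h (fun k => t k ≫ (eN k).inv) (fun k => by
    show (t (k + 1) ≫ (eN (k + 1)).inv) ≫ Y.τ k = t k ≫ (eN k).inv
    rw [Iso.eq_comp_inv, Category.assoc, Category.assoc, hτ k, Iso.inv_hom_id_assoc, ht k])
  refine ⟨φ ≫ e.hom, fun k => ?_, fun φ' hφ' => ?_⟩
  · rw [Category.assoc, ← hr k, ← Category.assoc, hφ k, Category.assoc, Iso.inv_hom_id,
      Category.comp_id]
  · have := hu (φ' ≫ e.inv) (fun k => by
      rw [Iso.eq_comp_inv, Category.assoc, Category.assoc, hr k, Iso.inv_hom_id_assoc, hφ' k])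
    rw [← this, Category.assoc, Iso.inv_hom_id, Category.comp_id]

variable {D : Type u'} [Category.{v'} D]

/-- the image of a system under a functor -/
@[simps]
def Sys.map (Y : Sys C) (G : C ⥤ D) : Sys D where
  M := G.obj Y.M
  N k := G.obj (Y.N k)
  r k := G.map (Y.r k)
  τ k := G.map (Y.τ k)
  hr k := by rw [← G.map_comp, Y.hr]

/-- `LimProp` and adjunctions -/
lemma limProp_adj_iff {L : D ⥤ C} {G : C ⥤ D} (adj : L ⊣ G) (S : D) (Y : Sys C) :
    LimProp (L.obj S) Y ↔ LimProp S (Y.map G) := by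
  constructor
  · intro h t ht
    obtain ⟨φ, hφ, hu⟩ := h (fun k => (adj.homEquiv S (Y.N k)).symm (t k)) (fun k => by
      show (adj.homEquiv S (Y.N (k + 1))).symm (t (k + 1)) ≫ Y.τ k = _
      rw [← Adjunction.homEquiv_naturality_right_symm]
      exact congrArg _ (ht k))
    refine ⟨adj.homEquiv S Y.M φ, fun k => ?_, fun φ' hφ' => ?_⟩
    · show adj.homEquiv S Y.M φ ≫ G.map (Y.r k) = t k
      rw [← Adjunction.homEquiv_naturality_right, hφ k, Equiv.apply_symm_apply]
    · have := hu ((adj.homEquiv S Y.M).symm φ') (fun k => by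
        rw [← Adjunction.homEquiv_naturality_right_symm]
        exact congrArg _ (hφ' k))
      rw [← this, Equiv.apply_symm_apply]
  · intro h t ht
    obtain ⟨φ, hφ, hu⟩ := h (fun k => adj.homEquiv S (Y.N k) (t k)) (fun k => by
      show adj.homEquiv S (Y.N (k + 1)) (t (k + 1)) ≫ G.map (Y.τ k) = _
      rw [← Adjunction.homEquiv_naturality_right, ht k])
    refine ⟨(adj.homEquiv S Y.M).symm φ, fun k => ?_, fun φ' hφ' => ?_⟩
    · rw [← Adjunction.homEquiv_naturality_right_symm]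
      exact ((adj.homEquiv S (Y.N k)).symm_apply_eq).2 (hφ k)
    · have := hu (adj.homEquiv S Y.M φ') (fun k => by
        show adj.homEquiv S Y.M φ' ≫ G.map (Y.r k) = _
        rw [← Adjunction.homEquiv_naturality_right, hφ' k])
      rw [← this, Equiv.symm_apply_apply]

end Groth.Agent.Helper1.LimProp
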