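import Mathlib
import Groth.Agent.Helper1.LimProp1
import Groth.Agent.Helper1.FLFCompl2
import Groth.Agent.Helper4.QuasiAffineGG
import Groth.Agent.Helper4.QcohLimits

/-!
# LimProp2: the systems `(M/I^(k+1)M)` and `H⁰(X, M) → lim H⁰(X, M/I^(k+1)M)`
-/

set_option autoImplicit false
set_option linter.style.haveILetI false
set_option linter.unusedSectionVars false

universe u

open CategoryTheory CategoryTheory.Limits AlgebraicGeometry Opposite

namespace Groth.Agent.Helper1.LimProp

open Groth.Agent.Helper1.Form Groth.Agent.Helper1.FLFCompl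

variable {A : Type u} [CommRing A] {X : Scheme.{u}} [X.Over (Spec (CommRingCat.of A))]

/-- the system `M → M/I^(k+1)M` -/
noncomputable def modSys (I : Ideal A) (M : X.Modules) : Sys X.Modules where
  M := M
  N k := Formal.modPow I (k + 1) M
  r k := Formal.modPowπ I (k + 1) M
  τ k := Formal.modPowTrans I (k + 1) M
  hr k := Formal.modPowπ_trans I (k + 1) M

variable (A) in
/-- **`H⁰(X, M) → lim H⁰(X, M/I^(k+1)M)` is bijective iff maps `O → M` are the same as compatible
families of maps `O → M/I^(k+1)M`** -/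
theorem limProp_unit_iff (I : Ideal A) (M : X.Modules) :
    LimProp (Coh.structureModule X) (modSys I M) ↔
      Function.Bijective (Formal.toHHlim I M 0) := by
  have e := fun P : X.Modules => Groth.Agent.Helper1.ExtSh.evalH0AEquiv A P
  have he : ∀ {P P' : X.Modules} (s : Coh.structureModule X ⟶ P) (g : P ⟶ P'),
      Groth.Agent.Helper1.ExtSh.evalH0AEquiv A P' (s ≫ g) =
        Hmap g (Groth.Agent.Helper1.ExtSh.evalH0AEquiv A P s) := fun s g =>
    Groth.Agent.Helper1.ExtSh.evalH0A_comp A s g
  constructor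
  · intro h
    constructor
    · intro y y' hy
      have h1 : ∀ k, Hmap (Formal.modPowπ I (k + 1) M) y = Hmap (Formal.modPowπ I (k + 1) M) y' :=
        fun k => congrFun (congrArg Subtype.val hy) k
      have h2 : (Groth.Agent.Helper1.ExtSh.evalH0AEquiv A M).symm y =
          (Groth.Agent.Helper1.ExtSh.evalH0AEquiv A M).symm y' := by
        apply h.inj
        intro k
        apply (Groth.Agent.Helper1.ExtSh.evalH0AEquiv A _).injective
        show Groth.Agent.Helper1.ExtSh.evalH0AEquiv A _ (_ ≫ Formal.modPowπ I (k + 1) M) =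
          Groth.Agent.Helper1.ExtSh.evalH0AEquiv A _ (_ ≫ Formal.modPowπ I (k + 1) M)
        rw [he, he, LinearEquiv.apply_symm_apply, LinearEquiv.apply_symm_apply]
        exact h1 k
      exact (Groth.Agent.Helper1.ExtSh.evalH0AEquiv A M).symm.injective h2
    · rintro ⟨x, hx⟩
      obtain ⟨φ, hφ⟩ := h.surj
        (fun k => (Groth.Agent.Helper1.ExtSh.evalH0AEquiv A (Formal.modPow I (k + 1) M)).symm (x k))
        (fun k => by
          apply (Groth.Agent.Helper1.ExtSh.evalH0AEquiv A (Formal.modPow I (k + 1) M)).injective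
          refine (he _ (Formal.modPowTrans I (k + 1) M)).trans ?_
          refine (congrArg (Hmap (Formal.modPowTrans I (k + 1) M))
            (LinearEquiv.apply_symm_apply _ _)).trans ?_
          exact (hx k).trans (LinearEquiv.apply_symm_apply _ _).symm)
      refine ⟨Groth.Agent.Helper1.ExtSh.evalH0AEquiv A M φ, ?_⟩
      apply Subtype.ext
      funext k
      show Hmap (Formal.modPowπ I (k + 1) M) (Groth.Agent.Helper1.ExtSh.evalH0AEquiv A M φ) = x k
      rw [← he]
      have := hφ k
      show Groth.Agent.Helper1.ExtSh.evalH0AEquiv A _ (φ ≫ Formal.modPowπ I (k + 1) M) = x k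
      rw [show φ ≫ Formal.modPowπ I (k + 1) M = _ from this, LinearEquiv.apply_symm_apply]
  · intro h
    rw [limProp_iff]
    constructor
    · intro φ φ' hφ
      apply (Groth.Agent.Helper1.ExtSh.evalH0AEquiv A M).injective
      apply h.1
      apply Subtype.ext
      funext k
      show Hmap (Formal.modPowπ I (k + 1) M) _ = Hmap (Formal.modPowπ I (k + 1) M) _
      rw [← he, ← he]
      exact congrArg _ (hφ k)
    · intro t ht
      let x : ∀ k, Formal.HHmodPow I M 0 k := fun k =>
        Groth.Agent.Helper1.ExtSh.evalH0AEquiv A _ (t k)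
      have hx : x ∈ Formal.HHlim I M 0 := by
        intro k
        show Hmap (Formal.modPowTrans I (k + 1) M)
          (Groth.Agent.Helper1.ExtSh.evalH0AEquiv A _ (t (k + 1))) =
            Groth.Agent.Helper1.ExtSh.evalH0AEquiv A _ (t k)
        rw [← he]
        exact congrArg _ (ht k)
      obtain ⟨y, hy⟩ := h.2 ⟨x, hx⟩
      refine ⟨(Groth.Agent.Helper1.ExtSh.evalH0AEquiv A M).symm y, fun k => ?_⟩
      apply (Groth.Agent.Helper1.ExtSh.evalH0AEquiv A _).injective
      show Groth.Agent.Helper1.ExtSh.evalH0AEquiv A _ (_ ≫ Formal.modPowπ I (k + 1) M) = _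
      rw [he, LinearEquiv.apply_symm_apply]
      exact congrFun (congrArg Subtype.val hy) k

/-- a system of quotient maps `M' → N k` by `I^(k+1)` with `M' ≅ M` may be replaced by the system
`M → M/I^(k+1)M` -/
theorem limProp_of_isQuot (I : Ideal A) (S M : X.Modules) (Y : Sys X.Modules) (e : Y.M ≅ M)
    (hq : ∀ k, IsQuot (I ^ (k + 1)) (Y.r k)) (h : LimProp S Y) : LimProp S (modSys I M) := by
  have hq' : ∀ k, IsQuot (I ^ (k + 1)) (e.inv ≫ Y.r k) := fun k => (hq k).iso_comp e.inv
  let eN : ∀ k, Y.N k ≅ Formal.modPow I (k + 1) M := fun k =>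
    (hq' k).iso (isQuot_modPowπ I (k + 1) M)
  have hr : ∀ k, Y.r k ≫ (eN k).hom = e.hom ≫ Formal.modPowπ I (k + 1) M := by
    intro k
    have h1 : (e.inv ≫ Y.r k) ≫ (eN k).hom = Formal.modPowπ I (k + 1) M :=
      IsQuot.fac_iso_hom _ _
    rw [← h1, Category.assoc, e.hom_inv_id_assoc]
  refine LimProp.of_iso_target (Y' := modSys I M) e eN hr ?_ h
  intro k
  haveI : Epi (Y.r (k + 1)) := (hq (k + 1)).epi
  rw [← cancel_epi (Y.r (k + 1))]
  have h1 : Y.r (k + 1) ≫ Y.τ k ≫ (eN k).hom = e.hom ≫ Formal.modPowπ I (k + 1) M := by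
    rw [← Category.assoc, Y.hr, hr k]
  have h2 : Y.r (k + 1) ≫ (eN (k + 1)).hom ≫ (modSys I M).τ k =
      e.hom ≫ Formal.modPowπ I (k + 1) M := by
    rw [← Category.assoc, hr (k + 1), Category.assoc]
    congr 1
    exact Formal.modPowπ_trans I (k + 1) M
  exact h1.trans h2.symm

end Groth.Agent.Helper1.LimProp
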