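import Mathlib
import Groth.Agent.Helper1.LimProp1

/-!
# LimProp4: comparing `LimProp` along a levelwise map of systems which is a pro-isomorphism

If `α k : Y.N k ⟶ Y'.N k` is a map of systems (over an isomorphism `Y.M ≅ Y'.M`) such that, for a
fixed shift `c`, the kernel of `α j` dies in `Y.N k` and the transition `Y'.N j ⟶ Y'.N k`
lands in the image of `α k` whenever `k + c ≤ j`, then `LimProp S Y` implies `LimProp S Y'`.
-/

set_option autoImplicit false

universe v u

open CategoryTheory CategoryTheory.Limits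

namespace Groth.Agent.Helper1.LimProp

variable {C : Type u} [Category.{v} C]

/-- the iterated transition maps of a system -/
noncomputable def Sys.tr (Y : Sys C) {m n : ℕ} (h : n ≤ m) : Y.N m ⟶ Y.N n :=
  (Functor.ofOpSequence Y.τ).map (homOfLE h).op

lemma Sys.tr_refl (Y : Sys C) (n : ℕ) : Y.tr (le_refl n) = 𝟙 _ :=
  (Functor.ofOpSequence Y.τ).map_id _

lemma Sys.tr_comp (Y : Sys C) {m n l : ℕ} (h : n ≤ m) (h' : l ≤ n) :
    Y.tr h ≫ Y.tr h' = Y.tr (h'.trans h) :=
  ((Functor.ofOpSequence Y.τ).map_comp (homOfLE h).op (homOfLE h').op).symm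

lemma Sys.tr_succ (Y : Sys C) (n : ℕ) : Y.tr (Nat.le_succ n) = Y.τ n :=
  Functor.ofOpSequence_map_homOfLE_succ _ _

lemma Sys.tr_succ_eq (Y : Sys C) {m n : ℕ} (h : n ≤ m) :
    Y.tr (h.trans (Nat.le_succ m)) = Y.τ m ≫ Y.tr h := by
  rw [← Y.tr_succ, Y.tr_comp]

lemma Sys.r_tr (Y : Sys C) {m n : ℕ} (h : n ≤ m) : Y.r m ≫ Y.tr h = Y.r n := by
  induction m, h using Nat.le_induction with
  | base => rw [Y.tr_refl, Category.comp_id]
  | succ m h ih => rw [Y.tr_succ_eq h, ← Category.assoc, Y.hr, ih]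

lemma Compat.tr {S : C} {Y : Sys C} {t : ∀ k, S ⟶ Y.N k} (ht : Compat S Y t) {m n : ℕ}
    (h : n ≤ m) : t m ≫ Y.tr h = t n := by
  induction m, h using Nat.le_induction with
  | base => rw [Y.tr_refl, Category.comp_id]
  | succ m h ih => rw [Y.tr_succ_eq h, ← Category.assoc, ht m, ih]

lemma Sys.tr_natural {Y Y' : Sys C} (α : ∀ k, Y.N k ⟶ Y'.N k)
    (hτ : ∀ k, Y.τ k ≫ α k = α (k + 1) ≫ Y'.τ k) {m n : ℕ} (h : n ≤ m) :
    Y.tr h ≫ α n = α m ≫ Y'.tr h := by
  induction m, h using Nat.le_induction with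
  | base => rw [Y.tr_refl, Y'.tr_refl, Category.comp_id, Category.id_comp]
  | succ m h ih =>
    rw [Y.tr_succ_eq h, Y'.tr_succ_eq h, Category.assoc, ih, ← Category.assoc, hτ,
      Category.assoc]

variable [Abelian C]

/-- **comparison of `LimProp` along a pro-isomorphism of systems** -/
theorem LimProp.of_proIso {S : C} {Y Y' : Sys C} (e : Y.M ≅ Y'.M) (α : ∀ k, Y.N k ⟶ Y'.N k)
    (hr : ∀ k, Y.r k ≫ α k = e.hom ≫ Y'.r k) (hτ : ∀ k, Y.τ k ≫ α k = α (k + 1) ≫ Y'.τ k)
    (c : ℕ)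
    (V1 : ∀ (j k : ℕ) (hjk : k ≤ j), k + c ≤ j → kernel.ι (α j) ≫ Y.tr hjk = 0)
    (V2 : ∀ (j k : ℕ) (hjk : k ≤ j), k + c ≤ j → Y'.tr hjk ≫ cokernel.π (α k) = 0)
    (h : LimProp S Y) : LimProp S Y' := by
  rw [limProp_iff]
  constructor
  · intro φ φ' hφ
    have h1 : φ ≫ e.inv = φ' ≫ e.inv := by
      apply h.inj
      intro k
      have hx : ∀ ψ : S ⟶ Y'.M, ((ψ ≫ e.inv) ≫ Y.r (k + c)) ≫ α (k + c) = ψ ≫ Y'.r (k + c) := by
        intro ψ
        rw [Category.assoc, Category.assoc, hr, e.inv_hom_id_assoc]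
      have h2 : ((φ ≫ e.inv) ≫ Y.r (k + c) - (φ' ≫ e.inv) ≫ Y.r (k + c)) ≫ α (k + c) = 0 := by
        rw [Preadditive.sub_comp, hx, hx, hφ, sub_self]
      have h3 : ((φ ≫ e.inv) ≫ Y.r (k + c) - (φ' ≫ e.inv) ≫ Y.r (k + c)) ≫
          Y.tr (Nat.le_add_right k c) = 0 := by
        rw [← kernel.lift_ι (α (k + c)) _ h2, Category.assoc,
          V1 (k + c) k (Nat.le_add_right k c) le_rfl, comp_zero]
      rw [Preadditive.sub_comp, Category.assoc, Category.assoc (φ' ≫ e.inv), Y.r_tr,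
        sub_eq_zero] at h3
      exact h3
    calc φ = (φ ≫ e.inv) ≫ e.hom := by rw [Category.assoc, e.inv_hom_id, Category.comp_id]
      _ = (φ' ≫ e.inv) ≫ e.hom := by rw [h1]
      _ = φ' := by rw [Category.assoc, e.inv_hom_id, Category.comp_id]
  · intro t' ht'
    -- the epi-mono factorization of `α k`
    obtain ⟨Im, p, m, hpm, hpe, hmm⟩ : ∃ (Im : ℕ → C) (p : ∀ k, Y.N k ⟶ Im k)
        (m : ∀ k, Im k ⟶ Y'.N k), (∀ k, p k ≫ m k = α k) ∧ (∀ k, Epi (p k)) ∧
          (∀ k, Mono (m k)) :=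
      ⟨_, fun k => Abelian.factorThruImage (α k), fun k => Abelian.image.ι (α k),
        fun k => Abelian.image.fac _, fun k => inferInstance, fun k => inferInstance⟩
    haveI := hpe
    haveI := hmm
    -- `cokernel.π (m k)` factors through `cokernel.π (α k)`
    have hcok : ∀ k, α k ≫ cokernel.π (m k) = 0 := by
      intro k
      rw [← hpm k, Category.assoc, cokernel.condition, comp_zero]
    have hker : ∀ k, kernel.ι (p k) ≫ α k = 0 := by
      intro k
      rw [← hpm k, ← Category.assoc, kernel.condition, zero_comp]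
    have hm : ∀ k, t' k ≫ cokernel.π (m k) = 0 := by
      intro k
      rw [← cokernel.π_desc (α k) _ (hcok k), ← Category.assoc,
        ← ht'.tr (Nat.le_add_right k c), Category.assoc (t' (k + c)),
        V2 (k + c) k (Nat.le_add_right k c) le_rfl, comp_zero, zero_comp]
    let u : ∀ k, S ⟶ Im k := fun k => Abelian.monoLift (m k) (t' k) (hm k)
    have hu : ∀ k, u k ≫ m k = t' k := fun k => Abelian.monoLift_comp _ _ _
    have hp : ∀ (j k : ℕ) (hjk : k ≤ j), k + c ≤ j → kernel.ι (p j) ≫ Y.tr hjk = 0 := by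
      intro j k hjk hc
      rw [← kernel.lift_ι (α j) _ (hker j), Category.assoc, V1 j k hjk hc, comp_zero]
    -- the maps `Im j ⟶ Y.N k` for `k + c ≤ j`
    have hβ : ∀ (j k : ℕ) (hjk : k ≤ j), k + c ≤ j → ∃ β : Im j ⟶ Y.N k, p j ≫ β = Y.tr hjk :=
      fun j k hjk hc => ⟨Abelian.epiDesc (p j) (Y.tr hjk) (hp j k hjk hc),
        Abelian.comp_epiDesc _ _ _⟩
    -- any two choices of lift agree
    have key : ∀ (j j' k : ℕ) (hjk : k ≤ j) (hj : j ≤ j') (β : Im j ⟶ Y.N k)
        (β' : Im j' ⟶ Y.N k), p j ≫ β = Y.tr hjk → p j' ≫ β' = Y.tr (hjk.trans hj) →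
        u j' ≫ β' = u j ≫ β := by
      intro j j' k hjk hj β β' hβ1 hβ2
      -- the induced map on images
      have h0 : (m j' ≫ Y'.tr hj) ≫ cokernel.π (m j) = 0 := by
        rw [← cancel_epi (p j'), comp_zero, ← Category.assoc, ← Category.assoc, hpm,
          ← Sys.tr_natural α hτ, ← hpm j, Category.assoc, Category.assoc, cokernel.condition,
          comp_zero, comp_zero]
      have hι : Abelian.monoLift (m j) (m j' ≫ Y'.tr hj) h0 ≫ m j = m j' ≫ Y'.tr hj :=
        Abelian.monoLift_comp _ _ _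
      have h1 : u j' ≫ Abelian.monoLift (m j) (m j' ≫ Y'.tr hj) h0 = u j := by
        rw [← cancel_mono (m j), Category.assoc, hι, ← Category.assoc, hu, hu, ht'.tr]
      have h2 : p j' ≫ Abelian.monoLift (m j) (m j' ≫ Y'.tr hj) h0 = Y.tr hj ≫ p j := by
        rw [← cancel_mono (m j), Category.assoc, hι, ← Category.assoc, hpm, Category.assoc, hpm,
          Sys.tr_natural α hτ]
      have h3 : Abelian.monoLift (m j) (m j' ≫ Y'.tr hj) h0 ≫ β = β' := by
        rw [← cancel_epi (p j'), ← Category.assoc, h2, Category.assoc, hβ1, hβ2, Y.tr_comp]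
      rw [← h1, Category.assoc, h3]
    choose β hβ' using hβ
    let t : ∀ k, S ⟶ Y.N k := fun k =>
      u (k + c) ≫ β (k + c) k (Nat.le_add_right k c) le_rfl
    have htα : ∀ k, t k ≫ α k = t' k := by
      intro k
      show (u (k + c) ≫ β (k + c) k (Nat.le_add_right k c) le_rfl) ≫ α k = t' k
      have h1 : β (k + c) k (Nat.le_add_right k c) le_rfl ≫ α k =
          m (k + c) ≫ Y'.tr (Nat.le_add_right k c) := by
        rw [← cancel_epi (p (k + c)), ← Category.assoc, hβ', Sys.tr_natural α hτ,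
          ← Category.assoc, hpm]
      rw [Category.assoc, h1, ← Category.assoc, hu, ht'.tr]
    have ht : Compat S Y t := by
      intro k
      show (u (k + 1 + c) ≫ β (k + 1 + c) (k + 1) (Nat.le_add_right (k + 1) c) le_rfl) ≫ Y.τ k =
        u (k + c) ≫ β (k + c) k (Nat.le_add_right k c) le_rfl
      rw [Category.assoc]
      refine key (k + c) (k + 1 + c) k (Nat.le_add_right k c) (by omega) _ _ (hβ' _ _ _ _) ?_
      rw [← Category.assoc, hβ', ← Y.tr_succ, Y.tr_comp]
    obtain ⟨φ, hφ⟩ := h.surj t ht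
    refine ⟨φ ≫ e.hom, fun k => ?_⟩
    rw [Category.assoc, ← hr, ← Category.assoc, hφ, htα]

end Groth.Agent.Helper1.LimProp
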