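import Mathlib
import Groth.Agent.Helper1.LimProp4
import Groth.Agent.Helper1.LimProp2
import Groth.Agent.Helper1.KLQuot
import Groth.Agent.Helper1.ARHom
import Groth.Agent.Helper1.TensorLin1
import Groth.Agent.Lead.SheafHomTilde
import Groth.Agent.Lead.FLFDual2

/-!
# HomCompl1: the systems `(𝓗om(M,N)/I^k)` and `(𝓗om(M, N/I^k N))`
-/

set_option autoImplicit false
set_option linter.style.haveILetI false
set_option linter.unusedSectionVars false

universe u

open CategoryTheory CategoryTheory.Limits AlgebraicGeometry Opposite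

namespace Groth.Agent.Helper1.HomCompl

open Groth.Agent.Helper1.Form Groth.Agent.Helper1.LimProp Groth.Agent.Lead
open Groth.Agent.Helper1.QuotPush Groth.Agent.Helper4

variable {A : Type u} [CommRing A] {X : Scheme.{u}} [X.Over (Spec (CommRingCat.of A))]

/-- the sheaf Hom functor `𝓗om(M, -)` -/
noncomputable abbrev hF (M : X.Modules) : X.Modules ⥤ X.Modules := SheafHomAdj.homFunctor M

instance additive_hF (M : X.Modules) : (hF M).Additive :=
  (SheafHomAdj.adj M).right_adjoint_additive

variable (A) in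
instance linear_hF (M : X.Modules) : (hF M).Linear A :=
  Groth.Agent.Helper1.TensorLin.linear_of_leftAdjoint (SheafHomAdj.adj M)

/-- the action of `𝓗om(M, -)` on morphisms, on sections -/
lemma toLin_map (M : X.Modules) {G G' : X.Modules} (ψ : G ⟶ G') (U : X.Opens)
    (t : Γ(RefHull.homSh M G, U)) (m : Γ(M, U)) :
    HomShC.toLin M G' (Scheme.Modules.Hom.app (M := RefHull.homSh M G)
      (N := RefHull.homSh M G') ((hF M).map ψ) U t) m = ψ.app U (HomShC.toLin M G t m) := by
  apply QcqsMod.section_ext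
  intro y hy
  rw [HomShC.germ_toLin, FLFDual.homFunctor_map_apply M ψ U t ⟨y, hy⟩, ← HomShC.germ_toLin,
    RefHull.stalkMapₗ_germ]

variable (I : Ideal A) (M N : X.Modules)

lemma kills_map (k : ℕ) : Kills (I ^ k) ((hF M).map (Formal.modPowπ I k N)) := fun a ha =>
  ((hF M).map_smul a (Formal.modPowπ I k N)).symm.trans
    ((congrArg (hF M).map ((isQuot_modPowπ I k N).kills a ha)).trans
      (Functor.map_zero _ _ _))

/-- the comparison `𝓗om(M,N)/I^k ⟶ 𝓗om(M, N/I^k N)` -/
noncomputable def α (k : ℕ) :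
    Formal.modPow I k (RefHull.homSh M N) ⟶ (hF M).obj (Formal.modPow I k N) :=
  (isQuot_modPowπ I k (RefHull.homSh M N)).desc
    ((hF M).map (Formal.modPowπ I k N)) (kills_map I M N k)

lemma π_α (k : ℕ) : Formal.modPowπ I k (RefHull.homSh M N) ≫ α I M N k =
    (hF M).map (Formal.modPowπ I k N) :=
  (isQuot_modPowπ I k (RefHull.homSh M N)).fac_desc _ _

lemma τ_α (k : ℕ) : Formal.modPowTrans I k (RefHull.homSh M N) ≫ α I M N k =
    α I M N (k + 1) ≫ (hF M).map (Formal.modPowTrans I k N) := by
  apply (isQuot_modPowπ I (k + 1) (RefHull.homSh M N)).hom_ext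
  have h1 : Formal.modPowπ I (k + 1) (RefHull.homSh M N) ≫
      Formal.modPowTrans I k (RefHull.homSh M N) ≫ α I M N k =
      (hF M).map (Formal.modPowπ I k N) := by
    rw [← Category.assoc, Formal.modPowπ_trans, π_α]
  have h2 : Formal.modPowπ I (k + 1) (RefHull.homSh M N) ≫ α I M N (k + 1) ≫
      (hF M).map (Formal.modPowTrans I k N) = (hF M).map (Formal.modPowπ I k N) := by
    rw [← Category.assoc, π_α]
    exact (((hF M).map_comp _ _).symm.trans
      (congrArg (hF M).map (Formal.modPowπ_trans I k N)))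
  exact h1.trans h2.symm

lemma Sys.map_tr {C D : Type*} [Category C] [Category D] (Y : Sys C) (G : C ⥤ D) {m n : ℕ}
    (h : n ≤ m) : (Y.map G).tr h = G.map (Y.tr h) := by
  induction m, h using Nat.le_induction with
  | base => rw [Sys.tr_refl, Sys.tr_refl, CategoryTheory.Functor.map_id]; rfl
  | succ m h ih =>
    rw [Sys.tr_succ_eq _ h, Sys.tr_succ_eq _ h, Functor.map_comp, ih]
    rfl

end Groth.Agent.Helper1.HomCompl
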