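import Mathlib
import Groth.Agent.Helper1.HomCompl1
import Groth.Agent.Helper4.CohFP
import Groth.Agent.Helper4.SecDict

/-!
# HomCompl2: the comparison `𝓗om(M,N)/I^k ⟶ 𝓗om(M, N/I^k N)` is a pro-isomorphism, locally
-/

set_option autoImplicit false
set_option linter.style.haveILetI false
set_option linter.unusedSectionVars false

universe u

open CategoryTheory CategoryTheory.Limits AlgebraicGeometry Opposite

namespace Groth.Agent.Helper1.HomCompl

open Groth.Agent.Helper1.Form Groth.Agent.Helper1.LimProp Groth.Agent.Lead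
open Groth.Agent.Helper1.QuotPush Groth.Agent.Helper4

variable {A : Type u} [CommRing A] {X : Scheme.{u}} [X.Over (Spec (CommRingCat.of A))]

/-- powers of a finitely generated ideal are generated by finite families -/
lemma exists_gens_pow {I : Ideal A} (hI : I.FG) (n : ℕ) :
    ∃ (r : ℕ) (g : Fin r → A), Ideal.span (Set.range g) = I ^ n :=
  Submodule.fg_iff_exists_fin_generating_family.1 (hI.pow (n := n))

/-- the kernel of `Γ(N, U) → Γ(N/IⁿN, U)` -/
lemma mem_of_modPowπ_app_eq_zero {I : Ideal A} (hI : I.FG) (n : ℕ) (N : X.Modules)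
    [N.IsQuasicoherent] {U : X.Opens} (hU : IsAffineOpen U) (s : Γ(N, U))
    (hs : (Formal.modPowπ I n N).app U s = 0) :
    s ∈ (I.map (ρ (A := A) U)) ^ n • (⊤ : Submodule Γ(X, U) Γ(N, U)) := by
  obtain ⟨r, g, hg⟩ := exists_gens_pow hI n
  have h1 : IsQuot (Ideal.span (Set.range g)) (Formal.modPowπ I n N) := by
    rw [hg]
    exact isQuot_modPowπ I n N
  have h2 := KLQuot.mem_smul_top_of_app_eq_zero g h1 hU s hs
  rwa [hg, Ideal.map_pow] at h2

/-- sections killed by `Iⁿ` -/
lemma app_eq_zero_of_mem {I : Ideal A} {n : ℕ} {N N' : X.Modules} {p : N ⟶ N'}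
    (hp : Kills (I ^ n) p) (U : X.Opens) {s : Γ(N, U)}
    (hs : s ∈ (I.map (ρ (A := A) U)) ^ n • (⊤ : Submodule Γ(X, U) Γ(N, U))) :
    p.app U s = 0 := by
  apply KLQuot.app_eq_zero_of_mem_smul_top hp U
  rwa [Ideal.map_pow]

variable [IsLocallyNoetherian X] (I : Ideal A) (hI : I.FG) (M N : X.Modules) (hM : Coh.IsCoh M)
  [N.IsQuasicoherent] {U : X.Opens} (hU : IsAffineOpen U)

include hM in
lemma isQuasicoherent_homSh' (G : X.Modules) [G.IsQuasicoherent] :
    (RefHull.homSh M G).IsQuasicoherent :=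
  HomShD.isQuasicoherent_homSh M G (CohFP.isFP_of_isCoh M hM.1 hM.2)

include hI hM hU in
/-- **the kernel of the comparison dies under the transition maps** -/
theorem local_V1 {c : ℕ}
    (hc : ∀ n k : ℕ, k + c ≤ n → ∀ f : Γ(M, U) →ₗ[Γ(X, U)] Γ(N, U),
      (∀ m, f m ∈ (I.map (ρ (A := A) U)) ^ n • (⊤ : Submodule Γ(X, U) Γ(N, U))) →
      f ∈ (I.map (ρ (A := A) U)) ^ k •
        (⊤ : Submodule Γ(X, U) (Γ(M, U) →ₗ[Γ(X, U)] Γ(N, U))))
    {j k : ℕ} (hjk : k + c ≤ j)
    (tr : Formal.modPow I j (RefHull.homSh M N) ⟶ Formal.modPow I k (RefHull.homSh M N))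
    (htr : Formal.modPowπ I j (RefHull.homSh M N) ≫ tr = Formal.modPowπ I k (RefHull.homSh M N))
    (y : Γ(Formal.modPow I j (RefHull.homSh M N), U)) (hy : (α I M N j).app U y = 0) :
    tr.app U y = 0 := by
  haveI : M.IsQuasicoherent := hM.1
  haveI : (RefHull.homSh M N).IsQuasicoherent := isQuasicoherent_homSh' M hM N
  obtain ⟨z, rfl⟩ := KLQuot.app_surjective (isQuot_modPowπ I j (RefHull.homSh M N)) hU y
  have h1 : Scheme.Modules.Hom.app (M := RefHull.homSh M N)
      (N := RefHull.homSh M (Formal.modPow I j N))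
      ((hF M).map (Formal.modPowπ I j N)) U z = 0 :=
    (congrArg (fun f => Scheme.Modules.Hom.app f U z) (π_α I M N j)).symm.trans hy
  have h2 : ∀ m, HomShE.toLinₗ M N U z m ∈
      (I.map (ρ (A := A) U)) ^ j • (⊤ : Submodule Γ(X, U) Γ(N, U)) := by
    intro m
    apply mem_of_modPowπ_app_eq_zero hI j N hU
    refine (toLin_map M (Formal.modPowπ I j N) U z m).symm.trans ?_
    have h3 := congrArg (fun t => HomShE.toLinₗ M (Formal.modPow I j N) U t m) h1
    exact h3.trans (by rw [map_zero]; rfl)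
  have h3 := hc j k hjk (HomShE.toLinₗ M N U z) h2
  have h4 : z ∈ (I.map (ρ (A := A) U)) ^ k •
      (⊤ : Submodule Γ(X, U) Γ(RefHull.homSh M N, U)) := by
    have h5 := Groth.Agent.Helper1.ARHom.apply_mem_smul_top
      (SheafHomTilde.sectionsEquiv M N hU).symm.toLinearMap h3
    have h6 : (SheafHomTilde.sectionsEquiv M N hU).symm (HomShE.toLinₗ M N U z) = z :=
      (SheafHomTilde.sectionsEquiv M N hU).symm_apply_apply z
    rw [← h6]
    exact h5
  have h5 := app_eq_zero_of_mem (isQuot_modPowπ I k (RefHull.homSh M N)).kills U h4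
  exact (congrArg (fun f => Scheme.Modules.Hom.app f U z) htr).trans h5

include hI hM hU in
/-- **the transition maps land in the image of the comparison** -/
theorem local_V2 {c : ℕ}
    (hc : ∀ n k : ℕ, k + c ≤ n → ∀ (Q' : Type u) [AddCommGroup Q'] [Module Γ(X, U) Q']
      (π : Γ(N, U) →ₗ[Γ(X, U)] Q'), Function.Surjective π →
      LinearMap.ker π ≤ (I.map (ρ (A := A) U)) ^ n • (⊤ : Submodule Γ(X, U) Γ(N, U)) →
      ∀ f : Γ(M, U) →ₗ[Γ(X, U)] Q', ∃ f' : Γ(M, U) →ₗ[Γ(X, U)] Γ(N, U),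
        ∀ m, π (f' m) - f m ∈ (I.map (ρ (A := A) U)) ^ k • (⊤ : Submodule Γ(X, U) Q'))
    {j k : ℕ} (hjk : k + c ≤ j)
    (trN : Formal.modPow I j N ⟶ Formal.modPow I k N)
    (htr : Formal.modPowπ I j N ≫ trN = Formal.modPowπ I k N)
    (h : Γ(RefHull.homSh M (Formal.modPow I j N), U)) :
    ∃ y : Γ(Formal.modPow I k (RefHull.homSh M N), U),
      (α I M N k).app U y = Scheme.Modules.Hom.app (M := RefHull.homSh M (Formal.modPow I j N))
        (N := RefHull.homSh M (Formal.modPow I k N)) ((hF M).map trN) U h := by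
  haveI : M.IsQuasicoherent := hM.1
  haveI : (RefHull.homSh M N).IsQuasicoherent := isQuasicoherent_homSh' M hM N
  let π : Γ(N, U) →ₗ[Γ(X, U)] Γ(Formal.modPow I j N, U) :=
    QcohEpi.appLin (Formal.modPowπ I j N) U
  have hπs : Function.Surjective π := KLQuot.app_surjective (isQuot_modPowπ I j N) hU
  have hπk : LinearMap.ker π ≤
      (I.map (ρ (A := A) U)) ^ j • (⊤ : Submodule Γ(X, U) Γ(N, U)) := fun s hs =>
    mem_of_modPowπ_app_eq_zero hI j N hU s hs
  obtain ⟨f', hf'⟩ := hc j k hjk _ π hπs hπk (HomShE.toLinₗ M (Formal.modPow I j N) U h)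
  let z : Γ(RefHull.homSh M N, U) := (SheafHomTilde.sectionsEquiv M N hU).symm f'
  have hz : HomShE.toLinₗ M N U z = f' := (SheafHomTilde.sectionsEquiv M N hU).apply_symm_apply f'
  refine ⟨(Formal.modPowπ I k (RefHull.homSh M N)).app U z, ?_⟩
  have h1 : (α I M N k).app U ((Formal.modPowπ I k (RefHull.homSh M N)).app U z) =
      Scheme.Modules.Hom.app (M := RefHull.homSh M N)
        (N := RefHull.homSh M (Formal.modPow I k N))
        ((hF M).map (Formal.modPowπ I k N)) U z :=
    congrArg (fun f => Scheme.Modules.Hom.app f U z) (π_α I M N k)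
  refine h1.trans ?_
  apply HomShE.toLinₗ_injective M (Formal.modPow I k N) hU
  apply LinearMap.ext
  intro m
  refine (toLin_map M (Formal.modPowπ I k N) U z m).trans ?_
  refine Eq.trans ?_ (toLin_map M trN U h m).symm
  have h2 : HomShC.toLin M N z m = f' m := LinearMap.congr_fun hz m
  rw [h2]
  have h3 : (Formal.modPowπ I k N).app U (f' m) = trN.app U (π (f' m)) :=
    (congrArg (fun f => Scheme.Modules.Hom.app f U (f' m)) htr).symm
  rw [h3]
  have h4 : trN.app U (π (f' m) - HomShE.toLinₗ M (Formal.modPow I j N) U h m) = 0 :=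
    app_eq_zero_of_mem
      (kills_of_killedBy_right (isQuot_modPowπ I k N).killedBy trN) U (hf' m)
  rw [map_sub, sub_eq_zero] at h4
  exact h4

end Groth.Agent.Helper1.HomCompl
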