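import Mathlib
import Groth.Agent.Helper1.FormB

/-!
# Pro-isomorphic coherent formal modules are isomorphic
-/

set_option autoImplicit false
set_option linter.style.haveILetI false

namespace Groth.Agent.Helper1.Form

open CategoryTheory CategoryTheory.Limits AlgebraicGeometry Opposite

universe u

variable {A : Type u} [CommRing A] {X : Scheme.{u}} [X.Over (Spec (CommRingCat.of A))]
variable {I : Ideal A}

/-- the canonical levelwise map from a re-indexed system -/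
noncomputable def reindexπ (F : ℕᵒᵖ ⥤ X.Modules) {m : ℕ → ℕ} (hm : Monotone m)
    (hle : ∀ n, n ≤ m n) : DerCA.reindex F hm ⟶ F where
  app n := F.map (homOfLE (hle n.unop)).op
  naturality a c f := by
    change F.map _ ≫ F.map _ = F.map _ ≫ F.map _
    rw [← F.map_comp, ← F.map_comp]
    rfl

lemma reindexπ_app (F : ℕᵒᵖ ⥤ X.Modules) {m : ℕ → ℕ} (hm : Monotone m)
    (hle : ∀ n, n ≤ m n) (n : ℕ) :
    (reindexπ F hm hle).app (op n) = F.map (homOfLE (hle n)).op := rfl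

theorem nonempty_iso_of_isProIsomorphic {F G : ℕᵒᵖ ⥤ X.Modules}
    (hF : ∀ {n m : ℕ} (h : n ≤ m), IsQuot (I ^ (n + 1)) (ARSys.tr F h))
    (hG : ∀ {n m : ℕ} (h : n ≤ m), IsQuot (I ^ (n + 1)) (ARSys.tr G h))
    (h : Algz.IsProIsomorphic F G) : Nonempty (F ≅ G) := by
  obtain ⟨m, hm, hle, a, ha⟩ := h
  have hkG : ∀ n, Formal.KilledBy (I ^ (n + 1)) (G.obj (op n)) := fun n => by
    have := (hG (le_refl n)).killedBy
    exact this
  have hkF : ∀ n, Formal.KilledBy (I ^ (n + 1)) (F.obj (op n)) := fun n => by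
    have := (hF (le_refl n)).killedBy
    exact this
  obtain ⟨β, hβ, -⟩ := exists_unique_factor (fun h => hF h) hkG m hm hle (reindexπ F hm hle)
    (fun n => rfl) a
  let a' : ∀ n : ℕ, F.obj (op (m n)) ⟶ G.obj (op n) := fun n => a.app (op n)
  have hβn : ∀ n : ℕ, ARSys.tr F (hle n) ≫ β.app (op n) = a' n := fun n => by
    have := congrArg (fun t => t.app (op n)) hβ
    exact this
  suffices ∀ n : ℕ, IsIso (β.app (op n)) by
    haveI : ∀ n : ℕᵒᵖ, IsIso (β.app n) := fun n => this n.unop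
    haveI : IsIso β := NatIso.isIso_of_isIso_app β
    exact ⟨asIso β⟩
  intro n
  obtain ⟨k, hk, b, h1, h2⟩ := ha n
  let b' : G.obj (op k) ⟶ F.obj (op (m n)) := b
  have h1' : a' k ≫ b' = ARSys.tr F (hm hk) := h1
  have h2' : b' ≫ a' n = ARSys.tr G hk := h2
  have hb : Kills (I ^ (n + 1)) (b' ≫ ARSys.tr F (hle n)) :=
    kills_of_killedBy_right (hkF n) _
  refine ⟨(hG hk).desc _ hb, ?_, ?_⟩
  · -- β_n ≫ γ = 𝟙
    have hnk : n ≤ m k := hk.trans (hle k)
    apply (hF hnk).hom_ext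
    have e1 : ARSys.tr F hnk = ARSys.tr F (hle k) ≫ ARSys.tr F hk :=
      (tr_comp F hk (hle k)).symm
    have e2 : ARSys.tr F hk ≫ β.app (op n) = β.app (op k) ≫ ARSys.tr G hk :=
      β.naturality (homOfLE hk).op
    have e3 : ARSys.tr F hnk ≫ β.app (op n) = a' k ≫ ARSys.tr G hk := by
      rw [e1, Category.assoc, e2, ← Category.assoc, hβn]
    have e4 : ARSys.tr F (hm hk) ≫ ARSys.tr F (hle n) = ARSys.tr F hnk := tr_comp F _ _
    calc ARSys.tr F hnk ≫ β.app (op n) ≫ (hG hk).desc _ hb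
        = (ARSys.tr F hnk ≫ β.app (op n)) ≫ (hG hk).desc _ hb := (Category.assoc _ _ _).symm
      _ = (a' k ≫ ARSys.tr G hk) ≫ (hG hk).desc _ hb := by rw [e3]
      _ = a' k ≫ (ARSys.tr G hk ≫ (hG hk).desc _ hb) := Category.assoc _ _ _
      _ = a' k ≫ (b' ≫ ARSys.tr F (hle n)) := by rw [IsQuot.fac_desc]
      _ = (a' k ≫ b') ≫ ARSys.tr F (hle n) := (Category.assoc _ _ _).symm
      _ = ARSys.tr F hnk := by rw [h1', e4]
      _ = ARSys.tr F hnk ≫ 𝟙 _ := (Category.comp_id _).symm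
  · -- γ ≫ β_n = 𝟙
    apply (hG hk).hom_ext
    calc ARSys.tr G hk ≫ (hG hk).desc _ hb ≫ β.app (op n)
        = (ARSys.tr G hk ≫ (hG hk).desc _ hb) ≫ β.app (op n) := (Category.assoc _ _ _).symm
      _ = (b' ≫ ARSys.tr F (hle n)) ≫ β.app (op n) := by rw [IsQuot.fac_desc]
      _ = b' ≫ (ARSys.tr F (hle n) ≫ β.app (op n)) := Category.assoc _ _ _
      _ = ARSys.tr G hk := by rw [hβn, h2']
      _ = ARSys.tr G hk ≫ 𝟙 _ := (Category.comp_id _).symm

theorem nonempty_iso_of_isCohFormal {F G : ℕᵒᵖ ⥤ X.Modules}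
    (hF : Formal.IsCohFormal I F) (hG : Formal.IsCohFormal I G)
    (h : Algz.IsProIsomorphic F G) : Nonempty (F ≅ G) :=
  nonempty_iso_of_isProIsomorphic (fun h => isQuot_tr_of_isCohFormal hF h)
    (fun h => isQuot_tr_of_isCohFormal hG h) h

end Groth.Agent.Helper1.Form
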