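import Mathlib
import Groth.Agent.Helper1.FormB
import Groth.Agent.Helper1.Dev6

/-!
# Pullback of coherent formal modules
-/

set_option autoImplicit false
set_option linter.style.haveILetI false

namespace Groth.Agent.Helper1.Form

open CategoryTheory CategoryTheory.Limits AlgebraicGeometry Opposite

universe u

section General

variable {R : Type*} [Semiring R] {C D : Type*} [Category C] [Category D] [Preadditive C]
  [Preadditive D] [Linear R C] [Linear R D]

/-- a left adjoint of a linear functor is linear -/
lemma linear_of_adjunction {F : C ⥤ D} {G : D ⥤ C} (adj : F ⊣ G) [F.Additive] [G.Additive]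
    [G.Linear R] : F.Linear R where
  map_smul {X Y} f r := by
    apply (adj.homEquiv X (F.obj Y)).injective
    have h1 := adj.unit.naturality (r • f)
    have h2 := adj.unit.naturality f
    simp only [Functor.id_map, Functor.comp_map] at h1 h2
    rw [Adjunction.homEquiv_unit, Adjunction.homEquiv_unit, ← h1, G.map_smul, Linear.comp_smul,
      ← h2, Linear.smul_comp]

end General

variable {A : Type u} [CommRing A] {X Y : Scheme.{u}} [X.Over (Spec (CommRingCat.of A))]
  [Y.Over (Spec (CommRingCat.of A))] (f : X ⟶ Y) [f.IsOver (Spec (CommRingCat.of A))]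

instance linear_pullback : (Scheme.Modules.pullback f).Linear A :=
  linear_of_adjunction (Scheme.Modules.pullbackPushforwardAdjunction f)

variable {f}

lemma Kills.map_pullback {J : Ideal A} {M N : Y.Modules} {p : M ⟶ N} (h : Kills J p) :
    Kills J ((Scheme.Modules.pullback f).map p) := fun a ha => by
  rw [← Functor.map_smul, h a ha, Functor.map_zero]

lemma killedBy_pullback {J : Ideal A} {M : Y.Modules} (h : Formal.KilledBy J M) :
    Formal.KilledBy J ((Scheme.Modules.pullback f).obj M) := by
  rw [killedBy_iff] at h ⊢
  have := h.map_pullback (f := f)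
  rwa [CategoryTheory.Functor.map_id] at this

lemma IsQuot.map_pullback {J : Ideal A} {M N : Y.Modules} {p : M ⟶ N} (hp : IsQuot J p) :
    IsQuot J ((Scheme.Modules.pullback f).map p) := by
  haveI := hp.epi
  refine ⟨inferInstance, hp.kills.map_pullback, ?_⟩
  intro Z g hg
  let adj := Scheme.Modules.pullbackPushforwardAdjunction f
  have h1 : Kills J (adj.homEquiv M Z g) := fun a ha => by
    rw [Adjunction.homEquiv_unit, ← Linear.comp_smul, ← Functor.map_smul, hg a ha,
      Functor.map_zero, comp_zero]
  refine ⟨(adj.homEquiv N Z).symm (hp.desc _ h1), ?_⟩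
  rw [← Adjunction.homEquiv_naturality_left_symm, hp.fac_desc, Equiv.symm_apply_apply]

theorem isCohFormal_pullback [IsNoetherian X] [IsNoetherian Y] {I : Ideal A}
    (G : ℕᵒᵖ ⥤ Y.Modules) (hG : Formal.IsCohFormal I G) :
    Formal.IsCohFormal I (G ⋙ Scheme.Modules.pullback f) := by
  rw [isCohFormal_iff] at hG ⊢
  refine ⟨fun n => Groth.Agent.Helper1.Dev.isCoh_pullback f _ (hG.1 n),
    fun n => killedBy_pullback (hG.2.1 n), fun n => ?_⟩
  exact (hG.2.2 n).map_pullback

end Groth.Agent.Helper1.Form
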