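import Mathlib
import Groth.Agent.Helper1.FormE
import Groth.Agent.Helper1.FormC
import Groth.Agent.Helper4.QuasiAffineGG
import Groth.Agent.Helper2.CohQ1

/-!
# Coherent formal modules: invariance under isomorphism, restriction to opens, pro-isomorphisms
under functors; "canonically extends ⟹ extends"
-/

set_option autoImplicit false
set_option linter.style.haveILetI false

namespace Groth.Agent.Helper1.Form

open CategoryTheory CategoryTheory.Limits AlgebraicGeometry Opposite

universe v u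

section Pro

variable {C : Type u} [Category.{v} C] {D : Type u} [Category.{v} D]

/-- functors preserve pro-isomorphic systems -/
theorem isProIsomorphic_whiskerRight {X Y : ARSys.PS C} (h : Algz.IsProIsomorphic X Y) (Φ : C ⥤ D) :
    Algz.IsProIsomorphic (X ⋙ Φ) (Y ⋙ Φ) := by
  obtain ⟨m, hm, hmn, a, ha⟩ := h
  refine ⟨m, hm, hmn, (Functor.whiskerRight a Φ : (Monotone.functor hm).op ⋙ X ⋙ Φ ⟶ Y ⋙ Φ), ?_⟩
  intro n
  obtain ⟨k, hk, b, hb1, hb2⟩ := ha n
  refine ⟨k, hk, Φ.map b, ?_, ?_⟩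
  · show Φ.map (a.app (op k)) ≫ Φ.map b = Φ.map (ARSys.tr (DerCA.reindex X hm) hk)
    rw [← Functor.map_comp, hb1]
  · show Φ.map b ≫ Φ.map (a.app (op n)) = Φ.map (ARSys.tr Y hk)
    rw [← Functor.map_comp, hb2]

/-- pro-isomorphy is invariant under isomorphism of the source system -/
theorem isProIsomorphic_of_iso_left {X X' Y : ARSys.PS C} (e : X ≅ X')
    (h : Algz.IsProIsomorphic X Y) : Algz.IsProIsomorphic X' Y := by
  obtain ⟨m, hm, hmn, a, ha⟩ := h
  refine ⟨m, hm, hmn, Functor.whiskerLeft (Monotone.functor hm).op e.inv ≫ a, ?_⟩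
  intro n
  obtain ⟨k, hk, b, hb1, hb2⟩ := ha n
  let ak : X.obj (op (m k)) ⟶ Y.obj (op k) := a.app (op k)
  let an : X.obj (op (m n)) ⟶ Y.obj (op n) := a.app (op n)
  let b' : Y.obj (op k) ⟶ X.obj (op (m n)) := b
  have h1 : ak ≫ b' = X.map (homOfLE (hm hk)).op := hb1
  have h2 : b' ≫ an = Y.map (homOfLE hk).op := hb2
  refine ⟨k, hk, b' ≫ e.hom.app (op (m n)), ?_, ?_⟩
  · show (e.inv.app (op (m k)) ≫ ak) ≫ b' ≫ e.hom.app (op (m n)) = X'.map (homOfLE (hm hk)).op
    rw [Category.assoc, ← Category.assoc ak, h1, e.hom.naturality, ← Category.assoc,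
      Iso.inv_hom_id_app, Category.id_comp]
  · show (b' ≫ e.hom.app (op (m n))) ≫ e.inv.app (op (m n)) ≫ an = Y.map (homOfLE hk).op
    rw [Category.assoc, ← Category.assoc (e.hom.app _), Iso.hom_inv_id_app, Category.id_comp, h2]

end Pro

variable {A : Type u} [CommRing A] {X : Scheme.{u}} [X.Over (Spec (CommRingCat.of A))]

/-- `IsCohFormal` is invariant under isomorphism of systems -/
theorem isCohFormal_of_iso {I : Ideal A} {F G : ℕᵒᵖ ⥤ X.Modules} (e : F ≅ G)
    (hF : Formal.IsCohFormal I F) : Formal.IsCohFormal I G := by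
  rw [isCohFormal_iff] at hF ⊢
  refine ⟨fun n => Groth.Agent.Helper2.CohQ1.isCoh_of_iso (e.app (op n)) (hF.1 n),
    fun n => killedBy_of_epi (e.hom.app (op n)) (hF.2.1 n), fun n => ?_⟩
  have h1 := ((hF.2.2 n).comp_iso (e.hom.app (op n))).iso_comp (e.inv.app (op (n + 1)))
  have h2 : e.inv.app (op (n + 1)) ≫ F.map (homOfLE (Nat.le_succ n)).op ≫ e.hom.app (op n) =
      G.map (homOfLE (Nat.le_succ n)).op := by
    rw [e.hom.naturality, ← Category.assoc, Iso.inv_hom_id_app, Category.id_comp]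
  rw [h2] at h1
  exact h1

end Groth.Agent.Helper1.Form
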