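import Mathlib
import Groth.Agent.Helper1.FormF

/-!
# Restriction of coherent formal modules to opens; "canonically extends ⟹ extends"
-/

set_option autoImplicit false
set_option linter.style.haveILetI false

namespace Groth.Agent.Helper1.Form

open CategoryTheory CategoryTheory.Limits AlgebraicGeometry Opposite

universe u

variable {A : Type u} [CommRing A] {X : Scheme.{u}} [X.Over (Spec (CommRingCat.of A))]

/-- restriction to an open preserves coherent formal modules -/
theorem isCohFormal_restrictSys [IsNoetherian X] (U : X.Opens) [IsNoetherian (U : Scheme.{u})]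
    {I : Ideal A} (G : ℕᵒᵖ ⥤ X.Modules) (hG : Formal.IsCohFormal I G) :
    Formal.IsCohFormal I (Algz.restrictSys U G) := by
  have h1 := isCohFormal_pullback (f := U.ι) G hG
  exact isCohFormal_of_iso
    (Functor.isoWhiskerLeft G (Scheme.Modules.restrictFunctorIsoPullback U.ι)).symm h1

/-- restriction along an open immersion over the base preserves coherent formal modules -/
theorem isCohFormal_restrictFunctor {Y : Scheme.{u}} [Y.Over (Spec (CommRingCat.of A))]
    (j : Y ⟶ X) [IsOpenImmersion j] [j.IsOver (Spec (CommRingCat.of A))]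
    [IsNoetherian X] [IsNoetherian Y]
    {I : Ideal A} (G : ℕᵒᵖ ⥤ X.Modules) (hG : Formal.IsCohFormal I G) :
    Formal.IsCohFormal I (G ⋙ Scheme.Modules.restrictFunctor j) := by
  have h1 := isCohFormal_pullback (f := j) G hG
  exact isCohFormal_of_iso
    (Functor.isoWhiskerLeft G (Scheme.Modules.restrictFunctorIsoPullback j)).symm h1

section Spec

variable (A) [IsNoetherianRing A] (U : (Spec (CommRingCat.of A)).Opens)

/-- the system `((H⁰(U, G_n))~)|_U` is isomorphic to `G` for quasi-coherent `G_n` -/
noncomputable def sectSysRestrictIso [CompactSpace (U : Scheme.{u})]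
    (G : ℕᵒᵖ ⥤ (U : Scheme.{u}).Modules) (hG : ∀ n, (G.obj n).IsQuasicoherent) :
    Algz.sectSys A U G ⋙ Scheme.Modules.restrictFunctor U.ι ≅ G :=
  have hiso : ∀ n, IsIso ((Scheme.Modules.fromTildeΓNatTrans (R := CommRingCat.of A)).app
      ((Scheme.Modules.pushforward U.ι).obj (G.obj n))) := fun n => by
    haveI := hG n
    exact Groth.Agent.Helper4.QuasiAffineGG.isIso_fromTildeΓ_pushforward_of_isOpenImmersion
      (R := CommRingCat.of A) U.ι (G.obj n)
  let e₁ : Algz.sectSys A U G ≅ G ⋙ Scheme.Modules.pushforward U.ι :=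
    NatIso.ofComponents
      (fun n => @asIso _ _ _ _ ((Scheme.Modules.fromTildeΓNatTrans (R := CommRingCat.of A)).app
        ((Scheme.Modules.pushforward U.ι).obj (G.obj n))) (hiso n))
      (fun {n m} φ => (Scheme.Modules.fromTildeΓNatTrans (R := CommRingCat.of A)).naturality
        ((Scheme.Modules.pushforward U.ι).map (G.map φ)))
  Functor.isoWhiskerRight e₁ (Scheme.Modules.restrictFunctor U.ι) ≪≫
    Functor.associator _ _ _ ≪≫
    Functor.isoWhiskerLeft G (Scheme.Modules.restrictFunctorAdjCounitIso U.ι) ≪≫
    Functor.rightUnitor G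

end Spec

end Groth.Agent.Helper1.Form

namespace Groth.Agent.Helper1.Form

open CategoryTheory CategoryTheory.Limits AlgebraicGeometry Opposite

universe u

lemma isNoetherian_opens_Spec (A : Type u) [CommRing A] [IsNoetherianRing A]
    (U : (Spec (CommRingCat.of A)).Opens) : IsNoetherian (U : Scheme.{u}) := by
  haveI : CompactSpace (U : Scheme.{u}) := isCompact_iff_compactSpace.mp
    (TopologicalSpace.NoetherianSpace.isCompact (U : Set (Spec (CommRingCat.of A))))
  exact {}

/-- restriction of a coherent formal module on `Spec A` (over itself through the identity) to an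
open -/
theorem isCohFormal_restrictSys_Spec (A : Type u) [CommRing A] [IsNoetherianRing A] (I : Ideal A)
    (U : (Spec (CommRingCat.of A)).Opens)
    (G' : ℕᵒᵖ ⥤ (Spec (CommRingCat.of A)).Modules)
    (hG' : @Formal.IsCohFormal A _ (Spec (CommRingCat.of A))
      ⟨𝟙 (Spec (CommRingCat.of A))⟩ I G') :
    Formal.IsCohFormal I (Algz.restrictSys U G') := by
  haveI : IsNoetherian (Spec (CommRingCat.of A)) := inferInstance
  haveI : IsNoetherian (U : Scheme.{u}) := isNoetherian_opens_Spec A U
  letI iX : (Spec (CommRingCat.of A)).Over (Spec (CommRingCat.of A)) := ⟨𝟙 _⟩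
  haveI : U.ι.IsOver (Spec (CommRingCat.of A)) := ⟨Category.comp_id _⟩
  exact isCohFormal_restrictFunctor U.ι G' hG'

/-- canonically extends ⟹ extends, for any open of `Spec A` -/
theorem extends_of_canonicallyExtends (A : Type u) [CommRing A] [IsNoetherianRing A] (I : Ideal A)
    (U : (Spec (CommRingCat.of A)).Opens)
    (G : ℕᵒᵖ ⥤ (U : Scheme.{u}).Modules) (hG : Formal.IsCohFormal I G)
    (h : Algz.CanonicallyExtends A I U G) :
    @Algz.Extends A _ (Spec (CommRingCat.of A)) ⟨𝟙 (Spec (CommRingCat.of A))⟩ I U G := by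
  obtain ⟨G', hG', hpro⟩ := h
  refine ⟨G', hG', ?_⟩
  haveI : IsNoetherian (U : Scheme.{u}) := isNoetherian_opens_Spec A U
  haveI : CompactSpace (U : Scheme.{u}) := inferInstance
  have h1 := isProIsomorphic_whiskerRight hpro (Scheme.Modules.restrictFunctor U.ι)
  have h2 := isProIsomorphic_of_iso_left
    (sectSysRestrictIso A U G (fun n => (hG.1 n.unop).1)) h1
  have h3 := isCohFormal_restrictSys_Spec A I U G' hG'
  obtain ⟨e⟩ := nonempty_iso_of_isCohFormal hG h3 h2
  exact ⟨e.symm⟩

end Groth.Agent.Helper1.Form
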