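import Mathlib
import Groth.Agent.Helper1.FormG
import Groth.Agent.Helper1.FormD
import Groth.Agent.Helper1.Rees2
import Groth.Agent.Helper4.SubInf6

/-!
# Completions of coherent modules are coherent formal modules; restriction commutes with
completion; "isomorphic to a completion ⟹ extends"
-/

set_option autoImplicit false
set_option linter.style.haveILetI false

namespace Groth.Agent.Helper1.Form

open CategoryTheory CategoryTheory.Limits AlgebraicGeometry Opposite

universe u

variable {A : Type u} [CommRing A] {X : Scheme.{u}} [X.Over (Spec (CommRingCat.of A))]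

/-- cancellation of an epimorphism on the left of a quotient map -/
lemma IsQuot.of_epi_comp {J : Ideal A} {M N P : X.Modules} (p : M ⟶ N) [Epi p] {t : N ⟶ P}
    (h : IsQuot J (p ≫ t)) : IsQuot J t := by
  haveI := h.epi
  haveI : Epi t := epi_of_epi p t
  refine ⟨inferInstance, Kills.of_epi_comp p h.kills, ?_⟩
  intro Z g hg
  obtain ⟨d, hd⟩ := h.fac (p ≫ g) (hg.comp_left p)
  refine ⟨d, ?_⟩
  rw [← cancel_epi p, ← Category.assoc, hd]

/-- the completion of a coherent module is a coherent formal module -/
theorem isCohFormal_completion [IsNoetherianRing A] [IsLocallyNoetherian X] (I : Ideal A)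
    (M : X.Modules) (hM : Coh.IsCoh M) : Formal.IsCohFormal I (Formal.completion I M) := by
  rw [isCohFormal_iff]
  refine ⟨fun n => Groth.Agent.Helper1.Rees.isCoh_modPow I (n + 1) M hM,
    fun n => (isQuot_modPowπ I (n + 1) M).killedBy, fun n => ?_⟩
  have h1 : (Formal.completion I M).map (homOfLE (Nat.le_succ n)).op =
      Formal.modPowTrans I (n + 1) M := completion_map_succ M n
  haveI : Epi (Formal.modPowπ I (n + 1 + 1) M) := (isQuot_modPowπ I (n + 1 + 1) M).epi
  have h2 : IsQuot (I ^ (n + 1))
      (Formal.modPowπ I (n + 1 + 1) M ≫ Formal.modPowTrans I (n + 1) M) := by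
    rw [Formal.modPowπ_trans]
    exact isQuot_modPowπ I (n + 1) M
  have h3 : IsQuot (I ^ (n + 1)) (Formal.modPowTrans I (n + 1) M) :=
    IsQuot.of_epi_comp (Formal.modPowπ I (n + 1 + 1) M) h2
  rw [h1]
  exact h3

end Groth.Agent.Helper1.Form

namespace Groth.Agent.Helper1.Form

open CategoryTheory CategoryTheory.Limits AlgebraicGeometry Opposite

universe u

variable {A : Type u} [CommRing A] {X : Scheme.{u}} [X.Over (Spec (CommRingCat.of A))]
  {Y : Scheme.{u}} [Y.Over (Spec (CommRingCat.of A))]
  (j : Y ⟶ X) [IsOpenImmersion j] [j.IsOver (Spec (CommRingCat.of A))]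

/-- restriction along an open immersion over the base preserves quotient maps -/
lemma IsQuot.map_restrict {J : Ideal A} {M N : X.Modules} {p : M ⟶ N} (hp : IsQuot J p) :
    IsQuot J ((Scheme.Modules.restrictFunctor j).map p) := by
  let e := Scheme.Modules.restrictFunctorIsoPullback j
  have h1 : (Scheme.Modules.restrictFunctor j).map p =
      e.hom.app M ≫ (Scheme.Modules.pullback j).map p ≫ e.inv.app N := by
    rw [← Category.assoc, ← e.hom.naturality, Category.assoc, Iso.hom_inv_id_app, Category.comp_id]
  rw [h1]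
  exact ((hp.map_pullback (f := j)).comp_iso (e.inv.app N)).iso_comp (e.hom.app M)

/-- restriction commutes with completion -/
theorem exists_completion_restrict_iso (I : Ideal A) (M : X.Modules) :
    Nonempty (Formal.completion I ((Scheme.Modules.restrictFunctor j).obj M) ≅
      Formal.completion I M ⋙ Scheme.Modules.restrictFunctor j) := by
  obtain ⟨e, -⟩ := exists_completion_iso (I := I) ((Scheme.Modules.restrictFunctor j).obj M)
    (Formal.completion I M ⋙ Scheme.Modules.restrictFunctor j)
    (fun n => (Scheme.Modules.restrictFunctor j).map (Formal.modPowπ I (n + 1) M))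
    (fun n => (isQuot_modPowπ I (n + 1) M).map_restrict j)
    (fun n => by
      show (Scheme.Modules.restrictFunctor j).map (Formal.modPowπ I (n + 1 + 1) M) ≫
        (Scheme.Modules.restrictFunctor j).map
          ((Formal.completion I M).map (homOfLE (Nat.le_add_right n 1)).op) =
        (Scheme.Modules.restrictFunctor j).map (Formal.modPowπ I (n + 1) M)
      rw [← Functor.map_comp, completion_map_succ]
      congr 1
      exact Formal.modPowπ_trans I (n + 1) M)
  exact ⟨e⟩

end Groth.Agent.Helper1.Form

namespace Groth.Agent.Helper1.Form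

open CategoryTheory CategoryTheory.Limits AlgebraicGeometry Opposite

universe u

/-- a coherent module on an open of `Spec A` (`A` Noetherian) extends to a coherent module -/
theorem exists_coh_extension (A : Type u) [CommRing A] [IsNoetherianRing A]
    (U : (Spec (CommRingCat.of A)).Opens) (F : (U : Scheme.{u}).Modules) (hF : Coh.IsCoh F) :
    ∃ (F' : (Spec (CommRingCat.of A)).Modules), Coh.IsCoh F' ∧
      Nonempty ((Scheme.Modules.restrictFunctor U.ι).obj F' ≅ F) := by
  haveI : IsNoetherian (U : Scheme.{u}) := isNoetherian_opens_Spec A U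
  haveI : F.IsQuasicoherent := hF.1
  have hX : ∀ x : (Spec (CommRingCat.of A)), ∃ V : (Spec (CommRingCat.of A)).Opens,
      x ∈ V ∧ TopologicalSpace.NoetherianSpace (V : Set (Spec (CommRingCat.of A))) :=
    fun x => ⟨⊤, trivial, inferInstance⟩
  haveI : QuasiCompact U.ι := Groth.Agent.Helper4.SubInf.quasiCompact_ι_of_locallyNoetherian hX U
  haveI : ((Scheme.Modules.pushforward U.ι).obj F).IsQuasicoherent :=
    Groth.Agent.Helper4.QcohGlue.isQuasicoherent_pushforward U.ι F
  let c := (Scheme.Modules.restrictFunctorAdjCounitIso U.ι).app F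
  obtain ⟨F', i, e, -, hq, hft, -⟩ :=
    Groth.Agent.Helper4.SubInf.exists_extension_locallyNoetherian hX U
      ((Scheme.Modules.pushforward U.ι).obj F) F hF.2 c.inv
  exact ⟨F', ⟨hq, hft⟩, ⟨e⟩⟩

/-- isomorphic to the completion of a coherent module on `U` ⟹ extends -/
theorem extends_of_completion_iso (A : Type u) [CommRing A] [IsNoetherianRing A] (I : Ideal A)
    (U : (Spec (CommRingCat.of A)).Opens)
    (G : ℕᵒᵖ ⥤ (U : Scheme.{u}).Modules)
    (F : (U : Scheme.{u}).Modules) (hF : Coh.IsCoh F) (e : Formal.completion I F ≅ G) :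
    @Algz.Extends A _ (Spec (CommRingCat.of A)) ⟨𝟙 (Spec (CommRingCat.of A))⟩ I U G := by
  obtain ⟨F', hF', ⟨r⟩⟩ := exists_coh_extension A U F hF
  letI iX : (Spec (CommRingCat.of A)).Over (Spec (CommRingCat.of A)) := ⟨𝟙 _⟩
  haveI : U.ι.IsOver (Spec (CommRingCat.of A)) := ⟨Category.comp_id _⟩
  refine ⟨Formal.completion I F', isCohFormal_completion I F' hF', ?_⟩
  obtain ⟨c⟩ := exists_completion_restrict_iso U.ι I F'
  -- `completion I (F'|_U) ≅ completion I F`
  obtain ⟨d, -⟩ := exists_completion_iso (I := I) ((Scheme.Modules.restrictFunctor U.ι).obj F')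
    (Formal.completion I F)
    (fun n => r.hom ≫ Formal.modPowπ I (n + 1) F)
    (fun n => (isQuot_modPowπ I (n + 1) F).iso_comp r.hom)
    (fun n => by
      rw [Category.assoc]
      congr 1
      show Formal.modPowπ I (n + 1 + 1) F ≫
          ((Formal.completion I F).map (homOfLE (Nat.le_add_right n 1)).op) =
        Formal.modPowπ I (n + 1) F
      rw [completion_map_succ]
      exact Formal.modPowπ_trans I (n + 1) F)
  exact ⟨c.symm ≪≫ d ≪≫ e⟩

end Groth.Agent.Helper1.Form
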