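import Mathlib

set_option autoImplicit false
universe u v

namespace Groth.Agent.Helper1.AdicHom

variable {A : Type u} [CommRing A] {M : Type v} {N : Type v}
  [AddCommGroup M] [Module A M] [AddCommGroup N] [Module A N]

/-- an element of `J • Hom(M,N)` maps `P` into `J • ⊤`. -/
theorem apply_mem_smul_top (J : Ideal A) {w : M →ₗ[A] N}
    (hw : w ∈ J • (⊤ : Submodule A (M →ₗ[A] N))) (m : M) :
    w m ∈ J • (⊤ : Submodule A N) := by
  refine Submodule.smul_induction_on hw ?_ ?_
  · intro r hr u _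
    rw [LinearMap.smul_apply]
    exact Submodule.smul_mem_smul hr trivial
  · intro x y hx hy
    rw [LinearMap.add_apply]
    exact Submodule.add_mem _ hx hy

/-- an element of `J • Hom(M,N)` maps `K • ⊤` into `(J * K) • ⊤`. -/
theorem apply_mem_mul_smul_top (J K : Ideal A) {w : M →ₗ[A] N}
    (hw : w ∈ J • (⊤ : Submodule A (M →ₗ[A] N))) {m : M} (hm : m ∈ K • (⊤ : Submodule A M)) :
    w m ∈ (J * K) • (⊤ : Submodule A N) := by
  refine Submodule.smul_induction_on hw ?_ ?_
  · intro r hr u _
    rw [LinearMap.smul_apply, mul_smul]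
    refine Submodule.smul_mem_smul hr ?_
    have : u m ∈ Submodule.map u (K • (⊤ : Submodule A M)) := ⟨m, hm, rfl⟩
    rw [Submodule.map_smul''] at this
    exact Submodule.smul_mono le_rfl le_top this
  · intro x y hx hy
    rw [LinearMap.add_apply]
    exact Submodule.add_mem _ hx hy

theorem surjective_add [IsNoetherianRing A] (I : Ideal A) [IsAdicComplete I A]
    [Module.Finite A N] (v : M →ₗ[A] N) (hv : Function.Surjective v)
    (w : M →ₗ[A] N) (hw : w ∈ I • (⊤ : Submodule A (M →ₗ[A] N))) :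
    Function.Surjective (v + w) := by
  rw [← LinearMap.range_eq_top, eq_top_iff]
  refine Submodule.le_of_le_smul_of_le_jacobson_bot (I := I) Module.Finite.fg_top
    (IsAdicComplete.le_jacobson_bot I) ?_
  intro n _
  obtain ⟨m, rfl⟩ := hv n
  have h1 : v m = (v + w) m + (- w m) := by simp
  rw [h1]
  exact Submodule.add_mem_sup (LinearMap.mem_range_self _ m)
    (Submodule.neg_mem _ (apply_mem_smul_top I hw m))

theorem injective_add [IsNoetherianRing A] (I : Ideal A) [IsAdicComplete I A]
    [Module.Finite A M] [Module.Finite A N] (v : M →ₗ[A] N) (hv : Function.Injective v) :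
    ∃ k : ℕ, ∀ w ∈ I ^ k • (⊤ : Submodule A (M →ₗ[A] N)), Function.Injective (v + w) := by
  obtain ⟨c, hc⟩ := Ideal.exists_pow_inf_eq_pow_smul I (LinearMap.range v)
  -- key consequence of Artin–Rees
  have key : ∀ n ≥ c, ∀ m : M, v m ∈ I ^ n • (⊤ : Submodule A N) →
      m ∈ I ^ (n - c) • (⊤ : Submodule A M) := by
    intro n hn m hm
    have h1 : v m ∈ I ^ n • (⊤ : Submodule A N) ⊓ LinearMap.range v :=
      ⟨hm, LinearMap.mem_range_self v m⟩
    rw [hc n hn] at h1
    have h2 : v m ∈ I ^ (n - c) • LinearMap.range v :=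
      Submodule.smul_mono le_rfl inf_le_right h1
    rw [LinearMap.range_eq_map, ← Submodule.map_smul''] at h2
    obtain ⟨m', hm', hmm'⟩ := h2
    rwa [← hv hmm']
  refine ⟨c + 1, fun w hw => ?_⟩
  rw [injective_iff_map_eq_zero]
  intro m hm
  have hvm : v m = - w m := by
    have : v m + w m = 0 := hm
    exact eq_neg_of_add_eq_zero_left this
  have hall : ∀ j : ℕ, m ∈ I ^ j • (⊤ : Submodule A M) := by
    intro j
    induction j with
    | zero => simp
    | succ j ih =>
      have h1 : w m ∈ (I ^ (c + 1) * I ^ j) • (⊤ : Submodule A N) :=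
        apply_mem_mul_smul_top _ _ hw ih
      rw [← pow_add] at h1
      have h2 : v m ∈ I ^ (c + 1 + j) • (⊤ : Submodule A N) := by
        rw [hvm]; exact Submodule.neg_mem _ h1
      have := key (c + 1 + j) (by omega) m h2
      have e : c + 1 + j - c = j + 1 := by omega
      rwa [e] at this
  have hbot := Ideal.iInf_pow_smul_eq_bot_of_le_jacobson (M := M) I
    (IsAdicComplete.le_jacobson_bot I)
  have : m ∈ (⨅ i : ℕ, I ^ i • ⊤ : Submodule A M) := (Submodule.mem_iInf _).2 hall
  rw [hbot] at this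
  exact (Submodule.mem_bot A).1 this

theorem pi_mem_smul_top {r : ℕ} (J : Ideal A) (x : Fin r → N)
    (hx : ∀ i, x i ∈ J • (⊤ : Submodule A N)) : x ∈ J • (⊤ : Submodule A (Fin r → N)) := by
  have hsum : x = ∑ i, LinearMap.single A (fun _ : Fin r => N) i (x i) := by
    funext j
    simp [Finset.sum_apply, Pi.single_apply]
  rw [hsum]
  refine Submodule.sum_mem _ (fun i _ => ?_)
  have : LinearMap.single A (fun _ : Fin r => N) i (x i) ∈
      Submodule.map (LinearMap.single A (fun _ : Fin r => N) i) (J • (⊤ : Submodule A N)) :=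
    ⟨x i, hx i, rfl⟩
  rw [Submodule.map_smul''] at this
  exact Submodule.smul_mono le_rfl le_top this

theorem exists_pow_hom [IsNoetherianRing A] (I : Ideal A)
    [Module.Finite A M] [Module.Finite A N] (n : ℕ) :
    ∃ m : ℕ, ∀ u : M →ₗ[A] N, LinearMap.range u ≤ I ^ m • (⊤ : Submodule A N) →
      u ∈ I ^ n • (⊤ : Submodule A (M →ₗ[A] N)) := by
  obtain ⟨r, g, hg⟩ := Module.Finite.exists_fin (R := A) (M := M)
  set E : (M →ₗ[A] N) →ₗ[A] (Fin r → N) := LinearMap.pi (fun i => LinearMap.applyₗ (g i)) with hE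
  have hEapp : ∀ u i, E u i = u (g i) := fun u i => rfl
  have hEinj : Function.Injective E := by
    rw [injective_iff_map_eq_zero]
    intro u hu
    apply LinearMap.ext_on_range hg
    intro i
    rw [← hEapp, hu]; rfl
  obtain ⟨c, hc⟩ := Ideal.exists_pow_inf_eq_pow_smul I (LinearMap.range E)
  refine ⟨n + c, fun u hu => ?_⟩
  have h1 : E u ∈ I ^ (n + c) • (⊤ : Submodule A (Fin r → N)) :=
    pi_mem_smul_top _ _ (fun i => hu (LinearMap.mem_range_self u (g i)))
  have h2 : E u ∈ I ^ (n + c) • (⊤ : Submodule A (Fin r → N)) ⊓ LinearMap.range E :=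
    ⟨h1, LinearMap.mem_range_self E u⟩
  rw [hc (n + c) (by omega), Nat.add_sub_cancel] at h2
  have h3 : E u ∈ I ^ n • LinearMap.range E := Submodule.smul_mono le_rfl inf_le_right h2
  rw [LinearMap.range_eq_map, ← Submodule.map_smul''] at h3
  obtain ⟨u', hu', huu'⟩ := h3
  rwa [← hEinj huu']

end Groth.Agent.Helper1.AdicHom
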