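import Mathlib

set_option autoImplicit false
universe u v

namespace Groth.Agent.Helper1.InvLim

/-- sections of an inverse system of sets with surjective transition maps through a given point -/
theorem exists_compatible : ∀ (n : ℕ) (B : ℕ → Type u) (t : ∀ n, B (n + 1) → B n)
    (_ : ∀ n, Function.Surjective (t n)) (b : B n),
    ∃ y : ∀ k, B k, (∀ k, t k (y (k + 1)) = y k) ∧ y n = b := by
  intro n
  induction n with
  | zero =>
    intro B t ht b
    refine ⟨fun k => Nat.rec (motive := fun k => B k) b (fun k yk => Function.surjInv (ht k) yk) k,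
      fun k => ?_, rfl⟩
    exact Function.surjInv_eq (ht k) _
  | succ n ih =>
    intro B t ht b
    obtain ⟨y', hy', hb⟩ := ih (fun k => B (k + 1)) (fun k => t (k + 1)) (fun k => ht (k + 1)) b
    refine ⟨fun k => match k with
      | 0 => t 0 (y' 0)
      | (k + 1) => y' k, fun k => ?_, hb⟩
    cases k with
    | zero => rfl
    | succ k => exact hy' k

section Approx

variable {A : Type u} [CommRing A] {L : Type v} [AddCommGroup L] [Module A L]

/-- the linear map `c ↦ Σ a i • c i` -/
noncomputable def phi {r : ℕ} (a : Fin r → A) : (Fin r → L) →ₗ[A] L :=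
  ∑ i, a i • LinearMap.proj i

theorem phi_apply {r : ℕ} (a : Fin r → A) (c : Fin r → L) : phi a c = ∑ i, a i • c i := by
  simp [phi]

theorem phi_mem {r : ℕ} (a : Fin r → A) (N : Submodule A L) (c : Fin r → L)
    (hc : ∀ i, c i ∈ N) : phi a c ∈ Ideal.span (Set.range a) • N := by
  rw [phi_apply]
  exact Submodule.sum_mem _ (fun i _ =>
    Submodule.smul_mem_smul (Ideal.subset_span ⟨i, rfl⟩) (hc i))

theorem phi_mem' {r : ℕ} (a : Fin r → A) (N : Submodule A L) (c : Fin r → L)
    (hc : ∀ i, c i ∈ N) : phi a c ∈ N := by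
  rw [phi_apply]
  exact Submodule.sum_mem _ (fun i _ => N.smul_mem _ (hc i))

theorem exists_phi_of_mem {r : ℕ} (a : Fin r → A) (N : Submodule A L) {y : L}
    (hy : y ∈ Ideal.span (Set.range a) • N) : ∃ c : Fin r → L, (∀ i, c i ∈ N) ∧ phi a c = y := by
  classical
  refine Submodule.smul_induction_on hy ?_ ?_
  · intro s hs n hn
    -- induction on `s ∈ span (range a)`
    have : ∀ s ∈ Ideal.span (Set.range a), ∃ c : Fin r → L, (∀ i, c i ∈ N) ∧ phi a c = s • n := by
      intro s hs
      refine Submodule.span_induction (p := fun s _ => ∃ c : Fin r → L, (∀ i, c i ∈ N) ∧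
        phi a c = s • n) ?_ ?_ ?_ ?_ hs
      · rintro _ ⟨i, rfl⟩
        refine ⟨Pi.single i n, fun j => ?_, ?_⟩
        · by_cases h : j = i
          · subst h; simpa using hn
          · simp [Pi.single_apply, h]
        · rw [phi_apply, Finset.sum_eq_single i]
          · simp
          · intro j _ hj; simp [Pi.single_apply, hj]
          · intro h; exact absurd (Finset.mem_univ i) h
      · exact ⟨0, fun _ => N.zero_mem, by simp⟩
      · rintro x y _ _ ⟨c, hc, hcx⟩ ⟨c', hc', hcy⟩
        exact ⟨c + c', fun i => N.add_mem (hc i) (hc' i), by rw [map_add, hcx, hcy, add_smul]⟩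
      · rintro t x _ ⟨c, hc, hcx⟩
        exact ⟨t • c, fun i => N.smul_mem t (hc i), by
          rw [map_smul, hcx, smul_eq_mul, mul_smul]⟩
    exact this s hs
  · rintro x y ⟨c, hc, hcx⟩ ⟨c', hc', hcy⟩
    exact ⟨c + c', fun i => N.add_mem (hc i) (hc' i), by rw [map_add, hcx, hcy]⟩

/-- shifted completeness -/
theorem compl_shift (F : ℕ → Submodule A L) (hanti : Antitone F)
    (hcompl : ∀ s : ℕ → L, (∀ k, s (k + 1) - s k ∈ F k) → ∃ x, ∀ k, x - s k ∈ F k)
    (m : ℕ) (s : ℕ → L) (hs : ∀ k, s (k + 1) - s k ∈ F (m + k)) :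
    ∃ y, ∀ k, y - s k ∈ F (m + k) := by
  obtain ⟨y, hy⟩ := hcompl s (fun k => hanti (Nat.le_add_left k m) (hs k))
  refine ⟨y, fun k => ?_⟩
  have htel : ∀ d, s (k + d) - s k ∈ F (m + k) := by
    intro d
    induction d with
    | zero => simp
    | succ d ih =>
      have h1 : s (k + (d + 1)) - s k = (s (k + d + 1) - s (k + d)) + (s (k + d) - s k) := by
        rw [← add_assoc]; abel
      rw [h1]
      exact (F (m + k)).add_mem (hanti (by omega) (hs (k + d))) ih
  have h2 : y - s k = (y - s (k + m)) + (s (k + m) - s k) := by abel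
  rw [h2]
  exact (F (m + k)).add_mem (by rw [add_comm m k]; exact hy (k + m)) (htel m)

theorem approx {r : ℕ} (a : Fin r → A) (F : ℕ → Submodule A L) (hanti : Antitone F)
    (hsep : ∀ x, (∀ m, x ∈ F m) → x = 0)
    (hcompl : ∀ s : ℕ → L, (∀ k, s (k + 1) - s k ∈ F k) → ∃ x, ∀ k, x - s k ∈ F k)
    (hstep : ∀ m, F (m + 1) ≤ Ideal.span (Set.range a) • F m ⊔ F (m + 2)) (m : ℕ) :
    F (m + 1) ≤ Ideal.span (Set.range a) • F m := by
  classical
  intro x hx
  -- the one-step decomposition
  have hdec : ∀ (k : ℕ) (y : L), y ∈ F (k + 1) →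
      ∃ (c : Fin r → L) (y' : L), (∀ i, c i ∈ F k) ∧ y' ∈ F (k + 2) ∧ y = phi a c + y' := by
    intro k y hy
    obtain ⟨z, hz, y', hy', rfl⟩ := Submodule.mem_sup.1 (hstep k hy)
    obtain ⟨c, hc, rfl⟩ := exists_phi_of_mem a (F k) hz
    exact ⟨c, y', hc, hy', rfl⟩
  choose! c y' hc hy' hyeq using hdec
  -- the sequences
  let X : ℕ → L := fun k => Nat.rec x (fun k Xk => y' (m + k) Xk) k
  have hX0 : X 0 = x := rfl
  have hXs : ∀ k, X (k + 1) = y' (m + k) (X k) := fun k => rfl
  have hXmem : ∀ k, X k ∈ F (m + k + 1) := by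
    intro k
    induction k with
    | zero => exact hx
    | succ k ih => rw [hXs]; exact hy' (m + k) (X k) ih
  let C : ℕ → (Fin r → L) := fun k => c (m + k) (X k)
  have hCmem : ∀ k i, C k i ∈ F (m + k) := fun k i => hc (m + k) (X k) (hXmem k) i
  have hXeq : ∀ k, X k = phi a (C k) + X (k + 1) := fun k => hyeq (m + k) (X k) (hXmem k)
  let S : ℕ → (Fin r → L) := fun k => ∑ j ∈ Finset.range k, C j
  have hS0 : S 0 = 0 := by simp [S]
  have hSs : ∀ k, S (k + 1) = S k + C k := fun k => Finset.sum_range_succ _ _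
  have hxS : ∀ k, x = phi a (S k) + X k := by
    intro k
    induction k with
    | zero => rw [hS0, map_zero, zero_add, hX0]
    | succ k ih => rw [hSs, map_add, add_assoc, ← hXeq]; exact ih
  -- limits coordinatewise
  have hlim : ∀ i, ∃ y, ∀ k, y - S k i ∈ F (m + k) := by
    intro i
    refine compl_shift F hanti hcompl m (fun k => S k i) (fun k => ?_)
    have : S (k + 1) i - S k i = C k i := by rw [hSs]; simp
    rw [this]
    exact hCmem k i
  choose y hy using hlim
  have hyF : ∀ i, y i ∈ F m := by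
    intro i
    have := hy i 0
    rw [hS0] at this
    simpa using this
  have hxy : x = phi a y := by
    rw [← sub_eq_zero]
    apply hsep
    intro k
    have h1 : x - phi a y = X k - phi a (y - S k) := by
      rw [map_sub]
      nth_rewrite 1 [hxS k]
      abel
    rw [h1]
    refine (F k).sub_mem (hanti (by omega) (hXmem k)) ?_
    exact phi_mem' a (F k) _ (fun i => hanti (Nat.le_add_left k m) (hy i k))
  rw [hxy]
  exact phi_mem a (F m) y hyF

theorem le_pow_smul_top {r : ℕ} (a : Fin r → A) (F : ℕ → Submodule A L) (h0 : F 0 = ⊤)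
    (h : ∀ m, F (m + 1) ≤ Ideal.span (Set.range a) • F m) (m : ℕ) :
    F m ≤ Ideal.span (Set.range a) ^ m • (⊤ : Submodule A L) := by
  induction m with
  | zero => rw [h0, pow_zero, Ideal.one_eq_top, Submodule.top_smul]
  | succ m ih =>
    refine (h m).trans ?_
    rw [pow_succ', Submodule.mul_smul]
    exact Submodule.smul_mono le_rfl ih

/-- Nakayama for a nilpotent ideal -/
theorem le_of_le_sup_sq {R : Type u} [CommRing R] (P J : Ideal R) (hPJ : P ≤ J)
    (h : J ≤ P ⊔ J ^ 2) (N : ℕ) (hN : J ^ N = ⊥) : J ≤ P := by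
  have hk : ∀ k : ℕ, J ≤ P ⊔ J ^ (k + 1) := by
    intro k
    induction k with
    | zero => rw [zero_add, pow_one]; exact le_sup_right
    | succ k ih =>
      have h1 : J ^ (k + 1) ≤ P ⊔ J ^ (k + 2) := by
        calc J ^ (k + 1) = J ^ k * J := pow_succ J k
          _ ≤ J ^ k * (P ⊔ J ^ 2) := Ideal.mul_mono_right h
          _ = J ^ k * P ⊔ J ^ k * J ^ 2 := Ideal.mul_sup _ _ _
          _ ≤ P ⊔ J ^ (k + 2) := by
            refine sup_le_sup Ideal.mul_le_right ?_
            rw [← pow_add]
      exact ih.trans (sup_le le_sup_left h1)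
  rcases N with _ | N
  · rw [pow_zero, Ideal.one_eq_top] at hN
    have : J = ⊥ := by
      rw [eq_bot_iff, ← hN]; exact le_top
    rw [this]; exact bot_le
  · have := hk N
    rwa [hN, sup_bot_eq] at this

end Approx

end Groth.Agent.Helper1.InvLim
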