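import Mathlib
import Groth.Agent.Helper1.InvLim
import Groth.Agent.Helper1.AdicHom

set_option autoImplicit false
universe u v

namespace Groth.Agent.Helper1.InvLimMod

open Groth.Agent.Helper1.InvLim

theorem isPrecomplete_pi {A : Type u} [CommRing A] (I : Ideal A) [IsPrecomplete I A] (r : ℕ) :
    IsPrecomplete I (Fin r → A) := by
  refine ⟨fun f hf => ?_⟩
  have hcoord : ∀ i, ∃ L, ∀ n, f n i ≡ L [SMOD (I ^ n • ⊤ : Submodule A A)] := by
    intro i
    apply IsPrecomplete.prec' (fun n => f n i)
    intro m n hmn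
    have := hf hmn
    rw [SModEq.sub_mem] at this ⊢
    have h2 : LinearMap.proj (R := A) (φ := fun _ : Fin r => A) i (f m - f n) ∈
        Submodule.map (LinearMap.proj (R := A) (φ := fun _ : Fin r => A) i)
          (I ^ m • (⊤ : Submodule A (Fin r → A))) := ⟨_, this, rfl⟩
    rw [Submodule.map_smul''] at h2
    exact Submodule.smul_mono le_rfl le_top h2
  choose L hL using hcoord
  refine ⟨L, fun n => ?_⟩
  rw [SModEq.sub_mem]
  apply Groth.Agent.Helper1.AdicHom.pi_mem_smul_top
  intro i
  exact SModEq.sub_mem.1 (hL i n)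

section
variable (A : Type u) [CommRing A] (I : Ideal A) (hI : I.FG)
    (M : ℕ → Type v) [∀ n, AddCommGroup (M n)] [∀ n, Module A (M n)]
    (f : ∀ n, M (n + 1) →ₗ[A] M n) (hf : ∀ n, Function.Surjective (f n))
    (hker : ∀ n, LinearMap.ker (f n) = I ^ (n + 1) • (⊤ : Submodule A (M (n + 1))))
    (L : Type v) [AddCommGroup L] [Module A L] (π : ∀ n, L →ₗ[A] M n)
    (hπ : ∀ n, f n ∘ₗ π (n + 1) = π n)
    (hinj : ∀ x : L, (∀ n, π n x = 0) → x = 0)
    (hlift : ∀ y : (∀ n, M n), (∀ n, f n (y (n + 1)) = y n) → ∃ x : L, ∀ n, π n x = y n)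

include hf hlift in
theorem surj (n : ℕ) : Function.Surjective (π n) := by
  intro b
  obtain ⟨y, hy, hb⟩ := exists_compatible n M (fun k => f k) hf b
  obtain ⟨x, hx⟩ := hlift y hy
  exact ⟨x, (hx n).trans hb⟩

/-- the filtration: `⊤`, then the kernels -/
def Fil : ℕ → Submodule A L := fun m => Nat.casesOn m ⊤ (fun n => LinearMap.ker (π n))

include hπ in
theorem ker_anti (n : ℕ) : LinearMap.ker (π (n + 1)) ≤ LinearMap.ker (π n) := by
  intro x hx
  rw [LinearMap.mem_ker] at hx ⊢
  rw [← hπ n, LinearMap.comp_apply, hx, map_zero]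

include hπ in
theorem fil_anti : Antitone (Fil A M L π) := by
  apply antitone_nat_of_succ_le
  intro n
  cases n with
  | zero => exact le_top
  | succ n => exact ker_anti A M f L π hπ n

include hinj in
theorem fil_sep (x : L) (hx : ∀ m, x ∈ Fil A M L π m) : x = 0 :=
  hinj x (fun n => LinearMap.mem_ker.1 (hx (n + 1)))

include hπ hlift in
theorem fil_compl (s : ℕ → L) (hs : ∀ k, s (k + 1) - s k ∈ Fil A M L π k) :
    ∃ x, ∀ k, x - s k ∈ Fil A M L π k := by
  obtain ⟨x, hx⟩ := hlift (fun n => π n (s (n + 1))) (fun n => by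
    have h1 : s (n + 2) - s (n + 1) ∈ LinearMap.ker (π n) := hs (n + 1)
    rw [LinearMap.mem_ker, map_sub, sub_eq_zero] at h1
    have h2 : f n (π (n + 1) (s (n + 1 + 1))) = π n (s (n + 2)) := by
      rw [← hπ n]; rfl
    rw [h2, h1])
  refine ⟨x, fun k => ?_⟩
  cases k with
  | zero => exact Submodule.mem_top
  | succ n =>
    show x - s (n + 1) ∈ LinearMap.ker (π n)
    rw [LinearMap.mem_ker, map_sub, hx n, sub_self]

include hf hker in
theorem kill (n : ℕ) : I ^ (n + 1) • (⊤ : Submodule A (M n)) = ⊥ := by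
  have h1 : Submodule.map (f n) (I ^ (n + 1) • (⊤ : Submodule A (M (n + 1)))) =
      I ^ (n + 1) • (⊤ : Submodule A (M n)) := by
    rw [Submodule.map_smul'', Submodule.map_top, LinearMap.range_eq_top.2 (hf n)]
  rw [← h1, ← hker n]
  rw [eq_bot_iff]
  rintro _ ⟨x, hx, rfl⟩
  exact hx

include hf hker in
theorem pow_le_ker (n : ℕ) : I ^ (n + 1) • (⊤ : Submodule A L) ≤ LinearMap.ker (π n) := by
  intro x hx
  rw [LinearMap.mem_ker]
  have h1 : π n x ∈ Submodule.map (π n) (I ^ (n + 1) • (⊤ : Submodule A L)) := ⟨x, hx, rfl⟩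
  rw [Submodule.map_smul''] at h1
  have h2 : π n x ∈ I ^ (n + 1) • (⊤ : Submodule A (M n)) :=
    Submodule.smul_mono le_rfl le_top h1
  rw [kill A I M f hf hker n] at h2
  exact (Submodule.mem_bot A).1 h2

include hf hker hπ hlift in
theorem ker_le_sup (m : ℕ) : LinearMap.ker (π m) ≤
    I ^ (m + 1) • (⊤ : Submodule A L) ⊔ LinearMap.ker (π (m + 1)) := by
  intro x hx
  rw [LinearMap.mem_ker] at hx
  have h1 : π (m + 1) x ∈ LinearMap.ker (f m) := by
    rw [LinearMap.mem_ker]
    have : f m (π (m + 1) x) = π m x := by rw [← hπ m]; rfl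
    rw [this, hx]
  rw [hker m] at h1
  have h2 : (⊤ : Submodule A (M (m + 1))) = Submodule.map (π (m + 1)) ⊤ := by
    rw [Submodule.map_top, LinearMap.range_eq_top.2 (surj A M f hf L π hlift (m + 1))]
  rw [h2, ← Submodule.map_smul''] at h1
  obtain ⟨y, hy, hyx⟩ := h1
  have h3 : x = y + (x - y) := by abel
  rw [h3]
  refine Submodule.add_mem_sup hy ?_
  rw [LinearMap.mem_ker, map_sub, hyx, sub_self]

include hf hker hπ hlift in
theorem fil_step {r : ℕ} (a : Fin r → A) (ha : Ideal.span (Set.range a) = I) (m : ℕ) :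
    Fil A M L π (m + 1) ≤ Ideal.span (Set.range a) • Fil A M L π m ⊔ Fil A M L π (m + 2) := by
  rw [ha]
  cases m with
  | zero =>
    have := ker_le_sup A I M f hf hker L π hπ hlift 0
    rw [zero_add, pow_one] at this
    exact this
  | succ m =>
    refine (ker_le_sup A I M f hf hker L π hπ hlift (m + 1)).trans ?_
    refine sup_le_sup ?_ le_rfl
    rw [pow_succ', Submodule.mul_smul]
    exact Submodule.smul_mono le_rfl (pow_le_ker A I M f hf hker L π m)

include hI hf hker hπ hinj hlift in
theorem ker_eq (n : ℕ) : LinearMap.ker (π n) = I ^ (n + 1) • (⊤ : Submodule A L) := by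
  obtain ⟨r, a, ha⟩ := Submodule.fg_iff_exists_fin_generating_family.1 hI
  have ha' : Ideal.span (Set.range a) = I := ha
  apply le_antisymm _ (pow_le_ker A I M f hf hker L π n)
  have happ := approx a (Fil A M L π) (fil_anti A M f L π hπ) (fil_sep A M L π hinj)
    (fil_compl A M f L π hπ hlift) (fil_step A I M f hf hker L π hπ hlift a ha')
  have := le_pow_smul_top a (Fil A M L π) rfl happ (n + 1)
  rw [ha'] at this
  exact this

include hI hf hker hπ hinj hlift in
theorem adicComplete : IsAdicComplete I L := by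
  have hk := ker_eq A I hI M f hf hker L π hπ hinj hlift
  have hH : IsHausdorff I L := by
    refine ⟨fun x hx => hinj x (fun n => ?_)⟩
    have := hx (n + 1)
    rw [SModEq.zero] at this
    rw [← hk n] at this
    exact LinearMap.mem_ker.1 this
  have hP : IsPrecomplete I L := by
    refine ⟨fun s hs => ?_⟩
    obtain ⟨x, hx⟩ := fil_compl A M f L π hπ hlift s (fun k => by
      cases k with
      | zero => exact Submodule.mem_top
      | succ n =>
        show s (n + 2) - s (n + 1) ∈ LinearMap.ker (π n)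
        rw [hk n]
        have := hs (Nat.le_succ (n + 1))
        rw [SModEq.sub_mem] at this
        have h2 := Submodule.neg_mem _ this
        rwa [neg_sub] at h2)
    refine ⟨x, fun k => ?_⟩
    rw [SModEq.sub_mem]
    cases k with
    | zero => rw [pow_zero, Ideal.one_eq_top, Submodule.top_smul]; exact Submodule.mem_top
    | succ n =>
      have := hx (n + 1)
      have h1 : x - s (n + 1) ∈ LinearMap.ker (π n) := this
      rw [hk n] at h1
      have h2 := Submodule.neg_mem _ h1
      rwa [neg_sub] at h2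
  exact { toIsHausdorff := hH, toIsPrecomplete := hP }

include hI hf hker hπ hinj hlift in
theorem finite_of_complete (hA : IsAdicComplete I A) (hM0 : Module.Finite A (M 0)) :
    Module.Finite A L := by
  have hk := ker_eq A I hI M f hf hker L π hπ hinj hlift 0
  rw [zero_add, pow_one] at hk
  have : IsAdicComplete I L := adicComplete A I hI M f hf hker L π hπ hinj hlift
  obtain ⟨r, g, hg⟩ := Module.Finite.exists_fin (R := A) (M := M 0)
  have hs0 := surj A M f hf L π hlift 0
  choose l hl using fun i => hs0 (g i)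
  let ψ : (Fin r → A) →ₗ[A] L := Fintype.linearCombination A l
  have : IsPrecomplete I (Fin r → A) := isPrecomplete_pi I r
  have hsurj : Function.Surjective ((I • (⊤ : Submodule A L)).mkQ ∘ₗ ψ) := by
    intro z
    obtain ⟨x, rfl⟩ := Submodule.mkQ_surjective _ z
    have hx : π 0 x ∈ Submodule.span A (Set.range g) := by rw [hg]; trivial
    obtain ⟨c, hc⟩ := (Submodule.mem_span_range_iff_exists_fun A).1 hx
    refine ⟨c, ?_⟩
    rw [LinearMap.comp_apply, Submodule.mkQ_apply, Submodule.mkQ_apply, Submodule.Quotient.eq,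
      ← hk, LinearMap.mem_ker, map_sub, ← hc]
    simp only [ψ, Fintype.linearCombination_apply, map_sum, map_smul, hl, sub_self]
  have := surjective_of_mkQ_comp_surjective (I := I) hsurj
  exact Module.Finite.of_surjective ψ this

end

end Groth.Agent.Helper1.InvLimMod
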