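import Mathlib
import Groth.Agent.Helper1.KLQuot
import Groth.Agent.Helper1.FormH
import Groth.Agent.Lead.SheafHomTilde
import Groth.Agent.Helper4.QcohLocal
import Groth.Agent.S0797

/-!
# AffAlgz1: coherent formal modules on `Spec A`, `A` Noetherian and `I`-adically complete, are
completions of coherent modules
-/

set_option autoImplicit false
set_option linter.style.haveILetI false
set_option linter.unusedSectionVars false

universe u

open CategoryTheory CategoryTheory.Limits AlgebraicGeometry Opposite

namespace Groth.Agent.Helper1.AffAlgz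

open Groth.Agent.Helper1.Form Groth.Agent.Helper1.QuotPush Groth.Agent.Lead Groth.Agent.Helper4
open Groth.Agent.Helper1.KLQuot

variable (A : Type u) [CommRing A]

/-- `Spec A` as a scheme over itself -/
@[reducible] noncomputable def selfOver :
    (Spec (CommRingCat.of A)).Over (Spec (CommRingCat.of A)) := ⟨𝟙 _⟩

attribute [local instance] selfOver

set_option backward.isDefEq.respectTransparency false in
lemma rho_top (a : A) :
    ρ (A := A) (X := Spec (CommRingCat.of A)) ⊤ a = (Scheme.ΓSpecIso (CommRingCat.of A)).inv.hom a := by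
  show (Coh.resTop _ (op ⊤)) ((Coh.toGlobal (𝟙 (Spec (CommRingCat.of A)))) a) = _
  unfold Coh.toGlobal Coh.resTop
  simp
  rfl

variable {A}

/-- sections of a module on `Spec R` as an `R`-module (Mathlib's instance) -/
@[reducible] noncomputable def modR (R : CommRingCat.{u}) (K : (Spec R).Modules)
    (U : (Spec R).Opens) : Module R Γ(K, U) := inferInstance

/-- sections of a module on `Spec A` as an `A`-module -/
noncomputable instance modA (K : (Spec (CommRingCat.of A)).Modules)
    (U : (Spec (CommRingCat.of A)).Opens) : Module A Γ(K, U) :=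
  modR (CommRingCat.of A) K U

lemma smul_def' (K : (Spec (CommRingCat.of A)).Modules)
    (U : (Spec (CommRingCat.of A)).Opens) (a : A) (x : Γ(K, U)) :
    a • x = ((Spec (CommRingCat.of A)).presheaf.map U.leTop.op)
      ((Scheme.ΓSpecIso (CommRingCat.of A)).inv a) • x := rfl

set_option backward.isDefEq.respectTransparency false in
/-- the two scalar multiplications on global sections agree -/
lemma smul_eq (K : (Spec (CommRingCat.of A)).Modules) (a : A)
    (x : Γ(K, (⊤ : (Spec (CommRingCat.of A)).Opens))) :
    a • x = ρ (A := A) (X := Spec (CommRingCat.of A)) ⊤ a • x := by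
  rw [rho_top, smul_def']
  congr 1

lemma mem_map_smul_top_of_mem (J : Ideal A) (K : (Spec (CommRingCat.of A)).Modules)
    {x : Γ(K, (⊤ : (Spec (CommRingCat.of A)).Opens))}
    (hx : x ∈ J • (⊤ : Submodule A Γ(K, (⊤ : (Spec (CommRingCat.of A)).Opens)))) :
    x ∈ (J.map (ρ (A := A) (X := Spec (CommRingCat.of A)) ⊤)) •
      (⊤ : Submodule Γ(Spec (CommRingCat.of A), ⊤) Γ(K, (⊤ : (Spec (CommRingCat.of A)).Opens))) := by
  refine Submodule.smul_induction_on hx (fun a ha m _ => ?_)
    (fun x y hx hy => Submodule.add_mem _ hx hy)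
  rw [smul_eq]
  exact Submodule.smul_mem_smul (Ideal.mem_map_of_mem _ ha) Submodule.mem_top

lemma mem_smul_top_of_mem_map (J : Ideal A) (K : (Spec (CommRingCat.of A)).Modules)
    {x : Γ(K, (⊤ : (Spec (CommRingCat.of A)).Opens))}
    (hx : x ∈ (J.map (ρ (A := A) (X := Spec (CommRingCat.of A)) ⊤)) •
      (⊤ : Submodule Γ(Spec (CommRingCat.of A), ⊤) Γ(K, (⊤ : (Spec (CommRingCat.of A)).Opens)))) :
    x ∈ J • (⊤ : Submodule A Γ(K, (⊤ : (Spec (CommRingCat.of A)).Opens))) := by
  have key : ∀ r ∈ J.map (ρ (A := A) (X := Spec (CommRingCat.of A)) ⊤),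
      ∀ m : Γ(K, (⊤ : (Spec (CommRingCat.of A)).Opens)),
        r • m ∈ J • (⊤ : Submodule A Γ(K, (⊤ : (Spec (CommRingCat.of A)).Opens))) := by
    intro r hr
    refine Submodule.span_induction
      (p := fun r _ => ∀ m : Γ(K, (⊤ : (Spec (CommRingCat.of A)).Opens)),
        r • m ∈ J • (⊤ : Submodule A Γ(K, (⊤ : (Spec (CommRingCat.of A)).Opens)))) ?_ ?_ ?_ ?_ hr
    · rintro _ ⟨a, ha, rfl⟩ m
      rw [← smul_eq]
      exact Submodule.smul_mem_smul ha Submodule.mem_top
    · intro m
      rw [zero_smul]
      exact Submodule.zero_mem _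
    · intro x y _ _ hx hy m
      rw [add_smul]
      exact Submodule.add_mem _ (hx m) (hy m)
    · intro x y _ hy m
      have : (x • y) • m = y • (x • m) := by
        rw [smul_eq_mul, mul_comm, mul_smul]
      rw [this]
      exact hy _
  refine Submodule.smul_induction_on hx (fun r hr m _ => key r hr m)
    (fun x y hx hy => Submodule.add_mem _ hx hy)

end Groth.Agent.Helper1.AffAlgz
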