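import Mathlib
import Groth.Agent.Helper1.AffAlgz1
import Groth.Agent.Helper1.HomCompl2
import Groth.Agent.Helper4.FTTilde

/-!
# AffAlgz2: the module of compatible global sections of a coherent formal module on `Spec A`
-/

set_option autoImplicit false
set_option linter.style.haveILetI false
set_option linter.unusedSectionVars false

universe u

open CategoryTheory CategoryTheory.Limits AlgebraicGeometry Opposite

namespace Groth.Agent.Helper1.AffAlgz

open Groth.Agent.Helper1.Form Groth.Agent.Helper1.QuotPush Groth.Agent.Lead Groth.Agent.Helper4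
open Groth.Agent.Helper1.KLQuot

attribute [local instance] selfOver

variable {A : Type u} [CommRing A]

/-- the map on sections, as an `A`-linear map -/
noncomputable def appA {K K' : (Spec (CommRingCat.of A)).Modules} (φ : K ⟶ K')
    (U : (Spec (CommRingCat.of A)).Opens) : Γ(K, U) →ₗ[A] Γ(K', U) where
  toFun := φ.app U
  map_add' := map_add _
  map_smul' a x := by
    rw [RingHom.id_apply, smul_def', smul_def']
    exact Scheme.Modules.Hom.app_smul φ _ x

@[simp] lemma appA_apply {K K' : (Spec (CommRingCat.of A)).Modules} (φ : K ⟶ K')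
    (U : (Spec (CommRingCat.of A)).Opens) (x : Γ(K, U)) : appA φ U x = φ.app U x := rfl

/-- finiteness of global sections of coherent modules on `Spec A`, over `A` -/
lemma finite_sections_top (K : (Spec (CommRingCat.of A)).Modules) (hK : Coh.IsCoh K) :
    Module.Finite A Γ(K, (⊤ : (Spec (CommRingCat.of A)).Opens)) := by
  haveI h1 : Module.Finite Γ(Spec (CommRingCat.of A), ⊤)
      Γ(K, (⊤ : (Spec (CommRingCat.of A)).Opens)) :=
    SecDict.finite_sections (isAffineOpen_top _) K hK.1 hK.2
  letI : Algebra A Γ(Spec (CommRingCat.of A), ⊤) :=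
    (ρ (A := A) (X := Spec (CommRingCat.of A)) ⊤).toAlgebra
  haveI : IsScalarTower A Γ(Spec (CommRingCat.of A), ⊤)
      Γ(K, (⊤ : (Spec (CommRingCat.of A)).Opens)) :=
    IsScalarTower.of_algebraMap_smul (fun a x => (smul_eq K a x).symm)
  haveI : Module.Finite A Γ(Spec (CommRingCat.of A), ⊤) := by
    apply Module.Finite.of_surjective (Algebra.linearMap A Γ(Spec (CommRingCat.of A), ⊤))
    intro s
    obtain ⟨r, hr⟩ := SheafHomTilde.ι_surjective (CommRingCat.of A) s
    exact ⟨r, (rho_top A r).trans hr⟩
  exact Module.Finite.trans Γ(Spec (CommRingCat.of A), ⊤) _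

section Sys

variable (I : Ideal A) (G : ℕᵒᵖ ⥤ (Spec (CommRingCat.of A)).Modules)

/-- global sections of the terms -/
abbrev Mn (n : ℕ) : Type u := Γ(G.obj (op n), (⊤ : (Spec (CommRingCat.of A)).Opens))

/-- the transition maps on global sections -/
noncomputable def fn (n : ℕ) : Mn G (n + 1) →ₗ[A] Mn G n :=
  appA (G.map (homOfLE (Nat.le_succ n)).op) ⊤

variable {I G} (hG : Formal.IsCohFormal I G)

include hG in
lemma fn_surjective (n : ℕ) : Function.Surjective (fn G n) := by
  haveI := (hG.1 (n + 1)).1
  exact KLQuot.app_surjective (hasQuotTrans_of_isCohFormal hG n) (isAffineOpen_top _)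

include hG in
lemma smul_top_eq_bot (n : ℕ) : I ^ (n + 1) • (⊤ : Submodule A (Mn G n)) = ⊥ := by
  rw [eq_bot_iff]
  intro x hx
  have h1 := mem_map_smul_top_of_mem (I ^ (n + 1)) (G.obj (op n)) hx
  have h2 := KLQuot.app_eq_zero_of_mem_smul_top
    ((killedBy_iff (I ^ (n + 1)) (G.obj (op n))).1 (hG.2.1 n)) ⊤ h1
  exact h2

include hG in
lemma ker_fn [IsNoetherianRing A] (n : ℕ) :
    LinearMap.ker (fn G n) = I ^ (n + 1) • (⊤ : Submodule A (Mn G (n + 1))) := by
  haveI := (hG.1 (n + 1)).1
  apply le_antisymm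
  · intro x hx
    obtain ⟨r, g, hg⟩ := Groth.Agent.Helper1.HomCompl.exists_gens_pow
      (IsNoetherian.noetherian I : I.FG) (n + 1)
    have hq : IsQuot (Ideal.span (Set.range g)) (G.map (homOfLE (Nat.le_succ n)).op) := by
      rw [hg]
      exact hasQuotTrans_of_isCohFormal hG n
    have h1 := KLQuot.mem_smul_top_of_app_eq_zero g hq (isAffineOpen_top _) x hx
    rw [hg] at h1
    exact mem_smul_top_of_mem_map _ _ h1
  · intro x hx
    have h1 := mem_map_smul_top_of_mem (I ^ (n + 1)) (G.obj (op (n + 1))) hx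
    exact KLQuot.app_eq_zero_of_mem_smul_top (hasQuotTrans_of_isCohFormal hG n).kills ⊤ h1

/-- the module of compatible families of global sections -/
def L (G : ℕᵒᵖ ⥤ (Spec (CommRingCat.of A)).Modules) : Submodule A (∀ n, Mn G n) where
  carrier := {x | ∀ n, fn G n (x (n + 1)) = x n}
  add_mem' hx hy n := by
    rw [Pi.add_apply, map_add, hx n, hy n]
    rfl
  zero_mem' n := by
    rw [Pi.zero_apply, map_zero]
    rfl
  smul_mem' a x hx n := by
    rw [Pi.smul_apply, map_smul, hx n]
    rfl

include hG in
/-- the module-theoretic heart -/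
theorem heart [IsNoetherianRing A] [IsAdicComplete I A] :
    Module.Finite A (L G) ∧ ∀ n,
      Function.Surjective ((LinearMap.proj n).comp (L G).subtype : L G →ₗ[A] Mn G n) ∧
      LinearMap.ker ((LinearMap.proj n).comp (L G).subtype : L G →ₗ[A] Mn G n) =
        I ^ (n + 1) • (⊤ : Submodule A (L G)) := by
  haveI : ∀ n, Module.Finite A (Mn G n) := fun n => finite_sections_top _ (hG.1 n)
  exact Groth.Agent.S0797.result A I (Mn G) (fn G) (fn_surjective hG) (smul_top_eq_bot hG)
    (ker_fn hG) (L G) (fun x => Iff.rfl)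

end Sys

end Groth.Agent.Helper1.AffAlgz
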