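import Mathlib

set_option autoImplicit false

/-!
# Melkersson's lemma

If `M` is `a`-power torsion for a finitely generated ideal `a` and `(0 :_M a)` is Artinian then
`M` is Artinian.
-/

namespace Groth.Agent.Helper1.Melkersson

open Submodule

variable {R : Type*} [CommRing R] {N : Type*} [AddCommGroup N] [Module R N]

/-- descending chains below an Artinian submodule stabilise -/
lemma stabilizes_of_le (K : Submodule R N) [IsArtinian R K] (f : ℕ → Submodule R N)
    (hf : Antitone f) (hK : ∀ n, f n ≤ K) : ∃ n, ∀ m, n ≤ m → f n = f m := by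
  let g : ℕ →o (Submodule R K)ᵒᵈ :=
    ⟨fun n => OrderDual.toDual ((f n).comap K.subtype), fun a b hab =>
      OrderDual.toDual_le_toDual.2 (Submodule.comap_mono (hf hab))⟩
  obtain ⟨n, hn⟩ := IsArtinian.monotone_stabilizes g
  refine ⟨n, fun m hm => ?_⟩
  have h := hn m hm
  have h' : (f n).comap K.subtype = (f m).comap K.subtype := h
  have e : ∀ j, f j = ((f j).comap K.subtype).map K.subtype := by
    intro j
    rw [Submodule.map_comap_subtype, inf_eq_right.2 (hK j)]
  rw [e n, e m, h']

/-- `U x L k = x^k (L ∩ ker x^{k+1})` -/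
def U (x : R) (L : Submodule R N) (k : ℕ) : Submodule R N :=
  (L ⊓ torsionBy R N (x ^ (k + 1))).map (LinearMap.lsmul R N (x ^ k))

lemma mem_U {x : R} {L : Submodule R N} {k : ℕ} {z : N} :
    z ∈ U x L k ↔ ∃ y ∈ L, x ^ (k + 1) • y = 0 ∧ x ^ k • y = z := by
  constructor
  · rintro ⟨y, ⟨hy1, hy2⟩, rfl⟩
    exact ⟨y, hy1, hy2, rfl⟩
  · rintro ⟨y, hy1, hy2, rfl⟩
    exact ⟨y, ⟨hy1, hy2⟩, rfl⟩

lemma U_le_ker (x : R) (L : Submodule R N) (k : ℕ) : U x L k ≤ torsionBy R N x := by
  intro z hz
  obtain ⟨y, _, hy2, rfl⟩ := mem_U.1 hz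
  rw [mem_torsionBy_iff, smul_smul, ← pow_succ']
  exact hy2

lemma U_mono_L (x : R) {L L' : Submodule R N} (h : L ≤ L') (k : ℕ) : U x L k ≤ U x L' k := by
  intro z hz
  obtain ⟨y, hy1, hy2, rfl⟩ := mem_U.1 hz
  exact mem_U.2 ⟨y, h hy1, hy2, rfl⟩

lemma U_succ_le (x : R) (L : Submodule R N) (k : ℕ) : U x L (k + 1) ≤ U x L k := by
  intro z hz
  obtain ⟨y, hy1, hy2, rfl⟩ := mem_U.1 hz
  refine mem_U.2 ⟨x • y, L.smul_mem x hy1, ?_, ?_⟩
  · rw [smul_smul, ← pow_succ]
    exact hy2
  · rw [smul_smul, ← pow_succ]

lemma U_antitone_k (x : R) (L : Submodule R N) : Antitone (U x L) :=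
  antitone_nat_of_succ_le (U_succ_le x L)

/-- Melkersson's lemma, principal case -/
theorem isArtinian_of_principal (x : R) (hN : ∀ n : N, ∃ k : ℕ, x ^ k • n = 0)
    (hK : IsArtinian R (torsionBy R N x)) : IsArtinian R N := by
  rw [← monotone_stabilizes_iff_artinian]
  intro f
  let L : ℕ → Submodule R N := fun i => OrderDual.ofDual (f i)
  have hL : Antitone L := fun a b hab => OrderDual.ofDual_le_ofDual.2 (f.monotone hab)
  -- the diagonal chain
  obtain ⟨k₀, hk₀⟩ := stabilizes_of_le (torsionBy R N x) (fun k => U x (L k) k)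
    (fun a b hab => (U_antitone_k x (L b) hab).trans (U_mono_L x (hL hab) a))
    (fun k => U_le_ker x _ _)
  -- each row
  have hrow : ∀ k, ∃ n, ∀ m, n ≤ m → U x (L n) k = U x (L m) k := fun k =>
    stabilizes_of_le (torsionBy R N x) (fun i => U x (L i) k)
      (fun a b hab => U_mono_L x (hL hab) k) (fun i => U_le_ker x _ _)
  choose g hg using hrow
  let i₁ : ℕ := k₀ ⊔ (Finset.range k₀).sup g
  have hi₁ : ∀ k, ∀ i, i₁ ≤ i → U x (L i) k = U x (L i₁) k := by
    intro k i hi
    by_cases hk : k < k₀
    · have h1 : g k ≤ i₁ :=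
        (Finset.le_sup (f := g) (Finset.mem_range.2 hk)).trans le_sup_right
      rw [← hg k i (h1.trans hi), ← hg k i₁ h1]
    · push Not at hk
      have key : ∀ j, k₀ ≤ j → U x (L j) k = U x (L k₀) k₀ := by
        intro j hj
        apply le_antisymm
        · exact (U_antitone_k x (L j) hk).trans (U_mono_L x (hL hj) k₀)
        · have h2 := hk₀ (k ⊔ j) (hk.trans le_sup_left)
          have h2' : U x (L k₀) k₀ = U x (L (k ⊔ j)) (k ⊔ j) := h2
          rw [h2']
          exact (U_antitone_k x (L (k ⊔ j)) le_sup_left).trans (U_mono_L x (hL le_sup_right) k)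
      rw [key i (le_sup_left.trans hi), key i₁ le_sup_left]
  refine ⟨i₁, fun i hi => ?_⟩
  have hle : L i ≤ L i₁ := hL hi
  have hstep : ∀ k : ℕ, ∀ y ∈ L i₁, x ^ k • y = 0 → y ∈ L i := by
    intro k
    induction k with
    | zero =>
      intro y _ hy
      rw [pow_zero, one_smul] at hy
      rw [hy]
      exact zero_mem _
    | succ k ih =>
      intro y hy1 hy2
      have hz : x ^ k • y ∈ U x (L i) k := by
        rw [hi₁ k i hi]
        exact mem_U.2 ⟨y, hy1, hy2, rfl⟩
      obtain ⟨y', hy'1, hy'2, hy'3⟩ := mem_U.1 hz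
      have h3 : y - y' ∈ L i := by
        apply ih (y - y') ((L i₁).sub_mem hy1 (hle hy'1))
        rw [smul_sub, hy'3, sub_self]
      have : y = (y - y') + y' := by abel
      rw [this]
      exact (L i).add_mem h3 hy'1
  have : L i₁ = L i := by
    apply le_antisymm
    · intro y hy
      obtain ⟨k, hk⟩ := hN y
      exact hstep k y hy hk
    · exact hle
  exact this

universe v

/-- Melkersson's lemma for the ideal generated by a finite set -/
theorem isArtinian_of_span_finset {R : Type*} [CommRing R] (s : Finset R) :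
    ∀ (M : Type v) [AddCommGroup M] [Module R M],
      (∀ m : M, ∃ n : ℕ, ∀ c ∈ (Ideal.span (s : Set R)) ^ n, c • m = 0) →
      IsArtinian R (torsionBySet R M (Ideal.span (s : Set R) : Set R)) → IsArtinian R M := by
  classical
  induction s using Finset.induction_on with
  | empty =>
    intro M _ _ _ hA
    have htop : torsionBySet R M (Ideal.span ((∅ : Finset R) : Set R) : Set R) = ⊤ := by
      rw [eq_top_iff]
      intro m _
      rw [mem_torsionBySet_iff]
      rintro ⟨c, hc⟩
      have hc' : c ∈ Ideal.span ((∅ : Finset R) : Set R) := hc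
      rw [Finset.coe_empty, Ideal.span_empty, Ideal.mem_bot] at hc'
      show c • m = 0
      rw [hc', zero_smul]
    rw [htop] at hA
    exact isArtinian_of_linearEquiv (Submodule.topEquiv (R := R) (M := M))
  | insert b s' _ ih =>
    intro M _ _ hM hA
    have hsub : Ideal.span ((s' : Finset R) : Set R) ≤
        Ideal.span ((insert b s' : Finset R) : Set R) := by
      apply Ideal.span_mono
      rw [Finset.coe_insert]
      exact Set.subset_insert _ _
    have hb : b ∈ Ideal.span ((insert b s' : Finset R) : Set R) := by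
      apply Ideal.subset_span
      rw [Finset.coe_insert]
      exact Set.mem_insert _ _
    -- `N = (0 :_M b)` is Artinian by the induction hypothesis
    have hNart : IsArtinian R (torsionBy R M b) := by
      apply ih (torsionBy R M b)
      · intro m
        obtain ⟨n, hn⟩ := hM m.1
        refine ⟨n, fun c hc => ?_⟩
        apply Subtype.ext
        rw [Submodule.coe_smul, Submodule.coe_zero]
        exact hn c (Ideal.pow_right_mono hsub n hc)
      · let φ : torsionBySet R (torsionBy R M b) (Ideal.span ((s' : Finset R) : Set R) : Set R)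
            →ₗ[R] torsionBySet R M (Ideal.span ((insert b s' : Finset R) : Set R) : Set R) :=
          LinearMap.codRestrict _ ((torsionBy R M b).subtype ∘ₗ Submodule.subtype _) (by
            rintro ⟨⟨m, hm⟩, h⟩
            rw [mem_torsionBySet_iff] at h ⊢
            rintro ⟨c, hc⟩
            show c • m = 0
            have hc' : c ∈ Ideal.span ((insert b s' : Finset R) : Set R) := hc
            rw [Finset.coe_insert] at hc'
            refine Submodule.span_induction (p := fun c _ => c • m = 0) ?_ ?_ ?_ ?_ hc'
            · intro c hc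
              rcases hc with rfl | hc
              · exact hm
              · have := h ⟨c, Ideal.subset_span hc⟩
                exact congrArg Subtype.val this
            · rw [zero_smul]
            · intro c d _ _ h1 h2
              rw [add_smul, h1, h2, add_zero]
            · intro r c _ h1
              rw [smul_eq_mul, mul_smul, h1, smul_zero])
        have hφ : Function.Injective φ := by
          intro p q hpq
          apply Subtype.ext
          apply Subtype.ext
          have := congrArg (fun z : torsionBySet R M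
            (Ideal.span ((insert b s' : Finset R) : Set R) : Set R) => (z : M)) hpq
          exact this
        exact isArtinian_of_injective φ hφ
    apply isArtinian_of_principal b _ hNart
    intro m
    obtain ⟨n, hn⟩ := hM m
    exact ⟨n, hn _ (Ideal.pow_mem_pow hb n)⟩

/-- Melkersson's lemma -/
theorem isArtinian_of_fg {R : Type*} [CommRing R] (a : Ideal R) (ha : a.FG)
    (M : Type v) [AddCommGroup M] [Module R M]
    (hM : ∀ m : M, ∃ n : ℕ, ∀ c ∈ a ^ n, c • m = 0)
    (hA : IsArtinian R (torsionBySet R M (a : Set R))) : IsArtinian R M := by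
  obtain ⟨s, rfl⟩ := ha
  exact isArtinian_of_span_finset s M hM hA

end Groth.Agent.Helper1.Melkersson
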