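import Mathlib
import Groth.Agent.Helper1.LocCohVanish
import Groth.Agent.Helper1.Melkersson

set_option autoImplicit false

/-!
# `H^i_𝔪(M)` is Artinian for a finite module over a Noetherian local ring
-/

namespace Groth.Agent.Helper1.LocCohArtinian
open CategoryTheory Limits Opposite IsLocalRing
open Groth.Agent.Helper1.DeltaFun Groth.Agent.Helper1.LocCohDelta

universe u

section general

variable {R : Type u} [CommRing R] [IsNoetherianRing R] (J : Ideal R)

/-- `Γ_J(M/Γ_J(M)) = 0` -/
lemma torsionSub_quotient_eq_bot (M : Type u) [AddCommGroup M] [Module R M] :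
    DRing.torsionSub J (M ⧸ DRing.torsionSub J M) = ⊥ := by
  classical
  rw [eq_bot_iff]
  rintro y ⟨n, hn⟩
  obtain ⟨m₀, rfl⟩ := Submodule.Quotient.mk_surjective _ y
  rw [Submodule.mem_bot, Submodule.Quotient.mk_eq_zero]
  obtain ⟨s, hs⟩ : (J ^ n).FG := IsNoetherian.noetherian _
  have h1 : ∀ c ∈ s, ∃ k : ℕ, ∀ a ∈ J ^ k, a • c • m₀ = 0 := by
    intro c hc
    have h2 := hn c (hs ▸ Submodule.subset_span hc)
    rw [← Submodule.Quotient.mk_smul, Submodule.Quotient.mk_eq_zero] at h2
    exact h2
  choose! k hk using h1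
  refine ⟨s.sup k + n, fun d hd => ?_⟩
  rw [pow_add] at hd
  refine Submodule.mul_induction_on hd ?_ ?_
  · intro a ha c hc
    rw [← hs] at hc
    rw [mul_smul]
    induction hc using Submodule.span_induction with
    | mem c hc => exact hk c hc a (Ideal.pow_le_pow_right (Finset.le_sup hc) ha)
    | zero => rw [zero_smul, smul_zero]
    | add c d _ _ hc hd => rw [add_smul, smul_add, hc, hd, add_zero]
    | smul r c _ hc => rw [smul_eq_mul, mul_smul, smul_comm, hc, smul_zero]
  · intro x y hx hy
    rw [add_smul, hx, hy, add_zero]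

end general

section loc

variable {A : Type u} [CommRing A] [IsNoetherianRing A] [IsLocalRing A]

/-- A finite module over a local ring killed by the maximal ideal has finite length. -/
lemma length_ne_top_of_smul_top_eq_bot (N : Type u)
    [AddCommGroup N] [Module A N] [Module.Finite A N]
    (h : (maximalIdeal A • ⊤ : Submodule A N) = ⊥) : Module.length A N ≠ ⊤ := by
  have e : TensorProduct A (ResidueField A) N ≃ₗ[A] N :=
    TensorProduct.quotTensorEquivQuotSMul N (maximalIdeal A) ≪≫ₗ Submodule.quotEquivOfEqBot _ h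
  rw [← e.length_eq, Module.length_eq_of_surjective (S := A) (R := ResidueField A)
    (IsLocalRing.residue_surjective (R := A)), Module.length_eq_finrank]
  exact ENat.natCast_ne_top _

/-- a finite `𝔪`-power torsion module is Artinian -/
lemma isArtinian_of_finite_of_isPowerTorsion (N : Type u) [AddCommGroup N] [Module A N]
    [Module.Finite A N] (hN : ∀ x : N, ∃ n : ℕ, ∀ c ∈ maximalIdeal A ^ n, c • x = 0) :
    IsArtinian A N := by
  apply Melkersson.isArtinian_of_fg (maximalIdeal A) (IsNoetherian.noetherian _) N hN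
  have hfl : Module.length A (Submodule.torsionBySet A N (maximalIdeal A : Set A)) ≠ ⊤ := by
    apply length_ne_top_of_smul_top_eq_bot
    rw [eq_bot_iff]
    refine Submodule.smul_le.2 ?_
    intro a ha t _
    rw [Submodule.mem_bot]
    have := (Submodule.mem_torsionBySet_iff _ _).1 t.2 ⟨a, ha⟩
    exact Subtype.ext this
  exact (isFiniteLength_iff_isNoetherian_isArtinian.1 (Module.length_ne_top_iff.1 hfl)).2

/-- a finite module without `𝔪`-torsion has a regular element in `𝔪` -/
lemma exists_regular (M : Type u) [AddCommGroup M] [Module A M] [Module.Finite A M]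
    (h : DRing.torsionSub (maximalIdeal A) M = ⊥) :
    ∃ x ∈ maximalIdeal A, IsSMulRegular M x := by
  have hsub : Subsingleton ((A ⧸ maximalIdeal A) →ₗ[A] M) := by
    suffices h0 : ∀ φ : (A ⧸ maximalIdeal A) →ₗ[A] M, φ = 0 from
      ⟨fun φ ψ => by rw [h0 φ, h0 ψ]⟩
    intro φ
    apply LinearMap.ext
    intro z
    show φ z = 0
    have : φ z ∈ DRing.torsionSub (maximalIdeal A) M := by
      refine ⟨1, fun c hc => ?_⟩
      rw [pow_one] at hc
      rw [← map_smul]
      obtain ⟨a, rfl⟩ := Submodule.Quotient.mk_surjective _ z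
      rw [← Submodule.Quotient.mk_smul, (Submodule.Quotient.mk_eq_zero _).2, map_zero]
      rw [smul_eq_mul]
      exact Ideal.mul_mem_right a _ hc
    rw [h] at this
    exact this
  obtain ⟨r, hr, hreg⟩ := IsSMulRegular.subsingleton_linearMap_iff.1 hsub
  rw [Ideal.annihilator_quotient] at hr
  exact ⟨r, hr, hreg⟩

omit [IsNoetherianRing A] [IsLocalRing A] in
lemma isArtinian_torsionBy_of_exact {X Y : ModuleCat.{u} A} (f : X ⟶ Y) (g : Y ⟶ Y) (x : A)
    (hg : g = x • 𝟙 Y) (w : f ≫ g = 0) (hex : (ShortComplex.mk f g w).Exact) [IsArtinian A X] :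
    IsArtinian A (Submodule.torsionBy A Y x) := by
  rw [ShortComplex.moduleCat_exact_iff_range_eq_ker] at hex
  subst hg
  have : Submodule.torsionBy A Y x = LinearMap.range f.hom := by
    rw [show LinearMap.range f.hom = LinearMap.ker (x • 𝟙 Y : Y ⟶ Y).hom from hex]
    ext y
    rw [Submodule.mem_torsionBy_iff, LinearMap.mem_ker]
    rfl
  rw [this]
  infer_instance

/-- `H^i_𝔪(M)` is Artinian -/
theorem isArtinian_lc (i : ℕ) : ∀ (M : Type u) [AddCommGroup M] [Module A M] [Module.Finite A M],
    IsArtinian A ((localCohomology (maximalIdeal A) i).obj (ModuleCat.of A M)) := by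
  induction i with
  | zero =>
    intro M _ _ _
    have e : (localCohomology (maximalIdeal A) 0).obj (ModuleCat.of A M) ≅
        ModuleCat.of A (DRing.torsionSub (maximalIdeal A) M) :=
      (lcZeroIso (maximalIdeal A)).app (ModuleCat.of A M)
    haveI : IsArtinian A (DRing.torsionSub (maximalIdeal A) M) := by
      apply isArtinian_of_finite_of_isPowerTorsion
      rintro ⟨x, n, hn⟩
      exact ⟨n, fun c hc => Subtype.ext (hn c hc)⟩
    exact isArtinian_of_linearEquiv e.symm.toLinearEquiv
  | succ i ih =>
    intro M _ _ _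
    let Γ := DRing.torsionSub (maximalIdeal A) M
    -- reduce to `M' = M / Γ`
    suffices hM' : IsArtinian A
        ((localCohomology (maximalIdeal A) (i + 1)).obj (ModuleCat.of A (M ⧸ Γ))) by
      let S : ShortComplex (ModuleCat.{u} A) :=
        ModuleCat.shortComplexOfCompEqZero Γ.subtype Γ.mkQ (by
          ext x
          exact (Submodule.Quotient.mk_eq_zero _).2 x.2)
      have hS : S.ShortExact :=
        { exact := ModuleCat.shortComplex_exact _ (LinearMap.exact_subtype_mkQ Γ)
          mono_f := (ModuleCat.mono_iff_injective _).2 Γ.injective_subtype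
          epi_g := (ModuleCat.epi_iff_surjective _).2 Γ.mkQ_surjective }
      have hz : IsZero ((localCohomology (maximalIdeal A) (i + 1)).obj S.X₁) := by
        apply isZero_lc_of_isTors (maximalIdeal A) i
        rintro ⟨x, n, hn⟩
        exact ⟨n, fun c hc => Subtype.ext (hn c hc)⟩
      have hmono : Mono ((localCohomology (maximalIdeal A) (i + 1)).map S.g) :=
        (LocCohVanish.lc_exact₂ (maximalIdeal A) S hS (i + 1)).mono_g (hz.eq_of_src _ _)
      exact isArtinian_of_injective ((localCohomology (maximalIdeal A) (i + 1)).map S.g).hom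
        ((ModuleCat.mono_iff_injective _).1 hmono)
    obtain ⟨x, hxm, hreg⟩ := exists_regular (M ⧸ Γ)
      (torsionSub_quotient_eq_bot (maximalIdeal A) M)
    let S := ModuleCat.smulShortComplex (ModuleCat.of A (M ⧸ Γ)) x
    have hS : S.ShortExact :=
      IsSMulRegular.smulShortComplex_shortExact (M := ModuleCat.of A (M ⧸ Γ)) hreg
    have hex := (lcDelta (maximalIdeal A)).exact₁ S hS i
    have hf : (localCohomology (maximalIdeal A) (i + 1)).map S.f =
        x • 𝟙 ((localCohomology (maximalIdeal A) (i + 1)).obj (ModuleCat.of A (M ⧸ Γ))) := by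
      show (localCohomology (maximalIdeal A) (i + 1)).map (x • 𝟙 (ModuleCat.of A (M ⧸ Γ))) = _
      rw [lc_map_smul, CategoryTheory.Functor.map_id]
    haveI : IsArtinian A ((localCohomology (maximalIdeal A) i).obj S.X₃) :=
      ih (QuotSMulTop x (M ⧸ Γ))
    apply Melkersson.isArtinian_of_principal x
    · intro y
      obtain ⟨k, hk⟩ := LocCohTors.isPowerTorsion (maximalIdeal A) (i + 1)
        (ModuleCat.of A (M ⧸ Γ)) y
      exact ⟨k, hk _ (Ideal.pow_mem_pow hxm k)⟩
    · exact @isArtinian_torsionBy_of_exact _ _ _ _ _ _ x hf _ hex this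

end loc

section top

variable {R : Type u} [CommRing R] [IsNoetherianRing R] (a : Ideal R)

/-- a finite module without `a`-torsion has a regular element in `a` -/
lemma exists_regular' (M : Type u) [AddCommGroup M] [Module R M] [Module.Finite R M]
    (h : DRing.torsionSub a M = ⊥) : ∃ x ∈ a, IsSMulRegular M x := by
  have hsub : Subsingleton ((R ⧸ a) →ₗ[R] M) := by
    suffices h0 : ∀ φ : (R ⧸ a) →ₗ[R] M, φ = 0 from
      ⟨fun φ ψ => by rw [h0 φ, h0 ψ]⟩
    intro φ
    apply LinearMap.ext
    intro z
    show φ z = 0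
    have : φ z ∈ DRing.torsionSub a M := by
      refine ⟨1, fun c hc => ?_⟩
      rw [pow_one] at hc
      rw [← map_smul]
      obtain ⟨b, rfl⟩ := Submodule.Quotient.mk_surjective _ z
      rw [← Submodule.Quotient.mk_smul, (Submodule.Quotient.mk_eq_zero _).2, map_zero]
      rw [smul_eq_mul]
      exact Ideal.mul_mem_right b _ hc
    rw [h] at this
    exact this
  obtain ⟨r, hr, hreg⟩ := IsSMulRegular.subsingleton_linearMap_iff.1 hsub
  rw [Ideal.annihilator_quotient] at hr
  exact ⟨r, hr, hreg⟩

/-- passing to `M / Γ_a(M)` -/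
lemma isArtinian_of_quotient_torsionSub (i : ℕ) (M : Type u) [AddCommGroup M] [Module R M]
    (hM' : IsArtinian R ((localCohomology a (i + 1)).obj
      (ModuleCat.of R (M ⧸ DRing.torsionSub a M)))) :
    IsArtinian R ((localCohomology a (i + 1)).obj (ModuleCat.of R M)) := by
  let Γ := DRing.torsionSub a M
  let S : ShortComplex (ModuleCat.{u} R) :=
    ModuleCat.shortComplexOfCompEqZero Γ.subtype Γ.mkQ (by
      ext x
      exact (Submodule.Quotient.mk_eq_zero _).2 x.2)
  have hS : S.ShortExact :=
    { exact := ModuleCat.shortComplex_exact _ (LinearMap.exact_subtype_mkQ Γ)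
      mono_f := (ModuleCat.mono_iff_injective _).2 Γ.injective_subtype
      epi_g := (ModuleCat.epi_iff_surjective _).2 Γ.mkQ_surjective }
  have hz : IsZero ((localCohomology a (i + 1)).obj S.X₁) := by
    apply isZero_lc_of_isTors a i
    rintro ⟨x, n, hn⟩
    exact ⟨n, fun c hc => Subtype.ext (hn c hc)⟩
  have hmono : Mono ((localCohomology a (i + 1)).map S.g) :=
    (LocCohVanish.lc_exact₂ a S hS (i + 1)).mono_g (hz.eq_of_src _ _)
  exact isArtinian_of_injective ((localCohomology a (i + 1)).map S.g).hom
    ((ModuleCat.mono_iff_injective _).1 hmono)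

/-- the regular element step -/
lemma isArtinian_of_regular (i : ℕ) (M : Type u) [AddCommGroup M] [Module R M]
    (x : R) (hxa : x ∈ a) (hreg : IsSMulRegular M x)
    (h : IsArtinian R ((localCohomology a i).obj (ModuleCat.of R (QuotSMulTop x M)))) :
    IsArtinian R ((localCohomology a (i + 1)).obj (ModuleCat.of R M)) := by
  let S := ModuleCat.smulShortComplex (ModuleCat.of R M) x
  have hS : S.ShortExact :=
    IsSMulRegular.smulShortComplex_shortExact (M := ModuleCat.of R M) hreg
  have hex := (lcDelta a).exact₁ S hS i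
  have hf : (localCohomology a (i + 1)).map S.f =
      x • 𝟙 ((localCohomology a (i + 1)).obj (ModuleCat.of R M)) := by
    show (localCohomology a (i + 1)).map (x • 𝟙 (ModuleCat.of R M)) = _
    rw [lc_map_smul, CategoryTheory.Functor.map_id]
  apply Melkersson.isArtinian_of_principal x
  · intro y
    obtain ⟨k, hk⟩ := LocCohTors.isPowerTorsion a (i + 1) (ModuleCat.of R M) y
    exact ⟨k, hk _ (Ideal.pow_mem_pow hxa k)⟩
  · exact @isArtinian_torsionBy_of_exact _ _ _ _ _ _ x hf _ hex h

variable [IsLocalRing R]

/-- a finite module with support of dimension `≤ 0` over a local ring is Artinian -/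
lemma isArtinian_of_supportDim_le_zero (M : Type u) [AddCommGroup M] [Module R M]
    [Module.Finite R M] (h : Module.supportDim R M ≤ 0) : IsArtinian R M := by
  rcases eq_or_ne (Module.supportDim R M) ⊥ with h0 | h0
  · have := (Module.supportDim_eq_bot_iff_subsingleton R M).1 h0
    exact isArtinian_of_finite
  · have hnt : Nontrivial M := (Module.supportDim_ne_bot_iff_nontrivial R M).1 h0
    have h1 : Module.supportDim R M = 0 := by
      apply le_antisymm h
      obtain ⟨x, hx⟩ := WithBot.ne_bot_iff_exists.1 h0
      rw [← hx]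
      exact WithBot.coe_le_coe.2 (zero_le)
    have hs := support_of_supportDim_eq_zero (R := R) (N := M) h1
    apply isArtinian_of_finite_of_isPowerTorsion
    rw [Module.support_eq_zeroLocus] at hs
    have h2 := (PrimeSpectrum.zeroLocus_subset_zeroLocus_iff _ _).1 hs.le
    obtain ⟨k, hk⟩ := Ideal.exists_pow_le_of_le_radical_of_fg h2 (IsNoetherian.noetherian _)
    intro x
    exact ⟨k, fun c hc => Module.mem_annihilator.1 (hk hc) x⟩

/-- top local cohomology (in the dimension of the support) is Artinian -/
theorem isArtinian_lc_top (n : ℕ) : ∀ (M : Type u) [AddCommGroup M] [Module R M]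
    [Module.Finite R M], Module.supportDim R M ≤ n →
    IsArtinian R ((localCohomology a n).obj (ModuleCat.of R M)) := by
  induction n with
  | zero =>
    intro M _ _ _ hM
    have e : (localCohomology a 0).obj (ModuleCat.of R M) ≅
        ModuleCat.of R (DRing.torsionSub a M) := (lcZeroIso a).app (ModuleCat.of R M)
    haveI : IsArtinian R M := isArtinian_of_supportDim_le_zero M (by simpa using hM)
    exact isArtinian_of_linearEquiv e.symm.toLinearEquiv
  | succ n ih =>
    intro M _ _ _ hM
    apply isArtinian_of_quotient_torsionSub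
    obtain ⟨x, hxa, hreg⟩ := exists_regular' a (M ⧸ DRing.torsionSub a M)
      (torsionSub_quotient_eq_bot a M)
    apply isArtinian_of_regular a n _ x hxa hreg
    apply ih
    have h1 : Module.supportDim R (M ⧸ DRing.torsionSub a M) ≤ ((n + 1 : ℕ) : WithBot ℕ∞) :=
      (Module.supportDim_le_of_surjective _ (Submodule.mkQ_surjective _)).trans hM
    have h2 := (Module.supportDim_quotSMulTop_succ_le_of_notMem_minimalPrimes
      (M := M ⧸ DRing.torsionSub a M) (x := x)
      (fun _ => hreg.notMem_of_mem_minimalPrimes)).trans h1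
    generalize Module.supportDim R (QuotSMulTop x (M ⧸ DRing.torsionSub a M)) = y at h2
    induction y using WithBot.recBotCoe with
    | bot => exact bot_le
    | coe y =>
      induction y using ENat.recTopCoe with
      | top => 
        exfalso
        have : ((⊤ : ℕ∞) : WithBot ℕ∞) + 1 = ((⊤ : ℕ∞) : WithBot ℕ∞) := rfl
        rw [this] at h2
        exact absurd (WithBot.coe_le_coe.1 h2) (by simp)
      | coe y =>
        have h3 : ((y + 1 : ℕ) : WithBot ℕ∞) ≤ ((n + 1 : ℕ) : WithBot ℕ∞) := by
          exact_mod_cast h2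
        have h4 : y + 1 ≤ n + 1 := by exact_mod_cast h3
        exact_mod_cast (by omega : y ≤ n)

end top

end Groth.Agent.Helper1.LocCohArtinian
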