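import Mathlib
import Groth.Agent.Helper1.FormG
import Groth.Agent.Helper1.AffAlgz2
import Groth.Agent.Helper6.MLArt

/-!
# ProML: a system of modules pro-isomorphic to a system with surjective transitions is
Mittag-Leffler; application to `Algz.sectMod` under `Algz.CanonicallyExtends`
-/

set_option autoImplicit false
set_option linter.style.haveILetI false
set_option linter.unusedSectionVars false

universe v u

open CategoryTheory CategoryTheory.Limits AlgebraicGeometry Opposite

namespace Groth.Agent.Helper1.ProML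

section Gen

variable {C : Type*} [Category C]

lemma tr_comp (X : ARSys.PS C) {n m k : ℕ} (h : n ≤ m) (h' : m ≤ k) :
    ARSys.tr X h' ≫ ARSys.tr X h = ARSys.tr X (h.trans h') := by
  show X.map _ ≫ X.map _ = X.map _
  rw [← X.map_comp]
  exact congrArg X.map (Subsingleton.elim _ _)

lemma tr_self (X : ARSys.PS C) (n : ℕ) : ARSys.tr X (le_refl n) = 𝟙 _ := by
  show X.map _ = _
  rw [← X.map_id]
  exact congrArg X.map (Subsingleton.elim _ _)

/-- the basic identity for two stages of a pro-isomorphism -/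
lemma proIso_two_stage {X P : ARSys.PS C} {m : ℕ → ℕ} (hm : Monotone m)
    {n m₁ j m₂ : ℕ} (h₁ : n ≤ m₁) (hj : m₁ ≤ j) (h₂ : j ≤ m₂)
    (a₁ : X.obj (op (m m₁)) ⟶ P.obj (op m₁)) (aj : X.obj (op (m j)) ⟶ P.obj (op j))
    (hnat : aj ≫ ARSys.tr P hj = ARSys.tr X (hm hj) ≫ a₁)
    (b : P.obj (op m₁) ⟶ X.obj (op (m n)))
    (hb1 : a₁ ≫ b = ARSys.tr X (hm h₁))
    (b₂ : P.obj (op m₂) ⟶ X.obj (op (m j)))
    (hc2 : b₂ ≫ aj = ARSys.tr P h₂) :
    ARSys.tr P (hj.trans h₂) ≫ b = b₂ ≫ ARSys.tr X (hm (h₁.trans hj)) := by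
  rw [← tr_comp P hj h₂, ← hc2, Category.assoc, Category.assoc, ← Category.assoc aj _ b, hnat,
    Category.assoc, hb1, tr_comp]

end Gen

section Mod

variable {A : Type u} [CommRing A]

lemma range_comp {M N K : ModuleCat.{u} A} (f : M ⟶ N) (g : N ⟶ K) :
    LinearMap.range (f ≫ g).hom = (LinearMap.range f.hom).map g.hom := by
  rw [ModuleCat.hom_comp, LinearMap.range_comp]

/-- A system of modules pro-isomorphic to a system with surjective transition maps is
Mittag-Leffler. -/
theorem isML_of_proIso {X P : ARSys.PS (ModuleCat.{u} A)}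
    (hP : ∀ (n k : ℕ) (h : n ≤ k), Function.Surjective (ARSys.tr P h).hom)
    (h : Algz.IsProIsomorphic X P) : ARSys.IsML X := by
  obtain ⟨m, hm, hmn, a, ha⟩ := h
  intro n
  obtain ⟨m₁, h₁, b, hb1, hb2⟩ := ha n
  let a₁ : X.obj (op (m m₁)) ⟶ P.obj (op m₁) := a.app (op m₁)
  let b' : P.obj (op m₁) ⟶ X.obj (op (m n)) := b
  have e1 : a₁ ≫ b' = ARSys.tr X (hm h₁) := hb1
  have key : ∀ (k : ℕ) (hk : m m₁ ≤ k),
      LinearMap.range (ARSys.tr X ((hm h₁).trans hk)).hom = LinearMap.range b'.hom := by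
    intro k hk
    apply le_antisymm
    · have e2 : ARSys.tr X ((hm h₁).trans hk) = (ARSys.tr X hk ≫ a₁) ≫ b' := by
        rw [Category.assoc, e1, tr_comp]
      rw [e2, range_comp]
      exact LinearMap.map_le_range
    · rintro _ ⟨x, rfl⟩
      have hj : m₁ ≤ max m₁ k := le_max_left _ _
      obtain ⟨m₂, h₂, b₂, hc1, hc2⟩ := ha (max m₁ k)
      let b₂' : P.obj (op m₂) ⟶ X.obj (op (m (max m₁ k))) := b₂
      let aj : X.obj (op (m (max m₁ k))) ⟶ P.obj (op (max m₁ k)) := a.app (op (max m₁ k))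
      have hnat : aj ≫ ARSys.tr P hj = ARSys.tr X (hm hj) ≫ a₁ :=
        (a.naturality (homOfLE hj).op).symm
      have e3 := proIso_two_stage hm h₁ hj h₂ a₁ aj hnat b' e1 b₂' hc2
      obtain ⟨x', rfl⟩ := hP m₁ m₂ (hj.trans h₂) x
      have hk' : k ≤ m (max m₁ k) := (le_max_right _ _).trans (hmn _)
      have e4 : ARSys.tr X (hm (h₁.trans hj)) =
          ARSys.tr X hk' ≫ ARSys.tr X ((hm h₁).trans hk) := by
        rw [tr_comp]
      have e5 : b'.hom ((ARSys.tr P (hj.trans h₂)).hom x') =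
          (ARSys.tr X ((hm h₁).trans hk)).hom ((ARSys.tr X hk').hom (b₂'.hom x')) := by
        have := congrArg (fun f => f.hom x') e3
        simp only [ModuleCat.hom_comp, LinearMap.comp_apply] at this
        rw [this, e4]
        simp only [ModuleCat.hom_comp, LinearMap.comp_apply]
      rw [e5]
      exact ⟨_, rfl⟩
  have hnm : n ≤ m m₁ := h₁.trans (hmn m₁)
  refine ⟨m m₁ - n, fun s hs => ?_⟩
  apply Groth.Agent.Helper6.MLArt.imageSubobject_eq_of_range_eq
  have hgen : ∀ (s : ℕ), m m₁ - n ≤ s →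
      LinearMap.range (ARSys.shiftMap X s n).hom =
        (LinearMap.range b'.hom).map (ARSys.tr X (hmn n)).hom := by
    intro s hs
    have hk : m m₁ ≤ n + s := by omega
    show LinearMap.range (ARSys.tr X (Nat.le_add_right n s)).hom = _
    rw [← tr_comp X (hmn n) ((hm h₁).trans hk), range_comp, key (n + s) hk]
  rw [hgen s hs, hgen (m m₁ - n) le_rfl]

end Mod

end Groth.Agent.Helper1.ProML

namespace Groth.Agent.Helper1.ProML

open Groth.Agent.Helper1.Form Groth.Agent.Helper1.QuotPush Groth.Agent.Helper1.AffAlgz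

attribute [local instance] selfOver

variable (A : Type u) [CommRing A]

/-- `Γ(Spec A, (H⁰(U, G_n))~) ≅ H⁰(U, G_n)`, as systems -/
noncomputable def sectSysΓIso (U : (Spec (CommRingCat.of A)).Opens)
    (G : ℕᵒᵖ ⥤ (U : Scheme.{u}).Modules) :
    Algz.sectSys A U G ⋙ moduleSpecΓFunctor (R := CommRingCat.of A) ≅ Algz.sectMod A U G :=
  (Functor.isoWhiskerLeft (Algz.sectMod A U G)
    (tilde.toTildeΓNatIso (R := CommRingCat.of A)).symm : _) ≪≫ Functor.rightUnitor _

/-- global sections of a coherent formal system on `Spec A` have surjective transition maps -/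
lemma tr_Γ_surjective {I : Ideal A} {G' : ℕᵒᵖ ⥤ (Spec (CommRingCat.of A)).Modules}
    (hG' : Formal.IsCohFormal I G') (n k : ℕ) (h : n ≤ k) :
    Function.Surjective
      (ARSys.tr (G' ⋙ moduleSpecΓFunctor (R := CommRingCat.of A)) h).hom := by
  haveI := (hG'.1 k).1
  exact KLQuot.app_surjective (isQuot_tr_of_isCohFormal hG' h) (isAffineOpen_top _)

/-- S9532 in general form -/
theorem isML_sectMod (I : Ideal A) (U : (Spec (CommRingCat.of A)).Opens)
    (G : ℕᵒᵖ ⥤ (U : Scheme.{u}).Modules) (h : Algz.CanonicallyExtends A I U G) :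
    ARSys.IsML (Algz.sectMod A U G) := by
  obtain ⟨G', hG', hpro⟩ := h
  have h1 := isProIsomorphic_whiskerRight hpro (moduleSpecΓFunctor (R := CommRingCat.of A))
  have h2 := isProIsomorphic_of_iso_left (sectSysΓIso A U G) h1
  exact isML_of_proIso (tr_Γ_surjective A hG') h2

end Groth.Agent.Helper1.ProML
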