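import Mathlib
import Groth.Agent.Helper1.ProML
import Groth.Agent.S2291

/-!
# ProLim: pro-isomorphic systems of modules have isomorphic limits, compatibly with the
limit topologies; application to `Algz.sectMod` under `Algz.CanonicallyExtends` (S9533)
-/

set_option autoImplicit false
set_option linter.style.haveILetI false
set_option linter.unusedSectionVars false

universe v u

open CategoryTheory CategoryTheory.Limits AlgebraicGeometry Opposite

namespace Groth.Agent.Helper1.ProLim

open Groth.Agent.Helper1.ProML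

section Mod

variable {A : Type u} [CommRing A]

lemma ext_lim (X : ARSys.PS (ModuleCat.{u} A)) (l l' : ↑(limit X))
    (h : ∀ n : ℕ, (limit.π X (op n)).hom l = (limit.π X (op n)).hom l') : l = l' :=
  Concrete.limit_ext X l l' (fun j => h j.unop)

lemma π_tr (X : ARSys.PS (ModuleCat.{u} A)) {n k : ℕ} (h : n ≤ k) (l : ↑(limit X)) :
    (ARSys.tr X h).hom ((limit.π X (op k)).hom l) = (limit.π X (op n)).hom l := by
  have := congrArg (fun f => f.hom l) (limit.w X (homOfLE h).op)
  simpa only [ModuleCat.hom_comp, LinearMap.comp_apply] using this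

lemma exists_of_compat (X : ARSys.PS (ModuleCat.{u} A)) (x : ∀ n : ℕ, X.obj (op n))
    (hx : ∀ (n k : ℕ) (h : n ≤ k), (ARSys.tr X h).hom (x k) = x n) :
    ∃ l : ↑(limit X), ∀ n : ℕ, (limit.π X (op n)).hom l = x n := by
  let s : (X ⋙ forget (ModuleCat.{u} A)).sections :=
    ⟨fun j => x j.unop, by
      intro j j' f
      have h : j'.unop ≤ j.unop := leOfHom f.unop
      have e : f = (homOfLE h).op := Subsingleton.elim _ _
      subst e
      exact hx j'.unop j.unop h⟩
  let t := isLimitOfPreserves (forget (ModuleCat.{u} A)) (limit.isLimit X)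
  refine ⟨(Types.isLimitEquivSections t).symm s, fun n => ?_⟩
  exact Types.isLimitEquivSections_symm_apply t s (op n)

lemma compat_of_succ (X : ARSys.PS (ModuleCat.{u} A)) (x : ∀ n : ℕ, X.obj (op n))
    (hx : ∀ n : ℕ, (ARSys.tr X (Nat.le_succ n)).hom (x (n + 1)) = x n) :
    ∀ (n k : ℕ) (h : n ≤ k), (ARSys.tr X h).hom (x k) = x n := by
  intro n k h
  induction k, h using Nat.le_induction with
  | base =>
    rw [tr_self]
    rfl
  | succ k hk ih =>
    have e : ARSys.tr X (hk.trans (Nat.le_succ k)) = ARSys.tr X (Nat.le_succ k) ≫ ARSys.tr X hk :=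
      (tr_comp X hk (Nat.le_succ k)).symm
    rw [e, ModuleCat.hom_comp, LinearMap.comp_apply, hx k, ih]

/-- pro-isomorphic systems of modules have isomorphic limits -/
theorem exists_equiv_of_proIso {X P : ARSys.PS (ModuleCat.{u} A)} {m : ℕ → ℕ} (hm : Monotone m)
    (hmn : ∀ n, n ≤ m n) (a : DerCA.reindex X hm ⟶ P) (ha : DerCA.IsProIso a) :
    ∃ φ : ↑(limit X) ≃ₗ[A] ↑(limit P), ∀ (n : ℕ) (l : ↑(limit X)),
      (limit.π P (op n)).hom (φ l) =
        (a.app (op n) : X.obj (op (m n)) ⟶ P.obj (op n)).hom ((limit.π X (op (m n))).hom l) := by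
  -- typed components
  let an : ∀ n : ℕ, X.obj (op (m n)) ⟶ P.obj (op n) := fun n => a.app (op n)
  have hnat : ∀ (n k : ℕ) (h : n ≤ k), an k ≫ ARSys.tr P h = ARSys.tr X (hm h) ≫ an n :=
    fun n k h => (a.naturality (homOfLE h).op).symm
  -- the cone
  let c : Cone P :=
    { pt := limit X
      π :=
        { app := fun j => limit.π X (op (m j.unop)) ≫ an j.unop
          naturality := by
            intro j j' f
            have h : j'.unop ≤ j.unop := leOfHom f.unop
            have e : f = (homOfLE h).op := Subsingleton.elim _ _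
            subst e
            show 𝟙 _ ≫ limit.π X (op (m j'.unop)) ≫ an j'.unop =
              (limit.π X (op (m j.unop)) ≫ an j.unop) ≫ ARSys.tr P h
            rw [Category.id_comp, Category.assoc, hnat _ _ h, ← Category.assoc]
            congr 1
            exact (limit.w X (homOfLE (hm h)).op).symm } }
  let Φ : limit X ⟶ limit P := limit.lift P c
  have hΦ : ∀ (n : ℕ) (l : ↑(limit X)),
      (limit.π P (op n)).hom (Φ.hom l) = (an n).hom ((limit.π X (op (m n))).hom l) := by
    intro n l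
    have := congrArg (fun f => f.hom l) (limit.lift_π c (op n))
    exact this
  -- choice of the pro-inverse data
  choose m₁ h₁ b hb1 hb2 using ha
  let bn : ∀ n : ℕ, P.obj (op (m₁ n)) ⟶ X.obj (op (m n)) := fun n => b n
  have e1 : ∀ n, an (m₁ n) ≫ bn n = ARSys.tr X (hm (h₁ n)) := hb1
  have e2 : ∀ n, bn n ≫ an n = ARSys.tr P (h₁ n) := hb2
  -- injectivity
  have hinj : Function.Injective Φ.hom := by
    rw [← LinearMap.ker_eq_bot, eq_bot_iff]
    intro l hl
    have hl0 : Φ.hom l = 0 := hl
    have h0 : ∀ n, (an n).hom ((limit.π X (op (m n))).hom l) = 0 := by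
      intro n
      rw [← hΦ, hl0, map_zero]
    have h1 : ∀ n, (limit.π X (op (m n))).hom l = 0 := by
      intro n
      rw [← π_tr X (hm (h₁ n)) l, ← e1 n, ModuleCat.hom_comp, LinearMap.comp_apply, h0,
        map_zero]
    refine ext_lim X l 0 (fun n => ?_)
    rw [map_zero, ← π_tr X (hmn n) l, h1, map_zero]
  -- surjectivity
  have hsurj : Function.Surjective Φ.hom := by
    intro y
    let yn : ∀ n : ℕ, P.obj (op n) := fun n => (limit.π P (op n)).hom y
    have hy : ∀ (n k : ℕ) (h : n ≤ k), (ARSys.tr P h).hom (yn k) = yn n :=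
      fun n k h => π_tr P h y
    let z : ∀ n : ℕ, X.obj (op (m n)) := fun n => (bn n).hom (yn (m₁ n))
    -- compatibility of `z`
    have hz : ∀ (n k : ℕ) (h : n ≤ k), (ARSys.tr X (hm h)).hom (z k) = z n := by
      intro n k h
      -- a common later stage
      have hj1 : m₁ n ≤ max (m₁ n) (m₁ k) := le_max_left _ _
      have hj2 : m₁ k ≤ max (m₁ n) (m₁ k) := le_max_right _ _
      have e3 := proIso_two_stage hm (h₁ n) hj1 (h₁ (max (m₁ n) (m₁ k))) (an (m₁ n))
        (an (max (m₁ n) (m₁ k))) (hnat _ _ hj1) (bn n) (e1 n) (bn (max (m₁ n) (m₁ k))) (e2 _)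
      have e4 := proIso_two_stage hm (h₁ k) hj2 (h₁ (max (m₁ n) (m₁ k))) (an (m₁ k))
        (an (max (m₁ n) (m₁ k))) (hnat _ _ hj2) (bn k) (e1 k) (bn (max (m₁ n) (m₁ k))) (e2 _)
      have e3' := congrArg (fun f => f.hom (yn (m₁ (max (m₁ n) (m₁ k))))) e3
      have e4' := congrArg (fun f => f.hom (yn (m₁ (max (m₁ n) (m₁ k))))) e4
      simp only [ModuleCat.hom_comp, LinearMap.comp_apply] at e3' e4'
      rw [hy] at e3' e4'
      show (ARSys.tr X (hm h)).hom ((bn k).hom (yn (m₁ k))) = (bn n).hom (yn (m₁ n))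
      rw [e3', e4']
      have e5 : ARSys.tr X (hm ((h₁ n).trans hj1)) =
          ARSys.tr X (hm ((h₁ k).trans hj2)) ≫ ARSys.tr X (hm h) := by
        rw [tr_comp]
      rw [e5, ModuleCat.hom_comp, LinearMap.comp_apply]
    let x : ∀ n : ℕ, X.obj (op n) := fun n => (ARSys.tr X (hmn n)).hom (z n)
    have hx : ∀ (n k : ℕ) (h : n ≤ k), (ARSys.tr X h).hom (x k) = x n := by
      intro n k h
      show (ARSys.tr X h).hom ((ARSys.tr X (hmn k)).hom (z k)) = (ARSys.tr X (hmn n)).hom (z n)
      rw [← hz n k h]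
      have e6 : ARSys.tr X (hmn k) ≫ ARSys.tr X h = ARSys.tr X (hm h) ≫ ARSys.tr X (hmn n) := by
        rw [tr_comp, tr_comp]
      have := congrArg (fun f => f.hom (z k)) e6
      simpa only [ModuleCat.hom_comp, LinearMap.comp_apply] using this
    obtain ⟨l, hl⟩ := exists_of_compat X x hx
    refine ⟨l, ext_lim P _ _ (fun n => ?_)⟩
    rw [hΦ, hl]
    show (an n).hom ((ARSys.tr X (hmn (m n))).hom (z (m n))) = yn n
    rw [hz n (m n) (hmn n)]
    show (an n).hom ((bn n).hom (yn (m₁ n))) = yn n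
    have := congrArg (fun f => f.hom (yn (m₁ n))) (e2 n)
    simp only [ModuleCat.hom_comp, LinearMap.comp_apply] at this
    rw [this, hy]
  exact ⟨LinearEquiv.ofBijective Φ.hom ⟨hinj, hsurj⟩, fun n l => hΦ n l⟩

/-- transfer of "limit topology is finer than the adic one" along a pro-isomorphism -/
theorem ker_le_of_proIso (I : Ideal A) {X P : ARSys.PS (ModuleCat.{u} A)}
    (h : Algz.IsProIsomorphic X P)
    (hP : ∀ k : ℕ, LinearMap.ker (limit.π P (op k)).hom ≤
      I ^ (k + 1) • (⊤ : Submodule A ↑(limit P))) (k : ℕ) :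
    ∃ n : ℕ, LinearMap.ker (limit.π X (op n)).hom ≤ I ^ k • (⊤ : Submodule A ↑(limit X)) := by
  obtain ⟨m, hm, hmn, a, ha⟩ := h
  obtain ⟨φ, hφ⟩ := exists_equiv_of_proIso hm hmn a ha
  cases k with
  | zero =>
    refine ⟨0, fun x _ => ?_⟩
    rw [pow_zero, Ideal.one_eq_top, Submodule.top_smul]
    trivial
  | succ k =>
    refine ⟨m k, fun x hx => ?_⟩
    have hx0 : (limit.π X (op (m k))).hom x = 0 := hx
    have h1 : φ x ∈ I ^ (k + 1) • (⊤ : Submodule A ↑(limit P)) := by
      apply hP k
      show (limit.π P (op k)).hom (φ x) = 0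
      rw [hφ, hx0]
      exact map_zero (a.app (op k) : X.obj (op (m k)) ⟶ P.obj (op k)).hom
    have h2 : φ.symm (φ x) ∈ (I ^ (k + 1) • (⊤ : Submodule A ↑(limit P))).map
        (φ.symm : ↑(limit P) →ₗ[A] ↑(limit X)) := Submodule.mem_map_of_mem h1
    rw [Submodule.map_smul'', LinearEquiv.symm_apply_apply] at h2
    exact Submodule.smul_mono le_rfl le_top h2

end Mod

end Groth.Agent.Helper1.ProLim

namespace Groth.Agent.Helper1.ProLim

open Groth.Agent.Helper1.Form Groth.Agent.Helper1.QuotPush Groth.Agent.Helper1.AffAlgz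
open Groth.Agent.Helper1.ProML

attribute [local instance] selfOver

variable (A : Type u) [CommRing A] [IsNoetherianRing A]

/-- the limit of global sections of a coherent formal system on `Spec A` has the `I`-adic
topology -/
theorem ker_limit_Γ {I : Ideal A} {G' : ℕᵒᵖ ⥤ (Spec (CommRingCat.of A)).Modules}
    (hG' : Formal.IsCohFormal I G') (k : ℕ) :
    LinearMap.ker (limit.π (G' ⋙ moduleSpecΓFunctor (R := CommRingCat.of A)) (op k)).hom ≤
      I ^ (k + 1) • (⊤ : Submodule A
        ↑(limit (G' ⋙ moduleSpecΓFunctor (R := CommRingCat.of A)))) := by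
  set P := G' ⋙ moduleSpecΓFunctor (R := CommRingCat.of A) with hPdef
  let π : ∀ n : ℕ, ↑(limit P) →ₗ[A] Mn G' n := fun n => (limit.π P (op n)).hom
  have hπ : ∀ n, fn G' n ∘ₗ π (n + 1) = π n := by
    intro n
    ext l
    exact π_tr P (Nat.le_succ n) l
  have hinj : ∀ x : ↑(limit P), (∀ n, π n x = 0) → x = 0 := by
    intro x hx
    refine ext_lim P x 0 (fun n => ?_)
    rw [map_zero]
    exact hx n
  have hlift : ∀ y : (∀ n, Mn G' n), (∀ n, fn G' n (y (n + 1)) = y n) →
      ∃ x : ↑(limit P), ∀ n, π n x = y n := by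
    intro y hy
    exact exists_of_compat P y (compat_of_succ P y hy)
  have key := Groth.Agent.S2291.result A I (IsNoetherian.noetherian I) (Mn G') (fn G')
    (fn_surjective hG') (ker_fn hG') ↑(limit P) π hπ hinj hlift
  exact (key.2.1 k).2.le

/-- S9533 in general form -/
theorem ker_limit_sectMod_le (I : Ideal A) (U : (Spec (CommRingCat.of A)).Opens)
    (G : ℕᵒᵖ ⥤ (U : Scheme.{u}).Modules) (h : Algz.CanonicallyExtends A I U G) (k : ℕ) :
    ∃ n : ℕ, LinearMap.ker (limit.π (Algz.sectMod A U G) (op n)).hom ≤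
      I ^ k • (⊤ : Submodule A ↑(limit (Algz.sectMod A U G))) := by
  obtain ⟨G', hG', hpro⟩ := h
  have h1 := isProIsomorphic_whiskerRight hpro (moduleSpecΓFunctor (R := CommRingCat.of A))
  have h2 := isProIsomorphic_of_iso_left (sectSysΓIso A U G) h1
  exact ker_le_of_proIso I h2 (ker_limit_Γ A hG') k

end Groth.Agent.Helper1.ProLim
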