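import Mathlib
import Groth.Agent.Helper1.KLQuot
import Groth.Agent.Helper1.ProLim

/-!
# LimSec1: sections of inverse limits of `O_X`-modules; vanishing on affine opens
-/

set_option autoImplicit false
set_option linter.style.haveILetI false
set_option linter.unusedSectionVars false

universe u

open CategoryTheory CategoryTheory.Limits AlgebraicGeometry Opposite

namespace Groth.Agent.Helper1.LimSec

open Groth.Agent.Helper4

variable {X : Scheme.{u}}

/-- sections over `U`, as a functor to modules -/
noncomputable abbrev evF (U : X.Opens) :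
    X.Modules ⥤ ModuleCat.{u} (X.ringCatSheaf.obj.obj (op U)) :=
  SheafOfModules.evaluation X.ringCatSheaf (op U)

/-- sections over `U`, as a functor to types -/
noncomputable abbrev secF (U : X.Opens) : X.Modules ⥤ Type u :=
  evF U ⋙ forget _

noncomputable instance preservesLimit_secF (U : X.Opens) (G : ℕᵒᵖ ⥤ X.Modules) :
    PreservesLimit G (secF U) := by
  haveI h1 : PreservesLimitsOfShape ℕᵒᵖ (evF U) :=
    SheafOfModules.evaluationPreservesLimitsOfShape _ _ _
  haveI h2 : PreservesLimitsOfShape ℕᵒᵖ
      (forget (ModuleCat.{u} (X.ringCatSheaf.obj.obj (op U)))) := inferInstance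
  haveI h3 : PreservesLimit G (evF U) := h1.preservesLimit
  exact comp_preservesLimit _ _

variable (G : ℕᵒᵖ ⥤ X.Modules) (U : X.Opens)

lemma limit_sections_ext (s t : Γ(limit G, U))
    (h : ∀ n : ℕ, (limit.π G (op n)).app U s = (limit.π G (op n)).app U t) : s = t := by
  let c := isLimitOfPreserves (secF U) (limit.isLimit G)
  apply (Types.isLimitEquivSections c).injective
  ext j
  exact h j.unop

lemma limit_sections_exists (y : ∀ n : ℕ, Γ(G.obj (op n), U))
    (hy : ∀ (n k : ℕ) (h : n ≤ k), (ARSys.tr G h).app U (y k) = y n) :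
    ∃ s : Γ(limit G, U), ∀ n : ℕ, (limit.π G (op n)).app U s = y n := by
  let c := isLimitOfPreserves (secF U) (limit.isLimit G)
  let σ : (G ⋙ secF U).sections :=
    ⟨fun j => y j.unop, by
      intro j j' f
      have h : j'.unop ≤ j.unop := leOfHom f.unop
      have e : f = (homOfLE h).op := Subsingleton.elim _ _
      subst e
      exact hy j'.unop j.unop h⟩
  refine ⟨(Types.isLimitEquivSections c).symm σ, fun n => ?_⟩
  exact Types.isLimitEquivSections_symm_apply c σ (op n)

lemma app_res {K Z : X.Modules} (φ : K ⟶ Z) {V W : X.Opens} (h : W ≤ V) (s : Γ(K, V)) :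
    φ.app W (K.presheaf.map (homOfLE h).op s) = Z.presheaf.map (homOfLE h).op (φ.app V s) :=
  ConcreteCategory.congr_hom (φ.mapPresheaf.naturality (homOfLE h).op) s

/-- a morphism of modules vanishing on the sections over all affine opens is zero -/
theorem eq_zero_of_app_eq_zero_affine {K Z : X.Modules} (φ : K ⟶ Z)
    (h : ∀ W : X.Opens, IsAffineOpen W → ∀ s : Γ(K, W), φ.app W s = 0) : φ = 0 := by
  apply Scheme.Modules.hom_ext
  intro V
  ext s
  apply QcqsMod.section_ext Z
  intro x hx
  obtain ⟨_, ⟨W, hW, rfl⟩, hxW, hWV⟩ :=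
    X.isBasis_affineOpens.exists_subset_of_mem_open hx V.2
  have hWV' : W ≤ V := hWV
  have h1 := QcqsMod.germ_res Z hWV' x hxW (φ.app V s)
  rw [← app_res, h W hW, map_zero] at h1
  rw [← h1]
  exact (map_zero _).symm

end Groth.Agent.Helper1.LimSec
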