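import Mathlib
import Groth.Agent.Helper1.LimSec1
import Groth.Agent.Helper1.HomCompl2
import Groth.Agent.S2291
import Groth.Prelude.Def_Formal2

/-!
# LimSec2: the limit of a quasi-coherent formal system has the terms as its `I`-adic quotients
(S0852)
-/

set_option autoImplicit false
set_option linter.style.haveILetI false
set_option linter.unusedSectionVars false

universe u

open CategoryTheory CategoryTheory.Limits AlgebraicGeometry Opposite

namespace Groth.Agent.Helper1.LimSec

open Groth.Agent.Helper1.Form Groth.Agent.Helper1.QuotPush Groth.Agent.Helper4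
open Groth.Agent.Helper1.ProML

variable {A : Type u} [CommRing A] {X : Scheme.{u}} [X.Over (Spec (CommRingCat.of A))]

/-- the `A`-module structure on sections through `A → Γ(X, U)` -/
@[reducible] noncomputable def modρ (K : X.Modules) (U : X.Opens) : Module A Γ(K, U) :=
  Module.compHom _ (ρ (A := A) U)

attribute [local instance] modρ

lemma mem_smul_top_of_mem_map (J : Ideal A) (K : X.Modules) (U : X.Opens) {x : Γ(K, U)}
    (hx : x ∈ (J.map (ρ (A := A) U)) • (⊤ : Submodule Γ(X, U) Γ(K, U))) :
    x ∈ J • (⊤ : Submodule A Γ(K, U)) := by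
  have key : ∀ r ∈ J.map (ρ (A := A) U), ∀ m : Γ(K, U),
      r • m ∈ J • (⊤ : Submodule A Γ(K, U)) := by
    intro r hr
    refine Submodule.span_induction
      (p := fun r _ => ∀ m : Γ(K, U), r • m ∈ J • (⊤ : Submodule A Γ(K, U))) ?_ ?_ ?_ ?_ hr
    · rintro _ ⟨a, ha, rfl⟩ m
      exact Submodule.smul_mem_smul (M := Γ(K, U)) ha Submodule.mem_top
    · intro m
      rw [zero_smul]
      exact Submodule.zero_mem _
    · intro x y _ _ hx hy m
      rw [add_smul]
      exact Submodule.add_mem _ (hx m) (hy m)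
    · intro x y _ hy m
      have : (x • y) • m = y • (x • m) := by
        rw [smul_eq_mul, mul_comm, mul_smul]
      rw [this]
      exact hy _
  refine Submodule.smul_induction_on hx (fun r hr m _ => key r hr m) ?_
  intro x y hx hy
  exact Submodule.add_mem _ hx hy

lemma mem_map_smul_top_of_mem (J : Ideal A) (K : X.Modules) (U : X.Opens) {x : Γ(K, U)}
    (hx : x ∈ J • (⊤ : Submodule A Γ(K, U))) :
    x ∈ (J.map (ρ (A := A) U)) • (⊤ : Submodule Γ(X, U) Γ(K, U)) := by
  refine Submodule.smul_induction_on hx (fun a ha m _ => ?_)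
    (fun x y hx hy => Submodule.add_mem _ hx hy)
  exact Submodule.smul_mem_smul (Ideal.mem_map_of_mem _ ha) Submodule.mem_top

/-- the map on sections, `A`-linear -/
noncomputable def appρ {K K' : X.Modules} (φ : K ⟶ K') (U : X.Opens) :
    Γ(K, U) →ₗ[A] Γ(K', U) where
  toFun := φ.app U
  map_add' := map_add _
  map_smul' a x := Scheme.Modules.Hom.app_smul φ _ x

@[simp] lemma appρ_apply {K K' : X.Modules} (φ : K ⟶ K') (U : X.Opens) (x : Γ(K, U)) :
    appρ (A := A) φ U x = φ.app U x := rfl

variable {I : Ideal A} (hI : I.FG) {G : ℕᵒᵖ ⥤ X.Modules} (hG : Formal2.IsQCohFormal I G)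

include hG in
lemma hasQuotTrans_of_isQCohFormal : HasQuotTrans I G := fun n => by
  obtain ⟨h, hi⟩ := hG.2.2 n
  exact IsQuot.of_isIso h hi

lemma compat_of_succ_sections (G : ℕᵒᵖ ⥤ X.Modules) (U : X.Opens)
    (y : ∀ n : ℕ, Γ(G.obj (op n), U))
    (hy : ∀ n : ℕ, (G.map (homOfLE (Nat.le_succ n)).op).app U (y (n + 1)) = y n) :
    ∀ (n k : ℕ) (h : n ≤ k), (ARSys.tr G h).app U (y k) = y n := by
  intro n k h
  induction k, h using Nat.le_induction with
  | base =>
    rw [ProML.tr_self]
    rfl
  | succ k hk ih =>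
    have e : ARSys.tr G (hk.trans (Nat.le_succ k)) =
        G.map (homOfLE (Nat.le_succ k)).op ≫ ARSys.tr G hk :=
      (ProML.tr_comp G hk (Nat.le_succ k)).symm
    rw [e]
    show (ARSys.tr G hk).app U ((G.map (homOfLE (Nat.le_succ k)).op).app U (y (k + 1))) = y n
    rw [hy k, ih]

include hI hG in
/-- sections of the limit over an affine open -/
theorem sections_affine {U : X.Opens} (hU : IsAffineOpen U) (k : ℕ) :
    Function.Surjective ((limit.π G (op k)).app U) ∧
      ∀ s : Γ(limit G, U), (limit.π G (op k)).app U s = 0 →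
        s ∈ ((I ^ (k + 1)).map (ρ (A := A) U)) • (⊤ : Submodule Γ(X, U) Γ(limit G, U)) := by
  have hQ := hasQuotTrans_of_isQCohFormal hG
  haveI : ∀ j, (G.obj (op j)).IsQuasicoherent := fun j => hG.1 j
  have hf : ∀ j, Function.Surjective
      (appρ (A := A) (G.map (homOfLE (Nat.le_succ j)).op) U) :=
    fun j => KLQuot.app_surjective (hQ j) hU
  have hker : ∀ j, LinearMap.ker (appρ (A := A) (G.map (homOfLE (Nat.le_succ j)).op) U) =
      I ^ (j + 1) • (⊤ : Submodule A Γ(G.obj (op (j + 1)), U)) := by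
    intro j
    apply le_antisymm
    · intro x hx
      obtain ⟨r, g, hg⟩ := Groth.Agent.Helper1.HomCompl.exists_gens_pow hI (j + 1)
      have hq : IsQuot (Ideal.span (Set.range g)) (G.map (homOfLE (Nat.le_succ j)).op) := by
        rw [hg]
        exact hQ j
      have h1 := KLQuot.mem_smul_top_of_app_eq_zero g hq hU x hx
      rw [hg] at h1
      exact mem_smul_top_of_mem_map _ _ _ h1
    · intro x hx
      exact KLQuot.app_eq_zero_of_mem_smul_top (hQ j).kills U (mem_map_smul_top_of_mem _ _ _ hx)
  have hπ : ∀ j, appρ (A := A) (G.map (homOfLE (Nat.le_succ j)).op) U ∘ₗ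
      appρ (A := A) (limit.π G (op (j + 1))) U = appρ (A := A) (limit.π G (op j)) U := by
    intro j
    ext s
    exact congrArg (fun φ => Scheme.Modules.Hom.app φ U s)
      (limit.w G (homOfLE (Nat.le_succ j)).op)
  have hinj : ∀ x : Γ(limit G, U), (∀ j, appρ (A := A) (limit.π G (op j)) U x = 0) → x = 0 := by
    intro x hx
    refine limit_sections_ext G U x 0 (fun j => ?_)
    rw [map_zero]
    exact hx j
  have hlift : ∀ y : (∀ j, Γ(G.obj (op j), U)),
      (∀ j, appρ (A := A) (G.map (homOfLE (Nat.le_succ j)).op) U (y (j + 1)) = y j) →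
      ∃ x : Γ(limit G, U), ∀ j, appρ (A := A) (limit.π G (op j)) U x = y j :=
    fun y hy => limit_sections_exists G U y (compat_of_succ_sections G U y hy)
  have key := Groth.Agent.S2291.result A I hI (fun j => Γ(G.obj (op j), U))
    (fun j => appρ (A := A) (G.map (homOfLE (Nat.le_succ j)).op) U) hf hker
    Γ(limit G, U) (fun j => appρ (A := A) (limit.π G (op j)) U) hπ hinj hlift
  refine ⟨(key.2.1 k).1, fun s hs => ?_⟩
  have h1 : s ∈ LinearMap.ker (appρ (A := A) (limit.π G (op k)) U) := hs
  rw [(key.2.1 k).2] at h1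
  exact mem_map_smul_top_of_mem _ _ _ h1

include hI hG in
/-- **S0852**: `lim G_n → G_n` is the quotient by `I^(n+1)` -/
theorem isQuot_limit_π (n : ℕ) : IsQuot (I ^ (n + 1)) (limit.π G (op n)) := by
  haveI : (G.obj (op n)).IsQuasicoherent := hG.1 n
  have hk : Kills (I ^ (n + 1)) (limit.π G (op n)) := kills_of_killedBy_right (hG.2.1 n) _
  haveI hepi : Epi (limit.π G (op n)) := by
    apply QcohLocal.epi_of_app_surjective_of_affine_cover
    intro x
    obtain ⟨_, ⟨W, hW, rfl⟩, hxW, -⟩ :=
      X.isBasis_affineOpens.exists_subset_of_mem_open (Set.mem_univ x) isOpen_univ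
    exact ⟨W, hW, hxW, (sections_affine hI hG hW n).1⟩
  refine ⟨hepi, hk, fun {Z} f hf => ?_⟩
  have h0 : kernel.ι (limit.π G (op n)) ≫ f = 0 := by
    apply eq_zero_of_app_eq_zero_affine
    intro W hW s
    have h1 : (limit.π G (op n)).app W ((kernel.ι (limit.π G (op n))).app W s) = 0 :=
      congrArg (fun φ => Scheme.Modules.Hom.app φ W s) (kernel.condition (limit.π G (op n)))
    have h2 := (sections_affine hI hG hW n).2 _ h1
    exact KLQuot.app_eq_zero_of_mem_smul_top hf W h2
  exact ⟨Abelian.epiDesc (limit.π G (op n)) f h0, Abelian.comp_epiDesc _ _ _⟩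

end Groth.Agent.Helper1.LimSec
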