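import Mathlib
import Groth.Agent.Helper1.GrSh2
import Groth.Agent.Helper1.LimSec2
import Groth.Agent.Helper1.HHLes3
import Groth.Agent.Helper1.HHLes2
import Groth.Agent.Helper6.ExtLimSch
import Groth.Agent.S0827

/-!
# LimAdic: the limit topology on `lim H^p(X, G_n)` is adic (abstract part of S0842)
-/

set_option autoImplicit false
set_option linter.style.haveILetI false
set_option linter.unusedSectionVars false

universe u

open CategoryTheory CategoryTheory.Limits AlgebraicGeometry Opposite Abelian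

namespace Groth.Agent.Helper1.LimAdic

open Groth.Agent.Helper1.Form Groth.Agent.Helper1.GrSh Groth.Agent.Helper1.HHLes
open Groth.Agent.Helper6 Groth.Agent.Helper6.ExtLimSch

attribute [local instance] CategoryTheory.Abelian.hasFiniteBiproducts

variable (A : Type u) [CommRing A] {X : Scheme.{u}} [X.Over (Spec (CommRingCat.of A))]

lemma HHlin_sum {F G : X.Modules} {ι : Type*} (T : Finset ι) (φ : ι → (F ⟶ G)) (n : ℕ)
    (x : Coh.HH X F n) :
    Canon.HHlin A (∑ j ∈ T, φ j) n x = ∑ j ∈ T, Canon.HHlin A (φ j) n x := by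
  rw [HHSum.HHlin_apply, CategoryTheory.Functor.map_sum, HHSum.hom_sum_apply]
  rfl

variable {A}

/-- compatible families lift to the cohomology of the limit -/
theorem exists_lift {I : Ideal A} {G : ℕᵒᵖ ⥤ X.Modules} (hG : Formal2.IsQCohFormal I G) (p : ℕ)
    (x : ∀ n, Coh.HH X (G.obj (op n)) p)
    (hx : ∀ n, Formal2.HHsysMap G p n (x (n + 1)) = x n) :
    ∃ ξ : Coh.HH X (limit G) p, ∀ n, Canon.HHlin A (limit.π G (op n)) p ξ = x n := by
  cases p with
  | zero =>
    let x' : ∀ n, (constantSheaf (Opens.grothendieckTopology X) AddCommGrpCat.{u}).obj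
        (AddCommGrpCat.of (ULift ℤ)) ⟶ ExtTower.Fo (Fab G) n := fun n => Ext.addEquiv₀ (x n)
    have hx' : ∀ n, x' (n + 1) ≫ ExtTower.tr (Fab G) n = x' n := by
      intro n
      have h := Sheaf.H.addEquiv₀_map
        ((SheafOfModules.toSheaf X.ringCatSheaf).map (G.map (homOfLE (Nat.le_succ n)).op))
        (x (n + 1))
      show Ext.addEquiv₀ (x (n + 1)) ≫ _ = Ext.addEquiv₀ (x n)
      rw [← hx n]
      exact h.symm
    refine ⟨Ext.addEquiv₀.symm (ExtTower.liftOf (Fab G) x' hx' ≫ (eLim G).inv), fun n => ?_⟩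
    apply Ext.addEquiv₀.injective
    show Ext.addEquiv₀ (Sheaf.H.map ((SheafOfModules.toSheaf X.ringCatSheaf).map
      (limit.π G (op n))) 0 _) = _
    rw [Sheaf.H.addEquiv₀_map, AddEquiv.apply_symm_apply, Category.assoc, ← eLim_π]
    have e1 : (eLim G).inv ≫ (eLim G).hom ≫ limit.π (Fab G) (op n) = limit.π (Fab G) (op n) :=
      (eLim G).inv_hom_id_assoc _
    exact Eq.trans (congrArg (fun t => ExtTower.liftOf (Fab G) x' hx' ≫ t) e1)
      (ExtTower.liftOf_π (Fab G) x' hx' n)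
  | succ q =>
    obtain ⟨α, β, -, hβs, -, hβ⟩ := Groth.Agent.S0827.result A I X G hG q
    have hmem : x ∈ Formal2.limZero (fun n => Coh.HH X (G.obj (op n)) (q + 1))
        (Formal2.HHsysMap G (q + 1)) := by
      show Formal2.towerDiff _ _ x = 0
      funext n
      show x n - Formal2.HHsysMap G (q + 1) n (x (n + 1)) = 0
      rw [hx n, sub_self]
    obtain ⟨ξ, hξ⟩ := hβs ⟨x, hmem⟩
    refine ⟨ξ, fun n => ?_⟩
    have h1 := hβ ξ n
    rw [hξ] at h1
    exact h1.symm

/-- the kernel of `lim G → G_c` lies in `I^N lim G` for `N ≤ c + 1` -/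
theorem exists_factor {I : Ideal A} (hI : I.FG) {G : ℕᵒᵖ ⥤ X.Modules}
    (hG : Formal2.IsQCohFormal I G) (c N : ℕ) (hN : N ≤ c + 1) :
    ∃ l : kernel (limit.π G (op c)) ⟶ Formal2.idealPowMod I N (limit G),
      l ≫ Formal2.idealPowModι I N (limit G) = kernel.ι (limit.π G (op c)) := by
  have hq := LimSec.isQuot_limit_π hI hG c
  have hk : Kills (I ^ (c + 1)) (Formal.modPowπ I N (limit G)) :=
    Kills.mono (Ideal.pow_le_pow_right hN) (isQuot_cokernelπ (I ^ N) (limit G)).kills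
  have h0 : kernel.ι (limit.π G (op c)) ≫ Formal.modPowπ I N (limit G) = 0 := by
    rw [← hq.fac_desc _ hk, ← Category.assoc, kernel.condition, zero_comp]
  exact ⟨kernel.lift _ _ h0, kernel.lift_ι _ _ _⟩

/-- the abstract decomposition -/
theorem exists_decomp {I : Ideal A} {F Q : X.Modules} (g : F ⟶ Q) [Epi g] (N : ℕ)
    (l : kernel g ⟶ Formal2.idealPowMod I N F)
    (hl : l ≫ Formal2.idealPowModι I N F = kernel.ι g)
    {E : Type} [Fintype E] (a : E → A)
    (ΦF : Formal2.idealPowMod I N F ⟶ ⨁ (fun _ : E => F))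
    (hΦ : ΦF ≫ biproduct.desc (fun e : E => Formal.smulMod A F (a e)) =
      Formal2.idealPowModι I N F)
    (p : ℕ) (ξ : Coh.HH X F p) (hξ : Canon.HHlin A g p ξ = 0) :
    ∃ ζ : E → Coh.HH X F p, ξ = ∑ e, a e • ζ e := by
  classical
  obtain ⟨η, hη⟩ := (HHLes.exact_f_g A (HHLes.kerSC g) (HHLes.kerSC_shortExact g) p ξ).1 hξ
  refine ⟨fun e => Canon.HHlin A (l ≫ ΦF ≫ biproduct.π _ e) p η, ?_⟩
  have h1 : kernel.ι g = ∑ e, (l ≫ ΦF ≫ biproduct.π _ e) ≫ Formal.smulMod A F (a e) := by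
    rw [← hl, ← hΦ, biproduct.desc_eq, Preadditive.comp_sum, Preadditive.comp_sum]
    refine Finset.sum_congr rfl (fun e _ => ?_)
    simp only [Category.assoc]
  have h2 : Canon.HHlin A (kernel.ι g) p η = ξ := hη
  rw [← h2, h1, HHlin_sum]
  refine Finset.sum_congr rfl (fun e _ => ?_)
  rw [HHlin_comp, HHlin_smulMod]

end Groth.Agent.Helper1.LimAdic
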