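import Mathlib
import Groth.Agent.Helper1.HP1
import Groth.Agent.Helper1.Rees2
import Groth.Agent.Helper1.LimAdic

/-!
# HP2: the quotient `M/JM` by a finitely generated ideal and linear functors

For `g : Fin r → A`, `aM g M : ∐ M ⟶ M` is the map with components the multiplications by the
`g j`.  For an additive `A`-linear endofunctor `T` of `X.Modules`, the image of
`H⁰(T (aM g M))` is `J H⁰(T M)`, `J = (g j)`; if moreover `T` preserves finite colimits then
`T` carries `M ⟶ M/JM` to a quotient map modulo `J`.
-/

set_option autoImplicit false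
set_option linter.style.haveILetI false
set_option linter.unusedSectionVars false

universe u
open CategoryTheory CategoryTheory.Limits AlgebraicGeometry Opposite
open Groth.Agent.Helper1.Form Groth.Agent.Helper1.GrSh

namespace Groth.Agent.Helper1.HP

variable {A : Type u} [CommRing A] {X : Scheme.{u}} [X.Over (Spec (CommRingCat.of A))]

/-- the map `∐_{j} M ⟶ M` with components the multiplications by the `g j` -/
noncomputable def aM {r : ℕ} (g : Fin r → A) (M : X.Modules) : (∐ fun _ : Fin r => M) ⟶ M :=
  Sigma.desc (fun j : Fin r => Formal.smulMod A M (g j))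

/-- the `j`-th projection of the finite coproduct -/
noncomputable def prj {r : ℕ} (M : X.Modules) (j : Fin r) : (∐ fun _ : Fin r => M) ⟶ M :=
  Sigma.desc (fun i : Fin r => if i = j then 𝟙 M else 0)

lemma ι_prj {r : ℕ} (M : X.Modules) (i j : Fin r) :
    Sigma.ι (fun _ : Fin r => M) i ≫ prj M j = if i = j then 𝟙 M else 0 := by
  unfold prj
  rw [Sigma.ι_desc]

lemma ι_aM {r : ℕ} (g : Fin r → A) (M : X.Modules) (j : Fin r) :
    Sigma.ι (fun _ : Fin r => M) j ≫ aM g M = Formal.smulMod A M (g j) := by
  unfold aM
  rw [Sigma.ι_desc]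

lemma sum_prj_ι {r : ℕ} (M : X.Modules) :
    ∑ j : Fin r, prj M j ≫ Sigma.ι (fun _ : Fin r => M) j = 𝟙 _ := by
  apply Sigma.hom_ext
  intro i
  rw [Preadditive.comp_sum, Category.comp_id]
  rw [Finset.sum_eq_single i]
  · rw [← Category.assoc, ι_prj, if_pos rfl, Category.id_comp]
  · intro j _ hji
    rw [← Category.assoc, ι_prj, if_neg (Ne.symm hji), zero_comp]
  · intro h
    exact absurd (Finset.mem_univ i) h

lemma aM_eq_sum {r : ℕ} (g : Fin r → A) (M : X.Modules) :
    aM g M = ∑ j : Fin r, prj M j ≫ Formal.smulMod A M (g j) := by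
  have h := congrArg (fun φ => φ ≫ aM g M) (sum_prj_ι (r := r) M)
  simp only [Category.id_comp] at h
  rw [← h, Preadditive.sum_comp]
  apply Finset.sum_congr rfl
  intro j _
  rw [Category.assoc, ι_aM]

variable (T : X.Modules ⥤ X.Modules) [T.Additive] [T.Linear A]

lemma map_smulMod (M : X.Modules) (a : A) :
    T.map (Formal.smulMod A M a) = Formal.smulMod A (T.obj M) a := by
  rw [smulMod_eq, smulMod_eq, Functor.map_smul, CategoryTheory.Functor.map_id]

/-- the image of `H⁰(T (aM g M))` is `J H⁰(T M)` -/
theorem range_HHlin_map_aM {r : ℕ} (g : Fin r → A) (M : X.Modules) :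
    LinearMap.range (Canon.HHlin A (T.map (aM g M)) 0) =
      (Ideal.span (Set.range g)) • (⊤ : Submodule A (Coh.HH X (T.obj M) 0)) := by
  apply le_antisymm
  · rintro _ ⟨y, rfl⟩
    rw [aM_eq_sum, Functor.map_sum, LimAdic.HHlin_sum]
    apply Submodule.sum_mem
    intro j _
    rw [Functor.map_comp, HHlin_comp, map_smulMod, HHlin_smulMod]
    exact Submodule.smul_mem_smul (Ideal.subset_span ⟨j, rfl⟩) Submodule.mem_top
  · rw [Submodule.smul_le]
    intro a ha x _
    induction ha using Submodule.span_induction with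
    | mem a ha =>
      obtain ⟨j, rfl⟩ := ha
      refine ⟨Canon.HHlin A (T.map (Sigma.ι (fun _ : Fin r => M) j)) 0 x, ?_⟩
      rw [← HHlin_comp, ← Functor.map_comp, ι_aM, map_smulMod, HHlin_smulMod]
    | zero => rw [zero_smul]; exact Submodule.zero_mem _
    | add a b _ _ ha hb => rw [add_smul]; exact Submodule.add_mem _ ha hb
    | smul c a _ ha => rw [smul_eq_mul, mul_smul]; exact Submodule.smul_mem _ c ha

/-- a linear functor preserving finite colimits preserves the quotient map `M ⟶ M/JM` -/
theorem isQuot_map_cokernelπ [PreservesFiniteColimits T] {r : ℕ} (g : Fin r → A)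
    (M : X.Modules) :
    IsQuot (Ideal.span (Set.range g)) (T.map (cokernel.π (aM g M))) := by
  have hq : IsQuot (Ideal.span (Set.range g)) (cokernel.π (aM g M)) :=
    Groth.Agent.Helper1.Rees.isQuot_cokernel_fin g M
  refine ⟨inferInstance, fun a ha => ?_, ?_⟩
  · rw [← Functor.map_smul, hq.kills a ha, Functor.map_zero]
  · intro Z f hf
    have h0 : T.map (aM g M) ≫ f = 0 := by
      rw [aM_eq_sum, Functor.map_sum, Preadditive.sum_comp]
      apply Finset.sum_eq_zero
      intro j _
      rw [Functor.map_comp, Category.assoc, map_smulMod, smulMod_eq, Linear.smul_comp,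
        Category.id_comp, hf (g j) (Ideal.subset_span ⟨j, rfl⟩), comp_zero]
    refine ⟨(PreservesCokernel.iso T (aM g M)).hom ≫ cokernel.desc (T.map (aM g M)) f h0, ?_⟩
    have h1 : T.map (cokernel.π (aM g M)) ≫ (PreservesCokernel.iso T (aM g M)).hom =
        cokernel.π (T.map (aM g M)) := PreservesCokernel.π_iso_hom T (aM g M)
    rw [← Category.assoc, h1, cokernel.π_desc]

end Groth.Agent.Helper1.HP
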