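import Mathlib
import Groth.Agent.Helper1.HP2
import Groth.Agent.Helper1.HHLes2
import Groth.Agent.Helper1.HHLes3
import Groth.Agent.Helper1.TwistExact

/-!
# HP3: `H⁰(X, (F/JF) ⊗ B) = H⁰(X, F ⊗ B) / J H⁰(X, F ⊗ B)` when two `H¹` vanish
-/

set_option autoImplicit false
set_option linter.style.haveILetI false
set_option linter.unusedSectionVars false
set_option maxHeartbeats 400000

universe u
open CategoryTheory CategoryTheory.Limits AlgebraicGeometry Opposite
open Groth.Agent.Helper1.Form Groth.Agent.Helper1.GrSh Groth.Agent.Helper1.HHLes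

namespace Groth.Agent.Helper1.HP

variable (A : Type u) [CommRing A] {X : Scheme.{u}} [X.Over (Spec (CommRingCat.of A))]

/-- surjectivity on `H⁰` when `H¹` of the kernel vanishes -/
theorem surjective_HHlin_zero (S : ShortComplex X.Modules) (hS : S.ShortExact)
    (h : Subsingleton (Coh.HH X S.X₁ 1)) : Function.Surjective (Canon.HHlin A S.g 0) := by
  intro y
  exact (exact_g_δ A S hS 0 y).1 (Subsingleton.elim _ _)

theorem ker_HHlin_zero (S : ShortComplex X.Modules) (hS : S.ShortExact) :
    LinearMap.ker (Canon.HHlin A S.g 0) = LinearMap.range (Canon.HHlin A S.f 0) :=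
  LinearMap.exact_iff.1 (exact_f_g A S hS 0)

variable (B : X.Modules) (hB : PicF.IsInvertible B) {r : ℕ} (g : Fin r → A) (F : X.Modules)

local notation "𝕋" => DCoh.tensorRightMod B

include hB in
/-- **the sections of the twisted quotient `F/JF`** -/
theorem exists_quotEquiv
    (h1 : Subsingleton (Coh.HH X
      ((DCoh.tensorRightMod B).obj (kernel (Abelian.factorThruImage (aM g F)))) 1))
    (h2 : Subsingleton (Coh.HH X ((DCoh.tensorRightMod B).obj (Abelian.image (aM g F))) 1)) :
    Nonempty ((Coh.HH X ((DCoh.tensorRightMod B).obj F) 0 ⧸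
        (Ideal.span (Set.range g)) • (⊤ : Submodule A (Coh.HH X ((DCoh.tensorRightMod B).obj F) 0)))
      ≃ₗ[A] Coh.HH X ((DCoh.tensorRightMod B).obj (cokernel (aM g F))) 0) := by
  -- the two short exact sequences
  have hS₂ := Groth.Agent.Helper1.TwistExact.shortExact_map_tensorRightMod
      (S := kerSC (cokernel.π (aM g F))) (kerSC_shortExact (cokernel.π (aM g F))) B hB
  have hS₁ := Groth.Agent.Helper1.TwistExact.shortExact_map_tensorRightMod
      (S := kerSC (Abelian.factorThruImage (aM g F)))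
      (kerSC_shortExact (Abelian.factorThruImage (aM g F))) B hB
  have surj₂ : Function.Surjective (Canon.HHlin A ((𝕋).map (cokernel.π (aM g F))) 0) :=
    surjective_HHlin_zero A ((kerSC (cokernel.π (aM g F))).map (𝕋)) hS₂ h2
  have surj₁ : Function.Surjective
      (Canon.HHlin A ((𝕋).map (Abelian.factorThruImage (aM g F))) 0) :=
    surjective_HHlin_zero A ((kerSC (Abelian.factorThruImage (aM g F))).map (𝕋)) hS₁ h1
  have ker₂ : LinearMap.ker (Canon.HHlin A ((𝕋).map (cokernel.π (aM g F))) 0) =
      LinearMap.range (Canon.HHlin A ((𝕋).map (Abelian.image.ι (aM g F))) 0) :=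
    ker_HHlin_zero A ((kerSC (cokernel.π (aM g F))).map (𝕋)) hS₂
  have hrange : LinearMap.range (Canon.HHlin A ((𝕋).map (Abelian.image.ι (aM g F))) 0) =
      LinearMap.range (Canon.HHlin A ((𝕋).map (aM g F)) 0) := by
    apply le_antisymm
    · rintro _ ⟨y, rfl⟩
      obtain ⟨z, rfl⟩ := surj₁ y
      refine ⟨z, ?_⟩
      rw [← HHlin_comp, ← Functor.map_comp, Abelian.image.fac]
    · rintro _ ⟨z, rfl⟩
      refine ⟨Canon.HHlin A ((𝕋).map (Abelian.factorThruImage (aM g F))) 0 z, ?_⟩
      rw [← HHlin_comp, ← Functor.map_comp, Abelian.image.fac]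
  have hker : LinearMap.ker (Canon.HHlin A ((𝕋).map (cokernel.π (aM g F))) 0) =
      (Ideal.span (Set.range g)) • (⊤ : Submodule A (Coh.HH X ((𝕋).obj F) 0)) := by
    rw [ker₂, hrange]
    exact range_HHlin_map_aM (𝕋) g F
  exact ⟨(Submodule.quotEquivOfEq _ _ hker.symm).trans
    (LinearMap.quotKerEquivOfSurjective _ surj₂)⟩

end Groth.Agent.Helper1.HP
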