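import Mathlib

set_option autoImplicit false

/-!
# Base change along a surjective ring map: surjectivity and the kernel
-/

namespace Groth.Agent.Helper1.PicLoc

open TensorProduct

variable {R S M N : Type*} [CommRing R] [CommRing S] [Algebra R S] [AddCommGroup M] [Module R M]
  [AddCommGroup N] [Module R N] [Module S N] [IsScalarTower R S N]

/-- a base change map along a surjective ring map is surjective -/
theorem surjective_of_isBaseChange (ρ : M →ₗ[R] N) (hb : IsBaseChange S ρ)
    (hs : Function.Surjective (algebraMap R S)) : Function.Surjective ρ := by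
  intro y
  induction y using hb.inductionOn with
  | zero => exact ⟨0, map_zero _⟩
  | tmul m => exact ⟨m, rfl⟩
  | smul s n ih =>
    obtain ⟨m, rfl⟩ := ih
    obtain ⟨r, rfl⟩ := hs s
    exact ⟨r • m, by rw [map_smul, algebraMap_smul]⟩
  | add n₁ n₂ ih₁ ih₂ =>
    obtain ⟨m₁, rfl⟩ := ih₁
    obtain ⟨m₂, rfl⟩ := ih₂
    exact ⟨m₁ + m₂, map_add _ _ _⟩

/-- the kernel of a base change map along a surjective ring map -/
theorem mem_smul_top_of_isBaseChange (ρ : M →ₗ[R] N) (hb : IsBaseChange S ρ)
    (hs : Function.Surjective (algebraMap R S)) (m : M) (hm : ρ m = 0) :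
    m ∈ (RingHom.ker (algebraMap R S)) • (⊤ : Submodule R M) := by
  set I := RingHom.ker (algebraMap R S) with hI
  -- `1 ⊗ m = 0` in `S ⊗ M`
  have h1 : (1 : S) ⊗ₜ[R] m = 0 := by
    apply hb.equiv.injective
    rw [hb.equiv_tmul, one_smul, hm, map_zero]
  -- transport to `(R/I) ⊗ M`
  let e : (R ⧸ I) ≃ₐ[R] S := Ideal.quotientKerAlgEquivOfSurjective (f := Algebra.ofId R S) hs
  have h2 : (1 : R ⧸ I) ⊗ₜ[R] m = 0 := by
    have h3 := congrArg (LinearMap.rTensor M e.symm.toLinearMap) h1
    rw [LinearMap.rTensor_tmul, map_zero] at h3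
    have h4 : e.symm.toLinearMap (1 : S) = 1 := map_one e.symm
    rw [h4] at h3
    exact h3
  have h5 := congrArg (TensorProduct.quotTensorEquivQuotSMul M I) h2
  rw [TensorProduct.quotTensorEquivQuotSMul_mk_one_tmul, map_zero] at h5
  exact (Submodule.Quotient.mk_eq_zero _).mp h5

end Groth.Agent.Helper1.PicLoc
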