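import Groth.Agent.Helper1.QuotPush1
import Groth.Agent.Helper1.PicLocAlg
import Groth.Agent.Lead.BCMap5
import Groth.Agent.Lead.StalkPull

set_option autoImplicit false
set_option linter.style.haveILetI false

/-!
# `N ⟶ i_* i^* N` exhibits `i_* i^* N` as `N / J N` (quasi-coherent `N`)

For `X` over `Spec A`, an ideal `J` of `A`, `i : X_J ⟶ X` the base change of
`Spec (A/J) ⟶ Spec A` and a quasi-coherent `N`, the unit `N ⟶ i_* i^* N` is a quotient map
modulo `J` in the sense of `Form.IsQuot`.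
-/

namespace Groth.Agent.Helper1.PicLoc

open CategoryTheory Limits AlgebraicGeometry Opposite
open Groth.Agent.Helper1.Form Groth.Agent.Helper1.QuotPush Groth.Agent.Helper4
open Groth.Agent.Lead.BCMap

universe u

variable {A : Type u} [CommRing A] {X : Scheme.{u}} [X.Over (Spec (CommRingCat.of A))]

/-- the unit `N ⟶ i_* i^* N` -/
noncomputable def unitN {XJ : Scheme.{u}} (i : XJ ⟶ X) (N : X.Modules) :
    N ⟶ (Scheme.Modules.pushforward i).obj ((Scheme.Modules.pullback i).obj N) :=
  (Scheme.Modules.pullbackPushforwardAdjunction i).unit.app N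

lemma unitN_app {XJ : Scheme.{u}} (i : XJ ⟶ X) (N : X.Modules) (U : X.Opens) (m : Γ(N, U)) :
    (unitN i N).app U m = pbSec i N U (i ⁻¹ᵁ U) le_rfl m := by
  rw [pbSec_apply]
  have : (homOfLE (le_refl (i ⁻¹ᵁ U))).op = 𝟙 (op (i ⁻¹ᵁ U)) := Subsingleton.elim _ _
  rw [this]
  erw [CategoryTheory.Functor.map_id]
  rfl

variable (J : Ideal A) {XJ : Scheme.{u}} {i : XJ ⟶ X} {fJ : XJ ⟶ Spec (CommRingCat.of (A ⧸ J))}
  (hsq : IsPullback i fJ (X ↘ Spec (CommRingCat.of A))
    (Spec.map (CommRingCat.ofHom (Ideal.Quotient.mk J))))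

include hsq in
/-- **`N ⟶ i_* i^* N` is the quotient of `N` modulo `J`.** -/
theorem isQuot_unitN (N : X.Modules) [N.IsQuasicoherent] : IsQuot J (unitN i N) := by
  haveI : IsClosedImmersion (Spec.map (CommRingCat.ofHom (Ideal.Quotient.mk J))) :=
    IsClosedImmersion.spec_of_surjective _ Ideal.Quotient.mk_surjective
  haveI : IsClosedImmersion i := Groth.Agent.Lead.ThickBC.isClosedImmersion_of_isPullback hsq
  haveI : ((Scheme.Modules.pullback i).obj N).IsQuasicoherent :=
    Groth.Agent.Lead.StalkPull.isQuasicoherent_pullbackObj i N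
  haveI : ((Scheme.Modules.pushforward i).obj ((Scheme.Modules.pullback i).obj N)).IsQuasicoherent :=
    QcohGlue.isQuasicoherent_pushforward i _
  -- the affine-local description
  have key : ∀ (U : X.Opens) (hU : IsAffineOpen U),
      Function.Surjective ((unitN i N).app U) ∧
      (∀ m : Γ(N, U), (unitN i N).app U m = 0 →
        m ∈ (J.map (ρ (A := A) U)) • (⊤ : Submodule Γ(X, U) Γ(N, U))) ∧
      (∀ (a : A), a ∈ J → ∀ m : Γ(N, U), (unitN i N).app U ((ρ (A := A) U a) • m) = 0) := by
    intro U hU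
    have hV : IsAffineOpen (i ⁻¹ᵁ U) := hU.preimage i
    letI := (i.appLE U (i ⁻¹ᵁ U) le_rfl).hom.toAlgebra
    letI : Module Γ(X, U) Γ((Scheme.Modules.pullback i).obj N, i ⁻¹ᵁ U) :=
      Module.compHom _ (i.appLE U (i ⁻¹ᵁ U) le_rfl).hom
    haveI : IsScalarTower Γ(X, U) Γ(XJ, i ⁻¹ᵁ U)
        Γ((Scheme.Modules.pullback i).obj N, i ⁻¹ᵁ U) := IsScalarTower.of_compHom _ _ _
    obtain ⟨r, hr, hb⟩ := exists_isBaseChange_pbSec i N hU hV le_rfl
    have happ : i.appLE U (i ⁻¹ᵁ U) le_rfl = i.app U := (Scheme.Hom.app_eq_appLE i).symm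
    have hs : Function.Surjective (algebraMap Γ(X, U) Γ(XJ, i ⁻¹ᵁ U)) := by
      change Function.Surjective (i.appLE U (i ⁻¹ᵁ U) le_rfl).hom
      rw [happ]
      exact i.app_surjective U hU
    have hker : RingHom.ker (algebraMap Γ(X, U) Γ(XJ, i ⁻¹ᵁ U)) = J.map (ρ (A := A) U) := by
      change RingHom.ker (i.appLE U (i ⁻¹ᵁ U) le_rfl).hom = _
      rw [happ]
      exact ker_app_eq J hsq hU
    have heq : ∀ m : Γ(N, U), (unitN i N).app U m = r m := fun m => by
      rw [unitN_app, hr]
    refine ⟨?_, ?_, ?_⟩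
    · intro y
      obtain ⟨m, hm⟩ := surjective_of_isBaseChange r hb hs y
      exact ⟨m, (heq m).trans hm⟩
    · intro m hm
      rw [← hker]
      exact mem_smul_top_of_isBaseChange r hb hs m ((heq m).symm.trans hm)
    · intro a ha m
      rw [heq, map_smul]
      have h1 : algebraMap Γ(X, U) Γ(XJ, i ⁻¹ᵁ U) (ρ (A := A) U a) = 0 := by
        have : ρ (A := A) U a ∈ RingHom.ker (algebraMap Γ(X, U) Γ(XJ, i ⁻¹ᵁ U)) := by
          rw [hker]
          exact Ideal.mem_map_of_mem _ ha
        exact this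
      rw [← algebraMap_smul Γ(XJ, i ⁻¹ᵁ U), h1, zero_smul]
      rfl
  haveI hepi : Epi (unitN i N) := by
    apply QcohLocal.epi_of_app_surjective_of_affine_cover
    intro x
    obtain ⟨U, hU, hx⟩ := QcohLimits.exists_affine_nhd x
    exact ⟨U, hU, hx, (key U hU).1⟩
  have hkills : Kills J (unitN i N) := by
    intro a ha
    apply QcohLocal.eq_zero_of_app_eq_zero_of_affine_cover
    intro x
    obtain ⟨U, hU, hx⟩ := QcohLimits.exists_affine_nhd x
    refine ⟨U, hU, hx, fun m => ?_⟩
    rw [smul_hom_app]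
    exact (key U hU).2.2 a ha m
  refine ⟨hepi, hkills, fun {W} f hf => ?_⟩
  haveI : (kernel (unitN i N)).IsQuasicoherent := QcohLimits.isQuasicoherent_kernel _
  have hz : kernel.ι (unitN i N) ≫ f = 0 := by
    apply QcohLocal.eq_zero_of_app_eq_zero_of_affine_cover
    intro x
    obtain ⟨U, hU, hx⟩ := QcohLimits.exists_affine_nhd x
    refine ⟨U, hU, hx, fun k => ?_⟩
    change f.app U ((kernel.ι (unitN i N)).app U k) = 0
    set n : Γ(N, U) := (kernel.ι (unitN i N)).app U k with hn
    have h1 : (unitN i N).app U n = 0 := by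
      have := congrArg (fun φ => (Scheme.Modules.Hom.app φ U) k) (kernel.condition (unitN i N))
      exact this
    have h2 := (key U hU).2.1 n h1
    refine Submodule.smul_induction_on h2 ?_ ?_
    · intro c hc m _
      rw [Scheme.Modules.Hom.app_smul]
      -- `c ∈ J · Γ(X,U)`
      refine Submodule.span_induction ?_ ?_ ?_ ?_ hc
      · rintro _ ⟨a, ha, rfl⟩
        have h3 : (a • f).app U m = 0 := by
          rw [hf a ha]
          rfl
        have h5 := smul_hom_app f a U m
        rw [Scheme.Modules.Hom.app_smul] at h5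
        exact h5.symm.trans h3
      · rw [zero_smul]
      · intro a b _ _ ha hb
        rw [add_smul, ha, hb, add_zero]
      · intro c' b _ hb
        rw [smul_eq_mul, mul_smul, hb, smul_zero]
    · intro a b ha hb
      rw [map_add, ha, hb, add_zero]
  exact ⟨Abelian.epiDesc (unitN i N) f hz, Abelian.comp_epiDesc _ _ _⟩

end Groth.Agent.Helper1.PicLoc
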