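import Mathlib
import Groth.Agent.Helper1.HP3
import Groth.Agent.Helper1.PicLoc1
import Groth.Agent.Helper1.AffLin
import Groth.Agent.Helper1.SV1
import Groth.Agent.Helper1.ProjTop8
import Groth.Agent.Helper1.FBC2
import Groth.Agent.Lead.PerfLib5

/-!
# HP4: base change of `H⁰` of large twists to a closed subscheme of the base, without flatness

`X` proper over a noetherian ring `A`, `L` ample, `F` coherent, `A → B` surjective, `X₀ = X_B`:
for `n ≫ 0`, `H^q(X₀, (F ⊗ L^n)|X₀) = 0` for `q > 0` and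
`B ⊗_A H⁰(X, F ⊗ L^n) ≃ H⁰(X₀, (F ⊗ L^n)|X₀)`.
-/

set_option autoImplicit false
set_option linter.style.haveILetI false
set_option linter.unusedSectionVars false
set_option maxHeartbeats 400000

universe u
open CategoryTheory CategoryTheory.Limits AlgebraicGeometry Opposite TensorProduct
open Groth.Agent.Helper1.Form Groth.Agent.Helper1.GrSh Groth.Agent.Helper1.HHLes

namespace Groth.Agent.Helper1.HP

variable (A : Type u) [CommRing A] {X : Scheme.{u}} [X.Over (Spec (CommRingCat.of A))]
variable (B : Type u) [CommRing B] [Algebra A B] {X₀ : Scheme.{u}}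
  [X₀.Over (Spec (CommRingCat.of B))] (i : X₀ ⟶ X)
  (hsq : IsPullback i (X₀ ↘ Spec (CommRingCat.of B)) (X ↘ Spec (CommRingCat.of A))
      (Spec.map (CommRingCat.ofHom (algebraMap A B))))

include hsq in
/-- the quotient form of the square -/
lemma isPullback_quot (hs : Function.Surjective (algebraMap A B)) :
    IsPullback i ((X₀ ↘ Spec (CommRingCat.of B)) ≫ Spec.map (CommRingCat.ofHom
        (RingHom.quotientKerEquivOfSurjective hs).toRingHom))
      (X ↘ Spec (CommRingCat.of A))
      (Spec.map (CommRingCat.ofHom (Ideal.Quotient.mk (RingHom.ker (algebraMap A B))))) := by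
  let e := RingHom.quotientKerEquivOfSurjective hs
  let σ : Spec (CommRingCat.of B) ≅ Spec (CommRingCat.of (A ⧸ RingHom.ker (algebraMap A B))) :=
    Scheme.Spec.mapIso e.toCommRingCatIso.op
  have hσ : σ.hom = Spec.map (CommRingCat.ofHom e.toRingHom) := rfl
  refine IsPullback.of_iso hsq (Iso.refl _) (Iso.refl _) σ (Iso.refl _) (by simp) ?_ (by simp) ?_
  · rw [Iso.refl_hom, Category.id_comp, hσ]
  · rw [Iso.refl_hom, Category.comp_id, hσ, ← Spec.map_comp]
    congr 1

section Main

variable [IsNoetherianRing A] [IsProper (X ↘ Spec (CommRingCat.of A))]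

include hsq in
/-- **base change of the sections of large twists to a closed subscheme of the base** -/
theorem exists_closed_bc (hs : Function.Surjective (algebraMap A B))
    {L : X.Modules} (hL : CohB1.IsAmple L) (F : X.Modules) (hF : Coh.IsCoh F) :
    ∃ n₀ : ℕ, ∀ n : ℕ, n₀ ≤ n →
      (∀ q : ℕ, 1 ≤ q → Subsingleton (Coh.HH X₀ ((Scheme.Modules.pullback i).obj
          (CohB1.tensorMod F (CohB1.tensorPow L n))) q)) ∧
      Nonempty (B ⊗[A] (Coh.HH X (CohB1.tensorMod F (CohB1.tensorPow L n)) 0) ≃ₗ[B]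
        Coh.HH X₀ ((Scheme.Modules.pullback i).obj
          (CohB1.tensorMod F (CohB1.tensorPow L n))) 0) := by
  classical
  obtain ⟨r, g, hg⟩ := Submodule.fg_iff_exists_fin_generating_family.1
    (IsNoetherian.noetherian (RingHom.ker (algebraMap A B)))
  have hg' : Ideal.span (Set.range g) = RingHom.ker (algebraMap A B) := hg
  haveI : IsLocallyNoetherian X :=
    LocallyOfFiniteType.isLocallyNoetherian (X ↘ Spec (CommRingCat.of A))
  -- the coherent pieces
  have hsig : Coh.IsCoh (∐ fun _ : Fin r => F) :=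
    Groth.Agent.Helper1.SerreFin.isCoh_sigma_fin _ (fun _ => hF)
  have hQ : Coh.IsCoh (cokernel (aM g F)) := Groth.Agent.Lead.PerfLib.isCoh_cokernel hsig hF _
  have hI : Coh.IsCoh (Abelian.image (aM g F)) := Groth.Agent.Lead.PerfLib.isCoh_kernel hF hQ _
  have hK : Coh.IsCoh (kernel (Abelian.factorThruImage (aM g F))) :=
    Groth.Agent.Lead.PerfLib.isCoh_kernel hsig hI _
  obtain ⟨nQ, hnQ⟩ := Groth.Agent.Helper1.SV.serre_vanishing A (X ↘ Spec (CommRingCat.of A)) hL _ hQ
  obtain ⟨nI, hnI⟩ := Groth.Agent.Helper1.SV.serre_vanishing A (X ↘ Spec (CommRingCat.of A)) hL _ hI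
  obtain ⟨nK, hnK⟩ := Groth.Agent.Helper1.SV.serre_vanishing A (X ↘ Spec (CommRingCat.of A)) hL _ hK
  refine ⟨max nQ (max nI nK), fun n hn => ?_⟩
  have hnQ' : nQ ≤ n := le_trans (le_max_left _ _) hn
  have hnI' : nI ≤ n := le_trans (le_trans (le_max_left _ _) (le_max_right _ _)) hn
  have hnK' : nK ≤ n := le_trans (le_trans (le_max_right _ _) (le_max_right _ _)) hn
  have hLn : PicF.IsInvertible (CohB1.tensorPow L n) :=
    Groth.Agent.Helper4.TensorInv.isInvertible_tensorPow hL.1 n
  -- the module structure over `A` on the cohomology of `X₀`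
  letI : X₀.Over (Spec (CommRingCat.of A)) := ⟨i ≫ (X ↘ Spec (CommRingCat.of A))⟩
  haveI : IsClosedImmersion (Spec.map (CommRingCat.ofHom (algebraMap A B))) :=
    IsClosedImmersion.spec_of_surjective _ hs
  haveI : IsClosedImmersion i := MorphismProperty.of_isPullback hsq.flip inferInstance
  haveI : IsAffineHom i := inferInstance
  -- the twisted module
  have hcohN : Coh.IsCoh (CohB1.tensorMod F (CohB1.tensorPow L n)) := by
    have hB := Groth.Agent.Helper1.SerreFin.isCoh_of_isInvertible _ hLn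
    haveI : F.IsQuasicoherent := hF.1
    haveI : (CohB1.tensorPow L n).IsQuasicoherent := hB.1
    exact ⟨Groth.Agent.Lead.QcohTensor.isQuasicoherent_tensorMod F _,
      Groth.Agent.Lead.QcohTensor.isFT_tensorMod F _ hF.2 hB.2⟩
  haveI : (CohB1.tensorMod F (CohB1.tensorPow L n)).IsQuasicoherent := hcohN.1
  haveI : Coh.IsQCoh ((Scheme.Modules.pullback i).obj (CohB1.tensorMod F (CohB1.tensorPow L n))) :=
    Groth.Agent.Lead.StalkPull.isQuasicoherent_pullbackObj i _
  -- the two descriptions of the quotient modulo `J`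
  have hq1 : IsQuot (RingHom.ker (algebraMap A B))
      (Groth.Agent.Helper1.PicLoc.unitN i (CohB1.tensorMod F (CohB1.tensorPow L n))) :=
    Groth.Agent.Helper1.PicLoc.isQuot_unitN _ (isPullback_quot A B i hsq hs) _
  haveI := Groth.Agent.Helper1.TwistExact.preservesFiniteColimits_tensorRightMod
    (CohB1.tensorPow L n) hLn
  have hq2 : IsQuot (RingHom.ker (algebraMap A B))
      ((DCoh.tensorRightMod (CohB1.tensorPow L n)).map (cokernel.π (aM g F))) := by
    rw [← hg']
    exact isQuot_map_cokernelπ (DCoh.tensorRightMod (CohB1.tensorPow L n)) g F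
  let θ : (Scheme.Modules.pushforward i).obj ((Scheme.Modules.pullback i).obj
      (CohB1.tensorMod F (CohB1.tensorPow L n))) ≅
      (DCoh.tensorRightMod (CohB1.tensorPow L n)).obj (cokernel (aM g F)) := hq1.iso hq2
  -- cohomology of `X₀` through the pushforward
  have key : ∀ q : ℕ, Nonempty (Coh.HH X₀ ((Scheme.Modules.pullback i).obj
      (CohB1.tensorMod F (CohB1.tensorPow L n))) q ≃ₗ[A]
      Coh.HH X ((DCoh.tensorRightMod (CohB1.tensorPow L n)).obj (cokernel (aM g F))) q) := by
    intro q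
    obtain ⟨e⟩ := Groth.Agent.Helper1.AffLin.nonempty_HH_linearEquiv i A rfl
      ((Scheme.Modules.pullback i).obj (CohB1.tensorMod F (CohB1.tensorPow L n))) q
    exact ⟨e.trans (Groth.Agent.Helper1.ProjTop.HHlinEquiv A θ q)⟩
  refine ⟨fun q hq => ?_, ?_⟩
  · obtain ⟨e⟩ := key q
    haveI : Subsingleton (Coh.HH X
        ((DCoh.tensorRightMod (CohB1.tensorPow L n)).obj (cokernel (aM g F))) q) :=
      hnQ n hnQ' q hq
    exact e.toEquiv.subsingleton
  · obtain ⟨e⟩ := key 0
    obtain ⟨e'⟩ := exists_quotEquiv A (CohB1.tensorPow L n) hLn g F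
      (hnK n hnK' 1 le_rfl) (hnI n hnI' 1 le_rfl)
    -- the scalar tower on the cohomology of `X₀`
    haveI : IsScalarTower A B (Coh.HH X₀ ((Scheme.Modules.pullback i).obj
        (CohB1.tensorMod F (CohB1.tensorPow L n))) 0) := by
      apply IsScalarTower.of_algebraMap_smul
      intro a v
      show (Coh.toGlobal (X₀ ↘ Spec (CommRingCat.of B)) (algebraMap A B a)) • v =
        (Coh.toGlobal (i ≫ (X ↘ Spec (CommRingCat.of A))) a) • v
      rw [hsq.w, Groth.Agent.Helper1.FBC.toGlobal_comp_specMap]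
    -- `B ≃ A/J` linearly
    let e₀ := RingHom.quotientKerEquivOfSurjective hs
    let eB : (A ⧸ RingHom.ker (algebraMap A B)) ≃ₗ[A] B :=
      { e₀.toAddEquiv with
        map_smul' := fun a x => by
          show e₀ (a • x) = a • e₀ x
          rw [Algebra.smul_def, Algebra.smul_def, map_mul]
          congr 1 }
    let t2 : B ⊗[A] (Coh.HH X (CohB1.tensorMod F (CohB1.tensorPow L n)) 0) ≃ₗ[A]
        (A ⧸ RingHom.ker (algebraMap A B)) ⊗[A]
          (Coh.HH X (CohB1.tensorMod F (CohB1.tensorPow L n)) 0) :=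
      TensorProduct.congr eB.symm (LinearEquiv.refl A _)
    let t1 := TensorProduct.quotTensorEquivQuotSMul
      (Coh.HH X (CohB1.tensorMod F (CohB1.tensorPow L n)) 0) (RingHom.ker (algebraMap A B))
    let t3 : (Coh.HH X (CohB1.tensorMod F (CohB1.tensorPow L n)) 0 ⧸
        (RingHom.ker (algebraMap A B)) • (⊤ : Submodule A
          (Coh.HH X (CohB1.tensorMod F (CohB1.tensorPow L n)) 0))) ≃ₗ[A]
        (Coh.HH X (CohB1.tensorMod F (CohB1.tensorPow L n)) 0 ⧸
        (Ideal.span (Set.range g)) • (⊤ : Submodule A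
          (Coh.HH X (CohB1.tensorMod F (CohB1.tensorPow L n)) 0))) :=
      Submodule.quotEquivOfEq _ _ (by rw [hg'])
    let ψ : B ⊗[A] (Coh.HH X (CohB1.tensorMod F (CohB1.tensorPow L n)) 0) ≃ₗ[A]
        Coh.HH X₀ ((Scheme.Modules.pullback i).obj
          (CohB1.tensorMod F (CohB1.tensorPow L n))) 0 :=
      t2.trans (t1.trans (t3.trans (e'.trans e.symm)))
    exact ⟨ψ.extendScalarsOfSurjective hs⟩

end Main

end Groth.Agent.Helper1.HP
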