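import Mathlib
import Groth.Agent.Helper1.HP4
import Groth.Agent.Helper1.Bridge7
import Groth.Agent.Helper1.FibreDim2
import Groth.Agent.Helper9.FBCor2

/-!
# HP6: the cohomology of the fibres of large twists, at closed points and at flat points
-/

set_option autoImplicit false
set_option linter.style.haveILetI false
set_option linter.unusedSectionVars false

universe u
open CategoryTheory CategoryTheory.Limits AlgebraicGeometry Opposite TensorProduct

namespace Groth.Agent.Helper1.HP

variable (A : Type u) [CommRing A] {X : Scheme.{u}} [X.Over (Spec (CommRingCat.of A))]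
variable [IsNoetherianRing A] [IsProper (X ↘ Spec (CommRingCat.of A))]

omit [IsNoetherianRing A] [IsProper (X ↘ Spec (CommRingCat.of A))] [X.Over (Spec (CommRingCat.of A))] in
/-- the twists of a coherent module are coherent -/
theorem isCoh_twistPow {L : X.Modules} (hL : PicF.IsInvertible L) (F : X.Modules)
    (hF : Coh.IsCoh F) (n : ℕ) : Coh.IsCoh (CohB1.tensorMod F (CohB1.tensorPow L n)) := by
  have hLn : PicF.IsInvertible (CohB1.tensorPow L n) :=
    Groth.Agent.Helper4.TensorInv.isInvertible_tensorPow hL n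
  have hB := Groth.Agent.Helper1.SerreFin.isCoh_of_isInvertible _ hLn
  haveI : F.IsQuasicoherent := hF.1
  haveI : (CohB1.tensorPow L n).IsQuasicoherent := hB.1
  exact ⟨Groth.Agent.Lead.QcohTensor.isQuasicoherent_tensorMod F _,
    Groth.Agent.Lead.QcohTensor.isFT_tensorMod F _ hF.2 hB.2⟩

/-- numerics of the fibre over a point whose residue field is a quotient of `A` -/
theorem exists_closed_numerics (y : PrimeSpectrum A)
    (hs : Function.Surjective (algebraMap A y.asIdeal.ResidueField))
    {L : X.Modules} (hL : CohB1.IsAmple L) (F : X.Modules) (hF : Coh.IsCoh F) :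
    ∃ n₀ : ℕ, ∀ n : ℕ, n₀ ≤ n →
      (∀ p : ℕ, 1 ≤ p → CohIII.fiberRank (X ↘ Spec (CommRingCat.of A))
        (CohB1.tensorMod F (CohB1.tensorPow L n)) p y = 0) ∧
      CohIII.fiberRank (X ↘ Spec (CommRingCat.of A))
        (CohB1.tensorMod F (CohB1.tensorPow L n)) 0 y =
        FibreDim.fibreDim (Coh.HH X (CohB1.tensorMod F (CohB1.tensorPow L n)) 0) y := by
  letI := Bridge.fiberOver A (X := X) y
  obtain ⟨n₀, h⟩ := exists_closed_bc A y.asIdeal.ResidueField _
    (Bridge.isPullback_fiber A y) hs hL F hF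
  refine ⟨n₀, fun n hn => ?_⟩
  obtain ⟨h1, ⟨e⟩⟩ := h n hn
  constructor
  · intro p hp
    rw [Bridge.fiberRank_eq_finrank]
    haveI := h1 p hp
    exact Module.finrank_zero_of_subsingleton
  · rw [Bridge.fiberRank_eq_finrank]
    exact e.finrank_eq.symm

/-- numerics of the fibre over a point whose residue field is flat over `A` -/
theorem exists_flat_numerics (y : PrimeSpectrum A)
    (hfl : Module.Flat A y.asIdeal.ResidueField)
    {L : X.Modules} (hL : CohB1.IsAmple L) (F : X.Modules) (hF : Coh.IsCoh F) :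
    ∃ n₀ : ℕ, ∀ n : ℕ, n₀ ≤ n →
      (∀ p : ℕ, 1 ≤ p → CohIII.fiberRank (X ↘ Spec (CommRingCat.of A))
        (CohB1.tensorMod F (CohB1.tensorPow L n)) p y = 0) ∧
      CohIII.fiberRank (X ↘ Spec (CommRingCat.of A))
        (CohB1.tensorMod F (CohB1.tensorPow L n)) 0 y =
        FibreDim.fibreDim (Coh.HH X (CohB1.tensorMod F (CohB1.tensorPow L n)) 0) y := by
  letI := Bridge.fiberOver A (X := X) y
  haveI : CompactSpace X := hL.2.1
  haveI : QuasiSeparatedSpace X :=
    quasiSeparatedSpace_of_quasiSeparated (X ↘ Spec (CommRingCat.of A))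
  obtain ⟨n₀, h⟩ := Groth.Agent.Helper1.SV.serre_vanishing A (X ↘ Spec (CommRingCat.of A)) hL F hF
  refine ⟨n₀, fun n hn => ?_⟩
  have hq : Coh.IsQCoh (CohB1.tensorMod F (CohB1.tensorPow L n)) :=
    (isCoh_twistPow hL.1 F hF n).1
  haveI := hq
  have e := fun p => Groth.Agent.Helper9.FBCor2.main A y.asIdeal.ResidueField X _ _
    (Bridge.isPullback_fiber A y) (CohB1.tensorMod F (CohB1.tensorPow L n)) p
  constructor
  · intro p hp
    rw [Bridge.fiberRank_eq_finrank]
    obtain ⟨e⟩ := e p
    haveI := h n hn p hp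
    rw [← e.finrank_eq]
    exact Module.finrank_zero_of_subsingleton
  · rw [Bridge.fiberRank_eq_finrank]
    obtain ⟨e⟩ := e 0
    exact e.finrank_eq.symm

end Groth.Agent.Helper1.HP
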