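import Mathlib
import Groth.Agent.Helper1.HP5
import Groth.Agent.Helper1.HP6
import Groth.Agent.S0002

/-!
# HP7: flatness over a reduced noetherian local base from the Hilbert functions of the fibres
-/

set_option autoImplicit false
set_option linter.style.haveILetI false
set_option linter.unusedSectionVars false

universe u
open CategoryTheory CategoryTheory.Limits AlgebraicGeometry Opposite TensorProduct

namespace Groth.Agent.Helper1.HP

/-- the residue field at a minimal prime of a reduced ring is flat -/
theorem flat_residueField_of_minimal (A : Type u) [CommRing A] [IsReduced A] (q : Ideal A)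
    [q.IsPrime] (hq : q ∈ minimalPrimes A) : Module.Flat A q.ResidueField := by
  haveI : Ring.KrullDimLE 0 (Localization.AtPrime q) :=
    Ring.KrullDimLE.of_isLocalization q hq _
  haveI : IsReduced (Localization.AtPrime q) :=
    inferInstanceAs (IsReduced (Localization q.primeCompl))
  have hfield : IsField (Localization.AtPrime q) := Ring.KrullDimLE.isField_of_isReduced
  have hmax : IsLocalRing.maximalIdeal (Localization.AtPrime q) = ⊥ :=
    (IsLocalRing.isField_iff_maximalIdeal_eq).1 hfield
  have hbij : Function.Bijective (algebraMap (Localization.AtPrime q) q.ResidueField) := by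
    constructor
    · rw [injective_iff_map_eq_zero]
      intro a ha
      have : a ∈ IsLocalRing.maximalIdeal (Localization.AtPrime q) :=
        (IsLocalRing.residue_eq_zero_iff a).1 ha
      rw [hmax] at this
      exact this
    · exact IsLocalRing.residue_surjective
  let e : Localization.AtPrime q ≃ₗ[Localization.AtPrime q] q.ResidueField :=
    LinearEquiv.ofBijective (Algebra.linearMap _ _) hbij
  haveI : Module.Flat (Localization.AtPrime q) q.ResidueField := Module.Flat.of_linearEquiv e.symm
  exact Module.Flat.trans A (Localization.AtPrime q) q.ResidueField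

variable (A : Type u) [CommRing A] {X : Scheme.{u}} [X.Over (Spec (CommRingCat.of A))]

/-- when the higher cohomology of the fibre vanishes, the Euler characteristic of the fibre is
the dimension of its `H⁰` -/
theorem eulerChar_eq_of_fiberRank (G : X.Modules) (y : PrimeSpectrum A) (d : ℕ)
    (h0 : ∀ p : ℕ, 1 ≤ p → CohIII.fiberRank (X ↘ Spec (CommRingCat.of A)) G p y = 0)
    (h1 : CohIII.fiberRank (X ↘ Spec (CommRingCat.of A)) G 0 y = d) :
    PerfAux.eulerChar (X ↘ Spec (CommRingCat.of A)) G y = d := by
  unfold PerfAux.eulerChar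
  rw [finsum_eq_single _ 0]
  · rw [pow_zero, one_mul]
    exact congrArg (Nat.cast : ℕ → ℤ) h1
  · intro p hp
    have : PerfAux.betti (X ↘ Spec (CommRingCat.of A)) G y p = 0 :=
      h0 p (Nat.one_le_iff_ne_zero.2 hp)
    rw [this]
    simp

variable [IsNoetherianRing A] [IsProper (X ↘ Spec (CommRingCat.of A))]

/-- **flatness from the constancy of the Hilbert function**, over a reduced noetherian local
base -/
theorem isFlatOver_of_eulerChar_eq [IsLocalRing A] [IsReduced A]
    {L : X.Modules} (hL : CohB1.IsAmple L) (F : X.Modules) (hF : Coh.IsCoh F) (n₁ : ℕ)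
    (h : ∀ n : ℕ, n₁ ≤ n → ∀ q : PrimeSpectrum A, q.asIdeal ∈ minimalPrimes A →
      PerfAux.eulerChar (X ↘ Spec (CommRingCat.of A))
          (CohB1.tensorMod F (CohB1.tensorPow L n)) q =
        PerfAux.eulerChar (X ↘ Spec (CommRingCat.of A))
          (CohB1.tensorMod F (CohB1.tensorPow L n)) (IsLocalRing.closedPoint A)) :
    FlatMod.IsFlatOver (X ↘ Spec (CommRingCat.of A)) F := by
  classical
  -- the minimal primes
  have hmin : ∀ q : {q : PrimeSpectrum A // q.asIdeal ∈ minimalPrimes A}, ∃ n₀ : ℕ,
      ∀ n : ℕ, n₀ ≤ n →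
      (∀ p : ℕ, 1 ≤ p → CohIII.fiberRank (X ↘ Spec (CommRingCat.of A))
        (CohB1.tensorMod F (CohB1.tensorPow L n)) p q.1 = 0) ∧
      CohIII.fiberRank (X ↘ Spec (CommRingCat.of A))
        (CohB1.tensorMod F (CohB1.tensorPow L n)) 0 q.1 =
        FibreDim.fibreDim (Coh.HH X (CohB1.tensorMod F (CohB1.tensorPow L n)) 0) q.1 := by
    intro q
    exact exists_flat_numerics A q.1 (flat_residueField_of_minimal A q.1.asIdeal q.2) hL F hF
  choose N hN using hmin
  haveI : Finite {q : PrimeSpectrum A // q.asIdeal ∈ minimalPrimes A} := by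
    have hfin : (minimalPrimes A).Finite := minimalPrimes.finite_of_isNoetherianRing A
    haveI : Finite (minimalPrimes A) := hfin.to_subtype
    exact Finite.of_injective
      (fun q : {q : PrimeSpectrum A // q.asIdeal ∈ minimalPrimes A} =>
        (⟨q.1.asIdeal, q.2⟩ : minimalPrimes A))
      (fun a b hab => Subtype.ext (PrimeSpectrum.ext (congrArg Subtype.val hab)))
  obtain ⟨M, hM⟩ : ∃ M : ℕ, ∀ q, N q ≤ M := by
    obtain ⟨M, hM⟩ := (Set.finite_range N).bddAbove
    exact ⟨M, fun q => hM ⟨q, rfl⟩⟩
  -- the closed point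
  haveI : (IsLocalRing.closedPoint A).asIdeal.IsMaximal :=
    inferInstanceAs (IsLocalRing.maximalIdeal A).IsMaximal
  obtain ⟨n₂, hn₂⟩ := exists_closed_numerics A (IsLocalRing.closedPoint A)
    (Ideal.algebraMap_residueField_surjective _) hL F hF
  -- the conclusion
  haveI : F.IsQuasicoherent := hF.1
  refine isFlatOver_of_flat_HH_twist A hL F (max n₁ (max M n₂)) ?_
  intro n hn
  have hn1 : n₁ ≤ n := (le_max_left _ _).trans hn
  have hnM : M ≤ n := ((le_max_left _ _).trans (le_max_right _ _)).trans hn
  have hn2 : n₂ ≤ n := ((le_max_right _ _).trans (le_max_right _ _)).trans hn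
  haveI : Module.Finite A (Coh.HH X (CohB1.tensorMod F (CohB1.tensorPow L n)) 0) :=
    Groth.Agent.S0002.result A X _ (isCoh_twistPow hL.1 F hF n) 0
  have hfree : Module.Free A (Coh.HH X (CohB1.tensorMod F (CohB1.tensorPow L n)) 0) := by
    apply FibreDim.free_of_fibreDim_minimalPrimes
    intro q hq
    obtain ⟨ha, hb⟩ := hN ⟨q, hq⟩ n ((hM _).trans hnM)
    obtain ⟨hc, hd⟩ := hn₂ n hn2
    have e1 := eulerChar_eq_of_fiberRank A _ q _ ha hb
    have e2 := eulerChar_eq_of_fiberRank A _ (IsLocalRing.closedPoint A) _ hc hd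
    have e3 := h n hn1 q hq
    rw [e1, e2] at e3
    exact_mod_cast e3
  infer_instance

end Groth.Agent.Helper1.HP
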