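import Mathlib
import Groth.Agent.Helper1.HP7
import Groth.Agent.Helper1.NoethApx6
import Groth.Agent.Helper1.SL3
import Groth.Agent.Helper4.CohFP
import Groth.Agent.Helper4.RelCompTwist
import Groth.Agent.Helper4.AmpleRestrict

/-!
# HP8: flat ⟹ the Hilbert function of the fibres is locally constant; and the local domain case
-/

set_option autoImplicit false
set_option linter.style.haveILetI false
set_option linter.unusedSectionVars false

universe u
open CategoryTheory CategoryTheory.Limits AlgebraicGeometry Opposite TensorProduct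

namespace Groth.Agent.Helper1.HP

/-- the Euler characteristic of `Curv2` on a fibre is the one of `PerfAux` -/
theorem euler_fiber_eq {X S : Scheme.{u}} (f : X ⟶ S) (G : X.Modules) (s : S) :
    @Curv2.euler (S.residueField s) _ (f.fiber s) ⟨f.fiberToSpecResidueField s⟩
      ((Scheme.Modules.pullback (f.fiberι s)).obj G) = PerfAux.eulerChar f G s := rfl

/-- **flat ⟹ locally constant Hilbert function** -/
theorem isLocallyConstant_eulerChar_twist {X S : Scheme.{u}} [IsLocallyNoetherian S] (f : X ⟶ S)
    [IsProper f] {L : X.Modules} (hL : PicF.IsInvertible L) (F : X.Modules) (hF : Coh.IsCoh F)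
    (hfl : FlatMod.IsFlatOver f F) (n : ℕ) :
    IsLocallyConstant (fun s : S =>
      PerfAux.eulerChar f (CohB1.tensorMod F (CohB1.tensorPow L n)) s) := by
  haveI : LocallyOfFinitePresentation f := Groth.Agent.Helper1.SS.lofp_of_isLocallyNoetherian f
  haveI : IsLocallyNoetherian X := LocallyOfFiniteType.isLocallyNoetherian f
  have hcoh := isCoh_twistPow hL F hF n
  have hFP : CohB1.IsFP (CohB1.tensorMod F (CohB1.tensorPow L n)) :=
    Groth.Agent.Helper4.CohFP.isFP_of_isCoh _ hcoh.1 hcoh.2
  have hfl' : FlatMod.IsFlatOver f (CohB1.tensorMod F (CohB1.tensorPow L n)) :=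
    (Groth.Agent.Helper1.FlatTw.isFlatOver_tensor_iff f F _
      (Groth.Agent.Helper4.TensorInv.isInvertible_tensorPow hL n)).2 hfl
  exact Groth.Agent.Helper1.NoethApx.isLocallyConstant_eulerChar f _ hFP hfl'

/-- **S19860** -/
theorem flat_iff_euler_domain
    (A : Type u) [CommRing A] [IsDomain A] [IsNoetherianRing A] [IsLocalRing A]
    (X : Scheme.{u}) (f : X ⟶ Spec (CommRingCat.of A)) [IsProper f]
    (L : X.Modules) (hL : RelAmple.IsRelAmple f L) (F : X.Modules) (hF : Coh.IsCoh F) :
    FlatMod.IsFlatOver f F ↔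
      ∀ n : ℕ,
        PerfAux.eulerChar f (CohB1.tensorMod F (CohB1.tensorPow L n)) (⊥ : PrimeSpectrum A) =
        PerfAux.eulerChar f (CohB1.tensorMod F (CohB1.tensorPow L n))
          (IsLocalRing.closedPoint A) := by
  letI : X.Over (Spec (CommRingCat.of A)) := ⟨f⟩
  haveI : IsProper (X ↘ Spec (CommRingCat.of A)) := ‹IsProper f›
  have hamp : CohB1.IsAmple L :=
    (Groth.Agent.Helper4.AmpleRestrict.isRelAmple_iff_isAmple_of_isAffine f L).1 hL
  constructor
  · intro hfl n
    haveI : IsLocallyNoetherian (Spec (CommRingCat.of A)) := inferInstance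
    have hlc := isLocallyConstant_eulerChar_twist f hamp.1 F hF hfl n
    haveI : PreconnectedSpace (PrimeSpectrum A) := inferInstance
    exact hlc.apply_eq_of_preconnectedSpace _ _
  · intro h
    refine isFlatOver_of_eulerChar_eq A hamp F hF 0 ?_
    intro n _ q hq
    rw [IsDomain.minimalPrimes_eq_singleton_bot, Set.mem_singleton_iff] at hq
    have : q = (⊥ : PrimeSpectrum A) := PrimeSpectrum.ext hq
    rw [this]
    exact h n

end Groth.Agent.Helper1.HP
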