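import Mathlib

set_option autoImplicit false

open Topology TopologicalSpace Set

namespace Groth.Agent.Helper1.FinCondTop

universe u

/-- In a Noetherian space connected components are open. -/
theorem isOpen_connectedComponent_of_noetherian {Z : Type u} [TopologicalSpace Z]
    [NoetherianSpace Z] (z : Z) : IsOpen (connectedComponent z) := by
  have hfin : (irreducibleComponents Z).Finite := NoetherianSpace.finite_irreducibleComponents
  have hcompl : (connectedComponent z)ᶜ =
      ⋃₀ {T ∈ irreducibleComponents Z | ¬ T ⊆ connectedComponent z} := by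
    ext y
    simp only [mem_compl_iff, mem_sUnion, mem_setOf_eq]
    constructor
    · intro hy
      refine ⟨irreducibleComponent y, ⟨irreducibleComponent_mem_irreducibleComponents y, ?_⟩,
        mem_irreducibleComponent⟩
      intro hsub
      exact hy (hsub mem_irreducibleComponent)
    · rintro ⟨T, ⟨hT, hTsub⟩, hyT⟩ hy
      apply hTsub
      have h1 : T ⊆ connectedComponent y :=
        hT.1.isConnected.isPreconnected.subset_connectedComponent hyT
      rwa [← connectedComponent_eq hy] at h1
  rw [← isClosed_compl_iff, hcompl, sUnion_eq_biUnion]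
  apply (hfin.subset (sep_subset _ _)).isClosed_biUnion
  intro T hT
  exact isClosed_of_mem_irreducibleComponents T hT.1

variable {X : Type u} [TopologicalSpace X]

/-- every point of a locally Noetherian space has an open Noetherian neighbourhood inside any
given neighbourhood -/
theorem exists_open_noetherian_nhd
    (hX : ∀ x : X, ∃ U ∈ nhds x, NoetherianSpace U) (x : X) {U : Set X} (hU : U ∈ nhds x) :
    ∃ W : Set X, IsOpen W ∧ x ∈ W ∧ W ⊆ U ∧ NoetherianSpace W := by
  obtain ⟨N, hN, hNoeth⟩ := hX x
  refine ⟨interior (U ∩ N), isOpen_interior,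
    mem_interior_iff_mem_nhds.2 (Filter.inter_mem hU hN),
    interior_subset.trans inter_subset_left, ?_⟩
  exact NoetherianSpace.of_subset (W := N) (interior_subset.trans inter_subset_right)

/-- S2277 -/
theorem locallyConnectedSpace_of_locallyNoetherian
    (hX : ∀ x : X, ∃ U ∈ nhds x, NoetherianSpace U) : LocallyConnectedSpace X := by
  rw [locallyConnectedSpace_iff_connected_subsets]
  intro x U hU
  obtain ⟨W, hWo, hxW, hWU, hWn⟩ := exists_open_noetherian_nhd hX x hU
  let xW : W := ⟨x, hxW⟩
  have hop : IsOpen (connectedComponent xW) := isOpen_connectedComponent_of_noetherian xW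
  refine ⟨Subtype.val '' connectedComponent xW, ?_, ?_, ?_⟩
  · apply IsOpen.mem_nhds
    · exact hWo.isOpenMap_subtype_val _ hop
    · exact ⟨xW, mem_connectedComponent, rfl⟩
  · exact (isPreconnected_connectedComponent).image _ continuous_subtype_val.continuousOn
  · rintro _ ⟨y, _, rfl⟩
    exact hWU y.2

/-- (a) ⇒ (d) -/
theorem pairwiseDisjoint_of_isOpen
    (h : ∀ Z ∈ irreducibleComponents X, IsOpen Z) :
    (irreducibleComponents X).PairwiseDisjoint id := by
  intro Z hZ Z' hZ' hne
  show Disjoint Z Z'
  rw [Set.disjoint_iff_inter_eq_empty]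
  by_contra hcon
  have hne' : (Z ∩ Z').Nonempty := nonempty_iff_ne_empty.2 hcon
  have h1 : Z ⊆ closure (Z ∩ Z') :=
    subset_closure_inter_of_isPreirreducible_of_isOpen hZ.1.isPreirreducible (h Z' hZ') hne'
  have h2 : closure (Z ∩ Z') ⊆ Z' :=
    closure_minimal inter_subset_right (isClosed_of_mem_irreducibleComponents Z' hZ')
  have h3 : Z ⊆ Z' := h1.trans h2
  exact hne (Subset.antisymm h3 (hZ.2 hZ'.1 h3))

/-- under (d), irreducible components of a locally Noetherian space are open -/
theorem isOpen_of_pairwiseDisjoint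
    (hX : ∀ x : X, ∃ U ∈ nhds x, NoetherianSpace U)
    (hd : (irreducibleComponents X).PairwiseDisjoint id) :
    ∀ Z ∈ irreducibleComponents X, IsOpen Z := by
  intro Z hZ
  rw [isOpen_iff_mem_nhds]
  intro x hxZ
  obtain ⟨N, hNo, hxN, -, hNn⟩ := exists_open_noetherian_nhd hX x Filter.univ_mem
  let xN : N := ⟨x, hxN⟩
  obtain ⟨S, hSf, hSc, hSi, hSU⟩ :=
    NoetherianSpace.exists_finite_set_isClosed_irreducible (isClosed_univ (X := N))
  -- the union of the members of S not containing x
  set B : Set N := ⋃₀ {T ∈ S | xN ∉ T} with hB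
  have hBc : IsClosed B := by
    rw [hB, sUnion_eq_biUnion]
    exact (hSf.subset (sep_subset _ _)).isClosed_biUnion fun T hT => hSc T hT.1
  have hxB : xN ∉ B := by
    rintro ⟨T, ⟨_, hxT⟩, hxT'⟩
    exact hxT hxT'
  have hWo : IsOpen (Subtype.val '' Bᶜ) := hNo.isOpenMap_subtype_val _ hBc.isOpen_compl
  refine Filter.mem_of_superset (hWo.mem_nhds ⟨xN, hxB, rfl⟩) ?_
  rintro _ ⟨y, hyB, rfl⟩
  have hy : y ∈ ⋃₀ S := by rw [← hSU]; trivial
  obtain ⟨T, hT, hyT⟩ := hy
  have hxT : xN ∈ T := by
    by_contra hxT
    exact hyB ⟨T, ⟨hT, hxT⟩, hyT⟩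
  have hTi : IsIrreducible (Subtype.val '' T) :=
    (hSi T hT).image _ continuous_subtype_val.continuousOn
  obtain ⟨Z', hZ', hTZ'⟩ := exists_mem_irreducibleComponents_subset_of_isIrreducible _ hTi
  have hxZ' : x ∈ Z' := hTZ' ⟨xN, hxT, rfl⟩
  have hZZ' : Z = Z' := by
    by_contra hne
    have := hd hZ hZ' hne
    exact (Set.disjoint_iff.1 this) ⟨hxZ, hxZ'⟩
  rw [hZZ']
  exact hTZ' ⟨y, hyT, rfl⟩

/-- an open irreducible component is a connected component -/
theorem connectedComponent_eq_of_isOpen_irreducibleComponent {Z : Set X}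
    (hZ : Z ∈ irreducibleComponents X) (hZo : IsOpen Z) {x : X} (hx : x ∈ Z) :
    connectedComponent x = Z := by
  apply Subset.antisymm
  · exact IsClopen.connectedComponent_subset
      ⟨isClosed_of_mem_irreducibleComponents Z hZ, hZo⟩ hx
  · exact hZ.1.isConnected.isPreconnected.subset_connectedComponent hx

/-- S2278 -/
theorem tfae (hX : ∀ x : X, ∃ U ∈ nhds x, NoetherianSpace U) :
    List.TFAE [∀ Z ∈ irreducibleComponents X, IsOpen Z,
      irreducibleComponents X = Set.range (connectedComponent : X → Set X),
      ∀ x : X, IsIrreducible (connectedComponent x),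
      (irreducibleComponents X).PairwiseDisjoint id] := by
  tfae_have 1 → 4 := pairwiseDisjoint_of_isOpen
  tfae_have 4 → 3 := by
    intro hd x
    have hZ := irreducibleComponent_mem_irreducibleComponents x
    have hop := isOpen_of_pairwiseDisjoint hX hd _ hZ
    rw [connectedComponent_eq_of_isOpen_irreducibleComponent hZ hop mem_irreducibleComponent]
    exact hZ.1
  tfae_have 3 → 2 := by
    intro hc
    ext Z
    constructor
    · intro hZ
      obtain ⟨x, hx⟩ := hZ.1.nonempty
      refine ⟨x, ?_⟩
      have h1 : Z ⊆ connectedComponent x :=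
        hZ.1.isConnected.isPreconnected.subset_connectedComponent hx
      exact Subset.antisymm (hZ.2 (hc x) h1) h1
    · rintro ⟨x, rfl⟩
      refine ⟨hc x, fun T hT hsub => ?_⟩
      exact hT.isConnected.isPreconnected.subset_connectedComponent (hsub mem_connectedComponent)
  tfae_have 2 → 1 := by
    intro hb Z hZ
    rw [hb] at hZ
    obtain ⟨x, rfl⟩ := hZ
    haveI := locallyConnectedSpace_of_locallyNoetherian hX
    exact isOpen_connectedComponent
  tfae_finish

end Groth.Agent.Helper1.FinCondTop
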