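import Mathlib
import Groth.Agent.Helper1.HP8
import Groth.Agent.Helper1.HP9
import Groth.Agent.Helper4.PullBC
import Groth.Agent.Lead.IntNumBC
import Groth.Agent.Lead.FlatUnivJ
import Groth.Agent.Lead.ConnHartogs

/-!
# HP10: flat ⟺ locally constant Hilbert function, over a reduced locally noetherian base
-/

set_option autoImplicit false
set_option linter.style.haveILetI false
set_option linter.unusedSectionVars false

universe u
open CategoryTheory CategoryTheory.Limits AlgebraicGeometry Opposite TensorProduct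

namespace Groth.Agent.Helper1.HP

variable {X S : Scheme.{u}}

/-- pullback commutes with the twists -/
noncomputable def pullTwistIso {Y : Scheme.{u}} (v : Y ⟶ X) {L : X.Modules}
    (hL : PicF.IsInvertible L) (F : X.Modules) (n : ℕ) :
    (Scheme.Modules.pullback v).obj (CohB1.tensorMod F (CohB1.tensorPow L n)) ≅
      CohB1.tensorMod ((Scheme.Modules.pullback v).obj F)
        (CohB1.tensorPow ((Scheme.Modules.pullback v).obj L) n) :=
  Groth.Agent.Lead.IntNumBC.pullTensorIso v F (CohB1.tensorPow L n) ≪≫
    PicGrp.tensorModIso (Iso.refl _) (Groth.Agent.Helper4.PullTensor.pullPowIso v hL n)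

/-- **flatness at the points over `f x` from the constancy of the Hilbert function near `f x`** -/
theorem isFlatOverAt_of_eulerChar_eq [IsLocallyNoetherian S] [IsReduced S]
    (f : X ⟶ S) [IsProper f] (L : X.Modules) (hL : RelAmple.IsRelAmple f L) (F : X.Modules)
    (hF : Coh.IsCoh F) (x : X) (U : S.Opens) (hxU : f x ∈ U)
    (h : ∀ s' : S, s' ∈ U → ∀ n : ℕ,
      PerfAux.eulerChar f (CohB1.tensorMod F (CohB1.tensorPow L n)) s' =
        PerfAux.eulerChar f (CohB1.tensorMod F (CohB1.tensorPow L n)) (f x)) :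
    FlatMod.IsFlatOverAt f F x := by
  have hLinv : PicF.IsInvertible L :=
    Groth.Agent.Helper4.RelCompTwist.isInvertible_of_isRelAmple f L hL
  obtain ⟨j, hj⟩ : ∃ j : Spec (S.presheaf.stalk (f x)) ⟶ S, j = S.fromSpecStalk (f x) := ⟨_, rfl⟩
  haveI : Flat j := hj ▸ Groth.Agent.Lead.FlatUnivJ.flat_fromSpecStalk S (f x)
  letI : (pullback f j).Over (Spec (CommRingCat.of (S.presheaf.stalk (f x)))) :=
    ⟨pullback.snd f j⟩
  haveI : IsProper (pullback f j ↘ Spec (CommRingCat.of (S.presheaf.stalk (f x)))) :=
    inferInstanceAs (IsProper (pullback.snd f j))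
  haveI : QuasiCompact f := inferInstance
  have hamp : CohB1.IsAmple ((Scheme.Modules.pullback (pullback.fst f j)).obj L) :=
    (Groth.Agent.Helper4.AmpleRestrict.isRelAmple_iff_isAmple_of_isAffine (pullback.snd f j) _).1
      (Groth.Agent.Helper4.PullBC.isRelAmple_baseChange f j L hL)
  have hF₁ : Coh.IsCoh ((Scheme.Modules.pullback (pullback.fst f j)).obj F) :=
    Groth.Agent.Lead.FlatUnivJ.isCoh_pullback _ F hF
  have hrange : ∀ t : Spec (S.presheaf.stalk (f x)), j t ∈ U := by
    intro t
    have h1 : j t ∈ Set.range (S.fromSpecStalk (f x)) := ⟨t, by rw [hj]⟩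
    rw [Scheme.range_fromSpecStalk] at h1
    exact h1.mem_open U.2 hxU
  have hflat₁ : FlatMod.IsFlatOver (pullback.snd f j)
      ((Scheme.Modules.pullback (pullback.fst f j)).obj F) := by
    refine isFlatOver_of_eulerChar_eq (S.presheaf.stalk (f x)) hamp _ hF₁ 0 ?_
    intro n _ q _
    have key : ∀ t : Spec (S.presheaf.stalk (f x)),
        PerfAux.eulerChar (pullback.snd f j)
          (CohB1.tensorMod ((Scheme.Modules.pullback (pullback.fst f j)).obj F)
            (CohB1.tensorPow ((Scheme.Modules.pullback (pullback.fst f j)).obj L) n)) t =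
        PerfAux.eulerChar f (CohB1.tensorMod F (CohB1.tensorPow L n)) (f x) := by
      intro t
      haveI : (CohB1.tensorMod F (CohB1.tensorPow L n)).IsQuasicoherent :=
        (isCoh_twistPow hLinv F hF n).1
      rw [← Groth.Agent.Helper1.PDeg.eulerChar_congr (pullback.snd f j)
        (pullTwistIso (pullback.fst f j) hLinv F n) t,
        eulerChar_pullback_of_qcoh (IsPullback.of_hasPullback f j) _ t]
      exact h _ (hrange t) n
    exact (key q).trans (key _).symm
  obtain ⟨x₁, hx₁a, hx₁b⟩ := Scheme.Pullback.exists_preimage_pullback (f := f) (g := j) x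
    (IsLocalRing.closedPoint (S.presheaf.stalk (f x)))
    (by rw [hj, Scheme.fromSpecStalk_closedPoint])
  have hdesc := Groth.Agent.Lead.StalkPull.main_descent f (pullback.snd f j) (pullback.fst f j) j
    (IsPullback.of_hasPullback f j) F hF.1 x₁ ((Flat.iff_flat_stalkMap j).mp inferInstance _)
    (hflat₁ x₁)
  rw [hx₁a] at hdesc
  exact hdesc

/-- **S7750** -/
theorem flat_iff_eulerChar_locally_constant [IsLocallyNoetherian S] [IsReduced S]
    (f : X ⟶ S) [IsProper f] (L : X.Modules) (hL : RelAmple.IsRelAmple f L) (F : X.Modules)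
    (hF : Coh.IsCoh F) :
    FlatMod.IsFlatOver f F ↔
      ∀ s : S, ∃ U : S.Opens, s ∈ U ∧ ∀ s' : S, s' ∈ U → ∀ n : ℕ,
        PerfAux.eulerChar f (CohB1.tensorMod F (CohB1.tensorPow L n)) s' =
          PerfAux.eulerChar f (CohB1.tensorMod F (CohB1.tensorPow L n)) s := by
  have hLinv : PicF.IsInvertible L :=
    Groth.Agent.Helper4.RelCompTwist.isInvertible_of_isRelAmple f L hL
  constructor
  · intro hfl s
    haveI : LocallyConnectedSpace S := Groth.Agent.Lead.ConnHartogs.locallyConnectedSpace
    refine ⟨⟨connectedComponent s, isOpen_connectedComponent⟩, mem_connectedComponent, ?_⟩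
    intro s' hs' n
    exact (isLocallyConstant_eulerChar_twist f hLinv F hF hfl n).apply_eq_of_isPreconnected
      isPreconnected_connectedComponent hs' mem_connectedComponent
  · intro h x
    obtain ⟨U, hsU, hU⟩ := h (f x)
    exact isFlatOverAt_of_eulerChar_eq f L hL F hF x U hsU hU

end Groth.Agent.Helper1.HP
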