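import Mathlib
import Groth.Prelude.Def_CohBC2
import Groth.Agent.Lead.BCMap2
import Groth.Agent.Lead.HomDescB
import Groth.Agent.Helper4.TensorGen

/-!
# HT1: the degree zero base change morphisms of two pasted squares compose
-/

set_option autoImplicit false
set_option linter.style.haveILetI false
set_option linter.unusedSectionVars false

universe u
open CategoryTheory CategoryTheory.Limits AlgebraicGeometry Opposite TopologicalSpace
open AlgebraicGeometry.Scheme.Modules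
open Groth.Agent.Lead.BCMap Groth.Agent.Lead.HomDesc

namespace Groth.Agent.Helper1.HT

section Ext

variable {T S : Scheme.{u}} (k : T ⟶ S) {N : S.Modules} {K : T.Modules}

/-- morphisms out of a pullback are determined by their values on pulled back sections -/
theorem pullback_hom_ext (ψ₁ ψ₂ : (Scheme.Modules.pullback k).obj N ⟶ K)
    (h : ∀ (U : S.Opens) (m : Γ(N, U)),
      ψ₁.app (k ⁻¹ᵁ U) (pbSec k N U (k ⁻¹ᵁ U) le_rfl m) =
        ψ₂.app (k ⁻¹ᵁ U) (pbSec k N U (k ⁻¹ᵁ U) le_rfl m)) : ψ₁ = ψ₂ := by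
  apply ((pullbackPushforwardAdjunction k).homEquiv N K).injective
  ext U m
  have h1 := homEquiv_app k N ψ₁ U (k ⁻¹ᵁ U) le_rfl m
  have h2 := homEquiv_app k N ψ₂ U (k ⁻¹ᵁ U) le_rfl m
  have e : ∀ x : Γ(K, k ⁻¹ᵁ U), K.presheaf.map (homOfLE (le_refl (k ⁻¹ᵁ U))).op x = x := by
    intro x
    erw [CategoryTheory.Functor.map_id]
    rfl
  rw [e] at h1 h2
  exact h1.trans ((h U m).trans h2.symm)

end Ext

theorem bcMap_eq_bc0 {X S X' S' : Scheme.{u}} (f : X ⟶ S) (g : S' ⟶ S) (f' : X' ⟶ S')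
    (g' : X' ⟶ X) (w : g' ≫ f = f' ≫ g) (F : X.Modules) :
    bcMap f g g' f' w F = CohBC.bc0 f g f' g' w F := rfl

section Paste

variable {X S X' S' X'' S'' : Scheme.{u}} (f : X ⟶ S) (g : S' ⟶ S) (f' : X' ⟶ S') (g' : X' ⟶ X)
  (w : g' ≫ f = f' ≫ g) (h : S'' ⟶ S') (f'' : X'' ⟶ S'') (h' : X'' ⟶ X')
  (w' : h' ≫ f' = f'' ≫ h) (F : X.Modules)

include w w' in
theorem w_comp : (h' ≫ g') ≫ f = f'' ≫ (h ≫ g) := by
  rw [Category.assoc, w, ← Category.assoc, w', Category.assoc]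

/-- **pasting of base change morphisms** -/
theorem bc0_comp :
    CohBC.bc0 f (h ≫ g) f'' (h' ≫ g') (w_comp f g f' g' w h f'' h' w') F =
      (Scheme.Modules.pullbackComp h g).inv.app ((pushforward f).obj F) ≫
        (Scheme.Modules.pullback h).map (CohBC.bc0 f g f' g' w F) ≫
        CohBC.bc0 f' h f'' h' w' ((Scheme.Modules.pullback g').obj F) ≫
        (pushforward f'').map ((Scheme.Modules.pullbackComp h' g').hom.app F) := by
  apply pullback_hom_ext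
  intro U m
  -- left side
  have hL := bcMap_pbSec f (h ≫ g) (h' ≫ g') f'' (w_comp f g f' g' w h f'' h' w') F U
    ((h ≫ g) ⁻¹ᵁ U) le_rfl m
  rw [bcMap_eq_bc0] at hL
  rw [hL]
  -- right side
  simp only [Scheme.Modules.Hom.comp_app]
  show _ = (Hom.app ((pushforward f'').map ((Scheme.Modules.pullbackComp h' g').hom.app F))
      ((h ≫ g) ⁻¹ᵁ U))
    ((Hom.app (CohBC.bc0 f' h f'' h' w' ((Scheme.Modules.pullback g').obj F)) ((h ≫ g) ⁻¹ᵁ U))
      ((Hom.app ((Scheme.Modules.pullback h).map (CohBC.bc0 f g f' g' w F)) ((h ≫ g) ⁻¹ᵁ U))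
        ((Hom.app ((Scheme.Modules.pullbackComp h g).inv.app ((pushforward f).obj F))
          ((h ≫ g) ⁻¹ᵁ U))
          (pbSec (h ≫ g) ((pushforward f).obj F) U ((h ≫ g) ⁻¹ᵁ U) le_rfl m))))
  -- step a
  have ha : ((Scheme.Modules.pullbackComp h g).inv.app ((pushforward f).obj F)).app
      ((h ≫ g) ⁻¹ᵁ U) (pbSec (h ≫ g) ((pushforward f).obj F) U ((h ≫ g) ⁻¹ᵁ U) le_rfl m) =
      pbSec h ((Scheme.Modules.pullback g).obj ((pushforward f).obj F)) (g ⁻¹ᵁ U)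
        ((h ≫ g) ⁻¹ᵁ U) le_rfl (pbSec g ((pushforward f).obj F) U (g ⁻¹ᵁ U) le_rfl m) := by
    rw [← pbSec_comp h g ((pushforward f).obj F) (le_refl (g ⁻¹ᵁ U))
      (show (h ≫ g) ⁻¹ᵁ U ≤ h ⁻¹ᵁ (g ⁻¹ᵁ U) from le_rfl) le_rfl m]
    exact Groth.Agent.Helper4.TensorGen.iso_inv_hom_app
      ((Scheme.Modules.pullbackComp h g).app ((pushforward f).obj F)) _ _
  rw [ha]
  -- step b
  have hb := pbSec_naturality h (CohBC.bc0 f g f' g' w F) (g ⁻¹ᵁ U) ((h ≫ g) ⁻¹ᵁ U) le_rfl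
    (pbSec g ((pushforward f).obj F) U (g ⁻¹ᵁ U) le_rfl m)
  rw [← hb]
  -- step c
  have hc := bcMap_pbSec f g g' f' w F U (g ⁻¹ᵁ U) le_rfl m
  rw [bcMap_eq_bc0] at hc
  rw [hc]
  -- step d
  have hd := bcMap_pbSec f' h h' f'' w' ((Scheme.Modules.pullback g').obj F) (g ⁻¹ᵁ U)
    ((h ≫ g) ⁻¹ᵁ U) le_rfl
    (pbSec g' F (f ⁻¹ᵁ U) (f' ⁻¹ᵁ (g ⁻¹ᵁ U)) (preimage_le f g g' f' w U (g ⁻¹ᵁ U) le_rfl) m)
  rw [bcMap_eq_bc0] at hd
  rw [hd]
  -- step e
  exact (pbSec_comp h' g' F _ _ _ m).symm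

end Paste

end Groth.Agent.Helper1.HT
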