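import Groth.Agent.Helper1.SCV22

set_option autoImplicit false
set_option linter.style.haveILetI false
set_option linter.unusedSectionVars false
set_option linter.unusedVariables false

/-!
# Degree zero: surjectivity of the base change map of a fibre and base change isomorphisms
-/

namespace Groth.Agent.Helper1.SCV

open CategoryTheory Limits Opposite TopologicalSpace AlgebraicGeometry TensorProduct
  AlgebraicGeometry.Scheme.Modules
open Groth.Agent.Helper1.BaseChart Groth.Agent.Helper1.GBC Groth.Agent.Helper1.HMap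
open Groth.Agent.Lead.BCMap

universe u

variable {X S : Scheme.{u}} (f : X ⟶ S)

section fibre

variable (W : S.Opens) [IsAffine (W : Scheme.{u})]
  [QuasiCompact f] [QuasiSeparated f] (s : S) (hs : s ∈ W)
  (F : X.Modules) [Coh.IsQCoh F]
  (K : ChainComplex (ModuleCat.{u} (AV W)) ℤ)
  (hK : ∀ i, Module.Finite (AV W) (K.X i) ∧ Module.Free (AV W) (K.X i)) (q : ℤ)

set_option maxHeartbeats 1600000 in
include hK in
/-- **the degree-zero base change map of the fibre at `s` is an epimorphism iff `T^0` is right
exact at `s`** -/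
theorem bc0_fibre_epi_iff (HGC : UnivGC f W F K q 0) :
    Epi (CohBC.bc0 f (S.fromSpecResidueField s) (f.fiberToSpecResidueField s) (f.fiberι s)
      (f.fiber_fac s) F) ↔
      chartPt W s hs ∈ Module.freeLocus (AV W) (K.opcycles (q - 1)) := by
  have h : IsPullback (f.fiberι s) (f.fiberToSpecResidueField s) f (S.fromSpecResidueField s) :=
    IsPullback.of_hasPullback _ _
  letI oW := chartOver f W
  letI oV' := chartOver (f.fiberToSpecResidueField s) (topK s)
  letI aAA' := chartsAlgebra (S.fromSpecResidueField s) W (topK s) (topK_le s W hs)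
  haveI := (hK q).1
  haveI := (hK (q - 1)).1
  haveI := (hK (q - 1)).2
  have hGC := HGC (AV (topK s)) (XV (f.fiberToSpecResidueField s) (topK s))
    (gRes f (S.fromSpecResidueField s) (f.fiberToSpecResidueField s) (f.fiberι s) W (topK s)
      (topK_le s W hs) h.w)
    (isPullback_charts f (S.fromSpecResidueField s) (f.fiberToSpecResidueField s) (f.fiberι s)
      W (topK s) (topK_le s W hs) h)
  have main := bc0_app_main h F W (topK s) (topK_le s W hs) K q hGC
  haveI : QuasiCompact (f.fiberToSpecResidueField s) :=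
    MorphismProperty.of_isPullback (P := @QuasiCompact) h inferInstance
  haveI : QuasiSeparated (f.fiberToSpecResidueField s) :=
    MorphismProperty.of_isPullback (P := @QuasiSeparated) h inferInstance
  haveI : F.IsQuasicoherent := inferInstance
  haveI qG : ((Scheme.Modules.pullback (f.fiberι s)).obj F).IsQuasicoherent :=
    Groth.Agent.Lead.StalkPull.isQuasicoherent_pullbackObj (f.fiberι s) F
  haveI qN : ((pushforward (f.fiberToSpecResidueField s)).obj
      ((Scheme.Modules.pullback (f.fiberι s)).obj F)).IsQuasicoherent :=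
    Groth.Agent.Helper4.QcohGlue.isQuasicoherent_pushforward _ _
  have hepi : Epi (CohBC.bc0 f (S.fromSpecResidueField s) (f.fiberToSpecResidueField s)
      (f.fiberι s) (f.fiber_fac s) F) ↔
      Function.Surjective ((CohBC.bc0 f (S.fromSpecResidueField s)
        (f.fiberToSpecResidueField s) (f.fiberι s) (f.fiber_fac s) F).app (topK s)) :=
    epi_iff_surjective_top_specField (K := S.residueField s) _
  rw [hepi, main.1]
  constructor
  · intro hspan
    exact mem_freeLocus_opcycles_of_span_field (AV (topK s)) K q (q - 1) (next_down q)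
      (prev_down q) (chartPt W s hs) (ker_algebraMap_topK s W hs)
      (isUnit_algebraMap_topK s W hs) hspan
  · intro hx
    obtain ⟨_, ⟨a, rfl⟩, hxa, hsub⟩ :=
      PrimeSpectrum.isTopologicalBasis_basic_opens.exists_subset_of_mem_open hx
        (isOpen_freeLocus_opcycles K hK (q - 1))
    exact span_eq_top_of_equiv K q (AV (topK s))
      (exists_equiv_of_basicOpen K q (q - 1) a (next_down q) (prev_down q) hsub (AV (topK s))
        (isUnit_algebraMap_topK s W hs a hxa))

end fibre

variable {f}

/-- (P1, degree zero) -/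
theorem Master.bc0_epi_iff {W : S.Opens} [IsAffine (W : Scheme.{u})] {F : X.Modules}
    {K : ChainComplex (ModuleCat.{u} (AV W)) ℤ}
    [QuasiCompact f] [QuasiSeparated f] [Coh.IsQCoh F]
    (M : Master f W F K) (s : S) (hs : s ∈ W) :
    Epi (CohBC.bc0 f (S.fromSpecResidueField s) (f.fiberToSpecResidueField s) (f.fiberι s)
      (f.fiber_fac s) F) ↔ chartPt W s hs ∈ OLoc W K 0 := by
  have h := bc0_fibre_epi_iff f W s hs F K M.hK (-((0 : ℕ) : ℤ)) (M.gc 0)
  exact h

section bc

variable {X' S' : Scheme.{u}} {g : S' ⟶ S} {f' : X' ⟶ S'} {g' : X' ⟶ X}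
  (h : IsPullback g' f' f g)
  [QuasiCompact f] [QuasiSeparated f]
  (F : X.Modules) [Coh.IsQCoh F]

set_option maxHeartbeats 1600000 in
/-- **base change in degree zero**: over the locus where `T^0` is right exact, the base change
map in degree `0` is an isomorphism -/
theorem isIso_bc0_of_goodAt (hgood : ∀ z : S', GoodAt f F 0 (g z)) :
    IsIso (CohBC.bc0 f g f' g' h.w F) := by
  haveI : F.IsQuasicoherent := inferInstance
  haveI qN : ((pushforward f).obj F).IsQuasicoherent :=
    Groth.Agent.Helper4.QcohGlue.isQuasicoherent_pushforward f F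
  haveI : QuasiCompact f' := MorphismProperty.of_isPullback (P := @QuasiCompact) h inferInstance
  haveI : QuasiSeparated f' :=
    MorphismProperty.of_isPullback (P := @QuasiSeparated) h inferInstance
  haveI qG : ((Scheme.Modules.pullback g').obj F).IsQuasicoherent :=
    Groth.Agent.Lead.StalkPull.isQuasicoherent_pullbackObj g' F
  haveI qN' : ((pushforward f').obj ((Scheme.Modules.pullback g').obj F)).IsQuasicoherent :=
    Groth.Agent.Helper4.QcohGlue.isQuasicoherent_pushforward f' _
  haveI qS : ((Scheme.Modules.pullback g).obj ((pushforward f).obj F)).IsQuasicoherent :=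
    Groth.Agent.Lead.StalkPull.isQuasicoherent_pullbackObj g _
  apply Groth.Agent.Helper4.QcohLocal.isIso_of_app_bijective_of_affine_cover
  intro z
  obtain ⟨W, hWa, hs, K, M, hx⟩ := hgood z
  haveI := hWa
  haveI := (M.hK (-((0 : ℕ) : ℤ))).1
  haveI := (M.hK (-((0 : ℕ) : ℤ) - 1)).1
  haveI := (M.hK (-((0 : ℕ) : ℤ) - 1)).2
  obtain ⟨_, ⟨a, rfl⟩, hxa, hsub⟩ :=
    PrimeSpectrum.isTopologicalBasis_basic_opens.exists_subset_of_mem_open hx
      (isOpen_freeLocus_opcycles K M.hK (-((0 : ℕ) : ℤ) - 1))
  obtain ⟨W₁, hsW₁, hW₁W, hW₁⟩ := exists_open_of_nhds W (g z) hs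
    (PrimeSpectrum.basicOpen a : Set (PrimeSpectrum (AV W)))
    ((PrimeSpectrum.basicOpen a).isOpen.mem_nhds hxa)
  obtain ⟨V', hV', hzV', hV'W₁⟩ :=
    exists_isAffineOpen_mem_and_subset (x := z) (U := g ⁻¹ᵁ W₁) hsW₁
  haveI : IsAffine (V' : Scheme.{u}) := hV'
  have e : V' ≤ g ⁻¹ᵁ W := fun y hy => hW₁W (hV'W₁ hy)
  letI := chartsAlgebra g W V' e
  have hB : IsUnit (algebraMap (AV W) (AV V') a) := by
    by_contra hnu
    obtain ⟨M', hM', haM'⟩ := exists_max_ideal_of_mem_nonunits hnu
    obtain ⟨w, hw, hwy⟩ := exists_eq_chartPt V' (⟨M', hM'.isPrime⟩ : PrimeSpectrum (AV V'))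
    have h2 : chartPt W (g w) (e hw) ∈
        (PrimeSpectrum.basicOpen a : Set (PrimeSpectrum (AV W))) :=
      hW₁ (g w) (e hw) (hV'W₁ hw)
    rw [← chartPt_comap g W V' e w hw, hwy] at h2
    exact h2 haM'
  letI oW := chartOver f W
  letI oV' := chartOver f' V'
  have hGC := M.gc 0 (AV V') (XV f' V') (gRes f g f' g' W V' e h.w)
    (isPullback_charts f g f' g' W V' e h)
  have main := bc0_app_main h F W V' e K (-((0 : ℕ) : ℤ)) hGC
  refine ⟨V', hV', hzV', main.2 ?_⟩
  exact exists_equiv_of_basicOpen K (-((0 : ℕ) : ℤ)) (-((0 : ℕ) : ℤ) - 1) a (next_down _)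
    (prev_down _) hsub (AV V') hB

end bc

end Groth.Agent.Helper1.SCV
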