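import Groth.Agent.Helper1.Canon4
import Groth.Agent.Helper4.SN315
import Groth.Agent.Lead.ParaDesc
import Groth.Agent.Helper1.SCV23

set_option autoImplicit false
set_option linter.style.haveILetI false
set_option linter.unusedSectionVars false

/-!
# Direct images of modules pulled back from the base, and the two forms of the degree zero
base change morphism
-/

namespace Groth.Agent.Helper1.Canon

open CategoryTheory AlgebraicGeometry Opposite TopologicalSpace
  AlgebraicGeometry.Scheme.Modules
open Groth.Agent.Helper4.PullUnit Groth.Agent.Helper1.Seesaw Groth.Agent.Helper1.SCV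
  Groth.Agent.Helper1.SW Groth.Agent.Helper1.BaseChart

universe u

section mate

variable {X S X' S' : Scheme.{u}} (f : X ⟶ S) (g : S' ⟶ S) (f' : X' ⟶ S') (g' : X' ⟶ X)

/-- transposition and equal morphisms -/
lemma homEquiv_pullbackCongr {a b : X' ⟶ S} (h : a = b) (N : S.Modules) (K : X'.Modules)
    (β : (pullback a).obj N ⟶ K) :
    (pullbackPushforwardAdjunction b).homEquiv N K ((pullbackCongr h).inv.app N ≫ β) =
      (pullbackPushforwardAdjunction a).homEquiv N K β ≫ (pushforwardCongr h).hom.app K := by
  subst h
  have h0 : (pullbackCongr (rfl : a = a)).inv.app N = 𝟙 _ := rfl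
  rw [h0, Category.id_comp, Groth.Agent.Helper4.SN315.pushforwardCongr_rfl_app, Category.comp_id]

/-- **the two forms of the degree zero base change morphism agree**: the transpose under
`f'^* ⊣ f'_*` of `f'^* g^* f_* F ≅ g'^* f^* f_* F ⟶ g'^* F` is the transpose under `g^* ⊣ g_*`
of `f_* F ⟶ f_* g'_* g'^* F ≅ g_* f'_* g'^* F`. -/
theorem homEquiv_counit_form_eq_bc0 (w : g' ≫ f = f' ≫ g) (F : X.Modules) :
    (pullbackPushforwardAdjunction f').homEquiv _ _
      ((pullbackComp f' g).hom.app ((pushforward f).obj F) ≫
        (pullbackCongr w).inv.app ((pushforward f).obj F) ≫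
        (pullbackComp g' f).inv.app ((pushforward f).obj F) ≫
        (pullback g').map ((pullbackPushforwardAdjunction f).counit.app F)) =
      CohBC.bc0 f g f' g' w F := by
  set N := (pushforward f).obj F with hN
  set K := (pullback g').obj F with hK
  set β : (pullback (g' ≫ f)).obj N ⟶ K :=
    (pullbackComp g' f).inv.app N ≫ (pullback g').map ((pullbackPushforwardAdjunction f).counit.app F)
    with hβ
  set α : (pullback f').obj ((pullback g).obj N) ⟶ K :=
    (pullbackComp f' g).hom.app N ≫ (pullbackCongr w).inv.app N ≫ β with hα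
  -- step 1: composite adjunction
  have h1 : (pullbackPushforwardAdjunction g).homEquiv N _
      ((pullbackPushforwardAdjunction f').homEquiv _ K α) =
      ((pullbackPushforwardAdjunction g).comp (pullbackPushforwardAdjunction f')).homEquiv N K α := by
    rw [Adjunction.comp_homEquiv]
    rfl
  -- step 2: the conjugate of `pullbackComp f' g`
  have h2 := Groth.Agent.Helper4.SN315.homEquiv_conjugate
    ((pullbackPushforwardAdjunction g).comp (pullbackPushforwardAdjunction f'))
    (pullbackPushforwardAdjunction (f' ≫ g))
    (pullbackComp f' g).inv (c := N) (d := K) α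
  rw [conjugateEquiv_pullbackComp_inv] at h2
  have h2' : (pullbackComp f' g).inv.app N ≫ α = (pullbackCongr w).inv.app N ≫ β := by
    rw [hα, ← Category.assoc, ← NatTrans.comp_app, Iso.inv_hom_id, NatTrans.id_app,
      Category.id_comp]
  rw [h2'] at h2
  -- step 3: equal morphisms
  have h3 := homEquiv_pullbackCongr w N K β
  -- step 4: the conjugate of `pullbackComp g' f`
  have h4 := Groth.Agent.Helper4.SN315.homEquiv_conjugate
    ((pullbackPushforwardAdjunction f).comp (pullbackPushforwardAdjunction g'))
    (pullbackPushforwardAdjunction (g' ≫ f))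
    (pullbackComp g' f).inv (c := N) (d := K)
    ((pullback g').map ((pullbackPushforwardAdjunction f).counit.app F))
  rw [conjugateEquiv_pullbackComp_inv] at h4
  have h5 : ((pullbackPushforwardAdjunction f).comp (pullbackPushforwardAdjunction g')).homEquiv N K
      ((pullback g').map ((pullbackPushforwardAdjunction f).counit.app F)) =
      (pushforward f).map ((pullbackPushforwardAdjunction g').unit.app F) := by
    rw [Adjunction.comp_homEquiv]
    change ((pullbackPushforwardAdjunction f).homEquiv N _)
      (((pullbackPushforwardAdjunction g').homEquiv _ K) _) = _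
    rw [Adjunction.homEquiv_unit, Adjunction.homEquiv_unit]
    have hnat : (pullbackPushforwardAdjunction g').unit.app ((pullback f).obj N) ≫
        (pushforward g').map ((pullback g').map ((pullbackPushforwardAdjunction f).counit.app F)) =
        (pullbackPushforwardAdjunction f).counit.app F ≫
          (pullbackPushforwardAdjunction g').unit.app F :=
      ((pullbackPushforwardAdjunction g').unit.naturality
        ((pullbackPushforwardAdjunction f).counit.app F)).symm
    rw [hnat, Functor.map_comp, ← Category.assoc]
    have htri := (pullbackPushforwardAdjunction f).right_triangle_components F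
    rw [htri, Category.id_comp]
  have h6 : ((pullbackPushforwardAdjunction g).comp (pullbackPushforwardAdjunction f')).homEquiv N K α =
      (pullbackPushforwardAdjunction (f' ≫ g)).homEquiv N K ((pullbackCongr w).inv.app N ≫ β) ≫
        (pushforwardComp f' g).inv.app K := by
    rw [h2, Category.assoc, ← NatTrans.comp_app, Iso.hom_inv_id, NatTrans.id_app]
    exact (Category.comp_id _).symm
  have hfinal : (pullbackPushforwardAdjunction g).homEquiv N _
      ((pullbackPushforwardAdjunction f').homEquiv _ K α) = CohBC.bc0Adj f g f' g' w F := by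
    rw [h1, h6, h3, h4, h5]
    unfold CohBC.bc0Adj
    simp only [Category.assoc]
    rfl
  unfold CohBC.bc0
  rw [Equiv.eq_symm_apply]
  exact hfinal

end mate

section push

variable {X S : Scheme.{u}} (f : X ⟶ S)

/-- if the evaluation map of an invertible module is an isomorphism along an fpqc morphism, the
direct image is invertible -/
theorem isInvertible_pushforward_of_isIso_counit [Flat f] [Surjective f] [QuasiCompact f]
    [QuasiSeparated f] (L : X.Modules) (hL : PicF.IsInvertible L)
    (hev : IsIso ((pullbackPushforwardAdjunction f).counit.app L)) :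
    PicF.IsInvertible ((pushforward f).obj L) := by
  haveI : L.IsQuasicoherent := (Groth.Agent.Lead.Ref1K.isCoh_of_isInvertible L hL).1
  haveI : ((pushforward f).obj L).IsQuasicoherent :=
    Groth.Agent.Helper4.QcohGlue.isQuasicoherent_pushforward f L
  exact Groth.Agent.Lead.ParaDesc.isInvertible_of_pullback_invertible f _
    (Groth.Agent.Helper4.AmpleIso.isInvertible_of_iso
      (asIso ((pullbackPushforwardAdjunction f).counit.app L)).symm hL)

/-- **base change in degree zero for modules pulled back from the base**: `f` proper flat of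
finite presentation with `Γ(X_s, O) = κ(s)` for all `s`, and `L ≅ f^* N₀` with `N₀` invertible -/
theorem isIso_bc0_of_iso_pullback [IsProper f] [Flat f] [LocallyOfFinitePresentation f]
    (h : ∀ s : S, IsIso (f.fiberToSpecResidueField s).appTop)
    (L : X.Modules) (N₀ : S.Modules) (hN₀ : PicF.IsInvertible N₀) (θ : L ≅ (pullback f).obj N₀)
    {X' S' : Scheme.{u}} {g : S' ⟶ S} {f' : X' ⟶ S'} {g' : X' ⟶ X} (hsq : IsPullback g' f' f g) :
    IsIso (CohBC.bc0 f g f' g' hsq.w L) := by
  have hL : PicF.IsInvertible L :=
    Groth.Agent.Helper4.AmpleIso.isInvertible_of_iso θ.symm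
      (Groth.Agent.Helper4.PullSec.isInvertible_pullback _ hN₀)
  haveI : L.IsQuasicoherent := (Groth.Agent.Lead.Ref1K.isCoh_of_isInvertible L hL).1
  have hFP : CohB1.IsFP L :=
    Groth.Agent.Helper4.FinLocFree2.isFinitePresentation_of_isFinLocFree L
      (Groth.Agent.Lead.Ref1K.isFinLocFree_of_isInvertible L hL)
  have hfl : FlatMod.IsFlatOver f L :=
    Groth.Agent.Helper1.PicLoc.isFlatOver_of_isInvertible f L hL
  apply isIso_bc0_of_goodAt hsq L
  intro z
  obtain ⟨W, hW, hsW, -⟩ :=
    AlgebraicGeometry.exists_isAffineOpen_mem_and_subset (x := g z) (U := ⊤) trivial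
  haveI : IsAffine (W : Scheme.{u}) := hW
  obtain ⟨K, M⟩ := exists_master f W L hFP hfl
  refine ⟨W, hW, hsW, K, M, ?_⟩
  rw [← M.bc0_epi_iff (g z) hsW]
  obtain ⟨e₁⟩ := nonempty_fiberMod_pullback_iso f N₀ hN₀ (g z)
  have e₀ : CohIII.fiberMod f L (g z) ≅ Coh.structureModule (f.fiber (g z)) :=
    (pullback (f.fiberι (g z))).mapIso θ ≪≫ e₁
  have hbij' : Function.Bijective ((f.fiberToSpecResidueField (g z)).app ⊤).hom :=
    (ConcreteCategory.isIso_iff_bijective _).mp (h (g z))
  haveI : Nontrivial Γ(Spec (S.residueField (g z)), ⊤) :=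
    (Scheme.ΓSpecIso (S.residueField (g z))).commRingCatIsoToRingEquiv.toMulEquiv.isField
      (Field.toIsField (S.residueField (g z))) |>.nontrivial
  haveI : Nontrivial Γ(f.fiber (g z), ⊤) := hbij'.injective.nontrivial
  exact epi_bc0_fibre_of_ne_zero f L (g z) (h (g z)) e₀
    (bc0_ne_zero_of_iso_pullback f _ _ _ _ L N₀ θ (id_ne_zero_of_iso_unit _ e₀))

end push

end Groth.Agent.Helper1.Canon
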