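import Groth.Agent.Helper1.CurveFam3

set_option autoImplicit false
set_option linter.style.haveILetI false
set_option linter.unusedSectionVars false
set_option linter.unusedVariables false

/-!
# The condition `Γ(X_s, O) = κ(s)` is stable under base change (flat proper families)
-/

namespace Groth.Agent.Helper1.CurveFam

open CategoryTheory Opposite TopologicalSpace AlgebraicGeometry
  AlgebraicGeometry.Scheme.Modules
open Groth.Agent.Helper1.BaseChart Groth.Agent.Helper1.SCV Groth.Agent.Helper4
  Groth.Agent.Helper4.FinLocFree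

universe u

/-- an isomorphism of modules gives a linear equivalence on sections -/
noncomputable def sectionsEquivOfIso {T : Scheme.{u}} {M N : T.Modules} (φ : M ≅ N)
    (U : T.Opens) : Γ(M, U) ≃ₗ[Γ(T, U)] Γ(N, U) :=
  LinearEquiv.ofBijective (QcohEpi.appLin φ.hom U) (by
    refine Function.bijective_iff_has_inverse.2 ⟨QcohEpi.appLin φ.inv U, fun m => ?_, fun m => ?_⟩
    · show (φ.hom ≫ φ.inv).app U m = m
      rw [Iso.hom_inv_id]
      rfl
    · show (φ.inv ≫ φ.hom).app U m = m
      rw [Iso.inv_hom_id]
      rfl)

variable {X S : Scheme.{u}} (f : X ⟶ S) [Flat f] [IsProper f] [LocallyOfFinitePresentation f]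

/-- for a pullback square over the spectrum of a field (or any base), the structure sheaf of the
base is isomorphic to the direct image of the structure sheaf -/
theorem nonempty_unit_iso_push (h : ∀ s : S, IsIso (f.fiberToSpecResidueField s).appTop)
    {X' T : Scheme.{u}} {t : T ⟶ S} {p : X' ⟶ T} {q : X' ⟶ X} (hsq : IsPullback q p f t) :
    Nonempty (Coh.structureModule T ≅ (pushforward p).obj (Coh.structureModule X')) := by
  haveI := isIso_bc0_unit f h hsq
  haveI := isIso_unitToPush f h
  exact ⟨(PullUnit.pullbackUnitIso t).symm ≪≫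
    (Scheme.Modules.pullback t).mapIso (asIso (ClSub.unitToPush f)) ≪≫
    asIso (CohBC.bc0 f t p q hsq.w (Coh.structureModule X)) ≪≫
    (pushforward p).mapIso (PullUnit.pullbackUnitIso q)⟩

/-- **stability under base change** -/
theorem isIso_appTop_of_isPullback (h : ∀ s : S, IsIso (f.fiberToSpecResidueField s).appTop)
    {X' T : Scheme.{u}} {t : T ⟶ S} {p : X' ⟶ T} {q : X' ⟶ X} (hsq : IsPullback q p f t) :
    IsIso p.appTop := by
  obtain ⟨φ⟩ := nonempty_unit_iso_push f h hsq
  letI := (p.app ⊤).hom.toAlgebra
  let E : Γ(T, ⊤) ≃ₗ[Γ(T, ⊤)] Γ(X', p ⁻¹ᵁ ⊤) :=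
    sectionsEquivOfIso φ ⊤ ≪≫ₗ FinLocFree6.pushUnitEquiv p ⊤
  have hb : Function.Bijective (p.app ⊤).hom := bijective_algebraMap_of_linearEquiv E
  exact (ConcreteCategory.isIso_iff_bijective _).mpr hb

/-- the fibres of a base change of `f` have only constant functions -/
theorem isIso_appTop_fiber_baseChange (h : ∀ s : S, IsIso (f.fiberToSpecResidueField s).appTop)
    {S' : Scheme.{u}} (g : S' ⟶ S) (s' : S') :
    IsIso ((Limits.pullback.snd f g).fiberToSpecResidueField s').appTop := by
  have h1 : IsPullback ((Limits.pullback.snd f g).fiberι s')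
      ((Limits.pullback.snd f g).fiberToSpecResidueField s') (Limits.pullback.snd f g)
      (S'.fromSpecResidueField s') := IsPullback.of_hasPullback _ _
  have h2 : IsPullback (Limits.pullback.fst f g) (Limits.pullback.snd f g) f g :=
    IsPullback.of_hasPullback _ _
  exact isIso_appTop_of_isPullback f h (h1.paste_horiz h2)

/-- **`O_{S'} ⟶ f'_* O_{X'}` is an isomorphism for every base change** -/
theorem isIso_unitToPush_baseChange (h : ∀ s : S, IsIso (f.fiberToSpecResidueField s).appTop)
    {S' : Scheme.{u}} (g : S' ⟶ S) : IsIso (ClSub.unitToPush (Limits.pullback.snd f g)) :=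
  isIso_unitToPush (Limits.pullback.snd f g) (isIso_appTop_fiber_baseChange f h g)

end Groth.Agent.Helper1.CurveFam
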