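import Groth.Agent.Helper1.UGC16
import Groth.Agent.Helper1.CurveFam4
import Groth.Agent.Helper1.Canon5

set_option autoImplicit false
set_option linter.style.haveILetI false
set_option linter.unusedSectionVars false
set_option linter.unusedVariables false

/-!
# Additivity of the degree-zero base change map
-/

namespace Groth.Agent.Helper1.SS

open CategoryTheory AlgebraicGeometry AlgebraicGeometry.Scheme.Modules

universe u

/-- a natural transformation between functors preserving a coproduct is an isomorphism on the
coproduct as soon as it is one on all the summands -/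
theorem isIso_app_sigma {C D : Type*} [Category C] [Category D] {F G : C ⥤ D} (τ : F ⟶ G)
    {J : Type*} (A : J → C) [Limits.HasCoproduct A]
    [Limits.HasCoproduct (fun j => F.obj (A j))] [Limits.HasCoproduct (fun j => G.obj (A j))]
    [Limits.PreservesColimit (Discrete.functor A) F]
    [Limits.PreservesColimit (Discrete.functor A) G]
    (h : ∀ j, IsIso (τ.app (A j))) : IsIso (τ.app (∐ A)) := by
  have key : τ.app (∐ A) = (Limits.PreservesCoproduct.iso F A).hom ≫
      Limits.Sigma.map (fun j => τ.app (A j)) ≫ (Limits.PreservesCoproduct.iso G A).inv := by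
    rw [← Iso.inv_comp_eq]
    apply Limits.Sigma.hom_ext
    intro j
    rw [Limits.PreservesCoproduct.inv_hom, Limits.PreservesCoproduct.inv_hom,
      Limits.ι_comp_sigmaComparison_assoc, Limits.Sigma.ι_map_assoc,
      Limits.ι_comp_sigmaComparison]
    exact τ.naturality _
  haveI : ∀ j, IsIso (τ.app (A j)) := h
  haveI : IsIso (Limits.Sigma.map fun j => τ.app (A j)) := by
    refine ⟨Limits.Sigma.map (fun j => inv (τ.app (A j))), ?_, ?_⟩
    · apply Limits.Sigma.hom_ext
      intro j
      simp
    · apply Limits.Sigma.hom_ext
      intro j
      simp
  rw [key]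
  infer_instance

variable {X S X' S' : Scheme.{u}} (f : X ⟶ S) (g : S' ⟶ S) (f' : X' ⟶ S') (g' : X' ⟶ X)
  (w : g' ≫ f = f' ≫ g)

/-- the adjoint form of the base change map is natural -/
theorem bc0Adj_naturality {F G : X.Modules} (φ : F ⟶ G) :
    (pushforward f).map φ ≫ CohBC.bc0Adj f g f' g' w G =
      CohBC.bc0Adj f g f' g' w F ≫
        (pushforward g).map ((pushforward f').map ((pullback g').map φ)) := by
  unfold CohBC.bc0Adj
  have h1 : (pushforward f).map φ ≫
      (pushforward f).map ((pullbackPushforwardAdjunction g').unit.app G) =
      (pushforward f).map ((pullbackPushforwardAdjunction g').unit.app F) ≫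
        (pushforward f).map ((pushforward g').map ((pullback g').map φ)) := by
    rw [← Functor.map_comp, ← Functor.map_comp]
    congr 1
    exact (pullbackPushforwardAdjunction g').unit.naturality φ
  have h2 := (pushforwardComp g' f).hom.naturality ((pullback g').map φ)
  have h3 := (pushforwardCongr w).hom.naturality ((pullback g').map φ)
  have h4 := (pushforwardComp f' g).inv.naturality ((pullback g').map φ)
  simp only [Functor.comp_map] at h2 h4
  rw [reassoc_of% h1, reassoc_of% h2, reassoc_of% h3, h4]
  simp only [Category.assoc]

/-- the degree zero base change map is natural -/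
theorem bc0_naturality {F G : X.Modules} (φ : F ⟶ G) :
    (pullback g).map ((pushforward f).map φ) ≫ CohBC.bc0 f g f' g' w G =
      CohBC.bc0 f g f' g' w F ≫ (pushforward f').map ((pullback g').map φ) := by
  unfold CohBC.bc0
  rw [← Adjunction.homEquiv_naturality_left_symm, ← Adjunction.homEquiv_naturality_right_symm,
    bc0Adj_naturality]

/-- the degree zero base change map as a natural transformation -/
noncomputable def bc0Nat : pushforward f ⋙ pullback g ⟶ pullback g' ⋙ pushforward f' where
  app F := CohBC.bc0 f g f' g' w F
  naturality _ _ φ := bc0_naturality f g f' g' w φ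

/-- the base change map of a module isomorphic to one with invertible base change map -/
theorem isIso_bc0_of_iso {F G : X.Modules} (e : F ≅ G)
    [h : IsIso (CohBC.bc0 f g f' g' w F)] : IsIso (CohBC.bc0 f g f' g' w G) := by
  have h1 := bc0_naturality f g f' g' w e.hom
  have h2 : CohBC.bc0 f g f' g' w G = (pullback g).map ((pushforward f).map e.inv) ≫
      CohBC.bc0 f g f' g' w F ≫ (pushforward f').map ((pullback g').map e.hom) := by
    rw [← h1, ← Category.assoc, ← Functor.map_comp, ← Functor.map_comp, Iso.inv_hom_id,
      CategoryTheory.Functor.map_id, CategoryTheory.Functor.map_id, Category.id_comp]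
  rw [h2]
  infer_instance

/-- **additivity**: the base change map of a free module of finite rank is an isomorphism as soon
as that of the structure sheaf is -/
theorem isIso_bc0_freeMod (n : ℕ)
    [h : IsIso (CohBC.bc0 f g f' g' w (Coh.structureModule X))] :
    IsIso (CohBC.bc0 f g f' g' w (FlatMod.freeMod X n)) := by
  have := isIso_app_sigma (bc0Nat f g f' g' w) (fun _ : Fin n => Coh.structureModule X)
    (fun _ => h)
  exact this

end Groth.Agent.Helper1.SS
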