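import Mathlib
import Groth.Agent.Helper1.HT1
import Groth.Agent.Lead.BCMap11
import Groth.Agent.Helper1.SS1

/-!
# HT2: "the formation of `f_* F` commutes with the base change `g`": calculus
-/

set_option autoImplicit false
set_option linter.style.haveILetI false
set_option linter.unusedSectionVars false

universe u
open CategoryTheory CategoryTheory.Limits AlgebraicGeometry Opposite TopologicalSpace
open AlgebraicGeometry.Scheme.Modules

namespace Groth.Agent.Helper1.HT

variable {X S : Scheme.{u}} (f : X ⟶ S)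

/-- the degree zero base change morphism of every cartesian square over `g` is an isomorphism -/
def BCIso (F : X.Modules) {T : Scheme.{u}} (g : T ⟶ S) : Prop :=
  ∀ ⦃X' : Scheme.{u}⦄ (f' : X' ⟶ T) (g' : X' ⟶ X) (h : IsPullback g' f' f g),
    IsIso (CohBC.bc0 f g f' g' h.w F)

/-- congruence in the morphisms of the square -/
theorem isIso_bc0_congr {X' T : Scheme.{u}} {g₁ g₂ : T ⟶ S} (hg : g₁ = g₂) (f' : X' ⟶ T)
    {g'₁ g'₂ : X' ⟶ X} (hg' : g'₁ = g'₂) (w₁ : g'₁ ≫ f = f' ≫ g₁) (w₂ : g'₂ ≫ f = f' ≫ g₂)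
    (F : X.Modules) (h : IsIso (CohBC.bc0 f g₁ f' g'₁ w₁ F)) :
    IsIso (CohBC.bc0 f g₂ f' g'₂ w₂ F) := by
  subst hg hg'
  exact h

theorem BCIso.congr {F : X.Modules} {T : Scheme.{u}} {g₁ g₂ : T ⟶ S} (hg : g₁ = g₂)
    (h : BCIso f F g₁) : BCIso f F g₂ := by
  subst hg
  exact h

/-- flat base change -/
theorem bcIso_of_flat [QuasiCompact f] [QuasiSeparated f] (F : X.Modules) [F.IsQuasicoherent]
    {T : Scheme.{u}} (g : T ⟶ S) [Flat g] : BCIso f F g := by
  intro X' f' g' h
  have := Groth.Agent.Lead.BCMap.isIso_bcMap_of_flat f g g' f' h F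
  rwa [bcMap_eq_bc0] at this

/-- isomorphic modules -/
theorem BCIso.of_iso {F G : X.Modules} (e : F ≅ G) {T : Scheme.{u}} {g : T ⟶ S}
    (h : BCIso f F g) : BCIso f G g := by
  intro X' f' g' hsq
  haveI := h f' g' hsq
  exact Groth.Agent.Helper1.SS.isIso_bc0_of_iso f g f' g' hsq.w e

/-- **composition of base changes** -/
theorem BCIso.comp {F : X.Modules} {T T' : Scheme.{u}} {g : T ⟶ S} {h : T' ⟶ T}
    (hg : BCIso f F g)
    (hh : BCIso (pullback.snd f g) ((Scheme.Modules.pullback (pullback.fst f g)).obj F) h) :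
    BCIso f F (h ≫ g) := by
  intro X'' f'' k' hsq
  have hsq1 : IsPullback (pullback.fst f g) (pullback.snd f g) f g := IsPullback.of_hasPullback f g
  let h' : X'' ⟶ pullback f g := pullback.lift k' (f'' ≫ h) (by rw [hsq.w, Category.assoc])
  have e1 : h' ≫ pullback.fst f g = k' := pullback.lift_fst _ _ _
  have e2 : h' ≫ pullback.snd f g = f'' ≫ h := pullback.lift_snd _ _ _
  have hbig : IsPullback (h' ≫ pullback.fst f g) f'' f (h ≫ g) := by
    rw [e1]; exact hsq
  have hsq2 : IsPullback h' f'' (pullback.snd f g) h := IsPullback.of_right hbig e2 hsq1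
  haveI := hg _ _ hsq1
  haveI := hh _ _ hsq2
  have key := bc0_comp f g (pullback.snd f g) (pullback.fst f g) hsq1.w h f'' h' hsq2.w F
  have hiso : IsIso (CohBC.bc0 f (h ≫ g) f'' (h' ≫ pullback.fst f g)
      (w_comp f g (pullback.snd f g) (pullback.fst f g) hsq1.w h f'' h' hsq2.w) F) := by
    rw [key]
    infer_instance
  exact isIso_bc0_congr f rfl f'' e1 _ _ F hiso

section Cancel

variable {X' S' X'' S'' : Scheme.{u}} (g : S' ⟶ S) (f' : X' ⟶ S') (g' : X' ⟶ X)
  (w : g' ≫ f = f' ≫ g) (h : S'' ⟶ S') (f'' : X'' ⟶ S'') (h' : X'' ⟶ X')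
  (w' : h' ≫ f' = f'' ≫ h) (F : X.Modules)

/-- cancellation: the pullback of the base change morphism of the first square is an isomorphism
if those of the composite square and of the second square are -/
theorem isIso_pullback_map_bc0
    (h1 : IsIso (CohBC.bc0 f (h ≫ g) f'' (h' ≫ g') (w_comp f g f' g' w h f'' h' w') F))
    (h2 : IsIso (CohBC.bc0 f' h f'' h' w' ((Scheme.Modules.pullback g').obj F))) :
    IsIso ((Scheme.Modules.pullback h).map (CohBC.bc0 f g f' g' w F)) := by
  have key := bc0_comp f g f' g' w h f'' h' w' F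
  have e : (Scheme.Modules.pullback h).map (CohBC.bc0 f g f' g' w F) =
      (Scheme.Modules.pullbackComp h g).hom.app ((pushforward f).obj F) ≫
        CohBC.bc0 f (h ≫ g) f'' (h' ≫ g') (w_comp f g f' g' w h f'' h' w') F ≫
        (pushforward f'').map ((Scheme.Modules.pullbackComp h' g').inv.app F) ≫
        inv (CohBC.bc0 f' h f'' h' w' ((Scheme.Modules.pullback g').obj F)) := by
    rw [key]
    simp only [Category.assoc]
    rw [← Functor.map_comp_assoc, ← NatTrans.comp_app, Iso.hom_inv_id, NatTrans.id_app]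
    erw [CategoryTheory.Functor.map_id]
    rw [Category.id_comp, IsIso.hom_inv_id, Category.comp_id,
      ← Category.assoc, ← NatTrans.comp_app, Iso.hom_inv_id, NatTrans.id_app, Category.id_comp]
  rw [e]
  infer_instance

end Cancel

end Groth.Agent.Helper1.HT
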