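import Mathlib
import Groth.Agent.Helper1.HP3
import Groth.Agent.Helper1.HP4
import Groth.Agent.Helper4.TensorGen

/-!
# HT3: the unit `G ⟶ i_* i^* G` on global sections, for large twists, `i` the base change of a
closed immersion of affine schemes: surjective with kernel `J Γ(X, G)`
-/

set_option autoImplicit false
set_option linter.style.haveILetI false
set_option linter.unusedSectionVars false
set_option maxHeartbeats 400000

universe u
open CategoryTheory CategoryTheory.Limits AlgebraicGeometry Opposite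
open Groth.Agent.Helper1.Form Groth.Agent.Helper1.GrSh Groth.Agent.Helper1.HHLes
  Groth.Agent.Helper1.HP

namespace Groth.Agent.Helper1.HT

section Bridge

variable (A : Type u) [CommRing A] {X : Scheme.{u}} [X.Over (Spec (CommRingCat.of A))]

/-- `H⁰` is the global sections -/
noncomputable def γ (M : X.Modules) : Coh.HH X M 0 ≃+ Γ(M, ⊤) :=
  Sheaf.H.equiv₀ (Coh.toAb M) (isTerminalTop (α := X.Opens))

theorem γ_symm_HHlin {M N : X.Modules} (φ : M ⟶ N) (t : Γ(M, ⊤)) :
    Canon.HHlin A φ 0 ((γ M).symm t) = (γ N).symm (φ.app ⊤ t) :=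
  Sheaf.H.equiv₀_symm_naturality (isTerminalTop (α := X.Opens))
    ((SheafOfModules.toSheaf X.ringCatSheaf).map φ) t

theorem γ_HHlin {M N : X.Modules} (φ : M ⟶ N) (y : Coh.HH X M 0) :
    γ N (Canon.HHlin A φ 0 y) = φ.app ⊤ (γ M y) := by
  have h := γ_symm_HHlin A φ (γ M y)
  rw [AddEquiv.symm_apply_apply] at h
  rw [h, AddEquiv.apply_symm_apply]

theorem γ_symm_smul (M : X.Modules) (a : A) (t : Γ(M, ⊤)) :
    a • (γ M).symm t =
      (γ M).symm (Groth.Agent.Helper1.QuotPush.ρ (A := A) (⊤ : X.Opens) a • t) :=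
  Sheaf.H.equiv₀_symm_naturality (isTerminalTop (α := X.Opens))
    (Coh.smulAb M (Coh.toGlobal (X ↘ Spec (CommRingCat.of A)) a)) t

theorem γ_smul (M : X.Modules) (a : A) (y : Coh.HH X M 0) :
    γ M (a • y) = Groth.Agent.Helper1.QuotPush.ρ (A := A) (⊤ : X.Opens) a • γ M y := by
  have h := γ_symm_smul A M a (γ M y)
  rw [AddEquiv.symm_apply_apply] at h
  rw [h, AddEquiv.apply_symm_apply]

/-- transfer of "surjective with kernel `J H⁰`" from `H⁰` to global sections -/
theorem transfer {M N : X.Modules} (φ : M ⟶ N) (J : Ideal A)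
    (hs : Function.Surjective (Canon.HHlin A φ 0))
    (hk : LinearMap.ker (Canon.HHlin A φ 0) = J • (⊤ : Submodule A (Coh.HH X M 0))) :
    Function.Surjective (φ.app ⊤) ∧
      ∀ t : Γ(M, ⊤), φ.app ⊤ t = 0 →
        t ∈ (J.map (Groth.Agent.Helper1.QuotPush.ρ (A := A) (⊤ : X.Opens))) •
          (⊤ : Submodule Γ(X, ⊤) Γ(M, ⊤)) := by
  constructor
  · intro z
    obtain ⟨y, hy⟩ := hs ((γ N).symm z)
    refine ⟨γ M y, ?_⟩
    rw [← γ_HHlin A, hy, AddEquiv.apply_symm_apply]
  · intro t ht
    have h0 : (γ M).symm t ∈ LinearMap.ker (Canon.HHlin A φ 0) := by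
      refine LinearMap.mem_ker.mpr ?_
      rw [γ_symm_HHlin A, ht, map_zero]
    rw [hk] at h0
    have key : ∀ y : Coh.HH X M 0, y ∈ J • (⊤ : Submodule A (Coh.HH X M 0)) →
        γ M y ∈ (J.map (Groth.Agent.Helper1.QuotPush.ρ (A := A) (⊤ : X.Opens))) •
          (⊤ : Submodule Γ(X, ⊤) Γ(M, ⊤)) := by
      intro y hy
      refine Submodule.smul_induction_on hy ?_ ?_
      · intro a ha x _
        rw [γ_smul A]
        exact Submodule.smul_mem_smul (Ideal.mem_map_of_mem _ ha) Submodule.mem_top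
      · intro x y hx hy
        rw [map_add]
        exact Submodule.add_mem _ hx hy
    have := key _ h0
    rwa [AddEquiv.apply_symm_apply] at this

end Bridge

section Quot

variable (A : Type u) [CommRing A] {X : Scheme.{u}} [X.Over (Spec (CommRingCat.of A))]
variable (B : X.Modules) (hB : PicF.IsInvertible B) {r : ℕ} (g : Fin r → A) (F : X.Modules)

include hB in
/-- the natural form of `HP.exists_quotEquiv` -/
theorem HHlin_quot
    (h1 : Subsingleton (Coh.HH X
      ((DCoh.tensorRightMod B).obj (kernel (Abelian.factorThruImage (aM g F)))) 1))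
    (h2 : Subsingleton (Coh.HH X ((DCoh.tensorRightMod B).obj (Abelian.image (aM g F))) 1)) :
    Function.Surjective (Canon.HHlin A ((DCoh.tensorRightMod B).map (cokernel.π (aM g F))) 0) ∧
      LinearMap.ker (Canon.HHlin A ((DCoh.tensorRightMod B).map (cokernel.π (aM g F))) 0) =
        (Ideal.span (Set.range g)) •
          (⊤ : Submodule A (Coh.HH X ((DCoh.tensorRightMod B).obj F) 0)) := by
  have hS₂ := Groth.Agent.Helper1.TwistExact.shortExact_map_tensorRightMod
      (S := kerSC (cokernel.π (aM g F))) (kerSC_shortExact (cokernel.π (aM g F))) B hB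
  have hS₁ := Groth.Agent.Helper1.TwistExact.shortExact_map_tensorRightMod
      (S := kerSC (Abelian.factorThruImage (aM g F)))
      (kerSC_shortExact (Abelian.factorThruImage (aM g F))) B hB
  have surj₂ : Function.Surjective
      (Canon.HHlin A ((DCoh.tensorRightMod B).map (cokernel.π (aM g F))) 0) :=
    surjective_HHlin_zero A ((kerSC (cokernel.π (aM g F))).map (DCoh.tensorRightMod B)) hS₂ h2
  have surj₁ : Function.Surjective
      (Canon.HHlin A ((DCoh.tensorRightMod B).map (Abelian.factorThruImage (aM g F))) 0) :=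
    surjective_HHlin_zero A
      ((kerSC (Abelian.factorThruImage (aM g F))).map (DCoh.tensorRightMod B)) hS₁ h1
  have ker₂ : LinearMap.ker
      (Canon.HHlin A ((DCoh.tensorRightMod B).map (cokernel.π (aM g F))) 0) =
      LinearMap.range
        (Canon.HHlin A ((DCoh.tensorRightMod B).map (Abelian.image.ι (aM g F))) 0) :=
    ker_HHlin_zero A ((kerSC (cokernel.π (aM g F))).map (DCoh.tensorRightMod B)) hS₂
  have hrange : LinearMap.range
      (Canon.HHlin A ((DCoh.tensorRightMod B).map (Abelian.image.ι (aM g F))) 0) =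
      LinearMap.range (Canon.HHlin A ((DCoh.tensorRightMod B).map (aM g F)) 0) := by
    apply le_antisymm
    · rintro _ ⟨y, rfl⟩
      obtain ⟨z, rfl⟩ := surj₁ y
      refine ⟨z, ?_⟩
      rw [← HHlin_comp, ← Functor.map_comp, Abelian.image.fac]
    · rintro _ ⟨z, rfl⟩
      refine ⟨Canon.HHlin A
        ((DCoh.tensorRightMod B).map (Abelian.factorThruImage (aM g F))) 0 z, ?_⟩
      rw [← HHlin_comp, ← Functor.map_comp, Abelian.image.fac]
  refine ⟨surj₂, ?_⟩
  rw [ker₂, hrange]
  exact range_HHlin_map_aM (DCoh.tensorRightMod B) g F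

end Quot

section Main

variable (A : Type u) [CommRing A] {X : Scheme.{u}} [X.Over (Spec (CommRingCat.of A))]
variable (B : Type u) [CommRing B] [Algebra A B]
variable [IsNoetherianRing A] [IsProper (X ↘ Spec (CommRingCat.of A))]

/-- **the unit on global sections of large twists is the quotient modulo `J`** -/
theorem exists_unit_top (hs : Function.Surjective (algebraMap A B))
    {L : X.Modules} (hL : CohB1.IsAmple L) (F : X.Modules) (hF : Coh.IsCoh F) :
    ∃ n₀ : ℕ, ∀ n : ℕ, n₀ ≤ n → ∀ {X₀ : Scheme.{u}} [X₀.Over (Spec (CommRingCat.of B))]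
      (i : X₀ ⟶ X) (_ : IsPullback i (X₀ ↘ Spec (CommRingCat.of B))
        (X ↘ Spec (CommRingCat.of A)) (Spec.map (CommRingCat.ofHom (algebraMap A B)))),
      Function.Surjective ((Groth.Agent.Helper1.PicLoc.unitN i
        (CohB1.tensorMod F (CohB1.tensorPow L n))).app ⊤) ∧
      ∀ t : Γ(CohB1.tensorMod F (CohB1.tensorPow L n), ⊤),
        (Groth.Agent.Helper1.PicLoc.unitN i (CohB1.tensorMod F (CohB1.tensorPow L n))).app ⊤ t = 0 →
        t ∈ ((RingHom.ker (algebraMap A B)).map
            (Groth.Agent.Helper1.QuotPush.ρ (A := A) (⊤ : X.Opens))) •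
          (⊤ : Submodule Γ(X, ⊤) Γ(CohB1.tensorMod F (CohB1.tensorPow L n), ⊤)) := by
  classical
  obtain ⟨r, g, hg⟩ := Submodule.fg_iff_exists_fin_generating_family.1
    (IsNoetherian.noetherian (RingHom.ker (algebraMap A B)))
  have hg' : Ideal.span (Set.range g) = RingHom.ker (algebraMap A B) := hg
  haveI : IsLocallyNoetherian X :=
    LocallyOfFiniteType.isLocallyNoetherian (X ↘ Spec (CommRingCat.of A))
  have hsig : Coh.IsCoh (∐ fun _ : Fin r => F) :=
    Groth.Agent.Helper1.SerreFin.isCoh_sigma_fin _ (fun _ => hF)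
  have hQ : Coh.IsCoh (cokernel (aM g F)) := Groth.Agent.Lead.PerfLib.isCoh_cokernel hsig hF _
  have hI : Coh.IsCoh (Abelian.image (aM g F)) := Groth.Agent.Lead.PerfLib.isCoh_kernel hF hQ _
  have hK : Coh.IsCoh (kernel (Abelian.factorThruImage (aM g F))) :=
    Groth.Agent.Lead.PerfLib.isCoh_kernel hsig hI _
  obtain ⟨nI, hnI⟩ := Groth.Agent.Helper1.SV.serre_vanishing A (X ↘ Spec (CommRingCat.of A)) hL _ hI
  obtain ⟨nK, hnK⟩ := Groth.Agent.Helper1.SV.serre_vanishing A (X ↘ Spec (CommRingCat.of A)) hL _ hK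
  refine ⟨max nI nK, fun n hn X₀ _ i hsq => ?_⟩
  have hnI' : nI ≤ n := le_trans (le_max_left _ _) hn
  have hnK' : nK ≤ n := le_trans (le_max_right _ _) hn
  have hLn : PicF.IsInvertible (CohB1.tensorPow L n) :=
    Groth.Agent.Helper4.TensorInv.isInvertible_tensorPow hL.1 n
  have hcohN : Coh.IsCoh (CohB1.tensorMod F (CohB1.tensorPow L n)) := by
    have hB := Groth.Agent.Helper1.SerreFin.isCoh_of_isInvertible _ hLn
    haveI : F.IsQuasicoherent := hF.1
    haveI : (CohB1.tensorPow L n).IsQuasicoherent := hB.1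
    exact ⟨Groth.Agent.Lead.QcohTensor.isQuasicoherent_tensorMod F _,
      Groth.Agent.Lead.QcohTensor.isFT_tensorMod F _ hF.2 hB.2⟩
  haveI : (CohB1.tensorMod F (CohB1.tensorPow L n)).IsQuasicoherent := hcohN.1
  have hq1 : IsQuot (RingHom.ker (algebraMap A B))
      (Groth.Agent.Helper1.PicLoc.unitN i (CohB1.tensorMod F (CohB1.tensorPow L n))) :=
    Groth.Agent.Helper1.PicLoc.isQuot_unitN _ (isPullback_quot A B i hsq hs) _
  haveI := Groth.Agent.Helper1.TwistExact.preservesFiniteColimits_tensorRightMod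
    (CohB1.tensorPow L n) hLn
  have hq2 : IsQuot (RingHom.ker (algebraMap A B))
      ((DCoh.tensorRightMod (CohB1.tensorPow L n)).map (cokernel.π (aM g F))) := by
    rw [← hg']
    exact isQuot_map_cokernelπ (DCoh.tensorRightMod (CohB1.tensorPow L n)) g F
  -- the unit is the twisted quotient map followed by an isomorphism
  have hfac : (DCoh.tensorRightMod (CohB1.tensorPow L n)).map (cokernel.π (aM g F)) ≫
      (hq2.iso hq1).hom =
      Groth.Agent.Helper1.PicLoc.unitN i (CohB1.tensorMod F (CohB1.tensorPow L n)) :=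
    hq2.fac_iso_hom hq1
  obtain ⟨hsurj, hker⟩ := HHlin_quot A (CohB1.tensorPow L n) hLn g F
    (hnK n hnK' 1 le_rfl) (hnI n hnI' 1 le_rfl)
  -- transfer to sections
  rw [hg'] at hker
  obtain ⟨hsurj', hker'⟩ := transfer A
    ((DCoh.tensorRightMod (CohB1.tensorPow L n)).map (cokernel.π (aM g F)))
    (RingHom.ker (algebraMap A B)) hsurj hker
  have hfac' : ∀ t : Γ(CohB1.tensorMod F (CohB1.tensorPow L n), ⊤),
      (Groth.Agent.Helper1.PicLoc.unitN i (CohB1.tensorMod F (CohB1.tensorPow L n))).app ⊤ t =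
      (hq2.iso hq1).hom.app ⊤
        (((DCoh.tensorRightMod (CohB1.tensorPow L n)).map (cokernel.π (aM g F))).app ⊤ t) :=
    fun t => congrArg (fun φ => (Scheme.Modules.Hom.app φ ⊤) t) hfac.symm
  constructor
  · intro z
    obtain ⟨t, ht⟩ := hsurj' ((hq2.iso hq1).inv.app ⊤ z)
    refine ⟨t, ?_⟩
    rw [hfac' t, ht]
    exact Groth.Agent.Helper4.TensorGen.iso_hom_inv_app _ _ _
  · intro t ht
    apply hker'
    rw [hfac' t] at ht
    have := congrArg ((hq2.iso hq1).inv.app ⊤) ht
    rw [Groth.Agent.Helper4.TensorGen.iso_inv_hom_app, map_zero] at this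
    exact this

end Main

end Groth.Agent.Helper1.HT
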