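import Mathlib
import Groth.Agent.Helper1.HT2
import Groth.Agent.Helper1.HT3
import Groth.Agent.Lead.BCMap5
import Groth.Agent.Helper4.QcohLocal

/-!
# HT4: base change of the direct image along a morphism of affine schemes which is surjective on
functions, from the quotient property of the unit on global sections
-/

set_option autoImplicit false
set_option linter.style.haveILetI false
set_option linter.unusedSectionVars false
set_option maxHeartbeats 400000

universe u
open CategoryTheory CategoryTheory.Limits AlgebraicGeometry Opposite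
open AlgebraicGeometry.Scheme.Modules
open Groth.Agent.Lead.BCMap Groth.Agent.Helper1.PicLoc

namespace Groth.Agent.Helper1.HT

section Rho

variable (A : Type u) [CommRing A] {X : Scheme.{u}} [X.Over (Spec (CommRingCat.of A))]

theorem ρ_top_eq (a : A) :
    Groth.Agent.Helper1.QuotPush.ρ (A := A) (⊤ : X.Opens) a =
      (X ↘ Spec (CommRingCat.of A)).app ⊤ ((Scheme.ΓSpecIso (CommRingCat.of A)).inv.hom a) := by
  show Coh.resTop X (op ⊤) (Coh.toGlobal (X ↘ Spec (CommRingCat.of A)) a) = _
  have h : (homOfLE (le_top (a := (op (⊤ : X.Opens)).unop))).op = 𝟙 (op (⊤ : X.Opens)) := rfl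
  have h2 : ∀ c : Coh.Γtop X, Coh.resTop X (op ⊤) c = c := fun c => by
    show (X.ringCatSheaf.obj.map (homOfLE (le_top (a := (op (⊤ : X.Opens)).unop))).op).hom c = c
    rw [h, CategoryTheory.Functor.map_id]
    rfl
  rw [h2]
  rfl

end Rho

section Core

variable {X S Z X' : Scheme.{u}} (f : X ⟶ S) (c : Z ⟶ S) (f' : X' ⟶ Z) (g' : X' ⟶ X)
  (hsq : IsPullback g' f' f c) [IsAffine S] [IsAffine Z] [QuasiCompact f] [QuasiSeparated f]

include hsq in
/-- from the quotient property of the unit on global sections to the base change isomorphism -/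
theorem isIso_bc0_of_unit_top (hs : Function.Surjective c.appTop.hom)
    (G : X.Modules) [G.IsQuasicoherent]
    (h1 : Function.Surjective ((unitN g' G).app ⊤))
    (h2 : ∀ t : Γ(G, ⊤), (unitN g' G).app ⊤ t = 0 →
      t ∈ ((RingHom.ker c.appTop.hom).map f.appTop.hom) •
        (⊤ : Submodule Γ(X, ⊤) Γ(G, ⊤))) :
    IsIso (CohBC.bc0 f c f' g' hsq.w G) := by
  haveI : QuasiCompact f' := MorphismProperty.of_isPullback (P := @QuasiCompact) hsq inferInstance
  haveI : QuasiSeparated f' :=
    MorphismProperty.of_isPullback (P := @QuasiSeparated) hsq inferInstance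
  haveI q1 : ((pushforward f).obj G).IsQuasicoherent :=
    Groth.Agent.Helper4.QcohGlue.isQuasicoherent_pushforward f G
  haveI q2 : ((Scheme.Modules.pullback c).obj ((pushforward f).obj G)).IsQuasicoherent :=
    Groth.Agent.Lead.StalkPull.isQuasicoherent_pullbackObj c _
  haveI q3 : ((Scheme.Modules.pullback g').obj G).IsQuasicoherent :=
    Groth.Agent.Lead.StalkPull.isQuasicoherent_pullbackObj g' _
  haveI q4 : ((pushforward f').obj ((Scheme.Modules.pullback g').obj G)).IsQuasicoherent :=
    Groth.Agent.Helper4.QcohGlue.isQuasicoherent_pushforward f' _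
  apply Groth.Agent.Helper4.QcohLocal.isIso_of_app_bijective_of_affine_cover
  intro z
  refine ⟨⊤, isAffineOpen_top _, trivial, ?_⟩
  have e : (⊤ : Z.Opens) ≤ c ⁻¹ᵁ ⊤ := le_top
  -- the pullback of sections as a map out of `Γ(G, ⊤)`
  let P : Γ(G, ⊤) →+ Γ((Scheme.Modules.pullback c).obj ((pushforward f).obj G), ⊤) :=
    pbSec c ((pushforward f).obj G) ⊤ ⊤ e
  -- the key identity
  have key : ∀ m : Γ(G, ⊤), (CohBC.bc0 f c f' g' hsq.w G).app ⊤ (P m) = (unitN g' G).app ⊤ m := by
    intro m
    have h := bcMap_pbSec f c g' f' hsq.w G ⊤ ⊤ e m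
    rw [bcMap_eq_bc0] at h
    rw [unitN_app]
    exact h
  -- scalars
  have hsc : ∀ (a : Γ(S, ⊤)) (x : Γ(G, ⊤)),
      P (f.appTop.hom a • x) = c.appTop.hom a • P x := by
    intro a x
    have h := pbSec_smul c ((pushforward f).obj G) ⊤ ⊤ e a x
    rw [Groth.Agent.Helper4.Scalar.pushforward_smul] at h
    have e2 : c.appLE ⊤ ⊤ e = c.appTop :=
      (Scheme.Hom.app_eq_appLE (f := c) (U := ⊤)).symm
    rw [e2] at h
    exact h
  -- the pullback of sections is onto
  have hsurj : ∀ y : Γ((Scheme.Modules.pullback c).obj ((pushforward f).obj G), ⊤),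
      ∃ m : Γ(G, ⊤), P m = y := by
    intro y
    letI := (c.appLE ⊤ ⊤ e).hom.toAlgebra
    letI : Module Γ(S, ⊤)
        Γ((Scheme.Modules.pullback c).obj ((pushforward f).obj G), ⊤) :=
      Module.compHom _ (c.appLE ⊤ ⊤ e).hom
    haveI : IsScalarTower Γ(S, ⊤) Γ(Z, ⊤)
        Γ((Scheme.Modules.pullback c).obj ((pushforward f).obj G), ⊤) :=
      IsScalarTower.of_compHom _ _ _
    obtain ⟨ρ, hρ, hbc⟩ := exists_isBaseChange_pbSec c ((pushforward f).obj G)
      (isAffineOpen_top _) (isAffineOpen_top _) e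
    refine IsBaseChange.inductionOn hbc y
      (fun y => ∃ m : Γ(G, ⊤), P m = y) ?_ ?_ ?_ ?_
    · exact ⟨0, map_zero P⟩
    · intro m
      exact ⟨m, (hρ m).symm⟩
    · rintro s n ⟨m, rfl⟩
      obtain ⟨a, rfl⟩ := hs s
      exact ⟨f.appTop.hom a • m, hsc a m⟩
    · rintro n₁ n₂ ⟨m₁, rfl⟩ ⟨m₂, rfl⟩
      exact ⟨m₁ + m₂, map_add P _ _⟩
  -- the kernel
  have hzero : ∀ t : Γ(G, ⊤), t ∈ ((RingHom.ker c.appTop.hom).map f.appTop.hom) •
        (⊤ : Submodule Γ(X, ⊤) Γ(G, ⊤)) → P t = 0 := by
    have aux : ∀ r : Γ(X, ⊤), r ∈ (RingHom.ker c.appTop.hom).map f.appTop.hom →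
        ∀ x : Γ(G, ⊤), P (r • x) = 0 := by
      intro r hr
      unfold Ideal.map at hr
      refine Submodule.span_induction ?_ ?_ ?_ ?_ hr
      · rintro _ ⟨a, ha, rfl⟩ x
        rw [hsc a x]
        have : c.appTop.hom a = 0 := ha
        rw [this, zero_smul]
      · intro x
        rw [zero_smul, map_zero]
      · intro r r' _ _ hr hr' x
        rw [add_smul, map_add, hr x, hr' x, add_zero]
      · intro γ r _ hr x
        rw [smul_eq_mul, mul_comm, mul_smul]
        exact hr (γ • x)
    intro t ht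
    refine Submodule.smul_induction_on ht ?_ ?_
    · intro r hr x _
      exact aux r hr x
    · intro x y hx hy
      rw [map_add, hx, hy, add_zero]
  constructor
  · rw [injective_iff_map_eq_zero]
    intro y hy
    obtain ⟨m, rfl⟩ := hsurj y
    rw [key m] at hy
    exact hzero m (h2 m hy)
  · intro z
    obtain ⟨m, hm⟩ := h1 z
    exact ⟨P m, (key m).trans hm⟩

end Core

end Groth.Agent.Helper1.HT
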