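import Mathlib
import Groth.Agent.Helper1.HT4

/-!
# HT5: base change of the direct image of large twists along a closed immersion into an affine
noetherian base
-/

set_option autoImplicit false
set_option linter.style.haveILetI false
set_option linter.unusedSectionVars false
set_option maxHeartbeats 400000

universe u
open CategoryTheory CategoryTheory.Limits AlgebraicGeometry Opposite
open AlgebraicGeometry.Scheme.Modules
open Groth.Agent.Lead.BCMap Groth.Agent.Helper1.PicLoc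

namespace Groth.Agent.Helper1.HT

variable {X S Z : Scheme.{u}}

/-- **closed base change for large twists, affine base** -/
theorem exists_bcIso_closed_affine [IsAffine S] [IsNoetherian S] (f : X ⟶ S) [IsProper f]
    (c : Z ⟶ S) [IsClosedImmersion c] {L : X.Modules} (hL : CohB1.IsAmple L)
    (F : X.Modules) (hF : Coh.IsCoh F) :
    ∃ n₀ : ℕ, ∀ n : ℕ, n₀ ≤ n → BCIso f (CohB1.tensorMod F (CohB1.tensorPow L n)) c := by
  haveI hZ : IsAffine Z := (IsClosedImmersion.isAffine_surjective_of_isAffine c).1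
  have hs : Function.Surjective c.appTop.hom :=
    (IsClosedImmersion.isAffine_surjective_of_isAffine c).2
  haveI : IsNoetherianRing Γ(S, ⊤) :=
    IsLocallyNoetherian.component_noetherian ⟨⊤, isAffineOpen_top S⟩
  letI : Algebra Γ(S, ⊤) Γ(Z, ⊤) := c.appTop.hom.toAlgebra
  letI : X.Over (Spec (CommRingCat.of Γ(S, ⊤))) := ⟨f ≫ S.isoSpec.hom⟩
  haveI : IsProper (X ↘ Spec (CommRingCat.of Γ(S, ⊤))) :=
    inferInstanceAs (IsProper (f ≫ S.isoSpec.hom))
  have hs' : Function.Surjective (algebraMap Γ(S, ⊤) Γ(Z, ⊤)) := hs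
  obtain ⟨n₀, hn₀⟩ := exists_unit_top Γ(S, ⊤) Γ(Z, ⊤) hs' hL F hF
  refine ⟨n₀, fun n hn X' f' g' h => ?_⟩
  letI : X'.Over (Spec (CommRingCat.of Γ(Z, ⊤))) := ⟨f' ≫ Z.isoSpec.hom⟩
  have hiso : IsPullback c Z.isoSpec.hom S.isoSpec.hom (Spec.map c.appTop) :=
    IsPullback.of_vert_isIso ⟨(Scheme.isoSpec_hom_naturality c).symm⟩
  have hsq' : IsPullback g' (X' ↘ Spec (CommRingCat.of Γ(Z, ⊤)))
      (X ↘ Spec (CommRingCat.of Γ(S, ⊤)))
      (Spec.map (CommRingCat.ofHom (algebraMap Γ(S, ⊤) Γ(Z, ⊤)))) :=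
    h.paste_vert hiso
  obtain ⟨h1, h2⟩ := hn₀ n hn g' hsq'
  have hLn : PicF.IsInvertible (CohB1.tensorPow L n) :=
    Groth.Agent.Helper4.TensorInv.isInvertible_tensorPow hL.1 n
  haveI : IsLocallyNoetherian X := LocallyOfFiniteType.isLocallyNoetherian f
  haveI : (CohB1.tensorMod F (CohB1.tensorPow L n)).IsQuasicoherent :=
    (Groth.Agent.Lead.Ref1B.isCoh_tensorMod F _ hF
      (Groth.Agent.Helper1.SerreFin.isCoh_of_isInvertible _ hLn)).1
  refine isIso_bc0_of_unit_top f c f' g' h hs _ h1 ?_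
  intro t ht
  have hρ : (Groth.Agent.Helper1.QuotPush.ρ (A := Γ(S, ⊤)) (⊤ : X.Opens)) = f.appTop.hom := by
    ext a
    rw [ρ_top_eq]
    show (f ≫ S.isoSpec.hom).appTop.hom ((Scheme.ΓSpecIso Γ(S, ⊤)).inv.hom a) = _
    rw [Scheme.Hom.comp_appTop, Scheme.isoSpec_hom, Scheme.toSpecΓ_appTop]
    have := congrArg (fun φ => φ.hom a) (Scheme.ΓSpecIso Γ(S, ⊤)).inv_hom_id
    simp only [CommRingCat.hom_comp, RingHom.coe_comp, Function.comp_apply] at this ⊢
    rw [this]
    rfl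
  have h2' := h2 t ht
  rw [hρ] at h2'
  exact h2'

end Groth.Agent.Helper1.HT
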