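import Mathlib
import Groth.Agent.Helper1.HT5
import Groth.Agent.Helper1.HP10
import Groth.Agent.Helper1.SerreH
import Groth.Agent.Helper4.ModLocal

/-!
# HT6: base change of the direct image of large twists along a closed immersion into a noetherian
base
-/

set_option autoImplicit false
set_option linter.style.haveILetI false
set_option linter.unusedSectionVars false
set_option maxHeartbeats 400000

universe u
open CategoryTheory CategoryTheory.Limits AlgebraicGeometry Opposite
open AlgebraicGeometry.Scheme.Modules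

namespace Groth.Agent.Helper1.HT

variable {X S Z : Scheme.{u}}

/-- the base change of a relatively ample module to an affine scheme is ample -/
theorem isAmple_pullback_fst (f : X ⟶ S) [QuasiCompact f] {W : Scheme.{u}} [IsAffine W]
    (j : W ⟶ S) {L : X.Modules} (hL : RelAmple.IsRelAmple f L) :
    CohB1.IsAmple ((Scheme.Modules.pullback (pullback.fst f j)).obj L) :=
  (Groth.Agent.Helper4.AmpleRestrict.isRelAmple_iff_isAmple_of_isAffine (pullback.snd f j) _).1
    (Groth.Agent.Helper4.PullBC.isRelAmple_baseChange f j L hL)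

/-- base change over the preimage of an affine open -/
theorem exists_bcIso_closed_over [IsNoetherian S] (f : X ⟶ S) [IsProper f]
    (c : Z ⟶ S) [IsClosedImmersion c] {L : X.Modules} (hL : RelAmple.IsRelAmple f L)
    (F : X.Modules) (hF : Coh.IsCoh F) (W : S.Opens) (hW : IsAffineOpen W) :
    ∃ n₀ : ℕ, ∀ n : ℕ, n₀ ≤ n →
      BCIso f (CohB1.tensorMod F (CohB1.tensorPow L n)) ((c ⁻¹ᵁ W).ι ≫ c) := by
  haveI : IsAffine (W : Scheme.{u}) := hW
  have hLinv : PicF.IsInvertible L :=
    Groth.Agent.Helper4.RelCompTwist.isInvertible_of_isRelAmple f L hL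
  haveI : IsLocallyNoetherian X := LocallyOfFiniteType.isLocallyNoetherian f
  haveI : IsLocallyNoetherian (W : Scheme.{u}) :=
    LocallyOfFiniteType.isLocallyNoetherian W.ι
  haveI : IsNoetherian (W : Scheme.{u}) := {}
  have hamp := isAmple_pullback_fst f W.ι hL
  have hF₁ : Coh.IsCoh ((Scheme.Modules.pullback (pullback.fst f W.ι)).obj F) :=
    Groth.Agent.Lead.FlatUnivJ.isCoh_pullback _ F hF
  obtain ⟨n₀, hn₀⟩ := exists_bcIso_closed_affine (pullback.snd f W.ι) (c ∣_ W) hamp _ hF₁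
  refine ⟨n₀, fun n hn => ?_⟩
  haveI : (CohB1.tensorMod F (CohB1.tensorPow L n)).IsQuasicoherent :=
    (Groth.Agent.Helper1.HP.isCoh_twistPow hLinv F hF n).1
  have h1 : BCIso f (CohB1.tensorMod F (CohB1.tensorPow L n)) W.ι := bcIso_of_flat f _ W.ι
  have h2 : BCIso (pullback.snd f W.ι)
      ((Scheme.Modules.pullback (pullback.fst f W.ι)).obj
        (CohB1.tensorMod F (CohB1.tensorPow L n))) (c ∣_ W) :=
    BCIso.of_iso _ (Groth.Agent.Helper1.HP.pullTwistIso (pullback.fst f W.ι) hLinv F n).symm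
      (hn₀ n hn)
  exact BCIso.congr f (morphismRestrict_ι c W) (BCIso.comp f h1 h2)

/-- **closed base change for large twists** -/
theorem exists_bcIso_closed [IsNoetherian S] (f : X ⟶ S) [IsProper f]
    (c : Z ⟶ S) [IsClosedImmersion c] {L : X.Modules} (hL : RelAmple.IsRelAmple f L)
    (F : X.Modules) (hF : Coh.IsCoh F) :
    ∃ n₀ : ℕ, ∀ n : ℕ, n₀ ≤ n → BCIso f (CohB1.tensorMod F (CohB1.tensorPow L n)) c := by
  classical
  have hLinv : PicF.IsInvertible L :=
    Groth.Agent.Helper4.RelCompTwist.isInvertible_of_isRelAmple f L hL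
  haveI : IsLocallyNoetherian X := LocallyOfFiniteType.isLocallyNoetherian f
  obtain ⟨t, ht, htop⟩ := Groth.Agent.Helper1.Serre.exists_finset_affine_sup (⊤ : S.Opens)
    isCompact_univ
  have h1 : ∀ W : S.Opens, ∃ d₀ : ℕ, W ∈ t → ∀ n : ℕ, d₀ ≤ n →
      BCIso f (CohB1.tensorMod F (CohB1.tensorPow L n)) ((c ⁻¹ᵁ W).ι ≫ c) := by
    intro W
    by_cases hWt : W ∈ t
    · obtain ⟨d₀, hd₀⟩ := exists_bcIso_closed_over f c hL F hF W (ht W hWt)
      exact ⟨d₀, fun _ => hd₀⟩
    · exact ⟨0, fun h => absurd h hWt⟩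
  choose d₀ hd₀ using h1
  refine ⟨t.sup d₀, fun n hn X' f' g' h => ?_⟩
  haveI : (CohB1.tensorMod F (CohB1.tensorPow L n)).IsQuasicoherent :=
    (Groth.Agent.Helper1.HP.isCoh_twistPow hLinv F hF n).1
  haveI : QuasiCompact f' := MorphismProperty.of_isPullback (P := @QuasiCompact) h inferInstance
  haveI : QuasiSeparated f' :=
    MorphismProperty.of_isPullback (P := @QuasiSeparated) h inferInstance
  haveI : ((Scheme.Modules.pullback g').obj
      (CohB1.tensorMod F (CohB1.tensorPow L n))).IsQuasicoherent :=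
    Groth.Agent.Lead.StalkPull.isQuasicoherent_pullbackObj g' _
  refine Groth.Agent.Helper4.ModLocal.isIso_of_restrict_cover
    (fun W : {W : S.Opens // W ∈ t} => c ⁻¹ᵁ W.1) ?_ _ ?_
  · intro z
    have hz : c z ∈ t.sup id := by rw [htop]; trivial
    obtain ⟨W, hWt, hzW⟩ := Groth.Agent.Helper1.Serre.exists_mem_of_mem_finset_sup t (c z) hz
    exact ⟨⟨W, hWt⟩, hzW⟩
  · rintro ⟨W, hWt⟩
    have hb := hd₀ W hWt n ((Finset.le_sup (f := d₀) hWt).trans hn)
    have hsqL : IsPullback (pullback.fst f' (c ⁻¹ᵁ W).ι) (pullback.snd f' (c ⁻¹ᵁ W).ι) f'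
        (c ⁻¹ᵁ W).ι := IsPullback.of_hasPullback _ _
    have hbig := hsqL.paste_horiz h
    have i1 := hb _ _ hbig
    have i2 := bcIso_of_flat f' ((Scheme.Modules.pullback g').obj
      (CohB1.tensorMod F (CohB1.tensorPow L n))) (c ⁻¹ᵁ W).ι _ _ hsqL
    have i3 := isIso_pullback_map_bc0 f c f' g' h.w (c ⁻¹ᵁ W).ι
      (pullback.snd f' (c ⁻¹ᵁ W).ι) (pullback.fst f' (c ⁻¹ᵁ W).ι) hsqL.w
      (CohB1.tensorMod F (CohB1.tensorPow L n)) i1 i2
    exact (NatIso.isIso_map_iff (Scheme.Modules.restrictFunctorIsoPullback (c ⁻¹ᵁ W).ι) _).2 i3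

end Groth.Agent.Helper1.HT
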