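import Groth.Agent.Helper1.SCV23

set_option autoImplicit false
set_option linter.style.haveILetI false
set_option linter.unusedSectionVars false
set_option linter.unusedVariables false

/-!
# Degree zero: local freeness of `f_* F` near a point where `T^0` is right exact
-/

namespace Groth.Agent.Helper1.SCV

open CategoryTheory Limits Opposite TopologicalSpace AlgebraicGeometry TensorProduct
  AlgebraicGeometry.Scheme.Modules Topology
open Groth.Agent.Helper1.BaseChart Groth.Agent.Helper1.GBC Groth.Agent.Helper1.HMap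
open Groth.Agent.Lead.BCMap

universe u

variable {X S : Scheme.{u}} {f : X ⟶ S} {W : S.Opens} [IsAffine (W : Scheme.{u})]
  {F : X.Modules} {K : ChainComplex (ModuleCat.{u} (AV W)) ℤ}
  [QuasiCompact f] [QuasiSeparated f] [Coh.IsQCoh F]

/-- the direct image is isomorphic to its zeroth right derived functor -/
theorem nonempty_push_iso_Rpush_zero [HasInjectiveResolutions X.Modules] (G : X.Modules) :
    Nonempty ((pushforward f).obj G ≅ (Coh.Rpush f 0).obj G) := by
  haveI : IsIso ((pushforward f).toRightDerivedZero.app G) := inferInstance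
  exact ⟨asIso ((pushforward f).toRightDerivedZero.app G)⟩

/-- (P2, degree zero) local freeness of `f_* F` near a point where `T^0` is right exact -/
theorem Master.exists_nhd0 (M : Master f W F K)
    (h0 : Module.freeLocus (AV W) (K.opcycles 0) = Set.univ) (s : S) (hs : s ∈ W)
    (h₁ : chartPt W s hs ∈ OLoc W K 0) :
    ∃ V : S.Opens, s ∈ V ∧ V ≤ W ∧
      FlatMod.IsFinLocFree (((pushforward f).obj F).restrict V.ι) ∧
      IsLocallyConstant (fun v : V => CohIII.fiberRank f F 0 v.1) := by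
  haveI := Groth.Agent.Helper4.SchAdj.isGrothendieckAbelian_modules X
  haveI : HasInjectiveResolutions X.Modules := inferInstance
  have hx₁ : chartPt W s hs ∈ Module.freeLocus (AV W) (K.opcycles (-((0 : ℕ) : ℤ))) := by
    rw [freeLocus_opcycles_congr W K (show -((0 : ℕ) : ℤ) = 0 by simp), h0]
    trivial
  obtain ⟨V, hsV, hVW, hlf, hlc⟩ := exists_nhd_of_mem_freeLocus f W F K M.hK (-((0 : ℕ) : ℤ)) 0
    (M.gc 0) (fun s hs => M.betti s hs 0) s hs hx₁ h₁
  refine ⟨V, hsV, hVW, ?_, hlc⟩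
  obtain ⟨j⟩ := nonempty_push_iso_Rpush_zero (f := f) F
  exact Groth.Agent.Helper4.FinLocFree2.isFinLocFree_of_iso
    ((Scheme.Modules.restrictFunctor V.ι).mapIso j.symm) hlf

/-- degree zero: near a good point, `f_* F` is locally free and commutes with base change -/
theorem Master.exists_nhd_bc0 (M : Master f W F K)
    (h0 : Module.freeLocus (AV W) (K.opcycles 0) = Set.univ) (s : S) (hs : s ∈ W)
    (h₁ : chartPt W s hs ∈ OLoc W K 0) :
    ∃ U : S.Opens, s ∈ U ∧ U ≤ W ∧
      FlatMod.IsFinLocFree (((pushforward f).obj F).restrict U.ι) ∧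
      ∀ ⦃X' S' : Scheme.{u}⦄ (g' : X' ⟶ X) (f' : X' ⟶ S') (g : S' ⟶ S)
        (h : IsPullback g' f' f g), (∀ z : S', g z ∈ U) → IsIso (CohBC.bc0 f g f' g' h.w F) := by
  obtain ⟨V, hsV, hVW, hlf, -⟩ := M.exists_nhd0 h0 s hs h₁
  have hg : GoodAt f F 0 s := ⟨W, ‹_›, hs, K, M, h₁⟩
  obtain ⟨U, hsU, hU⟩ := hg.exists_nhd
  refine ⟨V ⊓ U, ⟨hsV, hsU⟩, inf_le_left.trans hVW,
    isFinLocFree_restrict_of_le _ inf_le_left hlf, ?_⟩
  intro X' S' g' f' g h hz
  exact isIso_bc0_of_goodAt h F (fun z => hU (g z) (hz z).2)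

end Groth.Agent.Helper1.SCV

namespace Groth.Agent.Helper1.SCV

universe u

open CategoryTheory AlgebraicGeometry Groth.Agent.Helper4 Groth.Agent.Helper4.FinLocFree
  Groth.Agent.Helper1.NoethApx in
/-- finite local freeness over an open is local on that open -/
theorem isFinLocFree_restrict_of_local_restrict {S : Scheme.{u}} (M : S.Modules) {U : S.Opens}
    (h : ∀ x ∈ U, ∃ V : S.Opens, x ∈ V ∧ FlatMod.IsFinLocFree (M.restrict V.ι)) :
    FlatMod.IsFinLocFree (M.restrict U.ι) := by
  apply isFinLocFree_restrict_of_local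
  intro x hx
  obtain ⟨V, hxV, hV⟩ := h x hx
  obtain ⟨U', n, hxU', hU'⟩ := hV ⟨x, hxV⟩
  have h1 : IsFreeAlong (M.restrict V.ι) U'.ι n := hU'
  rw [IsFreeAlong.restrict_iff] at h1
  exact ⟨(U'.ι ≫ V.ι).opensRange, n, ⟨⟨⟨x, hxV⟩, hxU'⟩, rfl⟩, h1.opensRange _⟩

end Groth.Agent.Helper1.SCV
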