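import Groth.Agent.Helper1.SW1
import Groth.Agent.Helper1.SCV24

set_option autoImplicit false
set_option linter.style.haveILetI false
set_option linter.unusedSectionVars false
set_option linter.unusedVariables false

/-!
# Vanishing of `H^{m+1}` of a fibre makes `T^m` right exact there
-/

namespace Groth.Agent.Helper1.SCV

open CategoryTheory Limits Opposite TopologicalSpace AlgebraicGeometry TensorProduct
  AlgebraicGeometry.Scheme.Modules Topology
open Groth.Agent.Helper1.BaseChart Groth.Agent.Helper1.GBC Groth.Agent.Helper1.HMap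
open Groth.Agent.Lead.BCMap

universe u

variable {X S : Scheme.{u}} {f : X ⟶ S} {W : S.Opens} [IsAffine (W : Scheme.{u})]
  {F : X.Modules} {K : ChainComplex (ModuleCat.{u} (AV W)) ℤ}

/-- vanishing of the cohomology of the fibre in degree `m + 1` gives right exactness of `T^m` -/
theorem Master.mem_OLoc_of_subsingleton_succ (M : Master f W F K) (m : ℕ) (s : S) (hs : s ∈ W)
    (h : Subsingleton (CohIII.fiberH f F s (m + 1))) : chartPt W s hs ∈ OLoc W K m := by
  have h0 : CohIII.dRank K (-(((m + 1 : ℕ)) : ℤ)) (chartPt W s hs) = 0 := by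
    rw [← M.betti s hs (m + 1)]
    haveI : Subsingleton (PerfAux.fiberH f F s (m + 1)) := h
    exact Module.finrank_zero_of_subsingleton
  have h1 := mem_freeLocus_opcycles_self_of_dRank_zero K M.hK (-(((m + 1 : ℕ)) : ℤ))
    (chartPt W s hs) h0
  unfold OLoc
  rw [← freeLocus_opcycles_congr W K (neg_succ m)]
  exact h1

end Groth.Agent.Helper1.SCV

namespace Groth.Agent.Helper1.SCV

open CategoryTheory Limits Opposite TopologicalSpace AlgebraicGeometry
  AlgebraicGeometry.Scheme.Modules
open Groth.Agent.Helper1.BaseChart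

universe u

variable {X S : Scheme.{u}} (f : X ⟶ S) [IsProper f] [LocallyOfFinitePresentation f]

/-- **cohomology and base change in degree zero**: if `H¹` of the fibre at `y` vanishes, then
near `y` the direct image `f_* F` is finite locally free and commutes with arbitrary base change -/
theorem exists_nhd_bc0_of_h1 (F : X.Modules) [Coh.IsQCoh F] (hFP : CohB1.IsFP F)
    (hfl : FlatMod.IsFlatOver f F) (y : S) (h1 : Subsingleton (CohIII.fiberH f F y 1)) :
    ∃ U : S.Opens, y ∈ U ∧
      FlatMod.IsFinLocFree (((pushforward f).obj F).restrict U.ι) ∧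
      ∀ ⦃X' S' : Scheme.{u}⦄ (g' : X' ⟶ X) (f' : X' ⟶ S') (g : S' ⟶ S)
        (h : IsPullback g' f' f g), (∀ z : S', g z ∈ U) → IsIso (CohBC.bc0 f g f' g' h.w F) := by
  obtain ⟨W, hW, hyW, -⟩ := exists_isAffineOpen_mem_and_subset (x := y)
    (U := (⊤ : S.Opens)) trivial
  haveI : IsAffine (W : Scheme.{u}) := hW
  obtain ⟨K, M, h0⟩ := exists_master0 f W F hFP hfl
  have hgood : chartPt W y hyW ∈ OLoc W K 0 := M.mem_OLoc_of_subsingleton_succ 0 y hyW h1
  obtain ⟨U, hyU, -, hlf, hbc⟩ := M.exists_nhd_bc0 h0 y hyW hgood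
  exact ⟨U, hyU, hlf, hbc⟩

end Groth.Agent.Helper1.SCV
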