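import Mathlib
import Groth.Agent.Helper1.HT6
import Groth.Agent.Helper1.BaseChart15
import Groth.Agent.Helper1.FlatCxVanish
import Groth.Agent.Helper1.SW2
import Groth.Agent.Helper1.SV2

/-!
# HT7: the flat case: vanishing of the cohomology of the fibres of large twists, and base change
-/

set_option autoImplicit false
set_option linter.style.haveILetI false
set_option linter.unusedSectionVars false
set_option maxHeartbeats 400000

universe u
open CategoryTheory CategoryTheory.Limits AlgebraicGeometry Opposite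
open AlgebraicGeometry.Scheme.Modules

namespace Groth.Agent.Helper1.HT

variable {X S : Scheme.{u}}

/-- base change isomorphisms are local on the new base -/
theorem bcIso_of_open_cover (f : X ⟶ S) [QuasiCompact f] [QuasiSeparated f] (G : X.Modules)
    [G.IsQuasicoherent] {T : Scheme.{u}} (g : T ⟶ S) {ι : Type*} (V : ι → T.Opens)
    (hV : ∀ x : T, ∃ i, x ∈ V i) (h : ∀ i, BCIso f G ((V i).ι ≫ g)) : BCIso f G g := by
  intro X' f' g' hsq
  haveI : QuasiCompact f' := MorphismProperty.of_isPullback (P := @QuasiCompact) hsq inferInstance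
  haveI : QuasiSeparated f' :=
    MorphismProperty.of_isPullback (P := @QuasiSeparated) hsq inferInstance
  haveI : ((Scheme.Modules.pullback g').obj G).IsQuasicoherent :=
    Groth.Agent.Lead.StalkPull.isQuasicoherent_pullbackObj g' _
  refine Groth.Agent.Helper4.ModLocal.isIso_of_restrict_cover V hV _ ?_
  intro i
  have hsqL : IsPullback (pullback.fst f' (V i).ι) (pullback.snd f' (V i).ι) f'
      (V i).ι := IsPullback.of_hasPullback _ _
  have hbig := hsqL.paste_horiz hsq
  have i1 := h i _ _ hbig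
  have i2 := bcIso_of_flat f' ((Scheme.Modules.pullback g').obj G) (V i).ι _ _ hsqL
  have i3 := isIso_pullback_map_bc0 f g f' g' hsq.w (V i).ι
    (pullback.snd f' (V i).ι) (pullback.fst f' (V i).ι) hsqL.w G i1 i2
  exact (NatIso.isIso_map_iff (Scheme.Modules.restrictFunctorIsoPullback (V i).ι) _).2 i3

open Groth.Agent.Helper1.BaseChart in
/-- over an affine open of the base on whose preimage the higher cohomology of a flat coherent
module vanishes, the higher cohomology of the fibres vanishes -/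
theorem subsingleton_fiberH_of_flat (f : X ⟶ S) [IsProper f] [IsLocallyNoetherian S]
    (F : X.Modules) (hF : Coh.IsCoh F) (hfl : FlatMod.IsFlatOver f F) (V : S.Opens)
    (hV : IsAffineOpen V)
    (hH : ∀ i : ℕ, 0 < i → Subsingleton (Coh.HHon X F (f ⁻¹ᵁ V) i)) (y : S) (hyV : y ∈ V)
    (i : ℕ) (hi : 0 < i) : Subsingleton (CohIII.fiberH f F y i) := by
  haveI : IsAffine (V : Scheme.{u}) := hV
  obtain ⟨L, hLff, ⟨b, hb⟩, hpos, hrank, hBC, hhom⟩ := exists_chart_complex f V F hF hfl
  haveI : IsNoetherianRing (AV V) := isNoetherian_chart V hV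
  have hP : ∀ i, Module.Finite (AV V) (L.X i) ∧ Module.Flat (AV V) (L.X i) := fun i => by
    haveI := (hLff i).2
    exact ⟨(hLff i).1, inferInstance⟩
  haveI : F.IsQuasicoherent := hF.1
  have hHz : ∀ q : ℤ, q < 0 → IsZero (L.homology q) := by
    intro q hq
    obtain ⟨i, rfl⟩ : ∃ i : ℕ, q = -(i : ℤ) := ⟨q.natAbs, by omega⟩
    have hi : 0 < i := by omega
    obtain ⟨e⟩ := hhom i
    haveI : Subsingleton (Coh.HH (XV f V) (FV f V F) i) := hH i hi
    haveI : Subsingleton (L.homology (-(i : ℤ))) := e.toEquiv.subsingleton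
    exact ModuleCat.isZero_of_subsingleton _
  obtain ⟨hneg, -⟩ := Groth.Agent.Helper1.FlatCxVanish.exact_zero_of_homology_zero L
    (fun i => (hP i).2) b hb hpos hHz
  exact subsingleton_fiberH_of_isZero_TFun f V F L hBC i y hyV (hneg _ (by omega))

/-- **flat case: the higher cohomology of the fibres of large twists vanishes** -/
theorem exists_fiberH_vanish_twist [IsNoetherian S] (f : X ⟶ S) [IsProper f] {L : X.Modules}
    (hL : RelAmple.IsRelAmple f L) (F : X.Modules) (hF : Coh.IsCoh F)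
    (hfl : FlatMod.IsFlatOver f F) :
    ∃ n₀ : ℕ, ∀ n : ℕ, n₀ ≤ n → ∀ (y : S) (i : ℕ), 0 < i →
      Subsingleton (CohIII.fiberH f (CohB1.tensorMod F (CohB1.tensorPow L n)) y i) := by
  classical
  have hLinv : PicF.IsInvertible L :=
    Groth.Agent.Helper4.RelCompTwist.isInvertible_of_isRelAmple f L hL
  haveI : IsLocallyNoetherian X := LocallyOfFiniteType.isLocallyNoetherian f
  have ha : ∀ W : S.Opens, IsAffineOpen W → CohB1.IsAmple (L.restrict (f ⁻¹ᵁ W).ι) :=
    fun W hW => hL.2 ⟨W, hW⟩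
  obtain ⟨t, ht, htop⟩ := Groth.Agent.Helper1.Serre.exists_finset_affine_sup (⊤ : S.Opens)
    isCompact_univ
  have h1 : ∀ V : S.Opens, ∃ d₀ : ℕ, V ∈ t → ∀ n : ℕ, d₀ ≤ n → ∀ q : ℕ,
      Subsingleton (CohTop.HU (Coh.toAb (CohB1.tensorMod F (CohB1.tensorPow L n))) (q + 1)
        (f ⁻¹ᵁ V)) := by
    intro V
    by_cases hVt : V ∈ t
    · obtain ⟨d₀, hd₀⟩ := Groth.Agent.Helper1.SV.exists_vanishing_over f L ha F hF (ht V hVt)
      exact ⟨d₀, fun _ => hd₀⟩
    · exact ⟨0, fun h => absurd h hVt⟩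
  choose d₀ hd₀ using h1
  refine ⟨t.sup d₀, fun n hn y i hi => ?_⟩
  have hyt : y ∈ t.sup id := by rw [htop]; trivial
  obtain ⟨V, hVt, hyV⟩ := Groth.Agent.Helper1.Serre.exists_mem_of_mem_finset_sup t y hyt
  have hcoh := Groth.Agent.Helper1.HP.isCoh_twistPow hLinv F hF n
  have hfl' : FlatMod.IsFlatOver f (CohB1.tensorMod F (CohB1.tensorPow L n)) :=
    (Groth.Agent.Helper1.FlatTw.isFlatOver_tensor_iff f F _
      (Groth.Agent.Helper4.TensorInv.isInvertible_tensorPow hLinv n)).2 hfl
  refine subsingleton_fiberH_of_flat f _ hcoh hfl' V (ht V hVt) ?_ y hyV i hi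
  intro q hq
  obtain ⟨q', rfl⟩ : ∃ q' : ℕ, q = q' + 1 := ⟨q - 1, by omega⟩
  haveI := hd₀ V hVt n ((Finset.le_sup (f := d₀) hVt).trans hn) q'
  obtain ⟨e'⟩ := Groth.Agent.Helper1.HHonHU.nonempty_HHon_HU X
    (CohB1.tensorMod F (CohB1.tensorPow L n)) (f ⁻¹ᵁ V) (q' + 1)
  exact e'.toEquiv.subsingleton

/-- **flat case: base change in degree zero when `H¹` of the fibres vanishes** -/
theorem bcIso_of_flat_of_h1 (f : X ⟶ S) [IsProper f] [LocallyOfFinitePresentation f]
    (F : X.Modules) [F.IsQuasicoherent] (hFP : CohB1.IsFP F) (hfl : FlatMod.IsFlatOver f F)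
    (h1 : ∀ y : S, Subsingleton (CohIII.fiberH f F y 1)) :
    FlatMod.IsFinLocFree ((pushforward f).obj F) ∧
      ∀ {T : Scheme.{u}} (g : T ⟶ S), BCIso f F g := by
  haveI : Coh.IsQCoh F := ‹F.IsQuasicoherent›
  have key := fun y => Groth.Agent.Helper1.SCV.exists_nhd_bc0_of_h1 f F hFP hfl y (h1 y)
  choose U hyU hlf hbc using key
  constructor
  · exact Groth.Agent.Helper1.SCV.isFinLocFree_of_local_restrict _
      (fun y => ⟨U y, hyU y, hlf y⟩)
  · intro T g
    refine bcIso_of_open_cover f F g (fun y : S => g ⁻¹ᵁ U y) (fun x => ⟨g x, hyU (g x)⟩) ?_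
    intro y X' f' g' hsq
    exact hbc y g' f' _ hsq (fun z => z.2)

end Groth.Agent.Helper1.HT
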