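import Mathlib
import Groth.Agent.Helper1.HT7
import Groth.Agent.Helper1.HT8
import Groth.Agent.Helper1.HS5
import Groth.Agent.Lead.SuppProper

/-!
# HT9: uniform vanishing and base change to the fibres for large twists over a noetherian base
-/

set_option autoImplicit false
set_option linter.style.haveILetI false
set_option linter.unusedSectionVars false
set_option maxHeartbeats 400000

universe u
open CategoryTheory CategoryTheory.Limits AlgebraicGeometry Opposite TopologicalSpace
open AlgebraicGeometry.Scheme.Modules

namespace Groth.Agent.Helper1.HT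

open Groth.Agent.Lead.GFStrat

variable {X S : Scheme.{u}}

/-- a morphism from a reduced scheme with range in `Z ∖ Z'` factors through the stratum -/
theorem exists_lift_stratum {T : Scheme.{u}} [IsReduced T] (x : T ⟶ S) (Z Z' : Closeds S)
    (hx : ∀ t : T, x t ∈ (Z : Set S) ∧ x t ∉ (Z' : Set S)) :
    ∃ y : T ⟶ (↑((Scheme.IdealSheafData.vanishingIdeal Z).subschemeι ⁻¹ᵁ
        (Scheme.IdealSheafData.vanishingIdeal Z').support.compl) : Scheme.{u}),
      y ≫ stratumι (Scheme.IdealSheafData.vanishingIdeal Z)
        (Scheme.IdealSheafData.vanishingIdeal Z') = x := by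
  set J := Scheme.IdealSheafData.vanishingIdeal Z with hJ
  set J' := Scheme.IdealSheafData.vanishingIdeal Z' with hJ'
  have hle : J.subschemeι.ker ≤ x.ker := by
    rw [Scheme.IdealSheafData.ker_subschemeι, Groth.Agent.Lead.SuppProper.ker_eq_vanishingIdeal x]
    apply Scheme.IdealSheafData.vanishingIdeal_antimono
    show closure (Set.range x) ⊆ (Z : Set S)
    rw [Z.isClosed.closure_subset_iff]
    rintro _ ⟨t, rfl⟩
    exact (hx t).1
  let y₀ : T ⟶ J.subscheme := IsClosedImmersion.lift J.subschemeι x hle
  have hy₀ : y₀ ≫ J.subschemeι = x := IsClosedImmersion.lift_fac _ _ _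
  have hrange : Set.range y₀ ⊆ Set.range (J.subschemeι ⁻¹ᵁ J'.support.compl).ι := by
    rintro _ ⟨t, rfl⟩
    rw [Scheme.Opens.range_ι]
    show J.subschemeι (y₀ t) ∈ ((J'.support : Set S)ᶜ)
    rw [← Scheme.Hom.comp_apply, hy₀, Scheme.IdealSheafData.coe_support_vanishingIdeal]
    exact (hx t).2
  refine ⟨IsOpenImmersion.lift (J.subschemeι ⁻¹ᵁ J'.support.compl).ι y₀ hrange, ?_⟩
  unfold stratumι
  rw [← Category.assoc, IsOpenImmersion.lift_fac, hy₀]

/-- the uniform statement over a closed subset -/
def UnifOn (f : X ⟶ S) (F L : X.Modules) (Z : Closeds S) : Prop :=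
  ∃ N : ℕ, ∀ n : ℕ, N ≤ n →
    (∀ s : S, s ∈ (Z : Set S) → ∀ i : ℕ, 0 < i →
      Subsingleton (PerfAux.fiberH f (CohB1.tensorMod F (CohB1.tensorPow L n)) s i)) ∧
    ∀ (K : Type u) [Field K] (x : Spec (CommRingCat.of K) ⟶ S), (∀ t, x t ∈ (Z : Set S)) →
      BCIso f (CohB1.tensorMod F (CohB1.tensorPow L n)) x

/-- **uniform vanishing and base change to the fibres for large twists** -/
theorem unifOn [IsNoetherian S] (f : X ⟶ S) [IsProper f] {L : X.Modules}
    (hL : RelAmple.IsRelAmple f L) (F : X.Modules) (hF : Coh.IsCoh F) (Z : Closeds S) :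
    UnifOn f F L Z := by
  haveI : LocallyOfFinitePresentation f := Groth.Agent.Helper1.SS.lofp_of_isLocallyNoetherian f
  haveI : IsLocallyNoetherian X := LocallyOfFiniteType.isLocallyNoetherian f
  haveI : F.IsQuasicoherent := hF.1
  have hFP : CohB1.IsFP F := Groth.Agent.Helper4.CohFP.isFP_of_isCoh _ hF.1 hF.2
  have hLinv : PicF.IsInvertible L :=
    Groth.Agent.Helper4.RelCompTwist.isInvertible_of_isRelAmple f L hL
  induction Z using WellFoundedLT.induction with
  | ind Z ih =>
    by_cases hZ : Z = ⊥
    · subst hZ
      refine ⟨0, fun n _ => ⟨fun s hs => absurd hs (by simp), fun K _ x hx => ?_⟩⟩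
      exact absurd (hx (default : PrimeSpectrum K)) (by simp)
    · obtain ⟨Z', hlt, hflat⟩ := exists_stratum f F hF.1 hFP Z hZ
      set J := Scheme.IdealSheafData.vanishingIdeal Z with hJ
      set J' := Scheme.IdealSheafData.vanishingIdeal Z' with hJ'
      obtain ⟨hW1, hW2⟩ := Groth.Agent.Helper1.HS.noeth_stratum J J'
      haveI : IsNoetherian (↑(J.subschemeι ⁻¹ᵁ J'.support.compl) : Scheme.{u}) := {}
      set e := stratumι J J' with he
      have hLW := Groth.Agent.Helper4.PullBC.isRelAmple_baseChange f e L hL
      have hLWinv : PicF.IsInvertible ((Scheme.Modules.pullback (pullback.fst f e)).obj L) :=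
        Groth.Agent.Helper4.PullSec.isInvertible_pullback _ hLinv
      have hFW : Coh.IsCoh ((Scheme.Modules.pullback (pullback.fst f e)).obj F) :=
        Groth.Agent.Lead.FlatUnivJ.isCoh_pullback _ F hF
      haveI : LocallyOfFinitePresentation (pullback.snd f e) :=
        MorphismProperty.pullback_snd _ _ inferInstance
      haveI : IsLocallyNoetherian (pullback f e) :=
        LocallyOfFiniteType.isLocallyNoetherian (pullback.snd f e)
      -- the flat case on the stratum
      obtain ⟨N₁, hN₁⟩ := exists_fiberH_vanish_twist (pullback.snd f e) hLW _ hFW hflat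
      -- base change to the stratum
      obtain ⟨N₂, hN₂⟩ := exists_bcIso_closed f J.subschemeι hL F hF
      obtain ⟨N₃, hN₃⟩ := ih Z' hlt
      refine ⟨max N₁ (max N₂ N₃), fun n hn => ?_⟩
      have hn₁ : N₁ ≤ n := (le_max_left _ _).trans hn
      have hn₂ : N₂ ≤ n := ((le_max_left _ _).trans (le_max_right _ _)).trans hn
      have hn₃ : N₃ ≤ n := ((le_max_right _ _).trans (le_max_right _ _)).trans hn
      obtain ⟨ihA, ihB⟩ := hN₃ n hn₃
      have hcoh := Groth.Agent.Helper1.HP.isCoh_twistPow hLinv F hF n
      haveI : (CohB1.tensorMod F (CohB1.tensorPow L n)).IsQuasicoherent := hcoh.1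
      have hcohW := Groth.Agent.Helper1.HP.isCoh_twistPow hLWinv _ hFW n
      haveI : (CohB1.tensorMod ((Scheme.Modules.pullback (pullback.fst f e)).obj F)
          (CohB1.tensorPow ((Scheme.Modules.pullback (pullback.fst f e)).obj L)
            n)).IsQuasicoherent := hcohW.1
      have hflW : FlatMod.IsFlatOver (pullback.snd f e)
          (CohB1.tensorMod ((Scheme.Modules.pullback (pullback.fst f e)).obj F)
            (CohB1.tensorPow ((Scheme.Modules.pullback (pullback.fst f e)).obj L) n)) :=
        (Groth.Agent.Helper1.FlatTw.isFlatOver_tensor_iff _ _ _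
          (Groth.Agent.Helper4.TensorInv.isInvertible_tensorPow hLWinv n)).2 hflat
      have hvanW := hN₁ n hn₁
      obtain ⟨-, hbcW⟩ := bcIso_of_flat_of_h1 (pullback.snd f e) _
        (Groth.Agent.Helper4.CohFP.isFP_of_isCoh _ hcohW.1 hcohW.2) hflW
        (fun w => hvanW w 1 one_pos)
      -- base change along the stratum
      haveI : ((Scheme.Modules.pullback (pullback.fst f J.subschemeι)).obj
          (CohB1.tensorMod F (CohB1.tensorPow L n))).IsQuasicoherent :=
        Groth.Agent.Lead.StalkPull.isQuasicoherent_pullbackObj _ _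
      have hbce : BCIso f (CohB1.tensorMod F (CohB1.tensorPow L n)) e :=
        BCIso.comp f (hN₂ n hn₂) (bcIso_of_flat _ _ _)
      have hsqW : IsPullback (pullback.fst f e) (pullback.snd f e) f e :=
        IsPullback.of_hasPullback f e
      have hiso := Groth.Agent.Helper1.HP.pullTwistIso (pullback.fst f e) hLinv F n
      -- points of the stratum
      have hpt : ∀ s : S, s ∈ (Z : Set S) → s ∉ (Z' : Set S) → ∃ w, e w = s := by
        intro s hs hs'
        have hrange : Set.range J.subschemeι = (Z : Set S) := by
          rw [Scheme.IdealSheafData.range_subschemeι,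
            Scheme.IdealSheafData.coe_support_vanishingIdeal]
        rw [← hrange] at hs
        obtain ⟨z, rfl⟩ := hs
        have hz : z ∈ J.subschemeι ⁻¹ᵁ J'.support.compl := by
          change J.subschemeι z ∉ (J'.support : Set S)
          rw [Scheme.IdealSheafData.coe_support_vanishingIdeal]
          exact hs'
        exact ⟨⟨z, hz⟩, rfl⟩
      constructor
      · intro s hs i hi
        by_cases hs' : s ∈ (Z' : Set S)
        · exact ihA s hs' i hi
        · obtain ⟨w, rfl⟩ := hpt s hs hs'
          rw [← subsingleton_fiberH_pullback_iff hsqW _ w i]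
          have h1 := hvanW w i hi
          letI : ((pullback.snd f e).fiber w).Over
              (Spec (CommRingCat.of ((↑(J.subschemeι ⁻¹ᵁ J'.support.compl) :
                Scheme.{u}).residueField w))) := ⟨(pullback.snd f e).fiberToSpecResidueField w⟩
          exact Groth.Agent.Helper1.SerreCrit.subsingleton_HH_of_iso
            ((Scheme.Modules.pullback ((pullback.snd f e).fiberι w)).mapIso hiso.symm) i h1
      · intro K _ x hx
        by_cases hx' : x (default : PrimeSpectrum K) ∈ (Z' : Set S)
        · refine ihB K x (fun t => ?_)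
          rw [Subsingleton.elim t (default : PrimeSpectrum K)]
          exact hx'
        · haveI : IsReduced (Spec (CommRingCat.of K)) := inferInstance
          obtain ⟨y, hy⟩ := exists_lift_stratum x Z Z' (fun t => by
            rw [Subsingleton.elim t (default : PrimeSpectrum K)]
            exact ⟨hx _, hx'⟩)
          have h2 : BCIso (pullback.snd f e)
              ((Scheme.Modules.pullback (pullback.fst f e)).obj
                (CohB1.tensorMod F (CohB1.tensorPow L n))) y :=
            BCIso.of_iso _ hiso.symm (hbcW y)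
          exact BCIso.congr f hy (BCIso.comp f hbce h2)

end Groth.Agent.Helper1.HT
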