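import Mathlib
import Groth.Agent.Helper1.GrSh4

/-!
# Finite generation of graded cohomology, relative to a class of coherent modules with finite
cohomology (e.g. coherent modules with proper support)
-/

set_option autoImplicit false
set_option linter.style.haveILetI false

namespace Groth.Agent.Helper1.GrSh

open CategoryTheory Limits AlgebraicGeometry Opposite Abelian
open Groth.Agent.Helper1.Dev Groth.Agent.Helper1.HHLes Groth.Agent.Helper1

universe u

variable (A : Type u) [CommRing A] {X : Scheme.{u}} [X.Over (Spec (CommRingCat.of A))]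

/-- a class of coherent modules, stable under coherent subobjects and quotients, whose members
have finite cohomology -/
structure FinClass (Φ : X.Modules → Prop) : Prop where
  sub : ∀ {G H : X.Modules} (i : G ⟶ H) [Mono i], Coh.IsCoh G → Coh.IsCoh H → Φ H → Φ G
  quot : ∀ {G H : X.Modules} (q : G ⟶ H) [Epi q], Coh.IsCoh G → Coh.IsCoh H → Φ G → Φ H
  fin : ∀ G : X.Modules, Coh.IsCoh G → Φ G → ∀ p : ℕ, Module.Finite A (Coh.HH X G p)

variable [IsNoetherianRing A]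

theorem genFrom_HH_of [IsNoetherian X] {Φ : X.Modules → Prop} (hΦ : FinClass A Φ) :
    ∀ (r : ℕ) (𝒢 : GrObj X r), IsFG 𝒢 → (∀ n, Φ (𝒢.G n)) → ∀ p : ℕ,
    ∃ N, GrHB.GenFrom (TH A 𝒢 p) N := by
  intro r
  induction r with
  | zero =>
    intro 𝒢 h _ p
    obtain ⟨N, hN⟩ := h.gen
    refine ⟨N, fun n hn x => ?_⟩
    have h0 : IsZero (𝒢.G (n + 1)) := by
      rw [IsZero.iff_id_eq_zero]
      exact hN n hn (𝟙 _) (fun i => i.elim0)
    haveI := subsingleton_HH_of_isZero A h0 p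
    exact ⟨fun i => i.elim0, Subsingleton.elim _ _⟩
  | succ r ih =>
    intro 𝒢 h hP p
    have hPc : ∀ n, Φ (𝒢.cok.G n) := fun n =>
      hΦ.quot (G := 𝒢.G (n + 1)) (H := cokernel (𝒢.t n)) (cokernel.π (𝒢.t n))
        (h.coh (n + 1)) (h.cok.coh n) (hP (n + 1))
    have hPk : ∀ n, Φ (𝒢.ker.G n) := fun n =>
      hΦ.sub (G := kernel (𝒢.t n)) (H := 𝒢.G n) (kernel.ι (𝒢.t n)) (h.ker.coh n) (h.coh n) (hP n)
    -- induction hypotheses
    obtain ⟨Nc, hNc⟩ := ih 𝒢.cok h.cok hPc p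
    obtain ⟨Nk, hNk⟩ := ih 𝒢.ker h.ker hPk (p + 1)
    -- short exact sequences
    have hSa : ∀ n, (kerImSC (𝒢.t n)).ShortExact := fun n => kerImSC_shortExact _
    have hSb : ∀ n, (imCokSC (𝒢.t n)).ShortExact := fun n => imCokSC_shortExact _
    let π : ∀ n, Coh.HH X (𝒢.G (n + 1)) p →ₗ[A] Coh.HH X (𝒢.cok.G n) p := fun n =>
      Canon.HHlin A (cokernel.π (𝒢.t n)) p
    let δa : ∀ n, Coh.HH X (Abelian.image (𝒢.t n)) p →ₗ[A] Coh.HH X (𝒢.ker.G n) (p + 1) :=
      fun n => δ A (kerImSC (𝒢.t n)) (hSa n) p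
    have hπ : ∀ (i : Fin r) n x, π (n + 1) (TH A 𝒢 p i.castSucc (n + 1) x) =
        TH A 𝒢.cok p i n (π n x) := by
      intro i n x
      change Canon.HHlin A _ p (Canon.HHlin A _ p x) = Canon.HHlin A _ p (Canon.HHlin A _ p x)
      rw [← HHlin_comp, ← HHlin_comp]
      congr 2
      exact (π_cMap (𝒢.sq i n)).symm
    have hδ : ∀ (i : Fin r) n z, δa (n + 1) (Canon.HHlin A (iMap (𝒢.sq i n)) p z) =
        TH A 𝒢.ker (p + 1) i n (δa n z) := by
      intro i n z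
      exact δ_naturality A (hSa n) (hSa (n + 1)) (kerImHom (𝒢.sq i n)) p z
    -- finiteness
    have hfc : ∀ n, Module.Finite A (Coh.HH X (𝒢.cok.G n) p) := fun n =>
      hΦ.fin _ (h.cok.coh n) (hPc n) p
    have hfk : ∀ n, Module.Finite A (Coh.HH X (𝒢.ker.G n) (p + 1)) := fun n =>
      hΦ.fin _ (h.ker.coh n) (hPk n) (p + 1)
    -- Hilbert basis
    obtain ⟨N₁, hN₁⟩ := GrHB.subGenFrom (comm_TH A 𝒢.cok p) hfc hNc
      (W := fun n => LinearMap.range (π n)) (by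
        rintro i n _ ⟨x, rfl⟩
        exact ⟨TH A 𝒢 p i.castSucc (n + 1) x, hπ i n x⟩)
    obtain ⟨N₂, hN₂⟩ := GrHB.subGenFrom (comm_TH A 𝒢.ker (p + 1)) hfk hNk
      (W := fun n => LinearMap.range (δa n)) (by
        rintro i n _ ⟨z, rfl⟩
        exact ⟨Canon.HHlin A (iMap (𝒢.sq i n)) p z, hδ i n z⟩)
    refine ⟨max N₁ N₂ + 1, ?_⟩
    refine GrHB.genFrom_step (TH A 𝒢 p) (fun i n => Canon.HHlin A (iMap (𝒢.sq i n)) p)
      (TH A 𝒢.ker (p + 1)) (TH A 𝒢.cok p)
      (fun n => Canon.HHlin A (Abelian.factorThruImage (𝒢.t n)) p)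
      (fun n => Canon.HHlin A (Abelian.image.ι (𝒢.t n)) p) π δa ?_ ?_ ?_ ?_ hπ hδ hN₁ hN₂
    · intro n x
      change Canon.HHlin A _ p (Canon.HHlin A _ p x) = Canon.HHlin A _ p x
      rw [← HHlin_comp, Abelian.image.fac]
    · intro n x hx
      exact (exact_f_g A (imCokSC (𝒢.t n)) (hSb n) p x).1 hx
    · intro n z hz
      exact (exact_g_δ A (kerImSC (𝒢.t n)) (hSa n) p z).1 hz
    · intro i n z
      change Canon.HHlin A _ p (Canon.HHlin A _ p z) = Canon.HHlin A _ p (Canon.HHlin A _ p z)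
      rw [← HHlin_comp, ← HHlin_comp]
      congr 2
      exact iMap_ι (𝒢.sq i n)

end Groth.Agent.Helper1.GrSh
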