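import Mathlib
import Groth.Agent.Helper1.FF4
import Groth.Agent.Helper1.GrShP

/-!
# Formal functions relative to a class of coherent modules with finite cohomology
-/

set_option autoImplicit false
set_option linter.style.haveILetI false

namespace Groth.Agent.Helper1.FFP

open CategoryTheory Limits AlgebraicGeometry Opposite Abelian
open Groth.Agent.Helper1.Form Groth.Agent.Helper1.GrSh Groth.Agent.Helper1.Dev
open Groth.Agent.Helper1.Rees Groth.Agent.Helper1.HHLes Groth.Agent.Helper1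
open Groth.Agent.Helper1.FF

universe u

variable {A : Type u} [CommRing A] {X : Scheme.{u}} [X.Over (Spec (CommRingCat.of A))]
variable {I : Ideal A} (M : X.Modules) (p : ℕ)

/-- uniform Mittag-Leffler, assuming finite generation of the Rees cohomology and finiteness of
the pieces -/
theorem uniform_ML [IsNoetherianRing A] {r : ℕ} (a : Fin r → I)
    (hc₀ : ∃ c₀, GrHB.GenFrom (TH A (reesObj I M a) (p + 1)) c₀)
    (hfin : ∀ n, Module.Finite A (Coh.HH X ((reesObj I M a).G n) (p + 1))) :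
    ∃ c : ℕ, ∀ n k (h : n ≤ k), n + c ≤ k →
      ∀ y ∈ Qn I M p k, ΛR I M p n k h y = 0 := by
  obtain ⟨c₀, hc₀⟩ := hc₀
  obtain ⟨c, hc⟩ := GrHB.subGenFrom (comm_TH A (reesObj I M a) (p + 1)) hfin hc₀
    (W := Qn I M p) (by
      intro i n y hy
      change jn I M (p + 1) (n + 1) (Canon.HHlin A (μ I M (a i) n) (p + 1) y) = 0
      rw [jn_mul]
      have : jn I M (p + 1) n y = 0 := hy
      rw [this, smul_zero])
  refine ⟨2 * c, ?_⟩
  have f0 : ∀ n (y : Coh.HH X (Rn I M n) (p + 1)), ΛR I M p n n le_rfl y = y := by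
    intro n y
    change Canon.HHlin A (inclLE I M (le_refl n)) (p + 1) y = y
    rw [inclLE_refl, HHlin_id]
  have f1 : ∀ n k (h : n ≤ k) (y : Coh.HH X (Rn I M (k + 1)) (p + 1)),
      ΛR I M p n (k + 1) (h.trans (Nat.le_succ k)) y =
        ΛR I M p n k h (ΛR I M p k (k + 1) (Nat.le_succ k) y) := by
    intro n k h y
    change Canon.HHlin A _ (p + 1) y = Canon.HHlin A _ (p + 1) (Canon.HHlin A _ (p + 1) y)
    rw [← HHlin_comp, inclLE_comp]
  have f2 : ∀ i n (y : Coh.HH X (Rn I M n) (p + 1)),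
      ΛR I M p n (n + 1) (Nat.le_succ n) (Canon.HHlin A (μ I M (a i) n) (p + 1) y) =
        (a i : A) • y := by
    intro i n y
    change Canon.HHlin A _ (p + 1) (Canon.HHlin A (μ I M (a i) n) (p + 1) y) = _
    rw [← HHlin_comp, μ_inclLE]
    rfl
  have f3 : ∀ n, ∀ y ∈ Qn I M p (n + 1), ΛR I M p n (n + 1) (Nat.le_succ n) y ∈ Qn I M p n := by
    intro n y hy
    change Canon.HHlin A (Rι I M n) (p + 1) (Canon.HHlin A (inclLE I M _) (p + 1) y) = 0
    rw [← HHlin_comp, inclLE_ι]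
    exact hy
  exact GrHB.uniform_zero I (fun i => (a i : A)) (TH A (reesObj I M a) (p + 1))
    (ΛR I M p) (Qn I M p) (fun i => (a i).2) f0 f1 f2 f3
    (smul_eq_zero_of_mem_Qn I M p) hc

/-- the uniform Mittag-Leffler statement on images -/
theorem range_trH [IsNoetherianRing A] {r : ℕ} (a : Fin r → I)
    (hc₀ : ∃ c₀, GrHB.GenFrom (TH A (reesObj I M a) (p + 1)) c₀)
    (hfin : ∀ n, Module.Finite A (Coh.HH X ((reesObj I M a).G n) (p + 1))) :
    ∃ c : ℕ, ∀ n k (h : n ≤ k), n + c ≤ k →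
      LinearMap.range (trH I M p h) = LinearMap.range (θH I M p n) := by
  obtain ⟨c, hc⟩ := uniform_ML M p a hc₀ hfin
  refine ⟨c, fun n k h hk => le_antisymm ?_ ?_⟩
  · rintro _ ⟨x, rfl⟩
    have h1 : δR I M p (n + 1) (trH I M p h x) =
        ΛR I M p (n + 1) (k + 1) (Nat.succ_le_succ h) (δR I M p (k + 1) x) :=
      δ_naturality A (sesR_shortExact I M (k + 1)) (sesR_shortExact I M (n + 1))
        (sesHom I M h) p x
    have h2 : δR I M p (k + 1) x ∈ Qn I M p (k + 1) := by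
      rw [Qn_eq_range]; exact ⟨x, rfl⟩
    rw [hc (n + 1) (k + 1) (Nat.succ_le_succ h) (by omega) _ h2] at h1
    exact (exact_g_δ A (sesR I M (n + 1)) (sesR_shortExact I M (n + 1)) p _).1 h1
  · rintro _ ⟨x, rfl⟩
    exact ⟨θH I M p k x, trH_θH I M p h x⟩

theorem nonempty_addEquiv [IsNoetherianRing A] {r : ℕ} (a : Fin r → I)
    (hc : ∀ q, ∃ c, GrHB.GenFrom (TH A (reesObj I M a) q) c)
    (hfin : ∀ n q, Module.Finite A (Coh.HH X ((reesObj I M a).G n) q)) :
    Nonempty (AdicCompletion I (Coh.HH X M p) ≃+ Formal.HHlim I M p) := by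
  obtain ⟨c, hc1⟩ := hc p
  obtain ⟨c', hc'⟩ := range_trH M p a (hc (p + 1)) (fun n => hfin n (p + 1))
  refine FFLim.nonempty_addEquiv I (θH I M p) (trOne I M p) (Formal.HHlim I M p)
    (mem_HHlim I M p) (trOne_θH I M p) (smul_HHmodPow I M p) (c := c) ?_ ?_
  · intro n hn
    obtain ⟨m, rfl⟩ : ∃ m, n = c + m := ⟨n - c, by omega⟩
    rw [Nat.add_sub_cancel_left]
    exact K_add_le M p a hc1 m
  · intro x hx n
    rw [← hc' n (n + c') (Nat.le_add_right n c') le_rfl]
    exact ⟨x (n + c'), trH_of_mem_HHlim I M p x hx _⟩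

theorem bijective_toHHlim [IsNoetherianRing A] [IsAdicComplete I A] {r : ℕ} (a : Fin r → I)
    (hc : ∀ q, ∃ c, GrHB.GenFrom (TH A (reesObj I M a) q) c)
    (hfin : ∀ n q, Module.Finite A (Coh.HH X ((reesObj I M a).G n) q))
    (hM : Module.Finite A (Coh.HH X M p)) :
    Function.Bijective (Formal.toHHlim I M p) := by
  haveI : IsAdicComplete I (Coh.HH X M p) := isAdicComplete_of_finite I _
  obtain ⟨c, hc1⟩ := hc p
  obtain ⟨c', hc'⟩ := range_trH M p a (hc (p + 1)) (fun n => hfin n (p + 1))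
  refine FFLim.bijective_of_isAdicComplete I (θH I M p) (trOne I M p) (Formal.HHlim I M p)
    (mem_HHlim I M p) (trOne_θH I M p) (smul_HHmodPow I M p) (c := c) ?_ ?_
    (Formal.toHHlim I M p) (fun x n => rfl)
  · intro n hn
    obtain ⟨m, rfl⟩ : ∃ m, n = c + m := ⟨n - c, by omega⟩
    rw [Nat.add_sub_cancel_left]
    exact K_add_le M p a hc1 m
  · intro x hx n
    rw [← hc' n (n + c') (Nat.le_add_right n c') le_rfl]
    exact ⟨x (n + c'), trH_of_mem_HHlim I M p x hx _⟩

/-- finite generation of the Rees cohomology relative to a class -/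
theorem reesFin_of [IsNoetherianRing A] [IsNoetherian X] {Φ : X.Modules → Prop}
    (hΦ : FinClass A Φ) (hM : Coh.IsCoh M) (hMΦ : Φ M) {r : ℕ} (a : Fin r → I)
    (ha : Ideal.span (Set.range fun i => (a i : A)) = I) (q : ℕ) :
    ∃ N, GrHB.GenFrom (TH A (reesObj I M a) q) N :=
  genFrom_HH_of A hΦ r _ (isFG_reesObj M hM a ha)
    (fun n => hΦ.sub (G := Rn I M n) (H := M) (Rι I M n) (isCoh_Rn I n M hM) hM hMΦ) q

theorem finite_Rn_of [IsNoetherianRing A] [IsNoetherian X] {Φ : X.Modules → Prop}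
    (hΦ : FinClass A Φ) (hM : Coh.IsCoh M) (hMΦ : Φ M) {r : ℕ} (a : Fin r → I) (n q : ℕ) :
    Module.Finite A (Coh.HH X ((reesObj I M a).G n) q) :=
  hΦ.fin _ (isCoh_Rn I n M hM)
    (hΦ.sub (G := Rn I M n) (H := M) (Rι I M n) (isCoh_Rn I n M hM) hM hMΦ) q

/-- **formal functions for a member of a class with finite cohomology** -/
theorem nonempty_addEquiv_of [IsNoetherianRing A] [IsNoetherian X] {Φ : X.Modules → Prop}
    (hΦ : FinClass A Φ) (hM : Coh.IsCoh M) (hMΦ : Φ M) :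
    Nonempty (AdicCompletion I (Coh.HH X M p) ≃+ Formal.HHlim I M p) := by
  obtain ⟨r, a, ha⟩ := exists_gens I
  exact nonempty_addEquiv M p a (fun q => reesFin_of M hΦ hM hMΦ a ha q)
    (fun n q => finite_Rn_of M hΦ hM hMΦ a n q)

theorem bijective_toHHlim_of [IsNoetherianRing A] [IsAdicComplete I A] [IsNoetherian X]
    {Φ : X.Modules → Prop} (hΦ : FinClass A Φ) (hM : Coh.IsCoh M) (hMΦ : Φ M) :
    Function.Bijective (Formal.toHHlim I M p) := by
  obtain ⟨r, a, ha⟩ := exists_gens I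
  exact bijective_toHHlim M p a (fun q => reesFin_of M hΦ hM hMΦ a ha q)
    (fun n q => finite_Rn_of M hΦ hM hMΦ a n q) (hΦ.fin M hM hMΦ p)

end Groth.Agent.Helper1.FFP
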