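import Mathlib
import Groth.Agent.Helper1.Dev1
import Groth.Agent.Lead.ProperOver2
import Groth.Agent.Lead.AnnSheaf
import Groth.Agent.S0791
import Groth.Agent.S0020

/-!
# Supports proper over the base
-/

set_option autoImplicit false
set_option linter.style.haveILetI false

namespace Groth.Agent.Helper1.PropSupp

open CategoryTheory Limits AlgebraicGeometry TopologicalSpace

universe u

variable {X S : Scheme.{u}}

/-- a closed subset of a set proper over the base is proper over the base -/
theorem isProperOver_of_subset (f : X ⟶ S) (Z Z' : Set X) (hZ : ClSub.IsProperOver f Z)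
    (hZ' : IsClosed Z') (hsub : Z' ⊆ Z) : ClSub.IsProperOver f Z' := by
  obtain ⟨hcl, hprop⟩ := hZ
  refine ⟨hZ', ?_⟩
  have hle : Scheme.IdealSheafData.vanishingIdeal ⟨Z, hcl⟩ ≤
      Scheme.IdealSheafData.vanishingIdeal ⟨Z', hZ'⟩ :=
    Scheme.IdealSheafData.vanishingIdeal_antimono (show (⟨Z', hZ'⟩ : Closeds X) ≤ ⟨Z, hcl⟩ from hsub)
  have h1 : Scheme.IdealSheafData.inclusion hle ≫
      (Scheme.IdealSheafData.vanishingIdeal ⟨Z, hcl⟩).subschemeι =
      (Scheme.IdealSheafData.vanishingIdeal ⟨Z', hZ'⟩).subschemeι :=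
    Scheme.IdealSheafData.inclusion_subschemeι hle
  haveI : IsClosedImmersion (Scheme.IdealSheafData.inclusion hle) := by
    haveI : IsClosedImmersion (Scheme.IdealSheafData.inclusion hle ≫
        (Scheme.IdealSheafData.vanishingIdeal ⟨Z, hcl⟩).subschemeι) := by
      rw [h1]; infer_instance
    exact IsClosedImmersion.of_comp (Scheme.IdealSheafData.inclusion hle)
      (Scheme.IdealSheafData.vanishingIdeal ⟨Z, hcl⟩).subschemeι
  rw [← h1, Category.assoc]
  infer_instance

/-- a union of two sets proper over the base is proper over the base -/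
theorem isProperOver_union (f : X ⟶ S) [LocallyOfFiniteType f] (Z₁ Z₂ : Set X)
    (h₁ : ClSub.IsProperOver f Z₁) (h₂ : ClSub.IsProperOver f Z₂) :
    ClSub.IsProperOver f (Z₁ ∪ Z₂) := by
  have h := Groth.Agent.S0791.result f Bool (fun b => if b then Z₁ else Z₂)
    (fun b => by cases b <;> simpa)
  have e : (⋃ b : Bool, (if b then Z₁ else Z₂)) = Z₁ ∪ Z₂ := by
    ext x
    simp only [Set.mem_iUnion, Bool.exists_bool, Set.mem_union]
    constructor
    · rintro (h | h)
      · exact Or.inr (by simpa using h)
      · exact Or.inl (by simpa using h)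
    · rintro (h | h)
      · exact Or.inr (by simpa using h)
      · exact Or.inl (by simpa using h)
  rwa [e] at h

end Groth.Agent.Helper1.PropSupp
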