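import Mathlib
import Groth.Agent.Helper1.FFP
import Groth.Agent.Helper1.AffLin
import Groth.Agent.S0792
import Groth.Agent.S0796
import Groth.Agent.S0002

/-!
# Coherent modules with proper support over a Noetherian affine base: finite cohomology, and the
theorem on formal functions
-/

set_option autoImplicit false
set_option linter.style.haveILetI false

namespace Groth.Agent.Helper1.PropSuppFin

open CategoryTheory Limits AlgebraicGeometry Opposite Abelian
open Groth.Agent.Helper1.GrSh Groth.Agent.Helper1

universe u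

variable (A : Type u) [CommRing A] [IsNoetherianRing A] (X : Scheme.{u})
  [X.Over (Spec (CommRingCat.of A))]

/-- finiteness of the cohomology of a coherent module with proper support -/
theorem finite_HH [LocallyOfFiniteType (X ↘ Spec (CommRingCat.of A))] (G : X.Modules)
    (hG : Coh.IsCoh G)
    (hs : ClSub.IsProperOver (X ↘ Spec (CommRingCat.of A)) (CohB1.support G)) (p : ℕ) :
    Module.Finite A (Coh.HH X G p) := by
  obtain ⟨Z, i, hi, hprop, G', hq', hft', ⟨e⟩⟩ :=
    (Groth.Agent.S0792.result (X ↘ Spec (CommRingCat.of A)) G hG.1 hG.2).1 hs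
  letI : Z.Over (Spec (CommRingCat.of A)) := ⟨i ≫ (X ↘ Spec (CommRingCat.of A))⟩
  haveI : IsProper (Z ↘ Spec (CommRingCat.of A)) := hprop
  haveI : Coh.IsQCoh G' := hq'
  haveI : IsAffineHom i := inferInstance
  obtain ⟨ψ⟩ := AffLin.nonempty_HH_linearEquiv i A rfl G' p
  haveI : Module.Finite A (Coh.HH Z G' p) := Groth.Agent.S0002.result A Z G' ⟨hq', hft'⟩ p
  have hsurj : Function.Surjective ((Canon.HHlin A e.hom p).comp ψ.toLinearMap) := by
    intro y
    refine ⟨ψ.symm (Canon.HHlin A e.inv p y), ?_⟩
    change Canon.HHlin A e.hom p (ψ (ψ.symm (Canon.HHlin A e.inv p y))) = y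
    rw [LinearEquiv.apply_symm_apply]
    change Canon.HHlin A e.hom p (Canon.HHlin A e.inv p y) = y
    rw [← HHlin_comp, e.inv_hom_id, HHlin_id]
  exact Module.Finite.of_surjective _ hsurj

/-- the class of coherent modules with proper support -/
theorem finClass [LocallyOfFiniteType (X ↘ Spec (CommRingCat.of A))] [IsLocallyNoetherian X] :
    FinClass A (fun G : X.Modules =>
      ClSub.IsProperOver (X ↘ Spec (CommRingCat.of A)) (CohB1.support G)) where
  sub {G H} i _ hG hH hP := by
    have hE : (ShortComplex.mk i (cokernel.π i) (cokernel.condition i)).ShortExact :=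
      { exact := ShortComplex.exact_cokernel i
        mono_f := ‹_›
        epi_g := inferInstanceAs (Epi (cokernel.π i)) }
    exact ((Groth.Agent.S0796.result (X ↘ Spec (CommRingCat.of A)) _ hE hG hH
      (Groth.Agent.Lead.PerfLib.isCoh_cokernel hG hH i)).1 hP).1
  quot {G H} q _ hG hH hP := by
    have hE : (ShortComplex.mk (kernel.ι q) q (kernel.condition q)).ShortExact :=
      { exact := ShortComplex.exact_kernel q
        mono_f := inferInstanceAs (Mono (kernel.ι q))
        epi_g := ‹_› }
    exact ((Groth.Agent.S0796.result (X ↘ Spec (CommRingCat.of A)) _ hE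
      (Groth.Agent.Lead.PerfLib.isCoh_kernel hG hH q) hG hH).1 hP).2
  fin G hG hP p := finite_HH A X G hG hP p

lemma isNoetherian_X [LocallyOfFiniteType (X ↘ Spec (CommRingCat.of A))]
    [QuasiCompact (X ↘ Spec (CommRingCat.of A))] : IsNoetherian X := by
  haveI : CompactSpace X :=
    QuasiCompact.compactSpace_of_compactSpace (X ↘ Spec (CommRingCat.of A))
  exact { __ := LocallyOfFiniteType.isLocallyNoetherian (X ↘ Spec (CommRingCat.of A)) }

variable {A X}

theorem s4478 [LocallyOfFiniteType (X ↘ Spec (CommRingCat.of A))]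
    [QuasiCompact (X ↘ Spec (CommRingCat.of A))] (I : Ideal A) (F : X.Modules)
    (hF : Coh.IsCoh F)
    (hs : ClSub.IsProperOver (X ↘ Spec (CommRingCat.of A)) (CohB1.support F)) (p : ℕ) :
    Nonempty (AdicCompletion I (Coh.HH X F p) ≃+ Formal.HHlim I F p) := by
  haveI := isNoetherian_X A X
  exact FFP.nonempty_addEquiv_of F p (finClass A X) hF hs

theorem s4460 [LocallyOfFiniteType (X ↘ Spec (CommRingCat.of A))]
    [QuasiCompact (X ↘ Spec (CommRingCat.of A))] (I : Ideal A) [IsAdicComplete I A]
    (M : X.Modules) (hM : Coh.IsCoh M)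
    (hs : ClSub.IsProperOver (X ↘ Spec (CommRingCat.of A)) (CohB1.support M)) (p : ℕ) :
    Function.Bijective (Formal.toHHlim I M p) := by
  haveI := isNoetherian_X A X
  exact FFP.bijective_toHHlim_of M p (finClass A X) hM hs

end Groth.Agent.Helper1.PropSuppFin
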