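import Mathlib
import Groth.Agent.Helper1.DeltaComp
import Groth.Agent.Helper4.OpenBC
import Groth.Agent.Helper4.RestrKInj
import Groth.Agent.Helper9.Lpull5
import Groth.Agent.Helper9.RpushCmp

/-!
# Higher direct images commute with restriction to opens of the base (module level)
-/

set_option autoImplicit false

namespace Groth.Agent.Helper1.RpRestr

open CategoryTheory Limits AlgebraicGeometry Opposite TopologicalSpace
open Groth.Agent.Helper1.DeltaFun

universe u

variable {X S : Scheme.{u}} (f : X ⟶ S) (V : S.Opens)

instance (j : X ⟶ S) [IsOpenImmersion j] : (Scheme.Modules.restrictFunctor j).Additive := by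
  haveI : PreservesBinaryBiproducts (Scheme.Modules.restrictFunctor j) :=
    preservesBinaryBiproducts_of_preservesBinaryProducts _
  exact Functor.additive_of_preservesBinaryBiproducts _

/-- restriction to an open preserves injective modules -/
lemma injective_restrict (U : X.Opens) (I : X.Modules) [Injective I] :
    Injective ((Scheme.Modules.restrictFunctor U.ι).obj I) := by
  haveI := Groth.Agent.Helper4.RestrKInj.preservesFiniteLimits_extZero U
  exact Injective.injective_of_adjoint (CxOX.extZeroAdj U.ι) I

theorem nonempty_iso [HasInjectiveResolutions X.Modules]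
    [HasInjectiveResolutions (f ⁻¹ᵁ V : Scheme.{u}).Modules] (n : ℕ) :
    Nonempty (Coh.Rpush f n ⋙ Scheme.Modules.restrictFunctor V.ι ≅
      Scheme.Modules.restrictFunctor (f ⁻¹ᵁ V).ι ⋙ Coh.Rpush (f ∣_ V) n) := by
  haveI : EnoughInjectives X.Modules :=
    Groth.Agent.Helper9.ModCechExt.enoughInjectives_mod X.ringCatSheaf
  let Q : X.Modules ⥤ (V : Scheme.{u}).Modules :=
    Scheme.Modules.pushforward f ⋙ Scheme.Modules.restrictFunctor V.ι
  haveI : PreservesFiniteLimits (Scheme.Modules.pushforward f) :=
    inferInstanceAs (PreservesFiniteLimits (Coh.push f))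
  haveI : PreservesFiniteLimits (Scheme.Modules.pushforward (f ∣_ V)) :=
    inferInstanceAs (PreservesFiniteLimits (Coh.push (f ∣_ V)))
  haveI : PreservesFiniteLimits Q := comp_preservesFiniteLimits _ _
  haveI : Q.Additive := by dsimp [Q]; infer_instance
  -- post-composition
  let T₁ : DeltaFunctor X.Modules (V : Scheme.{u}).Modules :=
    (rightDerivedDelta (Scheme.Modules.pushforward f)).postcomp
      (Scheme.Modules.restrictFunctor V.ι)
  have hT₁ : T₁.Effaceable := fun I _ n =>
    Functor.map_isZero (Scheme.Modules.restrictFunctor V.ι)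
      (Functor.isZero_rightDerived_obj_injective_succ (Scheme.Modules.pushforward f) n I)
  have e₁ : T₁.T 0 ≅ (rightDerivedDelta Q).T 0 :=
    Functor.isoWhiskerRight (Scheme.Modules.pushforward f).rightDerivedZeroIsoSelf _ ≪≫
      Q.rightDerivedZeroIsoSelf.symm
  obtain ⟨i₁⟩ := nonempty_iso_of_effaceable T₁ (rightDerivedDelta Q) hT₁
    (rightDerivedDelta_effaceable Q) e₁ n
  -- pre-composition
  obtain ⟨i₂⟩ := nonempty_iso_rightDerived_comp
    (Scheme.Modules.restrictFunctor (f ⁻¹ᵁ V).ι)
    (fun S hS => hS.map_of_exact _)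
    (Scheme.Modules.pushforward (f ∣_ V)) Q (Groth.Agent.Helper4.OpenBC.iso f V).symm
    (fun I _ n => by
      have := injective_restrict (f ⁻¹ᵁ V) I
      exact Functor.isZero_rightDerived_obj_injective_succ _ _ _) n
  exact ⟨i₁ ≪≫ i₂⟩

end Groth.Agent.Helper1.RpRestr
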