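import Mathlib
import Groth.Agent.Helper1.SecLin2
import Groth.Agent.Helper1.RpRestr
import Groth.Agent.Helper4.SubExt
import Groth.Agent.Helper4.FTGlue
import Groth.Agent.Helper4.SchAdj

/-!
# Coherence of higher direct images from finiteness of cohomology over affine opens of the base
-/

set_option autoImplicit false

namespace Groth.Agent.Helper1.RpCoh

open CategoryTheory Limits AlgebraicGeometry Opposite TopologicalSpace
open Groth.Agent.Helper4

universe u

/-- finiteness of the global sections of `Rᵖ g_* M` over an affine base -/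
theorem finite_sections_top {U D : Scheme.{u}} (g : U ⟶ D) [IsAffine D] [QuasiCompact g]
    [QuasiSeparated g] [HasInjectiveResolutions U.Modules] (M : U.Modules) [Coh.IsQCoh M] (p : ℕ)
    (hfin : letI := Module.compHom (Coh.HH U M p) (g.appTop.hom : Γ(D, ⊤) →+* Coh.Γtop U)
      Module.Finite Γ(D, ⊤) (Coh.HH U M p)) :
    Module.Finite Γ(D, ⊤) Γ((Coh.Rpush g p).obj M, ⊤) := by
  letI := Module.compHom (Coh.HH U M p) (g.appTop.hom : Γ(D, ⊤) →+* Coh.Γtop U)
  obtain ⟨ψ, hψ⟩ := Groth.Agent.Helper1.SecLin.exists_addEquiv_sections_Rpush g M p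
  let e : Coh.HH U M p ≃ₗ[Γ(D, ⊤)] Γ((Coh.Rpush g p).obj M, ⊤) :=
    { ψ with map_smul' := fun r x => hψ r x }
  exact Module.Finite.equiv e

variable {X S : Scheme.{u}} (f : X ⟶ S)

/-- local-to-global: `Rᵖ f_* M` is coherent as soon as the cohomology of `M` over the preimages
of the affine opens of the base is finite -/
theorem isCoh_Rpush_of_finite [QuasiCompact f] [QuasiSeparated f]
    [HasInjectiveResolutions X.Modules] (M : X.Modules) [Coh.IsQCoh M] (p : ℕ)
    (h : ∀ D : S.Opens, IsAffineOpen D →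
      letI := Module.compHom (Coh.HH (f ⁻¹ᵁ D : Scheme.{u}) (M.restrict (f ⁻¹ᵁ D).ι) p)
        ((f ∣_ D).appTop.hom : Γ((D : Scheme.{u}), ⊤) →+* Coh.Γtop (f ⁻¹ᵁ D : Scheme.{u}))
      Module.Finite Γ((D : Scheme.{u}), ⊤)
        (Coh.HH (f ⁻¹ᵁ D : Scheme.{u}) (M.restrict (f ⁻¹ᵁ D).ι) p)) :
    Coh.IsCoh ((Coh.Rpush f p).obj M) := by
  haveI hq : Coh.IsQCoh ((Coh.Rpush f p).obj M) := Groth.Agent.S0030.result f M p
  refine ⟨hq, ?_⟩
  apply FTGlue.isFiniteType_of_finite_sections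
  intro y
  obtain ⟨D, hD, hyD⟩ := QcohLimits.exists_affine_nhd y
  refine ⟨D, hD, hyD, ?_⟩
  haveI : IsAffine (D : Scheme.{u}) := hD
  haveI := SchAdj.isGrothendieckAbelian_modules (f ⁻¹ᵁ D : Scheme.{u})
  haveI : HasInjectiveResolutions (f ⁻¹ᵁ D : Scheme.{u}).Modules := inferInstance
  haveI : Coh.IsQCoh (M.restrict (f ⁻¹ᵁ D).ι) := inferInstance
  have h1 := finite_sections_top (f ∣_ D) (M.restrict (f ⁻¹ᵁ D).ι) p (h D hD)
  obtain ⟨i⟩ := Groth.Agent.Helper1.RpRestr.nonempty_iso f D p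
  let j : ((Coh.Rpush f p).obj M).restrict D.ι ≅
      (Coh.Rpush (f ∣_ D) p).obj (M.restrict (f ⁻¹ᵁ D).ι) := i.app M
  have h2 : Module.Finite Γ((D : Scheme.{u}), ⊤) Γ(((Coh.Rpush f p).obj M).restrict D.ι, ⊤) := by
    haveI := h1
    refine Module.Finite.of_surjective (QcohEpi.appLin j.inv ⊤) ?_
    intro x
    refine ⟨(QcohEpi.appLin j.hom ⊤) x, ?_⟩
    show (j.inv.app ⊤) ((j.hom.app ⊤) x) = x
    have : j.hom ≫ j.inv = 𝟙 _ := j.hom_inv_id
    have h3 := congrArg (fun φ => (Scheme.Modules.Hom.app φ ⊤) x) this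
    exact h3
  rw [SubExt.finite_restrict_iff] at h2
  rw [Scheme.Opens.ι_image_top] at h2
  exact h2

end Groth.Agent.Helper1.RpCoh
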