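import Mathlib
import Groth.Agent.Helper1.RpCoh
import Groth.Agent.Helper1.PropSuppFin
import Groth.Agent.Helper4.FTRestrict

/-!
# Coherence of `Rᵖ f_*` of a coherent module for proper `f` over a locally Noetherian base
-/

set_option autoImplicit false

namespace Groth.Agent.Helper1.RpCoh

open CategoryTheory Limits AlgebraicGeometry Opposite TopologicalSpace
open Groth.Agent.Helper4

universe u

lemma toGlobal_comp_isoSpec {U D : Scheme.{u}} (g : U ⟶ D) [IsAffine D] :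
    Coh.toGlobal (A := Γ(D, ⊤)) (g ≫ D.isoSpec.hom) = (g.appTop.hom : Γ(D, ⊤) →+* Coh.Γtop U) := by
  ext a
  show ((g ≫ D.isoSpec.hom).appTop).hom ((Scheme.ΓSpecIso (CommRingCat.of Γ(D, ⊤))).inv.hom a) = _
  rw [Scheme.Hom.comp_appTop]
  show g.appTop.hom (D.isoSpec.hom.appTop.hom ((Scheme.ΓSpecIso Γ(D, ⊤)).inv.hom a)) = _
  congr 1
  have : D.isoSpec.hom.appTop = (Scheme.ΓSpecIso Γ(D, ⊤)).hom := Scheme.toSpecΓ_appTop D
  rw [this]
  show ((Scheme.ΓSpecIso Γ(D, ⊤)).inv ≫ (Scheme.ΓSpecIso Γ(D, ⊤)).hom).hom a = a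
  rw [Iso.inv_hom_id]
  rfl

/-- finiteness of cohomology over an affine Noetherian base, for the module structure through
`g.appTop` -/
theorem finite_HH_compHom {U D : Scheme.{u}} (g : U ⟶ D) [IsAffine D] [IsProper g]
    [IsNoetherianRing Γ(D, ⊤)] (M : U.Modules) (hM : Coh.IsCoh M) (p : ℕ) :
    letI := Module.compHom (Coh.HH U M p) (g.appTop.hom : Γ(D, ⊤) →+* Coh.Γtop U)
    Module.Finite Γ(D, ⊤) (Coh.HH U M p) := by
  letI : U.Over (Spec (CommRingCat.of Γ(D, ⊤))) := ⟨g ≫ D.isoSpec.hom⟩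
  haveI : IsProper (U ↘ Spec (CommRingCat.of Γ(D, ⊤))) := by
    change IsProper (g ≫ D.isoSpec.hom)
    infer_instance
  have h := Groth.Agent.S0002.result Γ(D, ⊤) U M hM p
  have e : Coh.moduleOver Γ(D, ⊤) U M p =
      Module.compHom (Coh.HH U M p) (g.appTop.hom : Γ(D, ⊤) →+* Coh.Γtop U) := by
    show Module.compHom (Coh.HH U M p) (Coh.toGlobal (U ↘ Spec (CommRingCat.of Γ(D, ⊤)))) = _
    congr 1
    exact toGlobal_comp_isoSpec g
  rw [← e]
  exact h

variable {X S : Scheme.{u}} (f : X ⟶ S)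

theorem s0036 [IsProper f] [IsLocallyNoetherian S] [HasInjectiveResolutions X.Modules]
    (M : X.Modules) (hM : Coh.IsCoh M) (i : ℕ) : Coh.IsCoh ((Coh.Rpush f i).obj M) := by
  haveI : Coh.IsQCoh M := hM.1
  apply isCoh_Rpush_of_finite
  intro D hD
  haveI : IsAffine (D : Scheme.{u}) := hD
  haveI : IsNoetherianRing Γ(S, D) := IsLocallyNoetherian.component_noetherian ⟨D, hD⟩
  haveI : IsNoetherianRing Γ((D : Scheme.{u}), ⊤) := isNoetherianRing_of_ringEquiv _
    (Scheme.restrictFunctorΓ.app (op D)).symm.commRingCatIsoToRingEquiv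
  have hM' : Coh.IsCoh (M.restrict (f ⁻¹ᵁ D).ι) :=
    ⟨inferInstance, FTRestrict.isFT_restrict _ M hM.2⟩
  exact finite_HH_compHom (f ∣_ D) _ hM' i

end Groth.Agent.Helper1.RpCoh
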