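import Groth.Agent.Helper1.UGC7

set_option autoImplicit false
set_option linter.style.haveILetI false
set_option linter.unusedSectionVars false
set_option linter.unusedVariables false

/-!
# The direct image is locally free of rank `r` and commutes with all base changes iff all points
are good of rank `r`
-/

namespace Groth.Agent.Helper1.UGC

open CategoryTheory Limits Opposite TopologicalSpace AlgebraicGeometry TensorProduct
  AlgebraicGeometry.Scheme.Modules Topology
open Groth.Agent.Helper1.BaseChart Groth.Agent.Helper1.GBC Groth.Agent.Helper1.HMap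
open Groth.Agent.Lead.BCMap Groth.Agent.Helper1.FlatCx Groth.Agent.Helper1.NoethApx
open Groth.Agent.Helper1.BCFlatCoh Groth.Agent.Helper1 Groth.Agent.Helper1.SCV

universe u

variable {X S : Scheme.{u}} (f : X ⟶ S)

/-- the point `s` is good of rank `r`: `T^0` is right exact at `s` and the fibre has rank `r` -/
def PtGood (F : X.Modules) (r : ℕ) (s : S) : Prop :=
  GoodAt f F 0 s ∧ CohIII.fiberRank f F 0 s = r

/-- **the direct image is locally free of rank `r` and its formation commutes with all base
changes iff all points are good of rank `r`** -/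
theorem univ_locFree_iff [IsProper f] [LocallyOfFinitePresentation f]
    (F : X.Modules) [Coh.IsQCoh F] (hF : CohB1.IsFP F) (hfl : FlatMod.IsFlatOver f F) (r : ℕ) :
    (FlatMod.IsFinLocFreeOfRank r ((pushforward f).obj F) ∧
      ∀ ⦃X' S' : Scheme.{u}⦄ (g' : X' ⟶ X) (f' : X' ⟶ S') (g : S' ⟶ S)
        (h : IsPullback g' f' f g), IsIso (CohBC.bc0 f g f' g' h.w F)) ↔
      ∀ s : S, PtGood f F r s := by
  haveI : F.IsQuasicoherent := inferInstance
  haveI qN : ((pushforward f).obj F).IsQuasicoherent :=
    Groth.Agent.Helper4.QcohGlue.isQuasicoherent_pushforward f F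
  constructor
  · rintro ⟨h1, h2⟩ s
    obtain ⟨W, hW, hs, -⟩ := exists_isAffineOpen_mem_and_subset (x := s)
      (U := (⊤ : S.Opens)) trivial
    haveI : IsAffine (W : Scheme.{u}) := hW
    obtain ⟨K, M, h0⟩ := exists_master0 f W F hF hfl
    have hfib : IsPullback (f.fiberι s) (f.fiberToSpecResidueField s) f
        (S.fromSpecResidueField s) := IsPullback.of_hasPullback _ _
    haveI hiso := h2 _ _ _ hfib
    have hepi : Epi (CohBC.bc0 f (S.fromSpecResidueField s) (f.fiberToSpecResidueField s)
        (f.fiberι s) (f.fiber_fac s) F) := by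
      have : Epi (CohBC.bc0 f (S.fromSpecResidueField s) (f.fiberToSpecResidueField s)
        (f.fiberι s) hfib.w F) := inferInstance
      exact this
    have hgood := (M.bc0_epi_iff s hs).mp hepi
    refine ⟨⟨W, hW, hs, K, M, hgood⟩, ?_⟩
    obtain ⟨U, hsU, hU⟩ := UGC.Master.exists_free_nhd0 M h0 s hs hgood
    obtain ⟨U', hsU', hU'⟩ := h1 s
    exact rank_unique _ s hsU hsU' hU hU'
  · intro hg
    refine ⟨fun s => ?_, fun X' S' g' f' g h => ?_⟩
    · obtain ⟨W, hW, hs, -⟩ := exists_isAffineOpen_mem_and_subset (x := s)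
        (U := (⊤ : S.Opens)) trivial
      haveI : IsAffine (W : Scheme.{u}) := hW
      obtain ⟨K, M, h0⟩ := exists_master0 f W F hF hfl
      have hgood := (goodAt_iff M s hs).mp (hg s).1
      obtain ⟨U, hsU, hU⟩ := UGC.Master.exists_free_nhd0 M h0 s hs hgood
      rw [(hg s).2] at hU
      exact ⟨U, hsU, hU⟩
    · exact isIso_bc0_of_goodAt h F (fun z => (hg (g z)).1)

end Groth.Agent.Helper1.UGC
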