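import Mathlib
import Groth.Agent.Helper1.HT9
import Groth.Agent.Helper1.HT11
import Groth.Agent.Helper1.UGC8
import Groth.Agent.Lead.FpqcSheaf3
import Groth.Agent.Helper1.RpCoh2
import Groth.Agent.Lead.PerfLib5
import Groth.Agent.Lead.LimPres

/-!
# HT12: over a locally noetherian base on which the pullback of `F` is flat, the pullbacks of the
direct images of the large twists are locally free, of the rank given by the fibres
-/

set_option autoImplicit false
set_option linter.style.haveILetI false
set_option linter.unusedSectionVars false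
set_option maxHeartbeats 400000

universe u
open CategoryTheory CategoryTheory.Limits AlgebraicGeometry Opposite TopologicalSpace
open AlgebraicGeometry.Scheme.Modules

namespace Groth.Agent.Helper1.HT

variable {X S : Scheme.{u}}

open Groth.Agent.Helper1.SCV Groth.Agent.Helper1.BaseChart in
/-- cohomology and base change in degree zero, with the rank -/
theorem exists_free_nhd_of_h1 (f : X ⟶ S) [IsProper f] [LocallyOfFinitePresentation f]
    (F : X.Modules) [Coh.IsQCoh F] (hFP : CohB1.IsFP F)
    (hfl : FlatMod.IsFlatOver f F) (y : S) (h1 : Subsingleton (CohIII.fiberH f F y 1)) :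
    ∃ U : S.Opens, y ∈ U ∧ Nonempty (((pushforward f).obj F).restrict U.ι ≅
      FlatMod.freeMod (↑U) (CohIII.fiberRank f F 0 y)) := by
  obtain ⟨W, hW, hyW, -⟩ := exists_isAffineOpen_mem_and_subset (x := y)
    (U := (⊤ : S.Opens)) trivial
  haveI : IsAffine (W : Scheme.{u}) := hW
  obtain ⟨K, M, h0⟩ := exists_master0 f W F hFP hfl
  have hgood : chartPt W y hyW ∈ OLoc W K 0 := M.mem_OLoc_of_subsingleton_succ 0 y hyW h1
  exact Groth.Agent.Helper1.UGC.Master.exists_free_nhd0 M h0 y hyW hgood

/-- the direct image of a coherent module under a proper morphism is coherent -/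
theorem isCoh_pushforward_of_isProper (f : X ⟶ S) [IsProper f] [IsLocallyNoetherian S]
    (M : X.Modules) (hM : Coh.IsCoh M) : Coh.IsCoh ((pushforward f).obj M) := by
  haveI := Groth.Agent.Helper4.SchAdj.isGrothendieckAbelian_modules X
  haveI : HasInjectiveResolutions X.Modules := inferInstance
  haveI : Coh.IsQCoh M := hM.1
  obtain ⟨j⟩ := Groth.Agent.Helper1.SCV.nonempty_push_iso_Rpush_zero (f := f) M
  exact Groth.Agent.Lead.PerfLib.isCoh_of_iso j.symm
    (Groth.Agent.Helper1.RpCoh.s0036 f M hM 0)

/-- the good twists: vanishing of the higher cohomology of all fibres, and base change to all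
field valued points -/
def GoodTwist (f : X ⟶ S) (G : X.Modules) : Prop :=
  (∀ (s : S) (i : ℕ), 0 < i → Subsingleton (PerfAux.fiberH f G s i)) ∧
    ∀ (K : Type u) [Field K] (x : Spec (CommRingCat.of K) ⟶ S), BCIso f G x

/-- **all large twists are good** -/
theorem exists_goodTwist [IsNoetherian S] (f : X ⟶ S) [IsProper f] {L : X.Modules}
    (hL : RelAmple.IsRelAmple f L) (F : X.Modules) (hF : Coh.IsCoh F) :
    ∃ N : ℕ, ∀ n : ℕ, N ≤ n → GoodTwist f (CohB1.tensorMod F (CohB1.tensorPow L n)) := by
  obtain ⟨N, hN⟩ := unifOn f hL F hF ⊤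
  refine ⟨N, fun n hn => ⟨fun s i hi => (hN n hn).1 s trivial i hi, fun K _ x => ?_⟩⟩
  exact (hN n hn).2 K x (fun _ => trivial)

/-- **the pullback of the direct image of a good module to a base over which it becomes flat is
locally free, of the rank given by the fibres** -/
theorem locFree_pullback_of_goodTwist (f : X ⟶ S) [IsProper f] [IsLocallyNoetherian S]
    (G : X.Modules) (hG : Coh.IsCoh G) (hgood : GoodTwist f G)
    {T X' : Scheme.{u}} [IsLocallyNoetherian T] (φ : T ⟶ S) (f' : X' ⟶ T) (g' : X' ⟶ X)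
    (hsq : IsPullback g' f' f φ)
    (hfl : FlatMod.IsFlatOver f' ((Scheme.Modules.pullback g').obj G)) (t : T) :
    ∃ U : T.Opens, t ∈ U ∧ Nonempty
      (((Scheme.Modules.pullback φ).obj ((pushforward f).obj G)).restrict U.ι ≅
        FlatMod.freeMod (↑U) (PerfAux.betti f G (φ t) 0)) := by
  haveI : G.IsQuasicoherent := hG.1
  haveI : IsProper f' := MorphismProperty.of_isPullback (P := @IsProper) hsq inferInstance
  haveI : LocallyOfFinitePresentation f' :=
    Groth.Agent.Helper1.SS.lofp_of_isLocallyNoetherian f'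
  haveI : IsLocallyNoetherian X' := LocallyOfFiniteType.isLocallyNoetherian f'
  haveI : IsLocallyNoetherian X := LocallyOfFiniteType.isLocallyNoetherian f
  have hG' : Coh.IsCoh ((Scheme.Modules.pullback g').obj G) :=
    Groth.Agent.Lead.FlatUnivJ.isCoh_pullback _ G hG
  haveI : ((Scheme.Modules.pullback g').obj G).IsQuasicoherent := hG'.1
  haveI : Coh.IsQCoh ((Scheme.Modules.pullback g').obj G) := hG'.1
  have hFP' : CohB1.IsFP ((Scheme.Modules.pullback g').obj G) :=
    Groth.Agent.Helper4.CohFP.isFP_of_isCoh _ hG'.1 hG'.2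
  have h1' : ∀ (t : T) (i : ℕ), 0 < i →
      Subsingleton (PerfAux.fiberH f' ((Scheme.Modules.pullback g').obj G) t i) :=
    fun t i hi => (subsingleton_fiberH_pullback_iff hsq G t i).2 (hgood.1 (φ t) i hi)
  obtain ⟨hlf, hbc⟩ := bcIso_of_flat_of_h1 f' _ hFP' hfl (fun t => h1' t 1 one_pos)
  -- the base change morphism is an isomorphism
  have hE : Coh.IsCoh ((pushforward f).obj G) := isCoh_pushforward_of_isProper f G hG
  haveI : ((pushforward f).obj G).IsQuasicoherent := hE.1
  haveI : ((Scheme.Modules.pullback φ).obj ((pushforward f).obj G)).IsQuasicoherent :=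
    Groth.Agent.Lead.StalkPull.isQuasicoherent_pullbackObj φ _
  have hft : SheafOfModules.IsFiniteType (R := T.ringCatSheaf)
      ((Scheme.Modules.pullback φ).obj ((pushforward f).obj G)) :=
    Groth.Agent.Lead.LimPres.isFT_pullback φ _ hE.2
  haveI hiso : IsIso (CohBC.bc0 f φ f' g' hsq.w G) := by
    refine isIso_of_fibres hft hlf _ (fun t => ?_)
    have hsqL : IsPullback (pullback.fst f' (T.fromSpecResidueField t))
        (pullback.snd f' (T.fromSpecResidueField t)) f' (T.fromSpecResidueField t) :=
      IsPullback.of_hasPullback _ _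
    have hbig := hsqL.paste_horiz hsq
    have i1 := hgood.2 (T.residueField t) (T.fromSpecResidueField t ≫ φ) _ _ hbig
    have i2 := hbc (T.fromSpecResidueField t) _ _ hsqL
    exact isIso_pullback_map_bc0 f φ f' g' hsq.w (T.fromSpecResidueField t)
      (pullback.snd f' (T.fromSpecResidueField t)) (pullback.fst f' (T.fromSpecResidueField t))
      hsqL.w G i1 i2
  -- the rank
  obtain ⟨U, htU, ⟨ε⟩⟩ := exists_free_nhd_of_h1 f' _ hFP' hfl t (h1' t 1 one_pos)
  refine ⟨U, htU, ⟨(Scheme.Modules.restrictFunctor U.ι).mapIso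
    (asIso (CohBC.bc0 f φ f' g' hsq.w G)) ≪≫ ε ≪≫ eqToIso ?_⟩⟩
  congr 1
  exact Groth.Agent.Helper1.HP.betti_pullback_of_qcoh hsq G t 0

end Groth.Agent.Helper1.HT
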