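import Mathlib
import Groth.Agent.Helper1.HT12
import Groth.Agent.Helper1.FlatTw8
import Groth.Agent.Helper5.LscDim1

/-!
# HT13: base change of large twists along immersions; flatness over the loci where the direct
images of the large twists become locally free; the rank of the fibres
-/

set_option autoImplicit false
set_option linter.style.haveILetI false
set_option linter.unusedSectionVars false
set_option maxHeartbeats 400000

universe u
open CategoryTheory CategoryTheory.Limits AlgebraicGeometry Opposite TopologicalSpace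
open AlgebraicGeometry.Scheme.Modules

namespace Groth.Agent.Helper1.HT

variable {X S : Scheme.{u}}

/-- every module is flat over the spectrum of a field -/
theorem isFlatOver_of_field (K : Type u) [Field K] {X' : Scheme.{u}}
    (f' : X' ⟶ Spec (CommRingCat.of K)) (M : X'.Modules) : FlatMod.IsFlatOver f' M := by
  intro x
  have hbot : PrimeSpectrum.asIdeal (f' x) = ⊥ := by
    rcases Ideal.eq_bot_or_top (PrimeSpectrum.asIdeal (f' x)) with h | h
    · exact h
    · exact absurd h (PrimeSpectrum.isPrime (f' x)).ne_top
  have hfield := Groth.Agent.Helper5.LscDim.isField_stalk_of_asIdeal_eq_bot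
    (R := CommRingCat.of K) (f' x) hbot
  unfold FlatMod.IsFlatOverAt
  letI := FlatMod.moduleStalkOver f' M x
  letI := hfield.toField
  infer_instance

/-- **base change for large twists along an immersion** -/
theorem exists_bcIso_immersion [IsNoetherian S] (f : X ⟶ S) [IsProper f] {Z : Scheme.{u}}
    (e : Z ⟶ S) [IsImmersion e] {L : X.Modules} (hL : RelAmple.IsRelAmple f L)
    (F : X.Modules) (hF : Coh.IsCoh F) :
    ∃ n₀ : ℕ, ∀ n : ℕ, n₀ ≤ n → BCIso f (CohB1.tensorMod F (CohB1.tensorPow L n)) e := by
  have hLinv : PicF.IsInvertible L :=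
    Groth.Agent.Helper4.RelCompTwist.isInvertible_of_isRelAmple f L hL
  haveI : IsLocallyNoetherian X := LocallyOfFiniteType.isLocallyNoetherian f
  set V := e.coborderRange with hV
  haveI : IsLocallyNoetherian (V : Scheme.{u}) := LocallyOfFiniteType.isLocallyNoetherian V.ι
  haveI : CompactSpace (V : Scheme.{u}) := by
    haveI : NoetherianSpace S := inferInstance
    haveI : NoetherianSpace (V : Scheme.{u}) :=
      V.ι.isOpenEmbedding.isInducing.noetherianSpace
    infer_instance
  haveI : IsNoetherian (V : Scheme.{u}) := {}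
  have hLV := Groth.Agent.Helper4.PullBC.isRelAmple_baseChange f V.ι L hL
  have hFV : Coh.IsCoh ((Scheme.Modules.pullback (pullback.fst f V.ι)).obj F) :=
    Groth.Agent.Lead.FlatUnivJ.isCoh_pullback _ F hF
  obtain ⟨n₀, hn₀⟩ := exists_bcIso_closed (pullback.snd f V.ι) e.liftCoborder hLV _ hFV
  refine ⟨n₀, fun n hn => ?_⟩
  haveI : (CohB1.tensorMod F (CohB1.tensorPow L n)).IsQuasicoherent :=
    (Groth.Agent.Helper1.HP.isCoh_twistPow hLinv F hF n).1
  have h1 : BCIso f (CohB1.tensorMod F (CohB1.tensorPow L n)) V.ι := bcIso_of_flat f _ V.ι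
  have h2 : BCIso (pullback.snd f V.ι)
      ((Scheme.Modules.pullback (pullback.fst f V.ι)).obj
        (CohB1.tensorMod F (CohB1.tensorPow L n))) e.liftCoborder :=
    BCIso.of_iso _ (Groth.Agent.Helper1.HP.pullTwistIso (pullback.fst f V.ι) hLinv F n).symm
      (hn₀ n hn)
  exact BCIso.congr f e.liftCoborder_ι (BCIso.comp f h1 h2)

/-- **flatness over an immersed subscheme over which the direct images of the large twists
become locally free** -/
theorem isFlatOver_of_locFree_pullback [IsNoetherian S] (f : X ⟶ S) [IsProper f] {Z : Scheme.{u}}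
    (e : Z ⟶ S) [IsImmersion e] {L : X.Modules} (hL : RelAmple.IsRelAmple f L)
    (F : X.Modules) (hF : Coh.IsCoh F) (N : ℕ)
    (h : ∀ n : ℕ, N ≤ n → FlatMod.IsFinLocFree ((Scheme.Modules.pullback e).obj
      ((pushforward f).obj (CohB1.tensorMod F (CohB1.tensorPow L n))))) :
    FlatMod.IsFlatOver (pullback.snd f e) ((Scheme.Modules.pullback (pullback.fst f e)).obj F) := by
  have hLinv : PicF.IsInvertible L :=
    Groth.Agent.Helper4.RelCompTwist.isInvertible_of_isRelAmple f L hL
  haveI : IsLocallyNoetherian X := LocallyOfFiniteType.isLocallyNoetherian f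
  obtain ⟨n₀, hn₀⟩ := exists_bcIso_immersion f e hL F hF
  have hLZ := Groth.Agent.Helper4.PullBC.isRelAmple_baseChange f e L hL
  have hLZinv : PicF.IsInvertible ((Scheme.Modules.pullback (pullback.fst f e)).obj L) :=
    Groth.Agent.Helper4.PullSec.isInvertible_pullback _ hLinv
  haveI : F.IsQuasicoherent := hF.1
  haveI : ((Scheme.Modules.pullback (pullback.fst f e)).obj F).IsQuasicoherent :=
    Groth.Agent.Lead.StalkPull.isQuasicoherent_pullbackObj _ _
  refine Groth.Agent.Helper1.FlatTw.isFlatOver_of_isFinLocFree_push_twist (pullback.snd f e) _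
    hLZinv (fun W hW => hLZ.2 ⟨W, hW⟩) _ (max N n₀) (fun n hn => ?_)
  have hsq : IsPullback (pullback.fst f e) (pullback.snd f e) f e := IsPullback.of_hasPullback f e
  haveI := hn₀ n ((le_max_right _ _).trans hn) _ _ hsq
  exact Groth.Agent.Helper1.FlatTw.isFinLocFree_of_iso
    (asIso (CohBC.bc0 f e (pullback.snd f e) (pullback.fst f e) hsq.w
      (CohB1.tensorMod F (CohB1.tensorPow L n))) ≪≫
      (pushforward (pullback.snd f e)).mapIso
        (Groth.Agent.Helper1.HP.pullTwistIso (pullback.fst f e) hLinv F n))
    (h n ((le_max_left _ _).trans hn))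

/-- **the rank of the fibre of the direct image of a good module** -/
theorem isFinLocFreeOfRank_fibre (f : X ⟶ S) [IsProper f] [IsLocallyNoetherian S]
    (G : X.Modules) (hG : Coh.IsCoh G) (hgood : GoodTwist f G) (s : S) :
    FlatMod.IsFinLocFreeOfRank (PerfAux.betti f G s 0)
      ((Scheme.Modules.pullback (S.fromSpecResidueField s)).obj ((pushforward f).obj G)) := by
  intro t
  have hsq : IsPullback (f.fiberι s) (f.fiberToSpecResidueField s) f
      (S.fromSpecResidueField s) := IsPullback.of_hasPullback _ _
  obtain ⟨U, htU, hU⟩ := locFree_pullback_of_goodTwist f G hG hgood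
    (S.fromSpecResidueField s) (f.fiberToSpecResidueField s) (f.fiberι s) hsq
    (isFlatOver_of_field (S.residueField s) _ _) t
  rw [Scheme.fromSpecResidueField_apply] at hU
  exact ⟨U, htU, hU⟩

end Groth.Agent.Helper1.HT
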