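import Mathlib
import Groth.Agent.Lead.FittSheafD
import Groth.Agent.Lead.FittSheafE
import Groth.Agent.Lead.FittSheafF

/-!
# HQ1: the universal locus where a module of finite type is locally free of rank `r`
(the flattening stratification of a module, by Fitting ideals)
-/

set_option autoImplicit false
set_option linter.style.haveILetI false
set_option linter.unusedSectionVars false

universe u
open CategoryTheory CategoryTheory.Limits AlgebraicGeometry Opposite TopologicalSpace

namespace Groth.Agent.Helper1.HQ

variable {S : Scheme.{u}}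

/-- factoring through the closed subscheme of an ideal sheaf -/
theorem factors_subschemeι_iff (I : S.IdealSheafData) {T : Scheme.{u}} (g : T ⟶ S) :
    (∃ g' : T ⟶ I.subscheme, g' ≫ I.subschemeι = g) ↔ I.comap g = ⊥ := by
  rw [eq_bot_iff, ← Scheme.IdealSheafData.le_map_iff_comap_le, Scheme.IdealSheafData.map_bot]
  constructor
  · rintro ⟨g', rfl⟩
    have := Scheme.Hom.le_ker_comp g' I.subschemeι
    rwa [Scheme.IdealSheafData.ker_subschemeι] at this
  · intro h
    have h' : I.subschemeι.ker ≤ g.ker := by rwa [Scheme.IdealSheafData.ker_subschemeι]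
    exact ⟨IsClosedImmersion.lift I.subschemeι g h', IsClosedImmersion.lift_fac _ _ _⟩

/-- factoring through the open complement of the support of an ideal sheaf -/
theorem range_subset_compl_support_iff (I : S.IdealSheafData) {T : Scheme.{u}} (g : T ⟶ S) :
    Set.range g ⊆ ((I.support : Set S)ᶜ) ↔ I.comap g = ⊤ := by
  rw [← Scheme.IdealSheafData.support_eq_bot_iff, Scheme.IdealSheafData.support_comap]
  constructor
  · intro h
    ext t
    simp only [Closeds.coe_preimage, Set.mem_preimage, SetLike.mem_coe, Closeds.coe_bot,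
      Set.mem_empty_iff_false, iff_false]
    intro ht
    exact h ⟨t, rfl⟩ ht
  · rintro h _ ⟨t, rfl⟩ ht
    have : t ∈ ((I.support.preimage g.continuous : Closeds T) : Set T) := ht
    rw [h] at this
    exact this

variable (M : S.Modules) [M.IsQuasicoherent]
  (hft : SheafOfModules.IsFiniteType (R := S.ringCatSheaf) M)

include hft in
theorem sheafIdeal_mono {k k' : ℕ} (h : k ≤ k') : Fitt.sheafIdeal M k ≤ Fitt.sheafIdeal M k' := by
  rw [Scheme.IdealSheafData.le_def]
  intro U
  rw [Groth.Agent.Lead.FittSheafA.ideal_sheafIdeal M hft k U,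
    Groth.Agent.Lead.FittSheafA.ideal_sheafIdeal M hft k' U]
  exact Groth.Agent.Helper7.FittLib.fitt_mono_index h

include hft in
/-- the pullback is locally free of rank `r` iff the pulled back Fitting ideals are `⊥` below `r`
and `⊤` at `r` -/
theorem isFinLocFreeOfRank_pullback_iff (r : ℕ) {T : Scheme.{u}} (g : T ⟶ S) :
    FlatMod.IsFinLocFreeOfRank r ((Scheme.Modules.pullback g).obj M) ↔
      (∀ k : ℕ, k < r → (Fitt.sheafIdeal M k).comap g = ⊥) ∧
        (Fitt.sheafIdeal M r).comap g = ⊤ := by
  haveI : ((Scheme.Modules.pullback g).obj M).IsQuasicoherent :=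
    Groth.Agent.Lead.StalkPull.isQuasicoherent_pullbackObj g M
  have hft' : SheafOfModules.IsFiniteType (R := T.ringCatSheaf)
      ((Scheme.Modules.pullback g).obj M) := Groth.Agent.Lead.LimPres.isFT_pullback g M hft
  rw [Groth.Agent.Lead.FittSheafD.main _ hft' r]
  simp only [← Groth.Agent.Lead.FittSheafE.comap_sheafIdeal g M hft]
  constructor
  · rintro ⟨h1, h2⟩
    exact ⟨h1, h2 r le_rfl⟩
  · rintro ⟨h1, h2⟩
    refine ⟨h1, fun k hk => ?_⟩
    rw [eq_top_iff, ← h2]
    exact Scheme.IdealSheafData.comap_mono g (sheafIdeal_mono M hft hk)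

end Groth.Agent.Helper1.HQ
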