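import Mathlib
import Groth.Agent.Helper1.HQ1

/-!
# HQ2: the universal immersion for "locally free of rank `r`"
-/

set_option autoImplicit false
set_option linter.style.haveILetI false
set_option linter.unusedSectionVars false

universe u
open CategoryTheory CategoryTheory.Limits AlgebraicGeometry Opposite TopologicalSpace

namespace Groth.Agent.Helper1.HQ

variable {S : Scheme.{u}} (M : S.Modules) [M.IsQuasicoherent]
  (hft : SheafOfModules.IsFiniteType (R := S.ringCatSheaf) M)

include hft in
/-- **the universal locus where `M` is locally free of rank `r`** -/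
theorem exists_universal_rank_immersion (r : ℕ) :
    ∃ (Z : Scheme.{u}) (e : Z ⟶ S), IsImmersion e ∧
      (∀ (T : Scheme.{u}) (g : T ⟶ S),
        FlatMod.IsFinLocFreeOfRank r ((Scheme.Modules.pullback g).obj M) ↔
          ∃ g' : T ⟶ Z, g' ≫ e = g) ∧
      ((∀ s : ↥S, ∃ U : S.Opens, s ∈ U ∧
          ∃ p : FlatMod.freeMod (↑U) r ⟶ M.restrict U.ι, Epi p) → IsClosedImmersion e) := by
  classical
  let J : S.IdealSheafData := ⨆ k : Fin r, Fitt.sheafIdeal M k
  let U : S.Opens := ⟨((Fitt.sheafIdeal M r).support : Set S)ᶜ,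
    (Fitt.sheafIdeal M r).support.isClosed.isOpen_compl⟩
  let JU : (U : Scheme.{u}).IdealSheafData := J.comap U.ι
  have hJ : ∀ {T : Scheme.{u}} (g : T ⟶ S), J.comap g = ⊥ ↔
      ∀ k : ℕ, k < r → (Fitt.sheafIdeal M k).comap g = ⊥ := by
    intro T g
    have h1 : J.comap g = ⨆ k : Fin r, (Fitt.sheafIdeal M k).comap g :=
      (Scheme.IdealSheafData.map_gc g).l_iSup
    rw [h1, iSup_eq_bot]
    exact ⟨fun h k hk => h ⟨k, hk⟩, fun h k => h k.1 k.2⟩
  refine ⟨JU.subscheme, JU.subschemeι ≫ U.ι, inferInstance, ?_, ?_⟩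
  · intro T g
    rw [isFinLocFreeOfRank_pullback_iff M hft r g, ← hJ g,
      ← range_subset_compl_support_iff (Fitt.sheafIdeal M r) g]
    constructor
    · rintro ⟨h1, h2⟩
      have hr : Set.range g ⊆ Set.range U.ι := by
        rw [Scheme.Opens.range_ι]
        exact h2
      have hfac : IsOpenImmersion.lift U.ι g hr ≫ U.ι = g := IsOpenImmersion.lift_fac _ _ _
      have h3 : JU.comap (IsOpenImmersion.lift U.ι g hr) = ⊥ := by
        rw [← Scheme.IdealSheafData.comap_comp, hfac]
        exact h1
      obtain ⟨g', hg'⟩ := (factors_subschemeι_iff JU _).2 h3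
      exact ⟨g', by rw [← Category.assoc, hg', hfac]⟩
    · rintro ⟨g', rfl⟩
      constructor
      · rw [← Category.assoc, Scheme.IdealSheafData.comap_comp]
        exact (factors_subschemeι_iff JU _).1 ⟨g', rfl⟩
      · rintro _ ⟨t, rfl⟩
        have : (g' ≫ JU.subschemeι ≫ U.ι) t = U.ι ((g' ≫ JU.subschemeι) t) := by
          rw [← Category.assoc]
          rfl
        rw [this]
        exact ((g' ≫ JU.subschemeι) t).2
  · intro hgen
    have hU : Function.Surjective U.ι := by
      intro s
      have hs : s ∉ (Fitt.sheafIdeal M r).support :=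
        (Groth.Agent.Lead.FittSheafF.main M hft s r).1 (hgen s)
      exact ⟨⟨s, hs⟩, rfl⟩
    haveI : IsIso U.ι :=
      (isIso_iff_isOpenImmersion_and_surjective U.ι).2 ⟨inferInstance, ⟨hU⟩⟩
    infer_instance

end Groth.Agent.Helper1.HQ
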