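import Mathlib
import Groth.Agent.Helper1.HQ2

/-!
# HT14: the universal locus where a family of modules of finite type becomes locally free of
prescribed ranks
-/

set_option autoImplicit false
set_option linter.style.haveILetI false
set_option linter.unusedSectionVars false

universe u
open CategoryTheory CategoryTheory.Limits AlgebraicGeometry Opposite TopologicalSpace

namespace Groth.Agent.Helper1.HT

open Groth.Agent.Helper1.HQ

variable {S : Scheme.{u}} (E : ℕ → S.Modules) [∀ n, (E n).IsQuasicoherent]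
  (hft : ∀ n, SheafOfModules.IsFiniteType (R := S.ringCatSheaf) (E n)) (N₀ : ℕ) (r : ℕ → ℕ)

/-- the index set of the Fitting ideals which have to vanish -/
def Idx : Type := {q : ℕ × ℕ // N₀ ≤ q.1 ∧ q.2 < r q.1}

/-- the ideal of the locus where the ranks are at least the prescribed ones -/
noncomputable def famJ : S.IdealSheafData :=
  ⨆ q : Idx N₀ r, Fitt.sheafIdeal (E q.1.1) q.1.2

/-- the locus where some rank is bigger than prescribed -/
def famC : Set S := ⋃ n : {n : ℕ // N₀ ≤ n}, ((Fitt.sheafIdeal (E n.1) (r n.1)).support : Set S)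

variable (hC : IsClosed (famC E N₀ r))

/-- the open locus where the ranks are at most the prescribed ones -/
abbrev famU : S.Opens := ⟨(famC E N₀ r)ᶜ, hC.isOpen_compl⟩

/-- the stratum -/
noncomputable abbrev famZ : Scheme.{u} :=
  ((famJ E N₀ r).comap (famU E N₀ r hC).ι).subscheme

/-- the immersion of the stratum -/
noncomputable abbrev famι : famZ E N₀ r hC ⟶ S :=
  ((famJ E N₀ r).comap (famU E N₀ r hC).ι).subschemeι ≫ (famU E N₀ r hC).ι

instance : IsImmersion (famι E N₀ r hC) :=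
  inferInstanceAs (IsImmersion (((famJ E N₀ r).comap (famU E N₀ r hC).ι).subschemeι ≫
    (famU E N₀ r hC).ι))

theorem famJ_comap_eq_bot_iff {T : Scheme.{u}} (g : T ⟶ S) :
    (famJ E N₀ r).comap g = ⊥ ↔
      ∀ n : ℕ, N₀ ≤ n → ∀ k : ℕ, k < r n → (Fitt.sheafIdeal (E n) k).comap g = ⊥ := by
  have h1 : (famJ E N₀ r).comap g = ⨆ q : Idx N₀ r, (Fitt.sheafIdeal (E q.1.1) q.1.2).comap g :=
    (Scheme.IdealSheafData.map_gc g).l_iSup
  rw [h1, iSup_eq_bot]
  exact ⟨fun h n hn k hk => h ⟨(n, k), hn, hk⟩, fun h q => h q.1.1 q.2.1 q.1.2 q.2.2⟩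

theorem range_subset_famC_compl_iff {T : Scheme.{u}} (g : T ⟶ S) :
    Set.range g ⊆ (famC E N₀ r)ᶜ ↔
      ∀ n : ℕ, N₀ ≤ n → (Fitt.sheafIdeal (E n) (r n)).comap g = ⊤ := by
  simp only [← range_subset_compl_support_iff]
  unfold famC
  rw [Set.compl_iUnion, Set.subset_iInter_iff]
  exact ⟨fun h n hn => h ⟨n, hn⟩, fun h n => h n.1 n.2⟩

include hft in
/-- **the universal property of the stratum** -/
theorem famι_factors_iff {T : Scheme.{u}} (g : T ⟶ S) :
    (∃ g' : T ⟶ famZ E N₀ r hC, g' ≫ famι E N₀ r hC = g) ↔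
      ∀ n : ℕ, N₀ ≤ n →
        FlatMod.IsFinLocFreeOfRank (r n) ((Scheme.Modules.pullback g).obj (E n)) := by
  have key : (∀ n : ℕ, N₀ ≤ n →
        FlatMod.IsFinLocFreeOfRank (r n) ((Scheme.Modules.pullback g).obj (E n))) ↔
      (famJ E N₀ r).comap g = ⊥ ∧ Set.range g ⊆ (famC E N₀ r)ᶜ := by
    rw [famJ_comap_eq_bot_iff, range_subset_famC_compl_iff]
    constructor
    · intro h
      exact ⟨fun n hn => ((isFinLocFreeOfRank_pullback_iff (E n) (hft n) (r n) g).1 (h n hn)).1,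
        fun n hn => ((isFinLocFreeOfRank_pullback_iff (E n) (hft n) (r n) g).1 (h n hn)).2⟩
    · rintro ⟨h1, h2⟩ n hn
      exact (isFinLocFreeOfRank_pullback_iff (E n) (hft n) (r n) g).2 ⟨h1 n hn, h2 n hn⟩
  rw [key]
  set U := famU E N₀ r hC with hU
  set JU := (famJ E N₀ r).comap U.ι with hJU
  constructor
  · rintro ⟨g', rfl⟩
    constructor
    · rw [← Category.assoc, Scheme.IdealSheafData.comap_comp]
      exact (factors_subschemeι_iff JU _).1 ⟨g', rfl⟩
    · rintro _ ⟨t, rfl⟩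
      have : (g' ≫ famι E N₀ r hC) t = U.ι ((g' ≫ JU.subschemeι) t) := by
        rw [← Category.assoc]
        rfl
      rw [this]
      exact ((g' ≫ JU.subschemeι) t).2
  · rintro ⟨h1, h2⟩
    have hr : Set.range g ⊆ Set.range U.ι := by
      rw [Scheme.Opens.range_ι]
      exact h2
    have hfac : IsOpenImmersion.lift U.ι g hr ≫ U.ι = g := IsOpenImmersion.lift_fac _ _ _
    have h3 : JU.comap (IsOpenImmersion.lift U.ι g hr) = ⊥ := by
      rw [hJU, ← Scheme.IdealSheafData.comap_comp, hfac]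
      exact h1
    obtain ⟨g', hg'⟩ := (factors_subschemeι_iff JU _).2 h3
    refine ⟨g', ?_⟩
    rw [← Category.assoc, hg', hfac]

/-- the points of the stratum -/
theorem mem_range_famι_iff (s : S) :
    s ∈ Set.range (famι E N₀ r hC) ↔
      (∀ n : ℕ, N₀ ≤ n → ∀ k : ℕ, k < r n → s ∈ (Fitt.sheafIdeal (E n) k).support) ∧
        ∀ n : ℕ, N₀ ≤ n → s ∉ (Fitt.sheafIdeal (E n) (r n)).support := by
  set U := famU E N₀ r hC with hU
  set JU := (famJ E N₀ r).comap U.ι with hJU
  have hrange : Set.range (famι E N₀ r hC) = U.ι '' (JU.support : Set U) := by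
    rw [Scheme.Hom.comp_base, TopCat.coe_comp, Set.range_comp,
      Scheme.IdealSheafData.range_subschemeι]
  have hsupp : ∀ s : S, s ∈ (famJ E N₀ r).support ↔
      ∀ n : ℕ, N₀ ≤ n → ∀ k : ℕ, k < r n → s ∈ (Fitt.sheafIdeal (E n) k).support := by
    intro s
    unfold famJ
    rw [Scheme.IdealSheafData.support_iSup]
    simp only [Closeds.mem_iInf]
    exact ⟨fun h n hn k hk => h ⟨(n, k), hn, hk⟩, fun h q => h q.1.1 q.2.1 q.1.2 q.2.2⟩
  have hC' : ∀ s : S, s ∈ (famC E N₀ r)ᶜ ↔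
      ∀ n : ℕ, N₀ ≤ n → s ∉ (Fitt.sheafIdeal (E n) (r n)).support := by
    intro s
    unfold famC
    simp only [Set.compl_iUnion, Set.mem_iInter, Set.mem_compl_iff, SetLike.mem_coe]
    exact ⟨fun h n hn => h ⟨n, hn⟩, fun h n => h n.1 n.2⟩
  rw [hrange, ← hsupp, ← hC']
  constructor
  · rintro ⟨u, hu, rfl⟩
    refine ⟨?_, u.2⟩
    rw [hJU, Scheme.IdealSheafData.support_comap] at hu
    exact hu
  · rintro ⟨h1, h2⟩
    refine ⟨⟨s, h2⟩, ?_, rfl⟩
    rw [hJU, Scheme.IdealSheafData.support_comap]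
    exact h1

/-- the closure of the stratum -/
theorem closure_range_famι_subset :
    closure (Set.range (famι E N₀ r hC)) ⊆ ((famJ E N₀ r).support : Set S) := by
  rw [(famJ E N₀ r).support.isClosed.closure_subset_iff]
  rintro _ ⟨z, rfl⟩
  have h := (mem_range_famι_iff E N₀ r hC _).1 ⟨z, rfl⟩
  unfold famJ
  rw [Scheme.IdealSheafData.support_iSup]
  simp only [Closeds.coe_iInf, Set.mem_iInter, SetLike.mem_coe]
  exact fun q => h.1 q.1.1 q.2.1 q.1.2 q.2.2

end Groth.Agent.Helper1.HT
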