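import Mathlib
import Groth.Agent.Helper1.HT14

/-!
# HT15: the strata of a family of modules of finite type in terms of the ranks of the fibres
-/

set_option autoImplicit false
set_option linter.style.haveILetI false
set_option linter.unusedSectionVars false

universe u
open CategoryTheory CategoryTheory.Limits AlgebraicGeometry Opposite TopologicalSpace

namespace Groth.Agent.Helper1.HT

open Groth.Agent.Helper1.HQ

variable {S : Scheme.{u}}

theorem bot_ne_top_idealSheafData (T : Scheme.{u}) [Nonempty T] :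
    (⊥ : T.IdealSheafData) ≠ ⊤ := by
  intro h
  have h1 : (⊥ : T.IdealSheafData).support = ⊥ :=
    (Scheme.IdealSheafData.support_eq_bot_iff _).2 h
  rw [Scheme.IdealSheafData.support_bot] at h1
  obtain ⟨t⟩ := ‹Nonempty T›
  have : t ∈ ((⊤ : Closeds T) : Set T) := trivial
  rw [h1] at this
  exact this

/-- the support of the Fitting ideals at a point, from the rank of the fibre -/
theorem mem_support_sheafIdeal_iff (M : S.Modules) [M.IsQuasicoherent]
    (hft : SheafOfModules.IsFiniteType (R := S.ringCatSheaf) M) (s : S) (d : ℕ)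
    (hd : FlatMod.IsFinLocFreeOfRank d
      ((Scheme.Modules.pullback (S.fromSpecResidueField s)).obj M)) (k : ℕ) :
    s ∈ (Fitt.sheafIdeal M k).support ↔ k < d := by
  obtain ⟨h1, h2⟩ := (isFinLocFreeOfRank_pullback_iff M hft d (S.fromSpecResidueField s)).1 hd
  have hiff : ∀ I : S.IdealSheafData, s ∉ I.support ↔ I.comap (S.fromSpecResidueField s) = ⊤ := by
    intro I
    rw [← range_subset_compl_support_iff, Scheme.range_fromSpecResidueField]
    simp
  constructor
  · intro hs
    by_contra hk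
    have hle : d ≤ k := not_lt.mp hk
    have h3 : (Fitt.sheafIdeal M k).comap (S.fromSpecResidueField s) = ⊤ := by
      rw [eq_top_iff, ← h2]
      exact Scheme.IdealSheafData.comap_mono _ (sheafIdeal_mono M hft hle)
    exact (hiff _).2 h3 hs
  · intro hk
    by_contra hs
    have h3 := (hiff _).1 hs
    rw [h1 k hk] at h3
    exact bot_ne_top_idealSheafData _ h3

section Family

variable (E : ℕ → S.Modules) [∀ n, (E n).IsQuasicoherent]
  (hft : ∀ n, SheafOfModules.IsFiniteType (R := S.ringCatSheaf) (E n)) (N₀ : ℕ) (r : ℕ → ℕ)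
  (d : S → ℕ → ℕ)
  (hd : ∀ n : ℕ, N₀ ≤ n → ∀ s : S, FlatMod.IsFinLocFreeOfRank (d s n)
    ((Scheme.Modules.pullback (S.fromSpecResidueField s)).obj (E n)))

include hft hd in
theorem mem_famC_iff (s : S) : s ∈ famC E N₀ r ↔ ∃ n : ℕ, N₀ ≤ n ∧ r n < d s n := by
  unfold famC
  simp only [Set.mem_iUnion, SetLike.mem_coe]
  constructor
  · rintro ⟨⟨n, hn⟩, h⟩
    exact ⟨n, hn, (mem_support_sheafIdeal_iff (E n) (hft n) s (d s n) (hd n hn s) (r n)).1 h⟩
  · rintro ⟨n, hn, h⟩
    exact ⟨⟨n, hn⟩, (mem_support_sheafIdeal_iff (E n) (hft n) s (d s n) (hd n hn s) (r n)).2 h⟩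

include hft hd in
/-- the locus where some rank is too big is closed, if the rank functions of the points take
finitely many values -/
theorem isClosed_famC {ι : Type*} (c : S → ι) (hfin : (Set.range c).Finite)
    (hc : ∀ s s' : S, c s = c s' → ∀ n : ℕ, N₀ ≤ n → d s n = d s' n) :
    IsClosed (famC E N₀ r) := by
  classical
  let A : Set ι := {i | ∃ n : ℕ, N₀ ≤ n ∧ ∃ s : S, c s = i ∧ r n < d s n}
  have hA : A.Finite := hfin.subset (by rintro i ⟨n, -, s, rfl, -⟩; exact ⟨s, rfl⟩)
  let nn : ι → ℕ := fun i =>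
    if h : ∃ n : ℕ, N₀ ≤ n ∧ ∃ s : S, c s = i ∧ r n < d s n then Classical.choose h else 0
  have hnn : ∀ i ∈ A, N₀ ≤ nn i ∧ ∃ s : S, c s = i ∧ r (nn i) < d s (nn i) := by
    intro i hi
    have h : ∃ n : ℕ, N₀ ≤ n ∧ ∃ s : S, c s = i ∧ r n < d s n := hi
    simp only [nn, dif_pos h]
    exact Classical.choose_spec h
  have heq : famC E N₀ r =
      ⋃ i ∈ A, ((Fitt.sheafIdeal (E (nn i)) (r (nn i))).support : Set S) := by
    ext s
    rw [mem_famC_iff E hft N₀ r d hd]
    simp only [Set.mem_iUnion, SetLike.mem_coe, exists_prop]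
    constructor
    · rintro ⟨n, hn, h⟩
      have hi : c s ∈ A := ⟨n, hn, s, rfl, h⟩
      obtain ⟨h1, s', hs', h2⟩ := hnn (c s) hi
      refine ⟨c s, hi, ?_⟩
      rw [mem_support_sheafIdeal_iff (E _) (hft _) s (d s _) (hd _ h1 s)]
      rw [← hc s' s hs' _ h1]
      exact h2
    · rintro ⟨i, hi, h⟩
      obtain ⟨h1, -⟩ := hnn i hi
      refine ⟨nn i, h1, ?_⟩
      rwa [mem_support_sheafIdeal_iff (E _) (hft _) s (d s _) (hd _ h1 s)] at h
  rw [heq]
  exact hA.isClosed_biUnion (fun i _ => (Fitt.sheafIdeal (E (nn i)) (r (nn i))).support.isClosed)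

include hft hd in
/-- the points of the stratum -/
theorem mem_range_famι_iff' (hC : IsClosed (famC E N₀ r)) (s : S) :
    s ∈ Set.range (famι E N₀ r hC) ↔ ∀ n : ℕ, N₀ ≤ n → d s n = r n := by
  rw [mem_range_famι_iff]
  constructor
  · rintro ⟨h1, h2⟩ n hn
    have ha : ∀ k : ℕ, k < r n → k < d s n := fun k hk =>
      (mem_support_sheafIdeal_iff (E n) (hft n) s (d s n) (hd n hn s) k).1 (h1 n hn k hk)
    have hb : ¬ r n < d s n := fun h =>
      h2 n hn ((mem_support_sheafIdeal_iff (E n) (hft n) s (d s n) (hd n hn s) (r n)).2 h)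
    have hle : r n ≤ d s n := by
      by_contra hcon
      exact lt_irrefl _ (ha (d s n) (not_le.mp hcon))
    omega
  · intro h
    refine ⟨fun n hn k hk => ?_, fun n hn hs => ?_⟩
    · rw [mem_support_sheafIdeal_iff (E n) (hft n) s (d s n) (hd n hn s), h n hn]
      exact hk
    · rw [mem_support_sheafIdeal_iff (E n) (hft n) s (d s n) (hd n hn s), h n hn] at hs
      exact lt_irrefl _ hs

include hft hd in
/-- the closure of the stratum -/
theorem le_of_mem_closure_range_famι (hC : IsClosed (famC E N₀ r)) (s : S)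
    (hs : s ∈ closure (Set.range (famι E N₀ r hC))) (n : ℕ) (hn : N₀ ≤ n) : r n ≤ d s n := by
  have h := closure_range_famι_subset E N₀ r hC hs
  have h' : ∀ q : Idx N₀ r, s ∈ (Fitt.sheafIdeal (E q.1.1) q.1.2).support := by
    unfold famJ at h
    rw [Scheme.IdealSheafData.support_iSup] at h
    simpa only [Closeds.coe_iInf, Set.mem_iInter, SetLike.mem_coe] using h
  by_contra hcon
  have hlt : d s n < r n := not_le.mp hcon
  have := h' ⟨(n, d s n), hn, hlt⟩
  rw [mem_support_sheafIdeal_iff (E n) (hft n) s (d s n) (hd n hn s)] at this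
  exact lt_irrefl _ this

end Family

end Groth.Agent.Helper1.HT
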