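import Mathlib
import Groth.Agent.Helper1.HT13
import Groth.Agent.Helper1.HT15

/-!
# HT16: the flattening stratification of a coherent module for a proper morphism with a relatively
ample invertible module, over a noetherian base: strata and their properties
-/

set_option autoImplicit false
set_option linter.style.haveILetI false
set_option linter.unusedSectionVars false
set_option maxHeartbeats 400000

universe u
open CategoryTheory CategoryTheory.Limits AlgebraicGeometry Opposite TopologicalSpace
open AlgebraicGeometry.Scheme.Modules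

namespace Groth.Agent.Helper1.HT

variable {X S : Scheme.{u}} (f : X ⟶ S) (F L : X.Modules)

/-- the direct images of the twists -/
noncomputable abbrev Etw (n : ℕ) : S.Modules :=
  (pushforward f).obj (CohB1.tensorMod F (CohB1.tensorPow L n))

/-- the dimensions of the spaces of sections of the twists on the fibres -/
noncomputable abbrev dfib (s : S) (n : ℕ) : ℕ :=
  PerfAux.betti f (CohB1.tensorMod F (CohB1.tensorPow L n)) s 0

variable [IsProper f] [IsNoetherian S] (hL : RelAmple.IsRelAmple f L) (hF : Coh.IsCoh F)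
  (N₀ : ℕ) (hN₀ : ∀ n : ℕ, N₀ ≤ n → GoodTwist f (CohB1.tensorMod F (CohB1.tensorPow L n)))

include hL hF in
theorem isCoh_Etw (n : ℕ) : Coh.IsCoh (Etw f F L n) := by
  haveI : IsLocallyNoetherian X := LocallyOfFiniteType.isLocallyNoetherian f
  exact isCoh_pushforward_of_isProper f _ (Groth.Agent.Helper1.HP.isCoh_twistPow
    (Groth.Agent.Helper4.RelCompTwist.isInvertible_of_isRelAmple f L hL) F hF n)

include hL hF hN₀ in
theorem isFinLocFreeOfRank_dfib (n : ℕ) (hn : N₀ ≤ n) (s : S) :
    FlatMod.IsFinLocFreeOfRank (dfib f F L s n)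
      ((Scheme.Modules.pullback (S.fromSpecResidueField s)).obj (Etw f F L n)) := by
  haveI : IsLocallyNoetherian X := LocallyOfFiniteType.isLocallyNoetherian f
  exact isFinLocFreeOfRank_fibre f _ (Groth.Agent.Helper1.HP.isCoh_twistPow
    (Groth.Agent.Helper4.RelCompTwist.isInvertible_of_isRelAmple f L hL) F hF n) (hN₀ n hn) s

include hN₀ in
/-- for the good twists the Euler characteristic of a fibre is the dimension of the space of
sections -/
theorem dfib_eq_eulerChar (n : ℕ) (hn : N₀ ≤ n) (s : S) :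
    (dfib f F L s n : ℤ) =
      PerfAux.eulerChar f (CohB1.tensorMod F (CohB1.tensorPow L n)) s := by
  unfold PerfAux.eulerChar
  rw [finsum_eq_single _ 0]
  · simp
  · intro i hi
    have hpos : 0 < i := Nat.pos_of_ne_zero hi
    haveI := (hN₀ n hn).1 s i hpos
    have : PerfAux.betti f (CohB1.tensorMod F (CohB1.tensorPow L n)) s i = 0 :=
      Module.finrank_zero_of_subsingleton
    rw [this]
    simp

include hL hF hN₀ in
/-- the loci where some rank is too big are closed -/
theorem isClosed_famC_Etw (r : ℕ → ℕ) : IsClosed (famC (Etw f F L) N₀ r) := by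
  have hLinv := Groth.Agent.Helper4.RelCompTwist.isInvertible_of_isRelAmple f L hL
  haveI : ∀ n, (Etw f F L n).IsQuasicoherent := fun n => (isCoh_Etw f F L hL hF n).1
  refine isClosed_famC (Etw f F L) (fun n => (isCoh_Etw f F L hL hF n).2) N₀ r (dfib f F L)
    (fun n hn s => isFinLocFreeOfRank_dfib f F L hL hF N₀ hN₀ n hn s)
    (fun s : S => fun n : ℕ => PerfAux.eulerChar f (CohB1.tensorMod F (CohB1.tensorPow L n)) s)
    (Groth.Agent.Helper1.HS.finite_range_eulerChar f F hF (fun n : ℕ => CohB1.tensorPow L n)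
      (fun n => Groth.Agent.Helper4.TensorInv.isInvertible_tensorPow hLinv n)) ?_
  intro s s' h n hn
  have h1 := dfib_eq_eulerChar f F L N₀ hN₀ n hn s
  have h2 := dfib_eq_eulerChar f F L N₀ hN₀ n hn s'
  have h3 : PerfAux.eulerChar f (CohB1.tensorMod F (CohB1.tensorPow L n)) s =
      PerfAux.eulerChar f (CohB1.tensorMod F (CohB1.tensorPow L n)) s' := congrFun h n
  rw [← h1, ← h2] at h3
  exact_mod_cast h3

section Base

variable {T X' : Scheme.{u}} [IsLocallyNoetherian T] (φ : T ⟶ S) (f' : X' ⟶ T) (g' : X' ⟶ X)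
  (hsq : IsPullback g' f' f φ)
  (hfl : FlatMod.IsFlatOver f' ((Scheme.Modules.pullback g').obj F))

include hL hF hN₀ hsq hfl in
/-- over a base on which `F` becomes flat, the pullbacks of the direct images of the good twists
are locally free, of the rank given by the fibres -/
theorem locFree_pullback_Etw (n : ℕ) (hn : N₀ ≤ n) (t : T) :
    ∃ U : T.Opens, t ∈ U ∧ Nonempty
      (((Scheme.Modules.pullback φ).obj (Etw f F L n)).restrict U.ι ≅
        FlatMod.freeMod (↑U) (dfib f F L (φ t) n)) := by
  have hLinv := Groth.Agent.Helper4.RelCompTwist.isInvertible_of_isRelAmple f L hL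
  haveI : IsLocallyNoetherian X := LocallyOfFiniteType.isLocallyNoetherian f
  refine locFree_pullback_of_goodTwist f _ (Groth.Agent.Helper1.HP.isCoh_twistPow hLinv F hF n)
    (hN₀ n hn) φ f' g' hsq ?_ t
  intro x
  refine Groth.Agent.Lead.FpqcSheaf.isFlatOverAt_of_iso f'
    (Groth.Agent.Helper1.HP.pullTwistIso g' hLinv F n).symm x ?_
  exact (Groth.Agent.Helper1.FlatTw.isFlatOverAt_tensor_iff f' _ _
    (Groth.Agent.Helper4.TensorInv.isInvertible_tensorPow
      (Groth.Agent.Helper4.PullSec.isInvertible_pullback _ hLinv) n) x).2 (hfl x)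

include hL hF hN₀ hsq hfl in
/-- the dimensions of the spaces of sections of the good twists on the fibres are locally
constant on a base on which `F` becomes flat -/
theorem isLocallyConstant_dfib (n : ℕ) (hn : N₀ ≤ n) :
    IsLocallyConstant (fun t : T => dfib f F L (φ t) n) := by
  haveI : ((Scheme.Modules.pullback φ).obj (Etw f F L n)).IsQuasicoherent := by
    haveI := (isCoh_Etw f F L hL hF n).1
    exact Groth.Agent.Lead.StalkPull.isQuasicoherent_pullbackObj φ _
  rw [IsLocallyConstant.iff_exists_open]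
  intro t
  obtain ⟨U, htU, hU⟩ := locFree_pullback_Etw f F L hL hF N₀ hN₀ φ f' g' hsq hfl n hn t
  refine ⟨U, U.isOpen, htU, fun t' ht' => ?_⟩
  obtain ⟨U', htU', hU'⟩ := locFree_pullback_Etw f F L hL hF N₀ hN₀ φ f' g' hsq hfl n hn t'
  exact Groth.Agent.Helper1.UGC.rank_unique _ t' htU' ht' hU' hU

include hL hF hN₀ hsq hfl in
/-- **a base on which `F` becomes flat, with constant rank functions, maps to the stratum** -/
theorem exists_lift_famι (r : ℕ → ℕ) (hC : IsClosed (famC (Etw f F L) N₀ r))
    (hr : ∀ (t : T) (n : ℕ), N₀ ≤ n → dfib f F L (φ t) n = r n) :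
    ∃ g : T ⟶ famZ (Etw f F L) N₀ r hC, g ≫ famι (Etw f F L) N₀ r hC = φ := by
  haveI : ∀ n, (Etw f F L n).IsQuasicoherent := fun n => (isCoh_Etw f F L hL hF n).1
  rw [famι_factors_iff (Etw f F L) (fun n => (isCoh_Etw f F L hL hF n).2) N₀ r hC φ]
  intro n hn t
  obtain ⟨U, htU, hU⟩ := locFree_pullback_Etw f F L hL hF N₀ hN₀ φ f' g' hsq hfl n hn t
  rw [hr t n hn] at hU
  exact ⟨U, htU, hU⟩

end Base

include hL hF in
/-- **`F` is flat over the strata** -/
theorem isFlatOver_famι (r : ℕ → ℕ) (hC : IsClosed (famC (Etw f F L) N₀ r)) :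
    FlatMod.IsFlatOver (pullback.snd f (famι (Etw f F L) N₀ r hC))
      ((Scheme.Modules.pullback (pullback.fst f (famι (Etw f F L) N₀ r hC))).obj F) := by
  haveI : ∀ n, (Etw f F L n).IsQuasicoherent := fun n => (isCoh_Etw f F L hL hF n).1
  refine isFlatOver_of_locFree_pullback f (famι (Etw f F L) N₀ r hC) hL F hF N₀ (fun n hn => ?_)
  have h := (famι_factors_iff (Etw f F L) (fun n => (isCoh_Etw f F L hL hF n).2) N₀ r hC
    (famι (Etw f F L) N₀ r hC)).1 ⟨𝟙 _, Category.id_comp _⟩ n hn
  intro z
  obtain ⟨U, hzU, hU⟩ := h z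
  exact ⟨U, r n, hzU, hU⟩

end Groth.Agent.Helper1.HT
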