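import Mathlib
import Groth.Agent.Lead.FlatBC2
import Groth.Agent.Lead.StalkPull4
import Groth.Agent.Lead.FpqcSheaf3
import Groth.Agent.Helper2.FlatStageLim

/-!
# HT17: flatness of a pulled back module versus lifting to a disjoint union of "strata"
(formal part of the universal property of a flattening stratification)
-/

set_option autoImplicit false
set_option linter.style.haveILetI false
set_option linter.unusedSectionVars false
set_option maxHeartbeats 400000

universe u
open CategoryTheory CategoryTheory.Limits AlgebraicGeometry Opposite TopologicalSpace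
open AlgebraicGeometry.Scheme.Modules

namespace Groth.Agent.Helper1.HT

variable {X S : Scheme.{u}} (f : X ⟶ S) (F : X.Modules) [F.IsQuasicoherent]
  {ι : Type} (St : ι → Scheme.{u}) (e : ∀ i, St i ⟶ S)

/-- flatness over the strata gives flatness over every base which lifts to their disjoint union -/
theorem isFlatOver_of_lift
    (h1 : ∀ i, FlatMod.IsFlatOver (pullback.snd f (e i))
      ((Scheme.Modules.pullback (pullback.fst f (e i))).obj F))
    {T X' : Scheme.{u}} (φ : T ⟶ S) (f' : X' ⟶ T) (g' : X' ⟶ X) (hsq : IsPullback g' f' f φ)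
    (g : T ⟶ ∐ St) (hg : g ≫ Sigma.desc e = φ) :
    FlatMod.IsFlatOver f' ((Scheme.Modules.pullback g').obj F) := by
  intro x
  set t := f' x with ht
  -- the component of the point
  obtain ⟨i, z, hz⟩ := (sigmaOpenCover St).exists_eq (g t)
  have hz' : Sigma.ι St i z = g t := hz
  let W : T.Opens := g ⁻¹ᵁ (Sigma.ι St i).opensRange
  have htW : t ∈ W := ⟨z, hz'⟩
  have hrange : Set.range (W.ι ≫ g) ⊆ Set.range (Sigma.ι St i) := by
    rintro _ ⟨w, rfl⟩
    exact w.2
  let gi : (W : Scheme.{u}) ⟶ St i := IsOpenImmersion.lift (Sigma.ι St i) (W.ι ≫ g) hrange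
  have hgi : gi ≫ Sigma.ι St i = W.ι ≫ g := IsOpenImmersion.lift_fac _ _ _
  have hgi' : gi ≫ e i = W.ι ≫ φ := by
    rw [← hg, ← Category.assoc, ← hgi, Category.assoc, Sigma.ι_desc]
  -- the restricted square
  have hsqL : IsPullback (pullback.fst f' W.ι) (pullback.snd f' W.ι) f' W.ι :=
    IsPullback.of_hasPullback _ _
  have hbig : IsPullback (pullback.fst f' W.ι ≫ g') (pullback.snd f' W.ι) f (W.ι ≫ φ) :=
    hsqL.paste_horiz hsq
  obtain ⟨x'', hx1, hx2⟩ := Scheme.Pullback.exists_preimage_pullback (f := f') (g := W.ι) x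
    ⟨t, htW⟩ rfl
  let vX : pullback f' W.ι ⟶ pullback f (e i) :=
    pullback.lift (pullback.fst f' W.ι ≫ g') (pullback.snd f' W.ι ≫ gi) (by
      rw [Category.assoc, hsq.w, Category.assoc, hgi', ← Category.assoc,
        pullback.condition, Category.assoc])
  have hv1 : vX ≫ pullback.fst f (e i) = pullback.fst f' W.ι ≫ g' := pullback.lift_fst _ _ _
  have hv2 : vX ≫ pullback.snd f (e i) = pullback.snd f' W.ι ≫ gi := pullback.lift_snd _ _ _
  have hstage := Groth.Agent.Helper2.FlatStageLim.isFlatOverAt_of_stage f F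
    (pullback.snd f' W.ι) (W.ι ≫ φ) (pullback.fst f' W.ι ≫ g') hbig
    (pullback.snd f (e i)) (e i) (pullback.fst f (e i)) gi vX
    (IsPullback.of_hasPullback f (e i)) hgi' hv1 hv2 x'' (h1 i (vX x''))
  haveI : ((Scheme.Modules.pullback g').obj F).IsQuasicoherent :=
    Groth.Agent.Lead.StalkPull.isQuasicoherent_pullbackObj g' F
  have hflat2 : FlatMod.IsFlatOverAt (pullback.snd f' W.ι)
      ((Scheme.Modules.pullback (pullback.fst f' W.ι)).obj
        ((Scheme.Modules.pullback g').obj F)) x'' :=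
    Groth.Agent.Lead.FpqcSheaf.isFlatOverAt_of_iso _
      ((Scheme.Modules.pullbackComp (pullback.fst f' W.ι) g').app F).symm x'' hstage
  have hWflat : (W.ι.stalkMap (pullback.snd f' W.ι x'')).hom.Flat :=
    (Flat.iff_flat_stalkMap W.ι).mp inferInstance _
  have := Groth.Agent.Lead.StalkPull.main_descent f' (pullback.snd f' W.ι)
    (pullback.fst f' W.ι) W.ι hsqL ((Scheme.Modules.pullback g').obj F) inferInstance x''
    hWflat hflat2
  rw [hx1] at this
  exact this

/-- gluing of liftings over the pieces of an open partition -/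
theorem exists_lift_of_partition {T : Scheme.{u}} (φ : T ⟶ S) (ψ : T → ι)
    (hψ : IsLocallyConstant ψ)
    (h3 : ∀ (i : ι) (V : T.Opens), (∀ t ∈ V, ψ t = i) →
      ∃ g : (V : Scheme.{u}) ⟶ St i, g ≫ e i = V.ι ≫ φ) :
    ∃ g : T ⟶ ∐ St, g ≫ Sigma.desc e = φ := by
  classical
  let V : ι → T.Opens := fun i => ⟨ψ ⁻¹' {i}, hψ.isOpen_fiber i⟩
  have hV : ∀ i, ∀ t ∈ V i, ψ t = i := fun i t ht => ht
  choose gi hgi using fun i => h3 i (V i) (hV i)
  let 𝒰 : T.OpenCover :=
    { I₀ := ι
      X := fun i => (V i)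
      f := fun i => (V i).ι
      mem₀ := by
        rw [Scheme.presieve₀_mem_precoverage_iff]
        refine ⟨fun x => ⟨ψ x, ?_⟩, inferInstance⟩
        rw [Scheme.Opens.range_ι]
        exact (rfl : ψ x = ψ x) }
  have hcompat : ∀ i j : ι, pullback.fst (𝒰.f i) (𝒰.f j) ≫ (gi i ≫ Sigma.ι St i) =
      pullback.snd (𝒰.f i) (𝒰.f j) ≫ (gi j ≫ Sigma.ι St j) := by
    intro i j
    by_cases hij : i = j
    · subst hij
      have : pullback.fst (𝒰.f i) (𝒰.f i) = pullback.snd (𝒰.f i) (𝒰.f i) := by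
        rw [← cancel_mono (𝒰.f i)]
        exact pullback.condition
      rw [this]
    · haveI : IsEmpty ↑(pullback (𝒰.f i) (𝒰.f j)) := by
        rw [Scheme.isEmpty_pullback_iff]
        rw [Set.disjoint_iff]
        rintro t ⟨⟨a, rfl⟩, ⟨b, hb⟩⟩
        have h1 : ψ ((V i).ι a) = i := a.2
        have h2 : ψ ((V j).ι b) = j := b.2
        have hb' : (V j).ι b = (V i).ι a := hb
        rw [hb'] at h2
        exact hij (h1.symm.trans h2)
      exact (isInitialOfIsEmpty (X := pullback (𝒰.f i) (𝒰.f j))).hom_ext _ _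
  refine ⟨𝒰.glueMorphisms (fun i => gi i ≫ Sigma.ι St i) hcompat, ?_⟩
  refine 𝒰.hom_ext _ _ (fun i => ?_)
  rw [Scheme.Cover.ι_glueMorphisms_assoc, Category.assoc, Sigma.ι_desc]
  exact hgi i

end Groth.Agent.Helper1.HT
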