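import Mathlib
import Groth.Agent.Helper1.HT16
import Groth.Agent.Helper1.HT17
import Groth.Agent.Helper1.HS7
import Groth.Agent.Helper1.VA14
import Groth.Agent.Lead.ChowQ
import Groth.Agent.Lead.ConnHartogs

/-!
# HT18: the flattening stratification of a coherent module on `P^n_S`, `S` noetherian
-/

set_option autoImplicit false
set_option linter.style.haveILetI false
set_option linter.unusedSectionVars false
set_option maxHeartbeats 400000

universe u
open CategoryTheory CategoryTheory.Limits AlgebraicGeometry Opposite TopologicalSpace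
open AlgebraicGeometry.Scheme.Modules

namespace Groth.Agent.Helper1.HT

open Groth.Agent.Helper1.HS

variable (S : Scheme.{u}) (n : ℕ)

/-- `O(1)` is relatively ample on `P^n_S` -/
theorem isRelAmple_twistOver_one :
    RelAmple.IsRelAmple (CohB1.ProjSpaceOver.toBase n S) (Twist.twistOver n S 1) := by
  haveI := Groth.Agent.Helper6.HProj.isProper_toBase n S
  refine Groth.Agent.Helper1.VA.isRelAmple_of_isRelVeryAmplePn _ _
    ⟨n, 𝟙 _, inferInstance, Category.id_comp _, ⟨((Scheme.Modules.pullbackId _).app _).symm⟩⟩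

/-- the rank function attached to a polynomial -/
noncomputable def rkOf (Q : Polynomial ℚ) (m : ℕ) : ℕ := ⌊Q.eval (m : ℚ)⌋₊

/-- two polynomials which agree on all large natural numbers are equal -/
theorem poly_eq_of_eval_nat_ge {P Q : Polynomial ℚ} (N : ℕ)
    (h : ∀ m : ℕ, N ≤ m → P.eval (m : ℚ) = Q.eval (m : ℚ)) : P = Q := by
  apply Polynomial.eq_of_infinite_eval_eq
  have hinj : Function.Injective (fun m : ℕ => ((N + m : ℕ) : ℚ)) := by
    intro a b hab
    have hab' : ((N + a : ℕ) : ℚ) = ((N + b : ℕ) : ℚ) := hab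
    have : (N + a : ℕ) = N + b := by exact_mod_cast hab'
    omega
  refine Set.Infinite.mono ?_ (Set.infinite_range_of_injective hinj)
  rintro _ ⟨m, rfl⟩
  exact h (N + m) (Nat.le_add_right _ _)

section Master

variable [IsNoetherian S] (F : (CohB1.ProjSpaceOver n S).Modules) (hF : Coh.IsCoh F)
  (N₀ : ℕ)
  (hN₀ : ∀ m : ℕ, N₀ ≤ m → GoodTwist (CohB1.ProjSpaceOver.toBase n S)
    (CohB1.tensorMod F (CohB1.tensorPow (Twist.twistOver n S 1) m)))
  (P : S → Polynomial ℚ)
  (hP : ∀ (s : S) (m : ℤ), (hilbFn S n F s m : ℚ) = (P s).eval (m : ℚ))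

include hN₀ hP in
/-- the dimension of the space of sections of a good twist on a fibre is the value of the Hilbert
polynomial -/
theorem dfib_eq_poly (s : S) (m : ℕ) (hm : N₀ ≤ m) :
    (dfib (CohB1.ProjSpaceOver.toBase n S) F (Twist.twistOver n S 1) s m : ℚ) =
      (P s).eval (m : ℚ) := by
  haveI := Groth.Agent.Helper6.HProj.isProper_toBase n S
  have h1 := dfib_eq_eulerChar (CohB1.ProjSpaceOver.toBase n S) F (Twist.twistOver n S 1) N₀ hN₀
    m hm s
  obtain ⟨ε⟩ := Groth.Agent.Helper1.FlatTw.nonempty_twistOver_iso_tensorPow n S m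
  have h2 := Groth.Agent.Helper1.PDeg.eulerChar_congr (CohB1.ProjSpaceOver.toBase n S)
    (PicGrp.tensorModIso (Iso.refl F) ε) s
  have h3 := hP s (m : ℤ)
  unfold hilbFn at h3
  rw [h2, ← h1] at h3
  rw [Int.cast_natCast, Int.cast_natCast] at h3
  exact h3

include hN₀ hP in
theorem rkOf_poly (s : S) (m : ℕ) (hm : N₀ ≤ m) :
    rkOf (P s) m = dfib (CohB1.ProjSpaceOver.toBase n S) F (Twist.twistOver n S 1) s m := by
  unfold rkOf
  rw [← dfib_eq_poly S n F N₀ hN₀ P hP s m hm, Nat.floor_natCast]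

include hN₀ hP in
/-- the rank functions of two points agree on the good twists iff their Hilbert polynomials
agree -/
theorem dfib_eq_iff (s s' : S) :
    (∀ m : ℕ, N₀ ≤ m → dfib (CohB1.ProjSpaceOver.toBase n S) F (Twist.twistOver n S 1) s m =
      rkOf (P s') m) ↔ P s = P s' := by
  constructor
  · intro h
    apply poly_eq_of_eval_nat_ge N₀
    intro m hm
    rw [← dfib_eq_poly S n F N₀ hN₀ P hP s m hm, ← dfib_eq_poly S n F N₀ hN₀ P hP s' m hm,
      h m hm, rkOf_poly S n F N₀ hN₀ P hP s' m hm]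
  · intro h m hm
    rw [← h, rkOf_poly S n F N₀ hN₀ P hP s m hm]

end Master

/-- **the flattening stratification of a coherent module on `P^n_S`** -/
theorem exists_flattening [IsNoetherian S] (F : (CohB1.ProjSpaceOver n S).Modules)
    (hF : Coh.IsCoh F) :
    ∃ (P : S → Polynomial ℚ) (St : Polynomial ℚ → Scheme.{u}) (e : ∀ Q, St Q ⟶ S),
      (Set.range P).Finite ∧
      (∀ (s : S) (m : ℤ), (hilbFn S n F s m : ℚ) = (P s).eval (m : ℚ)) ∧
      (∀ Q, IsImmersion (e Q)) ∧
      (∀ s s' : S, s ∈ Set.range (e (P s')) ↔ P s = P s') ∧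
      (∀ s s' : S, s ∈ closure (Set.range (e (P s'))) → ∃ m₀ : ℤ, ∀ m : ℤ, m₀ ≤ m →
        (P s').eval (m : ℚ) ≤ (P s).eval (m : ℚ)) ∧
      (∀ Q, FlatMod.IsFlatOver (pullback.snd (CohB1.ProjSpaceOver.toBase n S) (e Q))
        ((Scheme.Modules.pullback
          (pullback.fst (CohB1.ProjSpaceOver.toBase n S) (e Q))).obj F)) ∧
      (∀ (T : Scheme.{u}) [IsLocallyNoetherian T] (φ : T ⟶ S),
        FlatMod.IsFlatOver (CohB1.ProjSpaceOver.toBase n T)
          ((Scheme.Modules.pullback (FGA.projMap n φ)).obj F) →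
        IsLocallyConstant (fun t : T => P (φ t)) ∧
        ∀ (s' : S) (V : T.Opens), (∀ t ∈ V, P (φ t) = P s') →
          ∃ g : (V : Scheme.{u}) ⟶ St (P s'), g ≫ e (P s') = V.ι ≫ φ) := by
  haveI := Groth.Agent.Helper6.HProj.isProper_toBase n S
  have hL := isRelAmple_twistOver_one S n
  obtain ⟨N₀, hN₀⟩ := exists_goodTwist (CohB1.ProjSpaceOver.toBase n S) hL F hF
  obtain ⟨P, hfin, hP⟩ := finite_hilbert_polys S n F hF
  haveI hq : ∀ m, (Etw (CohB1.ProjSpaceOver.toBase n S) F (Twist.twistOver n S 1)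
      m).IsQuasicoherent := fun m => (isCoh_Etw _ F _ hL hF m).1
  have hft : ∀ m, SheafOfModules.IsFiniteType (R := S.ringCatSheaf)
      (Etw (CohB1.ProjSpaceOver.toBase n S) F (Twist.twistOver n S 1) m) :=
    fun m => (isCoh_Etw _ F _ hL hF m).2
  have hd := fun m hm s => isFinLocFreeOfRank_dfib (CohB1.ProjSpaceOver.toBase n S) F
    (Twist.twistOver n S 1) hL hF N₀ hN₀ m hm s
  have hC : ∀ Q : Polynomial ℚ, IsClosed (famC (Etw (CohB1.ProjSpaceOver.toBase n S) F
      (Twist.twistOver n S 1)) N₀ (rkOf Q)) :=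
    fun Q => isClosed_famC_Etw _ F _ hL hF N₀ hN₀ (rkOf Q)
  refine ⟨P, fun Q => famZ (Etw (CohB1.ProjSpaceOver.toBase n S) F (Twist.twistOver n S 1)) N₀
      (rkOf Q) (hC Q),
    fun Q => famι (Etw (CohB1.ProjSpaceOver.toBase n S) F (Twist.twistOver n S 1)) N₀
      (rkOf Q) (hC Q), hfin, hP, fun Q => inferInstance, ?_, ?_, ?_, ?_⟩
  · intro s s'
    rw [mem_range_famι_iff' _ hft N₀ (rkOf (P s')) _ hd (hC (P s')) s]
    exact dfib_eq_iff S n F N₀ hN₀ P hP s s'
  · intro s s' hs
    refine ⟨(N₀ : ℤ), fun m hm => ?_⟩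
    obtain ⟨k, rfl⟩ := Int.eq_ofNat_of_zero_le (show 0 ≤ m by omega)
    have hk : N₀ ≤ k := by exact_mod_cast hm
    have h1 := le_of_mem_closure_range_famι _ hft N₀ (rkOf (P s')) _ hd (hC (P s')) s hs k hk
    rw [rkOf_poly S n F N₀ hN₀ P hP s' k hk] at h1
    rw [Int.cast_natCast, ← dfib_eq_poly S n F N₀ hN₀ P hP s k hk,
      ← dfib_eq_poly S n F N₀ hN₀ P hP s' k hk]
    exact_mod_cast h1
  · intro Q
    exact isFlatOver_famι _ F _ hL hF N₀ (rkOf Q) (hC Q)
  · intro T _ φ hfl
    have hsq := Groth.Agent.Lead.ChowQ.isPullback_projSpaceOver n φ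
    constructor
    · haveI : LocallyConnectedSpace T := Groth.Agent.Lead.ConnHartogs.locallyConnectedSpace
      rw [IsLocallyConstant.iff_exists_open]
      intro t
      refine ⟨connectedComponent t, isOpen_connectedComponent, mem_connectedComponent,
        fun t' ht' => ?_⟩
      rw [← dfib_eq_iff S n F N₀ hN₀ P hP (φ t') (φ t)]
      intro m hm
      rw [rkOf_poly S n F N₀ hN₀ P hP (φ t) m hm]
      exact (isLocallyConstant_dfib _ F _ hL hF N₀ hN₀ φ _ _ hsq hfl m hm).apply_eq_of_isPreconnected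
        isPreconnected_connectedComponent ht' mem_connectedComponent
    · intro s' V hV
      have hsqL : IsPullback (pullback.fst (CohB1.ProjSpaceOver.toBase n T) V.ι)
          (pullback.snd (CohB1.ProjSpaceOver.toBase n T) V.ι)
          (CohB1.ProjSpaceOver.toBase n T) V.ι := IsPullback.of_hasPullback _ _
      have hsqV := hsqL.paste_horiz hsq
      haveI : F.IsQuasicoherent := hF.1
      haveI : ((Scheme.Modules.pullback (FGA.projMap n φ)).obj F).IsQuasicoherent :=
        Groth.Agent.Lead.StalkPull.isQuasicoherent_pullbackObj _ F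
      have hflV : FlatMod.IsFlatOver (pullback.snd (CohB1.ProjSpaceOver.toBase n T) V.ι)
          ((Scheme.Modules.pullback
            (pullback.fst (CohB1.ProjSpaceOver.toBase n T) V.ι ≫ FGA.projMap n φ)).obj F) := by
        intro x
        refine Groth.Agent.Lead.FpqcSheaf.isFlatOverAt_of_iso _
          ((Scheme.Modules.pullbackComp (pullback.fst (CohB1.ProjSpaceOver.toBase n T) V.ι)
            (FGA.projMap n φ)).app F) x ?_
        exact Groth.Agent.Lead.FlatBC.main_baseChange (CohB1.ProjSpaceOver.toBase n T) _ _ V.ι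
          hsqL _ inferInstance x (hfl _)
      haveI : IsLocallyNoetherian (V : Scheme.{u}) :=
        LocallyOfFiniteType.isLocallyNoetherian V.ι
      refine exists_lift_famι _ F _ hL hF N₀ hN₀ (V.ι ≫ φ) _ _ hsqV hflV (rkOf (P s'))
        (hC (P s')) (fun t m hm => ?_)
      have ht : P ((V.ι ≫ φ) t) = P s' := hV t.1 t.2
      exact (dfib_eq_iff S n F N₀ hN₀ P hP _ s').2 ht m hm

end Groth.Agent.Helper1.HT
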