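import Mathlib
import Groth.Prelude.Def_KRR
import Groth.Agent.Helper1.TwistExact
import Groth.Agent.Helper1.FlatTw2
import Groth.Agent.Helper1.Horseshoe
import Groth.Agent.Helper1.SerreCritC

set_option autoImplicit false
set_option linter.unusedSectionVars false
set_option linter.style.haveILetI false

/-!
# RegSh1: Castelnuovo–Mumford regular sheaves on `P^n_T` and short exact sequences
-/

namespace Groth.Agent.Helper1.RegSh

open CategoryTheory Limits AlgebraicGeometry TopologicalSpace Opposite MonoidalCategory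
open Groth.Agent.Helper1.SerreCrit

universe u

section tensorLeft

variable {X : Scheme.{u}}

/-- `L ⊗ -` and `- ⊗ L` are naturally isomorphic -/
noncomputable def tensorBiIsoRight (L : X.Modules) :
    (DCoh.tensorBi (X := X)).obj L ≅ DCoh.tensorRightMod L :=
  Functor.isoWhiskerLeft DCoh.toP
    (Functor.isoWhiskerRight (BraidedCategory.tensorLeftIsoTensorRight (CohB1.toPMod L)) DCoh.shP)

/-- tensoring on the left with an invertible module preserves short exact sequences -/
theorem shortExact_map_tensorBi {S : ShortComplex X.Modules} (hS : S.ShortExact)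
    (L : X.Modules) (hL : PicF.IsInvertible L) :
    (S.map ((DCoh.tensorBi (X := X)).obj L)).ShortExact :=
  ShortComplex.shortExact_of_iso (S.mapNatIso (tensorBiIsoRight L)).symm
    (Groth.Agent.Helper1.TwistExact.shortExact_map_tensorRightMod hS L hL)

end tensorLeft

section reg

variable (n : ℕ) (T : Scheme.{u})

/-- the sequence `R^i p_*(S(d))` is exact in the middle -/
theorem exact_Rpush_twF {S : ShortComplex (KRR.PY n T).Modules} (hS : S.ShortExact) (d : ℤ)
    (i : ℕ) :
    ∃ w : (Coh.RpushAb (KRR.pr n T) i).map ((toAbF _).map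
          (((DCoh.tensorBi (X := KRR.PY n T)).obj (Twist.twistOver n T d)).map S.f)) ≫
        (Coh.RpushAb (KRR.pr n T) i).map ((toAbF _).map
          (((DCoh.tensorBi (X := KRR.PY n T)).obj (Twist.twistOver n T d)).map S.g)) = 0,
      (ShortComplex.mk _ _ w).Exact := by
  have hL : PicF.IsInvertible (Twist.twistOver n T d) :=
    Groth.Agent.Helper1.FlatTw.isInvertible_twistOver n T d
  have h1 := shortExact_map_tensorBi hS _ hL
  have h2 : ((S.map ((DCoh.tensorBi (X := KRR.PY n T)).obj (Twist.twistOver n T d))).map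
      (toAbF (KRR.PY n T))).ShortExact := h1.map_of_exact (toAbF _)
  exact Groth.Agent.Helper1.Horseshoe.exact_rightDerived_map (F := Coh.pushAb (KRR.pr n T)) _ h2 i

/-- **S19431**: an extension of regular sheaves is regular -/
theorem isRegSheaf_X₂ {S : ShortComplex (KRR.PY n T).Modules} (hS : S.ShortExact)
    (h₁ : KRR.IsRegSheaf n T S.X₁) (h₃ : KRR.IsRegSheaf n T S.X₃) :
    KRR.IsRegSheaf n T S.X₂ := by
  intro i hi
  obtain ⟨w, hex⟩ := exact_Rpush_twF n T hS (-(i : ℤ)) i
  have z₁ : IsZero ((Coh.RpushAb (KRR.pr n T) i).obj ((toAbF (KRR.PY n T)).obj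
      (((DCoh.tensorBi (X := KRR.PY n T)).obj (Twist.twistOver n T (-(i : ℤ)))).obj S.X₁))) :=
    h₁ i hi
  have z₃ : IsZero ((Coh.RpushAb (KRR.pr n T) i).obj ((toAbF (KRR.PY n T)).obj
      (((DCoh.tensorBi (X := KRR.PY n T)).obj (Twist.twistOver n T (-(i : ℤ)))).obj S.X₃))) :=
    h₃ i hi
  exact hex.isZero_of_both_zeros (z₁.eq_of_src _ _) (z₃.eq_of_tgt _ _)

end reg

end Groth.Agent.Helper1.RegSh
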