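import Mathlib
import Groth.Agent.Helper1.RegSh1
import Groth.Agent.Helper1.TwistMul6
import Groth.Agent.Helper1.PUP8
import Groth.Agent.Helper4.PullTensor
import Groth.Agent.Lead.Ref1B
import Groth.Agent.Helper1.DeltaCmp

set_option autoImplicit false
set_option linter.unusedSectionVars false
set_option linter.style.haveILetI false

/-!
# RegSh2: twists of twists on `P^n_T`, and the long exact sequence of `R^i p_*`
-/

namespace Groth.Agent.Helper1.RegSh

open CategoryTheory Limits AlgebraicGeometry TopologicalSpace Opposite MonoidalCategory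
open Groth.Agent.Helper1.SerreCrit

universe u

variable (n : ℕ) (T : Scheme.{u})

/-- `O(a) ⊗ O(b) ≅ O(a + b)` on `P^n_T` -/
theorem nonempty_twistOver_mul (a b c : ℤ) (h : c = a + b) :
    Nonempty (CohB1.tensorMod (Twist.twistOver n T a) (Twist.twistOver n T b) ≅
      Twist.twistOver n T c) := by
  obtain ⟨e⟩ := Groth.Agent.Helper1.TwistMul.nonempty_twist_tensor_twist_iso
    (CohB1.polyGrading n (ULift.{u} ℤ)) (Groth.Agent.Helper1.PUP.hcovP n (R := ULift.{u} ℤ)) a b c h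
  have hA := Groth.Agent.Helper1.SerreVan.isInvertible_twist n (ULift.{u} ℤ) a
  have hB := Groth.Agent.Helper1.SerreVan.isInvertible_twist n (ULift.{u} ℤ) b
  exact ⟨(Groth.Agent.Helper4.PullTensor.pullTensorIso _ hA hB).symm ≪≫
    (Scheme.Modules.pullback _).mapIso e⟩

/-- `F(b)(a) ≅ F(a + b)` -/
theorem nonempty_twF_twF (a b c : ℤ) (h : c = a + b) (F : (KRR.PY n T).Modules) :
    Nonempty (KRR.twF n T a (KRR.twF n T b F) ≅ KRR.twF n T c F) := by
  obtain ⟨e⟩ := nonempty_twistOver_mul n T a b c h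
  exact ⟨(Groth.Agent.Lead.Ref1B.assoc _ _ _).symm ≪≫ PicGrp.tensorModIso e (Iso.refl F)⟩

/-- the functor `F ↦ R^i p_*(F(d))` -/
noncomputable abbrev RT (d : ℤ) (i : ℕ) :
    (KRR.PY n T).Modules ⥤ Sheaf (Opens.grothendieckTopology T) AddCommGrpCat.{u} :=
  (DCoh.tensorBi (X := KRR.PY n T)).obj (Twist.twistOver n T d) ⋙ toAbF _ ⋙
    Coh.RpushAb (KRR.pr n T) i

theorem isZero_RT_iff (d : ℤ) (i : ℕ) (F : (KRR.PY n T).Modules) :
    IsZero ((RT n T d i).obj F) ↔
      IsZero ((Coh.RpushAb (KRR.pr n T) i).obj (Coh.toAb (KRR.twF n T d F))) := Iff.rfl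

/-- the long exact sequence of the `R^i p_*(-(d))` -/
theorem hasLES_RT {S : ShortComplex (KRR.PY n T).Modules} (hS : S.ShortExact) (d : ℤ) :
    Groth.Agent.Helper1.DeltaCmp.HasLES (fun i => RT n T d i) S := by
  have hL : PicF.IsInvertible (Twist.twistOver n T d) :=
    Groth.Agent.Helper1.FlatTw.isInvertible_twistOver n T d
  have h1 := shortExact_map_tensorBi hS _ hL
  have h2 : ((S.map ((DCoh.tensorBi (X := KRR.PY n T)).obj (Twist.twistOver n T d))).map
      (toAbF (KRR.PY n T))).ShortExact := h1.map_of_exact (toAbF _)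
  exact Groth.Agent.Helper1.Horseshoe.hasLES_rightDerived (F := Coh.pushAb (KRR.pr n T)) _ h2

/-- isomorphic modules have isomorphic `R^i p_*` -/
theorem isZero_Rpush_of_iso {F G : (KRR.PY n T).Modules} (e : F ≅ G) (i : ℕ)
    (h : IsZero ((Coh.RpushAb (KRR.pr n T) i).obj (Coh.toAb F))) :
    IsZero ((Coh.RpushAb (KRR.pr n T) i).obj (Coh.toAb G)) :=
  h.of_iso ((toAbF _ ⋙ Coh.RpushAb (KRR.pr n T) i).mapIso e.symm)

/-- regularity of `F(1)` in terms of the twists of `F` -/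
theorem isZero_of_isRegSheaf_twF_one {F : (KRR.PY n T).Modules}
    (h : KRR.IsRegSheaf n T (KRR.twF n T 1 F)) (i : ℕ) (hi : 1 ≤ i) :
    IsZero ((RT n T (1 - (i : ℤ)) i).obj F) := by
  rw [isZero_RT_iff]
  obtain ⟨e⟩ := nonempty_twF_twF n T (-(i : ℤ)) 1 (1 - (i : ℤ)) (by ring) F
  exact isZero_Rpush_of_iso n T e i (h i hi)

theorem isRegSheaf_twF_one_of {F : (KRR.PY n T).Modules}
    (h : ∀ i : ℕ, 1 ≤ i → IsZero ((RT n T (1 - (i : ℤ)) i).obj F)) :
    KRR.IsRegSheaf n T (KRR.twF n T 1 F) := by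
  intro i hi
  obtain ⟨e⟩ := nonempty_twF_twF n T (-(i : ℤ)) 1 (1 - (i : ℤ)) (by ring) F
  exact isZero_Rpush_of_iso n T e.symm i ((isZero_RT_iff n T _ i F).1 (h i hi))

/-- **S19432** -/
theorem isRegSheaf_X₃ {S : ShortComplex (KRR.PY n T).Modules} (hS : S.ShortExact)
    (h₂ : KRR.IsRegSheaf n T S.X₂) (h₁ : KRR.IsRegSheaf n T (KRR.twF n T 1 S.X₁)) :
    KRR.IsRegSheaf n T S.X₃ := by
  intro i hi
  obtain ⟨δ, w₁, w₂, hex, -⟩ := hasLES_RT n T hS (-(i : ℤ)) i
  have z₂ : IsZero ((RT n T (-(i : ℤ)) i).obj S.X₂) := h₂ i hi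
  have z₁ : IsZero ((RT n T (-(i : ℤ)) (i + 1)).obj S.X₁) := by
    have := isZero_of_isRegSheaf_twF_one n T h₁ (i + 1) (by omega)
    have hd : (1 - ((i + 1 : ℕ) : ℤ)) = -(i : ℤ) := by push_cast; ring
    rw [hd] at this
    exact this
  exact hex.isZero_of_both_zeros (z₂.eq_of_src _ _) (z₁.eq_of_tgt _ _)

end Groth.Agent.Helper1.RegSh
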