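import Mathlib
import Groth.Agent.Helper1.RegSh2
import Groth.Agent.Helper1.RpCmpNat
import Groth.Agent.Helper1.KzLin3
import Groth.Agent.Helper1.Inv1
import Groth.Agent.Helper4.PullUnit
import Groth.Agent.Helper4.SchAdj

set_option autoImplicit false
set_option linter.unusedSectionVars false
set_option linter.style.haveILetI false

/-!
# RegSh3: `R^0 p_*(F(0)) = p_* F`; regularity of the kernel
-/

namespace Groth.Agent.Helper1.RegSh

open CategoryTheory Limits AlgebraicGeometry TopologicalSpace Opposite MonoidalCategory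
open Groth.Agent.Helper1.SerreCrit

universe u

variable (n : ℕ) (T : Scheme.{u})

/-- `O(0) ≅ O` on `P^n_T` -/
theorem nonempty_twistOver_zero :
    Nonempty (Twist.twistOver n T 0 ≅ Coh.structureModule (KRR.PY n T)) := by
  obtain ⟨e⟩ := Groth.Agent.Helper1.KzLin.tw_zero n (ULift.{u} ℤ)
  exact ⟨(Scheme.Modules.pullback _).mapIso e ≪≫ Groth.Agent.Helper4.PullUnit.pullbackUnitIso _⟩

theorem epi_of_natIso {C D : Type*} [Category C] [Category D] {F G : C ⥤ D} (e : F ≅ G)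
    {X Y : C} (f : X ⟶ Y) (h : Epi (G.map f)) : Epi (F.map f) := by
  have : F.map f = e.hom.app X ≫ G.map f ≫ e.inv.app Y := by
    rw [← e.hom.naturality_assoc]; simp
  rw [this]
  infer_instance

/-- `R^0 p_*(F(0)) ≅ p_* F` naturally; consequence for epimorphisms -/
theorem epi_RT_zero {F G : (KRR.PY n T).Modules} (g : F ⟶ G)
    (hepi : Epi ((Scheme.Modules.pushforward (KRR.pr n T)).map g)) :
    Epi ((RT n T 0 0).map g) := by
  haveI := Groth.Agent.Helper4.SchAdj.isGrothendieckAbelian_modules (KRR.PY n T)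
  haveI : HasInjectiveResolutions (KRR.PY n T).Modules := inferInstance
  obtain ⟨e₀⟩ := nonempty_twistOver_zero n T
  let s1 : (DCoh.tensorBi (X := KRR.PY n T)).obj (Twist.twistOver n T 0) ≅ 𝟭 _ :=
    (DCoh.tensorBi (X := KRR.PY n T)).mapIso e₀ ≪≫
      (show (DCoh.tensorBi (X := KRR.PY n T)).obj (Coh.structureModule (KRR.PY n T)) ≅ 𝟭 _ from
        Groth.Agent.Helper1.Inv.lUnitorIso (O := (KRR.PY n T).sheaf))
  let s2 : RT n T 0 0 ≅ toAbF (KRR.PY n T) ⋙ Coh.RpushAb (KRR.pr n T) 0 :=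
    Functor.isoWhiskerRight s1 (toAbF (KRR.PY n T) ⋙ Coh.RpushAb (KRR.pr n T) 0) ≪≫
      Functor.leftUnitor _
  let s3 : toAbF (KRR.PY n T) ⋙ Coh.RpushAb (KRR.pr n T) 0 ≅
      Coh.Rpush (KRR.pr n T) 0 ⋙ toAbF T :=
    (Groth.Agent.Helper1.RpCmpNat.iso (KRR.pr n T) 0).symm
  haveI : PreservesLimitsOfSize.{u, u} (Scheme.Modules.pushforward (KRR.pr n T)) :=
    (Scheme.Modules.pullbackPushforwardAdjunction (KRR.pr n T)).rightAdjoint_preservesLimits
  haveI : PreservesFiniteLimits (Scheme.Modules.pushforward (KRR.pr n T)) :=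
    PreservesLimitsOfSize.preservesFiniteLimits _
  let s4 : Coh.Rpush (KRR.pr n T) 0 ⋙ toAbF T ≅ Coh.push (KRR.pr n T) ⋙ toAbF T :=
    Functor.isoWhiskerRight (Functor.rightDerivedZeroIsoSelf _) (toAbF T)
  apply epi_of_natIso (s2 ≪≫ s3 ≪≫ s4)
  haveI := hepi
  show Epi ((toAbF T).map ((Scheme.Modules.pushforward (KRR.pr n T)).map g))
  infer_instance

/-- the key vanishing for **S19433** -/
theorem isZero_RT_X₁ {S : ShortComplex (KRR.PY n T).Modules} (hS : S.ShortExact)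
    (h₂ : KRR.IsRegSheaf n T (KRR.twF n T 1 S.X₂)) (h₃ : KRR.IsRegSheaf n T S.X₃)
    (hepi : Epi ((Scheme.Modules.pushforward (KRR.pr n T)).map S.g))
    (d : ℤ) (j : ℕ) (hd : d = -(j : ℤ)) : IsZero ((RT n T d (j + 1)).obj S.X₁) := by
  obtain ⟨δ, w₁, w₂, hex₁, hex₂⟩ := hasLES_RT n T hS d j
  have z₂ : IsZero ((RT n T d (j + 1)).obj S.X₂) := by
    have := isZero_of_isRegSheaf_twF_one n T h₂ (j + 1) (by omega)
    have hd' : (1 - ((j + 1 : ℕ) : ℤ)) = d := by rw [hd]; push_cast; ring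
    rw [hd'] at this
    exact this
  have hδ : δ = 0 := by
    rcases Nat.eq_zero_or_pos j with hj | hj
    · subst hj
      have hd0 : d = 0 := by rw [hd]; simp
      subst hd0
      haveI : Epi ((RT n T 0 0).map S.g) := epi_RT_zero n T S.g hepi
      exact (cancel_epi ((RT n T 0 0).map S.g)).1 (w₁.trans comp_zero.symm)
    · have z₃ : IsZero ((RT n T d j).obj S.X₃) := by
        rw [hd]
        exact h₃ j hj
      exact z₃.eq_of_src _ _
  exact hex₂.isZero_of_both_zeros hδ (z₂.eq_of_tgt _ _)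

/-- **S19433** -/
theorem isRegSheaf_twF_one_X₁ {S : ShortComplex (KRR.PY n T).Modules} (hS : S.ShortExact)
    (h₂ : KRR.IsRegSheaf n T (KRR.twF n T 1 S.X₂)) (h₃ : KRR.IsRegSheaf n T S.X₃)
    (hepi : Epi ((Scheme.Modules.pushforward (KRR.pr n T)).map S.g)) :
    KRR.IsRegSheaf n T (KRR.twF n T 1 S.X₁) := by
  apply isRegSheaf_twF_one_of
  intro i hi
  obtain ⟨j, rfl⟩ : ∃ j, i = j + 1 := ⟨i - 1, by omega⟩
  exact isZero_RT_X₁ n T hS h₂ h₃ hepi _ j (by push_cast; ring)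

end Groth.Agent.Helper1.RegSh
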