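import Groth.Agent.Helper1.MVTop5
import Groth.Agent.Helper1.CohTopFun

/-!
# Top cohomology of a finite cover by acyclic opens: the final statement for `Sheaf.H`
-/

namespace Groth.Agent.Helper1.MVTop

open CategoryTheory Limits Opposite TopologicalSpace Abelian
open Groth.Agent.Lead.CohTopB Groth.Agent.Helper1.CohTopFun

universe u
variable {X : TopCat.{u}}

section glob

/-- `Hom(ℤ, Z) ≃ Z(X)` -/
noncomputable def constEquiv (Z : CohTop.Ab X) : (constZ X ⟶ Z) ≃ Z.obj.obj (op ⊤) :=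
  (Ext.addEquiv₀ (X := constZ X) (Y := Z)).symm.toEquiv.trans
    (Sheaf.H.equiv₀ Z isTerminalTop).toEquiv

lemma constEquiv_comp {Z Z' : CohTop.Ab X} (f : constZ X ⟶ Z) (g : Z ⟶ Z') :
    constEquiv Z' (f ≫ g) = g.hom.app (op ⊤) (constEquiv Z f) := by
  show Sheaf.H.equiv₀ Z' isTerminalTop (Ext.addEquiv₀.symm (f ≫ g)) =
    g.hom.app (op ⊤) (Sheaf.H.equiv₀ Z isTerminalTop (Ext.addEquiv₀.symm f))
  rw [Sheaf.H.equiv₀_naturality]
  congr 1
  apply Ext.addEquiv₀.injective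
  rw [Sheaf.H.addEquiv₀_map, AddEquiv.apply_symm_apply, AddEquiv.apply_symm_apply]

/-- `ℤ_X ≅ ℤ` -/
noncomputable def freeTopIso : freeU (⊤ : Opens X) ≅ constZ X :=
  Coyoneda.ext _ _ (fun {Z} f => (constEquiv Z).symm (homEquiv ⊤ Z f))
    (fun {Z} f => (homEquiv ⊤ Z).symm (constEquiv Z f))
    (fun f => by simp) (fun f => by simp)
    (fun {Z Z'} f g => by
      apply (homEquiv ⊤ Z').injective
      rw [Equiv.apply_symm_apply, homEquiv_comp, Equiv.apply_symm_apply, constEquiv_comp])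

variable (F G : CohTop.Ab X)

/-- `Hⁿ(X, F) ≃ Hⁿ(⊤, F)` -/
noncomputable def globEquiv (n : ℕ) : Sheaf.H F n ≃+ CohTop.HU F n ⊤ where
  toFun x := (Ext.mk₀ (freeTopIso (X := X)).hom).comp x (zero_add n)
  invFun y := (Ext.mk₀ (freeTopIso (X := X)).inv).comp
    (show Ext (freeU (⊤ : Opens X)) F n from y) (zero_add n)
  left_inv x := by
    show (Ext.mk₀ (freeTopIso (X := X)).inv).comp
      ((Ext.mk₀ (freeTopIso (X := X)).hom).comp x (zero_add n)) (zero_add n) = x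
    rw [← Ext.comp_assoc _ _ _ (zero_add 0) (zero_add n) (by omega), Ext.mk₀_comp_mk₀,
      Iso.inv_hom_id, Ext.mk₀_id_comp]
  right_inv y := by
    show (Ext.mk₀ (freeTopIso (X := X)).hom).comp
      ((Ext.mk₀ (freeTopIso (X := X)).inv).comp
        (show Ext (freeU (⊤ : Opens X)) F n from y) (zero_add n)) (zero_add n) = y
    rw [← Ext.comp_assoc _ _ _ (zero_add 0) (zero_add n) (by omega), Ext.mk₀_comp_mk₀,
      Iso.hom_inv_id, Ext.mk₀_id_comp]
  map_add' x y := Ext.comp_add _ _ _ _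

variable {F G} in
lemma globEquiv_map (n : ℕ) (φ : F ⟶ G) (x : Sheaf.H F n) :
    globEquiv G n (Sheaf.H.map φ n x) = CohTop.HUmap φ n ⊤ (globEquiv F n x) :=
  (Ext.comp_assoc (Ext.mk₀ (freeTopIso (X := X)).hom) x (Ext.mk₀ φ) (zero_add n) (add_zero n)
    (by omega)).symm

end glob

section top

variable (F G : CohTop.Ab X) (U₀ : Opens X) (L : List (Opens X)) (hcov : Scup U₀ L = ⊤)

/-- the natural map from the sections over the total intersection to the top cohomology -/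
noncomputable def topMap : F.obj.obj (op (Icap U₀ L)) →+ Sheaf.H F L.length :=
  (globEquiv F L.length).symm.toAddMonoidHom.comp
    ((CohTop.res F L.length (le_inf (le_of_eq hcov.symm) le_rfl : (⊤ : Opens X) ≤ Scup U₀ L ⊓ ⊤)).comp
      ((pi F U₀ L ⊤).comp ((CohTop.res F 0 (inf_le_left : Icap U₀ L ⊓ ⊤ ≤ Icap U₀ L)).comp
        (sec0 F (Icap U₀ L)).symm.toAddMonoidHom)))

lemma topMap_apply (s : F.obj.obj (op (Icap U₀ L))) :
    topMap F U₀ L hcov s = (globEquiv F L.length).symm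
      (CohTop.res F L.length (le_inf (le_of_eq hcov.symm) le_rfl : (⊤ : Opens X) ≤ Scup U₀ L ⊓ ⊤)
        (pi F U₀ L ⊤ (CohTop.res F 0 (inf_le_left : Icap U₀ L ⊓ ⊤ ≤ Icap U₀ L)
          ((sec0 F (Icap U₀ L)).symm s)))) := rfl

variable {F G} in
/-- naturality of `topMap` in the sheaf -/
theorem topMap_natural (φ : F ⟶ G) (s : F.obj.obj (op (Icap U₀ L))) :
    Sheaf.H.map φ L.length (topMap F U₀ L hcov s) =
      topMap G U₀ L hcov (φ.hom.app (op (Icap U₀ L)) s) := by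
  rw [topMap_apply, topMap_apply]
  apply (globEquiv G L.length).injective
  rw [globEquiv_map, AddEquiv.apply_symm_apply, AddEquiv.apply_symm_apply, HUmap_res, HUmap_pi,
    HUmap_res]
  congr 3
  apply (sec0 G (Icap U₀ L)).injective
  rw [sec0_HUmap, AddEquiv.apply_symm_apply, AddEquiv.apply_symm_apply]

variable {F}

theorem topMap_surjective {PP : Opens X → Prop} (h : Acyc F PP) (hU₀ : PP U₀)
    (hL : ∀ U ∈ L, PP U) : Function.Surjective (topMap F U₀ L hcov) := by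
  intro z
  obtain ⟨x, hx⟩ := pi_surjective h U₀ hU₀ L hL ⊤ (good_top PP)
    (CohTop.res F L.length (inf_le_right : Scup U₀ L ⊓ ⊤ ≤ ⊤) (globEquiv F L.length z))
  refine ⟨sec0 F (Icap U₀ L) (CohTop.res F 0 (le_inf le_rfl le_top) x), ?_⟩
  rw [topMap_apply, AddEquiv.symm_apply_apply, res_res, res_self, hx, res_res, res_self,
    AddEquiv.symm_apply_apply]

theorem topMap_eq_zero_iff {PP : Opens X → Prop} (h : Acyc F PP) (hU₀ : PP U₀)
    (hL : ∀ U ∈ L, PP U) (hne : L ≠ []) (s : F.obj.obj (op (Icap U₀ L))) :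
    topMap F U₀ L hcov s = 0 ↔
      CohTop.res F 0 (inf_le_left : Icap U₀ L ⊓ ⊤ ≤ Icap U₀ L) ((sec0 F (Icap U₀ L)).symm s) ∈
        Bd F U₀ L ⊤ := by
  rw [← pi_eq_zero_iff F h U₀ hU₀ L hL hne ⊤ (good_top PP), topMap_apply]
  constructor
  · intro h1
    have h2 := congrArg (globEquiv F L.length) h1
    rw [AddEquiv.apply_symm_apply, map_zero] at h2
    apply (res_bijective F L.length (le_inf (le_of_eq hcov.symm) le_rfl :
      (⊤ : Opens X) ≤ Scup U₀ L ⊓ ⊤) inf_le_right).1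
    rw [h2, map_zero]
  · intro h1
    rw [h1, map_zero, map_zero]

/-- sections coming from a face are killed by `topMap` -/
theorem topMap_face {PP : Opens X → Prop} (h : Acyc F PP) (hU₀ : PP U₀)
    (hL : ∀ U ∈ L, PP U) (hne : L ≠ []) (f : Opens X) (hf : f ∈ faces U₀ L)
    (hle : Icap U₀ L ≤ f) (t : F.obj.obj (op f)) :
    topMap F U₀ L hcov (F.obj.map (homOfLE hle).op t) = 0 := by
  rw [topMap_eq_zero_iff U₀ L hcov h hU₀ hL hne]
  apply Rng_le_supRng F (Icap U₀ L ⊓ ⊤) _ (f ⊓ ⊤) (List.mem_map.2 ⟨f, hf, rfl⟩)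
  have h1 : (sec0 F (Icap U₀ L)).symm (F.obj.map (homOfLE hle).op t) =
      CohTop.res F 0 hle ((sec0 F f).symm t) := by
    apply (sec0 F (Icap U₀ L)).injective
    rw [AddEquiv.apply_symm_apply, sec0_res, AddEquiv.apply_symm_apply]
  rw [h1, res_res]
  exact res_mem_Rng F _ inf_le_left _

/-- the kernel of `topMap` is generated by the sections coming from the faces -/
theorem mem_of_topMap_eq_zero {PP : Opens X → Prop} (h : Acyc F PP) (hU₀ : PP U₀)
    (hL : ∀ U ∈ L, PP U) (hne : L ≠ []) (K : AddSubgroup (F.obj.obj (op (Icap U₀ L))))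
    (hK : ∀ f ∈ faces U₀ L, ∀ (hle : Icap U₀ L ≤ f) (t : F.obj.obj (op f)),
      F.obj.map (homOfLE hle).op t ∈ K)
    (s : F.obj.obj (op (Icap U₀ L))) (hs : topMap F U₀ L hcov s = 0) : s ∈ K := by
  rw [topMap_eq_zero_iff U₀ L hcov h hU₀ hL hne] at hs
  let ψ : CohTop.HU F 0 (Icap U₀ L ⊓ ⊤) →+ F.obj.obj (op (Icap U₀ L)) :=
    (sec0 F (Icap U₀ L)).toAddMonoidHom.comp
      (CohTop.res F 0 (le_inf le_rfl le_top : Icap U₀ L ≤ Icap U₀ L ⊓ ⊤))
  have key : Bd F U₀ L ⊤ ≤ K.comap ψ := by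
    apply supRng_le
    intro f' hf'
    obtain ⟨f, hf, rfl⟩ := List.mem_map.1 hf'
    rintro _ ⟨y, rfl⟩
    have hle := Icap_le_of_mem_faces U₀ L f hf
    show sec0 F (Icap U₀ L) (CohTop.res F 0 _ (CohTop.res F 0 _ y)) ∈ K
    rw [res_res]
    have hle2 : f ≤ (f ⊓ ⊤) ⊔ (Icap U₀ L ⊓ ⊤) := le_trans (le_inf le_rfl le_top) le_sup_left
    have := hK f hf hle (sec0 F f (CohTop.res F 0 hle2 y))
    rw [← sec0_res, res_res] at this
    exact this
  have h2 := key hs
  have h3 : ψ (CohTop.res F 0 (inf_le_left : Icap U₀ L ⊓ ⊤ ≤ Icap U₀ L)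
      ((sec0 F (Icap U₀ L)).symm s)) = s := by
    show sec0 F (Icap U₀ L) (CohTop.res F 0 _ (CohTop.res F 0 _ _)) = s
    rw [res_res, res_self, AddEquiv.apply_symm_apply]
  rw [AddSubgroup.mem_comap, h3] at h2
  exact h2

/-- vanishing above the number of opens -/
theorem subsingleton_H_of_cover (hcov : Scup U₀ L = ⊤) {PP : Opens X → Prop} (h : Acyc F PP)
    (hU₀ : PP U₀) (hL : ∀ U ∈ L, PP U) (q : ℕ) (hq : L.length < q) :
    Subsingleton (Sheaf.H F q) := by
  have h1 := subsingleton_HU_Scup h U₀ hU₀ L hL ⊤ (good_top PP) q hq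
  have h2 : Subsingleton (CohTop.HU F q ⊤) :=
    (resEquiv F q (le_inf (le_of_eq hcov.symm) le_rfl : (⊤ : Opens X) ≤ Scup U₀ L ⊓ ⊤)
      inf_le_right).symm.toEquiv.subsingleton
  exact (globEquiv F q).toEquiv.subsingleton

end top

end Groth.Agent.Helper1.MVTop
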