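import Mathlib
import Groth.Agent.Helper1.DualSh2
import Groth.Agent.Helper1.MVTop6
import Groth.Agent.Helper1.ColimCoh
import Groth.Agent.Helper1.CoprodFilt
import Groth.Agent.Helper3.SheafModLib

set_option autoImplicit false
set_option linter.unusedSectionVars false
set_option linter.style.haveILetI false

/-!
# Cohomology of a quasi-compact quasi-separated space commutes with coproducts; dualizing pairs
and arbitrary coproducts
-/

namespace Groth.Agent.Helper1.DualSh

open CategoryTheory AlgebraicGeometry Limits Opposite TopologicalSpace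

universe u

section top

variable {X : TopCat.{u}}

/-- `H^q(X, -) ≅ H^q(⊤, -)` as functors -/
noncomputable def functorHIso (q : ℕ) :
    Sheaf.functorH (Opens.grothendieckTopology X) q ≅
      ((Sheaf.cohomologyPresheafFunctor (Opens.grothendieckTopology X) q).flip.obj
        (op (⊤ : Opens X)) : CohTop.Ab X ⥤ AddCommGrpCat.{u}) :=
  NatIso.ofComponents (fun F => AddEquiv.toAddCommGrpIso
      (X := (Sheaf.functorH (Opens.grothendieckTopology X) q).obj F)
      (Y := ((Sheaf.cohomologyPresheafFunctor (Opens.grothendieckTopology X) q).flip.obj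
        (op (⊤ : Opens X))).obj F) (Groth.Agent.Helper1.MVTop.globEquiv F q)) (by
    intro F G φ
    ext x
    exact Groth.Agent.Helper1.MVTop.globEquiv_map q φ x)

/-- cohomology of a compact quasi-separated prespectral space commutes with coproducts -/
theorem preservesCoproduct_functorH [PrespectralSpace X] [CompactSpace X] [QuasiSeparatedSpace X]
    (q : ℕ) {J : Type u} (g : J → CohTop.Ab X) :
    PreservesColimit (Discrete.functor g) (Sheaf.functorH (Opens.grothendieckTopology X) q) := by
  haveI : HasColimitsOfSize.{u, u} (CohTop.Ab X) := inferInstance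
  haveI : HasCoproduct g := inferInstance
  have hc : IsCompact ((⊤ : Opens X) : Set X) := by
    rw [Opens.coe_top]; exact isCompact_univ
  have hqs : IsQuasiSeparated ((⊤ : Opens X) : Set X) := by
    rw [Opens.coe_top]; exact isQuasiSeparated_univ
  haveI h1 : PreservesColimitsOfShape (Finset (Discrete J))
      ((Sheaf.cohomologyPresheafFunctor (Opens.grothendieckTopology X) q).flip.obj
        (op (⊤ : Opens X)) : CohTop.Ab X ⥤ AddCommGrpCat.{u}) :=
    Groth.Agent.Helper1.ColimCoh.preservesColimitsOfShape_cohomology (ι := Finset (Discrete J))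
      ⊤ hc hqs q
  haveI : PreservesColimitsOfShape (Finset (Discrete J))
      (Sheaf.functorH (Opens.grothendieckTopology X) q) :=
    preservesColimitsOfShape_of_natIso (functorHIso q).symm
  haveI : PreservesFiniteCoproducts (Sheaf.functorH (Opens.grothendieckTopology X) q) :=
    inferInstance
  haveI : IsIso (sigmaComparison (Sheaf.functorH (Opens.grothendieckTopology X) q) g) :=
    Groth.Agent.Helper1.CoprodFilt.isIso_sigmaComparison _ g
  exact PreservesCoproduct.of_iso_comparison _ g

end top

section scheme

variable {X : Scheme.{u}}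

/-- the underlying abelian sheaf functor -/
noncomputable abbrev tAb (X : Scheme.{u}) :
    X.Modules ⥤ Sheaf (Opens.grothendieckTopology X) AddCommGrpCat.{u} :=
  SheafOfModules.toSheaf X.ringCatSheaf

/-- `H^q(X, -)` on modules, as a functor to abelian groups -/
noncomputable abbrev HF (X : Scheme.{u}) (q : ℕ) : X.Modules ⥤ AddCommGrpCat.{u} :=
  tAb X ⋙ Sheaf.functorH (Opens.grothendieckTopology X) q

theorem preservesCoproduct_HF [CompactSpace X] [QuasiSeparatedSpace X] (q : ℕ) {J : Type u}
    (E : J → X.Modules) : PreservesColimit (Discrete.functor E) (HF X q) := by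
  haveI : PreservesColimitsOfSize.{u, u} (tAb X) :=
    Groth.Agent.Helper3.SheafModLib.toSheaf_preservesColimits X.ringCatSheaf
  haveI h1 := preservesCoproduct_functorH (X := X.carrier) q
    (fun j => (tAb X).obj (E j))
  haveI : PreservesColimit (Discrete.functor E ⋙ tAb X)
      (Sheaf.functorH (Opens.grothendieckTopology X) q) :=
    preservesColimit_of_iso_diagram _
      (Discrete.natIso (fun i => Iso.refl _) :
        Discrete.functor (fun j => (tAb X).obj (E j)) ≅ Discrete.functor E ⋙ tAb X)
  infer_instance

/-- the cohomology of a coproduct is generated by the images of the cohomology of the summands -/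
theorem closure_eq_top [CompactSpace X] [QuasiSeparatedSpace X] (q : ℕ) {J : Type u}
    (E : J → X.Modules) :
    AddSubgroup.closure {x : Coh.HH X (∐ E) q | ∃ (j : J) (y : Coh.HH X (E j) q),
      x = Sheaf.H.map ((SheafOfModules.toSheaf X.ringCatSheaf).map (Sigma.ι E j)) q y} = ⊤ := by
  haveI := preservesCoproduct_HF q E
  set S : AddSubgroup (Coh.HH X (∐ E) q) := AddSubgroup.closure {x : Coh.HH X (∐ E) q |
    ∃ (j : J) (y : Coh.HH X (E j) q),
      x = Sheaf.H.map ((SheafOfModules.toSheaf X.ringCatSheaf).map (Sigma.ι E j)) q y} with hS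
  have hc : IsColimit ((HF X q).mapCocone (colimit.cocone (Discrete.functor E))) :=
    isColimitOfPreserves (HF X q) (colimit.isColimit _)
  let p : (HF X q).obj (∐ E) ⟶ AddCommGrpCat.of (Coh.HH X (∐ E) q ⧸ S) :=
    AddCommGrpCat.ofHom (QuotientAddGroup.mk' S)
  have hp : p = 0 := by
    refine hc.hom_ext ?_
    rintro ⟨j⟩
    rw [comp_zero]
    ext y
    show (QuotientAddGroup.mk' S) (Sheaf.H.map ((SheafOfModules.toSheaf X.ringCatSheaf).map
      (Sigma.ι E j)) q y) = 0
    rw [QuotientAddGroup.mk'_apply, QuotientAddGroup.eq_zero_iff]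
    exact AddSubgroup.subset_closure ⟨j, y, rfl⟩
  rw [eq_top_iff]
  intro x _
  have h1 : (QuotientAddGroup.mk' S) x = 0 := by
    have := congrArg (fun f => f.hom x) hp
    exact this
  rwa [QuotientAddGroup.mk'_apply, QuotientAddGroup.eq_zero_iff] at h1

end scheme

section dual

variable {A : Type u} [CommRing A] {X : Scheme.{u}} [X.Over (Spec (CommRingCat.of A))]
variable {ω : X.Modules} {q : ℕ} {t : Coh.HH X ω q →ₗ[A] A}

/-- dualizing pairs and arbitrary coproducts -/
theorem IsDual.sigma [CompactSpace X] [QuasiSeparatedSpace X] {J : Type u} (E : J → X.Modules)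
    (h : ∀ j, IsDual A q t (E j)) : IsDual A q t (∐ E) := by
  intro ψ
  have hψj : ∀ j, ∃! φ : E j ⟶ ω, ∀ y, (ψ.comp (Canon.HHlin A (Sigma.ι E j) q)) y =
      t (Sheaf.H.map ((SheafOfModules.toSheaf X.ringCatSheaf).map φ) q y) := fun j => h j _
  choose φj hφj huniq using hψj
  refine ⟨Sigma.desc φj, ?_, ?_⟩
  · intro x
    have hx : x ∈ AddSubgroup.closure {x : Coh.HH X (∐ E) q | ∃ (j : J) (y : Coh.HH X (E j) q),
        x = Sheaf.H.map ((SheafOfModules.toSheaf X.ringCatSheaf).map (Sigma.ι E j)) q y} := by
      rw [closure_eq_top q E]; trivial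
    induction hx using AddSubgroup.closure_induction with
    | mem x hx =>
      obtain ⟨j, y, rfl⟩ := hx
      refine (hφj j y).trans (congrArg t ?_)
      refine Eq.trans ?_ (Hmap_comp (Sigma.ι E j) (Sigma.desc φj) q y)
      exact congrArg (fun m => Sheaf.H.map ((SheafOfModules.toSheaf X.ringCatSheaf).map m) q y)
        (Sigma.ι_desc φj j).symm
    | zero =>
      rw [map_zero, map_zero, map_zero]
    | add x y _ _ hx hy =>
      rw [map_add, map_add, map_add, hx, hy]
    | neg x _ hx =>
      rw [map_neg, map_neg, map_neg, hx]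
  · intro φ hφ
    apply Sigma.hom_ext
    intro j
    rw [Sigma.ι_desc]
    apply huniq j
    intro y
    exact (hφ _).trans (congrArg t (Hmap_comp (Sigma.ι E j) φ q y).symm)

end dual

end Groth.Agent.Helper1.DualSh
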