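import Mathlib
import Groth.Agent.Helper1.HHLes2
import Groth.Agent.Helper1.KzMult
import Groth.Agent.Helper1.GammaLin2
import Groth.Agent.Helper1.SerreCritE
import Groth.Agent.Helper4.StalkExact

/-!
# Exactness of global sections of an exact sequence whose kernel has no `H¹`
-/

set_option autoImplicit false
set_option linter.style.haveILetI false

namespace Groth.Agent.Helper1.GamEx

open CategoryTheory Limits AlgebraicGeometry Opposite

universe u

variable (A : Type u) [CommRing A] {X : Scheme.{u}} [X.Over (Spec (CommRingCat.of A))]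

include A in
/-- if `g : E ⟶ F` is an epimorphism whose kernel has vanishing `H¹`, then `g` is surjective on
global sections -/
theorem surjective_app_top_of_epi {E F : X.Modules} (g : E ⟶ F) [Epi g]
    (hK : Subsingleton (Coh.HH X (kernel g) 1)) : Function.Surjective (g.app ⊤) := by
  apply Groth.Agent.Helper1.KzMult.surjective_app_top A
  intro y
  have hex := Groth.Agent.Helper1.HHLes.exact_δker A g 0
  exact (hex y).1 (Subsingleton.elim _ _)

include A in
/-- if `C` is exact and the kernel of `C.f` has vanishing `H¹`, then `C` is exact on global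
sections -/
theorem exact_app_top (C : ShortComplex X.Modules) (hC : C.Exact)
    (hK : Subsingleton (Coh.HH X (kernel C.f) 1)) :
    Function.Exact (C.f.app ⊤) (C.g.app ⊤) := by
  intro t
  constructor
  · intro ht
    let K : ShortComplex X.Modules := ShortComplex.mk (kernel.ι C.g) C.g (kernel.condition C.g)
    have hKe : K.Exact := ShortComplex.exact_of_f_is_kernel _ (kernelIsKernel C.g)
    haveI : Mono K.f := inferInstanceAs (Mono (kernel.ι C.g))
    obtain ⟨k, hk⟩ := (Groth.Agent.Helper4.StalkExact.app_exact K hKe ⊤ t).1 ht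
    haveI : Epi (kernel.lift C.g C.f C.zero) := by
      rw [← C.exact_iff_epi_kernel_lift]; exact hC
    have e : kernel (kernel.lift C.g C.f C.zero) ≅ kernel C.f :=
      (kernelCompMono (kernel.lift C.g C.f C.zero) (kernel.ι C.g)).symm ≪≫
        kernelIsoOfEq (kernel.lift_ι C.g C.f C.zero)
    have hK' : Subsingleton (Coh.HH X (kernel (kernel.lift C.g C.f C.zero)) 1) :=
      Groth.Agent.Helper1.SerreCrit.subsingleton_HH_of_iso e.symm 1 hK
    obtain ⟨r, hr⟩ := surjective_app_top_of_epi A (kernel.lift C.g C.f C.zero) hK' k
    refine ⟨r, ?_⟩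
    have h1 : (kernel.lift C.g C.f C.zero ≫ kernel.ι C.g).app ⊤ r = C.f.app ⊤ r := by
      rw [kernel.lift_ι]
    refine h1.symm.trans ?_
    show (kernel.ι C.g).app ⊤ ((kernel.lift C.g C.f C.zero).app ⊤ r) = t
    rw [hr]
    exact hk
  · rintro ⟨r, rfl⟩
    have h1 : (C.f ≫ C.g).app ⊤ r = 0 := by
      rw [C.zero]
      rfl
    exact h1

/-- the same statement for the functor `CohIII.globalSectionsA` -/
theorem exact_globalSectionsA (C : ShortComplex X.Modules) (hC : C.Exact)
    (hK : Subsingleton (Coh.HH X (kernel C.f) 1)) :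
    Function.Exact ((CohIII.globalSectionsA A).map C.f).hom
      ((CohIII.globalSectionsA A).map C.g).hom :=
  exact_app_top A C hC hK

end Groth.Agent.Helper1.GamEx
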