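import Groth.Agent.Helper1.CohTopFun

/-!
# Pushforward along a closed embedding is exact; `Hⁿ(X, F) ≅ Hⁿ(Y, f_* F)`
-/

namespace Groth.Agent.Helper1.CohTopFun

open CategoryTheory Limits Opposite TopologicalSpace Abelian
open Groth.Agent.Lead.CohTopB
open Groth.Agent.Helper1.DeltaCmp
open Groth.Agent.Helper1.CechTop
open Groth.Agent.Helper1.CohTopExt

universe u

variable {X Y : TopCat.{u}} (f : X ⟶ Y)

instance : PreservesLimitsOfSize.{u, u} (CohTop.push f) :=
  (TopCat.Sheaf.pullbackPushforwardAdjunction AddCommGrpCat.{u} f).rightAdjoint_preservesLimits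

instance : PreservesFiniteLimits (CohTop.push f) := PreservesLimits.preservesFiniteLimits _

/-- sections of a sheaf over the empty open form a trivial group -/
lemma subsingleton_sections_of_isEmpty (F : CohTop.Ab X) (W : Opens X) (hW : W = ⊥) :
    Subsingleton (F.obj.obj (op W)) := by
  subst hW
  refine ⟨fun a b => ?_⟩
  refine TopCat.Sheaf.eq_of_locally_eq' F (fun x : PEmpty.{u + 1} => x.elim) ⊥
    (fun x => x.elim) ?_ a b (fun x => x.elim)
  intro x hx
  exact hx.elim

lemma push_epi_of_isClosedEmbedding (hf : Topology.IsClosedEmbedding f) {F G : CohTop.Ab X}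
    (φ : F ⟶ G) (hφ : Epi φ) : Epi ((CohTop.push f).map φ) := by
  refine (TopCat.Sheaf.isLocallySurjective_iff_epi ((CohTop.push f).map φ)).mp ?_
  rw [TopCat.Presheaf.isLocallySurjective_iff]
  have h1 := (TopCat.Presheaf.isLocallySurjective_iff φ.hom).mp
    ((TopCat.Sheaf.isLocallySurjective_iff_epi φ).mpr hφ)
  intro V s y hy
  by_cases hyf : y ∈ Set.range f
  · obtain ⟨x, rfl⟩ := hyf
    obtain ⟨W, hW, ⟨t, ht⟩, hxW⟩ := h1 ((Opens.map f).obj V) s x hy
    -- `W` is the preimage of an open of `Y`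
    obtain ⟨W', hW'o, hW'⟩ := hf.isInducing.isOpen_iff.mp W.2
    let V' : Opens Y := ⟨W', hW'o⟩ ⊓ V
    have hV'W : (Opens.map f).obj V' ≤ W := by
      intro z hz
      have : z ∈ f ⁻¹' W' := hz.1
      rw [hW'] at this
      exact this
    have hV'V : V' ≤ V := inf_le_right
    refine ⟨V', hV'V, ⟨F.obj.map (homOfLE hV'W).op t, ?_⟩, ⟨?_, hy⟩⟩
    · have h2 := NatTrans.naturality_apply φ.hom (homOfLE hV'W).op t
      show φ.hom.app (op ((Opens.map f).obj V')) (F.obj.map (homOfLE hV'W).op t) =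
        G.obj.map ((Opens.map f).map (homOfLE hV'V)).op s
      rw [h2, ht]
      show G.obj.map _ (G.obj.map _ s) = _
      rw [← ConcreteCategory.comp_apply, ← G.obj.map_comp]
      rfl
    · show f x ∈ W'
      have : x ∈ f ⁻¹' W' := by
        rw [hW']
        exact hxW
      exact this
  · let V' : Opens Y := ⟨(Set.range f)ᶜ, hf.isClosed_range.isOpen_compl⟩ ⊓ V
    have hV'V : V' ≤ V := inf_le_right
    have hempty : (Opens.map f).obj V' = ⊥ := by
      apply le_antisymm _ bot_le
      intro z hz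
      exact (hz.1 ⟨z, rfl⟩).elim
    refine ⟨V', hV'V, ⟨0, ?_⟩, ⟨hyf, hy⟩⟩
    have hsub := subsingleton_sections_of_isEmpty G _ hempty
    exact hsub.elim _ _

lemma preservesFiniteColimits_push (hf : Topology.IsClosedEmbedding f) :
    PreservesFiniteColimits (CohTop.push f) :=
  preservesFiniteColimits_of_epi _ (fun φ hφ => push_epi_of_isClosedEmbedding f hf φ hφ)

/-- the derived functors of `F ↦ Γ(X, F)` -/
noncomputable abbrev HSeq (n : ℕ) : CohTop.Ab X ⥤ AddCommGrpCat.{u} :=
  extSeq (𝟭 (CohTop.Ab X)) (constZ X) n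

/-- the derived functors of `F ↦ Γ(Y, f_* F)` -/
noncomputable abbrev HpSeq (n : ℕ) : CohTop.Ab X ⥤ AddCommGrpCat.{u} :=
  extSeq (CohTop.push f) (constZ Y) n

/-- `H⁰(X, F) ≅ F(X)`, naturally in `F` -/
noncomputable def h0Iso : HSeq (X := X) 0 ≅ sectionsFunctor ⊤ :=
  NatIso.ofComponents (fun F => (Sheaf.H.equiv₀ F isTerminalTop).toAddCommGrpIso)
    (by
      intro F G φ
      apply AddCommGrpCat.hom_ext
      apply AddMonoidHom.ext
      intro x
      exact (Sheaf.H.equiv₀_naturality isTerminalTop φ x).symm)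

/-- `H⁰(Y, f_* F) ≅ F(X)`, naturally in `F` -/
noncomputable def hp0Iso : HpSeq f 0 ≅ sectionsFunctor ⊤ :=
  NatIso.ofComponents (fun F =>
    (Sheaf.H.equiv₀ ((CohTop.push f).obj F) isTerminalTop).toAddCommGrpIso)
    (by
      intro F G φ
      apply AddCommGrpCat.hom_ext
      apply AddMonoidHom.ext
      intro x
      exact (Sheaf.H.equiv₀_naturality isTerminalTop ((CohTop.push f).map φ) x).symm)

lemma isZero_HSeq_of_injective (I : CohTop.Ab X) [Injective I] (n : ℕ) :
    IsZero ((HSeq (n + 1)).obj I) := by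
  have : Subsingleton ((HSeq (n + 1)).obj I) :=
    subsingleton_of_forall_eq 0 fun x => Ext.eq_zero_of_injective (C := CohTop.Ab X) x
  exact AddCommGrpCat.isZero_of_subsingleton _

lemma isZero_HpSeq_of_injective (I : CohTop.Ab X) [Injective I] (n : ℕ) :
    IsZero ((HpSeq f (n + 1)).obj I) := by
  have : TopCat.Sheaf.IsFlasque I := isFlasque_of_injective I
  have : TopCat.Sheaf.IsFlasque ((CohTop.push f).obj I) :=
    TopCat.Sheaf.IsFlasque.pushforward_isFlasque I f
  have : Subsingleton ((HpSeq f (n + 1)).obj I) :=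
    Groth.Agent.S0453.result ((CohTop.push f).obj I) n
  exact AddCommGrpCat.isZero_of_subsingleton _

theorem nonempty_iso_H_push (hf : Topology.IsClosedEmbedding f) (n : ℕ) (F : CohTop.Ab X) :
    Nonempty ((HSeq n).obj F ≅ (HpSeq f n).obj F) := by
  have := preservesFiniteColimits_push f hf
  have e : HSeq (X := X) 0 ≅ HpSeq f 0 := h0Iso ≪≫ (hp0Iso f).symm
  have key : ∀ F : CohTop.Ab X, True →
      Nonempty (Effacement (fun n => HSeq n) (fun n => HpSeq f n) (fun _ => True) F) := by
    intro F _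
    obtain ⟨S, hS, hI, rfl⟩ : ∃ (S : ShortComplex (CohTop.Ab X)) (_ : S.ShortExact)
        (_ : Injective S.X₂), S.X₁ = F := ⟨injSC F, injSC_shortExact F, inferInstance, rfl⟩
    have l1 : HasLES (fun n => HSeq n) S :=
      hasLES_extSeq (𝟭 (CohTop.Ab X)) (constZ X) S hS
    have l2 : HasLES (fun n => HpSeq f n) S :=
      hasLES_extSeq (CohTop.push f) (constZ Y) S hS
    exact ⟨{
      S := S
      iso := rfl
      mem := trivial
      zero := fun n => isZero_HSeq_of_injective _ n
      zero' := fun n => isZero_HpSeq_of_injective f _ n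
      les := l1
      les' := l2 }⟩
  exact nonempty_iso (fun _ => True) e key n F trivial

end Groth.Agent.Helper1.CohTopFun
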