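import Groth.Agent.Helper1.SerreD
import Groth.Agent.Helper1.CohTopPush

/-!
# Vanishing of cohomology of quasi-coherent modules on finite unions of affines (Mayer–Vietoris)
-/

set_option autoImplicit false

namespace Groth.Agent.Helper1.Serre

open CategoryTheory Limits Opposite TopologicalSpace AlgebraicGeometry Abelian

universe u

section MV

variable {T : TopCat.{u}}

/-- Mayer–Vietoris vanishing -/
lemma subsingleton_HU_sup (F : CohTop.Ab T) (U V : Opens T) (n : ℕ)
    (h1 : Subsingleton (CohTop.HU F n (U ⊓ V))) (h2 : Subsingleton (CohTop.HU F (n + 1) U))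
    (h3 : Subsingleton (CohTop.HU F (n + 1) V)) :
    Subsingleton (CohTop.HU F (n + 1) (U ⊔ V)) := by
  let S := Opens.mayerVietorisSquare U V
  have hex := S.sequence_exact F n (n + 1) rfl
  have h := hex.exact 2
  have z1 : IsZero (F.H' n S.X₁) :=
    @AddCommGrpCat.isZero_of_subsingleton (F.H' n S.X₁) h1
  have z2 : IsZero (F.H' (n + 1) S.X₂) :=
    @AddCommGrpCat.isZero_of_subsingleton (F.H' (n + 1) S.X₂) h2
  have z3 : IsZero (F.H' (n + 1) S.X₃) :=
    @AddCommGrpCat.isZero_of_subsingleton (F.H' (n + 1) S.X₃) h3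
  have z23 : IsZero (F.H' (n + 1) S.X₂ ⊞ F.H' (n + 1) S.X₃) := by
    rw [IsZero.iff_id_eq_zero]
    apply biprod.hom_ext
    · exact z2.eq_of_tgt _ _
    · exact z3.eq_of_tgt _ _
  have hz : IsZero (F.H' (n + 1) S.X₄) :=
    h.isZero_X₂ (z1.eq_of_src _ _) (z23.eq_of_tgt _ _)
  exact AddCommGrpCat.subsingleton_of_isZero hz

end MV

variable {X : Scheme.{u}} (M : X.Modules) [M.IsQuasicoherent]

/-- cohomology of a quasi-coherent module over a union of `k` opens from a family of affine opens
closed under intersections vanishes in degrees `≥ max k 1` -/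
theorem subsingleton_HU_finset_sup (𝒜 : Set X.Opens) (h𝒜 : ∀ U ∈ 𝒜, IsAffineOpen U)
    (hinf : ∀ U ∈ 𝒜, ∀ V ∈ 𝒜, U ⊓ V ∈ 𝒜) :
    ∀ (k : ℕ) (s : Finset X.Opens), (∀ W ∈ s, W ∈ 𝒜) → s.card ≤ k → ∀ n : ℕ, k ≤ n → 1 ≤ n →
      Subsingleton (CohTop.HU (Coh.toAb M) n (s.sup id)) := by
  classical
  intro k
  induction k with
  | zero =>
    intro s _ hs n _ hn
    have : s = ∅ := Finset.card_eq_zero.1 (Nat.le_zero.1 hs)
    subst this
    obtain ⟨m, rfl⟩ := Nat.exists_eq_succ_of_ne_zero (Nat.one_le_iff_ne_zero.1 hn)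
    rw [Finset.sup_empty]
    exact subsingleton_HU_of_isAffineOpen M (isAffineOpen_bot X) m
  | succ k ih =>
    intro s hs𝒜 hs n hkn hn
    obtain ⟨m, rfl⟩ := Nat.exists_eq_succ_of_ne_zero (Nat.one_le_iff_ne_zero.1 hn)
    have hkm : k ≤ m := Nat.le_of_succ_le_succ hkn
    rcases s.eq_empty_or_nonempty with rfl | ⟨A, hA⟩
    · rw [Finset.sup_empty]
      exact subsingleton_HU_of_isAffineOpen M (isAffineOpen_bot X) m
    · have hs' : (s.erase A).card ≤ k := by
        rw [Finset.card_erase_of_mem hA]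
        omega
      have hsup : s.sup id = A ⊔ (s.erase A).sup id := by
        conv_lhs => rw [← Finset.insert_erase hA]
        rw [Finset.sup_insert]
        rfl
      rw [hsup]
      have hA𝒜 := hs𝒜 A hA
      have hs'𝒜 : ∀ W ∈ s.erase A, W ∈ 𝒜 := fun W hW => hs𝒜 W (Finset.mem_of_mem_erase hW)
      rcases Nat.eq_zero_or_pos m with rfl | hm
      · -- then `k = 0`, so `s.erase A = ∅`
        have : s.erase A = ∅ := Finset.card_eq_zero.1 (Nat.le_zero.1 (hs'.trans hkm))
        rw [this, Finset.sup_empty, sup_bot_eq]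
        exact subsingleton_HU_of_isAffineOpen M (h𝒜 A hA𝒜) 0
      · apply subsingleton_HU_sup
        · -- the intersection
          have hint : A ⊓ (s.erase A).sup id = ((s.erase A).image (fun W => A ⊓ W)).sup id := by
            rw [Finset.sup_inf_distrib_left, Finset.sup_image]
            rfl
          rw [hint]
          apply ih _ _ (Finset.card_image_le.trans hs') m hkm hm
          intro W hW
          obtain ⟨W', hW', rfl⟩ := Finset.mem_image.1 hW
          exact hinf A hA𝒜 W' (hs'𝒜 W' hW')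
        · exact subsingleton_HU_of_isAffineOpen M (h𝒜 A hA𝒜) m
        · exact ih _ hs'𝒜 hs' (m + 1) (hkm.trans (Nat.le_succ m)) (Nat.succ_pos m)

/-- the global cohomology in degree zero of a sheaf on an empty space vanishes -/
lemma subsingleton_H_zero_of_top_eq_bot {T : TopCat.{u}} (F : CohTop.Ab T)
    (h : (⊤ : Opens T) = ⊥) : Subsingleton (Sheaf.H F 0) := by
  have := CohTopFun.subsingleton_sections_of_isEmpty F ⊤ h
  exact (Sheaf.H.equiv₀ F isTerminalTop).toEquiv.subsingleton

/-- S0010 -/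
theorem subsingleton_HH_of_affine_cover (t : ℕ) (U : Fin t → X.Opens)
    (hU : ∀ i, IsAffineOpen (U i)) (hcov : ⨆ i, U i = ⊤)
    (hd : ∀ V W : X.Opens, IsAffineOpen V → IsAffineOpen W → IsAffineOpen (V ⊓ W))
    (n : ℕ) (hn : t ≤ n) : Subsingleton (Coh.HH X M n) := by
  classical
  rcases Nat.eq_zero_or_pos n with rfl | hn1
  · -- `t = 0`, so `X` is empty
    have ht : t = 0 := Nat.le_zero.1 hn
    subst ht
    have : (⊤ : X.Opens) = ⊥ := by
      rw [← hcov]
      simp
    exact subsingleton_H_zero_of_top_eq_bot (Coh.toAb M) this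
  · have h1 := subsingleton_HU_finset_sup M {V | IsAffineOpen V} (fun V hV => hV)
      (fun V hV W hW => hd V W hV hW) t (Finset.univ.image U)
      (by
        intro W hW
        obtain ⟨i, -, rfl⟩ := Finset.mem_image.1 hW
        exact hU i)
      (Finset.card_image_le.trans (by simp)) n hn hn1
    have h2 : (Finset.univ.image U).sup id = ⊤ := by
      rw [Finset.sup_image, ← hcov]
      exact Finset.sup_univ_eq_iSup _
    rw [h2] at h1
    have h3 : Subsingleton ((CohTopExt.HUSeq (⊤ : Opens X) n).obj (Coh.toAb M)) := h1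
    obtain ⟨e⟩ := nonempty_iso_HU_top n (Coh.toAb M)
    exact e.addCommGroupIsoToAddEquiv.symm.toEquiv.subsingleton

end Groth.Agent.Helper1.Serre
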