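import Groth.Agent.Helper1.Mumford5

set_option autoImplicit false

/-!
# Mumford's approximation lemma for modules over a Noetherian ring
-/

namespace Groth.Agent.Helper1.Mumford

open CategoryTheory Limits

universe u

variable (A : Type u) [CommRing A]

/-- finitely generated modules -/
def fgProp : ObjectProperty (ModuleCat.{u} A) := fun M => Module.Finite A M

/-- finitely generated free modules -/
def fgFreeProp : ObjectProperty (ModuleCat.{u} A) := fun M => Module.Finite A M ∧ Module.Free A M

instance : (fgProp A).IsClosedUnderIsomorphisms where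
  of_iso {M N} e (h : Module.Finite A M) := by
    haveI := h
    exact Module.Finite.equiv e.toLinearEquiv

instance : (fgFreeProp A).IsClosedUnderIsomorphisms where
  of_iso {M N} e h := by
    obtain ⟨h1, h2⟩ := h
    haveI := h1
    haveI := h2
    exact ⟨Module.Finite.equiv e.toLinearEquiv, Module.Free.of_equiv e.toLinearEquiv⟩

lemma fg_h1 ⦃M M' : ModuleCat.{u} A⦄ (f : M ⟶ M') (hM' : fgProp A M') (hf : Epi f) :
    ∃ (B : ModuleCat.{u} A) (v : B ⟶ M), fgFreeProp A B ∧ Epi (v ≫ f) := by
  haveI : Module.Finite A M' := hM'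
  obtain ⟨n, s, hs⟩ := Module.Finite.exists_fin (R := A) (M := M')
  have hsurj : Function.Surjective f.hom := (ModuleCat.epi_iff_surjective f).1 hf
  choose a ha using fun i => hsurj (s i)
  refine ⟨ModuleCat.of A (Fin n → A), ModuleCat.ofHom (Fintype.linearCombination A a),
    ⟨inferInstanceAs (Module.Finite A (Fin n → A)), inferInstanceAs (Module.Free A (Fin n → A))⟩, ?_⟩
  rw [ModuleCat.epi_iff_surjective]
  have : (ModuleCat.ofHom (Fintype.linearCombination A a) ≫ f).hom =
      Fintype.linearCombination A s := by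
    apply LinearMap.ext
    intro c
    change f.hom (Fintype.linearCombination A a c) = _
    rw [Fintype.linearCombination_apply, Fintype.linearCombination_apply, map_sum]
    refine Finset.sum_congr rfl fun i _ => ?_
    rw [map_smul, ha]
  change Function.Surjective (ModuleCat.ofHom (Fintype.linearCombination A a) ≫ f).hom
  rw [this, ← LinearMap.range_eq_top, Fintype.range_linearCombination, hs]

lemma fg_h2 [IsNoetherianRing A] ⦃M N : ModuleCat.{u} A⦄ (f : M ⟶ N) (hM : fgProp A M)
    (_ : fgProp A N) (_ : Epi f) : fgProp A (kernel f) := by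
  haveI : Module.Finite A M := hM
  haveI : IsNoetherian A M := isNoetherian_of_isNoetherianRing_of_finite A M
  have : Module.Finite A (LinearMap.ker f.hom) := Module.IsNoetherian.finite A _
  exact Module.Finite.equiv (ModuleCat.kernelIsoKer f).symm.toLinearEquiv

lemma fg_h3 ⦃B B' : ModuleCat.{u} A⦄ (hB : fgFreeProp A B) (hB' : fgFreeProp A B') :
    fgFreeProp A (B ⨯ B') := by
  obtain ⟨h1, h2⟩ := hB
  obtain ⟨h1', h2'⟩ := hB'
  haveI := h1; haveI := h2; haveI := h1'; haveI := h2'
  have e : ModuleCat.of A (B × B') ≅ B ⨯ B' :=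
    (ModuleCat.biprodIsoProd B B').symm ≪≫ biprod.isoProd B B'
  exact (fgFreeProp A).prop_of_iso e
    ⟨inferInstanceAs (Module.Finite A (B × B')), inferInstanceAs (Module.Free A (B × B'))⟩

/-- S2373 -/
theorem exists_approx_module [IsNoetherianRing A]
    (P : ChainComplex (ModuleCat.{u} A) ℤ) (hP : ∀ i, Module.Finite A (P.homology i)) (d : ℤ)
    (hd : ∀ i < d, IsZero (P.homology i)) :
    ∃ (Q : ChainComplex (ModuleCat.{u} A) ℤ) (u : Q ⟶ P),
      (∀ i, Module.Finite A (Q.X i) ∧ Module.Free A (Q.X i)) ∧ (∀ i < d, IsZero (Q.X i)) ∧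
        QuasiIso u := by
  obtain ⟨Q, u, h1, h2, h3⟩ := exists_approx (fgProp A) (fgFreeProp A) (fun M hM => hM.1)
    (fg_h1 A) (fg_h2 A) (fg_h3 A) P hP d hd
  refine ⟨Q, u, fun i => ?_, h2, h3⟩
  by_cases hi : d ≤ i
  · exact h1 i hi
  · haveI : Subsingleton (Q.X i) := ModuleCat.subsingleton_of_isZero (h2 i (not_le.1 hi))
    exact ⟨inferInstance, Module.Free.of_subsingleton A _⟩

end Groth.Agent.Helper1.Mumford
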