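import Groth.Agent.Helper1.DRankQis
import Groth.Agent.Helper1.FlatCxDRank2
import Groth.Agent.Helper1.Mumford6

set_option autoImplicit false

/-!
# Generic local constancy of `dRank`
-/

namespace Groth.Agent.Helper1.DRankGeneric

open CategoryTheory CategoryTheory.Limits MonoidalCategory TensorProduct Topology
open Groth.Agent.Helper1.FlatCx Groth.Agent.Helper1.FibreDim

universe u

section topology

variable {X : Type*} [TopologicalSpace X]

/-- the locus where an upper semicontinuous `ℕ`-valued function is locally constant is open -/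
lemma isOpen_locConst (ψ : X → ℕ) : IsOpen {x | ∀ᶠ y in 𝓝 x, ψ y = ψ x} := by
  rw [isOpen_iff_mem_nhds]
  intro x hx
  have hx' : ∀ᶠ y in 𝓝 x, ψ y = ψ x := hx
  filter_upwards [hx'.eventually_nhds, hx'] with z hz hzx
  show ∀ᶠ y in 𝓝 z, ψ y = ψ z
  filter_upwards [hz] with y hy
  rw [hy, hzx]

/-- ... and dense -/
lemma dense_locConst (ψ : X → ℕ) (h : ∀ x, ∀ᶠ y in 𝓝 x, ψ y ≤ ψ x) :
    Dense {x | ∀ᶠ y in 𝓝 x, ψ y = ψ x} := by
  rw [dense_iff_inter_open]
  intro U hU hne
  let x := Function.argminOn ψ U hne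
  have hxU : x ∈ U := Function.argminOn_mem ψ U hne
  refine ⟨x, hxU, ?_⟩
  show ∀ᶠ y in 𝓝 x, ψ y = ψ x
  filter_upwards [h x, hU.mem_nhds hxU] with y hy hyU
  exact le_antisymm hy (Function.argminOn_le ψ U hyU)

/-- simultaneous version for a finite family -/
lemma exists_open_dense_locConst {ι : Type*} (s : Finset ι) (ψ : ι → X → ℕ)
    (h : ∀ i ∈ s, ∀ x, ∀ᶠ y in 𝓝 x, ψ i y ≤ ψ i x) :
    ∃ U : Set X, IsOpen U ∧ Dense U ∧ ∀ x ∈ U, ∀ i ∈ s, ∀ᶠ y in 𝓝 x, ψ i y = ψ i x := by
  classical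
  let Ψ : X → ℕ := fun x => ∑ i ∈ s, ψ i x
  have hΨ : ∀ x, ∀ᶠ y in 𝓝 x, Ψ y ≤ Ψ x := by
    intro x
    have : ∀ᶠ y in 𝓝 x, ∀ i ∈ s, ψ i y ≤ ψ i x := by
      rw [Filter.eventually_all_finset]
      exact fun i hi => h i hi x
    filter_upwards [this] with y hy
    exact Finset.sum_le_sum hy
  refine ⟨_, isOpen_locConst Ψ, dense_locConst Ψ hΨ, ?_⟩
  intro x hx i hi
  have hx' : ∀ᶠ y in 𝓝 x, Ψ y = Ψ x := hx
  have : ∀ᶠ y in 𝓝 x, ∀ i ∈ s, ψ i y ≤ ψ i x := by
    rw [Filter.eventually_all_finset]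
    exact fun i hi => h i hi x
  filter_upwards [hx', this] with y hy hle
  by_contra hne
  have hlt : ψ i y < ψ i x := lt_of_le_of_ne (hle i hi) hne
  have : Ψ y < Ψ x := Finset.sum_lt_sum hle ⟨i, hi, hlt⟩
  omega

end topology

section algebra

variable {A : Type u} [CommRing A] [IsNoetherianRing A]

theorem exists_open_dense_dRank (L : ChainComplex (ModuleCat.{u} A) ℤ)
    (hL : ∀ i, Module.Finite A (L.X i) ∧ Module.Free A (L.X i)) (d : ℤ)
    (hd : ∀ i < d, IsZero (L.X i)) (N : ℤ) :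
    ∃ U : Set (PrimeSpectrum A), IsOpen U ∧ Dense U ∧
      ∀ p ≤ N, ∀ x ∈ U, ∀ᶠ y in 𝓝 x, CohIII.dRank L p y = CohIII.dRank L p x := by
  classical
  have hfin : ∀ i, Module.Finite A (L.X i) := fun i => (hL i).1
  have hfo : ∀ i, Module.Finite A (L.opcycles i) := fun i =>
    haveI := hfin i
    finite_opcycles L i
  obtain ⟨U, hUo, hUd, hU⟩ := exists_open_dense_locConst (Finset.Icc (d - 1) N)
    (fun i => fibreDim (A := A) (L.opcycles i))
    (fun i _ x => haveI := hfo i; fibreDim_eventually_le (L.opcycles i) x)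
  refine ⟨U, hUo, hUd, ?_⟩
  intro p hpN x hx
  by_cases hpd : p < d
  · refine Filter.Eventually.of_forall (fun y => ?_)
    rw [dRank_eq_zero_of_isZero L p (hd p hpd), dRank_eq_zero_of_isZero L p (hd p hpd)]
  · push_neg at hpd
    have h1 := hU x hx p (Finset.mem_Icc.mpr ⟨by omega, hpN⟩)
    have h2 := hU x hx (p - 1) (Finset.mem_Icc.mpr ⟨by omega, by omega⟩)
    haveI := (hL (p - 1)).1
    haveI := (hL (p - 1)).2
    haveI : Module.FinitePresentation A (L.X (p - 1)) := Module.finitePresentation_of_finite A _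
    have h3 := fibreDim_eventually_eq (L.X (p - 1)) x
    filter_upwards [h1, h2, h3] with y hy1 hy2 hy3
    have e1 := dRank_formula L hfin p y
    have e2 := dRank_formula L hfin p x
    omega

/-- `P ⊗ A ≅ P` -/
noncomputable def tensorUnitIso {ι : Type} {c : ComplexShape ι}
    (P : HomologicalComplex (ModuleCat.{u} A) c) :
    CohIII.tensorObj P (ModuleCat.of A A) ≅ P :=
  HomologicalComplex.Hom.isoOfComponents (fun i => ρ_ (P.X i))
    (fun i j _ => (rightUnitor_naturality (P.d i j)).symm)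

lemma finite_homology_of_T {ι : Type} {c : ComplexShape ι}
    (P : HomologicalComplex (ModuleCat.{u} A) c) (n : ι)
    (h : Module.Finite A (CohIII.T P n (ModuleCat.of A A))) : Module.Finite A (P.homology n) :=
  haveI : Module.Finite A ((HomologicalComplex.homologyFunctor (ModuleCat.{u} A) c n).obj
    (CohIII.tensorObj P (ModuleCat.of A A))) := h
  Module.Finite.equiv
    ((HomologicalComplex.homologyFunctor _ c n).mapIso (tensorUnitIso P)).toLinearEquiv

/-- S4487 -/
theorem exists_open_dense_dRank_of_flat (P : ChainComplex (ModuleCat.{u} A) ℤ)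
    (hP : ∀ i, Module.Flat A (P.X i)) (i₀ : ℤ) (hb : ∀ i < i₀, IsZero (P.X i))
    (hfg : ∀ n : ℤ, Module.Finite A (CohIII.T P n (ModuleCat.of A A))) (N : ℤ) :
    ∃ U : Set (PrimeSpectrum A), IsOpen U ∧ Dense U ∧
      ∀ p ≤ N, IsLocallyConstant (fun x : U => CohIII.dRank P p x) := by
  obtain ⟨L, f, hL, hLd, hf⟩ := Groth.Agent.Helper1.Mumford.exists_approx_module A P
    (fun i => finite_homology_of_T P i (hfg i)) i₀
    (fun i hi => isZero_homology_of_isZero_X P i (hb i hi))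
  have hLflat : ∀ i, Module.Flat A (L.X i) := fun i => by
    haveI := (hL i).2
    infer_instance
  obtain ⟨U, hUo, hUd, hU⟩ := exists_open_dense_dRank L hL i₀ hLd N
  refine ⟨U, hUo, hUd, fun p hp => ?_⟩
  rw [IsLocallyConstant.iff_eventually_eq]
  intro x
  have h1 := hU p hp x.1 x.2
  have h2 : ∀ᶠ y in 𝓝 x.1, CohIII.dRank P p y = CohIII.dRank P p x.1 := by
    filter_upwards [h1] with y hy
    rw [← Groth.Agent.Helper1.DRankQis.dRank_eq_of_quasiIso f hLflat hP i₀ hLd hb p y,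
      ← Groth.Agent.Helper1.DRankQis.dRank_eq_of_quasiIso f hLflat hP i₀ hLd hb p x.1, hy]
  exact (continuous_subtype_val.tendsto x).eventually h2

end algebra

end Groth.Agent.Helper1.DRankGeneric
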