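import Groth.Agent.Helper1.BCFlatCoh
import Groth.Agent.Helper1.DRankGeneric
import Groth.Agent.Helper1.FlatCxBC
import Groth.Agent.Helper1.FlatCxLocal2
import Groth.Agent.S2408

set_option autoImplicit false

/-!
# Vanishing of `H_p(P)` from the vanishing of all `H_p(P ⊗ k(x))`
-/

namespace Groth.Agent.Helper1.DRankZero

open CategoryTheory Limits MonoidalCategory HomologicalComplex TensorProduct
open Groth.Agent.Helper1.FlatCx Groth.Agent.Helper1.BCFlatCoh

universe u

section local_

variable {B : Type u} [CommRing B] [IsNoetherianRing B] [IsLocalRing B]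
  (Q : ChainComplex (ModuleCat.{u} B) ℤ)
  (hQ : ∀ i, Module.Finite B (Q.X i) ∧ Module.Flat B (Q.X i)) (p : ℤ)

include hQ in
/-- over a Noetherian local ring, `dRank = 0` at the closed point kills `H_p(Q)` -/
theorem isZero_homology_of_dRank_closedPoint
    (h : CohIII.dRank Q p (IsLocalRing.closedPoint B) = 0) : IsZero (Q.homology p) := by
  set κ' := (IsLocalRing.closedPoint B).asIdeal.ResidueField with hκ'
  -- the homology of `Q ⊗ κ'` vanishes
  haveI : ∀ i, Module.Finite κ' ((CohIII.bcCx (algebraMap B κ') Q).X i) := fun i =>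
    haveI := (hQ i).1
    finite_extendScalars (S := κ') (Q.X i)
  haveI : Module.Finite κ' ((CohIII.bcCx (algebraMap B κ') Q).homology p) :=
    finite_homology _ p
  have hsub : Subsingleton ((CohIII.bcCx (algebraMap B κ') Q).homology p) := by
    unfold CohIII.dRank at h
    exact Module.finrank_zero_iff.mp h
  have hz1 : IsZero ((CohIII.TFun Q p).obj (DRankQis.Bm (A := B) κ')) := by
    refine IsZero.of_iso ?_ (bcHomologyIso' κ' Q p).symm
    haveI : Subsingleton ((ModuleCat.restrictScalars.{u, u, u} (algebraMap B κ')).obj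
        ((CohIII.bcCx (algebraMap B κ') Q).homology p)) := hsub
    exact ModuleCat.isZero_of_subsingleton _
  -- `B/m ≅ κ'` as `B`-modules
  haveI : (IsLocalRing.closedPoint B).asIdeal.IsMaximal :=
    inferInstanceAs (IsLocalRing.maximalIdeal B).IsMaximal
  let e : (B ⧸ (IsLocalRing.closedPoint B).asIdeal) ≃ₗ[B] κ' :=
    LinearEquiv.ofBijective
      (Algebra.linearMap (B ⧸ (IsLocalRing.closedPoint B).asIdeal) κ' |>.restrictScalars B)
      (Ideal.bijective_algebraMap_quotient_residueField _)
  have hz2 : IsZero ((CohIII.TFun Q p).obj (ModuleCat.of B (IsLocalRing.ResidueField B))) :=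
    hz1.of_iso ((CohIII.TFun Q p).mapIso e.toModuleIso)
  have hz3 := Groth.Agent.S2408.result Q hQ p hz2 (ModuleCat.of B B)
  exact hz3.of_iso ((HomologicalComplex.homologyFunctor _ _ p).mapIso
    (DRankGeneric.tensorUnitIso Q)).symm

end local_

end Groth.Agent.Helper1.DRankZero

namespace Groth.Agent.Helper1.DRankZero

open CategoryTheory Limits MonoidalCategory HomologicalComplex TensorProduct
open Groth.Agent.Helper1.FlatCx Groth.Agent.Helper1.BCFlatCoh

universe u

variable {A : Type u} [CommRing A] [IsNoetherianRing A]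
  (P : ChainComplex (ModuleCat.{u} A) ℤ)
  (hP : ∀ i, Module.Finite A (P.X i) ∧ Module.Flat A (P.X i)) (p : ℤ)

include hP in
/-- the localization of `H_p(P)` at a prime `x` with `dRank P p x = 0` vanishes -/
theorem subsingleton_localizedModule_homology (x : PrimeSpectrum A)
    (h : CohIII.dRank P p x = 0) :
    Subsingleton (LocalizedModule x.asIdeal.primeCompl (P.homology p)) := by
  let B := Localization.AtPrime x.asIdeal
  let Q := CohIII.bcCx (algebraMap A B) P
  have hQ : ∀ i, Module.Finite B (Q.X i) ∧ Module.Flat B (Q.X i) := fun i =>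
    haveI := (hP i).1
    ⟨finite_extendScalars (S := B) (P.X i), flat_bcCx_X B P (fun i => (hP i).2) i⟩
  have hx : PrimeSpectrum.comap (algebraMap A B) (IsLocalRing.closedPoint B) = x := by
    apply PrimeSpectrum.ext
    exact Localization.AtPrime.under_maximalIdeal
  have h1 : CohIII.dRank Q p (IsLocalRing.closedPoint B) = 0 := by
    rw [dRank_baseChange P p (IsLocalRing.closedPoint B), hx]
    exact h
  have hz := isZero_homology_of_dRank_closedPoint Q hQ p h1
  have hfl : (algebraMap A B).Flat := RingHom.flat_algebraMap_iff.mpr inferInstance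
  have hz2 : IsZero ((ModuleCat.extendScalars (algebraMap A B)).obj (P.homology p)) :=
    hz.of_iso (bcHomologyIso (algebraMap A B) hfl P p).symm
  haveI : Subsingleton ((ModuleCat.extendScalars (algebraMap A B)).obj (P.homology p)) :=
    ModuleCat.subsingleton_of_isZero hz2
  haveI : Subsingleton (B ⊗[A] (P.homology p)) :=
    (extendScalarsEquiv (S := B) (P.homology p)).symm.toEquiv.subsingleton
  exact (IsLocalizedModule.iso x.asIdeal.primeCompl
    (TensorProduct.mk A B (P.homology p) 1)).toEquiv.subsingleton

include hP in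
/-- if `dRank P p` vanishes identically, `H_p(P) = 0` -/
theorem isZero_homology_of_dRank_eq_zero (h : ∀ x, CohIII.dRank P p x = 0) :
    IsZero (P.homology p) := by
  haveI : Subsingleton (P.homology p) := by
    rw [← Module.support_eq_empty_iff (R := A)]
    rw [Set.eq_empty_iff_forall_notMem]
    intro x
    rw [Module.notMem_support_iff]
    exact subsingleton_localizedModule_homology P hP p x (h x)
  exact ModuleCat.isZero_of_subsingleton _

end Groth.Agent.Helper1.DRankZero
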