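import Groth.Agent.Helper1.BaseChart9
import Groth.Agent.Helper1.DRankZero

set_option autoImplicit false

/-!
# Affine charts of the base: topology of the chart
-/

namespace Groth.Agent.Helper1.BaseChart

open CategoryTheory Limits AlgebraicGeometry Opposite TopologicalSpace Topology

universe u

variable {Y : Scheme.{u}} (V : Y.Opens) [IsAffine (V : Scheme.{u})]

lemma chartPt_eq (v : (V : Scheme.{u})) :
    chartPt V v.1 v.2 = (V : Scheme.{u}).isoSpec.hom v := rfl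

/-- every point of the chart comes from a point of `V` -/
lemma exists_eq_chartPt (x : PrimeSpectrum (AV V)) :
    ∃ (w : Y) (hw : w ∈ V), chartPt V w hw = x := by
  refine ⟨((V : Scheme.{u}).isoSpec.inv x).1, ((V : Scheme.{u}).isoSpec.inv x).2, ?_⟩
  show (V : Scheme.{u}).isoSpec.hom ((V : Scheme.{u}).isoSpec.inv x) = x
  rw [← Scheme.Hom.comp_apply, Iso.inv_hom_id]
  rfl

/-- neighbourhoods in the chart give neighbourhoods in the base -/
lemma exists_open_of_nhds (y : Y) (hy : y ∈ V) (O : Set (PrimeSpectrum (AV V)))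
    (hO : O ∈ 𝓝 (chartPt V y hy)) :
    ∃ W : Y.Opens, y ∈ W ∧ W ≤ V ∧ ∀ (w : Y) (hw : w ∈ V), w ∈ W → chartPt V w hw ∈ O := by
  obtain ⟨O', hO'O, hO'open, hyO'⟩ := mem_nhds_iff.mp hO
  let O'' : (Spec (CommRingCat.of (AV V))).Opens := ⟨O', hO'open⟩
  refine ⟨V.ι ''ᵁ ((V : Scheme.{u}).isoSpec.hom ⁻¹ᵁ O''), ?_, ?_, ?_⟩
  · exact ⟨⟨y, hy⟩, hyO', rfl⟩
  · rintro _ ⟨v, -, rfl⟩
    exact v.2
  · rintro w hw ⟨v, hv, hvw⟩
    have : v = ⟨w, hw⟩ := Subtype.ext hvw
    subst this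
    exact hO'O hv

end Groth.Agent.Helper1.BaseChart
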