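import Mathlib

/-!
# Étale algebras over reduced rings are reduced
-/

set_option autoImplicit false

namespace Groth.Agent.Helper1.EtRed

open Polynomial

/-- Field case: in `k[X]/(f)`, nilpotents are killed by `f'^n`, `n = deg f`. -/
theorem field_case {k : Type*} [Field k] (f : k[X]) (hf : f.Monic) (z : AdjoinRoot f)
    (hz : IsNilpotent z) : AdjoinRoot.mk f (derivative f) ^ f.natDegree * z = 0 := by
  let P : StandardEtalePair k := ⟨f, hf, derivative f, ⟨1, 0, 1, by simp⟩⟩
  haveI : IsReduced P.Ring := Algebra.FormallyUnramified.isReduced_of_field k P.Ring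
  let t : AdjoinRoot f := AdjoinRoot.mk f (derivative f)
  have hred : IsReduced (Localization.Away t) :=
    isReduced_of_injective P.equivAwayAdjoinRoot.symm.toRingEquiv.toRingHom
      P.equivAwayAdjoinRoot.symm.injective
  have h0 : algebraMap (AdjoinRoot f) (Localization.Away t) z = 0 :=
    (hz.map _).eq_zero
  rw [IsLocalization.map_eq_zero_iff (Submonoid.powers t)] at h0
  obtain ⟨⟨_, M, rfl⟩, hM⟩ := h0
  haveI : FiniteDimensional k (AdjoinRoot f) := (AdjoinRoot.powerBasis' hf).finite
  have hfr : Module.finrank k (AdjoinRoot f) = f.natDegree := (AdjoinRoot.powerBasis' hf).finrank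
  let T : Module.End k (AdjoinRoot f) := LinearMap.mulLeft k t
  have hT : ∀ (m : ℕ) (y : AdjoinRoot f), (T ^ m) y = t ^ m * y := by
    intro m
    induction m with
    | zero => intro y; simp
    | succ m ih =>
      intro y
      rw [pow_succ', Module.End.mul_apply, ih, pow_succ']
      show t * (t ^ m * y) = _
      ring
  have h1 : z ∈ LinearMap.ker (T ^ M) := by
    rw [LinearMap.mem_ker, hT]
    exact hM
  have h2 := Module.End.ker_pow_le_ker_pow_finrank T M h1
  rw [LinearMap.mem_ker, hT, hfr] at h2
  exact h2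

/-- Over a reduced ring, nilpotents of `R[X]/(f)` are killed by `f'^n`. -/
theorem reduced_case {R : Type*} [CommRing R] [IsReduced R] (f : R[X]) (hf : f.Monic)
    (z : AdjoinRoot f) (hz : IsNilpotent z) :
    AdjoinRoot.mk f (derivative f) ^ f.natDegree * z = 0 := by
  rcases subsingleton_or_nontrivial R with hsub | hnt
  · haveI : Subsingleton (AdjoinRoot f) := Module.subsingleton R _
    exact Subsingleton.elim _ _
  set w := AdjoinRoot.mk f (derivative f) ^ f.natDegree * z with hw
  obtain ⟨q₀, hq₀⟩ := AdjoinRoot.mk_surjective w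
  set q := q₀ %ₘ f with hq
  have hwq : AdjoinRoot.mk f q = w := by
    rw [← hq₀, hq]
    have := Polynomial.modByMonic_add_div q₀ f
    conv_rhs => rw [← this]
    rw [map_add, map_mul, AdjoinRoot.mk_self, zero_mul, add_zero]
  have hdeg : q.degree < f.degree := Polynomial.degree_modByMonic_lt _ hf
  suffices hq0 : q = 0 by rw [← hwq, hq0, map_zero]
  ext j
  rw [coeff_zero]
  have hnil : q.coeff j ∈ nilradical R := by
    rw [nilradical_eq_sInf, Ideal.mem_sInf]
    intro p hp
    haveI : p.IsPrime := hp
    let φ : R →+* p.ResidueField := algebraMap R p.ResidueField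
    have hfφ : (f.map φ).Monic := hf.map φ
    let ψ : AdjoinRoot f →+* AdjoinRoot (f.map φ) := AdjoinRoot.map φ f (f.map φ) dvd_rfl
    have hψmk : ∀ g : R[X], ψ (AdjoinRoot.mk f g) = AdjoinRoot.mk (f.map φ) (g.map φ) := by
      intro g
      induction g using Polynomial.induction_on' with
      | add a b ha hb => rw [map_add, map_add, ha, hb, Polynomial.map_add, map_add]
      | monomial n a =>
        rw [← Polynomial.C_mul_X_pow_eq_monomial, map_mul, map_pow, AdjoinRoot.mk_C,
          AdjoinRoot.mk_X, map_mul, map_pow, Polynomial.map_mul, Polynomial.map_pow,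
          Polynomial.map_C, Polynomial.map_X, map_mul, map_pow, AdjoinRoot.mk_C, AdjoinRoot.mk_X]
        simp [ψ]
    have h1 : ψ w = 0 := by
      rw [hw, map_mul, map_pow, hψmk, ← Polynomial.derivative_map]
      have := field_case (f.map φ) hfφ (ψ z) (hz.map ψ)
      rwa [hf.natDegree_map φ] at this
    rw [← hwq, hψmk, AdjoinRoot.mk_eq_zero] at h1
    have h2 : q.map φ = 0 := by
      by_contra hne
      have := Polynomial.degree_le_of_dvd h1 hne
      have h3 : (q.map φ).degree ≤ q.degree := Polynomial.degree_map_le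
      rw [hf.degree_map φ] at this
      exact absurd (lt_of_le_of_lt (this.trans h3) hdeg) (lt_irrefl _)
    have h4 : φ (q.coeff j) = 0 := by
      rw [← Polynomial.coeff_map, h2, coeff_zero]
    rwa [← Ideal.ker_algebraMap_residueField p]
  rw [nilradical_eq_zero R] at hnil
  exact hnil

/-- Standard étale algebras over reduced rings are reduced. -/
theorem isReduced_standardEtale {R : Type*} [CommRing R] [IsReduced R] (P : StandardEtalePair R) :
    IsReduced P.Ring := by
  let g : AdjoinRoot P.f := AdjoinRoot.mk P.f P.g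
  suffices hred : IsReduced (Localization.Away g) from
    isReduced_of_injective P.equivAwayAdjoinRoot.toRingEquiv.toRingHom
      P.equivAwayAdjoinRoot.injective
  constructor
  intro x hx
  obtain ⟨y, s, rfl⟩ := IsLocalization.exists_mk'_eq (Submonoid.powers g) x
  have hy : IsNilpotent (algebraMap (AdjoinRoot P.f) (Localization.Away g) y) := by
    rw [← IsLocalization.mk'_spec (Localization.Away g) y s]
    exact Commute.isNilpotent_mul_right (Commute.all _ _) hx
  obtain ⟨m, hm⟩ := hy
  rw [← map_pow, IsLocalization.map_eq_zero_iff (Submonoid.powers g)] at hm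
  obtain ⟨⟨_, b, rfl⟩, hb⟩ := hm
  have hgy : IsNilpotent (g * y) := by
    refine ⟨b + m, ?_⟩
    rw [mul_pow, pow_add, pow_add]
    calc g ^ b * g ^ m * (y ^ b * y ^ m) = (g ^ b * y ^ m) * (g ^ m * y ^ b) := by ring
      _ = 0 := by rw [hb, zero_mul]
  have h1 := reduced_case P.f P.monic_f (g * y) hgy
  obtain ⟨p₁, p₂, k, hk⟩ := P.cond
  have h2 : AdjoinRoot.mk P.f (derivative P.f) * AdjoinRoot.mk P.f p₁ = g ^ k := by
    have := congr(AdjoinRoot.mk P.f $hk)
    rw [map_add, map_mul, map_mul, AdjoinRoot.mk_self, zero_mul, add_zero, map_pow] at this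
    exact this
  have h3 : g ^ (k * P.f.natDegree + 1) * y = 0 := by
    calc g ^ (k * P.f.natDegree + 1) * y = (g ^ k) ^ P.f.natDegree * (g * y) := by
          rw [pow_succ, pow_mul]; ring
      _ = AdjoinRoot.mk P.f p₁ ^ P.f.natDegree *
            (AdjoinRoot.mk P.f (derivative P.f) ^ P.f.natDegree * (g * y)) := by
          rw [← h2, mul_pow]; ring
      _ = 0 := by rw [h1, mul_zero]
  rw [IsLocalization.mk'_eq_zero_iff]
  exact ⟨⟨_, k * P.f.natDegree + 1, rfl⟩, h3⟩

/-- Étale algebras over reduced rings are reduced. -/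
theorem isReduced_of_etale (R C : Type*) [CommRing R] [IsReduced R] [CommRing C] [Algebra R C]
    [Algebra.Etale R C] : IsReduced C := by
  constructor
  intro x hx
  by_contra hx0
  have hne : Ideal.span {x} ≠ ⊥ := by
    rw [Ne, Ideal.span_singleton_eq_bot]; exact hx0
  let J : Ideal C := (Ideal.span {x}).annihilator
  have hJ : J ≠ ⊤ := by
    intro h
    have : (1 : C) ∈ J := h ▸ Submodule.mem_top
    rw [Submodule.mem_annihilator_span_singleton] at this
    exact hx0 (by simpa using this)
  obtain ⟨q, hq, hJq⟩ := Ideal.exists_le_maximal J hJ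
  haveI : q.IsPrime := hq.isPrime
  haveI : Algebra.FormallyEtale C (Localization.AtPrime q) :=
    Algebra.FormallyEtale.of_isLocalization q.primeCompl
  haveI : Algebra.IsEtaleAt R q := Algebra.FormallyEtale.comp R C _
  obtain ⟨f, hfq, hstd⟩ := Algebra.IsEtaleAt.exists_isStandardEtale (R := R) q
  obtain ⟨P⟩ := hstd.nonempty_standardEtalePresentation
  haveI : IsReduced P.P.Ring := isReduced_standardEtale P.P
  have hred : IsReduced (Localization.Away f) :=
    isReduced_of_injective P.equivRing.toRingEquiv.toRingHom P.equivRing.injective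
  have h0 : algebraMap C (Localization.Away f) x = 0 := (hx.map _).eq_zero
  rw [IsLocalization.map_eq_zero_iff (Submonoid.powers f)] at h0
  obtain ⟨⟨_, N, rfl⟩, hN⟩ := h0
  have h1 : f ^ N ∈ J := by
    rw [Submodule.mem_annihilator_span_singleton]
    exact hN
  exact hfq (hq.isPrime.mem_of_pow_mem N (hJq h1))



/-- Smooth algebras over reduced rings are reduced. -/
theorem isReduced_of_smooth (R C : Type*) [CommRing R] [IsReduced R] [CommRing C] [Algebra R C]
    [Algebra.Smooth R C] : IsReduced C := by
  constructor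
  intro x hx
  by_contra hx0
  let J : Ideal C := (Ideal.span {x}).annihilator
  have hJ : J ≠ ⊤ := by
    intro h
    have : (1 : C) ∈ J := h ▸ Submodule.mem_top
    rw [Submodule.mem_annihilator_span_singleton] at this
    exact hx0 (by simpa using this)
  obtain ⟨q, hq, hJq⟩ := Ideal.exists_le_maximal J hJ
  haveI : q.IsPrime := hq.isPrime
  obtain ⟨f, hfq, n, _, _, hstd⟩ :=
    Algebra.IsSmoothAt.exists_isStandardEtale_mvPolynomial (R := R) (p := q)
  obtain ⟨P⟩ := hstd.nonempty_standardEtalePresentation
  haveI : IsReduced P.P.Ring := isReduced_standardEtale P.P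
  have hred : IsReduced (Localization.Away f) :=
    isReduced_of_injective P.equivRing.toRingEquiv.toRingHom P.equivRing.injective
  have h0 : algebraMap C (Localization.Away f) x = 0 := (hx.map _).eq_zero
  rw [IsLocalization.map_eq_zero_iff (Submonoid.powers f)] at h0
  obtain ⟨⟨_, N, rfl⟩, hN⟩ := h0
  have h1 : f ^ N ∈ J := by
    rw [Submodule.mem_annihilator_span_singleton]
    exact hN
  exact hfq (hq.isPrime.mem_of_pow_mem N (hJq h1))

end Groth.Agent.Helper1.EtRed
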