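import Mathlib
import Groth.Prelude.Def_Coh
import Groth.Prelude.Def_Pic

/-!
# CC1: restriction bookkeeping for functions, and the modules `j_*(O|_U)`
-/

set_option autoImplicit false
universe u
open CategoryTheory CategoryTheory.Limits AlgebraicGeometry TopologicalSpace Opposite

namespace Groth.Agent.Helper1.CC

variable {X : Scheme.{u}}

/-- restriction of functions -/
noncomputable def ρ {W W' : X.Opens} (h : W ≤ W') : Γ(X, W') →+* Γ(X, W) :=
  (X.presheaf.map (homOfLE h).op).hom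

theorem ρ_def {W W' : X.Opens} (h : W ≤ W') (a : Γ(X, W')) :
    ρ h a = X.presheaf.map (homOfLE h).op a := rfl

@[simp] theorem ρ_ρ {W W' W'' : X.Opens} (h : W ≤ W') (h' : W' ≤ W'') (a : Γ(X, W'')) :
    ρ h (ρ h' a) = ρ (h.trans h') a := by
  change (X.presheaf.map (homOfLE h').op ≫ X.presheaf.map (homOfLE h).op) a = _
  rw [← X.presheaf.map_comp]
  rfl

@[simp] theorem ρ_refl {W : X.Opens} (h : W ≤ W) (a : Γ(X, W)) : ρ h a = a := by
  change X.presheaf.map (𝟙 (op W)) a = a
  rw [X.presheaf.map_id]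
  rfl

theorem ρ_bijective {W W' : X.Opens} (h : W ≤ W') (h' : W' ≤ W) : Function.Bijective (ρ h) := by
  constructor
  · intro a b hab
    have := congrArg (ρ h') hab
    simpa using this
  · intro a
    exact ⟨ρ h' a, by simp⟩

/-- functions are determined locally -/
theorem eq_of_locally {W : X.Opens} (a b : Γ(X, W))
    (h : ∀ x ∈ W, ∃ (W' : X.Opens) (hW' : W' ≤ W), x ∈ W' ∧ ρ hW' a = ρ hW' b) : a = b := by
  choose W' hW' hx hab using h
  refine TopCat.Sheaf.eq_of_locally_eq' X.sheaf (fun x : W => W' x.1 x.2) W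
    (fun x => homOfLE (hW' x.1 x.2)) ?_ a b (fun x => hab x.1 x.2)
  intro x hx'
  exact Opens.mem_iSup.2 ⟨⟨x, hx'⟩, hx x hx'⟩

/-- the open `U ∩ V`, written as the image of the preimage -/
abbrev im (U V : X.Opens) : X.Opens := U.ι ''ᵁ (U.ι ⁻¹ᵁ V)

theorem im_le_right (U V : X.Opens) : im U V ≤ V := by
  rintro _ ⟨x, hx, rfl⟩
  exact hx

theorem im_le_left (U V : X.Opens) : im U V ≤ U := by
  rintro _ ⟨x, -, rfl⟩
  exact x.2

theorem inf_le_im (U V : X.Opens) : V ⊓ U ≤ im U V := by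
  rintro x ⟨hxV, hxU⟩
  exact ⟨⟨x, hxU⟩, hxV, rfl⟩

theorem im_mono (U : X.Opens) {V V' : X.Opens} (h : V' ≤ V) : im U V' ≤ im U V := by
  rintro _ ⟨x, hx, rfl⟩
  exact ⟨x, h hx, rfl⟩

/-- the module `j_*(O_X|_U)` -/
noncomputable def Qm (U : X.Opens) : X.Modules :=
  (Scheme.Modules.pushforward U.ι).obj
    ((Scheme.Modules.restrictFunctor U.ι).obj (Coh.structureModule X))

/-- sections of `j_*(O|_U)` are functions on `U ∩ V` -/
noncomputable def toO (U V : X.Opens) (m : Γ(Qm U, V)) : Γ(X, im U V) := m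

/-- functions on `U ∩ V` are sections of `j_*(O|_U)` -/
noncomputable def ofO (U V : X.Opens) (m : Γ(X, im U V)) : Γ(Qm U, V) := m

@[simp] theorem toO_ofO (U V : X.Opens) (m : Γ(X, im U V)) : toO U V (ofO U V m) = m := rfl
@[simp] theorem ofO_toO (U V : X.Opens) (m : Γ(Qm U, V)) : ofO U V (toO U V m) = m := rfl

theorem toO_injective (U V : X.Opens) : Function.Injective (toO U V) := fun _ _ h => h

@[simp] theorem toO_zero (U V : X.Opens) : toO U V 0 = 0 := rfl
@[simp] theorem toO_add (U V : X.Opens) (m m' : Γ(Qm U, V)) :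
    toO U V (m + m') = toO U V m + toO U V m' := rfl

theorem toO_smul (U V : X.Opens) (r : Γ(X, V)) (m : Γ(Qm U, V)) :
    toO U V (r • m) = ρ (im_le_right U V) r * toO U V m := by
  have h := Scheme.Hom.app_appIso_inv U.ι V
  have h2 : (U.ι.appIso (U.ι ⁻¹ᵁ V)).inv.hom ((U.ι.app V).hom r) =
      X.presheaf.map (homOfLE (im_le_right U V)).op r := congrArg (fun f => f.hom r) h
  change _ = X.presheaf.map (homOfLE (im_le_right U V)).op r * toO U V m
  rw [← h2]
  rfl

theorem toO_res (U : X.Opens) {V V' : X.Opens} (h : V' ≤ V) (m : Γ(Qm U, V)) :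
    toO U V' ((Qm U).presheaf.map (homOfLE h).op m) = ρ (im_mono U h) (toO U V m) := rfl

end Groth.Agent.Helper1.CC
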