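import Mathlib
import Groth.Agent.Helper1.CC1
import Groth.Agent.Helper1.SubProd

/-!
# CC2: the module attached to a Čech 1-cocycle of units
-/

set_option autoImplicit false
universe u
open CategoryTheory CategoryTheory.Limits AlgebraicGeometry TopologicalSpace Opposite

namespace Groth.Agent.Helper1.CC
open Groth.Agent.Helper1.SubProd

variable {X : Scheme.{u}} {ι : Type u} (U : ι → X.Opens) (η : ∀ i j : ι, (Γ(X, U i ⊓ U j))ˣ)

/-- the triple overlap -/
abbrev T (i j : ι) (V : X.Opens) : X.Opens := V ⊓ U i ⊓ U j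

theorem T_le_i (i j : ι) (V : X.Opens) : T U i j V ≤ im (U i) V :=
  le_trans inf_le_left (inf_le_im (U i) V)

theorem T_le_j (i j : ι) (V : X.Opens) : T U i j V ≤ im (U j) V :=
  le_trans (inf_le_inf_right (U j) inf_le_left) (inf_le_im (U j) V)

theorem T_le_ij (i j : ι) (V : X.Opens) : T U i j V ≤ U i ⊓ U j :=
  inf_le_inf_right (U j) inf_le_right

theorem T_mono (i j : ι) {V V' : X.Opens} (h : V' ≤ V) : T U i j V' ≤ T U i j V :=
  inf_le_inf_right (U j) (inf_le_inf_right (U i) h)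

/-- the cocycle condition on families of functions -/
def Cond (V : X.Opens) (σ : ∀ i, Γ(Qm (U i), V)) : Prop :=
  ∀ i j, ρ (T_le_j U i j V) (toO (U j) V (σ j)) =
    ρ (T_le_i U i j V) (toO (U i) V (σ i)) * ρ (T_le_ij U i j V) (η i j : Γ(X, U i ⊓ U j))

theorem cond_res {V V' : X.Opens} (f : V' ⟶ V) (σ : ∀ i, Γ(Qm (U i), V)) (h : Cond U η V σ) :
    Cond U η V' (fun i => (Qm (U i)).presheaf.map f.op (σ i)) := by
  intro i j
  have hf : f = homOfLE (leOfHom f) := Subsingleton.elim _ _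
  have h1 := congrArg (ρ (T_mono U i j (leOfHom f))) (h i j)
  rw [map_mul, ρ_ρ, ρ_ρ, ρ_ρ] at h1
  rw [hf, toO_res, toO_res, ρ_ρ, ρ_ρ]
  exact h1

/-- the local linear condition -/
noncomputable def cond : LocalCond (fun i => Qm (U i)) where
  C := Cond U η
  zero V := by
    intro i j
    change ρ _ (toO (U j) V 0) = ρ _ (toO (U i) V 0) * _
    rw [toO_zero, toO_zero, map_zero, map_zero, zero_mul]
  add V σ σ' h h' := by
    intro i j
    change ρ _ (toO (U j) V (σ j + σ' j)) = ρ _ (toO (U i) V (σ i + σ' i)) * _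
    rw [toO_add, toO_add, map_add, map_add, h i j, h' i j, add_mul]
  smul V r σ h := by
    intro i j
    change ρ _ (toO (U j) V (r • σ j)) = ρ _ (toO (U i) V (r • σ i)) * _
    rw [toO_smul, toO_smul, map_mul, map_mul, ρ_ρ, ρ_ρ, h i j, mul_assoc]
  res f σ h := cond_res U η f σ h
  loc V σ h := by
    intro i j
    apply eq_of_locally
    intro x hx
    obtain ⟨V', f, hxV', hV'⟩ := h x hx.1.1
    refine ⟨T U i j V', T_mono U i j (leOfHom f), ⟨⟨hxV', hx.1.2⟩, hx.2⟩, ?_⟩
    have hf : f = homOfLE (leOfHom f) := Subsingleton.elim _ _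
    have h1 := hV' i j
    rw [hf, toO_res, toO_res, ρ_ρ, ρ_ρ] at h1
    rw [map_mul, ρ_ρ, ρ_ρ, ρ_ρ]
    exact h1

/-- the module attached to the cocycle -/
noncomputable abbrev Lc : X.Modules := SubProd.L (cond U η)

/-- the components of a section -/
noncomputable def comp (k : ι) (V : X.Opens) (s : Γ(Lc U η, V)) : Γ(X, im (U k) V) :=
  toO (U k) V ((SubProd.π (cond U η) k).app V s)

theorem comp_ext (V : X.Opens) (s s' : Γ(Lc U η, V)) (h : ∀ k, comp U η k V s = comp U η k V s') :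
    s = s' :=
  SubProd.ext (cond U η) V s s' (fun k => toO_injective (U k) V (h k))

theorem comp_cond (V : X.Opens) (s : Γ(Lc U η, V)) (i j : ι) :
    ρ (T_le_j U i j V) (comp U η j V s) =
      ρ (T_le_i U i j V) (comp U η i V s) * ρ (T_le_ij U i j V) (η i j : Γ(X, U i ⊓ U j)) :=
  SubProd.cond (cond U η) V s i j

theorem comp_smul (k : ι) (V : X.Opens) (r : Γ(X, V)) (s : Γ(Lc U η, V)) :
    comp U η k V (r • s) = ρ (im_le_right (U k) V) r * comp U η k V s := by
  unfold comp
  rw [Scheme.Modules.Hom.app_smul, toO_smul]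

theorem comp_res (k : ι) {V V' : X.Opens} (h : V' ≤ V) (s : Γ(Lc U η, V)) :
    comp U η k V' ((Lc U η).presheaf.map (homOfLE h).op s) =
      ρ (im_mono (U k) h) (comp U η k V s) := rfl

theorem exists_section (V : X.Opens) (f : ∀ k, Γ(X, im (U k) V))
    (hf : ∀ i j, ρ (T_le_j U i j V) (f j) =
      ρ (T_le_i U i j V) (f i) * ρ (T_le_ij U i j V) (η i j : Γ(X, U i ⊓ U j))) :
    ∃ s : Γ(Lc U η, V), ∀ k, comp U η k V s = f k := by
  obtain ⟨s, hs⟩ := SubProd.exists_section (cond U η) V (fun k => ofO (U k) V (f k)) hf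
  exact ⟨s, fun k => by unfold comp; rw [hs k, toO_ofO]⟩

end Groth.Agent.Helper1.CC
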