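import Mathlib
import Groth.Agent.Helper1.CC2
import Groth.Agent.Helper1.EpiDesc
import Groth.Agent.Helper4.GenLoc

/-!
# CC3: a module with a section generating it freely over an open is trivial there; the sections of
the module attached to a cocycle
-/

set_option autoImplicit false
universe u
open CategoryTheory CategoryTheory.Limits AlgebraicGeometry TopologicalSpace Opposite

namespace Groth.Agent.Helper1.CC

variable {X : Scheme.{u}}

theorem map_map (L : X.Modules) {V V' V'' : X.Opens} (h : V' ≤ V) (h' : V'' ≤ V') (e : Γ(L, V)) :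
    L.presheaf.map (homOfLE h').op (L.presheaf.map (homOfLE h).op e) =
      L.presheaf.map (homOfLE (h'.trans h)).op e := by
  change (L.presheaf.map (homOfLE h).op ≫ L.presheaf.map (homOfLE h').op) e = _
  rw [← L.presheaf.map_comp]
  rfl

/-- a section generating `L` freely over all opens of `W` trivializes `L` over `W` -/
theorem nonempty_iso_of_generator (L : X.Modules) (W : X.Opens) (e : Γ(L, W))
    (h : ∀ (V : X.Opens) (hV : V ≤ W),
      Function.Bijective (fun r : Γ(X, V) => r • L.presheaf.map (homOfLE hV).op e)) :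
    Nonempty (L.restrict W.ι ≅ Coh.structureModule (W : Scheme.{u})) := by
  have hle : W.ι ''ᵁ ⊤ ≤ W := (Scheme.Opens.ι_image_top W).le
  let N := L.restrict W.ι
  let t : Γ(N, ⊤) := L.presheaf.map (homOfLE hle).op e
  let φ := Groth.Agent.Lead.LocLift.homOfTop N t
  suffices IsIso φ from ⟨(asIso φ).symm⟩
  apply Groth.Agent.Helper4.GenLoc.isIso_of_app_bijective
  intro U'
  have hU : W.ι ''ᵁ U' ≤ W := by
    rintro _ ⟨y, _, rfl⟩
    exact y.2
  have hU2 : W.ι ''ᵁ U' ≤ W.ι ''ᵁ ⊤ := by
    rintro _ ⟨y, _, rfl⟩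
    exact ⟨y, trivial, rfl⟩
  have h1 : ∀ r : Γ((W : Scheme.{u}), U'), φ.app U' r =
      ((W.ι.appIso U').inv r) • L.presheaf.map (homOfLE hU).op e := by
    intro r
    rw [Groth.Agent.Helper1.EpiDesc.homOfTop_app]
    have h2 : N.presheaf.map (homOfLE (le_top : U' ≤ ⊤)).op t =
        L.presheaf.map (homOfLE hU).op e := by
      change L.presheaf.map (homOfLE hU2).op (L.presheaf.map (homOfLE hle).op e) = _
      rw [map_map]
    rw [h2]
    rfl
  have h2 : Function.Bijective (fun r : Γ((W : Scheme.{u}), U') => (W.ι.appIso U').inv r) :=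
    (ConcreteCategory.isIso_iff_bijective (W.ι.appIso U').inv).mp inferInstance
  have h3 := (h _ hU).comp h2
  have h4 : ⇑(ConcreteCategory.hom (Scheme.Modules.Hom.app φ U')) =
      (fun c : Γ(X, W.ι ''ᵁ U') => c • L.presheaf.map (homOfLE hU).op e) ∘
        fun r : Γ((W : Scheme.{u}), U') => (W.ι.appIso U').inv r := funext h1
  rw [h4]
  exact h3

end Groth.Agent.Helper1.CC
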