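import Mathlib
import Groth.Agent.Helper1.CC3
import Groth.Agent.Helper1.GlueHom

/-!
# CC5: modules trivialized over a cover: morphisms from families of functions compatible with the
transition functions
-/

set_option autoImplicit false
universe u
open CategoryTheory CategoryTheory.Limits AlgebraicGeometry TopologicalSpace Opposite

namespace Groth.Agent.Helper1.CC
open Groth.Agent.Helper1.GlueHom Groth.Agent.Helper4.StalkExact

variable {X : Scheme.{u}} {ι : Type u} (U : ι → X.Opens)

/-- a module with sections over the members of a family of opens which generate it freely there -/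
structure Triv (L : X.Modules) where
  /-- the generators -/
  s : ∀ i, Γ(L, U i)
  bij : ∀ (i : ι) (V : X.Opens) (h : V ≤ U i),
    Function.Bijective (fun r : Γ(X, V) => r • L.presheaf.map (homOfLE h).op (s i))
  /-- the transition functions -/
  η : ∀ i j : ι, Γ(X, U i ⊓ U j)
  trans : ∀ i j : ι, L.presheaf.map (homOfLE (inf_le_left : U i ⊓ U j ≤ U i)).op (s i) =
    η i j • L.presheaf.map (homOfLE (inf_le_right : U i ⊓ U j ≤ U j)).op (s j)

variable {U} {L L' : X.Modules}

theorem smul_res (M : X.Modules) {V V' : X.Opens} (h : V' ≤ V) (r : Γ(X, V)) (m : Γ(M, V)) :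
    M.presheaf.map (homOfLE h).op (r • m) = ρ h r • M.presheaf.map (homOfLE h).op m :=
  Scheme.Modules.map_smul M (homOfLE h) r m

namespace Triv

variable (P : Triv U L) (P' : Triv U L')

/-- the restriction of a generator -/
noncomputable def g (i : ι) {V : X.Opens} (h : V ≤ U i) : Γ(L, V) :=
  L.presheaf.map (homOfLE h).op (P.s i)

theorem g_res (i : ι) {V V' : X.Opens} (h : V ≤ U i) (h' : V' ≤ V) :
    L.presheaf.map (homOfLE h').op (P.g i h) = P.g i (h'.trans h) := map_map L h h' (P.s i)

theorem g_trans (i j : ι) {V : X.Opens} (hi : V ≤ U i) (hj : V ≤ U j) :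
    P.g i hi = ρ (le_inf hi hj) (P.η i j) • P.g j hj := by
  have h := congrArg (L.presheaf.map (homOfLE (le_inf hi hj)).op) (P.trans i j)
  rw [smul_res, map_map, map_map] at h
  exact h

theorem smul_g_injective (i : ι) {V : X.Opens} (h : V ≤ U i) (r r' : Γ(X, V))
    (hr : r • P.g i h = r' • P.g i h) : r = r' := (P.bij i V h).1 hr

theorem exists_smul_g (i : ι) {V : X.Opens} (h : V ≤ U i) (n : Γ(L, V)) :
    ∃ r : Γ(X, V), r • P.g i h = n := (P.bij i V h).2 n

/-- the coefficient of a section with respect to a generator -/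
noncomputable def coef (i : ι) {V : X.Opens} (h : V ≤ U i) (n : Γ(L, V)) : Γ(X, V) :=
  (P.exists_smul_g i h n).choose

theorem coef_smul (i : ι) {V : X.Opens} (h : V ≤ U i) (n : Γ(L, V)) :
    P.coef i h n • P.g i h = n := (P.exists_smul_g i h n).choose_spec

theorem coef_eq (i : ι) {V : X.Opens} (h : V ≤ U i) (n : Γ(L, V)) (r : Γ(X, V))
    (hr : r • P.g i h = n) : P.coef i h n = r :=
  P.smul_g_injective i h _ _ ((P.coef_smul i h n).trans hr.symm)

theorem coef_add (i : ι) {V : X.Opens} (h : V ≤ U i) (n n' : Γ(L, V)) :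
    P.coef i h (n + n') = P.coef i h n + P.coef i h n' := by
  apply P.coef_eq
  rw [add_smul, coef_smul, coef_smul]

theorem coef_smul' (i : ι) {V : X.Opens} (h : V ≤ U i) (c : Γ(X, V)) (n : Γ(L, V)) :
    P.coef i h (c • n) = c * P.coef i h n := by
  apply P.coef_eq
  rw [mul_smul, coef_smul]

theorem coef_res (i : ι) {V V' : X.Opens} (h : V ≤ U i) (h' : V' ≤ V) (n : Γ(L, V)) :
    P.coef i (h'.trans h) (L.presheaf.map (homOfLE h').op n) = ρ h' (P.coef i h n) := by
  apply P.coef_eq
  rw [← P.g_res i h h', ← smul_res, coef_smul]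

theorem coef_trans (i j : ι) {V : X.Opens} (hi : V ≤ U i) (hj : V ≤ U j) (n : Γ(L, V)) :
    P.coef j hj n = P.coef i hi n * ρ (le_inf hi hj) (P.η i j) := by
  apply P.coef_eq
  rw [mul_smul, ← P.g_trans i j hi hj, coef_smul]

variable (a : ∀ i, Γ(X, U i))
  (ha : ∀ i j, P'.η i j * ρ (inf_le_left : U i ⊓ U j ≤ U i) (a i) =
    ρ (inf_le_right : U i ⊓ U j ≤ U j) (a j) * P.η i j)

/-- the local map attached to a generator -/
noncomputable def loc (i : ι) {V : X.Opens} (h : V ≤ U i) (n : Γ(L, V)) : Γ(L', V) :=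
  (P.coef i h n * ρ h (a i)) • P'.g i h

include ha in
theorem loc_indep (i j : ι) {V : X.Opens} (hi : V ≤ U i) (hj : V ≤ U j) (n : Γ(L, V)) :
    loc P P' a i hi n = loc P P' a j hj n := by
  unfold loc
  rw [P'.g_trans i j hi hj, ← mul_smul, P.coef_trans i j hi hj n]
  congr 1
  have h := congrArg (ρ (le_inf hi hj)) (ha i j)
  rw [map_mul, map_mul, ρ_ρ, ρ_ρ] at h
  calc P.coef i hi n * ρ hi (a i) * ρ (le_inf hi hj) (P'.η i j)
      = P.coef i hi n * (ρ (le_inf hi hj) (P'.η i j) * ρ hi (a i)) := by ring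
    _ = P.coef i hi n * (ρ hj (a j) * ρ (le_inf hi hj) (P.η i j)) := by rw [h]
    _ = P.coef i hi n * ρ (le_inf hi hj) (P.η i j) * ρ hj (a j) := by ring

theorem loc_res (i : ι) {V V' : X.Opens} (h : V ≤ U i) (h' : V' ≤ V) (n : Γ(L, V)) :
    L'.presheaf.map (homOfLE h').op (loc P P' a i h n) =
      loc P P' a i (h'.trans h) (L.presheaf.map (homOfLE h').op n) := by
  unfold loc
  rw [smul_res, P'.g_res, map_mul, ρ_ρ, P.coef_res]

theorem loc_add (i : ι) {V : X.Opens} (h : V ≤ U i) (n n' : Γ(L, V)) :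
    loc P P' a i h (n + n') = loc P P' a i h n + loc P P' a i h n' := by
  unfold loc
  rw [P.coef_add, add_mul, add_smul]

theorem loc_smul (i : ι) {V : X.Opens} (h : V ≤ U i) (c : Γ(X, V)) (n : Γ(L, V)) :
    loc P P' a i h (c • n) = c • loc P P' a i h n := by
  unfold loc
  rw [P.coef_smul', mul_assoc, mul_smul]

theorem loc_g (i : ι) {V : X.Opens} (h : V ≤ U i) (r : Γ(X, V)) :
    loc P P' a i h (r • P.g i h) = (r * ρ h (a i)) • P'.g i h := by
  unfold loc
  rw [P.coef_eq i h _ r rfl]

include ha in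
/-- the morphism attached to a family of functions compatible with the transition functions -/
theorem exists_hom (hU : iSup U = ⊤) :
    ∃ τ : L ⟶ L', ∀ (i : ι) (V : X.Opens) (h : V ≤ U i) (n : Γ(L, V)),
      τ.app V n = loc P P' a i h n := by
  let t : ∀ V : Small U, Γ(L, V.1) →+ Γ(L', V.1) := fun V =>
    { toFun := fun n => loc P P' a V.2.choose V.2.choose_spec n
      map_zero' := by
        have := loc_smul P P' a V.2.choose V.2.choose_spec 0 0
        rwa [zero_smul, zero_smul] at this
      map_add' := loc_add P P' a V.2.choose V.2.choose_spec }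
  have ht : ∀ (V : Small U) (i : ι) (h : V.1 ≤ U i) (n : Γ(L, V.1)),
      t V n = loc P P' a i h n := fun V i h n => loc_indep P P' a ha _ i _ h n
  obtain ⟨τ, hτ⟩ := exists_glue U t
    (fun V V' h n => by
      rw [ht V V.2.choose V.2.choose_spec, ht V' V.2.choose (h.trans V.2.choose_spec), loc_res])
    (fun V c n => by
      rw [ht V V.2.choose V.2.choose_spec, ht V V.2.choose V.2.choose_spec, loc_smul]) hU
  exact ⟨τ, fun i V h n => (hτ ⟨V, i, h⟩ n).trans (ht ⟨V, i, h⟩ i h n)⟩

end Triv

/-- morphisms agreeing on the opens contained in a member of a cover are equal -/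
theorem hom_ext_of_small {M N : X.Modules} (f f' : M ⟶ N) (hU : iSup U = ⊤)
    (h : ∀ (i : ι) (V : X.Opens) (_ : V ≤ U i) (n : Γ(M, V)), f.app V n = f'.app V n) : f = f' := by
  apply Scheme.Modules.hom_ext
  intro T
  ext n
  apply Groth.Agent.Helper4.TwistExt.eq_of_cover N T
  intro y hy
  have hy' : y ∈ iSup U := by rw [hU]; trivial
  obtain ⟨i, hi⟩ := Opens.mem_iSup.1 hy'
  refine ⟨T ⊓ U i, inf_le_left, ⟨hy, hi⟩, ?_⟩
  rw [← app_res f (homOfLE inf_le_left) n, ← app_res f' (homOfLE inf_le_left) n]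
  exact h i _ inf_le_right _

end Groth.Agent.Helper1.CC
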