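import Mathlib
import Groth.Agent.Helper1.CC5

/-!
# CC6: two modules trivialized over a cover are isomorphic iff their transition functions are
cohomologous
-/

set_option autoImplicit false
universe u
open CategoryTheory CategoryTheory.Limits AlgebraicGeometry TopologicalSpace Opposite

namespace Groth.Agent.Helper1.CC
open Groth.Agent.Helper4.StalkExact

variable {X : Scheme.{u}} {ι : Type u} {U : ι → X.Opens} {L L' : X.Modules}

namespace Triv

variable (P : Triv U L) (P' : Triv U L')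

theorem nonempty_iso_of_units (hU : iSup U = ⊤) (u : ∀ i, (Γ(X, U i))ˣ)
    (hu : ∀ i j, P'.η i j * ρ (inf_le_left : U i ⊓ U j ≤ U i) (u i : Γ(X, U i)) =
      ρ (inf_le_right : U i ⊓ U j ≤ U j) (u j : Γ(X, U j)) * P.η i j) :
    Nonempty (L ≅ L') := by
  have hinv : ∀ (i : ι) {V : X.Opens} (h : V ≤ U i),
      ρ h (u i : Γ(X, U i)) * ρ h ((u i)⁻¹ : (Γ(X, U i))ˣ) = 1 := by
    intro i V h
    rw [← map_mul, Units.mul_inv, map_one]
  have hu' : ∀ i j, P.η i j * ρ (inf_le_left : U i ⊓ U j ≤ U i) (((u i)⁻¹ : (Γ(X, U i))ˣ) :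
      Γ(X, U i)) = ρ (inf_le_right : U i ⊓ U j ≤ U j) (((u j)⁻¹ : (Γ(X, U j))ˣ) : Γ(X, U j)) *
        P'.η i j := by
    intro i j
    have h1 := hinv i (inf_le_left : U i ⊓ U j ≤ U i)
    have h2 := hinv j (inf_le_right : U i ⊓ U j ≤ U j)
    have h3 := hu i j
    calc P.η i j * ρ _ (((u i)⁻¹ : (Γ(X, U i))ˣ) : Γ(X, U i))
        = (ρ (inf_le_right : U i ⊓ U j ≤ U j) (u j : Γ(X, U j)) * P.η i j) *
            (ρ _ (((u i)⁻¹ : (Γ(X, U i))ˣ) : Γ(X, U i)) *
              ρ (inf_le_right : U i ⊓ U j ≤ U j) (((u j)⁻¹ : (Γ(X, U j))ˣ) : Γ(X, U j))) := by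
          rw [mul_comm (ρ (inf_le_right : U i ⊓ U j ≤ U j) (u j : Γ(X, U j))), mul_assoc,
            ← mul_assoc (ρ (inf_le_right : U i ⊓ U j ≤ U j) (u j : Γ(X, U j))),
            mul_comm (ρ (inf_le_right : U i ⊓ U j ≤ U j) (u j : Γ(X, U j))), mul_assoc, h2,
            mul_one]
      _ = (P'.η i j * ρ (inf_le_left : U i ⊓ U j ≤ U i) (u i : Γ(X, U i))) *
            (ρ _ (((u i)⁻¹ : (Γ(X, U i))ˣ) : Γ(X, U i)) *
              ρ (inf_le_right : U i ⊓ U j ≤ U j) (((u j)⁻¹ : (Γ(X, U j))ˣ) : Γ(X, U j))) := by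
          rw [h3]
      _ = ρ (inf_le_right : U i ⊓ U j ≤ U j) (((u j)⁻¹ : (Γ(X, U j))ˣ) : Γ(X, U j)) *
            P'.η i j := by
          rw [mul_assoc, ← mul_assoc (ρ (inf_le_left : U i ⊓ U j ≤ U i) (u i : Γ(X, U i))), h1,
            one_mul, mul_comm]
  obtain ⟨τ, hτ⟩ := exists_hom P P' (fun i => (u i : Γ(X, U i))) hu hU
  obtain ⟨τ', hτ'⟩ := exists_hom P' P (fun i => (((u i)⁻¹ : (Γ(X, U i))ˣ) : Γ(X, U i))) hu' hU
  refine ⟨⟨τ, τ', ?_, ?_⟩⟩
  · apply hom_ext_of_small (U := U) _ _ hU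
    intro i V h n
    change τ'.app V (τ.app V n) = n
    rw [hτ i V h, loc, hτ' i V h, loc_g, mul_assoc, hinv i h, mul_one, coef_smul]
  · apply hom_ext_of_small (U := U) _ _ hU
    intro i V h n
    change τ.app V (τ'.app V n) = n
    rw [hτ' i V h, loc, hτ i V h, loc_g, mul_assoc, mul_comm (ρ h _), hinv i h, mul_one,
      coef_smul]

theorem g_self (i : ι) : P.g i le_rfl = P.s i := by
  change L.presheaf.map (𝟙 (op (U i))) (P.s i) = P.s i
  rw [L.presheaf.map_id]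
  rfl

/-- the image of a generator under a morphism -/
theorem exists_coef_hom (f : L ⟶ L') (i : ι) :
    ∃ a : Γ(X, U i), ∀ (V : X.Opens) (h : V ≤ U i), f.app V (P.g i h) = ρ h a • P'.g i h := by
  refine ⟨P'.coef i le_rfl (f.app (U i) (P.s i)), fun V h => ?_⟩
  have h1 := P'.coef_smul i le_rfl (f.app (U i) (P.s i))
  have h2 := congrArg (L'.presheaf.map (homOfLE h).op) h1
  rw [smul_res, P'.g_res, ← app_res f (homOfLE h)] at h2
  exact h2.symm

theorem exists_units_of_iso (e : L ≅ L') :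
    ∃ u : ∀ i, (Γ(X, U i))ˣ, ∀ i j,
      P'.η i j * ρ (inf_le_left : U i ⊓ U j ≤ U i) (u i : Γ(X, U i)) =
        ρ (inf_le_right : U i ⊓ U j ≤ U j) (u j : Γ(X, U j)) * P.η i j := by
  choose a ha using fun i => exists_coef_hom P P' e.hom i
  choose b hb using fun i => exists_coef_hom P' P e.inv i
  have hab : ∀ i, a i * b i = 1 := by
    intro i
    apply P.smul_g_injective i le_rfl
    have h1 : e.inv.app (U i) (e.hom.app (U i) (P.g i le_rfl)) = P.g i le_rfl := by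
      change (e.hom ≫ e.inv).app (U i) (P.g i le_rfl) = _
      rw [e.hom_inv_id]
      rfl
    rw [ha i _ le_rfl, Scheme.Modules.Hom.app_smul, hb i _ le_rfl, ρ_refl, ρ_refl, ← mul_smul]
      at h1
    rw [h1, one_smul]
  refine ⟨fun i => Units.mkOfMulEqOne (a i) (b i) (hab i), fun i j => ?_⟩
  apply P'.smul_g_injective j (inf_le_right : U i ⊓ U j ≤ U j)
  have h1 : e.hom.app (U i ⊓ U j) (P.g i inf_le_left) =
      e.hom.app (U i ⊓ U j) (P.η i j • P.g j inf_le_right) := by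
    have := P.g_trans i j (inf_le_left : U i ⊓ U j ≤ U i) inf_le_right
    rw [ρ_refl] at this
    rw [← this]
  rw [ha i _ inf_le_left, Scheme.Modules.Hom.app_smul, ha j _ inf_le_right,
    P'.g_trans i j (inf_le_left : U i ⊓ U j ≤ U i) inf_le_right, ρ_refl, ← mul_smul,
    ← mul_smul] at h1
  change (P'.η i j * ρ _ (a i)) • _ = (ρ _ (a j) * P.η i j) • _
  rw [mul_comm (P'.η i j), mul_comm (ρ _ (a j)), h1]

end Triv

end Groth.Agent.Helper1.CC
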