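import Mathlib
import Groth.Agent.Helper4.GV7
import Groth.Agent.Helper1.FormA
import Groth.Agent.Helper1.SecLin2

set_option autoImplicit false

/-!
# Modules killed by a power of the maximal ideal are supported on the closed fibre
-/

namespace Groth.Agent.Helper1.FibDimVan

open CategoryTheory Limits AlgebraicGeometry Opposite TopologicalSpace
open Groth.Agent.Helper4.GV

universe u

variable (B : Type u) [CommRing B] [IsLocalRing B] {X₁ : Scheme.{u}}
  [X₁.Over (Spec (CommRingCat.of B))]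

/-- the closed fibre, as a set -/
def closedFibre : Set X₁ :=
  (X₁ ↘ Spec (CommRingCat.of B)) ⁻¹' {IsLocalRing.closedPoint B}

lemma exists_mem_basicOpen (x : X₁) (hx : x ∉ closedFibre B (X₁ := X₁)) :
    ∃ a ∈ IsLocalRing.maximalIdeal B,
      x ∈ X₁.basicOpen (Coh.toGlobal (X₁ ↘ Spec (CommRingCat.of B)) a) := by
  set φ := X₁ ↘ Spec (CommRingCat.of B)
  have hne : φ x ≠ IsLocalRing.closedPoint B := hx
  have hnle : ¬ IsLocalRing.maximalIdeal B ≤ (φ x).asIdeal := by
    intro hle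
    apply hne
    apply PrimeSpectrum.ext
    exact ((IsLocalRing.maximalIdeal.isMaximal B).eq_of_le (φ x).isPrime.ne_top hle).symm
  obtain ⟨a, ham, hax⟩ := Set.not_subset.mp hnle
  refine ⟨a, ham, ?_⟩
  have h1 : φ x ∈ (Spec (CommRingCat.of B)).basicOpen
      ((Scheme.ΓSpecIso (CommRingCat.of B)).inv a) := by
    rw [basicOpen_eq_of_affine]
    exact hax
  have h2 : x ∈ φ ⁻¹ᵁ (Spec (CommRingCat.of B)).basicOpen
      ((Scheme.ΓSpecIso (CommRingCat.of B)).inv a) := h1
  rw [Scheme.preimage_basicOpen_top] at h2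
  exact h2

lemma isUnit_resTop_of_le_basicOpen (g : Coh.Γtop X₁) (N₀ : X₁.Opens)
    (h : N₀ ≤ X₁.basicOpen g) : IsUnit (Coh.resTop X₁ (op N₀) g) := by
  have hb := X₁.toRingedSpace.isUnit_res_basicOpen g
  have e : Coh.resTop X₁ (op N₀) g = X₁.presheaf.map (homOfLE h).op
      (X₁.presheaf.map (homOfLE (X₁.basicOpen_le g)).op g) := by
    rw [← CommRingCat.comp_apply, ← Functor.map_comp]
    rfl
  rw [e]
  exact hb.map _

/-- a module killed by a power of the maximal ideal is supported on the closed fibre -/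
theorem suppIn_of_killedBy (N : X₁.Modules) (k : ℕ)
    (hN : Formal.KilledBy (IsLocalRing.maximalIdeal B ^ k) N) :
    SuppIn (Coh.toAb N) (closedFibre B (X₁ := X₁)) := by
  intro W hW s
  refine eq_zero_of_locally (Coh.toAb N) s (fun x hx => ?_)
  have hxc : x ∉ closedFibre B (X₁ := X₁) := fun h => Set.disjoint_left.mp hW hx h
  obtain ⟨a, ham, hxa⟩ := exists_mem_basicOpen B x hxc
  set g := Coh.toGlobal (X₁ ↘ Spec (CommRingCat.of B)) a with hg
  let N₀ : X₁.Opens := W ⊓ X₁.basicOpen g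
  refine ⟨N₀, inf_le_left, ⟨hx, hxa⟩, ?_⟩
  have h0 : Coh.smulAb N (Coh.toGlobal (X₁ ↘ Spec (CommRingCat.of B)) (a ^ k)) = 0 := by
    have h := hN (a ^ k) (Ideal.pow_mem_pow ham k)
    have h' : (SheafOfModules.toSheaf X₁.ringCatSheaf).map (Formal.smulMod B N (a ^ k)) = 0 := by
      rw [h]
      exact Functor.map_zero _ _ _
    exact h'
  have h1 : Coh.resTop X₁ (op N₀) (Coh.toGlobal (X₁ ↘ Spec (CommRingCat.of B)) (a ^ k)) •
      (show N.val.obj (op N₀) from rs (Coh.toAb N) (inf_le_left : N₀ ≤ W) s) = 0 := by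
    rw [← Coh.smulAb_app, h0]
    rfl
  have hu : IsUnit (Coh.resTop X₁ (op N₀)
      (Coh.toGlobal (X₁ ↘ Spec (CommRingCat.of B)) (a ^ k))) := by
    rw [map_pow, map_pow]
    exact (isUnit_resTop_of_le_basicOpen g N₀ inf_le_right).pow k
  obtain ⟨u, hu'⟩ := hu
  rw [← hu'] at h1
  have h2 := congrArg (fun z => (↑u⁻¹ : X₁.ringCatSheaf.obj.obj (op N₀)) • z) h1
  simp only [smul_smul, Units.inv_mul, one_smul, smul_zero] at h2
  exact h2

end Groth.Agent.Helper1.FibDimVan
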