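import Groth.Agent.Helper1.FibDimVan1
import Groth.Agent.Helper1.FibDimVan2

set_option autoImplicit false

/-!
# The closed fibre of the base change to the local ring of a point
-/

namespace Groth.Agent.Helper1.FibDimVan

open CategoryTheory Limits AlgebraicGeometry Opposite TopologicalSpace
open Groth.Agent.Helper4.GV

universe u

variable {X Y : Scheme.{u}} (f : X ⟶ Y) (y : Y)
  {X₁ : Scheme.{u}} [X₁.Over (Spec (CommRingCat.of (Y.presheaf.stalk y)))] (g : X₁ ⟶ X)
  (hsq : IsPullback g (X₁ ↘ Spec (CommRingCat.of (Y.presheaf.stalk y))) f (Y.fromSpecStalk y))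

/-- the inclusion of the fibre of `f` at `y` into `X₁` -/
noncomputable def jFib : f.fiber y ⟶ X₁ :=
  hsq.lift (f.fiberι y) (f.fiberToSpecResidueField y ≫ Spec.map (Y.residue y)) (by
    rw [Category.assoc]
    exact f.fiber_fac y)

lemma jFib_fst : jFib f y g hsq ≫ g = f.fiberι y := hsq.lift_fst _ _ _

lemma jFib_snd : jFib f y g hsq ≫ (X₁ ↘ Spec (CommRingCat.of (Y.presheaf.stalk y))) =
    f.fiberToSpecResidueField y ≫ Spec.map (Y.residue y) := hsq.lift_snd _ _ _

lemma isPullback_jFib :
    IsPullback (jFib f y g hsq) (f.fiberToSpecResidueField y)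
      (X₁ ↘ Spec (CommRingCat.of (Y.presheaf.stalk y))) (Spec.map (Y.residue y)) := by
  have h0 : IsPullback (f.fiberι y) (f.fiberToSpecResidueField y) f
      (Y.fromSpecResidueField y) := IsPullback.of_hasPullback _ _
  have h1 : IsPullback (jFib f y g hsq ≫ g) (f.fiberToSpecResidueField y) f
      (Spec.map (Y.residue y) ≫ Y.fromSpecStalk y) := by
    rw [jFib_fst]
    exact h0
  exact IsPullback.of_right h1 (jFib_snd f y g hsq) hsq

instance : IsClosedImmersion (jFib f y g hsq) :=
  MorphismProperty.of_isPullback (P := @IsClosedImmersion) (isPullback_jFib f y g hsq).flip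
    inferInstance

lemma closedFibre_subset_range :
    closedFibre (Y.presheaf.stalk y) (X₁ := X₁) ⊆ Set.range (jFib f y g hsq) := by
  intro x hx
  let e := (isPullback_jFib f y g hsq).isoPullback
  have hx' : (X₁ ↘ Spec (CommRingCat.of (Y.presheaf.stalk y))) x =
      IsLocalRing.closedPoint (Y.presheaf.stalk y) := hx
  have hr : x ∈ Set.range (pullback.fst (X₁ ↘ Spec (CommRingCat.of (Y.presheaf.stalk y)))
      (Spec.map (Y.residue y))) := by
    rw [Scheme.Pullback.range_fst]
    obtain ⟨s⟩ : Nonempty (Spec (Y.residueField y)) := inferInstance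
    exact ⟨s, by rw [Scheme.SpecMap_residue_apply]; exact hx'.symm⟩
  obtain ⟨z, rfl⟩ := hr
  refine ⟨e.inv z, ?_⟩
  rw [← Scheme.Hom.comp_apply]
  exact congrArg (fun φ : pullback (X₁ ↘ Spec (CommRingCat.of (Y.presheaf.stalk y)))
    (Spec.map (Y.residue y)) ⟶ X₁ => φ z) (isPullback_jFib f y g hsq).isoPullback_inv_fst

include hsq in
/-- heights of irreducible closed subsets of the closed fibre -/
theorem dimLT_closedFibre (d : ℕ) (hd : topologicalKrullDim ↥(f.fiber y) ≤ d) :
    DimLT (X := X₁.toTopCat) (closedFibre (Y.presheaf.stalk y) (X₁ := X₁)) (d + 1) := by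
  intro T hT
  exact height_lt_of_isClosedEmbedding (jFib f y g hsq).isClosedEmbedding d hd T
    (hT.trans (closedFibre_subset_range f y g hsq))

end Groth.Agent.Helper1.FibDimVan
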