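import Groth.Agent.Helper1.PicSpread3
import Groth.Agent.Helper1.PicLoc4
import Groth.Agent.Helper1.StalkBC5
import Groth.Agent.Helper1.FibDimVan3
import Groth.Agent.Helper4.QAffSec

set_option autoImplicit false
set_option linter.style.haveILetI false

/-!
# An invertible module trivial on a fibre with `H¹(X_y, O) = 0` is trivial near the fibre
-/

namespace Groth.Agent.Helper1.PicSpread

open CategoryTheory Limits AlgebraicGeometry Opposite TopologicalSpace
open Groth.Agent.Helper4 Groth.Agent.Helper4.PullSec Groth.Agent.Helper4.PullUnit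
  Groth.Agent.Helper1.BaseChart Groth.Agent.Helper1.StalkBC Groth.Agent.Helper1.FibDimVan

universe u

/-- transport of a trivialisation through a double restriction -/
theorem nonempty_restrict_image_iso {X : Scheme.{u}} (W : X.Opens) (W' : (W : Scheme.{u}).Opens)
    (P : X.Modules)
    (θ : (P.restrict W.ι).restrict W'.ι ≅ Coh.structureModule (W' : Scheme.{u})) :
    Nonempty (P.restrict (W.ι ''ᵁ W').ι ≅ Coh.structureModule ((W.ι ''ᵁ W' : X.Opens) : Scheme.{u})) := by
  let k : ((W.ι ''ᵁ W' : X.Opens) : Scheme.{u}) ⟶ (W' : Scheme.{u}) := (W.ι.isoImage W').inv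
  have hk : k ≫ W'.ι ≫ W.ι = (W.ι ''ᵁ W').ι := Scheme.Hom.isoImage_inv_ι W.ι W'
  haveI : IsOpenImmersion (k ≫ W'.ι ≫ W.ι) := by rw [hk]; infer_instance
  exact ⟨(Scheme.Modules.restrictFunctorCongr hk.symm).app P ≪≫
    (Scheme.Modules.restrictFunctorComp k (W'.ι ≫ W.ι)).app P ≪≫
    (Scheme.Modules.restrictFunctor k).mapIso ((Scheme.Modules.restrictFunctorComp W'.ι W.ι).app P) ≪≫
    (Scheme.Modules.restrictFunctor k).mapIso θ ≪≫ Scheme.Modules.restrictUnitIso k⟩

variable {X Y : Scheme.{u}} (f : X ⟶ Y)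

/-- **Key lemma**: an invertible module, trivial on the fibre `X_y` with `H¹(X_y, O) = 0`, is
trivial over a neighbourhood of `y` (`f` proper and flat, `Y` locally Noetherian). -/
theorem exists_nhd_trivial [IsProper f] [Flat f] [IsLocallyNoetherian Y] (y : Y)
    (h1 : Subsingleton (Coh.HH (f.fiber y) (Coh.structureModule (f.fiber y)) 1))
    (N : X.Modules) (hN : PicF.IsInvertible N)
    (e₀ : CohIII.fiberMod f N y ≅ Coh.structureModule (f.fiber y)) :
    ∃ U : Y.Opens, y ∈ U ∧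
      Nonempty (N.restrict (f ⁻¹ᵁ U).ι ≅ Coh.structureModule ((f ⁻¹ᵁ U : X.Opens) : Scheme.{u})) := by
  obtain ⟨_, ⟨V, hV : IsAffineOpen V, rfl⟩, hy, -⟩ :=
    Y.isBasis_affineOpens.exists_subset_of_mem_open (Set.mem_univ y) isOpen_univ
  haveI : IsAffine (V : Scheme.{u}) := hV
  -- base change to the local ring
  let A : Type u := Y.presheaf.stalk y
  let X₁ : Scheme.{u} := pullback f (Y.fromSpecStalk y)
  let g : X₁ ⟶ X := pullback.fst f (Y.fromSpecStalk y)
  let q : X₁ ⟶ Spec (Y.presheaf.stalk y) := pullback.snd f (Y.fromSpecStalk y)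
  letI : X₁.Over (Spec (CommRingCat.of A)) := ⟨q⟩
  have hsq : IsPullback g (X₁ ↘ Spec (CommRingCat.of A)) f (Y.fromSpecStalk y) :=
    IsPullback.of_hasPullback _ _
  haveI : IsProper (X₁ ↘ Spec (CommRingCat.of A)) :=
    MorphismProperty.of_isPullback (P := @IsProper) hsq inferInstance
  haveI : Flat (X₁ ↘ Spec (CommRingCat.of A)) :=
    MorphismProperty.of_isPullback (P := @Flat) hsq inferInstance
  haveI : IsNoetherianRing A := inferInstanceAs (IsNoetherianRing (Y.presheaf.stalk y))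
  -- the modules
  have hNV : PicF.IsInvertible (FV f V N) := QAffSec.isInvertible_restrict (f ⁻¹ᵁ V).ι hN
  haveI : (FV f V N).IsQuasicoherent :=
    (Groth.Agent.Lead.Ref1K.isCoh_of_isInvertible _ hNV).1
  set g₁ := gLift₁ f V y hy q g hsq with hg₁
  have hN₁ : PicF.IsInvertible ((Scheme.Modules.pullback g₁).obj (FV f V N)) :=
    isInvertible_pullback g₁ hNV
  -- triviality on the closed fibre
  let j := jFib f y g hsq
  have hsq' := isPullback_jFib f y g hsq
  let e₁ : (Scheme.Modules.pullback j).obj ((Scheme.Modules.pullback g₁).obj (FV f V N)) ≅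
      Coh.structureModule (f.fiber y) :=
    (Scheme.Modules.pullback j).mapIso (pullbackChartIso f V y hy q g hsq N) ≪≫
      (Scheme.Modules.pullbackComp j g).app N ≪≫
      (Scheme.Modules.pullbackCongr (jFib_fst f y g hsq)).app N ≪≫ e₀
  obtain ⟨ε⟩ := Groth.Agent.Helper1.PicLoc.nonempty_iso_unit_of_fibre A X₁ hsq' h1
    ((Scheme.Modules.pullback g₁).obj (FV f V N)) hN₁ e₁
  -- spreading out
  obtain ⟨s, hs⟩ := exists_section_of_iso f V y hy q g hsq (FV f V N) ε.inv
  have hG : g₁ ⁻¹ᵁ CohB1.genLocus _ s = ⊤ := by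
    rw [← genLocus_pullSec g₁ hNV s]
    exact Groth.Agent.Helper4.AmpleEventual.genLocus_eq_top_of_isIso _
  set G := CohB1.genLocus (FV f V N) s with hGdef
  -- the closed set where `s` does not generate
  have hcl : IsClosedMap (f ∣_ V) :=
    MorphismProperty.universally_le (P := topologically @IsClosedMap) _
      (IsProper.toUniversallyClosed (f := f ∣_ V)).universally_isClosedMap
  have hT : IsClosed ((f ∣_ V) '' (G : Set (XV f V))ᶜ) := hcl _ G.isOpen.isClosed_compl
  let UV : (V : Scheme.{u}).Opens := ⟨((f ∣_ V) '' (G : Set (XV f V))ᶜ)ᶜ, hT.isOpen_compl⟩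
  have hyU : (⟨y, hy⟩ : V) ∈ UV := by
    rintro ⟨x, hxG, hxy⟩
    apply hxG
    have hx : x ∈ Set.range g₁ := by
      rw [Groth.Agent.Helper1.PicLoc.range_of_isPullback (isPullback_top₁ f V y hy q g hsq)]
      refine ⟨IsLocalRing.closedPoint _, ?_⟩
      rw [hxy]
      apply (Scheme.Opens.ι V).isOpenEmbedding.injective
      rw [← Scheme.Hom.comp_apply, Scheme.Opens.fromSpecStalkOfMem_ι]
      exact Scheme.fromSpecStalk_closedPoint
    obtain ⟨x₁, rfl⟩ := hx
    have : x₁ ∈ g₁ ⁻¹ᵁ G := by rw [hG]; trivial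
    exact this
  have hle : (f ∣_ V) ⁻¹ᵁ UV ≤ G := by
    intro x hx
    by_contra hxG
    exact hx ⟨x, hxG, rfl⟩
  refine ⟨(Scheme.Opens.ι V) ''ᵁ UV, ⟨⟨y, hy⟩, hyU, rfl⟩, ?_⟩
  rw [← image_morphismRestrict_preimage f V UV]
  haveI : IsIso ((Scheme.Modules.restrictFunctor ((f ∣_ V) ⁻¹ᵁ UV).ι).map s) :=
    (le_genLocus_iff s _).mp hle
  exact nonempty_restrict_image_iso (f ⁻¹ᵁ V) ((f ∣_ V) ⁻¹ᵁ UV) N
    ((asIso ((Scheme.Modules.restrictFunctor ((f ∣_ V) ⁻¹ᵁ UV).ι).map s)).symm ≪≫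
      Scheme.Modules.restrictUnitIso _)

end Groth.Agent.Helper1.PicSpread
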