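import Groth.Agent.Helper1.BoxPic3
import Groth.Agent.Helper4.SN243
import Groth.Agent.Helper4.SN107

set_option autoImplicit false
set_option linter.style.haveILetI false
set_option linter.unusedSectionVars false

/-!
# `Pic(P^r_Y) = Pic(Y) × ℤ` for an arbitrary connected scheme `Y`
-/

namespace Groth.Agent.Helper1.PnPic

open CategoryTheory AlgebraicGeometry Opposite TopologicalSpace Limits
open Groth.Agent.Helper4.PullUnit
open Groth.Agent.Helper4.SN238 Groth.Agent.Helper4.SN239 Groth.Agent.Helper4.SN240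
  Groth.Agent.Helper4.SN241 Groth.Agent.Helper4.SN243

universe u

variable (r : ℕ) (Y : Scheme.{u})

theorem fp_toSpecZ : LocallyOfFinitePresentation (CohB1.ProjSpace.toSpec r (ULift.{u} ℤ)) := by
  haveI := Groth.Agent.Helper6.HProj.isProper_toSpec r (ULift.{u} ℤ)
  haveI : IsNoetherianRing (ULift.{u} ℤ) :=
    isNoetherianRing_of_ringEquiv ℤ (ULift.ringEquiv : ULift.{u} ℤ ≃+* ℤ).symm
  haveI : IsLocallyNoetherian (Spec (CommRingCat.of (ULift.{u} ℤ))) := inferInstance
  exact (LocallyOfFinitePresentation.iff_locallyOfFiniteType).mpr inferInstance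

set_option backward.isDefEq.respectTransparency false in
theorem fp_ff : LocallyOfFinitePresentation (ff r Y) :=
  MorphismProperty.pullback_snd _ _ (fp_toSpecZ r)

theorem isIso_appTop_ff (y : Y) : IsIso ((ff r Y).fiberToSpecResidueField y).appTop := by
  rw [← θ_hom_toSpec r Y y]
  haveI := Groth.Agent.Helper4.SN213.isIso_appTop_toSpec r (κ Y y)
  rw [Scheme.Hom.comp_appTop]
  haveI : IsIso (θ r Y y).hom.appTop :=
    (inferInstance : IsIso ((θ r Y y).hom.app ⊤))
  exact IsIso.comp_isIso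

theorem isIntegral_fiber (y : Y) : IsIntegral ((ff r Y).fiber y) := by
  haveI : IsIntegral (CohB1.ProjSpace r (κ Y y)) := Groth.Agent.Helper4.SN.isIntegral_Pn (κ Y y) r
  haveI : Nonempty ↥((ff r Y).fiber y) :=
    ⟨(θ r Y y).inv (Nonempty.some (inferInstance : Nonempty ↥(CohB1.ProjSpace r (κ Y y))))⟩
  exact isIntegral_of_isOpenImmersion (θ r Y y).hom

theorem subsingleton_fiberH_one (y : Y) :
    Subsingleton (CohIII.fiberH (ff r Y) (Coh.structureModule (CohB1.ProjSpaceOver r Y)) y 1) :=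
  Groth.Agent.Helper1.SW.subsingleton_HH_of_iso (pullbackUnitIso ((ff r Y).fiberι y)) 1
    (subsingleton_HH_fiber_one r Y y)

/-- **existence**, arbitrary connected base -/
theorem exists_desc [ConnectedSpace Y]
    (L : (CohB1.ProjSpaceOver r Y).Modules) (hL : PicF.IsInvertible L) :
    ∃ (L' : Y.Modules) (n : ℤ), PicF.IsInvertible L' ∧
      Nonempty (L ≅ CohB1.tensorMod ((Scheme.Modules.pullback (ff r Y)).obj L')
        (Twist.twistOver r Y n)) := by
  haveI : IsProper (ff r Y) := Groth.Agent.Helper6.HProj.isProper_toBase r Y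
  haveI : Flat (ff r Y) := Groth.Agent.Helper4.SN210.flat_pr r Y
  haveI := fp_ff r Y
  obtain ⟨y₀⟩ := (inferInstance : Nonempty ↥Y)
  obtain ⟨n, ⟨e⟩⟩ := exists_fiberMod_iso r Y y₀ L hL
  have hM : PicF.IsInvertible (CohB1.tensorMod L (Twist.twistOver r Y (-n))) :=
    Groth.Agent.Helper4.TensorInv.isInvertible_tensorMod hL (hinv r Y (-n))
  have e₀ := nonempty_fiberTriv r Y y₀ L hL n e
  obtain ⟨hpush, hcounit⟩ := Groth.Agent.Helper1.BoxPic.seesaw_connected (ff r Y)
    (isIso_appTop_ff r Y) (isIntegral_fiber r Y) (subsingleton_fiberH_one r Y) _ hM y₀ e₀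
  haveI := hcounit
  refine ⟨(Scheme.Modules.pushforward (ff r Y)).obj (CohB1.tensorMod L (Twist.twistOver r Y (-n))),
    n, hpush, ?_⟩
  obtain ⟨c⟩ := nonempty_cancel r Y L (-n)
  have c' : CohB1.tensorMod (CohB1.tensorMod L (Twist.twistOver r Y (-n)))
      (Twist.twistOver r Y n) ≅ L := by
    have h := c
    rw [neg_neg] at h
    exact h
  exact ⟨c'.symm ≪≫ PicGrp.tensorModIso
    (asIso ((Scheme.Modules.pullbackPushforwardAdjunction (ff r Y)).counit.app
      (CohB1.tensorMod L (Twist.twistOver r Y (-n))))).symm (Iso.refl _)⟩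

end Groth.Agent.Helper1.PnPic
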