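import Mathlib
import Groth.Agent.Helper1.QT3
import Groth.Agent.Helper1.HS3
import Groth.Agent.Helper9.FBCor2

/-!
# Quot schemes, part 4: the fibres of `P^n_T → T` as projective spaces over the residue fields,
and the cohomology of the fibres
-/

set_option autoImplicit false
set_option linter.style.haveILetI false
set_option linter.unusedSectionVars false

universe u
open CategoryTheory CategoryTheory.Limits AlgebraicGeometry Opposite

namespace Groth.Agent.Helper1.QT

open Groth.Agent.Helper1.ProjBC Groth.Agent.Helper1.Fin Groth.Agent.Helper1.HS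

variable (n : ℕ) (T : Scheme.{u}) (t : T)

/-- the fibre of `P^n_T → T` at `t` is the projective space over the residue field -/
noncomputable def fibI : (πT n T).fiber t ≅ CohB1.ProjSpace n (T.residueField t) :=
  fibIso (T.residueField t) n (T.fromSpecResidueField t) ((πT n T).fiberι t)
    ((πT n T).fiberToSpecResidueField t) (IsPullback.of_hasPullback _ _)

/-- the inclusion of the fibre, as a morphism from the projective space over the residue
field -/
noncomputable def jt : CohB1.ProjSpace n (T.residueField t) ⟶ CohB1.ProjSpaceOver n T :=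
  (fibI n T t).inv ≫ (πT n T).fiberι t

theorem fibI_hom_jt : (fibI n T t).hom ≫ jt n T t = (πT n T).fiberι t := by
  unfold jt
  rw [Iso.hom_inv_id_assoc]

theorem jt_aT : jt n T t ≫ aT n T = γγ (φ₀ (T.residueField t)) n := by
  unfold jt
  rw [Category.assoc, Iso.inv_comp_eq]
  exact (fibIso_hom_γγ _ _ _ _ _ _).symm

theorem jt_πT : jt n T t ≫ πT n T =
    CohB1.ProjSpace.toSpec n (T.residueField t) ≫ T.fromSpecResidueField t := by
  unfold jt
  rw [Category.assoc, Iso.inv_comp_eq, ← Category.assoc]
  have h1 : (fibI n T t).hom ≫ CohB1.ProjSpace.toSpec n (T.residueField t) =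
      (πT n T).fiberToSpecResidueField t := fibIso_hom_toSpec _ _ _ _ _ _
  rw [h1]
  exact pullback.condition

theorem isPullback_jt : IsPullback (jt n T t) (CohB1.ProjSpace.toSpec n (T.residueField t))
    (πT n T) (T.fromSpecResidueField t) := by
  have h0 : IsPullback ((πT n T).fiberι t) ((πT n T).fiberToSpecResidueField t) (πT n T)
      (T.fromSpecResidueField t) := IsPullback.of_hasPullback _ _
  refine IsPullback.of_iso h0 (fibI n T t) (Iso.refl _) (Iso.refl _) (Iso.refl _) ?_ ?_ ?_ ?_
  · rw [Iso.refl_hom, Category.comp_id]
    exact (fibI_hom_jt n T t).symm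
  · rw [Iso.refl_hom, Category.comp_id]
    exact (fibIso_hom_toSpec _ _ _ _ _ _).symm
  · simp
  · simp

/-- the restriction of a module to the fibre, on the projective space over the residue field -/
noncomputable abbrev resF (G : (CohB1.ProjSpaceOver n T).Modules) :
    (CohB1.ProjSpace n (T.residueField t)).Modules :=
  (Scheme.Modules.pullback (jt n T t)).obj G

/-- **the cohomology of the fibre is the cohomology of the restriction to the projective space
over the residue field** -/
theorem nonempty_fiberH_equiv (G : (CohB1.ProjSpaceOver n T).Modules) [G.IsQuasicoherent]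
    (i : ℕ) :
    Nonempty (PerfAux.fiberH (πT n T) G t i ≃ₗ[T.residueField t]
      Coh.HH (CohB1.ProjSpace n (T.residueField t)) (resF n T t G) i) := by
  letI : ((πT n T).fiber t).Over (Spec (CommRingCat.of (T.residueField t))) :=
    ⟨(πT n T).fiberToSpecResidueField t⟩
  haveI : Coh.IsQCoh (resF n T t G) :=
    Groth.Agent.Lead.StalkPull.isQuasicoherent_pullbackObj _ G
  haveI : IsProper (CohB1.ProjSpace.toSpec n (T.residueField t)) := by
    haveI := Groth.Agent.Helper6.HProj.isProper_toBase n T
    exact MorphismProperty.of_isPullback (P := @IsProper) (isPullback_jt n T t) inferInstance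
  haveI : CompactSpace (CohB1.ProjSpace n (T.residueField t)) :=
    QuasiCompact.compactSpace_of_compactSpace (CohB1.ProjSpace.toSpec n (T.residueField t))
  haveI : QuasiSeparatedSpace (CohB1.ProjSpace n (T.residueField t)) :=
    quasiSeparatedSpace_of_quasiSeparated (CohB1.ProjSpace.toSpec n (T.residueField t))
  have hsq : IsPullback (fibI n T t).hom
      (((πT n T).fiber t) ↘ Spec (CommRingCat.of (T.residueField t)))
      ((CohB1.ProjSpace n (T.residueField t)) ↘ Spec (CommRingCat.of (T.residueField t)))
      (Spec.map (CommRingCat.ofHom (algebraMap (T.residueField t) (T.residueField t)))) := by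
    have e : Spec.map (CommRingCat.ofHom (algebraMap (T.residueField t) (T.residueField t))) =
        𝟙 _ := by
      rw [Algebra.algebraMap_self]
      exact Spec.map_id _
    rw [e]
    refine IsPullback.of_horiz_isIso ⟨?_⟩
    rw [Category.comp_id]
    exact fibIso_hom_toSpec _ _ _ _ _ _
  obtain ⟨e⟩ := Groth.Agent.Helper9.FBCor2.main (T.residueField t) (T.residueField t)
    (CohB1.ProjSpace n (T.residueField t)) ((πT n T).fiber t) (fibI n T t).hom hsq
    (resF n T t G) i
  let iso : (Scheme.Modules.pullback (fibI n T t).hom).obj (resF n T t G) ≅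
      (Scheme.Modules.pullback ((πT n T).fiberι t)).obj G :=
    (Scheme.Modules.pullbackComp (fibI n T t).hom (jt n T t)).app G ≪≫
      (Scheme.Modules.pullbackCongr (fibI_hom_jt n T t)).app G
  have e2 := Groth.Agent.Helper1.ProjTop.HHlinEquiv (T.residueField t) iso i
  exact ⟨(e2.symm.trans e.symm).trans (TensorProduct.lid (T.residueField t) _)⟩

end Groth.Agent.Helper1.QT
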