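import Mathlib
import Groth.Agent.Helper1.QT3

/-!
# Quot schemes (general module on `P^n_ℤ`), part 1: the native Quot sets, pullback of submodules,
functoriality
-/

set_option autoImplicit false
set_option linter.style.haveILetI false
set_option linter.unusedSectionVars false

universe u v
open CategoryTheory CategoryTheory.Limits AlgebraicGeometry Opposite

namespace Groth.Agent.Helper1.QU

open Groth.Agent.Helper1.QT

variable (n : ℕ) (𝓔 : (PZ.{u} n).Modules)

/-- the pullback of `𝓔` to `P^n_T` -/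
noncomputable def ET (T : Scheme.{u}) : (CohB1.ProjSpaceOver n T).Modules :=
  (Scheme.Modules.pullback (aT n T)).obj 𝓔

variable {T S U : Scheme.{u}}

/-- the pullback of `𝓔_S` is `𝓔_T` -/
noncomputable def Eiso (φ : T ⟶ S) :
    (Scheme.Modules.pullback (FGA.projMap n φ)).obj (ET n 𝓔 S) ≅ ET n 𝓔 T :=
  (Scheme.Modules.pullbackComp (FGA.projMap n φ) (aT n S)).app 𝓔 ≪≫
    (Scheme.Modules.pullbackCongr (projMap_aT n φ)).app 𝓔

/-- the native Quot set -/
def QSet (T : Scheme.{u}) : Type (u + 1) :=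
  {K : Subobject (ET n 𝓔 T) // Coh.IsCoh (cokernel K.arrow) ∧
    FlatMod.IsFlatOver (πT n T) (cokernel K.arrow)}

/-- the pullback of submodules -/
noncomputable def qpull (φ : T ⟶ S) (K : Subobject (ET n 𝓔 S)) : Subobject (ET n 𝓔 T) :=
  imageSubobject ((Scheme.Modules.pullback (FGA.projMap n φ)).map K.arrow ≫ (Eiso n 𝓔 φ).hom)

/-- the pullback of a quotient map of `𝓔_S` -/
noncomputable def pq (φ : T ⟶ S) {F : (CohB1.ProjSpaceOver n S).Modules} (q : ET n 𝓔 S ⟶ F) :
    ET n 𝓔 T ⟶ (Scheme.Modules.pullback (FGA.projMap n φ)).obj F :=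
  (Eiso n 𝓔 φ).inv ≫ (Scheme.Modules.pullback (FGA.projMap n φ)).map q

instance epi_pq (φ : T ⟶ S) {F : (CohB1.ProjSpaceOver n S).Modules} (q : ET n 𝓔 S ⟶ F)
    [Epi q] : Epi (pq n 𝓔 φ q) := by
  haveI : PreservesColimitsOfSize.{0, 0} (Scheme.Modules.pullback (FGA.projMap n φ)) :=
    (Scheme.Modules.pullbackPushforwardAdjunction (FGA.projMap n φ)).leftAdjoint_preservesColimits
  haveI : Epi ((Scheme.Modules.pullback (FGA.projMap n φ)).map q) := inferInstance
  unfold pq
  infer_instance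

/-- **the pullback of a submodule is the kernel of the pullback of its quotient map** -/
theorem qpull_eq_kernel (φ : T ⟶ S) (K : Subobject (ET n 𝓔 S)) :
    qpull n 𝓔 φ K = kernelSubobject (pq n 𝓔 φ (cokernel.π K.arrow)) := by
  haveI : (Scheme.Modules.pullback (FGA.projMap n φ)).Additive :=
    (Scheme.Modules.pullbackPushforwardAdjunction (FGA.projMap n φ)).left_adjoint_additive
  haveI : PreservesFiniteColimits (Scheme.Modules.pullback (FGA.projMap n φ)) :=
    haveI : PreservesColimitsOfSize.{0, 0} (Scheme.Modules.pullback (FGA.projMap n φ)) :=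
      (Scheme.Modules.pullbackPushforwardAdjunction
        (FGA.projMap n φ)).leftAdjoint_preservesColimits
    PreservesColimitsOfSize.preservesFiniteColimits _
  let S₀ : ShortComplex (CohB1.ProjSpaceOver n S).Modules :=
    ShortComplex.mk K.arrow (cokernel.π K.arrow) (cokernel.condition _)
  have hS₀ : S₀.ShortExact :=
    ShortComplex.ShortExact.mk' (ShortComplex.exact_cokernel K.arrow) inferInstance inferInstance
  have h1 := ((Scheme.Modules.pullback (FGA.projMap n φ)).preservesFiniteColimits_iff_forall_exact_map_and_epi).1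
    inferInstance S₀ hS₀
  exact imageSubobject_comp_iso_eq_kernel _ _ _ h1.1 (Eiso n 𝓔 φ)

/-- the pullback of the kernel of a quotient map -/
theorem qpull_kernelSubobject (φ : T ⟶ S) {F : (CohB1.ProjSpaceOver n S).Modules}
    (q : ET n 𝓔 S ⟶ F) [Epi q] :
    qpull n 𝓔 φ (kernelSubobject q) = kernelSubobject (pq n 𝓔 φ q) := by
  rw [qpull_eq_kernel]
  obtain ⟨e, he⟩ := exists_iso_of_kernelSubobject_eq (cokernel.π (kernelSubobject q).arrow) q
    (kernelSubobject_cokernel_π (kernelSubobject q))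
  apply kernelSubobject_eq_of_iso _ _ ((Scheme.Modules.pullback (FGA.projMap n φ)).mapIso e)
  unfold pq
  rw [Category.assoc, Functor.mapIso_hom, ← Functor.map_comp, he]

theorem exists_cokernel_qpull_iso (φ : T ⟶ S) (K : Subobject (ET n 𝓔 S)) :
    ∃ e : cokernel (qpull n 𝓔 φ K).arrow ≅
        (Scheme.Modules.pullback (FGA.projMap n φ)).obj (cokernel K.arrow),
      cokernel.π (qpull n 𝓔 φ K).arrow ≫ e.hom = pq n 𝓔 φ (cokernel.π K.arrow) := by
  rw [qpull_eq_kernel]
  exact exists_cokernel_kernelSubobject_iso _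

/-- the native Quot sets are stable under pullback -/
theorem qpull_mem (φ : T ⟶ S) (K : QSet n 𝓔 S) :
    Coh.IsCoh (cokernel (qpull n 𝓔 φ K.1).arrow) ∧
      FlatMod.IsFlatOver (πT n T) (cokernel (qpull n 𝓔 φ K.1).arrow) := by
  obtain ⟨e, -⟩ := exists_cokernel_qpull_iso n 𝓔 φ K.1
  obtain ⟨h1, h2⟩ := isCoh_isFlatOver_pullback n φ K.2.1 K.2.2
  refine ⟨Groth.Agent.Lead.PerfLib.isCoh_of_iso e.symm h1, fun x => ?_⟩
  exact Groth.Agent.Lead.FpqcSheaf.isFlatOverAt_of_iso _ e.symm x (h2 x)

/-- the pullback of an element of the Quot set -/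
noncomputable def QSet.pull (φ : T ⟶ S) (K : QSet n 𝓔 S) : QSet n 𝓔 T :=
  ⟨qpull n 𝓔 φ K.1, qpull_mem n 𝓔 φ K⟩

section Coherence

/-- general form of the compatibility of the comparison isomorphisms with composition -/
theorem pullbackComp_coherence {A B C D : Scheme.{u}} (f : A ⟶ B) (g : B ⟶ C) (a : C ⟶ D)
    (b : B ⟶ D) (c : A ⟶ D) (hb : g ≫ a = b) (hc : f ≫ b = c) (hc' : (f ≫ g) ≫ a = c)
    (M : D.Modules) :
    (Scheme.Modules.pullbackComp f g).hom.app ((Scheme.Modules.pullback a).obj M) ≫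
      (Scheme.Modules.pullbackComp (f ≫ g) a).hom.app M ≫
        (Scheme.Modules.pullbackCongr hc').hom.app M =
    (Scheme.Modules.pullback f).map ((Scheme.Modules.pullbackComp g a).hom.app M ≫
        (Scheme.Modules.pullbackCongr hb).hom.app M) ≫
      (Scheme.Modules.pullbackComp f b).hom.app M ≫
        (Scheme.Modules.pullbackCongr hc).hom.app M := by
  subst hb
  subst hc
  have h0 : ∀ (h : f ≫ g ≫ a = f ≫ g ≫ a),
      (Scheme.Modules.pullbackCongr h).hom.app M = 𝟙 _ := fun _ => rfl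
  have h1 : (Scheme.Modules.pullbackCongr (rfl : g ≫ a = g ≫ a)).hom.app M = 𝟙 _ := rfl
  rw [h0, h1, Category.comp_id, Category.comp_id]
  have hassoc := congrArg (fun t => NatTrans.app t M)
    (Scheme.Modules.pseudofunctor_associativity f g a)
  simp only [NatTrans.comp_app, Functor.whiskerRight_app, Functor.whiskerLeft_app,
    Functor.associator_hom_app, Category.id_comp] at hassoc
  have h2 : (Scheme.Modules.pullbackComp f g).hom.app ((Scheme.Modules.pullback a).obj M) ≫
      (Scheme.Modules.pullbackComp (f ≫ g) a).hom.app M =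
      (Scheme.Modules.pullback f).map ((Scheme.Modules.pullbackComp g a).hom.app M) ≫
        (Scheme.Modules.pullbackComp f (g ≫ a)).hom.app M ≫
          (Scheme.Modules.pullbackCongr hc').inv.app M := by
    have h3 : (Scheme.Modules.pullbackCongr hc').inv.app M = (eqToHom (by
        rw [Category.assoc] : Scheme.Modules.pullback (f ≫ g ≫ a) =
          Scheme.Modules.pullback ((f ≫ g) ≫ a))).app M := by
      unfold Scheme.Modules.pullbackCongr
      rw [eqToIso.inv]
    rw [h3, ← hassoc, Iso.hom_inv_id_app_assoc, ← Functor.map_comp_assoc,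
      Iso.hom_inv_id_app, CategoryTheory.Functor.map_id, Category.id_comp]
  have h4 := h2 =≫ (Scheme.Modules.pullbackCongr hc').hom.app M
  simp only [Category.assoc, Iso.inv_hom_id_app, Category.comp_id] at h4
  exact h4

/-- the comparison isomorphism along a composite of base changes -/
noncomputable def compIso (ψ : U ⟶ T) (φ : T ⟶ S) (F : (CohB1.ProjSpaceOver n S).Modules) :
    (Scheme.Modules.pullback (FGA.projMap n ψ)).obj
        ((Scheme.Modules.pullback (FGA.projMap n φ)).obj F) ≅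
      (Scheme.Modules.pullback (FGA.projMap n (ψ ≫ φ))).obj F :=
  (Scheme.Modules.pullbackComp (FGA.projMap n ψ) (FGA.projMap n φ)).app F ≪≫
    (Scheme.Modules.pullbackCongr (projMap_comp n ψ φ).symm).app F

theorem compIso_naturality (ψ : U ⟶ T) (φ : T ⟶ S) {F G : (CohB1.ProjSpaceOver n S).Modules}
    (q : F ⟶ G) :
    (Scheme.Modules.pullback (FGA.projMap n ψ)).map
        ((Scheme.Modules.pullback (FGA.projMap n φ)).map q) ≫ (compIso n ψ φ G).hom =
      (compIso n ψ φ F).hom ≫ (Scheme.Modules.pullback (FGA.projMap n (ψ ≫ φ))).map q := by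
  unfold compIso
  simp only [Iso.trans_hom, Iso.app_hom, Category.assoc]
  have h1 := (Scheme.Modules.pullbackComp (FGA.projMap n ψ) (FGA.projMap n φ)).hom.naturality q
  have h2 := (Scheme.Modules.pullbackCongr (projMap_comp n ψ φ).symm).hom.naturality q
  rw [← h2]
  exact (reassoc_of% h1) _

/-- transport of the comparison isomorphism along an equality of morphisms -/
theorem pullbackCongr_pullbackComp {A C D : Scheme.{u}} {p p' : A ⟶ C} (h : p' = p) (a : C ⟶ D)
    (c : A ⟶ D) (h1 : p ≫ a = c) (h2 : p' ≫ a = c) (M : D.Modules) :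
    (Scheme.Modules.pullbackCongr h).hom.app ((Scheme.Modules.pullback a).obj M) ≫
      (Scheme.Modules.pullbackComp p a).hom.app M ≫
        (Scheme.Modules.pullbackCongr h1).hom.app M =
    (Scheme.Modules.pullbackComp p' a).hom.app M ≫
      (Scheme.Modules.pullbackCongr h2).hom.app M := by
  subst h
  have : (Scheme.Modules.pullbackCongr (rfl : p' = p')).hom.app
      ((Scheme.Modules.pullback a).obj M) = 𝟙 _ := rfl
  rw [this, Category.id_comp]

/-- **the comparison isomorphisms of `𝓔` are compatible with composition** -/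
theorem Eiso_comp (ψ : U ⟶ T) (φ : T ⟶ S) :
    (compIso n ψ φ (ET n 𝓔 S)).hom ≫ (Eiso n 𝓔 (ψ ≫ φ)).hom =
      (Scheme.Modules.pullback (FGA.projMap n ψ)).map (Eiso n 𝓔 φ).hom ≫ (Eiso n 𝓔 ψ).hom := by
  have hc' : (FGA.projMap n ψ ≫ FGA.projMap n φ) ≫ aT n S = aT n U := by
    rw [Category.assoc, projMap_aT, projMap_aT]
  have h1 := pullbackComp_coherence (FGA.projMap n ψ) (FGA.projMap n φ) (aT n S) (aT n T)
    (aT n U) (projMap_aT n φ) (projMap_aT n ψ) hc' 𝓔
  have h2 := pullbackCongr_pullbackComp (projMap_comp n ψ φ).symm (aT n S) (aT n U)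
    (projMap_aT n (ψ ≫ φ)) hc' 𝓔
  unfold compIso Eiso
  simp only [Iso.trans_hom, Iso.app_hom, Category.assoc]
  unfold ET
  rw [h2]
  exact h1

/-- the pullback of quotient maps is compatible with composition -/
theorem pq_comp (ψ : U ⟶ T) (φ : T ⟶ S) {F : (CohB1.ProjSpaceOver n S).Modules}
    (q : ET n 𝓔 S ⟶ F) :
    pq n 𝓔 ψ (pq n 𝓔 φ q) ≫ (compIso n ψ φ F).hom = pq n 𝓔 (ψ ≫ φ) q := by
  have key : (Scheme.Modules.pullback (FGA.projMap n ψ)).map (Eiso n 𝓔 φ).inv ≫
      (compIso n ψ φ (ET n 𝓔 S)).hom = (Eiso n 𝓔 ψ).hom ≫ (Eiso n 𝓔 (ψ ≫ φ)).inv := by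
    rw [Iso.eq_comp_inv, Category.assoc, Eiso_comp, ← Functor.map_comp_assoc, Iso.inv_hom_id,
      CategoryTheory.Functor.map_id, Category.id_comp]
  unfold pq
  rw [Functor.map_comp, Category.assoc, Category.assoc, compIso_naturality, Iso.inv_comp_eq,
    ← Category.assoc, ← Category.assoc, key]

/-- **functoriality of the pullback of submodules** -/
theorem qpull_comp (ψ : U ⟶ T) (φ : T ⟶ S) (K : Subobject (ET n 𝓔 S)) :
    qpull n 𝓔 ψ (qpull n 𝓔 φ K) = qpull n 𝓔 (ψ ≫ φ) K := by
  obtain ⟨e, he⟩ := exists_cokernel_qpull_iso n 𝓔 φ K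
  rw [qpull_eq_kernel n 𝓔 ψ, qpull_eq_kernel n 𝓔 (ψ ≫ φ)]
  refine kernelSubobject_eq_of_iso _ _
    ((Scheme.Modules.pullback (FGA.projMap n ψ)).mapIso e ≪≫ compIso n ψ φ _) ?_
  rw [← pq_comp, ← he]
  unfold pq
  simp only [Functor.map_comp, Category.assoc, Iso.trans_hom, Functor.mapIso_hom]

end Coherence

end Groth.Agent.Helper1.QU
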