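import Mathlib
import Groth.Agent.Helper1.QU1
import Groth.Agent.Helper1.QT4
import Groth.Agent.Helper1.MF12
import Groth.Agent.Helper9.PullMon4

/-!
# Quot schemes, part 2 (general): Hilbert functions via the projective spaces over the residue
fields
-/

set_option autoImplicit false
set_option linter.style.haveILetI false
set_option linter.unusedSectionVars false

universe u v
open CategoryTheory CategoryTheory.Limits AlgebraicGeometry Opposite

namespace Groth.Agent.Helper1.QU

open Groth.Agent.Helper1.QT Groth.Agent.Helper1.MF

variable (n : ℕ) (T : Scheme.{u}) (t : T)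

/-- the Euler characteristic of the fibre is the Euler characteristic of the restriction to the
projective space over the residue field -/
theorem eulerChar_eq_chi (G : (CohB1.ProjSpaceOver n T).Modules) [G.IsQuasicoherent] :
    PerfAux.eulerChar (πT n T) G t = chi n (T.residueField t) (resF n T t G) := by
  unfold PerfAux.eulerChar chi Curv2.euler
  refine finsum_congr (fun i => ?_)
  congr 2
  obtain ⟨e⟩ := nonempty_fiberH_equiv n T t G i
  unfold PerfAux.betti
  exact e.finrank_eq

/-- the restriction of a module pulled back from `P^n_ℤ` to the projective space over the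
residue field is the pullback under `P^n_κ → P^n_ℤ` -/
noncomputable def resFIso (M : (PZ.{u} n).Modules) :
    resF n T t ((Scheme.Modules.pullback (aT n T)).obj M) ≅
      (Scheme.Modules.pullback (Groth.Agent.Helper1.ProjBC.γγ
        (Groth.Agent.Helper1.Fin.φ₀ (T.residueField t)) n)).obj M :=
  (Scheme.Modules.pullbackComp (jt n T t) (aT n T)).app M ≪≫
    (Scheme.Modules.pullbackCongr (jt_aT n T t)).app M

/-- the restriction of `O(m)` is `O(m)` -/
theorem nonempty_resF_twist (m : ℤ) :
    Nonempty (resF n T t (Twist.twistOver n T m) ≅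
      Twist.twistProjSpace n (T.residueField t) m) := by
  obtain ⟨b⟩ := Groth.Agent.Helper1.HS.nonempty_twistBC_int
    (Groth.Agent.Helper1.Fin.φ₀ (T.residueField t)) n m
  exact ⟨resFIso n T t (Twist.twistProjSpace n (ULift.{u} ℤ) m) ≪≫ b⟩

/-- restriction to the fibre commutes with twisting -/
theorem nonempty_resF_tensor_twist (F : (CohB1.ProjSpaceOver n T).Modules) (m : ℤ) :
    Nonempty (resF n T t (CohB1.tensorMod F (Twist.twistOver n T m)) ≅
      CohB1.tensorMod (resF n T t F) (Twist.twistProjSpace n (T.residueField t) m)) := by
  obtain ⟨b⟩ := nonempty_resF_twist n T t m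
  haveI := Groth.Agent.Helper9.PullMon4.isIso_θ' (jt n T t) F (Twist.twistOver n T m)
  exact ⟨asIso (Groth.Agent.Helper4.PullTensor.θ (jt n T t) F (Twist.twistOver n T m)) ≪≫
    PicGrp.tensorModIso (Iso.refl _) b⟩

/-- **the Hilbert function of the fibre, computed on the projective space over the residue
field** -/
theorem hilbFn_eq_chi (F : (CohB1.ProjSpaceOver n T).Modules) (hF : Coh.IsCoh F) (m : ℤ) :
    Groth.Agent.Helper1.HS.hilbFn T n F t m =
      chi n (T.residueField t) (CohB1.tensorMod (resF n T t F)
        (Twist.twistProjSpace n (T.residueField t) m)) := by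
  haveI := Groth.Agent.Helper1.HS.isQuasicoherent_twist T n F hF m
  unfold Groth.Agent.Helper1.HS.hilbFn
  rw [eulerChar_eq_chi]
  obtain ⟨e⟩ := nonempty_resF_tensor_twist n T t F m
  exact chi_congr n _ e

end Groth.Agent.Helper1.QU
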