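import Mathlib
import Groth.Agent.Helper2.FibFD1
import Groth.Agent.Helper4.FlatQuotPure

/-!
# Quot schemes, part 3 (general): restriction to a fibre preserves short exact sequences with
cokernel flat over the base -- the algebra
-/

set_option autoImplicit false
set_option linter.style.haveILetI false
set_option linter.unusedSectionVars false

universe u
open TensorProduct

namespace Groth.Agent.Helper1.QU

section Algebra

variable {A B B' : Type u} [CommRing A] [CommRing B] [CommRing B'] [Algebra A B] [Algebra B B']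
  (J : Ideal A)

/-- `1 ⊗ m = 0` in `B' ⊗_B M` iff `m ∈ K M`, for `B' = B / K` -/
theorem one_tmul_eq_zero_iff (hπ : Function.Surjective (algebraMap B B'))
    {M : Type u} [AddCommGroup M] [Module B M] (m : M) :
    (1 : B') ⊗ₜ[B] m = 0 ↔ m ∈ RingHom.ker (algebraMap B B') • (⊤ : Submodule B M) := by
  set K : Ideal B := RingHom.ker (algebraMap B B') with hK
  let e0 : (B ⧸ K) ≃ₐ[B] B' :=
    Ideal.quotientKerAlgEquivOfSurjective (f := Algebra.ofId B B') hπ
  let e1 : (B ⧸ K) ⊗[B] M ≃ₗ[B] B' ⊗[B] M :=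
    TensorProduct.congr e0.toLinearEquiv (LinearEquiv.refl B M)
  let e2 : (B ⧸ K) ⊗[B] M ≃ₗ[B] M ⧸ (K • (⊤ : Submodule B M)) :=
    TensorProduct.quotTensorEquivQuotSMul M K
  have h1 : e1 ((1 : B ⧸ K) ⊗ₜ[B] m) = (1 : B') ⊗ₜ[B] m := by
    show (e0 (1 : B ⧸ K)) ⊗ₜ[B] m = _
    rw [map_one]
  have h2 : e2 ((1 : B ⧸ K) ⊗ₜ[B] m) = Submodule.Quotient.mk m := by
    have := TensorProduct.quotTensorEquivQuotSMul_mk_tmul (M := M) K (1 : B) m
    rw [one_smul] at this
    exact this
  rw [← h1, LinearEquiv.map_eq_zero_iff, ← LinearEquiv.map_eq_zero_iff e2, h2,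
    Submodule.Quotient.mk_eq_zero]

/-- every element of `B' ⊗_B M` is of the form `1 ⊗ m`, for `B' = B / K` -/
theorem exists_one_tmul (hπ : Function.Surjective (algebraMap B B'))
    {M : Type u} [AddCommGroup M] [Module B M] (x : B' ⊗[B] M) :
    ∃ m : M, (1 : B') ⊗ₜ[B] m = x := by
  induction x using TensorProduct.induction_on with
  | zero => exact ⟨0, by rw [TensorProduct.tmul_zero]⟩
  | tmul b' m =>
    obtain ⟨b, rfl⟩ := hπ b'
    refine ⟨b • m, ?_⟩
    rw [TensorProduct.tmul_smul, Algebra.algebraMap_eq_smul_one, TensorProduct.smul_tmul']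
  | add x y hx' hy' =>
    obtain ⟨m, rfl⟩ := hx'
    obtain ⟨m', rfl⟩ := hy'
    exact ⟨m + m', TensorProduct.tmul_add _ _ _⟩

variable {M₁ M₂ M₃ : Type u} [AddCommGroup M₁] [Module B M₁] [Module A M₁] [IsScalarTower A B M₁]
  [AddCommGroup M₂] [Module B M₂] [Module A M₂] [IsScalarTower A B M₂]
  [AddCommGroup M₃] [Module B M₃] [Module A M₃] [IsScalarTower A B M₃]

/-- if `M₃ = M₂ / M₁` is flat over `A` then `J M₂ ∩ M₁ = J M₁` -/
theorem mem_smul_top_of_flat (f : M₁ →ₗ[B] M₂) (g : M₂ →ₗ[B] M₃)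
    (hf : Function.Injective f) (hg : Function.Surjective g)
    (hex : LinearMap.range f = LinearMap.ker g) [Module.Flat A M₃] (m : M₁)
    (hm : f m ∈ J • (⊤ : Submodule A M₂)) : m ∈ J • (⊤ : Submodule A M₁) := by
  let fA : M₁ →ₗ[A] M₂ := f.restrictScalars A
  let gA : M₂ →ₗ[A] M₃ := g.restrictScalars A
  have hgA : Function.Surjective gA := hg
  have hinj := Groth.Agent.Helper4.FlatQuotPure.ker_lTensor_injective gA hgA (A ⧸ J)
  -- `M₁ ≃ ker g`
  have hexA : LinearMap.range fA = LinearMap.ker gA := by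
    ext x
    have := congrArg (fun N : Submodule B M₂ => x ∈ N) hex
    exact (show (x ∈ LinearMap.range f) = (x ∈ LinearMap.ker g) from this) ▸ Iff.rfl
  let e : M₁ ≃ₗ[A] LinearMap.ker gA :=
    (LinearEquiv.ofInjective fA hf).trans (LinearEquiv.ofEq _ _ hexA)
  have hfe : fA = (LinearMap.ker gA).subtype ∘ₗ e.toLinearMap := by
    ext a
    rfl
  have hinj' : Function.Injective (LinearMap.lTensor (A ⧸ J) fA) := by
    rw [hfe, LinearMap.lTensor_comp]
    exact hinj.comp (e.lTensor (A ⧸ J)).injective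
  -- translate
  have key : ∀ {M : Type u} [AddCommGroup M] [Module A M] (x : M),
      (1 : A ⧸ J) ⊗ₜ[A] x = 0 ↔ x ∈ J • (⊤ : Submodule A M) := by
    intro M _ _ x
    have h2 : (TensorProduct.quotTensorEquivQuotSMul M J) ((1 : A ⧸ J) ⊗ₜ[A] x) =
        Submodule.Quotient.mk x := by
      have := TensorProduct.quotTensorEquivQuotSMul_mk_tmul (M := M) J (1 : A) x
      rw [one_smul] at this
      exact this
    rw [← LinearEquiv.map_eq_zero_iff (TensorProduct.quotTensorEquivQuotSMul M J), h2,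
      Submodule.Quotient.mk_eq_zero]
  rw [← key]
  apply hinj'
  rw [map_zero, LinearMap.lTensor_tmul]
  exact (key _).mpr hm

/-- **restriction to the fibre preserves injectivity when the cokernel is flat over the base** -/
theorem lTensor_injective_of_flat_quot (hπ : Function.Surjective (algebraMap B B'))
    (hk : RingHom.ker (algebraMap B B') = J.map (algebraMap A B))
    (f : M₁ →ₗ[B] M₂) (g : M₂ →ₗ[B] M₃)
    (hf : Function.Injective f) (hg : Function.Surjective g)
    (hex : LinearMap.range f = LinearMap.ker g) [Module.Flat A M₃] :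
    Function.Injective (LinearMap.lTensor B' f) := by
  rw [injective_iff_map_eq_zero]
  intro x hx
  obtain ⟨m, rfl⟩ := exists_one_tmul hπ x
  rw [LinearMap.lTensor_tmul, one_tmul_eq_zero_iff hπ, hk] at hx
  rw [one_tmul_eq_zero_iff hπ, hk]
  apply Groth.Agent.Helper2.FibFD.mem_map_smul_top_of_mem
  exact mem_smul_top_of_flat J f g hf hg hex m
    (Groth.Agent.Helper2.FibFD.mem_smul_top_of_mem_map J hx)

end Algebra

end Groth.Agent.Helper1.QU
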