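import Mathlib
import Groth.Agent.Helper1.QU3
import Groth.Agent.Helper4.SN219
import Groth.Agent.Helper5.FibStalk

/-!
# Quot schemes, part 4 (general): restriction to a fibre preserves short exact sequences with
cokernel flat over the base
-/

set_option autoImplicit false
set_option linter.style.haveILetI false
set_option linter.unusedSectionVars false

universe u
open CategoryTheory Limits AlgebraicGeometry TopologicalSpace Opposite
open Groth.Agent.Helper9.SkyMod2 Groth.Agent.Helper9.SkyMod4 Groth.Agent.Helper9.SkyMod5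

namespace Groth.Agent.Helper1.QU

variable {X T Y : Scheme.{u}} (f : X ⟶ T) (j : Y ⟶ X)

/-- the morphism `j` is, on stalks, the quotient by the maximal ideals of the base -/
def IsFibreLike : Prop :=
  ∀ z : Y, Function.Surjective (j.stalkMap z).hom ∧
    RingHom.ker (j.stalkMap z).hom = Ideal.map (f.stalkMap (j z)).hom
      (IsLocalRing.maximalIdeal (T.presheaf.stalk (f (j z))))

theorem isFibreLike_fiberι (t : T) : IsFibreLike f (f.fiberι t) :=
  fun z => Groth.Agent.Helper5.FibStalk.s9501 f t z

/-- the pullback to a fibre of a monomorphism with cokernel flat over the base is a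
monomorphism -/
theorem mono_pullback_of_isFibreLike (hj : IsFibreLike f j) {S : ShortComplex X.Modules}
    (hS : S.ShortExact) (hfl : FlatMod.IsFlatOver f S.X₃) :
    Mono ((Scheme.Modules.pullback j).map S.f) := by
  apply Groth.Agent.Helper3.FlatPullEx.mono_of_stalks
  intro z
  have hnat := (pullStalkIso z j).hom.naturality S.f
  have hT : (S.map (St (j.base z))).ShortExact := hS.map_of_exact (St (j.base z))
  -- the algebra structures
  letI algAB : Algebra (T.presheaf.stalk (f (j z))) (X.presheaf.stalk (j z)) :=
    (f.stalkMap (j z)).hom.toAlgebra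
  letI algBB' : Algebra (X.presheaf.stalk (j z)) (Y.presheaf.stalk z) :=
    (j.stalkMap z).hom.toAlgebra
  have hm2 : Mono ((St (j.base z) ⋙ ext z j).map S.f) := by
    rw [Functor.comp_map]
    rw [ModuleCat.mono_iff_injective]
    set T' := S.map (St (j.base z)) with hTdef
    have hsurj : Function.Surjective T'.g.hom := (ModuleCat.epi_iff_surjective T'.g).1 hT.epi_g
    have hinj : Function.Injective T'.f.hom := (ModuleCat.mono_iff_injective T'.f).1 hT.mono_f
    have hex : LinearMap.range T'.f.hom = LinearMap.ker T'.g.hom :=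
      (ShortComplex.moduleCat_exact_iff_range_eq_ker T').1 hT.exact
    letI m1 : Module (T.presheaf.stalk (f (j z))) T'.X₁ :=
      FlatMod.moduleStalkOver f S.X₁ (j z)
    letI m2 : Module (T.presheaf.stalk (f (j z))) T'.X₂ :=
      FlatMod.moduleStalkOver f S.X₂ (j z)
    letI m3 : Module (T.presheaf.stalk (f (j z))) T'.X₃ :=
      FlatMod.moduleStalkOver f S.X₃ (j z)
    haveI : IsScalarTower (T.presheaf.stalk (f (j z))) (X.presheaf.stalk (j z)) T'.X₁ :=
      IsScalarTower.of_algebraMap_smul (fun _ _ => rfl)
    haveI : IsScalarTower (T.presheaf.stalk (f (j z))) (X.presheaf.stalk (j z)) T'.X₂ :=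
      IsScalarTower.of_algebraMap_smul (fun _ _ => rfl)
    haveI : IsScalarTower (T.presheaf.stalk (f (j z))) (X.presheaf.stalk (j z)) T'.X₃ :=
      IsScalarTower.of_algebraMap_smul (fun _ _ => rfl)
    haveI : Module.Flat (T.presheaf.stalk (f (j z))) T'.X₃ := hfl (j z)
    exact lTensor_injective_of_flat_quot
      (A := T.presheaf.stalk (f (j z))) (B := X.presheaf.stalk (j z)) (B' := Y.presheaf.stalk z)
      (IsLocalRing.maximalIdeal (T.presheaf.stalk (f (j z)))) (hj z).1 (hj z).2
      T'.f.hom T'.g.hom hinj hsurj hex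
  have hiso : IsIso ((pullStalkIso z j).hom.app S.X₁) := ((pullStalkIso z j).app S.X₁).isIso_hom
  have hm1 : Mono ((pullStalkIso z j).hom.app S.X₁) := @IsIso.mono_of_iso _ _ _ _ _ hiso
  have h3 : Mono ((pullStalkIso z j).hom.app S.X₁ ≫ (St (j.base z) ⋙ ext z j).map S.f) :=
    @mono_comp _ _ _ _ _ _ hm1 _ hm2
  rw [← hnat] at h3
  exact mono_of_mono ((Scheme.Modules.pullback j ⋙ St z).map S.f)
    ((pullStalkIso z j).hom.app S.X₂)

/-- **restriction to a fibre preserves short exact sequences with cokernel flat over the base** -/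
theorem shortExact_pullback_of_isFibreLike (hj : IsFibreLike f j) {S : ShortComplex X.Modules}
    (hS : S.ShortExact) (hfl : FlatMod.IsFlatOver f S.X₃) :
    (S.map (Scheme.Modules.pullback j)).ShortExact := by
  haveI : (Scheme.Modules.pullback j).Additive :=
    (Scheme.Modules.pullbackPushforwardAdjunction j).left_adjoint_additive
  haveI : PreservesFiniteColimits (Scheme.Modules.pullback j) :=
    haveI : PreservesColimitsOfSize.{0, 0} (Scheme.Modules.pullback j) :=
      (Scheme.Modules.pullbackPushforwardAdjunction j).leftAdjoint_preservesColimits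
    PreservesColimitsOfSize.preservesFiniteColimits _
  have h1 := ((Scheme.Modules.pullback j).preservesFiniteColimits_iff_forall_exact_map_and_epi).1
    inferInstance S hS
  have hm : Mono (S.map (Scheme.Modules.pullback j)).f :=
    mono_pullback_of_isFibreLike f j hj hS hfl
  exact ShortComplex.ShortExact.mk' h1.1 hm h1.2

end Groth.Agent.Helper1.QU

namespace Groth.Agent.Helper1.QU

variable {X T Y Y' : Scheme.{u}} (f : X ⟶ T) (j : Y ⟶ X)

/-- precomposing with an isomorphism -/
theorem IsFibreLike.iso_comp (hj : IsFibreLike f j) (e : Y' ⟶ Y) [IsIso e] :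
    IsFibreLike f (e ≫ j) := by
  intro z
  have h1 : ((e ≫ j).stalkMap z).hom = (e.stalkMap z).hom.comp (j.stalkMap (e z)).hom := by
    rw [Scheme.Hom.stalkMap_comp]
    rfl
  have hb : Function.Bijective (e.stalkMap z).hom :=
    (ConcreteCategory.isIso_iff_bijective (e.stalkMap z)).1 inferInstance
  obtain ⟨hs, hk⟩ := hj (e z)
  constructor
  · rw [h1]
    exact hb.2.comp hs
  · rw [h1]
    have : RingHom.ker ((e.stalkMap z).hom.comp (j.stalkMap (e z)).hom) =
        RingHom.ker (j.stalkMap (e z)).hom := by
      ext a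
      rw [RingHom.mem_ker, RingHom.mem_ker, RingHom.comp_apply]
      exact ⟨fun h => hb.1 (h.trans (map_zero _).symm), fun h => by rw [h, map_zero]⟩
    exact this.trans hk

end Groth.Agent.Helper1.QU
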