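import Mathlib
import Groth.Agent.Lead.StalkPull2
import Groth.Agent.Helper2.ATate1
import Groth.Agent.Helper4.FinLocFree2
import Groth.Agent.Helper4.SuppLib
import Groth.Agent.Helper1.Dev1
import Groth.Agent.Lead.PerfLib5

/-!
# Quot schemes, part 5 (general): Nakayama's lemma for modules of finite type, along jointly
surjective families of morphisms
-/

set_option autoImplicit false
set_option linter.style.haveILetI false
set_option linter.unusedSectionVars false

universe u
open CategoryTheory Limits AlgebraicGeometry TopologicalSpace Opposite TensorProduct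

namespace Groth.Agent.Helper1.QU

variable {X : Scheme.{u}}

/-- **Nakayama**: a quasi-coherent module of finite type whose pullbacks along a jointly
surjective family of morphisms vanish is zero -/
theorem isZero_of_forall_isZero_pullback (C : X.Modules) [C.IsQuasicoherent]
    (hC : SheafOfModules.IsFiniteType (R := X.ringCatSheaf) C)
    {ι : Type*} (Y : ι → Scheme.{u}) (j : ∀ i, Y i ⟶ X)
    (hsurj : ∀ x : X, ∃ (i : ι) (z : Y i), j i z = x)
    (h : ∀ i, IsZero ((Scheme.Modules.pullback (j i)).obj C)) : IsZero C := by
  apply Groth.Agent.Helper1.Dev.isZero_of_forall_subsingleton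
  intro x
  obtain ⟨i, z, rfl⟩ := hsurj x
  letI alg : Algebra (X.presheaf.stalk (j i z)) ((Y i).presheaf.stalk z) :=
    ((j i).stalkMap z).hom.toAlgebra
  obtain ⟨E⟩ := Groth.Agent.Lead.StalkPull.nonempty_stalk_pullback_equiv (j i) C z
  haveI : Subsingleton (((Scheme.Modules.pullback (j i)).obj C).presheaf.stalk z) :=
    Groth.Agent.Helper4.SuppLib.subsingleton_stalk_of_isZero _ (h i) z
  haveI : Subsingleton (((Y i).presheaf.stalk z) ⊗[X.presheaf.stalk (j i z)]
      (C.presheaf.stalk (j i z))) := E.symm.toEquiv.subsingleton
  haveI : IsLocalHom (algebraMap (X.presheaf.stalk (j i z)) ((Y i).presheaf.stalk z)) :=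
    inferInstanceAs (IsLocalHom ((j i).stalkMap z).hom)
  haveI : Module.Finite (X.presheaf.stalk (j i z)) (C.presheaf.stalk (j i z)) :=
    Groth.Agent.Helper4.FinLocFree2.finite_stalk C hC (j i z)
  exact Groth.Agent.Helper2.ATate.subsingleton_of_subsingleton_tensor
    (X.presheaf.stalk (j i z)) ((Y i).presheaf.stalk z) (C.presheaf.stalk (j i z)) inferInstance

/-- a morphism to a module of finite type whose pullbacks along a jointly surjective family of
morphisms are epimorphisms is an epimorphism -/
theorem epi_of_forall_epi_pullback {M N : X.Modules} [M.IsQuasicoherent] [N.IsQuasicoherent]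
    (hN : SheafOfModules.IsFiniteType (R := X.ringCatSheaf) N) (β : M ⟶ N)
    {ι : Type*} (Y : ι → Scheme.{u}) (j : ∀ i, Y i ⟶ X)
    (hsurj : ∀ x : X, ∃ (i : ι) (z : Y i), j i z = x)
    (h : ∀ i, Epi ((Scheme.Modules.pullback (j i)).map β)) : Epi β := by
  haveI hq : (cokernel β).IsQuasicoherent :=
    Groth.Agent.Helper4.QcohLimits.isQuasicoherent_cokernel β
  have hepi : Epi (cokernel.π β) := coequalizer.π_epi
  have hft : SheafOfModules.IsFiniteType (R := X.ringCatSheaf) (cokernel β) :=
    @Groth.Agent.Helper4.QcohEpi.isFiniteType_of_epi _ _ _ (cokernel.π β) hepi _ hq hN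
  have hz : IsZero (cokernel β) := by
    apply isZero_of_forall_isZero_pullback (cokernel β) hft Y j hsurj
    intro i
    haveI := h i
    haveI : PreservesColimitsOfSize.{0, 0} (Scheme.Modules.pullback (j i)) :=
      (Scheme.Modules.pullbackPushforwardAdjunction (j i)).leftAdjoint_preservesColimits
    have e : (Scheme.Modules.pullback (j i)).obj (cokernel β) ≅
        cokernel ((Scheme.Modules.pullback (j i)).map β) :=
      PreservesCokernel.iso (Scheme.Modules.pullback (j i)) β
    exact IsZero.of_iso (isZero_cokernel_of_epi _) e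
  exact Preadditive.epi_of_isZero_cokernel β hz

end Groth.Agent.Helper1.QU
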