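import Groth.Agent.Helper1.SCV8
import Groth.Agent.Helper1.BaseChart10

set_option autoImplicit false
set_option linter.style.haveILetI false
set_option linter.unusedSectionVars false
set_option linter.unusedVariables false

/-!
# Points of charts, and the square of a fibre
-/

namespace Groth.Agent.Helper1.SCV

open CategoryTheory Limits Opposite TopologicalSpace AlgebraicGeometry TensorProduct
  AlgebraicGeometry.Scheme.Modules
open Groth.Agent.Helper1.BaseChart Groth.Agent.Helper1.GBC Groth.Agent.Helper1.HMap
open Groth.Agent.Lead.BCMap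

universe u

section CP

variable {S S' : Scheme.{u}} (g : S' ⟶ S) (V : S.Opens) (V' : S'.Opens) (e : V' ≤ g ⁻¹ᵁ V)
  [IsAffine (V : Scheme.{u})] [IsAffine (V' : Scheme.{u})]

/-- the map of charts on points -/
lemma chartPt_comap (z : S') (hz : z ∈ V') :
    letI := chartsAlgebra g V V' e
    PrimeSpectrum.comap (algebraMap (AV V) (AV V')) (chartPt V' z hz) = chartPt V (g z) (e hz) := by
  letI := chartsAlgebra g V V' e
  have h1 := Scheme.isoSpec_hom_naturality (g.resLE V V' e)
  have h2 := congrArg (fun φ : (V' : Scheme.{u}) ⟶ Spec Γ((V : Scheme.{u}), ⊤) => φ ⟨z, hz⟩) h1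
  have h3 : (g.resLE V V' e) ⟨z, hz⟩ = ⟨g z, e hz⟩ := by
    apply Subtype.ext
    have := congrArg (fun φ : (V' : Scheme.{u}) ⟶ S => φ ⟨z, hz⟩) (Scheme.Hom.resLE_comp_ι g e)
    exact this
  simp only [Scheme.Hom.comp_apply] at h2
  rw [h3] at h2
  exact h2

end CP

section fieldSpec

variable {K : Type u} [Field K]

/-- every nonempty open of the spectrum of a field is everything -/
lemma eq_top_of_mem_specField (W : (Spec (CommRingCat.of K)).Opens)
    (z : Spec (CommRingCat.of K)) (hz : z ∈ W) : W = ⊤ := by
  ext y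
  have : y = z := Subsingleton.elim (α := PrimeSpectrum K) y z
  simp [this, hz]

/-- a morphism of modules on the spectrum of a field with quasi-coherent target is an
epimorphism iff it is surjective on global sections -/
theorem epi_iff_surjective_top_specField {M N : (Spec (CommRingCat.of K)).Modules}
    [N.IsQuasicoherent] (φ : M ⟶ N) : Epi φ ↔ Function.Surjective (φ.app ⊤) := by
  constructor
  · intro hφ t
    let z : Spec (CommRingCat.of K) := (⟨⊥, Ideal.isPrime_bot⟩ : PrimeSpectrum K)
    obtain ⟨W, hWU, hzW, s, hs⟩ :=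
      Groth.Agent.Helper4.EpiStalk.exists_local_lift_of_epi φ ⊤ t z trivial
    have hW : W = ⊤ := eq_top_of_mem_specField W z hzW
    subst hW
    refine ⟨s, hs.trans ?_⟩
    have : (homOfLE hWU).op = 𝟙 _ := Subsingleton.elim _ _
    rw [this, CategoryTheory.Functor.map_id]
    rfl
  · intro hs
    apply Groth.Agent.Helper4.QcohLocal.epi_of_app_surjective_of_affine_cover
    intro x
    exact ⟨⊤, isAffineOpen_top _, trivial, hs⟩

end fieldSpec

section rescompat

variable {X S X' S' : Scheme.{u}} {f : X ⟶ S} {g : S' ⟶ S} {f' : X' ⟶ S'} {g' : X' ⟶ X}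
  (h : IsPullback g' f' f g)
  [HasInjectiveResolutions X'.Modules]
  {Δ' : RDer.DerivedLES (pushforward f')}
  {E' : CohCmp.SectCmp f' Δ'}
  (F : X.Modules) (p : ℕ) (V : S.Opens) (V' : S'.Opens) (e : V' ≤ g ⁻¹ᵁ V)

/-- the restriction compatibility holds trivially for the full preimage -/
theorem resCompat_of_eq (hV' : V' = g ⁻¹ᵁ V) : ResCompat h (E' := E') F p V V' e := by
  subst hV'
  intro x
  have : (homOfLE e).op = 𝟙 _ := Subsingleton.elim _ _
  rw [this, CategoryTheory.Functor.map_id]
  rfl

end rescompat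

end Groth.Agent.Helper1.SCV
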