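import Mathlib
import Groth.Agent.Helper1.QU5
import Groth.Agent.Helper1.SS1
import Groth.Agent.Helper1.HT2
import Groth.Agent.Helper1.Canon5
import Groth.Agent.Helper1.SCV9
import Groth.Agent.Helper4.QcohGlue

/-!
# Quot schemes, part 6 (general): fibrewise criteria for the direct image of a morphism to be an
epimorphism, and for the evaluation map `f^* f_* G ⟶ G` to be an epimorphism
-/

set_option autoImplicit false
set_option linter.style.haveILetI false
set_option linter.unusedSectionVars false

universe u
open CategoryTheory AlgebraicGeometry TopologicalSpace Opposite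
open AlgebraicGeometry.Scheme.Modules

namespace Groth.Agent.Helper1.QU

open Groth.Agent.Helper1.HT

variable {X S : Scheme.{u}} (f : X ⟶ S)

/-- a family of fibres: for every point `s` of the base a cartesian square over
`Spec κ(s) ⟶ S` -/
structure FibreFamily where
  Xs : S → Scheme.{u}
  js : ∀ s, Xs s ⟶ X
  fs : ∀ s, Xs s ⟶ Spec (S.residueField s)
  sq : ∀ s, IsPullback (js s) (fs s) f (S.fromSpecResidueField s)

variable {f} (𝔉 : FibreFamily f)

/-- **the direct image of a morphism which is surjective on the global sections of the fibres is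
an epimorphism**, when the direct images commute with base change to the fibres -/
theorem epi_pushforward_map_of_fibres [QuasiCompact f] [QuasiSeparated f]
    {G₁ G₂ : X.Modules} [G₁.IsQuasicoherent] [G₂.IsQuasicoherent] (u : G₁ ⟶ G₂)
    (hbc₁ : ∀ s, BCIso f G₁ (S.fromSpecResidueField s))
    (hbc₂ : ∀ s, BCIso f G₂ (S.fromSpecResidueField s))
    (hft : SheafOfModules.IsFiniteType (R := S.ringCatSheaf) ((pushforward f).obj G₂))
    (hqc : ∀ s, QuasiCompact (𝔉.fs s)) (hqs : ∀ s, QuasiSeparated (𝔉.fs s))
    (hsurj : ∀ s, Function.Surjective (((pullback (𝔉.js s)).map u).app ⊤)) :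
    Epi ((pushforward f).map u) := by
  haveI : ((pushforward f).obj G₁).IsQuasicoherent :=
    Groth.Agent.Helper4.QcohGlue.isQuasicoherent_pushforward f G₁
  haveI : ((pushforward f).obj G₂).IsQuasicoherent :=
    Groth.Agent.Helper4.QcohGlue.isQuasicoherent_pushforward f G₂
  apply epi_of_forall_epi_pullback hft ((pushforward f).map u)
    (fun s : S => Spec (S.residueField s)) (fun s => S.fromSpecResidueField s)
  · intro s
    exact ⟨s, IsLocalRing.closedPoint _, Scheme.fromSpecResidueField_apply _ _⟩
  · intro s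
    haveI := hbc₁ s (𝔉.fs s) (𝔉.js s) (𝔉.sq s)
    haveI := hbc₂ s (𝔉.fs s) (𝔉.js s) (𝔉.sq s)
    have hnat := Groth.Agent.Helper1.SS.bc0_naturality f (S.fromSpecResidueField s) (𝔉.fs s)
      (𝔉.js s) (𝔉.sq s).w u
    haveI := hqc s
    haveI := hqs s
    haveI : ((pullback (𝔉.js s)).obj G₂).IsQuasicoherent :=
      Groth.Agent.Lead.StalkPull.isQuasicoherent_pullbackObj _ G₂
    haveI : ((pushforward (𝔉.fs s)).obj ((pullback (𝔉.js s)).obj G₂)).IsQuasicoherent :=
      Groth.Agent.Helper4.QcohGlue.isQuasicoherent_pushforward (𝔉.fs s) _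
    have h2 : Epi ((pushforward (𝔉.fs s)).map ((pullback (𝔉.js s)).map u)) := by
      exact (Groth.Agent.Helper1.SCV.epi_iff_surjective_top_specField (K := S.residueField s)
        ((pushforward (𝔉.fs s)).map ((pullback (𝔉.js s)).map u))).2 (hsurj s)
    have h3 : Epi ((pullback (S.fromSpecResidueField s)).map ((pushforward f).map u) ≫
        CohBC.bc0 f (S.fromSpecResidueField s) (𝔉.fs s) (𝔉.js s) (𝔉.sq s).w G₂) := by
      rw [hnat]
      infer_instance
    have h4 : (pullback (S.fromSpecResidueField s)).map ((pushforward f).map u) =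
        ((pullback (S.fromSpecResidueField s)).map ((pushforward f).map u) ≫
          CohBC.bc0 f (S.fromSpecResidueField s) (𝔉.fs s) (𝔉.js s) (𝔉.sq s).w G₂) ≫
        inv (CohBC.bc0 f (S.fromSpecResidueField s) (𝔉.fs s) (𝔉.js s) (𝔉.sq s).w G₂) := by
      rw [Category.assoc, IsIso.hom_inv_id, Category.comp_id]
    rw [h4]
    infer_instance

/-- **the evaluation map `f^* f_* G ⟶ G` is an epimorphism if it is so on the fibres**, when
the direct image commutes with base change to the fibres -/
theorem epi_counit_of_fibres [QuasiCompact f] [QuasiSeparated f]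
    (G : X.Modules) [G.IsQuasicoherent]
    (hG : SheafOfModules.IsFiniteType (R := X.ringCatSheaf) G)
    (hbc : ∀ s, BCIso f G (S.fromSpecResidueField s))
    (hjs : ∀ x : X, ∃ (s : S) (z : 𝔉.Xs s), 𝔉.js s z = x)
    (hgg : ∀ s, Epi ((pullbackPushforwardAdjunction (𝔉.fs s)).counit.app
      ((pullback (𝔉.js s)).obj G))) :
    Epi ((pullbackPushforwardAdjunction f).counit.app G) := by
  haveI : ((pushforward f).obj G).IsQuasicoherent :=
    Groth.Agent.Helper4.QcohGlue.isQuasicoherent_pushforward f G
  haveI : ((pullback f).obj ((pushforward f).obj G)).IsQuasicoherent :=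
    Groth.Agent.Lead.StalkPull.isQuasicoherent_pullbackObj _ _
  have h0 : Epi ((pullbackPushforwardAdjunction f).counit.app G) := by
    apply epi_of_forall_epi_pullback (M := (pullback f).obj ((pushforward f).obj G)) hG
      ((pullbackPushforwardAdjunction f).counit.app G) 𝔉.Xs 𝔉.js hjs
    intro s
    haveI := hbc s (𝔉.fs s) (𝔉.js s) (𝔉.sq s)
    haveI := hgg s
    have key := Groth.Agent.Helper1.Canon.homEquiv_counit_form_eq_bc0 f
      (S.fromSpecResidueField s) (𝔉.fs s) (𝔉.js s) (𝔉.sq s).w G
    rw [← Equiv.eq_symm_apply, Adjunction.homEquiv_counit] at key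
    -- the three isomorphisms
    let A := (pullbackComp (𝔉.fs s) (S.fromSpecResidueField s)).app ((pushforward f).obj G)
    let B := (pullbackCongr (𝔉.sq s).w).symm.app ((pushforward f).obj G)
    let C := (pullbackComp (𝔉.js s) f).symm.app ((pushforward f).obj G)
    have key' : (A ≪≫ B ≪≫ C).hom ≫
        (pullback (𝔉.js s)).map ((pullbackPushforwardAdjunction f).counit.app G) =
        (pullback (𝔉.fs s)).map (CohBC.bc0 f (S.fromSpecResidueField s) (𝔉.fs s) (𝔉.js s)
          (𝔉.sq s).w G) ≫
        (pullbackPushforwardAdjunction (𝔉.fs s)).counit.app ((pullback (𝔉.js s)).obj G) := by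
      refine Eq.trans ?_ key
      simp only [Iso.trans_hom, Category.assoc]
      rfl
    have h1 : (pullback (𝔉.js s)).map ((pullbackPushforwardAdjunction f).counit.app G) =
        (A ≪≫ B ≪≫ C).inv ≫ (pullback (𝔉.fs s)).map (CohBC.bc0 f (S.fromSpecResidueField s)
          (𝔉.fs s) (𝔉.js s) (𝔉.sq s).w G) ≫
        (pullbackPushforwardAdjunction (𝔉.fs s)).counit.app ((pullback (𝔉.js s)).obj G) := by
      rw [← key', Iso.inv_hom_id_assoc]
    rw [h1]
    infer_instance
  exact h0

end Groth.Agent.Helper1.QU
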