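import Mathlib
import Groth.Agent.Helper1.QU2
import Groth.Agent.Helper1.QU4
import Groth.Agent.Helper1.QU6
import Groth.Agent.Helper1.HT12
import Groth.Agent.Helper1.PnPic1
import Groth.Agent.Helper4.CohFP

/-!
# Quot schemes, part 7 (general): the family of fibres of `P^n_T → T`, and cohomology and base
change for modules whose fibres have no first cohomology
-/

set_option autoImplicit false
set_option linter.style.haveILetI false
set_option linter.unusedSectionVars false

universe u
open CategoryTheory CategoryTheory.Limits AlgebraicGeometry Opposite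

namespace Groth.Agent.Helper1.QU

open Groth.Agent.Helper1.QT Groth.Agent.Helper1.HT

variable (n : ℕ) (T : Scheme.{u})

instance isProper_πT : IsProper (πT n T) := Groth.Agent.Helper6.HProj.isProper_toBase n T

instance lofp_πT : LocallyOfFinitePresentation (πT n T) :=
  Groth.Agent.Helper1.PnPic.fp_ff n T

/-- the family of the fibres of `P^n_T → T`, as projective spaces over the residue fields -/
noncomputable def fam : FibreFamily (πT n T) where
  Xs t := CohB1.ProjSpace n (T.residueField t)
  js t := jt n T t
  fs t := CohB1.ProjSpace.toSpec n (T.residueField t)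
  sq t := isPullback_jt n T t

theorem fam_surj (x : CohB1.ProjSpaceOver n T) :
    ∃ (t : T) (z : CohB1.ProjSpace n (T.residueField t)), jt n T t z = x := by
  refine ⟨(πT n T) x, ?_⟩
  have hx : x ∈ Set.range ((πT n T).fiberι ((πT n T) x)) := by
    rw [Scheme.Hom.range_fiberι]
    rfl
  obtain ⟨y, hy⟩ := hx
  refine ⟨(fibI n T ((πT n T) x)).hom y, ?_⟩
  rw [← Scheme.Hom.comp_apply, fibI_hom_jt]
  exact hy

theorem isFibreLike_jt (t : T) : IsFibreLike (πT n T) (jt n T t) :=
  (isFibreLike_fiberι (πT n T) t).iso_comp (πT n T) _ (fibI n T t).inv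

instance isProper_toSpec_residue (t : T) :
    IsProper (CohB1.ProjSpace.toSpec n (T.residueField t)) :=
  MorphismProperty.of_isPullback (P := @IsProper) (isPullback_jt n T t) inferInstance

variable {n T}

/-- the first cohomology of the fibre, in terms of the projective space over the residue
field -/
theorem subsingleton_fiberH_iff (G : (CohB1.ProjSpaceOver n T).Modules) [G.IsQuasicoherent]
    (t : T) (i : ℕ) :
    Subsingleton (CohIII.fiberH (πT n T) G t i) ↔
      Subsingleton (Coh.HH (CohB1.ProjSpace n (T.residueField t)) (resF n T t G) i) := by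
  obtain ⟨e⟩ := nonempty_fiberH_equiv n T t G i
  exact ⟨fun h => e.symm.toEquiv.subsingleton, fun h => e.toEquiv.subsingleton⟩

/-- **cohomology and base change in degree zero on `P^n_T`** -/
theorem bcIso_of_fibres [IsLocallyNoetherian T] (G : (CohB1.ProjSpaceOver n T).Modules)
    (hG : Coh.IsCoh G) (hfl : FlatMod.IsFlatOver (πT n T) G)
    (h1 : ∀ t : T, Subsingleton (Coh.HH (CohB1.ProjSpace n (T.residueField t))
      (resF n T t G) 1)) :
    FlatMod.IsFinLocFree ((Scheme.Modules.pushforward (πT n T)).obj G) ∧
      ∀ {T' : Scheme.{u}} (g : T' ⟶ T), BCIso (πT n T) G g := by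
  haveI : G.IsQuasicoherent := hG.1
  haveI : IsLocallyNoetherian (CohB1.ProjSpaceOver n T) :=
    LocallyOfFiniteType.isLocallyNoetherian (πT n T)
  have hFP : CohB1.IsFP G := Groth.Agent.Helper4.CohFP.isFP_of_isCoh G hG.1 hG.2
  exact bcIso_of_flat_of_h1 (πT n T) G hFP hfl
    (fun t => (subsingleton_fiberH_iff G t 1).2 (h1 t))

end Groth.Agent.Helper1.QU
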