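import Mathlib
import Groth.Agent.Helper1.QU7
import Groth.Agent.Lead.FlatLib1
import Groth.Agent.Helper1.FlatCxLinAlg
import Groth.Agent.Helper1.HHLes
import Groth.Agent.Helper1.ExtHom2

/-!
# Quot schemes, part 8 (general): the kernel of a quotient flat over the base; direct images of
quotients of `𝓔_T` whose fibres have no first cohomology
-/

set_option autoImplicit false
set_option linter.style.haveILetI false
set_option linter.unusedSectionVars false

universe u
open CategoryTheory CategoryTheory.Limits AlgebraicGeometry Opposite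

namespace Groth.Agent.Helper1.QU

open Groth.Agent.Helper1.QT Groth.Agent.Helper1.HT
open Groth.Agent.Helper4.StalkDict Groth.Agent.Helper4.StalkExact

section FlatKernel

variable {X S : Scheme.{u}} (f : X ⟶ S)

/-- the kernel of an epimorphism of modules flat over the base is flat over the base -/
theorem isFlatOver_kernel_of_epi {A B : X.Modules} (g : A ⟶ B) [Epi g]
    (hA : FlatMod.IsFlatOver f A) (hB : FlatMod.IsFlatOver f B) :
    FlatMod.IsFlatOver f (kernel g) := by
  intro x
  letI algAB : Algebra (S.presheaf.stalk (f x)) (X.presheaf.stalk x) :=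
    (f.stalkMap x).hom.toAlgebra
  letI m1 : Module (S.presheaf.stalk (f x)) ((kernel g).presheaf.stalk x) :=
    FlatMod.moduleStalkOver f (kernel g) x
  letI m2 : Module (S.presheaf.stalk (f x)) (A.presheaf.stalk x) :=
    FlatMod.moduleStalkOver f A x
  letI m3 : Module (S.presheaf.stalk (f x)) (B.presheaf.stalk x) :=
    FlatMod.moduleStalkOver f B x
  haveI : IsScalarTower (S.presheaf.stalk (f x)) (X.presheaf.stalk x)
      ((kernel g).presheaf.stalk x) := IsScalarTower.of_algebraMap_smul (fun _ _ => rfl)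
  haveI : IsScalarTower (S.presheaf.stalk (f x)) (X.presheaf.stalk x)
      (A.presheaf.stalk x) := IsScalarTower.of_algebraMap_smul (fun _ _ => rfl)
  haveI : IsScalarTower (S.presheaf.stalk (f x)) (X.presheaf.stalk x)
      (B.presheaf.stalk x) := IsScalarTower.of_algebraMap_smul (fun _ _ => rfl)
  haveI : Module.Flat (S.presheaf.stalk (f x)) (A.presheaf.stalk x) := hA x
  haveI : Module.Flat (S.presheaf.stalk (f x)) (B.presheaf.stalk x) := hB x
  let S₀ : ShortComplex X.Modules := ShortComplex.mk (kernel.ι g) g (kernel.condition g)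
  have hS : S₀.Exact := ShortComplex.exact_of_f_is_kernel _ (kernelIsKernel g)
  haveI : Mono S₀.f := inferInstanceAs (Mono (kernel.ι g))
  exact Groth.Agent.Helper1.FlatCx.flat_of_exact_of_flat (A := S.presheaf.stalk (f x))
    ((stalkLin (kernel.ι g) x).restrictScalars (S.presheaf.stalk (f x)))
    ((stalkLin g x).restrictScalars (S.presheaf.stalk (f x)))
    (stalkLin_injective _ x) (Groth.Agent.Helper4.EpiStalk.stalkLin_surjective_of_epi g x)
    (stalkLin_exact S₀ hS x)

end FlatKernel

section Family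

variable {n : ℕ} {𝓔 : (PZ.{u} n).Modules} {T : Scheme.{u}}

/-- `𝓔_T` is coherent -/
theorem isCoh_ET (h𝓔 : Coh.IsCoh 𝓔) : Coh.IsCoh (ET n 𝓔 T) :=
  Groth.Agent.Lead.FlatUnivJ.isCoh_pullback _ 𝓔 h𝓔

/-- `𝓔_T` is flat over `T` -/
theorem isFlatOver_ET (h𝓔 : Coh.IsCoh 𝓔)
    (h𝓔fl : FlatMod.IsFlatOver (CohB1.ProjSpace.toSpec n (ULift.{u} ℤ)) 𝓔) :
    FlatMod.IsFlatOver (πT n T) (ET n 𝓔 T) := by
  intro x
  exact Groth.Agent.Lead.FlatBC.main_baseChange (CohB1.ProjSpace.toSpec n (ULift.{u} ℤ))
    (πT n T) (aT n T) (specULiftZIsTerminal.from T) (IsPullback.of_hasPullback _ _) 𝓔 h𝓔.1 x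
    (h𝓔fl _)

/-- the vanishing and generation hypotheses on the fibres of a quotient of `𝓔_T` -/
structure FibreVanish {F : (CohB1.ProjSpaceOver n T).Modules} (q : ET n 𝓔 T ⟶ F) : Prop where
  hK : ∀ t : T, Subsingleton (Coh.HH (CohB1.ProjSpace n (T.residueField t))
    (resF n T t (kernel q)) 1)
  hE : ∀ t : T, Subsingleton (Coh.HH (CohB1.ProjSpace n (T.residueField t))
    (resF n T t (ET n 𝓔 T)) 1)
  hF : ∀ t : T, Subsingleton (Coh.HH (CohB1.ProjSpace n (T.residueField t))
    (resF n T t F) 1)
  gg : ∀ t : T, Epi ((Scheme.Modules.pullbackPushforwardAdjunction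
    (CohB1.ProjSpace.toSpec n (T.residueField t))).counit.app (resF n T t (kernel q)))

variable [IsLocallyNoetherian T] {F : (CohB1.ProjSpaceOver n T).Modules} (q : ET n 𝓔 T ⟶ F)
  [Epi q] (h𝓔 : Coh.IsCoh 𝓔)
  (h𝓔fl : FlatMod.IsFlatOver (CohB1.ProjSpace.toSpec n (ULift.{u} ℤ)) 𝓔)
  (hF : Coh.IsCoh F) (hfl : FlatMod.IsFlatOver (πT n T) F) (hv : FibreVanish q)

include h𝓔 hF in
theorem isCoh_kernel_q : Coh.IsCoh (kernel q) := by
  haveI : IsLocallyNoetherian (CohB1.ProjSpaceOver n T) :=
    LocallyOfFiniteType.isLocallyNoetherian (πT n T)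
  exact Groth.Agent.Lead.PerfLib.isCoh_kernel (isCoh_ET h𝓔) hF q

include h𝓔 h𝓔fl hfl in
theorem isFlatOver_kernel_q : FlatMod.IsFlatOver (πT n T) (kernel q) :=
  isFlatOver_kernel_of_epi (πT n T) q (isFlatOver_ET h𝓔 h𝓔fl) hfl

/-- the restriction to the fibres of the defining sequence of the kernel -/
noncomputable def fibSeq (t : T) :
    ShortComplex (CohB1.ProjSpace n (T.residueField t)).Modules :=
  (ShortComplex.mk (kernel.ι q) q (kernel.condition q)).map
    (Scheme.Modules.pullback (jt n T t))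

include hfl in
theorem fibSeq_shortExact (t : T) : (fibSeq q t).ShortExact := by
  have hS : (ShortComplex.mk (kernel.ι q) q (kernel.condition q)).ShortExact :=
    ShortComplex.ShortExact.mk' (ShortComplex.exact_of_f_is_kernel _ (kernelIsKernel q))
      inferInstance inferInstance
  exact shortExact_pullback_of_isFibreLike (πT n T) (jt n T t) (isFibreLike_jt n T t) hS hfl

include hfl hv in
/-- on the fibres, the quotient map is surjective on global sections -/
theorem surjective_app_top_resF (t : T) :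
    Function.Surjective (((Scheme.Modules.pullback (jt n T t)).map q).app ⊤) := by
  have hS := fibSeq_shortExact q hfl t
  have hex := Groth.Agent.Helper1.HHLes.exact_g_δ (T.residueField t) (fibSeq q t) hS 0
  haveI : Subsingleton (Coh.HH (CohB1.ProjSpace n (T.residueField t)) (fibSeq q t).X₁ (0 + 1)) :=
    hv.hK t
  have hsurj : Function.Surjective (Canon.HHlin (T.residueField t) (fibSeq q t).g 0) := by
    intro y
    exact (hex y).1 (Subsingleton.elim _ _)
  intro z
  obtain ⟨y, hy⟩ := hsurj ((Groth.Agent.Lead.ProperFinA.h0Equiv _).symm z)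
  refine ⟨Groth.Agent.Lead.ProperFinA.h0Equiv _ y, ?_⟩
  have h1 := Groth.Agent.Helper1.ExtHom.h0Equiv_HHlin (T.residueField t) (fibSeq q t).g y
  rw [hy, AddEquiv.apply_symm_apply] at h1
  exact h1.symm

include h𝓔 h𝓔fl hF hfl hv in
/-- **the direct image of the quotient map is an epimorphism** -/
theorem epi_pushforward_q : Epi ((Scheme.Modules.pushforward (πT n T)).map q) := by
  haveI : (ET n 𝓔 T).IsQuasicoherent := (isCoh_ET h𝓔).1
  haveI : F.IsQuasicoherent := hF.1
  have hE := bcIso_of_fibres (ET n 𝓔 T) (isCoh_ET h𝓔) (isFlatOver_ET h𝓔 h𝓔fl) hv.hE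
  have hF' := bcIso_of_fibres F hF hfl hv.hF
  refine epi_pushforward_map_of_fibres (fam n T) q (fun s => hE.2 _) (fun s => hF'.2 _)
    (Groth.Agent.Lead.PerfLib.isCoh_of_isFinLocFree hF'.1).2 (fun s => ?_) (fun s => ?_)
    (fun s => surjective_app_top_resF q hfl hv s)
  · exact inferInstanceAs (QuasiCompact (CohB1.ProjSpace.toSpec n (T.residueField s)))
  · exact inferInstanceAs (QuasiSeparated (CohB1.ProjSpace.toSpec n (T.residueField s)))

include h𝓔 h𝓔fl hF hfl hv in
/-- **the kernel is generated by its direct image** -/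
theorem epi_counit_kernel_q :
    Epi ((Scheme.Modules.pullbackPushforwardAdjunction (πT n T)).counit.app (kernel q)) := by
  have hK := isCoh_kernel_q q h𝓔 hF
  haveI : (kernel q).IsQuasicoherent := hK.1
  have hbc := bcIso_of_fibres (kernel q) hK (isFlatOver_kernel_q q h𝓔 h𝓔fl hfl) hv.hK
  exact epi_counit_of_fibres (fam n T) (kernel q) hK.2 (fun s => hbc.2 _) (fam_surj n T)
    (fun s => hv.gg s)

end Family

end Groth.Agent.Helper1.QU
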