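import Mathlib
import Groth.Agent.Helper1.QU8
import Groth.Agent.Helper1.GR4
import Groth.Agent.Helper1.EpiDesc
import Groth.Agent.Helper4.SN338
import Groth.Agent.Lead.LocLift

/-!
# Quot schemes, part 9 (general): frames of global sections; base change of the sections of a
direct image
-/

set_option autoImplicit false
set_option linter.style.haveILetI false
set_option linter.unusedSectionVars false

universe u
open CategoryTheory CategoryTheory.Limits AlgebraicGeometry Opposite

namespace Groth.Agent.Helper1.QU

open Groth.Agent.Helper1.QT Groth.Agent.Helper1.HT Groth.Agent.Helper1.GR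
open Groth.Agent.Helper4.PullSec Groth.Agent.Helper4.PullUnit Groth.Agent.Helper1.ProjBC
open AlgebraicGeometry.Scheme.Modules

section Affine

variable {X : Scheme.{u}} [IsAffine X]

/-- a quasi-coherent module of finite type on an affine scheme is generated by finitely many
global sections -/
theorem exists_frame_of_isAffine (F : X.Modules) [F.IsQuasicoherent]
    (hF : SheafOfModules.IsFiniteType (R := X.ringCatSheaf) F) :
    ∃ (N : ℕ) (σ : Fin N → (Coh.structureModule X ⟶ F)), Epi (frameMap σ) := by
  haveI : Module.Finite Γ(X, ⊤) Γ(F, ⊤) :=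
    Groth.Agent.Helper4.SecDict.finite_sections (isAffineOpen_top X) F inferInstance hF
  obtain ⟨N, s, hs⟩ := Module.Finite.exists_fin (R := Γ(X, ⊤)) (M := Γ(F, ⊤))
  refine ⟨N, fun j => Groth.Agent.Lead.LocLift.homOfTop F (s j), ?_⟩
  unfold frameMap
  apply Groth.Agent.Helper1.EpiDesc.epi_sigmaDesc
  intro x
  refine ⟨⊤, isAffineOpen_top X, trivial, fun t => ?_⟩
  have ht : t ∈ Submodule.span Γ(X, ⊤) (Set.range s) := by rw [hs]; trivial
  obtain ⟨c, hc⟩ := (Submodule.mem_span_range_iff_exists_fun _).1 ht
  refine ⟨c, ?_⟩
  rw [← hc]
  refine Finset.sum_congr rfl (fun j _ => ?_)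
  rw [Groth.Agent.Helper1.EpiDesc.homOfTop_app]
  congr 1
  change s j = F.presheaf.map (𝟙 _) (s j)
  rw [F.presheaf.map_id]
  rfl

end Affine

section BCsec

variable {X S X' S' : Scheme.{u}} (f : X ⟶ S) (g : S' ⟶ S) (f' : X' ⟶ S') (g' : X' ⟶ X)
  (w : g' ≫ f = f' ≫ g)

/-- the section of the direct image attached to a global section -/
noncomputable def pushSec {G : X.Modules} (s : Coh.structureModule X ⟶ G) :
    Coh.structureModule S ⟶ (pushforward f).obj G :=
  uu f ≫ (pushforward f).map s

theorem uu_congr {a b : X ⟶ S} (h : a = b) :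
    uu a ≫ (pushforwardCongr h).hom.app (Coh.structureModule X) = uu b := by
  subst h
  have : (pushforwardCongr (rfl : a = a)).hom.app (Coh.structureModule X) = 𝟙 _ :=
    Groth.Agent.Helper4.SN315.pushforwardCongr_rfl_app _ _
  rw [this, Category.comp_id]

/-- **base change of the sections of a direct image**: the base change morphism maps the
pullback of the section attached to `s` to the section attached to the pullback of `s` -/
theorem pullSec_pushSec_bc0 {G : X.Modules} (s : Coh.structureModule X ⟶ G) :
    pullSec g (pushSec f s) ≫ CohBC.bc0 f g f' g' w G = pushSec f' (pullSec g' s) := by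
  unfold CohBC.bc0
  apply pullSec_comp_adj
  unfold pushSec CohBC.bc0Adj
  -- step 1
  have h1 : (pushforward f).map s ≫
      (pushforward f).map ((pullbackPushforwardAdjunction g').unit.app G) =
      (pushforward f).map (uu g') ≫ (pushforward f).map ((pushforward g').map (pullSec g' s)) := by
    rw [← Functor.map_comp, ← Functor.map_comp]
    congr 1
    exact Groth.Agent.Helper4.SN338.pullSec_unit g' s
  have h2 := (pushforwardComp g' f).hom.naturality (pullSec g' s)
  have h3 := (pushforwardCongr w).hom.naturality (pullSec g' s)
  have h4 := (pushforwardComp f' g).inv.naturality (pullSec g' s)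
  simp only [Functor.comp_map] at h2 h4
  have h5 := Groth.Agent.Helper4.SN338.uu_comp g' f
  have h6 := uu_congr w
  have h7 : uu (f' ≫ g) ≫ (pushforwardComp f' g).inv.app (Coh.structureModule X') =
      uu g ≫ (pushforward g).map (uu f') := by
    rw [← Groth.Agent.Helper4.SN338.uu_comp f' g, Category.assoc, Category.assoc,
      Iso.hom_inv_id_app]
    erw [Category.comp_id]
  simp only [Category.assoc]
  rw [reassoc_of% h1, reassoc_of% h2, reassoc_of% h3, h4]
  rw [Functor.map_comp, ← Category.assoc, ← Category.assoc, ← Category.assoc, ← Category.assoc,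
    ← Category.assoc]
  have h8 : (((uu f ≫ (pushforward f).map (uu g')) ≫
      (pushforwardComp g' f).hom.app (Coh.structureModule X')) ≫
        (pushforwardCongr w).hom.app (Coh.structureModule X')) ≫
      (pushforwardComp f' g).inv.app (Coh.structureModule X') =
      uu g ≫ (pushforward g).map (uu f') := by
    rw [← h7, ← h6, ← h5]
    simp only [Category.assoc]
  rw [h8]

end BCsec

end Groth.Agent.Helper1.QU
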