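import Mathlib
import Groth.Agent.Helper1.QU9
import Groth.Agent.Helper1.GR19
import Groth.Agent.Lead.PPIsoA

/-!
# Quot schemes, part 10 (general): frames of `𝓔`, i.e. finitely many global sections of `𝓔` on
`P^n_ℤ` whose pullbacks generate the direct image of `𝓔_T` for every `T`
-/

set_option autoImplicit false
set_option linter.style.haveILetI false
set_option linter.unusedSectionVars false

universe u
open CategoryTheory CategoryTheory.Limits AlgebraicGeometry Opposite

namespace Groth.Agent.Helper1.QU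

open Groth.Agent.Helper1.QT Groth.Agent.Helper1.HT Groth.Agent.Helper1.GR
open Groth.Agent.Helper4.PullSec Groth.Agent.Helper4.PullUnit Groth.Agent.Helper1.ProjBC
open AlgebraicGeometry.Scheme.Modules

section General

variable {X' X : Scheme.{u}} (f : X' ⟶ X)

/-- the frame map of pulled back sections -/
theorem frameMap_pullSec {N : ℕ} {L : X.Modules} (σ : Fin N → (Coh.structureModule X ⟶ L)) :
    frameMap (fun j => pullSec f (σ j)) =
      (Groth.Agent.Helper8.TildeBC.pullbackFreeIso f N).inv ≫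
        (Scheme.Modules.pullback f).map (frameMap σ) := by
  apply Sigma.hom_ext
  intro j
  have h1 := inj_frameMap (fun j => pullSec f (σ j)) j
  unfold inj at h1
  rw [h1]
  have h2 := inj_pullbackFreeIso_inv f (d := N) j
  unfold inj at h2
  rw [reassoc_of% h2, ← Functor.map_comp]
  have h3 := inj_frameMap σ j
  unfold inj at h3
  rw [h3]
  rfl

theorem frameMap_comp {N : ℕ} {L L' : X.Modules} (σ : Fin N → (Coh.structureModule X ⟶ L))
    (φ : L ⟶ L') : frameMap (fun j => σ j ≫ φ) = frameMap σ ≫ φ := by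
  apply Sigma.hom_ext
  intro j
  have h1 := inj_frameMap (fun j => σ j ≫ φ) j
  have h2 := inj_frameMap σ j
  unfold inj at h1 h2
  rw [h1, reassoc_of% h2]

/-- every section of a direct image comes from a global section -/
theorem exists_pushSec_eq {G : X'.Modules}
    (τ : Coh.structureModule X ⟶ (pushforward f).obj G) :
    ∃ s : Coh.structureModule X' ⟶ G, pushSec f s = τ := by
  refine ⟨(pullbackUnitIso f).inv ≫
    ((pullbackPushforwardAdjunction f).homEquiv _ _).symm τ, ?_⟩
  unfold pushSec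
  rw [Groth.Agent.Helper4.SN338.uu_eq, Category.assoc, ← Functor.map_comp,
    Iso.hom_inv_id_assoc, ← Adjunction.homEquiv_unit, Equiv.apply_symm_apply]

/-- pulling back sections along an isomorphism is surjective -/
theorem exists_pullSec_eq_of_isIso [IsIso f] {L : X.Modules}
    (s' : Coh.structureModule X' ⟶ (Scheme.Modules.pullback f).obj L) :
    ∃ s : Coh.structureModule X ⟶ L, pullSec f s = s' := by
  obtain ⟨s, hs⟩ := (Scheme.Modules.pullback f).map_surjective ((pullbackUnitIso f).hom ≫ s')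
  refine ⟨s, ?_⟩
  unfold pullSec
  rw [hs, Iso.inv_hom_id_assoc]

theorem pullSec_congr {a b : X' ⟶ X} (h : a = b) {L : X.Modules}
    (s : Coh.structureModule X ⟶ L) :
    pullSec a s ≫ (Scheme.Modules.pullbackCongr h).hom.app L = pullSec b s := by
  subst h
  have : (Scheme.Modules.pullbackCongr (rfl : a = a)).hom.app L = 𝟙 _ := rfl
  rw [this, Category.comp_id]

theorem pushSec_comp {G G' : X'.Modules} (s : Coh.structureModule X' ⟶ G) (φ : G ⟶ G') :
    pushSec f (s ≫ φ) = pushSec f s ≫ (pushforward f).map φ := by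
  unfold pushSec
  rw [Functor.map_comp, Category.assoc]

end General

section Frame

variable (n : ℕ) (𝓔 : (PZ.{u} n).Modules)

/-- the first cohomology of `𝓔` vanishes on the projective spaces over all fields -/
def H1Van : Prop :=
  ∀ (κ : Type u) [Field κ], Subsingleton (Coh.HH (CohB1.ProjSpace n κ)
    ((Scheme.Modules.pullback (γγ (Groth.Agent.Helper1.Fin.φ₀ κ) n)).obj 𝓔) 1)

variable {n 𝓔}

theorem subsingleton_HH_resF_ET (h1 : H1Van n 𝓔) (T : Scheme.{u}) (t : T) :
    Subsingleton (Coh.HH (CohB1.ProjSpace n (T.residueField t)) (resF n T t (ET n 𝓔 T)) 1) := by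
  haveI := h1 (T.residueField t)
  exact (Groth.Agent.Helper1.ProjTop.HHlinEquiv (T.residueField t)
    (resFIso n T t 𝓔) 1).toEquiv.subsingleton

variable (n 𝓔)

/-- a frame of `𝓔`: finitely many global sections whose pullbacks generate the direct image of
`𝓔_T`, for every `T` -/
structure Frame (N : ℕ) where
  w : Fin N → (Coh.structureModule (PZ.{u} n) ⟶ 𝓔)
  epi : ∀ T : Scheme.{u},
    Epi (frameMap (fun j => pushSec (πT n T) (pullSec (aT n T) (w j))))

variable {n 𝓔}

/-- the sections of `𝓔_T` given by a frame -/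
noncomputable def Frame.σ {N : ℕ} (fr : Frame n 𝓔 N) (T : Scheme.{u}) (j : Fin N) :
    Coh.structureModule (CohB1.ProjSpaceOver n T) ⟶ ET n 𝓔 T :=
  pullSec (aT n T) (fr.w j)

/-- the sections are compatible with base change -/
theorem Frame.pullSec_σ {N : ℕ} (fr : Frame n 𝓔 N) {T S : Scheme.{u}} (φ : T ⟶ S) (j : Fin N) :
    pullSec (FGA.projMap n φ) (fr.σ S j) ≫ (Eiso n 𝓔 φ).hom = fr.σ T j := by
  have h := Groth.Agent.Helper4.SN338.pullSec_comp (FGA.projMap n φ) (aT n S) (fr.w j)
  have h2 := pullSec_congr (projMap_aT n φ) (fr.w j)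
  unfold Frame.σ Eiso ET
  rw [Iso.trans_hom, Iso.app_hom, Iso.app_hom, ← h, Category.assoc, Iso.inv_hom_id_app_assoc]
  exact h2

/-- the spectrum of the integers, as a base scheme -/
noncomputable abbrev Zs : Scheme.{u} := Spec (CommRingCat.of (ULift.{u} ℤ))

instance : IsNoetherianRing (ULift.{u} ℤ) :=
  isNoetherianRing_of_ringEquiv ℤ (ULift.ringEquiv : ULift.{u} ℤ ≃+* ℤ).symm

instance isIso_aT_Zs : IsIso (aT n Zs.{u}) := by
  have h : specULiftZIsTerminal.from Zs.{u} = 𝟙 _ := specULiftZIsTerminal.hom_ext _ _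
  haveI : IsIso (specULiftZIsTerminal.from Zs.{u}) := by rw [h]; infer_instance
  unfold aT
  exact pullback_fst_iso_of_right_iso _ _

/-- **frames exist** for a coherent module on `P^n_ℤ` which is flat over `ℤ` and has no first
cohomology on the projective spaces over all fields -/
theorem exists_frame (h𝓔 : Coh.IsCoh 𝓔)
    (h𝓔fl : FlatMod.IsFlatOver (CohB1.ProjSpace.toSpec n (ULift.{u} ℤ)) 𝓔) (h1 : H1Van n 𝓔) :
    ∃ N : ℕ, Nonempty (Frame n 𝓔 N) := by
  haveI : IsLocallyNoetherian Zs.{u} := inferInstance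
  have bc := bcIso_of_fibres (ET n 𝓔 Zs.{u}) (isCoh_ET h𝓔) (isFlatOver_ET h𝓔 h𝓔fl)
    (fun t => subsingleton_HH_resF_ET h1 Zs.{u} t)
  have hcoh := Groth.Agent.Lead.PerfLib.isCoh_of_isFinLocFree bc.1
  haveI := hcoh.1
  obtain ⟨N, τ, hτ⟩ := exists_frame_of_isAffine
    ((pushforward (πT n Zs.{u})).obj (ET n 𝓔 Zs.{u})) hcoh.2
  choose σ' hσ' using fun j => exists_pushSec_eq (πT n Zs.{u}) (τ j)
  choose ŵ hŵ using fun j => exists_pullSec_eq_of_isIso (aT n Zs.{u}) (σ' j)
  refine ⟨N, ⟨⟨ŵ, fun T => ?_⟩⟩⟩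
  let c : T ⟶ Zs.{u} := specULiftZIsTerminal.from T
  have sq := isPullback_projMap n c
  haveI hbc : IsIso (CohBC.bc0 (πT n Zs.{u}) c (πT n T) (FGA.projMap n c) sq.w
      (ET n 𝓔 Zs.{u})) := bc.2 c (πT n T) (FGA.projMap n c) sq
  -- the sections
  have key : ∀ j, pushSec (πT n T) (pullSec (aT n T) (ŵ j)) =
      pullSec c (τ j) ≫ CohBC.bc0 (πT n Zs.{u}) c (πT n T) (FGA.projMap n c) sq.w
        (ET n 𝓔 Zs.{u}) ≫ (pushforward (πT n T)).map (Eiso n 𝓔 c).hom := by
    intro j
    have h2 := pullSec_pushSec_bc0 (πT n Zs.{u}) c (πT n T) (FGA.projMap n c) sq.w (σ' j)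
    rw [hσ' j] at h2
    rw [← Category.assoc, h2, ← pushSec_comp]
    congr 1
    have h3 := Groth.Agent.Helper4.SN338.pullSec_comp (FGA.projMap n c) (aT n Zs.{u}) (ŵ j)
    have h4 := pullSec_congr (projMap_aT n c) (ŵ j)
    rw [hŵ j] at h3
    unfold Eiso ET
    rw [Iso.trans_hom, Iso.app_hom, Iso.app_hom, ← h3, Category.assoc,
      Iso.inv_hom_id_app_assoc]
    exact h4.symm
  have hfm : frameMap (fun j => pushSec (πT n T) (pullSec (aT n T) (ŵ j))) =
      ((Groth.Agent.Helper8.TildeBC.pullbackFreeIso c N).inv ≫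
        (Scheme.Modules.pullback c).map (frameMap τ)) ≫
      CohBC.bc0 (πT n Zs.{u}) c (πT n T) (FGA.projMap n c) sq.w (ET n 𝓔 Zs.{u}) ≫
        (pushforward (πT n T)).map (Eiso n 𝓔 c).hom := by
    rw [← frameMap_pullSec, ← frameMap_comp]
    congr 1
    funext j
    exact key j
  rw [hfm]
  haveI : PreservesColimitsOfSize.{0, 0} (Scheme.Modules.pullback c) :=
    (Scheme.Modules.pullbackPushforwardAdjunction c).leftAdjoint_preservesColimits
  haveI : Epi ((Scheme.Modules.pullback c).map (frameMap τ)) := inferInstance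
  have e1 : Epi ((Groth.Agent.Helper8.TildeBC.pullbackFreeIso c N).inv ≫
        (Scheme.Modules.pullback c).map (frameMap τ)) := epi_comp _ _
  haveI : IsIso ((pushforward (πT n T)).map (Eiso n 𝓔 c).hom) := inferInstance
  haveI hbcE : Epi (CohBC.bc0 (πT n Zs.{u}) c (πT n T) (FGA.projMap n c) sq.w
      (ET n 𝓔 Zs.{u})) := @IsIso.epi_of_iso _ _ _ _ _ hbc
  have e2 : Epi (CohBC.bc0 (πT n Zs.{u}) c (πT n T) (FGA.projMap n c) sq.w (ET n 𝓔 Zs.{u}) ≫
        (pushforward (πT n T)).map (Eiso n 𝓔 c).hom) := epi_comp _ _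
  exact @epi_comp _ _ _ _ _ _ e1 _ e2

end Frame

end Groth.Agent.Helper1.QU
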