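import Mathlib
import Groth.Agent.Helper1.QU10
import Groth.Agent.Helper8.DivML
import Groth.Agent.Helper1.Canon5

/-!
# Quot schemes, part 11 (general): the submodule of a module on `X` generated by a family of
sections of its direct image
-/

set_option autoImplicit false
set_option linter.style.haveILetI false
set_option linter.unusedSectionVars false

universe u
open CategoryTheory CategoryTheory.Limits AlgebraicGeometry Opposite

namespace Groth.Agent.Helper1.QU

open AlgebraicGeometry.Scheme.Modules

section Gen

theorem imageSubobject_congr' {𝒜 : Type*} [Category 𝒜] [Abelian 𝒜] {A B : 𝒜} {f g : A ⟶ B}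
    (h : f = g) : imageSubobject f = imageSubobject g := by
  subst h
  rfl

variable {X S : Scheme.{u}} (f : X ⟶ S) (E : X.Modules)

/-- the submodule of `E` generated by a family of sections of the direct image `f_* E` -/
noncomputable def gen {A : S.Modules} (φ : A ⟶ (pushforward f).obj E) : Subobject E :=
  imageSubobject ((Scheme.Modules.pullback f).map φ ≫
    (pullbackPushforwardAdjunction f).counit.app E)

instance preservesEpi_pullback : (Scheme.Modules.pullback f).PreservesEpimorphisms := by
  haveI : PreservesColimitsOfSize.{0, 0} (Scheme.Modules.pullback f) :=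
    (pullbackPushforwardAdjunction f).leftAdjoint_preservesColimits
  infer_instance

theorem gen_epi_comp {A A' : S.Modules} (e : A' ⟶ A) [Epi e] (φ : A ⟶ (pushforward f).obj E) :
    gen f E (e ≫ φ) = gen f E φ := by
  unfold gen
  refine (imageSubobject_congr' ?_).trans
    (Groth.Agent.Helper8.DivML.imageSubobject_epi_comp ((Scheme.Modules.pullback f).map e) _)
  rw [Functor.map_comp, Category.assoc]

/-- the transpose of a family of sections factors through the submodule it generates -/
theorem gen_le_iff {A : S.Modules} (φ : A ⟶ (pushforward f).obj E) {F : X.Modules} (q : E ⟶ F) :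
    gen f E φ ≤ kernelSubobject q ↔ φ ≫ (pushforward f).map q = 0 := by
  have h1 : ((pullbackPushforwardAdjunction f).homEquiv _ _).symm (φ ≫ (pushforward f).map q) =
      ((Scheme.Modules.pullback f).map φ ≫ (pullbackPushforwardAdjunction f).counit.app E) ≫ q := by
    rw [Adjunction.homEquiv_counit, Functor.map_comp, Category.assoc, Category.assoc]
    congr 1
    exact (pullbackPushforwardAdjunction f).counit.naturality q
  have h2 : φ ≫ (pushforward f).map q = 0 ↔
      ((Scheme.Modules.pullback f).map φ ≫ (pullbackPushforwardAdjunction f).counit.app E) ≫ q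
        = 0 := by
    haveI : (Scheme.Modules.pullback f).Additive :=
      (pullbackPushforwardAdjunction f).left_adjoint_additive
    haveI : (pushforward f).Additive :=
      (pullbackPushforwardAdjunction f).right_adjoint_additive
    rw [← h1]
    constructor
    · intro h
      rw [h, Adjunction.homEquiv_counit, Functor.map_zero, zero_comp]
    · intro h
      have := congrArg ((pullbackPushforwardAdjunction f).homEquiv _ _) h
      rw [Equiv.apply_symm_apply] at this
      rw [this, Adjunction.homEquiv_unit, Functor.map_zero, comp_zero]
  rw [h2]
  unfold gen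
  constructor
  · intro h
    rw [← imageSubobject_arrow_comp ((Scheme.Modules.pullback f).map φ ≫
      (pullbackPushforwardAdjunction f).counit.app E), Category.assoc]
    have h3 : (imageSubobject ((Scheme.Modules.pullback f).map φ ≫
        (pullbackPushforwardAdjunction f).counit.app E)).arrow ≫ q = 0 := by
      rw [← Subobject.ofLE_arrow h, Category.assoc, kernelSubobject_arrow_comp, comp_zero]
    rw [h3, comp_zero]
  · intro h
    exact imageSubobject_le _ (factorThruKernelSubobject q _ h)
      (factorThruKernelSubobject_comp_arrow q _ h)

/-- a module which is generated by its direct image is generated by the sections of its direct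
image -/
theorem gen_kernel {F : X.Modules} (q : E ⟶ F)
    [Epi ((pullbackPushforwardAdjunction f).counit.app (kernel q))] :
    gen f E ((pushforward f).map (kernel.ι q)) = kernelSubobject q := by
  unfold gen
  have h := (pullbackPushforwardAdjunction f).counit.naturality (kernel.ι q)
  have h' : (Scheme.Modules.pullback f).map ((pushforward f).map (kernel.ι q)) ≫
      (pullbackPushforwardAdjunction f).counit.app E =
      (pullbackPushforwardAdjunction f).counit.app (kernel q) ≫ kernel.ι q := h
  refine (imageSubobject_congr' h').trans ?_
  rw [Groth.Agent.Helper8.DivML.imageSubobject_epi_comp, imageSubobject_mono]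

end Gen

section Abelian

variable {𝒜 : Type*} [Category 𝒜] [Abelian 𝒜]

/-- the map induced on kernels by an epimorphism is an epimorphism -/
theorem epi_kernel_lift_of_epi {A B C : 𝒜} (b : A ⟶ B) [Epi b] (p : B ⟶ C) :
    Epi (kernel.lift p (kernel.ι (b ≫ p) ≫ b) (by rw [Category.assoc, kernel.condition])) := by
  set e' := kernel.lift p (kernel.ι (b ≫ p) ≫ b) (by rw [Category.assoc, kernel.condition])
    with he'
  let u : pullback (kernel.ι p) b ⟶ kernel (b ≫ p) :=
    kernel.lift (b ≫ p) (pullback.snd (kernel.ι p) b) (by
      rw [← Category.assoc, ← pullback.condition, Category.assoc, kernel.condition, comp_zero])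
  have h : u ≫ e' = pullback.fst (kernel.ι p) b := by
    rw [← cancel_mono (kernel.ι p), Category.assoc, he', kernel.lift_ι, ← Category.assoc,
      kernel.lift_ι, pullback.condition]
  haveI : Epi (pullback.fst (kernel.ι p) b) := Abelian.epi_pullback_of_epi_g _ _
  haveI : Epi (u ≫ e') := by rw [h]; infer_instance
  exact epi_of_epi u e'

/-- an epimorphism is the cokernel of its kernel: descent -/
theorem exists_desc_of_epi {A B C : 𝒜} (b : A ⟶ B) [Epi b] (r : A ⟶ C)
    (h : kernel.ι b ≫ r = 0) : ∃ ρ : B ⟶ C, b ≫ ρ = r :=
  ⟨(Abelian.epiIsCokernelOfKernel (KernelFork.ofι (kernel.ι b) (kernel.condition b))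
      (kernelIsKernel b)).desc (CokernelCofork.ofπ r h),
    (Abelian.epiIsCokernelOfKernel (KernelFork.ofι (kernel.ι b) (kernel.condition b))
      (kernelIsKernel b)).fac (CokernelCofork.ofπ r h) WalkingParallelPair.one⟩

end Abelian

section BaseChange

variable {X S X' S' : Scheme.{u}} (f : X ⟶ S) (g : S' ⟶ S) (f' : X' ⟶ S') (g' : X' ⟶ X)
  (w : g' ≫ f = f' ≫ g) (E : X.Modules) (E' : X'.Modules)
  (ε : (Scheme.Modules.pullback g').obj E ≅ E')

/-- **the pullback of the submodule generated by a family of sections of the direct image is
generated by the pulled back family** -/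
theorem imageSubobject_pullback_gen {A : S.Modules} (φ : A ⟶ (pushforward f).obj E) :
    imageSubobject ((Scheme.Modules.pullback g').map (gen f E φ).arrow ≫ ε.hom) =
      gen f' E' ((Scheme.Modules.pullback g).map φ ≫ CohBC.bc0 f g f' g' w E ≫
        (pushforward f').map ε.hom) := by
  set ψ := (Scheme.Modules.pullback f).map φ ≫ (pullbackPushforwardAdjunction f).counit.app E
    with hψ
  -- left hand side
  have hL : imageSubobject ((Scheme.Modules.pullback g').map (gen f E φ).arrow ≫ ε.hom) =
      imageSubobject ((Scheme.Modules.pullback g').map ψ ≫ ε.hom) := by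
    have h1 : (Scheme.Modules.pullback g').map ψ ≫ ε.hom =
        (Scheme.Modules.pullback g').map (factorThruImageSubobject ψ) ≫
          (Scheme.Modules.pullback g').map (imageSubobject ψ).arrow ≫ ε.hom := by
      rw [← Category.assoc, ← Functor.map_comp, imageSubobject_arrow_comp]
    refine Eq.trans ?_ (imageSubobject_congr' h1).symm
    show imageSubobject ((Scheme.Modules.pullback g').map (imageSubobject ψ).arrow ≫ ε.hom) = _
    haveI : Epi (factorThruImageSubobject ψ) := inferInstance
    haveI : Epi ((Scheme.Modules.pullback g').map (factorThruImageSubobject ψ)) :=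
      (Scheme.Modules.pullback g').map_epi _
    exact (Groth.Agent.Helper8.DivML.imageSubobject_epi_comp _ _).symm
  rw [hL]
  -- right hand side
  have hbc := Groth.Agent.Helper1.Canon.homEquiv_counit_form_eq_bc0 f g f' g' w E
  have hbc' : (Scheme.Modules.pullback f').map (CohBC.bc0 f g f' g' w E) ≫
      (pullbackPushforwardAdjunction f').counit.app ((Scheme.Modules.pullback g').obj E) =
      (pullbackComp f' g).hom.app ((pushforward f).obj E) ≫
        (pullbackCongr w).inv.app ((pushforward f).obj E) ≫
        (pullbackComp g' f).inv.app ((pushforward f).obj E) ≫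
        (Scheme.Modules.pullback g').map ((pullbackPushforwardAdjunction f).counit.app E) := by
    have h2 := congrArg ((pullbackPushforwardAdjunction f').homEquiv _ _).symm hbc
    rw [Equiv.symm_apply_apply, Adjunction.homEquiv_counit] at h2
    exact h2.symm
  have hR : (Scheme.Modules.pullback f').map ((Scheme.Modules.pullback g).map φ ≫
        CohBC.bc0 f g f' g' w E ≫ (pushforward f').map ε.hom) ≫
        (pullbackPushforwardAdjunction f').counit.app E' =
      ((pullbackComp f' g).hom.app A ≫ (pullbackCongr w).inv.app A ≫
        (pullbackComp g' f).inv.app A) ≫ (Scheme.Modules.pullback g').map ψ ≫ ε.hom := by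
    have hnat := (pullbackPushforwardAdjunction f').counit.naturality ε.hom
    have hnat' : (Scheme.Modules.pullback f').map ((pushforward f').map ε.hom) ≫
        (pullbackPushforwardAdjunction f').counit.app E' =
        (pullbackPushforwardAdjunction f').counit.app ((Scheme.Modules.pullback g').obj E) ≫
          ε.hom := hnat
    have n1 := (pullbackComp f' g).hom.naturality φ
    have n2 := (pullbackCongr w).inv.naturality φ
    have n3 := (pullbackComp g' f).inv.naturality φ
    simp only [Functor.comp_map] at n1 n3
    rw [Functor.map_comp, Functor.map_comp, Category.assoc, Category.assoc, hnat',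
      reassoc_of% hbc', hψ, Functor.map_comp]
    simp only [Category.assoc]
    rw [reassoc_of% n1, reassoc_of% n2, reassoc_of% n3]
  unfold gen
  refine Eq.trans ?_ (imageSubobject_congr' hR).symm
  exact (imageSubobject_iso_comp _ _).symm

end BaseChange

end Groth.Agent.Helper1.QU
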