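import Mathlib
import Groth.Prelude
import Groth.Agent.Helper2.FinLocFreeLim
import Groth.Agent.Helper2.FibReg
import Groth.Agent.Helper1.Dev1
import Groth.Agent.Lead.StalkSupp
import Groth.Agent.Helper4.QcohLocal
import Groth.Agent.Helper4.QcohEpi

set_option autoImplicit false
set_option linter.style.haveILetI false
set_option linter.unusedSectionVars false
set_option linter.unusedVariables false

/-!
# A morphism of finite locally free modules which becomes an isomorphism after pullback along a
jointly surjective family of morphisms is an isomorphism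
-/

namespace Groth.Agent.Helper1.IsoCrit

open CategoryTheory Limits AlgebraicGeometry TopologicalSpace
open Groth.Agent.Helper4 Groth.Agent.Helper4.FinLocFree Scheme.Modules

universe u

variable {X : Scheme.{u}}

/-- the rank of a module free along an open is determined at every point of the open -/
theorem rank_unique (F : X.Modules) [F.IsQuasicoherent] {V V' : X.Opens} {n m : ℕ}
    (hn : IsFreeAlong F V.ι n) (hm : IsFreeAlong F V'.ι m) (y : X) (hy : y ∈ V) (hy' : y ∈ V') :
    n = m := by
  obtain ⟨b⟩ := FinLocFree2.nonempty_basis_stalk_of_isFreeAlong F hn y hy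
  obtain ⟨b'⟩ := FinLocFree2.nonempty_basis_stalk_of_isFreeAlong F hm y hy'
  have h1 := Module.finrank_eq_card_basis b
  have h2 := Module.finrank_eq_card_basis b'
  rw [Fintype.card_fin] at h1 h2
  rw [← h1, ← h2]

/-- a morphism of finitely presented quasi-coherent modules whose pullbacks along a jointly
surjective family of morphisms are epimorphisms is an epimorphism -/
theorem epi_of_pullback_family {A B : X.Modules} [A.IsQuasicoherent] [B.IsQuasicoherent]
    (hA : CohB1.IsFP A) (hB : CohB1.IsFP B) (φ : A ⟶ B)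
    (h : ∀ x : X, ∃ (Y : Scheme.{u}) (g : Y ⟶ X) (y : Y), g y = x ∧
      Epi ((Scheme.Modules.pullback g).map φ)) : Epi φ := by
  have hC : CohB1.IsFP (cokernel φ) := Groth.Agent.Helper2.FibReg.isFP_cokernel hA hB φ
  haveI : Coh.IsQCoh (cokernel φ) := QcohLimits.isQuasicoherent_cokernel φ
  have hCft : CohB1.IsFT (cokernel φ) := FinLocFree2.isFiniteType_of_isFinitePresentation _ hC
  have hsupp : CohB1.support (cokernel φ) = ∅ := by
    ext x
    simp only [Set.mem_empty_iff_false, iff_false]
    intro hx
    obtain ⟨Y, g, y, rfl, hepi⟩ := h x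
    have h1 := Groth.Agent.Lead.StalkPull.main_support g (cokernel φ) hCft
    have h2 : y ∈ CohB1.support ((Scheme.Modules.pullback g).obj (cokernel φ)) := by
      rw [h1]
      exact hx
    have h3 : IsZero ((Scheme.Modules.pullback g).obj (cokernel φ)) := by
      refine IsZero.of_iso ?_ (PreservesCokernel.iso (Scheme.Modules.pullback g) φ)
      exact isZero_cokernel_of_epi _
    rw [Groth.Agent.Helper1.Dev.support_eq_empty_of_isZero _ h3] at h2
    exact h2
  have hz : IsZero (cokernel φ) := Groth.Agent.Helper1.Dev.isZero_of_support_eq_empty _ hsupp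
  exact Preadditive.epi_of_isZero_cokernel φ hz

/-- a surjective linear map between free modules of the same finite rank is bijective -/
theorem bijective_of_surjective_of_bases {R M N : Type*} [CommRing R] [AddCommGroup M] [Module R M]
    [AddCommGroup N] [Module R N] {n : ℕ} (b : Module.Basis (Fin n) R M)
    (b' : Module.Basis (Fin n) R N) (l : M →ₗ[R] N) (hl : Function.Surjective l) :
    Function.Bijective l := by
  refine ⟨?_, hl⟩
  let e : N ≃ₗ[R] M := b'.equiv b (Equiv.refl _)
  haveI : Module.Finite R M := Module.Finite.of_basis b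
  have h1 : Function.Surjective (e.toLinearMap ∘ₗ l) := e.surjective.comp hl
  have h2 : Function.Injective (e.toLinearMap ∘ₗ l) :=
    OrzechProperty.injective_of_surjective_endomorphism _ h1
  intro a a' haa
  apply h2
  simp only [LinearMap.comp_apply, haa]

/-- **the criterion**: a morphism of finite locally free modules whose pullbacks along a jointly
surjective family of morphisms are isomorphisms is an isomorphism -/
theorem isIso_of_pullback_family {A B : X.Modules} (hA : FlatMod.IsFinLocFree A)
    (hB : FlatMod.IsFinLocFree B) (φ : A ⟶ B)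
    (h : ∀ x : X, ∃ (Y : Scheme.{u}) (g : Y ⟶ X) (y : Y), g y = x ∧
      IsIso ((Scheme.Modules.pullback g).map φ)) : IsIso φ := by
  haveI : A.IsQuasicoherent := FinLocFree4.isQuasicoherent_of_isFinLocFree A hA
  haveI : B.IsQuasicoherent := FinLocFree4.isQuasicoherent_of_isFinLocFree B hB
  have hAfp : CohB1.IsFP A := FinLocFree2.isFinitePresentation_of_isFinLocFree A hA
  have hBfp : CohB1.IsFP B := FinLocFree2.isFinitePresentation_of_isFinLocFree B hB
  haveI hepi : Epi φ := epi_of_pullback_family hAfp hBfp φ (fun x => by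
    obtain ⟨Y, g, y, hy, hi⟩ := h x
    exact ⟨Y, g, y, hy, inferInstance⟩)
  apply QcohLocal.isIso_of_app_bijective_of_affine_cover
  intro x
  obtain ⟨V, n, hxV, hV⟩ := hA x
  obtain ⟨V', m, hxV', hV'⟩ := hB x
  have hnm : n = m := by
    obtain ⟨Y, g, y, hy, hi⟩ := h x
    have h1 : IsFreeAlong ((Scheme.Modules.pullback g).obj A) (g ⁻¹ᵁ V).ι n :=
      Groth.Agent.Helper2.FinLocFreeLim.isFreeAlong_pullback g hV
    have h2 : IsFreeAlong ((Scheme.Modules.pullback g).obj B) (g ⁻¹ᵁ V').ι m :=
      Groth.Agent.Helper2.FinLocFreeLim.isFreeAlong_pullback g hV'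
    have h3 : IsFreeAlong ((Scheme.Modules.pullback g).obj B) (g ⁻¹ᵁ V).ι n :=
      IsFreeAlong.of_iso (asIso ((Scheme.Modules.pullback g).map φ)) _ h1
    haveI : ((Scheme.Modules.pullback g).obj B).IsQuasicoherent :=
      Groth.Agent.Lead.StalkPull.isQuasicoherent_pullbackObj g B
    have hyV : y ∈ g ⁻¹ᵁ V := by
      show g y ∈ V
      rw [hy]; exact hxV
    have hyV' : y ∈ g ⁻¹ᵁ V' := by
      show g y ∈ V'
      rw [hy]; exact hxV'
    exact rank_unique _ h3 h2 y hyV hyV'
  subst hnm
  obtain ⟨U, hU, hxU, hUV⟩ := FinLocFree2.exists_affine_nhd_le x (V ⊓ V') ⟨hxV, hxV'⟩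
  obtain ⟨bA⟩ := (isFreeAlong_ι_iff_basis hU A).mp
    (IsFreeAlong.of_le (hUV.trans inf_le_left) hV)
  obtain ⟨bB⟩ := (isFreeAlong_ι_iff_basis hU B).mp
    (IsFreeAlong.of_le (hUV.trans inf_le_right) hV')
  refine ⟨U, hU, hxU, ?_⟩
  exact bijective_of_surjective_of_bases bA bB (QcohEpi.appLin φ U)
    (QcohEpi.app_surjective_of_epi φ hU)

end Groth.Agent.Helper1.IsoCrit
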