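import Groth.Agent.Helper1.SS2
import Groth.Agent.Helper1.IsoCrit1
import Groth.Agent.Helper4.CounitGG
import Groth.Agent.Helper4.IdealModProps

set_option autoImplicit false
set_option linter.style.haveILetI false
set_option linter.unusedSectionVars false
set_option linter.unusedVariables false

/-!
# Rank loci, epimorphisms between modules of the same rank, and modules pulled back from the base
-/

namespace Groth.Agent.Helper1.SS

open CategoryTheory AlgebraicGeometry AlgebraicGeometry.Scheme.Modules TopologicalSpace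
open Groth.Agent.Helper1.UGC Groth.Agent.Helper4 Groth.Agent.Helper4.FinLocFree

universe u

section Rank

variable {X : Scheme.{u}}

/-- the open locus where `E` is locally free of rank `r` -/
def rankOpen (E : X.Modules) (r : ℕ) : X.Opens :=
  ⨆ U : {U : X.Opens // IsFreeAlong E U.ι r}, U.1

theorem mem_rankOpen_iff (E : X.Modules) (r : ℕ) (x : X) :
    x ∈ rankOpen E r ↔ ∃ U : X.Opens, x ∈ U ∧ IsFreeAlong E U.ι r := by
  unfold rankOpen
  rw [Opens.mem_iSup]
  constructor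
  · rintro ⟨⟨U, hU⟩, hx⟩
    exact ⟨U, hx, hU⟩
  · rintro ⟨U, hx, hU⟩
    exact ⟨⟨U, hU⟩, hx⟩

theorem rank_eq_of_mem_rankOpen (E : X.Modules) [E.IsQuasicoherent] {r r' : ℕ} {x : X}
    (h : x ∈ rankOpen E r) (h' : x ∈ rankOpen E r') : r = r' := by
  obtain ⟨U, hx, hU⟩ := (mem_rankOpen_iff E r x).mp h
  obtain ⟨U', hx', hU'⟩ := (mem_rankOpen_iff E r' x).mp h'
  exact Groth.Agent.Helper1.IsoCrit.rank_unique E hU hU' x hx hx'

theorem exists_mem_rankOpen (E : X.Modules) (hE : FlatMod.IsFinLocFree E) (x : X) :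
    ∃ r, x ∈ rankOpen E r := by
  obtain ⟨U, n, hx, hU⟩ := hE x
  exact ⟨n, (mem_rankOpen_iff E n x).mpr ⟨U, hx, hU⟩⟩

theorem mem_rankOpen_pullback {Y : Scheme.{u}} (v : Y ⟶ X) (E : X.Modules) (r : ℕ) (y : Y)
    (h : v y ∈ rankOpen E r) : y ∈ rankOpen ((pullback v).obj E) r := by
  obtain ⟨U, hx, hU⟩ := (mem_rankOpen_iff E r _).mp h
  exact (mem_rankOpen_iff _ r y).mpr
    ⟨v ⁻¹ᵁ U, hx, Groth.Agent.Helper2.FinLocFreeLim.isFreeAlong_pullback v hU⟩

theorem mem_rankOpen_of_iso {E E' : X.Modules} (e : E ≅ E') (r : ℕ) (x : X)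
    (h : x ∈ rankOpen E r) : x ∈ rankOpen E' r := by
  obtain ⟨U, hx, hU⟩ := (mem_rankOpen_iff E r _).mp h
  exact (mem_rankOpen_iff _ r x).mpr ⟨U, hx, IsFreeAlong.of_iso e U.ι hU⟩

theorem mem_rankOpen_of_isFinLocFreeOfRank {E : X.Modules} {r : ℕ}
    (hE : FlatMod.IsFinLocFreeOfRank r E) (x : X) : x ∈ rankOpen E r := by
  obtain ⟨U, hx, hU⟩ := hE x
  exact (mem_rankOpen_iff E r x).mpr ⟨U, hx, hU⟩

theorem isClosed_rankOpen (E : X.Modules) (hE : FlatMod.IsFinLocFree E) (r : ℕ) :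
    IsClosed (rankOpen E r : Set X) := by
  haveI : E.IsQuasicoherent := FinLocFree4.isQuasicoherent_of_isFinLocFree E hE
  have h : ((rankOpen E r : X.Opens) : Set X)ᶜ =
      ((⨆ r' : {r' : ℕ // r' ≠ r}, rankOpen E r'.1 : X.Opens) : Set X) := by
    ext x
    simp only [Set.mem_compl_iff, SetLike.mem_coe, Opens.mem_iSup]
    constructor
    · intro hx
      obtain ⟨r', hr'⟩ := exists_mem_rankOpen E hE x
      refine ⟨⟨r', ?_⟩, hr'⟩
      rintro rfl
      exact hx hr'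
    · rintro ⟨⟨r', hne⟩, hr'⟩ hx
      exact hne (rank_eq_of_mem_rankOpen E hr' hx)
  rw [← isOpen_compl_iff, h]
  exact (⨆ r' : {r' : ℕ // r' ≠ r}, rankOpen E r'.1 : X.Opens).isOpen

/-- an epimorphism between finite locally free modules of the same local ranks is an
isomorphism -/
theorem isIso_of_epi_of_sameRank {A B : X.Modules} (hA : FlatMod.IsFinLocFree A)
    (hB : FlatMod.IsFinLocFree B) (φ : A ⟶ B) [Epi φ]
    (hr : ∀ x : X, ∃ n : ℕ, x ∈ rankOpen A n ∧ x ∈ rankOpen B n) : IsIso φ := by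
  haveI : A.IsQuasicoherent := FinLocFree4.isQuasicoherent_of_isFinLocFree A hA
  haveI : B.IsQuasicoherent := FinLocFree4.isQuasicoherent_of_isFinLocFree B hB
  apply QcohLocal.isIso_of_app_bijective_of_affine_cover
  intro x
  obtain ⟨n, h1, h2⟩ := hr x
  obtain ⟨V, hxV, hV⟩ := (mem_rankOpen_iff A n x).mp h1
  obtain ⟨V', hxV', hV'⟩ := (mem_rankOpen_iff B n x).mp h2
  obtain ⟨U, hU, hxU, hUV⟩ := FinLocFree2.exists_affine_nhd_le x (V ⊓ V') ⟨hxV, hxV'⟩
  obtain ⟨bA⟩ := (isFreeAlong_ι_iff_basis hU A).mp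
    (IsFreeAlong.of_le (hUV.trans inf_le_left) hV)
  obtain ⟨bB⟩ := (isFreeAlong_ι_iff_basis hU B).mp
    (IsFreeAlong.of_le (hUV.trans inf_le_right) hV')
  refine ⟨U, hU, hxU, ?_⟩
  exact Groth.Agent.Helper1.IsoCrit.bijective_of_surjective_of_bases bA bB (QcohEpi.appLin φ U)
    (QcohEpi.app_surjective_of_epi φ hU)

end Rank

end Groth.Agent.Helper1.SS
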