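import Mathlib
import Groth.Agent.Helper1.QU11
import Groth.Agent.Helper1.SS3
import Groth.Agent.Helper2.FinLocFreeLim

/-!
# Quot schemes, part 12 (general): the submodule of `𝓔_T` generated by the relations among
the sections of a quotient of `O_T^N`, its base change, and its comparison with the kernel of a
quotient of `𝓔_T`
-/

set_option autoImplicit false
set_option linter.style.haveILetI false
set_option linter.unusedSectionVars false

universe u
open CategoryTheory CategoryTheory.Limits AlgebraicGeometry Opposite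

namespace Groth.Agent.Helper1.QU

open Groth.Agent.Helper1.QT Groth.Agent.Helper1.HT Groth.Agent.Helper1.GR
open Groth.Agent.Helper4.PullSec Groth.Agent.Helper4.PullUnit Groth.Agent.Helper1.ProjBC
open AlgebraicGeometry.Scheme.Modules

variable {n : ℕ} {𝓔 : (PZ.{u} n).Modules} {N : ℕ} (fr : Frame n 𝓔 N)

/-- the map from the free module to the direct image of `𝓔_T` given by a frame -/
noncomputable def Frame.b (T : Scheme.{u}) :
    FlatMod.freeMod T N ⟶ (pushforward (πT n T)).obj (ET n 𝓔 T) :=
  frameMap (fun j => pushSec (πT n T) (fr.σ T j))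

instance Frame.epi_b (T : Scheme.{u}) : Epi (fr.b T) := fr.epi T

variable {T S : Scheme.{u}}

/-- the base change of the map given by a frame -/
theorem Frame.b_baseChange (φ : T ⟶ S) :
    fr.b T = (Groth.Agent.Helper8.TildeBC.pullbackFreeIso φ N).inv ≫
      (Scheme.Modules.pullback φ).map (fr.b S) ≫
      CohBC.bc0 (πT n S) φ (πT n T) (FGA.projMap n φ) (isPullback_projMap n φ).w (ET n 𝓔 S) ≫
      (pushforward (πT n T)).map (Eiso n 𝓔 φ).hom := by
  have key : ∀ j, pushSec (πT n T) (fr.σ T j) =
      pullSec φ (pushSec (πT n S) (fr.σ S j)) ≫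
        CohBC.bc0 (πT n S) φ (πT n T) (FGA.projMap n φ) (isPullback_projMap n φ).w (ET n 𝓔 S) ≫
        (pushforward (πT n T)).map (Eiso n 𝓔 φ).hom := by
    intro j
    have h2 := pullSec_pushSec_bc0 (πT n S) φ (πT n T) (FGA.projMap n φ)
      (isPullback_projMap n φ).w (fr.σ S j)
    rw [← Category.assoc, h2, ← pushSec_comp, fr.pullSec_σ φ j]
  unfold Frame.b
  rw [← Category.assoc, ← frameMap_pullSec, ← frameMap_comp]
  congr 1
  funext j
  exact key j

/-- the submodule of `𝓔_T` generated by the relations among the sections of a quotient of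
`O_T^N` -/
noncomputable def Frame.genS (T : Scheme.{u}) {L : T.Modules}
    (s : Fin N → (Coh.structureModule T ⟶ L)) : Subobject (ET n 𝓔 T) :=
  gen (πT n T) (ET n 𝓔 T) (kernel.ι (frameMap s) ≫ fr.b T)

/-- it depends only on the kernel -/
theorem Frame.genS_eq_of_factor {L : T.Modules} (s : Fin N → (Coh.structureModule T ⟶ L))
    {A : T.Modules} (a : A ⟶ FlatMod.freeMod T N) (e : A ⟶ kernel (frameMap s)) [Epi e]
    (h : e ≫ kernel.ι (frameMap s) = a) :
    gen (πT n T) (ET n 𝓔 T) (a ≫ fr.b T) = fr.genS T s := by
  unfold Frame.genS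
  rw [← h, Category.assoc]
  exact gen_epi_comp _ _ e _

theorem Frame.genS_iso {L L' : T.Modules} (τ : L ≅ L')
    (s : Fin N → (Coh.structureModule T ⟶ L)) (s' : Fin N → (Coh.structureModule T ⟶ L'))
    (h : ∀ j, s j ≫ τ.hom = s' j) : fr.genS T s' = fr.genS T s := by
  have h1 : frameMap s' = frameMap s ≫ τ.hom := by
    rw [← frameMap_comp]
    congr 1
    funext j
    exact (h j).symm
  have h2 : kernel.ι (frameMap s') ≫ frameMap s = 0 := by
    rw [← cancel_mono τ.hom, Category.assoc, ← h1, kernel.condition, zero_comp]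
  have h3 : kernel.ι (frameMap s) ≫ frameMap s' = 0 := by
    rw [h1, ← Category.assoc, kernel.condition, zero_comp]
  haveI : IsIso (kernel.lift (frameMap s) (kernel.ι (frameMap s')) h2) :=
    ⟨kernel.lift _ _ h3, by
      rw [← cancel_mono (kernel.ι _), Category.assoc, kernel.lift_ι, kernel.lift_ι,
        Category.id_comp], by
      rw [← cancel_mono (kernel.ι _), Category.assoc, kernel.lift_ι, kernel.lift_ι,
        Category.id_comp]⟩
  exact fr.genS_eq_of_factor s (kernel.ι (frameMap s')) (kernel.lift _ _ h2)
    (kernel.lift_ι _ _ h2)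

/-- **base change** of the submodule generated by the relations -/
theorem Frame.qpull_genS (g : T ⟶ S) {L : S.Modules} (s : Fin N → (Coh.structureModule S ⟶ L))
    [Epi (frameMap s)] :
    qpull n 𝓔 g (fr.genS S s) = fr.genS T (fun j => pullSec g (s j)) := by
  unfold qpull
  rw [show fr.genS S s = gen (πT n S) (ET n 𝓔 S) (kernel.ι (frameMap s) ≫ fr.b S) from rfl]
  rw [imageSubobject_pullback_gen (πT n S) g (πT n T) (FGA.projMap n g)
    (isPullback_projMap n g).w (ET n 𝓔 S) (ET n 𝓔 T) (Eiso n 𝓔 g)]
  -- the family of sections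
  have h1 : (Scheme.Modules.pullback g).map (kernel.ι (frameMap s) ≫ fr.b S) ≫
      CohBC.bc0 (πT n S) g (πT n T) (FGA.projMap n g) (isPullback_projMap n g).w (ET n 𝓔 S) ≫
        (pushforward (πT n T)).map (Eiso n 𝓔 g).hom =
      ((Scheme.Modules.pullback g).map (kernel.ι (frameMap s)) ≫
        (Groth.Agent.Helper8.TildeBC.pullbackFreeIso g N).hom) ≫ fr.b T := by
    rw [fr.b_baseChange g, Functor.map_comp]
    simp only [Category.assoc, Iso.hom_inv_id_assoc]
  rw [h1]
  -- right exactness of the pullback
  haveI : (Scheme.Modules.pullback g).Additive :=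
    (pullbackPushforwardAdjunction g).left_adjoint_additive
  haveI : PreservesFiniteColimits (Scheme.Modules.pullback g) :=
    haveI : PreservesColimitsOfSize.{0, 0} (Scheme.Modules.pullback g) :=
      (pullbackPushforwardAdjunction g).leftAdjoint_preservesColimits
    PreservesColimitsOfSize.preservesFiniteColimits _
  let S₀ : ShortComplex S.Modules :=
    ShortComplex.mk (kernel.ι (frameMap s)) (frameMap s) (kernel.condition _)
  have hS₀ : S₀.ShortExact :=
    ShortComplex.ShortExact.mk' (ShortComplex.exact_of_f_is_kernel _ (kernelIsKernel _))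
      inferInstance inferInstance
  have hex := ((Scheme.Modules.pullback g).preservesFiniteColimits_iff_forall_exact_map_and_epi).1
    inferInstance S₀ hS₀
  have hfm := frameMap_pullSec g s
  have hz : ((Scheme.Modules.pullback g).map (kernel.ι (frameMap s)) ≫
      (Groth.Agent.Helper8.TildeBC.pullbackFreeIso g N).hom) ≫
      frameMap (fun j => pullSec g (s j)) = 0 := by
    rw [hfm, Category.assoc, Iso.hom_inv_id_assoc, ← Functor.map_comp, kernel.condition,
      Functor.map_zero]
  -- the lift is an epimorphism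
  let S₁ : ShortComplex T.Modules := ShortComplex.mk _ _ hz
  have hS₁ : S₁.Exact := by
    refine ShortComplex.exact_of_iso (S₁ := S₀.map (Scheme.Modules.pullback g)) (S₂ := S₁)
      (ShortComplex.isoMk (Iso.refl _)
      (Groth.Agent.Helper8.TildeBC.pullbackFreeIso g N) (Iso.refl _) ?_ ?_) hex.1
    · exact Category.id_comp _
    · show (Groth.Agent.Helper8.TildeBC.pullbackFreeIso g N).hom ≫
        frameMap (fun j => pullSec g (s j)) = (Scheme.Modules.pullback g).map (frameMap s) ≫ 𝟙 _
      rw [hfm, Iso.hom_inv_id_assoc, Category.comp_id]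
  haveI hepi : Epi (kernel.lift _ _ hz) := (S₁.exact_iff_epi_kernel_lift).1 hS₁
  exact fr.genS_eq_of_factor (fun j => pullSec g (s j)) _ (kernel.lift _ _ hz)
    (kernel.lift_ι _ _ hz)

section Compare

variable {F : (CohB1.ProjSpaceOver n T).Modules} (q : ET n 𝓔 T ⟶ F)

/-- the sections of the direct image of a quotient of `𝓔_T` given by a frame -/
noncomputable def Frame.τ (j : Fin N) :
    Coh.structureModule T ⟶ (pushforward (πT n T)).obj F :=
  pushSec (πT n T) (fr.σ T j ≫ q)

theorem Frame.frameMap_τ : frameMap (fr.τ q) = fr.b T ≫ (pushforward (πT n T)).map q := by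
  unfold Frame.b
  rw [← frameMap_comp]
  congr 1

theorem epi_kernel_lift_of_eq {𝒜 : Type*} [Category 𝒜] [Abelian 𝒜] {A B C : 𝒜} (b : A ⟶ B)
    [Epi b] (p : B ⟶ C) (a : A ⟶ C) (h : a = b ≫ p) :
    Epi (kernel.lift p (kernel.ι a ≫ b) (by rw [Category.assoc, ← h, kernel.condition])) := by
  subst h
  exact epi_kernel_lift_of_epi b p

/-- **the kernel of a quotient of `𝓔_T` is generated by the relations among the sections of the
direct image of the quotient**, if the kernel is generated by its direct image -/
theorem Frame.genS_τ [Epi ((pullbackPushforwardAdjunction (πT n T)).counit.app (kernel q))] :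
    fr.genS T (fr.τ q) = kernelSubobject q := by
  have hfm := fr.frameMap_τ q
  rw [← gen_kernel (πT n T) (ET n 𝓔 T) q]
  have hz : (kernel.ι (frameMap (fr.τ q)) ≫ fr.b T) ≫ (pushforward (πT n T)).map q = 0 := by
    rw [Category.assoc, ← hfm, kernel.condition]
  haveI hepi : Epi (kernel.lift ((pushforward (πT n T)).map q)
      (kernel.ι (frameMap (fr.τ q)) ≫ fr.b T) hz) :=
    epi_kernel_lift_of_eq (fr.b T) _ _ hfm
  have h1 : gen (πT n T) (ET n 𝓔 T) (kernel.ι ((pushforward (πT n T)).map q)) =
      fr.genS T (fr.τ q) := by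
    unfold Frame.genS
    rw [← kernel.lift_ι ((pushforward (πT n T)).map q) _ hz]
    exact (gen_epi_comp _ _ _ _).symm
  rw [← h1]
  haveI : PreservesLimit (parallelPair q 0) (pushforward (πT n T)) :=
    haveI : PreservesLimitsOfSize.{0, 0} (pushforward (πT n T)) :=
      (pullbackPushforwardAdjunction (πT n T)).rightAdjoint_preservesLimits
    inferInstance
  haveI : (pushforward (πT n T)).PreservesZeroMorphisms :=
    haveI := (pullbackPushforwardAdjunction (πT n T)).right_adjoint_additive
    inferInstance
  haveI : IsIso (kernelComparison q (pushforward (πT n T))) := inferInstance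
  rw [← kernelComparison_comp_ι q (pushforward (πT n T))]
  exact (gen_epi_comp _ _ _ _).symm

/-- if the submodule generated by the relations among the sections of a quotient `L` of `O_T^N`
is contained in the kernel of a quotient `F` of `𝓔_T`, then there is a morphism from `L` to
the direct image of `F`, compatible with the sections -/
theorem Frame.exists_desc_of_genS_le {L : T.Modules} (s : Fin N → (Coh.structureModule T ⟶ L))
    [Epi (frameMap s)] (h : fr.genS T s ≤ kernelSubobject q) :
    ∃ ρ : L ⟶ (pushforward (πT n T)).obj F, ∀ j, s j ≫ ρ = fr.τ q j := by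
  have h1 := (gen_le_iff (πT n T) (ET n 𝓔 T) _ q).1 h
  rw [Category.assoc] at h1
  obtain ⟨ρ, hρ⟩ := exists_desc_of_epi (frameMap s) (fr.b T ≫ (pushforward (πT n T)).map q) h1
  refine ⟨ρ, fun j => ?_⟩
  have h2 := inj_frameMap s j
  have h3 := inj_frameMap (fr.τ q) j
  rw [← h2, Category.assoc, hρ, ← fr.frameMap_τ q, h3]

end Compare

end Groth.Agent.Helper1.QU
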