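import Mathlib
import Groth.Agent.Helper1.QU12
import Groth.Agent.Helper1.GR19

/-!
# Quot schemes, part 13 (general): the classifying morphism to the Grassmannian of a good
quotient of `𝓔_T`, existence and uniqueness
-/

set_option autoImplicit false
set_option linter.style.haveILetI false
set_option linter.unusedSectionVars false

universe u
open CategoryTheory CategoryTheory.Limits AlgebraicGeometry Opposite

namespace Groth.Agent.Helper1.QU

open Groth.Agent.Helper1.QT Groth.Agent.Helper1.HT Groth.Agent.Helper1.GR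
open Groth.Agent.Helper4.PullSec Groth.Agent.Helper4.PullUnit Groth.Agent.Helper1.ProjBC
open AlgebraicGeometry.Scheme.Modules

/-- an epimorphism between locally free modules of the same rank is an isomorphism -/
theorem isIso_of_epi_of_rank {X : Scheme.{u}} {d : ℕ} {A B : X.Modules}
    (hA : FlatMod.IsFinLocFreeOfRank d A) (hB : FlatMod.IsFinLocFreeOfRank d B) (φ : A ⟶ B)
    [Epi φ] : IsIso φ := by
  refine Groth.Agent.Helper1.SS.isIso_of_epi_of_sameRank (fun x => ?_) (fun x => ?_) φ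
    (fun x => ⟨d, ?_, ?_⟩)
  · obtain ⟨U, hx, h⟩ := hA x
    exact ⟨U, d, hx, h⟩
  · obtain ⟨U, hx, h⟩ := hB x
    exact ⟨U, d, hx, h⟩
  · rw [Groth.Agent.Helper1.SS.mem_rankOpen_iff]
    exact hA x
  · rw [Groth.Agent.Helper1.SS.mem_rankOpen_iff]
    exact hB x

variable {n : ℕ} {𝓔 : (PZ.{u} n).Modules} {N : ℕ} (fr : Frame n 𝓔 N) (d : ℕ)

/-- the Grassmannian over the integers -/
noncomputable abbrev GZ (d N : ℕ) : Scheme.{u} := Gr (ULift.{u} ℤ) d N

/-- the universal submodule of `𝓔` on the projective space over the Grassmannian -/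
noncomputable def Frame.KG : Subobject (ET n 𝓔 (GZ.{u} d N)) :=
  fr.genS (GZ.{u} d N) (uG (ULift.{u} ℤ) d N)

instance epi_frameMap_uG : Epi (frameMap (uG (ULift.{u} ℤ) d N)) := by
  rw [frameMap_uG]
  infer_instance

variable {T : Scheme.{u}}

/-- the good submodules of `𝓔_T` -/
structure Frame.IsGoodQ (K : Subobject (ET n 𝓔 T)) : Prop where
  epiPush : Epi ((pushforward (πT n T)).map (cokernel.π K.arrow))
  epiCounit : Epi ((pullbackPushforwardAdjunction (πT n T)).counit.app
    (kernel (cokernel.π K.arrow)))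
  rank : FlatMod.IsFinLocFreeOfRank d ((pushforward (πT n T)).obj (cokernel K.arrow))

variable {d}

/-- **existence of the classifying morphism** -/
theorem Frame.exists_classifying (K : Subobject (ET n 𝓔 T)) (hK : Frame.IsGoodQ (n := n) d K) :
    ∃ g : T ⟶ GZ.{u} d N, qpull n 𝓔 g (fr.KG d) = K := by
  haveI := hK.epiPush
  haveI := hK.epiCounit
  haveI : Epi (frameMap (fr.τ (cokernel.π K.arrow))) := by
    rw [fr.frameMap_τ]
    infer_instance
  obtain ⟨g, -, τ, hτ⟩ := Gr_exists_hom (ULift.{u} ℤ) d N (specULiftZIsTerminal.from T) _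
    hK.rank (fr.τ (cokernel.π K.arrow))
  refine ⟨g, ?_⟩
  unfold Frame.KG
  rw [fr.qpull_genS g, ← fr.genS_iso τ _ _ hτ, fr.genS_τ,
    Groth.Agent.Helper1.QT.kernelSubobject_cokernel_π]

/-- **uniqueness of the classifying morphism** -/
theorem Frame.classifying_unique (g g' : T ⟶ GZ.{u} d N)
    (h : qpull n 𝓔 g (fr.KG d) = qpull n 𝓔 g' (fr.KG d))
    (hK : Frame.IsGoodQ (n := n) d (qpull n 𝓔 g (fr.KG d))) : g = g' := by
  haveI := hK.epiPush
  set K := qpull n 𝓔 g (fr.KG d) with hKdef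
  have key : ∀ g₁ : T ⟶ GZ.{u} d N, qpull n 𝓔 g₁ (fr.KG d) = K →
      ∃ ρ : (Scheme.Modules.pullback g₁).obj (UQ (ULift.{u} ℤ) d N) ≅
        (pushforward (πT n T)).obj (cokernel K.arrow),
        ∀ j, pullSec g₁ (uG (ULift.{u} ℤ) d N j) ≫ ρ.hom = fr.τ (cokernel.π K.arrow) j := by
    intro g₁ hg₁
    unfold Frame.KG at hg₁
    rw [fr.qpull_genS g₁] at hg₁
    haveI : Epi (frameMap fun j => pullSec g₁ (uG (ULift.{u} ℤ) d N j)) := by
      rw [frameMap_pullSec]
      haveI : Epi ((Scheme.Modules.pullback g₁).map (frameMap (uG (ULift.{u} ℤ) d N))) :=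
        (Scheme.Modules.pullback g₁).map_epi _
      infer_instance
    obtain ⟨ρ, hρ⟩ := fr.exists_desc_of_genS_le (cokernel.π K.arrow)
      (fun j => pullSec g₁ (uG (ULift.{u} ℤ) d N j)) (by
        rw [hg₁, Groth.Agent.Helper1.QT.kernelSubobject_cokernel_π])
    have hfm : frameMap (fun j => pullSec g₁ (uG (ULift.{u} ℤ) d N j)) ≫ ρ =
        frameMap (fr.τ (cokernel.π K.arrow)) := by
      rw [← frameMap_comp]
      congr 1
      funext j
      exact hρ j
    haveI : Epi (frameMap (fr.τ (cokernel.π K.arrow))) := by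
      rw [fr.frameMap_τ]
      infer_instance
    haveI : Epi ρ := by
      haveI : Epi (frameMap (fun j => pullSec g₁ (uG (ULift.{u} ℤ) d N j)) ≫ ρ) := by
        rw [hfm]; infer_instance
      exact epi_of_epi (frameMap (fun j => pullSec g₁ (uG (ULift.{u} ℤ) d N j))) ρ
    haveI : IsIso ρ := isIso_of_epi_of_rank
      (Groth.Agent.Helper2.FinLocFreeLim.isFinLocFreeOfRank_pullback g₁
        (isFinLocFreeOfRank_UQ (ULift.{u} ℤ) d N)) hK.rank ρ
    exact ⟨asIso ρ, hρ⟩
  obtain ⟨ρ, hρ⟩ := key g rfl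
  obtain ⟨ρ', hρ'⟩ := key g' h.symm
  refine Gr_hom_ext (ULift.{u} ℤ) d N g g' (specULiftZIsTerminal.hom_ext _ _) (ρ ≪≫ ρ'.symm)
    (fun j => ?_)
  rw [Iso.trans_hom, Iso.symm_hom, ← Category.assoc, hρ, ← hρ', Category.assoc,
    Iso.hom_inv_id, Category.comp_id]

end Groth.Agent.Helper1.QU
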