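import Mathlib
import Groth.Agent.Helper1.QU13
import Groth.Agent.Helper4.SN192

/-!
# Quot schemes, part 14 (general): the fibrewise conditions on `(𝓔, Φ)` which make all the
quotients of `𝓔_T` with Hilbert polynomial `Φ` good
-/

set_option autoImplicit false
set_option linter.style.haveILetI false
set_option linter.unusedSectionVars false

universe u
open CategoryTheory CategoryTheory.Limits AlgebraicGeometry Opposite

namespace Groth.Agent.Helper1.QU

open Groth.Agent.Helper1.QT Groth.Agent.Helper1.HT Groth.Agent.Helper1.GR Groth.Agent.Helper1.MF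
open Groth.Agent.Helper4.PullSec Groth.Agent.Helper4.PullUnit Groth.Agent.Helper1.ProjBC
open AlgebraicGeometry.Scheme.Modules

variable (n : ℕ) (𝓔 : (PZ.{u} n).Modules) (Φ : Polynomial ℚ)

/-- the fibrewise conditions: over every field, the first cohomology of `𝓔` vanishes, and for
every quotient of `𝓔` with Hilbert polynomial `Φ` the first cohomology of the kernel and the
higher cohomology of the quotient vanish, and the kernel is generated by its global sections -/
structure GoodΦ : Prop where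
  h1 : H1Van n 𝓔
  good : ∀ (κ : Type u) [Field κ] (S : ShortComplex (CohB1.ProjSpace n κ).Modules),
    S.ShortExact → Coh.IsCoh S.X₁ → Coh.IsCoh S.X₃ →
    Nonempty (S.X₂ ≅ (Scheme.Modules.pullback (γγ (Groth.Agent.Helper1.Fin.φ₀ κ) n)).obj 𝓔) →
    (∀ r : ℤ, (chi n κ (CohB1.tensorMod S.X₃ (Twist.twistProjSpace n κ r)) : ℚ) =
      Φ.eval (r : ℚ)) →
    Subsingleton (Coh.HH (CohB1.ProjSpace n κ) S.X₁ 1) ∧
    (∀ i : ℕ, 0 < i → Subsingleton (Coh.HH (CohB1.ProjSpace n κ) S.X₃ i)) ∧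
    Epi ((pullbackPushforwardAdjunction (CohB1.ProjSpace.toSpec n κ)).counit.app S.X₁)

variable {n 𝓔}

/-- a submodule of `𝓔_T` whose quotient has Hilbert polynomial `Φ` on all the fibres -/
def HasHP {T : Scheme.{u}} (K : Subobject (ET n 𝓔 T)) : Prop :=
  ∀ (t : T) (m : ℤ), (Groth.Agent.Helper1.HS.hilbFn T n (cokernel K.arrow) t m : ℚ) =
    Φ.eval (m : ℚ)

variable {Φ} {T : Scheme.{u}} [IsLocallyNoetherian T]

/-- the fibrewise vanishing for a quotient with Hilbert polynomial `Φ` -/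
theorem fibreVanish_of_hasHP (h𝓔 : Coh.IsCoh 𝓔) (hg : GoodΦ n 𝓔 Φ) (K : QSet n 𝓔 T)
    (hK : HasHP Φ K.1) :
    FibreVanish (cokernel.π K.1.arrow) ∧ ∀ (t : T) (i : ℕ), 0 < i →
      Subsingleton (Coh.HH (CohB1.ProjSpace n (T.residueField t))
        (resF n T t (cokernel K.1.arrow)) i) := by
  have hKer := isCoh_kernel_q (cokernel.π K.1.arrow) h𝓔 K.2.1
  have key : ∀ t : T, _ := fun t => hg.good (T.residueField t) (fibSeq (cokernel.π K.1.arrow) t)
    (fibSeq_shortExact _ K.2.2 t)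
    (Groth.Agent.Lead.FlatUnivJ.isCoh_pullback _ _ hKer)
    (Groth.Agent.Lead.FlatUnivJ.isCoh_pullback _ _ K.2.1)
    ⟨resFIso n T t 𝓔⟩
    (fun r => by
      rw [← hK t r, hilbFn_eq_chi n T t _ K.2.1 r]
      rfl)
  refine ⟨⟨fun t => (key t).1, fun t => subsingleton_HH_resF_ET hg.h1 T t,
    fun t => (key t).2.1 1 Nat.one_pos, fun t => (key t).2.2⟩, fun t i hi => (key t).2.1 i hi⟩

/-- **the quotients with Hilbert polynomial `Φ` are good** -/
theorem isGoodQ_of_hasHP (h𝓔 : Coh.IsCoh 𝓔)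
    (h𝓔fl : FlatMod.IsFlatOver (CohB1.ProjSpace.toSpec n (ULift.{u} ℤ)) 𝓔)
    (hg : GoodΦ n 𝓔 Φ) (K : QSet n 𝓔 T) (hK : HasHP Φ K.1) :
    Frame.IsGoodQ (n := n) ⌊Φ.eval 0⌋₊ K.1 := by
  obtain ⟨hv, hvan⟩ := fibreVanish_of_hasHP h𝓔 hg K hK
  haveI : Epi (cokernel.π K.1.arrow) := inferInstance
  refine ⟨epi_pushforward_q _ h𝓔 h𝓔fl K.2.1 K.2.2 hv,
    epi_counit_kernel_q _ h𝓔 h𝓔fl K.2.1 K.2.2 hv, fun t => ?_⟩
  set F := cokernel K.1.arrow with hF
  haveI : F.IsQuasicoherent := K.2.1.1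
  haveI : Coh.IsQCoh F := K.2.1.1
  haveI : IsLocallyNoetherian (CohB1.ProjSpaceOver n T) :=
    LocallyOfFiniteType.isLocallyNoetherian (πT n T)
  have hFP : CohB1.IsFP F := Groth.Agent.Helper4.CohFP.isFP_of_isCoh F K.2.1.1 K.2.1.2
  obtain ⟨U, htU, hU⟩ := exists_free_nhd_of_h1 (πT n T) F hFP K.2.2 t
    ((subsingleton_fiberH_iff F t 1).2 (hvan t 1 Nat.one_pos))
  -- the rank
  have hrk : CohIII.fiberRank (πT n T) F 0 t = ⌊Φ.eval 0⌋₊ := by
    have h0 : ∀ i : ℕ, i ≠ 0 → PerfAux.betti (πT n T) F t i = 0 := by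
      intro i hi
      obtain ⟨e⟩ := nonempty_fiberH_equiv n T t F i
      haveI := hvan t i (Nat.pos_of_ne_zero hi)
      unfold PerfAux.betti
      rw [e.finrank_eq]
      exact Module.finrank_zero_of_subsingleton
    have h1 : PerfAux.eulerChar (πT n T) F t = (PerfAux.betti (πT n T) F t 0 : ℤ) := by
      unfold PerfAux.eulerChar
      rw [finsum_eq_single _ 0 (fun i hi => by rw [h0 i hi]; simp)]
      simp
    have h2 : PerfAux.eulerChar (πT n T) F t = Groth.Agent.Helper1.HS.hilbFn T n F t 0 := by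
      rw [hilbFn_eq_chi n T t F K.2.1 0, eulerChar_eq_chi]
      obtain ⟨e⟩ := Groth.Agent.Helper4.SN.nonempty_tensor_twist_zero (T.residueField t) n
        (resF n T t F) 0 rfl
      exact (chi_congr n _ e).symm
    have h3 : ((PerfAux.betti (πT n T) F t 0 : ℤ) : ℚ) = Φ.eval 0 := by
      rw [← h1, h2]
      exact_mod_cast hK t 0
    have h4 : ⌊Φ.eval 0⌋₊ = PerfAux.betti (πT n T) F t 0 := by
      rw [← h3, Int.cast_natCast, Nat.floor_natCast]
    exact h4.symm
  rw [hrk] at hU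
  exact ⟨U, htU, hU⟩

end Groth.Agent.Helper1.QU
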