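import Mathlib
import Groth.Agent.Helper1.QU14
import Groth.Agent.Helper1.MF9

/-!
# Quot schemes, part 15 (general): the Hilbert function of the fibres is compatible with base
change
-/

set_option autoImplicit false
set_option linter.style.haveILetI false
set_option linter.unusedSectionVars false

universe u
open CategoryTheory CategoryTheory.Limits AlgebraicGeometry Opposite

namespace Groth.Agent.Helper1.QU

open Groth.Agent.Helper1.QT Groth.Agent.Helper1.HT Groth.Agent.Helper1.GR Groth.Agent.Helper1.MF
open Groth.Agent.Helper1.ProjBC Groth.Agent.Helper1.Fin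
open AlgebraicGeometry.Scheme.Modules

section Functoriality

theorem Proj_map_congr {A B σ τ : Type u} [CommRing A] [SetLike σ A] [AddSubgroupClass σ A]
    [CommRing B] [SetLike τ B] [AddSubgroupClass τ B] {𝒜 : ℕ → σ}
    {ℬ : ℕ → τ} [GradedRing 𝒜] [GradedRing ℬ] {f f' : 𝒜 →+*ᵍ ℬ} (h : f = f')
    (hf : HomogeneousIdeal.irrelevant ℬ ≤ (HomogeneousIdeal.irrelevant 𝒜).map f)
    (hf' : HomogeneousIdeal.irrelevant ℬ ≤ (HomogeneousIdeal.irrelevant 𝒜).map f') :
    Proj.map f hf = Proj.map f' hf' := by
  subst h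
  rfl

variable {R R' R'' : Type u} [CommRing R] [CommRing R'] [CommRing R''] (φ : R →+* R')
  (ψ : R' →+* R'') (N : ℕ)

theorem γγ_comp : γγ (ψ.comp φ) N = γγ ψ N ≫ γγ φ N := by
  have h : polyMap (ψ.comp φ) N = (polyMap ψ N).comp (polyMap φ N) := by
    apply GradedRingHom.ext
    intro a
    show MvPolynomial.map (ψ.comp φ) a = MvPolynomial.map ψ (MvPolynomial.map φ a)
    rw [MvPolynomial.map_map]
  have h2 := Proj.map_comp (polyMap φ N) (polyMap ψ N) (hirr φ N) (hirr ψ N)
  unfold γγ
  exact (Proj_map_congr h _ _).trans h2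

end Functoriality

variable (n : ℕ) {T S : Scheme.{u}} (φ : T ⟶ S) (t : T)

/-- the inclusions of the fibres are compatible with base change -/
theorem jt_projMap :
    letI : Algebra (S.residueField (φ t)) (T.residueField t) :=
      (φ.residueFieldMap t).hom.toAlgebra
    jt n T t ≫ FGA.projMap n φ =
      γ n (S.residueField (φ t)) (T.residueField t) ≫ jt n S (φ t) := by
  letI : Algebra (S.residueField (φ t)) (T.residueField t) :=
    (φ.residueFieldMap t).hom.toAlgebra
  apply pullback.hom_ext
  · show (jt n T t ≫ FGA.projMap n φ) ≫ aT n S = (γ n _ _ ≫ jt n S (φ t)) ≫ aT n S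
    rw [Category.assoc, projMap_aT, jt_aT, Category.assoc, jt_aT]
    show _ = γγ (algebraMap (S.residueField (φ t)) (T.residueField t)) n ≫ _
    rw [← γγ_comp]
    congr 1
    ext x
    simp [φ₀]
  · show (jt n T t ≫ FGA.projMap n φ) ≫ πT n S = (γ n _ _ ≫ jt n S (φ t)) ≫ πT n S
    rw [Category.assoc, projMap_πT, ← Category.assoc, jt_πT, Category.assoc, Category.assoc,
      jt_πT, ← Scheme.Hom.SpecMap_residueFieldMap_fromSpecResidueField]
    have h := (isPullback_γ n (S.residueField (φ t)) (T.residueField t)).w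
    rw [← Category.assoc, ← Category.assoc]
    congr 1
    exact h.symm

/-- **the Hilbert function of the fibres is compatible with base change** -/
theorem hilbFn_pullback (F : (CohB1.ProjSpaceOver n S).Modules) (hF : Coh.IsCoh F) (m : ℤ) :
    Groth.Agent.Helper1.HS.hilbFn T n ((Scheme.Modules.pullback (FGA.projMap n φ)).obj F) t m =
      Groth.Agent.Helper1.HS.hilbFn S n F (φ t) m := by
  letI : Algebra (S.residueField (φ t)) (T.residueField t) :=
    (φ.residueFieldMap t).hom.toAlgebra
  have hF' : Coh.IsCoh ((Scheme.Modules.pullback (FGA.projMap n φ)).obj F) :=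
    Groth.Agent.Lead.FlatUnivJ.isCoh_pullback _ F hF
  rw [hilbFn_eq_chi n T t _ hF' m, hilbFn_eq_chi n S (φ t) F hF m]
  let e : resF n T t ((Scheme.Modules.pullback (FGA.projMap n φ)).obj F) ≅
      (Scheme.Modules.pullback (γ n (S.residueField (φ t)) (T.residueField t))).obj
        (resF n S (φ t) F) :=
    (pullbackComp (jt n T t) (FGA.projMap n φ)).app F ≪≫
      (pullbackCongr (jt_projMap n φ t)).app F ≪≫
      ((pullbackComp (γ n (S.residueField (φ t)) (T.residueField t)) (jt n S (φ t))).app F).symm
  rw [chi_congr n _ (PicGrp.tensorModIso e (Iso.refl _))]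
  exact chi_pullback_tw n _ _ _ (Groth.Agent.Lead.FlatUnivJ.isCoh_pullback _ F hF) m

end Groth.Agent.Helper1.QU
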