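import Mathlib
import Groth.Agent.Helper1.QU15
import Groth.Agent.Helper1.HT18
import Groth.Agent.Helper1.GR40
import Groth.Agent.Lead.AmpleGlueA
import Groth.Agent.Helper1.Dev1

/-!
# Quot schemes, part 16 (general): padding of frames, coherence of the universal quotient on the
projective space over the Grassmannian, classification with Hilbert polynomials
-/

set_option autoImplicit false
set_option linter.style.haveILetI false
set_option linter.unusedSectionVars false

universe u
open CategoryTheory CategoryTheory.Limits AlgebraicGeometry Opposite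

namespace Groth.Agent.Helper1.QU

open Groth.Agent.Helper1.QT Groth.Agent.Helper1.HT Groth.Agent.Helper1.GR Groth.Agent.Helper1.MF
open Groth.Agent.Helper4.PullSec Groth.Agent.Helper4.PullUnit Groth.Agent.Helper1.ProjBC
open AlgebraicGeometry.Scheme.Modules

variable {n : ℕ} {𝓔 : (PZ.{u} n).Modules}

/-- a frame can be padded by additional sections -/
theorem Frame.exists_pad {N : ℕ} (fr : Frame n 𝓔 N) (k : ℕ) : Nonempty (Frame n 𝓔 (N + k)) := by
  refine ⟨⟨Fin.append fr.w (fun _ => 0), fun T => ?_⟩⟩
  set σ' : Fin (N + k) → (Coh.structureModule T ⟶ (pushforward (πT n T)).obj (ET n 𝓔 T)) :=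
    fun j => pushSec (πT n T) (pullSec (aT n T) (Fin.append fr.w (fun _ => 0) j)) with hσ'
  let ι : FlatMod.freeMod T N ⟶ FlatMod.freeMod T (N + k) :=
    frameMap (fun j : Fin N => inj T (N + k) (Fin.castAdd k j))
  have h : ι ≫ frameMap σ' =
      frameMap (fun j => pushSec (πT n T) (pullSec (aT n T) (fr.w j))) := by
    rw [← frameMap_comp]
    congr 1
    funext j
    rw [inj_frameMap, hσ']
    show pushSec (πT n T) (pullSec (aT n T) (Fin.append fr.w (fun _ => 0) (Fin.castAdd k j))) = _
    rw [Fin.append_left]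
  haveI : Epi (ι ≫ frameMap σ') := by rw [h]; exact fr.epi T
  exact epi_of_epi ι (frameMap σ')

/-- the Grassmannian over the integers is Noetherian -/
theorem isNoetherian_GZ (d N : ℕ) (h : d ≤ N) : IsNoetherian (GZ.{u} d N) := by
  haveI := isProper_GrToSpec (R := ULift.{u} ℤ) d N h
  exact Groth.Agent.Lead.AmpleGlue.isNoetherian_of_proper (ULift.{u} ℤ)
    (GrToSpec (ULift.{u} ℤ) d N)

/-- the quotient by the submodule generated by a coherent family of sections is coherent -/
theorem isCoh_cokernel_gen {X S : Scheme.{u}} (f : X ⟶ S) (E : X.Modules) (hE : Coh.IsCoh E)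
    {A : S.Modules} (hA : Coh.IsCoh A) (φ : A ⟶ (pushforward f).obj E) :
    Coh.IsCoh (cokernel (gen f E φ).arrow) := by
  set ψ := (Scheme.Modules.pullback f).map φ ≫ (pullbackPushforwardAdjunction f).counit.app E
    with hψ
  have h1 : Coh.IsCoh (cokernel ψ) :=
    Groth.Agent.Lead.PerfLib.isCoh_cokernel
      (Groth.Agent.Lead.FlatUnivJ.isCoh_pullback f A hA) hE ψ
  have e : cokernel ψ ≅ cokernel (imageSubobject ψ).arrow :=
    cokernelIsoOfEq (imageSubobject_arrow_comp ψ).symm ≪≫
      cokernelEpiComp (factorThruImageSubobject ψ) (imageSubobject ψ).arrow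
  exact Groth.Agent.Lead.PerfLib.isCoh_of_iso e h1

theorem subobject_eq_of_isZero {𝒜 : Type*} [Category 𝒜] [Abelian 𝒜] {E : 𝒜} (hE : IsZero E)
    (K K' : Subobject E) : K = K' :=
  le_antisymm (Subobject.le_of_comm 0 (hE.eq_of_tgt _ _))
    (Subobject.le_of_comm 0 (hE.eq_of_tgt _ _))

/-- over the empty scheme all submodules agree -/
theorem subobject_eq_of_isEmpty {T : Scheme.{u}} [IsEmpty T] (K K' : Subobject (ET n 𝓔 T)) :
    K = K' := by
  haveI : IsEmpty (CohB1.ProjSpaceOver n T) := ⟨fun x => isEmptyElim ((πT n T) x)⟩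
  exact subobject_eq_of_isZero
    (Groth.Agent.Helper1.Dev.isZero_of_forall_subsingleton _ (fun x => isEmptyElim x)) K K'

theorem hilbFn_congr {T : Scheme.{u}} {F F' : (CohB1.ProjSpaceOver n T).Modules} (e : F ≅ F')
    (t : T) (m : ℤ) :
    Groth.Agent.Helper1.HS.hilbFn T n F t m = Groth.Agent.Helper1.HS.hilbFn T n F' t m := by
  unfold Groth.Agent.Helper1.HS.hilbFn
  exact Groth.Agent.Helper1.PDeg.eulerChar_congr _ (PicGrp.tensorModIso e (Iso.refl _)) t

end Groth.Agent.Helper1.QU
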