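import Mathlib
import Groth.Agent.Helper1.QU16
import Groth.Agent.Helper1.Dev4

/-!
# Quot schemes, part 17 (general): representability of the functor of quotients of `𝓔` with
Hilbert polynomial `Φ`, for good `(𝓔, Φ)`, by a locally closed subscheme of a Grassmannian
-/

set_option autoImplicit false
set_option linter.style.haveILetI false
set_option linter.unusedSectionVars false

universe u
open CategoryTheory CategoryTheory.Limits AlgebraicGeometry Opposite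

namespace Groth.Agent.Helper1.QU

open Groth.Agent.Helper1.QT Groth.Agent.Helper1.HT Groth.Agent.Helper1.GR Groth.Agent.Helper1.MF
open Groth.Agent.Helper4.PullSec Groth.Agent.Helper4.PullUnit Groth.Agent.Helper1.ProjBC
open AlgebraicGeometry.Scheme.Modules

variable {n : ℕ} {𝓔 : (PZ.{u} n).Modules} {N : ℕ} (fr : Frame n 𝓔 N) (d : ℕ)

/-- the universal quotient on the projective space over the Grassmannian -/
noncomputable def Frame.GG : (CohB1.ProjSpaceOver n (GZ.{u} d N)).Modules :=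
  cokernel (fr.KG d).arrow

theorem Frame.isCoh_GG [IsLocallyNoetherian (GZ.{u} d N)] (h𝓔 : Coh.IsCoh 𝓔) :
    Coh.IsCoh (fr.GG d) := by
  unfold Frame.GG Frame.KG Frame.genS
  refine isCoh_cokernel_gen _ _ (isCoh_ET h𝓔) ?_ _
  exact Groth.Agent.Lead.PerfLib.isCoh_kernel
    (Groth.Agent.Helper1.Dev.isCoh_freeMod _ N)
    (Groth.Agent.Lead.PerfLib.isCoh_of_isFinLocFree (fun x => by
      obtain ⟨U, hx, h⟩ := isFinLocFreeOfRank_UQ (ULift.{u} ℤ) d N x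
      exact ⟨U, d, hx, h⟩)) _

variable {d}

/-- the quotient of a pulled back submodule is the pullback of the quotient -/
theorem nonempty_cokernel_iso_of_qpull_eq {T S : Scheme.{u}} (g : T ⟶ S)
    (K₀ : Subobject (ET n 𝓔 S)) (K : Subobject (ET n 𝓔 T)) (h : qpull n 𝓔 g K₀ = K) :
    Nonempty (cokernel K.arrow ≅
      (Scheme.Modules.pullback (FGA.projMap n g)).obj (cokernel K₀.arrow)) := by
  subst h
  obtain ⟨ε, -⟩ := exists_cokernel_qpull_iso n 𝓔 g K₀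
  exact ⟨ε⟩

variable {Φ : Polynomial ℚ}

/-- **classification** of the quotients with Hilbert polynomial `Φ`, with the Hilbert functions -/
theorem Frame.exists_classifying_hilbFn [IsLocallyNoetherian (GZ.{u} ⌊Φ.eval 0⌋₊ N)]
    (h𝓔 : Coh.IsCoh 𝓔)
    (h𝓔fl : FlatMod.IsFlatOver (CohB1.ProjSpace.toSpec n (ULift.{u} ℤ)) 𝓔)
    (hg : GoodΦ n 𝓔 Φ) {T : Scheme.{u}} [IsLocallyNoetherian T] (K : QSet n 𝓔 T)
    (hK : HasHP Φ K.1) :
    ∃ g : T ⟶ GZ.{u} ⌊Φ.eval 0⌋₊ N, qpull n 𝓔 g (fr.KG ⌊Φ.eval 0⌋₊) = K.1 ∧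
      ∀ (t : T) (m : ℤ),
        Groth.Agent.Helper1.HS.hilbFn _ n (fr.GG ⌊Φ.eval 0⌋₊) (g t) m =
          Groth.Agent.Helper1.HS.hilbFn T n (cokernel K.1.arrow) t m := by
  have hgood := isGoodQ_of_hasHP h𝓔 h𝓔fl hg K hK
  obtain ⟨g, hgK⟩ := fr.exists_classifying K.1 hgood
  refine ⟨g, hgK, fun t m => ?_⟩
  obtain ⟨ε⟩ := nonempty_cokernel_iso_of_qpull_eq g _ _ hgK
  rw [hilbFn_congr ε t m]
  exact (hilbFn_pullback n g t _ (fr.isCoh_GG _ h𝓔) m).symm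

/-- the data representing the functor of quotients of `𝓔` with Hilbert polynomial `Φ` -/
structure RepData (n : ℕ) (𝓔 : (PZ.{u} n).Modules) (Φ : Polynomial ℚ) where
  d : ℕ
  N : ℕ
  hdN : d ≤ N
  Q : Scheme.{u}
  e : Q ⟶ GZ.{u} d N
  Ku : QSet n 𝓔 Q
  noeth : IsNoetherian Q
  imm : IsImmersion e
  hp : HasHP Φ Ku.1
  univ : ∀ (T : Scheme.{u}) [IsLocallyNoetherian T] (K : QSet n 𝓔 T), HasHP Φ K.1 →
    ∃! h : T ⟶ Q, qpull n 𝓔 h Ku.1 = K.1

/-- immersions into Noetherian schemes have Noetherian source -/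
theorem isNoetherian_of_isImmersion {Q G : Scheme.{u}} (e : Q ⟶ G) [IsImmersion e]
    [IsNoetherian G] : IsNoetherian Q := by
  haveI : IsLocallyNoetherian Q := LocallyOfFiniteType.isLocallyNoetherian e
  haveI : TopologicalSpace.NoetherianSpace Q :=
    e.isEmbedding.isInducing.noetherianSpace
  exact {}

theorem isImmersion_emptyTo (X : Scheme.{u}) : IsImmersion (Scheme.emptyTo X) := inferInstance

/-- **representability** of the functor of quotients of `𝓔` with Hilbert polynomial `Φ`, for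
good `(𝓔, Φ)` -/
theorem nonempty_repData (h𝓔 : Coh.IsCoh 𝓔)
    (h𝓔fl : FlatMod.IsFlatOver (CohB1.ProjSpace.toSpec n (ULift.{u} ℤ)) 𝓔)
    (hg : GoodΦ n 𝓔 Φ) : Nonempty (RepData n 𝓔 Φ) := by
  classical
  obtain ⟨N₀, ⟨fr₀⟩⟩ := exists_frame h𝓔 h𝓔fl hg.h1
  set d := ⌊Φ.eval 0⌋₊ with hd
  obtain ⟨fr⟩ := fr₀.exists_pad d
  set N := N₀ + d with hN
  have hdN : d ≤ N := Nat.le_add_left _ _
  haveI hGn : IsNoetherian (GZ.{u} d N) := isNoetherian_GZ d N hdN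
  have h𝒢 := fr.isCoh_GG d h𝓔
  obtain ⟨P, St, e, -, hP, himm, hrange, -, hflat, huniv⟩ :=
    exists_flattening (GZ.{u} d N) n (fr.GG d) h𝒢
  haveI : (fr.GG d).IsQuasicoherent := h𝒢.1
  -- the classification
  have hcl : ∀ (T : Scheme.{u}) [IsLocallyNoetherian T] (K : QSet n 𝓔 T), HasHP Φ K.1 →
      ∃ g : T ⟶ GZ.{u} d N, qpull n 𝓔 g (fr.KG d) = K.1 ∧ ∀ t : T, P (g t) = Φ := by
    intro T _ K hK
    obtain ⟨g, hgK, hh⟩ := fr.exists_classifying_hilbFn h𝓔 h𝓔fl hg K hK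
    refine ⟨g, hgK, fun t => ?_⟩
    apply Groth.Agent.Helper1.HS.poly_eq_of_eval_int
    intro m
    rw [← hP (g t) m, hh t m]
    exact hK t m
  -- uniqueness
  have hun : ∀ (T : Scheme.{u}) [IsLocallyNoetherian T] (K : QSet n 𝓔 T), HasHP Φ K.1 →
      ∀ g g' : T ⟶ GZ.{u} d N, qpull n 𝓔 g (fr.KG d) = K.1 → qpull n 𝓔 g' (fr.KG d) = K.1 →
        g = g' := by
    intro T _ K hK g g' h1 h2
    have hgood := isGoodQ_of_hasHP h𝓔 h𝓔fl hg K hK
    refine fr.classifying_unique g g' (h1.trans h2.symm) ?_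
    rw [h1]
    exact hgood
  by_cases hΦ : ∃ s' : GZ.{u} d N, P s' = Φ
  · obtain ⟨s', hs'⟩ := hΦ
    haveI := himm Φ
    haveI hQn : IsNoetherian (St Φ) := isNoetherian_of_isImmersion (e Φ)
    -- the universal submodule
    obtain ⟨ε₀, -⟩ := exists_cokernel_qpull_iso n 𝓔 (e Φ) (fr.KG d)
    have ε : cokernel (qpull n 𝓔 (e Φ) (fr.KG d)).arrow ≅
        (Scheme.Modules.pullback (FGA.projMap n (e Φ))).obj (fr.GG d) := ε₀
    have hflatQ : FlatMod.IsFlatOver (πT n (St Φ))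
        ((Scheme.Modules.pullback (FGA.projMap n (e Φ))).obj (fr.GG d)) :=
      isFlatOver_of_lift (πT n (GZ.{u} d N)) (fr.GG d) St e hflat (e Φ) (πT n (St Φ))
        (FGA.projMap n (e Φ)) (isPullback_projMap n (e Φ)) (Sigma.ι St Φ) (Sigma.ι_desc _ _)
    let Ku : QSet n 𝓔 (St Φ) := ⟨qpull n 𝓔 (e Φ) (fr.KG d),
      Groth.Agent.Lead.PerfLib.isCoh_of_iso ε.symm
        (Groth.Agent.Lead.FlatUnivJ.isCoh_pullback _ _ h𝒢),
      fun x => Groth.Agent.Lead.FpqcSheaf.isFlatOverAt_of_iso _ ε.symm x (hflatQ x)⟩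
    have hKu : HasHP Φ Ku.1 := by
      intro x m
      show ((Groth.Agent.Helper1.HS.hilbFn _ n
        (cokernel (qpull n 𝓔 (e Φ) (fr.KG d)).arrow) x m : ℤ) : ℚ) = _
      rw [hilbFn_congr ε x m, hilbFn_pullback n (e Φ) x _ h𝒢 m, hP]
      have hx : (e Φ) x ∈ Set.range (e (P s')) := by
        rw [hs']
        exact ⟨x, rfl⟩
      rw [(hrange _ s').1 hx, hs']
    refine ⟨⟨d, N, hdN, St Φ, e Φ, Ku, hQn, himm Φ, hKu, ?_⟩⟩
    intro T _ K hK
    obtain ⟨g, hgK, hgP⟩ := hcl T K hK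
    -- flatness of the pullback
    obtain ⟨εg⟩ := nonempty_cokernel_iso_of_qpull_eq g _ _ hgK
    have hflT : FlatMod.IsFlatOver (CohB1.ProjSpaceOver.toBase n T)
        ((Scheme.Modules.pullback (FGA.projMap n g)).obj (fr.GG d)) :=
      fun x => Groth.Agent.Lead.FpqcSheaf.isFlatOverAt_of_iso _ εg x (K.2.2 x)
    obtain ⟨-, hlift⟩ := huniv T g hflT
    have hcast : ∀ Q : Polynomial ℚ, Q = Φ →
        (∃ g₀ : ((⊤ : T.Opens) : Scheme.{u}) ⟶ St Q, g₀ ≫ e Q = (⊤ : T.Opens).ι ≫ g) →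
        ∃ g₀ : ((⊤ : T.Opens) : Scheme.{u}) ⟶ St Φ, g₀ ≫ e Φ = (⊤ : T.Opens).ι ≫ g := by
      rintro _ rfl h
      exact h
    obtain ⟨h₀, hh₀⟩ := hcast _ hs' (hlift s' ⊤ (fun t _ => (hgP t).trans hs'.symm))
    let h : T ⟶ St Φ := (Scheme.topIso T).inv ≫ h₀
    have hhe : h ≫ e Φ = g := by
      show ((Scheme.topIso T).inv ≫ h₀) ≫ e Φ = g
      rw [Category.assoc, hh₀, ← Category.assoc]
      simp
    refine ⟨h, ?_, ?_⟩
    · show qpull n 𝓔 h (qpull n 𝓔 (e Φ) (fr.KG d)) = K.1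
      rw [qpull_comp, hhe, hgK]
    · intro h' hh'
      have h1 : qpull n 𝓔 (h' ≫ e Φ) (fr.KG d) = K.1 := by
        rw [← qpull_comp]
        exact hh'
      have h2 := hun T K hK (h' ≫ e Φ) g h1 hgK
      rw [← hhe] at h2
      exact (cancel_mono (e Φ)).1 h2
  · -- the empty case
    have hempty : ∀ (T : Scheme.{u}) [IsLocallyNoetherian T] (K : QSet n 𝓔 T), HasHP Φ K.1 →
        IsEmpty T := by
      intro T _ K hK
      refine ⟨fun t => ?_⟩
      obtain ⟨g, -, hgP⟩ := hcl T K hK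
      exact hΦ ⟨g t, hgP t⟩
    obtain ⟨ε, -⟩ := exists_cokernel_qpull_iso n 𝓔 (Scheme.emptyTo (GZ.{u} d N)) (fr.KG d)
    haveI : IsEmpty (CohB1.ProjSpaceOver n (∅ : Scheme.{u})) :=
      ⟨fun x => isEmptyElim ((πT n (∅ : Scheme.{u})) x)⟩
    let Ku : QSet n 𝓔 (∅ : Scheme.{u}) := ⟨qpull n 𝓔 (Scheme.emptyTo (GZ.{u} d N)) (fr.KG d),
      Groth.Agent.Lead.PerfLib.isCoh_of_iso ε.symm
        (Groth.Agent.Lead.FlatUnivJ.isCoh_pullback _ _ h𝒢),
      fun x => isEmptyElim x⟩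
    haveI himm0 : IsImmersion (Scheme.emptyTo (GZ.{u} d N)) := isImmersion_emptyTo _
    have hnoe : IsNoetherian (∅ : Scheme.{u}) :=
      isNoetherian_of_isImmersion (Scheme.emptyTo (GZ.{u} d N))
    refine ⟨⟨d, N, hdN, ∅, Scheme.emptyTo _, Ku, hnoe, himm0,
      fun x => isEmptyElim x, ?_⟩⟩
    intro T _ K hK
    haveI := hempty T K hK
    refine ⟨(isInitialOfIsEmpty (X := T)).to _, subobject_eq_of_isEmpty _ _, fun h' _ => ?_⟩
    exact (isInitialOfIsEmpty (X := T)).hom_ext _ _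

end Groth.Agent.Helper1.QU
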