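import Mathlib
import Groth.Agent.Helper9.PullMon4
import Groth.Agent.Helper9.PullMon1
import Groth.Agent.Helper4.SN338
import Groth.Agent.Helper4.SN315

/-!
# Quot schemes, part 18 (general): the comparison `θ : f^*(A ⊗ B) ⟶ f^*A ⊗ f^*B` is compatible
with composition of morphisms
-/

set_option autoImplicit false
set_option linter.style.haveILetI false
set_option linter.unusedSectionVars false

universe u
open CategoryTheory CategoryTheory.Limits AlgebraicGeometry Opposite

namespace Groth.Agent.Helper1.QU

open Groth.Agent.Helper4.PullTensor Groth.Agent.Helper4.TensorLift Groth.Agent.Helper9.PullMon1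
open AlgebraicGeometry.Scheme.Modules

section ThetaComp

variable {X'' X' X : Scheme.{u}} (f : X'' ⟶ X') (g : X' ⟶ X)

/-- the unit of a composite -/
theorem η_comp (M : X.Modules) :
    η (f ≫ g) M ≫ (pushforward (f ≫ g)).map ((pullbackComp f g).inv.app M) =
      η g M ≫ (pushforward g).map (η f ((Scheme.Modules.pullback g).obj M)) ≫
        (pushforwardComp f g).hom.app _ := by
  have h1 := Groth.Agent.Helper4.SN315.homEquiv_conjugate
    ((pullbackPushforwardAdjunction g).comp (pullbackPushforwardAdjunction f))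
    (pullbackPushforwardAdjunction (f ≫ g))
    (pullbackComp f g).inv (c := M)
    (d := (Scheme.Modules.pullback f).obj ((Scheme.Modules.pullback g).obj M)) (𝟙 _)
  rw [conjugateEquiv_pullbackComp_inv, Category.comp_id] at h1
  have h4 : (((pullbackPushforwardAdjunction g).comp
      (pullbackPushforwardAdjunction f)).homEquiv M
        ((Scheme.Modules.pullback f).obj ((Scheme.Modules.pullback g).obj M)))
      (𝟙 ((Scheme.Modules.pullback g ⋙ Scheme.Modules.pullback f).obj M)) =
      (pullbackPushforwardAdjunction g).unit.app M ≫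
        (pushforward g).map
          ((pullbackPushforwardAdjunction f).unit.app
            ((Scheme.Modules.pullback g).obj M)) := by
    rw [Adjunction.homEquiv_unit]
    erw [CategoryTheory.Functor.map_id, Category.comp_id]
  rw [h4, Adjunction.homEquiv_unit] at h1
  rw [Category.assoc] at h1
  exact h1

/-- the unit of a composite, on sections -/
theorem η_comp_app (M : X.Modules) (V : X.Opens) (a : Γ(M, V)) :
    ((pullbackComp f g).inv.app M).app ((f ≫ g) ⁻¹ᵁ V) ((η (f ≫ g) M).app V a) =
      (η f ((Scheme.Modules.pullback g).obj M)).app (g ⁻¹ᵁ V) ((η g M).app V a) := by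
  have h := congrArg (fun ξ => (Scheme.Modules.Hom.app ξ V) a) (η_comp f g M)
  exact h

variable (A B : X.Modules)

/-- **the comparison morphisms are compatible with composition** -/
theorem θ_comp :
    θ (f ≫ g) A B ≫ KoszTw.tensorMap ((pullbackComp f g).inv.app A)
        ((pullbackComp f g).inv.app B) =
      (pullbackComp f g).inv.app (CohB1.tensorMod A B) ≫
        (Scheme.Modules.pullback f).map (θ g A B) ≫
        θ f ((Scheme.Modules.pullback g).obj A) ((Scheme.Modules.pullback g).obj B) := by
  apply ((pullbackPushforwardAdjunction (f ≫ g)).homEquiv _ _).injective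
  rw [Adjunction.homEquiv_unit, Adjunction.homEquiv_unit]
  apply Groth.Agent.Helper4.TensorLift.hom_ext
  intro V a b
  -- left hand side
  have e1 : ((pullbackPushforwardAdjunction (f ≫ g)).unit.app (CohB1.tensorMod A B) ≫
      (pushforward (f ≫ g)).map (θ (f ≫ g) A B ≫
        KoszTw.tensorMap ((pullbackComp f g).inv.app A) ((pullbackComp f g).inv.app B))).app V
        (SecTwist.tmul A B V a b) =
      SecTwist.tmul _ _ (f ⁻¹ᵁ (g ⁻¹ᵁ V))
        ((η f ((Scheme.Modules.pullback g).obj A)).app (g ⁻¹ᵁ V) ((η g A).app V a))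
        ((η f ((Scheme.Modules.pullback g).obj B)).app (g ⁻¹ᵁ V) ((η g B).app V b)) := by
    show (KoszTw.tensorMap ((pullbackComp f g).inv.app A)
      ((pullbackComp f g).inv.app B)).app ((f ≫ g) ⁻¹ᵁ V)
        ((θ (f ≫ g) A B).app ((f ≫ g) ⁻¹ᵁ V)
          ((η (f ≫ g) (CohB1.tensorMod A B)).app V (SecTwist.tmul A B V a b))) = _
    rw [θ_unit (f ≫ g) A B V a b, KoszTw.tensorMap_tmul, η_comp_app f g A V a,
      η_comp_app f g B V b]
    rfl
  -- right hand side
  have e2 : ((pullbackPushforwardAdjunction (f ≫ g)).unit.app (CohB1.tensorMod A B) ≫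
      (pushforward (f ≫ g)).map ((pullbackComp f g).inv.app (CohB1.tensorMod A B) ≫
        (Scheme.Modules.pullback f).map (θ g A B) ≫
        θ f ((Scheme.Modules.pullback g).obj A) ((Scheme.Modules.pullback g).obj B))).app V
        (SecTwist.tmul A B V a b) =
      SecTwist.tmul _ _ (f ⁻¹ᵁ (g ⁻¹ᵁ V))
        ((η f ((Scheme.Modules.pullback g).obj A)).app (g ⁻¹ᵁ V) ((η g A).app V a))
        ((η f ((Scheme.Modules.pullback g).obj B)).app (g ⁻¹ᵁ V) ((η g B).app V b)) := by
    show (θ f ((Scheme.Modules.pullback g).obj A) ((Scheme.Modules.pullback g).obj B)).app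
      (f ⁻¹ᵁ (g ⁻¹ᵁ V))
        (((Scheme.Modules.pullback f).map (θ g A B)).app (f ⁻¹ᵁ (g ⁻¹ᵁ V))
          (((pullbackComp f g).inv.app (CohB1.tensorMod A B)).app ((f ≫ g) ⁻¹ᵁ V)
            ((η (f ≫ g) (CohB1.tensorMod A B)).app V (SecTwist.tmul A B V a b)))) = _
    rw [η_comp_app f g (CohB1.tensorMod A B) V (SecTwist.tmul A B V a b),
      η_natural_app f (θ g A B) (g ⁻¹ᵁ V), θ_unit g A B V a b,
      θ_unit f _ _ (g ⁻¹ᵁ V)]
  exact e1.trans e2.symm

end ThetaComp

end Groth.Agent.Helper1.QU
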