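import Mathlib
import Groth.Agent.Helper1.QU17
import Groth.Agent.Helper1.QU18
import Groth.Agent.Helper1.QU19
import Groth.Agent.Helper1.TwistExact
import Groth.Agent.Helper4.SN104
import Groth.Agent.Lead.InvDualA

/-!
# Quot schemes, part 20 (general): twisting the family `𝓔_T` by the pullbacks of an invertible
module on `P^n_ℤ`; compatibility with base change
-/

set_option autoImplicit false
set_option linter.style.haveILetI false
set_option linter.unusedSectionVars false

universe u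
open CategoryTheory CategoryTheory.Limits AlgebraicGeometry Opposite

namespace Groth.Agent.Helper1.QU

open Groth.Agent.Helper1.QT
open Groth.Agent.Helper4.PullTensor Groth.Agent.Helper9.PullMon1
open AlgebraicGeometry.Scheme.Modules

section TensorIso

variable {X : Scheme.{u}} {A A' B B' : X.Modules}

/-- the tensor product of two isomorphisms -/
noncomputable def tmIso (a : A ≅ A') (b : B ≅ B') : CohB1.tensorMod A B ≅ CohB1.tensorMod A' B' where
  hom := KoszTw.tensorMap a.hom b.hom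
  inv := KoszTw.tensorMap a.inv b.inv
  hom_inv_id := by
    rw [← KoszTw.tensorMap_comp, Iso.hom_inv_id, Iso.hom_inv_id, KoszTw.tensorMap_id]
  inv_hom_id := by
    rw [← KoszTw.tensorMap_comp, Iso.inv_hom_id, Iso.inv_hom_id, KoszTw.tensorMap_id]

end TensorIso

section ThetaCongr

variable {X' X : Scheme.{u}} {a b : X' ⟶ X} (h : a = b) (A B : X.Modules)

theorem θ_congr :
    (pullbackCongr h).hom.app (CohB1.tensorMod A B) ≫ θ b A B =
      θ a A B ≫ KoszTw.tensorMap ((pullbackCongr h).hom.app A) ((pullbackCongr h).hom.app B) := by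
  subst h
  have h0 : ∀ M : X.Modules, (pullbackCongr (rfl : a = a)).hom.app M = 𝟙 _ := fun M => rfl
  rw [h0, h0, h0, KoszTw.tensorMap_id, Category.id_comp, Category.comp_id]

end ThetaCongr

variable (n : ℕ) (𝓔 𝓛 : (PZ.{u} n).Modules)

/-- the pullback of a tensor product is the tensor product of the pullbacks -/
noncomputable def εT (T : Scheme.{u}) :
    CohB1.tensorMod (ET n 𝓔 T) (ET n 𝓛 T) ≅ ET n (CohB1.tensorMod 𝓔 𝓛) T :=
  haveI := Groth.Agent.Helper9.PullMon4.isIso_θ' (aT n T) 𝓔 𝓛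
  (asIso (θ (aT n T) 𝓔 𝓛)).symm

theorem εT_inv (T : Scheme.{u}) : (εT n 𝓔 𝓛 T).inv = θ (aT n T) 𝓔 𝓛 := rfl

variable {T S : Scheme.{u}}

/-- **the pullbacks of a tensor product are compatible with base change** -/
theorem Eiso_tensor (g : T ⟶ S) :
    (Eiso n (CohB1.tensorMod 𝓔 𝓛) g).hom ≫ θ (aT n T) 𝓔 𝓛 =
      (Scheme.Modules.pullback (FGA.projMap n g)).map (θ (aT n S) 𝓔 𝓛) ≫
        θ (FGA.projMap n g) (ET n 𝓔 S) (ET n 𝓛 S) ≫
        KoszTw.tensorMap (Eiso n 𝓔 g).hom (Eiso n 𝓛 g).hom := by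
  have h1 := θ_comp (FGA.projMap n g) (aT n S) 𝓔 𝓛
  have h2 := θ_congr (projMap_aT n g) 𝓔 𝓛
  unfold Eiso ET
  simp only [Iso.trans_hom, Iso.app_hom, Category.assoc]
  rw [h2, KoszTw.tensorMap_comp]
  -- use h1
  have h3 : (Scheme.Modules.pullback (FGA.projMap n g)).map (θ (aT n S) 𝓔 𝓛) ≫
      θ (FGA.projMap n g) ((Scheme.Modules.pullback (aT n S)).obj 𝓔)
        ((Scheme.Modules.pullback (aT n S)).obj 𝓛) =
      (pullbackComp (FGA.projMap n g) (aT n S)).hom.app (CohB1.tensorMod 𝓔 𝓛) ≫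
        θ (FGA.projMap n g ≫ aT n S) 𝓔 𝓛 ≫
        KoszTw.tensorMap ((pullbackComp (FGA.projMap n g) (aT n S)).inv.app 𝓔)
          ((pullbackComp (FGA.projMap n g) (aT n S)).inv.app 𝓛) := by
    rw [h1, Iso.hom_inv_id_app_assoc]
  rw [reassoc_of% h3]
  congr 2
  rw [← Category.assoc, ← KoszTw.tensorMap_comp, Iso.inv_hom_id_app, Iso.inv_hom_id_app,
    KoszTw.tensorMap_id, Category.id_comp]

end Groth.Agent.Helper1.QU
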