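import Mathlib
import Groth.Agent.Helper1.QU20

/-!
# Quot schemes, part 21 (general): twisting submodules of `𝓔_T` by an invertible module on
`P^n_ℤ`; naturality
-/

set_option autoImplicit false
set_option linter.style.haveILetI false
set_option linter.unusedSectionVars false

universe u
open CategoryTheory CategoryTheory.Limits AlgebraicGeometry Opposite

namespace Groth.Agent.Helper1.QU

open Groth.Agent.Helper1.QT
open Groth.Agent.Helper4.PullTensor Groth.Agent.Helper9.PullMon1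
open AlgebraicGeometry.Scheme.Modules

section Equiv

variable {X : Scheme.{u}} (L : X.Modules) (hL : PicF.IsInvertible L)

/-- tensoring with an invertible module is an equivalence of categories -/
noncomputable def tensorEquiv : X.Modules ≌ X.Modules :=
  CategoryTheory.Equivalence.mk (DCoh.tensorRightMod L)
    (DCoh.tensorRightMod (Groth.Agent.Lead.InvDual.exists_inverse L hL).choose)
    (Groth.Agent.Helper4.SN.twistTwistIso L
      (Groth.Agent.Lead.InvDual.exists_inverse L hL).choose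
      (Groth.Agent.Lead.InvDual.exists_inverse L hL).choose_spec.2.2.some).symm
    (Groth.Agent.Helper4.SN.twistTwistIso
      (Groth.Agent.Lead.InvDual.exists_inverse L hL).choose L
      (Groth.Agent.Lead.InvDual.exists_inverse L hL).choose_spec.2.1.some)

theorem tensorEquiv_functor : (tensorEquiv L hL).functor = DCoh.tensorRightMod L := rfl

instance : (tensorEquiv L hL).functor.Additive := by
  rw [tensorEquiv_functor]
  infer_instance

theorem kernelSubobject_congr {𝒞 : Type*} [Category 𝒞] [Abelian 𝒞] {A B : 𝒞} {f g : A ⟶ B}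
    (h : f = g) : kernelSubobject f = kernelSubobject g := by
  subst h
  rfl

theorem tw_functor_map {A B : X.Modules} (f : A ⟶ B) :
    (tensorEquiv L hL).functor.map f = KoszTw.tensorMap f (𝟙 L) :=
  KoszTw.tensorRightMod_map f L

end Equiv

variable (n : ℕ) (𝓔 𝓛 : (PZ.{u} n).Modules) (h𝓛 : PicF.IsInvertible 𝓛)

include h𝓛

theorem isInvertible_ET (T : Scheme.{u}) : PicF.IsInvertible (ET n 𝓛 T) :=
  Groth.Agent.Helper4.PullSec.isInvertible_pullback _ h𝓛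

/-- the twist of a submodule of `𝓔_T` -/
noncomputable def twS (T : Scheme.{u}) (K : Subobject (ET n 𝓔 T)) :
    Subobject (ET n (CohB1.tensorMod 𝓔 𝓛) T) :=
  twSub (tensorEquiv (ET n 𝓛 T) (isInvertible_ET n 𝓛 h𝓛 T)) (εT n 𝓔 𝓛 T) K

theorem twS_injective (T : Scheme.{u}) : Function.Injective (twS n 𝓔 𝓛 h𝓛 T) :=
  twSub_injective _ _

theorem twS_surjective (T : Scheme.{u}) : Function.Surjective (twS n 𝓔 𝓛 h𝓛 T) :=
  twSub_surjective _ _

/-- the quotient by the twist of a submodule is the twist of the quotient -/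
theorem exists_cokernel_twS_iso (T : Scheme.{u}) (K : Subobject (ET n 𝓔 T)) :
    ∃ i : cokernel (twS n 𝓔 𝓛 h𝓛 T K).arrow ≅ CohB1.tensorMod (cokernel K.arrow) (ET n 𝓛 T),
      cokernel.π (twS n 𝓔 𝓛 h𝓛 T K).arrow ≫ i.hom =
        θ (aT n T) 𝓔 𝓛 ≫ KoszTw.tensorMap (cokernel.π K.arrow) (𝟙 _) := by
  obtain ⟨i, hi⟩ := exists_cokernel_twSub_iso
    (tensorEquiv (ET n 𝓛 T) (isInvertible_ET n 𝓛 h𝓛 T)) (εT n 𝓔 𝓛 T) K
  refine ⟨i, ?_⟩
  rw [← KoszTw.tensorRightMod_map]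
  exact hi

variable {T S : Scheme.{u}}

/-- **twisting commutes with base change** -/
theorem twS_qpull (g : T ⟶ S) (K : Subobject (ET n 𝓔 S)) :
    twS n 𝓔 𝓛 h𝓛 T (qpull n 𝓔 g K) =
      qpull n (CohB1.tensorMod 𝓔 𝓛) g (twS n 𝓔 𝓛 h𝓛 S K) := by
  have hmap : ∀ (T' : Scheme.{u}) {B : (CohB1.ProjSpaceOver n T').Modules}
      (x : ET n 𝓔 T' ⟶ B),
      (εT n 𝓔 𝓛 T').inv ≫ (tensorEquiv (ET n 𝓛 T') (isInvertible_ET n 𝓛 h𝓛 T')).functor.map x =
        θ (aT n T') 𝓔 𝓛 ≫ KoszTw.tensorMap x (𝟙 (ET n 𝓛 T')) :=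
    fun T' _ x => congrArg (fun z => θ (aT n T') 𝓔 𝓛 ≫ z) (tw_functor_map _ _ x)
  -- the quotient map of the twist
  let qS : ET n (CohB1.tensorMod 𝓔 𝓛) S ⟶ CohB1.tensorMod (cokernel K.arrow) (ET n 𝓛 S) :=
    θ (aT n S) 𝓔 𝓛 ≫ KoszTw.tensorMap (cokernel.π K.arrow) (𝟙 (ET n 𝓛 S))
  let qT : ET n (CohB1.tensorMod 𝓔 𝓛) T ⟶
      CohB1.tensorMod ((Scheme.Modules.pullback (FGA.projMap n g)).obj (cokernel K.arrow))
        (ET n 𝓛 T) :=
    θ (aT n T) 𝓔 𝓛 ≫ KoszTw.tensorMap (pq n 𝓔 g (cokernel.π K.arrow)) (𝟙 (ET n 𝓛 T))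
  -- left hand side
  have hL : twS n 𝓔 𝓛 h𝓛 T (qpull n 𝓔 g K) = kernelSubobject qT := by
    rw [qpull_eq_kernel]
    unfold twS
    rw [twSub_kernelSubobject]
    exact kernelSubobject_congr (hmap T _)
  -- right hand side
  haveI hepi : Epi qS := by
    haveI := Groth.Agent.Helper9.PullMon4.isIso_θ' (aT n S) 𝓔 𝓛
    have h2 : Epi (KoszTw.tensorMap (cokernel.π K.arrow) (𝟙 (ET n 𝓛 S))) :=
      Groth.Agent.Helper1.TwistExact.epi_tensorMap _ _ (isInvertible_ET n 𝓛 h𝓛 S)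
    exact @epi_comp _ _ _ _ _ _ (@IsIso.epi_of_iso _ _ _ _ _ this) _ h2
  have hR : qpull n (CohB1.tensorMod 𝓔 𝓛) g (twS n 𝓔 𝓛 h𝓛 S K) =
      kernelSubobject (pq n (CohB1.tensorMod 𝓔 𝓛) g qS) := by
    have h1 : twS n 𝓔 𝓛 h𝓛 S K = kernelSubobject qS := by
      unfold twS
      rw [twSub_eq_kernel]
      exact kernelSubobject_congr (hmap S _)
    rw [h1]
    exact qpull_kernelSubobject n (CohB1.tensorMod 𝓔 𝓛) g qS
  rw [hL, hR]
  -- comparison of the two quotient maps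
  haveI := Groth.Agent.Helper9.PullMon4.isIso_θ' (FGA.projMap n g) (cokernel K.arrow) (ET n 𝓛 S)
  refine (kernelSubobject_eq_of_iso _ _
    (asIso (θ (FGA.projMap n g) (cokernel K.arrow) (ET n 𝓛 S)) ≪≫
      tmIso (Iso.refl _) (Eiso n 𝓛 g)) ?_).symm
  have hnat := θ_natural (FGA.projMap n g) (cokernel.π K.arrow) (𝟙 (ET n 𝓛 S))
  have hten := Eiso_tensor n 𝓔 𝓛 g
  show ((Eiso n (CohB1.tensorMod 𝓔 𝓛) g).inv ≫
      (Scheme.Modules.pullback (FGA.projMap n g)).map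
        (θ (aT n S) 𝓔 𝓛 ≫ KoszTw.tensorMap (cokernel.π K.arrow) (𝟙 (ET n 𝓛 S)))) ≫
      θ (FGA.projMap n g) (cokernel K.arrow) (ET n 𝓛 S) ≫
      KoszTw.tensorMap (𝟙 _) (Eiso n 𝓛 g).hom =
    θ (aT n T) 𝓔 𝓛 ≫ KoszTw.tensorMap ((Eiso n 𝓔 g).inv ≫
      (Scheme.Modules.pullback (FGA.projMap n g)).map (cokernel.π K.arrow)) (𝟙 (ET n 𝓛 T))
  unfold ET at hnat hten ⊢
  rw [Functor.map_comp, Category.assoc, Category.assoc, reassoc_of% hnat, Iso.inv_comp_eq,
    reassoc_of% hten]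
  congr 2
  rw [← KoszTw.tensorMap_comp, ← KoszTw.tensorMap_comp]
  congr 1
  · rw [Category.comp_id, Iso.hom_inv_id_assoc]
  · rw [CategoryTheory.Functor.map_id, Category.id_comp, Category.comp_id]

end Groth.Agent.Helper1.QU
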