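import Mathlib
import Groth.Agent.Helper1.QU21
import Groth.Agent.Helper1.RegSh2
import Groth.Agent.Helper1.FlatTw2
import Groth.Agent.Helper1.FlatTw1

/-!
# Quot schemes, part 22 (general): representability is invariant under twisting `𝓔` by `O(m)`
-/

set_option autoImplicit false
set_option linter.style.haveILetI false
set_option linter.unusedSectionVars false

universe u
open CategoryTheory CategoryTheory.Limits AlgebraicGeometry Opposite

namespace Groth.Agent.Helper1.QU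

open Groth.Agent.Helper1.QT
open Groth.Agent.Helper4.PullTensor Groth.Agent.Helper9.PullMon1
open AlgebraicGeometry.Scheme.Modules

variable (n : ℕ) (𝓔 : (PZ.{u} n).Modules) (m : ℤ)

/-- the twisting module on `P^n_ℤ` -/
noncomputable abbrev Om : (PZ.{u} n).Modules := Twist.twistProjSpace n (ULift.{u} ℤ) m

theorem isInvertible_Om : PicF.IsInvertible (Om.{u} n m) :=
  Groth.Agent.Helper1.SerreVan.isInvertible_twist n (ULift.{u} ℤ) m

/-- the twist of `𝓔` -/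
noncomputable abbrev Etw : (PZ.{u} n).Modules := CohB1.tensorMod 𝓔 (Om.{u} n m)

/-- twisting submodules of `𝓔_T` by `O(m)` -/
noncomputable abbrev twM (T : Scheme.{u}) (K : Subobject (ET n 𝓔 T)) :
    Subobject (ET n (Etw n 𝓔 m) T) :=
  twS n 𝓔 (Om.{u} n m) (isInvertible_Om n m) T K

variable {T : Scheme.{u}}

theorem ET_Om : ET n (Om.{u} n m) T = Twist.twistOver n T m := rfl

/-- coherence is invariant under twisting -/
theorem isCoh_tensor_twist_iff (F : (CohB1.ProjSpaceOver n T).Modules) :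
    Coh.IsCoh (CohB1.tensorMod F (Twist.twistOver n T m)) ↔ Coh.IsCoh F := by
  have hL := Groth.Agent.Helper1.FlatTw.isInvertible_twistOver n T m
  constructor
  · intro h
    obtain ⟨N, hN, -, ⟨ε⟩⟩ := Groth.Agent.Lead.InvDual.exists_inverse _ hL
    have e := (Groth.Agent.Helper4.SN.twistTwistIso (Twist.twistOver n T m) N ε).app F
    exact Groth.Agent.Lead.PerfLib.isCoh_of_iso e
      (Groth.Agent.Lead.Ref1B.isCoh_tensorMod _ _ h
        (Groth.Agent.Helper1.SerreFin.isCoh_of_isInvertible N hN))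
  · intro h
    exact Groth.Agent.Lead.Ref1B.isCoh_tensorMod _ _ h
      (Groth.Agent.Helper1.SerreFin.isCoh_of_isInvertible _ hL)

/-- the Hilbert function of a twist -/
theorem hilbFn_tensor_twist (F : (CohB1.ProjSpaceOver n T).Modules) (t : T) (r : ℤ) :
    Groth.Agent.Helper1.HS.hilbFn T n (CohB1.tensorMod F (Twist.twistOver n T m)) t r =
      Groth.Agent.Helper1.HS.hilbFn T n F t (m + r) := by
  unfold Groth.Agent.Helper1.HS.hilbFn
  obtain ⟨e⟩ := Groth.Agent.Helper1.RegSh.nonempty_twistOver_mul n T m r (m + r) rfl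
  exact Groth.Agent.Helper1.PDeg.eulerChar_congr _
    (Groth.Agent.Lead.Ref1B.assoc _ _ _ ≪≫ tmIso (Iso.refl F) e) t

variable (T)

/-- membership in the Quot set is invariant under twisting -/
theorem mem_QSet_twM_iff (K : Subobject (ET n 𝓔 T)) :
    (Coh.IsCoh (cokernel (twM n 𝓔 m T K).arrow) ∧
      FlatMod.IsFlatOver (πT n T) (cokernel (twM n 𝓔 m T K).arrow)) ↔
    (Coh.IsCoh (cokernel K.arrow) ∧ FlatMod.IsFlatOver (πT n T) (cokernel K.arrow)) := by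
  obtain ⟨i, -⟩ := exists_cokernel_twS_iso n 𝓔 (Om.{u} n m) (isInvertible_Om n m) T K
  have i' : cokernel (twM n 𝓔 m T K).arrow ≅
      CohB1.tensorMod (cokernel K.arrow) (Twist.twistOver n T m) := i
  have hL := Groth.Agent.Helper1.FlatTw.isInvertible_twistOver n T m
  constructor
  · rintro ⟨h1, h2⟩
    refine ⟨(isCoh_tensor_twist_iff n m _).1 (Groth.Agent.Lead.PerfLib.isCoh_of_iso i' h1), ?_⟩
    rw [← Groth.Agent.Helper1.FlatTw.isFlatOver_tensor_iff (πT n T) _ _ hL]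
    exact fun x => Groth.Agent.Lead.FpqcSheaf.isFlatOverAt_of_iso _ i' x (h2 x)
  · rintro ⟨h1, h2⟩
    refine ⟨Groth.Agent.Lead.PerfLib.isCoh_of_iso i'.symm ((isCoh_tensor_twist_iff n m _).2 h1),
      ?_⟩
    have h3 := (Groth.Agent.Helper1.FlatTw.isFlatOver_tensor_iff (πT n T) _ _ hL).2 h2
    exact fun x => Groth.Agent.Lead.FpqcSheaf.isFlatOverAt_of_iso _ i'.symm x (h3 x)

/-- the Hilbert polynomial of a twisted submodule -/
theorem hasHP_twM_iff (Φ Φ' : Polynomial ℚ)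
    (hΦ : ∀ r : ℤ, Φ'.eval (r : ℚ) = Φ.eval ((m + r : ℤ) : ℚ)) (K : Subobject (ET n 𝓔 T)) :
    HasHP Φ' (twM n 𝓔 m T K) ↔ HasHP Φ K := by
  obtain ⟨i, -⟩ := exists_cokernel_twS_iso n 𝓔 (Om.{u} n m) (isInvertible_Om n m) T K
  have i' : cokernel (twM n 𝓔 m T K).arrow ≅
      CohB1.tensorMod (cokernel K.arrow) (Twist.twistOver n T m) := i
  have key : ∀ (t : T) (r : ℤ),
      Groth.Agent.Helper1.HS.hilbFn T n (cokernel (twM n 𝓔 m T K).arrow) t r =
        Groth.Agent.Helper1.HS.hilbFn T n (cokernel K.arrow) t (m + r) := fun t r => by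
    rw [hilbFn_congr i' t r, hilbFn_tensor_twist]
  constructor
  · intro h t r
    have h1 := h t (r - m)
    rw [key, hΦ] at h1
    have e : m + (r - m) = r := by ring
    rw [e] at h1
    exact h1
  · intro h t r
    rw [key, hΦ]
    exact h t (m + r)

variable {n 𝓔 m}

/-- **representability is invariant under twisting** -/
theorem RepData.untwist (Φ Φ' : Polynomial ℚ)
    (hΦ : ∀ r : ℤ, Φ'.eval (r : ℚ) = Φ.eval ((m + r : ℤ) : ℚ))
    (R : RepData n (Etw n 𝓔 m) Φ') :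
    ∃ R' : RepData n 𝓔 Φ, R'.d = R.d ∧ R'.N = R.N ∧ R'.Q = R.Q ∧ HEq R'.e R.e := by
  obtain ⟨Ku₀, hKu₀⟩ := twS_surjective n 𝓔 (Om.{u} n m) (isInvertible_Om n m) R.Q R.Ku.1
  have hKu₀' : twM n 𝓔 m R.Q Ku₀ = R.Ku.1 := hKu₀
  have hmem := (mem_QSet_twM_iff n 𝓔 m R.Q Ku₀).1 (by rw [hKu₀']; exact R.Ku.2)
  have hhp : HasHP Φ Ku₀ := (hasHP_twM_iff n 𝓔 m R.Q Φ Φ' hΦ Ku₀).1 (by rw [hKu₀']; exact R.hp)
  refine ⟨⟨R.d, R.N, R.hdN, R.Q, R.e, ⟨Ku₀, hmem⟩, R.noeth, R.imm, hhp, ?_⟩, rfl, rfl, rfl,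
    HEq.rfl⟩
  intro T _ K hK
  let K' : QSet n (Etw n 𝓔 m) T := ⟨twM n 𝓔 m T K.1, (mem_QSet_twM_iff n 𝓔 m T K.1).2 K.2⟩
  have hK' : HasHP Φ' K'.1 := (hasHP_twM_iff n 𝓔 m T Φ Φ' hΦ K.1).2 hK
  obtain ⟨h, hh, huniq⟩ := R.univ T K' hK'
  have hh' : qpull n (Etw n 𝓔 m) h R.Ku.1 = twM n 𝓔 m T K.1 := hh
  refine ⟨h, ?_, ?_⟩
  · show qpull n 𝓔 h Ku₀ = K.1
    apply twS_injective n 𝓔 (Om.{u} n m) (isInvertible_Om n m) T
    rw [twS_qpull]
    show qpull n (Etw n 𝓔 m) h (twM n 𝓔 m R.Q Ku₀) = twM n 𝓔 m T K.1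
    rw [hKu₀']
    exact hh'
  · intro h₁ hh₁
    apply huniq
    show qpull n (Etw n 𝓔 m) h₁ R.Ku.1 = twM n 𝓔 m T K.1
    have hh₁' : qpull n 𝓔 h₁ Ku₀ = K.1 := hh₁
    rw [← hKu₀', ← hh₁']
    exact (twS_qpull n 𝓔 (Om.{u} n m) (isInvertible_Om n m) h₁ Ku₀).symm

end Groth.Agent.Helper1.QU
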