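import Mathlib
import Groth.Agent.Helper1.QU22
import Groth.Agent.Helper1.MF12
import Groth.Agent.Helper1.KzGGPn
import Groth.Agent.Helper4.CounitGG
import Groth.Agent.Helper4.CounitEpi
import Groth.Agent.Helper1.HS1

/-!
# Quot schemes, part 23: the fibrewise conditions for the large twists of `O^r`, from Mumford's
theorem
-/

set_option autoImplicit false
set_option linter.style.haveILetI false
set_option linter.unusedSectionVars false

universe u
open CategoryTheory CategoryTheory.Limits AlgebraicGeometry Opposite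

namespace Groth.Agent.Helper1.QU

open Groth.Agent.Helper1.QT Groth.Agent.Helper1.MF Groth.Agent.Helper1.KzReg
open Groth.Agent.Helper1.ProjBC
open AlgebraicGeometry.Scheme.Modules

section Reg

variable (n : ℕ) (k : Type u) [Field k]

local notation "𝕆(" d ")" => Twist.twistProjSpace n k d

/-- `M(b)(c) ≅ M(b + c)` -/
theorem nonempty_tw_tw (M : (CohB1.ProjSpace n k).Modules) (b c d : ℤ) (h : d = b + c) :
    Nonempty (CohB1.tensorMod (CohB1.tensorMod M 𝕆(b)) 𝕆(c) ≅ CohB1.tensorMod M 𝕆(d)) := by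
  obtain ⟨e⟩ := Groth.Agent.Helper1.TwistMul.nonempty_twist_tensor_twist_iso
    (CohB1.polyGrading n k) (Groth.Agent.Helper1.PUP.hcovP n (R := k)) b c d h
  exact ⟨Groth.Agent.Lead.Ref1B.assoc _ _ _ ≪≫ tmIso (Iso.refl M) e⟩

/-- regularity of a twist -/
theorem isReg_tensor_twist_iff (M : (CohB1.ProjSpace n k).Modules) (b m : ℤ) :
    IsReg n k (CohB1.tensorMod M 𝕆(b)) m ↔ IsReg n k M (m + b) := by
  have key : ∀ i : ℕ, Subsingleton (Coh.HH (CohB1.ProjSpace n k)
      (CohB1.tensorMod (CohB1.tensorMod M 𝕆(b)) 𝕆(m - i)) i) ↔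
      Subsingleton (Coh.HH (CohB1.ProjSpace n k) (CohB1.tensorMod M 𝕆(m + b - i)) i) := by
    intro i
    obtain ⟨e⟩ := nonempty_tw_tw n k M b (m - i) (m + b - i) (by ring)
    exact (Groth.Agent.Lead.BCField.HHlinEquiv k e i).toEquiv.subsingleton_congr
  exact forall_congr' fun i => forall_congr' fun _ => key i

/-- a `0`-regular module has no higher cohomology -/
theorem subsingleton_HH_of_isReg_zero (M : (CohB1.ProjSpace n k).Modules) (hM : Coh.IsCoh M)
    (h : IsReg n k M 0) (i : ℕ) (hi : 1 ≤ i) :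
    Subsingleton (Coh.HH (CohB1.ProjSpace n k) M i) := by
  haveI := subsingleton_HH_of_isReg n k M hM 0 h i hi 0 (by omega)
  obtain ⟨e⟩ := Groth.Agent.Helper4.SN.nonempty_tensor_twist_zero k n M 0 rfl
  exact (Groth.Agent.Lead.BCField.HHlinEquiv k e i).symm.toEquiv.subsingleton

/-- a globally generated module is generated by its direct image -/
theorem epi_counit_of_isGloballyGenerated {X Y : Scheme.{u}} (f : X ⟶ Y) (M : X.Modules)
    (h : Curv2.IsGloballyGenerated M) :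
    Epi ((pullbackPushforwardAdjunction f).counit.app M) := by
  refine Groth.Agent.Helper4.CounitGG.epi_counit_of_cover f M (fun _ : Unit => (⊤ : Y.Opens))
    (fun x => ⟨(), trivial⟩) (fun _ => ?_)
  exact Groth.Agent.Helper4.CounitEpi.isGloballyGenerated_of_iso
    ((restrictFunctorIsoPullback _).app M).symm
    (Groth.Agent.Helper4.CounitEpi.isGloballyGenerated_pullback _ h)

/-- a `0`-regular module is generated by its global sections -/
theorem epi_counit_of_isReg_zero (M : (CohB1.ProjSpace n k).Modules) (hM : Coh.IsCoh M)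
    (h : IsReg n k M 0) :
    Epi ((pullbackPushforwardAdjunction (CohB1.ProjSpace.toSpec n k)).counit.app M) := by
  have h1 := Groth.Agent.Helper1.KzMultPn.isGloballyGenerated_of_isReg n k M hM 0 0 le_rfl h
  obtain ⟨e⟩ := Groth.Agent.Helper4.SN.nonempty_tensor_twist_zero k n M 0 rfl
  exact epi_counit_of_isGloballyGenerated _ M
    (Groth.Agent.Helper4.CounitEpi.isGloballyGenerated_of_iso e h1)

end Reg

section Good

/-- the module `O^r(a)` on `P^n_ℤ` -/
noncomputable abbrev Fra (n r : ℕ) (a : ℤ) : (PZ.{u} n).Modules :=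
  CohB1.tensorMod (FlatMod.freeMod (PZ.{u} n) r) (Om.{u} n a)

/-- the pullback of `O^r(a)` to the projective space over a field -/
theorem nonempty_pullback_Fra (n r : ℕ) (a : ℤ) (κ : Type u) [Field κ] :
    Nonempty ((Scheme.Modules.pullback (γγ (Groth.Agent.Helper1.Fin.φ₀ κ) n)).obj (Fra.{u} n r a) ≅
      CohB1.tensorMod (FlatMod.freeMod (CohB1.ProjSpace n κ) r)
        (Twist.twistProjSpace n κ a)) := by
  have hiso := Groth.Agent.Helper9.PullMon4.isIso_θ' (γγ (Groth.Agent.Helper1.Fin.φ₀ κ) n)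
    (FlatMod.freeMod (PZ.{u} n) r) (Om.{u} n a)
  obtain ⟨b⟩ := Groth.Agent.Helper1.HS.nonempty_twistBC_int (Groth.Agent.Helper1.Fin.φ₀ κ) n a
  exact ⟨@asIso _ _ _ _ (Groth.Agent.Helper4.PullTensor.θ (γγ (Groth.Agent.Helper1.Fin.φ₀ κ) n)
      (FlatMod.freeMod (PZ.{u} n) r) (Om.{u} n a)) hiso ≪≫
    tmIso (Groth.Agent.Helper8.TildeBC.pullbackFreeIso _ r) b⟩

/-- `O^r(a)` is `0`-regular for `a ≥ 0` -/
theorem isReg_free_twist (n r : ℕ) (a : ℤ) (ha : 0 ≤ a) (κ : Type u) [Field κ] :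
    IsReg n κ (CohB1.tensorMod (FlatMod.freeMod (CohB1.ProjSpace n κ) r)
      (Twist.twistProjSpace n κ a)) 0 := by
  rw [isReg_tensor_twist_iff]
  obtain ⟨j, rfl⟩ := Int.eq_ofNat_of_zero_le ha
  exact isReg_add n κ _ (Groth.Agent.Helper1.Dev.isCoh_freeMod _ r) 0 (isReg_freeMod n κ r) j

theorem isCoh_free_twist (n r : ℕ) (a : ℤ) (κ : Type u) [Field κ] :
    Coh.IsCoh (CohB1.tensorMod (FlatMod.freeMod (CohB1.ProjSpace n κ) r)
      (Twist.twistProjSpace n κ a)) :=
  Groth.Agent.Lead.Ref1B.isCoh_tensorMod _ _ (Groth.Agent.Helper1.Dev.isCoh_freeMod _ r)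
    (Groth.Agent.Helper1.SerreFin.isCoh_of_isInvertible _
      (Groth.Agent.Helper1.SerreVan.isInvertible_twist n κ a))

/-- **the fibrewise conditions hold for the large twists of `O^r`** -/
theorem exists_goodΦ_Fra (r : ℕ) (Ψ : Polynomial ℚ) :
    ∃ m₁ : ℤ, ∀ (n : ℕ) (a : ℤ), m₁ ≤ a → 0 ≤ a → ∀ Φ' : Polynomial ℚ,
      (∀ i : ℤ, Φ'.eval (i : ℚ) = Ψ.eval ((i + a : ℤ) : ℚ)) → GoodΦ n (Fra.{u} n r a) Φ' := by
  obtain ⟨m₁, hm₁⟩ := mumford_quot.{u} Ψ
  refine ⟨m₁, fun n a ha ha0 Φ' hΦ' => ⟨?_, ?_⟩⟩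
  · -- vanishing of the first cohomology of `O^r(a)`
    intro κ _
    obtain ⟨e⟩ := nonempty_pullback_Fra n r a κ
    have h := subsingleton_HH_of_isReg_zero n κ _ (isCoh_free_twist n r a κ)
      (isReg_free_twist n r a ha0 κ) 1 le_rfl
    exact @Equiv.subsingleton _ _ (Groth.Agent.Lead.BCField.HHlinEquiv κ e 1).toEquiv h
  · intro κ _ S hS h₁ h₃ ⟨e₀⟩ hχ
    obtain ⟨e₁⟩ := nonempty_pullback_Fra n r a κ
    let e := e₀ ≪≫ e₁
    have h₂ : Coh.IsCoh S.X₂ :=
      Groth.Agent.Lead.PerfLib.isCoh_of_iso e.symm (isCoh_free_twist n r a κ)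
    have hreg₂ : IsReg n κ S.X₂ 0 :=
      isReg_of_iso n κ e.symm 0 (isReg_free_twist n r a ha0 κ)
    -- the untwisted sequence
    have hinv := Groth.Agent.Helper1.SerreVan.isInvertible_twist n κ (-a)
    have hcohL := Groth.Agent.Helper1.SerreFin.isCoh_of_isInvertible _ hinv
    have hS' := Groth.Agent.Helper1.TwistExact.shortExact_map_tensorRightMod hS
      (Twist.twistProjSpace n κ (-a)) hinv
    have hreg₂' : IsReg n κ (S.map (DCoh.tensorRightMod (Twist.twistProjSpace n κ (-a)))).X₂ 0 := by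
      show IsReg n κ (CohB1.tensorMod S.X₂ (Twist.twistProjSpace n κ (-a))) 0
      rw [isReg_tensor_twist_iff]
      refine isReg_of_iso n κ e.symm _ ?_
      rw [← isReg_tensor_twist_iff]
      obtain ⟨i⟩ := nonempty_tw_tw n κ (FlatMod.freeMod (CohB1.ProjSpace n κ) r) a (-a) 0
        (by ring)
      obtain ⟨i'⟩ := Groth.Agent.Helper4.SN.nonempty_tensor_twist_zero κ n
        (FlatMod.freeMod (CohB1.ProjSpace n κ) r) 0 rfl
      exact isReg_of_iso n κ (i ≪≫ i').symm 0 (isReg_freeMod n κ r)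
    have hχ' : ∀ j : ℤ, (chi n κ (CohB1.tensorMod
        (S.map (DCoh.tensorRightMod (Twist.twistProjSpace n κ (-a)))).X₃
        (Twist.twistProjSpace n κ j)) : ℚ) = Ψ.eval (j : ℚ) := by
      intro j
      obtain ⟨i⟩ := nonempty_tw_tw n κ S.X₃ (-a) j (j - a) (by ring)
      show ((chi n κ (CohB1.tensorMod (CohB1.tensorMod S.X₃ (Twist.twistProjSpace n κ (-a)))
        (Twist.twistProjSpace n κ j)) : ℤ) : ℚ) = _
      rw [chi_congr n κ i, hχ (j - a), hΦ' (j - a)]
      congr 2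
      ring
    have hreg₁' := hm₁ n κ _ hS'
      (Groth.Agent.Lead.Ref1B.isCoh_tensorMod _ _ h₁ hcohL)
      (Groth.Agent.Lead.Ref1B.isCoh_tensorMod _ _ h₂ hcohL)
      (Groth.Agent.Lead.Ref1B.isCoh_tensorMod _ _ h₃ hcohL) hreg₂' hχ'
    have hreg₁ : IsReg n κ S.X₁ 0 := by
      have h1 : IsReg n κ S.X₁ (m₁ + -a) :=
        (isReg_tensor_twist_iff n κ S.X₁ (-a) m₁).1 hreg₁'
      obtain ⟨j, hj⟩ := Int.eq_ofNat_of_zero_le (show 0 ≤ a - m₁ by omega)
      have h2 := isReg_add n κ S.X₁ h₁ _ h1 j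
      have e0 : m₁ + -a + (j : ℤ) = 0 := by omega
      rw [e0] at h2
      exact h2
    refine ⟨subsingleton_HH_of_isReg_zero n κ _ h₁ hreg₁ 1 le_rfl, fun i hi => ?_,
      epi_counit_of_isReg_zero n κ _ h₁ hreg₁⟩
    -- the higher cohomology of the quotient
    haveI := subsingleton_HH_of_isReg_zero n κ _ h₂ hreg₂ i hi
    haveI : Subsingleton (Coh.HH (CohB1.ProjSpace n κ) S.X₁ (i + 1)) :=
      subsingleton_HH_of_isReg_zero n κ _ h₁ hreg₁ (i + 1) (by omega)
    have hex := Groth.Agent.Helper1.HHLes.exact_g_δ κ S hS i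
    refine ⟨fun y y' => ?_⟩
    obtain ⟨x, hx⟩ := (hex y).1 (Subsingleton.elim _ _)
    obtain ⟨x', hx'⟩ := (hex y').1 (Subsingleton.elim _ _)
    rw [← hx, ← hx', Subsingleton.elim x x']

end Good

end Groth.Agent.Helper1.QU
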