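import Mathlib
import Groth.Agent.Helper1.QU23
import Groth.Agent.Lead.PerfLib11
import Groth.Agent.Helper4.FinLocFree2

/-!
# Quot schemes, part 24: representability of the functor of quotients of `O^r(l)` on `P^n_ℤ` with
given Hilbert polynomial
-/

set_option autoImplicit false
set_option linter.style.haveILetI false
set_option linter.unusedSectionVars false

universe u
open CategoryTheory CategoryTheory.Limits AlgebraicGeometry Opposite

namespace Groth.Agent.Helper1.QU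

open Groth.Agent.Helper1.QT Groth.Agent.Helper1.MF Groth.Agent.Helper1.KzReg
open Groth.Agent.Helper1.ProjBC
open AlgebraicGeometry.Scheme.Modules

variable {n : ℕ} {Φ : Polynomial ℚ}

/-- the fibrewise conditions are invariant under isomorphisms -/
theorem GoodΦ.of_iso {𝓔 𝓔' : (PZ.{u} n).Modules} (i : 𝓔 ≅ 𝓔') (h : GoodΦ n 𝓔 Φ) :
    GoodΦ n 𝓔' Φ := by
  refine ⟨fun κ _ => ?_, fun κ _ S hS h₁ h₃ ⟨e⟩ hχ => ?_⟩
  · have h1 := h.h1 κ
    let j := (Scheme.Modules.pullback (γγ (Groth.Agent.Helper1.Fin.φ₀ κ) n)).mapIso i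
    exact @Equiv.subsingleton _ _ (Groth.Agent.Lead.BCField.HHlinEquiv κ j.symm 1).toEquiv h1
  · exact h.good κ S hS h₁ h₃
      ⟨e ≪≫ ((Scheme.Modules.pullback (γγ (Groth.Agent.Helper1.Fin.φ₀ κ) n)).mapIso i).symm⟩ hχ

/-- `O^r(l)(m) ≅ O^r(l + m)` -/
theorem nonempty_Etw_Fra (n r : ℕ) (l m a : ℤ) (h : a = l + m) :
    Nonempty (Etw n (Fra.{u} n r l) m ≅ Fra.{u} n r a) := by
  obtain ⟨e⟩ := Groth.Agent.Helper1.TwistMul.nonempty_twist_tensor_twist_iso
    (CohB1.polyGrading n (ULift.{u} ℤ)) (Groth.Agent.Helper1.PUP.hcovP n (R := ULift.{u} ℤ))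
    l m a h
  exact ⟨Groth.Agent.Lead.Ref1B.assoc _ _ _ ≪≫ tmIso (Iso.refl _) e⟩

theorem isCoh_Fra (n r : ℕ) (a : ℤ) : Coh.IsCoh (Fra.{u} n r a) :=
  Groth.Agent.Lead.Ref1B.isCoh_tensorMod _ _ (Groth.Agent.Helper1.Dev.isCoh_freeMod _ r)
    (Groth.Agent.Helper1.SerreFin.isCoh_of_isInvertible _ (isInvertible_Om n a))

theorem isFlatOver_Fra (n r : ℕ) (a : ℤ) :
    FlatMod.IsFlatOver (CohB1.ProjSpace.toSpec n (ULift.{u} ℤ)) (Fra.{u} n r a) := by
  haveI := Groth.Agent.Helper3.ProjSmooth.smooth_toSpec n (ULift.{u} ℤ)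
  rw [Groth.Agent.Helper1.FlatTw.isFlatOver_tensor_iff _ _ _ (isInvertible_Om n a)]
  exact Groth.Agent.Lead.PerfLib.isFlatOver_of_isFinLocFree _
    (Groth.Agent.Helper4.FinLocFree2.isFinLocFree_freeMod r)

/-- **representability of the functor of quotients of `O^r(l)` on `P^n_ℤ` with Hilbert
polynomial `Φ`** -/
theorem nonempty_repData_Fra (n r : ℕ) (l : ℤ) (Φ : Polynomial ℚ) :
    Nonempty (RepData n (Fra.{u} n r l) Φ) := by
  let Ψ : Polynomial ℚ := Φ.comp (Polynomial.X - Polynomial.C (l : ℚ))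
  obtain ⟨m₁, hm₁⟩ := exists_goodΦ_Fra.{u} r Ψ
  let a : ℤ := max m₁ 0
  let m : ℤ := a - l
  let Φ' : Polynomial ℚ := Φ.comp (Polynomial.X + Polynomial.C (m : ℚ))
  have hΦ' : ∀ i : ℤ, Φ'.eval (i : ℚ) = Ψ.eval ((i + a : ℤ) : ℚ) := by
    intro i
    simp only [Φ', Ψ, m, Polynomial.eval_comp, Polynomial.eval_add, Polynomial.eval_sub,
      Polynomial.eval_X, Polynomial.eval_C]
    congr 1
    push_cast
    ring
  have hg := hm₁ n a (le_max_left _ _) (le_max_right _ _) Φ' hΦ'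
  obtain ⟨i⟩ := nonempty_Etw_Fra.{u} n r l m a (by simp only [m]; ring)
  have hg' : GoodΦ n (Etw n (Fra.{u} n r l) m) Φ' := hg.of_iso i.symm
  have hcoh : Coh.IsCoh (Etw n (Fra.{u} n r l) m) :=
    Groth.Agent.Lead.PerfLib.isCoh_of_iso i.symm (isCoh_Fra n r a)
  have hfl : FlatMod.IsFlatOver (CohB1.ProjSpace.toSpec n (ULift.{u} ℤ))
      (Etw n (Fra.{u} n r l) m) := fun x =>
    Groth.Agent.Lead.FpqcSheaf.isFlatOverAt_of_iso _ i.symm x (isFlatOver_Fra n r a x)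
  obtain ⟨R⟩ := nonempty_repData hcoh hfl hg'
  have hΦ : ∀ r : ℤ, Φ'.eval (r : ℚ) = Φ.eval ((m + r : ℤ) : ℚ) := by
    intro i
    simp only [Φ', Polynomial.eval_comp, Polynomial.eval_add, Polynomial.eval_X,
      Polynomial.eval_C]
    congr 1
    push_cast
    ring
  obtain ⟨R', -⟩ := RepData.untwist Φ Φ' hΦ R
  exact ⟨R'⟩

end Groth.Agent.Helper1.QU
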