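import Mathlib
import Groth.Agent.Helper4.Scalar
import Groth.Agent.Helper4.AssSpec
import Groth.Agent.Lead.WDivB

/-!
# Quot schemes, part 25: submodules of a direct image from the generic fibre are flat over a
Dedekind base
-/

set_option autoImplicit false
set_option linter.style.haveILetI false
set_option linter.unusedSectionVars false

universe u
open CategoryTheory CategoryTheory.Limits AlgebraicGeometry Opposite

namespace Groth.Agent.Helper1.QU

open Groth.Agent.Helper4.Scalar
open AlgebraicGeometry.Scheme.Modules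

section Scalar

variable {X : Scheme.{u}}

theorem scalar_one (M : X.Modules) : scalar (1 : Γ(X, ⊤)) M = 𝟙 M := by
  apply Scheme.Modules.hom_ext
  intro U
  ext m
  rw [scalar_app]
  have h : res (1 : Γ(X, ⊤)) U = 1 := map_one _
  rw [h, one_smul]
  rfl

theorem scalar_mul (a b : Γ(X, ⊤)) (M : X.Modules) :
    scalar (a * b) M = scalar b M ≫ scalar a M := by
  apply Scheme.Modules.hom_ext
  intro U
  ext m
  change (scalar (a * b) M).app U m = (scalar a M).app U ((scalar b M).app U m)
  rw [scalar_app, scalar_app, scalar_app]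
  have h : res (a * b) U = res a U * res b U := map_mul _ _ _
  rw [h, mul_smul]

theorem isIso_scalar_of_isUnit (a : Γ(X, ⊤)) (ha : IsUnit a) (M : X.Modules) :
    IsIso (scalar a M) := by
  obtain ⟨u, rfl⟩ := ha
  refine ⟨scalar ((u⁻¹ : (Γ(X, ⊤))ˣ) : Γ(X, ⊤)) M, ?_, ?_⟩
  · rw [← scalar_mul, Units.inv_mul, scalar_one]
  · rw [← scalar_mul, Units.mul_inv, scalar_one]

/-- the stalk map of the multiplication by a global function -/
theorem stalkMapₗ_scalar (a : Γ(X, ⊤)) (M : X.Modules) (x : X) (m : M.presheaf.stalk x) :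
    RefHull.stalkMapₗ (scalar a M) x m = X.presheaf.germ ⊤ x trivial a • m := by
  obtain ⟨U, hx, s, rfl⟩ := TopCat.Presheaf.exists_germ_eq M.presheaf m
  rw [RefHull.stalkMapₗ_germ, scalar_app, Mero.germ_smul]
  congr 1
  exact TopCat.Presheaf.germ_res_apply X.presheaf (homOfLE (le_top : U ≤ ⊤)) x hx a

/-- multiplication by a global function which becomes invertible upstairs is injective on the
stalks of the submodules of a direct image -/
theorem smul_injective_of_mono_pushforward {Y Y' : Scheme.{u}} (j : Y' ⟶ Y) (a : Γ(Y, ⊤))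
    (ha : IsUnit (j.appTop a)) (F : Y'.Modules) (M : Y.Modules)
    (ι : M ⟶ (Scheme.Modules.pushforward j).obj F) [Mono ι] (x : Y) (m : M.presheaf.stalk x)
    (hm : Y.presheaf.germ ⊤ x trivial a • m = 0) : m = 0 := by
  haveI h1 : IsIso (scalar (j.appTop a) F) := isIso_scalar_of_isUnit _ ha F
  haveI h2 : IsIso (scalar a ((Scheme.Modules.pushforward j).obj F)) := by
    rw [← pushforward_scalar]
    infer_instance
  haveI h3 : Mono (scalar a M) := by
    have h := scalar_comm a ι
    haveI : Mono (scalar a M ≫ ι) := by rw [h]; infer_instance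
    exact mono_of_mono (scalar a M) ι
  have h4 := Groth.Agent.Lead.WDivB.stalkMapₗ_injective_of_mono (scalar a M) x
  apply h4
  rw [stalkMapₗ_scalar, hm, map_zero]

end Scalar

section Flat

variable (R : Type u) [CommRing R] [IsDedekindDomain R]

/-- the germs of the functions coming from the base ring -/
theorem algebraMap_stalk_eq (s : PrimeSpectrum.Top R) (r : R) :
    @algebraMap R ((Spec (CommRingCat.of R)).presheaf.stalk s) _ _
        (Groth.Agent.Helper4.AssSpec.algStalk (CommRingCat.of R) s) r =
      (Spec (CommRingCat.of R)).presheaf.germ ⊤ s trivial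
        ((Scheme.ΓSpecIso (CommRingCat.of R)).inv r) := rfl

/-- **submodules of a direct image from a scheme on which the nonzero elements of a Dedekind
domain `R` become invertible are flat over `Spec R`** -/
theorem isFlatOver_of_mono_pushforward {Y Y' : Scheme.{u}} (f : Y ⟶ Spec (CommRingCat.of R))
    (j : Y' ⟶ Y)
    (hunit : ∀ r : R, r ≠ 0 →
      IsUnit (j.appTop (f.appTop ((Scheme.ΓSpecIso (CommRingCat.of R)).inv r))))
    (F : Y'.Modules) (M : Y.Modules) (ι : M ⟶ (Scheme.Modules.pushforward j).obj F) [Mono ι] :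
    FlatMod.IsFlatOver f M := by
  intro x
  unfold FlatMod.IsFlatOverAt
  letI := FlatMod.moduleStalkOver f M x
  let s : PrimeSpectrum.Top R := f.base x
  letI : Algebra R ((Spec (CommRingCat.of R)).presheaf.stalk s) :=
    Groth.Agent.Helper4.AssSpec.algStalk (CommRingCat.of R) s
  haveI : IsLocalization.AtPrime ((Spec (CommRingCat.of R)).presheaf.stalk s) s.asIdeal :=
    Groth.Agent.Helper4.AssSpec.isLocStalk (CommRingCat.of R) s
  letI : Module R (M.presheaf.stalk x) :=
    Module.compHom _ (algebraMap R ((Spec (CommRingCat.of R)).presheaf.stalk s))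
  haveI : IsScalarTower R ((Spec (CommRingCat.of R)).presheaf.stalk s) (M.presheaf.stalk x) :=
    IsScalarTower.of_algebraMap_smul (fun r m => rfl)
  show Module.Flat ((Spec (CommRingCat.of R)).presheaf.stalk s) (M.presheaf.stalk x)
  rw [Module.flat_iff_of_isLocalization ((Spec (CommRingCat.of R)).presheaf.stalk s)
    s.asIdeal.primeCompl, IsDedekindDomain.flat_iff_torsion_eq_bot, Submodule.eq_bot_iff]
  intro m hm
  obtain ⟨⟨r, hr⟩, hrm⟩ := (Submodule.mem_torsion_iff m).1 hm
  have hr0 : r ≠ 0 := nonZeroDivisors.ne_zero hr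
  have hrm' : r • m = 0 := hrm
  apply smul_injective_of_mono_pushforward j
    (f.appTop ((Scheme.ΓSpecIso (CommRingCat.of R)).inv r)) (hunit r hr0) F M ι x m
  rw [← hrm']
  show _ = (f.stalkMap x).hom (algebraMap R ((Spec (CommRingCat.of R)).presheaf.stalk s) r) • m
  congr 1
  rw [algebraMap_stalk_eq]
  exact (Scheme.Hom.germ_stalkMap_apply f ⊤ x trivial _).symm

end Flat

end Groth.Agent.Helper1.QU
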