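import Mathlib
import Groth.Agent.Helper1.QU25
import Groth.Agent.Helper1.QT3
import Groth.Agent.Helper3.FlatPullEx
import Groth.Agent.Helper4.QcohGlue
import Groth.Agent.Helper4.QcohLimits
import Groth.Agent.Helper4.QcohEpi
import Groth.Agent.Helper3.DvrIsoB

/-!
# Quot schemes, part 26: flat limits over a discrete valuation ring
-/

set_option autoImplicit false
set_option linter.style.haveILetI false
set_option linter.unusedSectionVars false

universe u
open CategoryTheory CategoryTheory.Limits AlgebraicGeometry Opposite

namespace Groth.Agent.Helper1.QU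

open Groth.Agent.Helper1.QT
open AlgebraicGeometry.Scheme.Modules

section General

theorem exists_cokernel_iso_of_eq_kernelSubobject {𝒜 : Type*} [Category 𝒜] [Abelian 𝒜]
    {M F : 𝒜} (q : M ⟶ F) [Epi q] (K : Subobject M) (hK : K = kernelSubobject q) :
    ∃ e : cokernel K.arrow ≅ F, cokernel.π K.arrow ≫ e.hom = q := by
  subst hK
  exact exists_cokernel_kernelSubobject_iso q

variable {X : Scheme.{u}} {E G : X.Modules} (φ : E ⟶ G)

/-- the quotient by the kernel embeds into the target -/
theorem exists_mono_cokernel_kernelSubobject :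
    ∃ m : cokernel (kernelSubobject φ).arrow ⟶ G, Mono m ∧
      cokernel.π (kernelSubobject φ).arrow ≫ m = φ := by
  have hk : kernelSubobject φ = kernelSubobject (factorThruImage φ) := by
    conv_lhs => rw [← image.fac φ]
    exact kernelSubobject_comp_mono (factorThruImage φ) (image.ι φ)
  obtain ⟨e, he⟩ := exists_cokernel_iso_of_eq_kernelSubobject (factorThruImage φ) _ hk
  refine ⟨e.hom ≫ image.ι φ, inferInstance, ?_⟩
  rw [← Category.assoc, he, image.fac]

/-- the quotient by the kernel of a morphism from a coherent module to a quasi-coherent one is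
coherent -/
theorem isCoh_cokernel_kernelSubobject (hE : Coh.IsCoh E) [hG : G.IsQuasicoherent] :
    Coh.IsCoh (cokernel (kernelSubobject φ).arrow) := by
  haveI : E.IsQuasicoherent := hE.1
  haveI h1 : (kernel φ).IsQuasicoherent := Groth.Agent.Helper4.QcohLimits.isQuasicoherent_kernel φ
  haveI h2 : ((kernelSubobject φ : Subobject E) : X.Modules).IsQuasicoherent :=
    Groth.Agent.Helper4.QcohLimits.isQuasicoherent_of_iso (kernelSubobjectIso φ).symm
  haveI h3 : (cokernel (kernelSubobject φ).arrow).IsQuasicoherent :=
    Groth.Agent.Helper4.QcohLimits.isQuasicoherent_cokernel _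
  exact ⟨h3, Groth.Agent.Helper4.QcohEpi.isFiniteType_of_epi
    (cokernel.π (kernelSubobject φ).arrow) hE.2⟩

end General

section Dvr

variable (R : Type u) [CommRing R] [IsDomain R] [IsDiscreteValuationRing R]

/-- the generic point of the spectrum of a discrete valuation ring is open -/
theorem isOpenImmersion_specFractionRing :
    IsOpenImmersion (Spec.map (CommRingCat.ofHom (algebraMap R (FractionRing R)))) := by
  obtain ⟨t, ht⟩ := IsDiscreteValuationRing.exists_irreducible R
  haveI := Groth.Agent.Helper3.DvrIso.isLocalization_away_fractionRing R t ht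
  exact IsOpenImmersion.of_isLocalization t

variable {R} {Y Y' : Scheme.{u}} {f : Y ⟶ Spec (CommRingCat.of R)} {j : Y' ⟶ Y}
  {g : Y' ⟶ Spec (CommRingCat.of (FractionRing R))}

/-- the nonzero elements of `R` are invertible on a scheme over the fraction field -/
theorem isUnit_of_comm_fractionRing
    (w : j ≫ f = g ≫ Spec.map (CommRingCat.ofHom (algebraMap R (FractionRing R))))
    (r : R) (hr : r ≠ 0) :
    IsUnit (j.appTop (f.appTop ((Scheme.ΓSpecIso (CommRingCat.of R)).inv r))) := by
  have h1 : j.appTop (f.appTop ((Scheme.ΓSpecIso (CommRingCat.of R)).inv r)) =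
      (j ≫ f).appTop ((Scheme.ΓSpecIso (CommRingCat.of R)).inv r) := by
    rw [Scheme.Hom.comp_appTop]
    rfl
  rw [h1, w, Scheme.Hom.comp_appTop]
  have h2 := Scheme.ΓSpecIso_inv_naturality (CommRingCat.ofHom (algebraMap R (FractionRing R)))
  have h3 : (Spec.map (CommRingCat.ofHom (algebraMap R (FractionRing R)))).appTop
      ((Scheme.ΓSpecIso (CommRingCat.of R)).inv r) =
      (Scheme.ΓSpecIso (CommRingCat.of (FractionRing R))).inv
        (algebraMap R (FractionRing R) r) :=
    (congrArg (fun φ => φ.hom r) h2).symm
  show IsUnit (g.appTop ((Spec.map (CommRingCat.ofHom (algebraMap R (FractionRing R)))).appTop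
    ((Scheme.ΓSpecIso (CommRingCat.of R)).inv r)))
  rw [h3]
  have h4 : IsUnit (algebraMap R (FractionRing R) r) :=
    IsUnit.mk0 _ (fun h => hr ((IsFractionRing.injective R (FractionRing R))
      (h.trans (map_zero _).symm)))
  exact (h4.map (Scheme.ΓSpecIso (CommRingCat.of (FractionRing R))).inv.hom).map g.appTop.hom

variable (hsq : IsPullback j g f (Spec.map (CommRingCat.ofHom (algebraMap R (FractionRing R)))))

include hsq in
theorem isOpenImmersion_of_isPullback_fractionRing : IsOpenImmersion j :=
  MorphismProperty.of_isPullback (P := @IsOpenImmersion) hsq.flip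
    (isOpenImmersion_specFractionRing R)

include hsq in
theorem isAffineHom_of_isPullback_fractionRing : IsAffineHom j :=
  MorphismProperty.of_isPullback (P := @IsAffineHom) hsq.flip inferInstance

include hsq in
/-- **flat limits over a discrete valuation ring** -/
theorem flatLimit (E : Y.Modules) (F : Y'.Modules) (q : (Scheme.Modules.pullback j).obj E ⟶ F)
    [Epi q] :
    FlatMod.IsFlatOver f (cokernel (kernelSubobject
      ((Scheme.Modules.pullbackPushforwardAdjunction j).homEquiv E F q)).arrow) ∧
    ∃ e : (Scheme.Modules.pullback j).obj (cokernel (kernelSubobject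
        ((Scheme.Modules.pullbackPushforwardAdjunction j).homEquiv E F q)).arrow) ≅ F,
      (Scheme.Modules.pullback j).map (cokernel.π (kernelSubobject
        ((Scheme.Modules.pullbackPushforwardAdjunction j).homEquiv E F q)).arrow) ≫ e.hom = q := by
  haveI := isOpenImmersion_of_isPullback_fractionRing hsq
  set φ := (Scheme.Modules.pullbackPushforwardAdjunction j).homEquiv E F q with hφ
  obtain ⟨m, hm, hmφ⟩ := exists_mono_cokernel_kernelSubobject φ
  refine ⟨isFlatOver_of_mono_pushforward R f j (isUnit_of_comm_fractionRing hsq.w) F _ m, ?_⟩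
  haveI : IsIso (Scheme.Modules.pullbackPushforwardAdjunction j).counit := inferInstance
  haveI h1 : Mono ((Scheme.Modules.pullback j).map m) :=
    Groth.Agent.Helper3.FlatPullEx.mono_pullback j m
  let c := (Scheme.Modules.pullbackPushforwardAdjunction j).counit.app F
  have hq : (Scheme.Modules.pullback j).map (cokernel.π (kernelSubobject φ).arrow) ≫
      (Scheme.Modules.pullback j).map m ≫ c = q := by
    rw [← Category.assoc, ← Functor.map_comp, hmφ, hφ, Adjunction.homEquiv_unit,
      Functor.map_comp, Category.assoc]
    have hn := (Scheme.Modules.pullbackPushforwardAdjunction j).counit_naturality q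
    have ht := (Scheme.Modules.pullbackPushforwardAdjunction j).left_triangle_components E
    show _ ≫ _ ≫ (Scheme.Modules.pullbackPushforwardAdjunction j).counit.app F = q
    rw [hn, ← Category.assoc, ht, Category.id_comp]
  haveI h2 : Mono ((Scheme.Modules.pullback j).map m ≫ c) := mono_comp _ _
  haveI h3 : Epi ((Scheme.Modules.pullback j).map m ≫ c) := by
    haveI : Epi ((Scheme.Modules.pullback j).map (cokernel.π (kernelSubobject φ).arrow) ≫
        (Scheme.Modules.pullback j).map m ≫ c) := by rw [hq]; infer_instance
    exact epi_of_epi ((Scheme.Modules.pullback j).map (cokernel.π (kernelSubobject φ).arrow)) _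
  haveI h4 : IsIso ((Scheme.Modules.pullback j).map m ≫ c) := isIso_of_mono_of_epi _
  exact ⟨asIso ((Scheme.Modules.pullback j).map m ≫ c), hq⟩

include hsq in
/-- the flat limit is coherent -/
theorem isCoh_flatLimit (E : Y.Modules) (F : Y'.Modules)
    (q : (Scheme.Modules.pullback j).obj E ⟶ F) (hE : Coh.IsCoh E) [F.IsQuasicoherent] :
    Coh.IsCoh (cokernel (kernelSubobject
      ((Scheme.Modules.pullbackPushforwardAdjunction j).homEquiv E F q)).arrow) := by
  haveI := isOpenImmersion_of_isPullback_fractionRing hsq
  haveI := isAffineHom_of_isPullback_fractionRing hsq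
  haveI : ((Scheme.Modules.pushforward j).obj F).IsQuasicoherent :=
    Groth.Agent.Helper4.QcohGlue.isQuasicoherent_pushforward j F
  exact isCoh_cokernel_kernelSubobject _ hE

end Dvr

end Groth.Agent.Helper1.QU
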