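import Mathlib
import Groth.Agent.Helper1.QU24
import Groth.Agent.Helper1.QU26
import Groth.Agent.Helper5.DvrProper

/-!
# Quot schemes, part 27: the Hilbert function of a flat family is locally constant; the existence
part of the valuative criterion for the Quot scheme
-/

set_option autoImplicit false
set_option linter.style.haveILetI false
set_option linter.unusedSectionVars false

universe u
open CategoryTheory CategoryTheory.Limits AlgebraicGeometry Opposite

namespace Groth.Agent.Helper1.QU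

open Groth.Agent.Helper1.QT Groth.Agent.Helper1.HT
open AlgebraicGeometry.Scheme.Modules

section LocConst

variable (n : ℕ)

/-- the pullback along the map induced by the identity -/
noncomputable def pullbackProjMapIdIso {T : Scheme.{u}} (F : (CohB1.ProjSpaceOver n T).Modules) :
    (Scheme.Modules.pullback (FGA.projMap n (𝟙 T))).obj F ≅ F :=
  (Scheme.Modules.pullbackCongr (projMap_id n T)).app F ≪≫ (Scheme.Modules.pullbackId _).app F

/-- the Hilbert function of a flat family over a Noetherian base is locally constant -/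
theorem isLocallyConstant_hilbFn_of_isNoetherian {T : Scheme.{u}} [IsNoetherian T]
    (F : (CohB1.ProjSpaceOver n T).Modules) (hF : Coh.IsCoh F)
    (hfl : FlatMod.IsFlatOver (πT n T) F) :
    IsLocallyConstant (fun t : T => Groth.Agent.Helper1.HS.hilbFn T n F t) := by
  obtain ⟨P, St, e, -, hP, -, -, -, -, huniv⟩ := exists_flattening T n F hF
  have hfl' : FlatMod.IsFlatOver (CohB1.ProjSpaceOver.toBase n T)
      ((Scheme.Modules.pullback (FGA.projMap n (𝟙 T))).obj F) := fun x =>
    Groth.Agent.Lead.FpqcSheaf.isFlatOverAt_of_iso _ (pullbackProjMapIdIso n F).symm x (hfl x)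
  obtain ⟨hlc, -⟩ := huniv T (𝟙 T) hfl'
  rw [IsLocallyConstant.iff_exists_open] at hlc ⊢
  intro t₀
  obtain ⟨U, hU, ht₀, hUc⟩ := hlc t₀
  refine ⟨U, hU, ht₀, fun t ht => ?_⟩
  funext m
  have h0 : P t = P t₀ := hUc t ht
  have h1 := hP t m
  have h2 := hP t₀ m
  rw [h0, ← h2] at h1
  exact_mod_cast h1

/-- **the Hilbert function of a flat family is locally constant** -/
theorem isLocallyConstant_hilbFn {T : Scheme.{u}} [IsLocallyNoetherian T]
    (F : (CohB1.ProjSpaceOver n T).Modules) (hF : Coh.IsCoh F)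
    (hfl : FlatMod.IsFlatOver (πT n T) F) :
    IsLocallyConstant (fun t : T => Groth.Agent.Helper1.HS.hilbFn T n F t) := by
  rw [IsLocallyConstant.iff_exists_open]
  intro t₀
  obtain ⟨V, hV, ht₀V⟩ := Groth.Agent.Helper4.QcohLimits.exists_affine_nhd t₀
  haveI : CompactSpace ↥(V : Scheme.{u}) := isCompact_iff_compactSpace.mp hV.isCompact
  haveI : IsNoetherian (V : Scheme.{u}) := {}
  obtain ⟨hc, hf⟩ := isCoh_isFlatOver_pullback n V.ι hF hfl
  have hlc := isLocallyConstant_hilbFn_of_isNoetherian n _ hc hf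
  rw [IsLocallyConstant.iff_exists_open] at hlc
  obtain ⟨U', hU', ht₀', hUc⟩ := hlc ⟨t₀, ht₀V⟩
  refine ⟨V.ι ''ᵁ ⟨U', hU'⟩, (V.ι ''ᵁ ⟨U', hU'⟩).isOpen, ⟨⟨t₀, ht₀V⟩, ht₀', rfl⟩, ?_⟩
  rintro _ ⟨t', ht', rfl⟩
  funext m
  have h1 := QT.hilbFn_pullback n V.ι hF t' m
  have h2 := QT.hilbFn_pullback n V.ι hF ⟨t₀, ht₀V⟩ m
  have h3 := congrFun (hUc t' ht') m
  exact h1.symm.trans (h3.trans h2)

end LocConst

section Dvr

variable {n : ℕ} {𝓔 : (PZ.{u} n).Modules} {Φ : Polynomial ℚ}

/-- having Hilbert polynomial `Φ` is stable under pullback -/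
theorem hasHP_qpull {T S : Scheme.{u}} (φ : T ⟶ S) (K : Subobject (ET n 𝓔 S))
    (hc : Coh.IsCoh (cokernel K.arrow)) (hK : HasHP Φ K) : HasHP Φ (qpull n 𝓔 φ K) := by
  intro t m
  obtain ⟨e, -⟩ := exists_cokernel_qpull_iso n 𝓔 φ K
  rw [hilbFn_congr e t m, QT.hilbFn_pullback n φ hc t m]
  exact hK (φ t) m

/-- **the existence part of the valuative criterion for the Quot scheme** -/
theorem RepData.dvrExistence (h𝓔 : Coh.IsCoh 𝓔) (R : RepData n 𝓔 Φ) :
    Groth.Agent.Helper5.DvrProper.DvrExistence (specULiftZIsTerminal.from R.Q) := by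
  intro A _ _ _ x y hxy
  haveI : IsLocallyNoetherian (Spec (CommRingCat.of A)) := inferInstance
  haveI : IsLocallyNoetherian (Spec (CommRingCat.of (FractionRing A))) := inferInstance
  let Kx : QSet n 𝓔 (Spec (CommRingCat.of (FractionRing A))) := QSet.pull n 𝓔 x R.Ku
  have hKx : HasHP Φ Kx.1 := hasHP_qpull x R.Ku.1 R.Ku.2.1 R.hp
  have hsq := isPullback_projMap n (Spec.map (CommRingCat.ofHom (algebraMap A (FractionRing A))))
  haveI : (cokernel Kx.1.arrow).IsQuasicoherent := Kx.2.1.1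
  let q₀ : (Scheme.Modules.pullback (FGA.projMap n
      (Spec.map (CommRingCat.ofHom (algebraMap A (FractionRing A)))))).obj
        (ET n 𝓔 (Spec (CommRingCat.of A))) ⟶ cokernel Kx.1.arrow :=
    (Eiso n 𝓔 (Spec.map (CommRingCat.ofHom (algebraMap A (FractionRing A))))).hom ≫
      cokernel.π Kx.1.arrow
  haveI : Epi q₀ := epi_comp _ _
  obtain ⟨hfl, e, he⟩ := flatLimit hsq (ET n 𝓔 (Spec (CommRingCat.of A))) _ q₀
  have hcoh := isCoh_flatLimit hsq (ET n 𝓔 (Spec (CommRingCat.of A))) _ q₀ (isCoh_ET h𝓔)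
  let KA : QSet n 𝓔 (Spec (CommRingCat.of A)) := ⟨_, hcoh, hfl⟩
  have hpull : qpull n 𝓔 (Spec.map (CommRingCat.ofHom (algebraMap A (FractionRing A)))) KA.1 =
      Kx.1 := by
    rw [qpull_eq_kernel]
    have h1 : pq n 𝓔 (Spec.map (CommRingCat.ofHom (algebraMap A (FractionRing A))))
        (cokernel.π KA.1.arrow) ≫ e.hom = cokernel.π Kx.1.arrow := by
      unfold pq
      rw [Category.assoc, he, Iso.inv_hom_id_assoc]
    rw [kernelSubobject_eq_of_iso _ _ e h1]
    exact kernelSubobject_cokernel_π Kx.1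
  have hHP : HasHP Φ KA.1 := by
    intro t m
    haveI : PreconnectedSpace ↥(Spec (CommRingCat.of A)) :=
      inferInstanceAs (PreconnectedSpace (PrimeSpectrum A))
    let pt : ↥(Spec (CommRingCat.of (FractionRing A))) :=
      IsLocalRing.closedPoint (FractionRing A)
    have hlc := isLocallyConstant_hilbFn n (cokernel KA.1.arrow) hcoh hfl
    have h1 := congrFun (hlc.apply_eq_of_preconnectedSpace t
      ((Spec.map (CommRingCat.ofHom (algebraMap A (FractionRing A)))) pt)) m
    have h2 := QT.hilbFn_pullback n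
      (Spec.map (CommRingCat.ofHom (algebraMap A (FractionRing A)))) hcoh pt m
    have h3 := hilbFn_congr e pt m
    have h4 := hKx pt m
    rw [h1, ← h2, h3]
    exact h4
  obtain ⟨l, hl, -⟩ := R.univ (Spec (CommRingCat.of A)) KA hHP
  refine ⟨l, specULiftZIsTerminal.hom_ext _ _, ?_⟩
  obtain ⟨l', hl', huniq⟩ := R.univ (Spec (CommRingCat.of (FractionRing A))) Kx hKx
  have h1 : qpull n 𝓔 (Spec.map (CommRingCat.ofHom (algebraMap A (FractionRing A))) ≫ l)
      R.Ku.1 = Kx.1 := by
    rw [← qpull_comp, hl, hpull]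
  have h2 : qpull n 𝓔 x R.Ku.1 = Kx.1 := rfl
  exact (huniq _ h1).trans (huniq _ h2).symm

end Dvr

end Groth.Agent.Helper1.QU
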