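import Mathlib
import Groth.Agent.Helper1.BasisIso
import Groth.Agent.Helper1.SY16

/-!
# Modules on a scheme covered by two disjoint open subschemes are determined by their restrictions
-/

set_option autoImplicit false

namespace Groth.Agent.Helper1.CI

open CategoryTheory Limits AlgebraicGeometry TopologicalSpace Opposite

universe u

variable {P U₁ U₂ : Scheme.{u}} (j₁ : U₁ ⟶ P) (j₂ : U₂ ⟶ P) [IsOpenImmersion j₁]
  [IsOpenImmersion j₂]

/-- the comparison of a module with the sum of the direct images of its restrictions -/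
noncomputable def glueUnit (M : P.Modules) :
    M ⟶ (Scheme.Modules.pushforward j₁).obj (M.restrict j₁) ⊞
      (Scheme.Modules.pushforward j₂).obj (M.restrict j₂) :=
  biprod.lift ((Scheme.Modules.restrictAdjunction j₁).unit.app M)
    ((Scheme.Modules.restrictAdjunction j₂).unit.app M)

theorem subsingleton_of_eq_bot (M : P.Modules) {V : P.Opens} (hV : V = ⊥) :
    Subsingleton Γ(M, V) := by
  refine ⟨fun a b => ?_⟩
  apply Groth.Agent.Helper4.TwistExt.eq_of_cover M V
  intro y hy
  rw [hV] at hy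
  exact hy.elim

theorem image_preimage_eq_of_le {V : P.Opens} (hV : V ≤ j₁.opensRange) :
    j₁ ''ᵁ (j₁ ⁻¹ᵁ V) = V := by
  rw [Scheme.Hom.image_preimage_eq_opensRange_inf]
  exact inf_eq_right.2 hV

theorem image_preimage_eq_bot_of_le (hinf : j₁.opensRange ⊓ j₂.opensRange = ⊥) {V : P.Opens}
    (hV : V ≤ j₁.opensRange) : j₂ ''ᵁ (j₂ ⁻¹ᵁ V) = ⊥ := by
  rw [Scheme.Hom.image_preimage_eq_opensRange_inf, eq_bot_iff, ← hinf]
  exact le_inf (inf_le_right.trans hV) inf_le_left

theorem map_bijective_of_eq (M : P.Modules) {V W : P.Opens} (h : W ≤ V) (e : W = V) :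
    Function.Bijective (M.presheaf.map (homOfLE h).op) := by
  subst e
  have : (homOfLE h).op = 𝟙 _ := rfl
  rw [this, M.presheaf.map_id]
  exact Function.bijective_id

/-- bijectivity of the comparison on sections over an open inside the first piece -/
theorem glueUnit_app_bijective_left (hinf : j₁.opensRange ⊓ j₂.opensRange = ⊥) (M : P.Modules)
    {V : P.Opens} (hV : V ≤ j₁.opensRange) :
    Function.Bijective ((glueUnit j₁ j₂ M).app V) := by
  set A := (Scheme.Modules.pushforward j₁).obj (M.restrict j₁) with hA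
  set B := (Scheme.Modules.pushforward j₂).obj (M.restrict j₂) with hB
  have hfst : ∀ m : Γ(M, V), (biprod.fst : A ⊞ B ⟶ A).app V ((glueUnit j₁ j₂ M).app V m) =
      M.presheaf.map (homOfLE (j₁.image_preimage_le V)).op m := by
    intro m
    have := congrArg (fun k : M ⟶ A => k.app V m)
      (biprod.lift_fst ((Scheme.Modules.restrictAdjunction j₁).unit.app M)
        ((Scheme.Modules.restrictAdjunction j₂).unit.app M))
    exact this
  have hbij := map_bijective_of_eq M (j₁.image_preimage_le V) (image_preimage_eq_of_le j₁ hV)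
  haveI hsub : Subsingleton Γ(B, V) :=
    subsingleton_of_eq_bot M (image_preimage_eq_bot_of_le j₁ j₂ hinf hV)
  constructor
  · intro m m' hmm
    apply hbij.1
    rw [← hfst, ← hfst, hmm]
  · intro x
    obtain ⟨m, hm⟩ := hbij.2 ((biprod.fst : A ⊞ B ⟶ A).app V x)
    refine ⟨m, ?_⟩
    rw [Groth.Agent.Helper1.SY.biprod_total_app V x,
      Groth.Agent.Helper1.SY.biprod_total_app V ((glueUnit j₁ j₂ M).app V m), hfst, hm]
    congr 2
    exact Subsingleton.elim _ _

/-- bijectivity of the comparison on sections over an open inside the second piece -/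
theorem glueUnit_app_bijective_right (hinf : j₁.opensRange ⊓ j₂.opensRange = ⊥) (M : P.Modules)
    {V : P.Opens} (hV : V ≤ j₂.opensRange) :
    Function.Bijective ((glueUnit j₁ j₂ M).app V) := by
  set A := (Scheme.Modules.pushforward j₁).obj (M.restrict j₁) with hA
  set B := (Scheme.Modules.pushforward j₂).obj (M.restrict j₂) with hB
  have hsnd : ∀ m : Γ(M, V), (biprod.snd : A ⊞ B ⟶ B).app V ((glueUnit j₁ j₂ M).app V m) =
      M.presheaf.map (homOfLE (j₂.image_preimage_le V)).op m := by
    intro m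
    have := congrArg (fun k : M ⟶ B => k.app V m)
      (biprod.lift_snd ((Scheme.Modules.restrictAdjunction j₁).unit.app M)
        ((Scheme.Modules.restrictAdjunction j₂).unit.app M))
    exact this
  have hbij := map_bijective_of_eq M (j₂.image_preimage_le V) (image_preimage_eq_of_le j₂ hV)
  haveI hsub : Subsingleton Γ(A, V) :=
    subsingleton_of_eq_bot M (image_preimage_eq_bot_of_le j₂ j₁ (by rw [inf_comm]; exact hinf) hV)
  constructor
  · intro m m' hmm
    apply hbij.1
    rw [← hsnd, ← hsnd, hmm]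
  · intro x
    obtain ⟨m, hm⟩ := hbij.2 ((biprod.snd : A ⊞ B ⟶ B).app V x)
    refine ⟨m, ?_⟩
    rw [Groth.Agent.Helper1.SY.biprod_total_app V x,
      Groth.Agent.Helper1.SY.biprod_total_app V ((glueUnit j₁ j₂ M).app V m), hsnd, hm]
    congr 2
    exact Subsingleton.elim _ _

/-- the comparison is an isomorphism when the two pieces are disjoint and cover -/
theorem isIso_glueUnit (hinf : j₁.opensRange ⊓ j₂.opensRange = ⊥)
    (hsup : j₁.opensRange ⊔ j₂.opensRange = ⊤) (M : P.Modules) : IsIso (glueUnit j₁ j₂ M) := by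
  refine Groth.Agent.Helper1.BasisIso.isIso_of_bijective_on_basis (glueUnit j₁ j₂ M)
    {V | V ≤ j₁.opensRange ∨ V ≤ j₂.opensRange} ?_ ?_
  · intro U x hx
    have hx' : x ∈ j₁.opensRange ⊔ j₂.opensRange := by rw [hsup]; trivial
    rcases hx' with h | h
    · exact ⟨U ⊓ j₁.opensRange, Or.inl inf_le_right, ⟨hx, h⟩, inf_le_left⟩
    · exact ⟨U ⊓ j₂.opensRange, Or.inr inf_le_right, ⟨hx, h⟩, inf_le_left⟩
  · rintro V (hV | hV)
    · exact glueUnit_app_bijective_left j₁ j₂ hinf M hV
    · exact glueUnit_app_bijective_right j₁ j₂ hinf M hV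

/-- two modules with isomorphic restrictions to two disjoint covering open subschemes are
isomorphic -/
theorem nonempty_iso_of_restrict_iso (hinf : j₁.opensRange ⊓ j₂.opensRange = ⊥)
    (hsup : j₁.opensRange ⊔ j₂.opensRange = ⊤) (M N : P.Modules)
    (α₁ : M.restrict j₁ ≅ N.restrict j₁) (α₂ : M.restrict j₂ ≅ N.restrict j₂) :
    Nonempty (M ≅ N) := by
  haveI := isIso_glueUnit j₁ j₂ hinf hsup M
  haveI := isIso_glueUnit j₁ j₂ hinf hsup N
  exact ⟨asIso (glueUnit j₁ j₂ M) ≪≫
    biprod.mapIso ((Scheme.Modules.pushforward j₁).mapIso α₁)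
      ((Scheme.Modules.pushforward j₂).mapIso α₂) ≪≫ (asIso (glueUnit j₁ j₂ N)).symm⟩

/-- the same with inverse images instead of restrictions -/
theorem nonempty_iso_of_pullback_iso (hinf : j₁.opensRange ⊓ j₂.opensRange = ⊥)
    (hsup : j₁.opensRange ⊔ j₂.opensRange = ⊤) (M N : P.Modules)
    (β₁ : (Scheme.Modules.pullback j₁).obj M ≅ (Scheme.Modules.pullback j₁).obj N)
    (β₂ : (Scheme.Modules.pullback j₂).obj M ≅ (Scheme.Modules.pullback j₂).obj N) :
    Nonempty (M ≅ N) :=
  nonempty_iso_of_restrict_iso j₁ j₂ hinf hsup M N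
    ((Scheme.Modules.restrictFunctorIsoPullback j₁).app M ≪≫ β₁ ≪≫
      ((Scheme.Modules.restrictFunctorIsoPullback j₁).app N).symm)
    ((Scheme.Modules.restrictFunctorIsoPullback j₂).app M ≪≫ β₂ ≪≫
      ((Scheme.Modules.restrictFunctorIsoPullback j₂).app N).symm)

end Groth.Agent.Helper1.CI
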