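import Mathlib
import Groth.Agent.Helper1.QU26
import Groth.Agent.Helper1.CI2
import Groth.Agent.Helper4.SubSec

/-!
# Quot schemes, part 28: gluing quotients of a module along a family of open immersions with
disjoint images
-/

set_option autoImplicit false
set_option linter.style.haveILetI false
set_option linter.unusedSectionVars false

universe u
open CategoryTheory CategoryTheory.Limits AlgebraicGeometry Opposite

namespace Groth.Agent.Helper1.QU

open Groth.Agent.Helper1.QT
open AlgebraicGeometry.Scheme.Modules

section Glue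

variable {Y : Scheme.{u}} {I : Type u}

/-- sections of a product are determined by their components -/
theorem pi_app_ext (M : I → Y.Modules) (W : Y.Opens) (s t : Γ(∏ᶜ M, W))
    (h : ∀ b, (Pi.π M b).app W s = (Pi.π M b).app W t) : s = t := by
  let F : Y.Modules ⥤ AddCommGrpCat.{u} :=
    Scheme.Modules.toPresheaf Y ⋙ (evaluation (TopologicalSpace.Opens Y)ᵒᵖ AddCommGrpCat.{u}).obj (op W)
  haveI h1 : PreservesLimitsOfShape (Discrete I) (Scheme.Modules.toPresheaf Y) := inferInstance
  haveI h2 : PreservesLimitsOfShape (Discrete I)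
      ((evaluation (TopologicalSpace.Opens Y)ᵒᵖ AddCommGrpCat.{u}).obj (op W)) := inferInstance
  haveI : PreservesLimitsOfShape (Discrete I) F := comp_preservesLimitsOfShape _ _
  have hl := isLimitOfPreserves F (productIsProduct M)
  exact Concrete.isLimit_ext _ hl s t (fun ⟨b⟩ => h b)

variable {U : I → Scheme.{u}} (j : ∀ a, U a ⟶ Y) [∀ a, IsOpenImmersion (j a)]
  (hdisj : ∀ a b, a ≠ b → (j a).opensRange ⊓ (j b).opensRange = ⊥)
  (C : ∀ a, (U a).Modules)

include hdisj in
theorem preimage_image_eq_bot (a b : I) (hab : b ≠ a) (V : (U a).Opens) :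
    (j b) ⁻¹ᵁ ((j a) ''ᵁ V) = ⊥ := by
  rw [eq_bot_iff]
  intro x hx
  have h1 : (j b) x ∈ (j a).opensRange := by
    obtain ⟨y, -, hy⟩ := hx
    exact ⟨y, hy⟩
  have h2 : (j b) x ∈ (j b).opensRange := ⟨x, rfl⟩
  have h3 : (j b) x ∈ (j a).opensRange ⊓ (j b).opensRange := ⟨h1, h2⟩
  rw [hdisj a b (Ne.symm hab)] at h3
  exact h3.elim

include hdisj in
/-- the restriction to one of the opens of the product of the direct images is the factor -/
theorem mono_restrict_pi_π (a : I) :
    Mono ((Scheme.Modules.restrictFunctor (j a)).map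
      (Pi.π (fun b => (Scheme.Modules.pushforward (j b)).obj (C b)) a)) := by
  apply Groth.Agent.Helper4.SubSec.mono_of_app_injective
  intro V
  rw [injective_iff_map_eq_zero]
  intro s hs
  apply pi_app_ext (fun b => (Scheme.Modules.pushforward (j b)).obj (C b)) ((j a) ''ᵁ V) s 0
  intro b
  by_cases hb : b = a
  · subst hb
    rw [map_zero]
    exact hs
  · haveI : Subsingleton Γ(C b, (j b) ⁻¹ᵁ ((j a) ''ᵁ V)) :=
      Groth.Agent.Helper1.CI.subsingleton_of_eq_bot (C b)
        (preimage_image_eq_bot j hdisj a b hb V)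
    exact Subsingleton.elim (α := Γ(C b, (j b) ⁻¹ᵁ ((j a) ''ᵁ V))) _ _

include hdisj in
theorem mono_pullback_pi_π (a : I) :
    Mono ((Scheme.Modules.pullback (j a)).map
      (Pi.π (fun b => (Scheme.Modules.pushforward (j b)).obj (C b)) a)) := by
  haveI h := mono_restrict_pi_π j hdisj C a
  let iso := Scheme.Modules.restrictFunctorIsoPullback (j a)
  have hn := iso.hom.naturality (Pi.π (fun b => (Scheme.Modules.pushforward (j b)).obj (C b)) a)
  haveI : Mono (iso.hom.app _ ≫ (Scheme.Modules.pullback (j a)).map
      (Pi.π (fun b => (Scheme.Modules.pushforward (j b)).obj (C b)) a)) := by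
    rw [← hn]
    exact mono_comp _ _
  have e : (Scheme.Modules.pullback (j a)).map
      (Pi.π (fun b => (Scheme.Modules.pushforward (j b)).obj (C b)) a) =
      iso.inv.app _ ≫ (iso.hom.app _ ≫ (Scheme.Modules.pullback (j a)).map
        (Pi.π (fun b => (Scheme.Modules.pushforward (j b)).obj (C b)) a)) := by
    rw [← Category.assoc, Iso.inv_hom_id_app, Category.id_comp]
  rw [e]
  exact mono_comp _ _

include hdisj in
/-- **gluing quotients of a module along open immersions with disjoint images** -/
theorem glueQuot (E : Y.Modules) (q : ∀ a, (Scheme.Modules.pullback (j a)).obj E ⟶ C a)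
    [∀ a, Epi (q a)] (a : I) :
    ∃ e : (Scheme.Modules.pullback (j a)).obj (cokernel (kernelSubobject
        (Pi.lift fun b => (Scheme.Modules.pullbackPushforwardAdjunction (j b)).homEquiv E (C b)
          (q b))).arrow) ≅ C a,
      (Scheme.Modules.pullback (j a)).map (cokernel.π (kernelSubobject
        (Pi.lift fun b => (Scheme.Modules.pullbackPushforwardAdjunction (j b)).homEquiv E (C b)
          (q b))).arrow) ≫ e.hom = q a := by
  set φ : E ⟶ ∏ᶜ fun b => (Scheme.Modules.pushforward (j b)).obj (C b) :=
    Pi.lift fun b => (Scheme.Modules.pullbackPushforwardAdjunction (j b)).homEquiv E (C b) (q b)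
    with hφ
  obtain ⟨m, hm, hmφ⟩ := exists_mono_cokernel_kernelSubobject φ
  haveI : IsIso (Scheme.Modules.pullbackPushforwardAdjunction (j a)).counit := inferInstance
  haveI h1 : Mono ((Scheme.Modules.pullback (j a)).map m) :=
    Groth.Agent.Helper3.FlatPullEx.mono_pullback (j a) m
  haveI h1' := mono_pullback_pi_π j hdisj C a
  let c := (Scheme.Modules.pullbackPushforwardAdjunction (j a)).counit.app (C a)
  let μ := (Scheme.Modules.pullback (j a)).map m ≫ (Scheme.Modules.pullback (j a)).map
      (Pi.π (fun b => (Scheme.Modules.pushforward (j b)).obj (C b)) a) ≫ c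
  have hq : (Scheme.Modules.pullback (j a)).map (cokernel.π (kernelSubobject φ).arrow) ≫ μ =
      q a := by
    show _ ≫ _ ≫ _ ≫ c = q a
    rw [← Category.assoc, ← Functor.map_comp, hmφ, ← Category.assoc, ← Functor.map_comp, hφ,
      Pi.lift_π, Adjunction.homEquiv_unit, Functor.map_comp, Category.assoc]
    have hn := (Scheme.Modules.pullbackPushforwardAdjunction (j a)).counit_naturality (q a)
    have ht := (Scheme.Modules.pullbackPushforwardAdjunction (j a)).left_triangle_components E
    show _ ≫ _ ≫ (Scheme.Modules.pullbackPushforwardAdjunction (j a)).counit.app (C a) = q a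
    rw [hn, ← Category.assoc, ht, Category.id_comp]
  haveI h2 : Mono μ := mono_comp _ _
  haveI h3 : Epi μ := by
    haveI : Epi ((Scheme.Modules.pullback (j a)).map (cokernel.π (kernelSubobject φ).arrow) ≫
        μ) := by rw [hq]; infer_instance
    exact epi_of_epi ((Scheme.Modules.pullback (j a)).map (cokernel.π (kernelSubobject φ).arrow)) _
  haveI h4 : IsIso μ := isIso_of_mono_of_epi _
  exact ⟨asIso μ, hq⟩

end Glue

end Groth.Agent.Helper1.QU
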