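import Mathlib
import Groth.Agent.Helper1.QU27
import Groth.Agent.Helper1.QU28
import Groth.Agent.Helper9.RPL3
import Groth.Agent.Lead.PerfLib5
import Groth.Agent.Helper1.PUP3

/-!
# Quot schemes, part 29: gluing families of quotients over a disjoint union of open subschemes of
the base; families of quotients are determined locally on the base
-/

set_option autoImplicit false
set_option linter.style.haveILetI false
set_option linter.unusedSectionVars false

universe u
open CategoryTheory CategoryTheory.Limits AlgebraicGeometry Opposite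

namespace Groth.Agent.Helper1.QU

open Groth.Agent.Helper1.QT
open AlgebraicGeometry.Scheme.Modules

section GlueQ

variable (n : ℕ) (𝓔 : (PZ.{u} n).Modules) {Q : Scheme.{u}} {I : Type u} {P : I → Scheme.{u}}
  (ι : ∀ a, P a ⟶ Q) [∀ a, IsOpenImmersion (ι a)]

instance isOpenImmersion_projMap {T S : Scheme.{u}} (φ : T ⟶ S) [IsOpenImmersion φ] :
    IsOpenImmersion (FGA.projMap n φ) :=
  MorphismProperty.of_isPullback (P := @IsOpenImmersion) (isPullback_projMap n φ).flip
    inferInstance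

variable (hdisj : ∀ a b, a ≠ b → (ι a).opensRange ⊓ (ι b).opensRange = ⊥)

include hdisj in
theorem projMap_opensRange_disjoint (a b : I) (hab : a ≠ b) :
    (FGA.projMap n (ι a)).opensRange ⊓ (FGA.projMap n (ι b)).opensRange = ⊥ := by
  rw [eq_bot_iff]
  rintro x ⟨⟨u, hu⟩, ⟨v, hv⟩⟩
  have h1 : (πT n Q) x ∈ (ι a).opensRange := by
    refine ⟨(πT n (P a)) u, ?_⟩
    rw [← hu, ← Scheme.Hom.comp_apply, ← Scheme.Hom.comp_apply, projMap_πT]
  have h2 : (πT n Q) x ∈ (ι b).opensRange := by
    refine ⟨(πT n (P b)) v, ?_⟩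
    rw [← hv, ← Scheme.Hom.comp_apply, ← Scheme.Hom.comp_apply, projMap_πT]
  have h3 : (πT n Q) x ∈ (ι a).opensRange ⊓ (ι b).opensRange := ⟨h1, h2⟩
  rw [hdisj a b hab] at h3
  exact h3.elim

/-- the points of the projective space over an open subscheme of the base -/
theorem mem_range_projMap {T S : Scheme.{u}} (φ : T ⟶ S) (x : CohB1.ProjSpaceOver n S)
    (hx : (πT n S) x ∈ Set.range φ) : x ∈ Set.range (FGA.projMap n φ) := by
  obtain ⟨t, ht⟩ := hx
  obtain ⟨p, hp, -⟩ := Scheme.exists_preimage_of_isPullback (isPullback_projMap n φ) x t ht.symm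
  exact ⟨p, hp⟩

variable (K : ∀ a, QSet n 𝓔 (P a))

/-- the quotient maps of the family, on the pullbacks of `𝓔_Q` -/
noncomputable def glueq (a : I) :
    (Scheme.Modules.pullback (FGA.projMap n (ι a))).obj (ET n 𝓔 Q) ⟶ cokernel (K a).1.arrow :=
  (Eiso n 𝓔 (ι a)).hom ≫ cokernel.π (K a).1.arrow

instance (a : I) : Epi (glueq n 𝓔 ι K a) := epi_comp _ _

/-- the glued submodule -/
noncomputable def glueK : Subobject (ET n 𝓔 Q) :=
  kernelSubobject (Pi.lift fun b =>
    (Scheme.Modules.pullbackPushforwardAdjunction (FGA.projMap n (ι b))).homEquiv (ET n 𝓔 Q)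
      (cokernel (K b).1.arrow) (glueq n 𝓔 ι K b))

include hdisj in
theorem exists_iso_glueK (a : I) :
    ∃ e : (Scheme.Modules.pullback (FGA.projMap n (ι a))).obj
        (cokernel (glueK n 𝓔 ι K).arrow) ≅ cokernel (K a).1.arrow,
      (Scheme.Modules.pullback (FGA.projMap n (ι a))).map (cokernel.π (glueK n 𝓔 ι K).arrow) ≫
        e.hom = glueq n 𝓔 ι K a :=
  glueQuot (fun a => FGA.projMap n (ι a)) (projMap_opensRange_disjoint n ι hdisj)
    (fun a => cokernel (K a).1.arrow) (ET n 𝓔 Q) (glueq n 𝓔 ι K) a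

include hdisj in
/-- **the glued submodule restricts to the given ones** -/
theorem qpull_glueK (a : I) : qpull n 𝓔 (ι a) (glueK n 𝓔 ι K) = (K a).1 := by
  obtain ⟨e, he⟩ := exists_iso_glueK n 𝓔 ι hdisj K a
  rw [qpull_eq_kernel]
  have h1 : pq n 𝓔 (ι a) (cokernel.π (glueK n 𝓔 ι K).arrow) ≫ e.hom =
      cokernel.π (K a).1.arrow := by
    unfold pq
    rw [Category.assoc, he]
    unfold glueq
    rw [Iso.inv_hom_id_assoc]
  rw [kernelSubobject_eq_of_iso _ _ e h1]
  exact kernelSubobject_cokernel_π (K a).1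

include hdisj in
/-- the glued quotient is coherent and flat over the base -/
theorem glueK_mem (hsurj : ∀ x : Q, ∃ a, x ∈ Set.range (ι a)) :
    Coh.IsCoh (cokernel (glueK n 𝓔 ι K).arrow) ∧
      FlatMod.IsFlatOver (πT n Q) (cokernel (glueK n 𝓔 ι K).arrow) := by
  constructor
  · apply Groth.Agent.Lead.PerfLib.isCoh_of_locally
    intro x
    obtain ⟨a, ha⟩ := hsurj ((πT n Q) x)
    obtain ⟨e, -⟩ := exists_iso_glueK n 𝓔 ι hdisj K a
    refine ⟨_, FGA.projMap n (ι a), inferInstance, mem_range_projMap n (ι a) x ha, ?_⟩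
    exact Groth.Agent.Lead.PerfLib.isCoh_of_iso
      (((Scheme.Modules.restrictFunctorIsoPullback (FGA.projMap n (ι a))).app _) ≪≫
        e).symm (K a).2.1
  · intro x
    obtain ⟨a, ha⟩ := hsurj ((πT n Q) x)
    obtain ⟨e, -⟩ := exists_iso_glueK n 𝓔 ι hdisj K a
    obtain ⟨u, rfl⟩ := mem_range_projMap n (ι a) x ha
    rw [← Groth.Agent.Helper9.RPL3.isFlatOverAt_restrict_iff (πT n Q) (FGA.projMap n (ι a))]
    have h1 : FlatMod.IsFlatOverAt (πT n (P a))
        ((Scheme.Modules.restrictFunctor (FGA.projMap n (ι a))).obj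
          (cokernel (glueK n 𝓔 ι K).arrow)) u :=
      Groth.Agent.Lead.FpqcSheaf.isFlatOverAt_of_iso _
        (((Scheme.Modules.restrictFunctorIsoPullback (FGA.projMap n (ι a))).app _) ≪≫ e).symm u
        ((K a).2.2 u)
    have h2 := (Groth.Agent.Helper9.RPL3.isFlatOverAt_target_iff (πT n (P a)) (ι a) _ u).2 h1
    rw [← projMap_πT] at h2
    exact h2

end GlueQ

section Local

theorem comp_eq_zero_of_imageSubobject_le_kernelSubobject {𝒜 : Type*} [Category 𝒜] [Abelian 𝒜]
    {A B C : 𝒜} (f : A ⟶ B) (g : B ⟶ C) (h : imageSubobject f ≤ kernelSubobject g) :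
    f ≫ g = 0 := by
  rw [← imageSubobject_arrow_comp f, ← Subobject.ofLE_arrow h, Category.assoc, Category.assoc,
    kernelSubobject_arrow_comp, comp_zero, comp_zero]

variable (n : ℕ) (𝓔 : (PZ.{u} n).Modules) {T : Scheme.{u}}

/-- a morphism of modules on `P^n_T` vanishes if its pullbacks to the projective spaces over the
members of an open cover of `T` vanish -/
theorem eq_zero_of_pullback_projMap_eq_zero {J : Type*} (V : J → T.Opens) (hV : ⨆ a, V a = ⊤)
    {A B : (CohB1.ProjSpaceOver n T).Modules} (ψ : A ⟶ B)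
    (h : ∀ a, (Scheme.Modules.pullback (FGA.projMap n (V a).ι)).map ψ = 0) : ψ = 0 := by
  refine Groth.Agent.Helper1.PUP.hom_ext_of_cover ψ 0
    (fun a => (FGA.projMap n (V a).ι).opensRange) ?_ ?_
  · rw [eq_top_iff]
    intro x _
    have hx : (πT n T) x ∈ ⨆ a, V a := by rw [hV]; trivial
    obtain ⟨a, ha⟩ := TopologicalSpace.Opens.mem_iSup.1 hx
    refine TopologicalSpace.Opens.mem_iSup.2 ⟨a, ?_⟩
    apply mem_range_projMap n (V a).ι x
    rw [Scheme.Opens.range_ι]
    exact ha
  · intro a V' hV' m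
    let iso := Scheme.Modules.restrictFunctorIsoPullback (FGA.projMap n (V a).ι)
    have h1 : (Scheme.Modules.restrictFunctor (FGA.projMap n (V a).ι)).map ψ = 0 := by
      have hn := iso.hom.naturality ψ
      rw [h a, comp_zero] at hn
      have h2 : (Scheme.Modules.restrictFunctor (FGA.projMap n (V a).ι)).map ψ =
          ((Scheme.Modules.restrictFunctor (FGA.projMap n (V a).ι)).map ψ ≫ iso.hom.app B) ≫
            iso.inv.app B := by
        rw [Category.assoc, Iso.hom_inv_id_app, Category.comp_id]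
      rw [h2, hn, zero_comp]
    have key : ∀ (W : (CohB1.ProjSpaceOver n T).Opens)
        (V'' : (CohB1.ProjSpaceOver n (V a : Scheme.{u})).Opens),
        W = (FGA.projMap n (V a).ι) ''ᵁ V'' → ∀ m : Γ(A, W), ψ.app W m = 0 := by
      rintro _ V'' rfl m
      have h3 := Groth.Agent.Helper4.SubSec.restrict_map_app (FGA.projMap n (V a).ι) ψ V''
      rw [h1] at h3
      rw [← h3]
      rfl
    exact key V' _
      (Groth.Agent.Helper1.CI.image_preimage_eq_of_le (FGA.projMap n (V a).ι) hV').symm m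

/-- **inclusions of submodules of `𝓔_T` may be checked locally on `T`** -/
theorem le_of_qpull_le {J : Type*} (V : J → T.Opens) (hV : ⨆ a, V a = ⊤)
    (K₁ K₂ : Subobject (ET n 𝓔 T))
    (h : ∀ a, qpull n 𝓔 (V a).ι K₁ ≤ qpull n 𝓔 (V a).ι K₂) : K₁ ≤ K₂ := by
  rw [← kernelSubobject_cokernel_π K₂]
  apply le_kernelSubobject
  apply eq_zero_of_pullback_projMap_eq_zero n V hV
  intro a
  have h1 := h a
  rw [qpull_eq_kernel n 𝓔 (V a).ι K₂] at h1
  have h2 := comp_eq_zero_of_imageSubobject_le_kernelSubobject _ _ h1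
  unfold pq at h2
  rw [Category.assoc, Iso.hom_inv_id_assoc, ← Functor.map_comp] at h2
  exact h2

/-- **submodules of `𝓔_T` are determined locally on `T`** -/
theorem eq_of_qpull_eq {J : Type*} (V : J → T.Opens) (hV : ⨆ a, V a = ⊤)
    (K₁ K₂ : Subobject (ET n 𝓔 T))
    (h : ∀ a, qpull n 𝓔 (V a).ι K₁ = qpull n 𝓔 (V a).ι K₂) : K₁ = K₂ :=
  le_antisymm (le_of_qpull_le n 𝓔 V hV K₁ K₂ fun a => (h a).le)
    (le_of_qpull_le n 𝓔 V hV K₂ K₁ fun a => (h a).ge)

end Local

end Groth.Agent.Helper1.QU
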