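import Mathlib
import Groth.Agent.Helper1.QU29
import Groth.Agent.Helper1.GR22
import Groth.Agent.Helper1.GR40

/-!
# Quot schemes, part 30: the Quot scheme with fixed Hilbert polynomial is a closed subscheme of a
projective space over `ℤ`
-/

set_option autoImplicit false
set_option linter.style.haveILetI false
set_option linter.unusedSectionVars false

universe u
open CategoryTheory CategoryTheory.Limits AlgebraicGeometry Opposite

namespace Groth.Agent.Helper1.QU

open Groth.Agent.Helper1.QT Groth.Agent.Helper1.GR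
open AlgebraicGeometry.Scheme.Modules

section Closed

variable {n : ℕ} {𝓔 : (PZ.{u} n).Modules} {Φ : Polynomial ℚ}

instance isIso_from_Z :
    IsIso (specULiftZIsTerminal.{u}.from (Spec (CommRingCat.of (ULift.{u} ℤ)))) := by
  have h : specULiftZIsTerminal.{u}.from (Spec (CommRingCat.of (ULift.{u} ℤ))) = 𝟙 _ :=
    specULiftZIsTerminal.hom_ext _ _
  rw [h]
  infer_instance

instance isIso_aT_Z (M : ℕ) : IsIso (aT M (Spec (CommRingCat.of (ULift.{u} ℤ)))) := by
  unfold aT
  infer_instance

/-- **the Quot scheme with fixed Hilbert polynomial is a closed subscheme of the Grassmannian,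
hence of a projective space** -/
theorem RepData.exists_closedImmersion (h𝓔 : Coh.IsCoh 𝓔) (R : RepData n 𝓔 Φ) :
    IsClosedImmersion R.e ∧ ∃ (M : ℕ) (c : R.Q ⟶ PZ.{u} M), IsClosedImmersion c := by
  haveI := R.noeth
  haveI := R.imm
  haveI hprop := isProper_GrToSpec (R := ULift.{u} ℤ) R.d R.N R.hdN
  haveI : IsLocallyNoetherian (Spec (CommRingCat.of (ULift.{u} ℤ))) := by
    haveI : IsNoetherianRing (ULift.{u} ℤ) :=
      isNoetherianRing_of_ringEquiv ℤ (ULift.ringEquiv (R := ℤ)).symm
    infer_instance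
  have hf : specULiftZIsTerminal.from R.Q = R.e ≫ GrToSpec (ULift.{u} ℤ) R.d R.N :=
    specULiftZIsTerminal.hom_ext _ _
  haveI : LocallyOfFiniteType (specULiftZIsTerminal.from R.Q) := by
    rw [hf]
    infer_instance
  haveI : QuasiCompact (specULiftZIsTerminal.from R.Q) := inferInstance
  have huc := Groth.Agent.Helper5.DvrProper.universallyClosed_of_dvrExistence
    (specULiftZIsTerminal.from R.Q) (R.dvrExistence h𝓔)
  haveI : UniversallyClosed (R.e ≫ GrToSpec (ULift.{u} ℤ) R.d R.N) := by
    rw [← hf]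
    exact huc
  haveI : UniversallyClosed R.e :=
    UniversallyClosed.of_comp_of_isSeparated R.e (GrToSpec (ULift.{u} ℤ) R.d R.N)
  haveI hcl : IsClosedImmersion R.e :=
    IsClosedImmersion.of_isPreimmersion _ R.e.isClosedMap.isClosed_range
  obtain ⟨c, hc, -⟩ := exists_closedImmersion_Gr (ULift.{u} ℤ) R.d R.N R.hdN
  haveI := hc
  exact ⟨hcl, _, R.e ≫ c ≫ aT _ (Spec (CommRingCat.of (ULift.{u} ℤ))), inferInstance⟩

end Closed

end Groth.Agent.Helper1.QU
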