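import Mathlib
import Groth.Agent.Helper1.QU30
import Groth.Agent.Helper1.HS7

/-!
# Quot schemes, part 31: the disjoint union of the Quot schemes with fixed Hilbert polynomial
represents the functor of all flat families of quotients
-/

set_option autoImplicit false
set_option linter.style.haveILetI false
set_option linter.unusedSectionVars false

universe u
open CategoryTheory CategoryTheory.Limits AlgebraicGeometry Opposite

namespace Groth.Agent.Helper1.QU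

open Groth.Agent.Helper1.QT Groth.Agent.Helper1.GR
open AlgebraicGeometry.Scheme.Modules

section Partition

variable {T Y : Scheme.{u}} {I : Type*} (ψ : T → I) (hψ : IsLocallyConstant ψ)

/-- the members of the open partition defined by a locally constant function -/
def fibOpen (i : I) : T.Opens := ⟨ψ ⁻¹' {i}, hψ.isOpen_fiber i⟩

/-- the cover by the members of the partition -/
noncomputable def fibCover : T.OpenCover where
  I₀ := I
  X := fun i => (fibOpen ψ hψ i : Scheme.{u})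
  f := fun i => (fibOpen ψ hψ i).ι
  mem₀ := by
    rw [Scheme.presieve₀_mem_precoverage_iff]
    refine ⟨fun x => ⟨ψ x, ?_⟩, inferInstance⟩
    rw [Scheme.Opens.range_ι]
    exact (rfl : ψ x = ψ x)

theorem iSup_fibOpen : ⨆ i, fibOpen ψ hψ i = ⊤ := by
  rw [eq_top_iff]
  intro x _
  exact TopologicalSpace.Opens.mem_iSup.2 ⟨ψ x, rfl⟩

/-- gluing morphisms along an open partition -/
theorem exists_glue_partition (g : ∀ i, (fibOpen ψ hψ i : Scheme.{u}) ⟶ Y) :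
    ∃ h : T ⟶ Y, ∀ i, (fibOpen ψ hψ i).ι ≫ h = g i := by
  classical
  let 𝒰 := fibCover ψ hψ
  have hcompat : ∀ i j : I, pullback.fst (𝒰.f i) (𝒰.f j) ≫ g i =
      pullback.snd (𝒰.f i) (𝒰.f j) ≫ g j := by
    intro i j
    by_cases hij : i = j
    · subst hij
      have : pullback.fst (𝒰.f i) (𝒰.f i) = pullback.snd (𝒰.f i) (𝒰.f i) := by
        rw [← cancel_mono (𝒰.f i)]
        exact pullback.condition
      rw [this]
    · haveI : IsEmpty ↑(pullback (𝒰.f i) (𝒰.f j)) := by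
        rw [Scheme.isEmpty_pullback_iff]
        rw [Set.disjoint_iff]
        rintro t ⟨⟨a, rfl⟩, ⟨b, hb⟩⟩
        have h1 : ψ ((fibOpen ψ hψ i).ι a) = i := a.2
        have h2 : ψ ((fibOpen ψ hψ j).ι b) = j := b.2
        have hb' : (fibOpen ψ hψ j).ι b = (fibOpen ψ hψ i).ι a := hb
        rw [hb'] at h2
        exact hij (h1.symm.trans h2)
      exact (isInitialOfIsEmpty (X := pullback (𝒰.f i) (𝒰.f j))).hom_ext _ _
  exact ⟨𝒰.glueMorphisms g hcompat, fun i => 𝒰.ι_glueMorphisms g hcompat i⟩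

theorem hom_ext_partition (h h' : T ⟶ Y)
    (hh : ∀ i, (fibOpen ψ hψ i).ι ≫ h = (fibOpen ψ hψ i).ι ≫ h') : h = h' :=
  (fibCover ψ hψ).hom_ext _ _ hh

end Partition

section All

variable (n : ℕ) (𝓔 : (PZ.{u} n).Modules)

/-- the Hilbert function of the pullback of a family of quotients -/
theorem hilbFn_cokernel_qpull {T S : Scheme.{u}} (φ : T ⟶ S) (K : Subobject (ET n 𝓔 S))
    (hc : Coh.IsCoh (cokernel K.arrow)) (t : T) (m : ℤ) :
    Groth.Agent.Helper1.HS.hilbFn T n (cokernel (qpull n 𝓔 φ K).arrow) t m =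
      Groth.Agent.Helper1.HS.hilbFn S n (cokernel K.arrow) (φ t) m := by
  obtain ⟨e, -⟩ := exists_cokernel_qpull_iso n 𝓔 φ K
  rw [hilbFn_congr e t m, QT.hilbFn_pullback n φ hc t m]

variable (R : ∀ Φ : Polynomial ℚ, RepData n 𝓔 Φ)

/-- the Quot schemes with fixed Hilbert polynomial -/
noncomputable abbrev QP (a : ULift.{u} (Polynomial ℚ)) : Scheme.{u} := (R a.down).Q

theorem QP_disj (a b : ULift.{u} (Polynomial ℚ)) (hab : a ≠ b) :
    (Sigma.ι (QP n 𝓔 R) a).opensRange ⊓ (Sigma.ι (QP n 𝓔 R) b).opensRange = ⊥ :=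
  disjoint_iff.1 (disjoint_opensRange_sigmaι (QP n 𝓔 R) a b hab)

theorem QP_surj (x : ↥(∐ (QP n 𝓔 R))) : ∃ a, x ∈ Set.range (Sigma.ι (QP n 𝓔 R) a) := by
  obtain ⟨a, y, hy⟩ := (sigmaOpenCover (QP n 𝓔 R)).exists_eq x
  exact ⟨a, y, hy⟩

/-- the universal family of quotients on the disjoint union -/
noncomputable def KuAll : QSet n 𝓔 (∐ (QP n 𝓔 R)) :=
  ⟨glueK n 𝓔 (Sigma.ι (QP n 𝓔 R)) (fun a => (R a.down).Ku),
    glueK_mem n 𝓔 (Sigma.ι (QP n 𝓔 R)) (QP_disj n 𝓔 R) (fun a => (R a.down).Ku)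
      (QP_surj n 𝓔 R)⟩

theorem qpull_KuAll (a : ULift.{u} (Polynomial ℚ)) :
    qpull n 𝓔 (Sigma.ι (QP n 𝓔 R) a) (KuAll n 𝓔 R).1 = (R a.down).Ku.1 :=
  qpull_glueK n 𝓔 (Sigma.ι (QP n 𝓔 R)) (QP_disj n 𝓔 R) (fun a => (R a.down).Ku) a

/-- the Hilbert polynomials of the universal family -/
theorem hilbFn_KuAll (a : ULift.{u} (Polynomial ℚ)) (y : QP n 𝓔 R a) (m : ℤ) :
    (Groth.Agent.Helper1.HS.hilbFn _ n (cokernel (KuAll n 𝓔 R).1.arrow)
      (Sigma.ι (QP n 𝓔 R) a y) m : ℚ) = a.down.eval (m : ℚ) := by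
  rw [← hilbFn_cokernel_qpull n 𝓔 (Sigma.ι (QP n 𝓔 R) a) (KuAll n 𝓔 R).1 (KuAll n 𝓔 R).2.1 y m]
  have h := (R a.down).hp y m
  rw [← qpull_KuAll n 𝓔 R a] at h
  exact h

instance isLocallyNoetherian_QAll : IsLocallyNoetherian (∐ (QP n 𝓔 R)) := by
  rw [isLocallyNoetherian_iff_openCover (sigmaOpenCover (QP n 𝓔 R))]
  intro a
  haveI := (R a.down).noeth
  exact inferInstanceAs (IsLocallyNoetherian (QP n 𝓔 R a))

variable {n 𝓔}

/-- the Hilbert polynomials of the fibres of a flat family, as a locally constant function -/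
theorem exists_hilbPoly {T : Scheme.{u}} [IsLocallyNoetherian T] (K : QSet n 𝓔 T) :
    ∃ Ψ : T → ULift.{u} (Polynomial ℚ), IsLocallyConstant Ψ ∧ ∀ (t : T) (m : ℤ),
      (Groth.Agent.Helper1.HS.hilbFn T n (cokernel K.1.arrow) t m : ℚ) =
        (Ψ t).down.eval (m : ℚ) := by
  choose P hP using Groth.Agent.Helper1.HS.exists_poly_hilbFn T n (cokernel K.1.arrow) K.2.1
  refine ⟨fun t => ⟨P t⟩, ?_, hP⟩
  have hlc := isLocallyConstant_hilbFn n (cokernel K.1.arrow) K.2.1 K.2.2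
  rw [IsLocallyConstant.iff_exists_open] at hlc ⊢
  intro t₀
  obtain ⟨U, hU, ht₀, hUc⟩ := hlc t₀
  refine ⟨U, hU, ht₀, fun t ht => ?_⟩
  have h1 : P t = P t₀ := by
    apply Groth.Agent.Helper1.HS.poly_eq_of_eval_int
    intro m
    rw [← hP t m, ← hP t₀ m, congrFun (hUc t ht) m]
  exact congrArg ULift.up h1

/-- the restriction of a flat family to the locus where the Hilbert polynomial is `a` -/
theorem hasHP_qpull_fibOpen {T : Scheme.{u}} [IsLocallyNoetherian T] (K : QSet n 𝓔 T)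
    (Ψ : T → ULift.{u} (Polynomial ℚ)) (hΨ : IsLocallyConstant Ψ)
    (hP : ∀ (t : T) (m : ℤ), (Groth.Agent.Helper1.HS.hilbFn T n (cokernel K.1.arrow) t m : ℚ) =
        (Ψ t).down.eval (m : ℚ)) (a : ULift.{u} (Polynomial ℚ)) :
    HasHP a.down (qpull n 𝓔 (fibOpen Ψ hΨ a).ι K.1) := by
  intro t m
  rw [hilbFn_cokernel_qpull n 𝓔 _ K.1 K.2.1 t m, hP]
  have h : Ψ ((fibOpen Ψ hΨ a).ι t) = a := t.2
  rw [h]

/-- **existence of the classifying morphism** -/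
theorem exists_classifying_all {T : Scheme.{u}} [IsLocallyNoetherian T] (K : QSet n 𝓔 T) :
    ∃ h : T ⟶ ∐ (QP n 𝓔 R), qpull n 𝓔 h (KuAll n 𝓔 R).1 = K.1 := by
  obtain ⟨Ψ, hΨ, hP⟩ := exists_hilbPoly K
  have key : ∀ a : ULift.{u} (Polynomial ℚ), ∃ g : (fibOpen Ψ hΨ a : Scheme.{u}) ⟶ QP n 𝓔 R a,
      qpull n 𝓔 g (R a.down).Ku.1 = qpull n 𝓔 (fibOpen Ψ hΨ a).ι K.1 := by
    intro a
    obtain ⟨g, hg, -⟩ := (R a.down).univ (fibOpen Ψ hΨ a : Scheme.{u})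
      (QSet.pull n 𝓔 (fibOpen Ψ hΨ a).ι K) (hasHP_qpull_fibOpen K Ψ hΨ hP a)
    exact ⟨g, hg⟩
  choose g hg using key
  obtain ⟨h, hh⟩ := exists_glue_partition Ψ hΨ (fun a => g a ≫ Sigma.ι (QP n 𝓔 R) a)
  refine ⟨h, ?_⟩
  apply eq_of_qpull_eq n 𝓔 (fibOpen Ψ hΨ) (iSup_fibOpen Ψ hΨ)
  intro a
  rw [qpull_comp, hh a, ← qpull_comp, qpull_KuAll, hg a]

/-- **uniqueness of the classifying morphism** -/
theorem classifying_all_unique {T : Scheme.{u}} [IsLocallyNoetherian T]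
    (h h' : T ⟶ ∐ (QP n 𝓔 R))
    (hh : qpull n 𝓔 h' (KuAll n 𝓔 R).1 = qpull n 𝓔 h (KuAll n 𝓔 R).1) : h = h' := by
  let K : QSet n 𝓔 T := QSet.pull n 𝓔 h (KuAll n 𝓔 R)
  obtain ⟨Ψ, hΨ, hP⟩ := exists_hilbPoly K
  have hcongr : ∀ (K' : Subobject (ET n 𝓔 T)), K' = K.1 → ∀ (t : T) (m : ℤ),
      Groth.Agent.Helper1.HS.hilbFn T n (cokernel K'.arrow) t m =
        Groth.Agent.Helper1.HS.hilbFn T n (cokernel K.1.arrow) t m := by
    rintro _ rfl t m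
    rfl
  have hrange : ∀ (h₁ : T ⟶ ∐ (QP n 𝓔 R)), qpull n 𝓔 h₁ (KuAll n 𝓔 R).1 = K.1 →
      ∀ (a : ULift.{u} (Polynomial ℚ)) (t : T), Ψ t = a →
        h₁ t ∈ Set.range (Sigma.ι (QP n 𝓔 R) a) := by
    intro h₁ hh₁ a t ht
    obtain ⟨b, y, hy⟩ := QP_surj n 𝓔 R (h₁ t)
    have hba : b = a := by
      apply ULift.down_injective
      apply Groth.Agent.Helper1.HS.poly_eq_of_eval_int
      intro m
      rw [← hilbFn_KuAll n 𝓔 R b y m, hy,
        ← hilbFn_cokernel_qpull n 𝓔 h₁ (KuAll n 𝓔 R).1 (KuAll n 𝓔 R).2.1 t m,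
        hcongr _ hh₁ t m, hP t m, ht]
    rw [← hba]
    exact ⟨y, hy⟩
  have key : ∀ (h₁ : T ⟶ ∐ (QP n 𝓔 R)), qpull n 𝓔 h₁ (KuAll n 𝓔 R).1 = K.1 →
      ∀ a : ULift.{u} (Polynomial ℚ), ∃ g : (fibOpen Ψ hΨ a : Scheme.{u}) ⟶ QP n 𝓔 R a,
        g ≫ Sigma.ι (QP n 𝓔 R) a = (fibOpen Ψ hΨ a).ι ≫ h₁ ∧
          qpull n 𝓔 g (R a.down).Ku.1 = qpull n 𝓔 (fibOpen Ψ hΨ a).ι K.1 := by
    intro h₁ hh₁ a
    have hsub : Set.range ((fibOpen Ψ hΨ a).ι ≫ h₁) ⊆ Set.range (Sigma.ι (QP n 𝓔 R) a) := by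
      rintro _ ⟨t, rfl⟩
      exact hrange h₁ hh₁ a ((fibOpen Ψ hΨ a).ι t) t.2
    refine ⟨IsOpenImmersion.lift (Sigma.ι (QP n 𝓔 R) a) ((fibOpen Ψ hΨ a).ι ≫ h₁) hsub,
      IsOpenImmersion.lift_fac _ _ _, ?_⟩
    rw [← qpull_KuAll, qpull_comp, IsOpenImmersion.lift_fac, ← qpull_comp, hh₁]
  apply hom_ext_partition Ψ hΨ
  intro a
  obtain ⟨g, hg1, hg2⟩ := key h rfl a
  obtain ⟨g', hg1', hg2'⟩ := key h' hh a
  obtain ⟨g₀, -, huniq⟩ := (R a.down).univ (fibOpen Ψ hΨ a : Scheme.{u})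
    (QSet.pull n 𝓔 (fibOpen Ψ hΨ a).ι K) (hasHP_qpull_fibOpen K Ψ hΨ hP a)
  have e : g = g' := (huniq g hg2).trans (huniq g' hg2').symm
  rw [← hg1, ← hg1', e]

end All

end Groth.Agent.Helper1.QU
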