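import Mathlib
import Groth.Agent.Helper1.QU31
import Groth.Prelude.Def_FGA

/-!
# Quot schemes, part 32: comparison of `P^n_S ×_S T` with `P^n_T`, and of the pullbacks of `𝓔`
-/

set_option autoImplicit false
set_option linter.style.haveILetI false
set_option linter.unusedSectionVars false

universe u
open CategoryTheory CategoryTheory.Limits AlgebraicGeometry Opposite

namespace Groth.Agent.Helper1.QU

open Groth.Agent.Helper1.QT
open AlgebraicGeometry.Scheme.Modules

section Can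

variable {A B C D : Scheme.{u}}

/-- the canonical isomorphism `h^* a^* M ≅ c^* M` for `h ≫ a = c` -/
noncomputable def can (h : A ⟶ B) (a : B ⟶ D) (c : A ⟶ D) (w : h ≫ a = c) (M : D.Modules) :
    (Scheme.Modules.pullback h).obj ((Scheme.Modules.pullback a).obj M) ≅
      (Scheme.Modules.pullback c).obj M :=
  (Scheme.Modules.pullbackComp h a).app M ≪≫ (Scheme.Modules.pullbackCongr w).app M

theorem can_comp (f : A ⟶ B) (g : B ⟶ C) (a : C ⟶ D) (b : B ⟶ D) (c : A ⟶ D)
    (hb : g ≫ a = b) (hc : f ≫ b = c) (hc' : (f ≫ g) ≫ a = c) (M : D.Modules) :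
    (Scheme.Modules.pullbackComp f g).hom.app ((Scheme.Modules.pullback a).obj M) ≫
        (can (f ≫ g) a c hc' M).hom =
      (Scheme.Modules.pullback f).map (can g a b hb M).hom ≫ (can f b c hc M).hom := by
  unfold can
  simp only [Iso.trans_hom, Iso.app_hom]
  exact pullbackComp_coherence f g a b c hb hc hc' M

theorem can_congr {p p' : A ⟶ C} (h : p' = p) (a : C ⟶ D) (c : A ⟶ D) (h1 : p ≫ a = c)
    (h2 : p' ≫ a = c) (M : D.Modules) :
    (Scheme.Modules.pullbackCongr h).hom.app ((Scheme.Modules.pullback a).obj M) ≫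
        (can p a c h1 M).hom = (can p' a c h2 M).hom := by
  unfold can
  simp only [Iso.trans_hom, Iso.app_hom]
  exact pullbackCongr_pullbackComp h a c h1 h2 M

theorem final_left {𝒞 𝒟 : Type*} [Category 𝒞] [Category 𝒟] (F : 𝒞 ⥤ 𝒟) {X₁ X₂ X₀ : 𝒞}
    (α : X₁ ≅ X₀) (β : X₂ ≅ X₀) {Y₃ Z : 𝒟} (γ : F.obj X₀ ⟶ Z) (e : F.obj X₂ ⟶ Y₃) (θ₃ : Y₃ ⟶ Z)
    (h2 : e ≫ θ₃ = F.map β.hom ≫ γ) :
    (F.map (α.hom ≫ β.inv) ≫ e) ≫ θ₃ = F.map α.hom ≫ γ := by
  rw [Category.assoc, h2, ← Functor.map_comp_assoc, Category.assoc, Iso.inv_hom_id,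
    Category.comp_id]

theorem final_right {𝒟 : Type*} [Category 𝒟] {W Y₄ Y₅ Y₃ Z : 𝒟} (ω : W ⟶ Y₄) (m : Y₄ ⟶ Y₅)
    (a : Y₅ ≅ Z) (b : Y₃ ≅ Z) : (ω ≫ m ≫ (a.hom ≫ b.inv)) ≫ b.hom = ω ≫ m ≫ a.hom := by
  simp only [Category.assoc, Iso.inv_hom_id, Category.comp_id]

end Can

section OverS

variable (n : ℕ) {S : Scheme.{u}}

/-- the comparison of `P^n_S ×_S T` with `P^n_T` -/
noncomputable def σT (T : Over S) : PicF.XT (πT n S) T ⟶ CohB1.ProjSpaceOver n T.left :=
  (isPullback_projMap n T.hom).isoPullback.inv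

instance (T : Over S) : IsIso (σT n T) := by
  unfold σT
  infer_instance

theorem σT_projMap (T : Over S) :
    σT n T ≫ FGA.projMap n T.hom = pullback.fst (πT n S) T.hom :=
  (isPullback_projMap n T.hom).isoPullback_inv_fst

theorem σT_πT (T : Over S) : σT n T ≫ πT n T.left = pullback.snd (πT n S) T.hom :=
  (isPullback_projMap n T.hom).isoPullback_inv_snd

/-- the projection from `P^n_S ×_S T` to `P^n_ℤ` -/
noncomputable def bT (T : Over S) : PicF.XT (πT n S) T ⟶ PZ.{u} n :=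
  pullback.fst (πT n S) T.hom ≫ aT n S

theorem σT_aT (T : Over S) : σT n T ≫ aT n T.left = bT n T := by
  rw [← projMap_aT n T.hom, ← Category.assoc, σT_projMap]
  rfl

variable {T T' : Over S} (g : T' ⟶ T)

theorem XTmap_fst' : PicF.XTmap (πT n S) g ≫ pullback.fst (πT n S) T.hom =
    pullback.fst (πT n S) T'.hom := FGA.XTmap_fst (πT n S) g

theorem XTmap_snd' : PicF.XTmap (πT n S) g ≫ pullback.snd (πT n S) T.hom =
    pullback.snd (πT n S) T'.hom ≫ g.left := by
  simp only [PicF.XTmap, Limits.pullback.map, Limits.pullback.lift_snd]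

theorem XTmap_bT : PicF.XTmap (πT n S) g ≫ bT n T = bT n T' := by
  unfold bT
  rw [← Category.assoc, XTmap_fst']

theorem XTmap_σT : PicF.XTmap (πT n S) g ≫ σT n T = σT n T' ≫ FGA.projMap n g.left := by
  apply pullback.hom_ext
  · show (PicF.XTmap (πT n S) g ≫ σT n T) ≫ aT n T.left =
      (σT n T' ≫ FGA.projMap n g.left) ≫ aT n T.left
    rw [Category.assoc, σT_aT, XTmap_bT, Category.assoc, projMap_aT, σT_aT]
  · show (PicF.XTmap (πT n S) g ≫ σT n T) ≫ πT n T.left =
      (σT n T' ≫ FGA.projMap n g.left) ≫ πT n T.left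
    rw [Category.assoc, σT_πT, XTmap_snd', Category.assoc, projMap_πT, ← Category.assoc, σT_πT]

variable (𝓔 : (PZ.{u} n).Modules)

/-- the comparison of the pullbacks of `𝓔` to `P^n_S ×_S T` through `P^n_T` and through `P^n_S` -/
noncomputable def ε0 (T : Over S) :
    (Scheme.Modules.pullback (σT n T)).obj (ET n 𝓔 T.left) ≅
      (Scheme.Modules.pullback (pullback.fst (πT n S) T.hom)).obj (ET n 𝓔 S) :=
  can (σT n T) (aT n T.left) (bT n T) (σT_aT n T) 𝓔 ≪≫
    (can (pullback.fst (πT n S) T.hom) (aT n S) (bT n T) rfl 𝓔).symm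

/-- the comparison of the two ways to pull back from `P^n_T` to `P^n_S ×_S T'` -/
noncomputable def ωT (F : (CohB1.ProjSpaceOver n T.left).Modules) :
    (Scheme.Modules.pullback (PicF.XTmap (πT n S) g)).obj
        ((Scheme.Modules.pullback (σT n T)).obj F) ≅
      (Scheme.Modules.pullback (σT n T')).obj
        ((Scheme.Modules.pullback (FGA.projMap n g.left)).obj F) :=
  (Scheme.Modules.pullbackComp (PicF.XTmap (πT n S) g) (σT n T)).app F ≪≫
    (Scheme.Modules.pullbackCongr (XTmap_σT n g)).app F ≪≫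
      ((Scheme.Modules.pullbackComp (σT n T') (FGA.projMap n g.left)).app F).symm

theorem ωT_naturality {F F' : (CohB1.ProjSpaceOver n T.left).Modules} (q : F ⟶ F') :
    (Scheme.Modules.pullback (PicF.XTmap (πT n S) g)).map
        ((Scheme.Modules.pullback (σT n T)).map q) ≫ (ωT n g F').hom =
      (ωT n g F).hom ≫ (Scheme.Modules.pullback (σT n T')).map
        ((Scheme.Modules.pullback (FGA.projMap n g.left)).map q) := by
  unfold ωT
  simp only [Iso.trans_hom, Iso.app_hom, Iso.symm_hom, Iso.app_inv, Category.assoc]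
  have h1 := (Scheme.Modules.pullbackComp (PicF.XTmap (πT n S) g) (σT n T)).hom.naturality q
  have h2 := (Scheme.Modules.pullbackCongr (XTmap_σT n g)).hom.naturality q
  have h3 := (Scheme.Modules.pullbackComp (σT n T') (FGA.projMap n g.left)).inv.naturality q
  rw [Functor.comp_map] at h1 h3
  rw [reassoc_of% h1, reassoc_of% h2, h3]

theorem Eiso_eq_can {T₁ S₁ : Scheme.{u}} (φ : T₁ ⟶ S₁) :
    Eiso n 𝓔 φ = can (FGA.projMap n φ) (aT n S₁) (aT n T₁) (projMap_aT n φ) 𝓔 := rfl

theorem ETiso_hom_eq (E : (CohB1.ProjSpaceOver n S).Modules) :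
    (FGA.ETiso (πT n S) E g).hom =
      (Scheme.Modules.pullbackComp (PicF.XTmap (πT n S) g)
        (pullback.fst (πT n S) T.hom)).hom.app E ≫
        (Scheme.Modules.pullbackCongr (FGA.XTmap_fst (πT n S) g)).hom.app E := rfl

/-- **the comparison isomorphisms are compatible with base change** -/
theorem ε0_comp :
    (Scheme.Modules.pullback (PicF.XTmap (πT n S) g)).map (ε0 n 𝓔 T).hom ≫
        (FGA.ETiso (πT n S) (ET n 𝓔 S) g).hom =
      (ωT n g (ET n 𝓔 T.left)).hom ≫
        (Scheme.Modules.pullback (σT n T')).map (Eiso n 𝓔 g.left).hom ≫ (ε0 n 𝓔 T').hom := by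
  -- the canonical isomorphisms to the pullback of `𝓔` along `P^n_S ×_S T' ⟶ P^n_ℤ`
  have hcG : (PicF.XTmap (πT n S) g ≫ pullback.fst (πT n S) T.hom) ≫ aT n S = bT n T' := by
    rw [XTmap_fst']
    rfl
  have hcσ : (PicF.XTmap (πT n S) g ≫ σT n T) ≫ aT n T.left = bT n T' := by
    rw [Category.assoc, σT_aT, XTmap_bT]
  have hcp : (σT n T' ≫ FGA.projMap n g.left) ≫ aT n T.left = bT n T' := by
    rw [Category.assoc, projMap_aT, σT_aT]
  -- (ii)
  have h2 : (FGA.ETiso (πT n S) ((Scheme.Modules.pullback (aT n S)).obj 𝓔) g).hom ≫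
      (can (pullback.fst (πT n S) T'.hom) (aT n S) (bT n T') rfl 𝓔).hom =
      (Scheme.Modules.pullback (PicF.XTmap (πT n S) g)).map
        (can (pullback.fst (πT n S) T.hom) (aT n S) (bT n T) rfl 𝓔).hom ≫
        (can (PicF.XTmap (πT n S) g) (bT n T) (bT n T') (XTmap_bT n g) 𝓔).hom := by
    rw [ETiso_hom_eq, Category.assoc]
    have e1 := can_congr (XTmap_fst' n g) (aT n S) (bT n T') rfl hcG 𝓔
    have e2 := can_comp (PicF.XTmap (πT n S) g) (pullback.fst (πT n S) T.hom) (aT n S) (bT n T)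
      (bT n T') rfl (XTmap_bT n g) hcG 𝓔
    rw [← e2, ← e1]
  -- (v)
  have h5 : (ωT n g ((Scheme.Modules.pullback (aT n T.left)).obj 𝓔)).hom ≫
      (Scheme.Modules.pullback (σT n T')).map
          (can (FGA.projMap n g.left) (aT n T.left) (aT n T'.left) (projMap_aT n g.left) 𝓔).hom ≫
        (can (σT n T') (aT n T'.left) (bT n T') (σT_aT n T') 𝓔).hom =
      (Scheme.Modules.pullback (PicF.XTmap (πT n S) g)).map
        (can (σT n T) (aT n T.left) (bT n T) (σT_aT n T) 𝓔).hom ≫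
        (can (PicF.XTmap (πT n S) g) (bT n T) (bT n T') (XTmap_bT n g) 𝓔).hom := by
    have e1 := can_comp (σT n T') (FGA.projMap n g.left) (aT n T.left) (aT n T'.left) (bT n T')
      (projMap_aT n g.left) (σT_aT n T') hcp 𝓔
    have e2 := can_congr (XTmap_σT n g) (aT n T.left) (bT n T') hcp hcσ 𝓔
    have e3 := can_comp (PicF.XTmap (πT n S) g) (σT n T) (aT n T.left) (bT n T) (bT n T')
      (σT_aT n T) (XTmap_bT n g) hcσ 𝓔
    rw [← e1, ← e3, ← e2]
    unfold ωT
    simp only [Iso.trans_hom, Iso.app_hom, Iso.symm_hom, Iso.app_inv, Category.assoc]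
    rw [Iso.inv_hom_id_app_assoc]
  -- conclusion
  apply (cancel_mono (can (pullback.fst (πT n S) T'.hom) (aT n S) (bT n T') rfl 𝓔).hom).1
  have hLL := final_left (Scheme.Modules.pullback (PicF.XTmap (πT n S) g))
    (can (σT n T) (aT n T.left) (bT n T) (σT_aT n T) 𝓔)
    (can (pullback.fst (πT n S) T.hom) (aT n S) (bT n T) rfl 𝓔)
    (can (PicF.XTmap (πT n S) g) (bT n T) (bT n T') (XTmap_bT n g) 𝓔).hom
    (FGA.ETiso (πT n S) ((Scheme.Modules.pullback (aT n S)).obj 𝓔) g).hom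
    (can (pullback.fst (πT n S) T'.hom) (aT n S) (bT n T') rfl 𝓔).hom h2
  have hRR := final_right (ωT n g ((Scheme.Modules.pullback (aT n T.left)).obj 𝓔)).hom
    ((Scheme.Modules.pullback (σT n T')).map
      (can (FGA.projMap n g.left) (aT n T.left) (aT n T'.left) (projMap_aT n g.left) 𝓔).hom)
    (can (σT n T') (aT n T'.left) (bT n T') (σT_aT n T') 𝓔)
    (can (pullback.fst (πT n S) T'.hom) (aT n S) (bT n T') rfl 𝓔)
  exact hLL.trans (h5.symm.trans hRR.symm)

end OverS

end Groth.Agent.Helper1.QU
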