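import Mathlib
import Groth.Agent.Helper1.QU32

/-!
# Quot schemes, part 33: transport of families of submodules between `P^n_T` and `P^n_S ×_S T`
-/

set_option autoImplicit false
set_option linter.style.haveILetI false
set_option linter.unusedSectionVars false

universe u
open CategoryTheory CategoryTheory.Limits AlgebraicGeometry Opposite

namespace Groth.Agent.Helper1.QU

open Groth.Agent.Helper1.QT
open AlgebraicGeometry.Scheme.Modules

section RightExact

variable {𝒜 ℬ : Type*} [Category 𝒜] [Category ℬ] [Abelian 𝒜] [Abelian ℬ] (F : 𝒜 ⥤ ℬ)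
  [F.Additive] [PreservesFiniteColimits F] {M : 𝒜} {M' : ℬ} (ε : F.obj M ≅ M')

/-- the image of a subobject under a right exact functor -/
noncomputable def imSub (K : Subobject M) : Subobject M' :=
  imageSubobject (F.map K.arrow ≫ ε.hom)

theorem imSub_eq_kernel (K : Subobject M) :
    imSub F ε K = kernelSubobject (ε.inv ≫ F.map (cokernel.π K.arrow)) := by
  let S₀ : ShortComplex 𝒜 := ShortComplex.mk K.arrow (cokernel.π K.arrow) (cokernel.condition _)
  have hS₀ : S₀.ShortExact :=
    ShortComplex.ShortExact.mk' (ShortComplex.exact_cokernel K.arrow) inferInstance inferInstance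
  have h1 := (F.preservesFiniteColimits_iff_forall_exact_map_and_epi).1 inferInstance S₀ hS₀
  exact imageSubobject_comp_iso_eq_kernel _ _ _ h1.1 ε

theorem imSub_kernelSubobject {C : 𝒜} (q : M ⟶ C) [Epi q] :
    imSub F ε (kernelSubobject q) = kernelSubobject (ε.inv ≫ F.map q) := by
  rw [imSub_eq_kernel]
  obtain ⟨i, hi⟩ := exists_iso_of_kernelSubobject_eq (cokernel.π (kernelSubobject q).arrow) q
    (kernelSubobject_cokernel_π (kernelSubobject q))
  apply kernelSubobject_eq_of_iso _ _ (F.mapIso i)
  rw [Category.assoc, Functor.mapIso_hom, ← Functor.map_comp, hi]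

theorem exists_cokernel_imSub_iso (K : Subobject M) :
    ∃ i : cokernel (imSub F ε K).arrow ≅ F.obj (cokernel K.arrow),
      cokernel.π (imSub F ε K).arrow ≫ i.hom = ε.inv ≫ F.map (cokernel.π K.arrow) := by
  rw [imSub_eq_kernel]
  haveI : Epi (F.map (cokernel.π K.arrow)) := inferInstance
  haveI : Epi (ε.inv ≫ F.map (cokernel.π K.arrow)) := epi_comp _ _
  exact exists_cokernel_kernelSubobject_iso _

end RightExact

end Groth.Agent.Helper1.QU
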