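import Mathlib
import Groth.Agent.Helper1.QU33
import Groth.Agent.Helper1.QU19
import Groth.Agent.Lead.PPIsoA

/-!
# Quot schemes, part 34: families of submodules on `P^n_T` versus on `P^n_S ×_S T`
-/

set_option autoImplicit false
set_option linter.style.haveILetI false
set_option linter.unusedSectionVars false

universe u
open CategoryTheory CategoryTheory.Limits AlgebraicGeometry Opposite

namespace Groth.Agent.Helper1.QU

open Groth.Agent.Helper1.QT
open AlgebraicGeometry.Scheme.Modules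

theorem pullback_additive {X Y : Scheme.{u}} (f : X ⟶ Y) : (Scheme.Modules.pullback f).Additive :=
  (Scheme.Modules.pullbackPushforwardAdjunction f).left_adjoint_additive

theorem pullback_preservesFiniteColimits {X Y : Scheme.{u}} (f : X ⟶ Y) :
    PreservesFiniteColimits (Scheme.Modules.pullback f) :=
  haveI : PreservesColimitsOfSize.{0, 0} (Scheme.Modules.pullback f) :=
    (Scheme.Modules.pullbackPushforwardAdjunction f).leftAdjoint_preservesColimits
  PreservesColimitsOfSize.preservesFiniteColimits _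

attribute [local instance] pullback_additive pullback_preservesFiniteColimits

theorem inv_shuffle {𝒟 : Type*} [Category 𝒟] {A B C D E : 𝒟} (a : A ≅ B) (b : B ≅ C) (c : A ≅ D)
    (d : D ≅ E) (e : E ≅ C) (h : a.hom ≫ b.hom = c.hom ≫ d.hom ≫ e.hom) :
    b.inv ≫ a.inv ≫ c.hom = e.inv ≫ d.inv := by
  rw [Iso.inv_comp_eq, Iso.inv_comp_eq, reassoc_of% h]
  simp

section ETisoNat

variable {X S : Scheme.{u}} (f : X ⟶ S) {E E' : X.Modules} (κ : E ⟶ E') {T T' : Over S}
  (g : T' ⟶ T)

/-- `FGA.ETiso` is natural in the module -/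
theorem ETiso_naturality :
    (Scheme.Modules.pullback (PicF.XTmap f g)).map
        ((Scheme.Modules.pullback (pullback.fst f T.hom)).map κ) ≫ (FGA.ETiso f E' g).hom =
      (FGA.ETiso f E g).hom ≫ (Scheme.Modules.pullback (pullback.fst f T'.hom)).map κ := by
  unfold FGA.ETiso
  simp only [Iso.trans_hom, Iso.app_hom, Category.assoc]
  have h1 := (Scheme.Modules.pullbackComp (PicF.XTmap f g) (pullback.fst f T.hom)).hom.naturality κ
  have h2 := (Scheme.Modules.pullbackCongr (FGA.XTmap_fst f g)).hom.naturality κ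
  rw [Functor.comp_map] at h1
  rw [reassoc_of% h1, h2]

end ETisoNat

section Tau

variable (n : ℕ) {S : Scheme.{u}} (𝓔 : (PZ.{u} n).Modules)
  {E_S : (CohB1.ProjSpaceOver n S).Modules} (κ : ET n 𝓔 S ≅ E_S)

/-- the identification of the pullback of `𝓔_T` to `P^n_S ×_S T` with `(E_S)_T` -/
noncomputable def εX (T : Over S) :
    (Scheme.Modules.pullback (σT n T)).obj (ET n 𝓔 T.left) ≅ FGA.ET (πT n S) E_S T :=
  ε0 n 𝓔 T ≪≫ (Scheme.Modules.pullback (pullback.fst (πT n S) T.hom)).mapIso κ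

/-- transport of submodules of `𝓔_T` on `P^n_T` to submodules of `(E_S)_T` on `P^n_S ×_S T` -/
noncomputable def τX (T : Over S) (K : Subobject (ET n 𝓔 T.left)) :
    Subobject (FGA.ET (πT n S) E_S T) :=
  imSub (Scheme.Modules.pullback (σT n T)) (εX n 𝓔 κ T) K

theorem εX_comp {T T' : Over S} (g : T' ⟶ T) :
    (Scheme.Modules.pullback (PicF.XTmap (πT n S) g)).map (εX n 𝓔 κ T).hom ≫
        (FGA.ETiso (πT n S) E_S g).hom =
      (ωT n g (ET n 𝓔 T.left)).hom ≫
        (Scheme.Modules.pullback (σT n T')).map (Eiso n 𝓔 g.left).hom ≫ (εX n 𝓔 κ T').hom := by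
  unfold εX
  simp only [Iso.trans_hom, Functor.mapIso_hom, Functor.map_comp, Category.assoc]
  rw [ETiso_naturality (πT n S) κ.hom g]
  have h := ε0_comp n g 𝓔
  rw [reassoc_of% h]

/-- **transport commutes with pullback of submodules** -/
theorem quotPull_τX {T T' : Over S} (g : T' ⟶ T) (K : Subobject (ET n 𝓔 T.left)) :
    FGA.quotPull (πT n S) E_S g (τX n 𝓔 κ T K) = τX n 𝓔 κ T' (qpull n 𝓔 g.left K) := by
  -- the quotient map
  have hL1 := imSub_eq_kernel (Scheme.Modules.pullback (σT n T)) (εX n 𝓔 κ T) K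
  haveI : Epi ((Scheme.Modules.pullback (σT n T)).map (cokernel.π K.arrow)) := inferInstance
  haveI : Epi ((εX n 𝓔 κ T).inv ≫ (Scheme.Modules.pullback (σT n T)).map (cokernel.π K.arrow)) :=
    epi_comp _ _
  have hL2 := imSub_kernelSubobject (Scheme.Modules.pullback (PicF.XTmap (πT n S) g))
    (FGA.ETiso (πT n S) E_S g)
    ((εX n 𝓔 κ T).inv ≫ (Scheme.Modules.pullback (σT n T)).map (cokernel.π K.arrow))
  have hL : FGA.quotPull (πT n S) E_S g (τX n 𝓔 κ T K) =
      kernelSubobject ((FGA.ETiso (πT n S) E_S g).inv ≫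
        (Scheme.Modules.pullback (PicF.XTmap (πT n S) g)).map
          ((εX n 𝓔 κ T).inv ≫
            (Scheme.Modules.pullback (σT n T)).map (cokernel.π K.arrow))) := by
    have : τX n 𝓔 κ T K = kernelSubobject ((εX n 𝓔 κ T).inv ≫
        (Scheme.Modules.pullback (σT n T)).map (cokernel.π K.arrow)) := hL1
    rw [this]
    exact hL2
  have hR1 := qpull_eq_kernel n 𝓔 g.left K
  have hR2 := imSub_kernelSubobject (Scheme.Modules.pullback (σT n T')) (εX n 𝓔 κ T')
    (pq n 𝓔 g.left (cokernel.π K.arrow))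
  have hR : τX n 𝓔 κ T' (qpull n 𝓔 g.left K) =
      kernelSubobject ((εX n 𝓔 κ T').inv ≫
        (Scheme.Modules.pullback (σT n T')).map (pq n 𝓔 g.left (cokernel.π K.arrow))) := by
    rw [hR1]
    exact hR2
  rw [hL, hR]
  apply kernelSubobject_eq_of_iso _ _ (ωT n g (cokernel K.arrow))
  have hnat := ωT_naturality n g (cokernel.π K.arrow)
  have hsh := inv_shuffle
    ((Scheme.Modules.pullback (PicF.XTmap (πT n S) g)).mapIso (εX n 𝓔 κ T))
    (FGA.ETiso (πT n S) E_S g) (ωT n g (ET n 𝓔 T.left))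
    ((Scheme.Modules.pullback (σT n T')).mapIso (Eiso n 𝓔 g.left)) (εX n 𝓔 κ T')
    (εX_comp n 𝓔 κ g)
  simp only [Functor.mapIso_hom, Functor.mapIso_inv] at hsh
  unfold pq
  simp only [Functor.map_comp, Category.assoc]
  rw [hnat, reassoc_of% hsh]

instance (T : Over S) : (Groth.Agent.Lead.PPIsoA.pullbackEquiv (σT n T)).functor.Additive :=
  pullback_additive (σT n T)

theorem τX_eq_twSub (T : Over S) (K : Subobject (ET n 𝓔 T.left)) :
    τX n 𝓔 κ T K = twSub (Groth.Agent.Lead.PPIsoA.pullbackEquiv (σT n T)) (εX n 𝓔 κ T) K := rfl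

theorem τX_injective (T : Over S) : Function.Injective (τX n 𝓔 κ T) := by
  intro K₁ K₂ h
  exact twSub_injective (Groth.Agent.Lead.PPIsoA.pullbackEquiv (σT n T)) (εX n 𝓔 κ T) h

theorem τX_surjective (T : Over S) : Function.Surjective (τX n 𝓔 κ T) := by
  intro K'
  obtain ⟨K, hK⟩ := twSub_surjective (Groth.Agent.Lead.PPIsoA.pullbackEquiv (σT n T))
    (εX n 𝓔 κ T) K'
  exact ⟨K, hK⟩

theorem isPullback_σT (T : Over S) :
    IsPullback (σT n T) (pullback.snd (πT n S) T.hom) (πT n T.left) (𝟙 T.left) :=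
  IsPullback.of_horiz_isIso ⟨by rw [σT_πT, Category.comp_id]⟩

theorem isPullback_inv_σT (T : Over S) :
    IsPullback (inv (σT n T)) (πT n T.left) (pullback.snd (πT n S) T.hom) (𝟙 T.left) :=
  IsPullback.of_horiz_isIso ⟨by rw [IsIso.inv_comp_eq, Category.comp_id, σT_πT]⟩

/-- **the transport preserves and reflects the conditions defining the Quot sets** -/
theorem τX_mem_iff (T : Over S) (K : Subobject (ET n 𝓔 T.left)) :
    (Coh.IsCoh (cokernel (τX n 𝓔 κ T K).arrow) ∧
      FlatMod.IsFlatOver (PicF.XTproj (πT n S) T) (cokernel (τX n 𝓔 κ T K).arrow)) ↔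
    (Coh.IsCoh (cokernel K.arrow) ∧ FlatMod.IsFlatOver (πT n T.left) (cokernel K.arrow)) := by
  obtain ⟨i, -⟩ := exists_cokernel_imSub_iso (Scheme.Modules.pullback (σT n T)) (εX n 𝓔 κ T) K
  have i' : cokernel (τX n 𝓔 κ T K).arrow ≅
      (Scheme.Modules.pullback (σT n T)).obj (cokernel K.arrow) := i
  constructor
  · rintro ⟨h1, h2⟩
    have h1' : Coh.IsCoh ((Scheme.Modules.pullback (σT n T)).obj (cokernel K.arrow)) :=
      Groth.Agent.Lead.PerfLib.isCoh_of_iso i' h1
    have h2' : FlatMod.IsFlatOver (pullback.snd (πT n S) T.hom)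
        ((Scheme.Modules.pullback (σT n T)).obj (cokernel K.arrow)) := fun x =>
      Groth.Agent.Lead.FpqcSheaf.isFlatOverAt_of_iso _ i' x (h2 x)
    -- the unit of the equivalence
    let u : cokernel K.arrow ≅ (Scheme.Modules.pullback (inv (σT n T))).obj
        ((Scheme.Modules.pullback (σT n T)).obj (cokernel K.arrow)) :=
      (Groth.Agent.Lead.PPIsoA.pullbackEquiv (σT n T)).unitIso.app (cokernel K.arrow)
    have h3 := Groth.Agent.Lead.FlatUnivJ.isCoh_pullback (inv (σT n T)) _ h1'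
    refine ⟨Groth.Agent.Lead.PerfLib.isCoh_of_iso u.symm h3, fun x => ?_⟩
    apply Groth.Agent.Lead.FpqcSheaf.isFlatOverAt_of_iso _ u.symm x
    exact Groth.Agent.Lead.FlatBC.main_baseChange (pullback.snd (πT n S) T.hom) (πT n T.left)
      (inv (σT n T)) (𝟙 T.left) (isPullback_inv_σT n T) _ h1'.1 x (h2' _)
  · rintro ⟨h1, h2⟩
    have h3 := Groth.Agent.Lead.FlatUnivJ.isCoh_pullback (σT n T) _ h1
    refine ⟨Groth.Agent.Lead.PerfLib.isCoh_of_iso i'.symm h3, fun x => ?_⟩
    apply Groth.Agent.Lead.FpqcSheaf.isFlatOverAt_of_iso _ i'.symm x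
    exact Groth.Agent.Lead.FlatBC.main_baseChange (πT n T.left) (pullback.snd (πT n S) T.hom)
      (σT n T) (𝟙 T.left) (isPullback_σT n T) _ h1.1 x (h2 _)

end Tau

end Groth.Agent.Helper1.QU
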