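import Mathlib
import Groth.Agent.Helper1.QU34

/-!
# General Quot schemes, part 1: the Quot functor of a quotient `𝓕 ⟶ 𝓖` as a subfunctor of the
Quot functor of `𝓕`
-/

set_option autoImplicit false
set_option linter.style.haveILetI false
set_option linter.unusedSectionVars false

universe u
open CategoryTheory CategoryTheory.Limits AlgebraicGeometry Opposite

namespace Groth.Agent.Helper1.QV

open Groth.Agent.Helper1.QT Groth.Agent.Helper1.QU
open AlgebraicGeometry.Scheme.Modules

attribute [local instance] pullback_additive pullback_preservesFiniteColimits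

section Abelian

variable {𝒜 : Type*} [Category 𝒜] [Abelian 𝒜] {M M' : 𝒜} (ρ : M ⟶ M') [Epi ρ]

/-- the preimage of a subobject under an epimorphism -/
noncomputable def preSub (K : Subobject M') : Subobject M :=
  kernelSubobject (ρ ≫ cokernel.π K.arrow)

theorem exists_cokernel_preSub_iso (K : Subobject M') :
    ∃ i : cokernel (preSub ρ K).arrow ≅ cokernel K.arrow,
      cokernel.π (preSub ρ K).arrow ≫ i.hom = ρ ≫ cokernel.π K.arrow := by
  haveI : Epi (ρ ≫ cokernel.π K.arrow) := epi_comp _ _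
  exact exists_cokernel_kernelSubobject_iso _

theorem preSub_kernelSubobject {C : 𝒜} (t : M' ⟶ C) [Epi t] :
    preSub ρ (kernelSubobject t) = kernelSubobject (ρ ≫ t) := by
  obtain ⟨i, hi⟩ := exists_cokernel_kernelSubobject_iso t
  exact kernelSubobject_eq_of_iso _ _ i (by rw [Category.assoc, hi])

theorem preSub_injective : Function.Injective (preSub ρ) := by
  intro K₁ K₂ h
  haveI : Epi (ρ ≫ cokernel.π K₁.arrow) := epi_comp _ _
  haveI : Epi (ρ ≫ cokernel.π K₂.arrow) := epi_comp _ _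
  obtain ⟨e, he⟩ := exists_iso_of_kernelSubobject_eq (ρ ≫ cokernel.π K₁.arrow)
    (ρ ≫ cokernel.π K₂.arrow) h
  have h2 : cokernel.π K₁.arrow ≫ e.hom = cokernel.π K₂.arrow := by
    rw [← cancel_epi ρ, ← Category.assoc]
    exact he
  rw [← kernelSubobject_cokernel_π K₁, ← kernelSubobject_cokernel_π K₂]
  exact kernelSubobject_eq_of_iso _ _ e h2

/-- the image of `preSub`: the subobjects whose quotient map kills the kernel of `ρ` -/
theorem exists_preSub_eq_iff {N : 𝒜} (κ : N ⟶ M) (w : κ ≫ ρ = 0)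
    (hex : (ShortComplex.mk κ ρ w).Exact) (K'' : Subobject M) :
    (∃ K, preSub ρ K = K'') ↔ κ ≫ cokernel.π K''.arrow = 0 := by
  constructor
  · rintro ⟨K, rfl⟩
    obtain ⟨i, hi⟩ := exists_cokernel_preSub_iso ρ K
    rw [← cancel_mono i.hom, Category.assoc, hi, ← Category.assoc, w, zero_comp, zero_comp]
  · intro h0
    have hcok : IsColimit (CokernelCofork.ofπ ρ w) := hex.gIsCokernel
    let t : M' ⟶ cokernel K''.arrow :=
      hcok.desc (CokernelCofork.ofπ (cokernel.π K''.arrow) h0)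
    have ht : ρ ≫ t = cokernel.π K''.arrow :=
      hcok.fac (CokernelCofork.ofπ (cokernel.π K''.arrow) h0) WalkingParallelPair.one
    haveI : Epi (ρ ≫ t) := by rw [ht]; infer_instance
    haveI : Epi t := epi_of_epi ρ t
    refine ⟨kernelSubobject t, ?_⟩
    rw [preSub_kernelSubobject, ht]
    exact kernelSubobject_cokernel_π K''

end Abelian

section FGA

variable {X S : Scheme.{u}} (f : X ⟶ S) {𝓕 𝓖 : X.Modules} (ρ : 𝓕 ⟶ 𝓖) [Epi ρ]

/-- the pullback of `ρ` to `X_T` -/
noncomputable def ρT (T : Over S) : FGA.ET f 𝓕 T ⟶ FGA.ET f 𝓖 T :=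
  (Scheme.Modules.pullback (pullback.fst f T.hom)).map ρ

instance (T : Over S) : Epi (ρT f ρ T) := by
  unfold ρT
  infer_instance

/-- **the preimage commutes with pullback of submodules** -/
theorem quotPull_preSub {T T' : Over S} (g : T' ⟶ T) (K : Subobject (FGA.ET f 𝓖 T)) :
    FGA.quotPull f 𝓕 g (preSub (ρT f ρ T) K) =
      preSub (ρT f ρ T') (FGA.quotPull f 𝓖 g K) := by
  haveI : Epi (ρT f ρ T ≫ cokernel.π K.arrow) := epi_comp _ _
  have hL : FGA.quotPull f 𝓕 g (preSub (ρT f ρ T) K) =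
      kernelSubobject ((FGA.ETiso f 𝓕 g).inv ≫
        (Scheme.Modules.pullback (PicF.XTmap f g)).map (ρT f ρ T ≫ cokernel.π K.arrow)) :=
    imSub_kernelSubobject (Scheme.Modules.pullback (PicF.XTmap f g)) (FGA.ETiso f 𝓕 g)
      (ρT f ρ T ≫ cokernel.π K.arrow)
  have hR1 : FGA.quotPull f 𝓖 g K = kernelSubobject ((FGA.ETiso f 𝓖 g).inv ≫
      (Scheme.Modules.pullback (PicF.XTmap f g)).map (cokernel.π K.arrow)) :=
    imSub_eq_kernel (Scheme.Modules.pullback (PicF.XTmap f g)) (FGA.ETiso f 𝓖 g) K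
  haveI : Epi ((Scheme.Modules.pullback (PicF.XTmap f g)).map (cokernel.π K.arrow)) :=
    inferInstance
  haveI : Epi ((FGA.ETiso f 𝓖 g).inv ≫
      (Scheme.Modules.pullback (PicF.XTmap f g)).map (cokernel.π K.arrow)) := epi_comp _ _
  rw [hL, hR1, preSub_kernelSubobject]
  apply kernelSubobject_congr
  have hnat := ETiso_naturality f ρ g
  have h2 : (FGA.ETiso f 𝓕 g).inv ≫
      (Scheme.Modules.pullback (PicF.XTmap f g)).map (ρT f ρ T) =
        ρT f ρ T' ≫ (FGA.ETiso f 𝓖 g).inv := by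
    rw [Iso.inv_comp_eq, ← Category.assoc, Iso.eq_comp_inv]
    exact hnat
  rw [Functor.map_comp, reassoc_of% h2]

/-- **the preimage preserves and reflects the conditions defining the Quot sets** -/
theorem preSub_mem_iff (T : Over S) (K : Subobject (FGA.ET f 𝓖 T)) :
    (Coh.IsCoh (cokernel (preSub (ρT f ρ T) K).arrow) ∧
      FlatMod.IsFlatOver (PicF.XTproj f T) (cokernel (preSub (ρT f ρ T) K).arrow)) ↔
    (Coh.IsCoh (cokernel K.arrow) ∧
      FlatMod.IsFlatOver (PicF.XTproj f T) (cokernel K.arrow)) := by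
  obtain ⟨i, -⟩ := exists_cokernel_preSub_iso (ρT f ρ T) K
  constructor
  · rintro ⟨h1, h2⟩
    exact ⟨Groth.Agent.Lead.PerfLib.isCoh_of_iso i h1, fun x =>
      Groth.Agent.Lead.FpqcSheaf.isFlatOverAt_of_iso _ i x (h2 x)⟩
  · rintro ⟨h1, h2⟩
    exact ⟨Groth.Agent.Lead.PerfLib.isCoh_of_iso i.symm h1, fun x =>
      Groth.Agent.Lead.FpqcSheaf.isFlatOverAt_of_iso _ i.symm x (h2 x)⟩

/-- the pullback of the kernel of `ρ` -/
noncomputable def κT (T : Over S) : FGA.ET f (kernel ρ) T ⟶ FGA.ET f 𝓕 T :=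
  (Scheme.Modules.pullback (pullback.fst f T.hom)).map (kernel.ι ρ)

/-- the image of the preimage map -/
theorem exists_preSub_eq_iff_κT (T : Over S) (K'' : Subobject (FGA.ET f 𝓕 T)) :
    (∃ K, preSub (ρT f ρ T) K = K'') ↔ κT f ρ T ≫ cokernel.π K''.arrow = 0 := by
  let S₀ : ShortComplex X.Modules := ShortComplex.mk (kernel.ι ρ) ρ (kernel.condition ρ)
  have hS₀ : S₀.ShortExact :=
    ShortComplex.ShortExact.mk' (ShortComplex.exact_kernel ρ) inferInstance inferInstance
  have h1 := ((Scheme.Modules.pullback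
    (pullback.fst f T.hom)).preservesFiniteColimits_iff_forall_exact_map_and_epi).1
      inferInstance S₀ hS₀
  exact exists_preSub_eq_iff (ρT f ρ T) (κT f ρ T) _ h1.1 K''

end FGA

end Groth.Agent.Helper1.QV
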