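import Mathlib
import Groth.Agent.Helper1.QV1
import Groth.Agent.Lead.LimPres

/-!
# General Quot schemes, part 2: calculus of `FGA.quotPull` (kernels of pulled back quotient
maps, functoriality, stability of the Quot sets)
-/

set_option autoImplicit false
set_option linter.style.haveILetI false
set_option linter.unusedSectionVars false

universe u
open CategoryTheory CategoryTheory.Limits AlgebraicGeometry Opposite

namespace Groth.Agent.Helper1.QV

open Groth.Agent.Helper1.QT Groth.Agent.Helper1.QU
open AlgebraicGeometry.Scheme.Modules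

attribute [local instance] pullback_additive pullback_preservesFiniteColimits

variable {X S : Scheme.{u}} (f : X ⟶ S) (E : X.Modules)

section Basic

variable {T T' : Over S} (g : T' ⟶ T)

/-- the pullback of a quotient map of `E_T` -/
noncomputable def pqX {F : (PicF.XT f T).Modules} (q : FGA.ET f E T ⟶ F) :
    FGA.ET f E T' ⟶ (Scheme.Modules.pullback (PicF.XTmap f g)).obj F :=
  (FGA.ETiso f E g).inv ≫ (Scheme.Modules.pullback (PicF.XTmap f g)).map q

instance {F : (PicF.XT f T).Modules} (q : FGA.ET f E T ⟶ F) [Epi q] : Epi (pqX f E g q) := by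
  unfold pqX
  haveI : Epi ((Scheme.Modules.pullback (PicF.XTmap f g)).map q) := inferInstance
  exact epi_comp _ _

theorem quotPull_eq_kernel (K : Subobject (FGA.ET f E T)) :
    FGA.quotPull f E g K = kernelSubobject (pqX f E g (cokernel.π K.arrow)) :=
  imSub_eq_kernel (Scheme.Modules.pullback (PicF.XTmap f g)) (FGA.ETiso f E g) K

theorem quotPull_kernelSubobject {F : (PicF.XT f T).Modules} (q : FGA.ET f E T ⟶ F) [Epi q] :
    FGA.quotPull f E g (kernelSubobject q) = kernelSubobject (pqX f E g q) :=
  imSub_kernelSubobject (Scheme.Modules.pullback (PicF.XTmap f g)) (FGA.ETiso f E g) q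

theorem exists_cokernel_quotPull_iso (K : Subobject (FGA.ET f E T)) :
    ∃ i : cokernel (FGA.quotPull f E g K).arrow ≅
        (Scheme.Modules.pullback (PicF.XTmap f g)).obj (cokernel K.arrow),
      cokernel.π (FGA.quotPull f E g K).arrow ≫ i.hom = pqX f E g (cokernel.π K.arrow) :=
  exists_cokernel_imSub_iso (Scheme.Modules.pullback (PicF.XTmap f g)) (FGA.ETiso f E g) K

/-- the Quot sets are stable under pullback -/
theorem quotPull_mem (K : FGA.QuotSet f E T) :
    Coh.IsCoh (cokernel (FGA.quotPull f E g K.1).arrow) ∧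
      FlatMod.IsFlatOver (PicF.XTproj f T') (cokernel (FGA.quotPull f E g K.1).arrow) := by
  obtain ⟨i, -⟩ := exists_cokernel_quotPull_iso f E g K.1
  have h1 := Groth.Agent.Lead.FlatUnivJ.isCoh_pullback (PicF.XTmap f g) _ K.2.1
  refine ⟨Groth.Agent.Lead.PerfLib.isCoh_of_iso i.symm h1, fun x => ?_⟩
  apply Groth.Agent.Lead.FpqcSheaf.isFlatOverAt_of_iso _ i.symm x
  exact Groth.Agent.Lead.FlatBC.main_baseChange (PicF.XTproj f T) (PicF.XTproj f T')
    (PicF.XTmap f g) g.left (Groth.Agent.Lead.LimPres.isPullback_XTmap f g) _ K.2.1.1 x (K.2.2 _)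

/-- the pullback of an element of the Quot set -/
noncomputable def QuotSet.pull (K : FGA.QuotSet f E T) : FGA.QuotSet f E T' :=
  ⟨FGA.quotPull f E g K.1, quotPull_mem f E g K⟩

end Basic

section Comp

variable {T T' T'' : Over S} (k : T'' ⟶ T') (g : T' ⟶ T)

/-- the comparison isomorphism along a composite -/
noncomputable def XcompIso (F : (PicF.XT f T).Modules) :
    (Scheme.Modules.pullback (PicF.XTmap f k)).obj
        ((Scheme.Modules.pullback (PicF.XTmap f g)).obj F) ≅
      (Scheme.Modules.pullback (PicF.XTmap f (k ≫ g))).obj F :=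
  (Scheme.Modules.pullbackComp (PicF.XTmap f k) (PicF.XTmap f g)).app F ≪≫
    (Scheme.Modules.pullbackCongr (Groth.Agent.Lead.LimPres.XTmap_comp f k g).symm).app F

theorem XcompIso_naturality {F G : (PicF.XT f T).Modules} (q : F ⟶ G) :
    (Scheme.Modules.pullback (PicF.XTmap f k)).map
        ((Scheme.Modules.pullback (PicF.XTmap f g)).map q) ≫ (XcompIso f k g G).hom =
      (XcompIso f k g F).hom ≫ (Scheme.Modules.pullback (PicF.XTmap f (k ≫ g))).map q := by
  unfold XcompIso
  simp only [Iso.trans_hom, Iso.app_hom, Category.assoc]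
  have h1 := (Scheme.Modules.pullbackComp (PicF.XTmap f k) (PicF.XTmap f g)).hom.naturality q
  have h2 := (Scheme.Modules.pullbackCongr
    (Groth.Agent.Lead.LimPres.XTmap_comp f k g).symm).hom.naturality q
  rw [← h2]
  exact (reassoc_of% h1) _

/-- **the comparison isomorphisms of `E` are compatible with composition** -/
theorem ETiso_comp :
    (XcompIso f k g (FGA.ET f E T)).hom ≫ (FGA.ETiso f E (k ≫ g)).hom =
      (Scheme.Modules.pullback (PicF.XTmap f k)).map (FGA.ETiso f E g).hom ≫
        (FGA.ETiso f E k).hom := by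
  have hc' : (PicF.XTmap f k ≫ PicF.XTmap f g) ≫ pullback.fst f T.hom =
      pullback.fst f T''.hom := by
    rw [Category.assoc, FGA.XTmap_fst, FGA.XTmap_fst]
  have h1 := pullbackComp_coherence (PicF.XTmap f k) (PicF.XTmap f g) (pullback.fst f T.hom)
    (pullback.fst f T'.hom) (pullback.fst f T''.hom) (FGA.XTmap_fst f g) (FGA.XTmap_fst f k)
    hc' E
  have h2 := pullbackCongr_pullbackComp (Groth.Agent.Lead.LimPres.XTmap_comp f k g).symm
    (pullback.fst f T.hom) (pullback.fst f T''.hom) (FGA.XTmap_fst f (k ≫ g)) hc' E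
  unfold XcompIso FGA.ETiso
  simp only [Iso.trans_hom, Iso.app_hom, Category.assoc]
  unfold FGA.ET
  rw [h2]
  exact h1

/-- the pullback of quotient maps is compatible with composition -/
theorem pqX_comp {F : (PicF.XT f T).Modules} (q : FGA.ET f E T ⟶ F) :
    pqX f E k (pqX f E g q) ≫ (XcompIso f k g F).hom = pqX f E (k ≫ g) q := by
  have key : (Scheme.Modules.pullback (PicF.XTmap f k)).map (FGA.ETiso f E g).inv ≫
      (XcompIso f k g (FGA.ET f E T)).hom =
        (FGA.ETiso f E k).hom ≫ (FGA.ETiso f E (k ≫ g)).inv := by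
    rw [Iso.eq_comp_inv, Category.assoc, ETiso_comp, ← Functor.map_comp_assoc, Iso.inv_hom_id,
      CategoryTheory.Functor.map_id, Category.id_comp]
  unfold pqX
  rw [Functor.map_comp, Category.assoc, Category.assoc, XcompIso_naturality, Iso.inv_comp_eq,
    ← Category.assoc, ← Category.assoc, key]

/-- **functoriality of the pullback of submodules** -/
theorem quotPull_comp (K : Subobject (FGA.ET f E T)) :
    FGA.quotPull f E k (FGA.quotPull f E g K) = FGA.quotPull f E (k ≫ g) K := by
  obtain ⟨e, he⟩ := exists_cokernel_quotPull_iso f E g K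
  rw [quotPull_eq_kernel f E k, quotPull_eq_kernel f E (k ≫ g)]
  refine kernelSubobject_eq_of_iso _ _
    ((Scheme.Modules.pullback (PicF.XTmap f k)).mapIso e ≪≫ XcompIso f k g _) ?_
  rw [← pqX_comp, ← he]
  unfold pqX
  simp only [Functor.map_comp, Category.assoc, Iso.trans_hom, Functor.mapIso_hom]

end Comp

end Groth.Agent.Helper1.QV
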