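import Mathlib
import Groth.Agent.Helper1.QV2

/-!
# General Quot schemes, part 3: the Quot functor of a quotient `𝓕 ⟶ 𝓖` is represented by a closed
subscheme of the Quot scheme of `𝓕` as soon as the vanishing of the obstruction is
-/

set_option autoImplicit false
set_option linter.style.haveILetI false
set_option linter.unusedSectionVars false

universe u
open CategoryTheory CategoryTheory.Limits AlgebraicGeometry Opposite

namespace Groth.Agent.Helper1.QV

open Groth.Agent.Helper1.QT Groth.Agent.Helper1.QU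
open AlgebraicGeometry.Scheme.Modules

attribute [local instance] pullback_additive pullback_preservesFiniteColimits

variable {X S : Scheme.{u}} (f : X ⟶ S) {𝓕 𝓖 : X.Modules} (ρ : 𝓕 ⟶ 𝓖) [Epi ρ]
  (Q : Over S) (Ku : FGA.QuotSet f 𝓕 Q)

/-- the obstruction: the kernel of `ρ` mapped to the universal quotient -/
noncomputable def obs : FGA.ET f (kernel ρ) Q ⟶ cokernel Ku.1.arrow :=
  κT f ρ Q ≫ cokernel.π Ku.1.arrow

/-- the pullback of the obstruction along `g` vanishes iff the pullback of the universal family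
comes from a family of quotients of `𝓖` -/
theorem pullback_obs_eq_zero_iff {T : Over S} (g : T ⟶ Q) :
    (Scheme.Modules.pullback (PicF.XTmap f g)).map (obs f ρ Q Ku) = 0 ↔
      ∃ K, preSub (ρT f ρ T) K = FGA.quotPull f 𝓕 g Ku.1 := by
  rw [exists_preSub_eq_iff_κT]
  obtain ⟨i, hi⟩ := exists_cokernel_quotPull_iso f 𝓕 g Ku.1
  have hnat := ETiso_naturality f (kernel.ι ρ) g
  have h2 : κT f ρ T ≫ (FGA.ETiso f 𝓕 g).inv =
      (FGA.ETiso f (kernel ρ) g).inv ≫
        (Scheme.Modules.pullback (PicF.XTmap f g)).map (κT f ρ Q) := by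
    rw [Iso.eq_inv_comp, ← Category.assoc, Iso.comp_inv_eq]
    exact hnat.symm
  have h3 : κT f ρ T ≫ cokernel.π (FGA.quotPull f 𝓕 g Ku.1).arrow ≫ i.hom =
      (FGA.ETiso f (kernel ρ) g).inv ≫
        (Scheme.Modules.pullback (PicF.XTmap f g)).map (obs f ρ Q Ku) := by
    rw [hi]
    unfold pqX obs
    rw [reassoc_of% h2, Functor.map_comp]
  constructor
  · intro h0
    rw [← cancel_mono i.hom, Category.assoc, h3, h0, comp_zero, zero_comp]
  · intro h0
    rw [← cancel_epi (FGA.ETiso f (kernel ρ) g).inv, ← h3, ← Category.assoc, h0, zero_comp,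
      comp_zero]

variable (hQ : FGA.QuotRepresentedBy f 𝓕 Q Ku) (Q' : Over S) (h : Q' ⟶ Q)
  [IsClosedImmersion h.left]
  (hh : ∀ (T : Over S) (g : T ⟶ Q),
    (Scheme.Modules.pullback (PicF.XTmap f g)).map (obs f ρ Q Ku) = 0 ↔ ∃ k : T ⟶ Q', k ≫ h = g)

include hQ hh in
/-- **the Quot functor of a quotient is represented by the closed subscheme where the obstruction
vanishes** -/
theorem exists_quotRepresentedBy_of_closed :
    ∃ K' : FGA.QuotSet f 𝓖 Q', FGA.QuotRepresentedBy f 𝓖 Q' K' ∧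
      preSub (ρT f ρ Q') K'.1 = FGA.quotPull f 𝓕 h Ku.1 := by
  haveI := hQ.1
  haveI : IsLocallyNoetherian Q'.left := LocallyOfFiniteType.isLocallyNoetherian h.left
  haveI : Mono h := by
    constructor
    intro T a b hab
    ext
    have := congrArg (fun m => m.left) hab
    simp only [Over.comp_left] at this
    exact (cancel_mono h.left).1 this
  -- the universal family
  obtain ⟨K₀, hK₀⟩ := (pullback_obs_eq_zero_iff f ρ Q Ku h).1
    ((hh Q' h).2 ⟨𝟙 _, Category.id_comp _⟩)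
  have hK₀mem : Coh.IsCoh (cokernel K₀.arrow) ∧
      FlatMod.IsFlatOver (PicF.XTproj f Q') (cokernel K₀.arrow) := by
    rw [← preSub_mem_iff f ρ Q' K₀, hK₀]
    exact quotPull_mem f 𝓕 h Ku
  refine ⟨⟨K₀, hK₀mem⟩, ⟨inferInstance, ?_⟩, hK₀⟩
  intro T _ K
  -- the classifying morphism to `Q`
  let K₁ : FGA.QuotSet f 𝓕 T := ⟨preSub (ρT f ρ T) K.1, (preSub_mem_iff f ρ T K.1).2 K.2⟩
  obtain ⟨g, hg, hguniq⟩ := hQ.2 T K₁
  have hg' : FGA.quotPull f 𝓕 g Ku.1 = preSub (ρT f ρ T) K.1 := hg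
  obtain ⟨k, hk⟩ := (hh T g).1 ((pullback_obs_eq_zero_iff f ρ Q Ku g).2 ⟨K.1, hg'.symm⟩)
  have key : ∀ k' : T ⟶ Q', FGA.quotPull f 𝓖 k' K₀ = K.1 ↔
      FGA.quotPull f 𝓕 (k' ≫ h) Ku.1 = preSub (ρT f ρ T) K.1 := by
    intro k'
    rw [← quotPull_comp, ← hK₀, quotPull_preSub]
    exact ⟨fun h0 => by rw [h0], fun h0 => preSub_injective _ h0⟩
  refine ⟨k, ?_, ?_⟩
  · show FGA.quotPull f 𝓖 k K₀ = K.1
    rw [key, hk]
    exact hg'
  · intro k' hk'
    have h1 : FGA.quotPull f 𝓖 k' K₀ = K.1 := hk'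
    rw [key] at h1
    have h2 : k' ≫ h = g := hguniq _ h1
    rw [← cancel_mono h, h2, hk]

end Groth.Agent.Helper1.QV
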