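import Groth.Agent.Helper1.PSep1
import Groth.Prelude.Def_AbDual

set_option autoImplicit false
set_option linter.style.haveILetI false
set_option linter.unusedSectionVars false
set_option linter.unusedVariables false

/-!
# Points of the diagonal, naturality of the classifying maps
-/

namespace Groth.Agent.Helper1.PSep

open CategoryTheory AlgebraicGeometry AlgebraicGeometry.Scheme.Modules TopologicalSpace Topology
open Groth.Agent.Helper1.UGC Groth.Agent.Helper4 Groth.Agent.Helper4.FinLocFree
open Groth.Agent.Helper1.SS

universe u

/-- members of an fppf covering through a given point -/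
theorem exists_mem_fppf {T : Scheme.{u}} (R : Presieve T) (hR : R ∈ Scheme.fppfPrecoverage T)
    (t : T) :
    ∃ (U : Scheme.{u}) (u : U ⟶ T), R u ∧ t ∈ Set.range u ∧ Flat u ∧
      LocallyOfFinitePresentation u := by
  have h1 : R ∈ Scheme.jointlySurjectivePrecoverage T := hR.1
  have h2 := hR.2
  rw [Presieve.mem_comap_jointlySurjectivePrecoverage_iff] at h1
  obtain ⟨U, u, hu, ht⟩ := h1 t
  exact ⟨U, u, hu, ht, (h2 hu).1, (h2 hu).2⟩

variable {X S : Scheme.{u}} (f : X ⟶ S)

/-- the base change squares of the relative Picard functor are cartesian -/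
theorem isPullback_XTmap {T T' : Over S} (g : T' ⟶ T) :
    IsPullback (PicF.XTmap f g) (PicF.XTproj f T') (PicF.XTproj f T) g.left := by
  have h1 : PicF.XTmap f g ≫ Limits.pullback.fst f T.hom = Limits.pullback.fst f T'.hom := by
    unfold PicF.XTmap
    rw [Limits.pullback.lift_fst, Category.comp_id]
  have h2 : PicF.XTmap f g ≫ Limits.pullback.snd f T.hom =
      Limits.pullback.snd f T'.hom ≫ g.left := by
    unfold PicF.XTmap
    rw [Limits.pullback.lift_snd]
  refine IsPullback.of_right ?_ h2 (IsPullback.of_hasPullback f T.hom)
  rw [h1, Over.w g]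
  exact IsPullback.of_hasPullback f T'.hom

/-- a point is mapped into the diagonal by a pair of morphisms iff the two morphisms agree on its
residue field point -/
theorem mem_preimage_range_diagonal_iff {Q S W : Scheme.{u}} (q : Q ⟶ S) (α β : W ⟶ Q)
    (hαβ : α ≫ q = β ≫ q) (x : W) :
    (Limits.pullback.lift α β hαβ : W ⟶ Limits.pullback q q) x ∈
        Set.range (Limits.pullback.diagonal q) ↔
      W.fromSpecResidueField x ≫ α = W.fromSpecResidueField x ≫ β := by
  set m : W ⟶ Limits.pullback q q := Limits.pullback.lift α β hαβ with hm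
  have hm1 : m ≫ Limits.pullback.fst q q = α := Limits.pullback.lift_fst _ _ _
  have hm2 : m ≫ Limits.pullback.snd q q = β := Limits.pullback.lift_snd _ _ _
  constructor
  · intro hx
    rw [mem_range_iff_exists_lift] at hx
    obtain ⟨u, hu⟩ := hx
    have h1 : W.fromSpecResidueField x ≫ m =
        (Spec.map (m.residueFieldMap x) ≫ u) ≫ Limits.pullback.diagonal q := by
      rw [Category.assoc, hu, Scheme.Hom.SpecMap_residueFieldMap_fromSpecResidueField]
    have e1 : W.fromSpecResidueField x ≫ α = Spec.map (m.residueFieldMap x) ≫ u := by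
      rw [← hm1, ← Category.assoc, h1, Category.assoc, Limits.pullback.diagonal_fst,
        Category.comp_id]
    have e2 : W.fromSpecResidueField x ≫ β = Spec.map (m.residueFieldMap x) ≫ u := by
      rw [← hm2, ← Category.assoc, h1, Category.assoc, Limits.pullback.diagonal_snd,
        Category.comp_id]
    rw [e1, e2]
  · intro h
    have h1 : W.fromSpecResidueField x ≫ m =
        (W.fromSpecResidueField x ≫ α) ≫ Limits.pullback.diagonal q := by
      apply Limits.pullback.hom_ext
      · rw [Category.assoc, hm1, Category.assoc, Limits.pullback.diagonal_fst, Category.comp_id]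
      · rw [Category.assoc, hm2, Category.assoc, Limits.pullback.diagonal_snd, Category.comp_id, h]
    let pt : Spec (W.residueField x) := IsLocalRing.closedPoint (W.residueField x)
    refine ⟨(W.fromSpecResidueField x ≫ α) pt, ?_⟩
    have h2 := congr($(h1) pt)
    rw [Scheme.Hom.comp_apply, Scheme.Hom.comp_apply, Scheme.fromSpecResidueField_apply] at h2
    exact h2.symm

end Groth.Agent.Helper1.PSep
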