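import Mathlib
import Groth.Agent.Helper1.HQ2
import Groth.Agent.Helper1.SS3
import Groth.Agent.Helper2.FinLocFreeLim
import Groth.Agent.Helper4.QcohLimits
import Groth.Agent.Helper4.QcohEpi
import Groth.Agent.Helper4.FinLocFree2
import Groth.Agent.Helper4.FinLocFree4
import Groth.Agent.Helper4.FinLocFree7

/-!
# ZL1: the zero locus of a homomorphism into a locally free module of constant rank
-/

set_option autoImplicit false
set_option linter.style.haveILetI false
set_option linter.unusedSectionVars false

universe u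
open CategoryTheory CategoryTheory.Limits AlgebraicGeometry Opposite TopologicalSpace
open AlgebraicGeometry.Scheme.Modules

namespace Groth.Agent.Helper1.ZL

variable {S : Scheme.{u}} {E F : S.Modules}

theorem isIso_cokernel_π_of_eq_zero {C : Type*} [Category C] [Abelian C] {A B : C} (w : A ⟶ B)
    (h : w = 0) : IsIso (cokernel.π w) := by
  subst h
  infer_instance

instance (T : Scheme.{u}) (g : T ⟶ S) : PreservesColimitsOfSize.{u, u} (Scheme.Modules.pullback g) :=
  (pullbackPushforwardAdjunction g).leftAdjoint_preservesColimits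

/-- the pullback of `v` vanishes iff the pullback of its cokernel is locally free of the rank of
the target -/
theorem pullback_map_eq_zero_iff (b : ℕ) (hF : FlatMod.IsFinLocFreeOfRank b F) (v : E ⟶ F)
    {T : Scheme.{u}} (g : T ⟶ S) :
    (Scheme.Modules.pullback g).map v = 0 ↔
      FlatMod.IsFinLocFreeOfRank b ((Scheme.Modules.pullback g).obj (cokernel v)) := by
  have hgF : FlatMod.IsFinLocFreeOfRank b ((Scheme.Modules.pullback g).obj F) :=
    Groth.Agent.Helper2.FinLocFreeLim.isFinLocFreeOfRank_pullback g hF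
  haveI : Epi (cokernel.π v) := coequalizer.π_epi
  haveI : Epi ((Scheme.Modules.pullback g).map (cokernel.π v)) := inferInstance
  constructor
  · intro h0
    haveI : IsIso (cokernel.π ((Scheme.Modules.pullback g).map v)) :=
      isIso_cokernel_π_of_eq_zero _ h0
    let e : (Scheme.Modules.pullback g).obj F ≅ (Scheme.Modules.pullback g).obj (cokernel v) :=
      asIso (cokernel.π ((Scheme.Modules.pullback g).map v)) ≪≫
        (PreservesCokernel.iso (Scheme.Modules.pullback g) v).symm
    exact Groth.Agent.Helper2.FinLocFreeLim.isFinLocFreeOfRank_of_iso e hgF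
  · intro hM
    haveI : IsIso ((Scheme.Modules.pullback g).map (cokernel.π v)) :=
      Groth.Agent.Helper1.SS.isIso_of_epi_of_sameRank
        (Groth.Agent.Helper4.FinLocFree7.isFinLocFree_of_rank _ hgF)
        (Groth.Agent.Helper4.FinLocFree7.isFinLocFree_of_rank _ hM) _
        (fun x => ⟨b, Groth.Agent.Helper1.SS.mem_rankOpen_of_isFinLocFreeOfRank hgF x,
          Groth.Agent.Helper1.SS.mem_rankOpen_of_isFinLocFreeOfRank hM x⟩)
    rw [← cancel_mono ((Scheme.Modules.pullback g).map (cokernel.π v)), ← Functor.map_comp,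
      cokernel.condition, Functor.map_zero, zero_comp]

/-- **the zero locus of a homomorphism into a locally free module of constant rank** -/
theorem exists_zeroLocus_of_rank [E.IsQuasicoherent] (b : ℕ)
    (hF : FlatMod.IsFinLocFreeOfRank b F) (v : E ⟶ F) :
    ∃ (Z : Scheme.{u}) (e : Z ⟶ S), IsClosedImmersion e ∧
      ∀ (T : Scheme.{u}) (g : T ⟶ S),
        (Scheme.Modules.pullback g).map v = 0 ↔ ∃ g' : T ⟶ Z, g' ≫ e = g := by
  have hFlf : FlatMod.IsFinLocFree F := Groth.Agent.Helper4.FinLocFree7.isFinLocFree_of_rank F hF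
  haveI : F.IsQuasicoherent :=
    Groth.Agent.Helper4.FinLocFree4.isQuasicoherent_of_isFinLocFree F hFlf
  haveI hq : (cokernel v).IsQuasicoherent :=
    Groth.Agent.Helper4.QcohLimits.isQuasicoherent_cokernel v
  have hFft : SheafOfModules.IsFiniteType (R := S.ringCatSheaf) F :=
    Groth.Agent.Helper4.FinLocFree2.isFiniteType_of_isFinitePresentation F
      (Groth.Agent.Helper4.FinLocFree2.isFinitePresentation_of_isFinLocFree F hFlf)
  haveI hepi : Epi (cokernel.π v) := coequalizer.π_epi
  have hft : SheafOfModules.IsFiniteType (R := S.ringCatSheaf) (cokernel v) :=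
    @Groth.Agent.Helper4.QcohEpi.isFiniteType_of_epi _ _ _ (cokernel.π v) hepi _ hq hFft
  obtain ⟨Z, e, -, hP, hcl⟩ :=
    Groth.Agent.Helper1.HQ.exists_universal_rank_immersion (cokernel v) hft b
  refine ⟨Z, e, hcl ?_, fun T g => ?_⟩
  · intro s
    obtain ⟨U, hs, ⟨i⟩⟩ := hF s
    haveI : Epi ((restrictFunctor U.ι).map (cokernel.π v)) := inferInstance
    exact ⟨U, hs, i.inv ≫ (restrictFunctor U.ι).map (cokernel.π v), inferInstance⟩
  · rw [pullback_map_eq_zero_iff b hF v g]
    exact hP T g

end Groth.Agent.Helper1.ZL
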