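import Mathlib
import Groth.Agent.Helper1.ZL1
import Groth.Agent.Helper4.CounitGG
import Groth.Agent.Helper8.ClopSigma
import Groth.Agent.Lead.StalkPull

/-!
# ZL2: the zero locus of a homomorphism into a finite locally free module
-/

set_option autoImplicit false
set_option linter.style.haveILetI false
set_option linter.unusedSectionVars false

universe u
open CategoryTheory CategoryTheory.Limits AlgebraicGeometry Opposite TopologicalSpace
open AlgebraicGeometry.Scheme.Modules

namespace Groth.Agent.Helper1.ZL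

section General

/-- naturally isomorphic functors kill the same morphisms -/
theorem map_eq_zero_iff_of_natIso {C D : Type*} [Category C] [Category D] [HasZeroMorphisms D]
    {F G : C ⥤ D} (e : F ≅ G) {A B : C} (φ : A ⟶ B) : F.map φ = 0 ↔ G.map φ = 0 := by
  constructor
  · intro h
    rw [← cancel_mono (e.inv.app B), e.inv.naturality, h, comp_zero, zero_comp]
  · intro h
    rw [← cancel_mono (e.hom.app B), e.hom.naturality, h, comp_zero, zero_comp]

theorem pullback_comp_map_eq_zero_iff {X Y Z : Scheme.{u}} (g : X ⟶ Y) (k : Y ⟶ Z)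
    {A B : Z.Modules} (w : A ⟶ B) :
    (Scheme.Modules.pullback (g ≫ k)).map w = 0 ↔
      (Scheme.Modules.pullback g).map ((Scheme.Modules.pullback k).map w) = 0 :=
  (map_eq_zero_iff_of_natIso (pullbackComp g k) w).symm

theorem pullback_comp_map_eq_zero {X Y Z : Scheme.{u}} (g : X ⟶ Y) (k : Y ⟶ Z)
    {A B : Z.Modules} (w : A ⟶ B) (h : (Scheme.Modules.pullback k).map w = 0) :
    (Scheme.Modules.pullback (g ≫ k)).map w = 0 := by
  rw [pullback_comp_map_eq_zero_iff, h, Functor.map_zero]

theorem pullback_map_eq_zero_congr {X Y : Scheme.{u}} {g g' : X ⟶ Y} (hg : g = g')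
    {A B : Y.Modules} (w : A ⟶ B) :
    (Scheme.Modules.pullback g).map w = 0 ↔ (Scheme.Modules.pullback g').map w = 0 := by
  subst hg
  rfl

/-- a morphism of modules vanishes if its pullbacks along a jointly surjective family of open
immersions vanish -/
theorem eq_zero_of_pullback_cover {X : Scheme.{u}} {M Q : X.Modules} (φ : M ⟶ Q) {ι : Type*}
    (Y : ι → Scheme.{u}) (j : ∀ i, Y i ⟶ X) [∀ i, IsOpenImmersion (j i)]
    (hcov : ∀ x : X, ∃ i, x ∈ Set.range (j i))
    (h : ∀ i, (Scheme.Modules.pullback (j i)).map φ = 0) : φ = 0 := by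
  refine Groth.Agent.Helper4.CounitGG.eq_zero_of_restrict_map_eq_zero M Q φ
    (fun i => (j i).opensRange) hcov ?_
  intro i
  rw [map_eq_zero_iff_of_natIso (restrictFunctorIsoPullback (j i).opensRange.ι) φ]
  have h1 : (j i).isoOpensRange.inv ≫ j i = (j i).opensRange.ι :=
    (j i).isoOpensRange_inv_comp
  rw [← pullback_map_eq_zero_congr h1]
  exact pullback_comp_map_eq_zero _ _ _ (h i)

variable {T Y : Scheme.{u}} {ι : Type*} (W : ι → T.Opens) (hcov : ∀ x : T, ∃ i, x ∈ W i)
  (hdisj : ∀ (i j : ι) (x : T), x ∈ W i → x ∈ W j → i = j)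

/-- the cover by the members of an open partition -/
noncomputable def partCover : T.OpenCover where
  I₀ := ι
  X := fun i => (W i : Scheme.{u})
  f := fun i => (W i).ι
  mem₀ := by
    rw [Scheme.presieve₀_mem_precoverage_iff]
    refine ⟨fun x => ?_, inferInstance⟩
    obtain ⟨i, hi⟩ := hcov x
    refine ⟨i, ?_⟩
    rw [Scheme.Opens.range_ι]
    exact hi

include hcov hdisj in
/-- gluing morphisms along an open partition -/
theorem exists_glue_of_partition (g : ∀ i, (W i : Scheme.{u}) ⟶ Y) :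
    ∃ h : T ⟶ Y, ∀ i, (W i).ι ≫ h = g i := by
  classical
  let 𝒰 := partCover W hcov
  have hcompat : ∀ i j : ι, pullback.fst (𝒰.f i) (𝒰.f j) ≫ g i =
      pullback.snd (𝒰.f i) (𝒰.f j) ≫ g j := by
    intro i j
    by_cases hij : i = j
    · subst hij
      have : pullback.fst (𝒰.f i) (𝒰.f i) = pullback.snd (𝒰.f i) (𝒰.f i) := by
        rw [← cancel_mono (𝒰.f i)]
        exact pullback.condition
      rw [this]
    · haveI : IsEmpty ↑(pullback (𝒰.f i) (𝒰.f j)) := by
        rw [Scheme.isEmpty_pullback_iff]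
        rw [Set.disjoint_iff]
        rintro t ⟨⟨a, rfl⟩, ⟨b, hb⟩⟩
        have hb' : (W j).ι b = (W i).ι a := hb
        have h1 : (W i).ι a ∈ W i := a.2
        have h2 : (W i).ι a ∈ W j := by
          rw [← hb']
          exact b.2
        exact hij (hdisj i j _ h1 h2)
      exact (isInitialOfIsEmpty (X := pullback (𝒰.f i) (𝒰.f j))).hom_ext _ _
  exact ⟨𝒰.glueMorphisms g hcompat, fun i => 𝒰.ι_glueMorphisms g hcompat i⟩

include hcov in
theorem hom_ext_of_partition (h h' : T ⟶ Y)
    (hh : ∀ i, (W i).ι ≫ h = (W i).ι ≫ h') : h = h' :=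
  (partCover W hcov).hom_ext _ _ hh

end General

variable {S : Scheme.{u}} {E F : S.Modules}

/-- **the zero locus of a homomorphism into a finite locally free module**, as a closed
immersion -/
theorem exists_zeroLocus [E.IsQuasicoherent] (hF : FlatMod.IsFinLocFree F) (v : E ⟶ F) :
    ∃ (Z : Scheme.{u}) (h : Z ⟶ S), IsClosedImmersion h ∧
      ∀ (T : Scheme.{u}) (f : T ⟶ S),
        (Scheme.Modules.pullback f).map v = 0 ↔ ∃ g : T ⟶ Z, g ≫ h = f := by
  classical
  haveI : F.IsQuasicoherent :=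
    Groth.Agent.Helper4.FinLocFree4.isQuasicoherent_of_isFinLocFree F hF
  let U : ULift.{u} ℕ → S.Opens := fun b => Groth.Agent.Helper1.SS.rankOpen F b.down
  have hUcov : ∀ x : S, ∃ b, x ∈ U b := by
    intro x
    obtain ⟨r, hr⟩ := Groth.Agent.Helper1.SS.exists_mem_rankOpen F hF x
    exact ⟨⟨r⟩, hr⟩
  have hUdisj : ∀ (b b' : ULift.{u} ℕ) (x : S), x ∈ U b → x ∈ U b' → b = b' := by
    intro b b' x h1 h2
    exact ULift.ext _ _ (Groth.Agent.Helper1.SS.rank_eq_of_mem_rankOpen F h1 h2)
  -- the pieces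
  have hFb : ∀ b, FlatMod.IsFinLocFreeOfRank b.down ((Scheme.Modules.pullback (U b).ι).obj F) := by
    intro b x
    have hx : (U b).ι x ∈ Groth.Agent.Helper1.SS.rankOpen F b.down := x.2
    exact (Groth.Agent.Helper1.SS.mem_rankOpen_iff _ _ x).1
      (Groth.Agent.Helper1.SS.mem_rankOpen_pullback (U b).ι F b.down x hx)
  haveI : ∀ b, ((Scheme.Modules.pullback (U b).ι).obj E).IsQuasicoherent := fun b =>
    Groth.Agent.Lead.StalkPull.isQuasicoherent_pullbackObj (U b).ι E
  choose Z e he hZ using fun b =>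
    exists_zeroLocus_of_rank b.down (hFb b) ((Scheme.Modules.pullback (U b).ι).map v)
  haveI : ∀ b, IsClosedImmersion (e b) := he
  -- the disjoint union
  obtain ⟨hcol⟩ : Nonempty (IsColimit (Cofan.mk S (fun b => (U b).ι))) := by
    apply nonempty_isColimit_cofanMk_of
    · rw [eq_top_iff]
      intro x _
      obtain ⟨b, hb⟩ := hUcov x
      refine Opens.mem_iSup.2 ⟨b, ?_⟩
      rw [Scheme.Opens.opensRange_ι]
      exact hb
    · intro b b' hbb'
      rw [Function.onFun, disjoint_iff]
      ext x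
      constructor
      · rintro ⟨h1, h2⟩
        rw [Scheme.Opens.opensRange_ι] at h1 h2
        exact (hbb' (hUdisj b b' x h1 h2)).elim
      · intro h
        exact h.elim
  haveI : IsIso (Sigma.desc (fun b => (U b).ι)) :=
    (Cofan.nonempty_isColimit_iff_isIso_sigmaDesc (Cofan.mk S (fun b => (U b).ι))).1 ⟨hcol⟩
  haveI : IsClosedImmersion (Limits.Sigma.map e) :=
    Groth.Agent.Helper8.ClopSigma.isClosedImmersion_sigmaMap _ _ e
  let h : (∐ Z) ⟶ S := Limits.Sigma.map e ≫ Sigma.desc (fun b => (U b).ι)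
  have hι : ∀ b, Sigma.ι Z b ≫ h = e b ≫ (U b).ι := by
    intro b
    simp [h]
  refine ⟨∐ Z, h, inferInstance, fun T f => ⟨fun h0 => ?_, ?_⟩⟩
  · -- the classifying morphism
    have hfb : ∀ b, ∃ g' : ((f ⁻¹ᵁ U b : T.Opens) : Scheme.{u}) ⟶ Z b,
        g' ≫ e b = f ∣_ U b := by
      intro b
      apply (hZ b _ (f ∣_ U b)).1
      rw [← pullback_comp_map_eq_zero_iff,
        pullback_map_eq_zero_congr (morphismRestrict_ι f (U b))]
      exact pullback_comp_map_eq_zero _ _ _ h0
    choose g' hg' using hfb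
    obtain ⟨g, hg⟩ := exists_glue_of_partition (fun b => f ⁻¹ᵁ U b)
      (fun x => hUcov (f x)) (fun b b' x h1 h2 => hUdisj b b' (f x) h1 h2)
      (fun b => g' b ≫ Sigma.ι Z b)
    refine ⟨g, ?_⟩
    apply hom_ext_of_partition (fun b => f ⁻¹ᵁ U b) (fun x => hUcov (f x))
    intro b
    rw [← Category.assoc, hg b, Category.assoc, hι b, ← Category.assoc, hg' b,
      morphismRestrict_ι]
  · rintro ⟨g, rfl⟩
    apply pullback_comp_map_eq_zero
    apply eq_zero_of_pullback_cover _ Z (Sigma.ι Z)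
    · intro x
      obtain ⟨b, y, hy⟩ := Groth.Agent.Helper8.ClopSigma.exists_sigmaι_eq Z x
      exact ⟨b, y, hy⟩
    · intro b
      rw [← pullback_comp_map_eq_zero_iff, pullback_map_eq_zero_congr (hι b),
        pullback_comp_map_eq_zero_iff]
      exact (hZ b _ (e b)).2 ⟨𝟙 _, Category.id_comp _⟩

/-- **the zero locus of a homomorphism into a finite locally free module**, as an ideal sheaf -/
theorem exists_ideal_zeroLocus [E.IsQuasicoherent] (hF : FlatMod.IsFinLocFree F) (v : E ⟶ F) :
    ∃ I : S.IdealSheafData, ∀ (T : Scheme.{u}) (f : T ⟶ S),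
      (∃ g : T ⟶ I.subscheme, g ≫ I.subschemeι = f) ↔
        (Scheme.Modules.pullback f).map v = 0 := by
  obtain ⟨Z, h, hh, hZ⟩ := exists_zeroLocus hF v
  refine ⟨h.ker, fun T f => ?_⟩
  rw [hZ T f]
  constructor
  · rintro ⟨g, hg⟩
    refine ⟨g ≫ inv h.toImage, ?_⟩
    have h1 : inv h.toImage ≫ h = h.imageι := by
      rw [IsIso.inv_comp_eq, Scheme.Hom.toImage_imageι]
    rw [Category.assoc, h1]
    exact hg
  · rintro ⟨g, hg⟩
    refine ⟨g ≫ h.toImage, ?_⟩
    rw [Category.assoc]
    have h1 : h.toImage ≫ h.ker.subschemeι = h := h.toImage_imageι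
    rw [h1, hg]

end Groth.Agent.Helper1.ZL
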