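import Mathlib
import Groth.Agent.Helper1.ZL2
import Groth.Agent.Helper1.HT2
import Groth.Agent.Helper1.SS1
import Groth.Agent.Helper4.QcohGlue
import Groth.Agent.Helper9.Lpull5

/-!
# ZL3: the zero locus of a homomorphism between pulled back modules, the target having
locally free direct image commuting with base change
-/

set_option autoImplicit false
set_option linter.style.haveILetI false
set_option linter.unusedSectionVars false

universe u
open CategoryTheory CategoryTheory.Limits AlgebraicGeometry Opposite TopologicalSpace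
open AlgebraicGeometry.Scheme.Modules

namespace Groth.Agent.Helper1.ZL

open Groth.Agent.Helper1.HT

section Core0

variable {Y T U Y' : Scheme.{u}} (p : Y ⟶ T) (g : U ⟶ T) (p' : Y' ⟶ U) (g' : Y' ⟶ Y)
  (w : g' ≫ p = p' ≫ g) {W₀ : T.Modules} {M : Y.Modules}
  (v : (Scheme.Modules.pullback p).obj W₀ ⟶ M)

include w in
/-- if the pullback of the adjoint vanishes, so does the pullback of the morphism -/
theorem pullback_map_eq_zero_of_adj
    (h : (Scheme.Modules.pullback g).map
      (((pullbackPushforwardAdjunction p).homEquiv W₀ M) v) = 0) :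
    (Scheme.Modules.pullback g').map v = 0 := by
  have h1 : v = (Scheme.Modules.pullback p).map
      (((pullbackPushforwardAdjunction p).homEquiv W₀ M) v) ≫
        (pullbackPushforwardAdjunction p).counit.app M := by
    have h0 := (Adjunction.homEquiv_counit (adj := pullbackPushforwardAdjunction p)
      (g := ((pullbackPushforwardAdjunction p).homEquiv W₀ M) v))
    rw [Equiv.symm_apply_apply] at h0
    exact h0
  have h2 : (Scheme.Modules.pullback g').map ((Scheme.Modules.pullback p).map
      (((pullbackPushforwardAdjunction p).homEquiv W₀ M) v)) = 0 := by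
    rw [← pullback_comp_map_eq_zero_iff, pullback_map_eq_zero_congr w]
    exact pullback_comp_map_eq_zero _ _ _ h
  rw [h1, Functor.map_comp, h2, zero_comp]

/-- if the pullback of the morphism vanishes and the base change map is a monomorphism, the
pullback of the adjoint vanishes -/
theorem pullback_adj_eq_zero [Mono (CohBC.bc0 p g p' g' w M)]
    (h : (Scheme.Modules.pullback g').map v = 0) :
    (Scheme.Modules.pullback g).map
      (((pullbackPushforwardAdjunction p).homEquiv W₀ M) v) = 0 := by
  have h1 := Groth.Agent.Helper1.SS.bc0_naturality p g p' g' w v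
  rw [h, Functor.map_zero, comp_zero] at h1
  have h2 : (Scheme.Modules.pullback g).map ((pushforward p).map v) = 0 := by
    rw [← cancel_mono (CohBC.bc0 p g p' g' w M), h1, zero_comp]
  rw [Adjunction.homEquiv_unit, Functor.map_comp, h2, comp_zero]

end Core0

section Cancel

variable {X S : Scheme.{u}} (f : X ⟶ S) (F : X.Modules) {T Y : Scheme.{u}} (φ : T ⟶ S)
  (q : Y ⟶ X) (p : Y ⟶ T) (hsq : IsPullback q p f φ)

include hsq in
/-- base change for the pulled back module -/
theorem bcIso_cancel {U : Scheme.{u}} (g : U ⟶ T) (hφ : BCIso f F φ) (hgφ : BCIso f F (g ≫ φ)) :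
    BCIso p ((Scheme.Modules.pullback q).obj F) g := by
  intro Y' p' g' hsq2
  have hbig : IsPullback (g' ≫ q) p' f (g ≫ φ) := hsq2.paste_horiz hsq
  have key := bc0_comp f φ p q hsq.w g p' g' hsq2.w F
  haveI h1 : IsIso (CohBC.bc0 f φ p q hsq.w F) := hφ _ _ hsq
  have h2 : IsIso (CohBC.bc0 f (g ≫ φ) p' (g' ≫ q)
      (w_comp f φ p q hsq.w g p' g' hsq2.w) F) := hgφ _ _ hbig
  rw [key] at h2
  haveI := h2
  haveI h3 : IsIso ((Scheme.Modules.pullback g).map (CohBC.bc0 f φ p q hsq.w F) ≫
      CohBC.bc0 p g p' g' hsq2.w ((Scheme.Modules.pullback q).obj F) ≫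
        (pushforward p').map ((Scheme.Modules.pullbackComp g' q).hom.app F)) :=
    IsIso.of_isIso_comp_left ((pullbackComp g φ).inv.app ((pushforward f).obj F)) _
  haveI h4 : IsIso (CohBC.bc0 p g p' g' hsq2.w ((Scheme.Modules.pullback q).obj F) ≫
        (pushforward p').map ((Scheme.Modules.pullbackComp g' q).hom.app F)) :=
    IsIso.of_isIso_comp_left ((Scheme.Modules.pullback g).map (CohBC.bc0 f φ p q hsq.w F)) _
  exact IsIso.of_isIso_comp_right _
    ((pushforward p').map ((Scheme.Modules.pullbackComp g' q).hom.app F))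

end Cancel

section Core

variable {X S : Scheme.{u}} (π : X ⟶ S) [QuasiCompact π] [QuasiSeparated π]
  (A B : X.Modules) [A.IsQuasicoherent]
  (hA : Epi ((pullbackPushforwardAdjunction π).counit.app A))
  (hBlf : FlatMod.IsFinLocFree ((pushforward π).obj B))
  (hBbc : ∀ {T' : Scheme.{u}} (g : T' ⟶ S), BCIso π B g)
  {T Y : Scheme.{u}} (φ : T ⟶ S) (q : Y ⟶ X) (p : Y ⟶ T) (hsq : IsPullback q p π φ)
  (f' : (Scheme.Modules.pullback q).obj A ⟶ (Scheme.Modules.pullback q).obj B)

include hA hBlf hBbc hsq in
/-- **the zero locus of a homomorphism between pulled back modules** -/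
theorem exists_zeroLocus_pullback :
    ∃ (Z : Scheme.{u}) (h : Z ⟶ T), IsClosedImmersion h ∧
      ∀ {U Y' : Scheme.{u}} (g : U ⟶ T) (g' : Y' ⟶ Y) (p' : Y' ⟶ U) (_ : IsPullback g' p' p g),
        (Scheme.Modules.pullback g').map f' = 0 ↔ ∃ k : U ⟶ Z, k ≫ h = g := by
  haveI : ((pushforward π).obj A).IsQuasicoherent :=
    Groth.Agent.Helper4.QcohGlue.isQuasicoherent_pushforward π A
  haveI : ((Scheme.Modules.pullback φ).obj ((pushforward π).obj A)).IsQuasicoherent :=
    Groth.Agent.Lead.StalkPull.isQuasicoherent_pullbackObj φ _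
  -- the isomorphism `p^* φ^* ≅ q^* π^*`
  let c : (Scheme.Modules.pullback p).obj ((Scheme.Modules.pullback φ).obj ((pushforward π).obj A)) ≅
      (Scheme.Modules.pullback q).obj ((Scheme.Modules.pullback π).obj ((pushforward π).obj A)) :=
    (pullbackComp p φ).app _ ≪≫ (pullbackCongr hsq.w.symm).app _ ≪≫
      ((pullbackComp q π).app _).symm
  let ε := (pullbackPushforwardAdjunction π).counit.app A
  haveI : Epi ε := hA
  let vt : (Scheme.Modules.pullback p).obj
      ((Scheme.Modules.pullback φ).obj ((pushforward π).obj A)) ⟶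
        (Scheme.Modules.pullback q).obj B :=
    c.hom ≫ (Scheme.Modules.pullback q).map ε ≫ f'
  let v' := ((pullbackPushforwardAdjunction p).homEquiv _ _) vt
  haveI hbc : IsIso (CohBC.bc0 π φ p q hsq.w B) := hBbc φ _ _ hsq
  let v := v' ≫ inv (CohBC.bc0 π φ p q hsq.w B)
  obtain ⟨Z, h, hh, hZ⟩ := exists_zeroLocus
    (Groth.Agent.Helper9.Lpull5.isFinLocFree_pullback φ _ hBlf) v
  refine ⟨Z, h, hh, fun {U Y'} g g' p' hsq' => ?_⟩
  rw [← hZ U g]
  haveI : IsIso (CohBC.bc0 p g p' g' hsq'.w ((Scheme.Modules.pullback q).obj B)) :=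
    bcIso_cancel π B φ q p hsq g (hBbc φ) (hBbc (g ≫ φ)) _ _ hsq'
  have e1 : (Scheme.Modules.pullback g).map v = 0 ↔ (Scheme.Modules.pullback g).map v' = 0 := by
    constructor
    · intro h0
      have : v' = v ≫ CohBC.bc0 π φ p q hsq.w B := by
        simp only [v, Category.assoc, IsIso.inv_hom_id, Category.comp_id]
      rw [this, Functor.map_comp, h0, zero_comp]
    · intro h0
      simp only [v, Functor.map_comp, h0, zero_comp]
  have e2 : (Scheme.Modules.pullback g).map v' = 0 ↔ (Scheme.Modules.pullback g').map vt = 0 :=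
    ⟨pullback_map_eq_zero_of_adj p g p' g' hsq'.w vt,
      pullback_adj_eq_zero p g p' g' hsq'.w vt⟩
  have e3 : (Scheme.Modules.pullback g').map vt = 0 ↔ (Scheme.Modules.pullback g').map f' = 0 := by
    haveI : Epi ((Scheme.Modules.pullback q).map ε) := inferInstance
    haveI : Epi (c.hom ≫ (Scheme.Modules.pullback q).map ε) := epi_comp _ _
    haveI : Epi ((Scheme.Modules.pullback g').map (c.hom ≫ (Scheme.Modules.pullback q).map ε)) :=
      inferInstance
    have hvt : vt = (c.hom ≫ (Scheme.Modules.pullback q).map ε) ≫ f' := by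
      simp only [vt, Category.assoc]
    rw [hvt, Functor.map_comp]
    constructor
    · intro h0
      rw [← cancel_epi ((Scheme.Modules.pullback g').map
        (c.hom ≫ (Scheme.Modules.pullback q).map ε)), h0, comp_zero]
    · intro h0
      rw [h0, comp_zero]
  rw [e1, e2, e3]

end Core

end Groth.Agent.Helper1.ZL
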