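import Mathlib
import Groth.Agent.Helper1.ZL3
import Groth.Agent.Helper1.HT7
import Groth.Agent.Helper1.HT12
import Groth.Agent.Helper1.QU21
import Groth.Agent.Helper1.PSep2
import Groth.Agent.Helper4.RelGenTwist
import Groth.Agent.Helper4.PullRel

/-!
# ZL4: the zero locus of a homomorphism `E_T ⟶ F_T` for `F` flat over the base, `X` projective
over a Noetherian base
-/

set_option autoImplicit false
set_option linter.style.haveILetI false
set_option linter.unusedSectionVars false
set_option maxHeartbeats 400000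

universe u
open CategoryTheory CategoryTheory.Limits AlgebraicGeometry Opposite TopologicalSpace
open AlgebraicGeometry.Scheme.Modules

namespace Groth.Agent.Helper1.ZL

open Groth.Agent.Helper1.HT Groth.Agent.Helper4.PullTensor Groth.Agent.Helper9.PullMon1

section Twist

variable {Y Y' : Scheme.{u}} (g : Y' ⟶ Y) (N : Y.Modules) (hN : PicF.IsInvertible N)

include hN in
/-- twisting by an invertible module does not change the vanishing of the pullbacks -/
theorem pullback_tensorMap_eq_zero_iff {A A' : Y.Modules} (a : A ⟶ A') :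
    (Scheme.Modules.pullback g).map (KoszTw.tensorMap a (𝟙 N)) = 0 ↔
      (Scheme.Modules.pullback g).map a = 0 := by
  have hnat := θ_natural g a (𝟙 N)
  rw [CategoryTheory.Functor.map_id] at hnat
  haveI := Groth.Agent.Helper9.PullMon4.isIso_θ' g A N
  haveI := Groth.Agent.Helper9.PullMon4.isIso_θ' g A' N
  have hN' : PicF.IsInvertible ((Scheme.Modules.pullback g).obj N) :=
    Groth.Agent.Helper4.PullSec.isInvertible_pullback g hN
  have hfun : ∀ x : (Scheme.Modules.pullback g).obj A ⟶ (Scheme.Modules.pullback g).obj A',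
      KoszTw.tensorMap x (𝟙 ((Scheme.Modules.pullback g).obj N)) = 0 ↔ x = 0 := by
    intro x
    rw [← Groth.Agent.Helper1.QU.tw_functor_map _ hN' x]
    exact (Groth.Agent.Helper1.QU.tensorEquiv _ hN').functor.map_eq_zero_iff
  constructor
  · intro h0
    rw [h0, zero_comp] at hnat
    rw [← hfun, ← cancel_epi (θ g A N), ← hnat, comp_zero]
  · intro h0
    rw [h0, (hfun 0).2 rfl, comp_zero] at hnat
    rw [← cancel_mono (θ g A' N), hnat, zero_comp]

end Twist

section Good

variable {X S : Scheme.{u}}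

/-- a twist which is good for both `E` (generated by its direct image) and `F` (locally free
direct image commuting with all base changes) -/
theorem exists_twist_good [IsNoetherian S] (π : X ⟶ S) [IsProper π] {L : X.Modules}
    (hL : RelAmple.IsRelAmple π L) (E F : X.Modules) (hE : Coh.IsCoh E) (hF : Coh.IsCoh F)
    (hfl : FlatMod.IsFlatOver π F) :
    ∃ m : ℕ, Epi ((pullbackPushforwardAdjunction π).counit.app
        (CohB1.tensorMod E (CohB1.tensorPow L m))) ∧
      Coh.IsCoh (CohB1.tensorMod E (CohB1.tensorPow L m)) ∧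
      FlatMod.IsFinLocFree ((pushforward π).obj (CohB1.tensorMod F (CohB1.tensorPow L m))) ∧
      ∀ {T' : Scheme.{u}} (g : T' ⟶ S), BCIso π (CohB1.tensorMod F (CohB1.tensorPow L m)) g := by
  have hLinv : PicF.IsInvertible L :=
    Groth.Agent.Helper4.RelCompTwist.isInvertible_of_isRelAmple π L hL
  haveI : IsLocallyNoetherian X := LocallyOfFiniteType.isLocallyNoetherian π
  haveI : CompactSpace X := QuasiCompact.compactSpace_of_compactSpace π
  haveI : E.IsQuasicoherent := hE.1
  obtain ⟨N₁, hN₁⟩ := Groth.Agent.Helper4.RelGenTwist.exists_forall_epi_counit_twist π L hL E hE.2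
  obtain ⟨n₀, hn₀⟩ := exists_fiberH_vanish_twist π hL F hF hfl
  refine ⟨max N₁ n₀, hN₁ _ (le_max_left _ _),
    Groth.Agent.Helper1.HP.isCoh_twistPow hLinv E hE _, ?_⟩
  have hcoh := Groth.Agent.Helper1.HP.isCoh_twistPow hLinv F hF (max N₁ n₀)
  have hfl' : FlatMod.IsFlatOver π (CohB1.tensorMod F (CohB1.tensorPow L (max N₁ n₀))) :=
    (Groth.Agent.Helper1.FlatTw.isFlatOver_tensor_iff π F _
      (Groth.Agent.Helper4.TensorInv.isInvertible_tensorPow hLinv _)).2 hfl
  haveI : (CohB1.tensorMod F (CohB1.tensorPow L (max N₁ n₀))).IsQuasicoherent := hcoh.1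
  haveI : LocallyOfFinitePresentation π := Groth.Agent.Helper1.SS.lofp_of_isLocallyNoetherian π
  have hFP : CohB1.IsFP (CohB1.tensorMod F (CohB1.tensorPow L (max N₁ n₀))) :=
    Groth.Agent.Helper4.CohFP.isFP_of_isCoh _ hcoh.1 hcoh.2
  obtain ⟨hlf, hbc⟩ := bcIso_of_flat_of_h1 π _ hFP hfl'
    (fun y => hn₀ _ (le_max_right _ _) y 1 one_pos)
  exact ⟨hlf, fun g => hbc g⟩

end Good

section Main

variable {X S : Scheme.{u}} [IsNoetherian S] (π : X ⟶ S) [IsProper π] {L : X.Modules}
  (hL : RelAmple.IsRelAmple π L) (E F : X.Modules) (hE : Coh.IsCoh E) (hF : Coh.IsCoh F)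
  (hfl : FlatMod.IsFlatOver π F)

include hL hE hF hfl in
/-- **the zero locus of a homomorphism `E_T ⟶ F_T`** -/
theorem exists_zeroLocus_ET (T : Over S) (f : FGA.ET π E T ⟶ FGA.ET π F T) :
    ∃ (T' : Over S) (c : T' ⟶ T), IsClosedImmersion c.left ∧
      ∀ (U : Over S) (g : U ⟶ T),
        (Scheme.Modules.pullback (PicF.XTmap π g)).map f = 0 ↔ ∃ h : U ⟶ T', h ≫ c = g := by
  have hLinv : PicF.IsInvertible L :=
    Groth.Agent.Helper4.RelCompTwist.isInvertible_of_isRelAmple π L hL
  obtain ⟨m, hepi, hEm, hlf, hbc⟩ := exists_twist_good π hL E F hE hF hfl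
  haveI : (CohB1.tensorMod E (CohB1.tensorPow L m)).IsQuasicoherent := hEm.1
  let q := pullback.fst π T.hom
  let Lm := CohB1.tensorPow L m
  have hLm : PicF.IsInvertible Lm := Groth.Agent.Helper4.TensorInv.isInvertible_tensorPow hLinv m
  have hN : PicF.IsInvertible ((Scheme.Modules.pullback q).obj Lm) :=
    Groth.Agent.Helper4.PullSec.isInvertible_pullback q hLm
  haveI := Groth.Agent.Helper9.PullMon4.isIso_θ' q E Lm
  haveI := Groth.Agent.Helper9.PullMon4.isIso_θ' q F Lm
  let fm : (Scheme.Modules.pullback q).obj (CohB1.tensorMod E Lm) ⟶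
      (Scheme.Modules.pullback q).obj (CohB1.tensorMod F Lm) :=
    θ q E Lm ≫ KoszTw.tensorMap f (𝟙 ((Scheme.Modules.pullback q).obj Lm)) ≫ inv (θ q F Lm)
  obtain ⟨Z, h, hh, hZ⟩ := exists_zeroLocus_pullback π (CohB1.tensorMod E Lm)
    (CohB1.tensorMod F Lm) hepi hlf hbc T.hom q (pullback.snd π T.hom)
    (IsPullback.of_hasPullback π T.hom) fm
  refine ⟨Over.mk (h ≫ T.hom), Over.homMk h rfl, hh, fun U g => ?_⟩
  have e1 : (Scheme.Modules.pullback (PicF.XTmap π g)).map f = 0 ↔
      (Scheme.Modules.pullback (PicF.XTmap π g)).map fm = 0 := by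
    rw [← pullback_tensorMap_eq_zero_iff (PicF.XTmap π g) _ hN f]
    simp only [fm, Functor.map_comp]
    constructor
    · intro h0
      rw [h0, zero_comp, comp_zero]
    · intro h0
      haveI : IsIso ((Scheme.Modules.pullback (PicF.XTmap π g)).map (θ q E Lm)) := inferInstance
      haveI : IsIso ((Scheme.Modules.pullback (PicF.XTmap π g)).map (inv (θ q F Lm))) :=
        inferInstance
      rw [← cancel_epi ((Scheme.Modules.pullback (PicF.XTmap π g)).map (θ q E Lm)),
        ← cancel_mono ((Scheme.Modules.pullback (PicF.XTmap π g)).map (inv (θ q F Lm))),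
        Category.assoc, h0, comp_zero, zero_comp]
  rw [e1, hZ g.left (PicF.XTmap π g) (pullback.snd π U.hom)
    (Groth.Agent.Helper1.PSep.isPullback_XTmap π g)]
  constructor
  · rintro ⟨k, hk⟩
    refine ⟨Over.homMk k ?_, ?_⟩
    · show k ≫ h ≫ T.hom = U.hom
      rw [← Category.assoc, hk, Over.w g]
    · ext
      exact hk
  · rintro ⟨h', rfl⟩
    exact ⟨h'.left, rfl⟩

end Main

end Groth.Agent.Helper1.ZL
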