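import Mathlib
import Groth.Agent.Helper1.ZL4

/-!
# ZL5: the zero locus of a homomorphism `E ⟶ F` with `F` flat over a Noetherian base, for all
cartesian squares
-/

set_option autoImplicit false
set_option linter.style.haveILetI false
set_option linter.unusedSectionVars false
set_option maxHeartbeats 400000

universe u
open CategoryTheory CategoryTheory.Limits AlgebraicGeometry Opposite TopologicalSpace
open AlgebraicGeometry.Scheme.Modules

namespace Groth.Agent.Helper1.ZL

open Groth.Agent.Helper1.HT Groth.Agent.Helper4.PullTensor Groth.Agent.Helper9.PullMon1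

variable {X S : Scheme.{u}} [IsNoetherian S] (π : X ⟶ S) [IsProper π] {L : X.Modules}
  (hL : RelAmple.IsRelAmple π L) (E F : X.Modules) (hE : Coh.IsCoh E) (hF : Coh.IsCoh F)
  (hfl : FlatMod.IsFlatOver π F)

include hL hE hF hfl in
/-- **the zero locus of a homomorphism `E ⟶ F`, `F` flat over the base** -/
theorem exists_zeroLocus_of_flat (u : E ⟶ F) :
    ∃ (Z : Scheme.{u}) (h : Z ⟶ S), IsClosedImmersion h ∧
      ∀ {U Y' : Scheme.{u}} (g : U ⟶ S) (g' : Y' ⟶ X) (p' : Y' ⟶ U) (_ : IsPullback g' p' π g),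
        (Scheme.Modules.pullback g').map u = 0 ↔ ∃ k : U ⟶ Z, k ≫ h = g := by
  have hLinv : PicF.IsInvertible L :=
    Groth.Agent.Helper4.RelCompTwist.isInvertible_of_isRelAmple π L hL
  obtain ⟨m, hepi, hEm, hlf, hbc⟩ := exists_twist_good π hL E F hE hF hfl
  haveI : (CohB1.tensorMod E (CohB1.tensorPow L m)).IsQuasicoherent := hEm.1
  let Lm := CohB1.tensorPow L m
  have hLm : PicF.IsInvertible Lm := Groth.Agent.Helper4.TensorInv.isInvertible_tensorPow hLinv m
  let um : CohB1.tensorMod E Lm ⟶ CohB1.tensorMod F Lm := KoszTw.tensorMap u (𝟙 Lm)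
  let fm : (Scheme.Modules.pullback (𝟙 X)).obj (CohB1.tensorMod E Lm) ⟶
      (Scheme.Modules.pullback (𝟙 X)).obj (CohB1.tensorMod F Lm) :=
    (Scheme.Modules.pullback (𝟙 X)).map um
  obtain ⟨Z, h, hh, hZ⟩ := exists_zeroLocus_pullback π (CohB1.tensorMod E Lm)
    (CohB1.tensorMod F Lm) hepi hlf hbc (𝟙 S) (𝟙 X) π (IsPullback.id_horiz π) fm
  refine ⟨Z, h, hh, fun {U Y'} g g' p' hsq => ?_⟩
  rw [← hZ g g' p' hsq, ← pullback_tensorMap_eq_zero_iff g' Lm hLm u]
  have h1 : g' ≫ 𝟙 X = g' := Category.comp_id _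
  rw [← pullback_comp_map_eq_zero_iff, pullback_map_eq_zero_congr h1]

end Groth.Agent.Helper1.ZL
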