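import Mathlib
import Groth.Agent.Helper1.ZL5
import Groth.Agent.Helper4.PullBC
import Groth.Agent.Lead.FlatUnivJ
import Groth.Agent.Lead.FlatBC2

/-!
# ZL6: gluing closed subschemes representing a condition along an open partition; the zero locus
of a homomorphism `E ⟶ F`, `F` flat over the base, over a disjoint union of Noetherian schemes
-/

set_option autoImplicit false
set_option linter.style.haveILetI false
set_option linter.unusedSectionVars false
set_option maxHeartbeats 400000

universe u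
open CategoryTheory CategoryTheory.Limits AlgebraicGeometry Opposite TopologicalSpace
open AlgebraicGeometry.Scheme.Modules

namespace Groth.Agent.Helper1.ZL

section Glue

variable {S : Scheme.{u}} {J : Type u} (U : J → S.Opens) (hcov : ∀ x : S, ∃ b, x ∈ U b)
  (hdisj : ∀ (b b' : J) (x : S), x ∈ U b → x ∈ U b' → b = b')
  (P : ∀ T : Scheme.{u}, (T ⟶ S) → Prop)
  (P1 : ∀ {T T' : Scheme.{u}} (k : T' ⟶ T) (f : T ⟶ S), P T f → P T' (k ≫ f))
  (P2 : ∀ (T : Scheme.{u}) (f : T ⟶ S) (Y : J → Scheme.{u}) (j : ∀ b, Y b ⟶ T)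
    (_ : ∀ b, IsOpenImmersion (j b)), (∀ x : T, ∃ b, x ∈ Set.range (j b)) →
      (∀ b, P (Y b) (j b ≫ f)) → P T f)
  (P3 : ∀ b, ∃ (Z : Scheme.{u}) (e : Z ⟶ (U b : Scheme.{u})), IsClosedImmersion e ∧
    ∀ (T : Scheme.{u}) (g : T ⟶ (U b : Scheme.{u})), P T (g ≫ (U b).ι) ↔ ∃ k : T ⟶ Z, k ≫ e = g)

include hcov hdisj P1 P2 P3 in
/-- **gluing closed subschemes representing a local condition along an open partition** -/
theorem exists_closedImmersion_of_partition :
    ∃ (Z : Scheme.{u}) (h : Z ⟶ S), IsClosedImmersion h ∧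
      ∀ (T : Scheme.{u}) (f : T ⟶ S), P T f ↔ ∃ k : T ⟶ Z, k ≫ h = f := by
  classical
  choose Z e he hZ using P3
  haveI : ∀ b, IsClosedImmersion (e b) := he
  obtain ⟨hcol⟩ : Nonempty (IsColimit (Cofan.mk S (fun b => (U b).ι))) := by
    apply nonempty_isColimit_cofanMk_of
    · rw [eq_top_iff]
      intro x _
      obtain ⟨b, hb⟩ := hcov x
      refine Opens.mem_iSup.2 ⟨b, ?_⟩
      rw [Scheme.Opens.opensRange_ι]
      exact hb
    · intro b b' hbb'
      rw [Function.onFun, disjoint_iff]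
      ext x
      constructor
      · rintro ⟨h1, h2⟩
        rw [Scheme.Opens.opensRange_ι] at h1 h2
        exact (hbb' (hdisj b b' x h1 h2)).elim
      · intro h
        exact h.elim
  haveI : IsIso (Sigma.desc (fun b => (U b).ι)) :=
    (Cofan.nonempty_isColimit_iff_isIso_sigmaDesc (Cofan.mk S (fun b => (U b).ι))).1 ⟨hcol⟩
  haveI : IsClosedImmersion (Limits.Sigma.map e) :=
    Groth.Agent.Helper8.ClopSigma.isClosedImmersion_sigmaMap _ _ e
  let h : (∐ Z) ⟶ S := Limits.Sigma.map e ≫ Sigma.desc (fun b => (U b).ι)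
  have hι : ∀ b, Sigma.ι Z b ≫ h = e b ≫ (U b).ι := by
    intro b
    simp [h]
  refine ⟨∐ Z, h, inferInstance, fun T f => ⟨fun h0 => ?_, ?_⟩⟩
  · have hfb : ∀ b, ∃ g' : ((f ⁻¹ᵁ U b : T.Opens) : Scheme.{u}) ⟶ Z b,
        g' ≫ e b = f ∣_ U b := by
      intro b
      apply (hZ b _ (f ∣_ U b)).1
      rw [morphismRestrict_ι]
      exact P1 _ _ h0
    choose g' hg' using hfb
    obtain ⟨g, hg⟩ := exists_glue_of_partition (fun b => f ⁻¹ᵁ U b)
      (fun x => hcov (f x)) (fun b b' x h1 h2 => hdisj b b' (f x) h1 h2)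
      (fun b => g' b ≫ Sigma.ι Z b)
    refine ⟨g, ?_⟩
    apply hom_ext_of_partition (fun b => f ⁻¹ᵁ U b) (fun x => hcov (f x))
    intro b
    rw [← Category.assoc, hg b, Category.assoc, hι b, ← Category.assoc, hg' b,
      morphismRestrict_ι]
  · rintro ⟨g, rfl⟩
    apply P1
    refine P2 _ h Z (Sigma.ι Z) inferInstance ?_ ?_
    · intro x
      obtain ⟨b, y, hy⟩ := Groth.Agent.Helper8.ClopSigma.exists_sigmaι_eq Z x
      exact ⟨b, y, hy⟩
    · intro b
      rw [hι b]
      exact (hZ b _ (e b)).2 ⟨𝟙 _, Category.id_comp _⟩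

end Glue

section Sq

variable {X S : Scheme.{u}} (π : X ⟶ S) {E F : X.Modules} (u : E ⟶ F)

/-- the vanishing of the pullback of `u` to a cartesian square does not depend on the square -/
theorem pullback_map_eq_zero_iff_of_isPullback {T Y' : Scheme.{u}} (g : T ⟶ S) (g' : Y' ⟶ X)
    (p' : Y' ⟶ T) (hsq : IsPullback g' p' π g) :
    (Scheme.Modules.pullback g').map u = 0 ↔
      (Scheme.Modules.pullback (pullback.fst π g)).map u = 0 := by
  have h1 : hsq.isoPullback.hom ≫ pullback.fst π g = g' := hsq.isoPullback_hom_fst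
  have h2 : hsq.isoPullback.inv ≫ g' = pullback.fst π g := hsq.isoPullback_inv_fst
  constructor
  · intro h
    rw [← pullback_map_eq_zero_congr h2]
    exact pullback_comp_map_eq_zero _ _ _ h
  · intro h
    rw [← pullback_map_eq_zero_congr h1]
    exact pullback_comp_map_eq_zero _ _ _ h

end Sq

section Main

variable {X S : Scheme.{u}} {J : Type u} (U : J → S.Opens) (hcov : ∀ x : S, ∃ b, x ∈ U b)
  (hdisj : ∀ (b b' : J) (x : S), x ∈ U b → x ∈ U b' → b = b')
  (hN : ∀ b, IsNoetherian (U b : Scheme.{u}))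
  (π : X ⟶ S) [IsProper π] {L : X.Modules}
  (hL : RelAmple.IsRelAmple π L) (E F : X.Modules) (hE : Coh.IsCoh E) (hF : Coh.IsCoh F)
  (hfl : FlatMod.IsFlatOver π F)

include hcov hdisj hN hL hE hF hfl in
/-- **the zero locus of a homomorphism `E ⟶ F`, `F` flat over the base, the base being a disjoint
union of Noetherian schemes** -/
theorem exists_zeroLocus_of_flat_partition (u : E ⟶ F) :
    ∃ (Z : Scheme.{u}) (h : Z ⟶ S), IsClosedImmersion h ∧
      ∀ {T Y' : Scheme.{u}} (g : T ⟶ S) (g' : Y' ⟶ X) (p' : Y' ⟶ T) (_ : IsPullback g' p' π g),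
        (Scheme.Modules.pullback g').map u = 0 ↔ ∃ k : T ⟶ Z, k ≫ h = g := by
  haveI : E.IsQuasicoherent := hE.1
  haveI : F.IsQuasicoherent := hF.1
  have hP1 : ∀ {T T' : Scheme.{u}} (k : T' ⟶ T) (f : T ⟶ S),
      (Scheme.Modules.pullback (pullback.fst π f)).map u = 0 →
        (Scheme.Modules.pullback (pullback.fst π (k ≫ f))).map u = 0 := by
    intro T T' k f h0
    let t : pullback π (k ≫ f) ⟶ pullback π f :=
      pullback.lift (pullback.fst π (k ≫ f)) (pullback.snd π (k ≫ f) ≫ k)
        (by rw [Category.assoc]; exact pullback.condition)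
    have ht : t ≫ pullback.fst π f = pullback.fst π (k ≫ f) := pullback.lift_fst _ _ _
    rw [← pullback_map_eq_zero_congr ht]
    exact pullback_comp_map_eq_zero _ _ _ h0
  have hP2 : ∀ (T : Scheme.{u}) (f : T ⟶ S) (Y : J → Scheme.{u}) (j : ∀ b, Y b ⟶ T)
      (_ : ∀ b, IsOpenImmersion (j b)), (∀ x : T, ∃ b, x ∈ Set.range (j b)) →
      (∀ b, (Scheme.Modules.pullback (pullback.fst π (j b ≫ f))).map u = 0) →
        (Scheme.Modules.pullback (pullback.fst π f)).map u = 0 := by
    intro T f Y j hj hjcov h0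
    haveI := hj
    apply eq_zero_of_pullback_cover _ (fun b => pullback (pullback.snd π f) (j b))
      (fun b => pullback.fst (pullback.snd π f) (j b))
    · intro x
      obtain ⟨b, hb⟩ := hjcov (pullback.snd π f x)
      refine ⟨b, ?_⟩
      rw [Scheme.Pullback.range_fst]
      exact hb
    · intro b
      rw [← pullback_comp_map_eq_zero_iff]
      have hsq1 : IsPullback (pullback.fst (pullback.snd π f) (j b))
          (pullback.snd (pullback.snd π f) (j b)) (pullback.snd π f) (j b) :=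
        IsPullback.of_hasPullback _ _
      have hsq2 : IsPullback (pullback.fst π f) (pullback.snd π f) π f :=
        IsPullback.of_hasPullback _ _
      have hbig := hsq1.paste_horiz hsq2
      rw [pullback_map_eq_zero_iff_of_isPullback π u _ _ _ hbig]
      exact h0 b
  have hP3 : ∀ b, ∃ (Z : Scheme.{u}) (e : Z ⟶ (U b : Scheme.{u})), IsClosedImmersion e ∧
      ∀ (T : Scheme.{u}) (g : T ⟶ (U b : Scheme.{u})),
        (Scheme.Modules.pullback (pullback.fst π (g ≫ (U b).ι))).map u = 0 ↔
          ∃ k : T ⟶ Z, k ≫ e = g := by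
    intro b
    haveI := hN b
    let πb := pullback.snd π (U b).ι
    let qb := pullback.fst π (U b).ι
    have hsqb : IsPullback qb πb π (U b).ι := IsPullback.of_hasPullback _ _
    have hLb : RelAmple.IsRelAmple πb ((Scheme.Modules.pullback qb).obj L) :=
      Groth.Agent.Helper4.PullBC.isRelAmple_baseChange π (U b).ι L hL
    have hEb : Coh.IsCoh ((Scheme.Modules.pullback qb).obj E) :=
      Groth.Agent.Lead.FlatUnivJ.isCoh_pullback qb E hE
    have hFb : Coh.IsCoh ((Scheme.Modules.pullback qb).obj F) :=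
      Groth.Agent.Lead.FlatUnivJ.isCoh_pullback qb F hF
    have hflb : FlatMod.IsFlatOver πb ((Scheme.Modules.pullback qb).obj F) := fun x =>
      Groth.Agent.Lead.FlatBC.main_baseChange π πb qb (U b).ι hsqb F hF.1 x (hfl _)
    obtain ⟨Zb, eb, heb, hZb⟩ := exists_zeroLocus_of_flat πb hLb _ _ hEb hFb hflb
      ((Scheme.Modules.pullback qb).map u)
    refine ⟨Zb, eb, heb, fun T g => ?_⟩
    rw [← hZb g (pullback.fst πb g) (pullback.snd πb g) (IsPullback.of_hasPullback _ _),
      ← pullback_comp_map_eq_zero_iff]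
    have hbig := (IsPullback.of_hasPullback πb g).paste_horiz hsqb
    exact (pullback_map_eq_zero_iff_of_isPullback π u _ _ _ hbig).symm
  obtain ⟨Z, h, hh, hZ⟩ := exists_closedImmersion_of_partition U hcov hdisj
    (fun T f => (Scheme.Modules.pullback (pullback.fst π f)).map u = 0) hP1 hP2 hP3
  refine ⟨Z, h, hh, fun {T Y'} g g' p' hsq => ?_⟩
  rw [pullback_map_eq_zero_iff_of_isPullback π u g g' p' hsq]
  exact hZ T g

end Main

end Groth.Agent.Helper1.ZL
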