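import Mathlib
import Groth.Agent.Helper1.QV3
import Groth.Agent.Helper1.ZL6

/-!
# General Quot schemes, part 4: the Quot scheme of a quotient `𝓕 ⟶ 𝓖` from the Quot scheme of `𝓕`
(projective morphisms over a Noetherian base)
-/

set_option autoImplicit false
set_option linter.style.haveILetI false
set_option linter.unusedSectionVars false
set_option maxHeartbeats 400000

universe u
open CategoryTheory CategoryTheory.Limits AlgebraicGeometry Opposite TopologicalSpace

namespace Groth.Agent.Helper1.QV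

open Groth.Agent.Helper1.QT Groth.Agent.Helper1.QU Groth.Agent.Helper1.ZL
open AlgebraicGeometry.Scheme.Modules

variable {S : Scheme.{u}}

/-- `Q` is a disjoint union of schemes with closed immersions over `S` into projective spaces -/
def HasProjPieces (Q : Over S) : Prop :=
  ∃ (ι : Type u) (P : ι → Scheme.{u}) (e : (∐ P) ≅ Q.left) (m : ι → ℕ)
    (c : ∀ a, P a ⟶ CohB1.ProjSpaceOver (m a) S),
    ∀ a, IsClosedImmersion (c a) ∧
      c a ≫ CohB1.ProjSpaceOver.toBase (m a) S = Limits.Sigma.ι P a ≫ e.hom ≫ Q.hom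

/-- a scheme with projective pieces over a Noetherian base has an open partition into Noetherian
schemes -/
theorem HasProjPieces.exists_partition [IsNoetherian S] {Q : Over S} (hP : HasProjPieces Q) :
    ∃ (J : Type u) (U : J → Q.left.Opens), (∀ x : Q.left, ∃ b, x ∈ U b) ∧
      (∀ (b b' : J) (x : Q.left), x ∈ U b → x ∈ U b' → b = b') ∧
      ∀ b, IsNoetherian (U b : Scheme.{u}) := by
  obtain ⟨ι, P, e, m, c, hc⟩ := hP
  let j : ∀ a, P a ⟶ Q.left := fun a => Limits.Sigma.ι P a ≫ e.hom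
  have hjinj : ∀ (a a' : ι) (x : P a) (y : P a'), j a x = j a' y → a = a' := by
    intro a a' x y hxy
    have h1 : e.hom (Limits.Sigma.ι P a x) = e.hom (Limits.Sigma.ι P a' y) := hxy
    have h2 : (Limits.Sigma.ι P a) x = (Limits.Sigma.ι P a') y := by
      have := congrArg (fun z => e.inv z) h1
      simpa using this
    exact Groth.Agent.Helper8.ClopSigma.sigmaι_eq P a a' x y h2
  refine ⟨ι, fun a => (j a).opensRange, ?_, ?_, ?_⟩
  · intro x
    obtain ⟨a, y, hy⟩ := Groth.Agent.Helper8.ClopSigma.exists_sigmaι_eq P (e.inv x)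
    refine ⟨a, y, ?_⟩
    show e.hom (Limits.Sigma.ι P a y) = x
    have hy' : (Limits.Sigma.ι P a) y = e.inv x := hy
    rw [hy']
    simp
  · rintro a a' x ⟨y, hy⟩ ⟨y', hy'⟩
    exact hjinj a a' y y' (hy.trans hy'.symm)
  · intro a
    haveI := (hc a).1
    haveI := Groth.Agent.Helper6.HProj.isProper_toBase (m a) S
    haveI : IsLocallyNoetherian (CohB1.ProjSpaceOver (m a) S) :=
      LocallyOfFiniteType.isLocallyNoetherian (CohB1.ProjSpaceOver.toBase (m a) S)
    haveI : CompactSpace (CohB1.ProjSpaceOver (m a) S) :=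
      QuasiCompact.compactSpace_of_compactSpace (CohB1.ProjSpaceOver.toBase (m a) S)
    haveI : IsLocallyNoetherian (P a) := LocallyOfFiniteType.isLocallyNoetherian (c a)
    haveI : CompactSpace (P a) := QuasiCompact.compactSpace_of_compactSpace (c a)
    haveI : IsLocallyNoetherian ((j a).opensRange : Scheme.{u}) :=
      isLocallyNoetherian_of_isOpenImmersion (j a).isoOpensRange.inv
    haveI : CompactSpace ((j a).opensRange : Scheme.{u}) :=
      (j a).isoOpensRange.hom.homeomorph.compactSpace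
    exact ⟨⟩

/-- projective pieces pass to closed subschemes -/
theorem HasProjPieces.of_closedImmersion {Q Q' : Over S} (hP : HasProjPieces Q) (h : Q' ⟶ Q)
    [IsClosedImmersion h.left] : HasProjPieces Q' := by
  obtain ⟨ι, P, e, m, c, hc⟩ := hP
  let j : ∀ a, P a ⟶ Q.left := fun a => Limits.Sigma.ι P a ≫ e.hom
  let P' : ι → Scheme.{u} := fun a => pullback h.left (j a)
  let j' : ∀ a, P' a ⟶ Q'.left := fun a => pullback.fst h.left (j a)
  have hjinj : ∀ (a a' : ι) (x : P a) (y : P a'), j a x = j a' y → a = a' := by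
    intro a a' x y hxy
    have h1 : e.hom (Limits.Sigma.ι P a x) = e.hom (Limits.Sigma.ι P a' y) := hxy
    have h2 : (Limits.Sigma.ι P a) x = (Limits.Sigma.ι P a') y := by
      have := congrArg (fun z => e.inv z) h1
      simpa using this
    exact Groth.Agent.Helper8.ClopSigma.sigmaι_eq P a a' x y h2
  have hjsurj : ∀ x : Q.left, ∃ (a : ι) (y : P a), j a y = x := by
    intro x
    obtain ⟨a, y, hy⟩ := Groth.Agent.Helper8.ClopSigma.exists_sigmaι_eq P (e.inv x)
    refine ⟨a, y, ?_⟩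
    show e.hom (Limits.Sigma.ι P a y) = x
    have hy' : (Limits.Sigma.ι P a) y = e.inv x := hy
    rw [hy']
    simp
  have hrange : ∀ a, Set.range (j' a) = h.left ⁻¹' Set.range (j a) := fun a =>
    Scheme.Pullback.range_fst _ _
  obtain ⟨hcol⟩ : Nonempty (IsColimit (Cofan.mk Q'.left j')) := by
    apply nonempty_isColimit_cofanMk_of
    · rw [eq_top_iff]
      intro x _
      obtain ⟨a, y, hy⟩ := hjsurj (h.left x)
      refine Opens.mem_iSup.2 ⟨a, ?_⟩
      show x ∈ Set.range (j' a)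
      rw [hrange]
      exact ⟨y, hy⟩
    · intro a a' haa'
      rw [Function.onFun, disjoint_iff]
      ext x
      constructor
      · rintro ⟨h1, h2⟩
        have h1' : x ∈ Set.range (j' a) := h1
        have h2' : x ∈ Set.range (j' a') := h2
        rw [hrange] at h1' h2'
        obtain ⟨y, hy⟩ := h1'
        obtain ⟨y', hy'⟩ := h2'
        exact (haa' (hjinj a a' y y' (hy.trans hy'.symm))).elim
      · intro h0
        exact h0.elim
  let e' : (∐ P') ≅ Q'.left := (coproductIsCoproduct P').coconePointUniqueUpToIso hcol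
  have he' : ∀ a, Limits.Sigma.ι P' a ≫ e'.hom = j' a := fun a =>
    (coproductIsCoproduct P').comp_coconePointUniqueUpToIso_hom hcol ⟨a⟩
  refine ⟨ι, P', e', m, fun a => pullback.snd h.left (j a) ≫ c a, fun a => ?_⟩
  haveI := (hc a).1
  refine ⟨inferInstance, ?_⟩
  rw [Category.assoc, (hc a).2, ← Category.assoc (Limits.Sigma.ι P' a), he' a]
  have h1 : pullback.snd h.left (j a) ≫ j a = j' a ≫ h.left := pullback.condition.symm
  have h2 : h.left ≫ Q.hom = Q'.hom := Over.w h
  rw [← h2, ← Category.assoc (j' a), ← h1, Category.assoc]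
  simp only [j, Category.assoc]

section Main

variable [IsNoetherian S] {P : Scheme.{u}} (π : P ⟶ S) [IsProper π] {L : P.Modules}
  (hL : RelAmple.IsRelAmple π L) {𝓕 𝓖 : P.Modules} (ρ : 𝓕 ⟶ 𝓖) [Epi ρ]
  (h𝓕 : Coh.IsCoh 𝓕) (h𝓖 : Coh.IsCoh 𝓖)
  (Q : Over S) (Ku : FGA.QuotSet π 𝓕 Q) (hQ : FGA.QuotRepresentedBy π 𝓕 Q Ku)
  (hP : HasProjPieces Q)

include hL ρ h𝓕 h𝓖 hQ hP in
/-- **the Quot scheme of a quotient of `𝓕`, from the Quot scheme of `𝓕`** -/
theorem exists_quot_of_epi :
    ∃ (Q' : Over S) (K' : FGA.QuotSet π 𝓖 Q'), FGA.QuotRepresentedBy π 𝓖 Q' K' ∧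
      HasProjPieces Q' := by
  haveI : IsLocallyNoetherian P := LocallyOfFiniteType.isLocallyNoetherian π
  obtain ⟨J, U, hcov, hdisj, hN⟩ := hP.exists_partition
  -- coherence of the kernel
  haveI : 𝓕.IsQuasicoherent := h𝓕.1
  haveI : 𝓖.IsQuasicoherent := h𝓖.1
  haveI : (kernel ρ).IsQuasicoherent := Groth.Agent.Helper4.QcohLimits.isQuasicoherent_kernel ρ
  have hker : Coh.IsCoh (kernel ρ) :=
    ⟨inferInstance, Groth.Agent.Helper4.QcohEpi.isFiniteType_of_mono (kernel.ι ρ) h𝓕.2⟩
  have hkerQ : Coh.IsCoh (FGA.ET π (kernel ρ) Q) :=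
    Groth.Agent.Lead.FlatUnivJ.isCoh_pullback _ _ hker
  have hLQ : RelAmple.IsRelAmple (pullback.snd π Q.hom)
      ((Scheme.Modules.pullback (pullback.fst π Q.hom)).obj L) :=
    Groth.Agent.Helper4.PullBC.isRelAmple_baseChange π Q.hom L hL
  obtain ⟨Z, h₀, hh₀, hZ⟩ := exists_zeroLocus_of_flat_partition U hcov hdisj hN
    (pullback.snd π Q.hom) hLQ _ _ hkerQ Ku.2.1 Ku.2.2 (obs π ρ Q Ku)
  let Q' : Over S := Over.mk (h₀ ≫ Q.hom)
  let h : Q' ⟶ Q := Over.homMk h₀ rfl
  haveI : IsClosedImmersion h.left := hh₀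
  have hh : ∀ (T : Over S) (g : T ⟶ Q),
      (Scheme.Modules.pullback (PicF.XTmap π g)).map (obs π ρ Q Ku) = 0 ↔
        ∃ k : T ⟶ Q', k ≫ h = g := by
    intro T g
    rw [hZ g.left (PicF.XTmap π g) (pullback.snd π T.hom)
      (Groth.Agent.Lead.LimPres.isPullback_XTmap π g)]
    constructor
    · rintro ⟨k, hk⟩
      refine ⟨Over.homMk k ?_, ?_⟩
      · show k ≫ h₀ ≫ Q.hom = T.hom
        rw [← Category.assoc, hk, Over.w g]
      · ext
        exact hk
    · rintro ⟨k, rfl⟩
      exact ⟨k.left, rfl⟩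
  obtain ⟨K', hK', -⟩ := exists_quotRepresentedBy_of_closed π ρ Q Ku hQ Q' h hh
  exact ⟨Q', K', hK', hP.of_closedImmersion h⟩

end Main

end Groth.Agent.Helper1.QV
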