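import Mathlib
import Groth.Agent.Helper1.QV4
import Groth.Agent.Helper1.ClFF1
import Groth.Agent.Helper1.Dev5
import Groth.Agent.Lead.PushStalk
import Groth.Agent.Helper4.FinitePush

/-!
# General Quot schemes, part 5: direct images along a closed immersion (flatness over a base,
coherence, quotients)
-/

set_option autoImplicit false
set_option linter.style.haveILetI false
set_option linter.unusedSectionVars false

universe u
open CategoryTheory CategoryTheory.Limits AlgebraicGeometry Opposite TopologicalSpace

namespace Groth.Agent.Helper1.QV

open AlgebraicGeometry.Scheme.Modules Groth.Agent.Lead.PushStalk Groth.Agent.Lead.Thick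

variable {C P' T : Scheme.{u}} (j : C ⟶ P') [IsClosedImmersion j]

/-- flatness over a base of the direct image along a closed immersion, at a point of the image -/
theorem isFlatOverAt_pushforward_iff (p : P' ⟶ T) (G : C.Modules) (x : C) :
    FlatMod.IsFlatOverAt p ((pushforward j).obj G) (j x) ↔ FlatMod.IsFlatOverAt (j ≫ p) G x := by
  letI := FlatMod.moduleStalkOver p ((pushforward j).obj G) (j x)
  letI inst2 : Module (T.presheaf.stalk (p (j x))) (G.presheaf.stalk x) :=
    FlatMod.moduleStalkOver (j ≫ p) G x
  have hb := psHom_bijective j G j.isClosedEmbedding.isInducing x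
  let E0 : ((pushforward j).obj G).presheaf.stalk (j x) ≃+ G.presheaf.stalk x :=
    AddEquiv.ofBijective (psHom j G x) hb
  let E : ((pushforward j).obj G).presheaf.stalk (j x) ≃ₗ[T.presheaf.stalk (p (j x))]
      G.presheaf.stalk x :=
    { E0 with
      map_smul' := fun a m => by
        change psHom j G x ((p.stalkMap (j x)).hom a • m) =
          ((j ≫ p).stalkMap x).hom a • psHom j G x m
        rw [psHom_smul, Scheme.Hom.stalkMap_comp]
        rfl }
  constructor
  · intro h
    have h2 : Module.Flat (T.presheaf.stalk (p (j x)))
        (((pushforward j).obj G).presheaf.stalk (j x)) := h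
    have h3 : Module.Flat (T.presheaf.stalk (p (j x))) (G.presheaf.stalk x) :=
      Module.Flat.of_linearEquiv E.symm
    exact h3
  · intro h
    have h2 : Module.Flat (T.presheaf.stalk (p (j x))) (G.presheaf.stalk x) := h
    have h3 : Module.Flat (T.presheaf.stalk (p (j x)))
        (((pushforward j).obj G).presheaf.stalk (j x)) :=
      Module.Flat.of_linearEquiv E
    exact h3

/-- **flatness over a base of the direct image along a closed immersion** -/
theorem isFlatOver_pushforward_iff (p : P' ⟶ T) (G : C.Modules) :
    FlatMod.IsFlatOver p ((pushforward j).obj G) ↔ FlatMod.IsFlatOver (j ≫ p) G := by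
  constructor
  · intro h x
    exact (isFlatOverAt_pushforward_iff j p G x).1 (h (j x))
  · intro h y
    by_cases hy : y ∈ Set.range j
    · obtain ⟨x, rfl⟩ := hy
      exact (isFlatOverAt_pushforward_iff j p G x).2 (h x)
    · haveI := subsingleton_stalk_of_notMem_range j G j.isClosedEmbedding.isClosed_range y hy
      letI := FlatMod.moduleStalkOver p ((pushforward j).obj G) y
      show Module.Flat (T.presheaf.stalk (p y)) (((pushforward j).obj G).presheaf.stalk y)
      infer_instance

/-- the direct image of a coherent module along a closed immersion is coherent -/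
theorem isCoh_pushforward_closedImmersion (G : C.Modules) (hG : Coh.IsCoh G) :
    Coh.IsCoh ((pushforward j).obj G) := by
  haveI : G.IsQuasicoherent := hG.1
  exact ⟨Groth.Agent.Helper4.QcohGlue.isQuasicoherent_pushforward j G,
    Groth.Agent.Helper4.FinitePush.isFiniteType_pushforward_of_isFinite j G hG.2⟩

/-- a quasi-coherent quotient of a direct image along a closed immersion is killed by the ideal -/
theorem kills_of_epi_pushforward {M : C.Modules} [M.IsQuasicoherent] {G' : P'.Modules}
    [G'.IsQuasicoherent] (c : (pushforward j).obj M ⟶ G') [Epi c] : Kills j G' 1 := by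
  haveI : ((pushforward j).obj M).IsQuasicoherent :=
    Groth.Agent.Helper4.QcohGlue.isQuasicoherent_pushforward j M
  intro U hU a ha m
  obtain ⟨m₀, rfl⟩ := Groth.Agent.Helper4.QcohEpi.app_surjective_of_epi c hU m
  rw [← Scheme.Modules.Hom.app_smul, Groth.Agent.Helper1.Dev.kills_push j M U hU a ha m₀,
    map_zero]

/-- a quasi-coherent quotient of a direct image along a closed immersion is a direct image -/
theorem isIso_η_of_epi_pushforward {M : C.Modules} [M.IsQuasicoherent] {G' : P'.Modules}
    [G'.IsQuasicoherent] (c : (pushforward j).obj M ⟶ G') [Epi c] : IsIso (η j G') :=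
  isIso_η_of_kills j G' (kills_of_epi_pushforward j c)

end Groth.Agent.Helper1.QV
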