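import Mathlib
import Groth.Agent.Helper1.HomCompl2
import Groth.Agent.Helper1.HomDual1
import Groth.Agent.Helper4.QcohLocal

/-!
# HomCompl3: maps of completions of coherent modules, from `H⁰ = lim H⁰` for the sheaf Hom
-/

set_option autoImplicit false
set_option linter.style.haveILetI false
set_option linter.unusedSectionVars false

universe u

open CategoryTheory CategoryTheory.Limits AlgebraicGeometry Opposite

namespace Groth.Agent.Helper1.HomCompl

open Groth.Agent.Helper1.Form Groth.Agent.Helper1.LimProp Groth.Agent.Lead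
open Groth.Agent.Helper1.QuotPush Groth.Agent.Helper4 Groth.Agent.Helper1.KLQuot

variable {A : Type u} [CommRing A] {X : Scheme.{u}} [X.Over (Spec (CommRingCat.of A))]

lemma exists_finite_affine_cover [CompactSpace X] :
    ∃ s : Finset X.affineOpens, ∀ x : X, ∃ U ∈ s, x ∈ U.1 := by
  obtain ⟨t, ht⟩ := isCompact_univ.elim_finite_subcover
    (fun U : X.affineOpens => ((U.1 : X.Opens) : Set X)) (fun U => U.1.2) (by
      intro x _
      obtain ⟨U, hU, hx⟩ := QcohLimits.exists_affine_nhd x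
      exact Set.mem_iUnion.2 ⟨⟨U, hU⟩, hx⟩)
  refine ⟨t, fun x => ?_⟩
  have := ht (Set.mem_univ x)
  simp only [Set.mem_iUnion] at this
  obtain ⟨U, hU, hx⟩ := this
  exact ⟨U, hU, hx⟩

variable [IsNoetherian X] (I : Ideal A) (hI : I.FG) (M N : X.Modules) (hM : Coh.IsCoh M)
  (hN : Coh.IsCoh N)

include hM hN in
/-- uniform Artin–Rees constants on an affine open -/
lemma exists_const (U : X.affineOpens) : ∃ c : ℕ,
    (∀ n k : ℕ, k + c ≤ n → ∀ f : Γ(M, U.1) →ₗ[Γ(X, U.1)] Γ(N, U.1),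
      (∀ m, f m ∈ (I.map (ρ (A := A) U.1)) ^ n • (⊤ : Submodule Γ(X, U.1) Γ(N, U.1))) →
      f ∈ (I.map (ρ (A := A) U.1)) ^ k •
        (⊤ : Submodule Γ(X, U.1) (Γ(M, U.1) →ₗ[Γ(X, U.1)] Γ(N, U.1)))) ∧
    (∀ n k : ℕ, k + c ≤ n → ∀ (Q' : Type u) [AddCommGroup Q'] [Module Γ(X, U.1) Q']
      (π : Γ(N, U.1) →ₗ[Γ(X, U.1)] Q'), Function.Surjective π →
      LinearMap.ker π ≤ (I.map (ρ (A := A) U.1)) ^ n • (⊤ : Submodule Γ(X, U.1) Γ(N, U.1)) →
      ∀ f : Γ(M, U.1) →ₗ[Γ(X, U.1)] Q', ∃ f' : Γ(M, U.1) →ₗ[Γ(X, U.1)] Γ(N, U.1),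
        ∀ m, π (f' m) - f m ∈ (I.map (ρ (A := A) U.1)) ^ k • (⊤ : Submodule Γ(X, U.1) Q')) := by
  haveI : IsNoetherianRing Γ(X, U.1) := IsLocallyNoetherian.component_noetherian U
  haveI : Module.Finite Γ(X, U.1) Γ(M, U.1) := SecDict.finite_sections U.2 M hM.1 hM.2
  haveI : Module.Finite Γ(X, U.1) Γ(N, U.1) := SecDict.finite_sections U.2 N hN.1 hN.2
  obtain ⟨c1, hc1⟩ := Groth.Agent.Helper1.ARHom.exists_hom_mem (I.map (ρ (A := A) U.1))
    Γ(M, U.1) Γ(N, U.1)
  obtain ⟨c2, hc2⟩ := Groth.Agent.Helper1.ARHom.exists_hom_lift (I.map (ρ (A := A) U.1))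
    Γ(M, U.1) Γ(N, U.1)
  have h1 := le_max_left c1 c2
  have h2 := le_max_right c1 c2
  exact ⟨max c1 c2, fun n k h => hc1 n k (by omega), fun n k h => hc2 n k (by omega)⟩

include hI hM hN in
/-- **the pro-isomorphism `(𝓗om(M,N)/I^k) ≅ (𝓗om(M, N/I^k))` transports `LimProp`** -/
theorem limProp_map_hF (S : X.Modules) (h : LimProp S (modSys I (RefHull.homSh M N))) :
    LimProp S ((modSys I N).map (hF M)) := by
  haveI : M.IsQuasicoherent := hM.1
  haveI : N.IsQuasicoherent := hN.1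
  haveI : (RefHull.homSh M N).IsQuasicoherent := isQuasicoherent_homSh' M hM N
  haveI hqc : ∀ k, ((hF M).obj (Formal.modPow I k N)).IsQuasicoherent := fun k =>
    isQuasicoherent_homSh' M hM _
  obtain ⟨s, hs⟩ := exists_finite_affine_cover (X := X)
  choose cf hcf using exists_const I M N hM hN
  have hle : ∀ U ∈ s, cf U ≤ s.sup cf := fun U hU => Finset.le_sup hU
  have V1 : ∀ (j k : ℕ) (hjk : k ≤ j), k + s.sup cf ≤ j →
      kernel.ι (α I M N (j + 1)) ≫ (modSys I (RefHull.homSh M N)).tr hjk = 0 := by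
    intro j k hjk hc
    haveI := QcohLimits.isQuasicoherent_kernel (α I M N (j + 1))
    apply QcohLocal.eq_zero_of_app_eq_zero_of_affine_cover
    intro x
    obtain ⟨U, hUs, hxU⟩ := hs x
    refine ⟨U.1, U.2, hxU, fun m => ?_⟩
    have hy : (α I M N (j + 1)).app U.1 ((kernel.ι (α I M N (j + 1))).app U.1 m) = 0 :=
      congrArg (fun f => Scheme.Modules.Hom.app f U.1 m) (kernel.condition (α I M N (j + 1)))
    have := hle U hUs
    exact local_V1 I hI M N hM U.2 (hcf U).1 (show k + 1 + cf U ≤ j + 1 by omega)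
      ((modSys I (RefHull.homSh M N)).tr hjk) ((modSys I (RefHull.homSh M N)).r_tr hjk) _ hy
  have V2 : ∀ (j k : ℕ) (hjk : k ≤ j), k + s.sup cf ≤ j →
      ((modSys I N).map (hF M)).tr hjk ≫ cokernel.π (α I M N (k + 1)) = 0 := by
    intro j k hjk hc
    rw [Sys.map_tr]
    refine @QcohLocal.eq_zero_of_app_eq_zero_of_affine_cover X _ _ (hqc (j + 1)) _ ?_
    intro x
    obtain ⟨U, hUs, hxU⟩ := hs x
    refine ⟨U.1, U.2, hxU, fun m => ?_⟩
    have := hle U hUs
    obtain ⟨y, hy⟩ := local_V2 I hI M N hM U.2 (hcf U).2 (show k + 1 + cf U ≤ j + 1 by omega)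
      ((modSys I N).tr hjk) ((modSys I N).r_tr hjk) m
    have h1 : (cokernel.π (α I M N (k + 1))).app U.1 ((α I M N (k + 1)).app U.1 y) = 0 :=
      congrArg (fun f => Scheme.Modules.Hom.app f U.1 y) (cokernel.condition (α I M N (k + 1)))
    rw [hy] at h1
    exact h1
  exact LimProp.of_proIso (Y := modSys I (RefHull.homSh M N)) (Y' := (modSys I N).map (hF M))
    (Iso.refl _) (fun k => α I M N (k + 1))
    (fun k => (π_α I M N (k + 1)).trans (Category.id_comp _).symm)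
    (fun k => τ_α I M N (k + 1)) (s.sup cf) V1 V2 h

include hI hM hN in
/-- **maps `M ⟶ N` are the same as compatible families `M ⟶ N/I^(k+1)N`, as soon as
`H⁰ = lim H⁰` holds for `𝓗om(M, N)`** -/
theorem limProp_of_unit
    (h : LimProp (Coh.structureModule X) (modSys I (RefHull.homSh M N))) :
    LimProp M (modSys I N) := by
  have h1 := limProp_map_hF I hI M N hM hN _ h
  have h2 := (limProp_adj_iff (SheafHomAdj.adj M) (Coh.structureModule X) (modSys I N)).2 h1
  exact h2.of_iso_source (Groth.Agent.Helper1.HomDual.uR M)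

end Groth.Agent.Helper1.HomCompl
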