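import Mathlib
import Groth.Agent.Helper1.HomCompl3
import Groth.Agent.Helper1.PropSuppFin
import Groth.Agent.Helper1.PropSupp
import Groth.Agent.Lead.HomShE
import Groth.Agent.S0020

/-!
# HomCompl4: full faithfulness of completion on coherent modules
-/

set_option autoImplicit false
set_option linter.style.haveILetI false
set_option linter.unusedSectionVars false

universe u

open CategoryTheory CategoryTheory.Limits AlgebraicGeometry Opposite

namespace Groth.Agent.Helper1.HomCompl

open Groth.Agent.Helper1.Form Groth.Agent.Helper1.LimProp Groth.Agent.Lead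

variable {A : Type u} [CommRing A] {X : Scheme.{u}} [X.Over (Spec (CommRingCat.of A))]

/-- from `LimProp` to the statement on maps of completions -/
theorem existsUnique_of_limProp (I : Ideal A) (M N : X.Modules) (h : LimProp M (modSys I N))
    (ψ : Formal.completion I M ⟶ Formal.completion I N) :
    ∃! φ : M ⟶ N, ∀ n : ℕ,
      Formal.modPowπ I (n + 1) M ≫ ψ.app (op n) = φ ≫ Formal.modPowπ I (n + 1) N := by
  let t : ∀ n : ℕ, M ⟶ Formal.modPow I (n + 1) N := fun n =>
    Formal.modPowπ I (n + 1) M ≫ ψ.app (op n)
  have ht : ∀ n, t (n + 1) ≫ Formal.modPowTrans I (n + 1) N = t n := by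
    intro n
    have h1 := ψ.naturality (homOfLE (Nat.le_add_right n 1)).op
    rw [completion_map_succ, completion_map_succ] at h1
    show (Formal.modPowπ I (n + 1 + 1) M ≫ ψ.app (op (n + 1))) ≫ Formal.modPowTrans I (n + 1) N =
      Formal.modPowπ I (n + 1) M ≫ ψ.app (op n)
    exact (Category.assoc _ _ _).trans
      ((congrArg (fun z => Formal.modPowπ I (n + 1 + 1) M ≫ z) h1.symm).trans
        ((Category.assoc _ _ _).symm.trans
          (congrArg (fun z => z ≫ ψ.app (op n)) (Formal.modPowπ_trans I (n + 1) M))))
  obtain ⟨φ, hφ, hu⟩ := h t ht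
  exact ⟨φ, fun n => (hφ n).symm, fun φ' hφ' => hu φ' (fun n => (hφ' n).symm)⟩

/-- the support of the sheaf Hom -/
lemma support_homSh_subset (M N : X.Modules)
    (hM : SheafOfModules.IsFiniteType (R := X.ringCatSheaf) M) :
    CohB1.support (RefHull.homSh M N) ⊆ CohB1.support M ∩ CohB1.support N := by
  intro x hx
  have hinj := HomSh.evalStalk_injective_of_isFT M N hM x
  constructor
  · intro hs
    apply hx
    haveI : Subsingleton (M.presheaf.stalk x) := hs
    exact hinj.subsingleton
  · intro hs
    apply hx
    haveI : Subsingleton (N.presheaf.stalk x) := hs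
    exact hinj.subsingleton

section Complete

variable [IsNoetherianRing A] (I : Ideal A) [IsAdicComplete I A]

/-- **full faithfulness of completion for coherent modules whose supports meet in a set proper
over the base** -/
theorem main_support [LocallyOfFiniteType (X ↘ Spec (CommRingCat.of A))]
    [QuasiCompact (X ↘ Spec (CommRingCat.of A))] (M N : X.Modules) (hM : Coh.IsCoh M)
    (hN : Coh.IsCoh N)
    (hs : ClSub.IsProperOver (X ↘ Spec (CommRingCat.of A)) (CohB1.support M ∩ CohB1.support N))
    (ψ : Formal.completion I M ⟶ Formal.completion I N) :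
    ∃! φ : M ⟶ N, ∀ n : ℕ,
      Formal.modPowπ I (n + 1) M ≫ ψ.app (op n) = φ ≫ Formal.modPowπ I (n + 1) N := by
  haveI := Groth.Agent.Helper1.PropSuppFin.isNoetherian_X A X
  have hH : Coh.IsCoh (RefHull.homSh M N) := HomShE.isCoh_homSh M N hM hN
  have hHs : ClSub.IsProperOver (X ↘ Spec (CommRingCat.of A))
      (CohB1.support (RefHull.homSh M N)) :=
    Groth.Agent.Helper1.PropSupp.isProperOver_of_subset _ _ _ hs
      (Groth.Agent.S0020.result X _ hH.2) (support_homSh_subset M N hM.2)
  have h1 := Groth.Agent.Helper1.PropSuppFin.s4460 I (RefHull.homSh M N) hH hHs 0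
  have h2 := (limProp_unit_iff A I (RefHull.homSh M N)).2 h1
  exact existsUnique_of_limProp I M N
    (limProp_of_unit I (IsNoetherian.noetherian I) M N hM hN h2) ψ

/-- **full faithfulness of completion on a proper scheme** -/
theorem main_proper [IsProper (X ↘ Spec (CommRingCat.of A))] (M N : X.Modules)
    (hM : Coh.IsCoh M) (hN : Coh.IsCoh N)
    (ψ : Formal.completion I M ⟶ Formal.completion I N) :
    ∃! φ : M ⟶ N, ∀ n : ℕ,
      Formal.modPowπ I (n + 1) M ≫ ψ.app (op n) = φ ≫ Formal.modPowπ I (n + 1) N := by
  haveI := Groth.Agent.Helper1.FF.isNoetherian_X A X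
  have hH : Coh.IsCoh (RefHull.homSh M N) := HomShE.isCoh_homSh M N hM hN
  have h1 := Groth.Agent.Helper1.FF.s0003 (I := I) (RefHull.homSh M N) 0 hH
  have h2 := (limProp_unit_iff A I (RefHull.homSh M N)).2 h1
  exact existsUnique_of_limProp I M N
    (limProp_of_unit I (IsNoetherian.noetherian I) M N hM hN h2) ψ

end Complete

end Groth.Agent.Helper1.HomCompl
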