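import Groth.Agent.Helper1.QuotPush1
import Groth.Agent.Lead.ProperFinA
import Groth.Prelude.Def_ega3

set_option autoImplicit false
set_option linter.style.haveILetI false

namespace Groth.Agent.Helper1.QuotPush

open CategoryTheory Limits AlgebraicGeometry Opposite
open Groth.Agent.Helper1.Form Groth.Agent.Helper1.ZarIso Groth.Agent.Helper4

universe u

section pushMap

variable {X₀ X' X : Scheme.{u}} (t : X₀ ⟶ X') (i' : X' ⟶ X)

/-- the morphism `i'_* O_{X'} ⟶ (t ≫ i')_* O_{X₀}` induced by `t : X₀ ⟶ X'` -/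
noncomputable def pushMap :
    (Scheme.Modules.pushforward i').obj (Coh.structureModule X') ⟶
      (Scheme.Modules.pushforward (t ≫ i')).obj (Coh.structureModule X₀) :=
  (Scheme.Modules.pushforward i').map (unitToPush t) ≫
    (Scheme.Modules.pushforwardComp t i').hom.app _

lemma unitToPush_pushMap : unitToPush i' ≫ pushMap t i' = unitToPush (t ≫ i') := by
  ext U x
  rfl

lemma pushMap_app_top (s : Γ(X', ⊤)) :
    (pushMap t i').app ⊤ (show Γ((Scheme.Modules.pushforward i').obj (Coh.structureModule X'), ⊤)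
      from s) = (show Γ((Scheme.Modules.pushforward (t ≫ i')).obj (Coh.structureModule X₀), ⊤) from
        t.appTop.hom s) := rfl

end pushMap


section H0

variable {X : Scheme.{u}}

open Groth.Agent.Lead.ProperFinA

/-- `H⁰` of a morphism, read on global sections -/
lemma h0Equiv_map {M N : X.Modules} (φ : M ⟶ N) (x : Coh.HH X M 0) :
    h0Equiv N ((CohIII.HAb X 0).map φ x) = φ.app ⊤ (h0Equiv M x) :=
  (Sheaf.H.equiv₀_naturality (isTerminalTop (α := TopologicalSpace.Opens X))
    ((SheafOfModules.toSheaf X.ringCatSheaf).map φ) x).symm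

lemma surjective_HAb_map_iff {M N : X.Modules} (φ : M ⟶ N) :
    Function.Surjective ((CohIII.HAb X 0).map φ) ↔ Function.Surjective (φ.app ⊤) := by
  constructor
  · intro h y
    obtain ⟨x, hx⟩ := h ((h0Equiv N).symm y)
    refine ⟨h0Equiv M x, ?_⟩
    have h1 := h0Equiv_map φ x
    exact h1.symm.trans ((congrArg (h0Equiv N) hx).trans ((h0Equiv N).apply_symm_apply y))
  · intro h y
    obtain ⟨x, hx⟩ := h (h0Equiv N y)
    refine ⟨(h0Equiv M).symm x, ?_⟩
    apply (h0Equiv N).injective
    have h1 := h0Equiv_map φ ((h0Equiv M).symm x)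
    have h2 : h0Equiv M ((h0Equiv M).symm x) = x := (h0Equiv M).apply_symm_apply x
    rw [h2] at h1
    exact h1.trans hx

end H0

section compare

variable {A : Type u} [CommRing A] {X : Scheme.{u}} [X.Over (Spec (CommRingCat.of A))]
  {J' J : Ideal A} {X' X₀ : Scheme.{u}} (i' : X' ⟶ X) (t : X₀ ⟶ X')
  (h' : IsQuot J' (unitToPush i')) (h : IsQuot J (unitToPush (t ≫ i')))
  {F' F : X.Modules} {q' : Coh.structureModule X ⟶ F'} {q : Coh.structureModule X ⟶ F}
  (hq' : IsQuot J' q') (hq : IsQuot J q) (tF : F' ⟶ F) (htF : q' ≫ tF = q)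

include h' h hq' hq htF in
/-- the comparison of two quotient levels is, up to the canonical isomorphisms, `pushMap` -/
lemma comp_iso_eq : tF ≫ (hq.iso h).hom = (hq'.iso h').hom ≫ pushMap t i' := by
  apply hq'.hom_ext
  rw [← Category.assoc, htF, IsQuot.fac_iso_hom, IsQuot.fac_iso_hom_assoc, unitToPush_pushMap]

include h' h hq' hq htF in
/-- if `Γ(X', O) → Γ(X₀, O)` is surjective, so is `H⁰(X, O/J'O) → H⁰(X, O/JO)` -/
theorem surjective_HAb_map_of_surjective_appTop (hs : Function.Surjective t.appTop.hom) :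
    Function.Surjective ((CohIII.HAb X 0).map tF) := by
  have e := comp_iso_eq i' t h' h hq' hq tF htF
  have e2 : tF = (hq'.iso h').hom ≫ pushMap t i' ≫ (hq.iso h).inv := by
    rw [← Category.assoc, ← e, Category.assoc, Iso.hom_inv_id, Category.comp_id]
  rw [e2, Functor.map_comp, Functor.map_comp]
  have h1 : Function.Surjective ((CohIII.HAb X 0).map (pushMap t i')) := by
    rw [surjective_HAb_map_iff]
    exact hs
  have h2 : Function.Surjective ((CohIII.HAb X 0).map (hq'.iso h').hom) :=
    ((ConcreteCategory.isIso_iff_bijective _).mp inferInstance).2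
  have h3 : Function.Surjective ((CohIII.HAb X 0).map (hq.iso h).inv) :=
    ((ConcreteCategory.isIso_iff_bijective _).mp inferInstance).2
  exact h3.comp (h1.comp h2)

end compare

end Groth.Agent.Helper1.QuotPush
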