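import Mathlib
import Groth.Agent.Helper1.GrSh3
import Groth.Agent.Helper1.SV1
import Groth.Agent.Helper1.TwistExact
import Groth.Agent.Helper1.HHLes3
import Groth.Agent.Helper4.TensorInv

/-!
# GrVan: uniform Serre vanishing for a finitely generated graded object
-/

set_option autoImplicit false
set_option linter.style.haveILetI false
set_option linter.unusedSectionVars false

universe u

open CategoryTheory CategoryTheory.Limits AlgebraicGeometry Opposite

namespace Groth.Agent.Helper1.GrVan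

open Groth.Agent.Helper1.GrSh Groth.Agent.Helper1.HHLes Groth.Agent.Helper1.Dev
open Groth.Agent.Helper4.TensorInv

variable (A : Type u) [CommRing A] {X : Scheme.{u}} [X.Over (Spec (CommRingCat.of A))]

/-- vanishing of the higher cohomology of `M ⊗ B` -/
def Van (B M : X.Modules) : Prop :=
  ∀ q : ℕ, 1 ≤ q → Subsingleton (Coh.HH X (CohB1.tensorMod M B) q)

include A in
lemma van_of_isZero (B : X.Modules) {M : X.Modules} (hM : IsZero M) : Van B M := by
  intro q _
  exact subsingleton_HH_of_isZero A ((DCoh.tensorRightMod B).map_isZero hM) q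

include A in
lemma Van.right {B : X.Modules} (hB : PicF.IsInvertible B) {S : ShortComplex X.Modules}
    (hS : S.ShortExact) (h1 : Van B S.X₁) (h2 : Van B S.X₂) : Van B S.X₃ := by
  intro q hq
  have hS' := TwistExact.shortExact_map_tensorRightMod hS B hB
  haveI : Subsingleton (Coh.HH X (S.map (DCoh.tensorRightMod B)).X₁ (q + 1)) :=
    h1 (q + 1) (by omega)
  haveI : Subsingleton (Coh.HH X (S.map (DCoh.tensorRightMod B)).X₂ q) := h2 q hq
  refine ⟨fun x y => ?_⟩
  have key : ∀ z : Coh.HH X (S.map (DCoh.tensorRightMod B)).X₃ q, z = 0 := by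
    intro z
    obtain ⟨w, hw⟩ := (exact_g_δ A _ hS' q z).1 (Subsingleton.elim _ _)
    rw [← hw, Subsingleton.elim w 0, map_zero]
  exact (key x).trans (key y).symm

include A in
lemma Van.mid {B : X.Modules} (hB : PicF.IsInvertible B) {S : ShortComplex X.Modules}
    (hS : S.ShortExact) (h1 : Van B S.X₁) (h3 : Van B S.X₃) : Van B S.X₂ := by
  intro q hq
  have hS' := TwistExact.shortExact_map_tensorRightMod hS B hB
  haveI : Subsingleton (Coh.HH X (S.map (DCoh.tensorRightMod B)).X₁ q) := h1 q hq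
  haveI : Subsingleton (Coh.HH X (S.map (DCoh.tensorRightMod B)).X₃ q) := h3 q hq
  refine ⟨fun x y => ?_⟩
  have key : ∀ z : Coh.HH X (S.map (DCoh.tensorRightMod B)).X₂ q, z = 0 := by
    intro z
    obtain ⟨w, hw⟩ := (exact_f_g A _ hS' q z).1 (Subsingleton.elim _ _)
    rw [← hw, Subsingleton.elim w 0, map_zero]
  exact (key x).trans (key y).symm

include A in
lemma van_succ {r : ℕ} (𝒢 : GrObj X (r + 1)) {B : X.Modules} (hB : PicF.IsInvertible B) (m : ℕ)
    (hk : Van B (kernel (𝒢.t m))) (hc : Van B (cokernel (𝒢.t m))) (h : Van B (𝒢.G m)) :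
    Van B (𝒢.G (m + 1)) := by
  have hi : Van B (Abelian.image (𝒢.t m)) :=
    Van.right A hB (S := kerImSC (𝒢.t m)) (kerImSC_shortExact (𝒢.t m)) hk h
  exact Van.mid A hB (S := imCokSC (𝒢.t m)) (imCokSC_shortExact (𝒢.t m)) hi hc

variable [IsNoetherianRing A] [IsProper (X ↘ Spec (CommRingCat.of A))] [IsNoetherian X]

include A in
/-- **uniform Serre vanishing** for a finitely generated graded object -/
theorem uniform_vanishing {L : X.Modules} (hL : CohB1.IsAmple L) :
    ∀ (r : ℕ) (𝒢 : GrObj X r), IsFG 𝒢 →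
      ∃ d₀ : ℕ, ∀ n d : ℕ, d₀ ≤ d → Van (CohB1.tensorPow L d) (𝒢.G n) := by
  intro r
  induction r with
  | zero =>
    intro 𝒢 h
    obtain ⟨N, hN⟩ := h.gen
    have hz : ∀ n, N ≤ n → IsZero (𝒢.G (n + 1)) := by
      intro n hn
      rw [IsZero.iff_id_eq_zero]
      exact hN n hn (𝟙 _) (fun i => i.elim0)
    have hsv : ∀ n, ∃ n₀ : ℕ, ∀ d : ℕ, n₀ ≤ d → Van (CohB1.tensorPow L d) (𝒢.G n) := by
      intro n
      obtain ⟨n₀, hn₀⟩ := SV.serre_vanishing A (X ↘ Spec (CommRingCat.of A)) hL (𝒢.G n) (h.coh n)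
      exact ⟨n₀, fun d hd q hq => hn₀ d hd q hq⟩
    choose d₀ hd₀ using hsv
    refine ⟨(Finset.range (N + 1)).sup d₀, fun n d hd => ?_⟩
    by_cases hn : n ≤ N
    · exact hd₀ n d ((Finset.le_sup (f := d₀) (Finset.mem_range.2 (by omega))).trans hd)
    · obtain ⟨m, rfl⟩ : ∃ m, n = m + 1 := ⟨n - 1, by omega⟩
      exact van_of_isZero A _ (hz m (by omega))
  | succ r ih =>
    intro 𝒢 h
    obtain ⟨dk, hdk⟩ := ih 𝒢.ker h.ker
    obtain ⟨dc, hdc⟩ := ih 𝒢.cok h.cok
    obtain ⟨d0, hd0⟩ := SV.serre_vanishing A (X ↘ Spec (CommRingCat.of A)) hL (𝒢.G 0) (h.coh 0)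
    refine ⟨max (max dk dc) d0, fun n d hd => ?_⟩
    have h1 : dk ≤ d := le_trans (le_trans (le_max_left _ _) (le_max_left _ _)) hd
    have h2 : dc ≤ d := le_trans (le_trans (le_max_right _ _) (le_max_left _ _)) hd
    have h3 : d0 ≤ d := le_trans (le_max_right _ _) hd
    have hB : PicF.IsInvertible (CohB1.tensorPow L d) := isInvertible_tensorPow hL.1 d
    have key : ∀ m : ℕ, Van (CohB1.tensorPow L d) (𝒢.G m) := by
      intro m
      induction m with
      | zero => exact fun q hq => hd0 d h3 q hq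
      | succ m ihm =>
        exact van_succ A 𝒢 hB m (hdk m d h1) (hdc m d h2) ihm
    exact key n

end Groth.Agent.Helper1.GrVan
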