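import Mathlib
import Groth.Agent.Helper1.Rees2
import Groth.Agent.Helper1.FormB
import Groth.Agent.Helper1.GrVan
import Groth.Agent.Helper1.SerreCritE
import Groth.Agent.Helper1.PropSuppFin

/-!
# GrKer: the graded object `(I^(n+1) G_(n+1))_n` of a formal system, and uniform vanishing (S0848)
-/

set_option autoImplicit false
set_option linter.style.haveILetI false
set_option linter.unusedSectionVars false

universe u

open CategoryTheory CategoryTheory.Limits AlgebraicGeometry Opposite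

namespace Groth.Agent.Helper1.GrKer

open Groth.Agent.Helper1.Form Groth.Agent.Helper1.GrSh Groth.Agent.Helper1.Rees

variable {A : Type u} [CommRing A] {X : Scheme.{u}} [X.Over (Spec (CommRingCat.of A))]
variable {I : Ideal A} (G : ℕᵒᵖ ⥤ X.Modules)

/-- the terms -/
abbrev Gn (n : ℕ) : X.Modules := G.obj (op n)

/-- the transition maps -/
abbrev τ (n : ℕ) : Gn G (n + 1) ⟶ Gn G n := G.map (homOfLE (Nat.le_succ n)).op

variable (hk : ∀ n, Formal.KilledBy (I ^ (n + 1)) (G.obj (op n))) (hq : HasQuotTrans I G)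

include hk in
lemma kills_smulMod (a : I) (n : ℕ) :
    Kills (I ^ (n + 1)) (Formal.smulMod A (Gn G (n + 1)) (a : A)) := by
  intro b hb
  have h1 : b * (a : A) ∈ I ^ (n + 1 + 1) := by
    rw [pow_succ]
    exact Ideal.mul_mem_mul hb a.2
  rw [← smulMod_comp_eq_smul, ← smulMod_mul]
  exact hk (n + 1) _ h1

/-- multiplication by `a ∈ I` as a map `G_n ⟶ G_(n+1)` -/
noncomputable def m (a : I) (n : ℕ) : Gn G n ⟶ Gn G (n + 1) :=
  (hq n).desc _ (kills_smulMod G hk a n)

@[reassoc]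
lemma τ_m (a : I) (n : ℕ) : τ G n ≫ m G hk hq a n = Formal.smulMod A (Gn G (n + 1)) (a : A) :=
  (hq n).fac_desc _ _

/-- the piece `I^(n+1) G_(n+1)` -/
noncomputable abbrev R (n : ℕ) : X.Modules := Rn I (Gn G (n + 1)) (n + 1)

lemma smulMod_comp_assoc' {M N Z : X.Modules} (f : M ⟶ N) (a : A) (g : N ⟶ Z) :
    Formal.smulMod A M a ≫ f ≫ g = f ≫ Formal.smulMod A N a ≫ g := by
  rw [← Category.assoc, smulMod_comp, Category.assoc]

include hq in
lemma modPowπ_eq (n : ℕ) : ∃ e : Gn G n ⟶ Formal.modPow I (n + 1) (Gn G (n + 1)),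
    τ G n ≫ e = Formal.modPowπ I (n + 1) (Gn G (n + 1)) :=
  ⟨(hq n).desc _ (isQuot_modPowπ I (n + 1) _).kills, (hq n).fac_desc _ _⟩

include hk hq in
lemma T_aux (a : I) (n : ℕ) :
    (Rι I (Gn G (n + 1)) (n + 1) ≫ m G hk hq a (n + 1)) ≫
      Formal.modPowπ I (n + 1 + 1) (Gn G (n + 1 + 1)) = 0 := by
  apply Rn_hom_ext
  intro b
  haveI := (hq (n + 1)).epi
  rw [comp_zero, Category.assoc, θ_ι_assoc, ← cancel_epi (τ G (n + 1)), comp_zero,
    ← smulMod_comp_assoc', τ_m_assoc, ← Category.assoc, ← smulMod_mul]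
  have h1 : (b : A) * (a : A) ∈ I ^ (n + 1 + 1) := by
    rw [pow_succ]
    exact Ideal.mul_mem_mul b.2 a.2
  exact (isQuot_modPowπ I (n + 1 + 1) _).kills _ h1

/-- the operators -/
noncomputable def T (a : I) (n : ℕ) : R (I := I) G n ⟶ R (I := I) G (n + 1) :=
  liftR I (Gn G (n + 1 + 1)) (n + 1 + 1) _ (T_aux G hk hq a n)

@[reassoc]
lemma T_ι (a : I) (n : ℕ) : T G hk hq a n ≫ Rι I (Gn G (n + 1 + 1)) (n + 1 + 1) =
    Rι I (Gn G (n + 1)) (n + 1) ≫ m G hk hq a (n + 1) := liftR_ι _ _ _ _ _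

lemma m_comm (a b : I) (n : ℕ) :
    m G hk hq b n ≫ m G hk hq a (n + 1) = m G hk hq a n ≫ m G hk hq b (n + 1) := by
  haveI := (hq n).epi
  haveI := (hq (n + 1)).epi
  rw [← cancel_epi (τ G n), τ_m_assoc, τ_m_assoc, ← cancel_epi (τ G (n + 1)),
    ← smulMod_comp_assoc', ← smulMod_comp_assoc', τ_m, τ_m, ← smulMod_mul, ← smulMod_mul, mul_comm]

/-- the graded object -/
noncomputable def grObj {r : ℕ} (a : Fin r → I) : GrObj X r where
  G := R (I := I) G
  T i n := T G hk hq (a i) n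
  comm i j n := by
    rw [← cancel_mono (Rι I (Gn G (n + 1 + 1 + 1)) (n + 1 + 1 + 1)), Category.assoc,
      Category.assoc, T_ι, T_ι_assoc, T_ι, T_ι_assoc, m_comm]

lemma smulMod_sum (M : X.Modules) {ι : Type*} (s : Finset ι) (c : ι → A) :
    Formal.smulMod A M (∑ i ∈ s, c i) = ∑ i ∈ s, Formal.smulMod A M (c i) := by
  classical
  induction s using Finset.induction_on with
  | empty => rw [Finset.sum_empty, Finset.sum_empty, smulMod_zero]
  | insert j s hj ih => rw [Finset.sum_insert hj, Finset.sum_insert hj, smulMod_add, ih]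

theorem jointlyEpi_grObj {r : ℕ} (a : Fin r → I)
    (ha : Ideal.span (Set.range fun i => (a i : A)) = I) (n : ℕ) :
    JointlyEpi (grObj G hk hq a) n := by
  intro Z f hf
  change R (I := I) G (n + 1) ⟶ Z at f
  change ∀ i, T G hk hq (a i) n ≫ f = 0 at hf
  show f = (0 : R (I := I) G (n + 1) ⟶ Z)
  apply Rn_hom_ext
  intro b
  rw [comp_zero]
  obtain ⟨c, hc, hb⟩ := exists_sum_of_mem_pow_succ a ha (n + 1) b b.2
  have h1 : θ I (Gn G (n + 1 + 1)) (n + 1 + 1) b =
      ∑ i, τ G (n + 1) ≫ θ I (Gn G (n + 1)) (n + 1) ⟨c i, hc i⟩ ≫ T G hk hq (a i) n := by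
    rw [← cancel_mono (Rι I (Gn G (n + 1 + 1)) (n + 1 + 1)), θ_ι, Preadditive.sum_comp]
    have : ∀ i, (τ G (n + 1) ≫ θ I (Gn G (n + 1)) (n + 1) ⟨c i, hc i⟩ ≫ T G hk hq (a i) n) ≫
        Rι I (Gn G (n + 1 + 1)) (n + 1 + 1) =
        Formal.smulMod A (Gn G (n + 1 + 1)) (c i * (a i : A)) := fun i => by
      rw [Category.assoc, Category.assoc, T_ι, θ_ι_assoc, ← smulMod_comp_assoc', τ_m,
        ← smulMod_mul]
    rw [Finset.sum_congr rfl (fun i _ => this i), hb, smulMod_sum]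
  rw [h1, Preadditive.sum_comp]
  refine Finset.sum_eq_zero fun i _ => ?_
  rw [Category.assoc, Category.assoc, hf i, comp_zero, comp_zero]

include hq in
/-- the kernel of the transition map is `I^(n+1) G_(n+1)` -/
theorem nonempty_kernel_iso (n : ℕ) : Nonempty (kernel (τ G n) ≅ R (I := I) G n) := by
  obtain ⟨e, he⟩ := modPowπ_eq (I := I) G hq n
  have h1 : kernel.ι (τ G n) ≫ Formal.modPowπ I (n + 1) (Gn G (n + 1)) = 0 := by
    rw [← he, ← Category.assoc, kernel.condition, zero_comp]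
  have h2 : Rι I (Gn G (n + 1)) (n + 1) ≫ τ G n = 0 := by
    apply Rn_hom_ext
    intro b
    rw [comp_zero, θ_ι_assoc]
    exact (hq n).kills _ b.2
  refine ⟨⟨liftR I _ (n + 1) _ h1, kernel.lift _ _ h2, ?_, ?_⟩⟩
  · rw [← cancel_mono (kernel.ι (τ G n)), Category.assoc, kernel.lift_ι, liftR_ι, Category.id_comp]
  · rw [← cancel_mono (Rι I (Gn G (n + 1)) (n + 1)), Category.assoc, liftR_ι, kernel.lift_ι,
      Category.id_comp]

theorem isFG_grObj [IsNoetherianRing A] [IsLocallyNoetherian X]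
    (hc : ∀ n, Coh.IsCoh (G.obj (op n))) {r : ℕ} (a : Fin r → I)
    (ha : Ideal.span (Set.range fun i => (a i : A)) = I) : IsFG (grObj G hk hq a) where
  coh n := isCoh_Rn I (n + 1) _ (hc (n + 1))
  gen := ⟨0, fun n _ => jointlyEpi_grObj G hk hq a ha n⟩

/-- **S0848**: uniform vanishing of `H^q(X, Ker(G_(n+1) → G_n) ⊗ L^d)` -/
theorem uniform_vanishing_kernels [IsNoetherianRing A]
    [IsProper (X ↘ Spec (CommRingCat.of A))] {L : X.Modules} (hL : CohB1.IsAmple L)
    (hG : Formal.IsCohFormal I G) :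
    ∃ d₀ : ℕ, ∀ (n d : ℕ), d₀ ≤ d → ∀ q : ℕ, 1 ≤ q →
      Subsingleton (Coh.HH X (CohB1.tensorMod (kernel (G.map (homOfLE (Nat.le_succ n)).op))
        (CohB1.tensorPow L d)) q) := by
  haveI : IsNoetherian X := PropSuppFin.isNoetherian_X A X
  obtain ⟨r, f, hf⟩ := Submodule.fg_iff_exists_fin_generating_family.1 (IsNoetherian.noetherian I)
  have hmem : ∀ i, f i ∈ I := fun i => by
    rw [← hf]
    exact Submodule.subset_span (Set.mem_range_self i)
  let a : Fin r → I := fun i => ⟨f i, hmem i⟩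
  have ha : Ideal.span (Set.range fun i => (a i : A)) = I := hf
  have hq := hasQuotTrans_of_isCohFormal hG
  have hFG := isFG_grObj G hG.2.1 hq hG.1 a ha
  obtain ⟨d₀, hd₀⟩ := GrVan.uniform_vanishing A hL r _ hFG
  refine ⟨d₀, fun n d hd q hq1 => ?_⟩
  obtain ⟨e⟩ := nonempty_kernel_iso (I := I) G hq n
  have h1 : Subsingleton (Coh.HH X (CohB1.tensorMod (R (I := I) G n) (CohB1.tensorPow L d)) q) :=
    hd₀ n d hd q hq1
  exact SerreCrit.subsingleton_HH_of_iso
    ((DCoh.tensorRightMod (CohB1.tensorPow L d)).mapIso e.symm) q h1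

end Groth.Agent.Helper1.GrKer
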