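import Mathlib
import Groth.Agent.Helper1.AZ2
import Groth.Agent.Helper1.HomCompl4
import Groth.Agent.Helper1.QuotPush2
import Groth.Agent.Lead.GExE
import Groth.Prelude.Def_ClSub2

/-!
# AZ3: generic lemmas for the algebraization of a closed formal subscheme
-/

set_option autoImplicit false
set_option linter.style.haveILetI false
set_option linter.unusedSectionVars false

universe u

open CategoryTheory CategoryTheory.Limits AlgebraicGeometry Opposite

namespace Groth.Agent.Helper1.AZ

open Groth.Agent.Helper1.Form Groth.Agent.Helper1.TW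

section Abelian

variable {C : Type*} [Category C] [Abelian C]

/-- two epimorphisms out of the same object with the same kernel have isomorphic targets -/
theorem exists_iso_of_kernel_iso {O M M' : C} (f : O ⟶ M) (f' : O ⟶ M') [Epi f] [Epi f']
    (e : kernel f' ≅ kernel f) (he : e.hom ≫ kernel.ι f = kernel.ι f') :
    ∃ μ : M ≅ M', f ≫ μ.hom = f' := by
  have h1 : kernel.ι f ≫ f' = 0 := by
    have : kernel.ι f = e.inv ≫ kernel.ι f' := by rw [← he, Iso.inv_hom_id_assoc]
    rw [this, Category.assoc, kernel.condition, comp_zero]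
  have h2 : kernel.ι f' ≫ f = 0 := by
    rw [← he, Category.assoc, kernel.condition, comp_zero]
  refine ⟨⟨Abelian.epiDesc f f' h1, Abelian.epiDesc f' f h2, ?_, ?_⟩, Abelian.comp_epiDesc _ _ _⟩
  · rw [← cancel_epi f, Abelian.comp_epiDesc_assoc, Abelian.comp_epiDesc, Category.comp_id]
  · rw [← cancel_epi f', Abelian.comp_epiDesc_assoc, Abelian.comp_epiDesc, Category.comp_id]

end Abelian

section Unit

variable {X Y : Scheme.{u}}

/-- the two forms of the canonical map `O_Y ⟶ f_* O_X` agree -/
lemma clSub_unitToPush_eq (f : X ⟶ Y) :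
    ClSub.unitToPush f = Groth.Agent.Helper1.ZarIso.unitToPush f := by
  ext U x
  rfl

/-- morphisms with isomorphic direct images of the structure sheaf (under `O_Y`) have the same
kernel -/
theorem ker_eq_of_iso {X' : Scheme.{u}} (a : X ⟶ Y) (a' : X' ⟶ Y) [QuasiCompact a]
    [QuasiCompact a']
    (θ : (Scheme.Modules.pushforward a).obj (Coh.structureModule X) ≅
      (Scheme.Modules.pushforward a').obj (Coh.structureModule X'))
    (hθ : Groth.Agent.Helper1.ZarIso.unitToPush a ≫ θ.hom =
      Groth.Agent.Helper1.ZarIso.unitToPush a') : a.ker = a'.ker := by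
  apply Scheme.IdealSheafData.ext
  funext U
  rw [Scheme.Hom.ker_apply, Scheme.Hom.ker_apply]
  ext g
  rw [RingHom.mem_ker, RingHom.mem_ker]
  have h1 : θ.hom.app U.1 ((Groth.Agent.Helper1.ZarIso.unitToPush a).app U.1
      (show Γ(Coh.structureModule Y, U.1) from g)) =
      (Groth.Agent.Helper1.ZarIso.unitToPush a').app U.1
        (show Γ(Coh.structureModule Y, U.1) from g) :=
    congrArg (fun ψ => Scheme.Modules.Hom.app ψ U.1
      (show Γ(Coh.structureModule Y, U.1) from g)) hθ
  have h2 : θ.inv.app U.1 ((Groth.Agent.Helper1.ZarIso.unitToPush a').app U.1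
      (show Γ(Coh.structureModule Y, U.1) from g)) =
      (Groth.Agent.Helper1.ZarIso.unitToPush a).app U.1
        (show Γ(Coh.structureModule Y, U.1) from g) := by
    rw [← h1]
    exact congrArg (fun ψ => Scheme.Modules.Hom.app ψ U.1
      ((Groth.Agent.Helper1.ZarIso.unitToPush a).app U.1
        (show Γ(Coh.structureModule Y, U.1) from g))) θ.hom_inv_id
  rw [Groth.Agent.Helper1.ZarIso.unitToPush_app] at h1 h2
  rw [Groth.Agent.Helper1.ZarIso.unitToPush_app] at h1 h2
  constructor
  · intro h
    rw [h] at h1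
    exact h1.symm.trans (map_zero (θ.hom.app U.1).hom)
  · intro h
    rw [h] at h2
    exact h2.symm.trans (map_zero (θ.inv.app U.1).hom)

end Unit

section Nakayama

variable {A : Type u} [CommRing A] [IsNoetherianRing A] (I : Ideal A) [IsAdicComplete I A]
  {X : Scheme.{u}} [X.Over (Spec (CommRingCat.of A))] [IsProper (X ↘ Spec (CommRingCat.of A))]

/-- a coherent module `C` on a scheme proper over a complete ring with `C = I C` is zero -/
theorem isZero_of_forall_kills (C : X.Modules) (hC : Coh.IsCoh C)
    (h : ∀ (Z : X.Modules) (f : C ⟶ Z), Kills I f → f = 0) : IsZero C := by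
  have hz : ∀ n : ℕ, IsZero (Formal.modPow I (n + 1) C) := by
    intro n
    refine Groth.Agent.Lead.GEx.isZero_of_quot_zero (J := I) (n + 1)
      (isQuot_modPowπ I (n + 1) C).killedBy ?_
    intro Z f hf
    haveI := (isQuot_modPowπ I (n + 1) C).epi
    have h1 : Formal.modPowπ I (n + 1) C ≫ f = 0 := h Z _ (hf.comp_left _)
    rw [← cancel_epi (Formal.modPowπ I (n + 1) C), h1, comp_zero]
  obtain ⟨φ, -, huniq⟩ := Groth.Agent.Helper1.HomCompl.main_proper I C C hC hC (𝟙 _)
  have h1 : (𝟙 C : C ⟶ C) = φ := huniq _ (fun n => (hz n).eq_of_tgt _ _)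
  have h2 : (0 : C ⟶ C) = φ := huniq _ (fun n => (hz n).eq_of_tgt _ _)
  exact (IsZero.iff_id_eq_zero C).2 (h1.trans h2.symm)

/-- **Nakayama for epimorphisms** of coherent modules on a scheme proper over a complete ring -/
theorem epi_of_epi_comp_modPowπ {W M : X.Modules} (hW : Coh.IsCoh W) (hM : Coh.IsCoh M)
    (p : W ⟶ M) (h : Epi (p ≫ Formal.modPowπ I 1 M)) : Epi p := by
  haveI : IsLocallyNoetherian X :=
    LocallyOfFiniteType.isLocallyNoetherian (X ↘ Spec (CommRingCat.of A))
  have hC : Coh.IsCoh (cokernel p) := Groth.Agent.Lead.PerfLib.isCoh_cokernel hW hM p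
  have hz : IsZero (cokernel p) := by
    refine isZero_of_forall_kills I _ hC ?_
    intro Z f hf
    have hq : IsQuot I (Formal.modPowπ I 1 M) := by
      have := isQuot_modPowπ I 1 M
      rwa [pow_one] at this
    obtain ⟨g, hg⟩ := hq.fac (cokernel.π p ≫ f) (hf.comp_left _)
    have h1 : (p ≫ Formal.modPowπ I 1 M) ≫ g = 0 := by
      rw [Category.assoc, hg, cokernel.condition_assoc, zero_comp]
    have h2 : g = 0 := by rw [← cancel_epi (p ≫ Formal.modPowπ I 1 M), h1, comp_zero]
    rw [h2, comp_zero] at hg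
    rw [← cancel_epi (cokernel.π p), ← hg, comp_zero]
  exact Preadditive.epi_of_isZero_cokernel p hz

end Nakayama

end Groth.Agent.Helper1.AZ
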