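import Mathlib
import Groth.Agent.Lead.CartSecA
import Groth.Agent.Lead.ThickBC
import Groth.Agent.Lead.HomDescE
import Groth.Agent.Lead.StalkPull
import Groth.Agent.Lead.HomShH
import Groth.Agent.Helper8.SteinB
import Groth.Agent.Helper4.QcohLimits
import Groth.Agent.Helper4.QcohEpi

/-!
# Hilbert–Quot bridge, part 1: the ideal module of the inverse image of an ideal sheaf is the
image of the pullback of the ideal module
-/

set_option autoImplicit false
set_option linter.style.haveILetI false
set_option linter.unusedSectionVars false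

universe u
open CategoryTheory CategoryTheory.Limits AlgebraicGeometry Opposite TopologicalSpace

namespace Groth.Agent.Helper1.HB

open Groth.Agent.Lead.BCMap Groth.Agent.Helper4.PullUnit Groth.Agent.Helper4

variable {Y Y' : Scheme.{u}} (h : Y' ⟶ Y) (I : Y.IdealSheafData)

/-- the map `h^* 𝓘 → h^* O_Y ≅ O_{Y'}` -/
noncomputable def nMap :
    (Scheme.Modules.pullback h).obj (ClSub.idealMod I) ⟶ Coh.structureModule Y' :=
  (Scheme.Modules.pullback h).map (ClSub.idealModι I) ≫ (pullbackUnitIso h).hom

theorem nMap_pbSec (U : Y.Opens) (V : Y'.Opens) (e : V ≤ h ⁻¹ᵁ U)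
    (m : Γ(ClSub.idealMod I, U)) (r : Γ(Y, U))
    (hr : (ClSub.idealModι I).app U m = (show Γ(Coh.structureModule Y, U) from r)) :
    (nMap h I).app V (pbSec h (ClSub.idealMod I) U V e m) =
      (show Γ(Coh.structureModule Y', V) from (h.appLE U V e).hom r) := by
  have h1 : (nMap h I).app V (pbSec h (ClSub.idealMod I) U V e m) =
      (pullbackUnitIso h).hom.app V (((Scheme.Modules.pullback h).map (ClSub.idealModι I)).app V
        (pbSec h (ClSub.idealMod I) U V e m)) := rfl
  rw [h1, ← pbSec_naturality, hr]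
  exact Groth.Agent.Helper8.Stein.pullbackUnitIso_pbSec h U V e r

theorem nMap_app_smul (V : Y'.Opens) (b : Γ(Y', V))
    (s : Γ((Scheme.Modules.pullback h).obj (ClSub.idealMod I), V)) :
    (nMap h I).app V (b • s) = b • (nMap h I).app V s :=
  Scheme.Modules.Hom.app_smul _ b s

/-- **the ideal module of `h⁻¹ I` is the image of `h^* 𝓘 → O_{Y'}`** -/
theorem exists_epi_comap :
    ∃ e : (Scheme.Modules.pullback h).obj (ClSub.idealMod I) ⟶ ClSub.idealMod (I.comap h),
      Epi e ∧ e ≫ ClSub.idealModι (I.comap h) = nMap h I := by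
  haveI : ((Scheme.Modules.pullback h).obj (ClSub.idealMod I)).IsQuasicoherent :=
    Groth.Agent.Lead.StalkPull.isQuasicoherent_pullbackObj h _
  haveI hO : (Coh.structureModule Y').IsQuasicoherent := (Groth.Agent.Lead.HomShH.isCoh_unit Y').1
  haveI : (cokernel (nMap h I)).IsQuasicoherent := QcohLimits.isQuasicoherent_cokernel _
  haveI : (Abelian.image (nMap h I)).IsQuasicoherent :=
    QcohLimits.isQuasicoherent_kernel (cokernel.π (nMap h I))
  obtain ⟨D, hD, e₀, he₀⟩ :=
    Groth.Agent.Lead.CartSec.exists_ideal_of_mono (Abelian.image.ι (nMap h I))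
  have hfac : ∀ (V : Y'.Opens) (s : Γ((Scheme.Modules.pullback h).obj (ClSub.idealMod I), V)),
      (Abelian.image.ι (nMap h I)).app V ((Abelian.factorThruImage (nMap h I)).app V s) =
        (nMap h I).app V s := by
    intro V s
    exact congrArg (fun φ => (Scheme.Modules.Hom.app φ V) s) (Abelian.image.fac (nMap h I))
  have hDJ : D = I.comap h := by
    refine Scheme.IdealSheafData.ext_of_iSup_eq_top
      (ι := {p : Y'.affineOpens × Y.affineOpens // p.1.1 ≤ h ⁻¹ᵁ p.2.1}) (fun p => p.1.1) ?_ ?_
    · rw [eq_top_iff]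
      intro y _
      obtain ⟨U, hU, hyU⟩ := QcohLimits.exists_affine_nhd (h y)
      obtain ⟨_, ⟨V, hV : IsAffineOpen V, rfl⟩, hyV, hVU⟩ :=
        Y'.isBasis_affineOpens.exists_subset_of_mem_open
          (show y ∈ ((h ⁻¹ᵁ U : Y'.Opens) : Set Y') from hyU) (h ⁻¹ᵁ U).isOpen
      exact Opens.mem_iSup.2 ⟨⟨(⟨V, hV⟩, ⟨U, hU⟩), hVU⟩, hyV⟩
    · rintro ⟨⟨V, U⟩, e⟩
      rw [Groth.Agent.Lead.ThickBC.ideal_comap_appLE h I U V e]
      apply le_antisymm
      · intro g hg
        obtain ⟨a, ha⟩ := (hD V g).1 hg
        obtain ⟨s, rfl⟩ := QcohEpi.app_surjective_of_epi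
          (Abelian.factorThruImage (nMap h I)) V.2 a
        rw [hfac] at ha
        have hs := Groth.Agent.Lead.HomDesc.span_pbSec h (ClSub.idealMod I) V.2 U.2 e Set.univ
          (by simp) s
        have key : ∀ s : Γ((Scheme.Modules.pullback h).obj (ClSub.idealMod I), V.1),
            s ∈ Submodule.span Γ(Y', V.1) ((pbSec h (ClSub.idealMod I) U.1 V.1 e) '' Set.univ) →
            (show Γ(Y', V.1) from (nMap h I).app V.1 s) ∈
              (I.ideal U).map (h.appLE U.1 V.1 e).hom := by
          intro s hs
          induction hs using Submodule.span_induction with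
          | mem x hx =>
            obtain ⟨m, -, rfl⟩ := hx
            have hm := (Groth.Agent.Lead.IdealModDict.exists_section_iff I U
              (show Γ(Y, U.1) from (ClSub.idealModι I).app U.1 m)).1 ⟨m, rfl⟩
            rw [nMap_pbSec h I U.1 V.1 e m _ rfl]
            exact Ideal.mem_map_of_mem _ hm
          | zero =>
            rw [map_zero]
            exact Ideal.zero_mem _
          | add x y _ _ hx hy =>
            rw [map_add]
            exact Ideal.add_mem _ hx hy
          | smul b x _ hx =>
            rw [nMap_app_smul]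
            exact Ideal.mul_mem_left _ b hx
        have := key s hs
        rw [ha] at this
        exact this
      · rw [Ideal.map_le_iff_le_comap]
        intro r hr
        obtain ⟨m, hm⟩ := (Groth.Agent.Lead.IdealModDict.exists_section_iff I U r).2 hr
        rw [Ideal.mem_comap]
        apply (hD V _).2
        refine ⟨(Abelian.factorThruImage (nMap h I)).app V.1
          (pbSec h (ClSub.idealMod I) U.1 V.1 e m), ?_⟩
        rw [hfac]
        exact nMap_pbSec h I U.1 V.1 e m r hm
  subst hDJ
  refine ⟨Abelian.factorThruImage (nMap h I) ≫ e₀.inv, epi_comp _ _, ?_⟩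
  rw [Category.assoc, ← he₀, Iso.inv_hom_id_assoc, Abelian.image.fac]

end Groth.Agent.Helper1.HB
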