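import Mathlib
import Groth.Agent.Helper1.QU34

/-!
# Quot schemes, part 35: the Quot scheme of `E_S` over a Noetherian base `S`
-/

set_option autoImplicit false
set_option linter.style.haveILetI false
set_option linter.unusedSectionVars false

universe u
open CategoryTheory CategoryTheory.Limits AlgebraicGeometry Opposite

namespace Groth.Agent.Helper1.QU

open Groth.Agent.Helper1.QT Groth.Agent.Helper1.GR
open AlgebraicGeometry.Scheme.Modules

section OverS

variable {n : ℕ} {𝓔 : (PZ.{u} n).Modules}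

theorem RepData.locallyOfFiniteType_from {Φ : Polynomial ℚ} (R : RepData n 𝓔 Φ) :
    LocallyOfFiniteType (specULiftZIsTerminal.from R.Q) := by
  haveI := R.imm
  haveI hprop := isProper_GrToSpec (R := ULift.{u} ℤ) R.d R.N R.hdN
  have hf : specULiftZIsTerminal.from R.Q = R.e ≫ GrToSpec (ULift.{u} ℤ) R.d R.N :=
    specULiftZIsTerminal.hom_ext _ _
  rw [hf]
  infer_instance

variable (R : ∀ Φ : Polynomial ℚ, RepData n 𝓔 Φ)

instance locallyOfFiniteType_from_QAll :
    LocallyOfFiniteType (specULiftZIsTerminal.from (∐ (QP n 𝓔 R))) := by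
  rw [IsZariskiLocalAtSource.iff_of_openCover (P := @LocallyOfFiniteType)
    (sigmaOpenCover (QP n 𝓔 R))]
  intro a
  have h : (sigmaOpenCover (QP n 𝓔 R)).f a ≫ specULiftZIsTerminal.from (∐ (QP n 𝓔 R)) =
      specULiftZIsTerminal.from (R a.down).Q := specULiftZIsTerminal.hom_ext _ _
  rw [h]
  exact (R a.down).locallyOfFiniteType_from

variable (S : Scheme.{u})

/-- the Quot scheme over `S` -/
noncomputable def QOver : Over S :=
  Over.mk (pullback.snd (specULiftZIsTerminal.from (∐ (QP n 𝓔 R))) (specULiftZIsTerminal.from S))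

/-- the projection to the Quot scheme over `ℤ` -/
noncomputable def QOver.p₁ : (QOver R S).left ⟶ ∐ (QP n 𝓔 R) :=
  pullback.fst (specULiftZIsTerminal.from (∐ (QP n 𝓔 R))) (specULiftZIsTerminal.from S)

theorem isLocallyNoetherian_QOver [IsLocallyNoetherian S] :
    IsLocallyNoetherian (QOver R S).left := by
  have h : IsLocallyNoetherian
      (pullback (specULiftZIsTerminal.from (∐ (QP n 𝓔 R))) (specULiftZIsTerminal.from S)) :=
    LocallyOfFiniteType.isLocallyNoetherian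
      (pullback.snd (specULiftZIsTerminal.from (∐ (QP n 𝓔 R))) (specULiftZIsTerminal.from S))
  exact h

variable {S} {E_S : (CohB1.ProjSpaceOver n S).Modules} (κ : ET n 𝓔 S ≅ E_S)

/-- the universal family over `S` -/
noncomputable def KuOver : FGA.QuotSet (πT n S) E_S (QOver R S) :=
  ⟨τX n 𝓔 κ (QOver R S) (qpull n 𝓔 (QOver.p₁ R S) (KuAll n 𝓔 R).1),
    (τX_mem_iff n 𝓔 κ (QOver R S) _).2 (qpull_mem n 𝓔 (QOver.p₁ R S) (KuAll n 𝓔 R))⟩

/-- **representability of the Quot functor over `S`** -/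
theorem quotRepresentedBy_QOver [IsLocallyNoetherian S] :
    FGA.QuotRepresentedBy (πT n S) E_S (QOver R S) (KuOver R κ) := by
  refine ⟨isLocallyNoetherian_QOver R S, ?_⟩
  intro T _ K
  obtain ⟨K₀, hK₀⟩ := τX_surjective n 𝓔 κ T K.1
  have hmem : Coh.IsCoh (cokernel K₀.arrow) ∧
      FlatMod.IsFlatOver (πT n T.left) (cokernel K₀.arrow) := by
    rw [← τX_mem_iff n 𝓔 κ T K₀, hK₀]
    exact K.2
  obtain ⟨h, hh⟩ := exists_classifying_all R (⟨K₀, hmem⟩ : QSet n 𝓔 T.left)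
  have hh' : qpull n 𝓔 h (KuAll n 𝓔 R).1 = K₀ := hh
  let gl : T.left ⟶ (QOver R S).left :=
    pullback.lift h T.hom (specULiftZIsTerminal.hom_ext _ _)
  have hgl1 : gl ≫ QOver.p₁ R S = h := pullback.lift_fst _ _ _
  have hgl2 : gl ≫ (QOver R S).hom = T.hom := pullback.lift_snd _ _ _
  have key : ∀ g : T ⟶ QOver R S, FGA.quotPull (πT n S) E_S g (KuOver R κ).1 =
      τX n 𝓔 κ T (qpull n 𝓔 (g.left ≫ QOver.p₁ R S) (KuAll n 𝓔 R).1) := by
    intro g
    have h1 := quotPull_τX n 𝓔 κ g (qpull n 𝓔 (QOver.p₁ R S) (KuAll n 𝓔 R).1)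
    have h2 := qpull_comp n 𝓔 g.left (QOver.p₁ R S) (KuAll n 𝓔 R).1
    rw [← h2]
    exact h1
  refine ⟨Over.homMk gl hgl2, ?_, ?_⟩
  · show FGA.quotPull (πT n S) E_S (Over.homMk gl hgl2) (KuOver R κ).1 = K.1
    rw [key]
    have e1 : (Over.homMk gl hgl2 : T ⟶ QOver R S).left ≫ QOver.p₁ R S = h := hgl1
    rw [e1, hh', hK₀]
  · intro g' hg'
    have hg'' : FGA.quotPull (πT n S) E_S g' (KuOver R κ).1 = K.1 := hg'
    rw [key, ← hK₀] at hg''
    have h3 := τX_injective n 𝓔 κ T hg''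
    rw [← hh'] at h3
    have h4 : h = g'.left ≫ QOver.p₁ R S := classifying_all_unique R _ _ h3
    apply Over.OverMorphism.ext
    show g'.left = gl
    apply pullback.hom_ext
    · exact h4.symm.trans hgl1.symm
    · exact (Over.w g').trans hgl2.symm

section Pieces

variable (S : Scheme.{u})

/-- the pieces of the Quot scheme over `S` -/
noncomputable def QPiece (a : ULift.{u} (Polynomial ℚ)) : Scheme.{u} :=
  pullback (Sigma.ι (QP n 𝓔 R) a) (QOver.p₁ R S)

/-- the inclusion of a piece -/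
noncomputable def QPiece.j (a : ULift.{u} (Polynomial ℚ)) : QPiece R S a ⟶ (QOver R S).left :=
  pullback.snd (Sigma.ι (QP n 𝓔 R) a) (QOver.p₁ R S)

instance (a : ULift.{u} (Polynomial ℚ)) : IsOpenImmersion (QPiece.j R S a) :=
  (inferInstance : IsOpenImmersion (pullback.snd (Sigma.ι (QP n 𝓔 R) a) (QOver.p₁ R S)))

theorem QPiece.range_j (a : ULift.{u} (Polynomial ℚ)) :
    Set.range (QPiece.j R S a) = (QOver.p₁ R S) ⁻¹' Set.range (Sigma.ι (QP n 𝓔 R) a) :=
  Scheme.Pullback.range_snd _ _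

theorem QPiece.nonempty_isColimit :
    Nonempty (IsColimit (Cofan.mk (QOver R S).left (QPiece.j R S))) := by
  apply nonempty_isColimit_cofanMk_of
  · rw [eq_top_iff]
    intro x _
    obtain ⟨a, ha⟩ := QP_surj n 𝓔 R (QOver.p₁ R S x)
    have hx : x ∈ Set.range (QPiece.j R S a) := by
      rw [QPiece.range_j]
      exact ha
    exact TopologicalSpace.Opens.mem_iSup.2 ⟨a, hx⟩
  · intro a b hab
    rw [Function.onFun, disjoint_iff]
    ext x
    constructor
    · rintro ⟨h1, h2⟩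
      have h1' : x ∈ Set.range (QPiece.j R S a) := h1
      have h2' : x ∈ Set.range (QPiece.j R S b) := h2
      rw [QPiece.range_j] at h1' h2'
      have hd := QP_disj n 𝓔 R a b hab
      have hx : (QOver.p₁ R S x) ∈ (((Sigma.ι (QP n 𝓔 R) a).opensRange ⊓
          (Sigma.ι (QP n 𝓔 R) b).opensRange : (∐ (QP n 𝓔 R)).Opens) : Set _) := ⟨h1', h2'⟩
      rw [hd] at hx
      exact hx.elim
    · intro h
      exact h.elim

theorem QPiece.exists_closedImmersion (h𝓔 : Coh.IsCoh 𝓔) (a : ULift.{u} (Polynomial ℚ)) :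
    ∃ (M : ℕ) (c : QPiece R S a ⟶ CohB1.ProjSpaceOver M S), IsClosedImmersion c ∧
      c ≫ CohB1.ProjSpaceOver.toBase M S = QPiece.j R S a ≫ (QOver R S).hom := by
  obtain ⟨-, M, c₀, hc₀⟩ := (R a.down).exists_closedImmersion h𝓔
  let f₁ : QPiece R S a ⟶ QP n 𝓔 R a := pullback.fst (Sigma.ι (QP n 𝓔 R) a) (QOver.p₁ R S)
  let c : QPiece R S a ⟶ CohB1.ProjSpaceOver M S :=
    pullback.lift (f₁ ≫ c₀) (QPiece.j R S a ≫ (QOver R S).hom) (specULiftZIsTerminal.hom_ext _ _)
  have hc1 : c ≫ aT M S = f₁ ≫ c₀ := pullback.lift_fst _ _ _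
  have hc2 : c ≫ πT M S = QPiece.j R S a ≫ (QOver R S).hom := pullback.lift_snd _ _ _
  refine ⟨M, c, ?_, hc2⟩
  have hright : IsPullback (aT M S) (πT M S) (CohB1.ProjSpace.toSpec M (ULift.{u} ℤ))
      (specULiftZIsTerminal.from S) := IsPullback.of_hasPullback _ _
  have hQ1 : IsPullback f₁ (QPiece.j R S a) (Sigma.ι (QP n 𝓔 R) a) (QOver.p₁ R S) :=
    IsPullback.of_hasPullback _ _
  have hQ2 : IsPullback (QOver.p₁ R S) (QOver R S).hom
      (specULiftZIsTerminal.from (∐ (QP n 𝓔 R))) (specULiftZIsTerminal.from S) :=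
    IsPullback.of_hasPullback _ _
  have hout := hQ1.paste_vert hQ2
  have e1 : Sigma.ι (QP n 𝓔 R) a ≫ specULiftZIsTerminal.from (∐ (QP n 𝓔 R)) =
      c₀ ≫ CohB1.ProjSpace.toSpec M (ULift.{u} ℤ) := specULiftZIsTerminal.hom_ext _ _
  rw [e1, ← hc2] at hout
  have hleft : IsPullback f₁ c c₀ (aT M S) := IsPullback.of_bot hout hc1.symm hright
  exact MorphismProperty.of_isPullback (P := @IsClosedImmersion) hleft hc₀

/-- **the Quot scheme over `S` is a disjoint union of closed subschemes of projective spaces over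
`S`** -/
theorem exists_pieces (h𝓔 : Coh.IsCoh 𝓔) :
    ∃ (ι : Type u) (P : ι → Scheme.{u}) (e : (∐ P) ≅ (QOver R S).left) (m : ι → ℕ)
      (c : ∀ a, P a ⟶ CohB1.ProjSpaceOver (m a) S),
      ∀ a, IsClosedImmersion (c a) ∧
        c a ≫ CohB1.ProjSpaceOver.toBase (m a) S = Sigma.ι P a ≫ e.hom ≫ (QOver R S).hom := by
  obtain ⟨hcol⟩ := QPiece.nonempty_isColimit R S
  choose m c hc using QPiece.exists_closedImmersion R S h𝓔
  let e : (∐ (QPiece R S)) ≅ (QOver R S).left :=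
    (coproductIsCoproduct (QPiece R S)).coconePointUniqueUpToIso hcol
  have he : ∀ a, Sigma.ι (QPiece R S) a ≫ e.hom = QPiece.j R S a := fun a =>
    (coproductIsCoproduct (QPiece R S)).comp_coconePointUniqueUpToIso_hom hcol ⟨a⟩
  refine ⟨ULift.{u} (Polynomial ℚ), QPiece R S, e, m, c, fun a => ⟨(hc a).1, ?_⟩⟩
  rw [(hc a).2, ← Category.assoc, he]

end Pieces

end OverS

section Fra

/-- the pullback of `O^r(a)` on `P^n_ℤ` to `P^n_S` -/
noncomputable def κFra (n r : ℕ) (a : ℤ) (S : Scheme.{u}) :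
    ET n (Fra.{u} n r a) S ≅
      CohB1.tensorMod (FlatMod.freeMod (CohB1.ProjSpaceOver n S) r) (Twist.twistOver n S a) :=
  @asIso _ _ _ _ (Groth.Agent.Helper4.PullTensor.θ (aT n S) (FlatMod.freeMod (PZ.{u} n) r)
      (Om.{u} n a))
    (Groth.Agent.Helper9.PullMon4.isIso_θ' (aT n S) (FlatMod.freeMod (PZ.{u} n) r) (Om.{u} n a)) ≪≫
    tmIso (Groth.Agent.Helper8.TildeBC.pullbackFreeIso (aT n S) r) (Iso.refl _)

/-- **the Quot scheme of `O^r(a)` on `P^n_S` over a Noetherian scheme `S`** -/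
theorem exists_quot_Fra (S : Scheme.{u}) [IsNoetherian S] (n r : ℕ) (a : ℤ) :
    ∃ (Q : Over S) (K : FGA.QuotSet (CohB1.ProjSpaceOver.toBase n S)
        (CohB1.tensorMod (FlatMod.freeMod (CohB1.ProjSpaceOver n S) r) (Twist.twistOver n S a)) Q),
      FGA.QuotRepresentedBy (CohB1.ProjSpaceOver.toBase n S)
        (CohB1.tensorMod (FlatMod.freeMod (CohB1.ProjSpaceOver n S) r) (Twist.twistOver n S a))
        Q K ∧
      ∃ (ι : Type u) (P : ι → Scheme.{u}) (e : (∐ P) ≅ Q.left) (m : ι → ℕ)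
        (c : ∀ a, P a ⟶ CohB1.ProjSpaceOver (m a) S),
        ∀ a, IsClosedImmersion (c a) ∧
          c a ≫ CohB1.ProjSpaceOver.toBase (m a) S = Limits.Sigma.ι P a ≫ e.hom ≫ Q.hom := by
  let R : ∀ Φ : Polynomial ℚ, RepData n (Fra.{u} n r a) Φ := fun Φ =>
    Classical.choice (nonempty_repData_Fra n r a Φ)
  exact ⟨QOver R S, KuOver R (κFra n r a S), quotRepresentedBy_QOver R (κFra n r a S),
    exists_pieces R S (isCoh_Fra n r a)⟩

end Fra

end Groth.Agent.Helper1.QU
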