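import Mathlib
import Groth.Agent.Helper1.QV5
import Groth.Agent.Lead.BCMap7
import Groth.Agent.Helper1.HT1
import Groth.Agent.Helper1.SS1

/-!
# General Quot schemes, part 6: the base change of a closed immersion `X ⟶ P` over `S`, the
base change isomorphisms for the direct image of a module, and the direct image of a family of
quotients
-/

set_option autoImplicit false
set_option linter.style.haveILetI false
set_option linter.unusedSectionVars false

universe u
open CategoryTheory CategoryTheory.Limits AlgebraicGeometry Opposite TopologicalSpace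

namespace Groth.Agent.Helper1.QV

open Groth.Agent.Helper1.QT Groth.Agent.Helper1.QU Groth.Agent.Helper1.HT
open AlgebraicGeometry.Scheme.Modules

attribute [local instance] pullback_additive pullback_preservesFiniteColimits

section Congr

variable {X S X' S' : Scheme.{u}} (f : X ⟶ S) (f' : X' ⟶ S') {g₁ g₂ : S' ⟶ S} (hg : g₁ = g₂)
  {g'₁ g'₂ : X' ⟶ X} (hg' : g'₁ = g'₂) (w₁ : g'₁ ≫ f = f' ≫ g₁) (w₂ : g'₂ ≫ f = f' ≫ g₂)
  (F : X.Modules)

/-- the base change map and equalities of the morphisms of the square -/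
theorem bc0_congr :
    CohBC.bc0 f g₁ f' g'₁ w₁ F =
      (pullbackCongr hg).hom.app ((pushforward f).obj F) ≫ CohBC.bc0 f g₂ f' g'₂ w₂ F ≫
        (pushforward f').map ((pullbackCongr hg').inv.app F) := by
  subst hg hg'
  have h0 : (pullbackCongr (rfl : g₁ = g₁)).hom.app ((pushforward f).obj F) = 𝟙 _ := rfl
  have h1 : (pullbackCongr (rfl : g'₁ = g'₁)).inv.app F = 𝟙 _ := rfl
  rw [h0, h1, CategoryTheory.Functor.map_id, Category.id_comp, Category.comp_id]

end Congr

variable {X P S : Scheme.{u}} (i : X ⟶ P) [IsClosedImmersion i] (π : P ⟶ S)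

/-- the base change of `i` to `T` -/
noncomputable def jT (T : Over S) : PicF.XT (i ≫ π) T ⟶ PicF.XT π T :=
  pullback.map (i ≫ π) T.hom π T.hom i (𝟙 T.left) (𝟙 S) (by simp) (by simp)

theorem jT_fst (T : Over S) :
    jT i π T ≫ pullback.fst π T.hom = pullback.fst (i ≫ π) T.hom ≫ i := by
  unfold jT
  rw [pullback.lift_fst]

theorem jT_snd (T : Over S) :
    jT i π T ≫ pullback.snd π T.hom = pullback.snd (i ≫ π) T.hom := by
  unfold jT
  rw [pullback.lift_snd, Category.comp_id]

theorem isPullback_jT (T : Over S) :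
    IsPullback (pullback.fst (i ≫ π) T.hom) (jT i π T) i (pullback.fst π T.hom) := by
  refine IsPullback.of_bot ?_ (jT_fst i π T).symm (IsPullback.of_hasPullback π T.hom)
  rw [jT_snd]
  exact IsPullback.of_hasPullback (i ≫ π) T.hom

instance (T : Over S) : IsClosedImmersion (jT i π T) :=
  MorphismProperty.of_isPullback (P := @IsClosedImmersion) (isPullback_jT i π T) inferInstance

theorem XTmap_jT {T T' : Over S} (g : T' ⟶ T) :
    PicF.XTmap (i ≫ π) g ≫ jT i π T = jT i π T' ≫ PicF.XTmap π g := by
  apply pullback.hom_ext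
  · rw [Category.assoc, jT_fst, ← Category.assoc, FGA.XTmap_fst, Category.assoc, FGA.XTmap_fst,
      jT_fst]
  · rw [Category.assoc, jT_snd, Category.assoc, Groth.Agent.Lead.LimPres.XTmap_snd,
      Groth.Agent.Lead.LimPres.XTmap_snd, ← Category.assoc, jT_snd]

theorem isPullback_XTmap_jT {T T' : Over S} (g : T' ⟶ T) :
    IsPullback (PicF.XTmap (i ≫ π) g) (jT i π T') (jT i π T) (PicF.XTmap π g) := by
  refine IsPullback.of_right ?_ (XTmap_jT i π g) (isPullback_jT i π T)
  rw [FGA.XTmap_fst, FGA.XTmap_fst]
  exact isPullback_jT i π T'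

variable (E : X.Modules) [E.IsQuasicoherent]

/-- the base change map for the direct image of `E` -/
noncomputable def bT (T : Over S) :
    FGA.ET π ((pushforward i).obj E) T ⟶ (pushforward (jT i π T)).obj (FGA.ET (i ≫ π) E T) :=
  CohBC.bc0 i (pullback.fst π T.hom) (jT i π T) (pullback.fst (i ≫ π) T.hom)
    (isPullback_jT i π T).w E

instance (T : Over S) : IsIso (bT i π E T) := by
  have h := Groth.Agent.Lead.BCMap.isIso_bcMap_of_isAffineHom i (pullback.fst π T.hom)
    (pullback.fst (i ≫ π) T.hom) (jT i π T) (isPullback_jT i π T) E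
  rwa [bcMap_eq_bc0] at h

/-- the base change map of the base changed closed immersion -/
noncomputable def bT' {T T' : Over S} (g : T' ⟶ T) (G : (PicF.XT (i ≫ π) T).Modules) :
    (Scheme.Modules.pullback (PicF.XTmap π g)).obj ((pushforward (jT i π T)).obj G) ⟶
      (pushforward (jT i π T')).obj ((Scheme.Modules.pullback (PicF.XTmap (i ≫ π) g)).obj G) :=
  CohBC.bc0 (jT i π T) (PicF.XTmap π g) (jT i π T') (PicF.XTmap (i ≫ π) g)
    (isPullback_XTmap_jT i π g).w G

instance {T T' : Over S} (g : T' ⟶ T) (G : (PicF.XT (i ≫ π) T).Modules) [G.IsQuasicoherent] :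
    IsIso (bT' i π g G) := by
  have h := Groth.Agent.Lead.BCMap.isIso_bcMap_of_isAffineHom (jT i π T) (PicF.XTmap π g)
    (PicF.XTmap (i ≫ π) g) (jT i π T') (isPullback_XTmap_jT i π g) G
  rwa [bcMap_eq_bc0] at h

/-- **the base change maps are compatible with the transition isomorphisms** -/
theorem bT_comp {T T' : Over S} (g : T' ⟶ T) :
    (FGA.ETiso π ((pushforward i).obj E) g).inv ≫
        (Scheme.Modules.pullback (PicF.XTmap π g)).map (bT i π E T) ≫
          bT' i π g (FGA.ET (i ≫ π) E T) =
      bT i π E T' ≫ (pushforward (jT i π T')).map (FGA.ETiso (i ≫ π) E g).inv := by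
  have key := bc0_comp i (pullback.fst π T.hom) (jT i π T) (pullback.fst (i ≫ π) T.hom)
    (isPullback_jT i π T).w (PicF.XTmap π g) (jT i π T') (PicF.XTmap (i ≫ π) g)
    (isPullback_XTmap_jT i π g).w E
  have hc := bc0_congr i (jT i π T') (FGA.XTmap_fst π g) (FGA.XTmap_fst (i ≫ π) g)
    (w_comp i (pullback.fst π T.hom) (jT i π T) (pullback.fst (i ≫ π) T.hom)
      (isPullback_jT i π T).w (PicF.XTmap π g) (jT i π T') (PicF.XTmap (i ≫ π) g)
      (isPullback_XTmap_jT i π g).w) (isPullback_jT i π T').w E
  rw [hc] at key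
  -- solve for the composite
  have h2 : (Scheme.Modules.pullback (PicF.XTmap π g)).map (bT i π E T) ≫
      bT' i π g (FGA.ET (i ≫ π) E T) =
      (pullbackComp (PicF.XTmap π g) (pullback.fst π T.hom)).hom.app ((pushforward i).obj E) ≫
        (pullbackCongr (FGA.XTmap_fst π g)).hom.app ((pushforward i).obj E) ≫
          bT i π E T' ≫
            (pushforward (jT i π T')).map
              ((pullbackCongr (FGA.XTmap_fst (i ≫ π) g)).inv.app E) ≫
            (pushforward (jT i π T')).map
              ((pullbackComp (PicF.XTmap (i ≫ π) g) (pullback.fst (i ≫ π) T.hom)).inv.app E) := by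
    have h3 := congrArg (fun z => (pullbackComp (PicF.XTmap π g)
      (pullback.fst π T.hom)).hom.app ((pushforward i).obj E) ≫ z ≫
        (pushforward (jT i π T')).map
          ((pullbackComp (PicF.XTmap (i ≫ π) g) (pullback.fst (i ≫ π) T.hom)).inv.app E)) key
    have hcancel : (pushforward (jT i π T')).map
        ((pullbackComp (PicF.XTmap (i ≫ π) g) (pullback.fst (i ≫ π) T.hom)).hom.app E) ≫
        (pushforward (jT i π T')).map
          ((pullbackComp (PicF.XTmap (i ≫ π) g) (pullback.fst (i ≫ π) T.hom)).inv.app E) =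
        𝟙 ((pushforward (jT i π T')).obj ((Scheme.Modules.pullback (PicF.XTmap (i ≫ π) g)).obj
          ((Scheme.Modules.pullback (pullback.fst (i ≫ π) T.hom)).obj E))) := by
      rw [← Functor.map_comp, Iso.hom_inv_id_app, CategoryTheory.Functor.map_id]
      rfl
    simp only [Category.assoc, Iso.hom_inv_id_app_assoc] at h3
    rw [hcancel, Category.comp_id] at h3
    exact h3.symm
  unfold FGA.ETiso
  simp only [Iso.trans_inv, Iso.app_inv, Category.assoc, Functor.map_comp]
  rw [h2]
  simp only [Iso.inv_hom_id_app_assoc]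

end Groth.Agent.Helper1.QV
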