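import Mathlib
import Groth.Agent.Helper1.QV6

/-!
# General Quot schemes, part 7: for a closed immersion `i : X ⟶ P` over `S`, the Quot functor of
`E` on `X` is the Quot functor of `i_* E` on `P`
-/

set_option autoImplicit false
set_option linter.style.haveILetI false
set_option linter.unusedSectionVars false
set_option maxHeartbeats 400000

universe u
open CategoryTheory CategoryTheory.Limits AlgebraicGeometry Opposite TopologicalSpace

namespace Groth.Agent.Helper1.QV

open Groth.Agent.Helper1.QT Groth.Agent.Helper1.QU Groth.Agent.Helper1.HT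
open AlgebraicGeometry.Scheme.Modules Groth.Agent.Lead.Thick

attribute [local instance] pullback_additive pullback_preservesFiniteColimits

variable {X P S : Scheme.{u}} (i : X ⟶ P) [IsClosedImmersion i] (π : P ⟶ S)
  (E : X.Modules) [E.IsQuasicoherent]

instance faithful_pushforward {C P' : Scheme.{u}} (j : C ⟶ P') [IsClosedImmersion j] :
    (pushforward j).Faithful where
  map_injective h := Groth.Agent.Helper1.ClFF.map_injective j h

/-- the direct image of a family of quotients of `E`, as a family of quotients of `i_* E` -/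
noncomputable def pushSub (T : Over S) (K : Subobject (FGA.ET (i ≫ π) E T)) :
    Subobject (FGA.ET π ((pushforward i).obj E) T) :=
  kernelSubobject (bT i π E T ≫ (pushforward (jT i π T)).map (cokernel.π K.arrow))

instance epi_bT_comp (T : Over S) {G : (PicF.XT (i ≫ π) T).Modules}
    (φ : FGA.ET (i ≫ π) E T ⟶ G) [Epi φ] :
    Epi (bT i π E T ≫ (pushforward (jT i π T)).map φ) := by
  haveI : Epi ((pushforward (jT i π T)).map φ) := inferInstance
  exact epi_comp _ _

theorem exists_cokernel_pushSub_iso (T : Over S) (K : Subobject (FGA.ET (i ≫ π) E T)) :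
    ∃ e : cokernel (pushSub i π E T K).arrow ≅
        (pushforward (jT i π T)).obj (cokernel K.arrow),
      cokernel.π (pushSub i π E T K).arrow ≫ e.hom =
        bT i π E T ≫ (pushforward (jT i π T)).map (cokernel.π K.arrow) :=
  exists_cokernel_kernelSubobject_iso _

theorem pushSub_kernelSubobject (T : Over S) {G : (PicF.XT (i ≫ π) T).Modules}
    (φ : FGA.ET (i ≫ π) E T ⟶ G) [Epi φ] :
    pushSub i π E T (kernelSubobject φ) =
      kernelSubobject (bT i π E T ≫ (pushforward (jT i π T)).map φ) := by
  obtain ⟨e, he⟩ := exists_cokernel_kernelSubobject_iso φ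
  refine kernelSubobject_eq_of_iso _ _ ((pushforward (jT i π T)).mapIso e) ?_
  rw [Category.assoc, Functor.mapIso_hom, ← Functor.map_comp, he]

/-- the direct image of a family in the Quot set is in the Quot set -/
theorem pushSub_mem (T : Over S) (K : FGA.QuotSet (i ≫ π) E T) :
    Coh.IsCoh (cokernel (pushSub i π E T K.1).arrow) ∧
      FlatMod.IsFlatOver (PicF.XTproj π T) (cokernel (pushSub i π E T K.1).arrow) := by
  obtain ⟨e, -⟩ := exists_cokernel_pushSub_iso i π E T K.1
  have h1 := isCoh_pushforward_closedImmersion (jT i π T) _ K.2.1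
  have h2 : FlatMod.IsFlatOver (PicF.XTproj π T)
      ((pushforward (jT i π T)).obj (cokernel K.1.arrow)) := by
    rw [isFlatOver_pushforward_iff]
    have h3 : jT i π T ≫ PicF.XTproj π T = PicF.XTproj (i ≫ π) T := jT_snd i π T
    rw [h3]
    exact K.2.2
  exact ⟨Groth.Agent.Lead.PerfLib.isCoh_of_iso e.symm h1, fun x =>
    Groth.Agent.Lead.FpqcSheaf.isFlatOverAt_of_iso _ e.symm x (h2 x)⟩

theorem pushSub_injective (T : Over S) : Function.Injective (pushSub i π E T) := by
  intro K₁ K₂ h
  obtain ⟨e', he'⟩ := exists_iso_of_kernelSubobject_eq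
    (bT i π E T ≫ (pushforward (jT i π T)).map (cokernel.π K₁.arrow))
    (bT i π E T ≫ (pushforward (jT i π T)).map (cokernel.π K₂.arrow)) h
  have h1 : (pushforward (jT i π T)).map (cokernel.π K₁.arrow) ≫ e'.hom =
      (pushforward (jT i π T)).map (cokernel.π K₂.arrow) := by
    rw [← cancel_epi (bT i π E T), ← Category.assoc]
    exact he'
  obtain ⟨φ, hφ⟩ := Groth.Agent.Helper1.ClFF.exists_preimage (jT i π T) e'.hom
  obtain ⟨ψ, hψ⟩ := Groth.Agent.Helper1.ClFF.exists_preimage (jT i π T) e'.inv
  let ε : cokernel K₁.arrow ≅ cokernel K₂.arrow :=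
    ⟨φ, ψ, Groth.Agent.Helper1.ClFF.map_injective (jT i π T) (by
        rw [Functor.map_comp, hφ, hψ, e'.hom_inv_id, CategoryTheory.Functor.map_id]),
      Groth.Agent.Helper1.ClFF.map_injective (jT i π T) (by
        rw [Functor.map_comp, hφ, hψ, e'.inv_hom_id, CategoryTheory.Functor.map_id])⟩
  have h2 : cokernel.π K₁.arrow ≫ ε.hom = cokernel.π K₂.arrow := by
    apply Groth.Agent.Helper1.ClFF.map_injective (jT i π T)
    rw [Functor.map_comp, hφ]
    exact h1
  rw [← kernelSubobject_cokernel_π K₁, ← kernelSubobject_cokernel_π K₂]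
  exact kernelSubobject_eq_of_iso _ _ ε h2

/-- every family of quotients of `i_* E` is the direct image of a family of quotients of `E` -/
theorem exists_pushSub_eq (T : Over S) (K' : FGA.QuotSet π ((pushforward i).obj E) T) :
    ∃ K : FGA.QuotSet (i ≫ π) E T, pushSub i π E T K.1 = K'.1 := by
  haveI : (cokernel K'.1.arrow).IsQuasicoherent := K'.2.1.1
  haveI : (FGA.ET (i ≫ π) E T).IsQuasicoherent :=
    Groth.Agent.Lead.StalkPull.isQuasicoherent_pullbackObj _ E
  let c : (pushforward (jT i π T)).obj (FGA.ET (i ≫ π) E T) ⟶ cokernel K'.1.arrow :=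
    inv (bT i π E T) ≫ cokernel.π K'.1.arrow
  haveI : Epi c := epi_comp _ _
  haveI hη : IsIso (η (jT i π T) (cokernel K'.1.arrow)) :=
    isIso_η_of_epi_pushforward (jT i π T) c
  let G := (Scheme.Modules.pullback (jT i π T)).obj (cokernel K'.1.arrow)
  obtain ⟨φ, hφ⟩ := Groth.Agent.Helper1.ClFF.exists_preimage (jT i π T)
    (c ≫ η (jT i π T) (cokernel K'.1.arrow))
  haveI : Epi ((pushforward (jT i π T)).map φ) := by
    rw [hφ]
    exact epi_comp _ _
  haveI : Epi φ := (pushforward (jT i π T)).epi_of_epi_map inferInstance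
  obtain ⟨e, he⟩ := exists_cokernel_kernelSubobject_iso φ
  have hGcoh : Coh.IsCoh G := Groth.Agent.Lead.FlatUnivJ.isCoh_pullback _ _ K'.2.1
  have hGfl : FlatMod.IsFlatOver (PicF.XTproj (i ≫ π) T) G := by
    have h3 : jT i π T ≫ PicF.XTproj π T = PicF.XTproj (i ≫ π) T := jT_snd i π T
    rw [← h3, ← isFlatOver_pushforward_iff]
    intro x
    exact Groth.Agent.Lead.FpqcSheaf.isFlatOverAt_of_iso _
      (asIso (η (jT i π T) (cokernel K'.1.arrow))) x (K'.2.2 x)
  refine ⟨⟨kernelSubobject φ, Groth.Agent.Lead.PerfLib.isCoh_of_iso e.symm hGcoh, fun x =>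
    Groth.Agent.Lead.FpqcSheaf.isFlatOverAt_of_iso _ e.symm x (hGfl x)⟩, ?_⟩
  show pushSub i π E T (kernelSubobject φ) = K'.1
  rw [pushSub_kernelSubobject]
  have h4 : bT i π E T ≫ (pushforward (jT i π T)).map φ =
      cokernel.π K'.1.arrow ≫ η (jT i π T) (cokernel K'.1.arrow) := by
    rw [hφ]
    simp only [c, Category.assoc, IsIso.hom_inv_id_assoc]
  exact (kernelSubobject_congr h4).trans
    ((kernelSubobject_comp_mono _ _).trans (kernelSubobject_cokernel_π K'.1))

/-- **the direct image commutes with pullback of submodules** -/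
theorem quotPull_pushSub {T T' : Over S} (g : T' ⟶ T) (K : Subobject (FGA.ET (i ≫ π) E T))
    [(cokernel K.arrow).IsQuasicoherent] :
    FGA.quotPull π ((pushforward i).obj E) g (pushSub i π E T K) =
      pushSub i π E T' (FGA.quotPull (i ≫ π) E g K) := by
  have hL : FGA.quotPull π ((pushforward i).obj E) g (pushSub i π E T K) =
      kernelSubobject (pqX π ((pushforward i).obj E) g
        (bT i π E T ≫ (pushforward (jT i π T)).map (cokernel.π K.arrow))) :=
    quotPull_kernelSubobject π _ g _
  have hR : pushSub i π E T' (FGA.quotPull (i ≫ π) E g K) =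
      kernelSubobject (bT i π E T' ≫
        (pushforward (jT i π T')).map (pqX (i ≫ π) E g (cokernel.π K.arrow))) := by
    rw [quotPull_eq_kernel]
    exact pushSub_kernelSubobject i π E T' _
  rw [hL, hR]
  have hnat := Groth.Agent.Helper1.SS.bc0_naturality (jT i π T) (PicF.XTmap π g) (jT i π T')
    (PicF.XTmap (i ≫ π) g) (isPullback_XTmap_jT i π g).w (cokernel.π K.arrow)
  have hcomp := bT_comp i π E g
  have key : pqX π ((pushforward i).obj E) g
      (bT i π E T ≫ (pushforward (jT i π T)).map (cokernel.π K.arrow)) ≫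
        bT' i π g (cokernel K.arrow) =
      bT i π E T' ≫
        (pushforward (jT i π T')).map (pqX (i ≫ π) E g (cokernel.π K.arrow)) := by
    unfold pqX
    rw [Functor.map_comp, Functor.map_comp, Category.assoc, Category.assoc]
    have hnat' : (Scheme.Modules.pullback (PicF.XTmap π g)).map
        ((pushforward (jT i π T)).map (cokernel.π K.arrow)) ≫ bT' i π g (cokernel K.arrow) =
        bT' i π g (FGA.ET (i ≫ π) E T) ≫ (pushforward (jT i π T')).map
          ((Scheme.Modules.pullback (PicF.XTmap (i ≫ π) g)).map (cokernel.π K.arrow)) := hnat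
    rw [hnat', ← Category.assoc ((Scheme.Modules.pullback (PicF.XTmap π g)).map (bT i π E T)),
      ← Category.assoc, ← Category.assoc]
    have hcomp' : ((FGA.ETiso π ((pushforward i).obj E) g).inv ≫
        (Scheme.Modules.pullback (PicF.XTmap π g)).map (bT i π E T)) ≫
          bT' i π g (FGA.ET (i ≫ π) E T) =
        bT i π E T' ≫ (pushforward (jT i π T')).map (FGA.ETiso (i ≫ π) E g).inv := by
      rw [Category.assoc]
      exact hcomp
    rw [hcomp', Category.assoc]
  exact (kernelSubobject_comp_mono _ (bT' i π g (cokernel K.arrow))).symm.trans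
    (kernelSubobject_congr key)

end Groth.Agent.Helper1.QV
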