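import Mathlib
import Groth.Agent.Helper1.QV7
import Groth.Agent.Helper1.QU35

/-!
# General Quot schemes, part 8: the Quot scheme of a coherent module on a closed subscheme of
`P^n_S` which is a quotient of a direct sum of twists
-/

set_option autoImplicit false
set_option linter.style.haveILetI false
set_option linter.unusedSectionVars false
set_option maxHeartbeats 400000

universe u
open CategoryTheory CategoryTheory.Limits AlgebraicGeometry Opposite TopologicalSpace

namespace Groth.Agent.Helper1.QV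

open Groth.Agent.Helper1.QT Groth.Agent.Helper1.QU Groth.Agent.Helper1.HT
open AlgebraicGeometry.Scheme.Modules

section Transfer

variable {X P S : Scheme.{u}} (i : X ⟶ P) [IsClosedImmersion i] (π : P ⟶ S)
  (E : X.Modules) [E.IsQuasicoherent]

/-- **the Quot scheme of `i_* E` is the Quot scheme of `E`** -/
theorem exists_quotRepresentedBy_of_pushforward (Q' : Over S)
    (K' : FGA.QuotSet π ((pushforward i).obj E) Q')
    (hQ' : FGA.QuotRepresentedBy π ((pushforward i).obj E) Q' K') :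
    ∃ K'' : FGA.QuotSet (i ≫ π) E Q', FGA.QuotRepresentedBy (i ≫ π) E Q' K'' ∧
      pushSub i π E Q' K''.1 = K'.1 := by
  obtain ⟨K'', hK''⟩ := exists_pushSub_eq i π E Q' K'
  refine ⟨K'', ⟨hQ'.1, ?_⟩, hK''⟩
  intro T _ K
  haveI : (cokernel K''.1.arrow).IsQuasicoherent := K''.2.1.1
  let K₁ : FGA.QuotSet π ((pushforward i).obj E) T := ⟨pushSub i π E T K.1, pushSub_mem i π E T K⟩
  obtain ⟨g, hg, hguniq⟩ := hQ'.2 T K₁
  have hg' : FGA.quotPull π ((pushforward i).obj E) g K'.1 = pushSub i π E T K.1 := hg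
  have key : ∀ g' : T ⟶ Q', FGA.quotPull (i ≫ π) E g' K''.1 = K.1 ↔
      FGA.quotPull π ((pushforward i).obj E) g' K'.1 = pushSub i π E T K.1 := by
    intro g'
    rw [← hK'', quotPull_pushSub]
    exact ⟨fun h0 => by rw [h0], fun h0 => pushSub_injective i π E T h0⟩
  refine ⟨g, (key g).2 hg', fun g' hg'' => hguniq g' ((key g').1 hg'')⟩

end Transfer

section Main

variable {X P S : Scheme.{u}} [IsNoetherian S] (π : P ⟶ S) [IsProper π] {L : P.Modules}
  (hL : RelAmple.IsRelAmple π L) (i : X ⟶ P) [IsClosedImmersion i]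
  (E : X.Modules) (hE : Coh.IsCoh E) {𝓕 : P.Modules} (h𝓕 : Coh.IsCoh 𝓕)
  (ρ : 𝓕 ⟶ (pushforward i).obj E) [Epi ρ]
  (Q : Over S) (Ku : FGA.QuotSet π 𝓕 Q) (hQ : FGA.QuotRepresentedBy π 𝓕 Q Ku)
  (hP : HasProjPieces Q)

include hL hE h𝓕 ρ hQ hP in
/-- **the Quot scheme of a module on a closed subscheme whose direct image is a quotient of `𝓕`,
from the Quot scheme of `𝓕`** -/
theorem exists_quot_closed :
    ∃ (Q' : Over S) (K' : FGA.QuotSet (i ≫ π) E Q'), FGA.QuotRepresentedBy (i ≫ π) E Q' K' ∧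
      HasProjPieces Q' := by
  haveI : E.IsQuasicoherent := hE.1
  have hiE : Coh.IsCoh ((pushforward i).obj E) := isCoh_pushforward_closedImmersion i E hE
  obtain ⟨Q', K', hK', hP'⟩ := exists_quot_of_epi π hL ρ h𝓕 hiE Q Ku hQ hP
  obtain ⟨K'', hK'', -⟩ := exists_quotRepresentedBy_of_pushforward i π E Q' K' hK'
  exact ⟨Q', K'', hK'', hP'⟩

end Main

section Pn

variable {X S : Scheme.{u}} [IsNoetherian S] (n : ℕ) (i : X ⟶ CohB1.ProjSpaceOver n S)
  [IsClosedImmersion i] (E : X.Modules) (hE : Coh.IsCoh E) (p : ℕ) (ν : ℤ)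
  (ρ : CohB1.tensorMod (FlatMod.freeMod (CohB1.ProjSpaceOver n S) p) (Twist.twistOver n S ν) ⟶
    (pushforward i).obj E) [Epi ρ]

include hE ρ in
/-- **the Quot scheme of a coherent module on a closed subscheme of `P^n_S` which is a quotient
of a direct sum of twists `O(ν)^p`** -/
theorem exists_quot_of_epi_twist :
    ∃ (Q : Over S) (K : FGA.QuotSet (i ≫ CohB1.ProjSpaceOver.toBase n S) E Q),
      FGA.QuotRepresentedBy (i ≫ CohB1.ProjSpaceOver.toBase n S) E Q K ∧ HasProjPieces Q := by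
  haveI := Groth.Agent.Helper6.HProj.isProper_toBase n S
  obtain ⟨Q, Ku, hQ, hP⟩ := exists_quot_Fra S n p ν
  have h𝓕 : Coh.IsCoh (CohB1.tensorMod (FlatMod.freeMod (CohB1.ProjSpaceOver n S) p)
      (Twist.twistOver n S ν)) :=
    Groth.Agent.Lead.PerfLib.isCoh_of_iso (κFra n p ν S)
      (Groth.Agent.Lead.FlatUnivJ.isCoh_pullback _ _ (isCoh_Fra n p ν))
  exact exists_quot_closed (CohB1.ProjSpaceOver.toBase n S)
    (Groth.Agent.Helper1.HT.isRelAmple_twistOver_one S n) i E hE h𝓕 ρ Q Ku hQ hP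

end Pn

end Groth.Agent.Helper1.QV
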