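import Mathlib
import Groth.Agent.Helper1.QV8
import Groth.Agent.Helper1.VA10
import Groth.Agent.Helper1.RegSh3
import Groth.Agent.Helper1.FlatTw2
import Groth.Agent.Helper1.HP6
import Groth.Agent.Helper1.TwistExact
import Groth.Agent.Lead.ResPropD
import Groth.Agent.Lead.Ref1B
import Groth.Agent.Helper4.FinLocFree6
import Groth.Agent.Helper6.HProj
import Groth.Agent.S2325

/-!
# General Quot schemes, part 9: over an affine base, a coherent module on `P^n_S` is a quotient
of a finite free module twisted by a single `O(ν)`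
-/

set_option autoImplicit false
set_option linter.style.haveILetI false
set_option linter.unusedSectionVars false
set_option maxHeartbeats 400000

universe u
open CategoryTheory CategoryTheory.Limits AlgebraicGeometry Opposite TopologicalSpace

namespace Groth.Agent.Helper1.QV

/-- on a quasi-compact scheme, a globally generated coherent module is a quotient of a finite
free module -/
theorem exists_epi_freeMod_of_gg {X : Scheme.{u}} [CompactSpace X] (F : X.Modules)
    (hF : Coh.IsCoh F) (hgg : Curv2.IsGloballyGenerated F) :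
    ∃ (N : ℕ) (π : FlatMod.freeMod X N ⟶ F), Epi π := by
  classical
  haveI : F.IsQuasicoherent := hF.1
  have hO : FlatMod.IsFinLocFree (Coh.structureModule X) :=
    Groth.Agent.Helper4.FinLocFree6.isFinLocFree_unit
  haveI hOq : (Coh.structureModule X).IsQuasicoherent :=
    Groth.Agent.Helper4.FinLocFree4.isQuasicoherent_of_isFinLocFree _ hO
  obtain ⟨ι, p, hp⟩ := hgg
  let A : ι → X.Modules := fun _ => Coh.structureModule X
  let a : ∀ i, A i ⟶ F := fun i => SheafOfModules.ιFree i ≫ p
  have hje : Groth.Agent.Lead.ResProp.JointlyEpi A a := by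
    intro Q q hq
    have h1 : p ≫ q = 0 := by
      apply Cofan.IsColimit.hom_ext (SheafOfModules.isColimitFreeCofan ι)
      intro i
      have := hq i
      simp only [a, Category.assoc] at this
      exact this.trans comp_zero.symm
    exact (cancel_epi p).1 (h1.trans comp_zero.symm)
  obtain ⟨J, hJ⟩ := Groth.Agent.Lead.ResProp.exists_finset_epi F hF.2 A (fun _ => hOq) a hje
  let ε : Fin J.card ≃ {j // j ∈ J} := J.equivFin.symm
  refine ⟨J.card, Sigma.desc (fun k : Fin J.card => a (ε k).1), ?_⟩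
  apply Preadditive.epi_of_cancel_zero
  intro Q q hq
  have h1 : ∀ k : Fin J.card, a (ε k).1 ≫ q = 0 := by
    intro k
    have h2 := Sigma.ι_desc (fun k : Fin J.card => a (ε k).1) k
    rw [← h2, Category.assoc, hq, comp_zero]
  have h3 : biproduct.desc (fun j : {j // j ∈ J} => a j.1) ≫ q = 0 := by
    apply biproduct.hom_ext'
    intro j
    rw [biproduct.ι_desc_assoc, comp_zero]
    have := h1 (ε.symm j)
    rwa [Equiv.apply_symm_apply] at this
  exact (cancel_epi (biproduct.desc (fun j : {j // j ∈ J} => a j.1))).1 (h3.trans comp_zero.symm)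

/-- **over an affine base, a coherent module on `P^n_S` is a quotient of `O(ν)^p`** -/
theorem exists_epi_twist_free {S : Scheme.{u}} [IsAffine S] (n : ℕ)
    (F : (CohB1.ProjSpaceOver n S).Modules) (hF : Coh.IsCoh F) :
    ∃ (p : ℕ) (ν : ℤ)
      (ρ : CohB1.tensorMod (FlatMod.freeMod (CohB1.ProjSpaceOver n S) p)
        (Twist.twistOver n S ν) ⟶ F), Epi ρ := by
  haveI := Groth.Agent.Helper6.HProj.isProper_toBase n S
  haveI : CompactSpace (CohB1.ProjSpaceOver n S) :=
    QuasiCompact.compactSpace_of_compactSpace (CohB1.ProjSpaceOver.toBase n S)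
  haveI : (CohB1.ProjSpaceOver n S).IsSeparated := by
    refine ⟨?_⟩
    rw [← terminal.comp_from (CohB1.ProjSpaceOver.toBase n S)]
    infer_instance
  have hL := Groth.Agent.Helper1.VA.isAmple_twistOver n S
  have hinv : PicF.IsInvertible (Twist.twistOver n S 1) :=
    Groth.Agent.Helper1.FlatTw.isInvertible_twistOver n S 1
  obtain ⟨n₀, hn₀⟩ := Groth.Agent.S2325.result (CohB1.ProjSpaceOver n S) _ hL F hF
  have hgg := hn₀ n₀ le_rfl
  have hcoh := Groth.Agent.Helper1.HP.isCoh_twistPow hinv F hF n₀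
  obtain ⟨N, π, hπ⟩ := exists_epi_freeMod_of_gg _ hcoh hgg
  have hinv' : PicF.IsInvertible (Twist.twistOver n S (-(n₀ : ℤ))) :=
    Groth.Agent.Helper1.FlatTw.isInvertible_twistOver n S _
  haveI := Groth.Agent.Helper1.TwistExact.epi_tensorMap π _ hinv'
  obtain ⟨e1⟩ := Groth.Agent.Helper1.FlatTw.nonempty_twistOver_iso_tensorPow n S n₀
  obtain ⟨e2⟩ := Groth.Agent.Helper1.RegSh.nonempty_twistOver_mul n S (n₀ : ℤ) (-(n₀ : ℤ)) 0
    (by ring)
  obtain ⟨e3⟩ := Groth.Agent.Helper1.RegSh.nonempty_twistOver_zero n S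
  let e : CohB1.tensorMod (CohB1.tensorMod F (CohB1.tensorPow (Twist.twistOver n S 1) n₀))
      (Twist.twistOver n S (-(n₀ : ℤ))) ≅ F :=
    Groth.Agent.Lead.Ref1B.assoc F _ _ ≪≫
      PicGrp.tensorModIso (Iso.refl F) (PicGrp.tensorModIso e1.symm (Iso.refl _) ≪≫ e2 ≪≫ e3) ≪≫
      SecTwist.unitorR F
  exact ⟨N, -(n₀ : ℤ), KoszTw.tensorMap π (𝟙 _) ≫ e.hom, epi_comp _ _⟩

end Groth.Agent.Helper1.QV
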