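import Groth.Agent.Helper1.HenselThick1
import Groth.Agent.Helper1.CC1

set_option autoImplicit false

/-!
# Hensel lifting of simple roots along a nil thickening of schemes
-/

namespace Groth.Agent.Helper1.HenselThick

open CategoryTheory AlgebraicGeometry Opposite TopologicalSpace Polynomial
open Groth.Agent.Helper1.CC

universe u

variable {W₀ W : Scheme.{u}} (t : W₀ ⟶ W)

lemma preimage_mono {V V' : W.Opens} (h : V ≤ V') : t ⁻¹ᵁ V ≤ t ⁻¹ᵁ V' := fun _ hx => h hx

/-- naturality of `t.app` with respect to restrictions -/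
lemma app_ρ {V V' : W.Opens} (h : V ≤ V') (a : Γ(W, V')) :
    (t.app V).hom (ρ h a) = ρ (preimage_mono t h) ((t.app V').hom a) := by
  have := congrArg (fun φ => φ.hom a) (t.naturality (homOfLE h).op)
  exact this

lemma app_comp_ρ {V V' : W.Opens} (h : V ≤ V') :
    (t.app V).hom.comp (ρ h) = (ρ (preimage_mono t h)).comp (t.app V').hom :=
  RingHom.ext (app_ρ t h)

section local_

variable [IsClosedImmersion t]
  (hnil : ∀ V : W.Opens, IsAffineOpen V → ∀ x ∈ RingHom.ker (t.app V).hom, IsNilpotent x)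
  (G : Γ(W, ⊤)[X]) (b : Γ(W₀, ⊤))
  (hb : (G.map t.appTop.hom).eval b = 0)
  (hu : IsUnit ((G.map t.appTop.hom).derivative.eval b))

include hnil hb hu in
/-- the local unique lifts -/
lemma existsUnique_local {V : W.Opens} (hV : IsAffineOpen V) :
    ∃! s : Γ(W, V), (t.app V).hom s = ρ (le_top : t ⁻¹ᵁ V ≤ ⊤) b ∧
      (G.map (ρ (le_top : V ≤ ⊤))).eval s = 0 := by
  have hmap : (G.map (ρ (le_top : V ≤ ⊤))).map (t.app V).hom =
      (G.map t.appTop.hom).map (ρ (le_top : t ⁻¹ᵁ V ≤ ⊤)) := by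
    rw [Polynomial.map_map, Polynomial.map_map]
    congr 1
    exact app_comp_ρ t (le_top : V ≤ ⊤)
  apply existsUnique_root (t.app V).hom (t.app_surjective V hV) (hnil V hV)
  · rw [hmap, Polynomial.eval_map_apply, hb, map_zero]
  · rw [hmap, Polynomial.derivative_map, Polynomial.eval_map_apply]
    exact hu.map _

include hnil hb hu in
/-- **Hensel lifting along a nil thickening**: a simple root of `G` in `Γ(W₀, ⊤)` lifts uniquely to
a root in `Γ(W, ⊤)`. -/
theorem existsUnique_lift : ∃! s : Γ(W, ⊤), t.appTop.hom s = b ∧ G.eval s = 0 := by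
  have hloc := fun (V : W.affineOpens) => existsUnique_local t hnil G b hb hu V.2
  choose sV hsV huniq using hloc
  -- compatibility with restriction to smaller affine opens
  have hcomp : ∀ (V V' : W.affineOpens) (h : V'.1 ≤ V.1), ρ h (sV V) = sV V' := by
    intro V V' h
    apply huniq V'
    constructor
    · rw [app_ρ, (hsV V).1, ρ_ρ]
    · have hm : G.map (ρ (le_top : V'.1 ≤ ⊤)) = (G.map (ρ (le_top : V.1 ≤ ⊤))).map (ρ h) := by
        rw [Polynomial.map_map]
        congr 1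
        ext a
        exact (ρ_ρ h le_top a).symm
      rw [hm, Polynomial.eval_map_apply, (hsV V).2, map_zero]
  -- glue
  have hcover : (⊤ : W.Opens) ≤ ⨆ V : W.affineOpens, V.1 := by
    rw [iSup_affineOpens_eq_top]
  have hcompat : TopCat.Presheaf.IsCompatible W.presheaf (fun V : W.affineOpens => V.1) sV := by
    intro V V'
    apply eq_of_locally
    intro x hx
    obtain ⟨_, ⟨V'', hV'' : IsAffineOpen V'', rfl⟩, hxV'', hle⟩ :=
      W.isBasis_affineOpens.exists_subset_of_mem_open hx (V.1 ⊓ V'.1).isOpen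
    have hle' : V'' ≤ V.1 ⊓ V'.1 := hle
    clear hle
    refine ⟨V'', hle', hxV'', ?_⟩
    have h1 : ρ hle' (W.presheaf.map (Opens.infLELeft V.1 V'.1).op (sV V)) =
        ρ (hle'.trans inf_le_left) (sV V) := ρ_ρ hle' inf_le_left (sV V)
    have h2 : ρ hle' (W.presheaf.map (Opens.infLERight V.1 V'.1).op (sV V')) =
        ρ (hle'.trans inf_le_right) (sV V') := ρ_ρ hle' inf_le_right (sV V')
    rw [h1, h2, hcomp V ⟨V'', hV''⟩, hcomp V' ⟨V'', hV''⟩]
  obtain ⟨s, hs, -⟩ := W.sheaf.existsUnique_gluing' (fun V : W.affineOpens => V.1) ⊤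
    (fun V => homOfLE le_top) hcover sV hcompat
  have hs' : ∀ V : W.affineOpens, ρ (le_top : V.1 ≤ ⊤) s = sV V := hs
  refine ⟨s, ⟨?_, ?_⟩, ?_⟩
  · apply eq_of_locally
    intro x _
    obtain ⟨_, ⟨V, hV : IsAffineOpen V, rfl⟩, hxV, -⟩ :=
      W.isBasis_affineOpens.exists_subset_of_mem_open (Set.mem_univ (t x)) isOpen_univ
    refine ⟨t ⁻¹ᵁ V, le_top, hxV, ?_⟩
    have h1 := app_ρ t (le_top : V ≤ ⊤) s
    rw [hs' ⟨V, hV⟩, (hsV ⟨V, hV⟩).1] at h1
    exact h1.symm
  · apply eq_of_locally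
    intro x _
    obtain ⟨_, ⟨V, hV : IsAffineOpen V, rfl⟩, hxV, -⟩ :=
      W.isBasis_affineOpens.exists_subset_of_mem_open (Set.mem_univ x) isOpen_univ
    refine ⟨V, le_top, hxV, ?_⟩
    have h := (Polynomial.eval_map_apply (p := G) (ρ (le_top : V ≤ ⊤)) s).symm
    rw [h, hs' ⟨V, hV⟩, (hsV ⟨V, hV⟩).2, map_zero]
  · rintro s' ⟨h1, h2⟩
    apply eq_of_locally
    intro x _
    obtain ⟨_, ⟨V, hV : IsAffineOpen V, rfl⟩, hxV, -⟩ :=
      W.isBasis_affineOpens.exists_subset_of_mem_open (Set.mem_univ x) isOpen_univ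
    refine ⟨V, le_top, hxV, ?_⟩
    rw [hs' ⟨V, hV⟩]
    apply huniq ⟨V, hV⟩
    constructor
    · have h3 := app_ρ t (le_top : V ≤ ⊤) s'
      rw [h3]
      congr 1
    · rw [Polynomial.eval_map_apply, h2, map_zero]

end local_

end Groth.Agent.Helper1.HenselThick
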