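import Groth.Agent.Helper1.QuotPush2
import Groth.Agent.Helper1.HenselThick2
import Groth.Agent.Lead.ThickInt

set_option autoImplicit false
set_option linter.style.haveILetI false

namespace Groth.Agent.Helper1.QuotPush

open CategoryTheory Limits AlgebraicGeometry Opposite Polynomial
open Groth.Agent.Helper1.Form Groth.Agent.Helper1.ZarIso Groth.Agent.Helper4

universe u

section thick

variable {A : Type u} [CommRing A] {J' J : Ideal A} (hle : J' ≤ J)

lemma specMap_mk_eq :
    Spec.map (CommRingCat.ofHom (Ideal.Quotient.mk J)) =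
      Spec.map (CommRingCat.ofHom (Ideal.Quotient.factor hle)) ≫
        Spec.map (CommRingCat.ofHom (Ideal.Quotient.mk J')) := by
  rw [← Spec.map_comp, ← CommRingCat.ofHom_comp, Ideal.Quotient.factor_comp_mk]

lemma surjective_specMap_factor (N : ℕ) (hN : J ^ N ≤ J') :
    Surjective (Spec.map (CommRingCat.ofHom (Ideal.Quotient.factor hle))) := by
  constructor
  intro p
  have hs : Function.Surjective (Ideal.Quotient.factor hle) := Ideal.Quotient.factor_surjective hle
  have h1 := range_comap_of_surjective _ (Ideal.Quotient.factor hle) hs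
  have h2 : PrimeSpectrum.zeroLocus (RingHom.ker (Ideal.Quotient.factor hle) : Set (A ⧸ J')) =
      Set.univ := by
    rw [PrimeSpectrum.zeroLocus_eq_univ_iff]
    intro x hx
    obtain ⟨a, rfl⟩ := Ideal.Quotient.mk_surjective x
    have ha : a ∈ J := by
      have : Ideal.Quotient.factor hle (Ideal.Quotient.mk J' a) = 0 := hx
      rw [Ideal.Quotient.factor_mk] at this
      exact Ideal.Quotient.eq_zero_iff_mem.mp this
    refine ⟨N, ?_⟩
    rw [← map_pow]
    exact Ideal.Quotient.eq_zero_iff_mem.mpr (hN (Ideal.pow_mem_pow ha N))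
  rw [h2] at h1
  have : p ∈ Set.range (PrimeSpectrum.comap (Ideal.Quotient.factor hle)) := by
    rw [h1]; trivial
  obtain ⟨q, hq⟩ := this
  exact ⟨q, hq⟩

end thick

section main

variable {A : Type u} [CommRing A] {X : Scheme.{u}} [X.Over (Spec (CommRingCat.of A))]
  {J' J : Ideal A} (hle : J' ≤ J) (N : ℕ) (hN : J ^ N ≤ J')
  {X' X₀ : Scheme.{u}} {i' : X' ⟶ X} {f' : X' ⟶ Spec (CommRingCat.of (A ⧸ J'))}
  (hsq' : IsPullback i' f' (X ↘ Spec (CommRingCat.of A))
    (Spec.map (CommRingCat.ofHom (Ideal.Quotient.mk J'))))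
  {i : X₀ ⟶ X} {f₀ : X₀ ⟶ Spec (CommRingCat.of (A ⧸ J))}
  (hsq : IsPullback i f₀ (X ↘ Spec (CommRingCat.of A))
    (Spec.map (CommRingCat.ofHom (Ideal.Quotient.mk J))))

include hle N hN hsq' hsq in
/-- the comparison morphism `X_J ⟶ X_{J'}` of the two levels: a surjective closed immersion -/
lemma exists_thickening : ∃ t : X₀ ⟶ X', t ≫ i' = i ∧ IsClosedImmersion t ∧ Surjective t := by
  have hsq2 : IsPullback i f₀ (X ↘ Spec (CommRingCat.of A))
      (Spec.map (CommRingCat.ofHom (Ideal.Quotient.factor hle)) ≫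
        Spec.map (CommRingCat.ofHom (Ideal.Quotient.mk J'))) := by
    rw [← specMap_mk_eq hle]
    exact hsq
  have hpb := IsPullback.of_right' hsq2 hsq'
  refine ⟨hsq'.lift i (f₀ ≫ Spec.map (CommRingCat.ofHom (Ideal.Quotient.factor hle)))
    (by rw [hsq2.w, Category.assoc]), hsq'.lift_fst _ _ _, ?_, ?_⟩
  · haveI : IsClosedImmersion (Spec.map (CommRingCat.ofHom (Ideal.Quotient.factor hle))) :=
      IsClosedImmersion.spec_of_surjective _ (Ideal.Quotient.factor_surjective hle)
    exact MorphismProperty.of_isPullback hpb.flip ‹_›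
  · haveI := surjective_specMap_factor hle N hN
    exact MorphismProperty.of_isPullback (P := @Surjective) hpb.flip ‹_›

/-- the structure ring map `A → Γ(X₀, ⊤)` of a scheme `X₀` over `X` over `Spec A` -/
noncomputable def φΓ (i : X₀ ⟶ X) : A →+* Γ(X₀, ⊤) :=
  i.appTop.hom.comp (Coh.toGlobal (X ↘ Spec (CommRingCat.of A)))

include hle N hN hsq' hsq in
/-- **Lifting sections through a nilpotent thickening.** If every global function of `X_J` is a
simple root of a polynomial over `A`, then `H⁰(X, O/J'O) → H⁰(X, O/JO)` is surjective. -/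
theorem surjective_HAb_map_of_roots
    (hroot : ∀ b : Γ(X₀, ⊤), ∃ G : A[X], (G.map (φΓ (A := A) i)).eval b = 0 ∧
      IsUnit ((G.map (φΓ (A := A) i)).derivative.eval b))
    {F' F : X.Modules} {q' : Coh.structureModule X ⟶ F'} {q : Coh.structureModule X ⟶ F}
    (hq' : IsQuot J' q') (hq : IsQuot J q) (tF : F' ⟶ F) (htF : q' ≫ tF = q) :
    Function.Surjective ((CohIII.HAb X 0).map tF) := by
  obtain ⟨t, ht, hcl, hsurj⟩ := exists_thickening hle N hN hsq' hsq
  subst ht
  refine surjective_HAb_map_of_surjective_appTop i' t (isQuot_unitToPush J' hsq')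
    (isQuot_unitToPush J hsq) hq' hq tF htF ?_
  intro b
  obtain ⟨G, hG0, hGu⟩ := hroot b
  have hnil : ∀ V : X'.Opens, IsAffineOpen V → ∀ x ∈ RingHom.ker (t.app V).hom, IsNilpotent x :=
    fun V hV x hx => (mem_nilradical).1
      (Groth.Agent.Lead.ThickInt.ker_app_le_nilradical t hsurj.surj hV hx)
  have hφ : (t.appTop.hom).comp (φΓ (A := A) i') = φΓ (A := A) (t ≫ i') := rfl
  have hmap : (G.map (φΓ (A := A) i')).map t.appTop.hom = G.map (φΓ (A := A) (t ≫ i')) := by
    rw [Polynomial.map_map, hφ]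
  obtain ⟨s, ⟨hs, -⟩, -⟩ := Groth.Agent.Helper1.HenselThick.existsUnique_lift t hnil
    (G.map (φΓ (A := A) i')) b (by rw [hmap]; exact hG0) (by rw [hmap]; exact hGu)
  exact ⟨s, hs⟩

end main

end Groth.Agent.Helper1.QuotPush
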