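import Mathlib
import Groth.Agent.Helper1.GrVan

/-!
# LV1: uniform vanishing for a finitely generated graded object whose pieces lie in a class
of modules closed under kernels and cokernels, on which large twists have no higher cohomology
-/

set_option autoImplicit false
set_option linter.style.haveILetI false
set_option linter.unusedSectionVars false

universe u

open CategoryTheory CategoryTheory.Limits AlgebraicGeometry Opposite

namespace Groth.Agent.Helper1.LV

open Groth.Agent.Helper1.GrSh Groth.Agent.Helper1.HHLes Groth.Agent.Helper1.Dev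
open Groth.Agent.Helper4.TensorInv Groth.Agent.Helper1.GrVan

variable (A : Type u) [CommRing A] {X : Scheme.{u}} [X.Over (Spec (CommRingCat.of A))]
variable [IsNoetherian X]

include A in
/-- **uniform vanishing** for a finitely generated graded object with pieces in a class `P` -/
theorem uniform_vanishing_class {L : X.Modules} (hL : PicF.IsInvertible L)
    (P : X.Modules → Prop)
    (hker : ∀ {M N : X.Modules} (φ : M ⟶ N), P M → P N → P (kernel φ))
    (hcok : ∀ {M N : X.Modules} (φ : M ⟶ N), P M → P N → P (cokernel φ))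
    (hsv : ∀ M : X.Modules, P M → Coh.IsCoh M →
      ∃ n₀ : ℕ, ∀ d : ℕ, n₀ ≤ d → Van (CohB1.tensorPow L d) M) :
    ∀ (r : ℕ) (𝒢 : GrObj X r), IsFG 𝒢 → (∀ n, P (𝒢.G n)) →
      ∃ d₀ : ℕ, ∀ n d : ℕ, d₀ ≤ d → Van (CohB1.tensorPow L d) (𝒢.G n) := by
  intro r
  induction r with
  | zero =>
    intro 𝒢 h hP
    obtain ⟨N, hN⟩ := h.gen
    have hz : ∀ n, N ≤ n → IsZero (𝒢.G (n + 1)) := by
      intro n hn
      rw [IsZero.iff_id_eq_zero]
      exact hN n hn (𝟙 _) (fun i => i.elim0)
    have hsv' : ∀ n, ∃ n₀ : ℕ, ∀ d : ℕ, n₀ ≤ d → Van (CohB1.tensorPow L d) (𝒢.G n) :=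
      fun n => hsv (𝒢.G n) (hP n) (h.coh n)
    choose d₀ hd₀ using hsv'
    refine ⟨(Finset.range (N + 1)).sup d₀, fun n d hd => ?_⟩
    by_cases hn : n ≤ N
    · exact hd₀ n d ((Finset.le_sup (f := d₀) (Finset.mem_range.2 (by omega))).trans hd)
    · obtain ⟨m, rfl⟩ : ∃ m, n = m + 1 := ⟨n - 1, by omega⟩
      exact van_of_isZero A _ (hz m (by omega))
  | succ r ih =>
    intro 𝒢 h hP
    obtain ⟨dk, hdk⟩ := ih 𝒢.ker h.ker (fun n => hker _ (hP n) (hP (n + 1)))
    obtain ⟨dc, hdc⟩ := ih 𝒢.cok h.cok (fun n => hcok _ (hP n) (hP (n + 1)))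
    obtain ⟨d0, hd0⟩ := hsv (𝒢.G 0) (hP 0) (h.coh 0)
    refine ⟨max (max dk dc) d0, fun n d hd => ?_⟩
    have h1 : dk ≤ d := le_trans (le_trans (le_max_left _ _) (le_max_left _ _)) hd
    have h2 : dc ≤ d := le_trans (le_trans (le_max_right _ _) (le_max_left _ _)) hd
    have h3 : d0 ≤ d := le_trans (le_max_right _ _) hd
    have hB : PicF.IsInvertible (CohB1.tensorPow L d) := isInvertible_tensorPow hL d
    have key : ∀ m : ℕ, Van (CohB1.tensorPow L d) (𝒢.G m) := by
      intro m
      induction m with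
      | zero => exact hd0 d h3
      | succ m ihm =>
        exact van_succ A 𝒢 hB m (hdk m d h1) (hdc m d h2) ihm
    exact key n

end Groth.Agent.Helper1.LV
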