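import Groth.Agent.Helper1.PicSpread4

set_option autoImplicit false
set_option linter.style.haveILetI false

/-!
# Seesaw, step 3: spreading out a trivialisation over the local ring
-/

namespace Groth.Agent.Helper1.Seesaw

open CategoryTheory Limits AlgebraicGeometry Opposite TopologicalSpace
open Groth.Agent.Helper4 Groth.Agent.Helper4.PullSec Groth.Agent.Helper4.PullUnit
  Groth.Agent.Helper1.BaseChart Groth.Agent.Helper1.StalkBC Groth.Agent.Helper1.FibDimVan
  Groth.Agent.Helper1.PicSpread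

universe u

variable {X Y : Scheme.{u}} (f : X ⟶ Y)

/-- a trivialisation over `X ×_Y Spec O_{Y,y}` spreads out to a neighbourhood of `y` -/
theorem exists_nhd_of_iso [IsProper f] (V : Y.Opens) [IsAffine (V : Scheme.{u})] (y : Y)
    (hy : y ∈ V) {X₁ : Scheme.{u}} (q : X₁ ⟶ Spec (Y.presheaf.stalk y)) (g : X₁ ⟶ X)
    (hsq : IsPullback g q f (Y.fromSpecStalk y))
    (N : X.Modules) (hN : PicF.IsInvertible N)
    (ε : (Scheme.Modules.pullback (gLift₁ f V y hy q g hsq)).obj (FV f V N) ≅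
      Coh.structureModule X₁) :
    ∃ U : Y.Opens, y ∈ U ∧
      Nonempty (N.restrict (f ⁻¹ᵁ U).ι ≅ Coh.structureModule ((f ⁻¹ᵁ U : X.Opens) : Scheme.{u})) := by
  have hNV : PicF.IsInvertible (FV f V N) := QAffSec.isInvertible_restrict (f ⁻¹ᵁ V).ι hN
  haveI : (FV f V N).IsQuasicoherent :=
    (Groth.Agent.Lead.Ref1K.isCoh_of_isInvertible _ hNV).1
  set g₁ := gLift₁ f V y hy q g hsq with hg₁
  -- spreading out
  obtain ⟨s, hs⟩ := exists_section_of_iso f V y hy q g hsq (FV f V N) ε.inv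
  have hG : g₁ ⁻¹ᵁ CohB1.genLocus _ s = ⊤ := by
    rw [← genLocus_pullSec g₁ hNV s]
    exact Groth.Agent.Helper4.AmpleEventual.genLocus_eq_top_of_isIso _
  set G := CohB1.genLocus (FV f V N) s with hGdef
  -- the closed set where `s` does not generate
  have hcl : IsClosedMap (f ∣_ V) :=
    MorphismProperty.universally_le (P := topologically @IsClosedMap) _
      (IsProper.toUniversallyClosed (f := f ∣_ V)).universally_isClosedMap
  have hT : IsClosed ((f ∣_ V) '' (G : Set (XV f V))ᶜ) := hcl _ G.isOpen.isClosed_compl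
  let UV : (V : Scheme.{u}).Opens := ⟨((f ∣_ V) '' (G : Set (XV f V))ᶜ)ᶜ, hT.isOpen_compl⟩
  have hyU : (⟨y, hy⟩ : V) ∈ UV := by
    rintro ⟨x, hxG, hxy⟩
    apply hxG
    have hx : x ∈ Set.range g₁ := by
      rw [Groth.Agent.Helper1.PicLoc.range_of_isPullback (isPullback_top₁ f V y hy q g hsq)]
      refine ⟨IsLocalRing.closedPoint _, ?_⟩
      rw [hxy]
      apply (Scheme.Opens.ι V).isOpenEmbedding.injective
      rw [← Scheme.Hom.comp_apply, Scheme.Opens.fromSpecStalkOfMem_ι]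
      exact Scheme.fromSpecStalk_closedPoint
    obtain ⟨x₁, rfl⟩ := hx
    have : x₁ ∈ g₁ ⁻¹ᵁ G := by rw [hG]; trivial
    exact this
  have hle : (f ∣_ V) ⁻¹ᵁ UV ≤ G := by
    intro x hx
    by_contra hxG
    exact hx ⟨x, hxG, rfl⟩
  refine ⟨(Scheme.Opens.ι V) ''ᵁ UV, ⟨⟨y, hy⟩, hyU, rfl⟩, ?_⟩
  rw [← image_morphismRestrict_preimage f V UV]
  haveI : IsIso ((Scheme.Modules.restrictFunctor ((f ∣_ V) ⁻¹ᵁ UV).ι).map s) :=
    (le_genLocus_iff s _).mp hle
  exact nonempty_restrict_image_iso (f ⁻¹ᵁ V) ((f ∣_ V) ⁻¹ᵁ UV) N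
    ((asIso ((Scheme.Modules.restrictFunctor ((f ∣_ V) ⁻¹ᵁ UV).ι).map s)).symm ≪≫
      Scheme.Modules.restrictUnitIso _)

end Groth.Agent.Helper1.Seesaw
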