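import Groth.Agent.Helper1.SW3
import Groth.Agent.Helper1.Seesaw3
import Groth.Agent.Helper4.AmpleIso
import Groth.Agent.Helper4.GenLocIso

set_option autoImplicit false
set_option linter.style.haveILetI false
set_option linter.unusedSectionVars false
set_option linter.unusedVariables false

/-!
# An invertible module, trivial on a fibre with `Γ(X_y, O)` a field, whose degree-zero base
change map to that fibre does not vanish, is trivial over a neighbourhood of the point
-/

namespace Groth.Agent.Helper1.SW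

open CategoryTheory AlgebraicGeometry Opposite TopologicalSpace Limits
open Groth.Agent.Helper4 Groth.Agent.Helper4.PullSec Groth.Agent.Helper4.PullUnit
  Groth.Agent.Helper1.BaseChart Groth.Agent.Helper1.PicSpread
  Groth.Agent.Helper4.GenLoc Groth.Agent.Helper4.AmpleIso

universe u

variable {X S : Scheme.{u}} (f : X ⟶ S) [IsProper f]

set_option maxHeartbeats 1600000 in
/-- **triviality near a fibre** -/
theorem exists_nhd_trivial_of_bc0_ne_zero (N : X.Modules) (hN : PicF.IsInvertible N) (y : S)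
    (hbc : CohBC.bc0 f (S.fromSpecResidueField y) (f.fiberToSpecResidueField y) (f.fiberι y)
      (f.fiber_fac y) N ≠ 0)
    (e₀ : CohIII.fiberMod f N y ≅ Coh.structureModule (f.fiber y))
    (hfield : IsField (Γ(f.fiber y, ⊤) : Type u)) :
    ∃ U : S.Opens, y ∈ U ∧
      Nonempty (N.restrict (f ⁻¹ᵁ U).ι ≅
        Coh.structureModule ((f ⁻¹ᵁ U : X.Opens) : Scheme.{u})) := by
  obtain ⟨W, hW, hy, -⟩ := exists_isAffineOpen_mem_and_subset (x := y)
    (U := (⊤ : S.Opens)) trivial
  haveI : IsAffine (W : Scheme.{u}) := hW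
  haveI : N.IsQuasicoherent := (Groth.Agent.Lead.Ref1K.isCoh_of_isInvertible N hN).1
  set j := (f ⁻¹ᵁ W).ι with hj
  set g₁ := gLift f W y hy with hg₁
  have hg₁j : g₁ ≫ j = f.fiberι y := gLift_ι f W y hy
  -- the section
  obtain ⟨s₀, hs₀⟩ := exists_section_pullback_ne_zero f N W (S.fromSpecResidueField y)
    (f.fiberToSpecResidueField y) (f.fiberι y) (f.fiber_fac y) g₁ hg₁j hbc
  -- pass to the restriction
  let ρ : (Scheme.Modules.pullback j).obj N ≅ FV f W N :=
    ((Scheme.Modules.restrictFunctorIsoPullback j).app N).symm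
  set s : Coh.structureModule (XV f W) ⟶ FV f W N := s₀ ≫ ρ.hom with hs
  have hs' : (Scheme.Modules.pullback g₁).map s ≠ 0 := by
    intro h0
    apply hs₀
    have : (Scheme.Modules.pullback g₁).map s₀ =
        (Scheme.Modules.pullback g₁).map s ≫ (Scheme.Modules.pullback g₁).map ρ.inv := by
      rw [← Functor.map_comp, hs, Category.assoc, Iso.hom_inv_id, Category.comp_id]
    rw [this, h0, Limits.zero_comp]
  have hNV : PicF.IsInvertible (FV f W N) := QAffSec.isInvertible_restrict (f ⁻¹ᵁ W).ι hN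
  -- the trivialisation of the pullback to the fibre
  let ε : (Scheme.Modules.pullback g₁).obj (FV f W N) ≅ Coh.structureModule (f.fiber y) :=
    (Scheme.Modules.pullback g₁).mapIso ρ.symm ≪≫
      (Scheme.Modules.pullbackComp g₁ j).app N ≪≫
      (Scheme.Modules.pullbackCongr hg₁j).app N ≪≫ e₀
  set σ : Coh.structureModule (f.fiber y) ⟶ Coh.structureModule (f.fiber y) :=
    pullSec g₁ s ≫ ε.hom with hσ
  have hσ0 : σ ≠ 0 := by
    intro h0
    apply hs'
    have h1 : pullSec g₁ s = 0 := by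
      have : pullSec g₁ s = σ ≫ ε.inv := by
        rw [hσ, Category.assoc, Iso.hom_inv_id, Category.comp_id]
      rw [this, h0, Limits.zero_comp]
    have h2 : (Scheme.Modules.pullback g₁).map s = (pullbackUnitIso g₁).hom ≫ pullSec g₁ s := by
      unfold pullSec
      rw [Iso.hom_inv_id_assoc]
    rw [h2, h1, Limits.comp_zero]
  have hfn : fn σ ≠ 0 := by
    intro h0
    apply hσ0
    apply Groth.Agent.Lead.LocLift.hom_unit_ext
    have h1 : σ.app ⊤ (1 : Γ(f.fiber y, ⊤)) = (fn σ : Γ(f.fiber y, ⊤)) := rfl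
    rw [h1, h0]
    rfl
  have hu : IsUnit (fn σ) := by
    letI := hfield.toField
    exact isUnit_iff_ne_zero.mpr hfn
  have hG : g₁ ⁻¹ᵁ CohB1.genLocus _ s = ⊤ := by
    rw [← genLocus_pullSec g₁ hNV s, ← genLocus_comp_iso ε (pullSec g₁ s), ← hσ, genLocus_unit,
      Scheme.basicOpen_of_isUnit _ hu]
  set G := CohB1.genLocus (FV f W N) s with hGdef
  -- the closed set where `s` does not generate
  have hcl : IsClosedMap (f ∣_ W) :=
    MorphismProperty.universally_le (P := topologically @IsClosedMap) _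
      (IsProper.toUniversallyClosed (f := f ∣_ W)).universally_isClosedMap
  have hT : IsClosed ((f ∣_ W) '' (G : Set (XV f W))ᶜ) := hcl _ G.isOpen.isClosed_compl
  let UV : (W : Scheme.{u}).Opens := ⟨((f ∣_ W) '' (G : Set (XV f W))ᶜ)ᶜ, hT.isOpen_compl⟩
  have hyU : (⟨y, hy⟩ : W) ∈ UV := by
    rintro ⟨x, hxG, hxy⟩
    apply hxG
    have hx : x ∈ Set.range g₁ := by
      rw [Groth.Agent.Helper1.PicLoc.range_of_isPullback (isPullback_top f W y hy)]
      refine ⟨IsLocalRing.closedPoint _, ?_⟩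
      rw [hxy]
      apply (Scheme.Opens.ι W).isOpenEmbedding.injective
      rw [← Scheme.Hom.comp_apply, hLift_ι, Scheme.fromSpecResidueField_apply]
      rfl
    obtain ⟨x₁, rfl⟩ := hx
    have : x₁ ∈ g₁ ⁻¹ᵁ G := by rw [hG]; trivial
    exact this
  have hle : (f ∣_ W) ⁻¹ᵁ UV ≤ G := by
    intro x hx
    by_contra hxG
    exact hx ⟨x, hxG, rfl⟩
  refine ⟨(Scheme.Opens.ι W) ''ᵁ UV, ⟨⟨y, hy⟩, hyU, rfl⟩, ?_⟩
  rw [← image_morphismRestrict_preimage f W UV]
  haveI : IsIso ((Scheme.Modules.restrictFunctor ((f ∣_ W) ⁻¹ᵁ UV).ι).map s) :=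
    (le_genLocus_iff s _).mp hle
  exact nonempty_restrict_image_iso (f ⁻¹ᵁ W) ((f ∣_ W) ⁻¹ᵁ UV) N
    ((asIso ((Scheme.Modules.restrictFunctor ((f ∣_ W) ⁻¹ᵁ UV).ι).map s)).symm ≪≫
      Scheme.Modules.restrictUnitIso _)

end Groth.Agent.Helper1.SW
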