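import Groth.Agent.Helper1.ZarIso8
import Groth.Agent.Helper4.OpenBC

set_option autoImplicit false
set_option linter.style.haveILetI false

/-!
# Seesaw, step 5: the direct image of a module which is trivial over the base
-/

namespace Groth.Agent.Helper1.Seesaw

open CategoryTheory Limits AlgebraicGeometry Opposite TopologicalSpace
open Groth.Agent.Helper1.ZarIso

universe u

variable {X Y : Scheme.{u}} (f : X ⟶ Y)

/-- `O_U → (f|_U)_* O_{f⁻¹U}` is an isomorphism when `O_Y(V) → O_X(f⁻¹V)` is, for all `V ≤ U` -/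
theorem isIso_unitToPush_restrict (U : Y.Opens) (hU : ∀ V : Y.Opens, V ≤ U → IsIso (f.app V)) :
    IsIso (unitToPush (f ∣_ U)) := by
  rw [Scheme.Modules.Hom.isIso_iff_isIso_app]
  intro W
  rw [ConcreteCategory.isIso_iff_bijective]
  rw [bijective_unitToPush_app_iff]
  have h0 : IsIso (f.app (U.ι ''ᵁ W)) := hU _ (by
    have := Scheme.Hom.image_le_opensRange U.ι W
    rwa [Scheme.Opens.opensRange_ι] at this)
  have h1 : IsIso ((f ∣_ U).app W) := by
    rw [morphismRestrict_app]
    have h2 : IsIso (X.presheaf.map (eqToHom (image_morphismRestrict_preimage f U W)).op) :=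
      inferInstance
    exact @IsIso.comp_isIso _ _ _ _ _ _ _ h0 h2
  exact (ConcreteCategory.isIso_iff_bijective _).mp h1

/-- the direct image of a module trivial over `f⁻¹U` is trivial over `U` -/
theorem nonempty_pushforward_restrict_iso (U : Y.Opens)
    (hU : ∀ V : Y.Opens, V ≤ U → IsIso (f.app V)) (L : X.Modules)
    (θ : L.restrict (f ⁻¹ᵁ U).ι ≅ Coh.structureModule ((f ⁻¹ᵁ U : X.Opens) : Scheme.{u})) :
    Nonempty (((Scheme.Modules.pushforward f).obj L).restrict U.ι ≅
      Coh.structureModule (U : Scheme.{u})) := by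
  haveI := isIso_unitToPush_restrict f U hU
  exact ⟨(Groth.Agent.Helper4.OpenBC.iso f U).app L ≪≫
    (Scheme.Modules.pushforward (f ∣_ U)).mapIso θ ≪≫ (asIso (unitToPush (f ∣_ U))).symm⟩

end Groth.Agent.Helper1.Seesaw
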