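import Groth.Agent.Lead.Ref1K
import Groth.Agent.Lead.LocLift
import Groth.Agent.Lead.BCMap1
import Groth.Agent.Helper4.EpiStalk
import Groth.Agent.Helper4.AffineIso
import Groth.Agent.Helper4.QAffSec
import Groth.Agent.Helper4.PullSec

set_option autoImplicit false
set_option linter.style.haveILetI false

/-!
# Seesaw, step 6: the counit `f^* f_* L ⟶ L` for `L` trivial locally over the base
-/

namespace Groth.Agent.Helper1.Seesaw

open CategoryTheory Limits AlgebraicGeometry Opposite TopologicalSpace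
open Groth.Agent.Helper4 Groth.Agent.Helper4.StalkDict

universe u

/-- an epimorphism between invertible modules is an isomorphism -/
theorem isIso_of_epi_of_isInvertible {Z : Scheme.{u}} {P Q : Z.Modules}
    (hP : PicF.IsInvertible P) (hQ : PicF.IsInvertible Q) (p : P ⟶ Q) [Epi p] : IsIso p := by
  apply Groth.Agent.Helper4.QcohLocal.isIso_of_stalkLin_bijective
  intro z
  have hs := Groth.Agent.Helper4.EpiStalk.stalkLin_surjective_of_epi p z
  obtain ⟨e₁⟩ := (Groth.Agent.Lead.Ref1K.fr1At_of_isInvertible P hP z).nonempty_equiv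
  obtain ⟨e₂⟩ := (Groth.Agent.Lead.Ref1K.fr1At_of_isInvertible Q hQ z).nonempty_equiv
  let φ : Z.presheaf.stalk z →ₗ[Z.presheaf.stalk z] Z.presheaf.stalk z :=
    e₂.symm.toLinearMap ∘ₗ stalkLin p z ∘ₗ e₁.toLinearMap
  have hφs : Function.Surjective φ :=
    e₂.symm.surjective.comp (hs.comp e₁.surjective)
  have hφi : Function.Injective φ := OrzechProperty.injective_of_surjective_endomorphism φ hφs
  refine ⟨?_, hs⟩
  intro a b hab
  obtain ⟨a', rfl⟩ := e₁.surjective a
  obtain ⟨b', rfl⟩ := e₁.surjective b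
  have : φ a' = φ b' := by
    change e₂.symm (stalkLin p z (e₁ a')) = e₂.symm (stalkLin p z (e₁ b'))
    rw [hab]
  rw [hφi this]

variable {X Y : Scheme.{u}} (f : X ⟶ Y)

/-- the counit `f^* f_* L ⟶ L` is an isomorphism over `f⁻¹U` when `f_* L` is invertible and
`L` is trivial over `f⁻¹U` -/
theorem isIso_restrict_counit (L : X.Modules) (hL : PicF.IsInvertible L)
    (hfL : PicF.IsInvertible ((Scheme.Modules.pushforward f).obj L)) (U : Y.Opens)
    (θ : L.restrict (f ⁻¹ᵁ U).ι ≅ Coh.structureModule ((f ⁻¹ᵁ U : X.Opens) : Scheme.{u})) :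
    IsIso ((Scheme.Modules.restrictFunctor (f ⁻¹ᵁ U).ι).map
      ((Scheme.Modules.pullbackPushforwardAdjunction f).counit.app L)) := by
  set W : X.Opens := f ⁻¹ᵁ U with hW
  set P := (Scheme.Modules.pullback f).obj ((Scheme.Modules.pushforward f).obj L) with hPdef
  let ε : P ⟶ L := (Scheme.Modules.pullbackPushforwardAdjunction f).counit.app L
  change IsIso ((Scheme.Modules.restrictFunctor W.ι).map ε)
  have hP : PicF.IsInvertible P := Groth.Agent.Helper4.PullSec.isInvertible_pullback f hfL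
  have hPW : PicF.IsInvertible (P.restrict W.ι) := QAffSec.isInvertible_restrict W.ι hP
  have hLW : PicF.IsInvertible (L.restrict W.ι) := QAffSec.isInvertible_restrict W.ι hL
  -- the generating section
  let t₀ : Γ(L, W.ι ''ᵁ ⊤) := θ.inv.app ⊤ (1 : Γ((W : Scheme.{u}), ⊤))
  have e : W.ι ''ᵁ ⊤ ≤ f ⁻¹ᵁ U := le_of_eq (Scheme.Opens.ι_image_top W)
  have e' : f ⁻¹ᵁ U ≤ W.ι ''ᵁ ⊤ := le_of_eq (Scheme.Opens.ι_image_top W).symm
  let m : Γ((Scheme.Modules.pushforward f).obj L, U) := L.presheaf.map (homOfLE e').op t₀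
  have hm : L.presheaf.map (homOfLE e).op m = t₀ := by
    change L.presheaf.map (homOfLE e).op (L.presheaf.map (homOfLE e').op t₀) = t₀
    rw [Groth.Agent.Helper4.QcohGlue.map_map_thin L (homOfLE e').op (homOfLE e).op (𝟙 _)]
    simp
  have hadj : ((Scheme.Modules.pullbackPushforwardAdjunction f).homEquiv
      ((Scheme.Modules.pushforward f).obj L) L) ε = 𝟙 _ := by
    rw [Adjunction.homEquiv_unit]
    exact (Scheme.Modules.pullbackPushforwardAdjunction f).right_triangle_components L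
  have h1 := Groth.Agent.Lead.BCMap.homEquiv_app f ((Scheme.Modules.pushforward f).obj L) ε U
    (W.ι ''ᵁ ⊤) e m
  rw [hadj] at h1
  -- the splitting
  let ψ : Coh.structureModule (W : Scheme.{u}) ⟶ P.restrict W.ι :=
    Groth.Agent.Lead.LocLift.homOfTop (P.restrict W.ι)
      (Groth.Agent.Lead.BCMap.pbSec f ((Scheme.Modules.pushforward f).obj L) U (W.ι ''ᵁ ⊤) e m)
  have h2 : ψ ≫ (Scheme.Modules.restrictFunctor W.ι).map ε = θ.inv := by
    apply Groth.Agent.Lead.LocLift.hom_unit_ext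
    rw [Scheme.Modules.Hom.comp_app]
    change ((Scheme.Modules.restrictFunctor W.ι).map ε).app ⊤
      (ψ.app ⊤ (1 : Γ((W : Scheme.{u}), ⊤))) = _
    rw [Groth.Agent.Lead.LocLift.homOfTop_app_one]
    change ε.app (W.ι ''ᵁ ⊤) _ = t₀
    rw [← h1]
    exact hm
  haveI : IsSplitEpi ((Scheme.Modules.restrictFunctor W.ι).map ε) :=
    ⟨⟨θ.hom ≫ ψ, by rw [Category.assoc, h2, Iso.hom_inv_id]⟩⟩
  exact isIso_of_epi_of_isInvertible hPW hLW _

/-- the counit `f^* f_* L ⟶ L` is an isomorphism when `f_* L` is invertible and `L` is trivial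
locally over the base -/
theorem isIso_counit (L : X.Modules) (hL : PicF.IsInvertible L)
    (hfL : PicF.IsInvertible ((Scheme.Modules.pushforward f).obj L))
    (hloc : ∀ y : Y, ∃ U : Y.Opens, y ∈ U ∧
      Nonempty (L.restrict (f ⁻¹ᵁ U).ι ≅
        Coh.structureModule ((f ⁻¹ᵁ U : X.Opens) : Scheme.{u}))) :
    IsIso ((Scheme.Modules.pullbackPushforwardAdjunction f).counit.app L) := by
  apply Groth.Agent.Helper4.AffineIso.isIso_of_isIso_restrict
  intro x
  obtain ⟨U, hyU, ⟨θ⟩⟩ := hloc (f x)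
  exact ⟨f ⁻¹ᵁ U, hyU, isIso_restrict_counit f L hL hfL U θ⟩

end Groth.Agent.Helper1.Seesaw
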