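import Groth.Agent.Helper1.ZarIso1

set_option autoImplicit false

/-!
# A finite algebra whose localization at a prime is free of rank one
-/

namespace Groth.Agent.Helper1.ZarIso

universe u

open TensorProduct

theorem exists_notMem_bijective_of_tensor_equiv {A R B : Type u} [CommRing A] [IsNoetherianRing A]
    [CommRing R] [Algebra A R] [Module.Finite A R] [CommRing B] [Algebra A B] (p : Ideal A)
    [p.IsPrime] [IsLocalization.AtPrime B p] (e : B ⊗[A] R ≃ₗ[B] B) :
    ∃ s : A, s ∉ p ∧
      Function.Bijective (LocalizedModule.map (Submonoid.powers s) (Algebra.linearMap A R)) := by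
  have hbij : Function.Bijective (algebraMap B (B ⊗[A] R)) :=
    bijective_algebraMap_of_linearEquiv e
  let fM : A →ₗ[A] B := Algebra.linearMap A B
  let fN : R →ₗ[A] B ⊗[A] R := TensorProduct.mk A B R 1
  haveI : IsLocalizedModule p.primeCompl fM :=
    (isLocalizedModule_iff_isLocalization' p.primeCompl B).mpr inferInstance
  haveI : IsLocalizedModule p.primeCompl fN :=
    (isLocalizedModule_iff_isBaseChange p.primeCompl B fN).mpr (TensorProduct.isBaseChange A R B)
  haveI : Module.FinitePresentation A R := Module.finitePresentation_of_finite A R
  have key : IsLocalizedModule.map p.primeCompl fM fN (Algebra.linearMap A R) =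
      (Algebra.linearMap B (B ⊗[A] R)).restrictScalars A := by
    apply IsLocalizedModule.ext p.primeCompl fM (IsLocalizedModule.map_units fN)
    ext
    simp only [LinearMap.coe_comp, Function.comp_apply, IsLocalizedModule.map_apply, fM, fN]
    simp [Algebra.TensorProduct.one_def]
  refine Module.FinitePresentation.exists_notMem_bijective (Algebra.linearMap A R) p fM fN ?_
  rw [key]
  exact hbij

end Groth.Agent.Helper1.ZarIso
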