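import Groth.Agent.Helper1.ZarIso3
import Groth.Agent.Helper1.ZarIso4
import Groth.Agent.S0030

set_option autoImplicit false

/-!
# `f_* O_X` near a point with `Γ(X_y, O) = κ(y)`: the ring of sections over an affine open
-/

namespace Groth.Agent.Helper1.ZarIso

open CategoryTheory Limits AlgebraicGeometry Opposite IsLocalRing TensorProduct
open Groth.Agent.Helper1.StalkBC

universe u

/-- sections of `R⁰ f_* O_X` over `V` are the functions on `f⁻¹ V` -/
theorem nonempty_sections_Rpush_zero_equiv {X Y : Scheme.{u}} (f : X ⟶ Y)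
    [HasInjectiveResolutions X.Modules] (V : Y.Opens) :
    letI := (f.app V).hom.toAlgebra
    Nonempty (Γ((Coh.Rpush f 0).obj (Coh.structureModule X), V) ≃ₗ[Γ(Y, V)] Γ(X, f ⁻¹ᵁ V)) := by
  letI := (f.app V).hom.toAlgebra
  let i : (Coh.Rpush f 0).obj (Coh.structureModule X) ≅
      (Scheme.Modules.pushforward f).obj (Coh.structureModule X) :=
    (Scheme.Modules.pushforward f).rightDerivedZeroIsoSelf.app _
  let θ : Γ((Coh.Rpush f 0).obj (Coh.structureModule X), V) ≃+
      Γ((Scheme.Modules.pushforward f).obj (Coh.structureModule X), V) :=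
    (asIso (i.hom.app V)).addCommGroupIsoToAddEquiv
  let τ : Γ((Scheme.Modules.pushforward f).obj (Coh.structureModule X), V) ≃+ Γ(X, f ⁻¹ᵁ V) :=
    AddEquiv.refl _
  refine ⟨{ θ.trans τ with map_smul' := fun r x => ?_ }⟩
  have h2 : θ (r • x) = r • θ x := Scheme.Modules.Hom.app_smul i.hom r x
  show τ (θ (r • x)) = (f.app V).hom r * τ (θ x)
  rw [h2]
  rfl

theorem nonempty_tensor_sections_equiv {X Y : Scheme.{u}} (f : X ⟶ Y) [IsProper f] [Flat f]
    [IsLocallyNoetherian Y] [HasInjectiveResolutions X.Modules] (y : Y)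
    (hy : Function.Bijective (algebraMap (Y.residueField y) Γ(f.fiber y, ⊤)))
    {V : Y.Opens} (hV : IsAffineOpen V) (hyV : y ∈ V) :
    letI := (f.app V).hom.toAlgebra
    letI := Y.presheaf.algebra_section_stalk ⟨y, hyV⟩
    Nonempty (Y.presheaf.stalk y ⊗[Γ(Y, V)] Γ(X, f ⁻¹ᵁ V) ≃ₗ[Y.presheaf.stalk y]
      Y.presheaf.stalk y) := by
  letI := (f.app V).hom.toAlgebra
  letI := Y.presheaf.algebra_section_stalk ⟨y, hyV⟩
  haveI : ((Coh.Rpush f 0).obj (Coh.structureModule X)).IsQuasicoherent :=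
    Groth.Agent.S0030.result f (Coh.structureModule X) 0
  obtain ⟨e1⟩ := nonempty_stalk_equiv hV ((Coh.Rpush f 0).obj (Coh.structureModule X)) y hyV
  obtain ⟨e2⟩ := nonempty_stalk_Rpush_zero_equiv f y hy
  obtain ⟨e3⟩ := nonempty_sections_Rpush_zero_equiv f V
  exact ⟨((LinearEquiv.baseChange Γ(Y, V) (Y.presheaf.stalk y) _ _ e3).symm.trans e1).trans e2⟩

end Groth.Agent.Helper1.ZarIso
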