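import Groth.Agent.Helper1.ZarIso6

set_option autoImplicit false

/-!
# Sections of a qcqs morphism over a basic open
-/

namespace Groth.Agent.Helper1.ZarIso

open CategoryTheory Limits AlgebraicGeometry Opposite

universe u

theorem bijective_app_basicOpen {X Y : Scheme.{u}} (f : X ⟶ Y) [QuasiCompact f]
    [QuasiSeparated f] {V : Y.Opens} (hV : IsAffineOpen V) (s : Γ(Y, V))
    (h : letI := (f.app V).hom.toAlgebra
      Function.Bijective (LocalizedModule.map (Submonoid.powers s)
        (Algebra.linearMap Γ(Y, V) Γ(X, f ⁻¹ᵁ V)))) :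
    Function.Bijective (f.app (Y.basicOpen s)).hom := by
  letI := (f.app V).hom.toAlgebra
  haveI := hV.isLocalization_basicOpen s
  have hc : IsCompact (f ⁻¹ᵁ V).1 :=
    QuasiCompact.isCompact_preimage (f := f) _ V.isOpen hV.isCompact
  have hq : IsQuasiSeparated (f ⁻¹ᵁ V).1 := f.isQuasiSeparated_preimage hV.isQuasiSeparated
  haveI : IsLocalization.Away (algebraMap Γ(Y, V) Γ(X, f ⁻¹ᵁ V) s)
      Γ(X, X.basicOpen ((f.app V).hom s)) :=
    isLocalization_basicOpen_of_qcqs hc hq _
  have e : X.basicOpen ((f.app V).hom s) = f ⁻¹ᵁ Y.basicOpen s :=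
    (Scheme.preimage_basicOpen f s).symm
  have hθ : Function.Bijective (f.appLE (Y.basicOpen s) (X.basicOpen ((f.app V).hom s)) e.le).hom := by
    refine bijective_of_bijective_localizedModule_map (A := Γ(Y, V)) (R := Γ(X, f ⁻¹ᵁ V)) s
      (A' := Γ(Y, Y.basicOpen s)) (R' := Γ(X, X.basicOpen ((f.app V).hom s))) _ (fun a => ?_) h
    have h1 : ∀ (t : Γ(X, f ⁻¹ᵁ V)) (e' : X.basicOpen t ≤ f ⁻¹ᵁ Y.basicOpen s),
        Y.presheaf.map (homOfLE (Y.basicOpen_le s)).op ≫
          f.appLE (Y.basicOpen s) (X.basicOpen t) e' =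
        f.app V ≫ X.presheaf.map (homOfLE (X.basicOpen_le t)).op := by
      intro t e'
      rw [Scheme.Hom.map_appLE, Scheme.Hom.app_eq_appLE, Scheme.Hom.appLE_map]
    exact congrArg (fun k => k.hom a) (h1 _ e.le)
  have h2 : f.appLE (Y.basicOpen s) (X.basicOpen ((f.app V).hom s)) e.le =
      f.app (Y.basicOpen s) ≫ X.presheaf.map (eqToHom e).op := rfl
  have h3 : Function.Bijective (X.presheaf.map (eqToHom e).op).hom :=
    (ConcreteCategory.isIso_iff_bijective _).mp inferInstance
  rw [h2] at hθ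
  have h4 : (f.app (Y.basicOpen s)).hom =
      (inv (X.presheaf.map (eqToHom e).op)).hom ∘
        (f.app (Y.basicOpen s) ≫ X.presheaf.map (eqToHom e).op).hom := by
    ext x
    simp
  rw [h4]
  exact ((ConcreteCategory.isIso_iff_bijective _).mp
    (inferInstance : IsIso (inv (X.presheaf.map (eqToHom e).op)))).comp hθ

end Groth.Agent.Helper1.ZarIso
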