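import Groth.Agent.Helper4.QcohLocal
import Groth.Agent.Helper4.QcohGlue
import Groth.Agent.Helper1.IdealMod

set_option autoImplicit false

/-!
# `O_Y → f_* O_X` bijective over an affine open `U` is bijective over every open inside `U`
-/

namespace Groth.Agent.Helper1.ZarIso

open CategoryTheory Limits AlgebraicGeometry Opposite

universe u

/-- the comparison `O_Y ⟶ f_* O_X` -/
noncomputable def unitToPush {X Y : Scheme.{u}} (f : X ⟶ Y) :
    Coh.structureModule Y ⟶ (Scheme.Modules.pushforward f).obj (Coh.structureModule X) :=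
  SheafOfModules.unitToPushforwardObjUnit f.toRingCatSheafHom

lemma unitToPush_app {X Y : Scheme.{u}} (f : X ⟶ Y) (V : Y.Opens) (a : Γ(Y, V)) :
    (unitToPush f).app V (show Γ(Coh.structureModule Y, V) from a) =
      (show Γ((Scheme.Modules.pushforward f).obj (Coh.structureModule X), V) from
        (f.app V).hom a) := rfl

lemma bijective_unitToPush_app_iff {X Y : Scheme.{u}} (f : X ⟶ Y) (V : Y.Opens) :
    Function.Bijective ((unitToPush f).app V) ↔ Function.Bijective (f.app V).hom := Iff.rfl

theorem isIso_app_of_le {X Y : Scheme.{u}} (f : X ⟶ Y) [QuasiCompact f] [QuasiSeparated f]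
    {U : Y.Opens} (hU : IsAffineOpen U) (h : Function.Bijective (f.app U).hom)
    (V : Y.Opens) (hVU : V ≤ U) : IsIso (f.app V) := by
  haveI : ((Scheme.Modules.pushforward f).obj (Coh.structureModule X)).IsQuasicoherent :=
    Groth.Agent.Helper4.QcohGlue.isQuasicoherent_pushforward f (Coh.structureModule X)
  let ψ := (Scheme.Modules.restrictFunctor U.ι).map (unitToPush f)
  haveI : IsAffine (U : Scheme.{u}) := hU
  have hbij : ∀ W : (U : Scheme.{u}).Opens, Function.Bijective (ψ.app W) ↔
      Function.Bijective ((unitToPush f).app (U.ι ''ᵁ W)) := fun W => Iff.rfl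
  have htr : ∀ V₁ V₂ : Y.Opens, V₁ = V₂ → Function.Bijective ((unitToPush f).app V₁) →
      Function.Bijective ((unitToPush f).app V₂) := by
    rintro V₁ _ rfl h
    exact h
  haveI : IsIso ψ := by
    apply Groth.Agent.Helper4.QcohLocal.isIso_of_app_bijective_of_affine_cover
    intro x
    refine ⟨⊤, isAffineOpen_top _, trivial, ?_⟩
    rw [hbij]
    exact htr U _ U.ι_image_top.symm h
  have h1 : Function.Bijective (ψ.app (U.ι ⁻¹ᵁ V)) :=
    (ConcreteCategory.isIso_iff_bijective _).mp inferInstance
  rw [hbij] at h1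
  have h2 : U.ι ''ᵁ (U.ι ⁻¹ᵁ V) = V := by
    rw [Scheme.Hom.image_preimage_eq_opensRange_inf, Scheme.Opens.opensRange_ι]
    exact inf_eq_right.mpr hVU
  have h3 := htr _ _ h2 h1
  exact (ConcreteCategory.isIso_iff_bijective _).mpr h3

end Groth.Agent.Helper1.ZarIso
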