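import Groth.Agent.Helper1.Seesaw4
import Groth.Agent.Helper1.Seesaw5
import Groth.Agent.Helper1.Seesaw6
import Groth.Agent.Lead.H0GeomA
import Groth.Agent.S2393

set_option autoImplicit false
set_option linter.style.haveILetI false

/-!
# Seesaw: the core statement
-/

namespace Groth.Agent.Helper1.Seesaw

open CategoryTheory Limits AlgebraicGeometry Opposite TopologicalSpace

universe u

/-- restriction of a trivialisation to a smaller open -/
theorem nonempty_restrict_iso_of_le {X : Scheme.{u}} {W' W : X.Opens} (h : W' ≤ W)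
    (N : X.Modules) (θ : N.restrict W.ι ≅ Coh.structureModule (W : Scheme.{u})) :
    Nonempty (N.restrict W'.ι ≅ Coh.structureModule (W' : Scheme.{u})) := by
  let k : (W' : Scheme.{u}) ⟶ (W : Scheme.{u}) := X.homOfLE h
  have hk : k ≫ W.ι = W'.ι := X.homOfLE_ι h
  haveI : IsOpenImmersion (k ≫ W.ι) := by rw [hk]; infer_instance
  exact ⟨(Scheme.Modules.restrictFunctorCongr hk.symm).app N ≪≫
    (Scheme.Modules.restrictFunctorComp k W.ι).app N ≪≫
    (Scheme.Modules.restrictFunctor k).mapIso θ ≪≫ Scheme.Modules.restrictUnitIso k⟩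

variable {X Y : Scheme.{u}} (f : X ⟶ Y)

/-- `h⁰(X_y, L_y) = h⁰(X_y, O)` when `L_y` is trivial -/
theorem fiberRank_eq_of_iso (L : X.Modules) (y : Y)
    (e₀ : CohIII.fiberMod f L y ≅ Coh.structureModule (f.fiber y)) :
    CohIII.fiberRank f L 0 y = Module.finrank (Y.residueField y) Γ(f.fiber y, ⊤) := by
  letI : (f.fiber y).Over (Spec (CommRingCat.of (Y.residueField y))) :=
    ⟨f.fiberToSpecResidueField y⟩
  have h2 := Groth.Agent.Helper1.BaseChart.finrank_HH_congr (K := (Y.residueField y)) e₀ 0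
  have h3 := (Groth.Agent.Lead.H0Geom.h0LinearEquiv (Y.residueField y) (f.fiber y)).finrank_eq
  exact h2.trans h3

/-- `κ(y) → Γ(X_y, O)` is bijective when the target is one-dimensional -/
theorem bijective_algebraMap_of_finrank_eq_one (y : Y)
    (h0 : Module.finrank (Y.residueField y) Γ(f.fiber y, ⊤) = 1) :
    Function.Bijective (algebraMap (Y.residueField y) Γ(f.fiber y, ⊤)) := by
  haveI : Module.Finite (Y.residueField y) Γ(f.fiber y, ⊤) :=
    Module.finite_of_finrank_pos (by rw [h0]; exact Nat.one_pos)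
  haveI : Nontrivial Γ(f.fiber y, ⊤) :=
    Module.nontrivial_of_finrank_pos (R := Y.residueField y) (by rw [h0]; exact Nat.one_pos)
  have hinj : Function.Injective (algebraMap (Y.residueField y) Γ(f.fiber y, ⊤)) :=
    (algebraMap (Y.residueField y) Γ(f.fiber y, ⊤)).injective
  refine ⟨hinj, ?_⟩
  have h1 : Module.finrank (Y.residueField y) (Y.residueField y) =
      Module.finrank (Y.residueField y) Γ(f.fiber y, ⊤) := by
    rw [h0, Module.finrank_self]
  exact (LinearMap.injective_iff_surjective_of_finrank_eq_finrank h1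
    (f := Algebra.linearMap (Y.residueField y) Γ(f.fiber y, ⊤))).mp hinj

/-- **Seesaw, core statement**: `f` proper and flat, `Y` locally Noetherian and reduced,
`h⁰(X_y, O) = 1` for all `y`, `L` invertible and trivial on every fibre: then `L` is trivial locally
over `Y`, `f_* L` is invertible and `f^* f_* L ⟶ L` is an isomorphism. -/
theorem core [IsProper f] [Flat f] [IsLocallyNoetherian Y] [IsReduced Y]
    (h0 : ∀ y : Y, Module.finrank (Y.residueField y) Γ(f.fiber y, ⊤) = 1)
    (L : X.Modules) (hL : PicF.IsInvertible L)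
    (htriv : ∀ y : Y, Nonempty (CohIII.fiberMod f L y ≅ Coh.structureModule (f.fiber y))) :
    (∀ y : Y, ∃ U : Y.Opens, y ∈ U ∧ (∀ V : Y.Opens, V ≤ U → IsIso (f.app V)) ∧
      Nonempty (L.restrict (f ⁻¹ᵁ U).ι ≅
        Coh.structureModule ((f ⁻¹ᵁ U : X.Opens) : Scheme.{u}))) ∧
    PicF.IsInvertible ((Scheme.Modules.pushforward f).obj L) ∧
      IsIso ((Scheme.Modules.pullbackPushforwardAdjunction f).counit.app L) := by
  have hloc : ∀ y : Y, ∃ U : Y.Opens, y ∈ U ∧ (∀ V : Y.Opens, V ≤ U → IsIso (f.app V)) ∧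
      Nonempty (L.restrict (f ⁻¹ᵁ U).ι ≅
        Coh.structureModule ((f ⁻¹ᵁ U : X.Opens) : Scheme.{u})) := by
    intro y
    obtain ⟨U₁, hy₁, hU₁⟩ := Groth.Agent.S2393.result f y
      (bijective_algebraMap_of_finrank_eq_one f y (h0 y))
    obtain ⟨e₀⟩ := htriv y
    obtain ⟨U₂, hy₂, ⟨θ⟩⟩ := exists_nhd_trivial' f y L hL
      (fun y' _ => by
        obtain ⟨e'⟩ := htriv y'
        rw [fiberRank_eq_of_iso f L y' e', h0 y']) e₀
    refine ⟨U₁ ⊓ U₂, ⟨hy₁, hy₂⟩, fun V hV => hU₁ V (hV.trans inf_le_left), ?_⟩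
    exact nonempty_restrict_iso_of_le (Scheme.Hom.preimage_mono f inf_le_right) L θ
  have hfL : PicF.IsInvertible ((Scheme.Modules.pushforward f).obj L) := by
    intro y
    obtain ⟨U, hyU, hU, ⟨θ⟩⟩ := hloc y
    exact ⟨U, hyU, nonempty_pushforward_restrict_iso f U hU L θ⟩
  refine ⟨hloc, hfL, isIso_counit f L hL hfL ?_⟩
  intro y
  obtain ⟨U, hyU, -, hθ⟩ := hloc y
  exact ⟨U, hyU, hθ⟩

end Groth.Agent.Helper1.Seesaw
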