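import Groth.Agent.Helper1.UF7

set_option autoImplicit false
set_option linter.style.haveILetI false
set_option linter.unusedSectionVars false
set_option linter.unusedVariables false

/-!
# `Γ(X_s, O) = κ(s)` for all `s` gives `O_S = f_* O_X` for proper flat finitely presented `f` (II)
-/

namespace Groth.Agent.Helper1.UF

open CategoryTheory AlgebraicGeometry Opposite TopologicalSpace
  AlgebraicGeometry.Scheme.Modules
open Groth.Agent.Helper1.ZarIso Groth.Agent.Helper1.SCV Groth.Agent.Helper1.BaseChart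
open Groth.Agent.Helper4.PullUnit Groth.Agent.Helper9.Betti2
open Groth.Agent.Helper4 Groth.Agent.Helper4.FinLocFree

universe u

variable {X S : Scheme.{u}} (f : X ⟶ S) [IsProper f] [Flat f] [LocallyOfFinitePresentation f]
  (h : ∀ s : S, IsIso (f.fiberToSpecResidueField s).appTop)

include h in
set_option maxHeartbeats 1600000 in
/-- `O_S → f_* O_X` is bijective near every point -/
theorem exists_nhd_bijective (y : S) :
    ∃ V : S.Opens, y ∈ V ∧ ∀ V₁ : S.Opens, V₁ ≤ V → Function.Bijective (f.app V₁).hom := by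
  haveI := isQuasicoherent_unit X
  haveI : Coh.IsQCoh (Coh.structureModule X) := isQuasicoherent_unit X
  have hFP : CohB1.IsFP (Coh.structureModule X) :=
    Groth.Agent.Helper4.FinLocFree6.isFinitePresentation_unit
  have hfl : FlatMod.IsFlatOver f (Coh.structureModule X) :=
    Groth.Agent.Helper2.RedBC.isFlatOver_unit f
  obtain ⟨W, hW, hyW, -⟩ := exists_isAffineOpen_mem_and_subset (x := y)
    (U := (⊤ : S.Opens)) trivial
  haveI : IsAffine (W : Scheme.{u}) := hW
  obtain ⟨K, M, h0⟩ := exists_master0 f W (Coh.structureModule X) hFP hfl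
  have hgood : chartPt W y hyW ∈ OLoc W K 0 :=
    (M.bc0_epi_iff y hyW).mp (epi_bc0_fibre_of_isIso f y (h y))
  obtain ⟨U, hyU, hUW, hlf, hbc⟩ := M.exists_nhd_bc0 h0 y hyW hgood
  obtain ⟨U', n, hyU', ⟨e'⟩⟩ := hlf ⟨y, hyU⟩
  have h1 : IsFreeAlong (((pushforward f).obj (Coh.structureModule X)).restrict U.ι) U'.ι n :=
    ⟨e'⟩
  rw [IsFreeAlong.restrict_iff] at h1
  obtain ⟨e⟩ := h1.opensRange _
  have hyV : y ∈ (U'.ι ≫ U.ι).opensRange := ⟨⟨⟨y, hyU⟩, hyU'⟩, rfl⟩
  have hVU : (U'.ι ≫ U.ι).opensRange ≤ U := by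
    rintro _ ⟨z, rfl⟩
    exact (U'.ι z).2
  refine ⟨(U'.ι ≫ U.ι).opensRange, hyV,
    bijective_app_of_free_nhd f y (h y) _ hyV n e ?_ ?_⟩
  · exact hbc (f.fiberι y) (f.fiberToSpecResidueField y) (S.fromSpecResidueField y)
      (IsPullback.of_hasPullback _ _) (fun z => by
        rw [Scheme.fromSpecResidueField_apply]
        exact hyU)
  · exact hbc _ _ _ (isPullback_morphismRestrict f _).flip (fun z => hVU z.2)

include h in
/-- **`O_S → f_* O_X` is an isomorphism** -/
theorem isIso_unitToPush_of_isIso : IsIso (unitToPush f) := by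
  apply Groth.Agent.Lead.MeroY.isIso_of_locally_bijective
  intro y
  obtain ⟨V, hyV, hV⟩ := exists_nhd_bijective f h y
  exact ⟨V, hyV, fun V₁ hV₁ => (bijective_unitToPush_app_iff f V₁).mpr (hV V₁ hV₁)⟩

include h in
/-- **`O_S(V) → O_X(f⁻¹V)` is an isomorphism for every open `V`** -/
theorem isIso_app_of_isIso (V : S.Opens) : IsIso (f.app V) := by
  haveI := isIso_unitToPush_of_isIso f h
  have hb : Function.Bijective ((unitToPush f).app V) :=
    (ConcreteCategory.isIso_iff_bijective _).mp inferInstance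
  exact (ConcreteCategory.isIso_iff_bijective _).mpr ((bijective_unitToPush_app_iff f V).mp hb)

end Groth.Agent.Helper1.UF
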