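import Groth.Agent.Helper1.SW2
import Groth.Agent.Helper1.SW4
import Groth.Agent.Helper1.UF8
import Groth.Agent.Helper1.Seesaw7
import Groth.Agent.Helper4.FinLocFree2

set_option autoImplicit false
set_option linter.style.haveILetI false
set_option linter.unusedSectionVars false
set_option linter.unusedVariables false

/-!
# Seesaw over an arbitrary base, when `H¹` of the structure sheaf of the fibres vanishes
-/

namespace Groth.Agent.Helper1.SW

open CategoryTheory AlgebraicGeometry Opposite TopologicalSpace Limits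
  AlgebraicGeometry.Scheme.Modules
open Groth.Agent.Helper4.PullUnit Groth.Agent.Helper1.SCV Groth.Agent.Helper1.Seesaw

universe u

/-- cohomology vanishes along isomorphisms of modules -/
lemma subsingleton_HH_of_iso {Z : Scheme.{u}} {F G : Z.Modules} (φ : F ≅ G) (n : ℕ)
    (h : Subsingleton (Coh.HH Z G n)) : Subsingleton (Coh.HH Z F n) := by
  refine ⟨fun a b => ?_⟩
  have key : ∀ x : Coh.HH Z F n,
      Sheaf.H.map ((SheafOfModules.toSheaf Z.ringCatSheaf).map φ.inv) n
        (Sheaf.H.map ((SheafOfModules.toSheaf Z.ringCatSheaf).map φ.hom) n x) = x := by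
    intro x
    rw [← Sheaf.H.map_comp_apply]
    have h := ((SheafOfModules.toSheaf Z.ringCatSheaf).mapIso φ).hom_inv_id
    show Sheaf.H.map (((SheafOfModules.toSheaf Z.ringCatSheaf).mapIso φ).hom ≫
      ((SheafOfModules.toSheaf Z.ringCatSheaf).mapIso φ).inv) n x = x
    rw [h, Sheaf.H.map_id_apply]
  rw [← key a, ← key b]
  congr 1
  exact h.elim _ _

variable {X S : Scheme.{u}} (f : X ⟶ S) [IsProper f] [Flat f] [LocallyOfFinitePresentation f]

set_option maxHeartbeats 1600000 in
/-- **triviality near a fibre with vanishing `H¹`**: an invertible module whose restriction to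
the fibre `X_y` is trivial, with `H¹(X_y, N_y) = 0` and `Γ(X_y, O)` a field, is trivial over a
neighbourhood of `y` -/
theorem exists_nhd_trivial_of_h1 (N : X.Modules) (hN : PicF.IsInvertible N) (y : S)
    (h1 : Subsingleton (CohIII.fiberH f N y 1))
    (e₀ : CohIII.fiberMod f N y ≅ Coh.structureModule (f.fiber y))
    (hfield : IsField (Γ(f.fiber y, ⊤) : Type u)) :
    ∃ U : S.Opens, y ∈ U ∧
      Nonempty (N.restrict (f ⁻¹ᵁ U).ι ≅
        Coh.structureModule ((f ⁻¹ᵁ U : X.Opens) : Scheme.{u})) := by
  haveI : N.IsQuasicoherent := (Groth.Agent.Lead.Ref1K.isCoh_of_isInvertible N hN).1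
  haveI : Coh.IsQCoh N := ‹N.IsQuasicoherent›
  have hFP : CohB1.IsFP N :=
    Groth.Agent.Helper4.FinLocFree2.isFinitePresentation_of_isFinLocFree N
      (Groth.Agent.Lead.Ref1K.isFinLocFree_of_isInvertible N hN)
  have hfl : FlatMod.IsFlatOver f N :=
    Groth.Agent.Helper1.PicLoc.isFlatOver_of_isInvertible f N hN
  obtain ⟨U, hyU, -, hbc⟩ := exists_nhd_bc0_of_h1 f N hFP hfl y h1
  haveI hiso := hbc (f.fiberι y) (f.fiberToSpecResidueField y) (S.fromSpecResidueField y)
    (IsPullback.of_hasPullback _ _) (fun z => by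
      rw [Scheme.fromSpecResidueField_apply]
      exact hyU)
  haveI : Nontrivial Γ(f.fiber y, ⊤) := hfield.nontrivial
  apply exists_nhd_trivial_of_bc0_ne_zero f N hN y ?_ e₀ hfield
  intro h0
  have hid : 𝟙 ((pushforward (f.fiberToSpecResidueField y)).obj (CohIII.fiberMod f N y)) = 0 := by
    have e1 := IsIso.inv_hom_id (CohBC.bc0 f (S.fromSpecResidueField y)
      (f.fiberToSpecResidueField y) (f.fiberι y) (f.fiber_fac y) N)
    have e2 := congrArg (fun t => inv (CohBC.bc0 f (S.fromSpecResidueField y)
      (f.fiberToSpecResidueField y) (f.fiberι y) (f.fiber_fac y) N) ≫ t) h0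
    exact e1.symm.trans (e2.trans Limits.comp_zero)
  have hid' : 𝟙 ((pushforward (f.fiberToSpecResidueField y)).obj
      (Coh.structureModule (f.fiber y))) = 0 := by
    have : 𝟙 ((pushforward (f.fiberToSpecResidueField y)).obj
        (Coh.structureModule (f.fiber y))) =
        (pushforward (f.fiberToSpecResidueField y)).map e₀.inv ≫
          𝟙 ((pushforward (f.fiberToSpecResidueField y)).obj (CohIII.fiberMod f N y)) ≫
          (pushforward (f.fiberToSpecResidueField y)).map e₀.hom := by
      rw [Category.id_comp, ← Functor.map_comp, Iso.inv_hom_id, CategoryTheory.Functor.map_id]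
    rw [this, hid, Limits.zero_comp, Limits.comp_zero]
  have h10 := congrArg (fun φ : (pushforward (f.fiberToSpecResidueField y)).obj
      (Coh.structureModule (f.fiber y)) ⟶ (pushforward (f.fiberToSpecResidueField y)).obj
      (Coh.structureModule (f.fiber y)) => φ.app ⊤
        (show Γ((pushforward (f.fiberToSpecResidueField y)).obj
          (Coh.structureModule (f.fiber y)), ⊤) from (1 : Γ(f.fiber y, ⊤)))) hid'
  exact one_ne_zero (α := Γ(f.fiber y, ⊤)) h10

/-- **Seesaw over an arbitrary base**: `f` proper, flat and of finite presentation with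
`Γ(X_s, O) = κ(s)` and `H¹(X_s, O) = 0` for all `s`; an invertible module which is trivial on
every fibre is trivial locally over the base, its direct image is invertible and the counit
`f^* f_* L ⟶ L` is an isomorphism. -/
theorem core (h : ∀ s : S, IsIso (f.fiberToSpecResidueField s).appTop)
    (hH1 : ∀ s : S, Subsingleton (CohIII.fiberH f (Coh.structureModule X) s 1))
    (L : X.Modules) (hL : PicF.IsInvertible L)
    (htriv : ∀ y : S, Nonempty (CohIII.fiberMod f L y ≅ Coh.structureModule (f.fiber y))) :
    (∀ y : S, ∃ U : S.Opens, y ∈ U ∧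
      Nonempty (L.restrict (f ⁻¹ᵁ U).ι ≅
        Coh.structureModule ((f ⁻¹ᵁ U : X.Opens) : Scheme.{u}))) ∧
    PicF.IsInvertible ((Scheme.Modules.pushforward f).obj L) ∧
      IsIso ((Scheme.Modules.pullbackPushforwardAdjunction f).counit.app L) := by
  have hfield : ∀ y : S, IsField (Γ(f.fiber y, ⊤) : Type u) := by
    intro y
    have hbij' : Function.Bijective ((f.fiberToSpecResidueField y).app ⊤).hom :=
      (ConcreteCategory.isIso_iff_bijective _).mp (h y)
    have hfield0 : IsField Γ(Spec (S.residueField y), ⊤) :=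
      (Scheme.ΓSpecIso (S.residueField y)).commRingCatIsoToRingEquiv.toMulEquiv.isField
        (Field.toIsField (S.residueField y))
    exact (RingEquiv.ofBijective _ hbij').symm.toMulEquiv.isField hfield0
  have hloc : ∀ y : S, ∃ U : S.Opens, y ∈ U ∧
      Nonempty (L.restrict (f ⁻¹ᵁ U).ι ≅
        Coh.structureModule ((f ⁻¹ᵁ U : X.Opens) : Scheme.{u})) := by
    intro y
    obtain ⟨e₀⟩ := htriv y
    have h1 : Subsingleton (CohIII.fiberH f L y 1) :=
      subsingleton_HH_of_iso (e₀ ≪≫ (pullbackUnitIso (f.fiberι y)).symm) 1 (hH1 y)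
    exact exists_nhd_trivial_of_h1 f L hL y h1 e₀ (hfield y)
  have hfL : PicF.IsInvertible ((Scheme.Modules.pushforward f).obj L) := by
    intro y
    obtain ⟨U, hyU, ⟨θ⟩⟩ := hloc y
    exact ⟨U, hyU, nonempty_pushforward_restrict_iso f U
      (fun V _ => Groth.Agent.Helper1.UF.isIso_app_of_isIso f h V) L θ⟩
  exact ⟨hloc, hfL, isIso_counit f L hL hfL hloc⟩

end Groth.Agent.Helper1.SW
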