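import Mathlib
import Groth.Agent.Helper1.LV1
import Groth.Agent.Helper1.QuotPush1
import Groth.Agent.Helper1.PF4
import Groth.Agent.Helper1.HP6
import Groth.Agent.Helper1.SW5
import Groth.Agent.Helper1.Dev6
import Groth.Agent.Lead.Thick5
import Groth.Agent.Helper4.SN177
import Groth.Agent.Helper4.PullTensor

/-!
# LV2: modules killed by an ideal `J` of the base ring are direct images from the closed
subscheme `X_J`; their large twists by a module which is ample on `X_J` have no higher cohomology
-/

set_option autoImplicit false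
set_option linter.style.haveILetI false
set_option linter.unusedSectionVars false

universe u

open CategoryTheory CategoryTheory.Limits AlgebraicGeometry Opposite

namespace Groth.Agent.Helper1.LV

open Groth.Agent.Helper1.Form Groth.Agent.Helper1.QuotPush Groth.Agent.Helper1.GrVan

variable {A : Type u} [CommRing A] {X : Scheme.{u}} [X.Over (Spec (CommRingCat.of A))]
  (J : Ideal A) {XJ : Scheme.{u}} {i : XJ ⟶ X} {fJ : XJ ⟶ Spec (CommRingCat.of (A ⧸ J))}
  (hsq : IsPullback i fJ (X ↘ Spec (CommRingCat.of A))
    (Spec.map (CommRingCat.ofHom (Ideal.Quotient.mk J))))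

include hsq in
theorem isClosedImmersion_of_sq : IsClosedImmersion i := by
  haveI : IsClosedImmersion (Spec.map (CommRingCat.ofHom (Ideal.Quotient.mk J))) :=
    IsClosedImmersion.spec_of_surjective _ Ideal.Quotient.mk_surjective
  exact Groth.Agent.Lead.ThickBC.isClosedImmersion_of_isPullback hsq

include hsq in
/-- a module killed by `J` is killed by the ideal of `X_J` -/
theorem kills_of_killedBy [IsClosedImmersion i] (M : X.Modules) (h : Formal.KilledBy J M) :
    Groth.Agent.Lead.Thick.Kills i M 1 := by
  intro U hU a ha m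
  rw [pow_one, ker_app_eq J hsq hU] at ha
  have key : ∀ b ∈ Ideal.map (ρ (A := A) U) J, ∀ m : Γ(M, U), b • m = 0 := by
    intro b hb
    refine Submodule.span_induction (p := fun b _ => ∀ m : Γ(M, U), b • m = 0) ?_ ?_ ?_ ?_ hb
    · rintro _ ⟨c, hc, rfl⟩ m
      have h1 := congrArg (fun φ => (Scheme.Modules.Hom.app φ U) m) (h c hc)
      exact h1
    · intro m
      exact zero_smul _ m
    · intro x y _ _ hx hy m
      rw [add_smul, hx m, hy m, add_zero]
    · intro r x _ hx m
      rw [smul_eq_mul, mul_smul, hx m, smul_zero]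
  exact key a ha m

variable [IsNoetherianRing A] [IsProper (X ↘ Spec (CommRingCat.of A))]

include hsq in
/-- **large twists of a coherent module killed by `J` have no higher cohomology**, when the
twisting module is ample on `X_J` -/
theorem exists_van_of_killedBy (L : X.Modules) (hL : PicF.IsInvertible L)
    (hamp : CohB1.IsAmple ((Scheme.Modules.pullback i).obj L)) (M : X.Modules)
    (hM : Coh.IsCoh M) (hk : Formal.KilledBy J M) :
    ∃ n₀ : ℕ, ∀ d : ℕ, n₀ ≤ d → Van (CohB1.tensorPow L d) M := by
  haveI : IsClosedImmersion i := isClosedImmersion_of_sq J hsq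
  haveI : M.IsQuasicoherent := hM.1
  haveI := Groth.Agent.Lead.Thick.isIso_η_of_kills i M (kills_of_killedBy J hsq M hk)
  have hN : Coh.IsCoh ((Scheme.Modules.pullback i).obj M) :=
    Groth.Agent.Helper1.Dev.isCoh_pullback i M hM
  haveI : IsProper fJ := MorphismProperty.of_isPullback (P := @IsProper) hsq inferInstance
  obtain ⟨n₀, hn₀⟩ := Groth.Agent.Helper1.SV.serre_vanishing (A ⧸ J) fJ hamp _ hN
  refine ⟨n₀, fun d hd q hq => ?_⟩
  have h1 := hn₀ d hd q hq
  have hinvd : PicF.IsInvertible (CohB1.tensorPow L d) :=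
    Groth.Agent.Helper4.TensorInv.isInvertible_tensorPow hL d
  have ε : CohB1.tensorMod M (CohB1.tensorPow L d) ≅
      (Scheme.Modules.pushforward i).obj (CohB1.tensorMod ((Scheme.Modules.pullback i).obj M)
        (CohB1.tensorPow ((Scheme.Modules.pullback i).obj L) d)) :=
    PicGrp.tensorModIso (asIso (Groth.Agent.Lead.Thick.η i M)) (Iso.refl _) ≪≫
      Groth.Agent.Helper1.PF.projIso i _ (CohB1.tensorPow L d) hinvd ≪≫
      (Scheme.Modules.pushforward i).mapIso (PicGrp.tensorModIso (Iso.refl _)
        (Groth.Agent.Helper4.PullTensor.pullPowIso i hL d))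
  haveI : Coh.IsQCoh (CohB1.tensorMod ((Scheme.Modules.pullback i).obj M)
      (CohB1.tensorPow ((Scheme.Modules.pullback i).obj L) d)) :=
    (Groth.Agent.Helper1.HP.isCoh_twistPow hamp.1 _ hN d).1
  obtain ⟨e⟩ := Groth.Agent.Helper4.SN.nonempty_HH_equiv_push A i
    (CohB1.tensorMod ((Scheme.Modules.pullback i).obj M)
      (CohB1.tensorPow ((Scheme.Modules.pullback i).obj L) d)) q
  haveI := h1
  have h2 : Subsingleton (Coh.HH X ((Scheme.Modules.pushforward i).obj
      (CohB1.tensorMod ((Scheme.Modules.pullback i).obj M)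
        (CohB1.tensorPow ((Scheme.Modules.pullback i).obj L) d))) q) := e.symm.subsingleton
  exact Groth.Agent.Helper1.SW.subsingleton_HH_of_iso ε q h2

end Groth.Agent.Helper1.LV
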