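import Mathlib
import Groth.Agent.Helper1.LV2
import Groth.Agent.Helper1.GrKer
import Groth.Agent.Helper1.FormH
import Groth.Agent.Helper1.HP1
import Groth.Agent.Helper9.TensorAdj
import Groth.Agent.S0002
import Groth.Agent.S0059

/-!
# LV3: the local vanishing theorem

`X` proper over a Noetherian ring `A`, `J` an ideal contained in the Jacobson radical, `L` an
invertible module whose restriction to `X_J = X ×_A A/J` is ample, `F` coherent.  Then
`H^q(X, F ⊗ L^d) = 0` for `q > 0` and `d` large.
-/

set_option autoImplicit false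
set_option linter.style.haveILetI false
set_option linter.unusedSectionVars false

universe u

open CategoryTheory CategoryTheory.Limits AlgebraicGeometry Opposite

namespace Groth.Agent.Helper1.LV

open Groth.Agent.Helper1.Form Groth.Agent.Helper1.QuotPush Groth.Agent.Helper1.GrVan
  Groth.Agent.Helper1.GrKer Groth.Agent.Helper1.Rees Groth.Agent.Helper1.GrSh

variable {A : Type u} [CommRing A] {X : Scheme.{u}} [X.Over (Spec (CommRingCat.of A))]

section Quot

/-- tensoring a quotient by `J` gives a quotient by `J` -/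
theorem isQuot_tensorRight_cokernelπ (J : Ideal A) (M B : X.Modules) :
    IsQuot J ((DCoh.tensorRightMod B).map (cokernel.π (Formal.smulFamily J M))) := by
  set T := DCoh.tensorRightMod B with hT
  haveI : PreservesColimitsOfSize.{u, u} T :=
    Groth.Agent.Helper9.TensorAdj.preservesColimits_TN (O := X.sheaf) B
  haveI : T.Linear A := Groth.Agent.Helper1.HP.linear_tensorRightMod A B
  have hc : IsColimit ((CokernelCofork.ofπ (cokernel.π (Formal.smulFamily J M))
      (cokernel.condition _)).map T) :=
    CokernelCofork.mapIsColimit _ (cokernelIsCokernel _) T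
  refine ⟨?_, ?_, ?_⟩
  · exact Cofork.IsColimit.epi hc
  · intro a ha
    rw [← Functor.map_smul, (isQuot_cokernelπ J M).kills a ha, Functor.map_zero]
  · intro Z f hf
    have h0 : T.map (Formal.smulFamily J M) ≫ f = 0 := by
      haveI : IsIso (sigmaComparison T (fun _ : J => M)) := inferInstance
      rw [← cancel_epi (sigmaComparison T (fun _ : J => M))]
      apply Sigma.hom_ext
      intro a
      rw [ι_comp_sigmaComparison_assoc, comp_zero, comp_zero, ← Functor.map_comp_assoc,
        ι_smulFamily, smulMod_eq, Functor.map_smul, CategoryTheory.Functor.map_id,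
        Linear.smul_comp, Category.id_comp]
      exact hf a a.2
    refine ⟨hc.desc (CokernelCofork.ofπ f h0), ?_⟩
    exact hc.fac (CokernelCofork.ofπ f h0) WalkingParallelPair.one

/-- **`(M ⊗ B)/Iⁿ(M ⊗ B) ≅ (M/IⁿM) ⊗ B`** -/
noncomputable def modPowTensorIso (I : Ideal A) (n : ℕ) (M B : X.Modules) :
    Formal.modPow I n (CohB1.tensorMod M B) ≅ CohB1.tensorMod (Formal.modPow I n M) B :=
  (isQuot_modPowπ I n ((DCoh.tensorRightMod B).obj M)).iso
    (isQuot_tensorRight_cokernelπ (I ^ n) M B)

end Quot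

section Killed

variable {I : Ideal A} (G : ℕᵒᵖ ⥤ X.Modules)
  (hk : ∀ n, Formal.KilledBy (I ^ (n + 1)) (G.obj (op n)))

include hk in
/-- the graded pieces are killed by `I` -/
theorem killedBy_R (n : ℕ) : Formal.KilledBy I (R (I := I) G n) := by
  intro a ha
  rw [← cancel_mono (Rι I (Gn G (n + 1)) (n + 1)), zero_comp, smulMod_comp]
  apply Rn_hom_ext
  intro b
  rw [comp_zero, θ_ι_assoc, ← smulMod_mul]
  apply hk (n + 1)
  rw [pow_succ]
  exact Ideal.mul_mem_mul b.2 ha

end Killed

section Van

include A in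
theorem Van.of_iso {B M M' : X.Modules} (e : M ≅ M') (h : Van B M') : Van B M := by
  intro q hq
  exact Groth.Agent.Helper1.SW.subsingleton_HH_of_iso
    ((DCoh.tensorRightMod B).mapIso e) q (h q hq)

end Van

section Main

variable [IsNoetherianRing A] [IsProper (X ↘ Spec (CommRingCat.of A))]
  (J : Ideal A) {XJ : Scheme.{u}} {i : XJ ⟶ X} {fJ : XJ ⟶ Spec (CommRingCat.of (A ⧸ J))}
  (hsq : IsPullback i fJ (X ↘ Spec (CommRingCat.of A))
    (Spec.map (CommRingCat.ofHom (Ideal.Quotient.mk J))))

include hsq in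
/-- uniform vanishing on the infinitesimal neighbourhoods -/
theorem exists_van_modPow (L : X.Modules) (hL : PicF.IsInvertible L)
    (hamp : CohB1.IsAmple ((Scheme.Modules.pullback i).obj L)) (F : X.Modules)
    (hF : Coh.IsCoh F) :
    ∃ d₀ : ℕ, ∀ n d : ℕ, d₀ ≤ d → Van (CohB1.tensorPow L d) (Formal.modPow J (n + 1) F) := by
  haveI : IsNoetherian X := Groth.Agent.Helper1.PropSuppFin.isNoetherian_X A X
  set G := Formal.completion J F with hGdef
  have hG : Formal.IsCohFormal J G := isCohFormal_completion J F hF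
  have hq := hasQuotTrans_of_isCohFormal hG
  have hk := hG.2.1
  obtain ⟨r, f, hf⟩ := Submodule.fg_iff_exists_fin_generating_family.1 (IsNoetherian.noetherian J)
  have hmem : ∀ j, f j ∈ J := fun j => by
    rw [← hf]
    exact Submodule.subset_span (Set.mem_range_self j)
  let a : Fin r → J := fun j => ⟨f j, hmem j⟩
  have ha : Ideal.span (Set.range fun j => (a j : A)) = J := hf
  have hFG := isFG_grObj G hk hq hG.1 a ha
  obtain ⟨d₁, hd₁⟩ := uniform_vanishing_class A hL (fun M => Formal.KilledBy J M)
    (fun φ hM _ => killedBy_of_mono (kernel.ι φ) hM)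
    (fun φ _ hN => killedBy_of_epi (cokernel.π φ) hN)
    (fun M hM hc => exists_van_of_killedBy J hsq L hL hamp M hc hM)
    r (grObj G hk hq a) hFG (fun n => killedBy_R G hk n)
  have hk0 : Formal.KilledBy J (G.obj (op 0)) := by
    have := hk 0
    rwa [zero_add, pow_one] at this
  obtain ⟨d₂, hd₂⟩ := exists_van_of_killedBy J hsq L hL hamp (G.obj (op 0)) (hG.1 0) hk0
  refine ⟨max d₁ d₂, fun n d hd => ?_⟩
  have hB : PicF.IsInvertible (CohB1.tensorPow L d) :=
    Groth.Agent.Helper4.TensorInv.isInvertible_tensorPow hL d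
  have key : ∀ n, Van (CohB1.tensorPow L d) (G.obj (op n)) := by
    intro n
    induction n with
    | zero => exact hd₂ d (le_trans (le_max_right _ _) hd)
    | succ n ih =>
      haveI : Epi (τ G n) := (hq n).epi
      obtain ⟨e⟩ := nonempty_kernel_iso (I := J) G hq n
      have h1 : Van (CohB1.tensorPow L d) (kernel (τ G n)) :=
        Van.of_iso (A := A) e (hd₁ n d (le_trans (le_max_left _ _) hd))
      exact Van.mid A hB (S := Groth.Agent.Helper1.Dev.kerSC (τ G n))
        (Groth.Agent.Helper1.Dev.kerSC_shortExact (τ G n)) h1 ih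
  exact key n

include hsq in
/-- **the local vanishing theorem** -/
theorem local_vanishing (hJ : J ≤ Ideal.jacobson ⊥) (L : X.Modules) (hL : PicF.IsInvertible L)
    (hamp : CohB1.IsAmple ((Scheme.Modules.pullback i).obj L)) (F : X.Modules)
    (hF : Coh.IsCoh F) :
    ∃ d₀ : ℕ, ∀ d : ℕ, d₀ ≤ d → ∀ q : ℕ, 1 ≤ q →
      Subsingleton (Coh.HH X (CohB1.tensorMod F (CohB1.tensorPow L d)) q) := by
  obtain ⟨d₀, hd₀⟩ := exists_van_modPow J hsq L hL hamp F hF
  refine ⟨d₀, fun d hd q hq => ?_⟩
  have hcoh : Coh.IsCoh (CohB1.tensorMod F (CohB1.tensorPow L d)) :=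
    Groth.Agent.Helper1.HP.isCoh_twistPow hL F hF d
  have hsub : ∀ n, Subsingleton (Formal.HHmodPow J (CohB1.tensorMod F (CohB1.tensorPow L d)) q n) :=
    fun n => Groth.Agent.Helper1.SW.subsingleton_HH_of_iso
      (modPowTensorIso J (n + 1) F (CohB1.tensorPow L d)) q (hd₀ n d hd q hq)
  haveI : Subsingleton (Formal.HHlim J (CohB1.tensorMod F (CohB1.tensorPow L d)) q) := by
    refine ⟨fun x y => ?_⟩
    apply Subtype.ext
    funext n
    exact (hsub n).elim _ _
  obtain ⟨φ⟩ := Groth.Agent.S0059.result A J X _ hcoh q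
  haveI : Subsingleton (AdicCompletion J
      (Coh.HH X (CohB1.tensorMod F (CohB1.tensorPow L d)) q)) := φ.toEquiv.subsingleton
  haveI : Module.Finite A (Coh.HH X (CohB1.tensorMod F (CohB1.tensorPow L d)) q) :=
    Groth.Agent.S0002.result A X _ hcoh q
  haveI : IsHausdorff J (Coh.HH X (CohB1.tensorMod F (CohB1.tensorPow L d)) q) :=
    IsHausdorff.of_le_jacobson J _ hJ
  exact (AdicCompletion.of_injective J
    (Coh.HH X (CohB1.tensorMod F (CohB1.tensorPow L d)) q)).subsingleton

end Main

end Groth.Agent.Helper1.LV
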