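import Mathlib
import Groth.Agent.Helper1.TW1
import Groth.Agent.Helper1.ClFF1

/-!
# TW2: the direct image along a closed immersion is fully faithful; the iterated pullback
functors of a tower of closed immersions
-/

set_option autoImplicit false
set_option linter.style.haveILetI false
set_option linter.unusedSectionVars false

universe u

open CategoryTheory CategoryTheory.Limits AlgebraicGeometry Opposite

namespace Groth.Agent.Helper1.TW

section Closed

variable {Z X : Scheme.{u}} (i : Z ⟶ X) [IsClosedImmersion i]

instance full_pushforward : (Scheme.Modules.pushforward i).Full :=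
  ⟨fun g => Groth.Agent.Helper1.ClFF.exists_preimage i g⟩

instance faithful_pushforward : (Scheme.Modules.pushforward i).Faithful :=
  ⟨fun h => Groth.Agent.Helper1.ClFF.map_injective i h⟩

/-- the counit `i^* i_* N ⟶ N` of a closed immersion is an isomorphism -/
instance isIso_counit_app (N : Z.Modules) :
    IsIso ((Scheme.Modules.pullbackPushforwardAdjunction i).counit.app N) :=
  inferInstance

end Closed

section Tower

variable {Xs : ℕ → Scheme.{u}} (i : ∀ k, Xs k ⟶ Xs (k + 1))

/-- the iterated pullback to the bottom of the tower -/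
noncomputable def Φ : (k : ℕ) → (Xs k).Modules ⥤ (Xs 0).Modules
  | 0 => 𝟭 _
  | k + 1 => Scheme.Modules.pullback (i k) ⋙ Φ k

/-- the iterated direct image from the bottom of the tower -/
noncomputable def Ψ : (k : ℕ) → (Xs 0).Modules ⥤ (Xs k).Modules
  | 0 => 𝟭 _
  | k + 1 => Ψ k ⋙ Scheme.Modules.pushforward (i k)

/-- the adjunction between the iterated pullback and the iterated direct image -/
noncomputable def adjΦ : (k : ℕ) → (Φ i k ⊣ Ψ i k)
  | 0 => Adjunction.id
  | k + 1 => (Scheme.Modules.pullbackPushforwardAdjunction (i k)).comp (adjΦ k)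

lemma Φ_succ_obj (k : ℕ) (M : (Xs (k + 1)).Modules) :
    (Φ i (k + 1)).obj M = (Φ i k).obj ((Scheme.Modules.pullback (i k)).obj M) := rfl

lemma Φ_succ_map (k : ℕ) {M N : (Xs (k + 1)).Modules} (f : M ⟶ N) :
    (Φ i (k + 1)).map f = (Φ i k).map ((Scheme.Modules.pullback (i k)).map f) := rfl

instance additive_Φ (k : ℕ) : (Φ i k).Additive := by
  induction k with
  | zero => exact inferInstanceAs (𝟭 _ : (Xs 0).Modules ⥤ (Xs 0).Modules).Additive
  | succ k ih =>
    haveI := ih
    haveI : (Scheme.Modules.pullback (i k)).Additive :=
      (Scheme.Modules.pullbackPushforwardAdjunction (i k)).left_adjoint_additive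
    exact inferInstanceAs (Scheme.Modules.pullback (i k) ⋙ Φ i k).Additive

end Tower

end Groth.Agent.Helper1.TW
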