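import Mathlib
import Groth.Agent.Helper1.TW2
import Groth.Agent.Helper1.GrSh1

/-!
# TW3: the graded object `(J^(n+1) F_(n+1))_n` on the bottom of a tower of thickenings
-/

set_option autoImplicit false
set_option linter.style.haveILetI false
set_option linter.unusedSectionVars false

universe u

open CategoryTheory CategoryTheory.Limits AlgebraicGeometry Opposite

namespace Groth.Agent.Helper1.TW

open Groth.Agent.Helper1.Form Groth.Agent.Helper1.GrSh

variable {A : Type u} [CommRing A] {J : Ideal A}
  {Xs : ℕ → Scheme.{u}} [∀ k, (Xs k).Over (Spec (CommRingCat.of A))]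
  {i : ∀ k, Xs k ⟶ Xs (k + 1)} [∀ k, (i k).IsOver (Spec (CommRingCat.of A))]
  [∀ k, IsClosedImmersion (i k)]
  {F : ∀ k, (Xs k).Modules}
  {u : ∀ k, F (k + 1) ⟶ (Scheme.Modules.pushforward (i k)).obj (F k)}
  (hu : ∀ k, IsQuot (J ^ (k + 1)) (u k))
  (hk : ∀ k, Formal.KilledBy (J ^ (k + 1)) (F k))

include hk in
lemma hk' (k : ℕ) : Formal.KilledBy (J ^ (k + 1) * J) (F (k + 1)) := by
  rw [← pow_succ]
  exact hk (k + 1)

/-- the operators on the tower -/
noncomputable def Tq (a : J) (k : ℕ) :
    (Scheme.Modules.pushforward (i (k + 1))).obj (kernel (u k)) ⟶ kernel (u (k + 1)) :=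
  Tp (hu k) (hk' hk k) (hu (k + 1)) (hk' hk (k + 1)) a

lemma Tq_comm (a b : J) (k : ℕ) :
    (Scheme.Modules.pushforward (i (k + 1 + 1))).map (Tq hu hk b k) ≫ Tq hu hk a (k + 1) =
      (Scheme.Modules.pushforward (i (k + 1 + 1))).map (Tq hu hk a k) ≫ Tq hu hk b (k + 1) :=
  Tp_comm (hu k) (hk' hk k) (hu (k + 1)) (hk' hk (k + 1)) (hu (k + 1 + 1))
    (hk' hk (k + 1 + 1)) a b

/-- the operators, transposed -/
noncomputable def t (a : J) (k : ℕ) :
    kernel (u k) ⟶ (Scheme.Modules.pullback (i (k + 1))).obj (kernel (u (k + 1))) :=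
  inv ((Scheme.Modules.pullbackPushforwardAdjunction (i (k + 1))).counit.app (kernel (u k))) ≫
    (Scheme.Modules.pullback (i (k + 1))).map (Tq hu hk a k)

lemma t_comm (a b : J) (k : ℕ) :
    t hu hk b k ≫ (Scheme.Modules.pullback (i (k + 1))).map (t hu hk a (k + 1)) =
      t hu hk a k ≫ (Scheme.Modules.pullback (i (k + 1))).map (t hu hk b (k + 1)) := by
  have key : ∀ a b : J,
      t hu hk b k ≫ (Scheme.Modules.pullback (i (k + 1))).map (t hu hk a (k + 1)) =
      inv ((Scheme.Modules.pullbackPushforwardAdjunction (i (k + 1))).counit.app (kernel (u k))) ≫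
        (Scheme.Modules.pullback (i (k + 1))).map
          (inv ((Scheme.Modules.pullbackPushforwardAdjunction (i (k + 1 + 1))).counit.app
              ((Scheme.Modules.pushforward (i (k + 1))).obj (kernel (u k)))) ≫
            (Scheme.Modules.pullback (i (k + 1 + 1))).map
              ((Scheme.Modules.pushforward (i (k + 1 + 1))).map (Tq hu hk b k) ≫
                Tq hu hk a (k + 1))) := by
    intro a b
    have hnat : Tq hu hk b k ≫
        inv ((Scheme.Modules.pullbackPushforwardAdjunction (i (k + 1 + 1))).counit.app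
          (kernel (u (k + 1)))) =
        inv ((Scheme.Modules.pullbackPushforwardAdjunction (i (k + 1 + 1))).counit.app
              ((Scheme.Modules.pushforward (i (k + 1))).obj (kernel (u k)))) ≫
          (Scheme.Modules.pullback (i (k + 1 + 1))).map
            ((Scheme.Modules.pushforward (i (k + 1 + 1))).map (Tq hu hk b k)) := by
      rw [IsIso.eq_inv_comp, ← Category.assoc, IsIso.comp_inv_eq]
      exact ((Scheme.Modules.pullbackPushforwardAdjunction (i (k + 1 + 1))).counit.naturality
        (Tq hu hk b k)).symm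
    unfold t
    rw [Category.assoc, ← Functor.map_comp, ← Category.assoc (Tq hu hk b k), hnat,
      Category.assoc, ← Functor.map_comp]
  rw [key a b, key b a, Tq_comm]

/-- **the graded object on the bottom of the tower** -/
noncomputable def grObj {r : ℕ} (a : Fin r → J) : GrObj (Xs 0) r where
  G n := (Φ i (n + 1)).obj (kernel (u n))
  T j n := (Φ i (n + 1)).map (t hu hk (a j) n)
  comm j j' n := by
    show (Φ i (n + 1)).map (t hu hk (a j') n) ≫
        (Φ i (n + 1)).map ((Scheme.Modules.pullback (i (n + 1))).map (t hu hk (a j) (n + 1))) =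
      (Φ i (n + 1)).map (t hu hk (a j) n) ≫
        (Φ i (n + 1)).map ((Scheme.Modules.pullback (i (n + 1))).map (t hu hk (a j') (n + 1)))
    rw [← Functor.map_comp, ← Functor.map_comp, t_comm]

end Groth.Agent.Helper1.TW
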