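import Mathlib
import Groth.Agent.Helper1.TW3
import Groth.Agent.Helper1.QV5
import Groth.Agent.Helper1.Dev6
import Groth.Agent.Lead.PerfLib5

/-!
# TW4: the graded object on the bottom of a tower of thickenings is finitely generated
-/

set_option autoImplicit false
set_option linter.style.haveILetI false
set_option linter.unusedSectionVars false

universe u

open CategoryTheory CategoryTheory.Limits AlgebraicGeometry Opposite

namespace Groth.Agent.Helper1.TW

open Groth.Agent.Helper1.Form Groth.Agent.Helper1.GrSh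

variable {A : Type u} [CommRing A] {J : Ideal A}
  {Xs : ℕ → Scheme.{u}} [∀ k, (Xs k).Over (Spec (CommRingCat.of A))]
  {i : ∀ k, Xs k ⟶ Xs (k + 1)} [∀ k, (i k).IsOver (Spec (CommRingCat.of A))]
  [∀ k, IsClosedImmersion (i k)]
  {F : ∀ k, (Xs k).Modules}
  {u : ∀ k, F (k + 1) ⟶ (Scheme.Modules.pushforward (i k)).obj (F k)}
  (hu : ∀ k, IsQuot (J ^ (k + 1)) (u k))
  (hk : ∀ k, Formal.KilledBy (J ^ (k + 1)) (F k))

lemma homEquiv_zero {C D : Type*} [Category C] [Category D] [Preadditive C] [Preadditive D]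
    {L : C ⥤ D} {R : D ⥤ C} (adj : L ⊣ R) [R.Additive] (X : C) (Y : D) :
    adj.homEquiv X Y 0 = 0 := by
  rw [Adjunction.homEquiv_unit, Functor.map_zero, comp_zero]

instance additive_Ψ (k : ℕ) : (Ψ i k).Additive := by
  induction k with
  | zero => exact inferInstanceAs (𝟭 _ : (Xs 0).Modules ⥤ (Xs 0).Modules).Additive
  | succ k ih =>
    haveI := ih
    exact inferInstanceAs (Ψ i k ⋙ Scheme.Modules.pushforward (i k)).Additive

theorem jointlyEpi_grObj [IsNoetherianRing A] {r : ℕ} (a : Fin r → J)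
    (ha : Ideal.span (Set.range fun j => (a j : A)) = J) (n : ℕ) :
    JointlyEpi (grObj hu hk a) n := by
  intro Q f hf
  change (Φ i (n + 1)).obj ((Scheme.Modules.pullback (i (n + 1))).obj (kernel (u (n + 1)))) ⟶ Q
    at f
  change ∀ j, (Φ i (n + 1)).map (t hu hk (a j) n) ≫ f = 0 at hf
  show f = 0
  obtain ⟨s, c₀, hc₀⟩ := Submodule.fg_iff_exists_fin_generating_family.1
    (IsNoetherian.noetherian (J ^ (n + 1)))
  have hmem : ∀ l, c₀ l ∈ J ^ (n + 1) := fun l => by
    rw [← hc₀]
    exact Submodule.subset_span (Set.mem_range_self l)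
  let c : Fin s → ↥(J ^ (n + 1)) := fun l => ⟨c₀ l, hmem l⟩
  have hc : Ideal.span (Set.range fun l => (c l : A)) = J ^ (n + 1) := hc₀
  let adj := adjΦ i (n + 1)
  let adj1 := Scheme.Modules.pullbackPushforwardAdjunction (i (n + 1))
  set f1 := adj.homEquiv _ _ f with hf1
  set f2 := adj1.homEquiv _ _ f1 with hf2
  have h1 : ∀ j, t hu hk (a j) n ≫ f1 = 0 := by
    intro j
    rw [hf1, ← Adjunction.homEquiv_naturality_left, hf j]
    exact homEquiv_zero adj _ _
  have h2 : ∀ j, Tq hu hk (a j) n ≫ f2 = 0 := by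
    intro j
    rw [hf2, ← Adjunction.homEquiv_naturality_left]
    have h3 : (Scheme.Modules.pullback (i (n + 1))).map (Tq hu hk (a j) n) ≫ f1 = 0 := by
      have := h1 j
      unfold t at this
      rw [Category.assoc, IsIso.inv_comp_eq, comp_zero] at this
      exact this
    rw [h3]
    exact homEquiv_zero adj1 _ _
  have h4 : f2 = 0 :=
    jointly_epi (hu n) (hk' hk n) (hu (n + 1)) (hk' hk (n + 1)) c hc a ha (pow_succ J (n + 1))
      f2 h2
  have h5 : f1 = 0 := by
    apply (adj1.homEquiv _ _).injective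
    rw [← hf2, h4]
    exact (homEquiv_zero adj1 _ _).symm
  apply (adj.homEquiv _ _).injective
  rw [← hf1, h5]
  exact (homEquiv_zero adj _ _).symm

/-- the iterated pullback preserves coherence -/
theorem isCoh_Φ (k : ℕ) (M : (Xs k).Modules) (hM : Coh.IsCoh M) : Coh.IsCoh ((Φ i k).obj M) := by
  induction k with
  | zero => exact hM
  | succ k ih => exact ih _ (Groth.Agent.Helper1.Dev.isCoh_pullback (i k) M hM)

theorem isFG_grObj [IsNoetherianRing A] [∀ k, IsLocallyNoetherian (Xs k)]
    (hF : ∀ k, Coh.IsCoh (F k)) {r : ℕ} (a : Fin r → J)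
    (ha : Ideal.span (Set.range fun j => (a j : A)) = J) : IsFG (grObj hu hk a) where
  coh n := isCoh_Φ (n + 1) _ (Groth.Agent.Lead.PerfLib.isCoh_kernel (hF (n + 1))
    (Groth.Agent.Helper1.QV.isCoh_pushforward_closedImmersion (i n) (F n) (hF n)) _)
  gen := ⟨0, fun n _ => jointlyEpi_grObj hu hk a ha n⟩

end Groth.Agent.Helper1.TW
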