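import Mathlib
import Groth.Agent.Helper1.TW4
import Groth.Agent.Helper1.LV3
import Groth.Agent.Helper4.AmpleIso

/-!
# TW5: transfer of the vanishing of higher cohomology along a tower of thickenings
-/

set_option autoImplicit false
set_option linter.style.haveILetI false
set_option linter.unusedSectionVars false

universe u

open CategoryTheory CategoryTheory.Limits AlgebraicGeometry Opposite

namespace Groth.Agent.Helper1.TW

open Groth.Agent.Helper1.Form Groth.Agent.Helper1.GrSh Groth.Agent.Helper1.GrVan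

section Push

variable (A : Type u) [CommRing A] {X Z : Scheme.{u}} [X.Over (Spec (CommRingCat.of A))]
  (i : Z ⟶ X) [IsAffineHom i]

include A in
/-- vanishing passes to the direct image along an affine morphism -/
theorem van_push {N : Z.Modules} [N.IsQuasicoherent] {B : X.Modules} (hB : PicF.IsInvertible B)
    {B' : Z.Modules} [B'.IsQuasicoherent] (e : (Scheme.Modules.pullback i).obj B ≅ B')
    (h : Van B' N) : Van B ((Scheme.Modules.pushforward i).obj N) := by
  intro q hq
  have ε : CohB1.tensorMod ((Scheme.Modules.pushforward i).obj N) B ≅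
      (Scheme.Modules.pushforward i).obj (CohB1.tensorMod N B') :=
    Groth.Agent.Helper1.PF.projIso i N B hB ≪≫
      (Scheme.Modules.pushforward i).mapIso (PicGrp.tensorModIso (Iso.refl N) e)
  haveI : Coh.IsQCoh (CohB1.tensorMod N B') :=
    Groth.Agent.Lead.QcohTensor.isQuasicoherent_tensorMod N B'
  obtain ⟨eq⟩ := Groth.Agent.Helper4.SN.nonempty_HH_equiv_push A i (CohB1.tensorMod N B') q
  haveI := h q hq
  exact Groth.Agent.Helper1.SW.subsingleton_HH_of_iso ε q eq.symm.subsingleton

end Push

variable {A : Type u} [CommRing A] {J : Ideal A}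
  {Xs : ℕ → Scheme.{u}} [∀ k, (Xs k).Over (Spec (CommRingCat.of A))]
  {i : ∀ k, Xs k ⟶ Xs (k + 1)} [∀ k, (i k).IsOver (Spec (CommRingCat.of A))]
  [∀ k, IsClosedImmersion (i k)]
  (hkill : ∀ (k : ℕ) (N : (Xs (k + 1)).Modules), Formal.KilledBy (J ^ (k + 1)) N →
    Groth.Agent.Lead.Thick.Kills (i k) N 1)
  {L : ∀ k, (Xs k).Modules} (hL : ∀ k, PicF.IsInvertible (L k))
  (φ : ∀ k, (Scheme.Modules.pullback (i k)).obj (L (k + 1)) ≅ L k)

include A hL φ in
/-- one step up the tower -/
theorem van_push_tower (k d : ℕ) (N : (Xs k).Modules) [N.IsQuasicoherent]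
    (h : Van (CohB1.tensorPow (L k) d) N) :
    Van (CohB1.tensorPow (L (k + 1)) d) ((Scheme.Modules.pushforward (i k)).obj N) := by
  haveI : (CohB1.tensorPow (L k) d).IsQuasicoherent :=
    (Groth.Agent.Helper1.SerreFin.isCoh_of_isInvertible _
      (Groth.Agent.Helper4.TensorInv.isInvertible_tensorPow (hL k) d)).1
  exact van_push A (i k) (Groth.Agent.Helper4.TensorInv.isInvertible_tensorPow (hL (k + 1)) d)
    (Groth.Agent.Helper4.PullTensor.pullPowIso (i k) (hL (k + 1)) d ≪≫
      Groth.Agent.Helper4.AmpleIso.tensorPowIso (φ k) d) h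

include hkill hL φ in
/-- a module killed by `J` has no higher cohomology if its restriction to the bottom has none -/
theorem van_of_van_Φ (d : ℕ) : ∀ (k : ℕ) (N : (Xs k).Modules), N.IsQuasicoherent →
    Formal.KilledBy J N → Van (CohB1.tensorPow (L 0) d) ((Φ i k).obj N) →
    Van (CohB1.tensorPow (L k) d) N := by
  intro k
  induction k with
  | zero => intro N _ _ h; exact h
  | succ k ih =>
    intro N hN hJ h
    haveI := hN
    have hJ' : Formal.KilledBy (J ^ (k + 1)) N :=
      killedBy_mono (Ideal.pow_le_self (Nat.succ_ne_zero k)) hJ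
    haveI := Groth.Agent.Lead.Thick.isIso_η_of_kills (i k) N (hkill k N hJ')
    haveI hq : ((Scheme.Modules.pullback (i k)).obj N).IsQuasicoherent :=
      Groth.Agent.Lead.StalkPull.isQuasicoherent_pullbackObj (i k) N
    have h1 : Van (CohB1.tensorPow (L k) d) ((Scheme.Modules.pullback (i k)).obj N) :=
      ih _ hq (killedBy_pullback hJ) h
    have h2 := van_push_tower (A := A) hL φ k d _ h1
    exact Groth.Agent.Helper1.LV.Van.of_iso (A := A)
      (asIso (Groth.Agent.Lead.Thick.η (i k) N)) h2

variable {F : ∀ k, (Xs k).Modules} [∀ k, (F k).IsQuasicoherent]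
  {u : ∀ k, F (k + 1) ⟶ (Scheme.Modules.pushforward (i k)).obj (F k)}
  (hu : ∀ k, IsQuot (J ^ (k + 1)) (u k))
  (hk : ∀ k, Formal.KilledBy (J ^ (k + 1)) (F k))

include hkill hL φ in
/-- **vanishing on the whole tower** from the bottom and the graded pieces -/
theorem van_tower {r : ℕ} (a : Fin r → J) (d : ℕ)
    (h0 : Van (CohB1.tensorPow (L 0) d) (F 0))
    (hG : ∀ n, Van (CohB1.tensorPow (L 0) d) ((grObj hu hk a).G n)) :
    ∀ k, Van (CohB1.tensorPow (L k) d) (F k) := by
  intro k
  induction k with
  | zero => exact h0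
  | succ k ih =>
    haveI : Epi (u k) := (hu k).epi
    haveI : ((Scheme.Modules.pushforward (i k)).obj (F k)).IsQuasicoherent :=
      Groth.Agent.Helper4.QcohGlue.isQuasicoherent_pushforward (i k) (F k)
    have hq : (kernel (u k)).IsQuasicoherent :=
      Groth.Agent.Helper4.QcohLimits.isQuasicoherent_kernel (u k)
    have h1 : Van (CohB1.tensorPow (L (k + 1)) d) (kernel (u k)) :=
      van_of_van_Φ hkill hL φ d (k + 1) _ hq (killedBy_kernel (hu k) (hk' hk k)) (hG k)
    have h3 := van_push_tower (A := A) hL φ k d _ ih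
    exact Van.mid A (Groth.Agent.Helper4.TensorInv.isInvertible_tensorPow (hL (k + 1)) d)
      (S := Groth.Agent.Helper1.Dev.kerSC (u k))
      (Groth.Agent.Helper1.Dev.kerSC_shortExact (u k)) h1 h3

end Groth.Agent.Helper1.TW
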