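import Mathlib
import Groth.Agent.Helper1.TW5
import Groth.Agent.Helper1.PicLoc1
import Groth.Agent.Helper1.QuotPush3
import Groth.Agent.Helper2.FThick

/-!
# TW6: uniform vanishing of the cohomology of the twists on an adic system of thickenings
(EGA III 5.2.3, levelwise form)
-/

set_option autoImplicit false
set_option linter.style.haveILetI false
set_option linter.unusedSectionVars false

universe u

open CategoryTheory CategoryTheory.Limits AlgebraicGeometry Opposite

namespace Groth.Agent.Helper1.TW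

open Groth.Agent.Helper1.Form Groth.Agent.Helper1.GrSh Groth.Agent.Helper1.GrVan
  Groth.Agent.Helper1.QuotPush

section Killed

variable {A : Type u} [CommRing A]

lemma toGlobal_specMap_mk_eq_zero (𝔟 : Ideal A) (a : A) (ha : a ∈ 𝔟) :
    Coh.toGlobal (Spec.map (CommRingCat.ofHom (Ideal.Quotient.mk 𝔟))) a = 0 := by
  have h1 : (Scheme.ΓSpecIso (CommRingCat.of A)).inv.hom a ∈
      RingHom.ker ((Spec.map (CommRingCat.ofHom (Ideal.Quotient.mk 𝔟))).app ⊤).hom := by
    rw [ker_specMap_appTop]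
    exact Ideal.mem_map_of_mem _ ha
  exact h1

/-- modules on a scheme over `Spec (A/𝔟)` are killed by `𝔟` -/
theorem killedBy_of_over_eq {X : Scheme.{u}} [X.Over (Spec (CommRingCat.of A))] (𝔟 : Ideal A)
    (g : X ⟶ Spec (CommRingCat.of (A ⧸ 𝔟)))
    (hg : X ↘ Spec (CommRingCat.of A) = g ≫ Spec.map (CommRingCat.ofHom (Ideal.Quotient.mk 𝔟)))
    (M : X.Modules) : Formal.KilledBy 𝔟 M := by
  intro a ha
  apply Scheme.Modules.hom_ext
  intro U
  ext m
  rw [smulMod_app]
  have h1 : ρ (A := A) U a = 0 := by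
    have h2 : Coh.toGlobal (X ↘ Spec (CommRingCat.of A)) a = 0 := by
      rw [hg, KLin.toGlobal_comp, toGlobal_specMap_mk_eq_zero 𝔟 a ha]
      exact map_zero g.appTop.hom
    show (Coh.resTop X (op U)) (Coh.toGlobal (X ↘ Spec (CommRingCat.of A)) a) = 0
    rw [h2]
    exact map_zero (Coh.resTop X (op U))
  rw [h1, zero_smul]
  rfl

end Killed

section Main

variable (A : Type u) [CommRing A] (J : Ideal A)
  (Xs : ℕ → Scheme.{u}) (p : (k : ℕ) → (Xs k ⟶ Spec (CommRingCat.of (A ⧸ J ^ (k + 1)))))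
  (i : (k : ℕ) → (Xs k ⟶ Xs (k + 1)))
  (hcart : ∀ k, IsPullback (i k) (p k) (p (k + 1)) (CohB1.specQuotTrans J k))

instance isClosedImmersion_specQuotTrans (k : ℕ) : IsClosedImmersion (CohB1.specQuotTrans J k) :=
  IsClosedImmersion.spec_of_surjective _
    (Ideal.Quotient.factor_surjective (Ideal.pow_le_pow_right (Nat.le_succ (k + 1))))

instance surjective_specQuotTrans (k : ℕ) : Surjective (CohB1.specQuotTrans J k) :=
  surjective_specMap_factor (Ideal.pow_le_pow_right (Nat.le_succ (k + 1))) 2 (by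
    rw [← pow_mul]
    exact Ideal.pow_le_pow_right (by omega))

instance isClosedImmersion_specQuot (k : ℕ) : IsClosedImmersion (CohB1.specQuot J k) :=
  IsClosedImmersion.spec_of_surjective _ Ideal.Quotient.mk_surjective

include hcart in
theorem isClosedImmersion_level (k : ℕ) : IsClosedImmersion (i k) :=
  Groth.Agent.Lead.ThickBC.isClosedImmersion_of_isPullback (hcart k)

include hcart in
theorem isProper_level [IsNoetherianRing A] (hp : IsProper (p 0)) : ∀ k, IsProper (p k) := by
  intro k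
  induction k with
  | zero => exact hp
  | succ k ih =>
    haveI := ih
    exact Groth.Agent.Helper2.FThick.isProper_of_isPullback (hcart k)

include hcart in
theorem isPullback_level (k : ℕ) :
    IsPullback (i k) (p k) (p (k + 1) ≫ CohB1.specQuot J (k + 1))
      (Spec.map (CommRingCat.ofHom (Ideal.Quotient.mk (J ^ (k + 1))))) := by
  have hlow : IsPullback (CohB1.specQuotTrans J k) (𝟙 _) (CohB1.specQuot J (k + 1))
      (CohB1.specQuot J k) :=
    IsPullback.of_vert_isIso_mono ⟨by rw [CohB1.specQuotTrans_specQuot, Category.id_comp]⟩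
  have := (hcart k).paste_vert hlow
  rwa [Category.comp_id] at this

include hcart in
/-- **uniform vanishing of the higher cohomology of the twists on an adic system of
thickenings** -/
theorem uniform_vanishing_tower [IsNoetherianRing A] (hp : IsProper (p 0))
    (L : (k : ℕ) → (Xs k).Modules) (hL : ∀ k, PicF.IsInvertible (L k))
    (φ : ∀ k, Nonempty ((Scheme.Modules.pullback (i k)).obj (L (k + 1)) ≅ L k))
    (ha : CohB1.IsAmple (L 0))
    (F : (k : ℕ) → (Xs k).Modules) (hF : ∀ k, Coh.IsCoh (F k))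
    (ψ : ∀ k, Nonempty ((Scheme.Modules.pullback (i k)).obj (F (k + 1)) ≅ F k)) :
    ∃ n₀ : ℕ, ∀ n : ℕ, n₀ ≤ n → ∀ k : ℕ, ∀ q : ℕ, 0 < q →
      Subsingleton (Coh.HH (Xs k) (CohB1.tensorMod (F k) (CohB1.tensorPow (L k) n)) q) := by
  letI instO : ∀ k, (Xs k).Over (Spec (CommRingCat.of A)) :=
    fun k => ⟨p k ≫ CohB1.specQuot J k⟩
  haveI instIO : ∀ k, (i k).IsOver (Spec (CommRingCat.of A)) := fun k => ⟨by
    show i k ≫ (p (k + 1) ≫ CohB1.specQuot J (k + 1)) = p k ≫ CohB1.specQuot J k
    rw [← Category.assoc, (hcart k).w, Category.assoc, CohB1.specQuotTrans_specQuot]⟩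
  haveI : ∀ k, IsClosedImmersion (i k) := isClosedImmersion_level A J Xs p i hcart
  haveI hprop : ∀ k, IsProper (p k) := isProper_level A J Xs p i hcart hp
  haveI : ∀ k, IsLocallyNoetherian (Xs k) :=
    fun k => LocallyOfFiniteType.isLocallyNoetherian (p k)
  have hsq : ∀ k, IsPullback (i k) (p k) (Xs (k + 1) ↘ Spec (CommRingCat.of A))
      (Spec.map (CommRingCat.ofHom (Ideal.Quotient.mk (J ^ (k + 1))))) :=
    isPullback_level A J Xs p i hcart
  haveI : ∀ k, (F k).IsQuasicoherent := fun k => (hF k).1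
  let ψ' := fun k => (ψ k).some
  let φ' := fun k => (φ k).some
  let u : ∀ k, F (k + 1) ⟶ (Scheme.Modules.pushforward (i k)).obj (F k) := fun k =>
    Groth.Agent.Helper1.PicLoc.unitN (i k) (F (k + 1)) ≫
      (Scheme.Modules.pushforward (i k)).map (ψ' k).hom
  have hu : ∀ k, IsQuot (J ^ (k + 1)) (u k) := fun k =>
    (Groth.Agent.Helper1.PicLoc.isQuot_unitN (J ^ (k + 1)) (hsq k) (F (k + 1))).comp_iso _
  have hk : ∀ k, Formal.KilledBy (J ^ (k + 1)) (F k) :=
    fun k => killedBy_of_over_eq (J ^ (k + 1)) (p k) rfl (F k)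
  have hkill : ∀ (k : ℕ) (N : (Xs (k + 1)).Modules), Formal.KilledBy (J ^ (k + 1)) N →
      Groth.Agent.Lead.Thick.Kills (i k) N 1 :=
    fun k N h => Groth.Agent.Helper1.LV.kills_of_killedBy (J ^ (k + 1)) (hsq k) N h
  obtain ⟨r, f, hf⟩ := Submodule.fg_iff_exists_fin_generating_family.1 (IsNoetherian.noetherian J)
  have hmem : ∀ j, f j ∈ J := fun j => by
    rw [← hf]
    exact Submodule.subset_span (Set.mem_range_self j)
  let a : Fin r → J := fun j => ⟨f j, hmem j⟩
  have ha' : Ideal.span (Set.range fun j => (a j : A)) = J := hf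
  have hFG := isFG_grObj hu hk hF a ha'
  haveI : IsProper (Xs 0 ↘ Spec (CommRingCat.of A)) := by
    show IsProper (p 0 ≫ CohB1.specQuot J 0)
    infer_instance
  haveI : CompactSpace (Xs 0) :=
    QuasiCompact.compactSpace_of_compactSpace (Xs 0 ↘ Spec (CommRingCat.of A))
  haveI : IsNoetherian (Xs 0) := {}
  obtain ⟨d₁, hd₁⟩ := uniform_vanishing A ha r (grObj hu hk a) hFG
  obtain ⟨d₂, hd₂⟩ := Groth.Agent.Helper1.SV.serre_vanishing A
    (Xs 0 ↘ Spec (CommRingCat.of A)) ha (F 0) (hF 0)
  refine ⟨max d₁ d₂, fun n hn k q hq => ?_⟩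
  exact van_tower hkill hL φ' hu hk a n
    (fun q hq => hd₂ n (le_trans (le_max_right _ _) hn) q hq)
    (fun m => hd₁ m n (le_trans (le_max_left _ _) hn)) k q hq

end Main

end Groth.Agent.Helper1.TW
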