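import Mathlib
import Groth.Agent.Helper1.AZ3
import Groth.Agent.Helper1.TW6
import Groth.Agent.Helper1.HB4
import Groth.Agent.Lead.GExF
import Groth.Agent.Lead.CartSecA
import Groth.Agent.Lead.QuotSeq

/-!
# AZ4: algebraization of a closed formal subscheme of a scheme proper over a complete ring and
carrying an ample invertible module
-/

set_option autoImplicit false
set_option linter.style.haveILetI false
set_option linter.unusedSectionVars false

universe u

open CategoryTheory CategoryTheory.Limits AlgebraicGeometry Opposite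

namespace Groth.Agent.Helper1.AZ

open Groth.Agent.Helper1.Form Groth.Agent.Helper1.TW Groth.Agent.Helper1.QuotPush
  Groth.Agent.Helper1.ZarIso

section Unit

variable {X₀ X' X : Scheme.{u}}

/-- functoriality of `O ⟶ f_* O`, with a propositional equality of the composite -/
lemma unitToPush_comp_congr (t : X₀ ⟶ X') (i' : X' ⟶ X) (h : X₀ ⟶ X) (e : t ≫ i' = h) :
    unitToPush i' ≫ (Scheme.Modules.pushforward i').map (unitToPush t) ≫
      (Scheme.Modules.pushforwardComp t i').hom.app (Coh.structureModule X₀) ≫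
        (Scheme.Modules.pushforwardCongr e).hom.app (Coh.structureModule X₀) = unitToPush h := by
  subst e
  have h : (Scheme.Modules.pushforwardCongr (rfl : t ≫ i' = t ≫ i')).hom.app
      (Coh.structureModule X₀) = 𝟙 _ := by
    ext U x
    simp
  rw [h, Category.comp_id]
  exact unitToPush_pushMap t i'

/-- a factorization of the maps `O ⟶ f_* O` gives an inclusion of kernels -/
theorem ker_le_of_factor {Y X₁ X₂ : Scheme.{u}} (a : X₁ ⟶ Y) (a' : X₂ ⟶ Y) [QuasiCompact a]
    [QuasiCompact a']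
    (γ : (Scheme.Modules.pushforward a).obj (Coh.structureModule X₁) ⟶
      (Scheme.Modules.pushforward a').obj (Coh.structureModule X₂))
    (hγ : unitToPush a ≫ γ = unitToPush a') : a.ker ≤ a'.ker := by
  rw [Scheme.IdealSheafData.le_def]
  intro U g hg
  rw [Scheme.Hom.ker_apply, RingHom.mem_ker] at hg ⊢
  have h1 : γ.app U.1 ((unitToPush a).app U.1 (show Γ(Coh.structureModule Y, U.1) from g)) =
      (unitToPush a').app U.1 (show Γ(Coh.structureModule Y, U.1) from g) :=
    congrArg (fun ψ => Scheme.Modules.Hom.app ψ U.1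
      (show Γ(Coh.structureModule Y, U.1) from g)) hγ
  rw [unitToPush_app, unitToPush_app, hg] at h1
  exact h1.symm.trans (map_zero (γ.app U.1).hom)

end Unit

variable (A : Type u) [CommRing A] [IsNoetherianRing A] (I : Ideal A) [IsAdicComplete I A]
  {T : Scheme.{u}} [T.Over (Spec (CommRingCat.of A))] [IsProper (T ↘ Spec (CommRingCat.of A))]
  {LT : T.Modules} (hLT : CohB1.IsAmple LT)
  (Xs : ℕ → Scheme.{u}) (p : (k : ℕ) → (Xs k ⟶ Spec (CommRingCat.of (A ⧸ I ^ (k + 1)))))
  (i : (k : ℕ) → (Xs k ⟶ Xs (k + 1)))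
  (hcart : ∀ k, IsPullback (i k) (p k) (p (k + 1)) (CohB1.specQuotTrans I k))
  (c : (k : ℕ) → (Xs k ⟶ T)) (hcl : ∀ k, IsClosedImmersion (c k))
  (hcp : ∀ k, c k ≫ (T ↘ Spec (CommRingCat.of A)) = p k ≫ CohB1.specQuot I k)
  (hc : ∀ k, i k ≫ c (k + 1) = c k)

include hLT hcart hcl hcp hc in
/-- **algebraization of a closed formal subscheme** -/
theorem exists_algebraization_closed :
    ∃ (Y : Scheme.{u}) (j : Y ⟶ T) (e : (k : ℕ) → (Xs k ⟶ Y)), IsClosedImmersion j ∧
      (∀ k, e k ≫ j = c k) ∧ (∀ k, e k = i k ≫ e (k + 1)) ∧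
      ∀ k, IsPullback (e k) (p k) (j ≫ (T ↘ Spec (CommRingCat.of A))) (CohB1.specQuot I k) := by
  letI instO : ∀ k, (Xs k).Over (Spec (CommRingCat.of A)) :=
    fun k => ⟨p k ≫ CohB1.specQuot I k⟩
  haveI instC : ∀ k, (c k).IsOver (Spec (CommRingCat.of A)) := fun k => ⟨hcp k⟩
  haveI := hcl
  haveI : IsLocallyNoetherian T :=
    LocallyOfFiniteType.isLocallyNoetherian (T ↘ Spec (CommRingCat.of A))
  have hsq : ∀ k, IsPullback (i k) (p k) (Xs (k + 1) ↘ Spec (CommRingCat.of A))
      (Spec.map (CommRingCat.ofHom (Ideal.Quotient.mk (I ^ (k + 1))))) :=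
    isPullback_level A I Xs p i hcart
  let N : ∀ k, (Xs k).Modules := fun k => Coh.structureModule (Xs k)
  let u : ∀ k, N (k + 1) ⟶ (Scheme.Modules.pushforward (i k)).obj (N k) :=
    fun k => unitToPush (i k)
  have hu : ∀ k, IsQuot (I ^ (k + 1)) (u k) := fun k => isQuot_unitToPush (I ^ (k + 1)) (hsq k)
  have hk : ∀ k, Formal.KilledBy (I ^ (k + 1)) (N k) :=
    fun k => killedBy_of_over_eq (I ^ (k + 1)) (p k) rfl (N k)
  have hN : ∀ k, Coh.IsCoh (N k) := fun k => Groth.Agent.Helper1.Dev.isCoh_structureModule _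
  let G : ℕᵒᵖ ⥤ T.Modules := towSys i c hc N u
  have hG : Formal.IsCohFormal I G := isCohFormal_towSys I i c hc N u hN hk hu
  obtain ⟨M, hM, ⟨ε⟩⟩ := Groth.Agent.Lead.GEx.exists_algebraization I hLT G hG
  have hO : Coh.IsCoh (Coh.structureModule T) := Groth.Agent.Helper1.Dev.isCoh_structureModule T
  haveI : (Coh.structureModule T).IsQuasicoherent := hO.1
  haveI : M.IsQuasicoherent := hM.1
  -- the maps from the structure sheaf
  let ρ : ∀ k : ℕ, Coh.structureModule T ⟶ (Scheme.Modules.pushforward (c k)).obj (N k) :=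
    fun k => unitToPush (c k)
  have hρ : ∀ k, ρ (k + 1) ≫ G.map (homOfLE (Nat.le_add_right k 1)).op = ρ k := by
    intro k
    have h1 : G.map (homOfLE (Nat.le_add_right k 1)).op = towTr i c hc N u k :=
      towSys_map_succ i c hc N u k
    rw [h1]
    exact unitToPush_comp_congr (i k) (c (k + 1)) (c k) (hc k)
  obtain ⟨π, hπ⟩ := Groth.Agent.Lead.GEx.exists_completion_hom (I := I)
    (Coh.structureModule T) G hG.2.1 ρ hρ
  obtain ⟨φ, hφ, -⟩ := Groth.Agent.Helper1.HomCompl.main_proper I (Coh.structureModule T) M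
    hO hM (π ≫ ε.inv)
  let εk : ∀ k : ℕ, Formal.modPow I (k + 1) M ≅ (Scheme.Modules.pushforward (c k)).obj (N k) :=
    fun k => ε.app (op k)
  have star : ∀ n, φ ≫ Formal.modPowπ I (n + 1) M ≫ (εk n).hom = ρ n := by
    intro n
    have h1 := hφ n
    have h2 : ε.inv.app (op n) ≫ ε.hom.app (op n) = 𝟙 _ := by
      rw [← NatTrans.comp_app, ε.inv_hom_id, NatTrans.id_app]
    have h3 : (π ≫ ε.inv).app (op n) ≫ ε.hom.app (op n) = π.app (op n) := by
      rw [NatTrans.comp_app, Category.assoc, h2, Category.comp_id]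
    have e1 : φ ≫ Formal.modPowπ I (n + 1) M ≫ (εk n).hom =
        (φ ≫ Formal.modPowπ I (n + 1) M) ≫ ε.hom.app (op n) := (Category.assoc _ _ _).symm
    have e2 : (φ ≫ Formal.modPowπ I (n + 1) M) ≫ ε.hom.app (op n) =
        (Formal.modPowπ I (n + 1) (Coh.structureModule T) ≫ (π ≫ ε.inv).app (op n)) ≫
            ε.hom.app (op n) := congrArg (fun z => z ≫ ε.hom.app (op n)) h1.symm
    have e3 : (Formal.modPowπ I (n + 1) (Coh.structureModule T) ≫ (π ≫ ε.inv).app (op n)) ≫
            ε.hom.app (op n) = Formal.modPowπ I (n + 1) (Coh.structureModule T) ≫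
            ((π ≫ ε.inv).app (op n) ≫ ε.hom.app (op n)) := Category.assoc _ _ _
    have e4 : Formal.modPowπ I (n + 1) (Coh.structureModule T) ≫
            ((π ≫ ε.inv).app (op n) ≫ ε.hom.app (op n)) =
          Formal.modPowπ I (n + 1) (Coh.structureModule T) ≫ π.app (op n) :=
      congrArg (fun z => Formal.modPowπ I (n + 1) (Coh.structureModule T) ≫ z) h3
    exact e1.trans (e2.trans (e3.trans (e4.trans (hπ n))))
  -- `φ` is an epimorphism
  haveI hφepi : Epi φ := by
    apply epi_of_epi_comp_modPowπ I hO hM φ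
    haveI : Epi (ρ 0) := by
      show Epi (unitToPush (c 0))
      rw [← clSub_unitToPush_eq]
      exact Groth.Agent.Helper1.HB.epi_unitToPush (c 0)
    have h1 : (φ ≫ Formal.modPowπ I 1 M) ≫ (εk 0).hom = ρ 0 :=
      (Category.assoc _ _ _).trans (star 0)
    haveI : Epi ((φ ≫ Formal.modPowπ I 1 M) ≫ (εk 0).hom) := by
      rw [h1]; infer_instance
    have h2 : φ ≫ Formal.modPowπ I 1 M =
        ((φ ≫ Formal.modPowπ I 1 M) ≫ (εk 0).hom) ≫ (εk 0).inv := by
      rw [Category.assoc, Iso.hom_inv_id, Category.comp_id]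
    rw [h2]
    infer_instance
  -- the ideal
  haveI : (kernel φ).IsQuasicoherent :=
    Groth.Agent.Helper4.QcohLimits.isQuasicoherent_kernel φ
  obtain ⟨D, -, e₀, he₀⟩ := Groth.Agent.Lead.CartSec.exists_ideal_of_mono (kernel.ι φ)
  haveI : Epi (ClSub.toSubscheme D) := Groth.Agent.Lead.QuotSeq.epi_toSubscheme D
  obtain ⟨μ, hμ⟩ := exists_iso_of_kernel_iso φ (ClSub.toSubscheme D) e₀ he₀
  let j : D.subscheme ⟶ T := D.subschemeι
  have hμ' : φ ≫ μ.hom = unitToPush j := by
    rw [hμ]
    exact clSub_unitToPush_eq j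
  -- the factorizations
  have H : ∀ k, j.ker ≤ (c k).ker := by
    intro k
    refine ker_le_of_factor j (c k)
      (μ.inv ≫ Formal.modPowπ I (k + 1) M ≫ (εk k).hom) ?_
    rw [← hμ', Category.assoc, Iso.hom_inv_id_assoc]
    exact star k
  let e : ∀ k, Xs k ⟶ D.subscheme := fun k => IsClosedImmersion.lift j (c k) (H k)
  have hej : ∀ k, e k ≫ j = c k := fun k => IsClosedImmersion.lift_fac j (c k) (H k)
  refine ⟨D.subscheme, j, e, inferInstance, hej, fun k => ?_, fun k => ?_⟩
  · rw [← cancel_mono j, hej, Category.assoc, hej, hc]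
  · -- the cartesian square
    letI instY : (D.subscheme).Over (Spec (CommRingCat.of A)) :=
      ⟨j ≫ (T ↘ Spec (CommRingCat.of A))⟩
    haveI : j.IsOver (Spec (CommRingCat.of A)) := ⟨rfl⟩
    let g : D.subscheme ⟶ Spec (CommRingCat.of A) := j ≫ (T ↘ Spec (CommRingCat.of A))
    let b : pullback g (CohB1.specQuot I k) ⟶ D.subscheme := pullback.fst g (CohB1.specQuot I k)
    let q : pullback g (CohB1.specQuot I k) ⟶ Spec (CommRingCat.of (A ⧸ I ^ (k + 1))) :=
      pullback.snd g (CohB1.specQuot I k)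
    have hsqY : IsPullback b q (D.subscheme ↘ Spec (CommRingCat.of A))
        (Spec.map (CommRingCat.ofHom (Ideal.Quotient.mk (I ^ (k + 1))))) :=
      IsPullback.of_hasPullback g (CohB1.specQuot I k)
    have hb : IsQuot (I ^ (k + 1)) (unitToPush b) := isQuot_unitToPush (I ^ (k + 1)) hsqY
    haveI : IsClosedImmersion (CohB1.specQuot I k) := isClosedImmersion_specQuot A I k
    haveI : IsClosedImmersion b := inferInstanceAs (IsClosedImmersion (pullback.fst g _))
    letI instYk : (pullback g (CohB1.specQuot I k)).Over (Spec (CommRingCat.of A)) :=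
      ⟨b ≫ g⟩
    haveI : b.IsOver (Spec (CommRingCat.of A)) := ⟨rfl⟩
    have hP : IsQuot (I ^ (k + 1)) (pushMap b j) :=
      (isQuot_push j hb).comp_iso _
    have hQ1 : IsQuot (I ^ (k + 1)) (Formal.modPowπ I (k + 1) M ≫ (εk k).hom) :=
      (isQuot_modPowπ I (k + 1) M).comp_iso _
    have hQ2 : IsQuot (I ^ (k + 1)) (μ.hom ≫ pushMap b j) := hP.iso_comp _
    let θ := hQ1.iso hQ2
    have hθ : (Formal.modPowπ I (k + 1) M ≫ (εk k).hom) ≫ θ.hom = μ.hom ≫ pushMap b j :=
      hQ1.fac_iso_hom hQ2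
    have hθ' : unitToPush (c k) ≫ θ.hom = unitToPush (b ≫ j) := by
      have h1 : unitToPush (c k) = φ ≫ (Formal.modPowπ I (k + 1) M ≫ (εk k).hom) :=
        (star k).symm
      rw [h1, Category.assoc, hθ, ← Category.assoc, hμ']
      exact unitToPush_pushMap b j
    have hker : (b ≫ j).ker = (c k).ker := (ker_eq_of_iso (c k) (b ≫ j) θ hθ').symm
    let lam : Xs k ⟶ pullback g (CohB1.specQuot I k) :=
      IsClosedImmersion.lift (b ≫ j) (c k) hker.le
    haveI : IsIso lam := IsClosedImmersion.isIso_lift (b ≫ j) (c k) hker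
    have hlam : lam ≫ b ≫ j = c k := IsClosedImmersion.lift_fac (b ≫ j) (c k) hker.le
    have h1 : lam ≫ b = e k := by
      rw [← cancel_mono j, Category.assoc, hlam, hej]
    have h2 : lam ≫ q = p k := by
      rw [← cancel_mono (CohB1.specQuot I k), Category.assoc]
      have hcond : b ≫ g = q ≫ CohB1.specQuot I k := pullback.condition
      rw [← hcond, ← Category.assoc, h1, ← hcp k, ← hej k, Category.assoc]
    refine IsPullback.of_iso_pullback ⟨?_⟩ (asIso lam) h1 h2
    rw [← Category.assoc, hej, hcp]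

end Groth.Agent.Helper1.AZ
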