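import Mathlib
import Groth.Agent.Helper1.RpCoh
import Groth.Agent.Helper1.SerreE
import Groth.Agent.Helper1.RpCmpNat
import Groth.Agent.Helper9.SpRelExt
import Groth.Agent.Lead.OmegaSecD

/-!
# Vanishing of the stalks of higher direct images at points with finite fibre (proper morphisms)
-/

set_option autoImplicit false

namespace Groth.Agent.Helper1.FinFib

open CategoryTheory Limits AlgebraicGeometry Opposite TopologicalSpace

universe u

/-- module version of relative Serre vanishing -/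
theorem isZero_Rpush_of_isAffineHom {X S : Scheme.{u}} (f : X ⟶ S) [IsAffineHom f]
    [HasInjectiveResolutions X.Modules] (M : X.Modules) [M.IsQuasicoherent] (q : ℕ) :
    IsZero ((Coh.Rpush f (q + 1)).obj M) := by
  apply Groth.Agent.Helper9.SpRelExt.isZero_of_isZero_tA
  exact IsZero.of_iso (Groth.Agent.Helper1.Serre.isZero_RpushAb_of_isAffineHom f M q)
    ((Groth.Agent.Helper1.RpCmpNat.iso f (q + 1)).app M)

/-- a module vanishing on an open neighbourhood of `y` has zero stalk at `y` -/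
theorem isZero_stalk_of_isZero_restrict {Y : Scheme.{u}} (N : Y.Modules) (V : Y.Opens) (y : Y)
    (hy : y ∈ V) (h : IsZero (N.restrict V.ι)) :
    IsZero (TopCat.Presheaf.stalk (Coh.toAb N).obj y) := by
  refine @AddCommGrpCat.isZero_of_subsingleton _ ?_
  refine subsingleton_of_forall_eq 0 fun x => ?_
  obtain ⟨W, hW, s, rfl⟩ := TopCat.Presheaf.exists_germ_eq (Coh.toAb N).obj x
  have hle : V.ι ''ᵁ (V.ι ⁻¹ᵁ W) ≤ W := V.ι.image_preimage_le W
  have hmem : y ∈ V.ι ''ᵁ (V.ι ⁻¹ᵁ W) := by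
    rw [Scheme.Hom.image_preimage_eq_opensRange_inf, Scheme.Opens.opensRange_ι]
    exact ⟨hy, hW⟩
  haveI : Subsingleton Γ(N.restrict V.ι, V.ι ⁻¹ᵁ W) :=
    Groth.Agent.Lead.OmegaSecD.subsingleton_sections_of_isZero _ h _
  have hs : (Coh.toAb N).obj.map (homOfLE hle).op s = 0 :=
    Subsingleton.elim (α := Γ(N.restrict V.ι, V.ι ⁻¹ᵁ W)) _ _
  rw [← TopCat.Presheaf.germ_res_apply _ (homOfLE hle) y hmem s, hs, map_zero]

end Groth.Agent.Helper1.FinFib

namespace Groth.Agent.Helper1.FinFib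

open CategoryTheory Limits AlgebraicGeometry Opposite TopologicalSpace
open Groth.Agent.Helper4

universe u

/-- the stalk of `Rᵖ f_* M` (`p > 0`) vanishes at points with finite fibre, `f` proper -/
theorem main {X Y : Scheme.{u}} (f : X ⟶ Y) [IsProper f] (y : Y)
    (hy : (f.base ⁻¹' {y}).Finite) (M : X.Modules) [M.IsQuasicoherent] (p : ℕ) (hp : 0 < p) :
    IsZero (TopCat.Presheaf.stalk ((Coh.RpushAb f p).obj (Coh.toAb M)).obj y) := by
  obtain ⟨q, rfl⟩ := Nat.exists_eq_succ_of_ne_zero hp.ne'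
  obtain ⟨V, hyV, hfin⟩ := exists_isFinite_morphismRestrict_of_finite_preimage_singleton f y hy
  haveI := SchAdj.isGrothendieckAbelian_modules X
  haveI : HasInjectiveResolutions X.Modules := inferInstance
  haveI := SchAdj.isGrothendieckAbelian_modules (f ⁻¹ᵁ V : Scheme.{u})
  haveI : HasInjectiveResolutions (f ⁻¹ᵁ V : Scheme.{u}).Modules := inferInstance
  obtain ⟨i⟩ := Groth.Agent.Helper1.RpRestr.nonempty_iso f V (q + 1)
  have hz : IsZero (((Coh.Rpush f (q + 1)).obj M).restrict V.ι) :=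
    IsZero.of_iso (isZero_Rpush_of_isAffineHom (f ∣_ V) (M.restrict (f ⁻¹ᵁ V).ι) q) (i.app M)
  have h1 := isZero_stalk_of_isZero_restrict _ V y hyV hz
  let e := (Groth.Agent.Helper1.RpCmpNat.iso f (q + 1)).app M
  exact IsZero.of_iso h1 ((TopCat.Presheaf.stalkFunctor AddCommGrpCat.{u} y).mapIso
    ((sheafToPresheaf _ _).mapIso e.symm))

end Groth.Agent.Helper1.FinFib
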