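import Mathlib
import Groth.Agent.Helper1.TW2
import Groth.Agent.Helper1.QV5
import Groth.Agent.Lead.GlobGen
import Groth.Agent.Helper4.QcohLimits

/-!
# TW7: lifting global generation through a nilpotent thickening

`π : M ⟶ i_* M₀` a quotient map modulo a nilpotent ideal `𝔞`, surjective on global sections,
with `M₀` globally generated.  Then `M` is globally generated (Nakayama).
-/

set_option autoImplicit false
set_option linter.style.haveILetI false
set_option linter.unusedSectionVars false

universe u

open CategoryTheory CategoryTheory.Limits AlgebraicGeometry Opposite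

namespace Groth.Agent.Helper1.TW

open Groth.Agent.Helper1.Form Groth.Agent.Helper4.SN Groth.Agent.Lead.GlobGen

section GG

variable {X : Scheme.{u}}

/-- a globally generated module is generated by all its global sections -/
theorem epi_canFree_of_isGloballyGenerated (F : X.Modules)
    (h : Curv2.IsGloballyGenerated F) : Epi (canFree F) := by
  obtain ⟨ι, q, hq⟩ := h
  haveI := hq
  have hc0 : cokernel.π (canFree F) = 0 := by
    refine (cancel_epi q).mp ?_
    refine Eq.trans ?_ comp_zero.symm
    apply free_comp_eq_zero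
    intro s
    obtain ⟨x, hx⟩ := canFree_surj F s
    rw [← hx]
    have h1 := cokernel.condition (canFree F)
    exact congrArg (fun ψ => Scheme.Modules.Hom.app ψ ⊤ x) h1
  exact Preadditive.epi_of_cokernel_zero hc0

theorem isGloballyGenerated_of_epi_canFree (F : X.Modules) (h : Epi (canFree F)) :
    Curv2.IsGloballyGenerated F := ⟨_, canFree F, h⟩

end GG

variable {A : Type u} [CommRing A] {X Z : Scheme.{u}} [X.Over (Spec (CommRingCat.of A))]
  (i : Z ⟶ X) [IsClosedImmersion i]
  {M : X.Modules} [M.IsQuasicoherent] {M₀ : Z.Modules} [M₀.IsQuasicoherent]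
  (π : M ⟶ (Scheme.Modules.pushforward i).obj M₀)

include i in
/-- the global sections of `M` generate `i_* M₀` -/
theorem epi_canFree_comp (hsurj : Function.Surjective (π.app ⊤)) (h₀ : Epi (canFree M₀)) :
    Epi (canFree M ≫ π) := by
  haveI := h₀
  haveI : ((Scheme.Modules.pushforward i).obj M₀).IsQuasicoherent :=
    Groth.Agent.Helper4.QcohGlue.isQuasicoherent_pushforward i M₀
  haveI := isQuasicoherent_free (X := X) Γ(M, ⊤)
  let C : X.Modules := cokernel (canFree M ≫ π)
  let f : (Scheme.Modules.pushforward i).obj M₀ ⟶ C := cokernel.π (canFree M ≫ π)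
  haveI : C.IsQuasicoherent :=
    Groth.Agent.Helper4.QcohLimits.isQuasicoherent_cokernel (canFree M ≫ π)
  have h1 : ∀ t : Γ((Scheme.Modules.pushforward i).obj M₀, ⊤),
      Scheme.Modules.Hom.app f ⊤ t = 0 := by
    intro t
    obtain ⟨m, rfl⟩ := hsurj t
    obtain ⟨x, rfl⟩ := canFree_surj M m
    have := cokernel.condition (canFree M ≫ π)
    exact congrArg (fun ψ => Scheme.Modules.Hom.app ψ ⊤ x) this
  haveI : Epi f := inferInstanceAs (Epi (cokernel.π (canFree M ≫ π)))
  haveI hiso : IsIso (Groth.Agent.Lead.Thick.η i C) :=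
    Groth.Agent.Helper1.QV.isIso_η_of_epi_pushforward i f
  obtain ⟨g, hg⟩ := Groth.Agent.Helper1.ClFF.exists_preimage i
    (f ≫ Groth.Agent.Lead.Thick.η i C)
  have h2 : canFree M₀ ≫ g = 0 := by
    apply free_comp_eq_zero
    intro t
    have h3 := congrArg (fun ψ : (Scheme.Modules.pushforward i).obj M₀ ⟶
        (Scheme.Modules.pushforward i).obj ((Scheme.Modules.pullback i).obj C) =>
      Scheme.Modules.Hom.app ψ ⊤ t) hg
    refine h3.trans ?_
    show Scheme.Modules.Hom.app (Groth.Agent.Lead.Thick.η i C) ⊤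
      (Scheme.Modules.Hom.app f ⊤ t) = 0
    rw [h1 t, map_zero]
  have h4 : g = 0 := (cancel_epi (canFree M₀)).1 (h2.trans comp_zero.symm)
  have h5 : f = 0 := by
    haveI : Mono (Groth.Agent.Lead.Thick.η i C) := @IsIso.mono_of_iso _ _ _ _ _ hiso
    refine (cancel_mono (Groth.Agent.Lead.Thick.η i C)).1 ?_
    rw [zero_comp, ← hg, h4, Functor.map_zero]
  exact Preadditive.epi_of_cokernel_zero h5

include i in
/-- **Nakayama**: global generation lifts through a nilpotent thickening -/
theorem epi_canFree_of_isQuot {𝔞 : Ideal A} {t : ℕ} (b : Fin t → A)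
    (hb : Ideal.span (Set.range b) = 𝔞) (hπ : IsQuot 𝔞 π)
    (hnil : Formal.KilledBy (𝔞 * 𝔞) M)
    (hsurj : Function.Surjective (π.app ⊤)) (h₀ : Epi (canFree M₀)) :
    Epi (canFree M) := by
  haveI hpπ := epi_canFree_comp i π hsurj h₀
  haveI := hπ.epi
  let C : X.Modules := cokernel (canFree M)
  let c : M ⟶ C := cokernel.π (canFree M)
  haveI : Epi c := inferInstanceAs (Epi (cokernel.π (canFree M)))
  have hpc : canFree M ≫ c = 0 := cokernel.condition (canFree M)
  -- the kernel of `π` maps onto the cokernel of `p`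
  haveI h2 : Epi (kernel.ι π ≫ c) := by
    apply Preadditive.epi_of_cancel_zero
    intro Q f hf
    rw [Category.assoc] at hf
    have h3 : π ≫ Abelian.epiDesc π (c ≫ f) hf = c ≫ f := Abelian.comp_epiDesc π _ hf
    have h4 : Abelian.epiDesc π (c ≫ f) hf = 0 := by
      refine (cancel_epi (canFree M ≫ π)).1 ?_
      have e1 : canFree M ≫ (π ≫ Abelian.epiDesc π (c ≫ f) hf) = 0 :=
        (congrArg (fun z => canFree M ≫ z) h3).trans
          ((Category.assoc _ _ _).symm.trans ((congrArg (fun z => z ≫ f) hpc).trans zero_comp))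
      exact (Category.assoc _ _ _).trans (e1.trans comp_zero.symm)
    have h6 : c ≫ f = 0 := by
      rw [← h3, h4, comp_zero]
    exact (cancel_epi c).1 (h6.trans comp_zero.symm)
  obtain ⟨φ', hφ', hφι⟩ := exists_epi_kernel_of_isQuot b 𝔞 hb hπ
  haveI := hφ'
  have hbmem : ∀ j, b j ∈ 𝔞 := fun j => by
    rw [← hb]
    exact Ideal.subset_span ⟨j, rfl⟩
  have hC : Formal.KilledBy (𝔞 * 𝔞) C := killedBy_of_epi c hnil
  haveI hE : Epi (smulFin b M ≫ c) := by
    rw [← hφι, Category.assoc]
    infer_instance
  have hcomp : ∀ j, Sigma.ι (fun _ : Fin t => M) j ≫ smulFin b M ≫ c =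
      c ≫ Formal.smulMod A C (b j) := by
    intro j
    rw [← Category.assoc, ι_smulFin, smulMod_comp]
  have h5 : ∀ l, Formal.smulMod A C (b l) = 0 := by
    intro l
    refine (cancel_epi (smulFin b M ≫ c)).1 ?_
    refine Eq.trans ?_ comp_zero.symm
    apply Sigma.hom_ext
    intro j
    rw [comp_zero, ← Category.assoc, ← Category.assoc, Category.assoc _ (smulFin b M), hcomp,
      Category.assoc, ← smulMod_mul, hC _ (Ideal.mul_mem_mul (hbmem j) (hbmem l)), comp_zero]
  have h6 : smulFin b M ≫ c = 0 := by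
    apply Sigma.hom_ext
    intro j
    rw [hcomp, h5, comp_zero, comp_zero]
  have h7 : c = 0 := by
    have h8 : 𝟙 C = 0 := by
      refine (cancel_epi (smulFin b M ≫ c)).1 ?_
      rw [h6, zero_comp, zero_comp]
    rw [← Category.comp_id c, h8, comp_zero]
  exact Preadditive.epi_of_cokernel_zero h7

end Groth.Agent.Helper1.TW
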