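import Mathlib
import Groth.Agent.Helper1.TW6
import Groth.Agent.Helper1.TW7
import Groth.Agent.Helper1.SerreCritC
import Groth.Agent.Helper4.GenTwistMain

/-!
# TW8: uniform global generation of the twists on an adic system of thickenings
(EGA III 5.2.4, levelwise form)
-/

set_option autoImplicit false
set_option linter.style.haveILetI false
set_option linter.unusedSectionVars false

universe u

open CategoryTheory CategoryTheory.Limits AlgebraicGeometry Opposite

namespace Groth.Agent.Helper1.TW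

open Groth.Agent.Helper1.Form Groth.Agent.Helper1.GrSh Groth.Agent.Helper1.GrVan
  Groth.Agent.Helper1.QuotPush Groth.Agent.Lead.GlobGen

section Step

variable {A : Type u} [CommRing A] [IsNoetherianRing A] {X Z : Scheme.{u}}
  [X.Over (Spec (CommRingCat.of A))]
  [Z.Over (Spec (CommRingCat.of A))] (i : Z ⟶ X) [i.IsOver (Spec (CommRingCat.of A))]
  [IsClosedImmersion i]

/-- tensoring with a module preserves quotient maps modulo an ideal of the base -/
theorem isQuot_tensorRight {𝔞 : Ideal A} {M N : X.Modules} {p : M ⟶ N} (hp : IsQuot 𝔞 p)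
    (B : X.Modules) : IsQuot 𝔞 ((DCoh.tensorRightMod B).map p) := by
  have h1 := Groth.Agent.Helper1.LV.isQuot_tensorRight_cokernelπ 𝔞 M B
  have h2 : (DCoh.tensorRightMod B).map p =
      (DCoh.tensorRightMod B).map (cokernel.π (Formal.smulFamily 𝔞 M)) ≫
        (DCoh.tensorRightMod B).map ((isQuot_cokernelπ 𝔞 M).iso hp).hom := by
    rw [← Functor.map_comp, IsQuot.fac_iso_hom]
  rw [h2]
  exact h1.comp_iso _

/-- **one step of the induction**: global generation of the twist passes up one level -/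
theorem epi_canFree_step {𝔞 : Ideal A} {F' : X.Modules} {F₀ : Z.Modules}
    [F'.IsQuasicoherent] [F₀.IsQuasicoherent]
    {u : F' ⟶ (Scheme.Modules.pushforward i).obj F₀} (hu : IsQuot 𝔞 u)
    {B : X.Modules} (hB : PicF.IsInvertible B) {B' : Z.Modules} [B'.IsQuasicoherent]
    (e : (Scheme.Modules.pullback i).obj B ≅ B')
    (hnil : ∀ M : X.Modules, Formal.KilledBy (𝔞 * 𝔞) M)
    (hH1 : Subsingleton (Coh.HH X (CohB1.tensorMod (kernel u) B) 1))
    (h₀ : Epi (canFree (CohB1.tensorMod F₀ B'))) :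
    Epi (canFree (CohB1.tensorMod F' B)) := by
  haveI : B.IsQuasicoherent := (Groth.Agent.Helper1.SerreFin.isCoh_of_isInvertible _ hB).1
  haveI : (CohB1.tensorMod F' B).IsQuasicoherent :=
    Groth.Agent.Lead.QcohTensor.isQuasicoherent_tensorMod F' B
  haveI : (CohB1.tensorMod F₀ B').IsQuasicoherent :=
    Groth.Agent.Lead.QcohTensor.isQuasicoherent_tensorMod F₀ B'
  haveI := hu.epi
  let ε : CohB1.tensorMod ((Scheme.Modules.pushforward i).obj F₀) B ≅
      (Scheme.Modules.pushforward i).obj (CohB1.tensorMod F₀ B') :=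
    Groth.Agent.Helper1.PF.projIso i F₀ B hB ≪≫
      (Scheme.Modules.pushforward i).mapIso (PicGrp.tensorModIso (Iso.refl F₀) e)
  let π : CohB1.tensorMod F' B ⟶ (Scheme.Modules.pushforward i).obj (CohB1.tensorMod F₀ B') :=
    (DCoh.tensorRightMod B).map u ≫ ε.hom
  have hπ : IsQuot 𝔞 π := (isQuot_tensorRight hu B).comp_iso ε.hom
  obtain ⟨t, b, hb⟩ := Submodule.fg_iff_exists_fin_generating_family.1
    (IsNoetherian.noetherian 𝔞)
  have hS := Groth.Agent.Helper1.TwistExact.shortExact_map_tensorRightMod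
    (Groth.Agent.Helper1.Dev.kerSC_shortExact u) B hB
  have hs1 : Function.Surjective (((DCoh.tensorRightMod B).map u).app ⊤) :=
    Groth.Agent.Helper1.SerreCrit.surjective_app_top _ hS hH1
  have hs2 : Function.Surjective (ε.hom.app ⊤) := by
    intro y
    refine ⟨ε.inv.app ⊤ y, ?_⟩
    have := congrArg (fun ψ => Scheme.Modules.Hom.app ψ ⊤ y) ε.inv_hom_id
    exact this
  have hsurj : Function.Surjective (π.app ⊤) := hs2.comp hs1
  exact epi_canFree_of_isQuot i π b hb hπ (hnil _) hsurj h₀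

end Step

section Main

variable (A : Type u) [CommRing A] (J : Ideal A)
  (Xs : ℕ → Scheme.{u}) (p : (k : ℕ) → (Xs k ⟶ Spec (CommRingCat.of (A ⧸ J ^ (k + 1)))))
  (i : (k : ℕ) → (Xs k ⟶ Xs (k + 1)))
  (hcart : ∀ k, IsPullback (i k) (p k) (p (k + 1)) (CohB1.specQuotTrans J k))

include hcart in
/-- **uniform global generation of the twists on an adic system of thickenings** -/
theorem uniform_gg_tower [IsNoetherianRing A] (hp : IsProper (p 0))
    (L : (k : ℕ) → (Xs k).Modules) (hL : ∀ k, PicF.IsInvertible (L k))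
    (φ : ∀ k, Nonempty ((Scheme.Modules.pullback (i k)).obj (L (k + 1)) ≅ L k))
    (ha : CohB1.IsAmple (L 0))
    (F : (k : ℕ) → (Xs k).Modules) (hF : ∀ k, Coh.IsCoh (F k))
    (ψ : ∀ k, Nonempty ((Scheme.Modules.pullback (i k)).obj (F (k + 1)) ≅ F k)) :
    ∃ N : ℕ, ∀ n : ℕ, N ≤ n → ∀ k : ℕ,
      Curv2.IsGloballyGenerated (CohB1.tensorMod (F k) (CohB1.tensorPow (L k) n)) := by
  letI instO : ∀ k, (Xs k).Over (Spec (CommRingCat.of A)) :=
    fun k => ⟨p k ≫ CohB1.specQuot J k⟩
  haveI instIO : ∀ k, (i k).IsOver (Spec (CommRingCat.of A)) := fun k => ⟨by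
    show i k ≫ (p (k + 1) ≫ CohB1.specQuot J (k + 1)) = p k ≫ CohB1.specQuot J k
    rw [← Category.assoc, (hcart k).w, Category.assoc, CohB1.specQuotTrans_specQuot]⟩
  haveI : ∀ k, IsClosedImmersion (i k) := isClosedImmersion_level A J Xs p i hcart
  haveI hprop : ∀ k, IsProper (p k) := isProper_level A J Xs p i hcart hp
  haveI : ∀ k, IsLocallyNoetherian (Xs k) :=
    fun k => LocallyOfFiniteType.isLocallyNoetherian (p k)
  have hsq : ∀ k, IsPullback (i k) (p k) (Xs (k + 1) ↘ Spec (CommRingCat.of A))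
      (Spec.map (CommRingCat.ofHom (Ideal.Quotient.mk (J ^ (k + 1))))) :=
    isPullback_level A J Xs p i hcart
  haveI : ∀ k, (F k).IsQuasicoherent := fun k => (hF k).1
  let ψ' := fun k => (ψ k).some
  let φ' := fun k => (φ k).some
  let u : ∀ k, F (k + 1) ⟶ (Scheme.Modules.pushforward (i k)).obj (F k) := fun k =>
    Groth.Agent.Helper1.PicLoc.unitN (i k) (F (k + 1)) ≫
      (Scheme.Modules.pushforward (i k)).map (ψ' k).hom
  have hu : ∀ k, IsQuot (J ^ (k + 1)) (u k) := fun k =>
    (Groth.Agent.Helper1.PicLoc.isQuot_unitN (J ^ (k + 1)) (hsq k) (F (k + 1))).comp_iso _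
  have hk : ∀ k, Formal.KilledBy (J ^ (k + 1)) (F k) :=
    fun k => killedBy_of_over_eq (J ^ (k + 1)) (p k) rfl (F k)
  have hkill : ∀ (k : ℕ) (N : (Xs (k + 1)).Modules), Formal.KilledBy (J ^ (k + 1)) N →
      Groth.Agent.Lead.Thick.Kills (i k) N 1 :=
    fun k N h => Groth.Agent.Helper1.LV.kills_of_killedBy (J ^ (k + 1)) (hsq k) N h
  obtain ⟨r, f, hf⟩ := Submodule.fg_iff_exists_fin_generating_family.1 (IsNoetherian.noetherian J)
  have hmem : ∀ j, f j ∈ J := fun j => by
    rw [← hf]
    exact Submodule.subset_span (Set.mem_range_self j)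
  let a : Fin r → J := fun j => ⟨f j, hmem j⟩
  have ha' : Ideal.span (Set.range fun j => (a j : A)) = J := hf
  have hFG := isFG_grObj hu hk hF a ha'
  haveI : IsProper (Xs 0 ↘ Spec (CommRingCat.of A)) := by
    show IsProper (p 0 ≫ CohB1.specQuot J 0)
    infer_instance
  haveI : CompactSpace (Xs 0) :=
    QuasiCompact.compactSpace_of_compactSpace (Xs 0 ↘ Spec (CommRingCat.of A))
  haveI : IsNoetherian (Xs 0) := {}
  obtain ⟨d₁, hd₁⟩ := uniform_vanishing A ha r (grObj hu hk a) hFG
  obtain ⟨d₂, hd₂⟩ := Groth.Agent.Helper4.GenTwistMain.exists_forall_isGloballyGenerated_twist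
    ha (F 0) (hF 0).2
  refine ⟨max d₁ d₂, fun n hn k => ?_⟩
  apply isGloballyGenerated_of_epi_canFree
  induction k with
  | zero =>
    exact epi_canFree_of_isGloballyGenerated _ (hd₂ n (le_trans (le_max_right _ _) hn))
  | succ k ih =>
    haveI : (CohB1.tensorPow (L k) n).IsQuasicoherent :=
      (Groth.Agent.Helper1.SerreFin.isCoh_of_isInvertible _
        (Groth.Agent.Helper4.TensorInv.isInvertible_tensorPow (hL k) n)).1
    haveI : Epi (u k) := (hu k).epi
    haveI : ((Scheme.Modules.pushforward (i k)).obj (F k)).IsQuasicoherent :=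
      Groth.Agent.Helper4.QcohGlue.isQuasicoherent_pushforward (i k) (F k)
    have hq : (kernel (u k)).IsQuasicoherent :=
      Groth.Agent.Helper4.QcohLimits.isQuasicoherent_kernel (u k)
    have h1 : Van (CohB1.tensorPow (L (k + 1)) n) (kernel (u k)) :=
      van_of_van_Φ hkill hL φ' n (k + 1) _ hq (killedBy_kernel (hu k) (hk' hk k))
        (hd₁ k n (le_trans (le_max_left _ _) hn))
    have hnil : ∀ M : (Xs (k + 1)).Modules, Formal.KilledBy (J ^ (k + 1) * J ^ (k + 1)) M := by
      intro M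
      refine killedBy_mono ?_ (killedBy_of_over_eq (J ^ (k + 1 + 1)) (p (k + 1)) rfl M)
      rw [← pow_add]
      exact Ideal.pow_le_pow_right (by omega)
    exact epi_canFree_step (i k) (hu k)
      (Groth.Agent.Helper4.TensorInv.isInvertible_tensorPow (hL (k + 1)) n)
      (Groth.Agent.Helper4.PullTensor.pullPowIso (i k) (hL (k + 1)) n ≪≫
        Groth.Agent.Helper4.AmpleIso.tensorPowIso (φ' k) n)
      hnil (h1 1 le_rfl) ih

end Main

end Groth.Agent.Helper1.TW
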