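import Mathlib
import Groth.Agent.Helper1.TW8
import Groth.Agent.Helper1.PUP8
import Groth.Agent.Helper4.AmpleBasis
import Groth.Agent.Helper4.PullSec

/-!
# AZ6: uniform lifting of sections of the twists along an adic system of thickenings
-/

set_option autoImplicit false
set_option linter.style.haveILetI false
set_option linter.unusedSectionVars false

universe u

open CategoryTheory CategoryTheory.Limits AlgebraicGeometry Opposite

namespace Groth.Agent.Helper1.AZ

open Groth.Agent.Helper1.Form Groth.Agent.Helper1.TW Groth.Agent.Helper1.GrSh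
  Groth.Agent.Helper1.GrVan Groth.Agent.Helper1.QuotPush Groth.Agent.Helper1.PUP
  Groth.Agent.Helper4.PullSec Groth.Agent.Helper4.PullUnit

section Lift

variable {X Z : Scheme.{u}} (i : Z ⟶ X)

/-- if the unit `B ⟶ i_* i^* B` is surjective on global sections, then every section of a module
isomorphic to `i^* B` lifts to a section of `B` -/
theorem exists_lift_of_surjective (B : X.Modules)
    (hs : Function.Surjective ((Groth.Agent.Helper1.PicLoc.unitN i B).app ⊤))
    {B' : Z.Modules} (ψ : (Scheme.Modules.pullback i).obj B ≅ B')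
    (σ' : Coh.structureModule Z ⟶ B') :
    ∃ σ : Coh.structureModule X ⟶ B, pullSec i σ ≫ ψ.hom = σ' := by
  obtain ⟨s, hs'⟩ := hs (show Γ((Scheme.Modules.pushforward i).obj
    ((Scheme.Modules.pullback i).obj B), ⊤) from ψ.inv.app ⊤ (sec σ' ⊤))
  refine ⟨Groth.Agent.Lead.LocLift.homOfTop B s, ?_⟩
  apply hom_ext_of_sec
  rw [sec_comp]
  have h1 : sec (pullSec i (Groth.Agent.Lead.LocLift.homOfTop B s)) ⊤ =
      ηapp i B ⊤ (sec (Groth.Agent.Lead.LocLift.homOfTop B s) ⊤) :=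
    sec_pullSec i (Groth.Agent.Lead.LocLift.homOfTop B s) ⊤
  rw [sec_homOfTop] at h1
  have h2 : ηapp i B ⊤ s = ψ.inv.app ⊤ (sec σ' ⊤) := hs'
  rw [h1, h2]
  exact congrArg (fun φ => Scheme.Modules.Hom.app φ ⊤ (sec σ' ⊤)) ψ.inv_hom_id

end Lift

section Step

variable {A : Type u} [CommRing A] [IsNoetherianRing A] {X Z : Scheme.{u}}
  [X.Over (Spec (CommRingCat.of A))]
  (𝔞 : Ideal A) {i : Z ⟶ X} {fJ : Z ⟶ Spec (CommRingCat.of (A ⧸ 𝔞))}
  (hsq : IsPullback i fJ (X ↘ Spec (CommRingCat.of A))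
    (Spec.map (CommRingCat.ofHom (Ideal.Quotient.mk 𝔞))))

include hsq in
/-- the unit `B ⟶ i_* i^* B` is surjective on global sections when `H¹` of the twisted ideal
vanishes -/
theorem surjective_unitN_app_top {N : X.Modules}
    {u : Coh.structureModule X ⟶ N} (hu : IsQuot 𝔞 u)
    {B : X.Modules} (hB : PicF.IsInvertible B)
    (hH1 : Subsingleton (Coh.HH X (CohB1.tensorMod (kernel u) B) 1)) :
    Function.Surjective ((Groth.Agent.Helper1.PicLoc.unitN i B).app ⊤) := by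
  haveI : B.IsQuasicoherent := (Groth.Agent.Helper1.SerreFin.isCoh_of_isInvertible _ hB).1
  haveI := hu.epi
  have hS := Groth.Agent.Helper1.TwistExact.shortExact_map_tensorRightMod
    (Groth.Agent.Helper1.Dev.kerSC_shortExact u) B hB
  have hs1 : Function.Surjective (((DCoh.tensorRightMod B).map u).app ⊤) :=
    Groth.Agent.Helper1.SerreCrit.surjective_app_top _ hS hH1
  obtain ⟨lu⟩ : Nonempty ((DCoh.tensorRightMod B).obj (Coh.structureModule X) ≅ B) :=
    ⟨Groth.Agent.Helper4.AmpleBasis.unitorL B⟩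
  have hq1 : IsQuot 𝔞 (lu.inv ≫ (DCoh.tensorRightMod B).map u) :=
    (isQuot_tensorRight hu B).iso_comp lu.inv
  have hq2 : IsQuot 𝔞 (Groth.Agent.Helper1.PicLoc.unitN i B) :=
    Groth.Agent.Helper1.PicLoc.isQuot_unitN 𝔞 hsq B
  let θ := hq1.iso hq2
  have hθ : (lu.inv ≫ (DCoh.tensorRightMod B).map u) ≫ θ.hom =
      Groth.Agent.Helper1.PicLoc.unitN i B := hq1.fac_iso_hom hq2
  intro y
  obtain ⟨w, hw⟩ := hs1 (θ.inv.app ⊤ y)
  refine ⟨lu.hom.app ⊤ w, ?_⟩
  have e1 : (Groth.Agent.Helper1.PicLoc.unitN i B).app ⊤ (lu.hom.app ⊤ w) =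
      θ.hom.app ⊤ (((DCoh.tensorRightMod B).map u).app ⊤ (lu.inv.app ⊤ (lu.hom.app ⊤ w))) :=
    congrArg (fun φ => Scheme.Modules.Hom.app φ ⊤ (lu.hom.app ⊤ w)) hθ.symm
  have h1 : lu.inv.app ⊤ (lu.hom.app ⊤ w) = w :=
    congrArg (fun φ => Scheme.Modules.Hom.app φ ⊤ w) lu.hom_inv_id
  have e2 : θ.hom.app ⊤ (θ.inv.app ⊤ y) = y :=
    congrArg (fun φ => Scheme.Modules.Hom.app φ ⊤ y) θ.inv_hom_id
  rw [e1, h1, hw, e2]

end Step

section Main

variable (A : Type u) [CommRing A] (J : Ideal A)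
  (Xs : ℕ → Scheme.{u}) (p : (k : ℕ) → (Xs k ⟶ Spec (CommRingCat.of (A ⧸ J ^ (k + 1)))))
  (i : (k : ℕ) → (Xs k ⟶ Xs (k + 1)))
  (hcart : ∀ k, IsPullback (i k) (p k) (p (k + 1)) (CohB1.specQuotTrans J k))

include hcart in
/-- **uniform lifting of sections of the twists along an adic system of thickenings** -/
theorem uniform_lift_tower [IsNoetherianRing A] (hp : IsProper (p 0))
    (L : (k : ℕ) → (Xs k).Modules) (hL : ∀ k, PicF.IsInvertible (L k))
    (φ : ∀ k, Nonempty ((Scheme.Modules.pullback (i k)).obj (L (k + 1)) ≅ L k))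
    (ha : CohB1.IsAmple (L 0)) :
    ∃ N₁ : ℕ, ∀ n : ℕ, N₁ ≤ n → ∀ (k : ℕ) (B' : (Xs k).Modules)
      (ψ : (Scheme.Modules.pullback (i k)).obj (CohB1.tensorPow (L (k + 1)) n) ≅ B')
      (σ' : Coh.structureModule (Xs k) ⟶ B'),
      ∃ σ : Coh.structureModule (Xs (k + 1)) ⟶ CohB1.tensorPow (L (k + 1)) n,
        pullSec (i k) σ ≫ ψ.hom = σ' := by
  letI instO : ∀ k, (Xs k).Over (Spec (CommRingCat.of A)) :=
    fun k => ⟨p k ≫ CohB1.specQuot J k⟩
  haveI instIO : ∀ k, (i k).IsOver (Spec (CommRingCat.of A)) := fun k => ⟨by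
    show i k ≫ (p (k + 1) ≫ CohB1.specQuot J (k + 1)) = p k ≫ CohB1.specQuot J k
    rw [← Category.assoc, (hcart k).w, Category.assoc, CohB1.specQuotTrans_specQuot]⟩
  haveI : ∀ k, IsClosedImmersion (i k) := isClosedImmersion_level A J Xs p i hcart
  haveI hprop : ∀ k, IsProper (p k) := isProper_level A J Xs p i hcart hp
  haveI : ∀ k, IsLocallyNoetherian (Xs k) :=
    fun k => LocallyOfFiniteType.isLocallyNoetherian (p k)
  have hsq : ∀ k, IsPullback (i k) (p k) (Xs (k + 1) ↘ Spec (CommRingCat.of A))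
      (Spec.map (CommRingCat.ofHom (Ideal.Quotient.mk (J ^ (k + 1))))) :=
    isPullback_level A J Xs p i hcart
  let F : ∀ k, (Xs k).Modules := fun k => Coh.structureModule (Xs k)
  have hF : ∀ k, Coh.IsCoh (F k) := fun k => Groth.Agent.Helper1.Dev.isCoh_structureModule _
  haveI : ∀ k, (F k).IsQuasicoherent := fun k => (hF k).1
  let ψ' : ∀ k, (Scheme.Modules.pullback (i k)).obj (F (k + 1)) ≅ F k :=
    fun k => pullbackUnitIso (i k)
  let φ' := fun k => (φ k).some
  let u : ∀ k, F (k + 1) ⟶ (Scheme.Modules.pushforward (i k)).obj (F k) := fun k =>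
    Groth.Agent.Helper1.PicLoc.unitN (i k) (F (k + 1)) ≫
      (Scheme.Modules.pushforward (i k)).map (ψ' k).hom
  have hu : ∀ k, IsQuot (J ^ (k + 1)) (u k) := fun k =>
    (Groth.Agent.Helper1.PicLoc.isQuot_unitN (J ^ (k + 1)) (hsq k) (F (k + 1))).comp_iso _
  have hk : ∀ k, Formal.KilledBy (J ^ (k + 1)) (F k) :=
    fun k => killedBy_of_over_eq (J ^ (k + 1)) (p k) rfl (F k)
  have hkill : ∀ (k : ℕ) (N : (Xs (k + 1)).Modules), Formal.KilledBy (J ^ (k + 1)) N →
      Groth.Agent.Lead.Thick.Kills (i k) N 1 :=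
    fun k N h => Groth.Agent.Helper1.LV.kills_of_killedBy (J ^ (k + 1)) (hsq k) N h
  obtain ⟨r, f, hf⟩ := Submodule.fg_iff_exists_fin_generating_family.1 (IsNoetherian.noetherian J)
  have hmem : ∀ j, f j ∈ J := fun j => by
    rw [← hf]
    exact Submodule.subset_span (Set.mem_range_self j)
  let a : Fin r → J := fun j => ⟨f j, hmem j⟩
  have ha' : Ideal.span (Set.range fun j => (a j : A)) = J := hf
  have hFG := isFG_grObj hu hk hF a ha'
  haveI : IsProper (Xs 0 ↘ Spec (CommRingCat.of A)) := by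
    show IsProper (p 0 ≫ CohB1.specQuot J 0)
    infer_instance
  haveI : CompactSpace (Xs 0) :=
    QuasiCompact.compactSpace_of_compactSpace (Xs 0 ↘ Spec (CommRingCat.of A))
  haveI : IsNoetherian (Xs 0) := {}
  obtain ⟨d₁, hd₁⟩ := uniform_vanishing A ha r (grObj hu hk a) hFG
  refine ⟨d₁, fun n hn k B' ψ σ' => ?_⟩
  haveI : Epi (u k) := (hu k).epi
  haveI : ((Scheme.Modules.pushforward (i k)).obj (F k)).IsQuasicoherent :=
    Groth.Agent.Helper4.QcohGlue.isQuasicoherent_pushforward (i k) (F k)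
  have hq : (kernel (u k)).IsQuasicoherent :=
    Groth.Agent.Helper4.QcohLimits.isQuasicoherent_kernel (u k)
  have h1 : Van (CohB1.tensorPow (L (k + 1)) n) (kernel (u k)) :=
    van_of_van_Φ hkill hL φ' n (k + 1) _ hq (killedBy_kernel (hu k) (hk' hk k)) (hd₁ k n hn)
  have hs := surjective_unitN_app_top (J ^ (k + 1)) (hsq k) (hu k)
    (Groth.Agent.Helper4.TensorInv.isInvertible_tensorPow (hL (k + 1)) n) (h1 1 le_rfl)
  exact exists_lift_of_surjective (i k) _ hs ψ σ'

end Main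

end Groth.Agent.Helper1.AZ
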