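import Mathlib
import Groth.Agent.Helper1.TW6
import Groth.Agent.Helper2.FThick

/-!
# AZ7: a morphism from a thickening which restricts to a closed immersion is a closed immersion
-/

set_option autoImplicit false
set_option linter.style.haveILetI false
set_option linter.unusedSectionVars false

universe u

open CategoryTheory CategoryTheory.Limits AlgebraicGeometry Opposite

namespace Groth.Agent.Helper1.AZ

open Groth.Agent.Helper1.TW

variable (A : Type u) [CommRing A] [IsNoetherianRing A] (J : Ideal A)
  {T : Scheme.{u}} (t : T ⟶ Spec (CommRingCat.of A)) [LocallyOfFiniteType t]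
  {X₀ X₁ : Scheme.{u}} (k : ℕ)
  {p₀ : X₀ ⟶ Spec (CommRingCat.of (A ⧸ J ^ (k + 1)))}
  {p₁ : X₁ ⟶ Spec (CommRingCat.of (A ⧸ J ^ (k + 1 + 1)))}
  {i : X₀ ⟶ X₁}
  (hcart : IsPullback i p₀ p₁ (CohB1.specQuotTrans J k))
  (r : X₁ ⟶ T) (hr : r ≫ t = p₁ ≫ CohB1.specQuot J (k + 1))

include hcart hr in
/-- **closed immersions lift through the levels of an adic system of thickenings** -/
theorem isClosedImmersion_of_comp (hir : IsClosedImmersion (i ≫ r)) : IsClosedImmersion r := by
  haveI := hir
  haveI : IsClosedImmersion (CohB1.specQuot J (k + 1)) := isClosedImmersion_specQuot A J (k + 1)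
  haveI : IsClosedImmersion (CohB1.specQuotTrans J k) := isClosedImmersion_specQuotTrans A J k
  haveI : Surjective (CohB1.specQuotTrans J k) := surjective_specQuotTrans A J k
  -- the base changes
  let P' : Scheme.{u} := pullback t (CohB1.specQuot J (k + 1))
  let fst' : P' ⟶ T := pullback.fst t (CohB1.specQuot J (k + 1))
  let snd' : P' ⟶ Spec (CommRingCat.of (A ⧸ J ^ (k + 1 + 1))) :=
    pullback.snd t (CohB1.specQuot J (k + 1))
  let f' : X₁ ⟶ P' := pullback.lift r p₁ hr
  have hf'1 : f' ≫ fst' = r := pullback.lift_fst _ _ _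
  have hf'2 : f' ≫ snd' = p₁ := pullback.lift_snd _ _ _
  let Pk : Scheme.{u} := pullback snd' (CohB1.specQuotTrans J k)
  let iS : Pk ⟶ P' := pullback.fst snd' (CohB1.specQuotTrans J k)
  let sndk : Pk ⟶ Spec (CommRingCat.of (A ⧸ J ^ (k + 1))) :=
    pullback.snd snd' (CohB1.specQuotTrans J k)
  have hbot : IsPullback iS sndk snd' (CohB1.specQuotTrans J k) := IsPullback.of_hasPullback _ _
  have hbig : IsPullback i p₀ (f' ≫ snd') (CohB1.specQuotTrans J k) := by
    rw [hf'2]; exact hcart
  have htop := IsPullback.of_bot' hbig hbot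
  haveI : IsClosedImmersion iS := inferInstanceAs (IsClosedImmersion (pullback.fst snd' _))
  haveI : Surjective iS := inferInstanceAs (Surjective (pullback.fst snd' _))
  haveI : IsClosedImmersion fst' := inferInstanceAs (IsClosedImmersion (pullback.fst t _))
  haveI : LocallyOfFiniteType snd' := inferInstanceAs (LocallyOfFiniteType (pullback.snd t _))
  haveI : IsLocallyNoetherian P' := LocallyOfFiniteType.isLocallyNoetherian snd'
  -- the lower level is a closed immersion
  haveI hfcl : IsClosedImmersion (hbot.lift (i ≫ f') p₀ (by rw [Category.assoc, hbig.w])) := by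
    haveI : IsClosedImmersion
        (hbot.lift (i ≫ f') p₀ (by rw [Category.assoc, hbig.w]) ≫ (iS ≫ fst')) := by
      rw [← Category.assoc, hbot.lift_fst, Category.assoc, hf'1]
      infer_instance
    exact IsClosedImmersion.of_comp _ (iS ≫ fst')
  haveI : IsClosedImmersion f' :=
    Groth.Agent.Helper2.FThick.isClosedImmersion_of_isPullback' htop
  rw [← hf'1]
  infer_instance

end Groth.Agent.Helper1.AZ
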