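import Mathlib
import Groth.Agent.Helper1.PUP9
import Groth.Agent.Helper1.TW6
import Groth.Agent.Helper4.SN338
import Groth.Agent.Helper2.FThick

/-!
# AZ8: a compatible system of morphisms from an adic system of thickenings to a projective
space, from a compatible system of generating sections
-/

set_option autoImplicit false
set_option linter.style.haveILetI false
set_option linter.unusedSectionVars false

universe u

open CategoryTheory CategoryTheory.Limits AlgebraicGeometry Opposite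

namespace Groth.Agent.Helper1.AZ

open Groth.Agent.Helper1.TW Groth.Agent.Helper1.PUP Groth.Agent.Helper4.PullSec
  Groth.Agent.Helper4.PullUnit Groth.Agent.Helper4.AmpleIso

section PUP

variable {X : Scheme.{u}} {R : Type u} [CommRing R] (n : ℕ)

/-- **existence part of the universal property of projective space**, for sections given as
morphisms out of the structure sheaf -/
theorem exists_to_projSpace' (q : X ⟶ Spec (CommRingCat.of R)) {L : X.Modules}
    (σ : Fin (n + 1) → (Coh.structureModule X ⟶ L)) (hcov : ⨆ e, XE σ e = ⊤) :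
    ∃ (r : X ⟶ Proj (CohB1.polyGrading n R)) (_ : r ≫ CohB1.ProjSpace.toSpec n R = q)
      (τ : (Scheme.Modules.pullback r).obj (Twist.twist (CohB1.polyGrading n R) ((1 : ℕ) : ℤ)) ≅
        L), ∀ k, σr n r k ≫ τ.hom = σ k := by
  obtain ⟨τ, hτ⟩ := exists_iso_of_ratios σ (σ' n q σ hcov) (XE σ) hcov (ratio σ)
    (fun e => le_refl _) (XE_le_genLocus_σ' n q σ hcov) (ratio_spec σ)
    (ratio_smul_sec_σ' n q σ hcov)
  exact ⟨rr n q σ hcov, rr'_toSpec n q σ hcov, τ, hτ⟩

/-- the pulled back coordinates generate -/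
theorem iSup_XE_σr (r : X ⟶ Proj (CohB1.polyGrading n R)) :
    ⨆ e, XE (σr n r) e = ⊤ := by
  rw [eq_top_iff]
  intro x _
  have hx : r x ∈ (⨆ e : Fin (n + 1), Proj.basicOpen (CohB1.polyGrading n R)
      (MvPolynomial.X e : MvPolynomial (Fin (n + 1)) R)) := by
    rw [Groth.Agent.Helper1.Segre.iSup_basicOpen_X]; trivial
  obtain ⟨e, he⟩ := TopologicalSpace.Opens.mem_iSup.mp hx
  refine TopologicalSpace.Opens.mem_iSup.mpr ⟨e, ?_⟩
  show x ∈ CohB1.genLocus _ (σr n r e)
  rw [genLocus_σr]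
  exact he

end PUP

section Tower

variable (A : Type u) [CommRing A] [IsNoetherianRing A] (J : Ideal A)
  (Xs : ℕ → Scheme.{u}) (p : (k : ℕ) → (Xs k ⟶ Spec (CommRingCat.of (A ⧸ J ^ (k + 1)))))
  (i : (k : ℕ) → (Xs k ⟶ Xs (k + 1)))
  (hcart : ∀ k, IsPullback (i k) (p k) (p (k + 1)) (CohB1.specQuotTrans J k))
  (N : ℕ) (B : ∀ k, (Xs k).Modules) (hB : ∀ k, PicF.IsInvertible (B k))
  (ψ : ∀ k, (Scheme.Modules.pullback (i k)).obj (B (k + 1)) ≅ B k)
  (s : ∀ k, Fin (N + 1) → (Coh.structureModule (Xs k) ⟶ B k))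
  (hs : ∀ k j, pullSec (i k) (s (k + 1) j) ≫ (ψ k).hom = s k j)

include hcart hB hs in
/-- generation passes up the tower -/
theorem iSup_XE_tower (h0 : ⨆ e, XE (s 0) e = ⊤) : ∀ k, ⨆ e, XE (s k) e = ⊤ := by
  intro k
  induction k with
  | zero => exact h0
  | succ k ih =>
    haveI : Surjective (CohB1.specQuotTrans J k) := surjective_specQuotTrans A J k
    haveI : Surjective (i k) := Groth.Agent.Helper2.FThick.surjective_of_isPullback (hcart k)
    have h1 : ∀ e, (i k) ⁻¹ᵁ (XE (s (k + 1)) e) = XE (s k) e := by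
      intro e
      show (i k) ⁻¹ᵁ CohB1.genLocus _ (s (k + 1) e) = CohB1.genLocus _ (s k e)
      rw [← genLocus_pullSec (i k) (hB (k + 1)), ← hs k e, genLocus_comp_iso]
    rw [eq_top_iff]
    intro x _
    obtain ⟨z, rfl⟩ := (i k).surjective x
    have hz : z ∈ ⨆ e, XE (s k) e := by rw [ih]; trivial
    obtain ⟨e, he⟩ := TopologicalSpace.Opens.mem_iSup.mp hz
    refine TopologicalSpace.Opens.mem_iSup.mpr ⟨e, ?_⟩
    rw [← h1 e] at he
    exact he

include hcart hB hs in
/-- **a compatible system of morphisms to projective space** -/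
theorem exists_tower_to_projSpace (h0 : ⨆ e, XE (s 0) e = ⊤) :
    ∃ r : ∀ k, Xs k ⟶ Proj (CohB1.polyGrading N A),
      (∀ k, r k ≫ CohB1.ProjSpace.toSpec N A = p k ≫ CohB1.specQuot J k) ∧
      (∀ k, i k ≫ r (k + 1) = r k) ∧
      ∀ k, ∃ τ : (Scheme.Modules.pullback (r k)).obj
          (Twist.twist (CohB1.polyGrading N A) ((1 : ℕ) : ℤ)) ≅ B k,
        ∀ j, σr N (r k) j ≫ τ.hom = s k j := by
  have hcov := iSup_XE_tower A J Xs p i hcart N B hB ψ s hs h0
  choose r hr τ hτ using fun k =>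
    exists_to_projSpace' N (p k ≫ CohB1.specQuot J k) (s k) (hcov k)
  refine ⟨r, hr, fun k => ?_, fun k => ⟨τ k, hτ k⟩⟩
  have hrr' : (i k ≫ r (k + 1)) ≫ CohB1.ProjSpace.toSpec N A =
      r k ≫ CohB1.ProjSpace.toSpec N A := by
    rw [Category.assoc, hr, hr, ← Category.assoc, (hcart k).w, Category.assoc,
      CohB1.specQuotTrans_specQuot]
  let O1 := Twist.twist (CohB1.polyGrading N A) ((1 : ℕ) : ℤ)
  let θ : (Scheme.Modules.pullback (i k ≫ r (k + 1))).obj O1 ≅
      (Scheme.Modules.pullback (r k)).obj O1 :=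
    ((Scheme.Modules.pullbackComp (i k) (r (k + 1))).app O1).symm ≪≫
      (Scheme.Modules.pullback (i k)).mapIso (τ (k + 1)) ≪≫ ψ k ≪≫ (τ k).symm
  refine eq_of_hτ N (i k ≫ r (k + 1)) (r k) hrr' θ ?_
  intro j
  have h1 : σr N (i k ≫ r (k + 1)) j ≫
      (Scheme.Modules.pullbackComp (i k) (r (k + 1))).inv.app O1 =
      pullSec (i k) (σr N (r (k + 1)) j) :=
    Groth.Agent.Helper4.SN338.pullSec_comp (i k) (r (k + 1)) (TX N j)
  have h2 : pullSec (i k) (σr N (r (k + 1)) j) ≫
      (Scheme.Modules.pullback (i k)).map (τ (k + 1)).hom = pullSec (i k) (s (k + 1) j) := by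
    rw [← Groth.Agent.Helper4.SN338.pullSec_map, hτ]
  have h3 : s k j ≫ (τ k).inv = σr N (r k) j := by
    rw [← hτ k j, Category.assoc, Iso.hom_inv_id, Category.comp_id]
  show σr N (i k ≫ r (k + 1)) j ≫
    ((Scheme.Modules.pullbackComp (i k) (r (k + 1))).inv.app O1 ≫
      (Scheme.Modules.pullback (i k)).map (τ (k + 1)).hom ≫ (ψ k).hom ≫ (τ k).inv) = _
  rw [← Category.assoc, h1, ← Category.assoc, h2, ← Category.assoc, hs, h3]

end Tower

end Groth.Agent.Helper1.AZ
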