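import Mathlib
import Groth.Agent.Helper1.AZ6
import Groth.Agent.Helper1.AZ7
import Groth.Agent.Helper1.AZ8
import Groth.Agent.Helper1.SV1
import Groth.Agent.Helper4.TensorAssoc

/-!
# AZ9: an adic system of thickenings whose bottom is proper and carries an ample module embeds
compatibly into a projective space over the base ring
-/

set_option autoImplicit false
set_option linter.style.haveILetI false
set_option linter.unusedSectionVars false

universe u

open CategoryTheory CategoryTheory.Limits AlgebraicGeometry Opposite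

namespace Groth.Agent.Helper1.AZ

open Groth.Agent.Helper1.TW Groth.Agent.Helper1.PUP Groth.Agent.Helper4.PullSec
  Groth.Agent.Helper4.PullUnit Groth.Agent.Helper4.AmpleIso

variable (A : Type u) [CommRing A] [IsNoetherianRing A] (J : Ideal A)
  (Xs : ℕ → Scheme.{u}) (p : (k : ℕ) → (Xs k ⟶ Spec (CommRingCat.of (A ⧸ J ^ (k + 1)))))
  (i : (k : ℕ) → (Xs k ⟶ Xs (k + 1)))
  (hcart : ∀ k, IsPullback (i k) (p k) (p (k + 1)) (CohB1.specQuotTrans J k))

include hcart in
/-- **the tower embeds into a projective space** -/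
theorem exists_tower_closedImmersion (hp : IsProper (p 0))
    (L : (k : ℕ) → (Xs k).Modules) (hL : ∀ k, PicF.IsInvertible (L k))
    (φ : ∀ k, Nonempty ((Scheme.Modules.pullback (i k)).obj (L (k + 1)) ≅ L k))
    (ha : CohB1.IsAmple (L 0)) :
    ∃ (N : ℕ) (r : ∀ k, Xs k ⟶ Proj (CohB1.polyGrading N A)),
      (∀ k, IsClosedImmersion (r k)) ∧
      (∀ k, r k ≫ CohB1.ProjSpace.toSpec N A = p k ≫ CohB1.specQuot J k) ∧
      (∀ k, i k ≫ r (k + 1) = r k) := by
  classical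
  obtain ⟨N₁, hN₁⟩ := uniform_lift_tower A J Xs p i hcart hp L hL φ ha
  have hamp_m : CohB1.IsAmple (CohB1.tensorPow (L 0) (N₁ + 1)) :=
    Groth.Agent.Helper4.TensorAssoc.isAmple_tensorPow (hL 0) (N₁ + 1) (Nat.succ_pos _) ha
  haveI := hp
  haveI : IsClosedImmersion (CohB1.specQuot J 0) := isClosedImmersion_specQuot A J 0
  haveI : IsProper (p 0 ≫ CohB1.specQuot J 0) := inferInstance
  obtain ⟨e₀, he₀, N, c₀, hc₀cl, hc₀, hiso⟩ :=
    Groth.Agent.Helper1.SV.exists_closedImmersion A (p 0 ≫ CohB1.specQuot J 0) hamp_m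
  obtain ⟨τ₀'⟩ := hiso 1
  have hE : N₁ ≤ (N₁ + 1) * (e₀ * 1) := by
    have h1 : 1 ≤ e₀ * 1 := by omega
    calc N₁ ≤ (N₁ + 1) * 1 := by omega
      _ ≤ (N₁ + 1) * (e₀ * 1) := Nat.mul_le_mul_left _ h1
  let O1 : (Proj (CohB1.polyGrading N A)).Modules :=
    Twist.twist (CohB1.polyGrading N A) ((1 : ℕ) : ℤ)
  let c₀' : Xs 0 ⟶ Proj (CohB1.polyGrading N A) := c₀
  let τ₀ : (Scheme.Modules.pullback c₀').obj O1 ≅ CohB1.tensorPow (L 0) ((N₁ + 1) * (e₀ * 1)) :=
    τ₀' ≪≫ Groth.Agent.Helper4.TensorAssoc.powMulIso (L 0) (hL 0) (N₁ + 1) (e₀ * 1)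
  let B : ∀ k, (Xs k).Modules := fun k => CohB1.tensorPow (L k) ((N₁ + 1) * (e₀ * 1))
  have hB : ∀ k, PicF.IsInvertible (B k) :=
    fun k => Groth.Agent.Helper4.TensorInv.isInvertible_tensorPow (hL k) _
  let φ' := fun k => (φ k).some
  let ψ : ∀ k, (Scheme.Modules.pullback (i k)).obj (B (k + 1)) ≅ B k := fun k =>
    Groth.Agent.Helper4.PullTensor.pullPowIso (i k) (hL (k + 1)) ((N₁ + 1) * (e₀ * 1)) ≪≫
      Groth.Agent.Helper4.AmpleIso.tensorPowIso (φ' k) ((N₁ + 1) * (e₀ * 1))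
  -- the sections
  let s₀ : Fin (N + 1) → (Coh.structureModule (Xs 0) ⟶ B 0) := fun j => σr N c₀' j ≫ τ₀.hom
  have hlift : ∀ (k : ℕ) (σ' : Coh.structureModule (Xs k) ⟶ B k),
      ∃ σ : Coh.structureModule (Xs (k + 1)) ⟶ B (k + 1),
        pullSec (i k) σ ≫ (ψ k).hom = σ' :=
    fun k σ' => hN₁ _ hE k (B k) (ψ k) σ'
  let step : ∀ k, (Fin (N + 1) → (Coh.structureModule (Xs k) ⟶ B k)) →
      (Fin (N + 1) → (Coh.structureModule (Xs (k + 1)) ⟶ B (k + 1))) :=
    fun k t j => (hlift k (t j)).choose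
  have hstep : ∀ k t j, pullSec (i k) (step k t j) ≫ (ψ k).hom = t j :=
    fun k t j => (hlift k (t j)).choose_spec
  let s : ∀ k, Fin (N + 1) → (Coh.structureModule (Xs k) ⟶ B k) := fun k =>
    Nat.rec (motive := fun k => Fin (N + 1) → (Coh.structureModule (Xs k) ⟶ B k)) s₀
      (fun k t => step k t) k
  have hs : ∀ k j, pullSec (i k) (s (k + 1) j) ≫ (ψ k).hom = s k j :=
    fun k j => hstep k (s k) j
  have h0 : ⨆ e, XE (s 0) e = ⊤ := by
    have h1 : ∀ e, XE (s 0) e = XE (σr N c₀') e := by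
      intro e
      show CohB1.genLocus _ (σr N c₀' e ≫ τ₀.hom) = CohB1.genLocus _ (σr N c₀' e)
      exact genLocus_comp_iso τ₀ _
    simp only [h1]
    exact iSup_XE_σr N c₀'
  obtain ⟨r, hr, hri, hτ⟩ := exists_tower_to_projSpace A J Xs p i hcart N B hB ψ s hs h0
  -- the bottom is the given closed immersion
  have hr0 : r 0 = c₀' := by
    obtain ⟨τ, hτ0⟩ := hτ 0
    refine eq_of_hτ N (r 0) c₀' ?_ (τ ≪≫ τ₀.symm) ?_
    · rw [hr 0]
      exact hc₀.symm
    · intro j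
      show σr N (r 0) j ≫ τ.hom ≫ τ₀.inv = σr N c₀' j
      rw [← Category.assoc, hτ0 j]
      show (σr N c₀' j ≫ τ₀.hom) ≫ τ₀.inv = _
      rw [Category.assoc, Iso.hom_inv_id, Category.comp_id]
  have hcl : ∀ k, IsClosedImmersion (r k) := by
    intro k
    induction k with
    | zero => rw [hr0]; exact hc₀cl
    | succ k ih =>
      have hir : IsClosedImmersion (i k ≫ r (k + 1)) := by rw [hri k]; exact ih
      haveI : IsProper (CohB1.ProjSpace.toSpec N A) :=
        Groth.Agent.Helper6.HProj.isProper_toSpec N A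
      exact isClosedImmersion_of_comp A J (CohB1.ProjSpace.toSpec N A) k (hcart k) (r (k + 1))
        (hr (k + 1)) hir
  exact ⟨N, r, hcl, hr, hri⟩

end Groth.Agent.Helper1.AZ
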