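import Mathlib

/-!
# Element-level consequences of quasi-isomorphisms of complexes of abelian groups
-/

set_option autoImplicit false
universe u
open CategoryTheory CategoryTheory.Limits

namespace Groth.Agent.Helper1.AbElem

/-- the morphism `ℤ ⟶ G` picking out an element -/
noncomputable def eltHom {G : AddCommGrpCat.{u}} (g : G) : AddCommGrpCat.of (ULift.{u} ℤ) ⟶ G :=
  AddCommGrpCat.ofHom ((zmultiplesHom G g).comp AddEquiv.ulift.toAddMonoidHom)

lemma eltHom_apply {G : AddCommGrpCat.{u}} (g : G) (n : ULift.{u} ℤ) :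
    (eltHom g).hom n = n.down • g := rfl

@[simp]
lemma eltHom_one {G : AddCommGrpCat.{u}} (g : G) : (eltHom g).hom ⟨1⟩ = g := by
  rw [eltHom_apply, one_zsmul]

lemma eltHom_comp {G H : AddCommGrpCat.{u}} (g : G) (f : G ⟶ H) :
    eltHom g ≫ f = eltHom (f.hom g) := by
  ext n
  change f.hom ((eltHom g).hom n) = (eltHom (f.hom g)).hom n
  rw [eltHom_apply, eltHom_apply, map_zsmul]

lemma eltHom_zero {G : AddCommGrpCat.{u}} : eltHom (0 : G) = 0 := by
  ext n
  change (eltHom (0 : G)).hom n = 0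
  rw [eltHom_apply, smul_zero]

lemma eltHom_add {G : AddCommGrpCat.{u}} (a b : G) : eltHom (a + b) = eltHom a + eltHom b := by
  ext n
  change (eltHom (a + b)).hom n = (eltHom a).hom n + (eltHom b).hom n
  rw [eltHom_apply, eltHom_apply, eltHom_apply, smul_add]

lemma eltHom_injective {G : AddCommGrpCat.{u}} {a b : G} (h : eltHom a = eltHom b) : a = b := by
  have := congrArg (fun φ => φ.hom ⟨1⟩) h
  dsimp only at this
  rwa [eltHom_one, eltHom_one] at this

variable {ι : Type*} {c : ComplexShape ι} {K L : HomologicalComplex AddCommGrpCat.{u} c}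
  (φ : K ⟶ L)

lemma inj_elem (i j k : ι) (hi : c.prev j = i) (hk : c.next j = k)
    [Mono (HomologicalComplex.homologyMap φ j)]
    (x : K.X j) (hx : (K.d j k).hom x = 0) (y : L.X i)
    (hy : (φ.f j).hom x = (L.d i j).hom y) :
    ∃ x' : K.X i, (K.d i j).hom x' = x := by
  obtain ⟨A', π, hπ, x₁, h⟩ :=
    (HomologicalComplex.mono_homologyMap_iff_up_to_refinements φ i j k hi hk).1 inferInstance
      (eltHom x) (by rw [eltHom_comp, hx, eltHom_zero]) (eltHom y)
      (by rw [eltHom_comp, eltHom_comp, hy])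
  obtain ⟨a, ha⟩ := (AddCommGrpCat.epi_iff_surjective π).1 hπ ⟨1⟩
  refine ⟨x₁.hom a, ?_⟩
  have := ConcreteCategory.congr_hom h a
  simp only [ConcreteCategory.comp_apply] at this
  have ha' : π.hom a = ⟨1⟩ := ha
  change (eltHom x).hom (π.hom a) = (K.d i j).hom (x₁.hom a) at this
  rw [ha', eltHom_one] at this
  exact this.symm

lemma surj_elem (i j k : ι) (hi : c.prev j = i) (hk : c.next j = k)
    [Epi (HomologicalComplex.homologyMap φ j)]
    (y : L.X j) (hy : (L.d j k).hom y = 0) :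
    ∃ (x : K.X j) (y' : L.X i), (K.d j k).hom x = 0 ∧ y = (φ.f j).hom x + (L.d i j).hom y' := by
  obtain ⟨A', π, hπ, x₂, hx₂, y₁, h⟩ :=
    (HomologicalComplex.epi_homologyMap_iff_up_to_refinements φ i j k hi hk).1 inferInstance
      (eltHom y) (by rw [eltHom_comp, hy, eltHom_zero])
  obtain ⟨a, ha⟩ := (AddCommGrpCat.epi_iff_surjective π).1 hπ ⟨1⟩
  have ha' : π.hom a = ⟨1⟩ := ha
  refine ⟨x₂.hom a, y₁.hom a, ?_, ?_⟩
  · exact ConcreteCategory.congr_hom hx₂ a
  · have := ConcreteCategory.congr_hom h a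
    change (eltHom y).hom (π.hom a) = (φ.f j).hom (x₂.hom a) + (L.d i j).hom (y₁.hom a) at this
    rw [ha', eltHom_one] at this
    exact this

end Groth.Agent.Helper1.AbElem
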