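import Mathlib
import Groth.Agent.Helper1.AffAlgz2
import Groth.Agent.Helper1.FormD

/-!
# AffAlgz3: coherent formal modules on `Spec A` (`A` Noetherian, `I`-adically complete) are
completions of coherent modules
-/

set_option autoImplicit false
set_option linter.style.haveILetI false
set_option linter.unusedSectionVars false

universe u

open CategoryTheory CategoryTheory.Limits AlgebraicGeometry Opposite

namespace Groth.Agent.Helper1.AffAlgz

open Groth.Agent.Helper1.Form Groth.Agent.Helper1.QuotPush Groth.Agent.Lead Groth.Agent.Helper4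
open Groth.Agent.Helper1.KLQuot

attribute [local instance] selfOver

variable {A : Type u} [CommRing A] {I : Ideal A}
  (G : ℕᵒᵖ ⥤ (Spec (CommRingCat.of A)).Modules)

/-- the global sections functor -/
noncomputable abbrev Γf : (Spec (CommRingCat.of A)).Modules ⥤ ModuleCat.{u} A :=
  moduleSpecΓFunctor (R := CommRingCat.of A)

/-- the module of compatible families, as an object of `ModuleCat A` -/
noncomputable abbrev LM : ModuleCat.{u} A := ModuleCat.of A (L G)

/-- the associated quasi-coherent module -/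
noncomputable abbrev tM : (Spec (CommRingCat.of A)).Modules :=
  (tilde.functor (CommRingCat.of A)).obj (LM G)

/-- the projections, as morphisms of `ModuleCat A` -/
noncomputable def pn (n : ℕ) : LM G ⟶ Γf.obj (G.obj (op n)) :=
  show ModuleCat.of A (L G) ⟶ ModuleCat.of A (Mn G n) from
    ModuleCat.ofHom ((LinearMap.proj n).comp (L G).subtype : L G →ₗ[A] Mn G n)

/-- the maps `M~ ⟶ G_n` -/
noncomputable def ρn (n : ℕ) : tM G ⟶ G.obj (op n) :=
  ((tilde.adjunction (R := CommRingCat.of A)).homEquiv (LM G) (G.obj (op n))).symm (pn G n)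

lemma unit_ρn (n : ℕ) :
    (tilde.toTildeΓNatIso (R := CommRingCat.of A)).hom.app (LM G) ≫ Γf.map (ρn G n) = pn G n :=
  ((tilde.adjunction (R := CommRingCat.of A)).homEquiv_unit (f := ρn G n)).symm.trans
    (Equiv.apply_symm_apply
      ((tilde.adjunction (R := CommRingCat.of A)).homEquiv (LM G) (G.obj (op n))) (pn G n))

/-- the unit, as a linear equivalence `L ≃ Γ(M~)` -/
noncomputable def eL : L G ≃ₗ[A] Γ(tM G, (⊤ : (Spec (CommRingCat.of A)).Opens)) :=
  ((tilde.toTildeΓNatIso (R := CommRingCat.of A)).app (LM G)).toLinearEquiv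

lemma ρn_eL (n : ℕ) (l : L G) : (ρn G n).app ⊤ (eL G l) = l.1 n :=
  congrArg (fun f => f.hom l) (unit_ρn G n)

lemma ρn_succ (n : ℕ) : ρn G (n + 1) ≫ G.map (homOfLE (Nat.le_succ n)).op = ρn G n := by
  unfold ρn
  rw [← Adjunction.homEquiv_naturality_right_symm]
  congr 1
  apply ModuleCat.hom_ext
  apply LinearMap.ext
  intro l
  exact l.2 n

instance isQuasicoherent_tM : (tM G).IsQuasicoherent :=
  inferInstanceAs ((tilde (R := CommRingCat.of A) (LM G)).IsQuasicoherent)

variable {G} [IsNoetherianRing A] [IsAdicComplete I A] (hG : Formal.IsCohFormal I G)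

include hG in
/-- `M~ ⟶ G_n` is the quotient by `I^(n+1)` -/
theorem isQuot_ρn (n : ℕ) : IsQuot (I ^ (n + 1)) (ρn G n) := by
  obtain ⟨-, hheart⟩ := heart hG
  haveI : (G.obj (op n)).IsQuasicoherent := (hG.1 n).1
  have hk : Kills (I ^ (n + 1)) (ρn G n) := kills_of_killedBy_right (hG.2.1 n) _
  have hfac : Formal.modPowπ I (n + 1) (tM G) ≫
      (isQuot_modPowπ I (n + 1) (tM G)).desc (ρn G n) hk = ρn G n :=
    (isQuot_modPowπ I (n + 1) (tM G)).fac_desc _ _
  haveI : IsIso ((isQuot_modPowπ I (n + 1) (tM G)).desc (ρn G n) hk) := by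
    apply QcohLocal.isIso_of_app_bijective_of_affine_cover
    intro x
    refine ⟨⊤, isAffineOpen_top _, trivial, ?_, ?_⟩
    · rw [injective_iff_map_eq_zero]
      intro z hz
      obtain ⟨x, rfl⟩ := KLQuot.app_surjective (isQuot_modPowπ I (n + 1) (tM G))
        (isAffineOpen_top _) z
      obtain ⟨l, rfl⟩ := (eL G).surjective x
      have h1 : (ρn G n).app ⊤ (eL G l) = 0 :=
        (congrArg (fun f => Scheme.Modules.Hom.app f ⊤ (eL G l)) hfac).symm.trans hz
      rw [ρn_eL] at h1
      have h2 : l ∈ LinearMap.ker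
          ((LinearMap.proj n).comp (L G).subtype : L G →ₗ[A] Mn G n) := h1
      rw [(hheart n).2] at h2
      have h3 : eL G l ∈ I ^ (n + 1) •
          (⊤ : Submodule A Γ(tM G, (⊤ : (Spec (CommRingCat.of A)).Opens))) :=
        Groth.Agent.Helper1.ARHom.apply_mem_smul_top (eL G).toLinearMap h2
      exact KLQuot.app_eq_zero_of_mem_smul_top (isQuot_modPowπ I (n + 1) (tM G)).kills ⊤
        (mem_map_smul_top_of_mem _ _ h3)
    · intro y
      obtain ⟨l, hl⟩ := (hheart n).1 y
      refine ⟨(Formal.modPowπ I (n + 1) (tM G)).app ⊤ (eL G l), ?_⟩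
      refine (congrArg (fun f => Scheme.Modules.Hom.app f ⊤ (eL G l)) hfac).trans ?_
      rw [ρn_eL]
      exact hl
  have := (isQuot_modPowπ I (n + 1) (tM G)).comp_iso
    ((isQuot_modPowπ I (n + 1) (tM G)).desc (ρn G n) hk)
  rwa [hfac] at this

include hG in
/-- **coherent formal modules on `Spec A` are completions of coherent modules** -/
theorem exists_coh_completion_iso :
    ∃ 𝓜 : (Spec (CommRingCat.of A)).Modules, Coh.IsCoh 𝓜 ∧
      Nonempty (Formal.completion I 𝓜 ≅ G) := by
  obtain ⟨hfin, -⟩ := heart hG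
  haveI : Module.Finite (CommRingCat.of A) (LM G) := hfin
  refine ⟨tM G, ⟨inferInstance, FTTilde.isFT_tilde_of_finite (CommRingCat.of A) (LM G)⟩, ?_⟩
  obtain ⟨e, -⟩ := exists_completion_iso (I := I) (tM G) G (ρn G) (isQuot_ρn hG)
    (fun n => ρn_succ G n)
  exact ⟨e⟩

end Groth.Agent.Helper1.AffAlgz
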