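import Groth.Agent.Helper1.AffLin
import Groth.Prelude.Def_Canon

/-!
# `Hⁱ(X, M) ≃ₗ[A] Hⁱ(S, f_* M)` for an affine morphism, compatibly with endomorphisms of `M`
-/

set_option autoImplicit false

namespace Groth.Agent.Helper1.AffLin

open CategoryTheory Limits AlgebraicGeometry Opposite
open Groth.Agent.Helper1.CohTopFun

universe u

variable {X S : Scheme.{u}} (f : X ⟶ S)

/-- **`A`-linear degenerate Leray** for affine morphisms, compatible with endomorphisms -/
theorem exists_HH_linearEquiv_end (A : Type u) [CommRing A] [X.Over (Spec (CommRingCat.of A))]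
    [S.Over (Spec (CommRingCat.of A))] [IsAffineHom f]
    (hf : f ≫ (S ↘ Spec (CommRingCat.of A)) = X ↘ Spec (CommRingCat.of A))
    (M : X.Modules) [Coh.IsQCoh M] (i : ℕ) :
    ∃ σ : Coh.HH X M i ≃ₗ[A] Coh.HH S ((Coh.push f).obj M) i,
      ∀ (v : M ⟶ M) (x : Coh.HH X M i),
        σ (Canon.HHlin A v i x) = Canon.HHlin A ((Coh.push f).map v) i (σ x) := by
  obtain ⟨ψ, hψ⟩ := exists_iso_H_push_of_acyclic_eq f.base i (Coh.toAb M)
    (Sum.elim (fun a : A => Coh.smulAb M (Coh.toGlobal (X ↘ Spec (CommRingCat.of A)) a))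
      (fun v : M ⟶ M => (SheafOfModules.toSheaf X.ringCatSheaf).map v))
    (fun q => Groth.Agent.Helper1.Serre.isZero_RpushAb_of_isAffineHom f M q)
  refine ⟨{ ψ.addCommGroupIsoToAddEquiv with map_smul' := fun a x => ?_ }, fun v x => ?_⟩
  · have h1 := ConcreteCategory.congr_hom (hψ (Sum.inl a)) x
    have h2 : Coh.smulAb M (Coh.toGlobal (X ↘ Spec (CommRingCat.of A)) a) =
        Coh.smulAb M (f.appTop.hom (Coh.toGlobal (S ↘ Spec (CommRingCat.of A)) a)) := by
      rw [← toGlobal_comp, hf]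
    have h3 := push_smulAb f M (Coh.toGlobal (S ↘ Spec (CommRingCat.of A)) a)
    rw [← h2] at h3
    show ψ.hom (Sheaf.H.map (Coh.smulAb M (Coh.toGlobal (X ↘ Spec (CommRingCat.of A)) a)) i x) =
      Sheaf.H.map (Coh.smulAb ((Coh.push f).obj M)
        (Coh.toGlobal (S ↘ Spec (CommRingCat.of A)) a)) i (ψ.hom x)
    rw [← h3]
    exact h1
  · have h1 := ConcreteCategory.congr_hom (hψ (Sum.inr v)) x
    exact h1

end Groth.Agent.Helper1.AffLin
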