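import Groth.Agent.Helper1.CohTopLeray
import Groth.Agent.S0456

/-!
# `R^p g_* (f_* F) ≅ R^p (g ∘ f)_* F` when `R^q f_* F = 0` for `q > 0`
-/

namespace Groth.Agent.Helper1.RpushComp

open CategoryTheory Limits Opposite TopologicalSpace Abelian
open Groth.Agent.Lead.CohTopB
open Groth.Agent.Helper1.DeltaCmp

universe u

variable {X Y Z : TopCat.{u}} (f : X ⟶ Y) (g : Y ⟶ Z)

/-- `(g ∘ f)_* ≅ g_* ∘ f_*` on abelian sheaves -/
noncomputable def pushCompIso : CohTop.push (f ≫ g) ≅ CohTop.push f ⋙ CohTop.push g :=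
  NatIso.ofComponents (fun F => Iso.refl _) (by intros; rfl)

theorem nonempty_iso_Rpush_comp (n : ℕ) (F : CohTop.Ab X)
    (h : ∀ q : ℕ, IsZero ((CohTop.Rpush f (q + 1)).obj F)) :
    Nonempty ((CohTop.Rpush (f ≫ g) n).obj F ≅ (CohTop.Rpush g n).obj ((CohTop.push f).obj F)) := by
  have e : CohTop.Rpush (f ≫ g) 0 ≅ CohTop.push f ⋙ CohTop.Rpush g 0 :=
    (CohTop.push (f ≫ g)).rightDerivedZeroIsoSelf ≪≫ pushCompIso f g ≪≫
      Functor.isoWhiskerLeft (CohTop.push f) (CohTop.push g).rightDerivedZeroIsoSelf.symm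
  have key : ∀ F : CohTop.Ab X, (∀ q : ℕ, IsZero ((CohTop.Rpush f (q + 1)).obj F)) →
      Nonempty (Effacement (fun n => CohTop.Rpush (f ≫ g) n)
        (fun n => CohTop.push f ⋙ CohTop.Rpush g n)
        (fun F => ∀ q : ℕ, IsZero ((CohTop.Rpush f (q + 1)).obj F)) F) := by
    intro F hF
    obtain ⟨S, hS, hI, rfl⟩ : ∃ (S : ShortComplex (CohTop.Ab X)) (_ : S.ShortExact)
        (_ : Injective S.X₂), S.X₁ = F := ⟨injSC F, injSC_shortExact F, inferInstance, rfl⟩
    have l1 : HasLES (fun n => CohTop.Rpush (f ≫ g) n) S :=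
      Horseshoe.hasLES_rightDerived (CohTop.push (f ≫ g)) S hS
    have l2 : HasLES (fun n => CohTop.push f ⋙ CohTop.Rpush g n) S :=
      Horseshoe.hasLES_rightDerived (CohTop.push g) (S.map (CohTop.push f))
        (DerLES.shortExact_map (CohTop.push f) S hS (hF 0))
    exact ⟨{
      S := S
      iso := rfl
      mem := fun q => DerLES.isZero_rightDerived_X₃ (CohTop.push f) S hS q
        (Functor.isZero_rightDerived_obj_injective_succ _ _ _) (hF (q + 1))
      zero := fun n => Functor.isZero_rightDerived_obj_injective_succ _ _ _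
      zero' := fun n => by
        have : TopCat.Sheaf.IsFlasque S.X₂ := isFlasque_of_injective S.X₂
        have : TopCat.Sheaf.IsFlasque ((CohTop.push f).obj S.X₂) :=
          TopCat.Sheaf.IsFlasque.pushforward_isFlasque S.X₂ f
        exact Groth.Agent.S0456.result g ((CohTop.push f).obj S.X₂) n
      les := l1
      les' := l2 }⟩
  exact nonempty_iso _ e key n F h

end Groth.Agent.Helper1.RpushComp
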