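import Mathlib
import Groth.Agent.Helper1.FinFib
import Groth.Agent.Helper1.RpushComp

/-!
# `i_* (F|_U)` is acyclic for `f_*` when `U → Y` is affine and `f` is separated
-/

set_option autoImplicit false

namespace Groth.Agent.Helper1.AffOpenAcyc

open CategoryTheory Limits AlgebraicGeometry Opposite TopologicalSpace

universe u

/-- `Rʲ f_* (i_* G) = 0` for `j > 0`, `G` quasi-coherent, `i` and `i ≫ f` affine -/
theorem isZero_Rpush_push {U X Y : Scheme.{u}} (i : U ⟶ X) (f : X ⟶ Y) [IsAffineHom i]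
    [IsAffineHom (i ≫ f)] [HasInjectiveResolutions X.Modules] (G : U.Modules)
    [G.IsQuasicoherent] (q : ℕ) :
    IsZero ((Coh.Rpush f (q + 1)).obj ((Scheme.Modules.pushforward i).obj G)) := by
  apply Groth.Agent.Helper9.SpRelExt.isZero_of_isZero_tA
  refine IsZero.of_iso ?_
    ((Groth.Agent.Helper1.RpCmpNat.iso f (q + 1)).app ((Scheme.Modules.pushforward i).obj G))
  obtain ⟨e⟩ := Groth.Agent.Helper1.RpushComp.nonempty_iso_Rpush_comp i.base f.base (q + 1)
    (Coh.toAb G) (fun q' => Groth.Agent.Helper1.Serre.isZero_RpushAb_of_isAffineHom i G q')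
  refine IsZero.of_iso ?_ e.symm
  exact Groth.Agent.Helper1.Serre.isZero_RpushAb_of_isAffineHom (i ≫ f) G q

end Groth.Agent.Helper1.AffOpenAcyc
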