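import Mathlib
import Groth.Agent.Helper1.ProLim

/-!
# ProAlg1: Mittag-Leffler systems of modules: the image of the limit is the stable image
-/

set_option autoImplicit false
set_option linter.style.haveILetI false
set_option linter.unusedSectionVars false

universe v u

open CategoryTheory CategoryTheory.Limits Opposite

namespace Groth.Agent.Helper1.ProAlg

open Groth.Agent.Helper1.ProML Groth.Agent.Helper1.ProLim

variable {A : Type u} [CommRing A]

lemma range_eq_range_arrow {P Z : ModuleCat.{u} A} (f : P ⟶ Z) :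
    LinearMap.range f.hom = LinearMap.range (imageSubobject f).arrow.hom := by
  have h1 : factorThruImageSubobject f ≫ (imageSubobject f).arrow = f :=
    imageSubobject_arrow_comp f
  have h2 : Function.Surjective (factorThruImageSubobject f).hom :=
    (ModuleCat.epi_iff_surjective _).1 inferInstance
  conv_lhs => rw [← h1]
  rw [ModuleCat.hom_comp, LinearMap.range_comp, LinearMap.range_eq_top.2 h2, Submodule.map_top]

lemma range_eq_of_imageSubobject_eq {P P' Z : ModuleCat.{u} A} (f : P ⟶ Z) (g : P' ⟶ Z)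
    (h : imageSubobject f = imageSubobject g) :
    LinearMap.range f.hom = LinearMap.range g.hom := by
  rw [range_eq_range_arrow f, range_eq_range_arrow g, h]

/-- dependent choice along a tower with surjectivity on distinguished subsets -/
lemma exists_seq {α : ℕ → Type*} (S : ∀ j, Set (α j)) (f : ∀ j, α (j + 1) → α j)
    (hsurj : ∀ j, ∀ x ∈ S j, ∃ y ∈ S (j + 1), f j y = x) (x₀ : α 0) (hx₀ : x₀ ∈ S 0) :
    ∃ x : ∀ j, α j, x 0 = x₀ ∧ ∀ j, f j (x (j + 1)) = x j := by
  let g : ∀ j, {x : α j // x ∈ S j} := fun j =>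
    Nat.rec (motive := fun j => {x : α j // x ∈ S j}) ⟨x₀, hx₀⟩
      (fun j p => ⟨(hsurj j p.1 p.2).choose, (hsurj j p.1 p.2).choose_spec.1⟩) j
  refine ⟨fun j => (g j).1, rfl, fun j => ?_⟩
  exact (hsurj j (g j).1 (g j).2).choose_spec.2

variable (X : ARSys.PS (ModuleCat.{u} A))

lemma range_tr_anti {n s s' : ℕ} (h : n ≤ s) (h' : s ≤ s') :
    LinearMap.range (ARSys.tr X (h.trans h')).hom ≤ LinearMap.range (ARSys.tr X h).hom := by
  rw [← tr_comp X h h', range_comp]
  exact LinearMap.map_le_range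

/-- reformulation of the Mittag-Leffler condition through ranges -/
lemma ml_range (hML : ARSys.IsML X) (n : ℕ) :
    ∃ (t₀ : ℕ) (h₀ : n ≤ t₀), ∀ (t : ℕ) (ht : t₀ ≤ t),
      LinearMap.range (ARSys.tr X (h₀.trans ht)).hom = LinearMap.range (ARSys.tr X h₀).hom := by
  obtain ⟨r, hr⟩ := hML n
  refine ⟨n + r, Nat.le_add_right n r, fun t ht => ?_⟩
  obtain ⟨s, rfl⟩ : ∃ s, t = n + s := ⟨t - n, by omega⟩
  exact range_eq_of_imageSubobject_eq _ _ (hr s (by omega))

/-- for a Mittag-Leffler system of modules, the stable images are the images of the limit -/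
theorem stab (hML : ARSys.IsML X) (n : ℕ) :
    ∃ (s : ℕ) (h : n ≤ s),
      LinearMap.range (ARSys.tr X h).hom ≤ LinearMap.range (limit.π X (op n)).hom := by
  choose t₀ h₀ hst using ml_range X hML
  -- the stable images
  let S' : ∀ i : ℕ, Set ↑(X.obj (op i)) := fun i => LinearMap.range (ARSys.tr X (h₀ i)).hom
  have hS' : ∀ (i t : ℕ) (ht : t₀ i ≤ t) (z : ↑(X.obj (op t))),
      (ARSys.tr X ((h₀ i).trans ht)).hom z ∈ S' i := by
    intro i t ht z
    show _ ∈ LinearMap.range (ARSys.tr X (h₀ i)).hom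
    rw [← hst i t ht]
    exact ⟨z, rfl⟩
  have hsurj : ∀ i : ℕ, ∀ x ∈ S' i, ∃ y ∈ S' (i + 1),
      (ARSys.tr X (Nat.le_succ i)).hom y = x := by
    intro i x hx
    have ht1 : t₀ i ≤ max (t₀ i) (t₀ (i + 1)) := le_max_left _ _
    have ht2 : t₀ (i + 1) ≤ max (t₀ i) (t₀ (i + 1)) := le_max_right _ _
    have hx' : x ∈ LinearMap.range (ARSys.tr X ((h₀ i).trans ht1)).hom := by
      rw [hst i _ ht1]
      exact hx
    obtain ⟨z, rfl⟩ := hx'
    refine ⟨(ARSys.tr X ((h₀ (i + 1)).trans ht2)).hom z, hS' (i + 1) _ ht2 z, ?_⟩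
    have e : ARSys.tr X ((h₀ (i + 1)).trans ht2) ≫ ARSys.tr X (Nat.le_succ i) =
        ARSys.tr X ((h₀ i).trans ht1) := tr_comp X _ _
    have := congrArg (fun f => f.hom z) e
    simpa only [ModuleCat.hom_comp, LinearMap.comp_apply] using this
  refine ⟨t₀ n, h₀ n, ?_⟩
  rintro x₀ hx₀
  obtain ⟨x, hx0, hx⟩ := exists_seq (α := fun j => ↑(X.obj (op (n + j))))
    (fun j => S' (n + j)) (fun j => (ARSys.tr X (Nat.le_succ (n + j))).hom)
    (fun j => hsurj (n + j)) x₀ hx₀
  -- the compatible family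
  let y : ∀ i : ℕ, ↑(X.obj (op i)) := fun i => (ARSys.tr X (Nat.le_add_left i n)).hom (x i)
  have hy : ∀ i : ℕ, (ARSys.tr X (Nat.le_succ i)).hom (y (i + 1)) = y i := by
    intro i
    show (ARSys.tr X (Nat.le_succ i)).hom ((ARSys.tr X (Nat.le_add_left (i + 1) n)).hom (x (i + 1)))
      = (ARSys.tr X (Nat.le_add_left i n)).hom (x i)
    rw [← hx i]
    have e : ARSys.tr X (Nat.le_add_left (i + 1) n) ≫ ARSys.tr X (Nat.le_succ i) =
        ARSys.tr X (Nat.le_succ (n + i)) ≫ ARSys.tr X (Nat.le_add_left i n) := by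
      rw [tr_comp, tr_comp]
    have := congrArg (fun f => f.hom (x (i + 1))) e
    simpa only [ModuleCat.hom_comp, LinearMap.comp_apply] using this
  obtain ⟨l, hl⟩ := exists_of_compat X y (compat_of_succ X y hy)
  refine ⟨l, ?_⟩
  rw [hl n]
  -- `y n = x 0`
  have hx_all : ∀ j : ℕ, (ARSys.tr X (Nat.le_add_right n j)).hom (x j) = x 0 := by
    intro j
    induction j with
    | zero =>
      show (ARSys.tr X (le_refl n)).hom (x 0) = x 0
      rw [tr_self]
      rfl
    | succ j ih =>
      rw [← ih, ← hx j]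
      have e : ARSys.tr X (Nat.le_add_right n (j + 1)) =
          ARSys.tr X (Nat.le_succ (n + j)) ≫ ARSys.tr X (Nat.le_add_right n j) := by
        rw [tr_comp]
      have := congrArg (fun f => f.hom (x (j + 1))) e
      simpa only [ModuleCat.hom_comp, LinearMap.comp_apply] using this
  rw [← hx0]
  exact hx_all n

end Groth.Agent.Helper1.ProAlg
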