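import Mathlib
import Groth.Agent.Helper1.ProAlg1

/-!
# ProAlg2: a Mittag-Leffler system of modules whose limit has the `I`-adic topology is
pro-isomorphic to the system `(M/I^(n+1)M)` of its limit `M`
-/

set_option autoImplicit false
set_option linter.style.haveILetI false
set_option linter.unusedSectionVars false

universe v u

open CategoryTheory CategoryTheory.Limits Opposite

namespace Groth.Agent.Helper1.ProAlg

open Groth.Agent.Helper1.ProML Groth.Agent.Helper1.ProLim

variable {A : Type u} [CommRing A]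

section QuotSys

variable (I : Ideal A) (M : Type u) [AddCommGroup M] [Module A M]

lemma pow_smul_le {n k : ℕ} (h : n ≤ k) :
    I ^ (k + 1) • (⊤ : Submodule A M) ≤ I ^ (n + 1) • (⊤ : Submodule A M) :=
  Submodule.smul_mono_left (Ideal.pow_le_pow_right (by omega))

/-- the system `n ↦ M/I^(n+1)M` -/
noncomputable def quotSys : ℕᵒᵖ ⥤ ModuleCat.{u} A where
  obj n := ModuleCat.of A (M ⧸ (I ^ (n.unop + 1) • (⊤ : Submodule A M)))
  map {n k} f := ModuleCat.ofHom (Submodule.factor (pow_smul_le I M (leOfHom f.unop)))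
  map_id n := by
    apply ModuleCat.hom_ext
    apply LinearMap.ext
    intro x
    obtain ⟨x, rfl⟩ := Submodule.mkQ_surjective _ x
    exact Submodule.factor_mk (pow_smul_le I M (leOfHom (𝟙 n : n ⟶ n).unop)) x
  map_comp {n k l} f g := by
    apply ModuleCat.hom_ext
    apply LinearMap.ext
    intro x
    obtain ⟨x, rfl⟩ := Submodule.mkQ_surjective _ x
    exact (Submodule.factor_mk (pow_smul_le I M (leOfHom (f ≫ g).unop)) x).trans
      ((Submodule.factor_mk (pow_smul_le I M (leOfHom g.unop)) x).symm.trans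
        (congrArg (Submodule.factor (pow_smul_le I M (leOfHom g.unop)))
          (Submodule.factor_mk (pow_smul_le I M (leOfHom f.unop)) x).symm))

lemma quotSys_tr_mk {n k : ℕ} (h : n ≤ k) (x : M) :
    (ARSys.tr (quotSys I M) h).hom
      (Submodule.Quotient.mk x : M ⧸ (I ^ (k + 1) • (⊤ : Submodule A M))) =
      (Submodule.Quotient.mk x : M ⧸ (I ^ (n + 1) • (⊤ : Submodule A M))) := rfl

end QuotSys

/-- a linear map through a quotient, characterised by lifts -/
lemma exists_lift_map {P N L : Type u} [AddCommGroup P] [Module A P] [AddCommGroup N]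
    [Module A N] [AddCommGroup L] [Module A L] (t : P →ₗ[A] N) (π : L →ₗ[A] N)
    (hr : LinearMap.range t ≤ LinearMap.range π) (W : Submodule A L)
    (hW : LinearMap.ker π ≤ W) :
    ∃ a : P →ₗ[A] L ⧸ W, ∀ (x : P) (l : L), π l = t x → a x = Submodule.Quotient.mk l := by
  let c : P →ₗ[A] LinearMap.range π := t.codRestrict _ (fun x => hr ⟨x, rfl⟩)
  refine ⟨(Submodule.factor hW).comp ((LinearMap.quotKerEquivRange π).symm.toLinearMap.comp c), ?_⟩
  intro x l hl
  have h1 : c x = ⟨π l, ⟨l, rfl⟩⟩ := Subtype.ext hl.symm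
  show Submodule.factor hW ((LinearMap.quotKerEquivRange π).symm (c x)) = _
  rw [h1]
  have h2 : (LinearMap.quotKerEquivRange π).symm ⟨π l, ⟨l, rfl⟩⟩ =
      (LinearMap.ker π).mkQ l := LinearMap.quotKerEquivRange_symm_apply_image π l ⟨l, rfl⟩
  rw [h2]
  rfl

section Main

variable (I : Ideal A) (X : ARSys.PS (ModuleCat.{u} A))

lemma ker_π_anti {n n' : ℕ} (h : n ≤ n') :
    LinearMap.ker (limit.π X (op n')).hom ≤ LinearMap.ker (limit.π X (op n)).hom := by
  intro l hl
  have hl0 : (limit.π X (op n')).hom l = 0 := hl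
  show (limit.π X (op n)).hom l = 0
  rw [← π_tr X h l, hl0, map_zero]

/-- auxiliary monotone majorant -/
def maj (f : ℕ → ℕ) (j : ℕ) : ℕ := j + ∑ i ∈ Finset.range (j + 1), f i

lemma maj_mono (f : ℕ → ℕ) : Monotone (maj f) := by
  intro j j' h
  unfold maj
  have : ∑ i ∈ Finset.range (j + 1), f i ≤ ∑ i ∈ Finset.range (j' + 1), f i :=
    Finset.sum_le_sum_of_subset (Finset.range_mono (by omega))
  omega

lemma le_maj (f : ℕ → ℕ) (j : ℕ) : j ≤ maj f j := Nat.le_add_right _ _

lemma apply_le_maj (f : ℕ → ℕ) (j : ℕ) : f j ≤ maj f j := by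
  unfold maj
  have : f j ≤ ∑ i ∈ Finset.range (j + 1), f i :=
    Finset.single_le_sum (f := f) (fun _ _ => Nat.zero_le _) (Finset.self_mem_range_succ j)
  omega

/-- **the pro-isomorphism** -/
theorem isProIsomorphic_quotSys (hML : ARSys.IsML X)
    (hb : ∀ j : ℕ, ∃ n : ℕ, LinearMap.ker (limit.π X (op n)).hom ≤
      I ^ (j + 1) • (⊤ : Submodule A ↑(limit X)))
    (hd : ∀ (n : ℕ) (a : A), a ∈ I ^ (n + 1) → ∀ x : ↑(X.obj (op n)), a • x = 0) :
    Algz.IsProIsomorphic X (quotSys I ↑(limit X)) := by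
  -- choice of `k`
  choose k₀ hk₀ using hb
  let k : ℕ → ℕ := maj k₀
  have hk_mono : Monotone k := maj_mono k₀
  have hk_le : ∀ j, j ≤ k j := le_maj k₀
  have hk : ∀ j, LinearMap.ker (limit.π X (op (k j))).hom ≤
      I ^ (j + 1) • (⊤ : Submodule A ↑(limit X)) :=
    fun j => (ker_π_anti X (apply_le_maj k₀ j)).trans (hk₀ j)
  -- choice of `m`
  choose s₀ hs₀ hs₀' using fun j => stab X hML (k j)
  let m : ℕ → ℕ := maj s₀
  have hm : Monotone m := maj_mono s₀
  have hkm : ∀ j, k j ≤ m j := fun j => (hs₀ j).trans (apply_le_maj s₀ j)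
  have hmn : ∀ j, j ≤ m j := le_maj s₀
  have hrange : ∀ j, LinearMap.range (ARSys.tr X (hkm j)).hom ≤
      LinearMap.range (limit.π X (op (k j))).hom :=
    fun j => (range_tr_anti X (hs₀ j) (apply_le_maj s₀ j)).trans (hs₀' j)
  -- the maps `a_j`
  choose a ha using fun j => exists_lift_map (ARSys.tr X (hkm j)).hom (limit.π X (op (k j))).hom
    (hrange j) (I ^ (j + 1) • (⊤ : Submodule A ↑(limit X))) (hk j)
  have hlift : ∀ (j : ℕ) (x : ↑(X.obj (op (m j)))), ∃ l : ↑(limit X),
      (limit.π X (op (k j))).hom l = (ARSys.tr X (hkm j)).hom x :=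
    fun j x => hrange j ⟨x, rfl⟩
  -- naturality
  have hnat : ∀ (j j' : ℕ) (h : j ≤ j') (x : ↑(X.obj (op (m j')))),
      a j ((ARSys.tr X (hm h)).hom x) = (ARSys.tr (quotSys I ↑(limit X)) h).hom (a j' x) := by
    intro j j' h x
    obtain ⟨l, hl⟩ := hlift j' x
    rw [ha j' x l hl, quotSys_tr_mk]
    apply ha j _ l
    rw [← π_tr X (hk_mono h) l, hl]
    have e : ARSys.tr X (hkm j') ≫ ARSys.tr X (hk_mono h) =
        ARSys.tr X (hm h) ≫ ARSys.tr X (hkm j) := by
      rw [tr_comp, tr_comp]
    have := congrArg (fun f => f.hom x) e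
    simpa only [ModuleCat.hom_comp, LinearMap.comp_apply] using this
  let α : DerCA.reindex X hm ⟶ quotSys I ↑(limit X) :=
    { app := fun j => ModuleCat.ofHom (a j.unop)
      naturality := by
        intro j j' f
        have h : j'.unop ≤ j.unop := leOfHom f.unop
        have e : f = (homOfLE h).op := Subsingleton.elim _ _
        subst e
        apply ModuleCat.hom_ext
        apply LinearMap.ext
        intro x
        exact hnat j'.unop j.unop h x }
  refine ⟨m, hm, hmn, α, ?_⟩
  intro n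
  -- the inverse: induced by the projection to `X_{m n}`
  have hle : I ^ (m n + 1) • (⊤ : Submodule A ↑(limit X)) ≤
      LinearMap.ker (limit.π X (op (m n))).hom := by
    rw [Submodule.smul_le]
    intro r hr l _
    show (limit.π X (op (m n))).hom (r • l) = 0
    rw [map_smul]
    exact hd (m n) r hr _
  let b : (quotSys I ↑(limit X)).obj (op (m n)) ⟶ X.obj (op (m n)) :=
    ModuleCat.ofHom (Submodule.liftQ _ (limit.π X (op (m n))).hom hle)
  have hb_mk : ∀ l : ↑(limit X), b.hom (Submodule.Quotient.mk l) =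
      (limit.π X (op (m n))).hom l := fun l => rfl
  refine ⟨m n, hmn n, b, ?_, ?_⟩
  · apply ModuleCat.hom_ext
    apply LinearMap.ext
    intro x
    show b.hom (a (m n) x) = (ARSys.tr X (hm (hmn n))).hom x
    obtain ⟨l, hl⟩ := hlift (m n) x
    rw [ha (m n) x l hl, hb_mk, ← π_tr X (hk_le (m n)) l, hl]
    have e : ARSys.tr X (hkm (m n)) ≫ ARSys.tr X (hk_le (m n)) = ARSys.tr X (hm (hmn n)) := by
      rw [tr_comp]
    have := congrArg (fun f => f.hom x) e
    simpa only [ModuleCat.hom_comp, LinearMap.comp_apply] using this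
  · apply ModuleCat.hom_ext
    apply Submodule.linearMap_qext
    apply LinearMap.ext
    intro l
    show a n (b.hom (Submodule.Quotient.mk l)) =
      (ARSys.tr (quotSys I ↑(limit X)) (hmn n)).hom (Submodule.Quotient.mk l)
    rw [hb_mk, quotSys_tr_mk]
    apply ha n _ l
    exact (π_tr X (hkm n) l).symm

/-- finiteness of the quotients of the limit -/
theorem finite_quot (hb : ∀ j : ℕ, ∃ n : ℕ, LinearMap.ker (limit.π X (op n)).hom ≤
      I ^ (j + 1) • (⊤ : Submodule A ↑(limit X)))
    (hc : ∀ n : ℕ, Module.Finite A ↥(LinearMap.range (limit.π X (op n)).hom)) (j : ℕ) :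
    Module.Finite A (↑(limit X) ⧸ (I ^ (j + 1) • (⊤ : Submodule A ↑(limit X)))) := by
  obtain ⟨n, hn⟩ := hb j
  haveI := hc n
  refine Module.Finite.of_surjective
    ((Submodule.factor hn).comp (LinearMap.quotKerEquivRange (limit.π X (op n)).hom).symm.toLinearMap)
    ?_
  exact (Submodule.factor_surjective hn).comp (LinearEquiv.surjective _)

end Main

end Groth.Agent.Helper1.ProAlg
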