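import Mathlib
import Groth.Agent.Helper1.ProAlg2
import Groth.Agent.Helper1.AffAlgz3

/-!
# ProAlg3: systems of modules giving coherent formal modules on `Spec A`; the converse
criterion for canonical extension (S9534)
-/

set_option autoImplicit false
set_option linter.style.haveILetI false
set_option linter.unusedSectionVars false

universe v u

open CategoryTheory CategoryTheory.Limits AlgebraicGeometry Opposite

namespace Groth.Agent.Helper1.ProAlg

open Groth.Agent.Helper1.ProML Groth.Agent.Helper1.ProLim
open Groth.Agent.Helper1.Form Groth.Agent.Helper1.QuotPush Groth.Agent.Helper1.AffAlgz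
open Groth.Agent.Helper4

attribute [local instance] selfOver

variable {A : Type u} [CommRing A]

/-- the unit of the tilde adjunction as a linear equivalence `P ≃ Γ(P~)` -/
noncomputable def eP (P : ModuleCat.{u} A) :
    P ≃ₗ[A] Γ((tilde.functor (CommRingCat.of A)).obj P, (⊤ : (Spec (CommRingCat.of A)).Opens)) :=
  ((tilde.toTildeΓNatIso (R := CommRingCat.of A)).app P).toLinearEquiv

lemma eP_nat {P P' : ModuleCat.{u} A} (φ : P ⟶ P') (x : P) :
    ((tilde.functor (CommRingCat.of A)).map φ).app ⊤ (eP P x) = eP P' (φ.hom x) :=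
  (congrArg (fun f => f.hom x)
    ((tilde.toTildeΓNatIso (R := CommRingCat.of A)).hom.naturality φ)).symm

instance isQuasicoherent_tildeObj (P : ModuleCat.{u} A) :
    ((tilde.functor (CommRingCat.of A)).obj P).IsQuasicoherent :=
  inferInstanceAs ((tilde (R := CommRingCat.of A) P).IsQuasicoherent)

/-- a map of quasi-coherent modules on `Spec A` which on global sections is surjective with
kernel `J·Γ` is a quotient by `J` -/
theorem isQuot_of_global {J : Ideal A} {K K' : (Spec (CommRingCat.of A)).Modules}
    [K.IsQuasicoherent] [K'.IsQuasicoherent] (p : K ⟶ K')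
    (hs : Function.Surjective (p.app ⊤))
    (hker : LinearMap.ker (appA p ⊤) =
      J • (⊤ : Submodule A Γ(K, (⊤ : (Spec (CommRingCat.of A)).Opens)))) : IsQuot J p := by
  have hk : Kills J p := by
    intro a ha
    apply QcohLocal.eq_zero_of_app_eq_zero_of_affine_cover
    intro x
    refine ⟨⊤, isAffineOpen_top _, trivial, fun m => ?_⟩
    have h1 : (a • p).app ⊤ m = p.app ⊤ (ρ (A := A) ⊤ a • m) := smul_hom_app p a ⊤ m
    rw [h1, ← smul_eq]
    have h2 : a • m ∈ LinearMap.ker (appA p ⊤) := by
      rw [hker]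
      exact Submodule.smul_mem_smul ha Submodule.mem_top
    exact h2
  have hqQ : IsQuot J (cokernel.π (Formal.smulFamily J K)) := isQuot_cokernelπ J K
  haveI : (cokernel (Formal.smulFamily J K)).IsQuasicoherent :=
    KLQuot.isQuasicoherent_of_isQuot hqQ
  have hfac : cokernel.π (Formal.smulFamily J K) ≫ hqQ.desc p hk = p := hqQ.fac_desc _ _
  haveI : IsIso (hqQ.desc p hk) := by
    apply QcohLocal.isIso_of_app_bijective_of_affine_cover
    intro x
    refine ⟨⊤, isAffineOpen_top _, trivial, ?_, ?_⟩
    · rw [injective_iff_map_eq_zero]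
      intro z hz
      obtain ⟨y, rfl⟩ := KLQuot.app_surjective hqQ (isAffineOpen_top _) z
      have h1 : p.app ⊤ y = 0 :=
        (congrArg (fun f => Scheme.Modules.Hom.app f ⊤ y) hfac).symm.trans hz
      have h2 : y ∈ J • (⊤ : Submodule A Γ(K, (⊤ : (Spec (CommRingCat.of A)).Opens))) := by
        rw [← hker]
        exact h1
      exact KLQuot.app_eq_zero_of_mem_smul_top hqQ.kills ⊤ (mem_map_smul_top_of_mem _ _ h2)
    · intro y
      obtain ⟨x, rfl⟩ := hs y
      exact ⟨(cokernel.π (Formal.smulFamily J K)).app ⊤ x,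
        congrArg (fun f => Scheme.Modules.Hom.app f ⊤ x) hfac⟩
  have := hqQ.comp_iso (hqQ.desc p hk)
  rwa [hfac] at this

/-- the tilde of a quotient map `P → P/JP` is a quotient by `J` -/
theorem isQuot_tilde_map {J : Ideal A} {P P' : ModuleCat.{u} A} (φ : P ⟶ P')
    (hs : Function.Surjective φ.hom)
    (hker : LinearMap.ker φ.hom = J • (⊤ : Submodule A P)) :
    IsQuot J ((tilde.functor (CommRingCat.of A)).map φ) := by
  apply isQuot_of_global
  · intro y
    obtain ⟨y', rfl⟩ := (eP P').surjective y
    obtain ⟨x, rfl⟩ := hs y'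
    exact ⟨eP P x, eP_nat φ x⟩
  · apply le_antisymm
    · intro z hz
      obtain ⟨x, rfl⟩ := (eP P).surjective z
      have h1 : ((tilde.functor (CommRingCat.of A)).map φ).app ⊤ (eP P x) = 0 := hz
      rw [eP_nat] at h1
      have h2 : φ.hom x = 0 := by
        have := congrArg (eP P').symm h1
        rwa [LinearEquiv.symm_apply_apply, map_zero] at this
      have h3 : x ∈ J • (⊤ : Submodule A P) := by
        rw [← hker]
        exact h2
      exact Groth.Agent.Helper1.ARHom.apply_mem_smul_top (eP P).toLinearMap h3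
    · intro z hz
      have h1 : (eP P).symm z ∈ J • (⊤ : Submodule A P) :=
        Groth.Agent.Helper1.ARHom.apply_mem_smul_top (eP P).symm.toLinearMap hz
      rw [← hker] at h1
      have h2 : φ.hom ((eP P).symm z) = 0 := h1
      show ((tilde.functor (CommRingCat.of A)).map φ).app ⊤ z = 0
      have h3 := eP_nat φ ((eP P).symm z)
      rw [LinearEquiv.apply_symm_apply, h2, map_zero] at h3
      exact h3

/-- systems of finite modules with `Q_n = Q_{n+1}/I^(n+1)Q_{n+1}` give coherent formal modules -/
theorem isCohFormal_tilde_sys (I : Ideal A) (Q : ARSys.PS (ModuleCat.{u} A))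
    (hfin : ∀ n : ℕ, Module.Finite A ↑(Q.obj (op n)))
    (hs : ∀ n : ℕ, Function.Surjective (Q.map (homOfLE (Nat.le_succ n)).op).hom)
    (hker : ∀ n : ℕ, LinearMap.ker (Q.map (homOfLE (Nat.le_succ n)).op).hom =
      I ^ (n + 1) • (⊤ : Submodule A ↑(Q.obj (op (n + 1))))) :
    Formal.IsCohFormal I (Q ⋙ tilde.functor (CommRingCat.of A)) := by
  have hq : HasQuotTrans I (Q ⋙ tilde.functor (CommRingCat.of A)) :=
    fun n => isQuot_tilde_map _ (hs n) (hker n)
  rw [isCohFormal_iff]
  refine ⟨fun n => ?_, fun n => (hq n).killedBy, hq⟩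
  haveI : Module.Finite (CommRingCat.of A) (Q.obj (op n)) := hfin n
  exact ⟨isQuasicoherent_tildeObj _, FTTilde.isFT_tilde_of_finite (CommRingCat.of A) (Q.obj (op n))⟩

end Groth.Agent.Helper1.ProAlg
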