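import Mathlib
import Groth.Agent.Helper1.ProAlg3

/-!
# ProAlg4: ML + adic limit topology + finite images ⟹ canonical extension (S9534)
-/

set_option autoImplicit false
set_option linter.style.haveILetI false
set_option linter.unusedSectionVars false

universe u

open CategoryTheory CategoryTheory.Limits AlgebraicGeometry Opposite

namespace Groth.Agent.Helper1.ProAlg

open Groth.Agent.Helper1.ProML Groth.Agent.Helper1.ProLim
open Groth.Agent.Helper1.Form Groth.Agent.Helper1.QuotPush Groth.Agent.Helper1.AffAlgz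

variable {A : Type u} [CommRing A]

set_option backward.isDefEq.respectTransparency false in
/-- the `A`-module structure on `H⁰(U, K) = Γ(Spec A, j_*K)` is the one through `A → Γ(U, O)` -/
lemma smul_push (U : (Spec (CommRingCat.of A)).Opens) (K : (U : Scheme.{u}).Modules) (a : A)
    (s : Γ(K, U.ι ⁻¹ᵁ ⊤)) :
    (a • (show Γ((Scheme.Modules.pushforward U.ι).obj K, (⊤ : (Spec (CommRingCat.of A)).Opens))
      from s)) = (ρ (A := A) (X := (U : Scheme.{u})) (U.ι ⁻¹ᵁ ⊤) a • s) := by
  rw [smul_def']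
  show (U.ι.app ⊤ _) • s = _
  congr 1 <;> (unfold ρ Coh.toGlobal Coh.resTop; simp)

/-- sections of a module killed by `J` are killed by `J` -/
lemma smul_sectMod_eq_zero (U : (Spec (CommRingCat.of A)).Opens)
    (G : ℕᵒᵖ ⥤ (U : Scheme.{u}).Modules) {J : Ideal A} (n : ℕ)
    (hK : Formal.KilledBy J (G.obj (op n))) (a : A) (ha : a ∈ J)
    (x : ↑((Algz.sectMod A U G).obj (op n))) : a • x = 0 := by
  have h1 := smul_push U (G.obj (op n)) a x
  have h2 : (Formal.smulMod A (G.obj (op n)) a).app (U.ι ⁻¹ᵁ ⊤) x = 0 := by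
    rw [hK a ha]
    rfl
  exact h1.trans h2

section Quot

variable (I : Ideal A) (M : Type u) [AddCommGroup M] [Module A M]

lemma quotSys_map_surjective (n : ℕ) :
    Function.Surjective ((quotSys I M).map (homOfLE (Nat.le_succ n)).op).hom :=
  Submodule.factor_surjective (pow_smul_le I M (Nat.le_succ n))

lemma smul_top_quot_eq_bot (n : ℕ) :
    I ^ (n + 1) • (⊤ : Submodule A (M ⧸ (I ^ (n + 1) • (⊤ : Submodule A M)))) = ⊥ := by
  rw [eq_bot_iff, Submodule.smul_le]
  intro r hr q _
  obtain ⟨m, rfl⟩ := Submodule.mkQ_surjective _ q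
  rw [Submodule.mem_bot, ← map_smul, Submodule.mkQ_apply, Submodule.Quotient.mk_eq_zero]
  exact Submodule.smul_mem_smul hr Submodule.mem_top

lemma quotSys_map_ker (n : ℕ) :
    LinearMap.ker ((quotSys I M).map (homOfLE (Nat.le_succ n)).op).hom =
      I ^ (n + 1) • (⊤ : Submodule A ↑((quotSys I M).obj (op (n + 1)))) := by
  apply le_antisymm
  · intro x hx
    obtain ⟨y, rfl⟩ := Submodule.mkQ_surjective _ x
    have h1 : (Submodule.Quotient.mk y : M ⧸ (I ^ (n + 1) • (⊤ : Submodule A M))) = 0 := hx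
    rw [Submodule.Quotient.mk_eq_zero] at h1
    exact Groth.Agent.Helper1.ARHom.apply_mem_smul_top
      (I ^ (n + 1 + 1) • (⊤ : Submodule A M)).mkQ h1
  · intro x hx
    have h1 := Groth.Agent.Helper1.ARHom.apply_mem_smul_top
      ((quotSys I M).map (homOfLE (Nat.le_succ n)).op).hom hx
    have h2 : I ^ (n + 1) • (⊤ : Submodule A ↑((quotSys I M).obj (op n))) = ⊥ :=
      smul_top_quot_eq_bot I M n
    rw [h2] at h1
    exact h1

end Quot

/-- **S9534 in general form**: Mittag-Leffler, adic limit topology and finite images give a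
canonical extension. -/
theorem canonicallyExtends_of_isML (I : Ideal A) (U : (Spec (CommRingCat.of A)).Opens)
    (G : ℕᵒᵖ ⥤ (U : Scheme.{u}).Modules) (hG : Formal.IsCohFormal I G)
    (ha : ARSys.IsML (Algz.sectMod A U G))
    (hb : ∀ k : ℕ, ∃ n : ℕ, LinearMap.ker (limit.π (Algz.sectMod A U G) (op n)).hom ≤
      I ^ k • (⊤ : Submodule A ↑(limit (Algz.sectMod A U G))))
    (hc : ∀ n : ℕ, Module.Finite A
      ↥(LinearMap.range (limit.π (Algz.sectMod A U G) (op n)).hom)) :
    Algz.CanonicallyExtends A I U G := by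
  have hb' : ∀ j : ℕ, ∃ n : ℕ, LinearMap.ker (limit.π (Algz.sectMod A U G) (op n)).hom ≤
      I ^ (j + 1) • (⊤ : Submodule A ↑(limit (Algz.sectMod A U G))) := fun j => hb (j + 1)
  have hd : ∀ (n : ℕ) (a : A), a ∈ I ^ (n + 1) →
      ∀ x : ↑((Algz.sectMod A U G).obj (op n)), a • x = 0 :=
    fun n a ha x => smul_sectMod_eq_zero U G n (hG.2.1 n) a ha x
  have hpro := isProIsomorphic_quotSys I (Algz.sectMod A U G) ha hb' hd
  refine ⟨quotSys I ↑(limit (Algz.sectMod A U G)) ⋙ tilde.functor (CommRingCat.of A), ?_, ?_⟩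
  · exact isCohFormal_tilde_sys I _ (finite_quot I _ hb' hc) (quotSys_map_surjective I _)
      (quotSys_map_ker I _)
  · exact isProIsomorphic_whiskerRight hpro (tilde.functor (CommRingCat.of A))

end Groth.Agent.Helper1.ProAlg
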