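import Mathlib
import Groth.Agent.Helper1.ProAlg4
import Groth.Agent.Helper4.QcohGlue
import Groth.Agent.Helper4.SubInf

/-!
# AlgzEpi1: sections of quasi-coherent modules on `Spec R` and basic opens
-/

set_option autoImplicit false
set_option linter.style.haveILetI false
set_option linter.unusedSectionVars false

universe u

open CategoryTheory CategoryTheory.Limits AlgebraicGeometry Opposite

namespace Groth.Agent.Helper1.AlgzEpi

variable {R : CommRingCat.{u}}

/-- the sheaf of `R`-modules of a module on `Spec R` -/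
noncomputable abbrev Sh (K : (Spec R).Modules) := (modulesSpecToSheaf (R := R)).obj K

/-- the restriction `Γ(K, ⊤) → Γ(K, D(f))`, `R`-linear -/
noncomputable abbrev resL (K : (Spec R).Modules) (f : R) :=
  ((Sh K).obj.map (PrimeSpectrum.basicOpen f).leTop.op).hom

lemma isLocalizedModule_resL (K : (Spec R).Modules) [K.IsQuasicoherent]
    (f : R) : IsLocalizedModule (Submonoid.powers f) (resL K f) :=
  (isIso_fromTildeΓ_iff_isLocalizing (R := R) K).1 inferInstance f

/-- the map on sections, `R`-linear -/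
noncomputable abbrev appL {K K' : (Spec R).Modules} (τ : K ⟶ K') (W : (Spec R).Opens) :=
  (((modulesSpecToSheaf (R := R)).map τ).hom.app (op W)).hom

lemma appL_resL {K K' : (Spec R).Modules} (τ : K ⟶ K') (f : R)
    (x : ↑((Sh K).obj.obj (op ⊤))) :
    appL τ (PrimeSpectrum.basicOpen f) (resL K f x) = resL K' f (appL τ ⊤ x) := by
  have := congrArg (fun g => g.hom x)
    (((modulesSpecToSheaf (R := R)).map τ).hom.naturality
      (PrimeSpectrum.basicOpen f).leTop.op)
  simp only [ModuleCat.hom_comp, LinearMap.comp_apply] at this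
  exact this

/-- a map of quasi-coherent modules on `Spec R` which is surjective over `D(f)` has a cokernel on
global sections killed by powers of `f` -/
theorem exists_pow_smul_eq_app {K K' : (Spec R).Modules} [K.IsQuasicoherent]
    [K'.IsQuasicoherent] (τ : K ⟶ K') (f : R)
    (hτ : Function.Surjective (appL τ (PrimeSpectrum.basicOpen f)))
    (t : ↑((Sh K').obj.obj (op ⊤))) :
    ∃ (N : ℕ) (t₁ : ↑((Sh K).obj.obj (op ⊤))), appL τ ⊤ t₁ = f ^ N • t := by
  haveI := isLocalizedModule_resL K f
  haveI := isLocalizedModule_resL K' f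
  obtain ⟨y, hy⟩ := hτ (resL K' f t)
  obtain ⟨⟨t₁, s⟩, hs⟩ := IsLocalizedModule.surj (Submonoid.powers f) (resL K f) y
  obtain ⟨N₁, hN₁⟩ := s.2
  have hs' : f ^ N₁ • y = resL K f t₁ := by
    have : s • y = resL K f t₁ := hs
    rw [← this, Submonoid.smul_def, ← hN₁]
  have h1 : resL K' f (appL τ ⊤ t₁) = resL K' f (f ^ N₁ • t) := by
    rw [← appL_resL, ← hs', map_smul, map_smul, hy]
  obtain ⟨c, hc⟩ := IsLocalizedModule.exists_of_eq (S := Submonoid.powers f) (f := resL K' f) h1
  obtain ⟨N₂, hN₂⟩ := c.2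
  refine ⟨N₂ + N₁, f ^ N₂ • t₁, ?_⟩
  rw [map_smul, pow_add, mul_smul]
  have : c • appL τ ⊤ t₁ = c • (f ^ N₁ • t) := hc
  rw [Submonoid.smul_def, Submonoid.smul_def, ← hN₂] at this
  exact this

/-- surjectivity of `M~(D(f)) → N~(D(f))` when the cokernel of `M → N` is killed by powers of
`f` -/
theorem tilde_map_app_surjective {M N : ModuleCat.{u} R} (φ : M ⟶ N) (f : R)
    (h : ∀ t : N, ∃ k : ℕ, f ^ k • t ∈ LinearMap.range φ.hom) :
    Function.Surjective (appL (tilde.map φ) (PrimeSpectrum.basicOpen f)) := by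
  intro s
  obtain ⟨⟨t, c⟩, hc⟩ := IsLocalizedModule.surj (Submonoid.powers f)
    (tilde.toOpen N (PrimeSpectrum.basicOpen f)).hom s
  obtain ⟨k, hk⟩ := c.2
  obtain ⟨k', l, hl⟩ := h t
  -- the candidate preimage
  let d : Submonoid.powers f := ⟨f ^ (k' + k), ⟨k' + k, rfl⟩⟩
  let z := IsLocalizedModule.mk' (tilde.toOpen M (PrimeSpectrum.basicOpen f)).hom l d
  refine ⟨z, ?_⟩
  have hz : (f ^ (k' + k)) • z = (tilde.toOpen M (PrimeSpectrum.basicOpen f)).hom l :=
    IsLocalizedModule.mk'_cancel' _ l d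
  have hmap := congrArg (fun g => g.hom l) (tilde.toOpen_map_app φ (PrimeSpectrum.basicOpen f))
  simp only [ModuleCat.hom_comp, LinearMap.comp_apply] at hmap
  -- compare after multiplying with `d`
  have h1 : (f ^ (k' + k)) • appL (tilde.map φ) (PrimeSpectrum.basicOpen f) z =
      (f ^ (k' + k)) • s := by
    rw [← map_smul, hz]
    refine hmap.trans ?_
    rw [hl, map_smul]
    have : c • s = (tilde.toOpen N (PrimeSpectrum.basicOpen f)).hom t := hc
    rw [← this, Submonoid.smul_def, ← hk, ← mul_smul, ← pow_add]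
  have hinj := IsLocalizedModule.smul_injective
    (tilde.toOpen N (PrimeSpectrum.basicOpen f)).hom d
  exact hinj h1

end Groth.Agent.Helper1.AlgzEpi
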