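import Mathlib
import Groth.Agent.Helper1.AlgzEpi1
import Groth.Agent.Helper1.FormH

/-!
# AlgzEpi2: under Mittag-Leffler, `M~|_U → F_n` is an epimorphism (S9551)
-/

set_option autoImplicit false
set_option linter.style.haveILetI false
set_option linter.unusedSectionVars false

universe u

open CategoryTheory CategoryTheory.Limits AlgebraicGeometry Opposite

namespace Groth.Agent.Helper1.AlgzEpi

open Groth.Agent.Helper1.Form Groth.Agent.Helper1.QuotPush Groth.Agent.Helper1.AffAlgz
open Groth.Agent.Helper1.ProML Groth.Agent.Helper1.ProLim Groth.Agent.Helper4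

variable (A : Type u) [CommRing A] [IsNoetherianRing A]

lemma quasiCompact_ι (U : (Spec (CommRingCat.of A)).Opens) : QuasiCompact U.ι := by
  have hX : ∀ x : (Spec (CommRingCat.of A)), ∃ V : (Spec (CommRingCat.of A)).Opens,
      x ∈ V ∧ TopologicalSpace.NoetherianSpace (V : Set (Spec (CommRingCat.of A))) :=
    fun x => ⟨⊤, trivial, inferInstance⟩
  exact Groth.Agent.Helper4.SubInf.quasiCompact_ι_of_locallyNoetherian hX U

lemma isQuasicoherent_push (U : (Spec (CommRingCat.of A)).Opens)
    (F : (U : Scheme.{u}).Modules) [F.IsQuasicoherent] :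
    ((Scheme.Modules.pushforward U.ι).obj F).IsQuasicoherent := by
  haveI := quasiCompact_ι A U
  exact Groth.Agent.Helper4.QcohGlue.isQuasicoherent_pushforward U.ι F

lemma isAffineOpen_preimage_basicOpen (U : (Spec (CommRingCat.of A)).Opens) (f : A)
    (hf : (PrimeSpectrum.basicOpen f : (Spec (CommRingCat.of A)).Opens) ≤ U) :
    IsAffineOpen (U.ι ⁻¹ᵁ (PrimeSpectrum.basicOpen f : (Spec (CommRingCat.of A)).Opens)) := by
  have h1 : @IsAffineOpen (Spec (CommRingCat.of A)) (PrimeSpectrum.basicOpen f) := by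
    rw [← basicOpen_eq_of_affine (R := CommRingCat.of A) f]
    exact (isAffineOpen_top _).basicOpen _
  apply h1.preimage_of_isOpenImmersion U.ι
  rw [Scheme.Opens.opensRange_ι]
  exact hf

variable {A} (I : Ideal A) (U : (Spec (CommRingCat.of A)).Opens)
  (G : ℕᵒᵖ ⥤ (U : Scheme.{u}).Modules) (hG : Formal.IsCohFormal I G)

include hG in
/-- under ML the cokernel of `M → H⁰(U, F_n)` is killed by powers of any `f` with `D(f) ⊆ U` -/
theorem exists_pow_smul_mem_range (ha : ARSys.IsML (Algz.sectMod A U G)) (f : A)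
    (hf : (PrimeSpectrum.basicOpen f : (Spec (CommRingCat.of A)).Opens) ≤ U) (n : ℕ)
    (t : ↑((Algz.sectMod A U G).obj (op n))) :
    ∃ N : ℕ, f ^ N • t ∈ LinearMap.range (limit.π (Algz.sectMod A U G) (op n)).hom := by
  obtain ⟨s, hs, hrange⟩ := Groth.Agent.Helper1.ProAlg.stab (Algz.sectMod A U G) ha n
  haveI : (G.obj (op s)).IsQuasicoherent := (hG.1 s).1
  haveI : (G.obj (op n)).IsQuasicoherent := (hG.1 n).1
  haveI := isQuasicoherent_push A U (G.obj (op s))
  haveI := isQuasicoherent_push A U (G.obj (op n))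
  let τ : (Scheme.Modules.pushforward U.ι).obj (G.obj (op s)) ⟶
      (Scheme.Modules.pushforward U.ι).obj (G.obj (op n)) :=
    (Scheme.Modules.pushforward U.ι).map (ARSys.tr G hs)
  have hτ : Function.Surjective
      (appL (R := CommRingCat.of A) τ (PrimeSpectrum.basicOpen f)) := by
    have hV := isAffineOpen_preimage_basicOpen A U f hf
    haveI : Epi (ARSys.tr G hs) := (isQuot_tr_of_isCohFormal hG hs).epi
    exact QcohEpi.app_surjective_of_epi (ARSys.tr G hs) hV
  obtain ⟨N, t₁, ht₁⟩ := exists_pow_smul_eq_app (R := CommRingCat.of A) τ f hτ t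
  exact ⟨N, hrange ⟨t₁, ht₁⟩⟩

include hG in
/-- **S9551 in general form** -/
theorem epi_fromLimit (ha : ARSys.IsML (Algz.sectMod A U G)) (n : ℕ) :
    Epi (((Scheme.Modules.restrictAdjunction U.ι).homEquiv _ (G.obj (op n))).symm
      (((tilde.adjunction (R := CommRingCat.of A)).homEquiv (limit (Algz.sectMod A U G))
        ((Scheme.Modules.pushforward U.ι).obj (G.obj (op n)))).symm
          (limit.π (Algz.sectMod A U G) (op n)))) := by
  haveI : (G.obj (op n)).IsQuasicoherent := (hG.1 n).1
  haveI hK := isQuasicoherent_push A U (G.obj (op n))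
  rw [Adjunction.homEquiv_counit, Adjunction.homEquiv_counit, Functor.map_comp, Category.assoc]
  haveI : IsIso ((tilde.adjunction (R := CommRingCat.of A)).counit.app
      ((Scheme.Modules.pushforward U.ι).obj (G.obj (op n)))) :=
    Scheme.Modules.isIso_fromTildeΓ_of_isQuasicoherent (R := CommRingCat.of A)
      ((Scheme.Modules.pushforward U.ι).obj (G.obj (op n)))
  have h1 : Epi ((Scheme.Modules.restrictFunctor U.ι).map
      ((tilde.functor (CommRingCat.of A)).map (limit.π (Algz.sectMod A U G) (op n)))) := by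
    haveI : ((tilde.functor (CommRingCat.of A)).obj
        ((Algz.sectMod A U G).obj (op n))).IsQuasicoherent :=
      Groth.Agent.Helper1.ProAlg.isQuasicoherent_tildeObj _
    apply QcohLocal.epi_of_app_surjective_of_affine_cover
    intro x
    obtain ⟨_, ⟨_, ⟨f, rfl⟩, rfl⟩, hxf, hfU⟩ :=
      PrimeSpectrum.isBasis_basic_opens.exists_subset_of_mem_open
        (show U.ι.base x ∈ (U : Set (Spec (CommRingCat.of A))) from x.2) U.2
    have hfU' : (PrimeSpectrum.basicOpen f : (Spec (CommRingCat.of A)).Opens) ≤ U := hfU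
    refine ⟨U.ι ⁻¹ᵁ (PrimeSpectrum.basicOpen f : (Spec (CommRingCat.of A)).Opens),
      isAffineOpen_preimage_basicOpen A U f hfU', hxf, ?_⟩
    have e : U.ι ''ᵁ (U.ι ⁻¹ᵁ (PrimeSpectrum.basicOpen f : (Spec (CommRingCat.of A)).Opens)) =
        PrimeSpectrum.basicOpen f := by
      rw [Scheme.Hom.image_preimage_eq_opensRange_inf, Scheme.Opens.opensRange_ι]
      exact inf_eq_right.2 hfU'
    show Function.Surjective (((tilde.functor (CommRingCat.of A)).map
      (limit.π (Algz.sectMod A U G) (op n))).app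
        (U.ι ''ᵁ (U.ι ⁻¹ᵁ (PrimeSpectrum.basicOpen f : (Spec (CommRingCat.of A)).Opens))))
    rw [e]
    exact tilde_map_app_surjective (R := CommRingCat.of A)
      (limit.π (Algz.sectMod A U G) (op n)) f
      (fun t => exists_pow_smul_mem_range I U G hG ha f hfU' n t)
  haveI h2 : IsIso ((Scheme.Modules.restrictAdjunction U.ι).counit.app (G.obj (op n))) :=
    NatIso.isIso_app_of_isIso _ _
  haveI h3 : IsIso ((Scheme.Modules.restrictFunctor U.ι).map
      ((tilde.adjunction (R := CommRingCat.of A)).counit.app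
        ((Scheme.Modules.pushforward U.ι).obj (G.obj (op n))))) := Functor.map_isIso _ _
  haveI h4 : Epi ((Scheme.Modules.restrictFunctor U.ι).map
      ((tilde.adjunction (R := CommRingCat.of A)).counit.app
        ((Scheme.Modules.pushforward U.ι).obj (G.obj (op n)))) ≫
      (Scheme.Modules.restrictAdjunction U.ι).counit.app (G.obj (op n))) := epi_comp _ _
  exact @epi_comp _ _ _ _ _ _ h1 _ h4

end Groth.Agent.Helper1.AlgzEpi
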