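import Mathlib
import Groth.Agent.Helper1.AlgzEpi2

/-!
# AlgzMono1: localisation formulas for tilde maps over basic opens; a finiteness lemma
-/

set_option autoImplicit false
set_option linter.style.haveILetI false
set_option linter.unusedSectionVars false

universe u

open CategoryTheory CategoryTheory.Limits AlgebraicGeometry Opposite

namespace Groth.Agent.Helper1.AlgzEpi

/-- a quotient `E/ker a` of `E/ker T` with `T` landing in a Noetherian module is finite -/
lemma finite_of_factor {B E N₁ N₂ : Type*} [CommRing B] [AddCommGroup E] [Module B E]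
    [AddCommGroup N₁] [Module B N₁] [AddCommGroup N₂] [Module B N₂] [IsNoetherian B N₁]
    (T : E →ₗ[B] N₁) (a : E →ₗ[B] N₂) (ha : Function.Surjective a)
    (hk : LinearMap.ker T ≤ LinearMap.ker a) : Module.Finite B N₂ := by
  haveI : Module.Finite B (LinearMap.range T) := Module.IsNoetherian.finite B _
  let g : LinearMap.range T →ₗ[B] E ⧸ LinearMap.ker a :=
    (Submodule.factor hk).comp (LinearMap.quotKerEquivRange T).symm.toLinearMap
  have hg : Function.Surjective g :=
    (Submodule.factor_surjective hk).comp (LinearEquiv.surjective _)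
  haveI : Module.Finite B (E ⧸ LinearMap.ker a) := Module.Finite.of_surjective g hg
  exact Module.Finite.equiv (LinearMap.quotKerEquivOfSurjective a ha)

variable {R : CommRingCat.{u}}

/-- `tilde.map` on fractions over a basic open -/
lemma appL_tilde_map_mk' {M N : ModuleCat.{u} R} (θ : M ⟶ N) (f : R) (l : M)
    (c : Submonoid.powers f) :
    appL (tilde.map θ) (PrimeSpectrum.basicOpen f)
      (IsLocalizedModule.mk' (tilde.toOpen M (PrimeSpectrum.basicOpen f)).hom l c) =
    IsLocalizedModule.mk' (tilde.toOpen N (PrimeSpectrum.basicOpen f)).hom (θ.hom l) c := by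
  symm
  rw [IsLocalizedModule.mk'_eq_iff]
  have hmap := congrArg (fun g => g.hom l) (tilde.toOpen_map_app θ (PrimeSpectrum.basicOpen f))
  simp only [ModuleCat.hom_comp, LinearMap.comp_apply] at hmap
  rw [← hmap, Submonoid.smul_def, ← map_smul]
  congr 1
  exact (IsLocalizedModule.mk'_cancel' _ l c).symm

/-- kernels of tilde maps over basic opens -/
lemma appL_tilde_map_eq_zero_of_ker_le {M N Q : ModuleCat.{u} R} (φ : M ⟶ N) (θ : M ⟶ Q)
    (h : LinearMap.ker φ.hom ≤ LinearMap.ker θ.hom) (f : R)
    (z : ↑((Sh (tilde M)).obj.obj (op (PrimeSpectrum.basicOpen f))))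
    (hz : appL (tilde.map φ) (PrimeSpectrum.basicOpen f) z = 0) :
    appL (tilde.map θ) (PrimeSpectrum.basicOpen f) z = 0 := by
  obtain ⟨⟨l, c⟩, rfl⟩ := IsLocalizedModule.mk'_surjective (Submonoid.powers f)
    (tilde.toOpen M (PrimeSpectrum.basicOpen f)).hom z
  simp only [Function.uncurry_apply_pair] at hz ⊢
  rw [appL_tilde_map_mk'] at hz ⊢
  rw [IsLocalizedModule.mk'_eq_zero'] at hz ⊢
  obtain ⟨c', hc'⟩ := hz
  refine ⟨c', ?_⟩
  have h1 : c' • l ∈ LinearMap.ker φ.hom := by
    show φ.hom (c' • l) = 0
    rw [Submonoid.smul_def, map_smul, ← Submonoid.smul_def]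
    exact hc'
  have h2 := h h1
  have h3 : θ.hom (c' • l) = 0 := h2
  rw [Submonoid.smul_def, map_smul, ← Submonoid.smul_def] at h3
  exact h3

end Groth.Agent.Helper1.AlgzEpi
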