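import Mathlib
import Groth.Agent.Helper1.AlgzMono1
import Groth.Agent.Helper2.CohQ1

/-!
# AlgzMono2: coherence of `(M/I^(n+1)M)~|_U` and injectivity of `((M/I^(n+1)M)~|_U) → (F_n)`
when the limit topology on `M = lim H⁰(U, F_n)` is `I`-adic (S9553)
-/

set_option autoImplicit false
set_option linter.style.haveILetI false
set_option linter.unusedSectionVars false

universe u

open CategoryTheory CategoryTheory.Limits AlgebraicGeometry Opposite

namespace Groth.Agent.Helper1.AlgzEpi

open Groth.Agent.Helper1.Form Groth.Agent.Helper1.QuotPush Groth.Agent.Helper1.AffAlgz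
open Groth.Agent.Helper1.ProML Groth.Agent.Helper1.ProLim Groth.Agent.Helper4

variable {A : Type u} [CommRing A] [IsNoetherianRing A] (I : Ideal A)
  (U : (Spec (CommRingCat.of A)).Opens)
  (G : ℕᵒᵖ ⥤ (U : Scheme.{u}).Modules) (hG : Formal.IsCohFormal I G)

/-- `(H⁰(U, F))~|_U ≅ F` for quasi-coherent `F` on `U` -/
noncomputable def restrictTildeSectIso (F : (U : Scheme.{u}).Modules) [F.IsQuasicoherent] :
    (Scheme.Modules.restrictFunctor U.ι).obj ((tilde.functor (CommRingCat.of A)).obj
      ((moduleSpecΓFunctor (R := CommRingCat.of A)).obj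
        ((Scheme.Modules.pushforward U.ι).obj F))) ≅ F := by
  haveI := isQuasicoherent_push A U F
  haveI : IsIso ((tilde.adjunction (R := CommRingCat.of A)).counit.app
      ((Scheme.Modules.pushforward U.ι).obj F)) :=
    Scheme.Modules.isIso_fromTildeΓ_of_isQuasicoherent (R := CommRingCat.of A)
      ((Scheme.Modules.pushforward U.ι).obj F)
  exact (Scheme.Modules.restrictFunctor U.ι).mapIso
      (asIso ((tilde.adjunction (R := CommRingCat.of A)).counit.app
        ((Scheme.Modules.pushforward U.ι).obj F))) ≪≫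
    (Scheme.Modules.restrictFunctorAdjCounitIso U.ι).app F

lemma image_preimage_basicOpen (f : A)
    (hf : (PrimeSpectrum.basicOpen f : (Spec (CommRingCat.of A)).Opens) ≤ U) :
    U.ι ''ᵁ (U.ι ⁻¹ᵁ (PrimeSpectrum.basicOpen f : (Spec (CommRingCat.of A)).Opens)) =
      PrimeSpectrum.basicOpen f := by
  rw [Scheme.Hom.image_preimage_eq_opensRange_inf, Scheme.Opens.opensRange_ι]
  exact inf_eq_right.2 hf

include hG in
/-- **(i)**: `(M/JM)~|_U` is coherent as soon as `J M` contains some kernel of
`M → H⁰(U, F_m)` -/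
theorem isCoh_restrict_tilde_quot {Q : ModuleCat.{u} A}
    (q : limit (Algz.sectMod A U G) ⟶ Q) (hq : Function.Surjective q.hom) (m : ℕ)
    (hm : LinearMap.ker (limit.π (Algz.sectMod A U G) (op m)).hom ≤ LinearMap.ker q.hom) :
    Coh.IsCoh ((Scheme.Modules.restrictFunctor U.ι).obj
      ((tilde.functor (CommRingCat.of A)).obj Q)) := by
  haveI : IsNoetherian (U : Scheme.{u}) := isNoetherian_opens_Spec A U
  haveI : (G.obj (op m)).IsQuasicoherent := (hG.1 m).1
  have hcoh : Coh.IsCoh ((Scheme.Modules.restrictFunctor U.ι).obj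
      ((tilde.functor (CommRingCat.of A)).obj ((Algz.sectMod A U G).obj (op m)))) :=
    Groth.Agent.Helper2.CohQ1.isCoh_of_iso (restrictTildeSectIso U (G.obj (op m))).symm (hG.1 m)
  haveI hqc : ((Scheme.Modules.restrictFunctor U.ι).obj
      ((tilde.functor (CommRingCat.of A)).obj Q)).IsQuasicoherent := by
    haveI := Groth.Agent.Helper1.ProAlg.isQuasicoherent_tildeObj Q
    infer_instance
  refine ⟨hqc, ?_⟩
  apply FTGlue.isFiniteType_of_finite_sections
  intro x
  obtain ⟨_, ⟨_, ⟨f, rfl⟩, rfl⟩, hxf, hfU⟩ :=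
    PrimeSpectrum.isBasis_basic_opens.exists_subset_of_mem_open
      (show U.ι.base x ∈ (U : Set (Spec (CommRingCat.of A))) from x.2) U.2
  have hfU' : (PrimeSpectrum.basicOpen f : (Spec (CommRingCat.of A)).Opens) ≤ U := hfU
  have hV := isAffineOpen_preimage_basicOpen A U f hfU'
  refine ⟨U.ι ⁻¹ᵁ (PrimeSpectrum.basicOpen f : (Spec (CommRingCat.of A)).Opens), hV, hxf, ?_⟩
  have e := image_preimage_basicOpen U f hfU'
  -- the ring of sections is Noetherian and the sections of the coherent module are finite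
  haveI : IsNoetherianRing Γ((U : Scheme.{u}),
      U.ι ⁻¹ᵁ (PrimeSpectrum.basicOpen f : (Spec (CommRingCat.of A)).Opens)) :=
    IsLocallyNoetherian.component_noetherian ⟨_, hV⟩
  haveI hfin := SecDict.finite_sections hV _ hcoh.1 hcoh.2
  haveI : IsNoetherian Γ((U : Scheme.{u}),
      U.ι ⁻¹ᵁ (PrimeSpectrum.basicOpen f : (Spec (CommRingCat.of A)).Opens))
      Γ((Scheme.Modules.restrictFunctor U.ι).obj ((tilde.functor (CommRingCat.of A)).obj
        ((Algz.sectMod A U G).obj (op m))),
        U.ι ⁻¹ᵁ (PrimeSpectrum.basicOpen f : (Spec (CommRingCat.of A)).Opens)) :=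
    isNoetherian_of_isNoetherianRing_of_finite _ _
  refine finite_of_factor
    (QcohEpi.appLin ((Scheme.Modules.restrictFunctor U.ι).map
      ((tilde.functor (CommRingCat.of A)).map (limit.π (Algz.sectMod A U G) (op m))))
      (U.ι ⁻¹ᵁ (PrimeSpectrum.basicOpen f : (Spec (CommRingCat.of A)).Opens)))
    (QcohEpi.appLin ((Scheme.Modules.restrictFunctor U.ι).map
      ((tilde.functor (CommRingCat.of A)).map q))
      (U.ι ⁻¹ᵁ (PrimeSpectrum.basicOpen f : (Spec (CommRingCat.of A)).Opens))) ?_ ?_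
  · show Function.Surjective (((tilde.functor (CommRingCat.of A)).map q).app
      (U.ι ''ᵁ (U.ι ⁻¹ᵁ (PrimeSpectrum.basicOpen f : (Spec (CommRingCat.of A)).Opens))))
    rw [e]
    refine tilde_map_app_surjective (R := CommRingCat.of A) q f (fun t => ⟨0, ?_⟩)
    obtain ⟨l, rfl⟩ := hq t
    exact ⟨l, by rw [pow_zero, one_smul]⟩
  · have key : ∀ z : Γ((tilde.functor (CommRingCat.of A)).obj (limit (Algz.sectMod A U G)),
        U.ι ''ᵁ (U.ι ⁻¹ᵁ (PrimeSpectrum.basicOpen f : (Spec (CommRingCat.of A)).Opens))),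
        ((tilde.functor (CommRingCat.of A)).map (limit.π (Algz.sectMod A U G) (op m))).app _ z = 0 →
        ((tilde.functor (CommRingCat.of A)).map q).app _ z = 0 := by
      rw [e]
      intro z hz
      exact appL_tilde_map_eq_zero_of_ker_le (R := CommRingCat.of A) _ q hm f z hz
    intro z hz
    exact key z hz

end Groth.Agent.Helper1.AlgzEpi
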