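import Mathlib
import Groth.Agent.Helper1.AlgzMono2
import Groth.Prelude.Def_Formal2

/-!
# AlgzMono3: injectivity of `((M/I^(n+1)M)~|_U) → (F_n)` on compatible families over basic opens
-/

set_option autoImplicit false
set_option linter.style.haveILetI false
set_option linter.unusedSectionVars false

universe u

open CategoryTheory CategoryTheory.Limits AlgebraicGeometry Opposite

namespace Groth.Agent.Helper1.AlgzEpi

section Core

variable {R : CommRingCat.{u}}

/-- the module-theoretic core of the injectivity statement -/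
theorem eq_zero_of_compat_core (L : ModuleCat.{u} R) (Q S : ℕ → ModuleCat.{u} R)
    (q : ∀ n, L ⟶ Q n) (hq : ∀ n, Function.Surjective (q n).hom)
    (tr : ∀ n, Q (n + 1) ⟶ Q n) (htr : ∀ n l, (tr n).hom ((q (n + 1)).hom l) = (q n).hom l)
    (ℓ : ∀ n, Q n ⟶ S n)
    (hb : ∀ n, ∃ d, LinearMap.ker (q (n + d) ≫ ℓ (n + d)).hom ≤ LinearMap.ker (q n).hom)
    (f : R)
    (x : ∀ n, ↑((Sh (tilde (Q n))).obj.obj (op (PrimeSpectrum.basicOpen f))))
    (hx : ∀ n, appL (tilde.map (tr n)) (PrimeSpectrum.basicOpen f) (x (n + 1)) = x n)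
    (h1 : ∀ n, appL (tilde.map (ℓ n)) (PrimeSpectrum.basicOpen f) (x n) = 0) :
    ∀ n, x n = 0 := by
  intro n
  obtain ⟨d, hm⟩ := hb n
  -- write `x (n + d)` as a fraction
  obtain ⟨⟨y, c⟩, hy⟩ := IsLocalizedModule.mk'_surjective (Submonoid.powers f)
    (tilde.toOpen (Q (n + d)) (PrimeSpectrum.basicOpen f)).hom (x (n + d))
  simp only [Function.uncurry_apply_pair] at hy
  obtain ⟨l, rfl⟩ := hq (n + d) y
  -- descent
  have hdesc : ∀ j : ℕ, ∀ e : ℕ,
      x (j + e) = IsLocalizedModule.mk' (tilde.toOpen (Q (j + e))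
        (PrimeSpectrum.basicOpen f)).hom ((q (j + e)).hom l) c →
      x j = IsLocalizedModule.mk' (tilde.toOpen (Q j)
        (PrimeSpectrum.basicOpen f)).hom ((q j).hom l) c := by
    intro j e
    induction e with
    | zero => exact fun h => h
    | succ e ih =>
      intro h
      apply ih
      have e1 : appL (tilde.map (tr (j + e))) (PrimeSpectrum.basicOpen f)
          (IsLocalizedModule.mk' (tilde.toOpen (Q (j + e + 1)) (PrimeSpectrum.basicOpen f)).hom
            ((q (j + e + 1)).hom l) c) =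
          IsLocalizedModule.mk' (tilde.toOpen (Q (j + e)) (PrimeSpectrum.basicOpen f)).hom
            ((tr (j + e)).hom ((q (j + e + 1)).hom l)) c :=
        appL_tilde_map_mk' (tr (j + e)) f _ c
      have e2 : x (j + e) = appL (tilde.map (tr (j + e))) (PrimeSpectrum.basicOpen f)
          (x (j + e + 1)) := (hx (j + e)).symm
      have e3 : appL (tilde.map (tr (j + e))) (PrimeSpectrum.basicOpen f) (x (j + e + 1)) =
          appL (tilde.map (tr (j + e))) (PrimeSpectrum.basicOpen f)
          (IsLocalizedModule.mk' (tilde.toOpen (Q (j + e + 1)) (PrimeSpectrum.basicOpen f)).hom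
            ((q (j + e + 1)).hom l) c) :=
        congrArg (appL (tilde.map (tr (j + e))) (PrimeSpectrum.basicOpen f)) h
      have e4 : IsLocalizedModule.mk' (tilde.toOpen (Q (j + e)) (PrimeSpectrum.basicOpen f)).hom
            ((tr (j + e)).hom ((q (j + e + 1)).hom l)) c =
          IsLocalizedModule.mk' (tilde.toOpen (Q (j + e)) (PrimeSpectrum.basicOpen f)).hom
            ((q (j + e)).hom l) c :=
        congrArg (fun y => IsLocalizedModule.mk'
          (tilde.toOpen (Q (j + e)) (PrimeSpectrum.basicOpen f)).hom y c) (htr (j + e) l)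
      exact e2.trans (e3.trans (e1.trans e4))
  have h8 := h1 (n + d)
  rw [← hy, appL_tilde_map_mk', IsLocalizedModule.mk'_eq_zero'] at h8
  obtain ⟨c', hc'⟩ := h8
  rw [hdesc n d hy.symm, IsLocalizedModule.mk'_eq_zero']
  refine ⟨c', ?_⟩
  have h10 : c' • l ∈ LinearMap.ker (q (n + d) ≫ ℓ (n + d)).hom := by
    show (q (n + d) ≫ ℓ (n + d)).hom (c' • l) = 0
    rw [Submonoid.smul_def, map_smul, ← Submonoid.smul_def]
    exact hc'
  have h12 : (q n).hom (c' • l) = 0 := hm h10
  rw [Submonoid.smul_def, map_smul, ← Submonoid.smul_def] at h12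
  exact h12

end Core


section App

open Groth.Agent.Helper1.Form Groth.Agent.Helper1.QuotPush Groth.Agent.Helper1.AffAlgz
open Groth.Agent.Helper1.ProML Groth.Agent.Helper1.ProLim Groth.Agent.Helper4

variable {A : Type u} [CommRing A] [IsNoetherianRing A] (I : Ideal A)
  (U : (Spec (CommRingCat.of A)).Opens)
  (G : ℕᵒᵖ ⥤ (U : Scheme.{u}).Modules) (hG : Formal.IsCohFormal I G)

include hG in
/-- **(ii)** -/
theorem eq_zero_of_compat
    (hb : ∀ k : ℕ, ∃ n : ℕ, LinearMap.ker (limit.π (Algz.sectMod A U G) (op n)).hom ≤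
      I ^ k • (⊤ : Submodule A ↑(limit (Algz.sectMod A U G))))
    (ℓ : ∀ n : ℕ, ModuleCat.of A (Formal2.quotPow A I ↑(limit (Algz.sectMod A U G)) n) ⟶
      (Algz.sectMod A U G).obj (op n))
    (hℓ : ∀ n : ℕ, ModuleCat.ofHom (Formal2.quotPowπ A I ↑(limit (Algz.sectMod A U G)) n) ≫ ℓ n =
      limit.π (Algz.sectMod A U G) (op n))
    (f : A)
    (x : ∀ n : ℕ, (Scheme.Modules.presheaf (Formal2.tmod A
      (Formal2.quotPow A I ↑(limit (Algz.sectMod A U G)) n))).obj
        (op (PrimeSpectrum.basicOpen f : (Spec (CommRingCat.of A)).Opens)))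
    (hx : ∀ n : ℕ, Scheme.Modules.Hom.app (Formal2.tmodMap A
      (Formal2.quotPowTrans A I ↑(limit (Algz.sectMod A U G)) n))
        (PrimeSpectrum.basicOpen f : (Spec (CommRingCat.of A)).Opens) (x (n + 1)) = x n)
    (h0 : ∀ n : ℕ, Scheme.Modules.Hom.app
        (((tilde.adjunction (R := CommRingCat.of A)).homEquiv
          (ModuleCat.of A (Formal2.quotPow A I ↑(limit (Algz.sectMod A U G)) n))
          ((Scheme.Modules.pushforward U.ι).obj (G.obj (op n)))).symm (ℓ n))
        (PrimeSpectrum.basicOpen f : (Spec (CommRingCat.of A)).Opens) (x n) = 0) :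
    ∀ n : ℕ, x n = 0 := by
  -- notation
  let Q : ℕ → ModuleCat.{u} A := fun n =>
    ModuleCat.of A (Formal2.quotPow A I ↑(limit (Algz.sectMod A U G)) n)
  let q : ∀ n, limit (Algz.sectMod A U G) ⟶ Q n := fun n =>
    ModuleCat.ofHom (Formal2.quotPowπ A I ↑(limit (Algz.sectMod A U G)) n)
  let tr : ∀ n, Q (n + 1) ⟶ Q n := fun n =>
    ModuleCat.ofHom (Formal2.quotPowTrans A I ↑(limit (Algz.sectMod A U G)) n)
  have htr : ∀ n (l : ↑(limit (Algz.sectMod A U G))), (tr n).hom ((q (n + 1)).hom l) = (q n).hom l :=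
    fun n l => rfl
  -- step 1
  have h1 : ∀ n, appL (R := CommRingCat.of A) (tilde.map (ℓ n)) (PrimeSpectrum.basicOpen f) (x n) = 0 := by
    intro n
    haveI : (G.obj (op n)).IsQuasicoherent := (hG.1 n).1
    haveI := isQuasicoherent_push A U (G.obj (op n))
    haveI : IsIso ((tilde.adjunction (R := CommRingCat.of A)).counit.app
        ((Scheme.Modules.pushforward U.ι).obj (G.obj (op n)))) :=
      Scheme.Modules.isIso_fromTildeΓ_of_isQuasicoherent (R := CommRingCat.of A)
        ((Scheme.Modules.pushforward U.ι).obj (G.obj (op n)))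
    have h2 := h0 n
    rw [Adjunction.homEquiv_counit] at h2
    have h3 := congrArg (fun g => Scheme.Modules.Hom.app g
      (PrimeSpectrum.basicOpen f : (Spec (CommRingCat.of A)).Opens)
      (appL (R := CommRingCat.of A) (tilde.map (ℓ n)) (PrimeSpectrum.basicOpen f) (x n)))
      (IsIso.hom_inv_id ((tilde.adjunction (R := CommRingCat.of A)).counit.app
        ((Scheme.Modules.pushforward U.ι).obj (G.obj (op n)))))
    have h4 : Scheme.Modules.Hom.app (inv ((tilde.adjunction (R := CommRingCat.of A)).counit.app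
        ((Scheme.Modules.pushforward U.ι).obj (G.obj (op n)))))
        (PrimeSpectrum.basicOpen f : (Spec (CommRingCat.of A)).Opens)
        (Scheme.Modules.Hom.app ((tilde.adjunction (R := CommRingCat.of A)).counit.app
        ((Scheme.Modules.pushforward U.ι).obj (G.obj (op n))))
        (PrimeSpectrum.basicOpen f : (Spec (CommRingCat.of A)).Opens)
        (appL (R := CommRingCat.of A) (tilde.map (ℓ n)) (PrimeSpectrum.basicOpen f) (x n))) =
        appL (R := CommRingCat.of A) (tilde.map (ℓ n)) (PrimeSpectrum.basicOpen f) (x n) := h3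
    rw [← h4]
    have h5 : Scheme.Modules.Hom.app ((tilde.adjunction (R := CommRingCat.of A)).counit.app
        ((Scheme.Modules.pushforward U.ι).obj (G.obj (op n))))
        (PrimeSpectrum.basicOpen f : (Spec (CommRingCat.of A)).Opens)
        (appL (R := CommRingCat.of A) (tilde.map (ℓ n)) (PrimeSpectrum.basicOpen f) (x n)) = 0 := h2
    rw [h5, map_zero]
    rfl
  -- apply the core lemma
  refine eq_zero_of_compat_core (R := CommRingCat.of A) (limit (Algz.sectMod A U G)) Q
    (fun n => (Algz.sectMod A U G).obj (op n)) q (fun n => Submodule.mkQ_surjective _) tr htr ℓ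
    ?_ f x hx h1
  intro n
  obtain ⟨m₀, hm₀⟩ := hb (n + 1)
  refine ⟨m₀, ?_⟩
  rw [hℓ (n + m₀)]
  intro l hl
  have h2 := (Groth.Agent.Helper1.ProAlg.ker_π_anti (Algz.sectMod A U G)
    (Nat.le_add_left m₀ n)) hl
  exact (Submodule.Quotient.mk_eq_zero _).2 (hm₀ h2)

end App

end Groth.Agent.Helper1.AlgzEpi
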