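import Mathlib
import Groth.Agent.Lead.FLFDual2
import Groth.Agent.Lead.InvDualA
import Groth.Agent.Helper4.GenTwistMain
import Groth.Agent.Helper4.TwistExtU
import Groth.Agent.Helper1.FlatTw4
import Groth.Agent.Helper9.TensorFlat

/-!
# AmpAff1: quasi-coherent modules on a scheme with an ample module are quotients of direct sums of
duals of large powers
-/

set_option autoImplicit false
set_option linter.style.haveILetI false
set_option linter.unusedSectionVars false

universe u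

open CategoryTheory CategoryTheory.Limits AlgebraicGeometry Opposite MonoidalCategory

namespace Groth.Agent.Helper1.AmpAff

open Groth.Agent.Helper9.TensorSh Groth.Agent.Helper9.TensorAdj Groth.Agent.Helper9.TensorFlat

variable {X : Scheme.{u}}

/-- if `g ⊗ Λ^N` kills an extension of the twisted section `t ⊗ ρ^N`, then `g` kills `t` -/
theorem app_eq_zero_of_twist {Λ : X.Modules} (hΛ : PicF.IsInvertible Λ)
    (ρ : Coh.structureModule X ⟶ Λ) (N : ℕ) {F Q : X.Modules} (g : F ⟶ Q)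
    (t : Γ(F, CohB1.genLocus Λ ρ))
    (τ : Coh.structureModule X ⟶ CohB1.tensorMod F (CohB1.tensorPow Λ N))
    (hτ : SecTwist.val τ (CohB1.genLocus Λ ρ) = SecTwist.twist ρ N F (CohB1.genLocus Λ ρ) t)
    (h0 : τ ≫ KoszTw.tensorMap g (𝟙 (CohB1.tensorPow Λ N)) = 0) :
    g.app (CohB1.genLocus Λ ρ) t = 0 := by
  apply (Groth.Agent.Helper1.FlatTw.twist_bijective hΛ ρ N Q _ le_rfl).1
  refine Eq.trans ?_ (Groth.Agent.Helper1.FlatTw.twist_zero ρ N Q _).symm
  refine (Groth.Agent.Helper1.FlatTw.tensorMap_twist ρ N g _ t).symm.trans ?_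
  refine (congrArg (fun z => (KoszTw.tensorMap g (𝟙 (CohB1.tensorPow Λ N))).app
    (CohB1.genLocus Λ ρ) z) hτ.symm).trans ?_
  have h1 : (KoszTw.tensorMap g (𝟙 (CohB1.tensorPow Λ N))).app (CohB1.genLocus Λ ρ)
      (SecTwist.val τ (CohB1.genLocus Λ ρ)) =
      SecTwist.val (τ ≫ KoszTw.tensorMap g (𝟙 (CohB1.tensorPow Λ N))) (CohB1.genLocus Λ ρ) := rfl
  refine h1.trans ?_
  rw [h0]
  rfl

variable (E : X.Modules) (hE : FlatMod.IsFinLocFree E)

/-- the module `E^∨ ⊗ O` -/
noncomputable abbrev negObj : X.Modules :=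
  (DCoh.tensorBi.obj (RefHull.dual E)).obj (Coh.structureModule X)

/-- the morphism `E^∨ ⊗ O ⟶ F` attached to a global section of `F ⊗ E` -/
noncomputable def negMap {F : X.Modules} (τ : Coh.structureModule X ⟶ CohB1.tensorMod F E) :
    negObj E ⟶ F :=
  ((Groth.Agent.Lead.FLFDual.adjDual E hE).homEquiv (Coh.structureModule X) F).symm
    (τ ≫ (symIso (O := X.sheaf) E).inv.app F)

theorem negMap_comp_eq_zero {F Q : X.Modules}
    (τ : Coh.structureModule X ⟶ CohB1.tensorMod F E) (g : F ⟶ Q)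
    (h : negMap E hE τ ≫ g = 0) :
    τ ≫ KoszTw.tensorMap g (𝟙 E) = 0 := by
  unfold negMap at h
  rw [← Adjunction.homEquiv_naturality_right_symm] at h
  have h1 : (τ ≫ (symIso (O := X.sheaf) E).inv.app F) ≫ (DCoh.tensorBi.obj E).map g = 0 := by
    have h2 := congrArg ((Groth.Agent.Lead.FLFDual.adjDual E hE).homEquiv _ _) h
    rw [Equiv.apply_symm_apply] at h2
    exact h2.trans ((Groth.Agent.Lead.FLFDual.adjDual E hE).homAddEquiv _ _).map_zero
  have h3 : (symIso (O := X.sheaf) E).inv.app F ≫ (DCoh.tensorBi.obj E).map g =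
      KoszTw.tensorMap g (𝟙 E) ≫ (symIso (O := X.sheaf) E).inv.app Q := by
    have h4 := (symIso (O := X.sheaf) E).inv.naturality g
    rw [← KoszTw.tensorBi_map_app]
    exact h4.symm
  have h6 : τ ≫ (KoszTw.tensorMap g (𝟙 E) ≫ (symIso (O := X.sheaf) E).inv.app Q) = 0 :=
    calc τ ≫ (KoszTw.tensorMap g (𝟙 E) ≫ (symIso (O := X.sheaf) E).inv.app Q)
        = τ ≫ ((symIso (O := X.sheaf) E).inv.app F ≫ (DCoh.tensorBi.obj E).map g) :=
          congrArg (τ ≫ ·) h3.symm
      _ = (τ ≫ (symIso (O := X.sheaf) E).inv.app F) ≫ (DCoh.tensorBi.obj E).map g :=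
          (Category.assoc _ _ _).symm
      _ = 0 := h1
  have h8 : (τ ≫ KoszTw.tensorMap g (𝟙 E)) ≫ (symIso (O := X.sheaf) E).inv.app Q =
      0 ≫ (symIso (O := X.sheaf) E).inv.app Q :=
    ((Category.assoc _ _ _).trans h6).trans zero_comp.symm
  exact (cancel_mono ((symIso (O := X.sheaf) E).inv.app Q)).mp h8

end Groth.Agent.Helper1.AmpAff
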