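import Mathlib
import Groth.Agent.Helper1.DerLES
import Groth.Agent.Helper1.DeltaCmp

set_option autoImplicit false

/-!
# Collapse of the composite-functor spectral sequence at the bottom row

`adj : Λ ⊣ Ψ` with `Λ : ℬ ⥤ 𝒜` exact, `𝒜` with enough injectives.  If `RᑫΨ(G) = 0` for `q < c`
then `W = RᶜΨ(G)` represents `F ↦ Extᶜ(ΛF, G)`: there is a universal class `u : Extᶜ(ΛW, G)`
such that `f ↦ Λ(f)^* u` is a bijection `Hom(F, W) → Extᶜ(ΛF, G)` for every `F`.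
-/

namespace Groth.Agent.Helper1.LerayCol

open CategoryTheory Limits Abelian Groth.Agent.Helper1.DeltaCmp Groth.Agent.Helper1.Horseshoe

universe w v₁ v₂ u₁ u₂

variable {𝒜 : Type u₁} [Category.{v₁} 𝒜] [Abelian 𝒜] {ℬ : Type u₂} [Category.{v₂} ℬ] [Abelian ℬ]
  [HasExt.{w} 𝒜]

/-- `u : Extʳ(ΛW, G)` is universal: `Hom(F, W) → Extʳ(ΛF, G)`, `f ↦ Λ(f)^* u` is bijective. -/
def IsUniv (Λ : ℬ ⥤ 𝒜) (W : ℬ) (G : 𝒜) (r : ℕ) (u : Ext.{w} (Λ.obj W) G r) : Prop :=
  ∀ F : ℬ, Function.Bijective (fun f : F ⟶ W => (Ext.mk₀ (Λ.map f)).comp u (zero_add r))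

omit [Abelian ℬ] in
lemma postcomp_apply' {X Y Z : 𝒜} {n a b : ℕ} (β : Ext.{w} Y Z n) (h : a + n = b)
    (x : Ext.{w} X Y a) : β.postcomp X h x = x.comp β h := rfl

omit [Abelian ℬ] in
lemma isUniv_of_iso {Λ : ℬ ⥤ 𝒜} {W W' : ℬ} {G : 𝒜} {r : ℕ} {u : Ext.{w} (Λ.obj W) G r}
    (hu : IsUniv Λ W G r u) (e : W' ≅ W) :
    IsUniv Λ W' G r ((Ext.mk₀ (Λ.map e.hom)).comp u (zero_add r)) := by
  intro F
  have h1 : (fun f : F ⟶ W' => (Ext.mk₀ (Λ.map f)).comp
      ((Ext.mk₀ (Λ.map e.hom)).comp u (zero_add r)) (zero_add r)) =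
      (fun f : F ⟶ W => (Ext.mk₀ (Λ.map f)).comp u (zero_add r)) ∘ (fun f => f ≫ e.hom) := by
    funext f
    simp only [Function.comp_apply, Functor.map_comp]
    rw [Ext.mk₀_comp_mk₀_assoc]
  rw [h1]
  refine (hu F).comp ?_
  constructor
  · intro f g h
    exact (cancel_mono e.hom).1 h
  · intro f
    exact ⟨f ≫ e.inv, by simp⟩

variable {Λ : ℬ ⥤ 𝒜} {Ψ : 𝒜 ⥤ ℬ} (adj : Λ ⊣ Ψ)

omit [Abelian ℬ] in
include adj in
/-- degree `0`: the counit is universal -/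
lemma isUniv_zero (G : 𝒜) : IsUniv Λ (Ψ.obj G) G 0 (Ext.mk₀ (adj.counit.app G)) := by
  intro F
  have h1 : (fun f : F ⟶ Ψ.obj G => (Ext.mk₀ (Λ.map f)).comp (Ext.mk₀ (adj.counit.app G))
      (zero_add 0)) = Ext.mk₀ ∘ (adj.homEquiv F G).symm := by
    funext f
    simp only [Function.comp_apply]
    rw [Ext.mk₀_comp_mk₀, Adjunction.homEquiv_counit]
  rw [h1]
  exact (Ext.mk₀_bijective _ _).comp (adj.homEquiv F G).symm.bijective

/-- shifting the degree along a short exact sequence with injective middle term -/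
lemma isUniv_succ {S : ShortComplex 𝒜} (hS : S.ShortExact) [Injective S.X₂] {W : ℬ} {r : ℕ}
    {u : Ext.{w} (Λ.obj W) S.X₃ (r + 1)} (hu : IsUniv Λ W S.X₃ (r + 1) u) :
    IsUniv Λ W S.X₁ (r + 2) (u.comp hS.extClass rfl) := by
  intro F
  have h1 : (fun f : F ⟶ W => (Ext.mk₀ (Λ.map f)).comp (u.comp hS.extClass rfl)
      (zero_add (r + 2))) =
      (hS.extClass.postcomp (Λ.obj F) (rfl : r + 1 + 1 = r + 2)) ∘
        (fun f : F ⟶ W => (Ext.mk₀ (Λ.map f)).comp u (zero_add (r + 1))) := by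
    funext f
    simp only [Function.comp_apply]
    rw [postcomp_apply', Ext.comp_assoc _ _ _ (zero_add (r + 1)) rfl (by omega)]
  rw [h1]
  refine Function.Bijective.comp ?_ (hu F)
  constructor
  · rw [injective_iff_map_eq_zero]
    intro x hx
    rw [postcomp_apply'] at hx
    obtain ⟨x₂, rfl⟩ := Ext.covariant_sequence_exact₃ _ hS x rfl hx
    rw [Ext.eq_zero_of_injective x₂, Ext.zero_comp]
  · intro y
    obtain ⟨x₃, hx₃⟩ := Ext.covariant_sequence_exact₁ _ hS y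
      (Ext.eq_zero_of_injective _) (rfl : r + 1 + 1 = r + 2)
    exact ⟨x₃, by rw [postcomp_apply']; exact hx₃⟩

/-- a left exact sequence `0 → A → B → C` with `A`, `B` injective: `C → coker b` splits, and the
complement is the image of `b` -/
lemma exists_split {A B C : ℬ} (a : A ⟶ B) (b : B ⟶ C) (w : a ≫ b = 0)
    (hex : (ShortComplex.mk a b w).Exact) [Mono a] [Injective A] [Injective B] :
    ∃ (σ : cokernel b ⟶ C) (r : C ⟶ B), σ ≫ cokernel.π b = 𝟙 _ ∧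
      r ≫ b + cokernel.π b ≫ σ = 𝟙 C := by
  let ρ : B ⟶ A := Injective.factorThru (𝟙 A) a
  have hρ : a ≫ ρ = 𝟙 A := Injective.comp_factorThru _ _
  have he : a ≫ (𝟙 B - ρ ≫ a) = 0 := by
    rw [Preadditive.comp_sub, Category.comp_id, reassoc_of% hρ, sub_self]
  let ebar : cokernel a ⟶ B := cokernel.desc a (𝟙 B - ρ ≫ a) he
  let bbar : cokernel a ⟶ C := cokernel.desc a b w
  haveI : Mono bbar := hex.mono_cokernelDesc
  let r : C ⟶ B := Injective.factorThru ebar bbar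
  have hr : bbar ≫ r = ebar := Injective.comp_factorThru _ _
  have hbr : b ≫ r = 𝟙 B - ρ ≫ a := by
    have h1 : b = cokernel.π a ≫ bbar := (cokernel.π_desc _ _ _).symm
    rw [h1, Category.assoc, hr]
    exact cokernel.π_desc _ _ _
  have hq : b ≫ (𝟙 C - r ≫ b) = 0 := by
    rw [Preadditive.comp_sub, Category.comp_id, reassoc_of% hbr, Preadditive.sub_comp,
      Category.id_comp, Category.assoc, w, comp_zero, sub_zero, sub_self]
  refine ⟨cokernel.desc b (𝟙 C - r ≫ b) hq, r, ?_, ?_⟩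
  · rw [← cancel_epi (cokernel.π b), cokernel.π_desc_assoc, Preadditive.sub_comp,
      Category.id_comp, Category.assoc, cokernel.condition, comp_zero, sub_zero, Category.comp_id]
  · rw [cokernel.π_desc]
    abel

variable [EnoughInjectives 𝒜]

/-- the short exact sequence `0 → G → I → Q → 0` with `I` injective -/
noncomputable def injSC (G : 𝒜) : ShortComplex 𝒜 :=
  ShortComplex.mk (Injective.ι G) (cokernel.π (Injective.ι G)) (cokernel.condition _)

omit [HasExt.{w} 𝒜] in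
lemma injSC_shortExact (G : 𝒜) : (injSC G).ShortExact where
  exact := ShortComplex.exact_cokernel _
  mono_f := by dsimp [injSC]; infer_instance
  epi_g := by dsimp [injSC]; infer_instance

instance (G : 𝒜) : Injective (injSC G).X₂ := by dsimp [injSC]; infer_instance

variable [Λ.Additive] [Λ.PreservesMonomorphisms] [Ψ.Additive]

include adj in
/-- **base case**: if `ΨG` is injective, `R¹Ψ(G)` represents `F ↦ Ext¹(ΛF, G)`. -/
theorem exists_univ_one (G : 𝒜) [Injective (Ψ.obj G)] :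
    ∃ (W : ℬ) (u : Ext.{w} (Λ.obj W) G 1), IsUniv Λ W G 1 u ∧
      Nonempty (W ≅ (Ψ.rightDerived 1).obj G) := by
  haveI : PreservesLimitsOfSize.{0, 0} Ψ := adj.rightAdjoint_preservesLimits
  haveI : PreservesFiniteLimits Ψ := inferInstance
  let S := injSC G
  have hS : S.ShortExact := injSC_shortExact G
  haveI : Injective (Ψ.obj S.X₂) := adj.map_injective _ inferInstance
  haveI : Injective (Ψ.obj S.X₁) := inferInstanceAs (Injective (Ψ.obj G))
  haveI := hS.mono_f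
  haveI : Mono (Ψ.map S.f) := inferInstance
  have hex : (ShortComplex.mk (Ψ.map S.f) (Ψ.map S.g)
      (by rw [← Ψ.map_comp, S.zero, Ψ.map_zero])).Exact :=
    hS.exact.map_of_mono_of_preservesKernel Ψ inferInstance inferInstance
  obtain ⟨σ, r, hσ, hr⟩ := exists_split (Ψ.map S.f) (Ψ.map S.g) _ hex
  -- the transposition
  let tr : ∀ {F : ℬ} {Y : 𝒜}, (F ⟶ Ψ.obj Y) → (Λ.obj F ⟶ Y) :=
    fun {F Y} h => Λ.map h ≫ adj.counit.app Y
  have htr : ∀ {F : ℬ} {Y : 𝒜} (h : F ⟶ Ψ.obj Y),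
      (adj.homEquiv F Y).symm h = Λ.map h ≫ adj.counit.app Y := by
    intro F Y h
    rw [Adjunction.homEquiv_counit]
  let Φ : ∀ {F : ℬ}, (F ⟶ Ψ.obj S.X₃) → Ext.{w} (Λ.obj F) S.X₁ 1 :=
    fun {F} h => (Ext.mk₀ (tr h)).comp hS.extClass (zero_add 1)
  have Φ_sub : ∀ {F : ℬ} (h₁ h₂ : F ⟶ Ψ.obj S.X₃), Φ (h₁ - h₂) = Φ h₁ - Φ h₂ := by
    intro F h₁ h₂
    show (Ext.mk₀ (Λ.map (h₁ - h₂) ≫ adj.counit.app _)).comp hS.extClass (zero_add 1) =
      (Ext.mk₀ (Λ.map h₁ ≫ adj.counit.app _)).comp hS.extClass (zero_add 1) -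
      (Ext.mk₀ (Λ.map h₂ ≫ adj.counit.app _)).comp hS.extClass (zero_add 1)
    rw [Functor.map_sub, Preadditive.sub_comp, sub_eq_add_neg, Ext.mk₀_add, Ext.mk₀_neg,
      Ext.add_comp, Ext.neg_comp, ← sub_eq_add_neg]
  have Φ_zero : ∀ {F : ℬ} (l : F ⟶ Ψ.obj S.X₂), Φ (l ≫ Ψ.map S.g) = 0 := by
    intro F l
    show (Ext.mk₀ (Λ.map (l ≫ Ψ.map S.g) ≫ adj.counit.app _)).comp hS.extClass (zero_add 1) = 0
    have h1 : Λ.map (l ≫ Ψ.map S.g) ≫ adj.counit.app _ =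
        (Λ.map l ≫ adj.counit.app _) ≫ S.g := by
      rw [Functor.map_comp, Category.assoc, Category.assoc]
      congr 1
      exact adj.counit.naturality S.g
    rw [h1, ← Ext.mk₀_comp_mk₀_assoc, hS.comp_extClass, Ext.comp_zero]
  have Φ_ker : ∀ {F : ℬ} (h : F ⟶ Ψ.obj S.X₃), Φ h = 0 → ∃ l : F ⟶ Ψ.obj S.X₂,
      l ≫ Ψ.map S.g = h := by
    intro F h hh
    obtain ⟨x₂, hx₂⟩ := Ext.covariant_sequence_exact₃ _ hS (Ext.mk₀ (tr h)) rfl hh
    obtain ⟨l', rfl⟩ := (Ext.mk₀_bijective _ _).2 x₂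
    rw [Ext.mk₀_comp_mk₀] at hx₂
    have h2 : l' ≫ S.g = tr h := (Ext.mk₀_bijective _ _).1 hx₂
    refine ⟨adj.homEquiv _ _ l', ?_⟩
    rw [← adj.homEquiv_naturality_right, h2]
    show adj.homEquiv _ _ (Λ.map h ≫ adj.counit.app _) = h
    rw [← htr]
    exact Equiv.apply_symm_apply _ _
  have Φ_surj : ∀ {F : ℬ} (y : Ext.{w} (Λ.obj F) S.X₁ 1), ∃ h : F ⟶ Ψ.obj S.X₃, Φ h = y := by
    intro F y
    obtain ⟨x₃, hx₃⟩ := Ext.covariant_sequence_exact₁ _ hS y
      (Ext.eq_zero_of_injective _) (rfl : 0 + 1 = 1)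
    obtain ⟨g₃, rfl⟩ := (Ext.mk₀_bijective _ _).2 x₃
    refine ⟨adj.homEquiv _ _ g₃, ?_⟩
    show (Ext.mk₀ (Λ.map (adj.homEquiv _ _ g₃) ≫ adj.counit.app _)).comp hS.extClass
      (zero_add 1) = y
    rw [← htr, Equiv.symm_apply_apply]
    exact hx₃
  let W := cokernel (Ψ.map S.g)
  let u : Ext.{w} (Λ.obj W) S.X₁ 1 := Φ σ
  have hT : ∀ {F : ℬ} (f : F ⟶ W), (Ext.mk₀ (Λ.map f)).comp u (zero_add 1) = Φ (f ≫ σ) := by
    intro F f
    show (Ext.mk₀ (Λ.map f)).comp ((Ext.mk₀ (Λ.map σ ≫ adj.counit.app _)).comp hS.extClass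
      (zero_add 1)) (zero_add 1) =
      (Ext.mk₀ (Λ.map (f ≫ σ) ≫ adj.counit.app _)).comp hS.extClass (zero_add 1)
    rw [Ext.mk₀_comp_mk₀_assoc, Functor.map_comp, Category.assoc]
  refine ⟨W, u, ?_, ?_⟩
  · intro F
    constructor
    · intro f₁ f₂ h12
      have h12' : Φ (f₁ ≫ σ) = Φ (f₂ ≫ σ) := by
        rw [← hT, ← hT]
        exact h12
      have h0 : Φ ((f₁ - f₂) ≫ σ) = 0 := by
        rw [Preadditive.sub_comp, Φ_sub, h12', sub_self]
      obtain ⟨l, hl⟩ := Φ_ker _ h0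
      have h3 : (f₁ - f₂) ≫ σ ≫ cokernel.π (Ψ.map S.g) = 0 := by
        rw [← Category.assoc, ← hl, Category.assoc, cokernel.condition, comp_zero]
      rw [hσ, Category.comp_id] at h3
      exact sub_eq_zero.1 h3
    · intro y
      obtain ⟨h, rfl⟩ := Φ_surj y
      refine ⟨h ≫ cokernel.π (Ψ.map S.g), ?_⟩
      show (Ext.mk₀ (Λ.map (h ≫ cokernel.π (Ψ.map S.g)))).comp u (zero_add 1) = Φ h
      rw [hT]
      have h4 : h - (h ≫ cokernel.π (Ψ.map S.g)) ≫ σ = (h ≫ r) ≫ Ψ.map S.g := by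
        have := congrArg (fun z => h ≫ z) hr
        simp only [Preadditive.comp_add, Category.comp_id] at this
        rw [sub_eq_iff_eq_add, Category.assoc, Category.assoc]
        exact this.symm
      have h5 := Φ_sub h ((h ≫ cokernel.π (Ψ.map S.g)) ≫ σ)
      rw [h4, Φ_zero] at h5
      exact (sub_eq_zero.1 h5.symm).symm
  · obtain ⟨i₁⟩ := nonempty_iso_cokernel (T := fun n => Ψ.rightDerived n)
      (hasLES_rightDerived Ψ S hS) (Functor.isZero_rightDerived_obj_injective_succ Ψ 0 S.X₂)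
    refine ⟨?_ ≪≫ i₁.symm⟩
    exact cokernel.mapIso _ _ (Ψ.rightDerivedZeroIsoSelf.app _).symm
      (Ψ.rightDerivedZeroIsoSelf.app _).symm (by
        simp only [Iso.symm_hom, Iso.app_inv]
        exact (Ψ.rightDerivedZeroIsoSelf.inv.naturality S.g))

include adj in
/-- **induction**: if `ΨG` is injective and `RᑫΨ(G) = 0` for `0 < q < m + 1`, then `Rᵐ⁺¹Ψ(G)`
represents `F ↦ Extᵐ⁺¹(ΛF, G)`. -/
theorem exists_univ_succ (m : ℕ) : ∀ (G : 𝒜), Injective (Ψ.obj G) →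
    (∀ q, 0 < q → q < m + 1 → IsZero ((Ψ.rightDerived q).obj G)) →
    ∃ (W : ℬ) (u : Ext.{w} (Λ.obj W) G (m + 1)), IsUniv Λ W G (m + 1) u ∧
      Nonempty (W ≅ (Ψ.rightDerived (m + 1)).obj G) := by
  haveI : PreservesLimitsOfSize.{0, 0} Ψ := adj.rightAdjoint_preservesLimits
  haveI : PreservesFiniteLimits Ψ := inferInstance
  induction m with
  | zero =>
    intro G hG _
    haveI := hG
    exact exists_univ_one adj G
  | succ m ih =>
    intro G hG hz
    let S := injSC G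
    have hS : S.ShortExact := injSC_shortExact G
    haveI : Injective (Ψ.obj S.X₂) := adj.map_injective _ inferInstance
    haveI : Injective (Ψ.obj S.X₁) := hG
    have h1 : IsZero ((Ψ.rightDerived 1).obj S.X₁) := hz 1 (by omega) (by omega)
    have hse : (S.map Ψ).ShortExact := DerLES.shortExact_map Ψ S hS h1
    haveI := hse.mono_f
    haveI := hse.epi_g
    haveI : Injective (S.map Ψ).X₁ := hG
    let ρ : (S.map Ψ).X₂ ⟶ (S.map Ψ).X₁ := Injective.factorThru (𝟙 _) (S.map Ψ).f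
    have sp : (S.map Ψ).Splitting :=
      ShortComplex.Splitting.ofExactOfRetraction _ hse.exact ρ (Injective.comp_factorThru _ _)
        hse.epi_g
    haveI : Injective (Ψ.obj S.X₃) :=
      Retract.injective (Y := Ψ.obj S.X₂) ⟨sp.s, (S.map Ψ).g, sp.s_g⟩
    have hzQ : ∀ q, 0 < q → q < m + 1 → IsZero ((Ψ.rightDerived q).obj S.X₃) := by
      intro q hq hq'
      obtain ⟨n, rfl⟩ : ∃ n, q = n + 1 := ⟨q - 1, by omega⟩
      exact DerLES.isZero_rightDerived_X₃ Ψ S hS n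
        (Functor.isZero_rightDerived_obj_injective_succ Ψ n S.X₂)
        (hz (n + 2) (by omega) (by omega))
    obtain ⟨W, u', hu', ⟨i⟩⟩ := ih S.X₃ inferInstance hzQ
    obtain ⟨j⟩ := nonempty_iso_succ (T := fun n => Ψ.rightDerived n)
      (hasLES_rightDerived Ψ S hS)
      (fun n => Functor.isZero_rightDerived_obj_injective_succ Ψ n S.X₂) m
    exact ⟨W, u'.comp hS.extClass rfl, isUniv_succ hS hu', ⟨i ≪≫ j⟩⟩

include adj in
/-- **collapse at the bottom row**: if `RᑫΨ(G) = 0` for `q < c`, then `RᶜΨ(G)` represents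
`F ↦ Extᶜ(ΛF, G)`. -/
theorem exists_univ (c : ℕ) (G : 𝒜) (hz : ∀ q, q < c → IsZero ((Ψ.rightDerived q).obj G)) :
    ∃ (W : ℬ) (u : Ext.{w} (Λ.obj W) G c), IsUniv Λ W G c u ∧
      Nonempty (W ≅ (Ψ.rightDerived c).obj G) := by
  haveI : PreservesLimitsOfSize.{0, 0} Ψ := adj.rightAdjoint_preservesLimits
  haveI : PreservesFiniteLimits Ψ := inferInstance
  cases c with
  | zero =>
    exact ⟨Ψ.obj G, Ext.mk₀ (adj.counit.app G), isUniv_zero adj G,
      ⟨(Ψ.rightDerivedZeroIsoSelf.app G).symm⟩⟩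
  | succ m =>
    have h0 : IsZero (Ψ.obj G) :=
      (hz 0 (by omega)).of_iso (Ψ.rightDerivedZeroIsoSelf.app G).symm
    exact exists_univ_succ adj m G h0.injective (fun q _ hq => hz q hq)

end Groth.Agent.Helper1.LerayCol
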