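import Mathlib
import Groth.Agent.Helper9.ClImmPF2
import Groth.Agent.Helper9.ClImmPF4
import Groth.Agent.Helper1.ExtSh9
import Groth.Agent.Helper1.ExtSh6
import Groth.Agent.Helper1.DeltaComp
import Groth.Agent.Helper1.LerayCol

/-!
# ClDual1: `f^♭` for a closed immersion and `f_* Rᑫf^♭ ≅ ℰxtᑫ(f_* O_X, -)`
-/

set_option autoImplicit false
set_option linter.style.haveILetI false
set_option linter.unusedSectionVars false

universe u

open CategoryTheory CategoryTheory.Limits Abelian AlgebraicGeometry Opposite
open Groth.Agent.Helper9.TensorSh Groth.Agent.Helper9.TensorAdj Groth.Agent.Helper9.TensorFlat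
  Groth.Agent.Helper1.ExtTw Groth.Agent.Helper1.ExtSh

namespace Groth.Agent.Helper1.ClDual

attribute [local instance] hasSheafHom

variable {X Y : Scheme.{u}} (f : X ⟶ Y) [IsClosedImmersion f]

/-- `f^♭`: the right adjoint of `f_*` for a closed immersion `f` -/
noncomputable def flat : Y.Modules ⥤ X.Modules :=
  haveI := Groth.Agent.Helper9.ClImmPF4.isLeftAdjoint_pushforward f
  (Scheme.Modules.pushforward f).rightAdjoint

/-- the adjunction `f_* ⊣ f^♭` -/
noncomputable def adjFlat : Scheme.Modules.pushforward f ⊣ flat f :=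
  haveI := Groth.Agent.Helper9.ClImmPF4.isLeftAdjoint_pushforward f
  Adjunction.ofIsLeftAdjoint _

instance : (flat f).Additive := (adjFlat f).right_adjoint_additive

/-- `- ⊗ f_* O_X ≅ f_* f^*` -/
noncomputable def tensPushIso :
    TNX ((Scheme.Modules.pushforward f).obj (Coh.structureModule X)) ≅
      Scheme.Modules.pullback f ⋙ Scheme.Modules.pushforward f :=
  (symIso (O := Y.sheaf) ((Scheme.Modules.pushforward f).obj (Coh.structureModule X))).symm ≪≫
    (Groth.Agent.Helper9.ClImmPF2.biIso f).app (Coh.structureModule X) ≪≫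
    Functor.isoWhiskerRight (Functor.isoWhiskerLeft (Scheme.Modules.pullback f)
      (Groth.Agent.Helper1.Inv.lUnitorIso (O := X.sheaf))) (Scheme.Modules.pushforward f) ≪≫
    Functor.isoWhiskerRight (Functor.rightUnitor _) _

/-- `ℋom(f_* O_X, -) ≅ f_* f^♭` -/
noncomputable def flatPushIso :
    SH ((Scheme.Modules.pushforward f).obj (Coh.structureModule X)) ≅
      flat f ⋙ Scheme.Modules.pushforward f :=
  Adjunction.rightAdjointUniq (adjX _)
    (((Scheme.Modules.pullbackPushforwardAdjunction f).comp (adjFlat f)).ofNatIsoLeft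
      (tensPushIso f).symm)

instance : PreservesFiniteLimits (flat f) := by
  haveI : PreservesLimitsOfSize.{0, 0} (flat f) := (adjFlat f).rightAdjoint_preservesLimits
  infer_instance

/-- transport of the instance hypothesis -/
theorem hir_modules (Y : Scheme.{u}) [h : HasInjectiveResolutions (ModSite.Mod Y.sheaf)] :
    HasInjectiveResolutions Y.Modules := h

attribute [local instance] hir_modules

variable [HasInjectiveResolutions (ModSite.Mod Y.sheaf)]

/-- `f_* Rᑫf^♭(G) ≅ ℰxtᑫ(f_* O_X, G)` -/
theorem nonempty_push_rightDerived_iso (q : ℕ) (G : Y.Modules) :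
    Nonempty ((Scheme.Modules.pushforward f).obj (((flat f).rightDerived q).obj G) ≅
      (ModSite.extSh (O := Y.sheaf)
        ((Scheme.Modules.pushforward f).obj (Coh.structureModule X)) q).obj G) := by
  haveI : EnoughInjectives Y.Modules :=
    Groth.Agent.Helper9.ModCechExt.enoughInjectives_mod Y.ringCatSheaf
  obtain ⟨e1⟩ := nonempty_iso_rightDerived_postcomp (flat f) (Scheme.Modules.pushforward f) q
  have e2 := Groth.Agent.Helper1.DeltaFun.rightDerivedIso (flatPushIso f) q
  exact ⟨(e1.app G).symm ≪≫ (e2.app G).symm⟩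

/-- `Rᑫf^♭(G) = 0` if `ℰxtᑫ(f_* O_X, G) = 0` -/
theorem isZero_rightDerived_flat (q : ℕ) (G : Y.Modules)
    (h : IsZero ((ModSite.extSh (O := Y.sheaf)
        ((Scheme.Modules.pushforward f).obj (Coh.structureModule X)) q).obj G)) :
    IsZero (((flat f).rightDerived q).obj G) := by
  obtain ⟨e⟩ := nonempty_push_rightDerived_iso f q G
  exact Groth.Agent.Helper9.ClImm1.isZero_of_isZero_pushforward f
    (Groth.Agent.Helper9.ClImm1.isClosedEmbedding f).isInducing _ (h.of_iso e)

end Groth.Agent.Helper1.ClDual
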