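import Mathlib

/-!
# DualTrick: from objectwise equivariant dualities to a dualizing pair

If for every object `M` (in a class closed under `- ⊞ ω`) there is a bijection
`β_M : Hom(M, ω) → H(M)ᵛ` compatible with the endomorphisms of `M`, then there is a single linear
form `t` on `H(ω)` such that `φ ↦ t ∘ H(φ)` is bijective `Hom(F, ω) → H(F)ᵛ` for every `F`.
-/

set_option autoImplicit false

namespace Groth.Agent.Helper1.DualTrick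

open CategoryTheory CategoryTheory.Limits

universe v u w

variable {𝒞 : Type u} [Category.{v} 𝒞] [HasZeroMorphisms 𝒞] [HasBinaryBiproducts 𝒞]
  (k : Type w) [CommRing k]
  (V : 𝒞 → Type w) [∀ A, AddCommGroup (V A)] [∀ A, Module k (V A)]
  (H : ∀ {A B : 𝒞}, (A ⟶ B) → (V A →ₗ[k] V B))
  (H_id : ∀ A : 𝒞, H (𝟙 A) = LinearMap.id)
  (H_comp : ∀ {A B C : 𝒞} (f : A ⟶ B) (g : B ⟶ C), H (f ≫ g) = H g ∘ₗ H f)

omit [HasZeroMorphisms 𝒞] [HasBinaryBiproducts 𝒞] in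
include H_id H_comp in
/-- a retract `Z` of `M` inherits the duality -/
lemma bijective_of_retract {M Z ω : 𝒞} (β : (M ⟶ ω) → Module.Dual k (V M))
    (hβ : Function.Bijective β)
    (heq : ∀ (v : M ⟶ M) (φ : M ⟶ ω), β (v ≫ φ) = (β φ) ∘ₗ H v)
    (p : M ⟶ Z) (i : Z ⟶ M) (hip : i ≫ p = 𝟙 Z) (t' : Module.Dual k (V ω))
    (hcl : ∀ φ : Z ⟶ ω, β (p ≫ φ) = (t' ∘ₗ H φ) ∘ₗ H p) :
    Function.Bijective (fun φ : Z ⟶ ω => t' ∘ₗ H φ) := by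
  have hpi : H p ∘ₗ H i = LinearMap.id := by rw [← H_comp, hip, H_id]
  constructor
  · intro φ φ' h
    have h' : t' ∘ₗ H φ = t' ∘ₗ H φ' := h
    have h1 : β (p ≫ φ) = β (p ≫ φ') := by rw [hcl, hcl, h']
    have h2 := hβ.1 h1
    have h3 : i ≫ p ≫ φ = i ≫ p ≫ φ' := by rw [h2]
    rwa [reassoc_of% hip, reassoc_of% hip] at h3
  · intro ψ
    obtain ⟨χ, hχ⟩ := hβ.2 (ψ ∘ₗ H p)
    refine ⟨i ≫ χ, ?_⟩
    show t' ∘ₗ H (i ≫ χ) = ψ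
    have h1 : β (p ≫ i ≫ χ) = (t' ∘ₗ H (i ≫ χ)) ∘ₗ H p := hcl (i ≫ χ)
    have h2 : β (p ≫ i ≫ χ) = ψ ∘ₗ H p := by
      rw [← Category.assoc, heq, hχ, LinearMap.comp_assoc, ← H_comp, Category.assoc, hip,
        Category.comp_id]
    apply LinearMap.ext
    intro y
    have h3 := LinearMap.congr_fun (h1.symm.trans h2) (H i y)
    have h4 : H p (H i y) = y := LinearMap.congr_fun hpi y
    simp only [LinearMap.comp_apply] at h3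
    rw [h4] at h3
    exact h3

include H_id H_comp in
/-- for one `F`: a linear form on `H(ω)` which is universal for `F` and for `ω` -/
lemma exists_local {F ω : 𝒞} (β : (F ⊞ ω ⟶ ω) → Module.Dual k (V (F ⊞ ω)))
    (hβ : Function.Bijective β)
    (heq : ∀ (v : F ⊞ ω ⟶ F ⊞ ω) (φ : F ⊞ ω ⟶ ω), β (v ≫ φ) = (β φ) ∘ₗ H v) :
    ∃ t' : Module.Dual k (V ω), Function.Bijective (fun φ : F ⟶ ω => t' ∘ₗ H φ) ∧
      Function.Bijective (fun φ : ω ⟶ ω => t' ∘ₗ H φ) := by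
  refine ⟨β biprod.snd ∘ₗ H biprod.inr, ?_, ?_⟩
  · refine bijective_of_retract k V H H_id H_comp β hβ heq biprod.fst biprod.inl
      biprod.inl_fst _ ?_
    intro φ
    have h1 : (biprod.fst : F ⊞ ω ⟶ F) ≫ φ =
        ((biprod.fst : F ⊞ ω ⟶ F) ≫ φ ≫ (biprod.inr : ω ⟶ F ⊞ ω)) ≫
          (biprod.snd : F ⊞ ω ⟶ ω) := by
      simp
    rw [h1, heq, H_comp, H_comp]
    rfl
  · refine bijective_of_retract k V H H_id H_comp β hβ heq biprod.snd biprod.inr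
      biprod.inr_snd _ ?_
    intro φ
    have h1 : (biprod.snd : F ⊞ ω ⟶ ω) ≫ φ =
        ((biprod.snd : F ⊞ ω ⟶ ω) ≫ φ ≫ (biprod.inr : ω ⟶ F ⊞ ω)) ≫
          (biprod.snd : F ⊞ ω ⟶ ω) := by
      simp
    rw [h1, heq, H_comp, H_comp]
    rfl

include H_id H_comp in
/-- **the trick** -/
theorem main (ω : 𝒞) (𝒜 : 𝒞 → Prop) (hω : 𝒜 ω) (hsum : ∀ F, 𝒜 F → 𝒜 (F ⊞ ω))
    (hβ : ∀ M, 𝒜 M → ∃ β : (M ⟶ ω) → Module.Dual k (V M), Function.Bijective β ∧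
      ∀ (v : M ⟶ M) (φ : M ⟶ ω), β (v ≫ φ) = (β φ) ∘ₗ H v) :
    ∃ t : Module.Dual k (V ω), ∀ F, 𝒜 F →
      Function.Bijective (fun φ : F ⟶ ω => t ∘ₗ H φ) := by
  have hloc : ∀ F, 𝒜 F → ∃ t' : Module.Dual k (V ω),
      Function.Bijective (fun φ : F ⟶ ω => t' ∘ₗ H φ) ∧
      Function.Bijective (fun φ : ω ⟶ ω => t' ∘ₗ H φ) := by
    intro F hF
    obtain ⟨β, hb, he⟩ := hβ (F ⊞ ω) (hsum F hF)
    exact exists_local k V H H_id H_comp β hb he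
  obtain ⟨t, -, ht⟩ := hloc ω hω
  refine ⟨t, fun F hF => ?_⟩
  obtain ⟨t', hF', hω'⟩ := hloc F hF
  obtain ⟨v₀, hv₀⟩ := ht.2 t'
  obtain ⟨v₁, hv₁⟩ := hω'.2 t
  have hv₀' : t ∘ₗ H v₀ = t' := hv₀
  have hv₁' : t' ∘ₗ H v₁ = t := hv₁
  have h10 : v₁ ≫ v₀ = 𝟙 ω := by
    apply ht.1
    show t ∘ₗ H (v₁ ≫ v₀) = t ∘ₗ H (𝟙 ω)
    rw [H_comp, ← LinearMap.comp_assoc, hv₀', hv₁', H_id, LinearMap.comp_id]
  have h01 : v₀ ≫ v₁ = 𝟙 ω := by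
    apply hω'.1
    show t' ∘ₗ H (v₀ ≫ v₁) = t' ∘ₗ H (𝟙 ω)
    rw [H_comp, ← LinearMap.comp_assoc, hv₁', hv₀', H_id, LinearMap.comp_id]
  have hfun : (fun φ : F ⟶ ω => t ∘ₗ H φ) =
      (fun φ : F ⟶ ω => t' ∘ₗ H φ) ∘ (fun φ : F ⟶ ω => φ ≫ v₁) := by
    funext φ
    show t ∘ₗ H φ = t' ∘ₗ H (φ ≫ v₁)
    rw [H_comp, ← LinearMap.comp_assoc, hv₁']
  rw [hfun]
  refine hF'.comp ?_
  constructor
  · intro φ φ' h
    have h' : φ ≫ v₁ = φ' ≫ v₁ := h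
    have h2 : (φ ≫ v₁) ≫ v₀ = (φ' ≫ v₁) ≫ v₀ := by rw [h']
    rwa [Category.assoc, Category.assoc, h10, Category.comp_id, Category.comp_id] at h2
  · intro φ
    exact ⟨φ ≫ v₀, by
      show (φ ≫ v₀) ≫ v₁ = φ
      rw [Category.assoc, h01, Category.comp_id]⟩

end Groth.Agent.Helper1.DualTrick
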