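import Mathlib
import Groth.Agent.Helper1.ExtSh12
import Groth.Agent.Helper1.Dev9
import Groth.Agent.Helper1.Dev4
import Groth.Agent.Helper4.SN5
import Groth.Agent.Helper9.CI2

/-!
# ExtSh13: vanishing of `ℰxtⁱ(ι_* O_X, ω_P)` for a closed subscheme `X` of `P^N_k`
-/

set_option autoImplicit false
set_option linter.style.haveILetI false
set_option linter.unusedSectionVars false

universe u

open CategoryTheory CategoryTheory.Limits Abelian AlgebraicGeometry Opposite
open Groth.Agent.Helper9.TensorSh Groth.Agent.Helper9.TensorAdj Groth.Agent.Helper9.TensorFlat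
  Groth.Agent.Helper1.ExtTw

namespace Groth.Agent.Helper1.ExtSh

attribute [local instance] hasSheafHom

lemma topologicalKrullDim_nonneg_of_nonempty (T : Type*) [TopologicalSpace T] [Nonempty T] :
    0 ≤ topologicalKrullDim T := by
  haveI : Nonempty (TopologicalSpace.IrreducibleCloseds T) :=
    ⟨⟨closure {Classical.arbitrary T}, isIrreducible_singleton.closure, isClosed_closure⟩⟩
  exact Order.krullDim_nonneg

/-- arithmetic in `WithBot ℕ∞` -/
lemma dim_arith {D : WithBot ℕ∞} (h0 : 0 ≤ D) (r N : ℕ)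
    (h : D + (r : WithBot ℕ∞) ≤ (N : WithBot ℕ∞)) :
    r ≤ N ∧ D ≤ ((N - r : ℕ) : WithBot ℕ∞) := by
  have hne : D ≠ ⊥ := fun hb => by rw [hb] at h0; exact absurd h0 (by simp)
  obtain ⟨e, rfl⟩ := WithBot.ne_bot_iff_exists.1 hne
  have h' : e + (r : ℕ∞) ≤ (N : ℕ∞) := by exact_mod_cast h
  have hfin : e ≠ ⊤ := by
    rintro rfl
    simp at h'
  lift e to ℕ using hfin
  have h'' : e + r ≤ N := by exact_mod_cast h'
  refine ⟨by omega, ?_⟩
  have h3 : e ≤ N - r := by omega
  have h4 : ((e : ℕ∞) : WithBot ℕ∞) ≤ (((N - r : ℕ) : ℕ∞) : WithBot ℕ∞) :=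
    WithBot.coe_le_coe.2 (by exact_mod_cast h3)
  exact h4

section closed

variable (N : ℕ) (k : Type u) [Field k] {X : Scheme.{u}} (ι : X ⟶ CohB1.ProjSpace N k)
  [IsClosedImmersion ι]

local notation "ℙ" => CohB1.ProjSpace N k
local notation "𝕆(" d ")" => Twist.twistProjSpace N k d
local notation "ωP" => Twist.twistProjSpace N k (-((N : ℤ) + 1))

/-- `H^p(X, ι^* O(d)) = 0 ↔ H^p(P, ι_* O_X ⊗ O(d)) = 0` -/
theorem subsingleton_HH_pullback_twist_iff (d : ℤ) (p : ℕ) :
    Subsingleton (Coh.HH X ((Scheme.Modules.pullback ι).obj 𝕆(d)) p) ↔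
      Subsingleton (Coh.HH ℙ (CohB1.tensorMod
        ((Scheme.Modules.pushforward ι).obj (Coh.structureModule X)) 𝕆(d)) p) := by
  letI : X.Over (Spec (CommRingCat.of k)) := ⟨ι ≫ CohB1.ProjSpace.toSpec N k⟩
  have hO := Groth.Agent.Helper1.Dev.isCoh_structureModule X
  rw [← Groth.Agent.Helper1.ClTr.subsingleton_HH_tw_iff N k ι (Coh.structureModule X) hO.1 d p]
  have c : CohB1.tensorMod (Coh.structureModule X) ((Scheme.Modules.pullback ι).obj 𝕆(d)) ≅
      (Scheme.Modules.pullback ι).obj 𝕆(d) := lu _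
  exact ⟨fun h => subsingleton_HH_of_iso k c.symm p h, fun h => subsingleton_HH_of_iso k c p h⟩

variable [HasExt.{u} (CohB1.ProjSpace N k).Modules]
  [HasInjectiveResolutions (ModSite.Mod (CohB1.ProjSpace N k).sheaf)]

include ι in
theorem isCoh_push_structureModule :
    Coh.IsCoh ((Scheme.Modules.pushforward ι).obj (Coh.structureModule X)) :=
  Groth.Agent.Helper1.ClTr.isCoh_push N k ι _ (Groth.Agent.Helper1.Dev.isCoh_structureModule X)

/-- **`ℰxtⁱ(ι_* O_X, ω_P) = 0` iff `H^{N-i}(X, O_X(-m)) = 0` for `m ≫ 0`** -/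
theorem isZero_extSh_push_iff (i : ℕ) (hi : i ≤ N) :
    IsZero ((ModSite.extSh (O := (CohB1.ProjSpace N k).sheaf)
        ((Scheme.Modules.pushforward ι).obj (Coh.structureModule X)) i).obj ωP) ↔
      ∃ m₀ : ℤ, ∀ m : ℤ, m₀ ≤ m →
        Subsingleton (Coh.HH X ((Scheme.Modules.pullback ι).obj 𝕆(-m)) (N - i)) := by
  rw [isZero_extSh_iff N k _ (isCoh_push_structureModule N k ι) i hi]
  constructor
  · rintro ⟨q₀, h⟩
    exact ⟨q₀, fun m hm => (subsingleton_HH_pullback_twist_iff N k ι (-m) (N - i)).2 (h m hm)⟩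
  · rintro ⟨q₀, h⟩
    exact ⟨q₀, fun m hm => (subsingleton_HH_pullback_twist_iff N k ι (-m) (N - i)).1 (h m hm)⟩

/-- **`ℰxtⁱ(ι_* O_X, ω_P) = 0` for `i < codim X`** -/
theorem isZero_extSh_push_of_lt_codim (r : ℕ)
    (hr : topologicalKrullDim ↥X + (r : WithBot ℕ∞) ≤ (N : WithBot ℕ∞)) (i : ℕ) (hi : i < r) :
    IsZero ((ModSite.extSh (O := (CohB1.ProjSpace N k).sheaf)
        ((Scheme.Modules.pushforward ι).obj (Coh.structureModule X)) i).obj ωP) := by
  by_cases hiN : N < i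
  · exact isZero_extSh_of_gt N k _ (isCoh_push_structureModule N k ι) i hiN
  rw [isZero_extSh_push_iff N k ι i (by omega)]
  refine ⟨0, fun m _ => ?_⟩
  letI : X.Over (Spec (CommRingCat.of k)) := ⟨ι ≫ CohB1.ProjSpace.toSpec N k⟩
  by_cases hX : IsEmpty X
  · exact Groth.Agent.Helper1.GrSh.subsingleton_HH_of_isZero k
      (Groth.Agent.Helper9.CI2.isZero_of_isEmpty _) _
  · rw [not_isEmpty_iff] at hX
    obtain ⟨h1, h2⟩ := dim_arith (topologicalKrullDim_nonneg_of_nonempty X) r N hr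
    haveI : IsNoetherianRing (MvPolynomial (Fin (N + 1)) k) := inferInstance
    haveI : IsNoetherian (CohB1.ProjSpace N k) :=
      Groth.Agent.Helper3.ProjNoeth.main (CohB1.polyGrading N k)
    haveI : IsNoetherian X := Groth.Agent.Helper1.Dev.isNoetherian_of_isClosedImmersion ι
    exact Groth.Agent.Helper4.SN.subsingleton_HH_of_dim (N - r) h2 _ (N - i) (by omega)

end closed

end Groth.Agent.Helper1.ExtSh
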