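import Mathlib
import Groth.Agent.Helper1.ExtSh13
import Groth.Agent.Helper9.ClImm4

/-!
# ExtSh14: `Extⁱ(O_X(-m), ω) = 0` for `m ≫ 0`, `i ≥ 1`, when `ι_* ω` is coherent
-/

set_option autoImplicit false
set_option linter.style.haveILetI false
set_option linter.unusedSectionVars false

universe u

open CategoryTheory CategoryTheory.Limits Abelian AlgebraicGeometry Opposite
open Groth.Agent.Helper9.TensorSh Groth.Agent.Helper9.TensorAdj Groth.Agent.Helper9.TensorFlat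
  Groth.Agent.Helper1.ExtTw

namespace Groth.Agent.Helper1.ExtSh

attribute [local instance] hasSheafHom

section closed

variable (N : ℕ) (k : Type u) [Field k] {X : Scheme.{u}} (ι : X ⟶ CohB1.ProjSpace N k)
  [IsClosedImmersion ι]

local notation "ℙ" => CohB1.ProjSpace N k
local notation "𝕆(" d ")" => Twist.twistProjSpace N k d

/-- Serre vanishing for a module on `X` whose direct image is coherent, in `Ext` form -/
theorem exists_vanishing_ext_neg_twist [HasExt.{u} X.Modules] (ω : X.Modules)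
    (𝓔 : (CohB1.ProjSpace N k).Modules) (h𝓔 : Coh.IsCoh 𝓔)
    (hω : Nonempty ((Scheme.Modules.pushforward ι).obj ω ≅ 𝓔)) :
    ∃ m₀ : ℤ, ∀ m : ℤ, m₀ ≤ m → ∀ i : ℕ, 1 ≤ i →
      Subsingleton (Ext.{u} ((Scheme.Modules.pullback ι).obj 𝕆(-m)) ω i) := by
  obtain ⟨c⟩ := hω
  letI : X.Over (Spec (CommRingCat.of k)) := ⟨ι ≫ CohB1.ProjSpace.toSpec N k⟩
  have hq : Coh.IsQCoh ω := by
    apply Groth.Agent.Helper9.ClImm4.isQuasicoherent_of_pushforward ι ω
    exact Groth.Agent.Helper4.QcohLimits.isQuasicoherent_of_iso (hF := h𝓔.1) c.symm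
  obtain ⟨m₀, hm₀⟩ := Groth.Agent.Helper1.SerreVan.vanishing N k 𝓔 h𝓔
  refine ⟨m₀, fun m hm i hi => ?_⟩
  obtain ⟨e0⟩ := nonempty_Ltw_neg_iso N k ι (-m)
  have e : CohB1.tensorMod (Ltw N k ι (-m)) (Ltw N k ι m) ≅ Coh.structureModule X := by
    rw [neg_neg] at e0
    exact e0
  obtain ⟨a⟩ := nonempty_ext_addEquiv_scheme (Ltw N k ι (-m)) (Ltw N k ι m) e ω i
  have h1 : Subsingleton (Coh.HH ℙ (CohB1.tensorMod 𝓔 𝕆(m)) i) := hm₀ m hm i hi
  have h2 : Subsingleton (Coh.HH ℙ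
      (CohB1.tensorMod ((Scheme.Modules.pushforward ι).obj ω) 𝕆(m)) i) :=
    subsingleton_HH_of_iso k (PicGrp.tensorModIso c.symm (Iso.refl _)) i h1
  have h3 : Subsingleton (Coh.HH X (Groth.Agent.Helper1.ClTr.tw N k ι ω m) i) :=
    (Groth.Agent.Helper1.ClTr.subsingleton_HH_tw_iff N k ι ω hq m i).2 h2
  have h4 : Subsingleton (Coh.HH X (CohB1.tensorMod (Ltw N k ι m) ω) i) :=
    subsingleton_HH_of_iso k (swapIso (O := X.sheaf) (Ltw N k ι m) ω) i h3
  exact a.toEquiv.subsingleton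

end closed

end Groth.Agent.Helper1.ExtSh
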