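import Mathlib
import Groth.Prelude.Def_KLin
import Groth.Agent.Helper1.HHLes
import Groth.Agent.Helper1.HHLes3
import Groth.Agent.Helper1.ExtDual1
import Groth.Agent.Helper1.ExtDual2
import Groth.Agent.Helper4.SN50

/-!
# YDual1: the Yoneda pairing `Hʲ(X, G) × Extⁱ(G, ω) → Hʲ⁺ⁱ(X, ω)` and the duality maps
`θ : Extⁱ(G, ω) → Hʲ(X, G)ᵛ` attached to a linear form `t` on `Hʲ⁺ⁱ(X, ω)`
-/

set_option autoImplicit false
set_option linter.style.haveILetI false
set_option linter.unusedSectionVars false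

open CategoryTheory CategoryTheory.Limits Abelian AlgebraicGeometry
open Groth.Agent.Helper1.SerreCrit Groth.Agent.Helper1.HHLes

namespace Groth.Agent.Helper1.YDual

universe u

variable (k : Type u) [Field k] {X : Scheme.{u}} [X.Over (Spec (CommRingCat.of k))]
  [HasExt.{u} X.Modules]

/-- the Yoneda pairing -/
noncomputable def pair {G ω : X.Modules} {i j m : ℕ} (x : Coh.HH X G j) (e : Ext.{u} G ω i)
    (h : j + i = m) : Coh.HH X ω m :=
  Ext.comp (show Ext.{u} _ ((toAbF X).obj G) j from x) (e.mapExactFunctor (toAbF X)) h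

variable {G ω : X.Modules} {i j m : ℕ}

lemma pair_add_left (x y : Coh.HH X G j) (e : Ext.{u} G ω i) (h : j + i = m) :
    pair (x + y) e h = pair x e h + pair y e h :=
  Ext.add_comp _ _ _ _

lemma pair_add_right (x : Coh.HH X G j) (e e' : Ext.{u} G ω i) (h : j + i = m) :
    pair x (e + e') h = pair x e h + pair x e' h := by
  unfold pair
  rw [Ext.mapExactFunctor_add, Ext.comp_add]
  rfl

/-- functoriality in the first variable of `Ext` -/
lemma pair_HHlin_left {G' : X.Modules} (g : G' ⟶ G) (x : Coh.HH X G' j) (e : Ext.{u} G ω i)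
    (h : j + i = m) :
    pair (Canon.HHlin k g j x) e h = pair x ((Ext.mk₀ g).comp e (zero_add i)) h := by
  show Ext.comp (Ext.comp (show Ext.{u} _ ((toAbF X).obj G') j from x)
      (Ext.mk₀ ((toAbF X).map g)) (add_zero j)) (e.mapExactFunctor (toAbF X)) h =
    Ext.comp (show Ext.{u} _ ((toAbF X).obj G') j from x)
      (((Ext.mk₀ g).comp e (zero_add i)).mapExactFunctor (toAbF X)) h
  rw [Ext.mapExactFunctor_comp, Ext.mapExactFunctor_mk₀,
    Ext.comp_assoc _ _ _ (add_zero j) (zero_add i) (by omega)]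

/-- functoriality in the second variable of `Ext` -/
lemma pair_HHlin_right {ω' : X.Modules} (ψ : ω ⟶ ω') (x : Coh.HH X G j) (e : Ext.{u} G ω i)
    (h : j + i = m) :
    Canon.HHlin k ψ m (pair x e h) = pair x (e.comp (Ext.mk₀ ψ) (add_zero i)) h := by
  show Ext.comp (Ext.comp (show Ext.{u} _ ((toAbF X).obj G) j from x)
      (e.mapExactFunctor (toAbF X)) h) (Ext.mk₀ ((toAbF X).map ψ)) (add_zero m) =
    Ext.comp (show Ext.{u} _ ((toAbF X).obj G) j from x)
      ((e.comp (Ext.mk₀ ψ) (add_zero i)).mapExactFunctor (toAbF X)) h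
  rw [Ext.mapExactFunctor_comp, Ext.mapExactFunctor_mk₀,
    Ext.comp_assoc _ _ _ h (add_zero i) (by omega)]

lemma pair_smul_right (a : k) (x : Coh.HH X G j) (e : Ext.{u} G ω i) (h : j + i = m) :
    pair x (a • e) h = a • pair x e h := by
  rw [Ext.smul_eq_comp_mk₀, ← pair_HHlin_right k, Groth.Agent.Helper4.SN.HHlin_smul_id]

lemma pair_smul_left (a : k) (x : Coh.HH X G j) (e : Ext.{u} G ω i) (h : j + i = m) :
    pair (a • x) e h = a • pair x e h := by
  rw [← Groth.Agent.Helper4.SN.HHlin_smul_id k G a j x, pair_HHlin_left k, Ext.mk₀_smul,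
    Ext.smul_comp, Ext.mk₀_id_comp, pair_smul_right]

/-- compatibility with the connecting maps -/
lemma pair_δ {S : ShortComplex X.Modules} (hS : S.ShortExact) {ω : X.Modules} {i j m : ℕ}
    (x : Coh.HH X S.X₃ j) (e : Ext.{u} S.X₁ ω i) (h : j + 1 + i = m) :
    pair (δ k S hS j x) e h =
      pair x (hS.extClass.comp e (add_comm 1 i)) (by omega : j + (i + 1) = m) := by
  show Ext.comp (Ext.comp (show Ext.{u} _ ((S.map (toAbF X)).X₃) j from x)
      (shortExact_toAb S hS).extClass rfl) (e.mapExactFunctor (toAbF X)) h =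
    Ext.comp (show Ext.{u} _ ((toAbF X).obj S.X₃) j from x)
      ((hS.extClass.comp e (add_comm 1 i)).mapExactFunctor (toAbF X)) _
  rw [Ext.mapExactFunctor_comp, Ext.mapExactFunctor_extClass,
    Ext.comp_assoc _ _ _ rfl (add_comm 1 i) (by omega)]
  rfl

variable (ω) in
/-- the duality map attached to a linear form on `Hᵐ(X, ω)` -/
noncomputable def θ (t : Coh.HH X ω m →ₗ[k] k) (G : X.Modules) (i j : ℕ) (h : j + i = m) :
    Ext.{u} G ω i →ₗ[k] Module.Dual k (Coh.HH X G j) where
  toFun e :=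
    { toFun := fun x => t (pair x e h)
      map_add' := fun x y => by rw [pair_add_left, map_add]
      map_smul' := fun a x => by rw [pair_smul_left k, map_smul]; rfl }
  map_add' e e' := by
    apply LinearMap.ext
    intro x
    show t (pair x (e + e') h) = t (pair x e h) + t (pair x e' h)
    rw [pair_add_right, map_add]
  map_smul' a e := by
    apply LinearMap.ext
    intro x
    show t (pair x (a • e) h) = a • t (pair x e h)
    rw [pair_smul_right k, map_smul]

lemma θ_apply (t : Coh.HH X ω m →ₗ[k] k) (G : X.Modules) (i j : ℕ) (h : j + i = m)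
    (e : Ext.{u} G ω i) (x : Coh.HH X G j) : θ k ω t G i j h e x = t (pair x e h) := rfl

/-- naturality of `θ` -/
lemma θ_nat (t : Coh.HH X ω m →ₗ[k] k) {G' G : X.Modules} (g : G' ⟶ G) (i j : ℕ)
    (h : j + i = m) (e : Ext.{u} G ω i) :
    θ k ω t G' i j h ((Ext.mk₀ g).comp e (zero_add i)) =
      (Canon.HHlin k g j).dualMap (θ k ω t G i j h e) := by
  apply LinearMap.ext
  intro x
  rw [LinearMap.dualMap_apply, θ_apply, θ_apply, pair_HHlin_left]

/-- compatibility of `θ` with the connecting maps -/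
lemma θ_δ (t : Coh.HH X ω m →ₗ[k] k) {S : ShortComplex X.Modules} (hS : S.ShortExact)
    (i j : ℕ) (h : j + 1 + i = m) (e : Ext.{u} S.X₁ ω i) :
    θ k ω t S.X₃ (i + 1) j (by omega) (hS.extClass.comp e (add_comm 1 i)) =
      (δ k S hS j).dualMap (θ k ω t S.X₁ i (j + 1) h e) := by
  apply LinearMap.ext
  intro x
  rw [LinearMap.dualMap_apply, θ_apply, θ_apply, pair_δ]

/-- in degree `0`, `θ` is `φ ↦ t ∘ Hᵐ(φ)` -/
lemma θ_mk₀ (t : Coh.HH X ω m →ₗ[k] k) (G : X.Modules) (φ : G ⟶ ω) :
    θ k ω t G 0 m (add_zero m) (Ext.mk₀ φ) =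
      Groth.Agent.Helper1.ExtDual.dualMapLin k m t G φ := by
  apply LinearMap.ext
  intro x
  rw [θ_apply, Groth.Agent.Helper1.ExtDual.dualMapLin_apply]
  congr 1
  show Ext.comp (show Ext.{u} _ ((toAbF X).obj G) m from x)
    ((Ext.mk₀ φ).mapExactFunctor (toAbF X)) (add_zero m) = _
  rw [Ext.mapExactFunctor_mk₀]
  rfl

end Groth.Agent.Helper1.YDual
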