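import Mathlib
import Groth.Agent.Helper1.YDual1
import Groth.Agent.Helper1.ExtDual3

/-!
# YDual2: the duality maps `θ : Extⁱ(F, ω) → Hʳ⁻ⁱ(F)ᵛ` of a dualizing pair are bijective
(natural Serre duality), in particular on `P^r_k`
-/

set_option autoImplicit false
set_option linter.style.haveILetI false
set_option linter.unusedSectionVars false

open CategoryTheory CategoryTheory.Limits Abelian AlgebraicGeometry
open Groth.Agent.Helper1.SerreCrit Groth.Agent.Helper1.HHLes Groth.Agent.Helper1.DualSh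
  Groth.Agent.Helper1.ExtDual

namespace Groth.Agent.Helper1.YDual

section LinAlg

variable {k : Type*} [Field k]

/-- a four lemma for duality maps -/
theorem bijective_of_four {A₁ A₂ A₃ V₁ V₂ V₃ : Type*} [AddCommGroup A₁] [Module k A₁]
    [AddCommGroup A₂] [Module k A₂] [AddCommGroup A₃] [Module k A₃]
    [AddCommGroup V₁] [Module k V₁] [AddCommGroup V₂] [Module k V₂] [AddCommGroup V₃] [Module k V₃]
    (a : A₁ →ₗ[k] A₂) (δ : A₂ →ₗ[k] A₃) (hδ : Function.Surjective δ) (hex : Function.Exact a δ)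
    (d : V₁ →ₗ[k] V₂) (c : V₂ →ₗ[k] V₃) (hd : Function.Injective d) (hex' : Function.Exact d c)
    (θ₁ : A₁ →ₗ[k] Module.Dual k V₃) (θ₂ : A₂ →ₗ[k] Module.Dual k V₂)
    (θ₃ : A₃ →ₗ[k] Module.Dual k V₁)
    (h₁ : Function.Surjective θ₁) (h₂ : Function.Bijective θ₂)
    (hnat : ∀ x, θ₂ (a x) = c.dualMap (θ₁ x)) (hδnat : ∀ x, θ₃ (δ x) = d.dualMap (θ₂ x)) :
    Function.Bijective θ₃ := by
  constructor
  · rw [injective_iff_map_eq_zero]
    intro y hy
    obtain ⟨e, rfl⟩ := hδ y
    rw [hδnat] at hy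
    obtain ⟨ψ, hψ⟩ := (ker_dualMap_of_exact d c hex' (θ₂ e)).1 hy
    obtain ⟨e', rfl⟩ := h₁ ψ
    rw [← hnat] at hψ
    have he : a e' = e := h₂.1 hψ
    rw [← he]
    exact (hex (a e')).2 ⟨e', rfl⟩
  · intro ψ
    obtain ⟨ψ', rfl⟩ := LinearMap.dualMap_surjective_of_injective hd ψ
    obtain ⟨e, rfl⟩ := h₂.2 ψ'
    exact ⟨δ e, hδnat e⟩

end LinAlg

universe u

variable (k : Type u) [Field k] {X : Scheme.{u}} [X.Over (Spec (CommRingCat.of k))]
  [HasExt.{u} X.Modules] {ω : X.Modules} (r : ℕ) (t : Coh.HH X ω r →ₗ[k] k)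

/-- **natural duality in all degrees** -/
theorem bijective_θ (𝒜 : X.Modules → Prop) (hdual : ∀ F, 𝒜 F → IsDual k r t F)
    (hpres : ∀ F, 𝒜 F → ∃ (E : X.Modules) (π : E ⟶ F), Epi π ∧ 𝒜 E ∧ 𝒜 (kernel π) ∧
      (∀ m : ℕ, 1 ≤ m → Subsingleton (Ext.{u} E ω m)) ∧
      (∀ j : ℕ, j < r → Subsingleton (Coh.HH X E j))) :
    ∀ (i j : ℕ) (h : j + i = r) (F : X.Modules), 𝒜 F →
      Function.Bijective (θ k ω t F i j h) := by
  intro i
  induction i with
  | zero =>
    intro j h F hF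
    have hj : j = r := by omega
    subst hj
    have hb := bijective_dualMapLin k j t (hdual F hF)
    constructor
    · intro e e' he
      obtain ⟨φ, rfl⟩ := (Ext.mk₀_bijective _ _).2 e
      obtain ⟨φ', rfl⟩ := (Ext.mk₀_bijective _ _).2 e'
      rw [θ_mk₀, θ_mk₀] at he
      rw [hb.1 he]
    · intro ψ
      obtain ⟨φ, rfl⟩ := hb.2 ψ
      exact ⟨Ext.mk₀ φ, θ_mk₀ k t F φ⟩
  | succ i ih =>
    intro j h F hF
    obtain ⟨E, π, hπ, hE, hK, hext, hhh⟩ := hpres F hF
    haveI := hπ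
    have hS : (kerSC π).ShortExact := kerSC_shortExact π
    have hsurj : Function.Surjective (δE k hS ω i) :=
      surjective_δE k hS ω i (hext (i + 1) (by omega))
    have hdinj : Function.Injective (δ k (kerSC π) hS j) := by
      haveI := hhh j (by omega)
      rw [injective_iff_map_eq_zero]
      intro x hx
      obtain ⟨y, rfl⟩ := (exact_g_δ k (kerSC π) hS j x).1 hx
      rw [Subsingleton.elim y 0, map_zero]
    have h₁ : Function.Surjective (θ k ω t E i (j + 1) (by omega)) := by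
      rcases i with _ | i
      · exact (ih (j + 1) (by omega) E hE).2
      · haveI := hhh (j + 1) (by omega)
        haveI := subsingleton_dual_of_subsingleton k (Coh.HH X E (j + 1))
        intro ψ
        exact ⟨0, Subsingleton.elim _ _⟩
    refine bijective_of_four (aE k (S := kerSC π) ω i) (δE k hS ω i) hsurj (exact_aE_δE k hS ω i)
      (δ k (kerSC π) hS j) (Canon.HHlin k (kerSC π).f (j + 1)) hdinj
      (exact_δ_f k (kerSC π) hS j)
      (θ k ω t E i (j + 1) (by omega)) (θ k ω t (kernel π) i (j + 1) (by omega))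
      (θ k ω t F (i + 1) j h) h₁ (ih (j + 1) (by omega) _ hK) ?_ ?_
    · intro x
      exact θ_nat k t (kernel.ι π) i (j + 1) (by omega) x
    · intro x
      exact θ_δ k t hS i j (by omega) x

section Pn

variable (r : ℕ) (k : Type u) [Field k] [HasExt.{u} (CohB1.ProjSpace r k).Modules]

/-- **natural Serre duality on `P^r_k`**: there is a trace `t : Hʳ(ω) → k` such that all the
Yoneda duality maps `Extⁱ(F, ω) → Hʳ⁻ⁱ(F)ᵛ` are bijective, for coherent `F` -/
theorem exists_bijective_θ_Pn :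
    ∃ t : Coh.HH (CohB1.ProjSpace r k) (Twist.twistProjSpace r k (-((r : ℤ) + 1))) r →ₗ[k] k,
      ∀ (i j : ℕ) (h : j + i = r) (F : (CohB1.ProjSpace r k).Modules), Coh.IsCoh F →
        Function.Bijective (θ k (Twist.twistProjSpace r k (-((r : ℤ) + 1))) t F i j h) := by
  obtain ⟨t, ht⟩ := Groth.Agent.Helper1.PnDual.exists_dualizing r k
  exact ⟨t.toLinearMap, bijective_θ k r t.toLinearMap (fun F => Coh.IsCoh F) ht
    (fun F hF => exists_pres r k F hF)⟩

end Pn

end Groth.Agent.Helper1.YDual
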