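import Mathlib
import Groth.Agent.Helper1.ClDual1
import Groth.Agent.Helper1.ClFF1
import Groth.Agent.Helper1.AffLin2
import Groth.Agent.Helper1.DualTrick
import Groth.Agent.Helper1.YDual2
import Groth.Agent.Helper1.ExtSh14
import Groth.Agent.Helper1.GrSh2

/-!
# ClDual2: the dualizing sheaf of a closed subscheme of `P^N_k`
-/

set_option autoImplicit false
set_option linter.style.haveILetI false
set_option linter.unusedSectionVars false

universe u

open CategoryTheory CategoryTheory.Limits Abelian AlgebraicGeometry Opposite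
open Groth.Agent.Helper9.TensorSh Groth.Agent.Helper9.TensorAdj Groth.Agent.Helper9.TensorFlat
  Groth.Agent.Helper1.ExtTw Groth.Agent.Helper1.ExtSh Groth.Agent.Helper1.LerayCol
  Groth.Agent.Helper1.YDual

namespace Groth.Agent.Helper1.ClDual

attribute [local instance] hasSheafHom hir_modules

section closed

variable (N : ℕ) (k : Type u) [Field k] {X : Scheme.{u}} [X.Over (Spec (CommRingCat.of k))]
  (ι : X ⟶ CohB1.ProjSpace N k) [IsClosedImmersion ι]
  (hι : ι ≫ CohB1.ProjSpace.toSpec N k = X ↘ Spec (CommRingCat.of k))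

local notation "ℙ" => CohB1.ProjSpace N k
local notation "ωP" => Twist.twistProjSpace N k (-((N : ℤ) + 1))

variable [HasExt.{u} (CohB1.ProjSpace N k).Modules]
  [HasInjectiveResolutions (ModSite.Mod (CohB1.ProjSpace N k).sheaf)]

include hι in
/-- **the dualizing sheaf of a closed subscheme of `P^N_k`** -/
theorem exists_trace (n : ℕ) (hn : n ≤ N)
    (hdim : topologicalKrullDim ↥X ≤ (n : WithBot ℕ∞)) (ω : X.Modules)
    (hω : Nonempty ((Scheme.Modules.pushforward ι).obj ω ≅
      (ModSite.extSh (O := (CohB1.ProjSpace N k).sheaf)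
        ((Scheme.Modules.pushforward ι).obj (Coh.structureModule X)) (N - n)).obj ωP)) :
    ∃ t : Coh.HH X ω n →ₗ[k] k, ∀ F : X.Modules, Coh.IsCoh F →
      Function.Bijective (fun φ : F ⟶ ω => t ∘ₗ Canon.HHlin k φ n) := by
  haveI : EnoughInjectives (CohB1.ProjSpace N k).Modules :=
    Groth.Agent.Helper9.ModCechExt.enoughInjectives_mod (CohB1.ProjSpace N k).ringCatSheaf
  obtain ⟨cω⟩ := hω
  have hωP := Groth.Agent.Helper1.SerreFin.isCoh_twist N k (-((N : ℤ) + 1))
  have hOX : Coh.IsCoh ((Scheme.Modules.pushforward ι).obj (Coh.structureModule X)) :=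
    isCoh_push_structureModule N k ι
  -- vanishing of the lower derived functors
  have hr : topologicalKrullDim ↥X + ((N - n : ℕ) : WithBot ℕ∞) ≤ (N : WithBot ℕ∞) := by
    have h1 : ((n : ℕ) : WithBot ℕ∞) + ((N - n : ℕ) : WithBot ℕ∞) = (N : WithBot ℕ∞) := by
      have : n + (N - n) = N := by omega
      exact_mod_cast this
    rw [← h1]
    exact add_le_add hdim le_rfl
  have hz : ∀ q, q < N - n → IsZero (((flat ι).rightDerived q).obj ωP) := fun q hq =>
    isZero_rightDerived_flat ι q ωP (isZero_extSh_push_of_lt_codim N k ι (N - n) hr q hq)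
  haveI : (Scheme.Modules.pushforward ι).PreservesMonomorphisms := inferInstance
  obtain ⟨W, u, hu, ⟨iW⟩⟩ := exists_univ (adjFlat ι) (N - n) ωP hz
  -- `ω ≅ W`
  obtain ⟨e1⟩ := nonempty_push_rightDerived_iso ι (N - n) ωP
  obtain ⟨e⟩ := Groth.Agent.Helper1.ClFF.nonempty_iso_of_push_iso ι
    (cω ≪≫ e1.symm ≪≫ (Scheme.Modules.pushforward ι).mapIso iW.symm)
  have huω := isUniv_of_iso hu e
  -- Serre duality on `P`
  obtain ⟨tP, htP⟩ := exists_bijective_θ_Pn N k
  -- `ω` is quasi-coherent with coherent direct image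
  have hcω : Coh.IsCoh ((Scheme.Modules.pushforward ι).obj ω) :=
    Groth.Agent.Lead.PerfLib.isCoh_of_iso cω.symm
      (isCoh_extSh_projSpace N k ωP hωP (N - n) _ hOX)
  have hqω : Coh.IsQCoh ω :=
    Groth.Agent.Helper9.ClImm4.isQuasicoherent_of_pushforward ι ω hcω.1
  let 𝒜 : X.Modules → Prop := fun M =>
    Coh.IsQCoh M ∧ Coh.IsCoh ((Scheme.Modules.pushforward ι).obj M)
  have key := Groth.Agent.Helper1.DualTrick.main k (fun M : X.Modules => Coh.HH X M n)
    (fun {A B} (φ : A ⟶ B) => Canon.HHlin k φ n)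
    (fun A => LinearMap.ext (fun x => Groth.Agent.Helper1.GrSh.HHlin_id k A n x))
    (fun {A B C} f g => LinearMap.ext (fun x => Groth.Agent.Helper1.GrSh.HHlin_comp k f g n x))
    ω 𝒜 ⟨hqω, hcω⟩ ?_ ?_
  · obtain ⟨t, ht⟩ := key
    exact ⟨t, fun F hF => ht F ⟨hF.1, Groth.Agent.Helper1.ClTr.isCoh_push N k ι F hF⟩⟩
  · rintro F ⟨hF1, hF2⟩
    refine ⟨Groth.Agent.Helper4.QcohLimits.isQuasicoherent_biprod _ _, ?_⟩
    haveI : PreservesBinaryBiproducts (Scheme.Modules.pushforward ι) :=
      preservesBinaryBiproducts_of_preservesBinaryProducts _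
    exact Groth.Agent.Lead.PerfLib.isCoh_of_iso
      ((Scheme.Modules.pushforward ι).mapBiprod F ω).symm
      (Groth.Agent.Helper1.Dev.isCoh_biprod hF2 hcω)
  · rintro M ⟨hM1, hM2⟩
    haveI : Coh.IsQCoh M := hM1
    obtain ⟨σ, hσ⟩ := Groth.Agent.Helper1.AffLin.exists_HH_linearEquiv_end ι k hι M n
    have hcn : n + (N - n) = N := by omega
    refine ⟨fun φ => (θ k ωP tP ((Scheme.Modules.pushforward ι).obj M) (N - n) n hcn
      ((Ext.mk₀ ((Scheme.Modules.pushforward ι).map φ)).comp
        ((Ext.mk₀ ((Scheme.Modules.pushforward ι).map e.hom)).comp u (zero_add (N - n)))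
        (zero_add (N - n)))) ∘ₗ σ.toLinearMap, ?_, ?_⟩
    · have hb1 := huω M
      have hb2 := htP (N - n) n hcn _ hM2
      have hb3 : Function.Bijective (fun ξ : Module.Dual k
          (Coh.HH ℙ ((Scheme.Modules.pushforward ι).obj M) n) => ξ ∘ₗ σ.toLinearMap) := by
        constructor
        · intro ξ ξ' h
          apply LinearMap.ext
          intro y
          have := LinearMap.congr_fun h (σ.symm y)
          simpa using this
        · intro ζ
          refine ⟨ζ ∘ₗ σ.symm.toLinearMap, ?_⟩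
          apply LinearMap.ext
          intro y
          simp
      exact hb3.comp (hb2.comp hb1)
    · intro v φ
      apply LinearMap.ext
      intro x
      simp only [LinearMap.comp_apply, LinearEquiv.coe_coe]
      rw [Functor.map_comp, ← Ext.mk₀_comp_mk₀_assoc, θ_nat, LinearMap.dualMap_apply, hσ]

end closed

end Groth.Agent.Helper1.ClDual
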