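import Mathlib
import Groth.Agent.Helper1.ExtSh9
import Groth.Agent.Helper1.ExtSh6
import Groth.Agent.Helper1.DeltaComp
import Groth.Agent.Helper1.RpRestr
import Groth.Agent.Helper4.TensorRes
import Groth.Agent.Helper4.ExtZeroStalk
import Groth.Agent.Helper9.PullMon4
import Groth.Agent.Lead.Ref1B
import Groth.Agent.Helper4.QcohLocal

/-!
# ExtRes1: the projection formula for the extension by zero along an open immersion
`j_!(T ⊗ j^*F) ≅ j_!T ⊗ F`
-/

set_option autoImplicit false
set_option linter.style.haveILetI false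
set_option linter.unusedSectionVars false

universe u

open CategoryTheory CategoryTheory.Limits AlgebraicGeometry Opposite
open Groth.Agent.Helper1.ExtSh Groth.Agent.Helper4.TensorLift Groth.Agent.Helper4.TensorRes

namespace Groth.Agent.Helper1.ExtRes

variable {X Y : Scheme.{u}} (j : Y ⟶ X) [IsOpenImmersion j] (F : X.Modules)

/-- restriction along the open immersion -/
noncomputable abbrev Res : X.Modules ⥤ Y.Modules := Scheme.Modules.restrictFunctor j

/-- extension by zero along the open immersion -/
noncomputable abbrev Sh : Y.Modules ⥤ X.Modules := CxOX.extZero j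

theorem TNX_map {M M' : X.Modules} (g : M ⟶ M') :
    (TNX F).map g = KoszTw.tensorMap g (𝟙 F) :=
  KoszTw.tensorBi_map_app g F

/-- naturality of `resIso` in the first variable -/
theorem resIso_naturality_left {M M' : X.Modules} (g : M ⟶ M') :
    KoszTw.tensorMap ((Res j).map g) (𝟙 (F.restrict j)) ≫ (resIso j M' F).hom =
      (resIso j M F).hom ≫ (Res j).map (KoszTw.tensorMap g (𝟙 F)) := by
  apply Groth.Agent.Helper4.TensorLift.hom_ext
  intro V m n
  have h1 : (KoszTw.tensorMap ((Res j).map g) (𝟙 (F.restrict j)) ≫ (resIso j M' F).hom).app V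
      (SecTwist.tmul (M.restrict j) (F.restrict j) V m n) =
      (resIso j M' F).hom.app V ((KoszTw.tensorMap ((Res j).map g) (𝟙 (F.restrict j))).app V
        (SecTwist.tmul (M.restrict j) (F.restrict j) V m n)) := rfl
  have h2 : ((resIso j M F).hom ≫ (Res j).map (KoszTw.tensorMap g (𝟙 F))).app V
      (SecTwist.tmul (M.restrict j) (F.restrict j) V m n) =
      (KoszTw.tensorMap g (𝟙 F)).app (j ''ᵁ V) ((resIso j M F).hom.app V
        (SecTwist.tmul (M.restrict j) (F.restrict j) V m n)) := rfl
  rw [h1, h2, KoszTw.tensorMap_tmul, resIso_hom_tmul, resIso_hom_tmul, KoszTw.tensorMap_tmul]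
  rfl

/-- `j^*M ⊗ j^*F ⟶ j^*(M ⊗ F)`, naturally in `M` -/
noncomputable def resNat : Res j ⋙ TNX (F.restrict j) ⟶ TNX F ⋙ Res j where
  app M := (resIso j M F).hom
  naturality {M M'} g := by
    change (TNX (F.restrict j)).map ((Res j).map g) ≫ (resIso j M' F).hom =
      (resIso j M F).hom ≫ (Res j).map ((TNX F).map g)
    rw [TNX_map, TNX_map]
    exact resIso_naturality_left j F g

instance (M : X.Modules) : IsIso ((resNat j F).app M) :=
  inferInstanceAs (IsIso (resIso j M F).hom)

instance : IsIso (resNat j F) := NatIso.isIso_of_isIso_app _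

/-- the projection morphism `j_!(T ⊗ j^*F) ⟶ j_!T ⊗ F`, naturally in `T` -/
noncomputable def θ : TNX (F.restrict j) ⋙ Sh j ⟶ Sh j ⋙ TNX F :=
  (mateEquiv (CxOX.extZeroAdj j) (CxOX.extZeroAdj j)).symm (resNat j F)

/-- the adjunct of the projection morphism -/
theorem unit_comp_res_θ (T : Y.Modules) :
    (TNX (F.restrict j)).map ((CxOX.extZeroAdj j).unit.app T) ≫ (resNat j F).app ((Sh j).obj T) =
      (CxOX.extZeroAdj j).unit.app ((TNX (F.restrict j)).obj T) ≫ (Res j).map ((θ j F).app T) :=
  unit_mateEquiv_symm (CxOX.extZeroAdj j) (CxOX.extZeroAdj j) (resNat j F) T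

/-- the restriction of the projection morphism is an isomorphism -/
theorem isIso_res_θ (T : Y.Modules) : IsIso ((Res j).map ((θ j F).app T)) := by
  haveI : IsIso ((CxOX.extZeroAdj j).unit.app T) := inferInstance
  haveI : IsIso ((CxOX.extZeroAdj j).unit.app ((TNX (F.restrict j)).obj T)) := inferInstance
  have h := unit_comp_res_θ j F T
  have h2 : (Res j).map ((θ j F).app T) =
      inv ((CxOX.extZeroAdj j).unit.app ((TNX (F.restrict j)).obj T)) ≫
        (TNX (F.restrict j)).map ((CxOX.extZeroAdj j).unit.app T) ≫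
          (resNat j F).app ((Sh j).obj T) := by
    rw [h, IsIso.inv_hom_id_assoc]
  rw [h2]
  infer_instance

/-- a morphism of modules whose restriction to the open subscheme is an isomorphism and whose
source and target have trivial stalks outside it is an isomorphism -/
theorem isIso_of_isIso_res {M N : X.Modules} (φ : M ⟶ N) (h : IsIso ((Res j).map φ))
    (hM : ∀ x : X, x ∉ Set.range j → Subsingleton (M.presheaf.stalk x))
    (hN : ∀ x : X, x ∉ Set.range j → Subsingleton (N.presheaf.stalk x)) : IsIso φ := by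
  apply Groth.Agent.Helper4.QcohLocal.isIso_of_stalkLin_bijective
  intro x
  by_cases hx : x ∈ Set.range j
  · obtain ⟨y, rfl⟩ := hx
    let e := Scheme.Modules.restrictStalkNatIso j y
    have hnat := e.hom.naturality φ
    haveI h1 : IsIso ((Scheme.Modules.restrictFunctor j ⋙ Scheme.Modules.toPresheaf _ ⋙
        TopCat.Presheaf.stalkFunctor _ y).map φ) := by
      rw [Functor.comp_map]
      infer_instance
    have h3 : IsIso ((Scheme.Modules.toPresheaf _ ⋙
        TopCat.Presheaf.stalkFunctor Ab.{u} (j y)).map φ) := by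
      have h4 : (Scheme.Modules.toPresheaf _ ⋙ TopCat.Presheaf.stalkFunctor Ab.{u} (j y)).map φ =
          inv (e.hom.app M) ≫ (Scheme.Modules.restrictFunctor j ⋙ Scheme.Modules.toPresheaf _ ⋙
            TopCat.Presheaf.stalkFunctor _ y).map φ ≫ e.hom.app N := by
        rw [hnat, IsIso.inv_hom_id_assoc]
      rw [h4]
      infer_instance
    exact (ConcreteCategory.isIso_iff_bijective _).1 h3
  · haveI := hM x hx
    haveI := hN x hx
    exact ⟨fun a b _ => Subsingleton.elim a b, fun b => ⟨0, Subsingleton.elim _ _⟩⟩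

/-- **the projection formula**: `j_!(T ⊗ j^*F) ⟶ j_!T ⊗ F` is an isomorphism -/
instance isIso_θ_app (T : Y.Modules) : IsIso ((θ j F).app T) := by
  apply isIso_of_isIso_res j _ (isIso_res_θ j F T)
  · intro x hx
    exact Groth.Agent.Helper4.ExtZeroStalk.subsingleton_stalk_extZero j _ x hx
  · intro x hx
    haveI := Groth.Agent.Helper4.ExtZeroStalk.subsingleton_stalk_extZero j T x hx
    exact (Groth.Agent.Lead.Ref1B.stalkTensorEquiv ((Sh j).obj T) F x).symm.subsingleton

instance isIso_θ : IsIso (θ j F) := NatIso.isIso_of_isIso_app _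

/-- the projection formula as a natural isomorphism -/
noncomputable def projIso : TNX (F.restrict j) ⋙ Sh j ≅ Sh j ⋙ TNX F := asIso (θ j F)

variable [ModSite.HasSheafHom (O := X.sheaf) F] [ModSite.HasSheafHom (O := Y.sheaf) (F.restrict j)]

/-- **restriction to an open subscheme commutes with the internal Hom**:
`ℋom(F, -)|_Y ≅ ℋom(F|_Y, (-)|_Y)` -/
noncomputable def resSheafHomIso : SH F ⋙ Res j ≅ Res j ⋙ SH (F.restrict j) :=
  (((CxOX.extZeroAdj j).comp (adjX F)).ofNatIsoLeft (projIso j F).symm).rightAdjointUniq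
    ((adjX (F.restrict j)).comp (CxOX.extZeroAdj j))

end Groth.Agent.Helper1.ExtRes
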