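import Mathlib
import Groth.Agent.Helper1.ExtRes1
import Groth.Agent.Helper4.HZshQc

/-!
# ExtRes2: restriction to an open subscheme commutes with the Ext sheaves
-/

set_option autoImplicit false
set_option linter.style.haveILetI false
set_option linter.unusedSectionVars false

universe u

open CategoryTheory CategoryTheory.Limits AlgebraicGeometry Opposite
open Groth.Agent.Helper1.ExtSh Groth.Agent.Helper1.DeltaFun

namespace Groth.Agent.Helper1.ExtRes

variable {X Y : Scheme.{u}} (j : Y ⟶ X) [IsOpenImmersion j] (F : X.Modules)
  [ModSite.HasSheafHom (O := X.sheaf) F] [ModSite.HasSheafHom (O := Y.sheaf) (F.restrict j)]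

/-- transport of the instance hypothesis -/
theorem hir_modules (Z : Scheme.{u}) [h : HasInjectiveResolutions (ModSite.Mod Z.sheaf)] :
    HasInjectiveResolutions Z.Modules := h

attribute [local instance] hir_modules

/-- restriction to an open subscheme preserves injective modules (any open immersion) -/
lemma injective_res (I : X.Modules) [Injective I] : Injective ((Res j).obj I) :=
  Groth.Agent.Helper4.HZshQc.injective_restrict j I

/-- **`ℰxtⁿ(F, -)|_Y ≅ ℰxtⁿ(F|_Y, (-)|_Y)`** -/
theorem nonempty_extSh_res_iso [HasInjectiveResolutions (ModSite.Mod X.sheaf)]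
    [HasInjectiveResolutions (ModSite.Mod Y.sheaf)] (n : ℕ) :
    Nonempty (ModSite.extSh (O := X.sheaf) F n ⋙ Res j ≅
      Res j ⋙ ModSite.extSh (O := Y.sheaf) (F.restrict j) n) := by
  haveI : EnoughInjectives X.Modules :=
    Groth.Agent.Helper9.ModCechExt.enoughInjectives_mod X.ringCatSheaf
  haveI : PreservesFiniteLimits (SH F) := by
    haveI : PreservesLimitsOfSize.{0, 0} (SH F) := (adjX F).rightAdjoint_preservesLimits
    exact PreservesLimitsOfSize.preservesFiniteLimits _
  haveI : PreservesFiniteLimits (SH (F.restrict j)) := by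
    haveI : PreservesLimitsOfSize.{0, 0} (SH (F.restrict j)) :=
      (adjX (F.restrict j)).rightAdjoint_preservesLimits
    exact PreservesLimitsOfSize.preservesFiniteLimits _
  haveI : PreservesFiniteLimits (Res j) := inferInstance
  haveI : PreservesFiniteColimits (Res j) := inferInstance
  obtain ⟨i1⟩ := nonempty_iso_rightDerived_postcomp (SH F) (Res j) n
  haveI : PreservesFiniteLimits (SH F ⋙ Res j) := comp_preservesFiniteLimits _ _
  obtain ⟨i2⟩ := nonempty_iso_rightDerived_comp (Res j)
    (fun S hS => hS.map_of_exact (Res j)) (SH (F.restrict j))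
    (SH F ⋙ Res j) (resSheafHomIso j F).symm
    (fun I _ n => by
      haveI : Injective ((Res j).obj I) := injective_res j I
      exact Functor.isZero_rightDerived_obj_injective_succ _ n _) n
  exact ⟨i1.symm ≪≫ i2⟩

end Groth.Agent.Helper1.ExtRes
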