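import Mathlib
import Groth.Agent.Helper1.ExtRes2
import Groth.Agent.Helper1.ExtSh8
import Groth.Agent.Helper4.SubExt
import Groth.Agent.Helper4.QcohGlue
import Groth.Agent.Helper4.FTGlue
import Groth.Agent.Lead.PcLib9
import Groth.Agent.Lead.ResPropC

/-!
# ExtRes3: the Ext sheaves of coherent modules on a Noetherian scheme are coherent
-/

set_option autoImplicit false
set_option linter.style.haveILetI false
set_option linter.unusedSectionVars false

universe u

open CategoryTheory CategoryTheory.Limits AlgebraicGeometry Opposite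
open Groth.Agent.Helper1.ExtSh Groth.Agent.Helper1.DeltaFun
open Groth.Agent.Helper9.TensorSh Groth.Agent.Helper9.TensorAdj Groth.Agent.Helper9.TensorFlat

namespace Groth.Agent.Helper1.ExtRes

attribute [local instance] hasSheafHom
attribute [local instance] Abelian.hasFiniteBiproducts

section Local

variable {X : Scheme.{u}}

/-- **coherence is local**: a module whose restrictions to the members of an affine open cover
are coherent is coherent -/
theorem isCoh_of_affine_cover (M : X.Modules)
    (h : ∀ x : X, ∃ U : X.Opens, IsAffineOpen U ∧ x ∈ U ∧ Coh.IsCoh (M.restrict U.ι)) :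
    Coh.IsCoh M := by
  haveI hq : M.IsQuasicoherent := by
    apply Groth.Agent.Helper4.QcohGlue.isQuasicoherent_of_affine_cover
    intro x
    obtain ⟨U, hU, hxU, hc⟩ := h x
    refine ⟨U, hU, hxU, ?_⟩
    haveI : (M.restrict U.ι).IsQuasicoherent := hc.1
    have e : M.restrict hU.fromSpec ≅ (M.restrict U.ι).restrict hU.isoSpec.inv :=
      (Scheme.Modules.restrictFunctorComp hU.isoSpec.inv U.ι).app M
    haveI : ((M.restrict U.ι).restrict hU.isoSpec.inv).IsQuasicoherent := inferInstance
    exact Groth.Agent.Helper4.QcohLimits.isQuasicoherent_of_iso e.symm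
  refine ⟨hq, ?_⟩
  apply Groth.Agent.Helper4.FTGlue.isFiniteType_of_finite_sections
  intro x
  obtain ⟨U, hU, hxU, hc⟩ := h x
  refine ⟨U, hU, hxU, ?_⟩
  have h1 := Groth.Agent.Helper4.SubExt.finOn_of_isFT_restrict U.ι M hc.2
  exact h1 U hU (Scheme.Opens.opensRange_ι U).ge

end Local

section Affine

variable {X : Scheme.{u}} [IsAffine X] [IsNoetherian X]

/-- on an affine scheme every coherent module is a quotient of a finite sum of invertible modules
with coherent inverses -/
theorem exists_epi_sigma_of_isAffine (F : X.Modules) (hF : Coh.IsCoh F) :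
    ∃ (K : ℕ) (N N' : Fin K → X.Modules) (π : (∐ N) ⟶ F), Epi π ∧
      (∀ j, PicF.IsInvertible (N j)) ∧ (∀ j, Coh.IsCoh (N' j)) ∧
      ∀ j, Nonempty (CohB1.tensorMod (N j) (N' j) ≅ Coh.structureModule X) := by
  haveI := hF.1
  have hgl : CohB1.genLocus (Coh.structureModule X) (𝟙 _) = ⊤ := by
    apply le_antisymm le_top
    apply le_sSup
    show IsIso ((Scheme.Modules.restrictFunctor (⊤ : X.Opens).ι).map (𝟙 _))
    rw [CategoryTheory.Functor.map_id]
    infer_instance
  obtain ⟨K, N, π, hπ, hN⟩ := Groth.Agent.Lead.ResProp.exists_epi_of_charts F hF.2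
    (fun M => M = Coh.structureModule X)
    (fun x => ⟨Coh.structureModule X, 𝟙 _, rfl,
      Groth.Agent.Helper4.TensorInv.isInvertible_structureModule, by rw [hgl]; trivial,
      by rw [hgl]; exact isAffineOpen_top X⟩)
  choose hinv M n hM hn e using hN
  refine ⟨K, N, fun j => CohB1.tensorPow (M j) (n j),
    (biproduct.isoCoproduct N).inv ≫ π, ?_, hinv, fun j => ?_, e⟩
  · haveI := hπ
    infer_instance
  · show Coh.IsCoh (CohB1.tensorPow (M j) (n j))
    rw [hM j]
    exact Groth.Agent.Helper1.SerreFin.isCoh_of_isInvertible _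
      (Groth.Agent.Helper4.TensorInv.isInvertible_tensorPow
        Groth.Agent.Helper4.TensorInv.isInvertible_structureModule _)

/-- **coherence of the Ext sheaves on an affine Noetherian scheme** -/
theorem isCoh_extSh_of_isAffine [HasInjectiveResolutions (ModSite.Mod X.sheaf)]
    (G : X.Modules) (hG : Coh.IsCoh G) (i : ℕ) (F : X.Modules) (hF : Coh.IsCoh F) :
    Coh.IsCoh ((ModSite.extSh (O := X.sheaf) F i).obj G) := by
  refine prop_extSh (O := X.sheaf) (fun M : X.Modules => Coh.IsCoh M)
    (fun i h => Groth.Agent.Lead.PerfLib.isCoh_of_iso i h)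
    (fun f hM hN => Groth.Agent.Lead.PerfLib.isCoh_kernel hM hN f)
    (fun f hM hN => Groth.Agent.Lead.PerfLib.isCoh_cokernel hM hN f) G ?_ i F hF
  intro F hF
  obtain ⟨K, N, N', π, hπ, hinv, hN', e⟩ := exists_epi_sigma_of_isAffine F hF
  have hfl : FlatMod.IsFinLocFree (∐ N) := by
    refine Groth.Agent.Helper4.FinLocFree2.isFinLocFree_of_iso (biproduct.isoCoproduct _) ?_
    exact Groth.Agent.Lead.ResProp.isFinLocFree_biproduct _ _ (fun j =>
      Groth.Agent.Lead.ParaFLib.isFinLocFree_of_isInvertible _ (hinv j))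
  have hE : Coh.IsCoh (∐ N) := Groth.Agent.Lead.PerfLib.isCoh_of_isFinLocFree hfl
  refine ⟨∐ N, π, hπ, Groth.Agent.Lead.PerfLib.isCoh_kernel hE hF π, fun q M => ?_, ?_⟩
  · exact isZero_extSh_of_isFinLocFree _ hfl q M
  · exact isCoh_sheafHom_sigma N N' e hN' G hG

end Affine

section Global

variable {X : Scheme.{u}} [IsNoetherian X]

/-- injective resolutions of modules on a scheme -/
theorem hasInjectiveResolutions_mod (Z : Scheme.{u}) :
    HasInjectiveResolutions (ModSite.Mod Z.sheaf) := by
  haveI : EnoughInjectives Z.Modules :=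
    Groth.Agent.Helper9.ModCechExt.enoughInjectives_mod Z.ringCatSheaf
  exact (inferInstance : HasInjectiveResolutions Z.Modules)

/-- **coherence of the Ext sheaves of coherent modules on a Noetherian scheme** -/
theorem isCoh_extSh [HasInjectiveResolutions (ModSite.Mod X.sheaf)]
    (F G : X.Modules) (hF : Coh.IsCoh F) (hG : Coh.IsCoh G) (i : ℕ) :
    Coh.IsCoh ((ModSite.extSh (O := X.sheaf) F i).obj G) := by
  apply isCoh_of_affine_cover
  intro x
  obtain ⟨U, hU, hxU⟩ := Groth.Agent.Helper4.QcohLimits.exists_affine_nhd x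
  refine ⟨U, hU, hxU, ?_⟩
  haveI : IsAffine (U : Scheme.{u}) := hU
  haveI : IsLocallyNoetherian (U : Scheme.{u}) := inferInstance
  haveI : IsNoetherian (U : Scheme.{u}) := { }
  haveI := hasInjectiveResolutions_mod (U : Scheme.{u})
  obtain ⟨e⟩ := nonempty_extSh_res_iso U.ι F i
  exact Groth.Agent.Lead.PerfLib.isCoh_of_iso (e.app G).symm
    (isCoh_extSh_of_isAffine (G.restrict U.ι) (Groth.Agent.Lead.PcLib.isCoh_restrict U.ι hG) i
      (F.restrict U.ι) (Groth.Agent.Lead.PcLib.isCoh_restrict U.ι hF))

end Global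

end Groth.Agent.Helper1.ExtRes
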