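import Mathlib
import Groth.Agent.Helper1.AmpAff1
import Groth.Agent.Helper4.AmpleSep
import Groth.Agent.Helper4.AmpleBasis
import Groth.Agent.Helper4.SubExt3
import Groth.Agent.Helper4.CounitGG
import Groth.Agent.Helper4.QuasiAffineGG
import Groth.Agent.Helper4.SN62
import Groth.Agent.Helper1.VA9
import Groth.Agent.Helper1.NegTw
import Groth.Agent.Helper1.FibVanQc2
import Groth.Agent.Helper1.SerreF
import Groth.Agent.Helper1.SerreCritE
import Groth.Agent.Helper1.DualSh2
import Groth.Agent.Lead.Ref1K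
import Groth.Agent.S0009

/-!
# AmpAff2: a scheme with an ample module whose negative powers have no higher cohomology is affine
-/

set_option autoImplicit false
set_option linter.style.haveILetI false
set_option linter.unusedSectionVars false

universe u

open CategoryTheory CategoryTheory.Limits AlgebraicGeometry Opposite MonoidalCategory

namespace Groth.Agent.Helper1.AmpAff

variable {X : Scheme.{u}}

/-- **every quasi-coherent module is a quotient of a direct sum of duals of large powers of an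
ample module** -/
theorem exists_epi_sigma {L : X.Modules} (hL : CohB1.IsAmple L) (F : X.Modules)
    [F.IsQuasicoherent] (n₀ : ℕ) :
    ∃ (J : Type u) (E : J → X.Modules) (π : (∐ fun j : J => negObj (E j)) ⟶ F),
      (∀ j, ∃ m : ℕ, n₀ ≤ m ∧ Nonempty (E j ≅ CohB1.tensorPow L m)) ∧ Epi π := by
  classical
  have hLi := hL.1
  haveI := hL.2.1
  haveI := Groth.Agent.Helper4.AmpleBasis.quasiSeparatedSpace_of_isAmple hL
  obtain ⟨P, hP, S, ρ, haff, hcov⟩ := Groth.Agent.Helper1.VA.exists_pow_cover hL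
  have hΛ : PicF.IsInvertible (CohB1.tensorPow L P) :=
    Groth.Agent.Helper4.TensorInv.isInvertible_tensorPow hLi P
  let J : Type u := Σ i : S, Γ(F, CohB1.genLocus _ (ρ i))
  -- the extensions
  have hext : ∀ j : J, ∃ (N : ℕ) (τ : Coh.structureModule X ⟶
      CohB1.tensorMod F (CohB1.tensorPow (CohB1.tensorPow L P) N)), n₀ ≤ N ∧
      SecTwist.val τ (CohB1.genLocus _ (ρ j.1)) =
        SecTwist.twist (ρ j.1) N F (CohB1.genLocus _ (ρ j.1)) j.2 := by
    intro j
    obtain ⟨N₀, hN₀⟩ := Groth.Agent.Helper4.TwistExtU.exists_forall_twist_extends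
      (CohB1.tensorPow L P) hΛ (ρ j.1) F j.2
    obtain ⟨t', ht'⟩ := hN₀ (max N₀ n₀) (le_max_left _ _)
    obtain ⟨τ, hτ⟩ := Groth.Agent.Helper4.SubExt.exists_unit_hom_of_section
      (CohB1.tensorMod F (CohB1.tensorPow (CohB1.tensorPow L P) (max N₀ n₀))) t'
    refine ⟨max N₀ n₀, τ, le_max_right _ _, ?_⟩
    rw [← ht', ← hτ]
    exact Groth.Agent.Helper4.QAffSec.app_one_eq_res _ τ _
  choose N τ hN hτ using hext
  have hEinv : ∀ j : J, PicF.IsInvertible (CohB1.tensorPow (CohB1.tensorPow L P) (N j)) :=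
    fun j => Groth.Agent.Helper4.TensorInv.isInvertible_tensorPow hΛ (N j)
  have hEflf : ∀ j : J, FlatMod.IsFinLocFree (CohB1.tensorPow (CohB1.tensorPow L P) (N j)) :=
    fun j => Groth.Agent.Lead.Ref1K.isFinLocFree_of_isInvertible _ (hEinv j)
  let ψ : ∀ j : J, negObj (CohB1.tensorPow (CohB1.tensorPow L P) (N j)) ⟶ F :=
    fun j => negMap _ (hEflf j) (τ j)
  refine ⟨J, fun j => CohB1.tensorPow (CohB1.tensorPow L P) (N j), Sigma.desc ψ, ?_, ?_⟩
  · intro j
    refine ⟨P * N j, (hN j).trans (Nat.le_mul_of_pos_left _ hP), ⟨?_⟩⟩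
    exact Groth.Agent.Helper4.TensorAssoc.powMulIso L hLi P (N j)
  · apply Preadditive.epi_of_cancel_zero
    intro Q g hg
    have hψ : ∀ j : J, ψ j ≫ g = 0 := by
      intro j
      have h1 : ψ j ≫ g = Sigma.ι (fun j : J => negObj
          (CohB1.tensorPow (CohB1.tensorPow L P) (N j))) j ≫ (Sigma.desc ψ ≫ g) := by
        rw [← Category.assoc, Sigma.ι_desc]
      rw [h1, hg, comp_zero]
    have hkill : ∀ (i : S) (t : Γ(F, CohB1.genLocus _ (ρ i))),
        g.app (CohB1.genLocus _ (ρ i)) t = 0 := by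
      intro i t
      exact app_eq_zero_of_twist hΛ (ρ i) (N ⟨i, t⟩) g t (τ ⟨i, t⟩) (hτ ⟨i, t⟩)
        (negMap_comp_eq_zero _ (hEflf ⟨i, t⟩) (τ ⟨i, t⟩) g (hψ ⟨i, t⟩))
    refine Groth.Agent.Helper4.CounitGG.eq_zero_of_restrict_map_eq_zero F Q g
      (fun i : S => CohB1.genLocus _ (ρ i)) ?_ ?_
    · intro x
      have hx : x ∈ (⨆ i, CohB1.genLocus _ (ρ i) : X.Opens) := by rw [hcov]; trivial
      exact TopologicalSpace.Opens.mem_iSup.mp hx
    · intro i
      haveI : IsAffine ((CohB1.genLocus _ (ρ i) : X.Opens) : Scheme.{u}) := haff i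
      haveI : (F.restrict (CohB1.genLocus _ (ρ i)).ι).IsQuasicoherent := inferInstance
      have hgg : Curv2.IsGloballyGenerated (F.restrict (CohB1.genLocus _ (ρ i)).ι) :=
        Groth.Agent.Helper4.QuasiAffineGG.isGloballyGenerated_of_isOpenImmersion_Spec
          ((CohB1.genLocus _ (ρ i) : X.Opens) : Scheme.{u}).isoSpec.hom _
      exact Groth.Agent.Helper4.CounitGG.restrict_map_eq_zero_of_isGloballyGenerated F Q g _ hgg
        (hkill i)

end Groth.Agent.Helper1.AmpAff
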