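import Mathlib
import Groth.Agent.Helper1.AmpAff2

/-!
# AmpAff3: a scheme with an ample module whose negative powers have no higher cohomology is affine
-/

set_option autoImplicit false
set_option linter.style.haveILetI false
set_option linter.unusedSectionVars false

universe u

open CategoryTheory CategoryTheory.Limits AlgebraicGeometry Opposite MonoidalCategory

namespace Groth.Agent.Helper1.AmpAff

variable {X : Scheme.{u}}

/-- the dual of a module isomorphic to `L^m` has the cohomology of `L'^m` -/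
theorem subsingleton_HH_negObj {L L' : X.Modules} (hLi : PicF.IsInvertible L)
    (e₀ : CohB1.tensorMod L L' ≅ Coh.structureModule X) (E : X.Modules) (m : ℕ)
    (ε : E ≅ CohB1.tensorPow L m) (p : ℕ)
    (h : Subsingleton (Coh.HH X (CohB1.tensorPow L' m) p)) :
    Subsingleton (Coh.HH X (negObj E) p) := by
  have hL'i : PicF.IsInvertible L' :=
    Groth.Agent.Helper4.InvOfTensor.isInvertible_of_tensor_iso L' L
      (Groth.Agent.Lead.Ref1B.braid L' L ≪≫ e₀)
  have hA := Groth.Agent.Helper4.TensorInv.isInvertible_tensorPow hLi m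
  have hA' := Groth.Agent.Helper4.TensorInv.isInvertible_tensorPow hL'i m
  have hEi : PicF.IsInvertible E := Groth.Agent.Helper4.AmpleIso.isInvertible_of_iso ε.symm hA
  let e : CohB1.tensorMod (CohB1.tensorPow L m) (CohB1.tensorPow L' m) ≅ Coh.structureModule X :=
    Groth.Agent.Helper4.SN.invPowIso hL'i hLi (Groth.Agent.Lead.Ref1B.braid L' L ≪≫ e₀) m
  let σ : RefHull.dual E ≅ CohB1.tensorPow L' m :=
    Groth.Agent.Helper1.NegTw.invUniqueIso hA hA' e (Groth.Agent.Lead.InvDual.evIso E hEi) ε.symm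
  let κ : negObj E ≅ CohB1.tensorPow L' m := SecTwist.unitorR (RefHull.dual E) ≪≫ σ
  exact Groth.Agent.Helper1.SerreCrit.subsingleton_HH_of_iso κ.symm p h

theorem isQuasicoherent_negObj (E : X.Modules) (hE : PicF.IsInvertible E) :
    (negObj E).IsQuasicoherent := by
  have h1 : Coh.IsCoh (RefHull.dual E) :=
    Groth.Agent.Lead.Ref1K.isCoh_of_isInvertible _ (Groth.Agent.Lead.InvDual.isInvertible_dual E hE)
  have h2 : Coh.IsCoh (Coh.structureModule X) := Groth.Agent.Lead.HomShH.isCoh_unit X
  exact (Groth.Agent.Lead.Ref1B.isCoh_tensorMod _ _ h1 h2).1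

/-- **all higher cohomology of quasi-coherent modules vanishes** -/
theorem subsingleton_HH_of_isQCoh {L L' : X.Modules} (hL : CohB1.IsAmple L)
    (e₀ : CohB1.tensorMod L L' ≅ Coh.structureModule X) (n₀ : ℕ)
    (h : ∀ n : ℕ, n₀ ≤ n → ∀ p : ℕ, 0 < p → Subsingleton (Coh.HH X (CohB1.tensorPow L' n) p))
    (K : X.Modules) (hK : Coh.IsQCoh K) (p : ℕ) (hp : 0 < p) :
    Subsingleton (Coh.HH X K p) := by
  classical
  have hLi := hL.1
  haveI := hL.2.1
  haveI := Groth.Agent.Helper4.AmpleBasis.quasiSeparatedSpace_of_isAmple hL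
  haveI : X.IsSeparated := Groth.Agent.Helper4.AmpleSep.isSeparated_of_isAmple hL
  letI : X.Over (Spec (CommRingCat.of (ULift.{u} ℤ))) := ⟨specULiftZIsTerminal.from X⟩
  obtain ⟨P, hP, S, ρ, haff, hcov⟩ := Groth.Agent.Helper1.VA.exists_pow_cover hL
  -- the Čech bound
  have hB1 : ∀ (M : X.Modules), Coh.IsQCoh M → ∀ n : ℕ, S.card ≤ n →
      Subsingleton (Coh.HH X M n) := by
    intro M hM n hn
    haveI := hM
    have e := S.equivFin
    refine Groth.Agent.Helper1.Serre.subsingleton_HH_of_affine_cover M S.card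
      (fun k => CohB1.genLocus _ (ρ (S.equivFin.symm k))) (fun k => haff _) ?_
      (fun V W hV hW => hV.inf hW) n hn
    rw [eq_top_iff, ← hcov]
    apply iSup_le
    intro i
    exact le_iSup_of_le (S.equivFin i) (by rw [Equiv.symm_apply_apply])
  have main : ∀ (d p : ℕ), 0 < p → S.card ≤ p + d →
      ∀ K : X.Modules, Coh.IsQCoh K → Subsingleton (Coh.HH X K p) := by
    intro d
    induction d with
    | zero =>
      intro p _ hpn K hK
      exact hB1 K hK p (by omega)
    | succ d ih =>
      intro p hp hpn K hK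
      haveI := hK
      obtain ⟨J, E, π, hE, hπ⟩ := exists_epi_sigma hL K n₀
      haveI := hπ
      have hEi : ∀ j, PicF.IsInvertible (E j) := by
        intro j
        obtain ⟨m, -, ⟨ε⟩⟩ := hE j
        exact Groth.Agent.Helper4.AmpleIso.isInvertible_of_iso ε.symm
          (Groth.Agent.Helper4.TensorInv.isInvertible_tensorPow hLi m)
      haveI : (∐ fun j : J => negObj (E j)).IsQuasicoherent :=
        Groth.Agent.Helper4.QcohLimits.isQuasicoherent_sigma _
          (fun j => isQuasicoherent_negObj (E j) (hEi j))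
      haveI : Coh.IsQCoh (kernel π) := Groth.Agent.Helper4.QcohLimits.isQuasicoherent_kernel π
      have hsurj := Groth.Agent.Helper1.DualSh.surjective_Hmap_of_epi (ULift.{u} ℤ) π p
        (ih (p + 1) (by omega) (by omega) (kernel π) inferInstance)
      haveI := Groth.Agent.Helper1.FibVanQc.subsingleton_HH_sigma p (fun j : J => negObj (E j))
        (fun j => by
          obtain ⟨m, hm, ⟨ε⟩⟩ := hE j
          exact subsingleton_HH_negObj hLi e₀ (E j) m ε p (h m hm p hp))
      exact hsurj.subsingleton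
  exact main S.card p hp (by omega) K hK

/-- **S0824** -/
theorem isAffine_of_vanishing {L L' : X.Modules} (hL : CohB1.IsAmple L)
    (hinv : Nonempty (CohB1.tensorMod L L' ≅ Coh.structureModule X)) (n₀ : ℕ)
    (h : ∀ n : ℕ, n₀ ≤ n → ∀ p : ℕ, 0 < p → Subsingleton (Coh.HH X (CohB1.tensorPow L' n) p)) :
    IsAffine X := by
  obtain ⟨e₀⟩ := hinv
  haveI := hL.2.1
  exact Groth.Agent.S0009.result X (fun I i _ hI =>
    subsingleton_HH_of_isQCoh hL e₀ n₀ h I hI 1 one_pos)

end Groth.Agent.Helper1.AmpAff
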