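import Mathlib
import Groth.Agent.Helper1.AssTensor

namespace Groth.Agent.Helper1.AssTensor

open TensorProduct

variable {R S : Type*} [CommRing R] [CommRing S] [Algebra R S] {N : Type*} [AddCommGroup N]
  [Module S N] [Module R N] [IsScalarTower R S N] {M : Type*} [AddCommGroup M] [Module R M]

/-- Reduction step: an element with prime radical annihilator `q` can be replaced by one that
is killed by `p = q ∩ R`. -/
lemma exists_radAnn_killed [IsNoetherianRing R] {q : Ideal S} [hqp : q.IsPrime]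
    (z : N ⊗[R] M) (hz : RadAnn q z) :
    ∃ z₂ : N ⊗[R] M, RadAnn q z₂ ∧ ∀ a ∈ q.comap (algebraMap R S), a • z₂ = 0 := by
  classical
  set p : Ideal R := q.comap (algebraMap R S) with hp
  have hsm : ∀ (r : R) (y : N ⊗[R] M), algebraMap R S r • y = r • y := fun r y =>
    algebraMap_smul S r y
  -- Step 1
  let 𝔞 : Ideal R := LinearMap.ker (LinearMap.toSpanSingleton R (N ⊗[R] M) z)
  have h𝔞 : ∀ a : R, a ∈ 𝔞 ↔ a • z = 0 := fun a => by
    simp only [𝔞, LinearMap.mem_ker, LinearMap.toSpanSingleton_apply]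
  have hle : p ≤ 𝔞.radical := by
    intro a ha
    obtain ⟨k, hk⟩ := (hz (algebraMap R S a)).mp ha
    refine ⟨k, (h𝔞 _).mpr ?_⟩
    rw [← hsm, map_pow]; exact hk
  obtain ⟨K, hK⟩ := Ideal.exists_pow_le_of_le_radical_of_fg hle (IsNoetherian.noetherian p)
  -- Step 2
  let P : ℕ → Prop := fun j => ∃ s : S, s ∉ q ∧ ∀ a ∈ p ^ j, a • (s • z) = 0
  have hPK : P K := ⟨1, fun h => hqp.ne_top (q.eq_top_of_isUnit_mem h isUnit_one), fun a ha => by
    rw [one_smul]; exact (h𝔞 a).mp (hK ha)⟩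
  have hex : ∃ j, P j := ⟨K, hPK⟩
  have hj0 : Nat.find hex ≠ 0 := by
    intro h0
    obtain ⟨s, hs, hsz⟩ := Nat.find_spec hex
    rw [h0, pow_zero, Ideal.one_eq_top] at hsz
    have := hsz 1 trivial
    rw [one_smul] at this
    exact hs (hz.ann_le this)
  obtain ⟨j, hj⟩ := Nat.exists_eq_succ_of_ne_zero hj0
  obtain ⟨s, hs, hsz⟩ := Nat.find_spec hex
  rw [hj] at hsz
  have hmin : ¬ P j := Nat.find_min hex (by rw [hj]; exact Nat.lt_succ_self j)
  set z₁ := s • z with hz₁
  have hz₁rad : RadAnn q z₁ := by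
    refine hz.sandwich ?_ ?_
    · intro c hc
      rw [hz₁, smul_comm, hc, smul_zero]
    · intro c hc
      rw [hz₁, ← mul_smul] at hc
      exact (hqp.mem_or_mem (hz.ann_le hc)).resolve_right hs
  have hB : ∀ c : S, c ∉ q → ∃ a ∈ p ^ j, a • (c • z₁) ≠ 0 := by
    intro c hc
    by_contra hcon
    push Not at hcon
    apply hmin
    refine ⟨c * s, fun h => (hqp.mem_or_mem h).elim hc hs, fun a ha => ?_⟩
    rw [mul_smul]
    exact hcon a ha
  -- Step 3
  obtain ⟨t, ht⟩ := IsNoetherian.noetherian (p ^ j)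
  have hb : ∃ b ∈ t, ∀ c : S, c • (b • z₁) = 0 → c ∈ q := by
    by_contra hcon
    push Not at hcon
    have hc' : ∀ b : t, ∃ c : S, c • ((b : R) • z₁) = 0 ∧ c ∉ q := fun b => hcon b.1 b.2
    choose c hc0 hcq using hc'
    have hCq : (∏ b : t, c b) ∉ q := by
      rw [Ideal.IsPrime.prod_mem_iff]
      push Not
      intro b _
      exact hcq b
    obtain ⟨a, ha, hne⟩ := hB _ hCq
    apply hne
    rw [← ht] at ha
    refine Submodule.span_induction ?_ ?_ ?_ ?_ ha
    · intro b hb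
      rw [← hsm, ← mul_smul, mul_comm, mul_smul, hsm,
        ← Finset.prod_erase_mul _ _ (Finset.mem_univ (⟨b, hb⟩ : t)), mul_smul, hc0 ⟨b, hb⟩,
        smul_zero]
    · simp
    · intro x y _ _ hx hy; rw [add_smul, hx, hy, add_zero]
    · intro r x _ hx; rw [smul_eq_mul, mul_smul, hx, smul_zero]
  obtain ⟨b, hbt, hbq⟩ := hb
  have hbp : b ∈ p ^ j := by rw [← ht]; exact Submodule.subset_span hbt
  refine ⟨b • z₁, ?_, ?_⟩
  · refine hz₁rad.sandwich ?_ hbq
    intro c hc
    rw [← hsm, ← mul_smul, mul_comm, mul_smul, hc, smul_zero]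
  · intro a ha
    rw [← mul_smul]
    apply hsz
    rw [pow_succ']
    exact Ideal.mul_mem_mul ha hbp


lemma exact_lTensor_subtype_mkQ {R : Type*} [CommRing R] (N : Type*) [AddCommGroup N] [Module R N]
    {M₂ : Type*} [AddCommGroup M₂] [Module R M₂] (T : Submodule R M₂) :
    Function.Exact (LinearMap.lTensor N T.subtype) (LinearMap.lTensor N T.mkQ) := by
  apply lTensor_exact
  · rw [LinearMap.exact_iff, Submodule.ker_mkQ, Submodule.range_subtype]
  · exact Submodule.mkQ_surjective T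

theorem exists_mem_ass_of_mem_ass_tensor [IsNoetherianRing R] [Module.Flat R N] {q : Ideal S}
    (hq : q ∈ associatedPrimes S (N ⊗[R] M)) :
    ∃ p ∈ associatedPrimes R M,
      q ∈ associatedPrimes S (N ⧸ (p.map (algebraMap R S) • ⊤ : Submodule S N)) := by
  classical
  obtain ⟨hqp, z, hz⟩ := isAssociatedPrime_iff_radAnn.mp hq
  obtain ⟨z₂, hz₂, hz₂p⟩ := exists_radAnn_killed z hz
  set p : Ideal R := q.comap (algebraMap R S) with hp
  have hpp : p.IsPrime := Ideal.comap_isPrime _ _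
  -- Step 4
  let M' : Submodule R M := Submodule.torsionBySet R M (p : Set R)
  obtain ⟨z₂', hz₂'⟩ := mem_range_lTensor_torsionBySet p (IsNoetherian.noetherian p) z₂ hz₂p
  have hrad' : RadAnn q z₂' := by
    refine (RadAnn.of_injective (TensorProduct.AlgebraTensorModule.lTensor S N M'.subtype)
      (lTensor_injective _ M'.injective_subtype)).mp ?_
    rw [TensorProduct.AlgebraTensorModule.coe_lTensor, hz₂']
    exact hz₂
  -- Step 5
  obtain ⟨M₂, hM₂fin, hM₂⟩ := TensorProduct.exists_finite_submodule_right_of_setFinite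
    ({z₂'} : Set (N ⊗[R] M')) (Set.finite_singleton _)
  obtain ⟨z₂'', hz₂''⟩ := hM₂ (Set.mem_singleton _)
  have hrad'' : RadAnn q z₂'' := by
    refine (RadAnn.of_injective (TensorProduct.AlgebraTensorModule.lTensor S N M₂.subtype)
      (lTensor_injective _ M₂.injective_subtype)).mp ?_
    rw [TensorProduct.AlgebraTensorModule.coe_lTensor, hz₂'']
    exact hrad'
  -- Step 6
  let T : Submodule R M₂ := primeTorsion p M₂
  obtain ⟨r₀, hr₀, hr₀T⟩ := exists_notMem_smul_primeTorsion p M₂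
  let Φ := TensorProduct.AlgebraTensorModule.lTensor S N T.mkQ
  set z₃ := Φ z₂'' with hz₃
  have hexact := exact_lTensor_subtype_mkQ N T
  have hr₀N : ∀ y : N ⊗[R] T, r₀ • y = 0 := by
    intro y
    induction y using TensorProduct.induction_on with
    | zero => simp
    | tmul n t =>
      rw [TensorProduct.smul_tmul', TensorProduct.smul_tmul]
      have : r₀ • t = 0 := Subtype.ext (hr₀T t.1 t.2)
      rw [this, TensorProduct.tmul_zero]
    | add a b ha hb => rw [smul_add, ha, hb, add_zero]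
  have hrad₃ : RadAnn q z₃ := by
    refine hrad''.sandwich ?_ ?_
    · intro c hc
      rw [hz₃, ← map_smul, hc, map_zero]
    · intro c hc
      rw [hz₃, ← map_smul] at hc
      have hc' : (LinearMap.lTensor N T.mkQ) (c • z₂'') = 0 := hc
      obtain ⟨y, hy⟩ := (hexact _).mp hc'
      have h0 : r₀ • (c • z₂'') = 0 := by
        rw [← hy, ← map_smul, hr₀N, map_zero]
      rw [← algebraMap_smul S r₀ (c • z₂''), ← mul_smul] at h0
      have := hrad''.ann_le h0
      exact (hqp.mem_or_mem this).resolve_left hr₀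
  -- Step 7
  have hp₃ : ∀ a ∈ p, ∀ m : M₂ ⧸ T, a • m = 0 := by
    intro a ha m
    obtain ⟨m, rfl⟩ := Submodule.Quotient.mk_surjective _ m
    rw [← Submodule.Quotient.mk_smul]
    have : a • m = 0 := by
      apply Subtype.ext
      apply Subtype.ext
      have := (Submodule.mem_torsionBySet_iff _ _).mp m.1.2 ⟨a, ha⟩
      simpa using this
    rw [this, Submodule.Quotient.mk_zero]
  have htf₃ : ∀ r, r ∉ p → ∀ m : M₂ ⧸ T, r • m = 0 → m = 0 := by
    intro r hr m hm
    obtain ⟨m, rfl⟩ := Submodule.Quotient.mk_surjective _ m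
    rw [← Submodule.Quotient.mk_smul, Submodule.Quotient.mk_eq_zero] at hm
    obtain ⟨r', hr', hrm⟩ := hm
    rw [Submodule.Quotient.mk_eq_zero]
    exact ⟨r' * r, fun h => (hpp.mem_or_mem h).elim hr' hr, by rw [mul_smul, hrm]⟩
  obtain ⟨n, f, hf⟩ := TorsionFreeEmb.exists_injective_pi_quotient p hp₃ htf₃
  -- Step 8
  let Ψ : N ⊗[R] (M₂ ⧸ T) →ₗ[S] (Fin n → N ⊗[R] (R ⧸ p)) :=
    (TensorProduct.piRight R S N (fun _ : Fin n => R ⧸ p)).toLinearMap ∘ₗ
      (TensorProduct.AlgebraTensorModule.lTensor S N f)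
  have hΨ : Function.Injective Ψ :=
    (TensorProduct.piRight R S N (fun _ : Fin n => R ⧸ p)).injective.comp (lTensor_injective f hf)
  have hradΨ : RadAnn q (Ψ z₃) := (RadAnn.of_injective Ψ hΨ).mpr hrad₃
  obtain ⟨i, hi⟩ := RadAnn.exists_coord (Ψ z₃) hradΨ
  -- Step 9
  obtain ⟨x, hx⟩ := exists_tmul_one p (Ψ z₃ i)
  rw [hx] at hi
  have hx' := (radAnn_tmul_one_iff p q x).mp hi
  refine ⟨p, ?_, isAssociatedPrime_iff_radAnn.mpr ⟨hqp, _, hx'⟩⟩
  -- Step 10
  have hz₃ne : z₃ ≠ 0 := by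
    intro h0
    have : (1 : S) ∈ q := (hrad₃ 1).mpr ⟨1, by rw [h0, smul_zero]⟩
    exact hqp.ne_top (q.eq_top_of_isUnit_mem this isUnit_one)
  obtain ⟨mbar, hmbar⟩ : ∃ m : M₂ ⧸ T, m ≠ 0 := by
    by_contra hcon
    push Not at hcon
    apply hz₃ne
    generalize z₃ = w
    induction w using TensorProduct.induction_on with
    | zero => rfl
    | tmul a b => rw [hcon b, TensorProduct.tmul_zero]
    | add a b ha hb => rw [ha, hb, add_zero]
  obtain ⟨m, rfl⟩ := Submodule.Quotient.mk_surjective _ mbar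
  rw [AssociatedPrimes.mem_iff, isAssociatedPrime_iff]
  refine ⟨hpp, ((m : M') : M), ?_⟩
  ext r
  rw [Submodule.mem_colon_singleton, Submodule.mem_bot]
  constructor
  · intro hr
    have := (Submodule.mem_torsionBySet_iff _ _).mp m.1.2 ⟨r, hr⟩
    simpa using this
  · intro hr
    by_contra hrp
    apply hmbar
    rw [Submodule.Quotient.mk_eq_zero]
    refine ⟨r, hrp, ?_⟩
    apply Subtype.ext
    apply Subtype.ext
    simpa using hr

end Groth.Agent.Helper1.AssTensor
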