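import Mathlib
import Groth.Agent.Helper5.CSA2
import Groth.Agent.Helper9.AzuBC

/-!
# Azumaya algebras over a local ring vs. central simple fibres
-/

set_option autoImplicit false

namespace Groth.Agent.Helper1.AzuLocal

open TensorProduct MulOpposite

/-- An Azumaya algebra over a field is simple. -/
theorem isSimpleRing_of_isAzumaya (K : Type*) [Field K] (B : Type*) [Ring B] [Algebra K B]
    [IsAzumaya K B] [Nontrivial B] : IsSimpleRing B := by
  rw [isSimpleRing_iff_isTwoSided_imp]
  refine ⟨inferInstance, fun I hI => ?_⟩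
  by_cases hbot : I = ⊥
  · exact Or.inl hbot
  right
  rw [Ideal.eq_top_iff_one]
  obtain ⟨x, hxI, hx0⟩ := Submodule.exists_mem_ne_zero_of_ne_bot hbot
  have hker : LinearMap.ker (LinearMap.toSpanSingleton K B x) = ⊥ := by
    rw [LinearMap.ker_eq_bot]
    intro c c' h
    simp only [LinearMap.toSpanSingleton_apply] at h
    exact smul_left_injective K hx0 h
  obtain ⟨g, hg⟩ := LinearMap.exists_leftInverse_of_injective _ hker
  have hgx : g x = 1 := by
    have := congr($hg 1)
    simpa using this
  let f : Module.End K B := (LinearMap.toSpanSingleton K B 1) ∘ₗ g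
  have hfx : f x = 1 := by simp [f, hgx]
  have key : ∀ t : B ⊗[K] Bᵐᵒᵖ, AlgHom.mulLeftRight K B t x ∈ I := by
    intro t
    induction t using TensorProduct.induction_on with
    | zero => simp
    | tmul a c =>
      rw [AlgHom.mulLeftRight_apply]
      exact hI.mul_mem_of_left _ (I.mul_mem_left a hxI)
    | add t₁ t₂ h₁ h₂ =>
      rw [map_add, LinearMap.add_apply]
      exact I.add_mem h₁ h₂
  obtain ⟨t, ht⟩ := (IsAzumaya.bij (R := K) (A := B)).2 f
  rw [← hfx, ← ht]
  exact key t

/-- Over a local ring, a nonzero finite free algebra whose fibre is central simple is Azumaya. -/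
theorem isAzumaya_of_fibre (R : Type*) [CommRing R] [IsLocalRing R] (A : Type*) [Ring A]
    [Algebra R A] [Module.Finite R A] [Module.Free R A] [Nontrivial A]
    [Algebra.IsCentral (IsLocalRing.ResidueField R) ((IsLocalRing.ResidueField R) ⊗[R] A)]
    [IsSimpleRing ((IsLocalRing.ResidueField R) ⊗[R] A)] : IsAzumaya R A := by
  set κ := IsLocalRing.ResidueField R
  have hbij := Groth.Agent.Helper5.CSA.mulLeftRight_bijective κ (κ ⊗[R] A)
  have hkey := Groth.Agent.Helper9.AzuBC.key R κ A
  have hθ := Groth.Agent.Helper9.AzuBC.theta_bijective R κ A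
  -- surjectivity after base change
  have hbc : Function.Surjective ((AlgHom.mulLeftRight R A).toLinearMap.baseChange κ) := by
    intro y
    have h1 : Function.Surjective ((AlgHom.mulLeftRight κ (κ ⊗[R] A)).toLinearMap ∘ₗ
        (Groth.Agent.Helper9.AzuBC.rho R κ A).toLinearMap) :=
      hbij.2.comp (Groth.Agent.Helper9.AzuBC.rho R κ A).surjective
    obtain ⟨z, hz⟩ := h1 (Groth.Agent.Helper9.AzuBC.theta R κ A y)
    rw [hkey, LinearMap.comp_apply] at hz
    exact ⟨z, hθ.1 hz⟩
  -- Nakayama
  have hsurj : Function.Surjective (AlgHom.mulLeftRight R A) := by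
    have : LinearMap.range (AlgHom.mulLeftRight R A).toLinearMap = ⊤ := by
      rw [← IsLocalRing.map_tensorProduct_mk_eq_top, eq_top_iff]
      intro y _
      obtain ⟨z, rfl⟩ := hbc y
      obtain ⟨w, rfl⟩ := TensorProduct.mk_surjective R (A ⊗[R] Aᵐᵒᵖ) κ
        Ideal.Quotient.mk_surjective z
      refine ⟨AlgHom.mulLeftRight R A w, ⟨w, rfl⟩, ?_⟩
      simp
    exact LinearMap.range_eq_top.1 this
  -- equal ranks
  have hrank : Module.finrank R (Module.End R A) = Module.finrank R (A ⊗[R] Aᵐᵒᵖ) := by
    rw [Module.finrank_tensorProduct, Module.finrank_linearMap]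
    congr 1
    exact (MulOpposite.opLinearEquiv R (M := A)).finrank_eq
  let e : Module.End R A ≃ₗ[R] A ⊗[R] Aᵐᵒᵖ := LinearEquiv.ofFinrankEq _ _ hrank
  have hinj : Function.Injective (AlgHom.mulLeftRight R A) := by
    have h2 : Function.Surjective ((AlgHom.mulLeftRight R A).toLinearMap ∘ₗ e.toLinearMap) :=
      hsurj.comp e.surjective
    have h3 := OrzechProperty.injective_of_surjective_endomorphism _ h2
    intro a a' h
    have := h3 (a₁ := e.symm a) (a₂ := e.symm a') (by simpa using h)
    exact e.symm.injective this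
  exact { bij := ⟨hinj, hsurj⟩ }

/-- Over a local ring, the fibre of a finite free Azumaya algebra is central simple. -/
theorem fibre_of_isAzumaya (R : Type*) [CommRing R] [IsLocalRing R] (A : Type*) [Ring A]
    [Algebra R A] [Module.Finite R A] [Module.Free R A] [Nontrivial A] [IsAzumaya R A] :
    Algebra.IsCentral (IsLocalRing.ResidueField R) ((IsLocalRing.ResidueField R) ⊗[R] A) ∧
      IsSimpleRing ((IsLocalRing.ResidueField R) ⊗[R] A) := by
  set κ := IsLocalRing.ResidueField R
  haveI : IsAzumaya κ (κ ⊗[R] A) := Groth.Agent.Helper9.AzuBC.baseChange R κ A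
  haveI : Nontrivial (κ ⊗[R] A) := by
    rw [← not_subsingleton_iff_nontrivial, IsLocalRing.subsingleton_tensorProduct]
    exact not_subsingleton A
  exact ⟨inferInstance, isSimpleRing_of_isAzumaya κ _⟩

end Groth.Agent.Helper1.AzuLocal
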