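import Mathlib

set_option autoImplicit false

/-!
# Transfer of exactness properties along `G ⋙ forget₂ ≅ H`
-/

namespace Groth.Agent.Helper1.Bridge

open CategoryTheory Limits

universe u

variable {A : Type u} [CommRing A] {G : ModuleCat.{u} A ⥤ ModuleCat.{u} A}
  {H : ModuleCat.{u} A ⥤ AddCommGrpCat.{u}}
  (e : G ⋙ forget₂ (ModuleCat.{u} A) AddCommGrpCat.{u} ≅ H)

include e in
lemma preservesEpi_iff : H.PreservesEpimorphisms ↔ G.PreservesEpimorphisms := by
  rw [← Functor.preservesEpimorphisms.iso_iff e]
  constructor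
  · intro h
    refine ⟨fun {M N} f hf => ?_⟩
    have : Epi ((G ⋙ forget₂ (ModuleCat.{u} A) AddCommGrpCat.{u}).map f) := h.preserves f
    exact (forget₂ (ModuleCat.{u} A) AddCommGrpCat.{u}).epi_of_epi_map this
  · intro h
    infer_instance

include e in
lemma preservesMono_iff : H.PreservesMonomorphisms ↔ G.PreservesMonomorphisms := by
  rw [← Functor.preservesMonomorphisms.iso_iff e]
  constructor
  · intro h
    refine ⟨fun {M N} f hf => ?_⟩
    have : Mono ((G ⋙ forget₂ (ModuleCat.{u} A) AddCommGrpCat.{u}).map f) := h.preserves f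
    exact (forget₂ (ModuleCat.{u} A) AddCommGrpCat.{u}).mono_of_mono_map this
  · intro h
    infer_instance

include e in
lemma surjective_map_iff {M N : ModuleCat.{u} A} (g : M ⟶ N) :
    Function.Surjective (H.map g).hom ↔ Function.Surjective (G.map g).hom := by
  have h1 := e.hom.naturality g
  have hM : Function.Bijective (e.hom.app M).hom :=
    ConcreteCategory.bijective_of_isIso (e.hom.app M)
  have hN : Function.Bijective (e.hom.app N).hom :=
    ConcreteCategory.bijective_of_isIso (e.hom.app N)
  have key : ∀ x, (H.map g).hom ((e.hom.app M).hom x) = (e.hom.app N).hom ((G.map g).hom x) := by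
    intro x
    have := ConcreteCategory.congr_hom h1 x
    rw [ConcreteCategory.comp_apply, ConcreteCategory.comp_apply] at this
    exact this.symm
  constructor
  · intro h y
    obtain ⟨x, hx⟩ := h ((e.hom.app N).hom y)
    obtain ⟨x', rfl⟩ := hM.2 x
    rw [key] at hx
    exact ⟨x', hN.1 hx⟩
  · intro h y
    obtain ⟨y', rfl⟩ := hN.2 y
    obtain ⟨x, rfl⟩ := h y'
    exact ⟨(e.hom.app M).hom x, key x⟩

end Groth.Agent.Helper1.Bridge
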