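import Groth.Agent.Helper1.FlatCxQis

set_option autoImplicit false

/-!
# Tensoring preserves a quasi-isomorphism of complexes of flat modules whose tensor products are
all acyclic below a fixed degree
-/

namespace Groth.Agent.Helper1.FlatCx

open CategoryTheory CategoryTheory.Limits MonoidalCategory

universe u

variable {A : Type u} [CommRing A]

/-- the free module on the elements of `M`, mapping onto `M` -/
noncomputable def freeCover (M : ModuleCat.{u} A) : ModuleCat.of A (M →₀ A) ⟶ M :=
  ModuleCat.ofHom (Finsupp.linearCombination A (id : M → M))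

instance (M : ModuleCat.{u} A) : Epi (freeCover M) := by
  rw [ModuleCat.epi_iff_surjective]
  intro m
  exact ⟨Finsupp.single m 1, by simp [freeCover]⟩

/-- the free presentation `0 → K → A^(M) → M → 0` -/
noncomputable def pres (M : ModuleCat.{u} A) : ShortComplex (ModuleCat.{u} A) :=
  ShortComplex.kernelSequence (freeCover M)

lemma pres_shortExact (M : ModuleCat.{u} A) : (pres M).ShortExact :=
  ShortComplex.ShortExact.mk' (ShortComplex.kernelSequence_exact _)
    (inferInstanceAs (Mono (ShortComplex.kernelSequence (freeCover M)).f))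
    (inferInstanceAs (Epi (freeCover M)))

instance (M : ModuleCat.{u} A) : Module.Flat A (pres M).X₂ :=
  inferInstanceAs (Module.Flat A (M →₀ A))

lemma pres_X₃ (M : ModuleCat.{u} A) : (pres M).X₃ = M := rfl

variable {L P : ChainComplex (ModuleCat.{u} A) ℤ} (f : L ⟶ P) [QuasiIso f]
  (hL : ∀ i, Module.Flat A (L.X i)) (hP : ∀ i, Module.Flat A (P.X i)) (d : ℤ)
  (hLd : ∀ i < d, ∀ M : ModuleCat.{u} A, IsZero ((CohIII.TFun L i).obj M))
  (hPd : ∀ i < d, ∀ M : ModuleCat.{u} A, IsZero ((CohIII.TFun P i).obj M))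

include hL hP hLd hPd in
lemma isIso_tfunNat_aux (n : ℕ) :
    ∀ i : ℤ, i < d + n → ∀ M : ModuleCat.{u} A, IsIso ((tfunNat f i).app M) := by
  induction n with
  | zero =>
    intro i hi M
    have hi' : i < d := by simpa using hi
    exact ⟨⟨0, (hLd i hi' M).eq_of_src _ _, (hPd i hi' M).eq_of_src _ _⟩⟩
  | succ n ih =>
    intro i hi M
    by_cases hi' : i < d + n
    · exact ih i hi' M
    · -- `i = d + n`, and all degrees below `i` are known
      have hj : ∀ M : ModuleCat.{u} A, IsIso ((tfunNat f (i - 1)).app M) := fun M =>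
        ih (i - 1) (by push_cast at hi; omega) M
      have hij : (ComplexShape.down ℤ).Rel i (i - 1) := by
        change i - 1 + 1 = i
        ring
      have hflat : ∀ M : ModuleCat.{u} A, IsIso ((tfunNat f i).app (pres M).X₂) := fun M =>
        isIso_tfunNat_of_flat f i _
      have hepi : ∀ M : ModuleCat.{u} A, Epi ((tfunNat f i).app M) := fun M =>
        epi_step f hL hP (pres_shortExact M) i (i - 1) hij
          (@IsIso.epi_of_iso _ _ _ _ _ (hflat M)) (@IsIso.epi_of_iso _ _ _ _ _ (hj (pres M).X₁))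
          (@IsIso.mono_of_iso _ _ _ _ _ (hj (pres M).X₂))
      have hmono : Mono ((tfunNat f i).app M) :=
        mono_step f hL hP (pres_shortExact M) i (i - 1) hij (hepi (pres M).X₁)
          (@IsIso.mono_of_iso _ _ _ _ _ (hflat M)) (@IsIso.mono_of_iso _ _ _ _ _ (hj (pres M).X₁))
      exact @isIso_of_mono_of_epi _ _ _ _ _ _ hmono (hepi M)

include hL hP hLd hPd in
/-- **(H-b)** -/
theorem isIso_tfunNat (i : ℤ) (M : ModuleCat.{u} A) : IsIso ((tfunNat f i).app M) :=
  isIso_tfunNat_aux f hL hP d hLd hPd (i - d + 1).toNat i (by omega) M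

include f hL hP hLd hPd in
/-- the natural isomorphism `T_i^L ≅ T_i^P` -/
theorem nonempty_tfunIso (i : ℤ) : Nonempty (CohIII.TFun L i ≅ CohIII.TFun P i) := by
  haveI : ∀ M, IsIso ((tfunNat f i).app M) := fun M => isIso_tfunNat f hL hP d hLd hPd i M
  haveI : IsIso (tfunNat f i) := NatIso.isIso_of_isIso_app _
  exact ⟨asIso (tfunNat f i)⟩

end Groth.Agent.Helper1.FlatCx
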