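import Groth.Agent.Helper1.FlatCxBC2
import Groth.Agent.Helper1.FlatCxQis2

set_option autoImplicit false

/-!
# `dRank` is invariant under quasi-isomorphisms of bounded below complexes of flat modules
-/

namespace Groth.Agent.Helper1.DRankQis

open CategoryTheory CategoryTheory.Limits MonoidalCategory TensorProduct
open Groth.Agent.Helper1.FlatCx

universe u

variable {A : Type u} [CommRing A] (B : Type u) [CommRing B] [Algebra A B]

/-- `B` as an `A`-module -/
abbrev Bm : ModuleCat.{u} A := ModuleCat.of A B

/-- the underlying `A`-linear equivalence `B ⊗ M ≃ M ⊗ B` -/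
noncomputable def thetaEquiv (M : ModuleCat.{u} A) :
    ((ModuleCat.restrictScalars (algebraMap A B)).obj
      ((ModuleCat.extendScalars (algebraMap A B)).obj M)) ≃ₗ[A] (M ⊗[A] B) where
  toFun x := TensorProduct.comm A B M (extendScalarsEquiv (S := B) M x)
  invFun y := (extendScalarsEquiv (S := B) M).symm ((TensorProduct.comm A B M).symm y)
  map_add' x y := by
    have : extendScalarsEquiv (S := B) M (x + y) =
      extendScalarsEquiv (S := B) M x + extendScalarsEquiv (S := B) M y :=
      map_add (extendScalarsEquiv (S := B) M) x y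
    rw [this, map_add]
  map_smul' a x := by
    have h1 : extendScalarsEquiv (S := B) M (a • x) =
        algebraMap A B a • extendScalarsEquiv (S := B) M
          (show (ModuleCat.extendScalars (algebraMap A B)).obj M from x) :=
      map_smul (extendScalarsEquiv (S := B) M) (algebraMap A B a)
        (show (ModuleCat.extendScalars (algebraMap A B)).obj M from x)
    rw [h1, algebraMap_smul, map_smul]
    rfl
  left_inv x := by simp
  right_inv y := by simp

/-- `extendScalars ⋙ restrictScalars ≅ - ⊗ B` -/
noncomputable def theta : ModuleCat.extendScalars.{u, u, u} (algebraMap A B) ⋙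
    ModuleCat.restrictScalars.{u, u, u} (algebraMap A B) ≅ tensorRight (Bm (A := A) B) :=
  NatIso.ofComponents (fun M => (thetaEquiv B M).toModuleIso) (by
    intro M N g
    ext x
    show TensorProduct.comm A B N (extendScalarsEquiv (S := B) N
      (((ModuleCat.extendScalars (algebraMap A B)).map g).hom x)) =
      g.hom.rTensor B (TensorProduct.comm A B M (extendScalarsEquiv (S := B) M x))
    rw [extendScalarsEquiv_map]
    generalize extendScalarsEquiv (S := B) M x = y
    induction y using TensorProduct.induction_on with
    | zero => simp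
    | tmul b m => rfl
    | add y y' hy hy' => rw [map_add, map_add, hy, hy', map_add, map_add])

section complexes

variable {ι : Type} {c : ComplexShape ι}

instance : (ModuleCat.restrictScalars.{u, u, u} (algebraMap A B)).PreservesHomology := by
  have h1 : PreservesFiniteLimits (ModuleCat.restrictScalars.{u, u, u} (algebraMap A B)) :=
    inferInstance
  have h2 : PreservesFiniteColimits (ModuleCat.restrictScalars.{u, u, u} (algebraMap A B)) :=
    inferInstance
  have := ((Functor.exact_tfae (ModuleCat.restrictScalars.{u, u, u} (algebraMap A B))).out 3 2)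
  exact this.mp ⟨h1, h2⟩

/-- the isomorphism of complexes `(P ⊗ B)` restricted `≅ P ⊗ B` -/
noncomputable def cxIso (P : HomologicalComplex (ModuleCat.{u} A) c) :
    ((ModuleCat.restrictScalars.{u, u, u} (algebraMap A B)).mapHomologicalComplex c).obj
      (CohIII.bcCx (algebraMap A B) P) ≅ CohIII.tensorObj P (Bm (A := A) B) :=
  (NatIso.mapHomologicalComplex (theta B) c).app P

lemma cxIso_naturality {L P : HomologicalComplex (ModuleCat.{u} A) c} (f : L ⟶ P) :
    ((ModuleCat.restrictScalars.{u, u, u} (algebraMap A B)).mapHomologicalComplex c).map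
      (((ModuleCat.extendScalars.{u, u, u} (algebraMap A B)).mapHomologicalComplex c).map f) ≫
        (cxIso B P).hom =
      (cxIso B L).hom ≫ ((tensorRight (Bm (A := A) B)).mapHomologicalComplex c).map f :=
  (NatIso.mapHomologicalComplex (theta B) c).hom.naturality f

/-- base change of a morphism `f` is a quasi-isomorphism in degree `i` if `f ⊗ B` is -/
lemma quasiIsoAt_bcCx_map {L P : HomologicalComplex (ModuleCat.{u} A) c} (f : L ⟶ P) (i : ι)
    (h : IsIso (HomologicalComplex.homologyMap
      (((tensorRight (Bm (A := A) B)).mapHomologicalComplex c).map f) i)) :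
    QuasiIsoAt (((ModuleCat.extendScalars.{u, u, u} (algebraMap A B)).mapHomologicalComplex c).map f)
      i := by
  have h1 : QuasiIsoAt (((tensorRight (Bm (A := A) B)).mapHomologicalComplex c).map f) i :=
    (quasiIsoAt_iff_isIso_homologyMap _ i).2 h
  rw [← HomologicalComplex.quasiIsoAt_map_iff_of_preservesHomology _
    (ModuleCat.restrictScalars.{u, u, u} (algebraMap A B))]
  rw [← quasiIsoAt_iff_comp_right _ (cxIso B P).hom, cxIso_naturality]
  rw [quasiIsoAt_iff_comp_left]
  exact h1

end complexes

section dRank

lemma isZero_TFun_of_isZero_X {ι : Type} {c : ComplexShape ι}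
    (P : HomologicalComplex (ModuleCat.{u} A) c) (i : ι)
    (h : IsZero (P.X i)) (M : ModuleCat.{u} A) : IsZero ((CohIII.TFun P i).obj M) := by
  apply isZero_homology_of_isZero_X
  exact Functor.map_isZero (tensorRight M) h

/-- `dRank` is invariant under quasi-isomorphisms of bounded below complexes of flat modules -/
theorem dRank_eq_of_quasiIso {L P : ChainComplex (ModuleCat.{u} A) ℤ} (f : L ⟶ P) [QuasiIso f]
    (hL : ∀ i, Module.Flat A (L.X i)) (hP : ∀ i, Module.Flat A (P.X i)) (d : ℤ)
    (hLd : ∀ i < d, IsZero (L.X i)) (hPd : ∀ i < d, IsZero (P.X i))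
    (p : ℤ) (x : PrimeSpectrum A) : CohIII.dRank L p x = CohIII.dRank P p x := by
  have h := isIso_tfunNat f hL hP d (fun i hi M => isZero_TFun_of_isZero_X L i (hLd i hi) M)
    (fun i hi M => isZero_TFun_of_isZero_X P i (hPd i hi) M) p
    (Bm (A := A) x.asIdeal.ResidueField)
  rw [tfunNat_app] at h
  have hq := quasiIsoAt_bcCx_map x.asIdeal.ResidueField f p h
  rw [quasiIsoAt_iff_isIso_homologyMap] at hq
  unfold CohIII.dRank
  exact (asIso (HomologicalComplex.homologyMap
    (((ModuleCat.extendScalars.{u, u, u} (algebraMap A x.asIdeal.ResidueField)).mapHomologicalComplex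
      (ComplexShape.down ℤ)).map f) p)).toLinearEquiv.finrank_eq

end dRank

end Groth.Agent.Helper1.DRankQis
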