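import Groth.Agent.Helper1.CechBC5
import Groth.Agent.Helper1.DRankQis
import Groth.Agent.Helper1.FlatCxChain
import Groth.Agent.Helper1.Bridge4

set_option autoImplicit false

/-!
# Base change for cohomology when all `H^p(X, F)` are flat
-/

namespace Groth.Agent.Helper1.BCFlatCoh

open CategoryTheory Limits MonoidalCategory HomologicalComplex AlgebraicGeometry TensorProduct
open Groth.Agent.Helper1.FlatCx

universe u

section algebra

variable {A : Type u} [CommRing A]

lemma exact_of_isZero_tfun {ι : Type} {c : ComplexShape ι}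
    (P : HomologicalComplex (ModuleCat.{u} A) c) (q : ι)
    (hz : ∀ M, IsZero ((CohIII.TFun P q).obj M)) :
    (CohIII.TFun P q).PreservesMonomorphisms ∧ (CohIII.TFun P q).PreservesEpimorphisms := by
  constructor
  · constructor
    intro M N f _
    exact ⟨fun g h _ => (hz M).eq_of_tgt _ _⟩
  · constructor
    intro M N f _
    exact ⟨fun g h _ => (hz N).eq_of_src _ _⟩

variable (P : ChainComplex (ModuleCat.{u} A) ℤ) (hP : ∀ i, Module.Flat A (P.X i))

include hP in
/-- if `T_q = 0` for `q ≪ 0` and all the homology modules of `P` are flat, then all `T_q` are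
exact -/
theorem exact_all (i₀ : ℤ) (hz : ∀ q ≤ i₀, ∀ M, IsZero ((CohIII.TFun P q).obj M))
    (hH : ∀ q, Module.Flat A (P.homology q)) (q : ℤ) :
    (CohIII.TFun P q).PreservesMonomorphisms ∧ (CohIII.TFun P q).PreservesEpimorphisms := by
  by_cases hq : q ≤ i₀
  · exact exact_of_isZero_tfun P q (hz q hq)
  · have key : ∀ n : ℤ, i₀ ≤ n → ((CohIII.TFun P n).PreservesMonomorphisms ∧
        (CohIII.TFun P n).PreservesEpimorphisms) := by
      intro n hn
      induction n, hn using Int.le_induction with
      | base => exact exact_of_isZero_tfun P i₀ (hz i₀ le_rfl)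
      | succ n hn ih =>
        have he : (CohIII.TFun P (n + 1)).PreservesEpimorphisms :=
          (chain_preservesEpi_iff_preservesMono P hP (n + 1) n rfl).mpr ih.1
        exact exact_succ_of_flat P hP n (n + 1) rfl ih.1
          ((flat_TA_iff P hP (n + 1) he).mpr (hH _))
    exact key q (by omega)

variable (B : Type u) [CommRing B] [Algebra A B]

/-- the homology of the base-changed complex is `T_i(B)` -/
noncomputable def bcHomologyIso' {ι : Type} {c : ComplexShape ι}
    (P : HomologicalComplex (ModuleCat.{u} A) c) (i : ι) :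
    (ModuleCat.restrictScalars.{u, u, u} (algebraMap A B)).obj
        ((CohIII.bcCx (algebraMap A B) P).homology i) ≅
      (CohIII.TFun P i).obj (DRankQis.Bm (A := A) B) :=
  (((CohIII.bcCx (algebraMap A B) P).sc i).mapHomologyIso
      (ModuleCat.restrictScalars.{u, u, u} (algebraMap A B))).symm ≪≫
    HomologicalComplex.homologyMapIso (DRankQis.cxIso B P) i

include hP in
/-- if all `T_q` preserve epimorphisms, `H_i(P ⊗ B) ≃ H_i(P) ⊗ B` -/
theorem nonempty_bc_equiv (i : ℤ) (he : (CohIII.TFun P i).PreservesEpimorphisms) :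
    Nonempty ((CohIII.bcCx (algebraMap A B) P).homology i ≃+ (P.homology i ⊗[A] B)) := by
  let e1 := bcHomologyIso' B P i
  let e2 := (chainTensorNatIso P hP i he).app (DRankQis.Bm (A := A) B)
  let e := (e1 ≪≫ e2.symm).toLinearEquiv
  exact ⟨e.toAddEquiv⟩

end algebra

end Groth.Agent.Helper1.BCFlatCoh
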