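import Mathlib
import Groth.Agent.Helper1.HP9

/-!
# BD1: the cohomology of the base change of a quasi-coherent module to a field valued point is the
cohomology of the fibre at the image point, up to the extension of the residue field
-/

set_option autoImplicit false
set_option linter.style.haveILetI false
set_option linter.unusedSectionVars false

universe u
open CategoryTheory CategoryTheory.Limits AlgebraicGeometry Opposite TensorProduct

namespace Groth.Agent.Helper1.BD

variable {Y T : Scheme.{u}} (f : Y ⟶ T)

/-- the cohomology of the base change to a field valued point: extension of scalars of the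
cohomology of the fibre -/
theorem nonempty_linearEquiv_fieldPt [QuasiCompact f] [QuasiSeparated f]
    (G : Y.Modules) [G.IsQuasicoherent]
    {K : Type u} [Field K] (x : Spec (CommRingCat.of K) ⟶ T)
    {Z : Scheme.{u}} [Z.Over (Spec (CommRingCat.of K))] (v : Z ⟶ Y)
    (hsq : IsPullback v (Z ↘ Spec (CommRingCat.of K)) f x) (p : ℕ) :
    letI : Algebra (T.residueField (x (IsLocalRing.closedPoint K))) K :=
      (T.descResidueField (Scheme.stalkClosedPointTo x)).hom.toAlgebra
    Nonempty (TensorProduct (T.residueField (x (IsLocalRing.closedPoint K))) K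
        (PerfAux.fiberH f G (x (IsLocalRing.closedPoint K)) p) ≃ₗ[K]
      Coh.HH Z ((Scheme.Modules.pullback v).obj G) p) := by
  set s := x (IsLocalRing.closedPoint K) with hs
  letI : Algebra (T.residueField s) K :=
    (T.descResidueField (Scheme.stalkClosedPointTo x)).hom.toAlgebra
  letI : (f.fiber s).Over (Spec (CommRingCat.of (T.residueField s))) :=
    ⟨f.fiberToSpecResidueField s⟩
  haveI : QuasiCompact (f.fiberToSpecResidueField s) :=
    MorphismProperty.pullback_snd _ _ inferInstance
  haveI : QuasiSeparated (f.fiberToSpecResidueField s) :=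
    MorphismProperty.pullback_snd _ _ inferInstance
  haveI : CompactSpace (f.fiber s) :=
    QuasiCompact.compactSpace_of_compactSpace (f.fiberToSpecResidueField s)
  haveI : QuasiSeparatedSpace (f.fiber s) :=
    quasiSeparatedSpace_of_quasiSeparated (f.fiberToSpecResidueField s)
  have hx : Spec.map (T.descResidueField (Scheme.stalkClosedPointTo x)) ≫
      T.fromSpecResidueField s = x :=
    Scheme.descResidueField_stalkClosedPointTo_fromSpecResidueField K T x
  -- the morphism to the fibre
  let w : Z ⟶ f.fiber s := pullback.lift v
    ((Z ↘ Spec (CommRingCat.of K)) ≫ Spec.map (T.descResidueField (Scheme.stalkClosedPointTo x)))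
    (by rw [Category.assoc, hx]; exact hsq.w)
  have hw1 : w ≫ f.fiberι s = v := pullback.lift_fst _ _ _
  have hw2 : w ≫ f.fiberToSpecResidueField s =
      (Z ↘ Spec (CommRingCat.of K)) ≫
        Spec.map (T.descResidueField (Scheme.stalkClosedPointTo x)) := pullback.lift_snd _ _ _
  have hsq' : IsPullback w (Z ↘ Spec (CommRingCat.of K))
      ((f.fiber s) ↘ Spec (CommRingCat.of (T.residueField s)))
      (Spec.map (CommRingCat.ofHom (algebraMap (T.residueField s) K))) := by
    refine IsPullback.of_right ?_ hw2 (IsPullback.of_hasPullback f (T.fromSpecResidueField s))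
    have h1 : w ≫ pullback.fst f (T.fromSpecResidueField s) = v := hw1
    rw [h1]
    have h2 : Spec.map (CommRingCat.ofHom (algebraMap (T.residueField s) K)) ≫
        T.fromSpecResidueField s = x := hx
    rw [h2]
    exact hsq
  haveI : Coh.IsQCoh ((Scheme.Modules.pullback (f.fiberι s)).obj G) :=
    Groth.Agent.Lead.StalkPull.isQuasicoherent_pullbackObj _ G
  obtain ⟨e⟩ := Groth.Agent.Helper9.FBCor2.main (T.residueField s) K (f.fiber s) Z w hsq'
    ((Scheme.Modules.pullback (f.fiberι s)).obj G) p
  let iso : (Scheme.Modules.pullback w).obj ((Scheme.Modules.pullback (f.fiberι s)).obj G) ≅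
      (Scheme.Modules.pullback v).obj G :=
    (Scheme.Modules.pullbackComp w (f.fiberι s)).app G ≪≫
      (Scheme.Modules.pullbackCongr hw1).app G
  have e2 := Groth.Agent.Helper1.ProjTop.HHlinEquiv K iso p
  exact ⟨e.trans e2⟩

/-- the dimension of the cohomology of the base change to a field valued point -/
theorem finrank_HH_fieldPt [QuasiCompact f] [QuasiSeparated f]
    (G : Y.Modules) [G.IsQuasicoherent]
    {K : Type u} [Field K] (x : Spec (CommRingCat.of K) ⟶ T)
    {Z : Scheme.{u}} [Z.Over (Spec (CommRingCat.of K))] (v : Z ⟶ Y)
    (hsq : IsPullback v (Z ↘ Spec (CommRingCat.of K)) f x) (p : ℕ) :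
    Module.finrank K (Coh.HH Z ((Scheme.Modules.pullback v).obj G) p) =
      PerfAux.betti f G (x (IsLocalRing.closedPoint K)) p := by
  letI : Algebra (T.residueField (x (IsLocalRing.closedPoint K))) K :=
    (T.descResidueField (Scheme.stalkClosedPointTo x)).hom.toAlgebra
  obtain ⟨e⟩ := nonempty_linearEquiv_fieldPt f G x v hsq p
  unfold PerfAux.betti
  rw [← e.finrank_eq]
  exact Module.finrank_baseChange

/-- vanishing of the cohomology of the base change to a field valued point -/
theorem subsingleton_HH_fieldPt_iff [QuasiCompact f] [QuasiSeparated f]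
    (G : Y.Modules) [G.IsQuasicoherent]
    {K : Type u} [Field K] (x : Spec (CommRingCat.of K) ⟶ T)
    {Z : Scheme.{u}} [Z.Over (Spec (CommRingCat.of K))] (v : Z ⟶ Y)
    (hsq : IsPullback v (Z ↘ Spec (CommRingCat.of K)) f x) (p : ℕ) :
    Subsingleton (Coh.HH Z ((Scheme.Modules.pullback v).obj G) p) ↔
      Subsingleton (PerfAux.fiberH f G (x (IsLocalRing.closedPoint K)) p) := by
  letI : Algebra (T.residueField (x (IsLocalRing.closedPoint K))) K :=
    (T.descResidueField (Scheme.stalkClosedPointTo x)).hom.toAlgebra
  obtain ⟨e⟩ := nonempty_linearEquiv_fieldPt f G x v hsq p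
  rw [← e.toEquiv.subsingleton_congr]
  constructor
  · intro h
    by_contra hc
    rw [not_subsingleton_iff_nontrivial] at hc
    haveI := hc
    haveI : Module.Free (T.residueField (x (IsLocalRing.closedPoint K)))
      (PerfAux.fiberH f G (x (IsLocalRing.closedPoint K)) p) := Module.Free.of_divisionRing _ _
    haveI : Nontrivial (TensorProduct (T.residueField (x (IsLocalRing.closedPoint K))) K
        (PerfAux.fiberH f G (x (IsLocalRing.closedPoint K)) p)) :=
      Module.FaithfullyFlat.lTensor_nontrivial _ _ _
    exact not_subsingleton _ h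
  · intro h
    infer_instance

end Groth.Agent.Helper1.BD
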