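import Mathlib
import Groth.Agent.Helper1.BD1
import Groth.Agent.Helper1.HS5
import Groth.Agent.Helper1.HT12
import Groth.Agent.Helper1.VA14
import Groth.Agent.Helper5.PnBridge2
import Groth.Prelude.Def_Pic13

/-!
# BD2: the slices of a family over a `k`-scheme: the cohomology of the slices of a module on
`X ×_k T` at the `k`-points of `T`
-/

set_option autoImplicit false
set_option linter.style.haveILetI false
set_option linter.unusedSectionVars false

universe u
open CategoryTheory CategoryTheory.Limits AlgebraicGeometry Opposite TensorProduct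

namespace Groth.Agent.Helper1.BD

variable (k : Type u) [Field k] (X : Scheme.{u}) [X.Over (Spec (CommRingCat.of k))]
  {T : Scheme.{u}} (q : T ⟶ Spec (CommRingCat.of k)) (t : Spec (CommRingCat.of k) ⟶ T)
  (ht : t ≫ q = 𝟙 _)

theorem sliceAt_fst :
    Pic13.sliceAt k X q t ht ≫ pullback.fst (X ↘ Spec (CommRingCat.of k)) q = 𝟙 X :=
  pullback.lift_fst _ _ _

theorem sliceAt_snd :
    Pic13.sliceAt k X q t ht ≫ pullback.snd (X ↘ Spec (CommRingCat.of k)) q =
      (X ↘ Spec (CommRingCat.of k)) ≫ t :=
  pullback.lift_snd _ _ _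

/-- the slice is the base change of the point -/
theorem isPullback_sliceAt :
    IsPullback (Pic13.sliceAt k X q t ht) (X ↘ Spec (CommRingCat.of k))
      (pullback.snd (X ↘ Spec (CommRingCat.of k)) q) t := by
  refine IsPullback.of_right ?_ (sliceAt_snd k X q t ht)
    (IsPullback.of_hasPullback (X ↘ Spec (CommRingCat.of k)) q)
  rw [sliceAt_fst, ht]
  exact IsPullback.of_horiz_isIso ⟨by simp⟩

/-- `slice^* p₁^* M ≅ M` -/
noncomputable def sliceFstIso (M : X.Modules) :
    (Scheme.Modules.pullback (Pic13.sliceAt k X q t ht)).obj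
      ((Scheme.Modules.pullback (pullback.fst (X ↘ Spec (CommRingCat.of k)) q)).obj M) ≅ M :=
  (Scheme.Modules.pullbackComp _ _).app M ≪≫
    (Scheme.Modules.pullbackCongr (sliceAt_fst k X q t ht)).app M ≪≫
    (Scheme.Modules.pullbackId X).app M

/-- the slice of a twist -/
noncomputable def sliceTensorIso (F : (Pic13.prodK k X q).Modules) (B : X.Modules) :
    (Scheme.Modules.pullback (Pic13.sliceAt k X q t ht)).obj
      (CohB1.tensorMod F
        ((Scheme.Modules.pullback (pullback.fst (X ↘ Spec (CommRingCat.of k)) q)).obj B)) ≅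
      CohB1.tensorMod (Pic13.fibreMod k X q t ht F) B :=
  Groth.Agent.Lead.IntNumBC.pullTensorIso _ _ _ ≪≫
    PicGrp.tensorModIso (Iso.refl _) (sliceFstIso k X q t ht B)

variable [QuasiCompact (X ↘ Spec (CommRingCat.of k))]
  [QuasiSeparated (X ↘ Spec (CommRingCat.of k))]

/-- the Betti numbers of the fibre over a `k`-point are the dimensions of the cohomology of the
slice -/
theorem betti_slice (M : (Pic13.prodK k X q).Modules) [M.IsQuasicoherent] (p : ℕ) :
    PerfAux.betti (pullback.snd (X ↘ Spec (CommRingCat.of k)) q) M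
        (t (IsLocalRing.closedPoint k)) p =
      Module.finrank k (Coh.HH X
        ((Scheme.Modules.pullback (Pic13.sliceAt k X q t ht)).obj M) p) :=
  (finrank_HH_fieldPt (pullback.snd (X ↘ Spec (CommRingCat.of k)) q) M t
    (Pic13.sliceAt k X q t ht) (isPullback_sliceAt k X q t ht) p).symm

theorem subsingleton_slice_iff (M : (Pic13.prodK k X q).Modules) [M.IsQuasicoherent] (p : ℕ) :
    Subsingleton (Coh.HH X ((Scheme.Modules.pullback (Pic13.sliceAt k X q t ht)).obj M) p) ↔
      Subsingleton (PerfAux.fiberH (pullback.snd (X ↘ Spec (CommRingCat.of k)) q) M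
        (t (IsLocalRing.closedPoint k)) p) :=
  subsingleton_HH_fieldPt_iff (pullback.snd (X ↘ Spec (CommRingCat.of k)) q) M t
    (Pic13.sliceAt k X q t ht) (isPullback_sliceAt k X q t ht) p

end Groth.Agent.Helper1.BD
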