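import Mathlib
import Groth.Prelude.Def_KLin
import Groth.Agent.Helper1.ProjMor5

/-!
# BD6: the inverse image of modules is semilinear for the scalar actions of the global functions
-/

set_option autoImplicit false
set_option linter.style.haveILetI false
set_option linter.unusedSectionVars false

universe u
open CategoryTheory CategoryTheory.Limits AlgebraicGeometry Opposite TensorProduct

namespace Groth.Agent.Helper1.BD

variable {Z Y : Scheme.{u}} (g : Z ⟶ Y)

/-- the direct image of the multiplication by the pullback of a global function -/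
theorem pushforward_map_smulModΓ (N : Z.Modules) (r : Coh.Γtop Y) :
    (Scheme.Modules.pushforward g).map (Formal.smulModΓ N (g.appTop r)) =
      Formal.smulModΓ ((Scheme.Modules.pushforward g).obj N) r := by
  refine Scheme.Modules.hom_ext _ _ fun U => ?_
  ext m
  rw [Scheme.Modules.pushforward_map_app]
  change (Formal.smulModΓ N (g.appTop r)).app (g ⁻¹ᵁ U) m =
    (Formal.smulModΓ ((Scheme.Modules.pushforward g).obj N) r).app U m
  rw [KLin.smulModΓ_app_apply, KLin.smulModΓ_app_apply]
  have h2 := congrArg (fun φ => φ.hom r) (g.naturality (homOfLE (le_top : U ≤ ⊤)).op)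
  simp only [CommRingCat.hom_comp, RingHom.coe_comp, Function.comp_apply] at h2
  change _ = (g.app U (Y.presheaf.map (homOfLE (le_top : U ≤ ⊤)).op r)) •
    (show Γ(N, g ⁻¹ᵁ U) from m)
  rw [h2]
  rfl

/-- **the inverse image of the multiplication by a global function** -/
theorem pullback_map_smulModΓ (M : Y.Modules) (r : Coh.Γtop Y) :
    (Scheme.Modules.pullback g).map (Formal.smulModΓ M r) =
      Formal.smulModΓ ((Scheme.Modules.pullback g).obj M) (g.appTop r) := by
  apply ((Scheme.Modules.pullbackPushforwardAdjunction g).homEquiv _ _).injective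
  rw [Adjunction.homEquiv_unit, Adjunction.homEquiv_unit, pushforward_map_smulModΓ]
  have h1 := KLin.comp_smulModΓ ((Scheme.Modules.pullbackPushforwardAdjunction g).unit.app M) r
  have h2 := (Scheme.Modules.pullbackPushforwardAdjunction g).unit.naturality
    (Formal.smulModΓ M r)
  exact h2.symm.trans h1.symm

/-- semilinearity of the inverse image -/
theorem pullback_map_smul {A B : Type u} [CommRing A] [CommRing B]
    [Y.Over (Spec (CommRingCat.of A))] [Z.Over (Spec (CommRingCat.of B))] (φ : A →+* B)
    (hφ : ∀ a : A, g.appTop (Coh.toGlobal (Y ↘ Spec (CommRingCat.of A)) a) =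
      Coh.toGlobal (Z ↘ Spec (CommRingCat.of B)) (φ a))
    {M N : Y.Modules} (a : A) (f : M ⟶ N) :
    (Scheme.Modules.pullback g).map (a • f) = φ a • (Scheme.Modules.pullback g).map f := by
  rw [KLin.smul_def, KLin.smul_def, Functor.map_comp]
  congr 1
  unfold Formal.smulMod
  rw [pullback_map_smulModΓ, hφ]

/-- the ring map attached to a composite with the spectrum of a ring map -/
theorem toGlobal_comp_SpecMap {A B : Type u} [CommRing A] [CommRing B]
    (q : Z ⟶ Spec (CommRingCat.of B)) (φ : A →+* B) (a : A) :
    Coh.toGlobal (q ≫ Spec.map (CommRingCat.ofHom φ)) a = Coh.toGlobal q (φ a) := by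
  have := Groth.Agent.Helper1.ProjMor.toGlobal_comp_SpecMap q φ
  exact congrArg (fun ψ => ψ a) this

end Groth.Agent.Helper1.BD
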