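import Mathlib
import Groth.Agent.Helper1.BD2
import Groth.Agent.Helper1.BD6
import Groth.Agent.Helper4.PullSec
import Groth.Agent.Lead.PerfLib5

/-!
# BD7: the universal family of cokernels of maps `O^M ⟶ E` which are combinations of finitely
many given sections, parametrised by the affine space of the matrices of coefficients
-/

set_option autoImplicit false
set_option linter.style.haveILetI false
set_option linter.unusedSectionVars false

universe u
open CategoryTheory CategoryTheory.Limits AlgebraicGeometry Opposite TensorProduct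

namespace Groth.Agent.Helper1.BD

open Groth.Agent.Helper4.PullSec Groth.Agent.Helper4.PullUnit

variable (k : Type u) [Field k] (X : Scheme.{u}) [X.Over (Spec (CommRingCat.of k))]
  (M N : ℕ)

/-- the parameter space: the affine space of matrices -/
noncomputable abbrev TT : Scheme.{u} := Spec (CommRingCat.of (MvPolynomial (Fin M × Fin N) k))

/-- its structure morphism -/
noncomputable def qq : TT k M N ⟶ Spec (CommRingCat.of k) :=
  Spec.map (CommRingCat.ofHom (MvPolynomial.C : k →+* MvPolynomial (Fin M × Fin N) k))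

instance : LocallyOfFiniteType (qq k M N) := by
  unfold qq
  rw [HasRingHomProperty.Spec_iff (P := @LocallyOfFiniteType)]
  have : (CommRingCat.ofHom (MvPolynomial.C : k →+* MvPolynomial (Fin M × Fin N) k)).hom =
      algebraMap k (MvPolynomial (Fin M × Fin N) k) := rfl
  rw [this, RingHom.finiteType_algebraMap]
  infer_instance

instance : QuasiCompact (qq k M N) := by
  unfold qq
  infer_instance

variable {M N}

/-- the point of a matrix -/
noncomputable def pt (c : Fin M × Fin N → k) : Spec (CommRingCat.of k) ⟶ TT k M N :=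
  Spec.map (CommRingCat.ofHom (MvPolynomial.eval c))

theorem pt_qq (c : Fin M × Fin N → k) : pt k c ≫ qq k M N = 𝟙 _ := by
  unfold pt qq
  rw [← Spec.map_comp, ← CommRingCat.ofHom_comp]
  have : (MvPolynomial.eval c).comp (MvPolynomial.C : k →+* MvPolynomial (Fin M × Fin N) k) =
      RingHom.id k := by
    ext a
    simp
  rw [this]
  exact Spec.map_id _

variable (M N) in
/-- the coordinate functions on the product -/
noncomputable def xfun (a : Fin M) (b : Fin N) : Coh.Γtop (Pic13.prodK k X (qq k M N)) :=
  Coh.toGlobal (pullback.snd (X ↘ Spec (CommRingCat.of k)) (qq k M N)) (MvPolynomial.X (a, b))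

theorem sliceAt_appTop_xfun (c : Fin M × Fin N → k) (a : Fin M) (b : Fin N) :
    (Pic13.sliceAt k X (qq k M N) (pt k c) (pt_qq k c)).appTop (xfun k X M N a b) =
      Coh.toGlobal (X ↘ Spec (CommRingCat.of k)) (c (a, b)) := by
  unfold xfun
  rw [← KLin.toGlobal_comp, sliceAt_snd]
  unfold pt
  rw [toGlobal_comp_SpecMap, MvPolynomial.eval_X]

/-- `p₁^* ⋙ slice^* ≅ id` -/
noncomputable def sliceFstNatIso {T : Scheme.{u}} (q : T ⟶ Spec (CommRingCat.of k))
    (t : Spec (CommRingCat.of k) ⟶ T) (ht : t ≫ q = 𝟙 _) :
    Scheme.Modules.pullback (pullback.fst (X ↘ Spec (CommRingCat.of k)) q) ⋙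
      Scheme.Modules.pullback (Pic13.sliceAt k X q t ht) ≅ 𝟭 _ :=
  Scheme.Modules.pullbackComp _ _ ≪≫
    Scheme.Modules.pullbackCongr (sliceAt_fst k X q t ht) ≪≫ Scheme.Modules.pullbackId X

variable {X} (E' : X.Modules) (ε : Fin N → (Coh.structureModule X ⟶ E'))

variable (M) in
/-- the components of the universal map -/
noncomputable def ucomp (a : Fin M) :
    Coh.structureModule (Pic13.prodK k X (qq k M N)) ⟶
      (Scheme.Modules.pullback (pullback.fst (X ↘ Spec (CommRingCat.of k)) (qq k M N))).obj E' :=
  ∑ b, Formal.smulModΓ _ (xfun k X M N a b) ≫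
    pullSec (pullback.fst (X ↘ Spec (CommRingCat.of k)) (qq k M N)) (ε b)

variable (M) in
/-- the universal map -/
noncomputable def umap : FlatMod.freeMod (Pic13.prodK k X (qq k M N)) M ⟶
    (Scheme.Modules.pullback (pullback.fst (X ↘ Spec (CommRingCat.of k)) (qq k M N))).obj E' :=
  Sigma.desc (ucomp k M E' ε)

variable (M) in
/-- the universal family of cokernels -/
noncomputable def fam : (Pic13.prodK k X (qq k M N)).Modules := cokernel (umap k M E' ε)

/-- the map of a matrix -/
noncomputable def uc (c : Fin M × Fin N → k) : FlatMod.freeMod X M ⟶ E' :=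
  Sigma.desc (fun a => ∑ b, c (a, b) • ε b)

/-- the key computation: the slice of a component of the universal map -/
theorem slice_ucomp (c : Fin M × Fin N → k) (a : Fin M) :
    (Scheme.Modules.pullback (Pic13.sliceAt k X (qq k M N) (pt k c) (pt_qq k c))).map
        (ucomp k M E' ε a) ≫ (sliceFstNatIso k X (qq k M N) (pt k c) (pt_qq k c)).hom.app E' =
      ((Scheme.Modules.pullback (Pic13.sliceAt k X (qq k M N) (pt k c) (pt_qq k c))).map
        (pullbackUnitIso (pullback.fst (X ↘ Spec (CommRingCat.of k)) (qq k M N))).inv ≫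
          (sliceFstNatIso k X (qq k M N) (pt k c) (pt_qq k c)).hom.app (Coh.structureModule X)) ≫
        ∑ b, c (a, b) • ε b := by
  unfold ucomp
  rw [Functor.map_sum, Preadditive.sum_comp, Preadditive.comp_sum]
  refine Finset.sum_congr rfl (fun b _ => ?_)
  rw [Functor.map_comp, pullback_map_smulModΓ, sliceAt_appTop_xfun, Linear.comp_smul,
    KLin.smul_def, Category.assoc]
  congr 1
  unfold pullSec
  rw [Functor.map_comp, Category.assoc, Category.assoc]
  congr 1
  exact (sliceFstNatIso k X (qq k M N) (pt k c) (pt_qq k c)).hom.naturality (ε b)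

/-- **the slices of the universal family are the cokernels of the maps of the matrices** -/
theorem nonempty_fibre_iso (c : Fin M × Fin N → k) :
    Nonempty (Pic13.fibreMod k X (qq k M N) (pt k c) (pt_qq k c) (fam k M E' ε) ≅
      cokernel (uc k E' ε c)) := by
  set G := Scheme.Modules.pullback (Pic13.sliceAt k X (qq k M N) (pt k c) (pt_qq k c)) with hG
  haveI : PreservesColimits G :=
    (Scheme.Modules.pullbackPushforwardAdjunction _).leftAdjoint_preservesColimits
  let α₀ : G.obj (Coh.structureModule (Pic13.prodK k X (qq k M N))) ≅ Coh.structureModule X :=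
    G.mapIso (pullbackUnitIso (pullback.fst (X ↘ Spec (CommRingCat.of k)) (qq k M N))).symm ≪≫
      (sliceFstNatIso k X (qq k M N) (pt k c) (pt_qq k c)).app (Coh.structureModule X)
  let α : G.obj (FlatMod.freeMod (Pic13.prodK k X (qq k M N)) M) ≅ FlatMod.freeMod X M :=
    PreservesCoproduct.iso G (fun _ : Fin M => Coh.structureModule (Pic13.prodK k X (qq k M N))) ≪≫
      Sigma.mapIso (fun _ => α₀)
  let β : G.obj ((Scheme.Modules.pullback
      (pullback.fst (X ↘ Spec (CommRingCat.of k)) (qq k M N))).obj E') ≅ E' :=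
    (sliceFstNatIso k X (qq k M N) (pt k c) (pt_qq k c)).app E'
  have hcomm : G.map (umap k M E' ε) ≫ β.hom = α.hom ≫ uc k E' ε c := by
    rw [← cancel_epi (PreservesCoproduct.iso G
      (fun _ : Fin M => Coh.structureModule (Pic13.prodK k X (qq k M N)))).inv]
    apply Sigma.hom_ext
    intro a
    have h1 : Sigma.ι (fun _ : Fin M => G.obj (Coh.structureModule (Pic13.prodK k X (qq k M N)))) a ≫
        (PreservesCoproduct.iso G
          (fun _ : Fin M => Coh.structureModule (Pic13.prodK k X (qq k M N)))).inv =
        G.map (Sigma.ι (fun _ : Fin M => Coh.structureModule (Pic13.prodK k X (qq k M N))) a) :=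
      ι_comp_sigmaComparison G _ a
    rw [reassoc_of% h1, reassoc_of% h1, ← Functor.map_comp_assoc]
    have h2 : Sigma.ι (fun _ : Fin M => Coh.structureModule (Pic13.prodK k X (qq k M N))) a ≫
        umap k M E' ε = ucomp k M E' ε a := Sigma.ι_desc _ _
    rw [h2]
    have h3 := slice_ucomp k E' ε c a
    refine h3.trans ?_
    -- the right hand side
    have h4 : G.map (Sigma.ι (fun _ : Fin M => Coh.structureModule (Pic13.prodK k X (qq k M N))) a) ≫
        α.hom = α₀.hom ≫ Sigma.ι (fun _ : Fin M => Coh.structureModule X) a := by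
      simp only [α, Iso.trans_hom]
      rw [← reassoc_of% h1, Iso.inv_hom_id_assoc, Sigma.ι_mapIso_hom]
    rw [reassoc_of% h4]
    unfold uc
    rw [Sigma.ι_desc]
    rfl
  exact ⟨PreservesCokernel.iso G (umap k M E' ε) ≪≫ cokernel.mapIso _ _ α β hcomm⟩

end Groth.Agent.Helper1.BD
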