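import Mathlib
import Groth.Agent.Helper1.BD2

/-!
# BD3: bounded families on a closed subscheme of `P^n_k`: uniform vanishing of the higher
cohomology of the large twists of the slices, and finiteness of the set of Hilbert functions
-/

set_option autoImplicit false
set_option linter.style.haveILetI false
set_option linter.unusedSectionVars false

universe u
open CategoryTheory CategoryTheory.Limits AlgebraicGeometry Opposite TensorProduct

namespace Groth.Agent.Helper1.BD

open Groth.Agent.Helper4.SN Groth.Agent.Helper5.PnBridge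

variable (k : Type u) [Field k] {n : ℕ} {X : Scheme.{u}} [X.Over (Spec (CommRingCat.of k))]
  (i : X ⟶ CohB1.ProjSpace n k) [IsClosedImmersion i]
  (hi : i ≫ CohB1.ProjSpace.toSpec n k = X ↘ Spec (CommRingCat.of k))
  {T : Scheme.{u}} (q : T ⟶ Spec (CommRingCat.of k)) [LocallyOfFiniteType q] [QuasiCompact q]
  (𝔽 : (Pic13.prodK k X q).Modules) (h𝔽 : Coh.IsCoh 𝔽)

include i hi in
/-- the cohomology of a closed subscheme of `P^n_k` vanishes above `n` -/
theorem subsingleton_HH_gt (G : X.Modules) (j : ℕ) (hj : n < j) : Subsingleton (Coh.HH X G j) := by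
  haveI := isProper_of_closedImmersion k i hi
  haveI := Groth.Agent.Helper4.NApx82.isNoetherian_of_proper k X
  exact Groth.Agent.Helper4.SN.subsingleton_HH_of_dim n (dim_le k i) G j hj

include q in
theorem isNoetherian_base : IsNoetherian T := by
  haveI : IsLocallyNoetherian T := LocallyOfFiniteType.isLocallyNoetherian q
  haveI : CompactSpace T := QuasiCompact.compactSpace_of_compactSpace q
  exact {}

include hi h𝔽 in
/-- **uniform vanishing**: the higher cohomology of the large twists of the slices vanishes -/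
theorem exists_uniform_vanishing :
    ∃ N₀ : ℕ, ∀ d : ℕ, N₀ ≤ d → ∀ (t : Spec (CommRingCat.of k) ⟶ T) (ht : t ≫ q = 𝟙 _) (j : ℕ),
      0 < j → Subsingleton (Coh.HH X (Pic13.twistOn k i (Pic13.fibreMod k X q t ht 𝔽) (d : ℤ)) j) := by
  haveI := isProper_of_closedImmersion k i hi
  haveI := isNoetherian_base k q
  have hLinvX : PicF.IsInvertible (LL k i) := isInvertible_OX k i 1
  have hL : RelAmple.IsRelAmple (pullback.snd (X ↘ Spec (CommRingCat.of k)) q)
      ((Scheme.Modules.pullback (pullback.fst (X ↘ Spec (CommRingCat.of k)) q)).obj (LL k i)) :=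
    Groth.Agent.Helper4.PullBC.isRelAmple_baseChange _ q _
      (Groth.Agent.Helper1.VA.isRelAmple_of_isAmple _ _ (isAmple_LL k i))
  have hLinv : PicF.IsInvertible
      ((Scheme.Modules.pullback (pullback.fst (X ↘ Spec (CommRingCat.of k)) q)).obj (LL k i)) :=
    Groth.Agent.Helper4.PullSec.isInvertible_pullback _ hLinvX
  obtain ⟨N₀, hN₀⟩ := Groth.Agent.Helper1.HT.exists_goodTwist
    (pullback.snd (X ↘ Spec (CommRingCat.of k)) q) hL 𝔽 h𝔽
  refine ⟨N₀, fun d hd t ht j hj => ?_⟩
  haveI : (CohB1.tensorMod 𝔽 (CohB1.tensorPow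
      ((Scheme.Modules.pullback (pullback.fst (X ↘ Spec (CommRingCat.of k)) q)).obj (LL k i))
        d)).IsQuasicoherent := (Groth.Agent.Helper1.HP.isCoh_twistPow hLinv 𝔽 h𝔽 d).1
  have h1 := (subsingleton_slice_iff k X q t ht _ j).2 ((hN₀ d hd).1 _ j hj)
  obtain ⟨e3⟩ := nonempty_twistOn_iso k i (Pic13.fibreMod k X q t ht 𝔽) d
  let iso : (Scheme.Modules.pullback (Pic13.sliceAt k X q t ht)).obj
      (CohB1.tensorMod 𝔽 (CohB1.tensorPow
        ((Scheme.Modules.pullback (pullback.fst (X ↘ Spec (CommRingCat.of k)) q)).obj (LL k i))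
          d)) ≅ Pic13.twistOn k i (Pic13.fibreMod k X q t ht 𝔽) (d : ℤ) :=
    Groth.Agent.Helper1.HP.pullTwistIso (Pic13.sliceAt k X q t ht) hLinv 𝔽 d ≪≫
      PicGrp.tensorModIso (Iso.refl _)
        (Groth.Agent.Helper4.AmpleIso.tensorPowIso (sliceFstIso k X q t ht (LL k i)) d) ≪≫
      e3.symm
  exact ((Groth.Agent.Lead.BCField.HHlinEquiv k iso j).toEquiv.subsingleton_congr).1 h1

include hi in
/-- the Euler characteristic of the fibre over a `k`-point, as the Euler characteristic of the
twisted slice -/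
theorem eulerChar_slice (hq𝔽 : 𝔽.IsQuasicoherent) (B : X.Modules) (hB : PicF.IsInvertible B)
    (t : Spec (CommRingCat.of k) ⟶ T) (ht : t ≫ q = 𝟙 _) :
    PerfAux.eulerChar (pullback.snd (X ↘ Spec (CommRingCat.of k)) q)
      (CohB1.tensorMod 𝔽
        ((Scheme.Modules.pullback (pullback.fst (X ↘ Spec (CommRingCat.of k)) q)).obj B))
      (t (IsLocalRing.closedPoint k)) =
    FGA.eulerCharLE k X (CohB1.tensorMod (Pic13.fibreMod k X q t ht 𝔽) B) n := by
  haveI := isProper_of_closedImmersion k i hi
  have hBq : Coh.IsCoh ((Scheme.Modules.pullback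
      (pullback.fst (X ↘ Spec (CommRingCat.of k)) q)).obj B) :=
    Groth.Agent.Helper1.SerreFin.isCoh_of_isInvertible _
      (Groth.Agent.Helper4.PullSec.isInvertible_pullback _ hB)
  haveI := hBq.1
  haveI : (CohB1.tensorMod 𝔽 ((Scheme.Modules.pullback
      (pullback.fst (X ↘ Spec (CommRingCat.of k)) q)).obj B)).IsQuasicoherent :=
    Groth.Agent.Lead.QcohTensor.isQuasicoherent_tensorMod _ _
  rw [← Groth.Agent.Lead.IntNumBC.eulerCharLE_congr k X (sliceTensorIso k X q t ht 𝔽 B) n]
  unfold PerfAux.eulerChar FGA.eulerCharLE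
  rw [finsum_eq_sum_of_support_subset (s := Finset.range (n + 1))]
  · refine Finset.sum_congr rfl (fun j _ => ?_)
    rw [betti_slice k X q t ht _ j]
  · intro j hj
    rw [Function.mem_support] at hj
    rw [Finset.coe_range, Set.mem_Iio]
    by_contra hcon
    apply hj
    rw [betti_slice k X q t ht _ j]
    haveI := subsingleton_HH_gt k i hi ((Scheme.Modules.pullback (Pic13.sliceAt k X q t ht)).obj
      (CohB1.tensorMod 𝔽 ((Scheme.Modules.pullback
        (pullback.fst (X ↘ Spec (CommRingCat.of k)) q)).obj B))) j (by omega)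
    rw [Module.finrank_zero_of_subsingleton]
    simp

include hi h𝔽 in
/-- **finitely many Hilbert functions** among the slices -/
theorem finite_hilbert_functions :
    (Set.range fun p : {t : Spec (CommRingCat.of k) ⟶ T // t ≫ q = 𝟙 _} => fun d : ℤ =>
      FGA.eulerCharLE k X (Pic13.twistOn k i (Pic13.fibreMod k X q p.1 p.2 𝔽) d) n).Finite := by
  haveI := isProper_of_closedImmersion k i hi
  haveI := isNoetherian_base k q
  have hfin := Groth.Agent.Helper1.HS.finite_range_eulerChar
    (pullback.snd (X ↘ Spec (CommRingCat.of k)) q) 𝔽 h𝔽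
    (fun d : ℤ => (Scheme.Modules.pullback
      (pullback.fst (X ↘ Spec (CommRingCat.of k)) q)).obj (OX k i d))
    (fun d => Groth.Agent.Helper4.PullSec.isInvertible_pullback _ (isInvertible_OX k i d))
  refine Set.Finite.subset hfin ?_
  rintro _ ⟨p, rfl⟩
  refine ⟨p.1 (IsLocalRing.closedPoint k), ?_⟩
  funext d
  exact eulerChar_slice k i hi q 𝔽 h𝔽.1 (OX k i d) (isInvertible_OX k i d) p.1 p.2

end Groth.Agent.Helper1.BD
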