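import Mathlib
import Groth.Agent.Helper1.HT3
import Groth.Agent.Helper1.PUP8
import Groth.Prelude.Def_KLin
import Groth.Prelude.Def_Curv2
import Groth.Prelude.Def_FlatMod2

/-!
# BD4: global generation by a bounded number of sections
-/

set_option autoImplicit false
set_option linter.style.haveILetI false
set_option linter.unusedSectionVars false

universe u
open CategoryTheory CategoryTheory.Limits AlgebraicGeometry Opposite TensorProduct

namespace Groth.Agent.Helper1.BD

open Groth.Agent.Helper1.PUP Groth.Agent.Helper1.HT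

variable (k : Type u) [Field k] {X : Scheme.{u}} [X.Over (Spec (CommRingCat.of k))]

theorem sec_add {M : X.Modules} (σ σ' : Coh.structureModule X ⟶ M) :
    sec (σ + σ') ⊤ = sec σ ⊤ + sec σ' ⊤ := by
  unfold sec
  rw [Scheme.Modules.Hom.add_app]
  rfl

theorem sec_smul {M : X.Modules} (c : k) (σ : Coh.structureModule X ⟶ M) :
    sec (c • σ) ⊤ = Groth.Agent.Helper1.QuotPush.ρ (A := k) (⊤ : X.Opens) c • sec σ ⊤ := by
  unfold sec
  rw [KLin.smul_app_apply]
  rfl

/-- `Hom(O, M) ≃ₗ[k] H⁰(X, M)` -/
noncomputable def homSecEquiv (M : X.Modules) :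
    (Coh.structureModule X ⟶ M) ≃ₗ[k] Coh.HH X M 0 where
  toFun σ := (γ M).symm (sec σ ⊤)
  map_add' σ σ' := by rw [sec_add, map_add]
  map_smul' c σ := by
    rw [sec_smul, RingHom.id_apply, γ_symm_smul k]
  invFun y := Groth.Agent.Lead.LocLift.homOfTop M (γ M y)
  left_inv σ := by
    show Groth.Agent.Lead.LocLift.homOfTop M (γ M ((γ M).symm (sec σ ⊤))) = σ
    apply hom_ext_of_sec
    rw [sec_homOfTop, AddEquiv.apply_symm_apply]
  right_inv y := by
    show (γ M).symm (sec (Groth.Agent.Lead.LocLift.homOfTop M (γ M y)) ⊤) = y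
    rw [sec_homOfTop, AddEquiv.symm_apply_apply]

/-- **global generation by `N` sections**, `N` at least the dimension of the space of sections -/
theorem exists_epi_freeMod_of_gg (M : X.Modules) (hgg : Curv2.IsGloballyGenerated M)
    [Module.Finite k (Coh.structureModule X ⟶ M)] (N : ℕ)
    (hN : Module.finrank k (Coh.structureModule X ⟶ M) ≤ N) :
    ∃ δ : Fin N → (Coh.structureModule X ⟶ M),
      Epi (Sigma.desc δ : FlatMod.freeMod X N ⟶ M) := by
  classical
  set r := Module.finrank k (Coh.structureModule X ⟶ M) with hr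
  let b := Module.finBasis k (Coh.structureModule X ⟶ M)
  let δ : Fin N → (Coh.structureModule X ⟶ M) := fun a =>
    if h : (a : ℕ) < r then b ⟨a, h⟩ else 0
  have hspan : Submodule.span k (Set.range δ) = ⊤ := by
    rw [eq_top_iff, ← b.span_eq]
    apply Submodule.span_mono
    rintro _ ⟨j, rfl⟩
    refine ⟨⟨j, lt_of_lt_of_le j.2 hN⟩, ?_⟩
    simp only [δ]
    rw [dif_pos j.2]
  refine ⟨δ, ?_⟩
  obtain ⟨ι, p0, hp0⟩ := hgg
  let p : (∐ fun _ : ι => Coh.structureModule X) ⟶ M := p0
  haveI hp : Epi p := hp0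
  -- coefficients
  have hc : ∀ σ : Coh.structureModule X ⟶ M, ∃ c : Fin N → k, ∑ a, c a • δ a = σ := by
    intro σ
    have : σ ∈ Submodule.span k (Set.range δ) := by rw [hspan]; trivial
    exact (Submodule.mem_span_range_iff_exists_fun k).1 this
  choose c hc using hc
  -- the factorization
  let rr : (∐ fun _ : ι => Coh.structureModule X) ⟶ FlatMod.freeMod X N :=
    Sigma.desc (fun i : ι => ∑ a, c (Sigma.ι (fun _ : ι => Coh.structureModule X) i ≫ p) a •
      Sigma.ι (fun _ : Fin N => Coh.structureModule X) a)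
  have hfac : rr ≫ (Sigma.desc δ : FlatMod.freeMod X N ⟶ M) = p := by
    apply Sigma.hom_ext
    intro i
    rw [← Category.assoc, Sigma.ι_desc, Preadditive.sum_comp]
    have h1 : ∀ a : Fin N, (c (Sigma.ι (fun _ : ι => Coh.structureModule X) i ≫ p) a •
        Sigma.ι (fun _ : Fin N => Coh.structureModule X) a) ≫
          (Sigma.desc δ : FlatMod.freeMod X N ⟶ M) =
        c (Sigma.ι (fun _ : ι => Coh.structureModule X) i ≫ p) a • δ a := by
      intro a
      rw [Linear.smul_comp, Sigma.ι_desc]
    rw [Finset.sum_congr rfl (fun a _ => h1 a)]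
    exact hc _
  exact epi_of_epi_fac hfac

end Groth.Agent.Helper1.BD
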