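import Mathlib
import Groth.Agent.Helper1.BD3
import Groth.Agent.Helper1.BD4
import Groth.Agent.Helper1.ClTr3
import Groth.Agent.Helper1.TwistExact
import Groth.Agent.S12111

/-!
# BD5: the members of a bounded family are quotients of one and the same `O_X(-m)^N`
-/

set_option autoImplicit false
set_option linter.style.haveILetI false
set_option linter.unusedSectionVars false

universe u
open CategoryTheory CategoryTheory.Limits AlgebraicGeometry Opposite TensorProduct

namespace Groth.Agent.Helper1.BD

open Groth.Agent.Helper4.SN Groth.Agent.Helper5.PnBridge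

variable (k : Type u) [Field k] {n : ℕ} {X : Scheme.{u}} [X.Over (Spec (CommRingCat.of k))]
  (i : X ⟶ CohB1.ProjSpace n k) [IsClosedImmersion i]
  (hi : i ≫ CohB1.ProjSpace.toSpec n k = X ↘ Spec (CommRingCat.of k))

/-- `F(m)(-m) ≅ F` -/
theorem nonempty_untwistIso (F : X.Modules) (m : ℤ) :
    Nonempty (CohB1.tensorMod (Pic13.twistOn k i F m) (OX k i (-m)) ≅ F) := by
  obtain ⟨e⟩ := nonempty_OX_add k i m (-m) 0 (by ring)
  obtain ⟨e0⟩ := nonempty_OX_zero k i
  exact ⟨Groth.Agent.Lead.Ref1B.assoc F (OX k i m) (OX k i (-m)) ≪≫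
    PicGrp.tensorModIso (Iso.refl F) (e ≪≫ e0) ≪≫ SecTwist.unitorR F⟩

include hi in
/-- the dimension of the space of sections, from the Euler characteristic -/
theorem finrank_hom_eq (G : X.Modules)
    (hvan : ∀ j : ℕ, 0 < j → Subsingleton (Coh.HH X G j)) :
    (Module.finrank k (Coh.structureModule X ⟶ G) : ℤ) = FGA.eulerCharLE k X G n := by
  rw [(homSecEquiv k G).finrank_eq]
  unfold FGA.eulerCharLE
  rw [Finset.sum_eq_single 0]
  · simp
  · intro j _ hj
    haveI := hvan j (Nat.pos_of_ne_zero hj)
    rw [Module.finrank_zero_of_subsingleton]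
    simp
  · intro h
    exact absurd (Finset.mem_range.2 (Nat.succ_pos n)) h

include hi in
theorem finite_hom (F : X.Modules) (hF : Coh.IsCoh F) (d : ℤ) :
    Module.Finite k (Coh.structureModule X ⟶ Pic13.twistOn k i F d) := by
  haveI : Module.Finite k (Coh.HH X (Pic13.twistOn k i F d) 0) :=
    Groth.Agent.Helper1.ClTr.finite_HH_tw n k i hi F hF d 0
  exact Module.Finite.equiv (homSecEquiv k (Pic13.twistOn k i F d)).symm

include hi in
/-- a module all of whose large twists have no higher cohomology and whose `m`-th twist is globally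
generated is a quotient of `O_X(-m)^N`, for `N` at least `χ(F(m))` -/
theorem exists_epi_of_gg (F : X.Modules) (hF : Coh.IsCoh F) (m : ℤ)
    (hgg : Curv2.IsGloballyGenerated (Pic13.twistOn k i F m))
    (hvan : ∀ j : ℕ, 0 < j → Subsingleton (Coh.HH X (Pic13.twistOn k i F m) j)) (N : ℕ)
    (hN : FGA.eulerCharLE k X (Pic13.twistOn k i F m) n ≤ N) :
    ∃ p : (DCoh.tensorRightMod (OX k i (-m))).obj (FlatMod.freeMod X N) ⟶ F, Epi p := by
  haveI := finite_hom k i hi F hF m
  have hN' : Module.finrank k (Coh.structureModule X ⟶ Pic13.twistOn k i F m) ≤ N := by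
    have := finrank_hom_eq k i hi _ hvan
    omega
  obtain ⟨δ, hδ⟩ := exists_epi_freeMod_of_gg k (Pic13.twistOn k i F m) hgg N hN'
  obtain ⟨e⟩ := nonempty_untwistIso k i F m
  haveI : Epi ((DCoh.tensorRightMod (OX k i (-m))).map
      (Sigma.desc δ : FlatMod.freeMod X N ⟶ Pic13.twistOn k i F m)) := by
    rw [KoszTw.tensorRightMod_map]
    exact Groth.Agent.Helper1.TwistExact.epi_tensorMap _ _ (isInvertible_OX k i (-m))
  exact ⟨(DCoh.tensorRightMod (OX k i (-m))).map
    (Sigma.desc δ : FlatMod.freeMod X N ⟶ Pic13.twistOn k i F m) ≫ e.hom, epi_comp _ _⟩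

/-- the twisted free module is a coproduct of twists of the structure sheaf -/
theorem nonempty_isColimit_twisted_free (m : ℤ) (N : ℕ) :
    Nonempty (IsColimit (Cofan.mk
      ((DCoh.tensorRightMod (OX k i (-m))).obj (FlatMod.freeMod X N))
      (fun a : Fin N => (DCoh.tensorRightMod (OX k i (-m))).map
        (Sigma.ι (fun _ : Fin N => Coh.structureModule X) a)))) := by
  haveI := Groth.Agent.Helper1.TwistExact.preservesFiniteColimits_tensorRightMod
    (OX k i (-m)) (isInvertible_OX k i (-m))
  haveI : PreservesColimitsOfShape (Discrete (Fin N)) (DCoh.tensorRightMod (OX k i (-m))) :=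
    PreservesFiniteColimits.preservesFiniteColimits _
  have h0 : IsColimit (Cofan.mk (∐ fun _ : Fin N => Coh.structureModule X)
      (Sigma.ι (fun _ : Fin N => Coh.structureModule X))) := coproductIsCoproduct _
  exact ⟨isColimitMapCoconeCofanMkEquiv _ _ _ (isColimitOfPreserves _ h0)⟩

end Groth.Agent.Helper1.BD
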