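import Mathlib
import Groth.Agent.Helper1.MF12
import Groth.Agent.Helper1.ClExt
import Groth.Agent.Helper1.ClTr2
import Groth.Agent.Helper1.KzGGPn
import Groth.Agent.Helper1.BD5

/-!
# BD8: uniform global generation of the kernels of the quotients of a coherent module on a closed
subscheme of `P^n_k` with a given Hilbert polynomial
-/

set_option autoImplicit false
set_option linter.style.haveILetI false
set_option linter.unusedSectionVars false

universe u
open CategoryTheory CategoryTheory.Limits AlgebraicGeometry Opposite TensorProduct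

namespace Groth.Agent.Helper1.BD

open Groth.Agent.Helper1.KzReg Groth.Agent.Helper1.KzLin Groth.Agent.Helper1.ClTr
  Groth.Agent.Helper1.SerreVan Groth.Agent.Helper1.SerreFin

variable (k : Type u) [Field k] {n : ℕ}

local notation "𝕆(" d ")" => Twist.twistProjSpace n k d

/-- every coherent module on `P^n_k` is `m`-regular for some `m` -/
theorem exists_isReg (G : (CohB1.ProjSpace n k).Modules) (hG : Coh.IsCoh G) :
    ∃ m₀ : ℤ, IsReg n k G m₀ := by
  obtain ⟨d₀, hd₀⟩ := vanishing n k G hG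
  refine ⟨d₀ + n, isReg_of_le n k G hG _ (fun i hi hin => ?_)⟩
  exact hd₀ _ (by omega) i hi

/-- the twist of an `m₀`-regular module by `O(m₀)` is `0`-regular -/
theorem isReg_tw_zero (G : (CohB1.ProjSpace n k).Modules) (m₀ : ℤ) (h : IsReg n k G m₀) :
    IsReg n k (CohB1.tensorMod G 𝕆(m₀)) 0 := by
  intro i hi
  obtain ⟨e⟩ := tw_tw_iso n k G m₀ (0 - (i : ℤ)) (m₀ - i) (by ring)
  exact (Groth.Agent.Lead.BCField.HHlinEquiv k e i).toEquiv.subsingleton_congr.2 (h i hi)

variable {X : Scheme.{u}} [X.Over (Spec (CommRingCat.of k))]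
  (i : X ⟶ CohB1.ProjSpace n k) [IsClosedImmersion i]
  (hi : i ≫ CohB1.ProjSpace.toSpec n k = X ↘ Spec (CommRingCat.of k))

include hi in
/-- the Euler characteristics of the twists on `X` and of the twists of the direct image -/
theorem euler_push_tw (F : X.Modules) (hF : Coh.IsQCoh F) (d : ℤ) :
    Curv2.euler k X (Pic13.twistOn k i F d) =
      Curv2.euler k (CohB1.ProjSpace n k) (CohB1.tensorMod ((Coh.push i).obj F) 𝕆(d)) := by
  unfold Curv2.euler
  refine finsum_congr (fun j => ?_)
  obtain ⟨e⟩ := nonempty_HH_linearEquiv n k i hi F hF d j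
  have := e.finrank_eq
  change Module.finrank k (Coh.HH X (Pic13.twistOn k i F d) j) = _ at this
  rw [this]

include hi in
/-- **uniform global generation of the kernels** -/
theorem exists_gg_kernel (E : X.Modules) (hE : Coh.IsCoh E) (Ψ : Polynomial ℚ) :
    ∃ m : ℤ, ∀ (F : X.Modules), Coh.IsCoh F → ∀ (p : E ⟶ F), Epi p →
      (∀ r : ℤ, (FGA.eulerCharLE k X (Pic13.twistOn k i F r) n : ℚ) = Ψ.eval (r : ℚ)) →
        ∀ d : ℤ, m ≤ d → Curv2.IsGloballyGenerated (Pic13.twistOn k i (kernel p) d) := by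
  haveI := Groth.Agent.Helper4.SN.isProper_of_closedImmersion k i hi
  haveI := Groth.Agent.Helper4.NApx82.isNoetherian_of_proper k X
  have hG := isCoh_push n k i E hE
  obtain ⟨m₀, hm₀⟩ := exists_isReg k ((Coh.push i).obj E) hG
  obtain ⟨m₁, hm₁⟩ := Groth.Agent.Helper1.MF.mumford_quot.{u}
    (Ψ.comp (Polynomial.X + Polynomial.C (m₀ : ℚ)))
  refine ⟨m₀ + m₁, fun F hF p hp hχ d hd => ?_⟩
  haveI := hp
  have hK : Coh.IsCoh (kernel p) := Groth.Agent.Lead.PerfLib.isCoh_kernel hE hF p
  -- the short exact sequence on `X`, pushed forward and twisted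
  have hSX : (ShortComplex.mk (kernel.ι p) p (kernel.condition p)).ShortExact :=
    ShortComplex.ShortExact.mk' (ShortComplex.exact_of_f_is_kernel _ (kernelIsKernel p))
      inferInstance inferInstance
  have hSP := shortExact_push i _ hSX
  have hSP' := Groth.Agent.Helper1.TwistExact.shortExact_map_tensorRightMod hSP 𝕆(m₀)
    (isInvertible_twist n k m₀)
  have hreg := hm₁ n k _ hSP'
    (isCoh_tw n k _ (isCoh_push n k i _ hK) m₀)
    (isCoh_tw n k _ hG m₀)
    (isCoh_tw n k _ (isCoh_push n k i _ hF) m₀)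
    (isReg_tw_zero k _ m₀ hm₀) (by
      intro r
      obtain ⟨e⟩ := tw_tw_iso n k ((Coh.push i).obj F) m₀ r (m₀ + r) rfl
      have h1 : Groth.Agent.Helper1.MF.chi n k (CohB1.tensorMod
          (CohB1.tensorMod ((Coh.push i).obj F) 𝕆(m₀)) 𝕆(r)) =
          Groth.Agent.Helper1.MF.chi n k (CohB1.tensorMod ((Coh.push i).obj F) 𝕆(m₀ + r)) :=
        Groth.Agent.Helper1.MF.chi_congr n k e
      show ((Groth.Agent.Helper1.MF.chi n k (CohB1.tensorMod
          (CohB1.tensorMod ((Coh.push i).obj F) 𝕆(m₀)) 𝕆(r)) : ℤ) : ℚ) = _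
      rw [h1]
      have h2 := euler_push_tw k i hi F hF.1 (m₀ + r)
      have h3 := Groth.Agent.Helper4.SN.eulerCharLE_eq_chi k n
        (Groth.Agent.Helper5.PnBridge.dim_le k i) (Pic13.twistOn k i F (m₀ + r))
      have h4 : FGA.eulerCharLE k X (Pic13.twistOn k i F (m₀ + r)) n =
          Curv2.euler k X (Pic13.twistOn k i F (m₀ + r)) := h3
      have h5 := hχ (m₀ + r)
      rw [h4, h2] at h5
      rw [Polynomial.eval_comp, Polynomial.eval_add, Polynomial.eval_X, Polynomial.eval_C]
      rw [h5]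
      push_cast
      ring_nf)
  -- global generation
  have hgg := Groth.Agent.Helper1.KzMultPn.isGloballyGenerated_of_isReg n k _
    (isCoh_tw n k _ (isCoh_push n k i _ hK) m₀) m₁ (d - m₀) (by omega) hreg
  obtain ⟨e⟩ := tw_tw_iso n k ((Coh.push i).obj (kernel p)) m₀ (d - m₀) d (by ring)
  have hgg2 : Curv2.IsGloballyGenerated
      (CohB1.tensorMod ((Coh.push i).obj (kernel p)) 𝕆(d)) :=
    Groth.Agent.Helper4.CounitEpi.isGloballyGenerated_of_iso e hgg
  apply isGloballyGenerated_of_push n k i _ (isQCoh_tw n k i _ hK.1 d)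
  exact Groth.Agent.Helper4.CounitEpi.isGloballyGenerated_of_iso
    (pushTwIso n k i (kernel p) d).symm hgg2

end Groth.Agent.Helper1.BD
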