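import Mathlib
import Groth.Agent.Helper1.BD7
import Groth.Agent.Helper1.BD8

/-!
# BD9: a quotient whose kernel is globally generated is the cokernel of a combination of sections
-/

set_option autoImplicit false
set_option linter.style.haveILetI false
set_option linter.unusedSectionVars false

universe u
open CategoryTheory CategoryTheory.Limits AlgebraicGeometry Opposite TensorProduct

namespace Groth.Agent.Helper1.BD

variable (k : Type u) [Field k] {X : Scheme.{u}} [X.Over (Spec (CommRingCat.of k))]

/-- **the matrix of a quotient**: if the kernel of `E' ⟶ F'` is globally generated, then `F'` is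
the cokernel of a map `O^N ⟶ E'` whose components are combinations of a basis of the sections -/
theorem exists_matrix (S : ShortComplex X.Modules) (hS : S.ShortExact)
    (hgg : Curv2.IsGloballyGenerated S.X₁) [Module.Finite k (Coh.structureModule X ⟶ S.X₂)]
    {N : ℕ} (ε : Module.Basis (Fin N) k (Coh.structureModule X ⟶ S.X₂)) :
    ∃ c : Fin N × Fin N → k, Nonempty (cokernel (uc k S.X₂ (fun b => ε b) c) ≅ S.X₃) := by
  haveI := hS.mono_f
  haveI := hS.epi_g
  -- sections of the kernel
  let L : (Coh.structureModule X ⟶ S.X₁) →ₗ[k] (Coh.structureModule X ⟶ S.X₂) :=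
    Linear.rightComp k (Coh.structureModule X) S.f
  have hL : Function.Injective L := fun a b hab => (cancel_mono S.f).1 hab
  haveI : Module.Finite k (Coh.structureModule X ⟶ S.X₁) := Module.Finite.of_injective L hL
  have hN : Module.finrank k (Coh.structureModule X ⟶ S.X₁) ≤ N := by
    have h1 := LinearMap.finrank_le_finrank_of_injective hL
    have h2 : Module.finrank k (Coh.structureModule X ⟶ S.X₂) = N := by
      rw [Module.finrank_eq_card_basis ε, Fintype.card_fin]
    omega
  obtain ⟨δ, hδ⟩ := exists_epi_freeMod_of_gg k S.X₁ hgg N hN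
  refine ⟨fun ab => ε.repr (δ ab.1 ≫ S.f) ab.2, ?_⟩
  have huc : uc k S.X₂ (fun b => ε b) (fun ab => ε.repr (δ ab.1 ≫ S.f) ab.2) =
      (Sigma.desc δ : FlatMod.freeMod X N ⟶ S.X₁) ≫ S.f := by
    unfold uc
    apply Sigma.hom_ext
    intro a
    rw [Sigma.ι_desc, ← Category.assoc, Sigma.ι_desc]
    exact ε.sum_repr (δ a ≫ S.f)
  rw [huc]
  exact ⟨cokernelEpiComp _ _ ≪≫
    IsColimit.coconePointUniqueUpToIso (colimit.isColimit _) hS.gIsCokernel⟩

end Groth.Agent.Helper1.BD
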