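import Mathlib
import Groth.Agent.Helper1.BD9
import Groth.Agent.Helper1.Dev4

/-!
# BD10: boundedness of the quotients of a coherent module on a closed subscheme of `P^n_k` with
Hilbert function in a finite set
-/

set_option autoImplicit false
set_option linter.style.haveILetI false
set_option linter.unusedSectionVars false

universe u
open CategoryTheory CategoryTheory.Limits AlgebraicGeometry Opposite TensorProduct

namespace Groth.Agent.Helper1.BD

open Groth.Agent.Helper4.SN Groth.Agent.Helper5.PnBridge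

variable (k : Type u) [Field k] {n : ℕ} {X : Scheme.{u}} [X.Over (Spec (CommRingCat.of k))]
  (i : X ⟶ CohB1.ProjSpace n k) [IsClosedImmersion i]
  (hi : i ≫ CohB1.ProjSpace.toSpec n k = X ↘ Spec (CommRingCat.of k))

include hi in
/-- the Hilbert polynomial, for the truncated Euler characteristics -/
theorem exists_poly_eulerCharLE (F : X.Modules) (hF : Coh.IsCoh F) :
    ∃ P : Polynomial ℚ, ∀ d : ℤ,
      (FGA.eulerCharLE k X (Pic13.twistOn k i F d) n : ℚ) = P.eval (d : ℚ) := by
  haveI := isProper_of_closedImmersion k i hi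
  haveI := Groth.Agent.Helper4.NApx82.isNoetherian_of_proper k X
  obtain ⟨P, hP⟩ := exists_poly_int k i hi F hF
  refine ⟨P, fun d => ?_⟩
  rw [← hP d]
  have h := eulerCharLE_eq_chi k n (dim_le k i) (Pic13.twistOn k i F d)
  have h2 : Curv2.euler k X (Pic13.twistOn k i F d) =
      FGA.eulerCharLE k X (Pic13.twistOn k i F d) n := h.symm
  rw [h2]

include hi in
/-- **boundedness of quotients with Hilbert function in a finite set** -/
theorem isBounded_quotients (E : X.Modules) (hE : Coh.IsCoh E) (Φ : Set (ℤ → ℤ))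
    (hΦ : Φ.Finite) :
    Pic13.IsBounded k X (fun F => Coh.IsCoh F ∧ (∃ p : E ⟶ F, Epi p) ∧
      (fun r : ℤ => FGA.eulerCharLE k X (Pic13.twistOn k i F r) n) ∈ Φ) := by
  classical
  haveI := isProper_of_closedImmersion k i hi
  haveI := Groth.Agent.Helper4.NApx82.isNoetherian_of_proper k X
  -- the polynomials
  let Ψ : (ℤ → ℤ) → Polynomial ℚ := fun φ =>
    if h : ∃ P : Polynomial ℚ, ∀ r : ℤ, (φ r : ℚ) = P.eval (r : ℚ) then h.choose else 0
  have hm : ∀ φ : ℤ → ℤ, ∃ m : ℤ, ∀ (F : X.Modules), Coh.IsCoh F → ∀ (p : E ⟶ F), Epi p →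
      (∀ r : ℤ, (FGA.eulerCharLE k X (Pic13.twistOn k i F r) n : ℚ) = (Ψ φ).eval (r : ℚ)) →
        ∀ d : ℤ, m ≤ d → Curv2.IsGloballyGenerated (Pic13.twistOn k i (kernel p) d) :=
    fun φ => exists_gg_kernel k i hi E hE (Ψ φ)
  choose mφ hmφ using hm
  obtain ⟨m, hm⟩ := Finset.exists_le (hΦ.toFinset.image mφ)
  have hm' : ∀ φ ∈ Φ, mφ φ ≤ m := fun φ hφ =>
    hm _ (Finset.mem_image.2 ⟨φ, hΦ.mem_toFinset.2 hφ, rfl⟩)
  -- the sections of `E(m)`
  have hEm : Coh.IsCoh (Pic13.twistOn k i E m) :=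
    Groth.Agent.Lead.Ref1B.isCoh_tensorMod _ _ hE
      (Groth.Agent.Helper1.SerreFin.isCoh_of_isInvertible _ (isInvertible_OX k i m))
  haveI := finite_hom k i hi E hE m
  obtain ⟨N, hN⟩ : ∃ N : ℕ, N = Module.finrank k
    (Coh.structureModule X ⟶ Pic13.twistOn k i E m) := ⟨_, rfl⟩
  let ε : Module.Basis (Fin N) k (Coh.structureModule X ⟶ Pic13.twistOn k i E m) :=
    (Module.finBasis k _).reindex (finCongr hN.symm)
  -- the family
  have hcoh' : Coh.IsCoh (fam k N (Pic13.twistOn k i E m) (fun b => ε b)) :=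
    Groth.Agent.Lead.PerfLib.isCoh_cokernel (Groth.Agent.Helper1.Dev.isCoh_freeMod _ N)
      (Groth.Agent.Lead.FlatUnivJ.isCoh_pullback _ _ hEm) _
  have hcoh : Coh.IsCoh (CohB1.tensorMod (fam k N (Pic13.twistOn k i E m) (fun b => ε b))
      ((Scheme.Modules.pullback (pullback.fst (X ↘ Spec (CommRingCat.of k)) (qq k N N))).obj
        (OX k i (-m)))) :=
    Groth.Agent.Lead.Ref1B.isCoh_tensorMod _ _ hcoh'
      (Groth.Agent.Helper1.SerreFin.isCoh_of_isInvertible _
        (Groth.Agent.Helper4.PullSec.isInvertible_pullback _ (isInvertible_OX k i (-m))))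
  refine ⟨TT k N N, qq k N N, inferInstance, inferInstance, _, hcoh, ?_⟩
  rintro F ⟨hF, ⟨p, hp⟩, hφ⟩
  haveI := hp
  -- the Hilbert polynomial of `F`
  have hex := exists_poly_eulerCharLE k i hi F hF
  have hΨ : ∀ r : ℤ, (FGA.eulerCharLE k X (Pic13.twistOn k i F r) n : ℚ) =
      (Ψ (fun r : ℤ => FGA.eulerCharLE k X (Pic13.twistOn k i F r) n)).eval (r : ℚ) := by
    intro r
    have : Ψ (fun r : ℤ => FGA.eulerCharLE k X (Pic13.twistOn k i F r) n) = hex.choose :=
      dif_pos hex
    rw [this]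
    exact hex.choose_spec r
  have hgg := hmφ _ F hF p hp hΨ m (hm' _ hφ)
  -- the twisted short exact sequence
  have hSX : (ShortComplex.mk (kernel.ι p) p (kernel.condition p)).ShortExact :=
    ShortComplex.ShortExact.mk' (ShortComplex.exact_of_f_is_kernel _ (kernelIsKernel p))
      inferInstance inferInstance
  have hS := Groth.Agent.Helper1.TwistExact.shortExact_map_tensorRightMod hSX (OX k i m)
    (isInvertible_OX k i m)
  haveI : Module.Finite k (Coh.structureModule X ⟶
      ((ShortComplex.mk (kernel.ι p) p (kernel.condition p)).map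
        (DCoh.tensorRightMod (OX k i m))).X₂) := finite_hom k i hi E hE m
  obtain ⟨c, ⟨e1⟩⟩ := exists_matrix k _ hS hgg
    (show Module.Basis (Fin N) k (Coh.structureModule X ⟶
      ((ShortComplex.mk (kernel.ι p) p (kernel.condition p)).map
        (DCoh.tensorRightMod (OX k i m))).X₂) from ε)
  obtain ⟨e2⟩ := nonempty_fibre_iso k (Pic13.twistOn k i E m) (fun b => ε b) c
  obtain ⟨e3⟩ := nonempty_untwistIso k i F m
  exact ⟨pt k c, pt_qq k c, ⟨sliceTensorIso k X (qq k N N) (pt k c) (pt_qq k c) _ (OX k i (-m)) ≪≫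
    PicGrp.tensorModIso (e2 ≪≫ e1) (Iso.refl _) ≪≫ e3⟩⟩

end Groth.Agent.Helper1.BD
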