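import Mathlib
import Groth.Agent.Helper1.BD8
import Groth.Agent.Helper1.QU23
import Groth.Agent.Helper1.HHLes
import Groth.Agent.Helper5.PnBridge2
import Groth.Agent.Helper4.AmpleIso

/-!
# BD11: uniform regularity of the quotients with a given Hilbert polynomial of a coherent module
on a closed subscheme of `P^n_k`, and of their kernels
-/

set_option autoImplicit false
set_option linter.style.haveILetI false
set_option linter.unusedSectionVars false

universe u
open CategoryTheory CategoryTheory.Limits AlgebraicGeometry Opposite TensorProduct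

namespace Groth.Agent.Helper1.BD

open Groth.Agent.Helper1.KzReg Groth.Agent.Helper1.KzLin Groth.Agent.Helper1.ClTr
  Groth.Agent.Helper1.SerreVan Groth.Agent.Helper1.SerreFin

variable (k : Type u) [Field k] {n : ℕ}

local notation "𝕆(" d ")" => Twist.twistProjSpace n k d

/-- the cohomology of the third term of a short exact sequence vanishes when that of the second
term and the next one of the first term do -/
theorem subsingleton_HH_X₃ (S : ShortComplex (CohB1.ProjSpace n k).Modules) (hS : S.ShortExact)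
    (j : ℕ) (h2 : Subsingleton (Coh.HH (CohB1.ProjSpace n k) S.X₂ j))
    (h1 : Subsingleton (Coh.HH (CohB1.ProjSpace n k) S.X₁ (j + 1))) :
    Subsingleton (Coh.HH (CohB1.ProjSpace n k) S.X₃ j) := by
  constructor
  intro x y
  have hx : ∀ z : Coh.HH (CohB1.ProjSpace n k) S.X₃ j, z = 0 := by
    intro z
    have hz : Groth.Agent.Helper1.HHLes.δ k S hS j z = 0 := Subsingleton.elim _ _
    obtain ⟨w, hw⟩ := (Groth.Agent.Helper1.HHLes.exact_g_δ k S hS j z).1 hz
    rw [← hw, Subsingleton.elim w 0, map_zero]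
  exact (hx x).trans (hx y).symm

variable {X : Scheme.{u}} [X.Over (Spec (CommRingCat.of k))]
  (i : X ⟶ CohB1.ProjSpace n k) [IsClosedImmersion i]
  (hi : i ≫ CohB1.ProjSpace.toSpec n k = X ↘ Spec (CommRingCat.of k))

include hi in
/-- **uniform regularity of the quotients with a given Hilbert polynomial, and of their
kernels** -/
theorem exists_reg_kernel (E : X.Modules) (hE : Coh.IsCoh E) (Ψ : Polynomial ℚ) :
    ∃ m : ℤ, ∀ (F : X.Modules), Coh.IsCoh F → ∀ (p : E ⟶ F), Epi p →
      (∀ r : ℤ, (Curv2.euler k X (Pic13.twistOn k i F r) : ℚ) = Ψ.eval (r : ℚ)) →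
        IsReg n k ((Coh.push i).obj (kernel p)) m ∧ IsReg n k ((Coh.push i).obj F) m := by
  haveI := Groth.Agent.Helper4.SN.isProper_of_closedImmersion k i hi
  haveI := Groth.Agent.Helper4.NApx82.isNoetherian_of_proper k X
  have hG := isCoh_push n k i E hE
  obtain ⟨m₀, hm₀⟩ := exists_isReg k ((Coh.push i).obj E) hG
  obtain ⟨m₁, hm₁⟩ := Groth.Agent.Helper1.MF.mumford_quot.{u}
    (Ψ.comp (Polynomial.X + Polynomial.C (m₀ : ℚ)))
  refine ⟨m₀ + max m₁ 0, fun F hF p hp hχ => ?_⟩
  haveI := hp
  have hK : Coh.IsCoh (kernel p) := Groth.Agent.Lead.PerfLib.isCoh_kernel hE hF p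
  have hGK := isCoh_push n k i _ hK
  have hGF := isCoh_push n k i _ hF
  -- the short exact sequence on `X`, pushed forward and twisted
  have hSX : (ShortComplex.mk (kernel.ι p) p (kernel.condition p)).ShortExact :=
    ShortComplex.ShortExact.mk' (ShortComplex.exact_of_f_is_kernel _ (kernelIsKernel p))
      inferInstance inferInstance
  have hSP := shortExact_push i _ hSX
  have hSP' := Groth.Agent.Helper1.TwistExact.shortExact_map_tensorRightMod hSP 𝕆(m₀)
    (isInvertible_twist n k m₀)
  have hreg := hm₁ n k _ hSP'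
    (isCoh_tw n k _ hGK m₀) (isCoh_tw n k _ hG m₀) (isCoh_tw n k _ hGF m₀)
    (isReg_tw_zero k _ m₀ hm₀) (by
      intro r
      obtain ⟨e⟩ := tw_tw_iso n k ((Coh.push i).obj F) m₀ r (m₀ + r) rfl
      have h1 : Groth.Agent.Helper1.MF.chi n k (CohB1.tensorMod
          (CohB1.tensorMod ((Coh.push i).obj F) 𝕆(m₀)) 𝕆(r)) =
          Groth.Agent.Helper1.MF.chi n k (CohB1.tensorMod ((Coh.push i).obj F) 𝕆(m₀ + r)) :=
        Groth.Agent.Helper1.MF.chi_congr n k e
      show ((Groth.Agent.Helper1.MF.chi n k (CohB1.tensorMod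
          (CohB1.tensorMod ((Coh.push i).obj F) 𝕆(m₀)) 𝕆(r)) : ℤ) : ℚ) = _
      rw [h1]
      have h2 := euler_push_tw k i hi F hF.1 (m₀ + r)
      have h5 := hχ (m₀ + r)
      rw [h2] at h5
      rw [Polynomial.eval_comp, Polynomial.eval_add, Polynomial.eval_X, Polynomial.eval_C]
      rw [h5]
      push_cast
      ring_nf)
  have hregK : IsReg n k ((Coh.push i).obj (kernel p)) (m₁ + m₀) :=
    (Groth.Agent.Helper1.QU.isReg_tensor_twist_iff n k _ m₀ m₁).1 hreg
  have hregK' : IsReg n k ((Coh.push i).obj (kernel p)) (m₀ + max m₁ 0) := by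
    have h := isReg_add n k _ hGK (m₁ + m₀) hregK (max m₁ 0 - m₁).toNat
    have e : m₁ + m₀ + ((max m₁ 0 - m₁).toNat : ℤ) = m₀ + max m₁ 0 := by
      rw [Int.toNat_of_nonneg (by have := le_max_left m₁ 0; omega)]
      ring
    rwa [e] at h
  refine ⟨hregK', ?_⟩
  -- the regularity of the quotient
  intro j hj
  have hSPr := Groth.Agent.Helper1.TwistExact.shortExact_map_tensorRightMod hSP
    𝕆(m₀ + max m₁ 0 - j) (isInvertible_twist n k _)
  apply subsingleton_HH_X₃ k _ hSPr j
  · exact subsingleton_HH_of_isReg n k _ hG m₀ hm₀ j hj _ (by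
      have := le_max_right m₁ 0
      omega)
  · exact subsingleton_HH_of_isReg n k _ hGK (m₁ + m₀) hregK (j + 1) (by omega) _ (by
      have := le_max_left m₁ 0
      push_cast
      omega)

end Groth.Agent.Helper1.BD
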