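import Mathlib
import Groth.Agent.Helper1.HT1
import Groth.Agent.Lead.BCMap7
import Groth.Agent.Lead.RPDescA
import Groth.Agent.Lead.StalkPull
import Groth.Agent.Helper4.QcohGlue

/-!
# BT10: relative global generation passes to direct images along an affine base change
-/

set_option autoImplicit false
set_option linter.style.haveILetI false
set_option linter.unusedSectionVars false

universe u
open CategoryTheory CategoryTheory.Limits AlgebraicGeometry Opposite TopologicalSpace
open AlgebraicGeometry.Scheme.Modules

namespace Groth.Agent.Helper1.BT

section Counit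

variable {X Y X' Y' : Scheme.{u}} (f : X ⟶ Y) (g : Y' ⟶ Y) (g' : X' ⟶ X) (f' : X' ⟶ Y')
  (w : f' ≫ g = g' ≫ f) (M : X'.Modules)

/-- `g_* f'_* M ≅ f_* g'_* M` -/
noncomputable def pushSqIso : (pushforward g).obj ((pushforward f').obj M) ≅
    (pushforward f).obj ((pushforward g').obj M) :=
  (pushforwardComp f' g).app M ≪≫ (pushforwardCongr w).app M ≪≫ (pushforwardComp g' f).symm.app M

/-- **compatibility of the counits with the base change morphism** -/
theorem counit_push_eq :
    (Scheme.Modules.pullback f).map (pushSqIso f g g' f' w M).hom ≫
        (pullbackPushforwardAdjunction f).counit.app ((pushforward g').obj M) =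
      CohBC.bc0 g f g' f' w ((pushforward f').obj M) ≫
        (pushforward g').map ((pullbackPushforwardAdjunction f').counit.app M) := by
  have e1 : (Scheme.Modules.pullback f).map (pushSqIso f g g' f' w M).hom ≫
      (pullbackPushforwardAdjunction f).counit.app ((pushforward g').obj M) =
      ((pullbackPushforwardAdjunction f).homEquiv _ _).symm (pushSqIso f g g' f' w M).hom :=
    ((pullbackPushforwardAdjunction f).homEquiv_counit _ _ _).symm
  have e2 : CohBC.bc0 g f g' f' w ((pushforward f').obj M) ≫
      (pushforward g').map ((pullbackPushforwardAdjunction f').counit.app M) =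
      ((pullbackPushforwardAdjunction f).homEquiv _ _).symm
        (CohBC.bc0Adj g f g' f' w ((pushforward f').obj M) ≫
          (pushforward f).map ((pushforward g').map
            ((pullbackPushforwardAdjunction f').counit.app M))) :=
    (Adjunction.homEquiv_naturality_right_symm _ _ _).symm
  rw [e1, e2]
  congr 1
  unfold CohBC.bc0Adj pushSqIso
  simp only [Iso.trans_hom, Iso.app_hom, Iso.symm_hom, Category.assoc]
  have n1 := (pushforwardComp g' f).inv.naturality ((pullbackPushforwardAdjunction f').counit.app M)
  have n2 := (pushforwardCongr w).hom.naturality ((pullbackPushforwardAdjunction f').counit.app M)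
  have n3 := (pushforwardComp f' g).hom.naturality ((pullbackPushforwardAdjunction f').counit.app M)
  simp only [Functor.comp_map, Functor.comp_obj, Functor.id_obj, Functor.id_map] at n1 n2 n3
  rw [← n1, ← reassoc_of% n2, ← reassoc_of% n3, ← Functor.map_comp_assoc,
    Adjunction.right_triangle_components, CategoryTheory.Functor.map_id, Category.id_comp]

end Counit

section Epi

variable {X Y X' Y' : Scheme.{u}} (f : X ⟶ Y) (g : Y' ⟶ Y) [IsAffineHom g] (g' : X' ⟶ X)
  (f' : X' ⟶ Y') (hsq : IsPullback g' f' f g) [QuasiCompact f'] [QuasiSeparated f']

include hsq in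
/-- **relative global generation passes to the direct image along an affine base change** -/
theorem epi_counit_push_of_epi_counit (M : X'.Modules) [M.IsQuasicoherent]
    (h : Epi ((pullbackPushforwardAdjunction f').counit.app M)) :
    Epi ((pullbackPushforwardAdjunction f).counit.app ((pushforward g').obj M)) := by
  haveI : IsAffineHom g' := MorphismProperty.of_isPullback (P := @IsAffineHom) hsq.flip inferInstance
  haveI hP : ((pushforward f').obj M).IsQuasicoherent :=
    Groth.Agent.Helper4.QcohGlue.isQuasicoherent_pushforward f' M
  haveI : ((Scheme.Modules.pullback f').obj ((pushforward f').obj M)).IsQuasicoherent :=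
    Groth.Agent.Lead.StalkPull.isQuasicoherent_pullbackObj f' _
  have hiso : IsIso (CohBC.bc0 g f g' f' hsq.w.symm ((pushforward f').obj M)) := by
    have := Groth.Agent.Lead.BCMap.isIso_bcMap_of_isAffineHom g f f' g' hsq.flip
      ((pushforward f').obj M)
    exact this
  haveI := hiso
  haveI := h
  haveI : Epi ((pushforward g').map ((pullbackPushforwardAdjunction f').counit.app M)) :=
    Groth.Agent.Lead.RPDesc.epi_pushforward_map g'
      (M := (Scheme.Modules.pullback f').obj ((pushforward f').obj M)) (N := M)
      ((pullbackPushforwardAdjunction f').counit.app M)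
  have key := counit_push_eq f g g' f' hsq.w.symm M
  have hepi : Epi ((Scheme.Modules.pullback f).map (pushSqIso f g g' f' hsq.w.symm M).hom ≫
      (pullbackPushforwardAdjunction f).counit.app ((pushforward g').obj M)) := by
    rw [key]
    infer_instance
  exact epi_of_epi ((Scheme.Modules.pullback f).map (pushSqIso f g g' f' hsq.w.symm M).hom) _

end Epi

end Groth.Agent.Helper1.BT
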