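import Mathlib
import Groth.Agent.Helper1.Horseshoe
import Groth.Agent.Helper1.DerLES
import Groth.Agent.Helper1.RDAdd

set_option autoImplicit false

/-!
# Objects acyclic for a left exact functor and exact sequences

The analogue of `ExtAcyc` with `Ext(P, -)` replaced by the right derived functors of a left exact
functor `G`.
-/

namespace Groth.Agent.Helper1.DerAcyc
open CategoryTheory Limits Abelian Groth.Agent.Helper1.DeltaCmp

universe v u v' u'
variable {B : Type u} [Category.{v} B] [Abelian B] [HasInjectiveResolutions B]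
  {C : Type u'} [Category.{v'} C] [Abelian C] (G : B ⥤ C) [G.Additive]

/-- `X` is acyclic for `G` -/
def Acyc (X : B) : Prop := ∀ p : ℕ, IsZero ((G.rightDerived (p + 1)).obj X)

variable {G}

lemma acyc_X₃ {S : ShortComplex B} (hS : S.ShortExact) (h₁ : Acyc G S.X₁) (h₂ : Acyc G S.X₂) :
    Acyc G S.X₃ :=
  fun p => DerLES.isZero_rightDerived_X₃ G S hS p (h₂ p) (h₁ (p + 1))

lemma acyc_X₂ {S : ShortComplex B} (hS : S.ShortExact) (h₁ : Acyc G S.X₁) (h₃ : Acyc G S.X₃) :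
    Acyc G S.X₂ := fun p => by
  obtain ⟨w, e⟩ := Horseshoe.exact_rightDerived_map G S hS (p + 1)
  exact e.isZero_of_both_zeros ((h₁ p).eq_of_src _ _) ((h₃ p).eq_of_tgt _ _)

lemma acyc_of_iso {X Y : B} (e : X ≅ Y) (h : Acyc G X) : Acyc G Y :=
  fun p => (h p).of_iso ((G.rightDerived (p + 1)).mapIso e.symm)

lemma acyc_of_isZero {X : B} (h : IsZero X) : Acyc G X := fun p => by
  haveI : (G.rightDerived (p + 1)).Additive := Groth.Agent.Helper1.RDAdd.rightDerived_additive G (p + 1)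
  exact Functor.map_isZero _ h

variable [PreservesFiniteLimits G]

/-- the four term exact sequence `0 → A → B → C → E → 0` with `A, B, E` acyclic -/
theorem four_term {A₀ A₁ A₂ A₃ : B} (a : A₀ ⟶ A₁) (b : A₁ ⟶ A₂) (c : A₂ ⟶ A₃) [Mono a] [Epi c]
    (w₁ : a ≫ b = 0) (w₂ : b ≫ c = 0) (e₁ : (ShortComplex.mk a b w₁).Exact)
    (e₂ : (ShortComplex.mk b c w₂).Exact)
    (h₀ : Acyc G A₀) (h₁ : Acyc G A₁) (h₃ : Acyc G A₃) :
    Acyc G A₂ ∧ Epi (G.map c) ∧
      ∃ w : G.map b ≫ G.map c = 0, (ShortComplex.mk _ _ w).Exact := by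
  -- the image of `b`
  let K := Abelian.image b
  let π : A₁ ⟶ K := Abelian.factorThruImage b
  let ι : K ⟶ A₂ := Abelian.image.ι b
  have hπι : π ≫ ι = b := Abelian.image.fac b
  have wK₁ : a ≫ π = 0 := by
    rw [← cancel_mono ι, Category.assoc, hπι, w₁, zero_comp]
  have wK₂ : ι ≫ c = 0 := by
    rw [← cancel_epi π, reassoc_of% hπι, w₂, comp_zero]
  let S₁ : ShortComplex B := ShortComplex.mk a π wK₁
  let S₂ : ShortComplex B := ShortComplex.mk ι c wK₂
  have hS₁ : S₁.ShortExact := by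
    have : Mono S₁.f := inferInstanceAs (Mono a)
    have : Epi S₁.g := inferInstanceAs (Epi π)
    refine ShortComplex.ShortExact.mk ?_
    let φ : S₁ ⟶ ShortComplex.mk a b w₁ :=
      { τ₁ := 𝟙 _, τ₂ := 𝟙 _, τ₃ := ι
        comm₁₂ := by simp [S₁]
        comm₂₃ := by simp [S₁, hπι] }
    have : Epi φ.τ₁ := inferInstanceAs (Epi (𝟙 _))
    have : IsIso φ.τ₂ := inferInstanceAs (IsIso (𝟙 _))
    have : Mono φ.τ₃ := inferInstanceAs (Mono ι)
    exact (ShortComplex.exact_iff_of_epi_of_isIso_of_mono φ).2 e₁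
  have hS₂ : S₂.ShortExact := by
    have : Mono S₂.f := inferInstanceAs (Mono ι)
    have : Epi S₂.g := inferInstanceAs (Epi c)
    refine ShortComplex.ShortExact.mk ?_
    let φ : ShortComplex.mk b c w₂ ⟶ S₂ :=
      { τ₁ := π, τ₂ := 𝟙 _, τ₃ := 𝟙 _
        comm₁₂ := by simp [S₂, hπι]
        comm₂₃ := by simp [S₂] }
    have : Epi φ.τ₁ := inferInstanceAs (Epi π)
    have : IsIso φ.τ₂ := inferInstanceAs (IsIso (𝟙 _))
    have : Mono φ.τ₃ := inferInstanceAs (Mono (𝟙 _))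
    exact (ShortComplex.exact_iff_of_epi_of_isIso_of_mono φ).1 e₂
  have hK : Acyc G K := acyc_X₃ hS₁ h₀ h₁
  have hA₂ : Acyc G A₂ := acyc_X₂ hS₂ hK h₃
  have hex₁ := DerLES.shortExact_map G S₁ hS₁ (h₀ 0)
  have hex₂ := DerLES.shortExact_map G S₂ hS₂ (hK 0)
  have hepiπ : Epi (G.map π) := hex₁.epi_g
  have hepic : Epi (G.map c) := hex₂.epi_g
  have hmonoι : Mono (G.map ι) := hex₂.mono_f
  refine ⟨hA₂, hepic, ?_, ?_⟩
  · rw [← Functor.map_comp, w₂, Functor.map_zero]
  · -- exactness of `G A₁ → G A₂ → G A₃`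
    have hex : (ShortComplex.mk (G.map ι) (G.map c)
        (by rw [← Functor.map_comp, wK₂, Functor.map_zero])).Exact := hex₂.exact
    let φ : ShortComplex.mk (G.map b) (G.map c)
        (by rw [← Functor.map_comp, w₂, Functor.map_zero]) ⟶
        ShortComplex.mk (G.map ι) (G.map c)
          (by rw [← Functor.map_comp, wK₂, Functor.map_zero]) :=
      { τ₁ := G.map π, τ₂ := 𝟙 _, τ₃ := 𝟙 _
        comm₁₂ := by
          dsimp
          rw [Category.comp_id, ← Functor.map_comp, hπι]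
        comm₂₃ := by simp }
    have : Epi φ.τ₁ := hepiπ
    have : IsIso φ.τ₂ := inferInstanceAs (IsIso (𝟙 _))
    have : Mono φ.τ₃ := inferInstanceAs (Mono (𝟙 _))
    exact (ShortComplex.exact_iff_of_epi_of_isIso_of_mono φ).2 hex

end Groth.Agent.Helper1.DerAcyc

namespace Groth.Agent.Helper1.DerAcyc
open CategoryTheory Limits Abelian Groth.Agent.Helper1.DeltaCmp

universe v u v' u' v₁ u₁
variable {A : Type u₁} [Category.{v₁} A] [Abelian A]
  {B : Type u} [Category.{v} B] [Abelian B] [HasInjectiveResolutions B]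
  {C : Type u'} [Category.{v'} C] [Abelian C]

/-- Composite of a δ-functor with a left exact functor `G` on a short complex whose middle term is
`T`-acyclic and whose values are `G`-acyclic. -/
theorem effacement_comp (S : ShortComplex A) (T : ℕ → A ⥤ B) (G : B ⥤ C) [G.Additive]
    [PreservesFiniteLimits G]
    (hles : HasLES T S)
    (hex : ∃ w : (T 0).map S.f ≫ (T 0).map S.g = 0,
      (ShortComplex.mk ((T 0).map S.f) ((T 0).map S.g) w).Exact)
    (hmono : Mono ((T 0).map S.f))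
    (hz : ∀ n, IsZero ((T (n + 1)).obj S.X₂))
    (h₁ : ∀ q, Acyc G ((T q).obj S.X₁)) (h₂ : Acyc G ((T 0).obj S.X₂)) :
    (∀ q, Acyc G ((T q).obj S.X₃)) ∧ HasLES (fun n => T n ⋙ G) S := by
  have hzG : ∀ n, IsZero (G.obj ((T (n + 1)).obj S.X₂)) :=
    fun n => Functor.map_isZero _ (hz n)
  constructor
  · intro q
    cases q with
    | zero =>
      obtain ⟨δ, w₁, w₂, ex₁, ex₂⟩ := hles 0
      obtain ⟨w₀, ex₀⟩ := hex
      have : Epi δ := ex₂.epi_f ((hz 0).eq_of_tgt _ _)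
      exact (four_term ((T 0).map S.f) ((T 0).map S.g) δ w₀ w₁ ex₀ ex₁ (h₁ 0) h₂ (h₁ 1)).1
    | succ q =>
      obtain ⟨e⟩ := nonempty_iso_succ hles hz q
      exact acyc_of_iso e.symm (h₁ (q + 2))
  · intro n
    cases n with
    | zero =>
      obtain ⟨δ, w₁, w₂, ex₁, ex₂⟩ := hles 0
      obtain ⟨w₀, ex₀⟩ := hex
      have : Epi δ := ex₂.epi_f ((hz 0).eq_of_tgt _ _)
      obtain ⟨-, hepi, w', ex'⟩ :=
        four_term ((T 0).map S.f) ((T 0).map S.g) δ w₀ w₁ ex₀ ex₁ (h₁ 0) h₂ (h₁ 1)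
      refine ⟨G.map δ, w', (hzG 0).eq_of_tgt _ _, ex', ?_⟩
      exact (ShortComplex.exact_iff_epi _ ((hzG 0).eq_of_tgt _ _)).2 hepi
    | succ n =>
      obtain ⟨δ, w₁, w₂, ex₁, ex₂⟩ := hles (n + 1)
      have : Epi δ := ex₂.epi_f ((hz (n + 1)).eq_of_tgt _ _)
      have : Mono δ := ex₁.mono_g ((hz n).eq_of_src _ _)
      have : IsIso δ := isIso_of_mono_of_epi δ
      refine ⟨G.map δ, (hzG n).eq_of_src _ _, (hzG (n + 1)).eq_of_tgt _ _, ?_, ?_⟩
      · exact (ShortComplex.exact_iff_mono _ ((hzG n).eq_of_src _ _)).2 inferInstance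
      · exact (ShortComplex.exact_iff_epi _ ((hzG (n + 1)).eq_of_tgt _ _)).2 inferInstance

end Groth.Agent.Helper1.DerAcyc
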