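import Groth.Agent.Helper1.RpushComp
import Groth.Agent.Helper1.DerAcyc

/-!
# Degenerate Leray: `Rⁿ(g ∘ f)_* F ≅ g_* Rⁿ f_* F` when all `R^q f_* F` are `g_*`-acyclic
-/

namespace Groth.Agent.Helper1.LerayAff

open CategoryTheory Limits Opposite TopologicalSpace Abelian
open Groth.Agent.Lead.CohTopB
open Groth.Agent.Helper1.DeltaCmp
open Groth.Agent.Helper1.DerAcyc
open Groth.Agent.Helper1.RpushComp

universe u

variable {X Y Z : TopCat.{u}} (f : X ⟶ Y) (g : Y ⟶ Z)

theorem nonempty_iso_Rpush_comp_of_acyclic (n : ℕ) (F : CohTop.Ab X)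
    (h : ∀ q : ℕ, Acyc (CohTop.push g) ((CohTop.Rpush f q).obj F)) :
    Nonempty ((CohTop.Rpush (f ≫ g) n).obj F ≅ (CohTop.push g).obj ((CohTop.Rpush f n).obj F)) := by
  have e : CohTop.Rpush (f ≫ g) 0 ≅ CohTop.Rpush f 0 ⋙ CohTop.push g :=
    (CohTop.push (f ≫ g)).rightDerivedZeroIsoSelf ≪≫ pushCompIso f g ≪≫
      Functor.isoWhiskerRight (CohTop.push f).rightDerivedZeroIsoSelf.symm (CohTop.push g)
  have key : ∀ F : CohTop.Ab X, (∀ q : ℕ, Acyc (CohTop.push g) ((CohTop.Rpush f q).obj F)) →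
      Nonempty (Effacement (fun n => CohTop.Rpush (f ≫ g) n)
        (fun n => CohTop.Rpush f n ⋙ CohTop.push g)
        (fun F => ∀ q : ℕ, Acyc (CohTop.push g) ((CohTop.Rpush f q).obj F)) F) := by
    intro F hF
    obtain ⟨S, hS, hI, rfl⟩ : ∃ (S : ShortComplex (CohTop.Ab X)) (_ : S.ShortExact)
        (_ : Injective S.X₂), S.X₁ = F := ⟨injSC F, injSC_shortExact F, inferInstance, rfl⟩
    have l1 : HasLES (fun n => CohTop.Rpush (f ≫ g) n) S :=
      Horseshoe.hasLES_rightDerived (CohTop.push (f ≫ g)) S hS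
    have hz : ∀ n, IsZero ((CohTop.Rpush f (n + 1)).obj S.X₂) :=
      fun n => Functor.isZero_rightDerived_obj_injective_succ _ _ _
    have h₂ : Acyc (CohTop.push g) ((CohTop.Rpush f 0).obj S.X₂) := by
      refine acyc_of_iso ((CohTop.push f).rightDerivedZeroIsoSelf.app S.X₂).symm ?_
      intro p
      have : TopCat.Sheaf.IsFlasque S.X₂ := isFlasque_of_injective S.X₂
      have : TopCat.Sheaf.IsFlasque ((CohTop.push f).obj S.X₂) :=
        TopCat.Sheaf.IsFlasque.pushforward_isFlasque S.X₂ f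
      exact Groth.Agent.S0456.result g ((CohTop.push f).obj S.X₂) p
    obtain ⟨hQ, l2⟩ := effacement_comp S (fun n => CohTop.Rpush f n) (CohTop.push g)
      (Horseshoe.hasLES_rightDerived (CohTop.push f) S hS)
      (Horseshoe.exact_rightDerived_map (CohTop.push f) S hS 0)
      (Horseshoe.mono_rightDerived_zero_map (CohTop.push f) S hS) hz hF h₂
    exact ⟨{
      S := S
      iso := rfl
      mem := hQ
      zero := fun n => Functor.isZero_rightDerived_obj_injective_succ _ _ _
      zero' := fun n => Functor.map_isZero (CohTop.push g) (hz n)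
      les := l1
      les' := l2 }⟩
  exact nonempty_iso _ e key n F h

end Groth.Agent.Helper1.LerayAff
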