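import Mathlib
import Groth.Agent.Helper1.BT10
import Groth.Agent.Helper1.SV2
import Groth.Agent.Helper1.PF4
import Groth.Agent.Helper1.HP10
import Groth.Agent.Helper1.RPP3
import Groth.Agent.S4456
import Groth.Agent.S4457
import Groth.Agent.Helper4.PullRel
import Groth.Agent.Helper4.PullAmple
import Groth.Agent.Helper4.PullSec
import Groth.Agent.Helper4.PullTensor
import Groth.Agent.Helper4.AmpleLocal
import Groth.Agent.Helper4.RelGenTwist
import Groth.Agent.Helper4.RelCompTwist

/-!
# BT11: uniform vanishing and global generation for direct images along an affine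
base change of finite type
-/

set_option autoImplicit false
set_option linter.style.haveILetI false
set_option linter.unusedSectionVars false

universe u
open CategoryTheory CategoryTheory.Limits AlgebraicGeometry Opposite TopologicalSpace
open AlgebraicGeometry.Scheme.Modules

namespace Groth.Agent.Helper1.BT

/-- a projective morphism (in the sense of `RelProj`) is proper -/
theorem isProper_of_isProjective {X Y : Scheme.{u}} (f : X ⟶ Y)
    (hf : RelProj.IsProjective f) : IsProper f := by
  obtain ⟨𝒮, P, p, chart, e, hgen, hft, hP, hef⟩ := hf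
  haveI : IsProper p := Groth.Agent.Helper1.RPP.isProper_of_isRelProj 𝒮 hgen hft p chart hP
  rw [← hef]
  infer_instance

section Main

variable {X Y X' Y' : Scheme.{u}} [IsNoetherian Y] (f : X ⟶ Y) [IsProper f] (L : X.Modules)
  (hL : PicF.IsInvertible L) (hamp : RelAmple.IsRelAmple f L)
  (g : Y' ⟶ Y) [IsAffineHom g] [LocallyOfFiniteType g] (g' : X' ⟶ X) (f' : X' ⟶ Y')
  (hsq : IsPullback g' f' f g) (G : X'.Modules) (hG : Coh.IsCoh G)

include hL hamp hsq hG in
theorem exists_vanishing_gg_push_affine :
    ∃ N : ℕ, ∀ n : ℕ, n ≥ N →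
      (∀ p : ℕ, p > 0 → IsZero ((Coh.RpushAb f p).obj
        (Coh.toAb (CohB1.tensorMod ((Coh.push g').obj G) (CohB1.tensorPow L n))))) ∧
      Epi ((pullbackPushforwardAdjunction f).counit.app
        (CohB1.tensorMod ((Coh.push g').obj G) (CohB1.tensorPow L n))) := by
  haveI : IsProper f' := MorphismProperty.of_isPullback (P := @IsProper) hsq inferInstance
  haveI : IsAffineHom g' :=
    MorphismProperty.of_isPullback (P := @IsAffineHom) hsq.flip inferInstance
  haveI : IsLocallyNoetherian Y' := LocallyOfFiniteType.isLocallyNoetherian g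
  haveI : CompactSpace Y' := QuasiCompact.compactSpace_of_compactSpace g
  haveI : IsNoetherian Y' := {}
  haveI : CompactSpace X' := QuasiCompact.compactSpace_of_compactSpace f'
  set L' := (Scheme.Modules.pullback g').obj L with hL'def
  have hinv' : PicF.IsInvertible L' := Groth.Agent.Helper4.PullSec.isInvertible_pullback g' hL
  have hamp' : RelAmple.IsRelAmple f' L' := by
    have h1 := Groth.Agent.Helper4.PullRel.isRelAmple_pullback_of_isQuasiAffine f g'
      (Groth.Agent.Helper4.PullAmple.isQuasiAffine_of_isAffineHom g') L hamp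
    rw [hsq.w] at h1
    exact Groth.Agent.Helper4.AmpleLocal.isRelAmple_of_comp f' g L' h1
  haveI : G.IsQuasicoherent := hG.1
  obtain ⟨N₁, hN₁⟩ := Groth.Agent.Helper1.SV.exists_isZero_RpushAb_twist f' L' hinv'
    (fun W hW => hamp'.2 ⟨W, hW⟩) G hG
  obtain ⟨N₂, hN₂⟩ := Groth.Agent.Helper4.RelGenTwist.exists_forall_epi_counit_twist f' L' hamp'
    G hG.2
  refine ⟨N₁ + N₂, fun n hn => ?_⟩
  have hinvn : PicF.IsInvertible (CohB1.tensorPow L n) :=
    Groth.Agent.Helper4.TensorInv.isInvertible_tensorPow hL n
  have hMcoh := Groth.Agent.Helper1.HP.isCoh_twistPow hinv' G hG n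
  haveI hMq : (CohB1.tensorMod G (CohB1.tensorPow L' n)).IsQuasicoherent := hMcoh.1
  let ε : CohB1.tensorMod ((Coh.push g').obj G) (CohB1.tensorPow L n) ≅
      (pushforward g').obj (CohB1.tensorMod G (CohB1.tensorPow L' n)) :=
    Groth.Agent.Helper1.PF.projIso g' G (CohB1.tensorPow L n) hinvn ≪≫
      (pushforward g').mapIso (PicGrp.tensorModIso (Iso.refl G)
        (Groth.Agent.Helper4.PullTensor.pullPowIso g' hL n))
  refine ⟨fun p hp => ?_, ?_⟩
  · obtain ⟨q, rfl⟩ : ∃ q, p = q + 1 := ⟨p - 1, by omega⟩
    have hz : IsZero ((Coh.RpushAb f' (q + 1)).obj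
        (Coh.toAb (CohB1.tensorMod G (CohB1.tensorPow L' n)))) := hN₁ n (by omega) q
    obtain ⟨e1⟩ := Groth.Agent.S4456.result g' f (CohB1.tensorMod G (CohB1.tensorPow L' n)) (q + 1)
    obtain ⟨e2⟩ := Groth.Agent.S4457.result f' g (CohB1.tensorMod G (CohB1.tensorPow L' n)) (q + 1)
    have hz2 : IsZero ((Coh.RpushAb (f' ≫ g) (q + 1)).obj
        (Coh.toAb (CohB1.tensorMod G (CohB1.tensorPow L' n)))) :=
      IsZero.of_iso ((Coh.pushAb g).map_isZero hz) e2
    have hz3 : IsZero ((Coh.RpushAb (g' ≫ f) (q + 1)).obj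
        (Coh.toAb (CohB1.tensorMod G (CohB1.tensorPow L' n)))) := by
      rw [hsq.w]; exact hz2
    have hz4 := IsZero.of_iso hz3 e1
    exact IsZero.of_iso hz4 ((Coh.RpushAb f (q + 1)).mapIso
      ((SheafOfModules.toSheaf X.ringCatSheaf).mapIso ε))
  · have h1 : Epi ((pullbackPushforwardAdjunction f').counit.app
        (CohB1.tensorMod G (CohB1.tensorPow L' n))) := hN₂ n (by omega)
    have h2 := epi_counit_push_of_epi_counit f g g' f' hsq
      (CohB1.tensorMod G (CohB1.tensorPow L' n)) h1
    haveI := h2
    have nat := (pullbackPushforwardAdjunction f).counit.naturality ε.hom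
    simp only [Functor.comp_map, Functor.comp_obj, Functor.id_obj, Functor.id_map] at nat
    have hepi : Epi (((pullbackPushforwardAdjunction f).counit.app
        (CohB1.tensorMod ((Coh.push g').obj G) (CohB1.tensorPow L n))) ≫ ε.hom) := by
      rw [← nat]
      infer_instance
    haveI := hepi
    have hfac : (pullbackPushforwardAdjunction f).counit.app
        (CohB1.tensorMod ((Coh.push g').obj G) (CohB1.tensorPow L n)) =
        ((pullbackPushforwardAdjunction f).counit.app
        (CohB1.tensorMod ((Coh.push g').obj G) (CohB1.tensorPow L n)) ≫ ε.hom) ≫ ε.inv := by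
      rw [Category.assoc, Iso.hom_inv_id, Category.comp_id]
    rw [hfac]
    infer_instance

end Main

end Groth.Agent.Helper1.BT
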