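import Mathlib
import Groth.Agent.Helper1.BT3
import Groth.Agent.Helper1.PF4
import Groth.Agent.Helper1.HP10
import Groth.Agent.S0792
import Groth.Agent.S0796
import Groth.Agent.S4456
import Groth.Agent.Helper4.PullRel
import Groth.Agent.Helper4.PullTensor
import Groth.Agent.Helper4.RelCompTwist
import Groth.Agent.Helper4.SchAdj

/-!
# BT9: relative Serre vanishing for coherent modules with proper support, and exactness of the
direct images of large twists
-/

set_option autoImplicit false
set_option linter.style.haveILetI false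
set_option linter.unusedSectionVars false

universe u
open CategoryTheory CategoryTheory.Limits AlgebraicGeometry Opposite TopologicalSpace
open AlgebraicGeometry.Scheme.Modules

namespace Groth.Agent.Helper1.BT

section Vanish

variable {X Y : Scheme.{u}}

/-- **relative Serre vanishing for a coherent module whose support is proper over the base** -/
theorem exists_isZero_Rpush_one_of_properSupport [IsNoetherian Y] (f : X ⟶ Y)
    [LocallyOfFiniteType f] [QuasiCompact f] [HasInjectiveResolutions X.Modules]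
    (L : X.Modules) (hL : PicF.IsInvertible L) (hamp : RelAmple.IsRelAmple f L)
    (K : X.Modules) (hK : Coh.IsCoh K) (hs : ClSub.IsProperOver f (CohB1.support K)) :
    ∃ N : ℕ, ∀ n : ℕ, N ≤ n →
      IsZero ((Coh.Rpush f 1).obj ((DCoh.tensorRightMod (CohB1.tensorPow L n)).obj K)) := by
  obtain ⟨Z, i, hi, hprop, K', hq', hft', ⟨e⟩⟩ :=
    (Groth.Agent.S0792.result f K hK.1 hK.2).1 hs
  haveI := hi
  haveI := hprop
  have hK' : Coh.IsCoh K' := ⟨hq', hft'⟩
  have hL' : RelAmple.IsRelAmple (i ≫ f) ((Scheme.Modules.pullback i).obj L) :=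
    Groth.Agent.Helper4.PullRel.isRelAmple_pullback_of_isEmbedding f i
      i.isClosedEmbedding.isEmbedding L hamp
  have hL'inv : PicF.IsInvertible ((Scheme.Modules.pullback i).obj L) :=
    Groth.Agent.Helper4.RelCompTwist.isInvertible_of_isRelAmple _ _ hL'
  obtain ⟨n₀, hn₀⟩ := Groth.Agent.Helper1.SV.exists_isZero_RpushAb_twist (i ≫ f)
    ((Scheme.Modules.pullback i).obj L) hL'inv (fun W hW => hL'.2 ⟨W, hW⟩) K' hK'
  refine ⟨n₀, fun n hn => ?_⟩
  apply Groth.Agent.Helper4.SN210.isZero_Rpush_of_isZero_RpushAb f _ 1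
  have hinv := Groth.Agent.Helper4.TensorInv.isInvertible_tensorPow hL n
  let ε : CohB1.tensorMod K (CohB1.tensorPow L n) ≅
      (Scheme.Modules.pushforward i).obj
        (CohB1.tensorMod K' (CohB1.tensorPow ((Scheme.Modules.pullback i).obj L) n)) :=
    PicGrp.tensorModIso e.symm (Iso.refl _) ≪≫
      Groth.Agent.Helper1.PF.projIso i K' (CohB1.tensorPow L n) hinv ≪≫
      (Scheme.Modules.pushforward i).mapIso
        (PicGrp.tensorModIso (Iso.refl K') (Groth.Agent.Helper4.PullTensor.pullPowIso i hL n))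
  haveI : Coh.IsQCoh (CohB1.tensorMod K'
      (CohB1.tensorPow ((Scheme.Modules.pullback i).obj L) n)) :=
    (Groth.Agent.Helper1.HP.isCoh_twistPow hL'inv K' hK' n).1
  obtain ⟨e2⟩ := Groth.Agent.S4456.result i f
    (CohB1.tensorMod K' (CohB1.tensorPow ((Scheme.Modules.pullback i).obj L) n)) 1
  have hz := (hn₀ n hn 0).of_iso e2
  exact hz.of_iso ((Coh.RpushAb f 1).mapIso
    ((SheafOfModules.toSheaf X.ringCatSheaf).mapIso ε))

end Vanish

section Exact

variable {X Y : Scheme.{u}} (f : X ⟶ Y) [HasInjectiveResolutions X.Modules]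

/-- a left exact functor `Φ ⋙ f_*` (with `Φ` exact) preserves the exactness of `C` as soon as
`R¹ f_*` of the image under `Φ` of the first syzygy vanishes -/
theorem exact_map_push_of_isZero (Φ : X.Modules ⥤ X.Modules) [Φ.PreservesZeroMorphisms]
    [PreservesFiniteLimits Φ]
    (hΦ : ∀ S : ShortComplex X.Modules, S.ShortExact → (S.map Φ).ShortExact)
    (C : ShortComplex X.Modules) (hC : C.Exact)
    (h1 : IsZero ((Coh.Rpush f 1).obj (Φ.obj (kernel (kernel.lift C.g C.f C.zero))))) :
    (C.map (Φ ⋙ Coh.push f)).Exact := by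
  haveI : PreservesLimitsOfSize.{u, u} (Scheme.Modules.pushforward f) :=
    (Scheme.Modules.pullbackPushforwardAdjunction f).rightAdjoint_preservesLimits
  haveI : PreservesFiniteLimits (Scheme.Modules.pushforward f) :=
    PreservesLimitsOfSize.preservesFiniteLimits _
  let e : C.X₁ ⟶ kernel C.g := kernel.lift C.g C.f C.zero
  haveI he : Epi e := hC.epi_kernelLift
  let S₁ : ShortComplex X.Modules := ShortComplex.mk (kernel.ι e) e (kernel.condition e)
  have hS₁ : S₁.ShortExact :=
    ShortComplex.ShortExact.mk' (ShortComplex.exact_kernel e) inferInstance inferInstance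
  have hB := Groth.Agent.Helper4.SN225.shortExact_map_push f (hΦ S₁ hS₁) h1
  haveI he' : Epi ((pushforward f).map (Φ.map e)) := hB.epi_g
  -- the kernel is preserved
  have w₃ : (Φ ⋙ Coh.push f).map (kernel.ι C.g) ≫ (Φ ⋙ Coh.push f).map C.g = 0 := by
    rw [← Functor.map_comp, kernel.condition, Functor.map_zero]
  have hT₃ : (ShortComplex.mk _ _ w₃).Exact := by
    apply ShortComplex.exact_of_f_is_kernel
    exact (KernelFork.mapIsLimit _ (kernelIsKernel C.g) (Φ ⋙ Coh.push f))
  have hea : e ≫ kernel.ι C.g = C.f := kernel.lift_ι C.g C.f C.zero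
  let φ : C.map (Φ ⋙ Coh.push f) ⟶ ShortComplex.mk _ _ w₃ :=
    { τ₁ := (pushforward f).map (Φ.map e)
      τ₂ := 𝟙 _
      τ₃ := 𝟙 _
      comm₁₂ := by
        show (pushforward f).map (Φ.map e) ≫ (pushforward f).map (Φ.map (kernel.ι C.g)) =
          (pushforward f).map (Φ.map C.f) ≫ 𝟙 _
        rw [Category.comp_id, ← Functor.map_comp, ← Functor.map_comp, hea]
      comm₂₃ := by
        show 𝟙 _ ≫ (pushforward f).map (Φ.map C.g) = (pushforward f).map (Φ.map C.g) ≫ 𝟙 _
        rw [Category.comp_id, Category.id_comp] }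
  haveI : Epi φ.τ₁ := he'
  haveI : IsIso φ.τ₂ := inferInstanceAs (IsIso (𝟙 _))
  haveI : Mono φ.τ₃ := inferInstanceAs (Mono (𝟙 _))
  exact (ShortComplex.exact_iff_of_epi_of_isIso_of_mono φ).2 hT₃

end Exact

end Groth.Agent.Helper1.BT
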