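import Groth.Agent.Helper1.Bridge8
import Groth.Agent.Helper1.FlatCxBC

set_option autoImplicit false

/-!
# `dRank` through an arbitrary field-valued point
-/

namespace Groth.Agent.Helper1.BaseChart

open CategoryTheory Limits HomologicalComplex AlgebraicGeometry TensorProduct
open Groth.Agent.Helper1.FlatCx

universe u

section algebra

variable {ι : Type} {c : ComplexShape ι}

/-- over a field, `dRank` is the dimension of the homology -/
lemma dRank_field {K : Type u} [Field K] (Q : HomologicalComplex (ModuleCat.{u} K) c) (p : ι)
    (x' : PrimeSpectrum K) : CohIII.dRank Q p x' = Module.finrank K (Q.homology p) := by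
  set κ' := x'.asIdeal.ResidueField
  have hg : (algebraMap K κ').Flat := RingHom.flat_algebraMap_iff.mpr inferInstance
  unfold CohIII.dRank
  have e2 := (bcHomologyIso (algebraMap K κ') hg Q p).toLinearEquiv
  rw [e2.finrank_eq]
  have e3 := finrank_extendScalars (R := K) (S := κ') (Q.homology p)
  exact e3.trans (Module.finrank_baseChange)

/-- the dimension of the homology of the base change to a field `K` is `dRank` at the image point -/
theorem finrank_bcCx_field {A : Type u} [CommRing A] {K : Type u} [Field K] [Algebra A K]
    (P : HomologicalComplex (ModuleCat.{u} A) c) (p : ι) (x' : PrimeSpectrum K) :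
    Module.finrank K ((CohIII.bcCx (algebraMap A K) P).homology p) =
      CohIII.dRank P p (PrimeSpectrum.comap (algebraMap A K) x') := by
  rw [← dRank_baseChange P p x', dRank_field]

end algebra

end Groth.Agent.Helper1.BaseChart
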