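import Groth.Agent.Helper1.BaseChart10

set_option autoImplicit false

/-!
# Affine charts of the base: sections of the higher direct images, linearly
-/

namespace Groth.Agent.Helper1.BaseChart

open CategoryTheory Limits AlgebraicGeometry Opposite TopologicalSpace Topology
open Groth.Agent.Helper4

universe u

variable {X Y : Scheme.{u}} (f : X ⟶ Y) (V : Y.Opens) [IsAffine (V : Scheme.{u})]

/-- the higher direct image of the chart -/
noncomputable abbrev NV [HasInjectiveResolutions (XV f V).Modules] (F : X.Modules) (p : ℕ) :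
    (V : Scheme.{u}).Modules :=
  (Coh.Rpush (f ∣_ V) p).obj (FV f V F)

/-- `Hᵖ(f⁻¹V, F) ≃ Γ(V, Rᵖ f_* F)`, linearly over `Γ(V, O)` -/
theorem nonempty_linearEquiv_sections [QuasiCompact f] [QuasiSeparated f]
    [HasInjectiveResolutions (XV f V).Modules] (F : X.Modules) [Coh.IsQCoh F] (p : ℕ) :
    letI := chartOver f V
    Nonempty (Coh.HH (XV f V) (FV f V F) p ≃ₗ[AV V] Γ(NV f V F p, ⊤)) := by
  letI := chartOver f V
  haveI : Coh.IsQCoh (FV f V F) := inferInstance
  obtain ⟨ψ, hψ⟩ := Groth.Agent.Helper1.SecLin.exists_addEquiv_sections_Rpush (f ∣_ V)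
    (FV f V F) p
  refine ⟨{ ψ with map_smul' := fun a x => ?_ }⟩
  have h := hψ a x
  have e : Coh.toGlobal (XV f V ↘ Spec (CommRingCat.of (AV V))) a = (f ∣_ V).appTop.hom a :=
    congrArg (fun φ : AV V →+* Coh.Γtop (XV f V) => φ a)
      (Groth.Agent.Helper1.RpCoh.toGlobal_comp_isoSpec (f ∣_ V))
  show ψ (Sheaf.H.map (Coh.smulAb (FV f V F)
    (Coh.toGlobal (XV f V ↘ Spec (CommRingCat.of (AV V))) a)) p x) = _
  rw [e]
  exact h

end Groth.Agent.Helper1.BaseChart
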