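import Groth.Agent.Helper1.BaseChart11

set_option autoImplicit false

/-!
# Affine charts of the base: transfer of local constancy
-/

namespace Groth.Agent.Helper1.BaseChart

open CategoryTheory Limits AlgebraicGeometry Opposite TopologicalSpace Topology

universe u

variable {Y : Scheme.{u}} (V : Y.Opens) [IsAffine (V : Scheme.{u})]

/-- the inverse of the chart -/
noncomputable def chartInv (x : PrimeSpectrum (AV V)) : Y := ((V : Scheme.{u}).isoSpec.inv x).1

lemma chartInv_mem (x : PrimeSpectrum (AV V)) : chartInv V x ∈ V :=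
  ((V : Scheme.{u}).isoSpec.inv x).2

lemma chartPt_chartInv (x : PrimeSpectrum (AV V)) :
    chartPt V (chartInv V x) (chartInv_mem V x) = x := by
  show (V : Scheme.{u}).isoSpec.hom ((V : Scheme.{u}).isoSpec.inv x) = x
  rw [← Scheme.Hom.comp_apply, Iso.inv_hom_id]
  rfl

lemma continuous_chartInv : Continuous (chartInv V) :=
  continuous_subtype_val.comp (V : Scheme.{u}).isoSpec.inv.continuous

variable {α : Type*} (φ : Y → α) (ψ : PrimeSpectrum (AV V) → α)
  (h : ∀ (y : Y) (hy : y ∈ V), ψ (chartPt V y hy) = φ y)

include h in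
lemma eq_comp_chartInv : ψ = φ ∘ chartInv V := by
  funext x
  have := h (chartInv V x) (chartInv_mem V x)
  rw [chartPt_chartInv] at this
  exact this

include h in
/-- local constancy on the base gives local constancy on the chart -/
lemma isLocallyConstant_chart (hφ : IsLocallyConstant φ) : IsLocallyConstant ψ := by
  rw [eq_comp_chartInv V φ ψ h]
  exact hφ.comp_continuous (continuous_chartInv V)

include h in
/-- local constancy on the chart gives local constancy near the points of `V` -/
lemma exists_open_const (hψ : IsLocallyConstant ψ) (y : Y) (hy : y ∈ V) :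
    ∃ U : Y.Opens, y ∈ U ∧ ∀ y' ∈ U, φ y' = φ y := by
  have hO : {x | ψ x = ψ (chartPt V y hy)} ∈ 𝓝 (chartPt V y hy) :=
    (hψ.isOpen_fiber _).mem_nhds rfl
  obtain ⟨W, hyW, hWV, hW⟩ := exists_open_of_nhds V y hy _ hO
  refine ⟨W, hyW, fun y' hy' => ?_⟩
  have h1 := hW y' (hWV hy') hy'
  simp only [Set.mem_setOf_eq] at h1
  rw [h y' (hWV hy'), h y hy] at h1
  exact h1

end Groth.Agent.Helper1.BaseChart
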