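import Groth.Agent.Helper1.DRankZero
import Groth.Agent.Helper1.FlatCxBC2
import Groth.Agent.Helper1.FlatCxChain

set_option autoImplicit false

/-!
# `dRank` as the rank of the homology when `T_p` is exact
-/

namespace Groth.Agent.Helper1.DRankZero

open CategoryTheory Limits MonoidalCategory HomologicalComplex TensorProduct
open Groth.Agent.Helper1.FlatCx Groth.Agent.Helper1.BCFlatCoh

universe u

variable {A : Type u} [CommRing A] [IsNoetherianRing A]
  (P : ChainComplex (ModuleCat.{u} A) ℤ)
  (hP : ∀ i, Module.Finite A (P.X i) ∧ Module.Flat A (P.X i)) (p : ℤ)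

include hP in
theorem rankAtStalk_homology_eq_dRank
    (hex : (CohIII.TFun P p).PreservesMonomorphisms ∧ (CohIII.TFun P p).PreservesEpimorphisms)
    (x : PrimeSpectrum A) :
    Module.rankAtStalk (P.homology p) x = CohIII.dRank P p x := by
  have hflat : ∀ i, Module.Flat A (P.X i) := fun i => (hP i).2
  haveI := (hP p).1
  haveI : Module.Finite A (P.homology p) := finite_homology P p
  haveI : Module.Flat A (P.homology p) := flat_homology_of_exact P hflat p hex
  have hO : Module.Flat A (P.opcycles (p - 1)) :=
    (chain_preservesEpi_iff P hflat p (p - 1) (by ring)).mp hex.2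
  let κ := x.asIdeal.ResidueField
  have e := bcHomologyIsoOfFlatOpcycles κ P p (p - 1) (by simp) (by simp) (hflat (p - 1)) hO
  unfold CohIII.dRank
  rw [← e.toLinearEquiv.finrank_eq, finrank_extendScalars, Module.rankAtStalk_eq]

end Groth.Agent.Helper1.DRankZero
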