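import Groth.Agent.Helper1.BaseChart12
import Groth.Agent.Helper1.DRankRank
import Groth.Agent.Helper4.FinLocFree5

set_option autoImplicit false

/-!
# Quasi-coherent modules on an affine scheme with finite flat global sections are locally free
-/

namespace Groth.Agent.Helper1.BaseChart

open CategoryTheory Limits AlgebraicGeometry Opposite TopologicalSpace Topology
open Groth.Agent.Helper4 Groth.Agent.Helper4.FinLocFree Groth.Agent.Helper4.StalkDict
open Scheme.Modules

universe u

set_option backward.isDefEq.respectTransparency false in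
/-- a quasi-coherent module on an affine scheme whose global sections are finitely presented and
flat is free near every point, of rank the rank of the module of global sections -/
theorem exists_isFreeAlong_of_flat_sections (D : Scheme.{u}) [IsAffine D] (N : D.Modules)
    [N.IsQuasicoherent] (hfp : Module.FinitePresentation Γ(D, ⊤) Γ(N, ⊤))
    (hflat : Module.Flat Γ(D, ⊤) Γ(N, ⊤)) (v : D) :
    ∃ V' : D.Opens, v ∈ V' ∧ IsFreeAlong N V'.ι
      (Module.rankAtStalk (R := Γ(D, ⊤)) Γ(N, ⊤)
        ((isAffineOpen_top D).primeIdealOf ⟨v, trivial⟩)) := by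
  have hU := isAffineOpen_top D
  have hv : v ∈ (⊤ : D.Opens) := trivial
  haveI : Module.Finite Γ(D, ⊤) Γ(N, ⊤) := inferInstance
  have hfree : Module.Free (D.presheaf.stalk v) (N.presheaf.stalk v) := by
    letI := sectionModStalk N v hv
    letI := D.presheaf.algebra_section_stalk ⟨v, hv⟩
    haveI := hU.isLocalization_stalk ⟨v, hv⟩
    haveI := isLocalizedModule_germ hU N v hv
    haveI : IsScalarTower Γ(D, ⊤) (D.presheaf.stalk v) (N.presheaf.stalk v) :=
      IsScalarTower.of_algebraMap_smul (fun r m => rfl)
    haveI : Module.Finite (D.presheaf.stalk v) (N.presheaf.stalk v) :=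
      Module.Finite.of_isLocalizedModule (hU.primeIdealOf ⟨v, hv⟩).asIdeal.primeCompl
        (germLin N v hv)
    haveI : Module.Flat (D.presheaf.stalk v) (N.presheaf.stalk v) :=
      Module.Flat.of_isLocalizedModule (R := Γ(D, ⊤)) (M := Γ(N, ⊤)) (D.presheaf.stalk v)
        (hU.primeIdealOf ⟨v, hv⟩).asIdeal.primeCompl (germLin N v hv)
    exact Module.free_of_flat_of_isLocalRing
  obtain ⟨V', n, hvV', hfr⟩ := exists_isFreeAlong_of_fp_of_free_stalk N hU v hv hfp hfree
  obtain ⟨b⟩ := FinLocFree2.nonempty_basis_stalk_of_isFreeAlong N hfr v hvV'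
  have h1 : Module.finrank (D.presheaf.stalk v) (N.presheaf.stalk v) = n := by
    rw [Module.finrank_eq_card_basis b]
    simp
  have h2 := FinLocFree5.finrank_stalk_eq_rankAtStalk N hU v hv
  rw [h1] at h2
  rw [← h2]
  exact ⟨V', hvV', hfr⟩

end Groth.Agent.Helper1.BaseChart
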