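import Groth.Agent.Helper1.BaseChart13

set_option autoImplicit false

/-!
# Affine charts of the base: exactness of `T^p` on a chart gives local freeness of `Rᵖ f_* F`
-/

namespace Groth.Agent.Helper1.BaseChart

open CategoryTheory Limits AlgebraicGeometry Opposite TopologicalSpace Topology
open Groth.Agent.Helper4 Groth.Agent.Helper4.FinLocFree
open Scheme.Modules Groth.Agent.Helper1.FlatCx

universe u

variable {X Y : Scheme.{u}} (f : X ⟶ Y) (V : Y.Opens) [IsAffine (V : Scheme.{u})]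

lemma primeIdealOf_top_eq_chartPt (y : Y) (hy : y ∈ V) :
    (isAffineOpen_top (V : Scheme.{u})).primeIdealOf ⟨⟨y, hy⟩, trivial⟩ = chartPt V y hy :=
  (isAffineOpen_top (V : Scheme.{u})).primeIdealOf_eq_map_closedPoint _

theorem exists_free_nhd_of_exact [IsProper f] [IsLocallyNoetherian Y]
    [HasInjectiveResolutions X.Modules] (F : X.Modules) (hF : Coh.IsCoh F)
    (L : ChainComplex (ModuleCat.{u} (AV V)) ℤ)
    (hLff : ∀ i, Module.Finite (AV V) (L.X i) ∧ Module.Free (AV V) (L.X i))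
    (hrank : ∀ (p : ℕ) (y : Y) (hy : y ∈ V), CohIII.dRank L (-(p : ℤ)) (chartPt V y hy) =
      CohIII.fiberRank f F p y)
    (hhom : letI := chartOver f V
      ∀ p : ℕ, Nonempty (L.homology (-(p : ℤ)) ≃ₗ[AV V] Coh.HH (XV f V) (FV f V F) p))
    (p : ℕ)
    (hex : (CohIII.TFun L (-(p : ℤ))).PreservesMonomorphisms ∧
      (CohIII.TFun L (-(p : ℤ))).PreservesEpimorphisms)
    (y : Y) (hy : y ∈ V) :
    ∃ U : Y.Opens, y ∈ U ∧ Nonempty (((Coh.Rpush f p).obj F).restrict U.ι ≅
      FlatMod.freeMod (↑U) (CohIII.fiberRank f F p y)) := by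
  letI := chartOver f V
  have hV : IsAffineOpen V := ‹IsAffine (V : Scheme.{u})›
  haveI : IsNoetherianRing (AV V) := isNoetherian_chart V hV
  haveI : F.IsQuasicoherent := hF.1
  haveI := SchAdj.isGrothendieckAbelian_modules (f ⁻¹ᵁ V : Scheme.{u})
  haveI : HasInjectiveResolutions (XV f V).Modules := inferInstance
  haveI : Coh.IsQCoh (FV f V F) := inferInstance
  haveI : (NV f V F p).IsQuasicoherent := Groth.Agent.S0030.result (f ∣_ V) (FV f V F) p
  obtain ⟨e1⟩ := hhom p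
  obtain ⟨e2⟩ := nonempty_linearEquiv_sections f V F p
  let e := e1.trans e2
  have hP : ∀ i, Module.Finite (AV V) (L.X i) ∧ Module.Flat (AV V) (L.X i) := fun i => by
    haveI := (hLff i).2
    exact ⟨(hLff i).1, inferInstance⟩
  haveI := (hP (-(p : ℤ))).1
  haveI : Module.Finite (AV V) (L.homology (-(p : ℤ))) := finite_homology L _
  haveI : Module.Flat (AV V) (L.homology (-(p : ℤ))) :=
    flat_homology_of_exact L (fun i => (hP i).2) _ hex
  haveI : Module.Finite (AV V) Γ(NV f V F p, ⊤) := Module.Finite.equiv e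
  have hfp : Module.FinitePresentation (AV V) Γ(NV f V F p, ⊤) :=
    Module.finitePresentation_of_finite _ _
  have hflat : Module.Flat (AV V) Γ(NV f V F p, ⊤) := Module.Flat.of_linearEquiv e.symm
  obtain ⟨V', hvV', hfr⟩ := exists_isFreeAlong_of_flat_sections (V : Scheme.{u}) (NV f V F p)
    hfp hflat ⟨y, hy⟩
  have hr : Module.rankAtStalk (R := Γ((V : Scheme.{u}), ⊤)) Γ(NV f V F p, ⊤)
      ((isAffineOpen_top (V : Scheme.{u})).primeIdealOf ⟨⟨y, hy⟩, trivial⟩) =
      CohIII.fiberRank f F p y := by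
    rw [primeIdealOf_top_eq_chartPt, ← hrank p y hy,
      ← Groth.Agent.Helper1.DRankZero.rankAtStalk_homology_eq_dRank L hP _ hex]
    exact congrFun (Module.rankAtStalk_eq_of_equiv e.symm) _
  rw [hr] at hfr
  obtain ⟨i⟩ := Groth.Agent.Helper1.RpRestr.nonempty_iso f V p
  let j : ((Coh.Rpush f p).obj F).restrict V.ι ≅ NV f V F p := i.app F
  have hfr' : IsFreeAlong (((Coh.Rpush f p).obj F).restrict V.ι) V'.ι
      (CohIII.fiberRank f F p y) := hfr.of_iso j.symm
  obtain ⟨k⟩ := hfr'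
  have hfr'' : IsFreeAlong ((Coh.Rpush f p).obj F) (V'.ι ≫ V.ι) (CohIII.fiberRank f F p y) :=
    ⟨(restrictFunctorComp V'.ι V.ι).app _ ≪≫ k⟩
  refine ⟨(V'.ι ≫ V.ι).opensRange, ⟨⟨⟨y, hy⟩, hvV'⟩, rfl⟩, hfr''.opensRange _⟩

end Groth.Agent.Helper1.BaseChart
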