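import Groth.Agent.Helper1.BaseChart1
import Groth.Agent.Helper1.RpCoh2

set_option autoImplicit false

/-!
# Affine charts of the base
-/

namespace Groth.Agent.Helper1.BaseChart

open CategoryTheory Limits AlgebraicGeometry Opposite TopologicalSpace
open Groth.Agent.Helper4

universe u

variable {X Y : Scheme.{u}} (f : X ⟶ Y) (V : Y.Opens)

/-- the ring of the chart -/
abbrev AV : Type u := Γ((V : Scheme.{u}), ⊤)

/-- the source of the chart -/
abbrev XV : Scheme.{u} := (f ⁻¹ᵁ V : X.Opens)

/-- the restriction of a module to the chart -/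
noncomputable abbrev FV (F : X.Modules) : (XV f V).Modules := F.restrict (f ⁻¹ᵁ V).ι

variable [IsAffine (V : Scheme.{u})]

/-- the structure morphism of the chart -/
noncomputable abbrev chartHom : XV f V ⟶ Spec (CommRingCat.of (AV V)) :=
  (f ∣_ V) ≫ (V : Scheme.{u}).isoSpec.hom

/-- the chart as a scheme over `Spec Γ(V, O)` -/
@[reducible] noncomputable def chartOver : (XV f V).Over (Spec (CommRingCat.of (AV V))) :=
  ⟨chartHom f V⟩

lemma isProper_chart [IsProper f] : IsProper (chartHom f V) := by
  unfold chartHom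
  infer_instance

lemma isNoetherian_chart [IsLocallyNoetherian Y] (hV : IsAffineOpen V) :
    IsNoetherianRing (AV V) := by
  haveI : IsNoetherianRing Γ(Y, V) := IsLocallyNoetherian.component_noetherian ⟨V, hV⟩
  exact isNoetherianRing_of_ringEquiv _
    (Scheme.restrictFunctorΓ.app (op V)).symm.commRingCatIsoToRingEquiv

lemma isCoh_FV (F : X.Modules) (hF : Coh.IsCoh F) : Coh.IsCoh (FV f V F) :=
  haveI : F.IsQuasicoherent := hF.1
  ⟨inferInstance, FTRestrict.isFT_restrict _ F hF.2⟩

end Groth.Agent.Helper1.BaseChart
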