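import Groth.Agent.Helper1.BaseChart2
import Groth.Agent.Helper5.AffFlat1

set_option autoImplicit false

/-!
# Affine charts of the base: flatness
-/

namespace Groth.Agent.Helper1.BaseChart

open CategoryTheory Limits AlgebraicGeometry Opposite TopologicalSpace
open Groth.Agent.Helper4

universe u

lemma flat_compHom_of_bijective {R R' N : Type u} [CommRing R] [CommRing R'] [AddCommGroup N]
    [Module R N] (φ : R' →+* R) (hφ : Function.Bijective φ) (h : Module.Flat R N) :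
    @Module.Flat R' N _ _ (Module.compHom N φ) := by
  letI : Algebra R' R := φ.toAlgebra
  letI : Module R' N := Module.compHom N φ
  haveI : IsScalarTower R' R N := IsScalarTower.of_algebraMap_smul fun a s => rfl
  haveI : Module.Flat R' R := by
    let eq : R' ≃ₗ[R'] R := LinearEquiv.ofBijective (Algebra.linearMap R' R) hφ
    exact Module.Flat.of_linearEquiv eq.symm
  exact Module.Flat.trans R' R N

variable {X Y : Scheme.{u}} (f : X ⟶ Y) (V : Y.Opens) [IsAffine (V : Scheme.{u})]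

set_option backward.isDefEq.respectTransparency false in
theorem isFlatOver_chart (F : X.Modules) [F.IsQuasicoherent] (hfl : FlatMod.IsFlatOver f F) :
    FlatMod.IsFlatOver (chartHom f V) (FV f V F) := by
  intro x
  obtain ⟨W', hW', hxW', -⟩ := exists_isAffineOpen_mem_and_subset (x := x)
    (U := (⊤ : (XV f V).Opens)) trivial
  have e : W' ≤ (chartHom f V) ⁻¹ᵁ ⊤ := fun _ _ => trivial
  refine (Groth.Agent.Helper5.AffFlat.flat_sections_iff (chartHom f V) (FV f V F)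
    (isAffineOpen_top _) hW' e).mpr ?_ x hxW'
  have hW : IsAffineOpen ((f ⁻¹ᵁ V).ι ''ᵁ W') := hW'.image_of_isOpenImmersion _
  have hV'' : IsAffineOpen (V.ι ''ᵁ ⊤) := (isAffineOpen_top _).image_of_isOpenImmersion _
  have e0 : W' ≤ (f ∣_ V) ⁻¹ᵁ ⊤ := fun _ _ => trivial
  have e' : (f ⁻¹ᵁ V).ι ''ᵁ W' ≤ f ⁻¹ᵁ (V.ι ''ᵁ ⊤) :=
    (Set.image_mono e0).trans (image_morphismRestrict_preimage f V ⊤).le
  letI mR : Module Γ(Y, V.ι ''ᵁ ⊤) Γ(F, (f ⁻¹ᵁ V).ι ''ᵁ W') :=
    Module.compHom _ (f.appLE (V.ι ''ᵁ ⊤) ((f ⁻¹ᵁ V).ι ''ᵁ W') e').hom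
  have h1 : Module.Flat Γ(Y, V.ι ''ᵁ ⊤) Γ(F, (f ⁻¹ᵁ V).ι ''ᵁ W') :=
    (Groth.Agent.Helper5.AffFlat.flat_sections_iff f F hV'' hW e').mp (fun x _ => hfl x)
  let φ : Γ(Spec (CommRingCat.of (AV V)), ⊤) →+* Γ(Y, V.ι ''ᵁ ⊤) :=
    (V : Scheme.{u}).isoSpec.hom.appTop.hom
  have hφ : Function.Bijective φ :=
    ConcreteCategory.bijective_of_isIso ((V : Scheme.{u}).isoSpec.hom.appTop)
  have h2 := flat_compHom_of_bijective φ hφ h1
  have heq : (Module.compHom Γ(FV f V F, W') ((chartHom f V).appLE ⊤ W' e).hom) =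
      (@Module.compHom _ _ _ _ _ mR _ φ) := by
    apply Module.ext'
    intro r m
    have key : (chartHom f V).appLE ⊤ W' e =
        (V : Scheme.{u}).isoSpec.hom.appTop ≫ (f ∣_ V).appLE ⊤ W' e0 := by
      unfold chartHom
      rw [Scheme.Hom.comp_appLE]
      rfl
    rw [morphismRestrict_appLE] at key
    have hsm : ∀ (s : Γ(XV f V, W')), (s • m : Γ(FV f V F, W')) =
        (show Γ(F, (f ⁻¹ᵁ V).ι ''ᵁ W') from
          ((((f ⁻¹ᵁ V).ι.appIso W').inv.hom s) • (show Γ(F, (f ⁻¹ᵁ V).ι ''ᵁ W') from m))) :=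
      fun s => rfl
    change (((chartHom f V).appLE ⊤ W' e).hom r) • m = _
    rw [hsm, key, Scheme.Opens.ι_appIso]
    rfl
  rw [heq]
  exact h2

end Groth.Agent.Helper1.BaseChart
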