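import Groth.Agent.Helper1.BaseChart3

set_option autoImplicit false

/-!
# Affine charts of the base: the fibre square
-/

namespace Groth.Agent.Helper1.BaseChart

open CategoryTheory Limits AlgebraicGeometry Opposite TopologicalSpace

universe u

variable {X Y : Scheme.{u}} (f : X ⟶ Y) (V : Y.Opens) (y : Y) (hy : y ∈ V)

/-- the point `Spec κ(y) ⟶ V` -/
noncomputable def hLift : Spec (Y.residueField y) ⟶ (V : Scheme.{u}) :=
  IsOpenImmersion.lift V.ι (Y.fromSpecResidueField y) (by
    rw [Scheme.range_fromSpecResidueField, Scheme.Opens.range_ι]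
    simpa using hy)

@[reassoc]
lemma hLift_ι : hLift V y hy ≫ V.ι = Y.fromSpecResidueField y :=
  IsOpenImmersion.lift_fac _ _ _

/-- the inclusion of the fibre into the chart -/
noncomputable def gLift : f.fiber y ⟶ XV f V :=
  IsOpenImmersion.lift (f ⁻¹ᵁ V).ι (f.fiberι y) (by
    rw [Scheme.Hom.range_fiberι, Scheme.Opens.range_ι]
    intro x hx
    have : f x = y := hx
    show f x ∈ V
    rw [this]
    exact hy)

@[reassoc]
lemma gLift_ι : gLift f V y hy ≫ (f ⁻¹ᵁ V).ι = f.fiberι y :=
  IsOpenImmersion.lift_fac _ _ _

lemma gLift_comm :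
    gLift f V y hy ≫ (f ∣_ V) = f.fiberToSpecResidueField y ≫ hLift V y hy := by
  rw [← cancel_mono V.ι, Category.assoc, Category.assoc, morphismRestrict_ι, hLift_ι,
    gLift_ι_assoc]
  exact f.fiber_fac y

lemma isPullback_top :
    IsPullback (gLift f V y hy) (f.fiberToSpecResidueField y) (f ∣_ V) (hLift V y hy) := by
  have h0 : IsPullback (f.fiberι y) (f.fiberToSpecResidueField y) f
      (Y.fromSpecResidueField y) := IsPullback.of_hasPullback _ _
  rw [← gLift_ι f V y hy, ← hLift_ι V y hy] at h0
  exact IsPullback.of_right h0 (gLift_comm f V y hy) (isPullback_morphismRestrict f V).flip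

variable [IsAffine (V : Scheme.{u})]

/-- the `Γ(V, O)`-algebra structure of the residue field -/
@[reducible] noncomputable def chartAlgebra : Algebra (AV V) (Y.residueField y) :=
  (Spec.preimage (hLift V y hy ≫ (V : Scheme.{u}).isoSpec.hom)).hom.toAlgebra

lemma specMap_chartAlgebra :
    letI := chartAlgebra V y hy
    Spec.map (CommRingCat.ofHom (algebraMap (AV V) (Y.residueField y))) =
      hLift V y hy ≫ (V : Scheme.{u}).isoSpec.hom := by
  letI := chartAlgebra V y hy
  exact Spec.map_preimage _

/-- the fibre square of the chart -/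
theorem isPullback_chart :
    letI := chartAlgebra V y hy
    IsPullback (gLift f V y hy) (f.fiberToSpecResidueField y) (chartHom f V)
      (Spec.map (CommRingCat.ofHom (algebraMap (AV V) (Y.residueField y)))) := by
  letI := chartAlgebra V y hy
  refine IsPullback.of_iso (isPullback_top f V y hy) (Iso.refl _) (Iso.refl _) (Iso.refl _)
    (V : Scheme.{u}).isoSpec (by simp) (by simp) (by simp [chartHom]) ?_
  rw [Iso.refl_hom, Category.id_comp]
  exact (specMap_chartAlgebra V y hy).symm

end Groth.Agent.Helper1.BaseChart
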