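import Groth.Agent.Helper1.BaseChart5

set_option autoImplicit false

/-!
# Affine charts of the base: `fiberRank = dRank`
-/

namespace Groth.Agent.Helper1.BaseChart

open CategoryTheory Limits AlgebraicGeometry Opposite TopologicalSpace

universe u

variable {X Y : Scheme.{u}} (f : X ⟶ Y) (V : Y.Opens) (y : Y) (hy : y ∈ V)

lemma hLift_apply (x' : Spec (Y.residueField y)) : hLift V y hy x' = ⟨y, hy⟩ := by
  apply Subtype.ext
  have h := congrArg (fun φ : Spec (Y.residueField y) ⟶ Y => φ x') (hLift_ι V y hy)
  simp only [Scheme.Hom.comp_apply] at h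
  rw [Scheme.fromSpecResidueField_apply] at h
  exact h

variable [IsAffine (V : Scheme.{u})]

/-- the point of the chart corresponding to `y` -/
noncomputable def chartPt : PrimeSpectrum (AV V) := (V : Scheme.{u}).isoSpec.hom ⟨y, hy⟩

lemma comap_chartAlgebra (x' : PrimeSpectrum (Y.residueField y)) :
    letI := chartAlgebra V y hy
    PrimeSpectrum.comap (algebraMap (AV V) (Y.residueField y)) x' = chartPt V y hy := by
  letI := chartAlgebra V y hy
  have h := congrArg (fun φ : Spec (Y.residueField y) ⟶ Spec (CommRingCat.of (AV V)) => φ x')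
    (specMap_chartAlgebra V y hy)
  simp only [Scheme.Hom.comp_apply] at h
  rw [hLift_apply] at h
  exact h

end Groth.Agent.Helper1.BaseChart
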