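import Groth.Agent.Helper1.BaseChart6

set_option autoImplicit false

/-!
# Affine charts of the base: `fiberRank = dRank`
-/

namespace Groth.Agent.Helper1.BaseChart

open CategoryTheory Limits AlgebraicGeometry Opposite TopologicalSpace

universe u

variable {X Y : Scheme.{u}} (f : X ⟶ Y) (V : Y.Opens) [IsAffine (V : Scheme.{u})]
  (F : X.Modules)

/-- the base change property of a complex over the chart -/
def HasBC (L : ChainComplex (ModuleCat.{u} (AV V)) ℤ) : Prop :=
  letI := chartOver f V
  ∀ (A' : Type u) [CommRing A'] [Algebra (AV V) A'] (X' : Scheme.{u})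
    [X'.Over (Spec (CommRingCat.of A'))] (g' : X' ⟶ XV f V)
    (_ : IsPullback g' (X' ↘ Spec (CommRingCat.of A')) (XV f V ↘ Spec (CommRingCat.of (AV V)))
      (Spec.map (CommRingCat.ofHom (algebraMap (AV V) A')))) (n : ℕ),
    Nonempty ((CohIII.bcCx (algebraMap (AV V) A') L).homology (-(n : ℤ)) ≃ₗ[A']
      Coh.HH X' ((Scheme.Modules.pullback g').obj (FV f V F)) n)

theorem fiberRank_eq_dRank_of_hasBC (L : ChainComplex (ModuleCat.{u} (AV V)) ℤ)
    (hL : HasBC f V F L) (p : ℕ) (y : Y) (hy : y ∈ V) :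
    CohIII.fiberRank f F p y = CohIII.dRank L (-(p : ℤ)) (chartPt V y hy) := by
  letI := chartOver f V
  letI := chartAlgebra V y hy
  letI : (f.fiber y).Over (Spec (CommRingCat.of (Y.residueField y))) :=
    ⟨f.fiberToSpecResidueField y⟩
  obtain ⟨e⟩ := hL (Y.residueField y) (f.fiber y) (gLift f V y hy) (isPullback_chart f V y hy) p
  have h1 := e.finrank_eq
  have h2 := finrank_HH_congr (K := (Y.residueField y)) (fiberModIso f V y hy F) p
  have x' : PrimeSpectrum (Y.residueField y) := ⟨⊥, Ideal.isPrime_bot⟩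
  have h3 := finrank_bcCx_field L (-(p : ℤ)) x'
  rw [comap_chartAlgebra] at h3
  rw [← h3, h1, h2]
  rfl

end Groth.Agent.Helper1.BaseChart
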