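import Groth.Agent.Helper1.BaseChart8
import Groth.Agent.Helper1.RpRestr
import Groth.Agent.Helper1.RpCoh
import Groth.Agent.Helper9.Van1
import Groth.Agent.S0030

set_option autoImplicit false

/-!
# Affine charts of the base: higher direct images
-/

namespace Groth.Agent.Helper1.BaseChart

open CategoryTheory Limits AlgebraicGeometry Opposite TopologicalSpace
open Groth.Agent.Helper4

universe u

variable {X Y : Scheme.{u}} (f : X ⟶ Y) (V : Y.Opens) [IsAffine (V : Scheme.{u})]

/-- vanishing of `Rⁿ f_* F` over an affine open from the vanishing of `Hⁿ(f⁻¹V, F)` -/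
theorem isZero_Rpush_restrict [QuasiCompact f] [QuasiSeparated f]
    [HasInjectiveResolutions X.Modules] (F : X.Modules) [Coh.IsQCoh F] (n : ℕ)
    (h : Subsingleton (Coh.HH (XV f V) (FV f V F) n)) :
    IsZero (((Coh.Rpush f n).obj F).restrict V.ι) := by
  haveI := SchAdj.isGrothendieckAbelian_modules (f ⁻¹ᵁ V : Scheme.{u})
  haveI : HasInjectiveResolutions (f ⁻¹ᵁ V : Scheme.{u}).Modules := inferInstance
  haveI : Coh.IsQCoh (FV f V F) := inferInstance
  obtain ⟨i⟩ := Groth.Agent.Helper1.RpRestr.nonempty_iso f V n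
  let j : ((Coh.Rpush f n).obj F).restrict V.ι ≅
      (Coh.Rpush (f ∣_ V) n).obj (FV f V F) := i.app F
  refine IsZero.of_iso ?_ j
  haveI : ((Coh.Rpush (f ∣_ V) n).obj (FV f V F)).IsQuasicoherent :=
    Groth.Agent.S0030.result (f ∣_ V) (FV f V F) n
  apply Groth.Agent.Helper9.Van1.isZero_of_sections_top
  intro s
  obtain ⟨ψ, -⟩ := Groth.Agent.Helper1.SecLin.exists_addEquiv_sections_Rpush (f ∣_ V)
    (FV f V F) n
  haveI : Subsingleton (((Coh.Rpush (f ∣_ V) n).obj (FV f V F)).val.obj (op ⊤)) :=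
    ψ.symm.toEquiv.subsingleton
  exact Subsingleton.elim (α := ((Coh.Rpush (f ∣_ V) n).obj (FV f V F)).val.obj (op ⊤)) _ _

end Groth.Agent.Helper1.BaseChart
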