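import Mathlib
import Groth.Agent.Helper1.FlatCxBC2

/-!
# The bridge: `H_p(P_B)` restricted to `A` is `T_p(B) = H_p(P ⊗_A B)`
-/

set_option autoImplicit false

namespace Groth.Agent.Helper1.FlatCx

open CategoryTheory CategoryTheory.Limits TensorProduct MonoidalCategory

universe u

variable {A B : Type u} [CommRing A] [CommRing B] [Algebra A B]

/-- The underlying additive equivalence (as an `A`-linear map for the tensor product structure). -/
noncomputable def extRestrictAux (M : ModuleCat.{u} A) :
    (((ModuleCat.restrictScalars (algebraMap A B)).obj (ModuleCat.of B B)) ⊗[A] M) ≃ₗ[A] (M ⊗[A] B) :=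
  TensorProduct.congr (restrictSelfEquiv A B) (LinearEquiv.refl A M) ≪≫ₗ TensorProduct.comm A B M

lemma extRestrictAux_tmul (M : ModuleCat.{u} A) (b : B) (m : M) :
    extRestrictAux (B := B) M (b ⊗ₜ[A] m) = m ⊗ₜ[A] b := rfl

lemma extRestrictAux_smul (M : ModuleCat.{u} A) (a : A)
    (x : (ModuleCat.restrictScalars (algebraMap A B)).obj
      ((ModuleCat.extendScalars (algebraMap A B)).obj M)) :
    extRestrictAux (B := B) M (a • x) = a • extRestrictAux (B := B) M x := by
  rw [ModuleCat.restrictScalars.smul_def]
  refine TensorProduct.induction_on (motive := fun x => extRestrictAux (B := B) M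
    (@HSMul.hSMul B ((ModuleCat.extendScalars (algebraMap A B)).obj M) _ _ (algebraMap A B a) x) =
      a • extRestrictAux (B := B) M x) x ?_ ?_ ?_
  · refine (congrArg (extRestrictAux (B := B) M)
      (smul_zero (A := ((ModuleCat.extendScalars (algebraMap A B)).obj M)) _)).trans ?_
    exact (map_zero (extRestrictAux (B := B) M)).trans ((smul_zero a).symm.trans
      (congrArg (a • ·) (map_zero (extRestrictAux (B := B) M)).symm))
  · intro b' m
    let b : B := b'
    refine (congrArg (extRestrictAux (B := B) M)
      (ModuleCat.ExtendScalars.smul_tmul (f := algebraMap A B) (algebraMap A B a) b m)).trans ?_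
    refine (extRestrictAux_tmul M (algebraMap A B a * b) m).trans ?_
    refine Eq.trans ?_ (congrArg (a • ·) (extRestrictAux_tmul M b m).symm)
    rw [TensorProduct.smul_tmul', TensorProduct.smul_tmul, Algebra.smul_def]
  · intro x y hx hy
    refine (congrArg (extRestrictAux (B := B) M)
      (smul_add (A := ((ModuleCat.extendScalars (algebraMap A B)).obj M)) _ x y)).trans ?_
    refine (map_add (extRestrictAux (B := B) M) _ _).trans ?_
    refine (congrArg₂ (· + ·) hx hy).trans ?_
    rw [← smul_add, ← map_add]

/-- `restrict (B ⊗ M) ≅ M ⊗ B` as `A`-modules. -/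
noncomputable def extRestrictEquiv (M : ModuleCat.{u} A) :
    ((ModuleCat.restrictScalars (algebraMap A B)).obj
      ((ModuleCat.extendScalars (algebraMap A B)).obj M)) ≃ₗ[A] (M ⊗[A] B) :=
  { toFun := fun x => extRestrictAux (B := B) M x
    invFun := fun y => (extRestrictAux (B := B) M).symm y
    left_inv := fun x => (extRestrictAux (B := B) M).symm_apply_apply x
    right_inv := fun y => (extRestrictAux (B := B) M).apply_symm_apply y
    map_add' := fun x y => map_add (extRestrictAux (B := B) M) x y
    map_smul' := fun a x => extRestrictAux_smul M a x }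

lemma extRestrictEquiv_map_symm {M N : ModuleCat.{u} A} (f : M ⟶ N) (y : M ⊗[A] B) :
    extRestrictEquiv (B := B) N (((ModuleCat.restrictScalars (algebraMap A B)).map
      ((ModuleCat.extendScalars (algebraMap A B)).map f)).hom
      ((extRestrictEquiv (B := B) M).symm y)) = f.hom.rTensor B y := by
  induction y using TensorProduct.induction_on with
  | zero => rw [map_zero, map_zero, map_zero, map_zero]
  | tmul m b => rfl
  | add a b ha hb => rw [map_add, map_add, map_add, map_add, ha, hb]

lemma extRestrictEquiv_map {M N : ModuleCat.{u} A} (f : M ⟶ N)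
    (x : (ModuleCat.restrictScalars (algebraMap A B)).obj
      ((ModuleCat.extendScalars (algebraMap A B)).obj M)) :
    extRestrictEquiv (B := B) N (((ModuleCat.restrictScalars (algebraMap A B)).map
      ((ModuleCat.extendScalars (algebraMap A B)).map f)).hom x) =
      f.hom.rTensor B (extRestrictEquiv (B := B) M x) := by
  have := extRestrictEquiv_map_symm (B := B) f (extRestrictEquiv (B := B) M x)
  rwa [LinearEquiv.symm_apply_apply] at this

/-- The natural isomorphism `restrict ∘ extend ≅ - ⊗ B`. -/
noncomputable def extRestrictNatIso :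
    ModuleCat.extendScalars.{u,u,u} (algebraMap A B) ⋙
        ModuleCat.restrictScalars.{u,u,u} (algebraMap A B) ≅
      tensorRight (ModuleCat.of A B) :=
  NatIso.ofComponents (fun M => (extRestrictEquiv (B := B) M).toModuleIso) (by
    intro M N f
    ext x
    exact extRestrictEquiv_map f x)

variable {ι : Type} {c : ComplexShape ι}

noncomputable def restrictBcIso (P : HomologicalComplex (ModuleCat.{u} A) c) :
    ((ModuleCat.restrictScalars (algebraMap A B)).mapHomologicalComplex c).obj
      (CohIII.bcCx (algebraMap A B) P) ≅ CohIII.tensorObj P (ModuleCat.of A B) :=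
  HomologicalComplex.Hom.isoOfComponents (fun i => (extRestrictNatIso (B := B)).app (P.X i))
    (fun i j _ => ((extRestrictNatIso (B := B)).hom.naturality (P.d i j)).symm)

lemma preservesHomology_restrictScalars :
    (ModuleCat.restrictScalars.{u, u, u} (algebraMap A B)).PreservesHomology := by
  have h1 : PreservesFiniteLimits (ModuleCat.restrictScalars.{u, u, u} (algebraMap A B)) :=
    inferInstance
  have h2 : PreservesFiniteColimits (ModuleCat.restrictScalars.{u, u, u} (algebraMap A B)) :=
    inferInstance
  have := ((Functor.exact_tfae (ModuleCat.restrictScalars.{u, u, u} (algebraMap A B))).out 3 2)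
  exact this.mp ⟨h1, h2⟩

noncomputable def restrictHomologyIso (K : HomologicalComplex (ModuleCat.{u} B) c) (p : ι) :
    (((ModuleCat.restrictScalars (algebraMap A B)).mapHomologicalComplex c).obj K).homology p ≅
      (ModuleCat.restrictScalars (algebraMap A B)).obj (K.homology p) :=
  haveI := preservesHomology_restrictScalars (A := A) (B := B)
  (K.sc p).mapHomologyIso (ModuleCat.restrictScalars (algebraMap A B))

/-- The bridge: `H_p(P_B)` restricted to `A` is `T_p(B)`. -/
noncomputable def bridge (P : HomologicalComplex (ModuleCat.{u} A) c) (p : ι) :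
    (ModuleCat.restrictScalars (algebraMap A B)).obj
      ((CohIII.bcCx (algebraMap A B) P).homology p) ≅
      (CohIII.tensorObj P (ModuleCat.of A B)).homology p :=
  (restrictHomologyIso (CohIII.bcCx (algebraMap A B) P) p).symm ≪≫
    HomologicalComplex.homologyMapIso (restrictBcIso P) p

end Groth.Agent.Helper1.FlatCx
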