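import Groth.Agent.Helper1.Bridge9
import Groth.Agent.Helper1.BaseChart1
import Groth.Agent.Helper1.FlatCxLocal2
import Groth.Agent.Helper6.HProj
import Groth.Agent.S2379
import Groth.Prelude.Def_PerfAux

set_option autoImplicit false

/-!
# Betti numbers of the fibres of a flat projective family over a DVR (S11560)
-/

namespace Groth.Agent.Helper1.BettiDVR

open CategoryTheory Limits AlgebraicGeometry
open Groth.Agent.Helper1.BaseChart Groth.Agent.Helper1.FlatCx

universe u

theorem betti_eq_iff (R : Type u) [CommRing R] [IsDomain R]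
    [IsDiscreteValuationRing R] (X : Scheme.{u}) [X.Over (Spec (CommRingCat.of R))] (n : ℕ)
    (ι : X ⟶ CohB1.ProjSpaceOver n (Spec (CommRingCat.of R))) [IsClosedImmersion ι]
    (hι : ι ≫ CohB1.ProjSpaceOver.toBase n (Spec (CommRingCat.of R)) = X ↘ Spec (CommRingCat.of R))
    (F : X.Modules) (hF : Coh.IsCoh F) (hfl : FlatMod.IsFlatOver (X ↘ Spec (CommRingCat.of R)) F)
    (p : ℕ) (s : ↥(Spec (CommRingCat.of R))) (hs : s ≠ genericPoint ↥(Spec (CommRingCat.of R))) :
    PerfAux.betti (X ↘ Spec (CommRingCat.of R)) F s p =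
        PerfAux.betti (X ↘ Spec (CommRingCat.of R)) F (genericPoint ↥(Spec (CommRingCat.of R))) p ↔
      Module.Free R (Coh.HH X F p) ∧ Module.Free R (Coh.HH X F (p + 1)) := by
  haveI : IsProper (CohB1.ProjSpaceOver.toBase n (Spec (CommRingCat.of R))) :=
    Groth.Agent.Helper6.HProj.isProper_toBase n _
  haveI : IsProper (X ↘ Spec (CommRingCat.of R)) := by
    rw [← hι]
    infer_instance
  obtain ⟨L, hLff, -, -, -, hrank, -, hlin⟩ :=
    Groth.Agent.Helper1.Bridge.exists_complex'' R X F hF hfl
  have hLflat : ∀ i, Module.Flat R (L.X i) := fun i => by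
    haveI := (hLff i).2
    infer_instance
  have hLfin : ∀ i, Module.Finite R (L.homology i) := fun i => by
    haveI := (hLff i).1
    exact finite_homology L i
  -- the two points
  have hgen : genericPoint ↥(Spec (CommRingCat.of R)) = (⊥ : PrimeSpectrum R) :=
    genericPoint_eq_bot_of_affine (CommRingCat.of R)
  have hs' : (s : PrimeSpectrum R) = IsLocalRing.closedPoint R := by
    have hne : (s : PrimeSpectrum R).asIdeal ≠ ⊥ := by
      intro h
      apply hs
      rw [hgen]
      exact PrimeSpectrum.ext h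
    have hmax : (s : PrimeSpectrum R).asIdeal.IsMaximal :=
      Ideal.IsPrime.isMaximal (s : PrimeSpectrum R).isPrime hne
    exact PrimeSpectrum.ext (IsLocalRing.eq_maximalIdeal hmax)
  -- Betti numbers as ranks of the complex
  have hb : ∀ y : PrimeSpectrum R,
      PerfAux.betti (X ↘ Spec (CommRingCat.of R)) F y p = CohIII.dRank L (-(p : ℤ)) y :=
    fun y => (hrank p y).symm
  have hk : CohIII.dRank L (-(p : ℤ)) (IsLocalRing.closedPoint R) =
      Module.finrank (IsLocalRing.ResidueField R)
        ((CohIII.bcCx (algebraMap R (IsLocalRing.ResidueField R)) L).homology (-(p : ℤ))) := by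
    have h := finrank_bcCx_field (K := IsLocalRing.ResidueField R) L (-(p : ℤ))
      (⟨⊥, Ideal.isPrime_bot⟩ : PrimeSpectrum (IsLocalRing.ResidueField R))
    rw [h]
    congr 1
    apply PrimeSpectrum.ext
    change IsLocalRing.maximalIdeal R = Ideal.comap (algebraMap R (IsLocalRing.ResidueField R)) ⊥
    rw [← RingHom.ker_eq_comap_bot]
    exact (IsLocalRing.ker_residue (R := R)).symm
  have hK : CohIII.dRank L (-(p : ℤ)) (⊥ : PrimeSpectrum R) =
      Module.finrank (FractionRing R)
        ((CohIII.bcCx (algebraMap R (FractionRing R)) L).homology (-(p : ℤ))) := by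
    have h := finrank_bcCx_field (K := FractionRing R) L (-(p : ℤ))
      (⟨⊥, Ideal.isPrime_bot⟩ : PrimeSpectrum (FractionRing R))
    rw [h]
    congr 1
    apply PrimeSpectrum.ext
    change (⊥ : Ideal R) = Ideal.comap (algebraMap R (FractionRing R)) ⊥
    rw [← RingHom.ker_eq_comap_bot]
    exact ((RingHom.injective_iff_ker_eq_bot _).mp
      (IsFractionRing.injective R (FractionRing R))).symm
  have key := (Groth.Agent.S2379.result L hLflat hLfin (-(p : ℤ)) (-((p + 1 : ℕ) : ℤ))
    (by push_cast; ring)).2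
  obtain ⟨e0⟩ := hlin p
  obtain ⟨e1⟩ := hlin (p + 1)
  have hbs : PerfAux.betti (X ↘ Spec (CommRingCat.of R)) F s p =
      CohIII.dRank L (-(p : ℤ)) (IsLocalRing.closedPoint R) := by
    rw [← hs']
    exact hb s
  have hbg : PerfAux.betti (X ↘ Spec (CommRingCat.of R)) F
      (genericPoint ↥(Spec (CommRingCat.of R))) p = CohIII.dRank L (-(p : ℤ)) (⊥ : PrimeSpectrum R) := by
    rw [hgen]
    exact hb _
  rw [hbs, hbg, hk, hK, eq_comm, key]
  constructor
  · rintro ⟨h0, h1⟩
    exact ⟨Module.Free.of_equiv e0, Module.Free.of_equiv e1⟩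
  · rintro ⟨h0, h1⟩
    exact ⟨Module.Free.of_equiv e0.symm, Module.Free.of_equiv e1.symm⟩

end Groth.Agent.Helper1.BettiDVR
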