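import Groth.Agent.Helper1.SW5
import Groth.Agent.Helper1.UF9
import Groth.Agent.Helper1.BCFlatCoh2
import Groth.Agent.Helper4.SN144

set_option autoImplicit false
set_option linter.style.haveILetI false
set_option linter.unusedSectionVars false

/-!
# Pic of a product over a field: the fibre conditions for the first projection
-/

namespace Groth.Agent.Helper1.BoxPic

open CategoryTheory AlgebraicGeometry Opposite TopologicalSpace Limits
open Groth.Agent.Helper4.PullUnit

universe u

variable (k : Type u) [Field k] {S T : Scheme.{u}}
  (s : S ⟶ Spec (CommRingCat.of k)) (t : T ⟶ Spec (CommRingCat.of k))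

theorem flat_fst : Flat (pullback.fst s t) := by
  haveI : Flat t := Groth.Agent.Helper4.SN.flat_of_field k t
  exact MorphismProperty.pullback_fst s t inferInstance

theorem fp_fst [IsProper t] : LocallyOfFinitePresentation (pullback.fst s t) := by
  haveI : LocallyOfFinitePresentation t := inferInstance
  exact MorphismProperty.pullback_fst s t inferInstance

theorem proper_fst [IsProper t] : IsProper (pullback.fst s t) :=
  MorphismProperty.pullback_fst s t inferInstance

/-- geometric fibres of the projection are integral -/
theorem geom_fst [GeometricallyIntegral t] (K : Type u) [Field K]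
    (g : Spec (CommRingCat.of K) ⟶ S) :
    IsReduced (pullback (pullback.fst s t) g) ∧ ConnectedSpace ↥(pullback (pullback.fst s t) g) := by
  haveI : IsIntegral (pullback (pullback.fst s t) g) :=
    GeometricallyIntegral.geometrically_isIntegral (f := pullback.fst s t) g
      (pullback.fst _ g) (pullback.snd _ g) (IsPullback.of_hasPullback _ g)
  exact ⟨inferInstance, inferInstance⟩

theorem isIso_appTop_fst [IsProper t] [GeometricallyIntegral t] (y : S) :
    IsIso ((pullback.fst s t).fiberToSpecResidueField y).appTop := by
  haveI := proper_fst k s t
  exact Groth.Agent.Helper1.UF.isIso_appTop_of_geometric (pullback.fst s t)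
    (fun K _ _ g => geom_fst k s t K g) y

end Groth.Agent.Helper1.BoxPic
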