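import Mathlib
import Groth.Agent.Helper1.Chow11

/-!
# Chow's lemma, part 12: `π` is an isomorphism over `U`
-/

set_option autoImplicit false
set_option linter.style.haveILetI false

namespace Groth.Agent.Helper1.Chow

open CategoryTheory Limits AlgebraicGeometry TopologicalSpace

universe u

variable {X S P : Scheme.{u}} (f : X ⟶ S) (g : P ⟶ S) (U : X.Opens)
  (j : (U : Scheme.{u}) ⟶ P) (hj : j ≫ g = U.ι ≫ f)

theorem isIso_ι_of_eq_top {Z : Scheme.{u}} (W : Z.Opens) (hW : W = ⊤) : IsIso W.ι := by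
  subst hW
  rw [← Scheme.topIso_hom]
  infer_instance

theorem hh_preimage_TY : hh f g U j hj ⁻¹ᵁ (pullback.fst f g ⁻¹ᵁ U) = ⊤ := by
  rw [← Scheme.Hom.comp_preimage, hh_fst]
  exact U.ι_preimage_self

theorem hh_restrict_fst :
    (hh f g U j hj ∣_ (pullback.fst f g ⁻¹ᵁ U)) ≫ (pullback.fst f g ∣_ U) =
      (hh f g U j hj ⁻¹ᵁ (pullback.fst f g ⁻¹ᵁ U)).ι := by
  rw [← cancel_mono U.ι, Category.assoc, morphismRestrict_ι, morphismRestrict_ι_assoc, hh_fst]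

theorem isSeparated_fst_restrict [IsSeparated g] : IsSeparated (pullback.fst f g ∣_ U) :=
  IsZariskiLocalAtTarget.restrict (inferInstance : IsSeparated (pullback.fst f g)) _

theorem isClosedImmersion_hh_restrict [IsSeparated g] :
    IsClosedImmersion (hh f g U j hj ∣_ (pullback.fst f g ⁻¹ᵁ U)) := by
  haveI : IsClosedImmersion ((hh f g U j hj ∣_ (pullback.fst f g ⁻¹ᵁ U)) ≫
      (pullback.fst f g ∣_ U)) := by
    rw [hh_restrict_fst]
    haveI := isIso_ι_of_eq_top _ (hh_preimage_TY f g U j hj)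
    infer_instance
  haveI := isSeparated_fst_restrict f g U
  exact IsClosedImmersion.of_comp _ (pullback.fst f g ∣_ U)

theorem isIso_ππ_restrict [IsSeparated g] [QuasiCompact (hh f g U j hj)] :
    IsIso (ππ f g U j hj ∣_ U) := by
  haveI := isClosedImmersion_hh_restrict f g U j hj
  haveI : IsClosedImmersion (ii f g U j hj ∣_ (pullback.fst f g ⁻¹ᵁ U)) :=
    IsZariskiLocalAtTarget.restrict (inferInstance : IsClosedImmersion (ii f g U j hj)) _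
  have hker : (ii f g U j hj ∣_ (pullback.fst f g ⁻¹ᵁ U)).ker =
      (hh f g U j hj ∣_ (pullback.fst f g ⁻¹ᵁ U)).ker := ker_restrict f g U j hj U
  obtain ⟨b, hb⟩ : ∃ b : (ii f g U j hj ⁻¹ᵁ (pullback.fst f g ⁻¹ᵁ U) : Scheme.{u}) ⟶
      (hh f g U j hj ⁻¹ᵁ (pullback.fst f g ⁻¹ᵁ U) : Scheme.{u}),
      b ≫ (hh f g U j hj ∣_ (pullback.fst f g ⁻¹ᵁ U)) =
        ii f g U j hj ∣_ (pullback.fst f g ⁻¹ᵁ U) :=
    ⟨IsClosedImmersion.lift (hh f g U j hj ∣_ (pullback.fst f g ⁻¹ᵁ U))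
      (ii f g U j hj ∣_ (pullback.fst f g ⁻¹ᵁ U)) hker.ge, IsClosedImmersion.lift_fac _ _ _⟩
  obtain ⟨b', hb'⟩ : ∃ b' : (hh f g U j hj ⁻¹ᵁ (pullback.fst f g ⁻¹ᵁ U) : Scheme.{u}) ⟶
      (ii f g U j hj ⁻¹ᵁ (pullback.fst f g ⁻¹ᵁ U) : Scheme.{u}),
      b' ≫ (ii f g U j hj ∣_ (pullback.fst f g ⁻¹ᵁ U)) =
        hh f g U j hj ∣_ (pullback.fst f g ⁻¹ᵁ U) :=
    ⟨IsClosedImmersion.lift (ii f g U j hj ∣_ (pullback.fst f g ⁻¹ᵁ U))
      (hh f g U j hj ∣_ (pullback.fst f g ⁻¹ᵁ U)) hker.le, IsClosedImmersion.lift_fac _ _ _⟩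
  have h1 : b ≫ b' = 𝟙 _ := by
    rw [← cancel_mono (ii f g U j hj ∣_ (pullback.fst f g ⁻¹ᵁ U)), Category.assoc, hb', hb,
      Category.id_comp]
  have h2 : b' ≫ b = 𝟙 _ := by
    rw [← cancel_mono (hh f g U j hj ∣_ (pullback.fst f g ⁻¹ᵁ U)), Category.assoc, hb, hb',
      Category.id_comp]
  have hbi : IsIso b := ⟨b', h1, h2⟩
  have h3 : ππ f g U j hj ∣_ U = b ≫ (hh f g U j hj ⁻¹ᵁ (pullback.fst f g ⁻¹ᵁ U)).ι := by
    rw [← hh_restrict_fst f g U j hj, ← Category.assoc, hb]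
    unfold ππ
    exact morphismRestrict_comp _ _ _
  rw [h3]
  have hιi := isIso_ι_of_eq_top _ (hh_preimage_TY f g U j hj)
  exact @IsIso.comp_isIso _ _ _ _ _ _ _ hbi hιi

end Groth.Agent.Helper1.Chow
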