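import Mathlib

/-!
# Chow's lemma, part 13: topology of finitely many irreducible components
-/

set_option autoImplicit false
set_option linter.style.haveILetI false

namespace Groth.Agent.Helper1.Chow

open TopologicalSpace

variable {X : Type*} [TopologicalSpace X]

/-- the union of the other components -/
def others (Z₀ : Set X) : Set X := ⋃₀ (irreducibleComponents X \ {Z₀})

theorem isClosed_others (hfin : (irreducibleComponents X).Finite) (Z₀ : Set X) :
    IsClosed (others Z₀) := by
  unfold others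
  rw [Set.sUnion_eq_biUnion]
  exact (hfin.subset Set.sdiff_subset).isClosed_biUnion
    (fun Z hZ => isClosed_of_mem_irreducibleComponents Z hZ.1)

theorem compl_others_subset (Z₀ : Set X) : (others Z₀)ᶜ ⊆ Z₀ := by
  intro x hx
  have hx' : x ∈ ⋃₀ irreducibleComponents X := by
    rw [sUnion_irreducibleComponents]; trivial
  obtain ⟨Z, hZ, hxZ⟩ := hx'
  by_cases h : Z = Z₀
  · rw [← h]; exact hxZ
  · exact absurd (show x ∈ others Z₀ from Set.mem_sUnion.2 ⟨Z, ⟨hZ, h⟩, hxZ⟩) hx

theorem exists_mem_not_mem_others (hfin : (irreducibleComponents X).Finite) (Z₀ : Set X)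
    (hZ₀ : Z₀ ∈ irreducibleComponents X) : ∃ z ∈ Z₀, z ∉ others Z₀ := by
  by_contra hcon
  push Not at hcon
  have h1 : Z₀ ⊆ ⋃₀ (irreducibleComponents X \ {Z₀}) := hcon
  have h2 := mem_of_subset_sUnion_irreducibleComponents Z₀ hZ₀ _ (hfin.subset Set.sdiff_subset)
    Set.sdiff_subset h1
  exact h2.2 rfl

/-- an open meeting every irreducible component is dense -/
theorem dense_of_meets (U : Set X) (hU : IsOpen U)
    (h : ∀ Z ∈ irreducibleComponents X, (U ∩ Z).Nonempty) : Dense U := by
  rw [dense_iff_inter_open]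
  intro O hO ⟨x, hx⟩
  have hZ := irreducibleComponent_mem_irreducibleComponents x
  have hpre : IsPreirreducible (irreducibleComponent x) :=
    (isIrreducible_irreducibleComponent (x := x)).2
  obtain ⟨y, hy⟩ := hpre O U hO hU ⟨x, mem_irreducibleComponent, hx⟩
    (by obtain ⟨y, hy1, hy2⟩ := h _ hZ; exact ⟨y, hy2, hy1⟩)
  exact ⟨y, hy.2.1, hy.2.2⟩

/-- a finite intersection of opens meeting every irreducible component does so -/
theorem finset_inf_meets {ι : Type*} (s : Finset ι) (Y : ι → Opens X)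
    (hY : ∀ i, ∀ Z ∈ irreducibleComponents X, ((Y i : Set X) ∩ Z).Nonempty)
    (Z : Set X) (hZ : Z ∈ irreducibleComponents X) :
    (((s.inf Y : Opens X) : Set X) ∩ Z).Nonempty := by
  classical
  induction s using Finset.induction_on with
  | empty =>
    rw [Finset.inf_empty]
    obtain ⟨x, hx⟩ := hZ.1.1
    exact ⟨x, trivial, hx⟩
  | insert a s _ ih =>
    rw [Finset.inf_insert]
    obtain ⟨y, hy⟩ := hZ.1.2 (Y a : Set X) ((s.inf Y : Opens X) : Set X) (Y a).isOpen
      (s.inf Y).isOpen
      (by obtain ⟨y, hy1, hy2⟩ := hY a Z hZ; exact ⟨y, hy2, hy1⟩)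
      (by obtain ⟨y, hy1, hy2⟩ := ih; exact ⟨y, hy2, hy1⟩)
    exact ⟨y, hy.2, hy.1⟩

end Groth.Agent.Helper1.Chow
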