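import Mathlib
import Groth.Agent.Helper1.LinEmb1
import Groth.Agent.Helper1.Segre11

/-!
# Linear embeddings of projective spaces
-/

set_option autoImplicit false
set_option linter.style.haveILetI false

namespace Groth.Agent.Helper1.LinEmb

open CategoryTheory Limits AlgebraicGeometry TopologicalSpace HomogeneousIdeal
  HomogeneousLocalization
open Groth.Agent.Helper1.Segre

universe u

variable (R : Type u) [CommRing R] {m N : ℕ} (a : Fin (m + 1) → Fin (N + 1))

/-- the values of the coordinate functions -/
noncomputable def vals : Fin (N + 1) → MvPolynomial (Fin (m + 1)) R :=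
  Function.extend a MvPolynomial.X 0

theorem vals_a (ha : Function.Injective a) (i : Fin (m + 1)) :
    vals R a (a i) = MvPolynomial.X i := by
  unfold vals
  rw [ha.extend_apply]

theorem vals_of_not (k : Fin (N + 1)) (hk : ∀ i, a i ≠ k) : vals R a k = 0 := by
  unfold vals
  rw [Function.extend_apply' _ _ _ (by rintro ⟨i, hi⟩; exact hk i hi)]
  rfl

theorem vals_isHomogeneous (k : Fin (N + 1)) : (vals R a k).IsHomogeneous 1 := by
  unfold vals
  by_cases h : ∃ i, a i = k
  · rw [Function.extend_def, dif_pos h]
    exact MvPolynomial.isHomogeneous_X R _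
  · rw [Function.extend_apply' _ _ _ h]
    exact MvPolynomial.isHomogeneous_zero _ _ _

/-- the algebra map of the linear projection -/
noncomputable def φ : MvPolynomial (Fin (N + 1)) R →ₐ[R] MvPolynomial (Fin (m + 1)) R :=
  MvPolynomial.aeval (vals R a)

theorem φ_X (k : Fin (N + 1)) : φ R a (MvPolynomial.X k) = vals R a k := by
  unfold φ
  rw [MvPolynomial.aeval_X]

theorem φ_surjective (ha : Function.Injective a) : Function.Surjective (φ R a) := by
  rw [← AlgHom.range_eq_top, _root_.eq_top_iff, ← MvPolynomial.adjoin_range_X, Algebra.adjoin_le_iff]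
  rintro _ ⟨i, rfl⟩
  exact ⟨MvPolynomial.X (a i), by show φ R a _ = _; rw [φ_X, vals_a R a ha]⟩

/-- the graded ring homomorphism -/
noncomputable def φg : CohB1.polyGrading N R →+*ᵍ CohB1.polyGrading m R where
  toRingHom := (φ R a).toRingHom
  map_mem := by
    intro i x hx
    have h1 : x.IsHomogeneous i := hx
    have h2 := h1.aeval (vals R a) (vals_isHomogeneous R a)
    rw [one_mul] at h2
    exact h2

theorem φg_apply (x : MvPolynomial (Fin (N + 1)) R) : φg R a x = φ R a x := rfl

theorem φg_surjective (ha : Function.Injective a) : Function.Surjective (φg R a) :=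
  φ_surjective R a ha

/-- the linear embedding -/
noncomputable def lin (ha : Function.Injective a) :
    Proj (CohB1.polyGrading m R) ⟶ Proj (CohB1.polyGrading N R) :=
  Proj.map (φg R a) (irrelevant_le_of_surjective _ (φg_surjective R a ha))

instance (ha : Function.Injective a) : IsClosedImmersion (lin R a ha) :=
  isClosedImmersion_map _ (φg_surjective R a ha)

theorem lin_preimage_a (ha : Function.Injective a) (i : Fin (m + 1)) :
    lin R a ha ⁻¹ᵁ Proj.basicOpen (CohB1.polyGrading N R) (MvPolynomial.X (a i)) =
      Proj.basicOpen (CohB1.polyGrading m R) (MvPolynomial.X i) := by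
  unfold lin
  rw [Proj.map_preimage_basicOpen, φg_apply, φ_X, vals_a R a ha]

theorem lin_preimage_of_not (ha : Function.Injective a) (k : Fin (N + 1))
    (hk : ∀ i, a i ≠ k) :
    lin R a ha ⁻¹ᵁ Proj.basicOpen (CohB1.polyGrading N R) (MvPolynomial.X k) = ⊥ := by
  unfold lin
  rw [Proj.map_preimage_basicOpen, φg_apply, φ_X, vals_of_not R a k hk]
  exact Proj.basicOpen_zero _

/-- the linear embedding, between projective spaces -/
noncomputable def lin' (ha : Function.Injective a) :
    CohB1.ProjSpace m R ⟶ CohB1.ProjSpace N R := lin R a ha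

instance (ha : Function.Injective a) : IsClosedImmersion (lin' R a ha) :=
  inferInstanceAs (IsClosedImmersion (lin R a ha))

end Groth.Agent.Helper1.LinEmb
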