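import Mathlib
import Groth.Agent.Helper1.LinEmb2

/-!
# Linear embeddings of projective spaces over a base scheme
-/

set_option autoImplicit false
set_option linter.style.haveILetI false

namespace Groth.Agent.Helper1.LinEmb

open CategoryTheory Limits AlgebraicGeometry TopologicalSpace
open Groth.Agent.Helper1.Segre

universe u

variable (S : Scheme.{u}) {m N : ℕ} (a : Fin (m + 1) → Fin (N + 1)) (ha : Function.Injective a)

/-- the projection to `Proj` over the integers -/
noncomputable def prZ' (k : ℕ) : CohB1.ProjSpaceOver k S ⟶ Proj (CohB1.polyGrading k (ULift.{u} ℤ)) :=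
  prZ k S

/-- the linear embedding over `S` -/
noncomputable def linS : CohB1.ProjSpaceOver m S ⟶ CohB1.ProjSpaceOver N S :=
  liftPSO (prZ m S ≫ lin' (ULift.{u} ℤ) a ha) (CohB1.ProjSpaceOver.toBase m S)

@[reassoc (attr := simp)]
theorem linS_toBase : linS S a ha ≫ CohB1.ProjSpaceOver.toBase N S =
    CohB1.ProjSpaceOver.toBase m S := liftPSO_toBase _ _

@[reassoc]
theorem linS_prZ : linS S a ha ≫ prZ N S = prZ m S ≫ lin' (ULift.{u} ℤ) a ha := liftPSO_prZ _ _

@[reassoc]
theorem linS_prZ' : linS S a ha ≫ prZ' S N = prZ' S m ≫ lin (ULift.{u} ℤ) a ha := liftPSO_prZ _ _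

instance : Mono (linS S a ha) := by
  constructor
  intro K u v huv
  apply hom_ext_PSO
  · rw [← cancel_mono (lin' (ULift.{u} ℤ) a ha), Category.assoc, Category.assoc, ← linS_prZ,
      reassoc_of% huv]
  · rw [← linS_toBase S a ha, reassoc_of% huv]

instance : IsClosedImmersion (linS S a ha) := by
  rw [IsClosedImmersion.iff_isProper_and_mono]
  refine ⟨?_, inferInstance⟩
  haveI := Groth.Agent.Helper6.HProj.isProper_toBase m S
  haveI := Groth.Agent.Helper6.HProj.isProper_toBase N S
  haveI : IsProper (linS S a ha ≫ CohB1.ProjSpaceOver.toBase N S) := by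
    rw [linS_toBase]
    infer_instance
  exact IsProper.of_comp (linS S a ha) (CohB1.ProjSpaceOver.toBase N S)

/-- the standard opens -/
noncomputable def DS {N : ℕ} (k : Fin (N + 1)) : (CohB1.ProjSpaceOver N S).Opens :=
  prZ' S N ⁻¹ᵁ Proj.basicOpen (CohB1.polyGrading N (ULift.{u} ℤ)) (MvPolynomial.X k)

theorem iSup_DS (N : ℕ) : ⨆ k : Fin (N + 1), DS S k = ⊤ := by
  unfold DS
  rw [← Scheme.Hom.preimage_iSup, iSup_basicOpen_X]
  rfl

theorem linS_preimage_DS_a (i : Fin (m + 1)) : linS S a ha ⁻¹ᵁ DS S (a i) = DS S i := by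
  unfold DS
  rw [← Scheme.Hom.comp_preimage, linS_prZ', Scheme.Hom.comp_preimage, lin_preimage_a]

theorem linS_preimage_DS_of_not (k : Fin (N + 1)) (hk : ∀ i, a i ≠ k) :
    linS S a ha ⁻¹ᵁ DS S k = ⊥ := by
  unfold DS
  rw [← Scheme.Hom.comp_preimage, linS_prZ', Scheme.Hom.comp_preimage,
    lin_preimage_of_not _ _ _ _ hk]
  rfl

end Groth.Agent.Helper1.LinEmb
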