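import Mathlib

/-!
# Gluing two morphisms on disjoint opens; immersions
-/

set_option autoImplicit false
set_option linter.style.haveILetI false

namespace Groth.Agent.Helper1.LinEmb

open CategoryTheory Limits AlgebraicGeometry TopologicalSpace

universe u

section Glue

variable {W P : Scheme.{u}} (U V : W.Opens) (hcov : U ⊔ V = ⊤) (hdisj : U ⊓ V = ⊥)
  (a : (U : Scheme.{u}) ⟶ P) (b : (V : Scheme.{u}) ⟶ P)

/-- the two opens as a family -/
def fam : Bool → W.Opens := fun i => cond i U V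

theorem isOpenCover_fam (hcov : U ⊔ V = ⊤) : IsOpenCover (fam U V) := by
  rw [IsOpenCover, eq_top_iff, ← hcov]
  exact sup_le (le_iSup (fam U V) true) (le_iSup (fam U V) false)

/-- the two morphisms as a family -/
def famHom : ∀ i : Bool, ((fam U V i : W.Opens) : Scheme.{u}) ⟶ P
  | true => a
  | false => b

include hdisj in
theorem isEmpty_inf : IsEmpty ((U ⊓ V : W.Opens) : Scheme.{u}) := by
  rw [hdisj]
  exact ⟨fun x => x.2⟩

include hcov hdisj in
theorem exists_glue : ∃ c : W ⟶ P, U.ι ≫ c = a ∧ V.ι ≫ c = b := by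
  haveI := isEmpty_inf U V hdisj
  have hdisj' : V ⊓ U = ⊥ := by rw [inf_comm]; exact hdisj
  haveI := isEmpty_inf V U hdisj'
  have hcomp : ∀ i i' : Bool,
      pullback.fst ((W.openCoverOfIsOpenCover (fam U V) (isOpenCover_fam U V hcov)).f i)
        ((W.openCoverOfIsOpenCover (fam U V) (isOpenCover_fam U V hcov)).f i') ≫ famHom U V a b i =
      pullback.snd ((W.openCoverOfIsOpenCover (fam U V) (isOpenCover_fam U V hcov)).f i)
        ((W.openCoverOfIsOpenCover (fam U V) (isOpenCover_fam U V hcov)).f i') ≫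
          famHom U V a b i' := by
    intro i i'
    let e : pullback ((W.openCoverOfIsOpenCover (fam U V) (isOpenCover_fam U V hcov)).f i)
        ((W.openCoverOfIsOpenCover (fam U V) (isOpenCover_fam U V hcov)).f i') ≅
          (fam U V i ⊓ fam U V i' : W.Opens) :=
      (isPullback_opens_inf _ _).isoPullback.symm
    cases i <;> cases i'
    · rw [fst_eq_snd_of_mono_eq]
    · rw [← cancel_epi e.inv]
      exact (isInitialOfIsEmpty (X := ((V ⊓ U : W.Opens) : Scheme.{u}))).hom_ext _ _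
    · rw [← cancel_epi e.inv]
      exact (isInitialOfIsEmpty (X := ((U ⊓ V : W.Opens) : Scheme.{u}))).hom_ext _ _
    · rw [fst_eq_snd_of_mono_eq]
  refine ⟨(W.openCoverOfIsOpenCover (fam U V) (isOpenCover_fam U V hcov)).glueMorphisms
    (famHom U V a b) hcomp, ?_, ?_⟩
  · exact (W.openCoverOfIsOpenCover (fam U V) (isOpenCover_fam U V hcov)).ι_glueMorphisms _ _ true
  · exact (W.openCoverOfIsOpenCover (fam U V) (isOpenCover_fam U V hcov)).ι_glueMorphisms _ _ false

end Glue

section Imm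

variable {W P : Scheme.{u}} (U V : W.Opens) (hcov : U ⊔ V = ⊤) (c : W ⟶ P)
  (T₁ T₂ : P.Opens) (hT : T₁ ⊔ T₂ = ⊤)

theorem isImmersion_ι_comp_of_eq (U' : W.Opens) (h : U' = U) (h1 : IsImmersion (U.ι ≫ c)) :
    IsImmersion (U'.ι ≫ c) := by
  subst h
  exact h1

include hcov hT in
theorem isImmersion_of_glue (h1 : IsImmersion (U.ι ≫ c)) (h2 : IsImmersion (V.ι ≫ c))
    (hU : ∀ y : U, (U.ι ≫ c) y ∈ T₁ ∧ (U.ι ≫ c) y ∉ T₂)
    (hV : ∀ y : V, (V.ι ≫ c) y ∈ T₂ ∧ (V.ι ≫ c) y ∉ T₁) : IsImmersion c := by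
  have hmem : ∀ x : W, x ∈ U ∨ x ∈ V := by
    intro x
    have : x ∈ U ⊔ V := by rw [hcov]; trivial
    exact this
  have e1 : c ⁻¹ᵁ T₁ = U := by
    ext x
    constructor
    · intro hx
      rcases hmem x with h | h
      · exact h
      · exact absurd hx (hV ⟨x, h⟩).2
    · intro hx
      exact (hU ⟨x, hx⟩).1
  have e2 : c ⁻¹ᵁ T₂ = V := by
    ext x
    constructor
    · intro hx
      rcases hmem x with h | h
      · exact absurd hx (hU ⟨x, h⟩).2
      · exact h
    · intro hx
      exact (hV ⟨x, hx⟩).1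
  apply IsZariskiLocalAtTarget.of_iSup_eq_top (P := @IsImmersion) (fun i : Bool => cond i T₁ T₂)
  · rw [eq_top_iff, ← hT]
    exact sup_le (le_iSup (fun i : Bool => cond i T₁ T₂) true)
      (le_iSup (fun i : Bool => cond i T₁ T₂) false)
  · intro i
    cases i
    · show IsImmersion (c ∣_ T₂)
      haveI : IsImmersion ((c ∣_ T₂) ≫ T₂.ι) := by
        rw [morphismRestrict_ι]
        exact isImmersion_ι_comp_of_eq V c _ e2 h2
      exact IsImmersion.of_comp _ T₂.ι
    · show IsImmersion (c ∣_ T₁)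
      haveI : IsImmersion ((c ∣_ T₁) ≫ T₁.ι) := by
        rw [morphismRestrict_ι]
        exact isImmersion_ι_comp_of_eq U c _ e1 h1
      exact IsImmersion.of_comp _ T₁.ι

end Imm

end Groth.Agent.Helper1.LinEmb
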