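import Mathlib
import Groth.Agent.Helper1.LinEmb3
import Groth.Agent.Helper1.LinEmb4

/-!
# Disjoint union of two quasi-projective opens is quasi-projective
-/

set_option autoImplicit false
set_option linter.style.haveILetI false

namespace Groth.Agent.Helper1.LinEmb

open CategoryTheory Limits AlgebraicGeometry TopologicalSpace
open Groth.Agent.Helper1.Segre

universe u

theorem hom_ext_of_cover {W P : Scheme.{u}} (U V : W.Opens) (hcov : U ⊔ V = ⊤) (c c' : W ⟶ P)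
    (h1 : U.ι ≫ c = U.ι ≫ c') (h2 : V.ι ≫ c = V.ι ≫ c') : c = c' := by
  apply (W.openCoverOfIsOpenCover (fam U V) (isOpenCover_fam U V hcov)).hom_ext
  intro i
  cases i
  · exact h2
  · exact h1

/-- first inclusion of indices -/
def a₁ (m n : ℕ) : Fin (m + 1) → Fin (m + n + 1 + 1) := fun i => ⟨i.1, by omega⟩

/-- second inclusion of indices -/
def a₂ (m n : ℕ) : Fin (n + 1) → Fin (m + n + 1 + 1) := fun i => ⟨m + 1 + i.1, by omega⟩

theorem a₁_injective (m n : ℕ) : Function.Injective (a₁ m n) := by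
  intro i i' h
  have := congrArg Fin.val h
  exact Fin.ext this

theorem a₂_injective (m n : ℕ) : Function.Injective (a₂ m n) := by
  intro i i' h
  have := congrArg Fin.val h
  simp only [a₂] at this
  exact Fin.ext (by omega)

theorem a₁_ne_a₂ (m n : ℕ) (i : Fin (m + 1)) (i' : Fin (n + 1)) : a₁ m n i ≠ a₂ m n i' := by
  intro h
  have := congrArg Fin.val h
  simp only [a₁, a₂] at this
  omega

theorem a₁_or_a₂ (m n : ℕ) (k : Fin (m + n + 1 + 1)) :
    (∃ i, a₁ m n i = k) ∨ (∃ i, a₂ m n i = k) := by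
  by_cases h : k.1 < m + 1
  · exact Or.inl ⟨⟨k.1, h⟩, Fin.ext rfl⟩
  · refine Or.inr ⟨⟨k.1 - (m + 1), by omega⟩, Fin.ext ?_⟩
    simp only [a₂]
    omega

variable (S : Scheme.{u}) (m n : ℕ)

/-- the first open -/
noncomputable def T₁ : (CohB1.ProjSpaceOver (m + n + 1) S).Opens := ⨆ i, DS S (a₁ m n i)

/-- the second open -/
noncomputable def T₂ : (CohB1.ProjSpaceOver (m + n + 1) S).Opens := ⨆ i, DS S (a₂ m n i)

theorem T₁_sup_T₂ : T₁ S m n ⊔ T₂ S m n = ⊤ := by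
  rw [eq_top_iff, ← iSup_DS S (m + n + 1)]
  apply iSup_le
  intro k
  rcases a₁_or_a₂ m n k with ⟨i, rfl⟩ | ⟨i, rfl⟩
  · exact le_sup_of_le_left (le_iSup (fun i => DS S (a₁ m n i)) i)
  · exact le_sup_of_le_right (le_iSup (fun i => DS S (a₂ m n i)) i)

theorem linS₁_preimage_T₁ : linS S (a₁ m n) (a₁_injective m n) ⁻¹ᵁ T₁ S m n = ⊤ := by
  unfold T₁
  rw [Scheme.Hom.preimage_iSup]
  simp_rw [linS_preimage_DS_a]
  exact iSup_DS S m

theorem linS₁_preimage_T₂ : linS S (a₁ m n) (a₁_injective m n) ⁻¹ᵁ T₂ S m n = ⊥ := by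
  unfold T₂
  rw [Scheme.Hom.preimage_iSup]
  have : ∀ i, linS S (a₁ m n) (a₁_injective m n) ⁻¹ᵁ DS S (a₂ m n i) = ⊥ := fun i =>
    linS_preimage_DS_of_not S _ _ _ (fun i' => a₁_ne_a₂ m n i' i)
  simp_rw [this]
  exact iSup_bot

theorem linS₂_preimage_T₂ : linS S (a₂ m n) (a₂_injective m n) ⁻¹ᵁ T₂ S m n = ⊤ := by
  unfold T₂
  rw [Scheme.Hom.preimage_iSup]
  simp_rw [linS_preimage_DS_a]
  exact iSup_DS S n

theorem linS₂_preimage_T₁ : linS S (a₂ m n) (a₂_injective m n) ⁻¹ᵁ T₁ S m n = ⊥ := by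
  unfold T₁
  rw [Scheme.Hom.preimage_iSup]
  have : ∀ i, linS S (a₂ m n) (a₂_injective m n) ⁻¹ᵁ DS S (a₁ m n i) = ⊥ := fun i =>
    linS_preimage_DS_of_not S _ _ _ (fun i' => (a₁_ne_a₂ m n i i').symm)
  simp_rw [this]
  exact iSup_bot

end Groth.Agent.Helper1.LinEmb
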