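import Mathlib
import Groth.Agent.Helper1.LinEmb5

/-!
# Disjoint union of two quasi-projective opens is quasi-projective: the theorem
-/

set_option autoImplicit false
set_option linter.style.haveILetI false

namespace Groth.Agent.Helper1.LinEmb

open CategoryTheory Limits AlgebraicGeometry TopologicalSpace
open Groth.Agent.Helper1.Segre

universe u

theorem exists_immersion_sup {X S : Scheme.{u}} (f : X ⟶ S) (U V : X.Opens) (hdisj : U ⊓ V = ⊥)
    {m n : ℕ} (a : (U : Scheme.{u}) ⟶ CohB1.ProjSpaceOver m S)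
    (b : (V : Scheme.{u}) ⟶ CohB1.ProjSpaceOver n S) (ha' : IsImmersion a) (hb' : IsImmersion b)
    (ha : a ≫ CohB1.ProjSpaceOver.toBase m S = U.ι ≫ f)
    (hb : b ≫ CohB1.ProjSpaceOver.toBase n S = V.ι ≫ f) :
    ∃ (N : ℕ) (c : ((U ⊔ V : X.Opens) : Scheme.{u}) ⟶ CohB1.ProjSpaceOver N S),
      IsImmersion c ∧ c ≫ CohB1.ProjSpaceOver.toBase N S = (U ⊔ V).ι ≫ f := by
  have hcov' : (U ⊔ V).ι ⁻¹ᵁ U ⊔ (U ⊔ V).ι ⁻¹ᵁ V = ⊤ := by
    rw [← Scheme.Hom.preimage_sup]
    exact (U ⊔ V).ι_preimage_self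
  have hdisj' : (U ⊔ V).ι ⁻¹ᵁ U ⊓ (U ⊔ V).ι ⁻¹ᵁ V = ⊥ := by
    rw [← Scheme.Hom.preimage_inf, hdisj]
    rfl
  let eU := Scheme.Opens.isoOfLE (le_sup_left : U ≤ U ⊔ V)
  let eV := Scheme.Opens.isoOfLE (le_sup_right : V ≤ U ⊔ V)
  obtain ⟨c, hc1, hc2⟩ := exists_glue ((U ⊔ V).ι ⁻¹ᵁ U) ((U ⊔ V).ι ⁻¹ᵁ V) hcov' hdisj'
    (eU.hom ≫ a ≫ linS S (a₁ m n) (a₁_injective m n))
    (eV.hom ≫ b ≫ linS S (a₂ m n) (a₂_injective m n))
  refine ⟨m + n + 1, c, ?_, ?_⟩
  · refine isImmersion_of_glue _ _ hcov' c (T₁ S m n) (T₂ S m n) (T₁_sup_T₂ S m n) ?_ ?_ ?_ ?_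
    · rw [hc1]
      infer_instance
    · rw [hc2]
      infer_instance
    · intro y
      rw [hc1]
      have h1 : ∀ z : CohB1.ProjSpaceOver m S,
          linS S (a₁ m n) (a₁_injective m n) z ∈ T₁ S m n ∧
            linS S (a₁ m n) (a₁_injective m n) z ∉ T₂ S m n := by
        intro z
        constructor
        · have : z ∈ linS S (a₁ m n) (a₁_injective m n) ⁻¹ᵁ T₁ S m n := by
            rw [linS₁_preimage_T₁]; trivial
          exact this
        · intro hz
          have : z ∈ linS S (a₁ m n) (a₁_injective m n) ⁻¹ᵁ T₂ S m n := hz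
          rw [linS₁_preimage_T₂] at this
          exact this
      exact h1 _
    · intro y
      rw [hc2]
      have h1 : ∀ z : CohB1.ProjSpaceOver n S,
          linS S (a₂ m n) (a₂_injective m n) z ∈ T₂ S m n ∧
            linS S (a₂ m n) (a₂_injective m n) z ∉ T₁ S m n := by
        intro z
        constructor
        · have : z ∈ linS S (a₂ m n) (a₂_injective m n) ⁻¹ᵁ T₂ S m n := by
            rw [linS₂_preimage_T₂]; trivial
          exact this
        · intro hz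
          have : z ∈ linS S (a₂ m n) (a₂_injective m n) ⁻¹ᵁ T₁ S m n := hz
          rw [linS₂_preimage_T₁] at this
          exact this
      exact h1 _
  · apply hom_ext_of_cover _ _ hcov'
    · rw [reassoc_of% hc1, linS_toBase, ha, Scheme.Opens.isoOfLE_hom_ι_assoc]
    · rw [reassoc_of% hc2, linS_toBase, hb, Scheme.Opens.isoOfLE_hom_ι_assoc]

end Groth.Agent.Helper1.LinEmb
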