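import Mathlib
import Groth.Agent.Helper1.Chow12
import Groth.Agent.Helper1.Chow13
import Groth.Agent.Helper1.LinEmb6

/-!
# Chow's lemma, part 14: quasi-projective opens meeting every irreducible component
-/

set_option autoImplicit false
set_option linter.style.haveILetI false

namespace Groth.Agent.Helper1.Chow

open CategoryTheory Limits AlgebraicGeometry TopologicalSpace

universe u

theorem exists_immersion_meeting_aux {X S : Scheme.{u}} (f : X ⟶ S) [LocallyOfFiniteType f]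
    (hirr : (irreducibleComponents X).Finite) (x : X) (t : Finset (Set X)) :
    (∀ Z ∈ t, Z ∈ irreducibleComponents X) →
    ∃ (Y : X.Opens) (d : ℕ) (j₁ : (Y : Scheme.{u}) ⟶ CohB1.ProjSpaceOver d S),
      x ∈ Y ∧ IsCompact (Y : Set X) ∧ IsImmersion j₁ ∧
        j₁ ≫ CohB1.ProjSpaceOver.toBase d S = Y.ι ≫ f ∧
        ∀ Z ∈ t, ((Y : Set X) ∩ Z).Nonempty := by
  classical
  induction t using Finset.induction_on with
  | empty =>
    intro _
    obtain ⟨Y, d, j₁, hx, haff, himm, hj⟩ := exists_affine_immersion f x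
    exact ⟨Y, d, j₁, hx, haff.isCompact, himm, hj, fun Z hZ => absurd hZ (Finset.notMem_empty Z)⟩
  | insert Z₀ t hZ₀t ih =>
    intro ht
    obtain ⟨Y, d, j₁, hx, hYc, himm, hj, hmeet⟩ :=
      ih (fun Z hZ => ht Z (Finset.mem_insert_of_mem hZ))
    have hZ₀ : Z₀ ∈ irreducibleComponents X := ht Z₀ (Finset.mem_insert_self _ _)
    by_cases hne : ((Y : Set X) ∩ Z₀).Nonempty
    · refine ⟨Y, d, j₁, hx, hYc, himm, hj, ?_⟩
      intro Z hZ
      rcases Finset.mem_insert.1 hZ with rfl | hZ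
      · exact hne
      · exact hmeet Z hZ
    · obtain ⟨z, hz, hzo⟩ := exists_mem_not_mem_others hirr Z₀ hZ₀
      let O : X.Opens := ⟨(others Z₀)ᶜ, (isClosed_others hirr Z₀).isOpen_compl⟩
      obtain ⟨Y', d', j', hzY', _, himm', hj'⟩ := exists_affine_immersion f z
      obtain ⟨V, hVaff, hzV, hVle⟩ : ∃ V : X.Opens, V ∈ X.affineOpens ∧ z ∈ V ∧ V ≤ Y' ⊓ O :=
        Opens.isBasis_iff_nbhd.mp X.isBasis_affineOpens (show z ∈ Y' ⊓ O from ⟨hzY', hzo⟩)
      have hVY' : V ≤ Y' := hVle.trans inf_le_left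
      have hVO : V ≤ O := hVle.trans inf_le_right
      have hdisj : Y ⊓ V = ⊥ := by
        rw [eq_bot_iff]
        intro y hy
        exact hne ⟨y, hy.1, compl_others_subset Z₀ (hVO hy.2)⟩
      haveI := himm'
      have himmV : IsImmersion (X.homOfLE hVY' ≫ j') := inferInstance
      have hjV : (X.homOfLE hVY' ≫ j') ≫ CohB1.ProjSpaceOver.toBase d' S = V.ι ≫ f := by
        rw [Category.assoc, hj', Scheme.homOfLE_ι_assoc]
      obtain ⟨N, c, hcimm, hc⟩ := Groth.Agent.Helper1.LinEmb.exists_immersion_sup f Y V hdisj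
        j₁ (X.homOfLE hVY' ≫ j') himm himmV hj hjV
      refine ⟨Y ⊔ V, N, c, Or.inl hx, ?_, hcimm, hc, ?_⟩
      · show IsCompact ((Y : Set X) ∪ (V : Set X))
        exact hYc.union (hVaff : IsAffineOpen V).isCompact
      · intro Z hZ
        rcases Finset.mem_insert.1 hZ with rfl | hZ
        · exact ⟨z, Or.inr hzV, hz⟩
        · obtain ⟨y, hy1, hy2⟩ := hmeet Z hZ
          exact ⟨y, Or.inl hy1, hy2⟩

theorem exists_immersion_meeting {X S : Scheme.{u}} (f : X ⟶ S) [LocallyOfFiniteType f]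
    (hirr : (irreducibleComponents X).Finite) (x : X) :
    ∃ (Y : X.Opens) (d : ℕ) (j₁ : (Y : Scheme.{u}) ⟶ CohB1.ProjSpaceOver d S),
      x ∈ Y ∧ IsCompact (Y : Set X) ∧ IsImmersion j₁ ∧
        j₁ ≫ CohB1.ProjSpaceOver.toBase d S = Y.ι ≫ f ∧
        ∀ Z ∈ irreducibleComponents X, ((Y : Set X) ∩ Z).Nonempty := by
  obtain ⟨Y, d, j₁, h1, h2, h3, h4, h5⟩ := exists_immersion_meeting_aux f hirr x hirr.toFinset
    (fun Z hZ => hirr.mem_toFinset.1 hZ)
  exact ⟨Y, d, j₁, h1, h2, h3, h4, fun Z hZ => h5 Z (hirr.mem_toFinset.2 hZ)⟩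

end Groth.Agent.Helper1.Chow
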