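import Mathlib
import Groth.Agent.Helper1.Chow14

/-!
# Chow's lemma, part 15: finitely many irreducible components, with the dense open
-/

set_option autoImplicit false
set_option linter.style.haveILetI false

namespace Groth.Agent.Helper1.Chow

open CategoryTheory Limits AlgebraicGeometry TopologicalSpace

universe u

/-- **Chow's lemma**, for a scheme with finitely many irreducible components -/
theorem chow_finite_components {X S : Scheme.{u}} (f : X ⟶ S) [IsSeparated f]
    [LocallyOfFiniteType f] [CompactSpace X] [QuasiSeparatedSpace X]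
    (hirr : (irreducibleComponents X).Finite) :
    ∃ (M : ℕ) (X' : Scheme.{u}) (π : X' ⟶ X) (q : X' ⟶ CohB1.ProjSpaceOver M S),
      IsImmersion q ∧ q ≫ CohB1.ProjSpaceOver.toBase M S = π ≫ f ∧ IsProper π ∧
        Function.Surjective π ∧ ∃ U : X.Opens, Dense (U : Set X) ∧ IsIso (π ∣_ U) := by
  classical
  rcases isEmpty_or_nonempty X with hX | hX
  · refine ⟨0, X, 𝟙 X, isInitialOfIsEmpty.to _, inferInstance, isInitialOfIsEmpty.hom_ext _ _,
      inferInstance, fun x => ⟨x, rfl⟩, ⊤, ?_, inferInstance⟩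
    rw [Opens.coe_top]
    exact dense_univ
  -- local immersions
  choose Y d j₁ hxY hYc hj₁imm hj₁ hmeet using fun x : X => exists_immersion_meeting f hirr x
  -- a finite subcover
  obtain ⟨t, ht⟩ := isCompact_univ.elim_finite_subcover (fun x : X => (Y x : Set X))
    (fun x => (Y x).isOpen) (fun x _ => Set.mem_iUnion.2 ⟨x, hxY x⟩)
  have htne : t.Nonempty := by
    obtain ⟨x⟩ := hX
    have hx := ht (Set.mem_univ x)
    simp only [Set.mem_iUnion] at hx
    obtain ⟨y, hy, -⟩ := hx
    exact ⟨y, hy⟩
  obtain ⟨n, hn⟩ : ∃ n, t.card = n + 1 :=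
    Nat.exists_eq_succ_of_ne_zero (Finset.card_ne_zero.2 htne)
  let e : Fin (n + 1) ≃ t := (finCongr hn.symm).trans t.equivFin.symm
  let xx : Fin (n + 1) → X := fun i => (e i).1
  let Y' : Fin (n + 1) → X.Opens := fun i => Y (xx i)
  let d' : Fin (n + 1) → ℕ := fun i => d (xx i)
  have hcov : ⨆ i, Y' i = ⊤ := by
    rw [eq_top_iff]
    intro x _
    have hx := ht (Set.mem_univ x)
    simp only [Set.mem_iUnion] at hx
    obtain ⟨y, hy, hxy⟩ := hx
    refine Opens.mem_iSup.2 ⟨e.symm ⟨y, hy⟩, ?_⟩
    show x ∈ Y ((e (e.symm ⟨y, hy⟩)).1)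
    rw [Equiv.apply_symm_apply]
    exact hxy
  obtain ⟨D⟩ := nonempty_multiProj S n d'
  haveI := D.isProper
  -- the dense open
  let U : X.Opens := Finset.univ.inf Y'
  have hUY : ∀ i, U ≤ Y' i := fun i => Finset.inf_le (Finset.mem_univ i)
  have hUd : Dense (U : Set X) :=
    dense_of_meets _ U.isOpen (fun Z hZ =>
      finset_inf_meets Finset.univ Y' (fun i => hmeet (xx i)) Z hZ)
  have hUc : IsCompact (U : Set X) := by
    have : ∀ s : Finset (Fin (n + 1)), IsCompact ((s.inf Y' : X.Opens) : Set X) := by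
      intro s
      induction s using Finset.induction_on with
      | empty =>
        rw [Finset.inf_empty]
        exact isCompact_univ
      | insert a s _ ih =>
        rw [Finset.inf_insert]
        exact QuasiSeparatedSpace.inter_isCompact _ _ (Y' a).isOpen (hYc (xx a))
          (s.inf Y').isOpen ih
    exact this _
  haveI : QuasiCompact U.ι := quasiCompact_ι U hUc
  -- the morphism to the product
  obtain ⟨j, hj, hjp⟩ := D.lift U (fun i => X.homOfLE (hUY i) ≫ j₁ (xx i)) (U.ι ≫ f)
    (fun i => by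
      rw [Category.assoc, hj₁ (xx i), Scheme.homOfLE_ι_assoc])
  haveI : QuasiCompact (hh f D.g U j hj) := by
    haveI : QuasiCompact (hh f D.g U j hj ≫ pullback.fst f D.g) := by
      rw [hh_fst]; infer_instance
    exact MorphismProperty.of_postcomp (W := @QuasiCompact) (W' := @QuasiSeparated)
      (hh f D.g U j hj) (pullback.fst f D.g) inferInstance inferInstance
  haveI : ∀ i, IsSeparated (CohB1.ProjSpaceOver.toBase (d' i) S) := fun i =>
    (Groth.Agent.Helper6.HProj.isProper_toBase (d' i) S).toIsSeparated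
  haveI : ∀ i, IsImmersion (j₁ (xx i)) := fun i => hj₁imm (xx i)
  have himm : IsImmersion (qq f D.g U j hj) :=
    isImmersion_qq f D.g U j hj Y' hUY hcov (fun i => CohB1.ProjSpaceOver (d' i) S)
      (fun i => CohB1.ProjSpaceOver.toBase (d' i) S) (fun i => j₁ (xx i))
      (fun i => hj₁ (xx i)) D.p D.p_toBase hjp
  haveI := D.hc
  refine ⟨D.M, XX f D.g U j hj, ππ f D.g U j hj, qq f D.g U j hj ≫ D.c, inferInstance, ?_,
    inferInstance, surjective_ππ f D.g U j hj hUd, U, hUd, isIso_ππ_restrict f D.g U j hj⟩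
  rw [Category.assoc, D.c_toBase, ππ_f]

end Groth.Agent.Helper1.Chow
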