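import Groth.Agent.Helper1.BoxPic1
import Groth.Agent.Helper2.RedBC1

set_option autoImplicit false
set_option linter.style.haveILetI false
set_option linter.unusedSectionVars false

/-!
# Pic of a product over a field: `H^1` of the structure sheaf of the fibres of the first projection
-/

namespace Groth.Agent.Helper1.BoxPic

open CategoryTheory AlgebraicGeometry Opposite TopologicalSpace Limits
open Groth.Agent.Helper4.PullUnit

universe u

variable (k : Type u) [Field k] {S T : Scheme.{u}}
  (s : S ⟶ Spec (CommRingCat.of k)) (t : T ⟶ Spec (CommRingCat.of k))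

/-- flat base change of `H^n(T, O_T) = 0` to a field extension -/
theorem subsingleton_HH_of_isPullback [QuasiCompact t] [IsSeparated t]
    (K : Type u) [Field K] {Z : Scheme.{u}} (g' : Z ⟶ T) (z : Z ⟶ Spec (CommRingCat.of K))
    (b : Spec (CommRingCat.of K) ⟶ Spec (CommRingCat.of k)) (hsq : IsPullback g' z t b) (n : ℕ)
    (h : Subsingleton (Coh.HH T (Coh.structureModule T) n)) :
    Subsingleton (Coh.HH Z (Coh.structureModule Z) n) := by
  letI : Algebra k K := (Spec.preimage b).hom.toAlgebra
  have hb : Spec.map (CommRingCat.ofHom (algebraMap k K)) = b := Spec.map_preimage b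
  letI : T.Over (Spec (CommRingCat.of k)) := ⟨t⟩
  letI : Z.Over (Spec (CommRingCat.of K)) := ⟨z⟩
  haveI : QuasiCompact (T ↘ Spec (CommRingCat.of k)) := ‹QuasiCompact t›
  haveI : IsSeparated (T ↘ Spec (CommRingCat.of k)) := ‹IsSeparated t›
  haveI : Flat t := Groth.Agent.Helper4.SN.flat_of_field k t
  have hfl : FlatMod.IsFlatOver (T ↘ Spec (CommRingCat.of k)) (Coh.structureModule T) :=
    Groth.Agent.Helper2.RedBC.isFlatOver_unit t
  haveI : (Coh.structureModule T).IsQuasicoherent :=
    (Groth.Agent.Helper1.Dev.isCoh_structureModule T).1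
  have hsq' : IsPullback g' (Z ↘ Spec (CommRingCat.of K)) (T ↘ Spec (CommRingCat.of k))
      (Spec.map (CommRingCat.ofHom (algebraMap k K))) := by
    rw [hb]; exact hsq
  obtain ⟨φ⟩ := Groth.Agent.Helper1.BCFlatCoh.nonempty_equiv k K T Z g' hsq'
    (Coh.structureModule T) hfl (fun p => inferInstance) n
  haveI : Subsingleton (TensorProduct k (Coh.HH T (Coh.structureModule T) n) K) := inferInstance
  haveI : Subsingleton (Coh.HH Z ((Scheme.Modules.pullback g').obj (Coh.structureModule T)) n) :=
    φ.toEquiv.subsingleton
  exact Groth.Agent.Helper1.SW.subsingleton_HH_of_iso (pullbackUnitIso g').symm n inferInstance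

/-- `H^n` of the structure sheaf of the fibres of `S ×_k T → S` vanishes if `H^n(T, O_T)` does -/
theorem subsingleton_fiberH_fst [QuasiCompact t] [IsSeparated t] (n : ℕ)
    (h : Subsingleton (Coh.HH T (Coh.structureModule T) n)) (y : S) :
    Subsingleton (CohIII.fiberH (pullback.fst s t) (Coh.structureModule (pullback s t)) y n) := by
  have hsq : IsPullback ((pullback.fst s t).fiberι y ≫ pullback.snd s t)
      ((pullback.fst s t).fiberToSpecResidueField y) t (S.fromSpecResidueField y ≫ s) :=
    IsPullback.paste_horiz (IsPullback.of_hasPullback (pullback.fst s t) (S.fromSpecResidueField y))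
      (IsPullback.of_hasPullback s t).flip
  have h0 := subsingleton_HH_of_isPullback k t (S.residueField y) _ _ _ hsq n h
  exact Groth.Agent.Helper1.SW.subsingleton_HH_of_iso
    (pullbackUnitIso ((pullback.fst s t).fiberι y)) n h0

end Groth.Agent.Helper1.BoxPic
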