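import Groth.Agent.Helper1.Seesaw10
import Groth.Agent.Helper4.SecTriv
import Groth.Agent.Lead.InvDualA
import Groth.Agent.Helper4.PullTensor

set_option autoImplicit false
set_option linter.style.haveILetI false

/-!
# The locus where an invertible module is trivial on the fibres is closed
-/

namespace Groth.Agent.Helper1.Seesaw

open CategoryTheory Limits AlgebraicGeometry Opposite TopologicalSpace Topology

universe u

/-- a module with nonzero `H⁰` has a nonzero global section -/
theorem exists_hom_ne_zero {Z : Scheme.{u}} (N : Z.Modules) (h : Nontrivial (Coh.HH Z N 0)) :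
    ∃ s : Coh.structureModule Z ⟶ N, s ≠ 0 := by
  obtain ⟨x, hx⟩ := exists_ne (0 : Coh.HH Z N 0)
  let e := Groth.Agent.Lead.ProperFinA.h0Equiv N
  have ht : e x ≠ 0 := fun h0 => hx (e.injective (h0.trans (map_zero e).symm))
  let t : Γ(N, ⊤) := e x
  refine ⟨Groth.Agent.Lead.LocLift.homOfTop N t, fun hs => ht ?_⟩
  have h1 := Groth.Agent.Lead.LocLift.homOfTop_app_one N t
  rw [hs] at h1
  exact h1.symm.trans rfl

variable {X Y : Scheme.{u}} (f : X ⟶ Y)

/-- the global functions of an integral fibre of a proper morphism form a field -/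
theorem isField_Γ_fiber [IsProper f] (y : Y) [IsIntegral (f.fiber y)] :
    IsField (Γ(f.fiber y, ⊤) : Type u) := by
  haveI := finite_Γ_fiber f y
  haveI : Algebra.IsIntegral (Y.residueField y) Γ(f.fiber y, ⊤) := Algebra.IsIntegral.of_finite _ _
  exact isField_of_isIntegral_of_isField' (Field.toIsField (Y.residueField y))

/-- on an integral proper fibre, `L_y` is trivial iff `L_y` and its inverse have nonzero sections -/
theorem fiber_trivial_iff [IsProper f] (L L' : X.Modules) (hL : PicF.IsInvertible L)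
    (hL' : PicF.IsInvertible L')
    (b : CohB1.tensorMod L L' ≅ Coh.structureModule X) (y : Y) [IsIntegral (f.fiber y)] :
    Nonempty (CohIII.fiberMod f L y ≅ Coh.structureModule (f.fiber y)) ↔
      1 ≤ CohIII.fiberRank f L 0 y ∧ 1 ≤ CohIII.fiberRank f L' 0 y := by
  have hLy : PicF.IsInvertible (CohIII.fiberMod f L y) :=
    Groth.Agent.Helper4.PullSec.isInvertible_pullback (f.fiberι y) hL
  have hL'y : PicF.IsInvertible (CohIII.fiberMod f L' y) :=
    Groth.Agent.Helper4.PullSec.isInvertible_pullback (f.fiberι y) hL'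
  let by' : CohB1.tensorMod (CohIII.fiberMod f L y) (CohIII.fiberMod f L' y) ≅
      Coh.structureModule (f.fiber y) :=
    (Groth.Agent.Helper4.PullTensor.pullTensorIso (f.fiberι y) hL hL').symm ≪≫
      (Scheme.Modules.pullback (f.fiberι y)).mapIso b ≪≫
      Groth.Agent.Helper4.PullUnit.pullbackUnitIso (f.fiberι y)
  constructor
  · rintro ⟨e⟩
    have e' : CohIII.fiberMod f L' y ≅ Coh.structureModule (f.fiber y) :=
      (Groth.Agent.Lead.Ref1B.unitorL _).symm ≪≫
        PicGrp.tensorModIso e.symm (Iso.refl _) ≪≫ by'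
    rw [fiberRank_eq_of_iso f L y e, fiberRank_eq_of_iso f L' y e']
    exact ⟨one_le_finrank_Γ_fiber f y, one_le_finrank_Γ_fiber f y⟩
  · rintro ⟨h1, h2⟩
    have n1 : Nontrivial (Coh.HH (f.fiber y) (CohIII.fiberMod f L y) 0) :=
      Module.nontrivial_of_finrank_pos (R := Y.residueField y) h1
    have n2 : Nontrivial (Coh.HH (f.fiber y) (CohIII.fiberMod f L' y) 0) :=
      Module.nontrivial_of_finrank_pos (R := Y.residueField y) h2
    obtain ⟨s, hs⟩ := exists_hom_ne_zero _ n1
    obtain ⟨t, ht⟩ := exists_hom_ne_zero _ n2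
    exact Groth.Agent.Helper4.SecTriv.nonempty_iso_unit_of_inverse_pair (isField_Γ_fiber f y)
      _ _ hLy hL'y ⟨by'⟩ s hs t ht

/-- **closedness of the locus of triviality on the fibres** -/
theorem isClosed_trivial_locus [IsProper f] [Flat f] [IsLocallyNoetherian Y]
    (hint : ∀ y : Y, IsIntegral (f.fiber y)) (L : X.Modules) (hL : PicF.IsInvertible L) :
    IsClosed {y : Y | Nonempty (CohIII.fiberMod f L y ≅ Coh.structureModule (f.fiber y))} := by
  obtain ⟨L', hL', -, ⟨b⟩⟩ := Groth.Agent.Lead.InvDual.exists_inverse L hL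
  have hset : {y : Y | Nonempty (CohIII.fiberMod f L y ≅ Coh.structureModule (f.fiber y))} =
      {y : Y | CohIII.fiberRank f L 0 y < 1}ᶜ ∩ {y : Y | CohIII.fiberRank f L' 0 y < 1}ᶜ := by
    ext y
    haveI := hint y
    simp only [Set.mem_setOf_eq, Set.mem_inter_iff, Set.mem_compl_iff, not_lt]
    exact fiber_trivial_iff f L L' hL hL' b y
  rw [hset]
  have hop : ∀ N : X.Modules, PicF.IsInvertible N →
      IsOpen {y : Y | CohIII.fiberRank f N 0 y < 1} := by
    intro N hN
    have husc := upperSemicontinuous_fiberRank f N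
      (Groth.Agent.Lead.Ref1K.isCoh_of_isInvertible N hN)
      (Groth.Agent.Helper1.PicLoc.isFlatOver_of_isInvertible f N hN) 0
    rw [isOpen_iff_mem_nhds]
    intro z hz
    exact husc z 1 hz
  exact (hop L hL).isClosed_compl.inter (hop L' hL').isClosed_compl

end Groth.Agent.Helper1.Seesaw
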