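import Groth.Agent.Helper1.NoethApx4
import Groth.Agent.Helper1.FlatCxDRank2
import Groth.Agent.S2380
import Groth.Agent.S2383

set_option autoImplicit false
set_option linter.unusedVariables false
universe u
open CategoryTheory CategoryTheory.Limits AlgebraicGeometry TopologicalSpace Topology

/-!
# Semicontinuity of the Betti numbers and local constancy of the Euler characteristic of the fibres
of a proper morphism of finite presentation (S1025, S1026)
-/

noncomputable section

namespace Groth.Agent.Helper1.NoethApx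

open Groth.Agent.Helper1.BaseChart Groth.Agent.Helper1.FieldPt

variable {X S : Scheme.{u}} (f : X ⟶ S)

/-- the continuous map from an affine chart to the spectrum of the Noetherian model -/
def chartMap (W : S.Opens) [IsAffine (W : Scheme.{u})] {A₀ : Type u} [CommRing A₀]
    (ι : A₀ →+* AV W) : W → PrimeSpectrum A₀ :=
  fun w => PrimeSpectrum.comap ι ((W : Scheme.{u}).isoSpec.hom w)

lemma continuous_chartMap (W : S.Opens) [IsAffine (W : Scheme.{u})] {A₀ : Type u} [CommRing A₀]
    (ι : A₀ →+* AV W) : Continuous (chartMap W ι) :=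
  (PrimeSpectrum.continuous_comap ι).comp ((W : Scheme.{u}).isoSpec.hom.continuous)

/-- **S1025** -/
theorem isOpen_betti_lt [IsProper f] [LocallyOfFinitePresentation f]
    (F : X.Modules) (hF : CohB1.IsFP F) (hflat : FlatMod.IsFlatOver f F) (i n : ℕ) :
    IsOpen {s : S | PerfAux.betti f F s i < n} := by
  rw [isOpen_iff_forall_mem_open]
  intro s₀ hs₀
  obtain ⟨W, hW, hsW, -⟩ := exists_isAffineOpen_mem_and_subset (x := s₀)
    (U := (⊤ : S.Opens)) trivial
  haveI : IsAffine (W : Scheme.{u}) := hW
  obtain ⟨A₀, _, hN, ι, L, lo, hL, hz, hb⟩ := exists_chart_complex_fp f W F hF hflat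
  have husc := Groth.Agent.S2380.result L (fun j => by
    haveI := (hL j).2
    exact ⟨(hL j).1, inferInstance⟩) (-(i : ℤ))
  have hO : IsOpen {y : PrimeSpectrum A₀ | CohIII.dRank L (-(i : ℤ)) y < n} :=
    (upperSemicontinuous_iff_isOpen_preimage.mp husc) n
  have hO' := hO.preimage (continuous_chartMap W ι)
  refine ⟨Subtype.val '' (chartMap W ι ⁻¹' {y | CohIII.dRank L (-(i : ℤ)) y < n}), ?_,
    W.isOpen.isOpenMap_subtype_val _ hO', ⟨⟨s₀, hsW⟩, ?_, rfl⟩⟩
  · rintro _ ⟨w, hw, rfl⟩
    change PerfAux.betti f F w.1 i < n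
    rw [hb w.1 w.2 i]
    exact hw
  · change CohIII.dRank L (-(i : ℤ)) _ < n
    have := hb s₀ hsW i
    change PerfAux.betti f F s₀ i < n at hs₀
    rw [this] at hs₀
    exact hs₀

end Groth.Agent.Helper1.NoethApx

end
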