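import Groth.Agent.Helper1.SW5
import Groth.Agent.Helper1.Seesaw11
import Groth.Agent.Helper1.BaseChart5
import Groth.Agent.S1025

set_option autoImplicit false
set_option linter.style.haveILetI false
set_option linter.unusedSectionVars false

/-!
# Seesaw over an arbitrary base: the locus of fibrewise triviality is open and closed
-/

namespace Groth.Agent.Helper1.BoxPic

open CategoryTheory AlgebraicGeometry Opposite TopologicalSpace Limits
open Groth.Agent.Helper4.PullUnit Groth.Agent.Helper1.Seesaw

universe u

variable {X S : Scheme.{u}} (f : X ⟶ S)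

/-- **closedness of the locus of triviality on the fibres**, arbitrary base -/
theorem isClosed_trivial_locus [IsProper f] [Flat f] [LocallyOfFinitePresentation f]
    (hint : ∀ y : S, IsIntegral (f.fiber y)) (L : X.Modules) (hL : PicF.IsInvertible L) :
    IsClosed {y : S | Nonempty (CohIII.fiberMod f L y ≅ Coh.structureModule (f.fiber y))} := by
  obtain ⟨L', hL', -, ⟨b⟩⟩ := Groth.Agent.Lead.InvDual.exists_inverse L hL
  have hset : {y : S | Nonempty (CohIII.fiberMod f L y ≅ Coh.structureModule (f.fiber y))} =
      {y : S | CohIII.fiberRank f L 0 y < 1}ᶜ ∩ {y : S | CohIII.fiberRank f L' 0 y < 1}ᶜ := by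
    ext y
    haveI := hint y
    simp only [Set.mem_setOf_eq, Set.mem_inter_iff, Set.mem_compl_iff, not_lt]
    exact fiber_trivial_iff f L L' hL hL' b y
  rw [hset]
  have hop : ∀ N : X.Modules, PicF.IsInvertible N →
      IsOpen {y : S | CohIII.fiberRank f N 0 y < 1} := by
    intro N hN
    haveI : N.IsQuasicoherent := (Groth.Agent.Lead.Ref1K.isCoh_of_isInvertible N hN).1
    have hFP : CohB1.IsFP N :=
      Groth.Agent.Helper4.FinLocFree2.isFinitePresentation_of_isFinLocFree N
        (Groth.Agent.Lead.Ref1K.isFinLocFree_of_isInvertible N hN)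
    have hfl : FlatMod.IsFlatOver f N :=
      Groth.Agent.Helper1.PicLoc.isFlatOver_of_isInvertible f N hN
    exact Groth.Agent.S1025.result f N hFP hfl 0 1
  exact (hop L hL).isClosed_compl.inter (hop L' hL').isClosed_compl

/-- triviality over a neighbourhood gives triviality on the fibres -/
theorem nonempty_fiberMod_iso_of_restrict (N : X.Modules) (U : S.Opens)
    (θ : N.restrict (f ⁻¹ᵁ U).ι ≅ Coh.structureModule ((f ⁻¹ᵁ U : X.Opens) : Scheme.{u}))
    (y : S) (hy : y ∈ U) :
    Nonempty (CohIII.fiberMod f N y ≅ Coh.structureModule (f.fiber y)) :=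
  ⟨(Groth.Agent.Helper1.BaseChart.fiberModIso f U y hy N).symm ≪≫
    (Scheme.Modules.pullback (Groth.Agent.Helper1.BaseChart.gLift f U y hy)).mapIso θ ≪≫
    pullbackUnitIso _⟩

/-- **openness of the locus of triviality on the fibres** when `H¹(X_s, O) = 0` -/
theorem isOpen_trivial_locus [IsProper f] [Flat f] [LocallyOfFinitePresentation f]
    (hint : ∀ y : S, IsIntegral (f.fiber y))
    (hH1 : ∀ s : S, Subsingleton (CohIII.fiberH f (Coh.structureModule X) s 1))
    (L : X.Modules) (hL : PicF.IsInvertible L) :
    IsOpen {y : S | Nonempty (CohIII.fiberMod f L y ≅ Coh.structureModule (f.fiber y))} := by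
  rw [isOpen_iff_forall_mem_open]
  rintro y ⟨e₀⟩
  haveI := hint y
  have h1 : Subsingleton (CohIII.fiberH f L y 1) :=
    Groth.Agent.Helper1.SW.subsingleton_HH_of_iso
      (e₀ ≪≫ (pullbackUnitIso (f.fiberι y)).symm) 1 (hH1 y)
  obtain ⟨U, hyU, ⟨θ⟩⟩ := Groth.Agent.Helper1.SW.exists_nhd_trivial_of_h1 f L hL y h1 e₀
    (isField_Γ_fiber f y)
  exact ⟨U.1, fun z hz => nonempty_fiberMod_iso_of_restrict f L U θ z hz, U.2, hyU⟩

/-- **Seesaw over a connected base**: `f` proper flat of finite presentation with integral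
fibres, `Γ(X_s, O) = κ(s)`, `H¹(X_s, O) = 0`; an invertible module which is trivial on ONE fibre
is the pullback of an invertible module on the base. -/
theorem seesaw_connected [IsProper f] [Flat f] [LocallyOfFinitePresentation f] [ConnectedSpace S]
    (h : ∀ s : S, IsIso (f.fiberToSpecResidueField s).appTop)
    (hint : ∀ y : S, IsIntegral (f.fiber y))
    (hH1 : ∀ s : S, Subsingleton (CohIII.fiberH f (Coh.structureModule X) s 1))
    (L : X.Modules) (hL : PicF.IsInvertible L) (y₀ : S)
    (e₀ : Nonempty (CohIII.fiberMod f L y₀ ≅ Coh.structureModule (f.fiber y₀))) :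
    PicF.IsInvertible ((Scheme.Modules.pushforward f).obj L) ∧
      IsIso ((Scheme.Modules.pullbackPushforwardAdjunction f).counit.app L) := by
  have hclopen : IsClopen
      {y : S | Nonempty (CohIII.fiberMod f L y ≅ Coh.structureModule (f.fiber y))} :=
    ⟨isClosed_trivial_locus f hint L hL, isOpen_trivial_locus f hint hH1 L hL⟩
  have huniv := IsClopen.eq_univ hclopen ⟨y₀, e₀⟩
  have htriv : ∀ y : S, Nonempty (CohIII.fiberMod f L y ≅ Coh.structureModule (f.fiber y)) := by
    intro y
    have : y ∈ {y : S | Nonempty (CohIII.fiberMod f L y ≅ Coh.structureModule (f.fiber y))} := by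
      rw [huniv]; trivial
    exact this
  exact (Groth.Agent.Helper1.SW.core f h hH1 L hL htriv).2

end Groth.Agent.Helper1.BoxPic
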