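import Groth.Agent.Helper1.BoxPic2
import Groth.Agent.Helper1.BoxPic3

set_option autoImplicit false
set_option linter.style.haveILetI false
set_option linter.unusedSectionVars false

/-!
# Pic of a product over a field: the fibre over the rational point
-/

namespace Groth.Agent.Helper1.BoxPic

open CategoryTheory AlgebraicGeometry Opposite TopologicalSpace Limits
open Groth.Agent.Helper4.PullUnit

universe u

variable (k : Type u) [Field k] {S T : Scheme.{u}}
  (s : S ⟶ Spec (CommRingCat.of k)) (t : T ⟶ Spec (CommRingCat.of k))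
  (σ : Spec (CommRingCat.of k) ⟶ S) (hσ : σ ≫ s = 𝟙 _)

/-- the section of the second projection given by the rational point -/
noncomputable def σT : T ⟶ pullback s t :=
  pullback.lift (t ≫ σ) (𝟙 T) (by rw [Category.assoc, hσ, Category.comp_id, Category.id_comp])

@[reassoc]
lemma σT_fst : σT k s t σ hσ ≫ pullback.fst s t = t ≫ σ := pullback.lift_fst _ _ _

@[reassoc]
lemma σT_snd : σT k s t σ hσ ≫ pullback.snd s t = 𝟙 T := pullback.lift_snd _ _ _

lemma isPullback_σT : IsPullback (σT k s t σ hσ) t (pullback.fst s t) σ := by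
  have h2 : IsPullback (pullback.snd s t) (pullback.fst s t) t s :=
    (IsPullback.of_hasPullback s t).flip
  have h13 : IsPullback (σT k s t σ hσ ≫ pullback.snd s t) t t (σ ≫ s) := by
    rw [σT_snd, hσ]
    exact IsPullback.id_horiz t
  exact IsPullback.of_right h13 (σT_fst k s t σ hσ) h2

include s hσ in
/-- the residue field at a rational point is the base field -/
lemma isIso_descResidueField :
    IsIso (Scheme.descResidueField (Scheme.stalkClosedPointTo σ)) := by
  set φ := Scheme.descResidueField (Scheme.stalkClosedPointTo σ) with hφdef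
  have hφ : Spec.map φ ≫ S.fromSpecResidueField (σ (IsLocalRing.closedPoint k)) = σ :=
    Scheme.descResidueField_stalkClosedPointTo_fromSpecResidueField k S σ
  set ψ := Spec.preimage (S.fromSpecResidueField (σ (IsLocalRing.closedPoint k)) ≫ s) with hψdef
  have hψ : Spec.map ψ = S.fromSpecResidueField (σ (IsLocalRing.closedPoint k)) ≫ s :=
    Spec.map_preimage _
  have hcomp : ψ ≫ φ = 𝟙 _ := by
    apply Spec.map_injective
    rw [Spec.map_comp, hψ, ← Category.assoc, hφ, hσ, Spec.map_id]
  rw [ConcreteCategory.isIso_iff_bijective]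
  constructor
  · exact φ.hom.injective
  · intro x
    refine ⟨ψ.hom x, ?_⟩
    have := congrArg (fun g => g.hom x) hcomp
    exact this

/-- the fibre of the first projection over the rational point is `T` -/
theorem exists_iso_fiber :
    ∃ τ : T ≅ (pullback.fst s t).fiber (σ (IsLocalRing.closedPoint k)),
      τ.hom ≫ (pullback.fst s t).fiberι (σ (IsLocalRing.closedPoint k)) = σT k s t σ hσ := by
  haveI := isIso_descResidueField k s σ hσ
  set φ := Scheme.descResidueField (Scheme.stalkClosedPointTo σ) with hφdef
  have hφ : Spec.map φ ≫ S.fromSpecResidueField (σ (IsLocalRing.closedPoint k)) = σ :=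
    Scheme.descResidueField_stalkClosedPointTo_fromSpecResidueField k S σ
  have hpb : IsPullback (σT k s t σ hσ) (t ≫ Spec.map φ) (pullback.fst s t)
      (S.fromSpecResidueField (σ (IsLocalRing.closedPoint k))) := by
    refine IsPullback.of_iso (isPullback_σT k s t σ hσ) (Iso.refl _) (Iso.refl _)
      (asIso (Spec.map φ)) (Iso.refl _) ?_ ?_ ?_ ?_
    · simp
    · simp
    · simp
    · simp [hφ]
  exact ⟨hpb.isoPullback, hpb.isoPullback_hom_fst⟩

/-- a module whose restriction along the section `σ_T` is trivial is trivial on the fibre over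
the rational point -/
theorem nonempty_fiberMod_iso_of_σT (N : (pullback s t).Modules)
    (e : (Scheme.Modules.pullback (σT k s t σ hσ)).obj N ≅ Coh.structureModule T) :
    Nonempty (CohIII.fiberMod (pullback.fst s t) N (σ (IsLocalRing.closedPoint k)) ≅
      Coh.structureModule ((pullback.fst s t).fiber (σ (IsLocalRing.closedPoint k)))) := by
  obtain ⟨τ, hτ⟩ := exists_iso_fiber k s t σ hσ
  have hτ' : τ.inv ≫ σT k s t σ hσ =
      (pullback.fst s t).fiberι (σ (IsLocalRing.closedPoint k)) := by
    rw [← hτ, Iso.inv_hom_id_assoc]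
  exact ⟨(Scheme.Modules.pullbackCongr hτ').symm.app N ≪≫
    ((Scheme.Modules.pullbackComp τ.inv (σT k s t σ hσ)).app N).symm ≪≫
    (Scheme.Modules.pullback τ.inv).mapIso e ≪≫ pullbackUnitIso _⟩

end Groth.Agent.Helper1.BoxPic
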