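import Groth.Agent.Helper1.BoxPic4
import Groth.Agent.Helper4.SN243
import Groth.Agent.Lead.PullFF

set_option autoImplicit false
set_option linter.style.haveILetI false
set_option linter.unusedSectionVars false

/-!
# Pic of a product over a field: `Pic(S ×_k T) = Pic(S) × Pic(T)`
-/

namespace Groth.Agent.Helper1.BoxPic

open CategoryTheory AlgebraicGeometry Opposite TopologicalSpace Limits
open Groth.Agent.Helper4.PullUnit

universe u

section tensor

variable {Z : Scheme.{u}}

/-- cancelling an inverse pair on the right -/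
noncomputable def cancelR (A B C : Z.Modules) (c : CohB1.tensorMod B C ≅ Coh.structureModule Z) :
    CohB1.tensorMod (CohB1.tensorMod A B) C ≅ A :=
  Groth.Agent.Lead.Ref1B.assoc _ _ _ ≪≫ PicGrp.tensorModIso (Iso.refl A) c ≪≫ SecTwist.unitorR A

end tensor

variable (k : Type u) [Field k] {S T : Scheme.{u}}
  (s : S ⟶ Spec (CommRingCat.of k)) (t : T ⟶ Spec (CommRingCat.of k))
  (σ : Spec (CommRingCat.of k) ⟶ S) (hσ : σ ≫ s = 𝟙 _)

/-- the pullback of `q^* M` along the section `σ_T` is `M` -/
noncomputable def σTsndIso (M : T.Modules) :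
    (Scheme.Modules.pullback (σT k s t σ hσ)).obj
      ((Scheme.Modules.pullback (pullback.snd s t)).obj M) ≅ M :=
  (Scheme.Modules.pullbackComp (σT k s t σ hσ) (pullback.snd s t)).app M ≪≫
    (Scheme.Modules.pullbackCongr (σT_snd k s t σ hσ)).app M ≪≫
    (Scheme.Modules.pullbackId T).app M

/-- the pullback of `p^* L` along the section `σ_T` is trivial -/
theorem nonempty_σTfstIso (L : S.Modules) (hL : PicF.IsInvertible L) :
    Nonempty ((Scheme.Modules.pullback (σT k s t σ hσ)).obj
      ((Scheme.Modules.pullback (pullback.fst s t)).obj L) ≅ Coh.structureModule T) := by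
  have hK : PicF.IsInvertible ((Scheme.Modules.pullback σ).obj L) :=
    Groth.Agent.Helper4.PullSec.isInvertible_pullback _ hL
  haveI : Subsingleton ↥(Spec (CommRingCat.of k)) :=
    inferInstanceAs (Subsingleton (PrimeSpectrum k))
  haveI : Nonempty ↥(Spec (CommRingCat.of k)) :=
    inferInstanceAs (Nonempty (PrimeSpectrum k))
  obtain ⟨e⟩ := Groth.Agent.Helper4.SN243.nonempty_iso_unit_of_subsingleton _ hK
  exact ⟨(Scheme.Modules.pullbackComp (σT k s t σ hσ) (pullback.fst s t)).app L ≪≫
    (Scheme.Modules.pullbackCongr (σT_fst k s t σ hσ)).app L ≪≫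
    ((Scheme.Modules.pullbackComp t σ).app L).symm ≪≫
    (Scheme.Modules.pullback t).mapIso e ≪≫ pullbackUnitIso _⟩

/-- restricting a box product along the section `σ_T` recovers the second factor -/
theorem nonempty_σT_box (L : S.Modules) (hL : PicF.IsInvertible L) (M : T.Modules)
    (hM : PicF.IsInvertible M) :
    Nonempty ((Scheme.Modules.pullback (σT k s t σ hσ)).obj
      (CohB1.tensorMod ((Scheme.Modules.pullback (pullback.fst s t)).obj L)
        ((Scheme.Modules.pullback (pullback.snd s t)).obj M)) ≅ M) := by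
  obtain ⟨e⟩ := nonempty_σTfstIso k s t σ hσ L hL
  exact ⟨Groth.Agent.Helper4.PullTensor.pullTensorIso (σT k s t σ hσ)
      (Groth.Agent.Helper4.PullSec.isInvertible_pullback _ hL)
      (Groth.Agent.Helper4.PullSec.isInvertible_pullback _ hM) ≪≫
    PicGrp.tensorModIso e (σTsndIso k s t σ hσ M) ≪≫ Groth.Agent.Lead.Ref1B.unitorL M⟩

include σ hσ in
/-- **existence** -/
theorem exists_box [IsProper t] [GeometricallyIntegral t]
    (h1 : Subsingleton (Coh.HH T (Coh.structureModule T) 1)) [ConnectedSpace S]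
    (N : (pullback s t).Modules) (hN : PicF.IsInvertible N) :
    ∃ (L : S.Modules) (M : T.Modules), PicF.IsInvertible L ∧ PicF.IsInvertible M ∧
      Nonempty (N ≅ CohB1.tensorMod ((Scheme.Modules.pullback (pullback.fst s t)).obj L)
        ((Scheme.Modules.pullback (pullback.snd s t)).obj M)) := by
  haveI := proper_fst k s t
  haveI := flat_fst k s t
  haveI := fp_fst k s t
  -- the restriction to the section and its inverse
  have hM : PicF.IsInvertible ((Scheme.Modules.pullback (σT k s t σ hσ)).obj N) :=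
    Groth.Agent.Helper4.PullSec.isInvertible_pullback _ hN
  obtain ⟨Mi, hMi, ⟨a⟩, ⟨a'⟩⟩ := Groth.Agent.Lead.InvDual.exists_inverse _ hM
  have hqMi : PicF.IsInvertible ((Scheme.Modules.pullback (pullback.snd s t)).obj Mi) :=
    Groth.Agent.Helper4.PullSec.isInvertible_pullback _ hMi
  have hqM : PicF.IsInvertible ((Scheme.Modules.pullback (pullback.snd s t)).obj
      ((Scheme.Modules.pullback (σT k s t σ hσ)).obj N)) :=
    Groth.Agent.Helper4.PullSec.isInvertible_pullback _ hM
  have hN' : PicF.IsInvertible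
      (CohB1.tensorMod N ((Scheme.Modules.pullback (pullback.snd s t)).obj Mi)) :=
    Groth.Agent.Helper4.TensorInv.isInvertible_tensorMod hN hqMi
  -- the twist is trivial along the section
  have eσ : (Scheme.Modules.pullback (σT k s t σ hσ)).obj
      (CohB1.tensorMod N ((Scheme.Modules.pullback (pullback.snd s t)).obj Mi)) ≅
      Coh.structureModule T :=
    Groth.Agent.Helper4.PullTensor.pullTensorIso (σT k s t σ hσ) hN hqMi ≪≫
      PicGrp.tensorModIso (Iso.refl _) (σTsndIso k s t σ hσ Mi) ≪≫ a'
  have e₀ := nonempty_fiberMod_iso_of_σT k s t σ hσ _ eσ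
  obtain ⟨hL, hcounit⟩ := seesaw_connected (pullback.fst s t)
    (fun y => isIso_appTop_fst k s t y) (fun y => inferInstance)
    (fun y => subsingleton_fiberH_fst k s t 1 h1 y) _ hN' _ e₀
  haveI := hcounit
  -- `q^* Mi ⊗ q^* M ≅ O`
  have c : CohB1.tensorMod ((Scheme.Modules.pullback (pullback.snd s t)).obj Mi)
      ((Scheme.Modules.pullback (pullback.snd s t)).obj
        ((Scheme.Modules.pullback (σT k s t σ hσ)).obj N)) ≅
      Coh.structureModule (pullback s t) :=
    (Groth.Agent.Helper4.PullTensor.pullTensorIso (pullback.snd s t) hMi hM).symm ≪≫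
      (Scheme.Modules.pullback (pullback.snd s t)).mapIso a ≪≫ pullbackUnitIso _
  refine ⟨_, _, hL, hM, ⟨(cancelR N _ _ c).symm ≪≫ PicGrp.tensorModIso
    (asIso ((Scheme.Modules.pullbackPushforwardAdjunction (pullback.fst s t)).counit.app
      (CohB1.tensorMod N ((Scheme.Modules.pullback (pullback.snd s t)).obj Mi)))).symm
    (Iso.refl _)⟩⟩

include σ hσ in
/-- **uniqueness** -/
theorem unique_box [IsProper t] [GeometricallyIntegral t]
    (L L' : S.Modules) (M M' : T.Modules) (hL : PicF.IsInvertible L) (hL' : PicF.IsInvertible L')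
    (hM : PicF.IsInvertible M) (hM' : PicF.IsInvertible M')
    (e : CohB1.tensorMod ((Scheme.Modules.pullback (pullback.fst s t)).obj L)
        ((Scheme.Modules.pullback (pullback.snd s t)).obj M) ≅
      CohB1.tensorMod ((Scheme.Modules.pullback (pullback.fst s t)).obj L')
        ((Scheme.Modules.pullback (pullback.snd s t)).obj M')) :
    Nonempty (L ≅ L') ∧ Nonempty (M ≅ M') := by
  haveI := proper_fst k s t
  haveI := flat_fst k s t
  haveI := fp_fst k s t
  obtain ⟨b⟩ := nonempty_σT_box k s t σ hσ L hL M hM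
  obtain ⟨b'⟩ := nonempty_σT_box k s t σ hσ L' hL' M' hM'
  have eM : M ≅ M' := b.symm ≪≫ (Scheme.Modules.pullback (σT k s t σ hσ)).mapIso e ≪≫ b'
  refine ⟨?_, ⟨eM⟩⟩
  obtain ⟨Mi, hMi, -, ⟨a'⟩⟩ := Groth.Agent.Lead.InvDual.exists_inverse M hM
  have c : CohB1.tensorMod ((Scheme.Modules.pullback (pullback.snd s t)).obj M)
      ((Scheme.Modules.pullback (pullback.snd s t)).obj Mi) ≅
      Coh.structureModule (pullback s t) :=
    (Groth.Agent.Helper4.PullTensor.pullTensorIso (pullback.snd s t) hM hMi).symm ≪≫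
      (Scheme.Modules.pullback (pullback.snd s t)).mapIso a' ≪≫ pullbackUnitIso _
  have c' : CohB1.tensorMod ((Scheme.Modules.pullback (pullback.snd s t)).obj M')
      ((Scheme.Modules.pullback (pullback.snd s t)).obj Mi) ≅
      Coh.structureModule (pullback s t) :=
    PicGrp.tensorModIso ((Scheme.Modules.pullback (pullback.snd s t)).mapIso eM.symm)
      (Iso.refl _) ≪≫ c
  have e' : (Scheme.Modules.pullback (pullback.fst s t)).obj L ≅
      (Scheme.Modules.pullback (pullback.fst s t)).obj L' :=
    (cancelR _ _ _ c).symm ≪≫ PicGrp.tensorModIso e (Iso.refl _) ≪≫ cancelR _ _ _ c'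
  have hf : ∀ U : S.Opens, Function.Bijective ((pullback.fst s t).app U) := fun U => by
    haveI := Groth.Agent.Helper1.UF.isIso_app_of_isIso (pullback.fst s t)
      (fun y => isIso_appTop_fst k s t y) U
    exact ConcreteCategory.bijective_of_isIso _
  haveI := Groth.Agent.Lead.PullFF.isIso_unit_of_isFinLocFree (pullback.fst s t) hf L
    (Groth.Agent.Lead.Ref1K.isFinLocFree_of_isInvertible L hL)
  haveI := Groth.Agent.Lead.PullFF.isIso_unit_of_isFinLocFree (pullback.fst s t) hf L'
    (Groth.Agent.Lead.Ref1K.isFinLocFree_of_isInvertible L' hL')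
  exact ⟨asIso ((Scheme.Modules.pullbackPushforwardAdjunction (pullback.fst s t)).unit.app L) ≪≫
    (Scheme.Modules.pushforward (pullback.fst s t)).mapIso e' ≪≫
    (asIso ((Scheme.Modules.pullbackPushforwardAdjunction (pullback.fst s t)).unit.app L')).symm⟩

end Groth.Agent.Helper1.BoxPic
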