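import Groth.Agent.Helper1.ExtMap
import Groth.Agent.Helper1.FlatCxQis2

set_option autoImplicit false

/-!
# Re-indexing complexes and the functors `T_i`
-/

namespace Groth.Agent.Helper1.Bridge

open CategoryTheory Limits MonoidalCategory HomologicalComplex

universe u

/-- the embedding `n ↦ -n` of `up ℕ` into `down ℤ` -/
def embNeg : (ComplexShape.up ℕ).Embedding (ComplexShape.down ℤ) :=
  ComplexShape.Embedding.mk' _ _ (fun n => -(n : ℤ)) (fun _ _ h => by simpa using h)
    (fun i j => by
      change i + 1 = j ↔ -(j : ℤ) + 1 = -(i : ℤ)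
      omega)

instance : embNeg.IsRelIff := by
  unfold embNeg
  infer_instance

@[simp] lemma embNeg_f (n : ℕ) : embNeg.f n = -(n : ℤ) := rfl

/-- the embedding `i ↦ -i` of `down ℤ` into `up ℤ` -/
def embFlip : (ComplexShape.down ℤ).Embedding (ComplexShape.up ℤ) :=
  ComplexShape.Embedding.mk' _ _ (fun i => -i) (fun _ _ h => by simpa using h)
    (fun i j => by
      change j + 1 = i ↔ -i + 1 = -j
      omega)

instance : embFlip.IsRelIff := by
  unfold embFlip
  infer_instance

@[simp] lemma embFlip_f (i : ℤ) : embFlip.f i = -i := rfl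

variable {A : Type u} [CommRing A] {ι ι' : Type} {c : ComplexShape ι} {c' : ComplexShape ι'}
  (e : c.Embedding c') [e.IsRelIff] (K : HomologicalComplex (ModuleCat.{u} A) c)

/-- `T_{e j}` of the extended complex is `T_j` -/
noncomputable def tfunExtendIso (j : ι) : CohIII.TFun (K.extend e) (e.f j) ≅ CohIII.TFun K j :=
  NatIso.ofComponents (fun M => ExtMap.homologyIso e (tensorRight M) K j)
    (fun {M M'} g => ExtMap.homologyIso_naturality e K j
      ((tensoringRight (ModuleCat.{u} A)).map g))

lemma isZero_tfun_of_isZero (L : HomologicalComplex (ModuleCat.{u} A) c) (i : ι)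
    (h : IsZero (L.X i)) (M : ModuleCat.{u} A) : IsZero ((CohIII.TFun L i).obj M) := by
  have h1 : IsZero ((CohIII.tensorObj L M).X i) := (tensorRight M).map_isZero h
  exact (exactAt_iff_isZero_homology _ _).1
    (ShortComplex.exact_of_isZero_X₂ _ h1)

lemma isZero_tfun_extend (i' : ι') (hi' : ∀ i, e.f i ≠ i') (M : ModuleCat.{u} A) :
    IsZero ((CohIII.TFun (K.extend e) i').obj M) :=
  isZero_tfun_of_isZero _ i' (K.isZero_extend_X e i' hi') M

lemma flat_extend_X (hK : ∀ i, Module.Flat A (K.X i)) (i' : ι') :
    Module.Flat A ((K.extend e).X i') := by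
  by_cases h : ∃ i, e.f i = i'
  · obtain ⟨i, hi⟩ := h
    haveI := hK i
    exact Module.Flat.of_linearEquiv (K.extendXIso e hi).toLinearEquiv
  · haveI : Subsingleton ((K.extend e).X i') :=
      ModuleCat.subsingleton_of_isZero (K.isZero_extend_X e i' (fun i hi => h ⟨i, hi⟩))
    infer_instance

lemma finite_free_extend_X (hK : ∀ i, Module.Finite A (K.X i) ∧ Module.Free A (K.X i))
    (i' : ι') : Module.Finite A ((K.extend e).X i') ∧ Module.Free A ((K.extend e).X i') := by
  by_cases h : ∃ i, e.f i = i'
  · obtain ⟨i, hi⟩ := h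
    obtain ⟨h1, h2⟩ := hK i
    haveI := h1
    haveI := h2
    exact ⟨Module.Finite.equiv (K.extendXIso e hi).toLinearEquiv.symm,
      Module.Free.of_equiv (K.extendXIso e hi).toLinearEquiv.symm⟩
  · haveI : Subsingleton ((K.extend e).X i') :=
      ModuleCat.subsingleton_of_isZero (K.isZero_extend_X e i' (fun i hi => h ⟨i, hi⟩))
    exact ⟨inferInstance, Module.Free.of_subsingleton A _⟩

lemma finite_homology_extend (hK : ∀ i, Module.Finite A (K.homology i)) (i' : ι') :
    Module.Finite A ((K.extend e).homology i') := by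
  by_cases h : ∃ i, e.f i = i'
  · obtain ⟨i, hi⟩ := h
    haveI := hK i
    exact Module.Finite.equiv (K.extendHomologyIso e hi).toLinearEquiv.symm
  · have hz : IsZero ((K.extend e).homology i') :=
      (exactAt_iff_isZero_homology _ _).1 (K.extend_exactAt e i' (fun i hi => h ⟨i, hi⟩))
    haveI : Subsingleton ((K.extend e).homology i') := ModuleCat.subsingleton_of_isZero hz
    infer_instance

end Groth.Agent.Helper1.Bridge
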