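import Groth.Agent.Helper1.Bridge1
import Groth.Agent.Helper1.ACech7
import Groth.Agent.Helper1.SerreF
import Groth.Agent.Lead.ModDict19

set_option autoImplicit false

/-!
# The Čech complex as a `ℤ`-indexed chain complex of flat modules computing `H^p(X, F ⊗_A M)`
-/

namespace Groth.Agent.Helper1.Bridge

open CategoryTheory Limits MonoidalCategory HomologicalComplex AlgebraicGeometry TopologicalSpace
open Groth.Agent.Helper1.ACech Groth.Agent.Helper1.NatCech Groth.Agent.Helper1.TensSec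

universe u

variable (A : Type u) [CommRing A] {X : Scheme.{u}} [X.Over (Spec (CommRingCat.of A))]

lemma exists_cover [QuasiCompact (X ↘ Spec (CommRingCat.of A))] :
    ∃ (t : ℕ) (U : Fin t → X.Opens), (∀ k, IsAffineOpen (U k)) ∧ ⨆ k, U k = ⊤ := by
  obtain ⟨ι, hι, V, hV, -, hcov⟩ :=
    Groth.Agent.Lead.ModDict.exists_finite_affine_cover (X ↘ Spec (CommRingCat.of A))
      (isAffineOpen_top (Spec (CommRingCat.of A)))
  obtain ⟨t, ⟨e⟩⟩ := hι.exists_equiv_fin
  refine ⟨t, fun k => V (e.symm k), fun k => hV _, ?_⟩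
  apply le_antisymm le_top
  intro x _
  obtain ⟨k, hk⟩ := hcov x trivial
  rw [Opens.mem_iSup]
  exact ⟨e k, by simpa using hk⟩

lemma affine_inf [IsSeparated (X ↘ Spec (CommRingCat.of A))] (V W : X.Opens)
    (hV : IsAffineOpen V) (hW : IsAffineOpen W) : IsAffineOpen (V ⊓ W) :=
  isAffineHom_diagonal_iff.mp
    (inferInstance : IsAffineHom (pullback.diagonal (X ↘ Spec (CommRingCat.of A))))
    ⊤ (isAffineOpen_top _) V (fun _ _ => trivial) W (fun _ _ => trivial) hV hW

variable {t : ℕ} (U : Fin t → X.Opens) (hU : ∀ k, IsAffineOpen (U k))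
  (hd : ∀ V W : X.Opens, IsAffineOpen V → IsAffineOpen W → IsAffineOpen (V ⊓ W))
  (hcov : ⨆ k, U k = ⊤) (F : X.Modules) [F.IsQuasicoherent]

/-- the Čech complex, as a `ℤ`-indexed chain complex -/
noncomputable def PZ : ChainComplex (ModuleCat.{u} A) ℤ := (CA A (Uc U) F).extend embNeg

include hU hd in
lemma flat_PZ (hfl : FlatMod.IsFlatOver (X ↘ Spec (CommRingCat.of A)) F) (i : ℤ) :
    Module.Flat A ((PZ A U F).X i) :=
  flat_extend_X embNeg _
    (flat_CA_X A F (Uc U) hfl (fun _ x => isAffineOpen_prodU U hd hU x)) i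

include hU hd hcov in
/-- the bridge for `PZ` -/
theorem nonempty_bridge_PZ (p : ℕ) :
    Nonempty (CohIII.TFun (PZ A U F) (-(p : ℤ)) ⋙ forget₂ (ModuleCat.{u} A) AddCommGrpCat.{u} ≅
      CohIII.tensorAFunctor A F ⋙ CohIII.HAb X p) := by
  obtain ⟨e⟩ := nonempty_bridge A U hU hd hcov F p
  exact ⟨Functor.isoWhiskerRight (tfunExtendIso embNeg (CA A (Uc U) F) p) _ ≪≫ e⟩

include hU hd hcov in
/-- vanishing of `T_i(M)` in degrees `i ≤ -t` -/
theorem isZero_tfun_PZ_of_le (i : ℤ) (hi : i ≤ -(t : ℤ)) (M : ModuleCat.{u} A) :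
    IsZero ((CohIII.TFun (PZ A U F) i).obj M) := by
  obtain ⟨p, rfl⟩ : ∃ p : ℕ, i = -(p : ℤ) := ⟨(-i).toNat, by omega⟩
  have hp : t ≤ p := by omega
  obtain ⟨e⟩ := nonempty_bridge_PZ A U hU hd hcov F p
  have e' := e.app M
  have hsub : Subsingleton (Coh.HH X ((CohIII.tensorAFunctor A F).obj M) p) :=
    Groth.Agent.Helper1.Serre.subsingleton_HH_of_affine_cover _ t U hU hcov hd p hp
  have hz : IsZero ((CohIII.tensorAFunctor A F ⋙ CohIII.HAb X p).obj M) :=
    @AddCommGrpCat.isZero_of_subsingleton _ hsub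
  have hz' := hz.of_iso e'
  -- reflect along the forgetful functor
  rw [IsZero.iff_id_eq_zero]
  apply (forget₂ (ModuleCat.{u} A) AddCommGrpCat.{u}).map_injective
  exact hz'.eq_of_src _ _

lemma isZero_tfun_PZ_of_pos (i : ℤ) (hi : 0 < i) (M : ModuleCat.{u} A) :
    IsZero ((CohIII.TFun (PZ A U F) i).obj M) :=
  isZero_tfun_extend embNeg _ i (fun n hn => by rw [embNeg_f] at hn; omega) M

end Groth.Agent.Helper1.Bridge
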