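import Groth.Agent.Helper1.Bridge2
import Groth.Agent.Helper1.Mumford6
import Groth.Agent.S0002

set_option autoImplicit false

/-!
# EGA III 7.7.5 / Mumford: a complex of finitely generated free modules computing the cohomology
of `F ⊗_A M` universally
-/

namespace Groth.Agent.Helper1.Bridge

open CategoryTheory Limits MonoidalCategory HomologicalComplex AlgebraicGeometry TopologicalSpace
open Groth.Agent.Helper1.ACech Groth.Agent.Helper1.NatCech Groth.Agent.Helper1.TensSec
open Groth.Agent.Helper1.FlatCx Groth.Agent.Helper1.Mumford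

universe u

/-- **Existence of the complex.** -/
theorem exists_complex (A : Type u) [CommRing A] [IsNoetherianRing A] (X : Scheme.{u})
    [X.Over (Spec (CommRingCat.of A))] [IsProper (X ↘ Spec (CommRingCat.of A))]
    (F : X.Modules) (hF : Coh.IsCoh F)
    (hfl : FlatMod.IsFlatOver (X ↘ Spec (CommRingCat.of A)) F) :
    ∃ L : ChainComplex (ModuleCat.{u} A) ℤ,
      (∀ i, Module.Finite A (L.X i) ∧ Module.Free A (L.X i)) ∧
      (∃ b : ℤ, ∀ i < b, IsZero (L.X i)) ∧
      (∀ i : ℤ, 0 < i → ∀ M : ModuleCat.{u} A, IsZero ((CohIII.TFun L i).obj M)) ∧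
      ∀ p : ℕ, Nonempty (CohIII.TFun L (-(p : ℤ)) ⋙
          forget₂ (ModuleCat.{u} A) AddCommGrpCat.{u} ≅
        CohIII.tensorAFunctor A F ⋙ CohIII.HAb X p) := by
  haveI : F.IsQuasicoherent := hF.1
  obtain ⟨t, U, hU, hcov⟩ := exists_cover A (X := X)
  have hd := affine_inf A (X := X)
  -- the Čech complex
  let P := PZ A U F
  have hPflat : ∀ i, Module.Flat A (P.X i) := flat_PZ A U hU hd F hfl
  have hPfin : ∀ i, Module.Finite A (P.homology i) :=
    finite_homology_extend embNeg _ (fun n => finite_homology_CA A U hU hd hcov F n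
      (Groth.Agent.S0002.result A X F hF n))
  let d : ℤ := -(t : ℤ) + 1
  have hPz : ∀ i < d, IsZero (P.homology i) := by
    intro i hi
    obtain ⟨p, rfl⟩ : ∃ p : ℕ, i = -(p : ℤ) := ⟨(-i).toNat, by omega⟩
    have hp : t ≤ p := by omega
    have e1 : P.homology (-(p : ℤ)) ≅ (CA A (Uc U) F).homology p :=
      (CA A (Uc U) F).extendHomologyIso embNeg rfl
    obtain ⟨φ, -⟩ := exists_equiv_HH A U hU hd hcov F p
    have hsub : Subsingleton (Coh.HH X F p) :=
      Groth.Agent.Helper1.Serre.subsingleton_HH_of_affine_cover _ t U hU hcov hd p hp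
    haveI : Subsingleton ((CA A (Uc U) F).homology p) := φ.toEquiv.subsingleton
    exact (ModuleCat.isZero_of_subsingleton _).of_iso e1
  obtain ⟨L, f, hLff, hLz, hqis⟩ := exists_approx_module A P hPfin d hPz
  have hLflat : ∀ i, Module.Flat A (L.X i) := fun i => by
    haveI := (hLff i).2
    infer_instance
  have hLd : ∀ i < d, ∀ M : ModuleCat.{u} A, IsZero ((CohIII.TFun L i).obj M) :=
    fun i hi M => isZero_tfun_of_isZero L i (hLz i hi) M
  have hPd : ∀ i < d, ∀ M : ModuleCat.{u} A, IsZero ((CohIII.TFun P i).obj M) :=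
    fun i hi M => isZero_tfun_PZ_of_le A U hU hd hcov F i (by omega) M
  refine ⟨L, hLff, ⟨d, hLz⟩, ?_, ?_⟩
  · intro i hi M
    obtain ⟨e⟩ := nonempty_tfunIso f hLflat hPflat d hLd hPd i
    exact (isZero_tfun_PZ_of_pos A U F i hi M).of_iso (e.app M)
  · intro p
    obtain ⟨e⟩ := nonempty_tfunIso f hLflat hPflat d hLd hPd (-(p : ℤ))
    obtain ⟨e'⟩ := nonempty_bridge_PZ A U hU hd hcov F p
    exact ⟨Functor.isoWhiskerRight e _ ≪≫ e'⟩

end Groth.Agent.Helper1.Bridge
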