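import Groth.Agent.Helper1.BCFlatCoh2
import Groth.Agent.Helper1.AffLin

set_option autoImplicit false

/-!
# Base change of the Čech complex and fibres: `dRank = fiberRank`
-/

namespace Groth.Agent.Helper1.Bridge

open CategoryTheory Limits MonoidalCategory HomologicalComplex AlgebraicGeometry TensorProduct
open Groth.Agent.Helper1.FlatCx Groth.Agent.Helper1.ACech Groth.Agent.Helper1.NatCech
open Groth.Agent.Helper1.BCFlatCoh

universe u

section algebra

variable {A : Type u} [CommRing A] (B : Type u) [CommRing B] [Algebra A B]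

/-- base change of a quasi-isomorphism of complexes of flat modules (with `T_i = 0` for `i ≪ 0`)
induces isomorphisms on homology -/
theorem nonempty_bc_homologyIso {L P : ChainComplex (ModuleCat.{u} A) ℤ} (f : L ⟶ P) [QuasiIso f]
    (hL : ∀ i, Module.Flat A (L.X i)) (hP : ∀ i, Module.Flat A (P.X i)) (d : ℤ)
    (hLd : ∀ i < d, ∀ M : ModuleCat.{u} A, IsZero ((CohIII.TFun L i).obj M))
    (hPd : ∀ i < d, ∀ M : ModuleCat.{u} A, IsZero ((CohIII.TFun P i).obj M)) (p : ℤ) :
    Nonempty ((CohIII.bcCx (algebraMap A B) L).homology p ≅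
      (CohIII.bcCx (algebraMap A B) P).homology p) := by
  have h := isIso_tfunNat f hL hP d hLd hPd p (DRankQis.Bm (A := A) B)
  rw [tfunNat_app] at h
  have hq := DRankQis.quasiIsoAt_bcCx_map B f p h
  rw [quasiIsoAt_iff_isIso_homologyMap] at hq
  exact ⟨asIso (HomologicalComplex.homologyMap
    (((ModuleCat.extendScalars.{u, u, u} (algebraMap A B)).mapHomologicalComplex
      (ComplexShape.down ℤ)).map f) p)⟩

theorem dRank_eq_of_quasiIso' {L P : ChainComplex (ModuleCat.{u} A) ℤ} (f : L ⟶ P) [QuasiIso f]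
    (hL : ∀ i, Module.Flat A (L.X i)) (hP : ∀ i, Module.Flat A (P.X i)) (d : ℤ)
    (hLd : ∀ i < d, ∀ M : ModuleCat.{u} A, IsZero ((CohIII.TFun L i).obj M))
    (hPd : ∀ i < d, ∀ M : ModuleCat.{u} A, IsZero ((CohIII.TFun P i).obj M))
    (p : ℤ) (x : PrimeSpectrum A) : CohIII.dRank L p x = CohIII.dRank P p x := by
  obtain ⟨e⟩ := nonempty_bc_homologyIso x.asIdeal.ResidueField f hL hP d hLd hPd p
  unfold CohIII.dRank
  exact e.toLinearEquiv.finrank_eq

end algebra

section geometry

/-- the cohomology of the base change is the homology of the base-changed Čech complex -/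
theorem nonempty_linearEquiv_bc (A A' : Type u) [CommRing A] [CommRing A'] [Algebra A A']
    (X X' : Scheme.{u}) [X.Over (Spec (CommRingCat.of A))] [X'.Over (Spec (CommRingCat.of A'))]
    [IsSeparated (X ↘ Spec (CommRingCat.of A))]
    (g' : X' ⟶ X)
    (hsq : IsPullback g' (X' ↘ Spec (CommRingCat.of A')) (X ↘ Spec (CommRingCat.of A))
      (Spec.map (CommRingCat.ofHom (algebraMap A A'))))
    (F : X.Modules) [F.IsQuasicoherent]
    {t : ℕ} (U : Fin t → X.Opens) (hU : ∀ k, IsAffineOpen (U k)) (hcov : ⨆ k, U k = ⊤) (n : ℕ) :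
    Nonempty ((CohIII.bcCx (algebraMap A A') (PZ A U F)).homology (-(n : ℤ)) ≃ₗ[A']
      Coh.HH X' ((Scheme.Modules.pullback g').obj F) n) := by
  classical
  haveI : ((Scheme.Modules.pullback g').obj F).IsQuasicoherent :=
    Groth.Agent.Lead.StalkPull.isQuasicoherent_pullbackObj _ _
  have hd := affine_inf A (X := X)
  haveI : IsAffineHom g' := CechBC.isAffineHom_of_isPullback A A' g' hsq
  haveI : IsSeparated (X' ↘ Spec (CommRingCat.of A')) :=
    MorphismProperty.of_isPullback (P := @IsSeparated) hsq inferInstance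
  have hU' : ∀ k, IsAffineOpen (CechBC.Ut g' U k) := fun k => (hU k).preimage g'
  have hd' := affine_inf A' (X := X')
  have hcov' : ⨆ k, CechBC.Ut g' U k = ⊤ := by
    rw [← Scheme.Hom.preimage_iSup, hcov]
    rfl
  obtain ⟨θ⟩ := CechBC.nonempty_PZ_iso A A' g' hsq U hU hd F
  obtain ⟨e1⟩ := nonempty_linearEquiv_PZ A' (CechBC.Ut g' U) hU' hd' hcov'
    ((Scheme.Modules.pullback g').obj F) n
  exact ⟨(HomologicalComplex.homologyMapIso θ (-(n : ℤ))).toLinearEquiv.trans e1⟩

end geometry

end Groth.Agent.Helper1.Bridge
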