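import Groth.Agent.Helper1.Bridge5

set_option autoImplicit false

/-!
# Fibres over an affine base: `fiberRank = dRank` of the Čech complex
-/

namespace Groth.Agent.Helper1.Bridge

open CategoryTheory Limits MonoidalCategory HomologicalComplex AlgebraicGeometry TensorProduct
open Groth.Agent.Helper1.FlatCx Groth.Agent.Helper1.ACech Groth.Agent.Helper1.NatCech
open Groth.Agent.Helper1.BCFlatCoh

universe u

variable (A : Type u) [CommRing A] {X : Scheme.{u}} [X.Over (Spec (CommRingCat.of A))]
  (y : PrimeSpectrum A)

/-- the iso `κ(y) ≅ Frac(A/y)` -/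
noncomputable abbrev resIso :
    (Spec (CommRingCat.of A)).residueField y ≅ CommRingCat.of y.asIdeal.ResidueField :=
  Scheme.Spec.residueFieldIso (CommRingCat.of A) y

/-- the fibre over `y`, as a scheme over `Frac(A/y)` -/
@[reducible] noncomputable def fiberOver :
    ((X ↘ Spec (CommRingCat.of A)).fiber y).Over (Spec (CommRingCat.of y.asIdeal.ResidueField)) :=
  ⟨(X ↘ Spec (CommRingCat.of A)).fiberToSpecResidueField y ≫ Spec.map (resIso A y).inv⟩

lemma isPullback_fiber :
    letI := fiberOver A (X := X) y
    IsPullback ((X ↘ Spec (CommRingCat.of A)).fiberι y)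
      (((X ↘ Spec (CommRingCat.of A)).fiber y) ↘ Spec (CommRingCat.of y.asIdeal.ResidueField))
      (X ↘ Spec (CommRingCat.of A))
      (Spec.map (CommRingCat.ofHom (algebraMap A y.asIdeal.ResidueField))) := by
  have h0 : IsPullback ((X ↘ Spec (CommRingCat.of A)).fiberι y)
      ((X ↘ Spec (CommRingCat.of A)).fiberToSpecResidueField y)
      (X ↘ Spec (CommRingCat.of A)) ((Spec (CommRingCat.of A)).fromSpecResidueField y) :=
    IsPullback.of_hasPullback _ _
  refine IsPullback.of_iso h0 (Iso.refl _) (Iso.refl _) (asIso (Spec.map (resIso A y).inv))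
    (Iso.refl _) (by simp) ?_ (by simp) ?_
  · simp only [asIso_hom, Iso.refl_hom, Category.id_comp]
    rfl
  · simp only [asIso_hom, Iso.refl_hom, Category.comp_id]
    exact (Scheme.Spec.map_residueFieldIso_inv_eq_fromSpecResidueField (CommRingCat.of A) y).symm

end Groth.Agent.Helper1.Bridge
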