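import Groth.Agent.Helper1.Bridge7
import Groth.Agent.Helper1.Bridge3

set_option autoImplicit false

/-!
# The universal complex, with its base-change properties
-/

namespace Groth.Agent.Helper1.Bridge

open CategoryTheory Limits MonoidalCategory HomologicalComplex AlgebraicGeometry TopologicalSpace
open Groth.Agent.Helper1.ACech Groth.Agent.Helper1.NatCech Groth.Agent.Helper1.TensSec
open Groth.Agent.Helper1.FlatCx Groth.Agent.Helper1.Mumford Groth.Agent.Helper1.BCFlatCoh

universe u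

section

variable (A : Type u) [CommRing A] {X : Scheme.{u}} [X.Over (Spec (CommRingCat.of A))]
  [IsSeparated (X ↘ Spec (CommRingCat.of A))]
  (y : PrimeSpectrum A) (F : X.Modules) [F.IsQuasicoherent] (p : ℕ)
  {t : ℕ} (U : Fin t → X.Opens) (hU : ∀ k, IsAffineOpen (U k)) (hcov : ⨆ k, U k = ⊤)

include hU hcov in
theorem fiberRank_eq_dRank_PZ :
    CohIII.fiberRank (X ↘ Spec (CommRingCat.of A)) F p y =
      CohIII.dRank (PZ A U F) (-(p : ℤ)) y := by
  rw [fiberRank_eq_finrank]
  letI := fiberOver A (X := X) y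
  obtain ⟨e⟩ := nonempty_linearEquiv_bc A y.asIdeal.ResidueField X _
    ((X ↘ Spec (CommRingCat.of A)).fiberι y) (isPullback_fiber A y) F U hU hcov p
  unfold CohIII.dRank
  exact e.finrank_eq.symm

end

/-- **Existence of the complex**, with base change. -/
theorem exists_complex' (A : Type u) [CommRing A] [IsNoetherianRing A] (X : Scheme.{u})
    [X.Over (Spec (CommRingCat.of A))] [IsProper (X ↘ Spec (CommRingCat.of A))]
    (F : X.Modules) (hF : Coh.IsCoh F)
    (hfl : FlatMod.IsFlatOver (X ↘ Spec (CommRingCat.of A)) F) :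
    ∃ L : ChainComplex (ModuleCat.{u} A) ℤ,
      (∀ i, Module.Finite A (L.X i) ∧ Module.Free A (L.X i)) ∧
      (∃ b : ℤ, ∀ i < b, IsZero (L.X i)) ∧
      (∀ i : ℤ, 0 < i → ∀ M : ModuleCat.{u} A, IsZero ((CohIII.TFun L i).obj M)) ∧
      (∀ p : ℕ, Nonempty (CohIII.TFun L (-(p : ℤ)) ⋙
          forget₂ (ModuleCat.{u} A) AddCommGrpCat.{u} ≅
        CohIII.tensorAFunctor A F ⋙ CohIII.HAb X p)) ∧
      (∀ (p : ℕ) (y : PrimeSpectrum A), CohIII.dRank L (-(p : ℤ)) y =
        CohIII.fiberRank (X ↘ Spec (CommRingCat.of A)) F p y) ∧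
      (∀ (A' : Type u) [CommRing A'] [Algebra A A'] (X' : Scheme.{u})
        [X'.Over (Spec (CommRingCat.of A'))] (g' : X' ⟶ X)
        (_ : IsPullback g' (X' ↘ Spec (CommRingCat.of A')) (X ↘ Spec (CommRingCat.of A))
          (Spec.map (CommRingCat.ofHom (algebraMap A A')))) (n : ℕ),
        Nonempty ((CohIII.bcCx (algebraMap A A') L).homology (-(n : ℤ)) ≃ₗ[A']
          Coh.HH X' ((Scheme.Modules.pullback g').obj F) n)) := by
  haveI : F.IsQuasicoherent := hF.1
  obtain ⟨t, U, hU, hcov⟩ := exists_cover A (X := X)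
  have hd := affine_inf A (X := X)
  -- the Čech complex
  let P := PZ A U F
  have hPflat : ∀ i, Module.Flat A (P.X i) := flat_PZ A U hU hd F hfl
  have hPfin : ∀ i, Module.Finite A (P.homology i) :=
    finite_homology_extend embNeg _ (fun n => finite_homology_CA A U hU hd hcov F n
      (Groth.Agent.S0002.result A X F hF n))
  let d : ℤ := -(t : ℤ) + 1
  have hPz : ∀ i < d, IsZero (P.homology i) := by
    intro i hi
    obtain ⟨p, rfl⟩ : ∃ p : ℕ, i = -(p : ℤ) := ⟨(-i).toNat, by omega⟩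
    have hp : t ≤ p := by omega
    have e1 : P.homology (-(p : ℤ)) ≅ (CA A (Uc U) F).homology p :=
      (CA A (Uc U) F).extendHomologyIso embNeg rfl
    obtain ⟨φ, -⟩ := exists_equiv_HH A U hU hd hcov F p
    have hsub : Subsingleton (Coh.HH X F p) :=
      Groth.Agent.Helper1.Serre.subsingleton_HH_of_affine_cover _ t U hU hcov hd p hp
    haveI : Subsingleton ((CA A (Uc U) F).homology p) := φ.toEquiv.subsingleton
    exact (ModuleCat.isZero_of_subsingleton _).of_iso e1
  obtain ⟨L, f, hLff, hLz, hqis⟩ := exists_approx_module A P hPfin d hPz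
  have hLflat : ∀ i, Module.Flat A (L.X i) := fun i => by
    haveI := (hLff i).2
    infer_instance
  have hLd : ∀ i < d, ∀ M : ModuleCat.{u} A, IsZero ((CohIII.TFun L i).obj M) :=
    fun i hi M => isZero_tfun_of_isZero L i (hLz i hi) M
  have hPd : ∀ i < d, ∀ M : ModuleCat.{u} A, IsZero ((CohIII.TFun P i).obj M) :=
    fun i hi M => isZero_tfun_PZ_of_le A U hU hd hcov F i (by omega) M
  refine ⟨L, hLff, ⟨d, hLz⟩, ?_, ?_, ?_, ?_⟩
  · intro i hi M
    obtain ⟨e⟩ := nonempty_tfunIso f hLflat hPflat d hLd hPd i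
    exact (isZero_tfun_PZ_of_pos A U F i hi M).of_iso (e.app M)
  · intro p
    obtain ⟨e⟩ := nonempty_tfunIso f hLflat hPflat d hLd hPd (-(p : ℤ))
    obtain ⟨e'⟩ := nonempty_bridge_PZ A U hU hd hcov F p
    exact ⟨Functor.isoWhiskerRight e _ ≪≫ e'⟩
  · intro p y
    rw [fiberRank_eq_dRank_PZ A y F p U hU hcov]
    exact dRank_eq_of_quasiIso' f hLflat hPflat d hLd hPd _ y
  · intro A' _ _ X' _ g' hsq n
    obtain ⟨e⟩ := nonempty_bc_homologyIso A' f hLflat hPflat d hLd hPd (-(n : ℤ))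
    obtain ⟨e'⟩ := nonempty_linearEquiv_bc A A' X X' g' hsq F U hU hcov n
    exact ⟨e.toLinearEquiv.trans e'⟩

end Groth.Agent.Helper1.Bridge
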