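import Mathlib
import Groth.Prelude.Def_CohDer

set_option autoImplicit false
set_option linter.unusedSectionVars false

namespace Groth.Agent.Helper1.Compact
open CategoryTheory Limits CohDer ZeroObject

universe v u
variable {D : Type u} [Category.{v} D] [Preadditive D]

section proj
variable {ι : Type v} (X : ι → D) [HasCoproduct X]

open scoped Classical in
/-- the idempotent projecting `∐ X` onto the summands in `S`. -/
noncomputable def proj (S : Finset ι) : (∐ X) ⟶ ∐ X :=
  Sigma.desc (fun i => if i ∈ S then Sigma.ι X i else 0)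

open scoped Classical in
@[reassoc]
lemma ι_proj (S : Finset ι) (i : ι) :
    Sigma.ι X i ≫ proj X S = if i ∈ S then Sigma.ι X i else 0 := by
  simp [proj]

open scoped Classical in
/-- projection to the `j`-th summand -/
noncomputable def π (j : ι) : (∐ X) ⟶ X j :=
  Sigma.desc (fun i => if h : i = j then eqToHom (by rw [h]) else 0)

open scoped Classical in
@[reassoc]
lemma ι_π (i j : ι) :
    Sigma.ι X i ≫ π X j = if h : i = j then eqToHom (by rw [h]) else 0 := by
  simp [π]

@[reassoc (attr := simp)]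
lemma ι_π_self (i : ι) : Sigma.ι X i ≫ π X i = 𝟙 _ := by
  rw [ι_π, dif_pos rfl]; rfl

@[reassoc]
lemma ι_π_of_ne (i j : ι) (h : i ≠ j) : Sigma.ι X i ≫ π X j = 0 := by
  rw [ι_π, dif_neg h]

lemma proj_eq_sum (S : Finset ι) : proj X S = ∑ i ∈ S, π X i ≫ Sigma.ι X i := by
  classical
  apply Sigma.hom_ext
  intro j
  rw [ι_proj, Preadditive.comp_sum]
  by_cases hj : j ∈ S
  · rw [if_pos hj, Finset.sum_eq_single j]
    · rw [ι_π_self_assoc]
    · intro b _ hb
      rw [ι_π_of_ne_assoc _ _ _ (Ne.symm hb), zero_comp]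
    · intro h; exact absurd hj h
  · rw [if_neg hj]
    symm
    apply Finset.sum_eq_zero
    intro b hb
    have hne : j ≠ b := fun h => hj (by rw [h]; exact hb)
    rw [ι_π_of_ne_assoc _ _ _ hne, zero_comp]

open scoped Classical in
lemma one_sub_proj_comp (S T : Finset ι) :
    (𝟙 _ - proj X S) ≫ (𝟙 _ - proj X T) = 𝟙 _ - proj X (S ∪ T) := by
  apply Sigma.hom_ext
  intro j
  simp only [Preadditive.comp_sub, Preadditive.sub_comp, Category.comp_id, Category.id_comp,
    ι_proj, ι_proj_assoc]
  by_cases hS : j ∈ S <;> by_cases hT : j ∈ T <;> simp [hS, hT, ι_proj]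

end proj

section
variable [HasCoproducts.{v} D]

lemma homSumToHomCoprod_of (K : D) {ι : Type v} (X : ι → D) (i : ι) (f : K ⟶ X i) :
    homSumToHomCoprod K X (by classical exact DirectSum.of (fun i => K ⟶ X i) i f) =
      f ≫ Sigma.ι X i := by
  classical
  unfold homSumToHomCoprod
  erw [DirectSum.toAddMonoid_of]
  rfl

lemma homSumToHomCoprod_comp_π (K : D) {ι : Type v} (X : ι → D) (x : DirectSum ι (fun i => K ⟶ X i))
    (j : ι) : homSumToHomCoprod K X x ≫ π X j = x j := by
  classical
  induction x using DirectSum.induction_on with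
  | zero => simp
  | of i f =>
    have := homSumToHomCoprod_of K X i f
    rw [this, Category.assoc]
    by_cases h : i = j
    · subst h
      rw [ι_π_self, Category.comp_id, DirectSum.of_eq_same]
    · rw [ι_π_of_ne _ _ _ h, comp_zero, DirectSum.of_eq_of_ne _ _ _ (Ne.symm h)]
  | add x y hx hy =>
    rw [map_add, Preadditive.add_comp, hx, hy]
    rfl

lemma isCompactObject_iff (K : D) :
    IsCompactObject K ↔ ∀ (ι : Type v) (X : ι → D) (φ : K ⟶ ∐ X),
      ∃ S : Finset ι, φ ≫ proj X S = φ := by
  classical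
  constructor
  · intro hK ι X φ
    obtain ⟨x, rfl⟩ := (hK ι X).2 φ
    refine ⟨x.support, ?_⟩
    rw [proj_eq_sum, Preadditive.comp_sum]
    have h1 : ∀ i ∈ x.support, homSumToHomCoprod K X x ≫ π X i ≫ Sigma.ι X i =
        homSumToHomCoprod K X (DirectSum.of (fun i => K ⟶ X i) i (x i)) := by
      intro i _
      rw [← Category.assoc, homSumToHomCoprod_comp_π]
      exact (homSumToHomCoprod_of K X i (x i)).symm
    rw [Finset.sum_congr rfl h1, ← map_sum]
    congr 1
    exact DirectSum.sum_support_of x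
  · intro h ι X
    constructor
    · rw [injective_iff_map_eq_zero]
      intro x hx
      ext j
      rw [← homSumToHomCoprod_comp_π, hx, zero_comp]
      rfl
    · intro φ
      obtain ⟨S, hS⟩ := h ι X φ
      refine ⟨∑ i ∈ S, DirectSum.of (fun i => K ⟶ X i) i (φ ≫ π X i), ?_⟩
      rw [map_sum]
      conv_rhs => rw [← hS, proj_eq_sum, Preadditive.comp_sum]
      apply Finset.sum_congr rfl
      intro i _
      rw [← Category.assoc]
      exact homSumToHomCoprod_of K X i (φ ≫ π X i)

lemma exists_one_sub_proj_comp_eq_zero {K : D} (hK : IsCompactObject K) {ι : Type v} (X : ι → D)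
    (φ : K ⟶ ∐ X) : ∃ S : Finset ι, φ ≫ (𝟙 _ - proj X S) = 0 := by
  obtain ⟨S, hS⟩ := (isCompactObject_iff K).1 hK ι X φ
  exact ⟨S, by rw [Preadditive.comp_sub, Category.comp_id, hS, sub_self]⟩

lemma isCompactObject_of_forall {K : D} (h : ∀ (ι : Type v) (X : ι → D) (φ : K ⟶ ∐ X),
    ∃ S : Finset ι, φ ≫ (𝟙 _ - proj X S) = 0) : IsCompactObject K := by
  rw [isCompactObject_iff]
  intro ι X φ
  obtain ⟨S, hS⟩ := h ι X φ
  refine ⟨S, ?_⟩
  rw [Preadditive.comp_sub, Category.comp_id, sub_eq_zero] at hS
  exact hS.symm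

lemma isCompactObject_of_isZero {K : D} (hK : IsZero K) : IsCompactObject K :=
  isCompactObject_of_forall (fun _ _ _ => ⟨∅, hK.eq_of_src _ _⟩)

lemma isCompactObject_of_iso {K K' : D} (e : K ≅ K') (hK : IsCompactObject K) :
    IsCompactObject K' := by
  apply isCompactObject_of_forall
  intro ι X φ
  obtain ⟨S, hS⟩ := exists_one_sub_proj_comp_eq_zero hK X (e.hom ≫ φ)
  refine ⟨S, ?_⟩
  rw [← cancel_epi e.hom, ← Category.assoc, hS, comp_zero]

section functor
variable {D' : Type u} [Category.{v} D'] [Preadditive D'] [HasCoproducts.{v} D']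
  (F : D ⥤ D') [F.Additive]

open scoped Classical in
lemma sigmaComparison_map_proj {ι : Type v} (X : ι → D) (S : Finset ι) :
    sigmaComparison F X ≫ F.map (proj X S) = proj (fun i => F.obj (X i)) S ≫ sigmaComparison F X := by
  apply Sigma.hom_ext
  intro i
  rw [ι_comp_sigmaComparison_assoc, ← F.map_comp, ι_proj, ι_proj_assoc]
  split_ifs
  · rw [ι_comp_sigmaComparison]
  · rw [F.map_zero, zero_comp]

end functor

end

section triangulated
open Pretriangulated
variable [HasZeroObject D] [HasShift D ℤ] [∀ n : ℤ, (shiftFunctor D n).Additive] [Pretriangulated D]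
  [HasCoproducts.{v} D]

lemma isCompactObject_shift {K : D} (hK : IsCompactObject K) (n : ℤ) :
    IsCompactObject ((shiftFunctor D n).obj K) := by
  apply isCompactObject_of_forall
  intro ι X φ
  let F := shiftFunctor D (-n)
  let η : K ≅ F.obj ((shiftFunctor D n).obj K) :=
    ((shiftFunctorCompIsoId D n (-n) (add_neg_cancel n)).symm.app K)
  have : IsIso (sigmaComparison F X) := inferInstance
  obtain ⟨S, hS⟩ := exists_one_sub_proj_comp_eq_zero hK (fun i => F.obj (X i))
    (η.hom ≫ F.map φ ≫ inv (sigmaComparison F X))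
  refine ⟨S, ?_⟩
  apply F.map_injective
  rw [F.map_zero, ← cancel_epi η.hom, comp_zero, F.map_comp, F.map_sub, F.map_id]
  have h2 : F.map (𝟙 (∐ X) ) - F.map (proj X S) =
      inv (sigmaComparison F X) ≫ (𝟙 _ - proj (fun i => F.obj (X i)) S) ≫ sigmaComparison F X := by
    rw [Preadditive.sub_comp, Preadditive.comp_sub, Category.id_comp, IsIso.inv_hom_id,
      ← sigmaComparison_map_proj, IsIso.inv_hom_id_assoc, F.map_id]
  rw [F.map_id] at h2
  rw [h2]
  simp only [Category.assoc] at hS
  have h3 : η.hom ≫ F.map φ ≫ inv (sigmaComparison F X) ≫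
      (𝟙 _ - proj (fun i => F.obj (X i)) S) ≫ sigmaComparison F X = 0 := by
    have := congrArg (fun f => f ≫ sigmaComparison F X) hS
    simpa only [Category.assoc, zero_comp] using this
  exact h3

lemma isCompactObject_ext₂ (T : Triangle D) (hT : T ∈ distTriang D)
    (h₁ : IsCompactObject T.obj₁) (h₃ : IsCompactObject T.obj₃) : IsCompactObject T.obj₂ := by
  apply isCompactObject_of_forall
  intro ι X φ
  obtain ⟨S, hS⟩ := exists_one_sub_proj_comp_eq_zero h₁ X (T.mor₁ ≫ φ)
  rw [Category.assoc] at hS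
  obtain ⟨ψ, hψ⟩ := Triangle.yoneda_exact₂ T hT _ hS
  obtain ⟨S', hS'⟩ := exists_one_sub_proj_comp_eq_zero h₃ X ψ
  classical
  refine ⟨S ∪ S', ?_⟩
  rw [← one_sub_proj_comp, ← Category.assoc, hψ, Category.assoc, hS', comp_zero]

theorem isTriangulated_isCompactObject :
    ObjectProperty.IsTriangulated (fun K : D => IsCompactObject K) where
  exists_zero := ⟨0, isZero_zero _, isCompactObject_of_isZero (isZero_zero _)⟩
  isStableUnderShiftBy n := { le_shift := fun K hK => isCompactObject_shift hK n }
  ext₂' T hT h₁ h₃ := ObjectProperty.le_isoClosure _ _ (isCompactObject_ext₂ T hT h₁ h₃)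

end triangulated

end Groth.Agent.Helper1.Compact
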