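import Mathlib
import Groth.Prelude.Def_DerLim
import Groth.Prelude.Def_CohDer
import Groth.Agent.Helper1.Compact

/-!
# Homotopy colimits and compact objects
-/

set_option autoImplicit false
set_option linter.unusedSectionVars false

namespace Groth.Agent.Helper1.Hocolim
open CategoryTheory Limits CohDer Pretriangulated

universe v u

section Pre

variable {D : Type u} [Category.{v} D] [Preadditive D] (K : ℕ → D) (f : ∀ n, K n ⟶ K (n + 1))

/-- Transition maps. -/
def tr {m n : ℕ} (h : m ≤ n) : K m ⟶ K n := (Functor.ofSequence f).map (homOfLE h)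

lemma tr_refl (n : ℕ) : tr K f (le_refl n) = 𝟙 _ :=
  (Functor.ofSequence f).map_id n

lemma tr_succ (n : ℕ) : tr K f (Nat.le_succ n) = f n :=
  Functor.ofSequence_map_homOfLE_succ f n

lemma tr_trans {m n p : ℕ} (h : m ≤ n) (h' : n ≤ p) :
    tr K f h ≫ tr K f h' = tr K f (h.trans h') := by
  exact ((Functor.ofSequence f).map_comp (homOfLE h) (homOfLE h')).symm

variable [HasCoproduct K]

/-- Sum of the transition maps to `K k`. -/
noncomputable def ρ (k : ℕ) : ∐ K ⟶ K k :=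
  Sigma.desc (fun j => if h : j ≤ k then tr K f h else 0)

lemma ι_ρ_of_le {j k : ℕ} (h : j ≤ k) : Sigma.ι K j ≫ ρ K f k = tr K f h := by
  simp [ρ, h]

lemma ι_ρ_of_lt {j k : ℕ} (h : k < j) : Sigma.ι K j ≫ ρ K f k = 0 := by
  simp [ρ, not_le.2 h]

/-- The map `1 - shift`. -/
noncomputable abbrev φ : ∐ K ⟶ ∐ K := 𝟙 (∐ K) - DerLim.shiftMap K f

lemma ι_φ (j : ℕ) : Sigma.ι K j ≫ φ K f = Sigma.ι K j - f j ≫ Sigma.ι K (j + 1) := by
  unfold φ DerLim.shiftMap
  rw [Preadditive.comp_sub, Category.comp_id, Sigma.ι_desc]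

lemma φ_ρ (k : ℕ) : φ K f ≫ ρ K f k = Sigma.π K k := by
  apply Sigma.hom_ext
  intro j
  rw [← Category.assoc, ι_φ, Preadditive.sub_comp, Category.assoc]
  rcases lt_trichotomy j k with h | rfl | h
  · rw [ι_ρ_of_le K f h.le, ι_ρ_of_le K f (Nat.succ_le_of_lt h), ← tr_succ K f j, tr_trans,
      sub_self, Sigma.ι_π_of_ne _ h.ne]
  · rw [ι_ρ_of_le K f le_rfl, ι_ρ_of_lt K f (Nat.lt_succ_self j), comp_zero, sub_zero,
      Sigma.ι_π_eq_id, tr_refl]
  · rw [ι_ρ_of_lt K f h, ι_ρ_of_lt K f (h.trans (Nat.lt_succ_self j)), comp_zero, sub_zero,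
      Sigma.ι_π_of_ne _ h.ne']

end Pre

section CompactNat

variable {D : Type u} [Category.{v} D] [Preadditive D] [HasCoproducts.{v} D]

lemma exists_finset_nat {E : D} (hE : IsCompactObject E) (K : ℕ → D) [HasCoproduct K]
    (b : E ⟶ ∐ K) :
    ∃ S : Finset ℕ, b = ∑ n ∈ S, (b ≫ Sigma.π K n) ≫ Sigma.ι K n := by
  classical
  let ε : ULift.{v} ℕ ≃ ℕ := Equiv.ulift
  let K' : ULift.{v} ℕ → D := K ∘ ε
  let r : ∐ K' ≅ ∐ K := Sigma.reindex ε K
  have hr : ∀ i, Sigma.ι K' i ≫ r.hom = Sigma.ι K (ε i) := fun i => Sigma.ι_reindex_hom ε K i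
  obtain ⟨S', hS'⟩ := (Compact.isCompactObject_iff E).1 hE _ K' (b ≫ r.inv)
  have hπ : ∀ i, r.inv ≫ Compact.π K' i = Sigma.π K (ε i) := by
    intro i
    rw [Iso.inv_comp_eq]
    apply Sigma.hom_ext
    intro j
    rw [reassoc_of% (hr j), Compact.ι_π, Sigma.ι_π]
    by_cases h : j = i
    · subst h
      simp
      rfl
    · have h' : ε j ≠ ε i := fun h' => h (ε.injective h')
      rw [dif_neg h, dif_neg h']
  refine ⟨S'.map ε.toEmbedding, ?_⟩
  rw [Finset.sum_map]
  have h1 : b = (b ≫ r.inv) ≫ r.hom := by rw [Category.assoc, Iso.inv_hom_id, Category.comp_id]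
  conv_lhs => rw [h1, ← hS', Compact.proj_eq_sum, Preadditive.comp_sum, Preadditive.sum_comp]
  apply Finset.sum_congr rfl
  intro i _
  simp only [Category.assoc]
  rw [hr i, reassoc_of% (hπ i)]
  rfl

lemma eq_zero_of_comp_π {E : D} (hE : IsCompactObject E) (K : ℕ → D) [HasCoproduct K]
    (b : E ⟶ ∐ K) (hb : ∀ n, b ≫ Sigma.π K n = 0) : b = 0 := by
  obtain ⟨S, hS⟩ := exists_finset_nat hE K b
  rw [hS]
  apply Finset.sum_eq_zero
  intro n _
  rw [hb n, zero_comp]

end CompactNat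

section Hocolim

variable {D : Type u} [Category.{v} D] [Preadditive D] [HasZeroObject D] [HasShift D ℤ]
  [∀ n : ℤ, (shiftFunctor D n).Additive] [Pretriangulated D]
  {K : ℕ → D} {f : ∀ n, K n ⟶ K (n + 1)} [HasCoproduct K] {L : D} {i : ∀ n, K n ⟶ L}

lemma i_succ (hL : DerLim.IsHocolim K f L i) (n : ℕ) : f n ≫ i (n + 1) = i n := by
  obtain ⟨c, hT⟩ := hL
  have h0 : φ K f ≫ Sigma.desc i = 0 := comp_distTriang_mor_zero₁₂ _ hT
  have := Sigma.ι K n ≫= h0
  rw [← Category.assoc, ι_φ, Preadditive.sub_comp, Category.assoc, Sigma.ι_desc, Sigma.ι_desc,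
    comp_zero, sub_eq_zero] at this
  exact this.symm

lemma tr_i (hL : DerLim.IsHocolim K f L i) {m n : ℕ} (h : m ≤ n) : tr K f h ≫ i n = i m := by
  induction n, h using Nat.le_induction with
  | base => rw [tr_refl, Category.id_comp]
  | succ n h ih =>
    rw [← tr_trans K f h (Nat.le_succ n), tr_succ, Category.assoc, i_succ hL, ih]

variable [HasCoproducts.{v} D]

theorem exists_factor (hL : DerLim.IsHocolim K f L i) {E : D} (hE : IsCompactObject E)
    (hE' : IsCompactObject ((shiftFunctor D (-1 : ℤ)).obj E)) (a : E ⟶ L) :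
    ∃ (N : ℕ) (aN : E ⟶ K N), a = aN ≫ i N := by
  obtain ⟨c, hT⟩ := id hL
  have h1 : a ≫ c = 0 := by
    let e : (shiftFunctor D (1 : ℤ)).obj ((shiftFunctor D (-1 : ℤ)).obj E) ≅ E :=
      (shiftFunctorCompIsoId D (-1 : ℤ) 1 (by norm_num)).app E
    obtain ⟨γ, hγ⟩ := (shiftFunctor D (1 : ℤ)).map_surjective (e.hom ≫ a ≫ c)
    have h2 : γ ≫ φ K f = 0 := by
      apply (shiftFunctor D (1 : ℤ)).map_injective
      rw [Functor.map_comp, hγ, Functor.map_zero, Category.assoc, Category.assoc]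
      have : c ≫ (shiftFunctor D (1 : ℤ)).map (φ K f) = 0 := comp_distTriang_mor_zero₃₁ _ hT
      rw [this, comp_zero, comp_zero]
    have h3 : γ = 0 := eq_zero_of_comp_π hE' K γ (fun n => by
      rw [← φ_ρ K f n, reassoc_of% h2, zero_comp])
    rw [h3, Functor.map_zero] at hγ
    rw [← cancel_epi e.hom, ← hγ, comp_zero]
  obtain ⟨b, hb⟩ : ∃ b : E ⟶ ∐ K, a = b ≫ Sigma.desc i := Triangle.coyoneda_exact₃ _ hT a h1
  obtain ⟨S, hS⟩ := exists_finset_nat hE K b
  obtain ⟨N, hN⟩ : ∃ N, ∀ n ∈ S, n ≤ N := ⟨S.sup id, fun n hn => Finset.le_sup (f := id) hn⟩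
  refine ⟨N, ∑ n ∈ S.attach, (b ≫ Sigma.π K n.1) ≫ tr K f (hN n.1 n.2), ?_⟩
  have h4 : b ≫ Sigma.desc i = (∑ n ∈ S, (b ≫ Sigma.π K n) ≫ Sigma.ι K n) ≫ Sigma.desc i :=
    congrArg (· ≫ Sigma.desc i) hS
  rw [hb]
  refine h4.trans ?_
  rw [Preadditive.sum_comp, Preadditive.sum_comp, ← Finset.sum_attach]
  apply Finset.sum_congr rfl
  intro n _
  rw [Category.assoc, Sigma.ι_desc, Category.assoc, Category.assoc, tr_i hL, Category.assoc]

end Hocolim

section Presentation

variable {D : Type u} [Category.{v} D] [Preadditive D] [HasZeroObject D] [HasShift D ℤ]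
  [∀ n : ℤ, (shiftFunctor D n).Additive] [Pretriangulated D]
  [HasCoproducts.{v} D]
  {ι : Type v} (E : ι → D) (X : D)

/-- Index type for maps from shifted generators to `W`. -/
abbrev Idx (W : D) : Type v := Σ (i : ι) (m : ℤ), ((shiftFunctor D m).obj (E i) ⟶ W)

/-- The source of an index. -/
abbrev src (W : D) (k : Idx E W) : D := (shiftFunctor D k.2.1).obj (E k.1)

/-- A stage of the construction: an object over `X`. -/
structure Stage where
  /-- the object -/
  K : D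
  /-- the structure map -/
  p : K ⟶ X

variable {X}

/-- Indices killed by the structure map. -/
abbrev KIdx (s : Stage X) : Type v := { k : Idx E s.K // k.2.2 ≫ s.p = 0 }

/-- The sum of the sources of all killed indices. -/
noncomputable abbrev Y (s : Stage X) : D :=
  ∐ (fun k : KIdx E s => (shiftFunctor D k.1.2.1).obj (E k.1.1))

/-- The canonical map. -/
noncomputable def y (s : Stage X) : Y E s ⟶ s.K := Sigma.desc (fun k => k.1.2.2)

lemma y_p (s : Stage X) : y E s ≫ s.p = 0 := by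
  apply Sigma.hom_ext
  intro k
  rw [y, Sigma.ι_desc_assoc, comp_zero]
  exact k.2

lemma exists_next (s : Stage X) : ∃ (K' : D) (g : s.K ⟶ K')
    (z : K' ⟶ (shiftFunctor D (1 : ℤ)).obj (Y E s)) (p' : K' ⟶ X),
    Triangle.mk (y E s) g z ∈ distTriang D ∧ g ≫ p' = s.p := by
  obtain ⟨K', g, z, hT⟩ := distinguished_cocone_triangle (y E s)
  obtain ⟨p', hp'⟩ := Triangle.yoneda_exact₂ _ hT s.p (y_p E s)
  exact ⟨K', g, z, p', hT, hp'.symm⟩

/-- The next stage. -/
noncomputable def next (s : Stage X) : Stage X :=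
  ⟨(exists_next E s).choose, (exists_next E s).choose_spec.choose_spec.choose_spec.choose⟩

/-- The transition map. -/
noncomputable def g (s : Stage X) : s.K ⟶ (next E s).K :=
  (exists_next E s).choose_spec.choose

/-- The third map of the triangle. -/
noncomputable def z (s : Stage X) : (next E s).K ⟶ (shiftFunctor D (1 : ℤ)).obj (Y E s) :=
  (exists_next E s).choose_spec.choose_spec.choose

lemma triangle_mem (s : Stage X) : Triangle.mk (y E s) (g E s) (z E s) ∈ distTriang D :=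
  (exists_next E s).choose_spec.choose_spec.choose_spec.choose_spec.1

lemma g_p (s : Stage X) : g E s ≫ (next E s).p = s.p :=
  (exists_next E s).choose_spec.choose_spec.choose_spec.choose_spec.2

lemma y_g (s : Stage X) : y E s ≫ g E s = 0 :=
  comp_distTriang_mor_zero₁₂ _ (triangle_mem E s)

variable (X)

/-- The initial stage. -/
noncomputable def stage0 : Stage X :=
  ⟨∐ (fun k : Idx E X => (shiftFunctor D k.2.1).obj (E k.1)), Sigma.desc (fun k => k.2.2)⟩

/-- The stages. -/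
noncomputable def stage : ℕ → Stage X
  | 0 => stage0 E X
  | n + 1 => next E (stage n)

/-- The objects. -/
noncomputable abbrev KK (n : ℕ) : D := (stage E X n).K

/-- The transition maps. -/
noncomputable def ff (n : ℕ) : KK E X n ⟶ KK E X (n + 1) := g E (stage E X n)

/-- The structure maps. -/
noncomputable abbrev pp (n : ℕ) : KK E X n ⟶ X := (stage E X n).p

lemma ff_pp (n : ℕ) : ff E X n ≫ pp E X (n + 1) = pp E X n := g_p E (stage E X n)

lemma y_ff (n : ℕ) : y E (stage E X n) ≫ ff E X n = 0 := y_g E (stage E X n)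

lemma exists_lift0 (i : ι) (m : ℤ) (b : (shiftFunctor D m).obj (E i) ⟶ X) :
    ∃ b0 : (shiftFunctor D m).obj (E i) ⟶ KK E X 0, b0 ≫ pp E X 0 = b :=
  ⟨Sigma.ι (fun k : Idx E X => (shiftFunctor D k.2.1).obj (E k.1)) ⟨i, m, b⟩,
    Sigma.ι_desc _ _⟩

lemma exists_liftY (n : ℕ) (i : ι) (m : ℤ) (a : (shiftFunctor D m).obj (E i) ⟶ KK E X n)
    (ha : a ≫ pp E X n = 0) :
    ∃ a' : (shiftFunctor D m).obj (E i) ⟶ Y E (stage E X n), a' ≫ y E (stage E X n) = a :=
  ⟨Sigma.ι (fun k : KIdx E (stage E X n) => (shiftFunctor D k.1.2.1).obj (E k.1.1))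
    ⟨⟨i, m, a⟩, ha⟩, Sigma.ι_desc _ _⟩

variable [HasColimitsOfShape (Discrete ℕ) D]

include E in
theorem main (hc : ∀ i, IsCompactObject (E i)) (hg : Generates E) :
    DerLim.IsHocolim (KK E X) (ff E X) X (pp E X) := by
  obtain ⟨L, q, c, hT⟩ := distinguished_cocone_triangle (φ (KK E X) (ff E X))
  have hq : Sigma.desc (fun n => Sigma.ι (KK E X) n ≫ q) = q := by
    apply Sigma.hom_ext
    intro n
    rw [Sigma.ι_desc]
  have hL : DerLim.IsHocolim (KK E X) (ff E X) L (fun n => Sigma.ι (KK E X) n ≫ q) :=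
    ⟨c, by rw [hq]; exact hT⟩
  have h0 : φ (KK E X) (ff E X) ≫ Sigma.desc (pp E X) = 0 := by
    apply Sigma.hom_ext
    intro n
    rw [← Category.assoc, ι_φ, Preadditive.sub_comp, Category.assoc, Sigma.ι_desc, Sigma.ι_desc,
      ff_pp, sub_self, comp_zero]
  obtain ⟨t, ht⟩ : ∃ t : L ⟶ X, Sigma.desc (pp E X) = q ≫ t :=
    Triangle.yoneda_exact₂ _ hT (Sigma.desc (pp E X)) h0
  have hit : ∀ n, (Sigma.ι (KK E X) n ≫ q) ≫ t = pp E X n := fun n => by
    have := Sigma.ι (KK E X) n ≫= ht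
    rw [Sigma.ι_desc] at this
    rw [Category.assoc]
    exact this.symm
  have hcs : ∀ (i : ι) (m : ℤ), IsCompactObject ((shiftFunctor D m).obj (E i)) :=
    fun i m => Compact.isCompactObject_shift (hc i) m
  have hcs' : ∀ (i : ι) (m : ℤ),
      IsCompactObject ((shiftFunctor D (-1 : ℤ)).obj ((shiftFunctor D m).obj (E i))) :=
    fun i m => Compact.isCompactObject_shift (hcs i m) _
  -- injectivity
  have hinj : ∀ (i : ι) (m : ℤ) (γ : (shiftFunctor D m).obj (E i) ⟶ L), γ ≫ t = 0 → γ = 0 := by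
    intro i m γ hγ
    obtain ⟨N, γN, rfl⟩ := exists_factor hL (hcs i m) (hcs' i m) γ
    have h1 : γN ≫ pp E X N = 0 := by
      rw [← hit N, ← Category.assoc]
      exact hγ
    obtain ⟨a', ha'⟩ := exists_liftY E X N i m γN h1
    have h3 : γN ≫ ff E X N = 0 := by
      rw [← ha', Category.assoc, y_ff, comp_zero]
    rw [← i_succ hL N, reassoc_of% h3, zero_comp]
  -- surjectivity
  have hsurj : ∀ (i : ι) (m : ℤ) (b : (shiftFunctor D m).obj (E i) ⟶ X), ∃ b', b = b' ≫ t := by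
    intro i m b
    obtain ⟨b0, hb0⟩ := exists_lift0 E X i m b
    exact ⟨b0 ≫ Sigma.ι (KK E X) 0 ≫ q, by rw [Category.assoc, hit 0, hb0]⟩
  -- the cone of t vanishes
  obtain ⟨C, u, w, hT'⟩ := distinguished_cocone_triangle t
  have hC0 : ∀ (i : ι) (m : ℤ) (b : (shiftFunctor D m).obj (E i) ⟶ C), b = 0 := by
    intro i m b
    have h1 : b ≫ w = 0 := by
      let e : (shiftFunctor D (1 : ℤ)).obj ((shiftFunctor D (m - 1)).obj (E i)) ≅
          (shiftFunctor D m).obj (E i) :=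
        ((shiftFunctorAdd' D (m - 1) 1 m (by ring)).app (E i)).symm
      obtain ⟨γ, hγ⟩ := (shiftFunctor D (1 : ℤ)).map_surjective (e.hom ≫ b ≫ w)
      have h2 : γ ≫ t = 0 := by
        apply (shiftFunctor D (1 : ℤ)).map_injective
        rw [Functor.map_comp, hγ, Functor.map_zero, Category.assoc, Category.assoc]
        have : w ≫ (shiftFunctor D (1 : ℤ)).map t = 0 := comp_distTriang_mor_zero₃₁ _ hT'
        rw [this, comp_zero, comp_zero]
      rw [hinj i (m - 1) γ h2, Functor.map_zero] at hγ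
      rw [← cancel_epi e.hom, ← hγ, comp_zero]
    obtain ⟨b', hb'⟩ : ∃ b' : (shiftFunctor D m).obj (E i) ⟶ X, b = b' ≫ u :=
      Triangle.coyoneda_exact₃ _ hT' b h1
    obtain ⟨b'', rfl⟩ := hsurj i m b'
    have : t ≫ u = 0 := comp_distTriang_mor_zero₁₂ _ hT'
    rw [hb', Category.assoc, this, comp_zero]
  have hC : IsZero C := by
    apply hg
    intro i n b
    let e : (shiftFunctor D (-n)).obj ((shiftFunctor D n).obj C) ≅ C :=
      (shiftFunctorCompIsoId D n (-n) (by ring)).app C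
    have := hC0 i (-n) ((shiftFunctor D (-n)).map b ≫ e.hom)
    rw [← cancel_mono e.inv, Category.assoc, e.hom_inv_id, Category.comp_id, zero_comp] at this
    apply (shiftFunctor D (-n)).map_injective
    rw [this, Functor.map_zero]
  have hiso : IsIso t := (Triangle.isZero₃_iff_isIso₁ _ hT').1 hC
  refine ⟨inv t ≫ c, ?_⟩
  refine isomorphic_distinguished _ hT _ (Triangle.isoMk _ _ (Iso.refl _) (Iso.refl _)
    (asIso t).symm ?_ ?_ ?_)
  · change φ (KK E X) (ff E X) ≫ 𝟙 _ = 𝟙 _ ≫ φ (KK E X) (ff E X)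
    rw [Category.comp_id, Category.id_comp]
  · change Sigma.desc (pp E X) ≫ inv t = 𝟙 _ ≫ q
    rw [Category.id_comp, ht, Category.assoc, IsIso.hom_inv_id, Category.comp_id]
  · change (inv t ≫ c) ≫ (shiftFunctor D (1 : ℤ)).map (𝟙 _) = inv t ≫ c
    rw [CategoryTheory.Functor.map_id, Category.comp_id]

end Presentation

end Groth.Agent.Helper1.Hocolim
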