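import Mathlib
import Groth.Agent.Helper1.Hocolim

/-!
# Brown representability (compactly generated case)
-/

set_option autoImplicit false
set_option linter.unusedSectionVars false

namespace Groth.Agent.Helper1.Brown
open CategoryTheory Limits CohDer Pretriangulated Opposite ZeroObject

universe v u

variable {D : Type u} [Category.{v} D] [Preadditive D] [HasZeroObject D] [HasShift D ℤ]
  [∀ n : ℤ, (shiftFunctor D n).Additive] [Pretriangulated D]
  (H : Dᵒᵖ ⥤ AddCommGrpCat.{v})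

section Elements

/-- Pullback of elements along a morphism. -/
def ev {W W' : D} (a : W ⟶ W') (x : H.obj (op W')) : H.obj (op W) := (H.map a.op).hom x

lemma ev_id {W : D} (x : H.obj (op W)) : ev H (𝟙 W) x = x := by
  simp [ev]

lemma ev_comp {W W' W'' : D} (a : W ⟶ W') (b : W' ⟶ W'') (x : H.obj (op W'')) :
    ev H (a ≫ b) x = ev H a (ev H b x) := by
  simp [ev]

lemma ev_zero {W W' : D} (a : W ⟶ W') : ev H a 0 = 0 := by
  simp [ev]

lemma ev_add {W W' : D} (a : W ⟶ W') (x y : H.obj (op W')) :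
    ev H a (x + y) = ev H a x + ev H a y := by
  simp [ev]

lemma ev_sub {W W' : D} (a : W ⟶ W') (x y : H.obj (op W')) :
    ev H a (x - y) = ev H a x - ev H a y := by
  simp [ev]

variable [H.IsHomological]

lemma ev_zero_left {W W' : D} (x : H.obj (op W')) : ev H (0 : W ⟶ W') x = 0 := by
  simp [ev]

lemma ev_sub_left {W W' : D} (a b : W ⟶ W') (x : H.obj (op W')) :
    ev H (a - b) x = ev H a x - ev H b x := by
  simp [ev, Functor.map_sub]

lemma exact_ev (T : Triangle D) (hT : T ∈ distTriang D) (x : H.obj (op T.obj₂))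
    (hx : ev H T.mor₁ x = 0) : ∃ y : H.obj (op T.obj₃), ev H T.mor₂ y = x := by
  have h := H.map_distinguished_exact _ (op_distinguished T hT)
  rw [ShortComplex.ab_exact_iff] at h
  exact h x hx

omit [H.IsHomological] in
lemma existsUnique_of_coproduct {J : Type*} [PreservesLimitsOfShape (Discrete J) H]
    (W : J → D) [HasCoproduct W] (x : ∀ j, H.obj (op (W j))) :
    ∃! ξ : H.obj (op (∐ W)), ∀ j, ev H (Sigma.ι W j) ξ = x j := by
  have h1 : IsLimit (Cofan.mk (∐ W) (Sigma.ι W)).op :=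
    Cofan.IsColimit.op (coproductIsCoproduct W)
  have h2 := isLimitFanMkObjOfIsLimit H _ _ h1
  have h3 := isLimitOfPreserves (forget AddCommGrpCat.{v}) h2
  have h4 := (Types.isLimit_iff _).1 ⟨h3⟩ (fun j => x j.as) (by
    rintro ⟨j⟩ ⟨j'⟩ ⟨⟨⟨⟩⟩⟩
    simp)
  obtain ⟨ξ, hξ, hu⟩ := h4
  refine ⟨ξ, fun j => hξ ⟨j⟩, fun y hy => hu y ?_⟩
  rintro ⟨j⟩
  exact hy j

end Elements

section Construction

variable [H.IsHomological] [HasCoproducts.{v} D]
  [∀ (κ : Type v), PreservesLimitsOfShape (Discrete κ) H]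
  {ι : Type v} (E : ι → D)

/-- A stage: an object with an element of `H`. -/
structure Stage where
  /-- the object -/
  K : D
  /-- the element -/
  ξ : H.obj (op K)

/-- Maps from shifted generators. -/
abbrev GIdx (W : D) : Type v := Σ (i : ι) (m : ℤ), ((shiftFunctor D m).obj (E i) ⟶ W)

/-- Maps from shifted generators killing the element. -/
abbrev KIdx (s : Stage H) : Type v := { k : GIdx E s.K // ev H k.2.2 s.ξ = 0 }

/-- The sum of the sources. -/
noncomputable abbrev Y (s : Stage H) : D :=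
  ∐ (fun k : KIdx H E s => (shiftFunctor D k.1.2.1).obj (E k.1.1))

/-- The canonical map. -/
noncomputable def y (s : Stage H) : Y H E s ⟶ s.K := Sigma.desc (fun k => k.1.2.2)

lemma ev_y (s : Stage H) : ev H (y H E s) s.ξ = 0 := by
  obtain ⟨ξ, _, hu⟩ := existsUnique_of_coproduct H
    (fun k : KIdx H E s => (shiftFunctor D k.1.2.1).obj (E k.1.1)) (fun _ => 0)
  rw [hu (ev H (y H E s) s.ξ) (fun k => by
    rw [← ev_comp, y, Sigma.ι_desc]
    exact k.2), hu 0 (fun k => ev_zero H _)]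

lemma exists_next (s : Stage H) : ∃ (K' : D) (g : s.K ⟶ K')
    (z : K' ⟶ (shiftFunctor D (1 : ℤ)).obj (Y H E s)) (ξ' : H.obj (op K')),
    Triangle.mk (y H E s) g z ∈ distTriang D ∧ ev H g ξ' = s.ξ := by
  obtain ⟨K', g, z, hT⟩ := distinguished_cocone_triangle (y H E s)
  obtain ⟨ξ', hξ'⟩ := exact_ev H _ hT s.ξ (ev_y H E s)
  exact ⟨K', g, z, ξ', hT, hξ'⟩

/-- The next stage. -/
noncomputable def next (s : Stage H) : Stage H :=
  ⟨(exists_next H E s).choose, (exists_next H E s).choose_spec.choose_spec.choose_spec.choose⟩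

/-- The transition map. -/
noncomputable def g (s : Stage H) : s.K ⟶ (next H E s).K :=
  (exists_next H E s).choose_spec.choose

/-- The third map of the triangle. -/
noncomputable def z (s : Stage H) :
    (next H E s).K ⟶ (shiftFunctor D (1 : ℤ)).obj (Y H E s) :=
  (exists_next H E s).choose_spec.choose_spec.choose

lemma triangle_mem (s : Stage H) : Triangle.mk (y H E s) (g H E s) (z H E s) ∈ distTriang D :=
  (exists_next H E s).choose_spec.choose_spec.choose_spec.choose_spec.1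

lemma ev_g (s : Stage H) : ev H (g H E s) (next H E s).ξ = s.ξ :=
  (exists_next H E s).choose_spec.choose_spec.choose_spec.choose_spec.2

lemma y_g (s : Stage H) : y H E s ≫ g H E s = 0 :=
  comp_distTriang_mor_zero₁₂ _ (triangle_mem H E s)

variable (V : D) (η : H.obj (op V))

/-- Index type of the initial stage. -/
abbrev Idx0 : Type v := Option (Σ (i : ι) (m : ℤ), H.obj (op ((shiftFunctor D m).obj (E i))))

/-- Summands of the initial stage. -/
def obj0 : Idx0 H E → D
  | none => V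
  | some k => (shiftFunctor D k.2.1).obj (E k.1)

/-- Elements of the summands of the initial stage. -/
def elt0 : ∀ k : Idx0 H E, H.obj (op (obj0 H E V k))
  | none => η
  | some k => k.2.2

/-- The initial stage. -/
noncomputable def stage0 : Stage H :=
  ⟨∐ obj0 H E V, (existsUnique_of_coproduct H (obj0 H E V) (elt0 H E V η)).exists.choose⟩

lemma ev_ι_stage0 (k : Idx0 H E) :
    ev H (Sigma.ι (obj0 H E V) k) (stage0 H E V η).ξ = elt0 H E V η k :=
  (existsUnique_of_coproduct H (obj0 H E V) (elt0 H E V η)).exists.choose_spec k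

/-- The stages. -/
noncomputable def stage : ℕ → Stage H
  | 0 => stage0 H E V η
  | n + 1 => next H E (stage n)

/-- The objects. -/
noncomputable abbrev KK (n : ℕ) : D := (stage H E V η n).K

/-- The elements. -/
noncomputable abbrev ξξ (n : ℕ) : H.obj (op (KK H E V η n)) := (stage H E V η n).ξ

/-- The transition maps. -/
noncomputable def ff (n : ℕ) : KK H E V η n ⟶ KK H E V η (n + 1) := g H E (stage H E V η n)

lemma ev_ff (n : ℕ) : ev H (ff H E V η n) (ξξ H E V η (n + 1)) = ξξ H E V η n :=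
  ev_g H E (stage H E V η n)

lemma y_ff (n : ℕ) : y H E (stage H E V η n) ≫ ff H E V η n = 0 := y_g H E (stage H E V η n)

lemma exists_lift0 (i : ι) (m : ℤ) (x : H.obj (op ((shiftFunctor D m).obj (E i)))) :
    ∃ b0 : (shiftFunctor D m).obj (E i) ⟶ KK H E V η 0, ev H b0 (ξξ H E V η 0) = x :=
  ⟨Sigma.ι (obj0 H E V) (some ⟨i, m, x⟩), ev_ι_stage0 H E V η (some ⟨i, m, x⟩)⟩

lemma exists_v0 : ∃ v0 : V ⟶ KK H E V η 0, ev H v0 (ξξ H E V η 0) = η :=
  ⟨Sigma.ι (obj0 H E V) none, ev_ι_stage0 H E V η none⟩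

lemma exists_liftY (n : ℕ) (i : ι) (m : ℤ) (a : (shiftFunctor D m).obj (E i) ⟶ KK H E V η n)
    (ha : ev H a (ξξ H E V η n) = 0) :
    ∃ a' : (shiftFunctor D m).obj (E i) ⟶ Y H E (stage H E V η n),
      a' ≫ y H E (stage H E V η n) = a :=
  ⟨Sigma.ι (fun k : KIdx H E (stage H E V η n) => (shiftFunctor D k.1.2.1).obj (E k.1.1))
    ⟨⟨i, m, a⟩, ha⟩, Sigma.ι_desc _ _⟩

/-- Output of the construction. -/
structure Rep where
  /-- the object -/
  X : D
  /-- the universal element -/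
  ξ : H.obj (op X)
  /-- the map from `V` -/
  v : V ⟶ X
  ev_v : ev H v ξ = η
  surj : ∀ (i : ι) (m : ℤ) (x : H.obj (op ((shiftFunctor D m).obj (E i)))),
    ∃ a : (shiftFunctor D m).obj (E i) ⟶ X, ev H a ξ = x
  inj : ∀ (i : ι) (m : ℤ) (a : (shiftFunctor D m).obj (E i) ⟶ X), ev H a ξ = 0 → a = 0

variable [HasColimitsOfShape (Discrete ℕ) D] [PreservesLimitsOfShape (Discrete ℕ) H]

theorem exists_rep (hc : ∀ i, IsCompactObject (E i)) : Nonempty (Rep H E V η) := by
  obtain ⟨L, q, c, hT⟩ := distinguished_cocone_triangle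
    (Hocolim.φ (KK H E V η) (ff H E V η))
  have hq : Sigma.desc (fun n => Sigma.ι (KK H E V η) n ≫ q) = q := by
    apply Sigma.hom_ext
    intro n
    rw [Sigma.ι_desc]
  have hL : DerLim.IsHocolim (KK H E V η) (ff H E V η) L
      (fun n => Sigma.ι (KK H E V η) n ≫ q) := ⟨c, by rw [hq]; exact hT⟩
  -- the element on the coproduct
  obtain ⟨Ξ, hΞ, hΞu⟩ := existsUnique_of_coproduct H (KK H E V η) (ξξ H E V η)
  have h0 : ev H (Hocolim.φ (KK H E V η) (ff H E V η)) Ξ = 0 := by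
    obtain ⟨_, _, hu⟩ := existsUnique_of_coproduct H (KK H E V η) (fun _ => 0)
    rw [hu (ev H (Hocolim.φ (KK H E V η) (ff H E V η)) Ξ) (fun n => by
      rw [← ev_comp, Hocolim.ι_φ, ev_sub_left, ev_comp, hΞ, hΞ, ev_ff, sub_self]),
      hu 0 (fun n => ev_zero H _)]
  obtain ⟨ξ, hξ⟩ : ∃ ξ : H.obj (op L), ev H q ξ = Ξ := exact_ev H _ hT Ξ h0
  have hiξ : ∀ n, ev H (Sigma.ι (KK H E V η) n ≫ q) ξ = ξξ H E V η n := fun n => by
    rw [ev_comp, hξ, hΞ]
  have hcs : ∀ (i : ι) (m : ℤ), IsCompactObject ((shiftFunctor D m).obj (E i)) :=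
    fun i m => Compact.isCompactObject_shift (hc i) m
  have hcs' : ∀ (i : ι) (m : ℤ),
      IsCompactObject ((shiftFunctor D (-1 : ℤ)).obj ((shiftFunctor D m).obj (E i))) :=
    fun i m => Compact.isCompactObject_shift (hcs i m) _
  obtain ⟨v0, hv0⟩ := exists_v0 H E V η
  refine ⟨⟨L, ξ, v0 ≫ Sigma.ι (KK H E V η) 0 ≫ q, ?_, ?_, ?_⟩⟩
  · rw [ev_comp, hiξ, hv0]
  · intro i m x
    obtain ⟨b0, hb0⟩ := exists_lift0 H E V η i m x
    exact ⟨b0 ≫ Sigma.ι (KK H E V η) 0 ≫ q, by rw [ev_comp, hiξ, hb0]⟩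
  · intro i m a ha
    obtain ⟨N, aN, rfl⟩ := Hocolim.exists_factor hL (hcs i m) (hcs' i m) a
    have h1 : ev H aN (ξξ H E V η N) = 0 := by
      rw [← hiξ N, ← ev_comp]
      exact ha
    obtain ⟨a', ha'⟩ := exists_liftY H E V η N i m aN h1
    have h3 : aN ≫ ff H E V η N = 0 := by
      rw [← ha', Category.assoc, y_ff, comp_zero]
    rw [← Hocolim.i_succ hL N, reassoc_of% h3, zero_comp]

end Construction

section IsoCriterion

variable [HasCoproducts.{v} D] {ι : Type v} (E : ι → D)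

include E in
lemma isIso_of_generators (hg : Generates E) {L X : D} (t : L ⟶ X)
    (hinj : ∀ (i : ι) (m : ℤ) (γ : (shiftFunctor D m).obj (E i) ⟶ L), γ ≫ t = 0 → γ = 0)
    (hsurj : ∀ (i : ι) (m : ℤ) (b : (shiftFunctor D m).obj (E i) ⟶ X), ∃ b', b = b' ≫ t) :
    IsIso t := by
  obtain ⟨C, u, w, hT'⟩ := distinguished_cocone_triangle t
  have hC0 : ∀ (i : ι) (m : ℤ) (b : (shiftFunctor D m).obj (E i) ⟶ C), b = 0 := by
    intro i m b
    have h1 : b ≫ w = 0 := by
      let e : (shiftFunctor D (1 : ℤ)).obj ((shiftFunctor D (m - 1)).obj (E i)) ≅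
          (shiftFunctor D m).obj (E i) :=
        ((shiftFunctorAdd' D (m - 1) 1 m (by ring)).app (E i)).symm
      obtain ⟨γ, hγ⟩ := (shiftFunctor D (1 : ℤ)).map_surjective (e.hom ≫ b ≫ w)
      have h2 : γ ≫ t = 0 := by
        apply (shiftFunctor D (1 : ℤ)).map_injective
        rw [Functor.map_comp, hγ, Functor.map_zero, Category.assoc, Category.assoc]
        have : w ≫ (shiftFunctor D (1 : ℤ)).map t = 0 := comp_distTriang_mor_zero₃₁ _ hT'
        rw [this, comp_zero, comp_zero]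
      rw [hinj i (m - 1) γ h2, Functor.map_zero] at hγ
      rw [← cancel_epi e.hom, ← hγ, comp_zero]
    obtain ⟨b', hb'⟩ : ∃ b' : (shiftFunctor D m).obj (E i) ⟶ X, b = b' ≫ u :=
      Triangle.coyoneda_exact₃ _ hT' b h1
    obtain ⟨b'', rfl⟩ := hsurj i m b'
    have : t ≫ u = 0 := comp_distTriang_mor_zero₁₂ _ hT'
    rw [hb', Category.assoc, this, comp_zero]
  have hC : IsZero C := by
    apply hg
    intro i n b
    let e : (shiftFunctor D (-n)).obj ((shiftFunctor D n).obj C) ≅ C :=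
      (shiftFunctorCompIsoId D n (-n) (by ring)).app C
    have := hC0 i (-n) ((shiftFunctor D (-n)).map b ≫ e.hom)
    rw [← cancel_mono e.inv, Category.assoc, e.hom_inv_id, Category.comp_id, zero_comp] at this
    apply (shiftFunctor D (-n)).map_injective
    rw [this, Functor.map_zero]
  exact (Triangle.isZero₃_iff_isIso₁ _ hT').1 hC

end IsoCriterion

section Main

variable [H.IsHomological] [HasCoproducts.{v} D]
  [∀ (κ : Type v), PreservesLimitsOfShape (Discrete κ) H]
  {ι : Type v} (E : ι → D)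
  [HasColimitsOfShape (Discrete ℕ) D] [PreservesLimitsOfShape (Discrete ℕ) H]

/-- A two-term family. -/
def obj2 (X W : D) : ULift.{v} Bool → D
  | ⟨true⟩ => X
  | ⟨false⟩ => W

/-- Elements of the two-term family. -/
def elt2 {X W : D} (ξ : H.obj (op X)) (η : H.obj (op W)) :
    ∀ b : ULift.{v} Bool, H.obj (op (obj2 X W b))
  | ⟨true⟩ => ξ
  | ⟨false⟩ => η

variable {H E} in
lemma surj_of_rep (hc : ∀ i, IsCompactObject (E i)) (hg : Generates E)
    (R : Rep H E (0 : D) 0) (W : D) (η : H.obj (op W)) : ∃ a : W ⟶ R.X, ev H a R.ξ = η := by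
  obtain ⟨Θ, hΘ, -⟩ := existsUnique_of_coproduct H (obj2 R.X W) (elt2 H R.ξ η)
  obtain ⟨R'⟩ := exists_rep H E (∐ obj2 R.X W) Θ hc
  let j : R.X ⟶ R'.X := Sigma.ι (obj2 R.X W) ⟨true⟩ ≫ R'.v
  let w : W ⟶ R'.X := Sigma.ι (obj2 R.X W) ⟨false⟩ ≫ R'.v
  have hj : ev H j R'.ξ = R.ξ := by
    rw [ev_comp, R'.ev_v]
    exact hΘ ⟨true⟩
  have hw : ev H w R'.ξ = η := by
    rw [ev_comp, R'.ev_v]
    exact hΘ ⟨false⟩
  have : IsIso j := by
    apply isIso_of_generators E hg
    · intro i m γ hγ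
      apply R.inj
      rw [← hj, ← ev_comp, hγ, ev_zero_left]
    · intro i m b
      obtain ⟨a, ha⟩ := R.surj i m (ev H b R'.ξ)
      refine ⟨a, ?_⟩
      rw [← sub_eq_zero]
      apply R'.inj
      rw [ev_sub_left, ev_comp, hj, ha, sub_self]
  refine ⟨w ≫ inv j, ?_⟩
  have h1 : ev H (inv j) R.ξ = R'.ξ := by
    rw [← hj, ← ev_comp, IsIso.inv_hom_id, ev_id]
  rw [ev_comp, h1, hw]

variable {H E} in
lemma inj_of_rep (hc : ∀ i, IsCompactObject (E i)) (hg : Generates E)
    (R : Rep H E (0 : D) 0) (W : D) (a : W ⟶ R.X) (ha : ev H a R.ξ = 0) : a = 0 := by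
  obtain ⟨C, b, c', hT⟩ := distinguished_cocone_triangle a
  obtain ⟨ζ, hζ⟩ : ∃ ζ : H.obj (op C), ev H b ζ = R.ξ := exact_ev H _ hT R.ξ ha
  obtain ⟨c, hc'⟩ := surj_of_rep hc hg R C ζ
  have he : ev H (b ≫ c) R.ξ = R.ξ := by rw [ev_comp, hc', hζ]
  have : IsIso (b ≫ c) := by
    apply isIso_of_generators E hg
    · intro i m γ hγ
      apply R.inj
      rw [← he, ← ev_comp, hγ, ev_zero_left]
    · intro i m g
      refine ⟨g, ?_⟩
      rw [← sub_eq_zero]
      apply R.inj
      rw [ev_sub_left, ev_comp H g, he, sub_self]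
  have hab : a ≫ b = 0 := comp_distTriang_mor_zero₁₂ _ hT
  rw [← cancel_mono (b ≫ c), zero_comp, reassoc_of% hab, zero_comp]

include E in
theorem representable (hc : ∀ i, IsCompactObject (E i)) (hg : Generates E) :
    (H ⋙ forget AddCommGrpCat.{v}).IsRepresentable := by
  obtain ⟨R⟩ := exists_rep H E (0 : D) 0 hc
  refine ⟨⟨R.X, ⟨{
    homEquiv := fun {W} => Equiv.ofBijective (fun a : W ⟶ R.X => ev H a R.ξ) ⟨?_, ?_⟩
    homEquiv_comp := ?_ }⟩⟩⟩
  · intro a a' h
    rw [← sub_eq_zero]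
    apply inj_of_rep hc hg R
    rw [ev_sub_left]
    exact sub_eq_zero.2 h
  · intro η
    exact surj_of_rep hc hg R W η
  · intro W W' f g
    exact ev_comp H f g R.ξ

end Main

end Groth.Agent.Helper1.Brown
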