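import Mathlib
import Groth.Agent.Helper1.CC3

/-!
# CC4: the canonical generators of the module attached to a cocycle
-/

set_option autoImplicit false
universe u
open CategoryTheory CategoryTheory.Limits AlgebraicGeometry TopologicalSpace Opposite

namespace Groth.Agent.Helper1.CC

variable {X : Scheme.{u}} {ι : Type u} (U : ι → X.Opens) (η : ∀ i j : ι, (Γ(X, U i ⊓ U j))ˣ)
  (hη : ∀ i j k : ι,
    ρ (inf_le_inf_right (U k) inf_le_left : U i ⊓ U j ⊓ U k ≤ U i ⊓ U k)
        (η i k : Γ(X, U i ⊓ U k)) =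
      ρ (inf_le_left : U i ⊓ U j ⊓ U k ≤ U i ⊓ U j) (η i j : Γ(X, U i ⊓ U j)) *
        ρ (inf_le_inf_right (U k) inf_le_right : U i ⊓ U j ⊓ U k ≤ U j ⊓ U k)
          (η j k : Γ(X, U j ⊓ U k)))

theorem im_le_inf (i k : ι) : im (U k) (U i) ≤ U i ⊓ U k :=
  le_inf (im_le_right (U k) (U i)) (im_le_left (U k) (U i))

include hη in
theorem η_self (i : ι) : (η i i : Γ(X, U i ⊓ U i)) = 1 := by
  have h := hη i i i
  have hb := ρ_bijective (inf_le_left : U i ⊓ U i ⊓ U i ≤ U i ⊓ U i) (le_inf le_rfl inf_le_left)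
  have hu : IsUnit (ρ (inf_le_left : U i ⊓ U i ⊓ U i ≤ U i ⊓ U i) (η i i : Γ(X, U i ⊓ U i))) :=
    (η i i).isUnit.map _
  have h1 : ρ (inf_le_left : U i ⊓ U i ⊓ U i ≤ U i ⊓ U i) (η i i : Γ(X, U i ⊓ U i)) = 1 := by
    have h2 : ρ (inf_le_left : U i ⊓ U i ⊓ U i ≤ U i ⊓ U i) (η i i : Γ(X, U i ⊓ U i)) * 1 =
        ρ (inf_le_left : U i ⊓ U i ⊓ U i ≤ U i ⊓ U i) (η i i : Γ(X, U i ⊓ U i)) *
          ρ (inf_le_left : U i ⊓ U i ⊓ U i ≤ U i ⊓ U i) (η i i : Γ(X, U i ⊓ U i)) := by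
      rw [mul_one]
      exact h
    exact (hu.mul_left_cancel h2).symm
  apply hb.1
  rw [h1, map_one]

include hη in
theorem exists_gen (i : ι) : ∃ s : Γ(Lc U η, U i), ∀ k,
    comp U η k (U i) s = ρ (im_le_inf U i k) (η i k : Γ(X, U i ⊓ U k)) := by
  apply exists_section
  intro j k
  rw [ρ_ρ, ρ_ρ]
  exact hη i j k

/-- the canonical generators -/
noncomputable def gen (i : ι) : Γ(Lc U η, U i) := (exists_gen U η hη i).choose

theorem comp_gen (i k : ι) :
    comp U η k (U i) (gen U η hη i) = ρ (im_le_inf U i k) (η i k : Γ(X, U i ⊓ U k)) :=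
  (exists_gen U η hη i).choose_spec k

theorem comp_res_gen (i k : ι) {V : X.Opens} (h : V ≤ U i) :
    comp U η k V ((Lc U η).presheaf.map (homOfLE h).op (gen U η hη i)) =
      ρ ((im_mono (U k) h).trans (im_le_inf U i k)) (η i k : Γ(X, U i ⊓ U k)) := by
  rw [comp_res, comp_gen, ρ_ρ]

/-- the transition relation between the generators -/
theorem gen_transition (i j : ι) :
    (Lc U η).presheaf.map (homOfLE (inf_le_left : U i ⊓ U j ≤ U i)).op (gen U η hη i) =
      (η i j : Γ(X, U i ⊓ U j)) •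
        (Lc U η).presheaf.map (homOfLE (inf_le_right : U i ⊓ U j ≤ U j)).op (gen U η hη j) := by
  apply comp_ext
  intro k
  rw [comp_smul, comp_res_gen, comp_res_gen]
  have hle : im (U k) (U i ⊓ U j) ≤ U i ⊓ U j ⊓ U k :=
    le_inf (im_le_right (U k) (U i ⊓ U j)) (im_le_left (U k) (U i ⊓ U j))
  have h := congrArg (ρ hle) (hη i j k)
  rw [map_mul, ρ_ρ, ρ_ρ, ρ_ρ] at h
  exact h

/-- the generators generate freely -/
theorem gen_bijective (i : ι) (V : X.Opens) (h : V ≤ U i) :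
    Function.Bijective (fun r : Γ(X, V) =>
      r • (Lc U η).presheaf.map (homOfLE h).op (gen U η hη i)) := by
  have hV : V ≤ im (U i) V := le_trans (le_inf le_rfl h) (inf_le_im (U i) V)
  have hb := ρ_bijective (im_le_right (U i) V) hV
  have hone : ρ ((im_mono (U i) h).trans (im_le_inf U i i)) (η i i : Γ(X, U i ⊓ U i)) = 1 := by
    rw [η_self U η hη i, map_one]
  constructor
  · intro r r' hrr
    have h1 := congrArg (comp U η i V) hrr
    simp only [] at h1
    rw [comp_smul, comp_smul, comp_res_gen, hone, mul_one, mul_one] at h1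
    exact hb.1 h1
  · intro t
    obtain ⟨r, hr⟩ := hb.2 (comp U η i V t)
    refine ⟨r, ?_⟩
    apply comp_ext
    intro k
    simp only []
    rw [comp_smul, comp_res_gen]
    have hT : im (U k) V ≤ T U i k V :=
      le_inf (le_inf (im_le_right (U k) V) ((im_le_right (U k) V).trans h)) (im_le_left (U k) V)
    have h1 := congrArg (ρ hT) (comp_cond U η V t i k)
    rw [map_mul, ρ_ρ, ρ_ρ, ρ_ρ, ρ_refl, ← hr, ρ_ρ] at h1
    exact h1.symm

include hη in
theorem isInvertible_Lc (hU : iSup U = ⊤) : PicF.IsInvertible (Lc U η) := by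
  intro y
  have hy : y ∈ iSup U := by rw [hU]; trivial
  obtain ⟨i, hi⟩ := Opens.mem_iSup.1 hy
  exact ⟨U i, hi, nonempty_iso_of_generator (Lc U η) (U i) (gen U η hη i)
    (fun V hV => gen_bijective U η hη i V hV)⟩

end Groth.Agent.Helper1.CC
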