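import Mathlib

/-!
# The morphism from a disjoint union of two closed subschemes with disjoint images
-/

set_option autoImplicit false

namespace Groth.Agent.Helper1.CI

open CategoryTheory Limits AlgebraicGeometry TopologicalSpace Opposite

universe u

theorem isClosedImmersion_coprod_desc {X X' P : Scheme.{u}} (f : X ⟶ P) (g : X' ⟶ P)
    [IsClosedImmersion f] [IsClosedImmersion g]
    (hd : ∀ (x : X) (x' : X'), f x ≠ g x') :
    IsClosedImmersion (coprod.desc f g) := by
  have hs : SurjectiveOnStalks (coprod.desc f g) := by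
    rw [IsZariskiLocalAtSource.iff_of_openCover (P := @SurjectiveOnStalks) (coprodOpenCover.{u, u} X X')]
    rintro (i | i)
    · change SurjectiveOnStalks (coprod.inl ≫ coprod.desc f g)
      rw [coprod.inl_desc]; infer_instance
    · change SurjectiveOnStalks (coprod.inr ≫ coprod.desc f g)
      rw [coprod.inr_desc]; infer_instance
  refine { toSurjectiveOnStalks := hs, isClosedEmbedding := ?_ }
  have h1 : (coprod.desc f g : (X ⨿ X' : Scheme.{u}) → P) ∘ (coprodMk X X') = Sum.elim f g := by
    funext x
    rcases x with x | x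
    · rw [Function.comp_apply, coprodMk_inl, Sum.elim_inl, ← Scheme.Hom.comp_apply, coprod.inl_desc]
    · rw [Function.comp_apply, coprodMk_inr, Sum.elim_inr, ← Scheme.Hom.comp_apply, coprod.inr_desc]
  have h2 : Topology.IsClosedEmbedding (Sum.elim f g : X ⊕ X' → P) := by
    refine Topology.IsClosedEmbedding.sumElim f.isClosedEmbedding g.isClosedEmbedding ?_
    rintro (a | a) (b | b) hab
    · rw [Sum.elim_inl, Sum.elim_inl] at hab
      rw [f.isClosedEmbedding.injective hab]
    · rw [Sum.elim_inl, Sum.elim_inr] at hab
      exact absurd hab (hd a b)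
    · rw [Sum.elim_inr, Sum.elim_inl] at hab
      exact absurd hab.symm (hd b a)
    · rw [Sum.elim_inr, Sum.elim_inr] at hab
      rw [g.isClosedEmbedding.injective hab]
  rw [← h1] at h2
  have h3 := h2.comp (coprodMk X X').symm.isClosedEmbedding
  have h4 : ((coprod.desc f g : (X ⨿ X' : Scheme.{u}) → P) ∘ (coprodMk X X')) ∘ (coprodMk X X').symm =
      (coprod.desc f g : (X ⨿ X' : Scheme.{u}) → P) := by
    funext x
    simp
  rw [h4] at h3
  exact h3

end Groth.Agent.Helper1.CI
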