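import Mathlib

/-!
# The disjoint union of two immersions is an immersion
-/

set_option autoImplicit false

namespace Groth.Agent.Helper1.CI

open CategoryTheory Limits AlgebraicGeometry TopologicalSpace Opposite

universe u

theorem isImmersion_coprod_map {X X' P P' : Scheme.{u}} (i : X ⟶ P) (i' : X' ⟶ P')
    [IsImmersion i] [IsImmersion i'] : IsImmersion (coprod.map i i') := by
  rw [IsZariskiLocalAtTarget.iff_of_openCover (P := @IsImmersion) (coprodOpenCover.{u, u} P P')]
  rintro (a | a)
  · have sq : IsPullback i coprod.inl coprod.inl (coprod.map i i') :=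
      isPullback_inl_inl_coprodMap i i'
    change IsImmersion (pullback.snd (coprod.map i i') (coprod.inl : P ⟶ P ⨿ P'))
    have h1 : sq.flip.isoPullback.hom ≫ pullback.snd (coprod.map i i') (coprod.inl : P ⟶ P ⨿ P') = i :=
      sq.flip.isoPullback_hom_snd
    have h2 : IsImmersion (sq.flip.isoPullback.hom ≫
        pullback.snd (coprod.map i i') (coprod.inl : P ⟶ P ⨿ P')) := by rw [h1]; infer_instance
    exact (MorphismProperty.cancel_left_of_respectsIso @IsImmersion _ _).1 h2
  · have sq : IsPullback i' coprod.inr coprod.inr (coprod.map i i') :=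
      isPullback_inr_inr_coprodMap i i'
    change IsImmersion (pullback.snd (coprod.map i i') (coprod.inr : P' ⟶ P ⨿ P'))
    have h1 : sq.flip.isoPullback.hom ≫ pullback.snd (coprod.map i i') (coprod.inr : P' ⟶ P ⨿ P') = i' :=
      sq.flip.isoPullback_hom_snd
    have h2 : IsImmersion (sq.flip.isoPullback.hom ≫
        pullback.snd (coprod.map i i') (coprod.inr : P' ⟶ P ⨿ P')) := by rw [h1]; infer_instance
    exact (MorphismProperty.cancel_left_of_respectsIso @IsImmersion _ _).1 h2

end Groth.Agent.Helper1.CI
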