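import Mathlib
import Groth.Agent.Lead.IdealModDict
import Groth.Agent.Helper4.TensorLift

set_option autoImplicit false
set_option linter.unusedSectionVars false

/-!
# IdealMul1: sections of the ideal module as functions; the multiplication pairing
`idealMod I × idealMod J → idealMod (I * J)`
-/

namespace Groth.Agent.Helper1.IdealMul

open CategoryTheory Limits AlgebraicGeometry TopologicalSpace Opposite
open Groth.Agent.Helper4.TensorLift
open Groth.Agent.Helper1.IdealMod (fn ofFn)

universe u

variable {X : Scheme.{u}}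

/-- naturality of the action on sections -/
theorem app_map {A B : X.Modules} (η : A ⟶ B) {W W' : X.Opens} (i : W ⟶ W') (x : Γ(A, W')) :
    η.app W (A.presheaf.map i.op x) = B.presheaf.map i.op (η.app W' x) := by
  have := η.mapPresheaf.naturality i.op
  exact congrArg (fun k => k.hom x) this

variable (K : X.IdealSheafData)

/-- a section of the ideal module, as a function -/
noncomputable def val (V : X.Opens) (t : Γ(ClSub.idealMod K, V)) : Γ(X, V) :=
  fn ((ClSub.idealModι K).app V t)

theorem val_injective (V : X.Opens) : Function.Injective (val K V) :=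
  Groth.Agent.Lead.IdealModDict.idealModι_app_injective K V

theorem val_add (V : X.Opens) (s t : Γ(ClSub.idealMod K, V)) :
    val K V (s + t) = val K V s + val K V t := by
  unfold val
  rw [map_add]
  rfl

theorem val_zero (V : X.Opens) : val K V 0 = 0 := by
  unfold val
  rw [map_zero]
  rfl

theorem val_smul (V : X.Opens) (r : Γ(X, V)) (t : Γ(ClSub.idealMod K, V)) :
    val K V (r • t) = r * val K V t := by
  unfold val
  rw [Scheme.Modules.Hom.app_smul]
  rfl

theorem val_map {V V' : X.Opens} (i : V' ⟶ V) (t : Γ(ClSub.idealMod K, V)) :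
    val K V' ((ClSub.idealMod K).presheaf.map i.op t) = X.presheaf.map i.op (val K V t) := by
  unfold val
  rw [app_map]
  rfl

theorem val_mem (U : X.affineOpens) (t : Γ(ClSub.idealMod K, U.1)) : val K U.1 t ∈ K.ideal U :=
  (Groth.Agent.Lead.IdealModDict.exists_section_iff K U _).1 ⟨t, rfl⟩

theorem exists_of_mem (U : X.affineOpens) (s : Γ(X, U.1)) (hs : s ∈ K.ideal U) :
    ∃ t : Γ(ClSub.idealMod K, U.1), val K U.1 t = s :=
  (Groth.Agent.Lead.IdealModDict.exists_section_iff K U s).2 hs

/-- a function which lies in the ideal on every affine open is a section of the ideal module -/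
theorem exists_of_forall_mem (V : X.Opens) (s : Γ(X, V))
    (h : ∀ (U : X.affineOpens) (hUV : U.1 ≤ V), X.presheaf.map (homOfLE hUV).op s ∈ K.ideal U) :
    ∃ t : Γ(ClSub.idealMod K, V), val K V t = s := by
  refine (Groth.Agent.Helper4.SubSec.exists_kernel_section_iff (ClSub.toSubscheme K) V
    (show Γ(Coh.structureModule X, V) from s)).2 ?_
  set φ := K.subschemeι with hφ
  change (φ.app V).hom s = 0
  have hex : ∀ z : (φ ⁻¹ᵁ V : K.subscheme.Opens), ∃ W : X.affineOpens, ∃ _ : W.1 ≤ V,
      φ z.1 ∈ W.1 := by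
    intro z
    obtain ⟨_, ⟨W, hW, rfl⟩, hzW, hWV⟩ :=
      X.isBasis_affineOpens.exists_subset_of_mem_open (show φ z.1 ∈ (V : Set X) from z.2) V.2
    exact ⟨⟨W, hW⟩, hWV, hzW⟩
  choose W hWV hzW using hex
  refine TopCat.Sheaf.eq_of_locally_eq' K.subscheme.sheaf (fun z => φ ⁻¹ᵁ (W z).1) (φ ⁻¹ᵁ V)
    (fun z => homOfLE (φ.preimage_mono (hWV z))) ?_ _ _ ?_
  · intro z hz
    exact Opens.mem_iSup.2 ⟨⟨z, hz⟩, hzW ⟨z, hz⟩⟩
  · intro z
    have h1 := h (W z) (hWV z)
    rw [← K.ker_subschemeι_app (W z), RingHom.mem_ker] at h1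
    have h2 := congrArg (fun k => k.hom s) (φ.naturality (homOfLE (hWV z)).op)
    change (K.subscheme.presheaf.map (homOfLE (φ.preimage_mono (hWV z))).op).hom
      ((φ.app V).hom s) = (K.subscheme.presheaf.map (homOfLE (φ.preimage_mono (hWV z))).op).hom 0
    rw [map_zero]
    exact h2.symm.trans h1

end Groth.Agent.Helper1.IdealMul
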