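import Mathlib
import Groth.Agent.Helper1.IdealMul1
import Groth.Agent.Lead.IdealMulA
import Groth.Agent.Lead.LocalLift

set_option autoImplicit false
set_option linter.unusedSectionVars false
set_option linter.style.haveILetI false

/-!
# CIMV1: the Mayer–Vietoris sequence `0 → I ⊓ J → I ⊕ J → I ⊔ J → 0` of ideal modules
-/

namespace Groth.Agent.Helper1.CIMV

open CategoryTheory Limits AlgebraicGeometry TopologicalSpace Opposite
open Groth.Agent.Helper1.IdealMul

universe u

variable {X : Scheme.{u}}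

theorem exists_incl (I K : X.IdealSheafData) (h : I ≤ K) :
    ∃ φ : ClSub.idealMod I ⟶ ClSub.idealMod K, φ ≫ ClSub.idealModι K = ClSub.idealModι I := by
  apply Groth.Agent.Lead.IdealMul.exists_factor_of_cover
  intro x
  obtain ⟨_, ⟨U, hU, rfl⟩, hxU, -⟩ :=
    X.isBasis_affineOpens.exists_subset_of_mem_open (Set.mem_univ x) isOpen_univ
  refine ⟨U, hU, hxU, ?_⟩
  intro s hs
  obtain ⟨t, rfl⟩ := (Groth.Agent.Lead.IdealMul.mem_secR _ U s).mp hs
  have h1 : val I U t ∈ I.ideal ⟨U, hU⟩ := val_mem I ⟨U, hU⟩ t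
  obtain ⟨t', ht'⟩ := exists_of_mem K ⟨U, hU⟩ _ (h ⟨U, hU⟩ h1)
  exact (Groth.Agent.Lead.IdealMul.mem_secR _ U _).mpr ⟨t', ht'⟩

/-- the inclusion of ideal modules -/
noncomputable def incl (I K : X.IdealSheafData) (h : I ≤ K) :
    ClSub.idealMod I ⟶ ClSub.idealMod K := (exists_incl I K h).choose

@[reassoc]
theorem incl_ι (I K : X.IdealSheafData) (h : I ≤ K) :
    incl I K h ≫ ClSub.idealModι K = ClSub.idealModι I := (exists_incl I K h).choose_spec

theorem val_incl (I K : X.IdealSheafData) (h : I ≤ K) (V : X.Opens) (t : Γ(ClSub.idealMod I, V)) :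
    val K V ((incl I K h).app V t) = val I V t := by
  have h1 := congrArg (fun ψ => (Scheme.Modules.Hom.app ψ V) t) (incl_ι I K h)
  exact congrArg Groth.Agent.Helper1.IdealMod.fn h1

instance mono_incl (I K : X.IdealSheafData) (h : I ≤ K) : Mono (incl I K h) := by
  haveI : Mono (incl I K h ≫ ClSub.idealModι K) := by
    rw [incl_ι]
    infer_instance
  exact mono_of_mono (incl I K h) (ClSub.idealModι K)

theorem incl_comp (I K L : X.IdealSheafData) (h : I ≤ K) (h' : K ≤ L) :
    incl I K h ≫ incl K L h' = incl I L (h.trans h') := by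
  rw [← cancel_mono (ClSub.idealModι L), Category.assoc, incl_ι, incl_ι, incl_ι]

variable (I J : X.IdealSheafData)

/-- the Mayer–Vietoris complex -/
noncomputable def mv : ShortComplex X.Modules where
  X₁ := ClSub.idealMod (I ⊓ J)
  X₂ := ClSub.idealMod I ⊞ ClSub.idealMod J
  X₃ := ClSub.idealMod (I ⊔ J)
  f := biprod.lift (incl (I ⊓ J) I inf_le_left) (incl (I ⊓ J) J inf_le_right)
  g := biprod.desc (incl I (I ⊔ J) le_sup_left) (-(incl J (I ⊔ J) le_sup_right))
  zero := by
    rw [biprod.lift_desc, Preadditive.comp_neg, incl_comp, incl_comp]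
    exact add_neg_cancel _

instance mono_mv_f : Mono (mv I J).f := by
  haveI : Mono ((mv I J).f ≫ biprod.fst) := by
    unfold mv
    simp only [biprod.lift_fst]
    infer_instance
  exact mono_of_mono (mv I J).f biprod.fst

/-- sections of a biproduct are determined by their components -/
theorem biprod_sec_ext {A B : X.Modules} (V : X.Opens) (s t : Γ(A ⊞ B, V))
    (h1 : (biprod.fst : A ⊞ B ⟶ A).app V s = (biprod.fst : A ⊞ B ⟶ A).app V t)
    (h2 : (biprod.snd : A ⊞ B ⟶ B).app V s = (biprod.snd : A ⊞ B ⟶ B).app V t) : s = t := by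
  have key : ∀ w : Γ(A ⊞ B, V), w = (biprod.inl : A ⟶ A ⊞ B).app V
      ((biprod.fst : A ⊞ B ⟶ A).app V w) + (biprod.inr : B ⟶ A ⊞ B).app V
      ((biprod.snd : A ⊞ B ⟶ B).app V w) := by
    intro w
    have h := congrArg (fun ψ => (Scheme.Modules.Hom.app ψ V) w) (biprod.total (X := A) (Y := B))
    exact h.symm
  rw [key s, key t, h1, h2]

theorem mv_exact : (mv I J).Exact := by
  apply Groth.Agent.Lead.LocalLift.exact_of_local_lift
  intro T t ht x hx
  refine ⟨T, le_rfl, hx, ?_⟩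
  set t₁ : Γ(ClSub.idealMod I, T) :=
    (biprod.fst : ClSub.idealMod I ⊞ ClSub.idealMod J ⟶ _).app T t with ht₁
  set t₂ : Γ(ClSub.idealMod J, T) :=
    (biprod.snd : ClSub.idealMod I ⊞ ClSub.idealMod J ⟶ _).app T t with ht₂
  have hg : (mv I J).g.app T t = (incl I (I ⊔ J) le_sup_left).app T t₁ -
      (incl J (I ⊔ J) le_sup_right).app T t₂ := by
    have h : (mv I J).g = biprod.fst ≫ incl I (I ⊔ J) le_sup_left -
        biprod.snd ≫ incl J (I ⊔ J) le_sup_right := by
      unfold mv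
      simp only
      rw [biprod.desc_eq, Preadditive.comp_neg, sub_eq_add_neg]
    rw [h]
    rfl
  have heq : val I T t₁ = val J T t₂ := by
    have h1 : (incl I (I ⊔ J) le_sup_left).app T t₁ = (incl J (I ⊔ J) le_sup_right).app T t₂ :=
      sub_eq_zero.1 (hg.symm.trans ht)
    have h2 := congrArg (val (I ⊔ J) T) h1
    rwa [val_incl, val_incl] at h2
  obtain ⟨r, hr⟩ := exists_of_forall_mem (I ⊓ J) T (val I T t₁) (fun U hUT => by
    constructor
    · rw [← val_map]
      exact val_mem I U _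
    · rw [heq, ← val_map]
      exact val_mem J U _)
  refine ⟨r, ?_⟩
  have hres : (mv I J).X₂.presheaf.map (homOfLE (le_refl T)).op t = t := by
    have : (homOfLE (le_refl T)).op = 𝟙 (op T) := rfl
    rw [this, CategoryTheory.Functor.map_id]
    rfl
  rw [hres]
  apply biprod_sec_ext
  · have h1 : (biprod.fst : ClSub.idealMod I ⊞ ClSub.idealMod J ⟶ _).app T ((mv I J).f.app T r) =
        (incl (I ⊓ J) I inf_le_left).app T r := by
      have h : (mv I J).f ≫ biprod.fst = incl (I ⊓ J) I inf_le_left := by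
        unfold mv
        simp only [biprod.lift_fst]
      exact congrArg (fun ψ => (Scheme.Modules.Hom.app ψ T) r) h
    rw [h1]
    apply val_injective I T
    rw [val_incl, hr]
  · have h1 : (biprod.snd : ClSub.idealMod I ⊞ ClSub.idealMod J ⟶ _).app T ((mv I J).f.app T r) =
        (incl (I ⊓ J) J inf_le_right).app T r := by
      have h : (mv I J).f ≫ biprod.snd = incl (I ⊓ J) J inf_le_right := by
        unfold mv
        simp only [biprod.lift_snd]
      exact congrArg (fun ψ => (Scheme.Modules.Hom.app ψ T) r) h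
    rw [h1]
    apply val_injective J T
    rw [val_incl, hr, heq]

instance epi_mv_g : Epi (mv I J).g := by
  apply Groth.Agent.Lead.LocalLift.epi_of_local_lift
  intro T t x hx
  obtain ⟨_, ⟨W, hW, rfl⟩, hxW, hWT⟩ :=
    X.isBasis_affineOpens.exists_subset_of_mem_open (show x ∈ (T : Set X) from hx) T.2
  have hWT' : W ≤ T := hWT
  refine ⟨W, hWT', hxW, ?_⟩
  set t' : Γ(ClSub.idealMod (I ⊔ J), W) :=
    (ClSub.idealMod (I ⊔ J)).presheaf.map (homOfLE hWT').op t with ht'
  have hmem : val (I ⊔ J) W t' ∈ I.ideal ⟨W, hW⟩ ⊔ J.ideal ⟨W, hW⟩ := val_mem (I ⊔ J) ⟨W, hW⟩ t'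
  obtain ⟨u, hu, v, hv, huv⟩ := Submodule.mem_sup.1 hmem
  obtain ⟨t₁, h₁⟩ := exists_of_mem I ⟨W, hW⟩ u hu
  obtain ⟨t₂, h₂⟩ := exists_of_mem J ⟨W, hW⟩ v hv
  set A₁ : Γ((mv I J).X₂, W) :=
    (biprod.inl : _ ⟶ ClSub.idealMod I ⊞ ClSub.idealMod J).app W t₁ with hA₁
  set A₂ : Γ((mv I J).X₂, W) :=
    (biprod.inr : _ ⟶ ClSub.idealMod I ⊞ ClSub.idealMod J).app W t₂ with hA₂
  refine ⟨A₁ - A₂, ?_⟩
  show (mv I J).g.app W (A₁ - A₂) = t'
  have hsub : (mv I J).g.app W (A₁ - A₂) = (mv I J).g.app W A₁ - (mv I J).g.app W A₂ :=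
    map_sub ((mv I J).g.app W).hom A₁ A₂
  rw [hsub]
  have h1 : (mv I J).g.app W A₁ = (incl I (I ⊔ J) le_sup_left).app W t₁ := by
    have h : biprod.inl ≫ (mv I J).g = incl I (I ⊔ J) le_sup_left := by
      unfold mv
      simp only [biprod.inl_desc]
    exact congrArg (fun ψ => (Scheme.Modules.Hom.app ψ W) t₁) h
  have h2 : (mv I J).g.app W A₂ = -(incl J (I ⊔ J) le_sup_right).app W t₂ := by
    have h : biprod.inr ≫ (mv I J).g = -incl J (I ⊔ J) le_sup_right := by
      unfold mv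
      simp only [biprod.inr_desc]
    exact congrArg (fun ψ => (Scheme.Modules.Hom.app ψ W) t₂) h
  rw [h1, h2]
  change (incl I (I ⊔ J) le_sup_left).app W t₁ - -((incl J (I ⊔ J) le_sup_right).app W t₂) = t'
  rw [sub_neg_eq_add]
  apply val_injective (I ⊔ J) W
  rw [val_add, val_incl, val_incl, h₁, h₂, huv]

theorem mv_shortExact : (mv I J).ShortExact := ShortComplex.ShortExact.mk' (mv_exact I J)
  (mono_mv_f I J) (epi_mv_g I J)

end Groth.Agent.Helper1.CIMV
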