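import Mathlib
import Groth.Agent.Helper6.CINormal

set_option autoImplicit false
set_option linter.unusedSectionVars false
set_option linter.style.haveILetI false

/-!
# CIReg1: homogeneous forms generating an ideal of maximal height form a regular sequence in the
localization of the polynomial ring at the irrelevant ideal
-/

namespace Groth.Agent.Helper1.CIReg

open MvPolynomial IsLocalRing RingTheory.Sequence Module
open Groth.Agent.Helper2.DepthCM2

universe u

variable (k : Type u) [Field k] (n : ℕ)

/-- the irrelevant maximal ideal -/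
noncomputable abbrev mm : Ideal (MvPolynomial (Fin (n + 1)) k) := idealOfVars (Fin (n + 1)) k

instance mm_isMaximal : (mm k n).IsMaximal := Groth.Agent.Helper6.CISat.idealOfVars_isMaximal k n

instance mm_isPrime : (mm k n).IsPrime := (mm_isMaximal k n).isPrime

/-- the local ring of the affine cone at the vertex -/
abbrev AA : Type u := Localization.AtPrime (mm k n)

variable {k n}

theorem isWeaklyRegular_loc (r : ℕ) (f : Fin r → MvPolynomial (Fin (n + 1)) k)
    (hfm : ∀ i, f i ∈ mm k n) (hJ : (r : ℕ∞) ≤ (Ideal.span (Set.range f)).height) :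
    IsWeaklyRegular (AA k n)
      (List.ofFn (fun i => algebraMap (MvPolynomial (Fin (n + 1)) k) (AA k n) (f i))) := by
  classical
  set J : Ideal (MvPolynomial (Fin (n + 1)) k) := Ideal.span (Set.range f) with hJdef
  haveI : IsRegularLocalRing (AA k n) := IsRegularRing.isRegularLocalRing_localization (mm k n)
  have hCM : LocCoh.IsCohenMacaulayModule (AA k n) (AA k n) :=
    Groth.Agent.Helper2.RegCM.cm_of_isRegularLocalRing (AA k n)
  set xs : List (AA k n) :=
    List.ofFn (fun i => algebraMap (MvPolynomial (Fin (n + 1)) k) (AA k n) (f i)) with hxsdef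
  have hxs : xs.length = r := List.length_ofFn
  have hmem : ∀ x ∈ xs, x ∈ maximalIdeal (AA k n) := by
    intro x hx
    rw [List.mem_ofFn] at hx
    obtain ⟨i, rfl⟩ := hx
    rw [← Ideal.mem_comap, ← Ideal.under_def,
      IsLocalization.AtPrime.under_maximalIdeal (AA k n) (mm k n)]
    exact hfm i
  have hJle : J ≤ (Ideal.ofList xs).under (MvPolynomial (Fin (n + 1)) k) := by
    rw [hJdef, Ideal.span_le]
    rintro _ ⟨i, rfl⟩
    show algebraMap _ (AA k n) (f i) ∈ Ideal.ofList xs
    exact Ideal.subset_span (List.mem_ofFn.2 ⟨i, rfl⟩)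
  have hht : (xs.length : ℕ∞) ≤ (Ideal.ofList xs).height := by
    rw [hxs, ← IsLocalization.height_under (mm k n).primeCompl (Ideal.ofList xs)]
    exact hJ.trans (Ideal.height_mono hJle)
  obtain ⟨h1, -⟩ := Groth.Agent.Helper6.CINormal.cm_quot_of_height hCM xs hmem hht
  exact weaklyRegular_of_dim_drop xs (AA k n) hCM hmem h1

end Groth.Agent.Helper1.CIReg
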