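import Mathlib
import Groth.Agent.Helper1.CIReg1

set_option autoImplicit false
set_option linter.unusedSectionVars false
set_option linter.style.haveILetI false

/-!
# CIReg2: homogeneous forms generating an ideal of maximal height form a regular sequence in the
polynomial ring
-/

namespace Groth.Agent.Helper1.CIReg

open MvPolynomial IsLocalRing RingTheory.Sequence Module

universe u

variable {k : Type u} [Field k] {n : ℕ}

attribute [local instance] MvPolynomial.gradedAlgebra

lemma homogeneousComponent_mul_of_isHomogeneous {σ R : Type*} [CommRing R]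
    (x s : MvPolynomial σ R) (e j : ℕ) (hx : x.IsHomogeneous e) :
    homogeneousComponent (e + j) (x * s) = x * homogeneousComponent j s := by
  have h := DirectSum.coe_decompose_mul_add_of_left_mem (homogeneousSubmodule σ R) (i := e) (j := j)
    (a := x) (b := s) ((mem_homogeneousSubmodule e x).2 hx)
  rw [← decomposition.decompose'_apply, ← decomposition.decompose'_apply]
  exact h

lemma homogeneousComponent_mul_of_lt {σ R : Type*} [CommRing R]
    (x s : MvPolynomial σ R) (e d : ℕ) (hx : x.IsHomogeneous e) (hd : d < e) :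
    homogeneousComponent d (x * s) = 0 := by
  have h := DirectSum.coe_decompose_mul_of_left_mem_of_not_le (homogeneousSubmodule σ R)
    (a := x) (b := s) (i := e) (n := d) ((mem_homogeneousSubmodule e x).2 hx) (by omega)
  rw [← decomposition.decompose'_apply]
  exact h

/-- a homogeneous element lying in the extension of a homogeneous ideal to the local ring at the
vertex lies in the ideal -/
theorem mem_of_mem_map_loc (I : Ideal (MvPolynomial (Fin (n + 1)) k))
    (hI : I.IsHomogeneous (homogeneousSubmodule (Fin (n + 1)) k))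
    (x : MvPolynomial (Fin (n + 1)) k) (e : ℕ) (hx : x.IsHomogeneous e)
    (h : algebraMap (MvPolynomial (Fin (n + 1)) k) (AA k n) x ∈
      I.map (algebraMap (MvPolynomial (Fin (n + 1)) k) (AA k n))) : x ∈ I := by
  rw [IsLocalization.mem_map_algebraMap_iff (mm k n).primeCompl] at h
  obtain ⟨⟨a, s⟩, has⟩ := h
  have hinj : Function.Injective (algebraMap (MvPolynomial (Fin (n + 1)) k) (AA k n)) :=
    IsLocalization.injective (AA k n) (mm k n).primeCompl_le_nonZeroDivisors
  have h1 : x * (s : MvPolynomial (Fin (n + 1)) k) = (a : MvPolynomial (Fin (n + 1)) k) := by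
    apply hinj
    rw [map_mul]
    exact has
  have h2 : x * (s : MvPolynomial (Fin (n + 1)) k) ∈ I := h1 ▸ a.2
  have h3 := homogeneousComponent_mem_of_mem hI h2 (e + 0)
  rw [homogeneousComponent_mul_of_isHomogeneous x _ e 0 hx, homogeneousComponent_zero] at h3
  have hs : coeff 0 (s : MvPolynomial (Fin (n + 1)) k) ≠ 0 := by
    intro h0
    apply s.2
    show (s : MvPolynomial (Fin (n + 1)) k) ∈ idealOfVars (Fin (n + 1)) k
    rw [Groth.Agent.Helper6.CISat.idealOfVars_eq_ker, RingHom.mem_ker, constantCoeff_eq]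
    exact h0
  have h4 : x = (x * C (coeff 0 (s : MvPolynomial (Fin (n + 1)) k))) *
      C (coeff 0 (s : MvPolynomial (Fin (n + 1)) k))⁻¹ := by
    rw [mul_assoc, ← C_mul, mul_inv_cancel₀ hs, C_1, mul_one]
  rw [h4]
  exact I.mul_mem_right _ h3

theorem isHomogeneous_span_range {ι : Type*} (g : ι → MvPolynomial (Fin (n + 1)) k) (a : ι → ℕ)
    (hg : ∀ i, (g i).IsHomogeneous (a i)) :
    (Ideal.span (Set.range g)).IsHomogeneous (homogeneousSubmodule (Fin (n + 1)) k) := by
  apply Ideal.homogeneous_span
  rintro _ ⟨i, rfl⟩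
  exact ⟨a i, (mem_homogeneousSubmodule _ _).2 (hg i)⟩

theorem mem_mm_of_isHomogeneous (f : MvPolynomial (Fin (n + 1)) k) (a : ℕ) (hf : f.IsHomogeneous a)
    (ha : 1 ≤ a) : f ∈ mm k n := by
  show f ∈ idealOfVars (Fin (n + 1)) k
  rw [Groth.Agent.Helper6.CISat.idealOfVars_eq_ker, RingHom.mem_ker, constantCoeff_eq]
  exact hf.coeff_eq_zero (by simp; omega)

/-- **regular sequence**: forms of positive degrees generating an ideal of height at least
their number form a regular sequence in the polynomial ring -/
theorem mem_of_mul_mem (r : ℕ) (f : Fin r → MvPolynomial (Fin (n + 1)) k) (a : Fin r → ℕ)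
    (hf : ∀ i, (f i).IsHomogeneous (a i)) (ha : ∀ i, 1 ≤ a i)
    (hJ : (r : ℕ∞) ≤ (Ideal.span (Set.range f)).height) (j : Fin r)
    (x : MvPolynomial (Fin (n + 1)) k)
    (hx : f j * x ∈ Ideal.span (Set.range fun l : Fin j => f (Fin.castLE j.2.le l))) :
    x ∈ Ideal.span (Set.range fun l : Fin j => f (Fin.castLE j.2.le l)) := by
  classical
  set I : Ideal (MvPolynomial (Fin (n + 1)) k) :=
    Ideal.span (Set.range fun l : Fin j => f (Fin.castLE j.2.le l)) with hIdef
  have hIh : I.IsHomogeneous (homogeneousSubmodule (Fin (n + 1)) k) :=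
    isHomogeneous_span_range _ (fun l : Fin j => a (Fin.castLE j.2.le l)) (fun l => hf _)
  have hwr := isWeaklyRegular_loc r f (fun i => mem_mm_of_isHomogeneous (f i) (a i) (hf i) (ha i)) hJ
  set φ := algebraMap (MvPolynomial (Fin (n + 1)) k) (AA k n) with hφ
  set xs : List (AA k n) := List.ofFn (fun i => φ (f i)) with hxsdef
  have hlen : xs.length = r := List.length_ofFn
  have hreg := hwr.regular_mod_prev j (by rw [hlen]; exact j.2)
  have hget : xs[(j : ℕ)]'(by rw [hlen]; exact j.2) = φ (f j) := by
    simp [hxsdef]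
  have htake : Ideal.ofList (xs.take j) = I.map φ := by
    rw [hIdef, Ideal.map_span]
    unfold Ideal.ofList
    congr 1
    ext y
    simp only [Set.mem_ofPred_eq, hxsdef, List.mem_take_iff_getElem, List.getElem_ofFn,
      List.length_ofFn, Set.mem_image, Set.mem_range, exists_exists_eq_and]
    constructor
    · rintro ⟨i, hi, rfl⟩
      have hij : i < (j : ℕ) := (lt_min_iff.1 hi).1
      exact ⟨⟨i, hij⟩, rfl⟩
    · rintro ⟨l, rfl⟩
      exact ⟨l, lt_min l.2 (l.2.trans j.2), rfl⟩
  -- the homogeneous case
  have key : ∀ (e : ℕ) (y : MvPolynomial (Fin (n + 1)) k), y.IsHomogeneous e → f j * y ∈ I →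
      y ∈ I := by
    intro e y hy hfy
    apply mem_of_mem_map_loc I hIh y e hy
    have h1 : φ (f j) * φ y ∈ I.map φ := by
      rw [← map_mul]
      exact Ideal.mem_map_of_mem φ hfy
    rw [← htake] at h1 ⊢
    have h2 : (Ideal.ofList (xs.take j) • (⊤ : Submodule (AA k n) (AA k n))) =
        Ideal.ofList (xs.take j) := by rw [smul_eq_mul, Ideal.mul_top]
    have h3 : xs[(j : ℕ)]'(by rw [hlen]; exact j.2) •
        (Submodule.Quotient.mk (φ y) : AA k n ⧸ (Ideal.ofList (xs.take j) •
          (⊤ : Submodule (AA k n) (AA k n)))) = 0 := by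
      rw [← Submodule.Quotient.mk_smul, Submodule.Quotient.mk_eq_zero, h2, hget, smul_eq_mul]
      exact h1
    have h4 := hreg (h3.trans (smul_zero _).symm)
    rw [Submodule.Quotient.mk_eq_zero, h2] at h4
    exact h4
  -- reduction to the homogeneous case
  rw [mem_iff_homogeneousComponent_mem hIh]
  intro d
  apply key d _ (homogeneousComponent_isHomogeneous d x)
  have h5 := homogeneousComponent_mem_of_mem hIh hx (a j + d)
  rwa [homogeneousComponent_mul_of_isHomogeneous _ _ _ _ (hf j)] at h5

end Groth.Agent.Helper1.CIReg
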