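import Mathlib
import Groth.Agent.Helper1.CIReg2
import Groth.Agent.Helper6.ProjDim5
import Groth.Agent.Helper5.FtDim4

set_option autoImplicit false
set_option linter.unusedSectionVars false
set_option linter.style.haveILetI false

/-!
# CIReg3: the height of the ideal of a projective complete intersection
-/

namespace Groth.Agent.Helper1.CIReg

open MvPolynomial IsLocalRing RingTheory.Sequence Module ProjectiveSpectrum
open Groth.Agent.Helper6.ProjDim

universe u

variable {k : Type u} [Field k] {n : ℕ}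

theorem le_height_of_dim (r : ℕ) (hr : r ≤ n) (J : Ideal (MvPolynomial (Fin (n + 1)) k))
    (hJh : J.IsHomogeneous (homogeneousSubmodule (Fin (n + 1)) k))
    (hdim : topologicalKrullDim ↥(zeroLocus (CohB1.polyGrading n k)
      (J : Set (MvPolynomial (Fin (n + 1)) k))) ≤ ((n - r : ℕ) : WithBot ℕ∞)) :
    (r : ℕ∞) ≤ J.height := by
  classical
  rw [Ideal.height_eq_inf_minimalPrimes]
  refine le_iInf₂ (fun Q hQ => ?_)
  haveI hQprime : Q.IsPrime := hQ.1.1
  have hQh := Groth.Agent.Helper6.CINormal.isHomogeneous_of_mem_minimalPrimes k (Fin (n + 1)) J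
    hJh Q hQ
  by_cases hQm : Q = idealOfVars (Fin (n + 1)) k
  · have hmax : Q.IsMaximal := hQm ▸ Groth.Agent.Helper6.CISat.idealOfVars_isMaximal k n
    rw [Groth.Agent.Helper5.FtDim.height_of_isMaximal_mvPolynomial k (n + 1) Q hmax]
    exact_mod_cast (by omega : r ≤ n + 1)
  · have h1 := dim_zeroLocus_add_one Q hQh hQm
    have h2 := Groth.Agent.Helper5.FtDim.height_add_dim_quotient k
      (MvPolynomial (Fin (n + 1)) k) Q
    rw [Groth.Agent.Helper5.DimBC.dim_mvPolynomial k (n + 1)] at h2
    obtain ⟨D, hD, -⟩ := exists_nat_dim Q hQprime.ne_top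
    obtain ⟨h, hh⟩ := ENat.ne_top_iff_exists.mp (Ideal.height_ne_top_of_isPrime (I := Q))
    rw [hD, ← hh] at h2
    have h2' : h + D = n + 1 := by exact_mod_cast h2
    rw [hD] at h1
    have hsub : zeroLocus (CohB1.polyGrading n k) (Q : Set (MvPolynomial (Fin (n + 1)) k)) ⊆
        zeroLocus (CohB1.polyGrading n k) (J : Set (MvPolynomial (Fin (n + 1)) k)) :=
      zeroLocus_anti_mono _ hQ.1.2
    have h3 : topologicalKrullDim ↥(zeroLocus (CohB1.polyGrading n k)
        (Q : Set (MvPolynomial (Fin (n + 1)) k))) ≤ ((n - r : ℕ) : WithBot ℕ∞) :=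
      ((Topology.IsEmbedding.inclusion hsub).isInducing.topologicalKrullDim_le).trans hdim
    have h4 : D ≤ n - r + 1 := by
      have : ((D : ℕ) : WithBot ℕ∞) ≤ ((n - r : ℕ) : WithBot ℕ∞) + 1 := by
        rw [← h1]
        gcongr
      exact_mod_cast this
    rw [← hh]
    exact_mod_cast (by omega : r ≤ h)

end Groth.Agent.Helper1.CIReg
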