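import Mathlib

set_option autoImplicit false
set_option linter.unusedSectionVars false
set_option linter.style.haveILetI false

/-!
# CIReg4: transport of regularity from a graded ring to its degree-zero localizations
-/

namespace Groth.Agent.Helper1.CIReg

open HomogeneousLocalization

variable {A σ : Type*} [CommRing A] [SetLike σ A] [AddSubgroupClass σ A] (𝒜 : ℕ → σ)
  [GradedRing 𝒜] {t : A} (ht : t ∈ 𝒜 1)

/-- a homogeneous element of the ideal generated by homogeneous elements `g l` gives an element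
of the ideal generated by the `g l / t ^ (a l)` in the degree zero localization -/
theorem mk_mem_span_of_mem {ι : Type*} [Fintype ι] (g : ι → A) (a : ι → ℕ)
    (hg : ∀ l, g l ∈ 𝒜 (a l • 1)) (e : ℕ) (x : A) (hx : x ∈ 𝒜 (e • 1))
    (hxI : x ∈ Ideal.span (Set.range g)) :
    Away.mk 𝒜 ht e x hx ∈ Ideal.span (Set.range fun l => Away.mk 𝒜 ht (a l) (g l) (hg l)) := by
  classical
  obtain ⟨c, hc⟩ := (Ideal.mem_span_range_iff_exists_fun).1 hxI
  have hg' : ∀ l, g l ∈ 𝒜 (a l) := fun l => by simpa using hg l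
  have hx' : x ∈ 𝒜 e := by simpa using hx
  have h1 : x = ∑ l, (if a l ≤ e then
      ((DirectSum.decompose 𝒜 (c l) (e - a l) : 𝒜 (e - a l)) : A) * g l else 0) := by
    have h2 : ((DirectSum.decompose 𝒜 x e : 𝒜 e) : A) = x := DirectSum.decompose_of_mem_same 𝒜 hx'
    rw [← h2, ← hc, DirectSum.decompose_sum, DFinsupp.finsetSum_apply,
      AddSubmonoidClass.coe_finsetSum]
    refine Finset.sum_congr rfl (fun l _ => ?_)
    exact DirectSum.coe_decompose_mul_of_right_mem 𝒜 e (hg' l)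
  rw [Ideal.mem_span_range_iff_exists_fun]
  refine ⟨fun l => if h : a l ≤ e then Away.mk 𝒜 ht (e - a l)
    ((DirectSum.decompose 𝒜 (c l) (e - a l) : 𝒜 (e - a l)) : A)
    (by simpa using (DirectSum.decompose 𝒜 (c l) (e - a l)).2) else 0, ?_⟩
  apply HomogeneousLocalization.val_injective
  rw [← HomogeneousLocalization.algebraMap_apply, map_sum, Away.val_mk]
  have h3 : Localization.mk x (⟨t ^ e, ⟨e, rfl⟩⟩ : Submonoid.powers t) =
      ∑ l, Localization.mk (if a l ≤ e then
        ((DirectSum.decompose 𝒜 (c l) (e - a l) : 𝒜 (e - a l)) : A) * g l else 0)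
        (⟨t ^ e, ⟨e, rfl⟩⟩ : Submonoid.powers t) := by
    conv_lhs => rw [h1]
    exact Localization.mk_sum _ _ _
  rw [h3]
  refine Finset.sum_congr rfl (fun l _ => ?_)
  by_cases h : a l ≤ e
  · rw [map_mul, HomogeneousLocalization.algebraMap_apply,
      HomogeneousLocalization.algebraMap_apply]
    simp only [dif_pos h, if_pos h]
    rw [Away.val_mk, Away.val_mk, Localization.mk_mul]
    congr 1
    ext
    show t ^ (e - a l) * t ^ a l = t ^ e
    rw [← pow_add, Nat.sub_add_cancel h]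
  · simp only [dif_neg h, if_neg h]
    rw [zero_mul, map_zero, Localization.mk_zero]

theorem mk_pow_mul (m e : ℕ) (x : A) (hx : x ∈ 𝒜 (e • 1)) (hx' : t ^ m * x ∈ 𝒜 ((m + e) • 1)) :
    Away.mk 𝒜 ht (m + e) (t ^ m * x) hx' = Away.mk 𝒜 ht e x hx := by
  apply HomogeneousLocalization.val_injective
  rw [Away.val_mk, Away.val_mk, Localization.mk_eq_mk_iff, Localization.r_iff_exists]
  refine ⟨1, ?_⟩
  simp only [OneMemClass.coe_one, one_mul]
  rw [pow_add]
  ring

/-- **transport of regularity** to the degree zero localization -/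
theorem mem_span_of_mk_mul_mem {ι : Type*} [Fintype ι] (g : ι → A) (a : ι → ℕ)
    (hg : ∀ l, g l ∈ 𝒜 (a l • 1)) (d : ℕ) (F : A) (hF : F ∈ 𝒜 (d • 1))
    (hcore : ∀ x, F * x ∈ Ideal.span (Set.range g) → x ∈ Ideal.span (Set.range g))
    (z : Away 𝒜 t)
    (hz : Away.mk 𝒜 ht d F hF * z ∈
      Ideal.span (Set.range fun l => Away.mk 𝒜 ht (a l) (g l) (hg l))) :
    z ∈ Ideal.span (Set.range fun l => Away.mk 𝒜 ht (a l) (g l) (hg l)) := by
  classical
  obtain ⟨m, x, hx, rfl⟩ := Away.mk_surjective 𝒜 ht z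
  set I : Ideal A := Ideal.span (Set.range g) with hI
  set φ := algebraMap (Away 𝒜 t) (Localization (Submonoid.powers t)) with hφ
  set ψ := algebraMap A (Localization (Submonoid.powers t)) with hψ
  -- the image of the ideal lies in the extension of `I`
  have h1 : Ideal.map φ (Ideal.span (Set.range fun l => Away.mk 𝒜 ht (a l) (g l) (hg l))) ≤
      I.map ψ := by
    rw [Ideal.map_span, Ideal.span_le]
    rintro _ ⟨_, ⟨l, rfl⟩, rfl⟩
    show φ (Away.mk 𝒜 ht (a l) (g l) (hg l)) ∈ I.map ψ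
    rw [hφ, HomogeneousLocalization.algebraMap_apply, Away.val_mk, Localization.mk_eq_mk',
      IsLocalization.mk'_eq_mul_mk'_one]
    exact Ideal.mul_mem_right _ _ (Ideal.mem_map_of_mem ψ (Ideal.subset_span ⟨l, rfl⟩))
  have h2 : φ (Away.mk 𝒜 ht d F hF * Away.mk 𝒜 ht m x hx) ∈ I.map ψ :=
    h1 (Ideal.mem_map_of_mem φ hz)
  rw [map_mul, hφ, HomogeneousLocalization.algebraMap_apply,
    HomogeneousLocalization.algebraMap_apply, Away.val_mk, Away.val_mk, Localization.mk_mul,
    IsLocalization.mem_map_algebraMap_iff (Submonoid.powers t)] at h2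
  obtain ⟨⟨⟨y, hy⟩, ⟨_, M, rfl⟩⟩, hys⟩ := h2
  have h3 : ψ (F * x * t ^ M) = ψ (y * (t ^ d * t ^ m)) := by
    have h4 := IsLocalization.mk'_spec (Localization (Submonoid.powers t)) (F * x)
      ((⟨t ^ d, ⟨d, rfl⟩⟩ : Submonoid.powers t) * ⟨t ^ m, ⟨m, rfl⟩⟩)
    rw [map_mul ψ y, map_mul ψ (F * x)]
    rw [Localization.mk_eq_mk'] at hys
    rw [← hys, ← h4]
    simp only [Submonoid.coe_mul]
    ring
  obtain ⟨⟨_, c, rfl⟩, hc⟩ := (IsLocalization.eq_iff_exists (Submonoid.powers t) _).1 h3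
  simp only at hc
  have h5 : F * (t ^ (c + M) * x) ∈ I := by
    have h6 : F * (t ^ (c + M) * x) = y * (t ^ c * (t ^ d * t ^ m)) := by
      rw [pow_add]
      linear_combination hc
    rw [h6]
    exact I.mul_mem_right _ hy
  have h7 := hcore _ h5
  have hx1 : t ^ (c + M) * x ∈ 𝒜 ((c + M + m) • 1) := by
    have hx' : x ∈ 𝒜 m := by simpa using hx
    have : t ^ (c + M) * x ∈ 𝒜 ((c + M) • 1 + m) :=
      SetLike.mul_mem_graded (SetLike.pow_mem_graded _ ht) hx'
    simpa using this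
  rw [← mk_pow_mul 𝒜 ht (c + M) m x hx hx1]
  exact mk_mem_span_of_mem 𝒜 ht g a hg _ _ hx1 h7

end Groth.Agent.Helper1.CIReg
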