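import Groth.Agent.Helper1.CC1

set_option autoImplicit false

/-!
# Clopen subsets of a scheme and idempotent global sections
-/

namespace Groth.Agent.Helper1.ClopenIdem

open CategoryTheory AlgebraicGeometry Opposite TopologicalSpace
open Groth.Agent.Helper1.CC

universe u

variable {X : Scheme.{u}}

/-- restriction of `basicOpen` -/
lemma basicOpen_ρ {W W' : X.Opens} (h : W ≤ W') (a : Γ(X, W')) :
    X.basicOpen (ρ h a) = W ⊓ X.basicOpen a :=
  X.basicOpen_res a (homOfLE h).op

/-- the complement of `D(e)` for an idempotent `e` is `D(1 - e)`. -/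
lemma basicOpen_compl_of_idempotent (e : Γ(X, ⊤)) (he : e * e = e) :
    ((X.basicOpen e : Set X))ᶜ = (X.basicOpen (1 - e) : Set X) := by
  ext x
  simp only [Set.mem_compl_iff, SetLike.mem_coe]
  rw [Scheme.mem_basicOpen_top, Scheme.mem_basicOpen_top]
  have h0 : e * (1 - e) = 0 := by rw [mul_sub, mul_one, he, sub_self]
  set g := (X.presheaf.germ ⊤ x trivial).hom with hg
  have h1 : g e * g (1 - e) = 0 := by rw [← map_mul, h0, map_zero]
  have h2 : g e + g (1 - e) = 1 := by rw [← map_add, add_sub_cancel, map_one]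
  constructor
  · intro hne
    rcases IsLocalRing.isUnit_or_isUnit_of_add_one h2 with h | h
    · exact absurd h hne
    · exact h
  · intro hu hu'
    have : IsUnit (g e * g (1 - e)) := hu'.mul hu
    rw [h1] at this
    exact not_isUnit_zero this

/-- `D(e)` is clopen for an idempotent global section `e`. -/
theorem isClopen_basicOpen_of_idempotent (e : Γ(X, ⊤)) (he : e * e = e) :
    IsClopen (X.basicOpen e : Set X) := by
  refine ⟨?_, (X.basicOpen e).isOpen⟩
  rw [← isOpen_compl_iff, basicOpen_compl_of_idempotent e he]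
  exact (X.basicOpen (1 - e)).isOpen

/-- every clopen subset of a scheme is `D(e)` for an idempotent global section `e`. -/
theorem exists_idempotent_of_isClopen (C : Set X) (hC : IsClopen C) :
    ∃ e : Γ(X, ⊤), e * e = e ∧ (X.basicOpen e : Set X) = C := by
  let U : X.Opens := ⟨C, hC.isOpen⟩
  let V : X.Opens := ⟨Cᶜ, hC.compl.isOpen⟩
  let cov : Bool → X.Opens := fun b => cond b U V
  let sf : ∀ b : Bool, Γ(X, cov b) := fun b => match b with
    | true => (1 : Γ(X, U))
    | false => (0 : Γ(X, V))
  have hdisj : ∀ x, x ∈ U → x ∈ V → False := fun x hU hV => hV hU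
  have hcover : (⊤ : X.Opens) ≤ ⨆ b, cov b := by
    intro x _
    by_cases hx : x ∈ C
    · exact Opens.mem_iSup.2 ⟨true, hx⟩
    · exact Opens.mem_iSup.2 ⟨false, hx⟩
  have hcompat : TopCat.Presheaf.IsCompatible X.presheaf cov sf := by
    intro b b'
    cases b <;> cases b'
    · rfl
    · apply eq_of_locally
      intro x hx
      exact (hdisj x hx.2 hx.1).elim
    · apply eq_of_locally
      intro x hx
      exact (hdisj x hx.1 hx.2).elim
    · rfl
  obtain ⟨s, hs, -⟩ := X.sheaf.existsUnique_gluing' cov ⊤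
    (fun b => homOfLE le_top) hcover sf hcompat
  have hsU : ρ (le_top : U ≤ ⊤) s = 1 := hs true
  have hsV : ρ (le_top : V ≤ ⊤) s = 0 := hs false
  refine ⟨s, ?_, ?_⟩
  · apply eq_of_locally
    intro x _
    by_cases hx : x ∈ C
    · refine ⟨U, le_top, hx, ?_⟩
      rw [map_mul, hsU, mul_one]
    · refine ⟨V, le_top, hx, ?_⟩
      rw [map_mul, hsV, mul_zero]
  · have h1 : U ⊓ X.basicOpen s = U := by
      rw [← basicOpen_ρ (le_top : U ≤ ⊤) s, hsU, Scheme.basicOpen_one]
    have h2 : V ⊓ X.basicOpen s = ⊥ := by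
      rw [← basicOpen_ρ (le_top : V ≤ ⊤) s, hsV, Scheme.basicOpen_zero]
    ext x
    constructor
    · intro hx
      by_contra hxC
      have : x ∈ V ⊓ X.basicOpen s := ⟨hxC, hx⟩
      rw [h2] at this
      exact this
    · intro hx
      have : x ∈ U ⊓ X.basicOpen s := by rw [h1]; exact hx
      exact this.2

end Groth.Agent.Helper1.ClopenIdem
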