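import Mathlib
import Groth.Agent.Helper1.TwistAmple
import Groth.Agent.Helper4.SubSec

set_option autoImplicit false
set_option linter.unusedSectionVars false
set_option linter.style.haveILetI false

/-!
# Hyp1: the section of `A(n)~` defined by a nonzero homogeneous element of a graded domain is a
monomorphism
-/

namespace Groth.Agent.Helper1.Hyp

open CategoryTheory AlgebraicGeometry TopologicalSpace Opposite
open Groth.Agent.Helper1.GrT Groth.Agent.Helper1.ProjO Groth.Agent.Helper1.TwistMul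

universe u

variable {R A : Type u} [CommRing R] [CommRing A] [Algebra R A] (𝒜 : ℕ → Submodule R A)
  [GradedAlgebra 𝒜]

/-- `G / 1` is a nonzero element of the localization of a domain -/
lemma mkO_ne_zero [IsDomain A] (y : ProjectiveSpectrum 𝒜) (f t : A) (ht : t ∉ y.asHomogeneousIdeal)
    (hf : f ≠ 0) : mkO y f t ht ≠ 0 := by
  unfold mkO
  intro h
  rw [Localization.mk_eq_mk', IsLocalization.mk'_eq_zero_iff] at h
  obtain ⟨m, hm⟩ := h
  rcases mul_eq_zero.1 hm with h1 | h1
  · exact m.2 (h1 ▸ y.asHomogeneousIdeal.toIdeal.zero_mem)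
  · exact hf h1

instance [IsDomain A] (y : ProjectiveSpectrum 𝒜) : IsDomain (Twist.Loc 𝒜 y) :=
  IsLocalization.isDomain_localization (le_nonZeroDivisors_of_noZeroDivisors
    (fun h => h y.asHomogeneousIdeal.toIdeal.zero_mem))

theorem mono_secHom [IsDomain A] (n : ℕ) (f : A) (hf : f ∈ 𝒜 n) (hf0 : f ≠ 0) :
    Mono (secHom 𝒜 n f hf) := by
  apply Groth.Agent.Helper4.SubSec.mono_of_app_injective
  intro V
  rw [injective_iff_map_eq_zero]
  intro r hr
  apply O_ext
  intro y hy
  have h1 := val_secHom_app 𝒜 n f hf V r y hy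
  rw [hr] at h1
  have h2 : toLoc 𝒜 y (val (𝒜 := 𝒜) (ℳ := 𝒜) (n := (n : ℤ)) (U := V)
      (0 : Γ(GrTilde.tilde 𝒜 𝒜 (n : ℤ), V)) y hy) = 0 := rfl
  rw [h2] at h1
  rcases mul_eq_zero.1 h1.symm with h3 | h3
  · refine h3.trans ?_
    have h4 : evO 𝒜 V y hy (0 : Γ(Proj 𝒜, V)) = 0 := map_zero _
    exact (HomogeneousLocalization.val_zero).symm.trans
      (congrArg HomogeneousLocalization.val h4).symm
  · exact (mkO_ne_zero 𝒜 y f 1 (one_notMem 𝒜 y) hf0 h3).elim

end Groth.Agent.Helper1.Hyp
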