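import Mathlib
import Groth.Agent.Helper1.Hyp1
import Groth.Agent.Helper1.GrT12
import Groth.Agent.Lead.MeroT

set_option autoImplicit false
set_option linter.unusedSectionVars false
set_option linter.style.haveILetI false

/-!
# Hyp2: the zero scheme of the section of `A(d)~` defined by a homogeneous element, on the charts
-/

namespace Groth.Agent.Helper1.Hyp

open CategoryTheory AlgebraicGeometry TopologicalSpace Opposite
open Groth.Agent.Helper1.GrT Groth.Agent.Helper1.ProjO Groth.Agent.Helper1.TwistMul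

universe u

variable {R A : Type u} [CommRing R] [CommRing A] [Algebra R A] (𝒜 : ℕ → Submodule R A)
  [GradedAlgebra 𝒜]

variable {𝒜} in
/-- an invertible section is a local basis -/
theorem isLocalBasis_eΓ {n : ℤ} {W : (Proj 𝒜).Opens} (P : InvPair 𝒜 n W) :
    Groth.Agent.Lead.MeroM.IsLocalBasis (GrTilde.tilde 𝒜 𝒜 n) W P.eΓ := by
  intro V hV m
  have hb := (P.res hV).smul_bijective
  obtain ⟨r, hr⟩ := hb.2 m
  exact ⟨r, hr.symm, fun r' hr' => hb.1 ((hr'.symm).trans hr.symm)⟩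

/-- the invertible section `t ^ d` of `A(d)~` on an open subset of `D₊(t)` -/
noncomputable def PW (d : ℕ) (t : A) (ht : t ∈ 𝒜 1) (W : (Proj 𝒜).Opens)
    (hW : W ≤ Proj.basicOpen 𝒜 t) : InvPair 𝒜 (d : ℤ) W :=
  InvPair.ofFrac 𝒜 (d : ℤ) W (t ^ d) 1 (SetLike.pow_mem_graded d ht) SetLike.GradedOne.one_mem
    (by simp) (fun y hy h => hW hy (y.isPrime.mem_of_pow_mem d h)) (fun y _ => one_notMem 𝒜 y)

/-- the function `G / t ^ d` on an open subset of `D₊(t)` -/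
noncomputable def fW (d : ℕ) (G : A) (hG : G ∈ 𝒜 d) (t : A) (ht : t ∈ 𝒜 1) (W : (Proj 𝒜).Opens)
    (hW : W ≤ Proj.basicOpen 𝒜 t) : Γ(Proj 𝒜, W) :=
  (Proj 𝒜).presheaf.map (homOfLE hW).op
    (mkB 𝒜 t ht d G (by rw [smul_eq_mul, mul_one]; exact hG))

lemma evO_fW (d : ℕ) (G : A) (hG : G ∈ 𝒜 d) (t : A) (ht : t ∈ 𝒜 1) (W : (Proj 𝒜).Opens)
    (hW : W ≤ Proj.basicOpen 𝒜 t) (y : Proj 𝒜) (hy : y ∈ W) :
    (evO 𝒜 W y hy (fW 𝒜 d G hG t ht W hW)).val = mkO y G (t ^ d) (pow_notMem (hW hy) d) := by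
  unfold fW
  rw [evO_res, evO_mkB]

/-- on the chart `D₊(t)`: `G = (G / t ^ d) • t ^ d` -/
theorem sec_eq (d : ℕ) (G : A) (hG : G ∈ 𝒜 d) (t : A) (ht : t ∈ 𝒜 1) (W : (Proj 𝒜).Opens)
    (hW : W ≤ Proj.basicOpen 𝒜 t) :
    Groth.Agent.Lead.MeroT.sec (GrTilde.tilde 𝒜 𝒜 (d : ℤ)) (secHom 𝒜 d G hG) W =
      fW 𝒜 d G hG t ht W hW • (PW 𝒜 d t ht W hW).eΓ := by
  apply sect_ext
  intro y hy
  have h1 := val_secHom_app 𝒜 d G hG W 1 y hy
  rw [evO_val_one, one_mul] at h1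
  have h2 : toLoc 𝒜 y (val (𝒜 := 𝒜) (ℳ := 𝒜) (n := (d : ℤ)) (U := W)
      (fW 𝒜 d G hG t ht W hW • (PW 𝒜 d t ht W hW).eΓ) y hy) =
      mkO y G (t ^ d) (pow_notMem (hW hy) d) * mkO y (t ^ d) 1 (one_notMem 𝒜 y) := by
    refine (congrArg (toLoc 𝒜 y) (val_smul 𝒜 𝒜 (d : ℤ) W _ _ y hy)).trans ?_
    refine (toLoc_smul 𝒜 y _ _).trans ?_
    rw [evO_fW]
    rfl
  rw [mkO_mul] at h2
  have h3 : mkO y (G * t ^ d) (t ^ d * 1)
      (fun h => (y.isPrime.mem_or_mem h).elim (pow_notMem (hW hy) d) (one_notMem 𝒜 y)) =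
      mkO y G 1 (one_notMem 𝒜 y) := mkO_eq_of y _ _ _ _ _ _ (by ring)
  exact h1.trans (h3.symm.trans h2.symm)

end Groth.Agent.Helper1.Hyp
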