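import Mathlib
import Groth.Agent.Helper1.IdealMul1

set_option autoImplicit false
set_option linter.unusedSectionVars false

/-!
# IdealMul2: `idealMod I ⊗ idealMod J ≅ idealMod (I * J)` when `J` is effective Cartier
-/

namespace Groth.Agent.Helper1.IdealMul

open CategoryTheory Limits AlgebraicGeometry TopologicalSpace Opposite
open Groth.Agent.Helper4.TensorLift
open Groth.Agent.Helper1.IdealMod (fn ofFn)

universe u

variable {X : Scheme.{u}} (I J : X.IdealSheafData)

theorem exists_mul (V : X.Opens) (a : Γ(ClSub.idealMod I, V)) (b : Γ(ClSub.idealMod J, V)) :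
    ∃ t : Γ(ClSub.idealMod (I * J), V), val (I * J) V t = val I V a * val J V b := by
  apply exists_of_forall_mem
  intro U hUV
  rw [map_mul, ← val_map, ← val_map]
  exact Ideal.mul_mem_mul (val_mem I U _) (val_mem J U _)

/-- the product of two sections -/
noncomputable def mulSec (V : X.Opens) (a : Γ(ClSub.idealMod I, V)) (b : Γ(ClSub.idealMod J, V)) :
    Γ(ClSub.idealMod (I * J), V) := (exists_mul I J V a b).choose

theorem val_mulSec (V : X.Opens) (a : Γ(ClSub.idealMod I, V)) (b : Γ(ClSub.idealMod J, V)) :
    val (I * J) V (mulSec I J V a b) = val I V a * val J V b :=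
  (exists_mul I J V a b).choose_spec

/-- the multiplication pairing -/
noncomputable def bil : Bil (ClSub.idealMod I) (ClSub.idealMod J) (ClSub.idealMod (I * J)) where
  f := mulSec I J
  add_left V m m' n := by
    apply val_injective
    rw [val_add, val_mulSec, val_mulSec, val_mulSec, val_add, add_mul]
  add_right V m n n' := by
    apply val_injective
    rw [val_add, val_mulSec, val_mulSec, val_mulSec, val_add, mul_add]
  smul_left V r m n := by
    apply val_injective
    rw [val_smul, val_mulSec, val_mulSec, val_smul, mul_assoc]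
  smul_right V r m n := by
    apply val_injective
    rw [val_smul, val_mulSec, val_mulSec, val_smul, mul_left_comm]
  map {V V'} i m n := by
    apply val_injective
    rw [val_map, val_mulSec, val_mulSec, val_map, val_map, map_mul]

/-- a generator of `J` over an affine open which is a nonzerodivisor -/
structure Gen (W : X.affineOpens) where
  f : Γ(X, W.1)
  nzd : f ∈ nonZeroDivisors Γ(X, W.1)
  span : J.ideal W = Ideal.span {f}

variable {I J}

/-- the generating section -/
noncomputable def Gen.e {W : X.affineOpens} (P : Gen J W) : Γ(ClSub.idealMod J, W.1) :=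
  (exists_of_mem J W P.f (by rw [P.span]; exact Ideal.mem_span_singleton_self _)).choose

theorem Gen.val_e {W : X.affineOpens} (P : Gen J W) : val J W.1 P.e = P.f :=
  (exists_of_mem J W P.f (by rw [P.span]; exact Ideal.mem_span_singleton_self _)).choose_spec

variable (I) in
theorem Gen.exists_pure {W : X.affineOpens} (P : Gen J W)
    (x : TT (ClSub.idealMod I) (ClSub.idealMod J) W.1) :
    ∃ u : Γ(ClSub.idealMod I, W.1),
      x = pure (ClSub.idealMod I) (ClSub.idealMod J) W.1 u P.e := by
  induction x using TensorProduct.induction_on with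
  | zero => exact ⟨0, (TensorProduct.zero_tmul _ _).symm⟩
  | tmul u b =>
    have hb : val J W.1 b ∈ J.ideal W := val_mem J W b
    rw [P.span, Ideal.mem_span_singleton'] at hb
    obtain ⟨r, hr⟩ := hb
    have hbe : (show Γ(ClSub.idealMod J, W.1) from b) = r • P.e := by
      apply val_injective
      rw [val_smul, P.val_e, hr]
    refine ⟨r • (show Γ(ClSub.idealMod I, W.1) from u), ?_⟩
    rw [pure_smul_left, ← pure_smul_right, ← hbe]
    rfl
  | add x y hx hy =>
    obtain ⟨u, rfl⟩ := hx
    obtain ⟨v, rfl⟩ := hy
    exact ⟨u + v, (pure_add_left _ _ _ _ _ _).symm⟩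

variable (I) in
theorem Gen.lin_bijective {W : X.affineOpens} (P : Gen J W) :
    Function.Bijective ((bil I J).lin W.1) := by
  constructor
  · intro x y hxy
    obtain ⟨u, rfl⟩ := P.exists_pure I x
    obtain ⟨v, rfl⟩ := P.exists_pure I y
    rw [Bil.lin_pure, Bil.lin_pure] at hxy
    have h1 : mulSec I J W.1 u P.e = mulSec I J W.1 v P.e := hxy
    have h2 := congrArg (val (I * J) W.1) h1
    rw [val_mulSec, val_mulSec, P.val_e] at h2
    have h3 : val I W.1 u = val I W.1 v := by
      have h4 : (val I W.1 u - val I W.1 v) * P.f = 0 := by rw [sub_mul, h2, sub_self]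
      exact sub_eq_zero.1 ((mem_nonZeroDivisors_iff_right.1 P.nzd) _ h4)
    rw [val_injective I W.1 h3]
  · intro s
    have hs : val (I * J) W.1 s ∈ (I * J).ideal W := val_mem (I * J) W s
    have hs' : val (I * J) W.1 s ∈ I.ideal W * Ideal.span {P.f} := by
      rw [← P.span]; exact hs
    rw [Ideal.mem_mul_span_singleton] at hs'
    obtain ⟨a, ha, has⟩ := hs'
    obtain ⟨u, hu⟩ := exists_of_mem I W a ha
    refine ⟨pure _ _ W.1 u P.e, ?_⟩
    rw [Bil.lin_pure]
    apply val_injective
    change val (I * J) W.1 (mulSec I J W.1 u P.e) = _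
    rw [val_mulSec, P.val_e, hu, has]

/-- restriction of a generator to a basic open -/
noncomputable def Gen.res {W : X.affineOpens} (P : Gen J W) (g : Γ(X, W.1)) :
    Gen J (X.affineBasicOpen g) where
  f := X.presheaf.map (homOfLE (X.basicOpen_le g)).op P.f
  nzd := by
    letI : Algebra Γ(X, W.1) Γ(X, X.basicOpen g) :=
      (X.presheaf.map (homOfLE (X.basicOpen_le g)).op).hom.toAlgebra
    haveI : IsLocalization.Away g Γ(X, X.basicOpen g) := W.2.isLocalization_basicOpen g
    exact IsLocalization.map_nonZeroDivisors_le (Submonoid.powers g) Γ(X, X.basicOpen g)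
      (Submonoid.mem_map_of_mem _ P.nzd)
  span := by
    rw [← J.map_ideal_basicOpen W g, P.span, Ideal.map_span, Set.image_singleton]
    rfl

end Groth.Agent.Helper1.IdealMul
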