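import Mathlib
import Groth.Agent.Helper1.IdealMul2
import Groth.Agent.Helper4.AmpleBasis
import Groth.Prelude.Def_PicGrp

set_option autoImplicit false
set_option linter.unusedSectionVars false

/-!
# IdealMul3: `idealMod I ⊗ idealMod J ≅ idealMod (I * J)` for `J` effective Cartier; powers
-/

namespace Groth.Agent.Helper1.IdealMul

open CategoryTheory Limits AlgebraicGeometry TopologicalSpace Opposite
open Groth.Agent.Helper4.TensorLift

universe u

variable {X : Scheme.{u}} (I J : X.IdealSheafData)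

/-- **the multiplication map `idealMod I ⊗ idealMod J ⟶ idealMod (I * J)` is an isomorphism** when
`J` is effective Cartier -/
theorem isIso_lift (hJ : BlowUp.IsEffCartierIdeal J) : IsIso (bil I J).lift := by
  apply Bil.isIso_lift
  · intro V x y hxy p hp
    obtain ⟨W₀, hpW₀, f, hf, hspan⟩ := hJ p
    obtain ⟨g, hgle, hpg⟩ := W₀.2.exists_basicOpen_le (V := V) ⟨p, hp⟩ hpW₀
    let P : Gen J W₀ := ⟨f, hf, hspan⟩
    refine ⟨X.basicOpen g, homOfLE hgle, hpg, ?_⟩
    apply ((P.res g).lin_bijective I).1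
    change (bil I J).lin (X.basicOpen g) _ = (bil I J).lin (X.basicOpen g) _
    rw [Bil.lin_map, Bil.lin_map, hxy]
  · intro V s p hp
    obtain ⟨W₀, hpW₀, f, hf, hspan⟩ := hJ p
    obtain ⟨g, hgle, hpg⟩ := W₀.2.exists_basicOpen_le (V := V) ⟨p, hp⟩ hpW₀
    let P : Gen J W₀ := ⟨f, hf, hspan⟩
    refine ⟨X.basicOpen g, homOfLE hgle, hpg, ?_⟩
    exact ((P.res g).lin_bijective I).2 _

/-- the isomorphism `idealMod I ⊗ idealMod J ≅ idealMod (I * J)` -/
noncomputable def mulIso (hJ : BlowUp.IsEffCartierIdeal J) :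
    CohB1.tensorMod (ClSub.idealMod I) (ClSub.idealMod J) ≅ ClSub.idealMod (I * J) :=
  haveI := isIso_lift I J hJ
  asIso (bil I J).lift

/-- transport along an equality of ideal sheaves -/
noncomputable def idealModCongr {I J : X.IdealSheafData} (h : I = J) :
    ClSub.idealMod I ≅ ClSub.idealMod J := eqToIso (by rw [h])

/-- **`idealMod (I ^ (m+1)) ≅ (idealMod I)^{⊗ (m+1)}`** for `I` effective Cartier -/
theorem nonempty_pow_iso (hI : BlowUp.IsEffCartierIdeal I) (m : ℕ) :
    Nonempty (ClSub.idealMod (I ^ (m + 1)) ≅ CohB1.tensorPow (ClSub.idealMod I) (m + 1)) := by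
  induction m with
  | zero =>
    exact ⟨idealModCongr (pow_one I) ≪≫
      (Groth.Agent.Helper4.AmpleBasis.unitorL (ClSub.idealMod I)).symm⟩
  | succ m ih =>
    obtain ⟨e⟩ := ih
    exact ⟨idealModCongr (pow_succ I (m + 1)) ≪≫ (mulIso (I ^ (m + 1)) I hI).symm ≪≫
      PicGrp.tensorModIso e (Iso.refl _)⟩

end Groth.Agent.Helper1.IdealMul
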