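import Mathlib
import Groth.Agent.Helper1.IdealMul3
import Groth.Agent.Lead.MeroT

set_option autoImplicit false
set_option linter.unusedSectionVars false
set_option linter.style.haveILetI false

/-!
# ZInv1: the pairing `L × idealMod (Z(s)) → O_X` for a regular section `s` of `L`
-/

namespace Groth.Agent.Helper1.ZInv

open CategoryTheory Limits AlgebraicGeometry TopologicalSpace Opposite
open Groth.Agent.Helper4.TensorLift Groth.Agent.Helper1.IdealMul
open Groth.Agent.Helper1.IdealMod (fn ofFn)
open Groth.Agent.Lead.MeroT Groth.Agent.Lead.MeroM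

universe u

variable {X : Scheme.{u}}

/-- a section lying locally in the image of a mono lies in the image -/
theorem exists_section_of_locally {B C : X.Modules} (b : B ⟶ C) [Mono b] (T : X.Opens)
    (c : Γ(C, T))
    (h : ∀ p ∈ T, ∃ (W : X.Opens) (hW : W ≤ T), p ∈ W ∧
      ∃ t : Γ(B, W), b.app W t = C.presheaf.map (homOfLE hW).op c) :
    ∃ t : Γ(B, T), b.app T t = c := by
  rw [← Groth.Agent.Helper4.SubSec.cokernel_π_app_eq_zero_iff b T c]
  choose W hW hpW t ht using h
  refine TopCat.Sheaf.eq_of_locally_eq'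
    (⟨(cokernel b).presheaf, (cokernel b).isSheaf⟩ : TopCat.Sheaf Ab X)
    (fun z : T => W z.1 z.2) T (fun z => homOfLE (hW z.1 z.2)) ?_ _ _ ?_
  · intro z hz
    exact Opens.mem_iSup.2 ⟨⟨z, hz⟩, hpW z hz⟩
  · intro z
    change (cokernel b).presheaf.map (homOfLE (hW z.1 z.2)).op ((cokernel.π b).app T c) =
      (cokernel b).presheaf.map (homOfLE (hW z.1 z.2)).op 0
    rw [map_zero, ← app_map, ← ht z.1 z.2]
    exact (Groth.Agent.Helper4.SubSec.cokernel_π_app_eq_zero_iff b _ _).mpr ⟨_, rfl⟩

variable (L : X.Modules) (s : Coh.structureModule X ⟶ L)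

theorem app_eq_smul_sec (V : X.Opens) (b : Γ(X, V)) :
    s.app V (ofFn b) = b • sec L s V := by
  have h1 : (ofFn b : Γ(Coh.structureModule X, V)) = b • (ofFn (1 : Γ(X, V))) := by
    change b = b * 1
    rw [mul_one]
  rw [h1, Scheme.Modules.Hom.app_smul]
  rfl

theorem smul_sec_injective [Mono s] (V : X.Opens) (b b' : Γ(X, V))
    (h : b • sec L s V = b' • sec L s V) : b = b' := by
  rw [← app_eq_smul_sec, ← app_eq_smul_sec] at h
  exact Groth.Agent.Helper4.AffineDict.app_injective_of_mono s V h

/-- a mono section is regular at every point -/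
theorem isRegSec_of_mono [Mono s] : IsRegSec L s := by
  intro y β hβ
  obtain ⟨V, hyV, b, rfl⟩ := TopCat.Presheaf.exists_germ_eq X.presheaf β
  rw [← germ_sec L s V y hyV, ← Mero.germ_smul] at hβ
  have h0 : L.presheaf.germ V y hyV (b • sec L s V) = L.presheaf.germ V y hyV 0 := by
    rw [hβ, map_zero]
  obtain ⟨W, hyW, i, i', hW⟩ := TopCat.Presheaf.germ_eq L.presheaf y hyV hyV _ _ h0
  have h1 : L.presheaf.map i.op (b • sec L s V) = 0 := by
    rw [hW, map_zero]
  rw [Scheme.Modules.map_smul, sec_res] at h1
  have h2 : X.presheaf.map i.op b = 0 := by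
    apply smul_sec_injective L s W
    rw [h1, zero_smul]
  have h3 := TopCat.Presheaf.germ_res_apply X.presheaf i y hyW b
  rw [← h3, h2, map_zero]

/-- existence of the quotient `(a • l) / s` -/
theorem exists_pair [Mono s] (V : X.Opens) (l : Γ(L, V))
    (a : Γ(ClSub.idealMod (PicF2.zeroScheme L s), V)) :
    ∃ b : Γ(X, V), b • sec L s V = val (PicF2.zeroScheme L s) V a • l := by
  obtain ⟨t, ht⟩ := exists_section_of_locally s V (val (PicF2.zeroScheme L s) V a • l) (by
    intro p hp
    obtain ⟨_, ⟨W, hW, rfl⟩, hpW, hWV⟩ :=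
      X.isBasis_affineOpens.exists_subset_of_mem_open (show p ∈ (V : Set X) from hp) V.2
    refine ⟨W, hWV, hpW, ?_⟩
    have h1 : val (PicF2.zeroScheme L s) W
        ((ClSub.idealMod (PicF2.zeroScheme L s)).presheaf.map (homOfLE hWV).op a) ∈
        (PicF2.zeroScheme L s).ideal ⟨W, hW⟩ := val_mem _ ⟨W, hW⟩ _
    have h2 := Scheme.IdealSheafData.ideal_ofIdeals_le _ ⟨W, hW⟩ h1
    obtain ⟨b, hb⟩ := h2 (L.presheaf.map (homOfLE hWV).op l)
    refine ⟨ofFn b, ?_⟩
    rw [app_eq_smul_sec, Scheme.Modules.map_smul, ← val_map]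
    exact hb.symm)
  exact ⟨fn t, by rw [← app_eq_smul_sec]; exact ht⟩

/-- the quotient `(a • l) / s` -/
noncomputable def pair [Mono s] (V : X.Opens) (l : Γ(L, V))
    (a : Γ(ClSub.idealMod (PicF2.zeroScheme L s), V)) : Γ(X, V) :=
  (exists_pair L s V l a).choose

theorem pair_spec [Mono s] (V : X.Opens) (l : Γ(L, V))
    (a : Γ(ClSub.idealMod (PicF2.zeroScheme L s), V)) :
    pair L s V l a • sec L s V = val (PicF2.zeroScheme L s) V a • l :=
  (exists_pair L s V l a).choose_spec

/-- the pairing `L × idealMod (Z(s)) → O_X` -/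
noncomputable def bil [Mono s] :
    Bil L (ClSub.idealMod (PicF2.zeroScheme L s)) (Coh.structureModule X) where
  f V l a := ofFn (pair L s V l a)
  add_left V m m' n := by
    change pair L s V (m + m') n = pair L s V m n + pair L s V m' n
    apply smul_sec_injective L s V
    rw [add_smul, pair_spec, pair_spec, pair_spec, smul_add]
  add_right V m n n' := by
    change pair L s V m (n + n') = pair L s V m n + pair L s V m n'
    apply smul_sec_injective L s V
    rw [add_smul, pair_spec, pair_spec, pair_spec, val_add, add_smul]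
  smul_left V r m n := by
    change pair L s V (r • m) n = r * pair L s V m n
    apply smul_sec_injective L s V
    rw [mul_smul, pair_spec, pair_spec, smul_comm]
  smul_right V r m n := by
    change pair L s V m (r • n) = r * pair L s V m n
    apply smul_sec_injective L s V
    rw [mul_smul, pair_spec, pair_spec, val_smul, mul_smul]
  map {V V'} i m n := by
    change X.presheaf.map i.op (pair L s V m n) = pair L s V' _ _
    apply smul_sec_injective L s V'
    rw [pair_spec, val_map, ← sec_res L s i, ← Scheme.Modules.map_smul, pair_spec,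
      Scheme.Modules.map_smul]

end Groth.Agent.Helper1.ZInv
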