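import Mathlib
import Groth.Agent.Helper1.ZInv1

set_option autoImplicit false
set_option linter.unusedSectionVars false
set_option linter.style.haveILetI false

/-!
# ZInv2: `L ⊗ idealMod (Z(s)) ≅ O_X` for a regular section `s` of an invertible module `L`
-/

namespace Groth.Agent.Helper1.ZInv

open CategoryTheory Limits AlgebraicGeometry TopologicalSpace Opposite
open Groth.Agent.Helper4.TensorLift Groth.Agent.Helper1.IdealMul
open Groth.Agent.Helper1.IdealMod (fn ofFn)
open Groth.Agent.Lead.MeroT Groth.Agent.Lead.MeroM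

universe u

variable {X : Scheme.{u}}

/-- every tensor with second factor in a principal ideal module is pure -/
theorem Gen.exists_pure' (A : X.Modules) {J : X.IdealSheafData} {W : X.affineOpens} (P : Gen J W)
    (x : TT A (ClSub.idealMod J) W.1) :
    ∃ u : Γ(A, W.1), x = pure A (ClSub.idealMod J) W.1 u P.e := by
  induction x using TensorProduct.induction_on with
  | zero => exact ⟨0, (TensorProduct.zero_tmul _ _).symm⟩
  | tmul u b =>
    have hb : val J W.1 b ∈ J.ideal W := val_mem J W b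
    rw [P.span, Ideal.mem_span_singleton'] at hb
    obtain ⟨r, hr⟩ := hb
    have hbe : (show Γ(ClSub.idealMod J, W.1) from b) = r • P.e := by
      apply val_injective
      rw [val_smul, P.val_e, hr]
    refine ⟨r • (show Γ(A, W.1) from u), ?_⟩
    rw [pure_smul_left, ← pure_smul_right, ← hbe]
    rfl
  | add x y hx hy =>
    obtain ⟨u, rfl⟩ := hx
    obtain ⟨v, rfl⟩ := hy
    exact ⟨u + v, (pure_add_left _ _ _ _ _ _).symm⟩

variable (L : X.Modules) (s : Coh.structureModule X ⟶ L)

/-- a local trivialization of `L` on an affine open, with the coefficient of `s` -/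
structure Triv (W : X.affineOpens) where
  e : Γ(L, W.1)
  he : IsLocalBasis L W.1 e
  f : Γ(X, W.1)
  hf : sec L s W.1 = f • e

variable {L s}

theorem Triv.res_self {W : X.affineOpens} (T : Triv L s W) :
    L.presheaf.map (homOfLE (le_refl W.1)).op T.e = T.e := by
  change L.presheaf.map (𝟙 _) T.e = T.e
  rw [L.presheaf.map_id]; rfl

theorem Triv.exists_eq_smul {W : X.affineOpens} (T : Triv L s W) (l : Γ(L, W.1)) :
    ∃ r : Γ(X, W.1), l = r • T.e := by
  obtain ⟨r, hr, -⟩ := T.he W.1 le_rfl l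
  rw [T.res_self] at hr
  exact ⟨r, hr⟩

theorem Triv.smul_injective {W : X.affineOpens} (T : Triv L s W) (r r' : Γ(X, W.1))
    (h : r • T.e = r' • T.e) : r = r' := by
  obtain ⟨r₀, -, hu⟩ := T.he W.1 le_rfl (r • T.e)
  rw [T.res_self] at hu
  exact (hu r rfl).trans (hu r' h).symm

/-- the generator of the ideal of the zero scheme attached to a trivialization -/
noncomputable def Triv.gen [Mono s] {W : X.affineOpens} (T : Triv L s W)
    (hL : PicF.IsInvertible L) : Gen (PicF2.zeroScheme L s) W where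
  f := T.f
  nzd := by
    rw [mem_nonZeroDivisors_iff_right]
    intro b hb
    apply smul_sec_injective L s W.1
    rw [T.hf, ← mul_smul, hb, zero_smul, zero_smul]
  span := ideal_zeroScheme_eq hL (isRegSec_of_mono L s) W T.e T.he T.f T.hf

theorem Triv.pair_gen [Mono s] {W : X.affineOpens} (T : Triv L s W)
    (hL : PicF.IsInvertible L) : pair L s W.1 T.e (T.gen hL).e = 1 := by
  apply smul_sec_injective L s W.1
  rw [pair_spec, (T.gen hL).val_e, one_smul]
  exact T.hf.symm

theorem Triv.lin_bijective [Mono s] {W : X.affineOpens} (T : Triv L s W)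
    (hL : PicF.IsInvertible L) : Function.Bijective ((bil L s).lin W.1) := by
  have key : ∀ c : Γ(X, W.1), (bil L s).lin W.1 (pure _ _ W.1 (c • T.e) (T.gen hL).e) =
      ofFn c := by
    intro c
    rw [Bil.lin_pure]
    change ofFn (pair L s W.1 (c • T.e) (T.gen hL).e) = ofFn c
    have := (bil L s).smul_left W.1 c T.e (T.gen hL).e
    change ofFn (pair L s W.1 (c • T.e) (T.gen hL).e) =
      c • ofFn (pair L s W.1 T.e (T.gen hL).e) at this
    rw [this, T.pair_gen hL]
    change c * 1 = c
    rw [mul_one]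
  constructor
  · intro x y hxy
    obtain ⟨u, rfl⟩ := Gen.exists_pure' L (T.gen hL) x
    obtain ⟨v, rfl⟩ := Gen.exists_pure' L (T.gen hL) y
    obtain ⟨c, rfl⟩ := T.exists_eq_smul u
    obtain ⟨c', rfl⟩ := T.exists_eq_smul v
    rw [key, key] at hxy
    have : c = c' := hxy
    rw [this]
  · intro t
    exact ⟨pure _ _ W.1 (fn t • T.e) (T.gen hL).e, key (fn t)⟩

/-- local trivializations exist on a basis of affine opens -/
theorem exists_triv (hL : PicF.IsInvertible L) (V : X.Opens) (p : X) (hp : p ∈ V) :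
    ∃ (W : X.affineOpens) (_ : W.1 ≤ V), p ∈ W.1 ∧ Nonempty (Triv L s W) := by
  obtain ⟨U₁, hp₁, e₁, he₁⟩ := exists_isLocalBasis L hL p
  obtain ⟨_, ⟨W, hW, rfl⟩, hpW, hWV⟩ :=
    X.isBasis_affineOpens.exists_subset_of_mem_open
      (show p ∈ ((V ⊓ U₁ : X.Opens) : Set X) from ⟨hp, hp₁⟩) (V ⊓ U₁).2
  have hWU : W ≤ U₁ := fun x hx => (hWV hx).2
  have he : IsLocalBasis L W (L.presheaf.map (homOfLE hWU).op e₁) := he₁.res hWU
  obtain ⟨f, hf, -⟩ := he W le_rfl (sec L s W)
  have e0 : L.presheaf.map (homOfLE (le_refl W)).op (L.presheaf.map (homOfLE hWU).op e₁) =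
      L.presheaf.map (homOfLE hWU).op e₁ := by
    change L.presheaf.map (𝟙 _) _ = _
    rw [L.presheaf.map_id]; rfl
  rw [e0] at hf
  exact ⟨⟨W, hW⟩, fun x hx => (hWV hx).1, hpW, ⟨⟨_, he, f, hf⟩⟩⟩

variable (L s) in
/-- **the pairing induces an isomorphism `L ⊗ idealMod (Z(s)) ≅ O_X`** -/
theorem isIso_lift [Mono s] (hL : PicF.IsInvertible L) : IsIso (bil L s).lift := by
  apply Bil.isIso_lift
  · intro V x y hxy p hp
    obtain ⟨W, hWV, hpW, ⟨T⟩⟩ := exists_triv (s := s) hL V p hp
    refine ⟨W.1, homOfLE hWV, hpW, ?_⟩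
    apply (T.lin_bijective hL).1
    rw [Bil.lin_map, Bil.lin_map, hxy]
  · intro V t p hp
    obtain ⟨W, hWV, hpW, ⟨T⟩⟩ := exists_triv (s := s) hL V p hp
    exact ⟨W.1, homOfLE hWV, hpW, (T.lin_bijective hL).2 _⟩

variable (L s) in
/-- the ideal of the zero scheme of a regular section of `L` is inverse to `L` -/
theorem isInverseOf [Mono s] (hL : PicF.IsInvertible L) :
    ClSub.IsInverseOf L (ClSub.idealMod (PicF2.zeroScheme L s)) :=
  haveI := isIso_lift L s hL
  ⟨asIso (bil L s).lift⟩

end Groth.Agent.Helper1.ZInv
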