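import Mathlib
import Groth.Agent.Helper1.Hyp2
import Groth.Agent.Helper1.ZInv2
import Groth.Agent.Helper1.TwistMul5
import Groth.Agent.Helper4.AmpleIso

set_option autoImplicit false
set_option linter.unusedSectionVars false
set_option linter.style.haveILetI false

/-!
# Hyp3: the ideal of the zero scheme of `G` on affine opens of the charts, and its inverse
-/

namespace Groth.Agent.Helper1.Hyp

open CategoryTheory AlgebraicGeometry TopologicalSpace Opposite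
open Groth.Agent.Helper1.GrT Groth.Agent.Helper1.ProjO Groth.Agent.Helper1.TwistMul

universe u

variable {R A : Type u} [CommRing R] [CommRing A] [Algebra R A] (𝒜 : ℕ → Submodule R A)
  [GradedAlgebra 𝒜]

theorem isInvertible_tilde (hcov : (⨆ f : 𝒜 1, Proj.basicOpen 𝒜 (f : A)) = ⊤) (n : ℤ) :
    PicF.IsInvertible (GrTilde.tilde 𝒜 𝒜 n) :=
  Groth.Agent.Helper4.AmpleIso.isInvertible_of_iso
    (Groth.Agent.Helper1.TwistIso.twistIsoTilde 𝒜 n) (isInvertible_twist 𝒜 hcov n)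

/-- the zero scheme of the section `G` of `A(d)~` -/
noncomputable def Z (d : ℕ) (G : A) (hG : G ∈ 𝒜 d) : (Proj 𝒜).IdealSheafData :=
  PicF2.zeroScheme (GrTilde.tilde 𝒜 𝒜 (d : ℤ)) (secHom 𝒜 d G hG)

/-- on an affine open of the chart `D₊(t)`, the ideal of `Z(G)` is generated by `G / t ^ d` -/
theorem ideal_Z [IsDomain A] (hcov : (⨆ f : 𝒜 1, Proj.basicOpen 𝒜 (f : A)) = ⊤)
    (d : ℕ) (G : A) (hG : G ∈ 𝒜 d) (hG0 : G ≠ 0) (t : A) (ht : t ∈ 𝒜 1)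
    (U : (Proj 𝒜).affineOpens) (hU : U.1 ≤ Proj.basicOpen 𝒜 t) :
    (Z 𝒜 d G hG).ideal U = Ideal.span {fW 𝒜 d G hG t ht U.1 hU} := by
  haveI := mono_secHom 𝒜 d G hG hG0
  exact Groth.Agent.Lead.MeroT.ideal_zeroScheme_eq (isInvertible_tilde 𝒜 hcov d)
    (Groth.Agent.Helper1.ZInv.isRegSec_of_mono _ _) U (PW 𝒜 d t ht U.1 hU).eΓ
    (isLocalBasis_eΓ _) (fW 𝒜 d G hG t ht U.1 hU) (sec_eq 𝒜 d G hG t ht U.1 hU)

/-- the ideal module of `Z(G)` is inverse to `A(d)~` -/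
theorem isInverseOf_Z [IsDomain A] (hcov : (⨆ f : 𝒜 1, Proj.basicOpen 𝒜 (f : A)) = ⊤)
    (d : ℕ) (G : A) (hG : G ∈ 𝒜 d) (hG0 : G ≠ 0) :
    ClSub.IsInverseOf (GrTilde.tilde 𝒜 𝒜 (d : ℤ)) (ClSub.idealMod (Z 𝒜 d G hG)) := by
  haveI := mono_secHom 𝒜 d G hG hG0
  exact Groth.Agent.Helper1.ZInv.isInverseOf _ _ (isInvertible_tilde 𝒜 hcov d)

end Groth.Agent.Helper1.Hyp
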