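import Mathlib
import Groth.Agent.Helper1.Hyp3
import Groth.Agent.Helper1.Segre2
import Groth.Prelude.Def_LefPen

set_option autoImplicit false
set_option linter.unusedSectionVars false
set_option linter.style.haveILetI false

/-!
# Hyp4: membership in a quasi-coherent ideal is local; `LefPen.hypIdeal G` is the zero scheme of `G`
-/

namespace Groth.Agent.Helper1.Hyp

open CategoryTheory AlgebraicGeometry TopologicalSpace Opposite
open Groth.Agent.Helper1.GrT Groth.Agent.Helper1.ProjO Groth.Agent.Helper1.TwistMul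

universe u

/-- membership in a quasi-coherent ideal can be checked on an affine cover -/
theorem mem_ideal_of_cover {X : Scheme.{u}} (K : X.IdealSheafData) (U : X.affineOpens)
    {ι : Type*} (W : ι → X.affineOpens) (hWU : ∀ i, (W i).1 ≤ U.1)
    (hcov : U.1 ≤ ⨆ i, (W i).1) (a : Γ(X, U.1))
    (h : ∀ i, (X.presheaf.map (homOfLE (hWU i)).op).hom a ∈ K.ideal (W i)) : a ∈ K.ideal U := by
  rw [← K.ker_subschemeι_app U, RingHom.mem_ker]
  set φ := K.subschemeι with hφ
  refine TopCat.Sheaf.eq_of_locally_eq' K.subscheme.sheaf (fun i => φ ⁻¹ᵁ (W i).1) (φ ⁻¹ᵁ U.1)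
    (fun i => homOfLE (φ.preimage_mono (hWU i))) ?_ _ _ ?_
  · intro z hz
    obtain ⟨i, hi⟩ := Opens.mem_iSup.1 (hcov hz)
    exact Opens.mem_iSup.2 ⟨i, hi⟩
  · intro i
    have h1 := h i
    rw [← K.ker_subschemeι_app (W i), RingHom.mem_ker] at h1
    have h2 := congrArg (fun k => k.hom a) (φ.naturality (homOfLE (hWU i)).op)
    change (K.subscheme.presheaf.map (homOfLE (φ.preimage_mono (hWU i))).op).hom
      ((φ.app U.1).hom a) = (K.subscheme.presheaf.map (homOfLE (φ.preimage_mono (hWU i))).op).hom 0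
    rw [map_zero]
    exact h2.symm.trans h1

end Groth.Agent.Helper1.Hyp
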