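import Mathlib
import Groth.Agent.Helper1.Hyp4
import Groth.Agent.Helper1.SerreFin3

set_option autoImplicit false
set_option linter.unusedSectionVars false
set_option linter.style.haveILetI false

/-!
# Hyp5: `LefPen.hypIdeal G` is the zero scheme of the section `G` of `O(d)`
-/

namespace Groth.Agent.Helper1.Hyp

open CategoryTheory AlgebraicGeometry TopologicalSpace Opposite
open Groth.Agent.Helper1.GrT Groth.Agent.Helper1.ProjO Groth.Agent.Helper1.TwistMul

universe u

variable (r : ℕ) (k : Type u) [Field k]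

theorem hcov : (⨆ f : CohB1.polyGrading r k 1, Proj.basicOpen (CohB1.polyGrading r k)
    (f : MvPolynomial (Fin (r + 1)) k)) = ⊤ :=
  Groth.Agent.Helper1.SerreFin.hcov_poly r k

variable {r k}

/-- the zero scheme of a form -/
noncomputable def ZG {d : ℕ} (G : LefPen.Form r k d) : (CohB1.ProjSpace r k).IdealSheafData :=
  Z (CohB1.polyGrading r k) d G.1 G.2

lemma res_dehom {d : ℕ} (G : LefPen.Form r k d) (i : Fin (r + 1))
    (W : (CohB1.ProjSpace r k).Opens) (hW : W ≤ LefPen.chart r k i) :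
    ((CohB1.ProjSpace r k).presheaf.map (homOfLE hW).op).hom (LefPen.dehom G i) =
      fW (CohB1.polyGrading r k) d G.1 G.2 (MvPolynomial.X i) (LefPen.X_mem r k i) W hW := rfl

/-- the affine open `U ∩ D₊(T_i)` -/
noncomputable def UI (U : (CohB1.ProjSpace r k).affineOpens) (i : Fin (r + 1)) :
    (CohB1.ProjSpace r k).affineOpens :=
  haveI : (CohB1.ProjSpace r k).IsSeparated :=
    (inferInstance : (Proj (CohB1.polyGrading r k)).IsSeparated)
  ⟨U.1 ⊓ LefPen.chart r k i, U.2.inf (Proj.isAffineOpen_basicOpen _ _ (LefPen.X_mem r k i)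
    Nat.one_pos)⟩

theorem ideal_ZG_UI {d : ℕ} (G : LefPen.Form r k d) (hG0 : G.1 ≠ 0)
    (U : (CohB1.ProjSpace r k).affineOpens) (i : Fin (r + 1)) :
    (ZG G).ideal (UI U i) = Ideal.span {((CohB1.ProjSpace r k).presheaf.map
        (homOfLE (inf_le_right : U.1 ⊓ LefPen.chart r k i ≤ LefPen.chart r k i)).op).hom
          (LefPen.dehom G i)} := by
  rw [res_dehom]
  exact ideal_Z (CohB1.polyGrading r k) (hcov r k) d G.1 G.2 hG0 (MvPolynomial.X i)
    (LefPen.X_mem r k i) (UI U i) inf_le_right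

/-- **K3** the ideal sheaf `LefPen.hypIdeal G` is the ideal of the zero scheme of `G` -/
theorem hypIdeal_eq {d : ℕ} (G : LefPen.Form r k d) (hG0 : G.1 ≠ 0) :
    LefPen.hypIdeal G = ZG G := by
  apply le_antisymm
  · intro U a ha
    have ha' : a ∈ LefPen.hypFamily G U :=
      Scheme.IdealSheafData.ideal_ofIdeals_le (LefPen.hypFamily G) U ha
    refine mem_ideal_of_cover (ZG G) U (fun i => UI U i) (fun i => inf_le_left) ?_ a ?_
    · intro x hx
      have h1 : x ∈ (⨆ i : Fin (r + 1), LefPen.chart r k i) := by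
        rw [show (⨆ i : Fin (r + 1), LefPen.chart r k i) = ⊤ from
          Groth.Agent.Helper1.Segre.iSup_basicOpen_X k r]
        trivial
      obtain ⟨i, hi⟩ := Opens.mem_iSup.1 h1
      exact Opens.mem_iSup.2 ⟨i, ⟨hx, hi⟩⟩
    · intro i
      rw [ideal_ZG_UI G hG0 U i]
      have := (Ideal.mem_iInf.1 ha') i
      exact this
  · rw [LefPen.hypIdeal, Scheme.IdealSheafData.le_ofIdeals_iff]
    intro U a ha
    refine Ideal.mem_iInf.2 (fun i => ?_)
    have h1 := (ZG G).ideal_le_comap_ideal (U := UI U i) (V := U)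
      (show (UI U i).1 ≤ U.1 from inf_le_left) ha
    rw [ideal_ZG_UI G hG0 U i] at h1
    exact h1

end Groth.Agent.Helper1.Hyp
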