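import Mathlib
import Groth.Agent.Helper1.Hyp5
import Groth.Agent.Helper1.KzLin3
import Groth.Agent.Helper4.TensorAssoc
import Groth.Agent.Helper4.AmpleBasis

set_option autoImplicit false
set_option linter.unusedSectionVars false
set_option linter.style.haveILetI false

/-!
# Hyp6: the ideal sheaf of a hypersurface of degree `d` is `O(-d)`
-/

namespace Groth.Agent.Helper1.Hyp

open CategoryTheory AlgebraicGeometry TopologicalSpace Opposite

universe u

/-- uniqueness of the inverse of an invertible module -/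
theorem nonempty_iso_of_isInverseOf {X : Scheme.{u}} (L M M' : X.Modules)
    (hL : PicF.IsInvertible L) (hM' : PicF.IsInvertible M')
    (h : ClSub.IsInverseOf L M) (h' : ClSub.IsInverseOf L M') : Nonempty (M ≅ M') := by
  obtain ⟨e⟩ := h
  obtain ⟨e'⟩ := h'
  exact ⟨(SecTwist.unitorR M).symm ≪≫ PicGrp.tensorModIso (Iso.refl M) e'.symm ≪≫
    (Groth.Agent.Helper4.TensorAssoc.assocIso M L M' hL hM').symm ≪≫
    PicGrp.tensorModIso (Groth.Agent.Helper4.AmpleBasis.braidIso M L ≪≫ e) (Iso.refl M') ≪≫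
    Groth.Agent.Helper4.AmpleBasis.unitorL M'⟩

variable {r : ℕ} {k : Type u} [Field k]

/-- **K2** the ideal sheaf of the hypersurface `V_+(G)`, `G ≠ 0` of degree `d`, is `O(-d)` -/
theorem nonempty_idealMod_hypIdeal_iso {d : ℕ} (G : LefPen.Form r k d) (hG0 : G.1 ≠ 0) :
    Nonempty (ClSub.idealMod (LefPen.hypIdeal G) ≅ Twist.twistProjSpace r k (-(d : ℤ))) := by
  rw [hypIdeal_eq G hG0]
  have h1 : ClSub.IsInverseOf (GrTilde.tilde (CohB1.polyGrading r k) (CohB1.polyGrading r k) (d : ℤ))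
      (ClSub.idealMod (ZG G)) :=
    isInverseOf_Z (CohB1.polyGrading r k) (hcov r k) d G.1 G.2 hG0
  have h2 : ClSub.IsInverseOf (GrTilde.tilde (CohB1.polyGrading r k) (CohB1.polyGrading r k) (d : ℤ))
      (Twist.twistProjSpace r k (-(d : ℤ))) := by
    obtain ⟨e⟩ := Groth.Agent.Helper1.TwistMul.nonempty_twist_tensor_twist_iso
      (CohB1.polyGrading r k) (hcov r k) (d : ℤ) (-(d : ℤ)) 0 (by ring)
    obtain ⟨e0⟩ := Groth.Agent.Helper1.KzLin.tw_zero r k
    exact ⟨PicGrp.tensorModIso (Groth.Agent.Helper1.TwistIso.twistIsoTilde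
      (CohB1.polyGrading r k) (d : ℤ)).symm (Iso.refl _) ≪≫ e ≪≫ e0⟩
  exact nonempty_iso_of_isInverseOf _ _ _ (isInvertible_tilde (CohB1.polyGrading r k) (hcov r k) d)
    (Groth.Agent.Helper1.SerreVan.isInvertible_twist r k (-(d : ℤ))) h1 h2

end Groth.Agent.Helper1.Hyp
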