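import Mathlib
import Groth.Agent.Helper1.Hyp6
import Groth.Agent.Helper1.AffLin2
import Groth.Agent.Helper1.IdealMod
import Groth.Agent.Helper1.ProjTop8
import Groth.Agent.Helper1.ClopenIdem1
import Groth.Agent.Lead.ProperFinA

set_option autoImplicit false
set_option linter.unusedSectionVars false
set_option linter.style.haveILetI false

/-!
# Hyp7: cohomology of the structure sheaf of a closed subscheme of `P^N_k` on `P^N_k`;
global functions from `H⁰`
-/

namespace Groth.Agent.Helper1.Hyp

open CategoryTheory AlgebraicGeometry TopologicalSpace Opposite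

universe u

variable {N : ℕ} {k : Type u} [Field k]

/-- `H^p(X, O_X) ≃ H^p(P, (O_P / I) ⊗ O(0))` for the closed subscheme `X` of `P` defined by `I` -/
theorem nonempty_HH_equiv (I : (CohB1.ProjSpace N k).IdealSheafData)
    [I.subscheme.Over (Spec (CommRingCat.of k))]
    (hinst : I.subscheme ↘ (Spec (CommRingCat.of k)) = I.subschemeι ≫ CohB1.ProjSpace.toSpec N k)
    (p : ℕ) :
    Nonempty (Coh.HH I.subscheme (Coh.structureModule I.subscheme) p ≃ₗ[k]
      Coh.HH (CohB1.ProjSpace N k)
        (CohB1.tensorMod (ClSub.quotMod I) (Twist.twistProjSpace N k 0)) p) := by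
  obtain ⟨σ, -⟩ := Groth.Agent.Helper1.AffLin.exists_HH_linearEquiv_end I.subschemeι k
    (show I.subschemeι ≫ (CohB1.ProjSpace N k ↘ Spec (CommRingCat.of k)) = _ from hinst.symm)
    (Coh.structureModule I.subscheme) p
  obtain ⟨e⟩ := Groth.Agent.Helper1.KzLin.tw_zero_iso N k (ClSub.quotMod I)
  exact ⟨σ.trans (Groth.Agent.Helper1.ProjTop.HHlinEquiv k e p).symm⟩

/-- if `H⁰(X, O_X)` is one-dimensional over `k` then `k → Γ(X, O_X)` is bijective -/
theorem bijective_toGlobal_of_finrank_one {X : Scheme.{u}} (g : X ⟶ Spec (CommRingCat.of k))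
    (h : letI : X.Over (Spec (CommRingCat.of k)) := ⟨g⟩
      Module.finrank k (Coh.HH X (Coh.structureModule X) 0) = 1) :
    Function.Bijective (Coh.toGlobal g) := by
  letI : X.Over (Spec (CommRingCat.of k)) := ⟨g⟩
  letI : Algebra k Γ(X, ⊤) := (Coh.toGlobal g).toAlgebra
  let e : Coh.HH X (Coh.structureModule X) 0 ≃ₗ[k] Γ(X, ⊤) :=
    { (Groth.Agent.Lead.ProperFinA.h0Equiv (Coh.structureModule X)) with
      map_smul' := by
        intro a x
        change Groth.Agent.Lead.ProperFinA.h0Equiv (Coh.structureModule X)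
          (Coh.toGlobal g a • x) = _
        rw [Groth.Agent.Lead.ProperFinA.h0Equiv_smul]
        rfl }
  have h1 : Module.finrank k Γ(X, ⊤) = 1 := by rw [← e.finrank_eq]; exact h
  exact Algebra.finrank_eq_one_iff_bijective_algebraMap.1 h1

/-- if `k → Γ(X, O_X)` is bijective, with `k` a field, then `X` is connected -/
theorem connectedSpace_of_bijective_field {X : Scheme.{u}} (φ : k →+* Γ(X, ⊤))
    (h : Function.Bijective φ) : ConnectedSpace X := by
  rw [connectedSpace_iff_clopen]
  constructor
  · by_contra hne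
    rw [not_nonempty_iff] at hne
    haveI : Subsingleton Γ(X, ⊤) := inferInstance
    have h1 : φ 1 = φ 0 := Subsingleton.elim _ _
    exact one_ne_zero (h.1 h1)
  · intro C hC
    obtain ⟨e, he, hCe⟩ := Groth.Agent.Helper1.ClopenIdem.exists_idempotent_of_isClopen C hC
    obtain ⟨c, rfl⟩ := h.2 e
    have hc : c * c = c := h.1 (by rw [map_mul, he])
    have hc' : c = 0 ∨ c = 1 := by
      have : c * (c - 1) = 0 := by rw [mul_sub, mul_one, hc, sub_self]
      rcases mul_eq_zero.1 this with h | h
      · exact Or.inl h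
      · exact Or.inr (sub_eq_zero.1 h)
    rcases hc' with h | h
    · left
      rw [← hCe, h, map_zero, Scheme.basicOpen_zero]
      rfl
    · right
      rw [← hCe, h, map_one, Scheme.basicOpen_of_isUnit _ isUnit_one]
      rfl

theorem connectedSpace_of_bijective_toGlobal {X : Scheme.{u}} (g : X ⟶ Spec (CommRingCat.of k))
    (h : Function.Bijective (Coh.toGlobal g)) : ConnectedSpace X :=
  connectedSpace_of_bijective_field (Coh.toGlobal g) h

end Groth.Agent.Helper1.Hyp
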