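import Mathlib
import Groth.Agent.Helper1.StalkExt7

/-!
# StalkExt8: `ℰxtʲ(F, ω_P) = 0` iff `Extʲ(F_x, O_x) = 0` at the closed points of `P^N_k`
-/

set_option autoImplicit false
set_option linter.style.haveILetI false
set_option linter.unusedSectionVars false

universe w u

open CategoryTheory CategoryTheory.Limits AlgebraicGeometry Opposite Abelian
open Groth.Agent.Helper9.TensorSh Groth.Agent.Helper9.TensorAdj Groth.Agent.Helper9.TensorFlat
  Groth.Agent.Helper1.ExtSh Groth.Agent.Helper9.SkyMod4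

namespace Groth.Agent.Helper1.StalkExt

attribute [local instance] Groth.Agent.Helper9.TensorAdj.hasSheafHom

variable (N : ℕ) (k : Type u) [Field k]

local notation "ℙ" => CohB1.ProjSpace N k
local notation "ωP" => Twist.twistProjSpace N k (-((N : ℤ) + 1))

variable [HasInjectiveResolutions (ModSite.Mod (CohB1.ProjSpace N k).sheaf)]
  [∀ x : (CohB1.ProjSpace N k),
    HasExt.{w} (ModuleCat.{u} ((CohB1.ProjSpace N k).presheaf.stalk x))]

/-- `ℰxtʲ(F, ω_P)_x = 0 ↔ Extʲ(F_x, O_x) = 0` (no `HasExt` on `P`-modules needed) -/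
theorem isZero_St_extSh_omega_iff' (F : (CohB1.ProjSpace N k).Modules) (hF : Coh.IsCoh F) (j : ℕ)
    (x : ℙ) :
    IsZero ((St x).obj ((ModSite.extSh (O := (CohB1.ProjSpace N k).sheaf) F j).obj ωP)) ↔
      Subsingleton (Ext.{w}
        (ModuleCat.of ((CohB1.ProjSpace N k).presheaf.stalk x) (F.presheaf.stalk x))
        (ModuleCat.of ((CohB1.ProjSpace N k).presheaf.stalk x)
          ((CohB1.ProjSpace N k).presheaf.stalk x)) j) := by
  refine (isZero_St_extSh_iff_closed N k (𝟙 (CohB1.ProjSpace N k)) j F hF ωP x).trans ?_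
  obtain ⟨c⟩ := nonempty_St_iso_of_isInvertible ωP
    (Groth.Agent.Helper1.SerreVan.isInvertible_twist N k _) x
  exact ⟨fun h => Groth.Agent.Helper1.ExtTw.subsingleton_ext_of_iso (Iso.refl _) c.symm j h,
    fun h => Groth.Agent.Helper1.ExtTw.subsingleton_ext_of_iso (Iso.refl _) c j h⟩

/-- **`ℰxtʲ(F, ω_P) = 0` iff `Extʲ(F_x, O_x) = 0` at every closed point** -/
theorem isZero_extSh_omega_iff_forall_closed (F : (CohB1.ProjSpace N k).Modules)
    (hF : Coh.IsCoh F) (j : ℕ) :
    IsZero ((ModSite.extSh (O := (CohB1.ProjSpace N k).sheaf) F j).obj ωP) ↔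
      ∀ x : ℙ, IsClosed ({x} : Set ℙ) → Subsingleton (Ext.{w}
        (ModuleCat.of ((CohB1.ProjSpace N k).presheaf.stalk x) (F.presheaf.stalk x))
        (ModuleCat.of ((CohB1.ProjSpace N k).presheaf.stalk x)
          ((CohB1.ProjSpace N k).presheaf.stalk x)) j) := by
  have hω := Groth.Agent.Helper1.SerreFin.isCoh_twist N k (-((N : ℤ) + 1))
  constructor
  · intro h x _
    exact (isZero_St_extSh_omega_iff' N k F hF j x).1 ((St x).map_isZero h)
  · intro h
    haveI : IsNoetherianRing (MvPolynomial (Fin (N + 1)) k) := inferInstance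
    haveI : IsNoetherian (CohB1.ProjSpace N k) :=
      Groth.Agent.Helper3.ProjNoeth.main (CohB1.polyGrading N k)
    refine isZero_of_closed_points _ (isCoh_extSh_projSpace N k ωP hω j F hF).2 (fun x hx => ?_)
    exact (isZero_St_iff _ x).1 ((isZero_St_extSh_omega_iff' N k F hF j x).2 (h x hx))

end Groth.Agent.Helper1.StalkExt
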