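import Mathlib
import Groth.Agent.Helper1.CMcl1
import Groth.Agent.Helper1.StalkExt8
import Groth.Agent.Helper1.ExtSh13
import Groth.Agent.Helper4.TensorInv

/-!
# CMcl2: depth of the stalks at closed points and vanishing of `ℰxt^{N-i}(ι_* E, ω_P)`
-/

set_option autoImplicit false
set_option linter.style.haveILetI false
set_option linter.unusedSectionVars false

universe u

open CategoryTheory CategoryTheory.Limits AlgebraicGeometry Opposite Abelian
open Groth.Agent.Helper9.TensorSh Groth.Agent.Helper9.TensorAdj Groth.Agent.Helper9.TensorFlat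
  Groth.Agent.Helper1.ExtSh Groth.Agent.Helper9.SkyMod4 Groth.Agent.Helper1.StalkExt

namespace Groth.Agent.Helper1.CMcl

attribute [local instance] Groth.Agent.Helper9.TensorAdj.hasSheafHom

variable (N : ℕ) (k : Type u) [Field k] {X : Scheme.{u}} (ι : X ⟶ CohB1.ProjSpace N k)
  [IsClosedImmersion ι]

local notation "ℙ" => CohB1.ProjSpace N k
local notation "ωP" => Twist.twistProjSpace N k (-((N : ℤ) + 1))

theorem isClosed_singleton_iff (x : X) :
    IsClosed ({ι x} : Set ℙ) ↔ IsClosed ({x} : Set X) := by
  have hemb := ι.isClosedEmbedding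
  constructor
  · intro h
    have h1 : ({x} : Set X) = ι ⁻¹' {ι x} := by
      ext z
      simp only [Set.mem_singleton_iff, Set.mem_preimage]
      exact ⟨fun h => by rw [h], fun h => hemb.injective h⟩
    rw [h1]
    exact h.preimage ι.continuous
  · intro h
    have h1 : ({ι x} : Set ℙ) = ι '' {x} := by simp
    rw [h1]
    exact hemb.isClosedMap _ h

variable [HasInjectiveResolutions (ModSite.Mod (CohB1.ProjSpace N k).sheaf)]

/-- **depth at the closed points and vanishing of the `ℰxt` sheaves** -/
theorem le_depth_iff_isZero_extSh (E : X.Modules) (hE : Coh.IsCoh E) (m : ℕ) :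
    (∀ x : X, IsClosed ({x} : Set X) →
        (m : ℕ∞) ≤ LocCoh.depth (X.presheaf.stalk x) (E.presheaf.stalk x)) ↔
      ∀ i : ℕ, i < m → i ≤ N →
        IsZero ((ModSite.extSh (O := (CohB1.ProjSpace N k).sheaf)
          ((Scheme.Modules.pushforward ι).obj E) (N - i)).obj ωP) := by
  haveI : IsNoetherianRing (MvPolynomial (Fin (N + 1)) k) := inferInstance
  haveI : IsNoetherian (CohB1.ProjSpace N k) :=
    Groth.Agent.Helper3.ProjNoeth.main (CohB1.polyGrading N k)
  haveI : IsLocallyNoetherian X := isLocallyNoetherian_of_closed N k ι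
  have hpE : Coh.IsCoh ((Scheme.Modules.pushforward ι).obj E) :=
    Groth.Agent.Helper1.ClTr.isCoh_push N k ι E hE
  haveI := hE.1
  haveI := hpE.1
  -- the local statement at a closed point of `X`
  have loc : ∀ x : X, IsClosed ({x} : Set X) →
      ((m : ℕ∞) ≤ LocCoh.depth (X.presheaf.stalk x) (E.presheaf.stalk x) ↔
        ∀ i : ℕ, i < m → i ≤ N → Subsingleton (Ext
          (ModuleCat.of ((CohB1.ProjSpace N k).presheaf.stalk (ι x))
            (((Scheme.Modules.pushforward ι).obj E).presheaf.stalk (ι x)))
          (ModuleCat.of ((CohB1.ProjSpace N k).presheaf.stalk (ι x))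
            ((CohB1.ProjSpace N k).presheaf.stalk (ι x))) (N - i))) := by
    intro x hx
    have hy : IsClosed ({ι x} : Set ℙ) := (isClosed_singleton_iff N k ι x).2 hx
    haveI := Groth.Agent.Helper1.PnReg.isRegularLocalRing_stalk N k (ι x)
    haveI : Module.Finite (X.presheaf.stalk x) (E.presheaf.stalk x) :=
      Groth.Agent.Helper4.FinLocFree2.finite_stalk E hE.2 x
    haveI : Module.Finite ((CohB1.ProjSpace N k).presheaf.stalk (ι x))
        (((Scheme.Modules.pushforward ι).obj E).presheaf.stalk (ι x)) :=
      Groth.Agent.Helper4.FinLocFree2.finite_stalk _ hpE.2 (ι x)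
    rw [← depth_push_stalk ι E x]
    exact Groth.Agent.Helper1.DepthExt.le_depth_iff _ _ N
      (Groth.Agent.Helper1.PnReg.ringKrullDim_stalk_of_isClosed N k (ι x) hy) m
  constructor
  · intro h i hi hiN
    rw [isZero_extSh_omega_iff_forall_closed N k _ hpE (N - i)]
    intro y hy
    by_cases hr : y ∈ Set.range ι
    · obtain ⟨x, rfl⟩ := hr
      have hx := (isClosed_singleton_iff N k ι x).1 hy
      exact (loc x hx).1 (h x hx) i hi hiN
    · haveI := Groth.Agent.Lead.PushStalk.subsingleton_stalk_of_notMem_range ι E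
        ι.isClosedEmbedding.isClosed_range y hr
      exact Groth.Agent.Helper1.RegAB.subsingleton_ext_of_subsingleton _ _ _
  · intro h x hx
    rw [loc x hx]
    intro i hi hiN
    exact (isZero_extSh_omega_iff_forall_closed N k _ hpE (N - i)).1 (h i hi hiN) (ι x)
      ((isClosed_singleton_iff N k ι x).2 hx)

end Groth.Agent.Helper1.CMcl
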