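import Mathlib
import Groth.Agent.Helper1.CMcl2
import Groth.Agent.Lead.PerfLib5
import Groth.Agent.Helper7.AusBuchC

/-!
# CMcl3: the Cohen–Macaulay condition at closed points of a closed subscheme of `P^N_k`
through the vanishing of `ℰxt^{N-i}(ι_* O_X, ω_P)`
-/

set_option autoImplicit false
set_option linter.style.haveILetI false
set_option linter.unusedSectionVars false

universe u

open CategoryTheory CategoryTheory.Limits AlgebraicGeometry Opposite Abelian
open Groth.Agent.Helper9.TensorSh Groth.Agent.Helper9.TensorAdj Groth.Agent.Helper9.TensorFlat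
  Groth.Agent.Helper1.ExtSh Groth.Agent.Helper9.SkyMod4 Groth.Agent.Helper1.StalkExt

namespace Groth.Agent.Helper1.CMcl

attribute [local instance] Groth.Agent.Helper9.TensorAdj.hasSheafHom

/-- the stalk of the structure module has the depth of the local ring -/
theorem depth_structureModule_stalk {X : Scheme.{u}} (x : X) :
    LocCoh.depth (X.presheaf.stalk x) ((Coh.structureModule X).presheaf.stalk x) =
      LocCoh.depth (X.presheaf.stalk x) (X.presheaf.stalk x) := by
  obtain ⟨e⟩ := nonempty_stalk_linearEquiv_of_isInvertible (Coh.structureModule X)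
    Groth.Agent.Helper4.TensorInv.isInvertible_structureModule x
  exact (Groth.Agent.Helper2.DepthCM.idealDepth_congr _ e).symm

/-- the stalks of a finite locally free module have at least the depth of the local ring -/
theorem le_depth_stalk_of_isFinLocFree {X : Scheme.{u}} [IsLocallyNoetherian X] (F : X.Modules)
    (hF : FlatMod.IsFinLocFree F) (x : X) :
    LocCoh.depth (X.presheaf.stalk x) (X.presheaf.stalk x) ≤
      LocCoh.depth (X.presheaf.stalk x) (F.presheaf.stalk x) := by
  have hc := Groth.Agent.Lead.PerfLib.isCoh_of_isFinLocFree hF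
  haveI := hc.1
  haveI : Module.Finite (X.presheaf.stalk x) (F.presheaf.stalk x) :=
    Groth.Agent.Helper4.FinLocFree2.finite_stalk F hc.2 x
  haveI := Groth.Agent.Helper4.FinLocFree2.free_stalk_of_isFinLocFree F hF x
  rcases subsingleton_or_nontrivial (F.presheaf.stalk x) with h | h
  · rw [Groth.Agent.Helper2.DepthLoc.depth_eq_top_of_subsingleton (X.presheaf.stalk x)
      (F.presheaf.stalk x)]
    exact le_top
  · exact (Groth.Agent.Helper7.AusBuch.depth_free (R := X.presheaf.stalk x)
      (F.presheaf.stalk x)).symm.le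

variable (N : ℕ) (k : Type u) [Field k] {X : Scheme.{u}} (ι : X ⟶ CohB1.ProjSpace N k)
  [IsClosedImmersion ι]

local notation "ℙ" => CohB1.ProjSpace N k
local notation "ωP" => Twist.twistProjSpace N k (-((N : ℤ) + 1))

variable [HasInjectiveResolutions (ModSite.Mod (CohB1.ProjSpace N k).sheaf)]

/-- **Cohen–Macaulay of dimension `n` at the closed points iff
`ℰxt^{N-i}(ι_* O_X, ω_P) = 0` for `i < n`** -/
theorem cm_iff_isZero_extSh (n : ℕ) (hn : topologicalKrullDim ↥X = n) :
    (∀ x : X, IsClosed ({x} : Set X) →
        LocCoh.IsCohenMacaulayLocalRing (X.presheaf.stalk x) ∧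
          ringKrullDim (X.presheaf.stalk x) = n) ↔
      ∀ i : ℕ, i < n → i ≤ N →
        IsZero ((ModSite.extSh (O := (CohB1.ProjSpace N k).sheaf)
          ((Scheme.Modules.pushforward ι).obj (Coh.structureModule X)) (N - i)).obj ωP) := by
  haveI : IsLocallyNoetherian X := isLocallyNoetherian_of_closed N k ι
  rw [← le_depth_iff_isZero_extSh N k ι (Coh.structureModule X)
    (Groth.Agent.Helper1.Dev.isCoh_structureModule X) n]
  refine forall_congr' fun x => forall_congr' fun _ => ?_
  rw [depth_structureModule_stalk]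
  have hdim : ringKrullDim (X.presheaf.stalk x) ≤ n := by
    rw [← hn]
    exact Groth.Agent.Lead.RegDimOne.ringKrullDim_stalk_le_dim X x
  exact (le_depth_iff_cm _ n hdim).symm

/-- under the Cohen–Macaulay condition, `ℰxt^{N-i}(ι_* F, ω_P) = 0` for `i < n` and `F` finite
locally free -/
theorem isZero_extSh_of_cm (n : ℕ) (hn : topologicalKrullDim ↥X = n)
    (hcm : ∀ x : X, IsClosed ({x} : Set X) →
        LocCoh.IsCohenMacaulayLocalRing (X.presheaf.stalk x) ∧
          ringKrullDim (X.presheaf.stalk x) = n)
    (F : X.Modules) (hF : FlatMod.IsFinLocFree F) (i : ℕ) (hi : i < n) (hiN : i ≤ N) :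
    IsZero ((ModSite.extSh (O := (CohB1.ProjSpace N k).sheaf)
      ((Scheme.Modules.pushforward ι).obj F) (N - i)).obj ωP) := by
  haveI : IsLocallyNoetherian X := isLocallyNoetherian_of_closed N k ι
  refine (le_depth_iff_isZero_extSh N k ι F
    (Groth.Agent.Lead.PerfLib.isCoh_of_isFinLocFree hF) n).1 (fun x hx => ?_) i hi hiN
  have hdim : ringKrullDim (X.presheaf.stalk x) ≤ n := by
    rw [← hn]
    exact Groth.Agent.Lead.RegDimOne.ringKrullDim_stalk_le_dim X x
  exact ((le_depth_iff_cm _ n hdim).2 (hcm x hx)).trans (le_depth_stalk_of_isFinLocFree F hF x)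

end Groth.Agent.Helper1.CMcl
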