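import Mathlib
import Groth.Agent.Helper1.IdealMul3
import Groth.Agent.Helper1.NegTw
import Groth.Agent.Helper1.HHLes3
import Groth.Agent.Helper1.ProjTop8
import Groth.Agent.Helper1.CMcl3
import Groth.Agent.Helper1.Dev4
import Groth.Agent.Lead.QuotSeq

set_option autoImplicit false
set_option linter.unusedSectionVars false
set_option linter.style.haveILetI false

/-!
# Lef1: `H^i(X, O_X) → H^i(X, O_X/I^{m+1})` for an ample effective Cartier divisor on a scheme
proper over a field
-/

namespace Groth.Agent.Helper1.Lef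

open CategoryTheory Limits AlgebraicGeometry TopologicalSpace Opposite
open Groth.Agent.Helper1.IdealMul

universe u

section SC

variable {X : Scheme.{u}} (D : X.IdealSheafData)

/-- `0 → I_D → O_X → O_D → 0` -/
noncomputable def idealSC : ShortComplex X.Modules :=
  ShortComplex.mk (ClSub.idealModι D) (ClSub.toSubscheme D) (kernel.condition _)

theorem idealSC_shortExact : (idealSC D).ShortExact :=
  { exact := ShortComplex.exact_of_f_is_kernel _ (kernelIsKernel _)
    mono_f := (inferInstance : Mono (ClSub.idealModι D))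
    epi_g := Groth.Agent.Lead.QuotSeq.epi_toSubscheme D }

end SC

section Main

variable (k : Type u) [Field k] {X : Scheme.{u}} [X.Over (Spec (CommRingCat.of k))]

include k in
/-- the long exact sequence: vanishing of `H^i` of the ideal gives bijectivity -/
theorem bij_inj_of_vanishing (D : X.IdealSheafData) (n : ℕ)
    (hv : ∀ i : ℕ, i ≤ n → Subsingleton (Coh.HH X (ClSub.idealMod D) i)) :
    (∀ i : ℕ, i < n → Function.Bijective (Sheaf.H.map
      ((SheafOfModules.toSheaf X.ringCatSheaf).map (ClSub.toSubscheme D)) i)) ∧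
    Function.Injective (Sheaf.H.map
      ((SheafOfModules.toSheaf X.ringCatSheaf).map (ClSub.toSubscheme D)) n) := by
  have hS := idealSC_shortExact D
  have hinj : ∀ i : ℕ, i ≤ n → Function.Injective (Canon.HHlin k (idealSC D).g i) := by
    intro i hi
    haveI : Subsingleton (Coh.HH X (idealSC D).X₁ i) := hv i hi
    have hex := Groth.Agent.Helper1.HHLes.exact_f_g k (idealSC D) hS i
    rw [← LinearMap.ker_eq_bot, LinearMap.exact_iff.1 hex]
    rw [eq_bot_iff]
    rintro _ ⟨y, rfl⟩
    rw [Subsingleton.elim y 0, map_zero]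
    exact Submodule.zero_mem _
  refine ⟨fun i hi => ⟨hinj i hi.le, ?_⟩, hinj n le_rfl⟩
  intro y
  haveI : Subsingleton (Coh.HH X (idealSC D).X₁ (i + 1)) := hv (i + 1) hi
  have hex := Groth.Agent.Helper1.HHLes.exact_g_δ k (idealSC D) hS i
  exact (hex y).1 (Subsingleton.elim _ _)

variable [IsProper (X ↘ (Spec (CommRingCat.of k)))]

include k in
/-- **S2942** -/
theorem main (𝓘 : X.IdealSheafData) (L : X.Modules)
    (hL : ClSub.IsInverseOf L (ClSub.idealMod 𝓘)) (hamp : CohB1.IsAmple L) (n : ℕ)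
    (hdepth : ∀ x : X, IsClosed ({x} : Set X) →
      (n : ℕ∞) < LocCoh.depth (X.presheaf.stalk x) (X.presheaf.stalk x)) :
    ∃ m₀ : ℕ, ∀ m : ℕ, m₀ ≤ m →
      (∀ i : ℕ, i < n → Function.Bijective (Sheaf.H.map
        ((SheafOfModules.toSheaf X.ringCatSheaf).map (ClSub.toSubscheme (𝓘 ^ (m + 1)))) i)) ∧
      Function.Injective (Sheaf.H.map
        ((SheafOfModules.toSheaf X.ringCatSheaf).map (ClSub.toSubscheme (𝓘 ^ (m + 1)))) n) := by
  obtain ⟨e₀⟩ := hL
  have hMinv : PicF.IsInvertible (ClSub.idealMod 𝓘) :=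
    Groth.Agent.Helper4.InvOfTensor.isInvertible_of_tensor_iso (ClSub.idealMod 𝓘) L
      (Groth.Agent.Lead.Ref1B.braid (ClSub.idealMod 𝓘) L ≪≫ e₀)
  have hI : BlowUp.IsEffCartierIdeal 𝓘 :=
    Groth.Agent.Lead.IdealModDict.isEffCartierIdeal_of_isInvertible 𝓘 hMinv
  obtain ⟨m₀, hm₀⟩ := Groth.Agent.Helper1.NegTw.exists_vanishing_neg_pow k L hamp
    (ClSub.idealMod 𝓘) ⟨e₀⟩ (Coh.structureModule X)
    (Groth.Agent.Helper1.Dev.isCoh_structureModule X) n (fun x hx => by
      rw [Groth.Agent.Helper1.CMcl.depth_structureModule_stalk]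
      exact hdepth x hx)
  refine ⟨m₀, fun m hm => ?_⟩
  apply bij_inj_of_vanishing k
  intro i hi
  haveI := hm₀ (m + 1) (by omega) i hi
  obtain ⟨e⟩ := nonempty_pow_iso 𝓘 hI m
  exact (Groth.Agent.Helper1.ProjTop.HHlinEquiv k (X := X)
    (e ≪≫ (Groth.Agent.Helper4.AmpleBasis.unitorL _).symm) i).toEquiv.subsingleton

end Main

end Groth.Agent.Helper1.Lef
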