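import Groth.Agent.Helper1.ZCon2
import Groth.Agent.Helper1.FF3
import Groth.Agent.Helper1.Dev4

set_option autoImplicit false

/-!
# Connectedness of the closed fibre of a proper scheme over a Noetherian local ring
whose ring of global functions is local
-/

namespace Groth.Agent.Helper1.ZCon

open CategoryTheory Limits AlgebraicGeometry Opposite TopologicalSpace IsLocalRing
open Groth.Agent.Helper4.GV Groth.Agent.Helper1.Form Groth.Agent.Helper1.FibDimVan
open Groth.Agent.Helper1.ZarIso Groth.Agent.Helper1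

universe u

section nat

variable {A : Type u} [CommRing A] {X : Scheme.{u}} [X.Over (Spec (CommRingCat.of A))]

/-- naturality of `H⁰ ≃ Γ` -/
lemma h0Equiv_HHlin {M N : X.Modules} (φ : M ⟶ N) (x : Coh.HH X M 0) :
    Groth.Agent.Lead.ProperFinA.h0Equiv N (Canon.HHlin A φ 0 x) =
      φ.app ⊤ (Groth.Agent.Lead.ProperFinA.h0Equiv M x) :=
  (Sheaf.H.equiv₀_naturality (isTerminalTop (α := TopologicalSpace.Opens X))
    ((SheafOfModules.toSheaf X.ringCatSheaf).map φ) x).symm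

end nat

variable (B : Type u) [CommRing B] [IsLocalRing B] {X₁ : Scheme.{u}}
  [X₁.Over (Spec (CommRingCat.of B))]

lemma isClosed_closedFibre : IsClosed (closedFibre B (X₁ := X₁)) :=
  (isClosed_singleton_closedPoint B).preimage (X₁ ↘ Spec (CommRingCat.of B)).continuous

/-- `O/m^{k+1}O` is supported on the closed fibre -/
lemma suppIn_modPow (k : ℕ) :
    SuppIn (Coh.toAb (Formal.modPow (maximalIdeal B) (k + 1) (Coh.structureModule X₁)))
      (closedFibre B (X₁ := X₁)) :=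
  suppIn_of_killedBy B _ (k + 1)
    (isQuot_modPowπ (maximalIdeal B) (k + 1) (Coh.structureModule X₁)).killedBy

lemma trLE_piOne {n k : ℕ} (h : n ≤ k) :
    (FF.trLE (maximalIdeal B) (Coh.structureModule X₁) h).app ⊤ (piOne B (X₁ := X₁) k) =
      piOne B (X₁ := X₁) n := by
  have := FF.modPowπ_trLE (maximalIdeal B) (Coh.structureModule X₁) h
  exact congrArg (fun φ => φ.app ⊤ (one X₁)) this

theorem isPreconnected_closedFibre [IsNoetherianRing B]
    [IsProper (X₁ ↘ Spec (CommRingCat.of B))]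
    (hloc : ∀ t : Γ(X₁, ⊤), IsUnit t ∨ IsUnit (1 - t)) :
    _root_.IsPreconnected (closedFibre B (X₁ := X₁)) := by
  rw [isPreconnected_closed_iff]
  intro T T' hT hT' hsub hne hne'
  by_contra hcon
  have hCF := isClosed_closedFibre B (X₁ := X₁)
  set CF := closedFibre B (X₁ := X₁) with hCFdef
  set Z₁ : Set X₁ := CF ∩ T with hZ₁
  set Z₂ : Set X₁ := CF ∩ T' with hZ₂
  have h₁ : IsClosed Z₁ := hCF.inter hT
  have h₂ : IsClosed Z₂ := hCF.inter hT'
  have hd : Disjoint Z₁ Z₂ := by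
    rw [Set.disjoint_left]
    rintro x ⟨hx, hxT⟩ ⟨-, hxT'⟩
    exact hcon ⟨x, hx, hxT, hxT'⟩
  have hU : Z₁ ∪ Z₂ = CF := by
    ext x
    constructor
    · rintro (⟨hx, -⟩ | ⟨hx, -⟩) <;> exact hx
    · intro hx
      rcases hsub hx with h | h
      · exact Or.inl ⟨hx, h⟩
      · exact Or.inr ⟨hx, h⟩
  let W₁ : X₁.Opens := ⟨Z₂ᶜ, h₂.isOpen_compl⟩
  let W₂ : X₁.Opens := ⟨Z₁ᶜ, h₁.isOpen_compl⟩
  have hUV : ∀ x : X₁, x ∈ W₁ ∨ x ∈ W₂ := by
    intro x
    by_cases hx : x ∈ Z₂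
    · right
      exact fun hx1 => Set.disjoint_left.mp hd hx1 hx
    · left
      exact hx
  let m := maximalIdeal B
  let O := Coh.structureModule X₁
  let N : ℕ → X₁.Modules := fun k => Formal.modPow m (k + 1) O
  have hS : ∀ k, SuppIn (Coh.toAb (N k)) (Z₁ ∪ Z₂) := by
    intro k
    rw [hU]
    exact suppIn_modPow B k
  obtain ⟨c, hc⟩ := FF.range_trH (I := m) O 0 (Dev.isCoh_structureModule X₁)
  obtain ⟨sc, hsc1, hsc2⟩ := exists_cutoff (N c) Z₁ Z₂ h₁ h₂ hd (hS c) (piOne B (X₁ := X₁) c)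
  obtain ⟨s0, hs01, hs02⟩ := exists_cutoff (N 0) Z₁ Z₂ h₁ h₂ hd (hS 0) (piOne B (X₁ := X₁) 0)
  let τ : N c ⟶ N 0 := FF.trLE m O (Nat.zero_le c)
  have hτ : τ.app ⊤ sc = s0 := by
    apply eq_of_res_eq (N 0) hUV
    · rw [← app_res, hsc1, app_res, hs01]
      congr 1
      exact trLE_piOne B (Nat.zero_le c)
    · rw [← app_res, hsc2, map_zero, hs02]
  -- lift to `H⁰(O)`
  let xc : Coh.HH X₁ (N c) 0 := (Groth.Agent.Lead.ProperFinA.h0Equiv (N c)).symm sc
  have hmem : FF.trH m O 0 (Nat.zero_le c) xc ∈ LinearMap.range (FF.θH m O 0 0) := by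
    rw [← hc 0 c (Nat.zero_le c) (by omega)]
    exact ⟨xc, rfl⟩
  obtain ⟨tH, htH⟩ := hmem
  let t : Γ(O, ⊤) := Groth.Agent.Lead.ProperFinA.h0Equiv O tH
  have ht : (Formal.modPowπ m (0 + 1) O).app ⊤ t = s0 := by
    have h1 := h0Equiv_HHlin (A := B) (Formal.modPowπ m (0 + 1) O) tH
    have h2 := h0Equiv_HHlin (A := B) τ xc
    have h3 : Canon.HHlin B (Formal.modPowπ m (0 + 1) O) 0 tH = Canon.HHlin B τ 0 xc := htH
    rw [h3, h2] at h1
    rw [← h1]
    show τ.app ⊤ ((Groth.Agent.Lead.ProperFinA.h0Equiv (N c))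
      ((Groth.Agent.Lead.ProperFinA.h0Equiv (N c)).symm sc)) = s0
    rw [AddEquiv.apply_symm_apply]
    exact hτ
  -- the two cases
  have key : ∀ (u v : Γ(X₁, ⊤)), u * v = 1 → ∀ (W : X₁.Opens),
      res (N 0) (le_top : W ≤ ⊤) ((Formal.modPowπ m (0 + 1) O).app ⊤
        (show Γ(O, ⊤) from v)) = 0 →
      res (N 0) (le_top : W ≤ ⊤) (piOne B (X₁ := X₁) 0) = 0 := by
    intro u v huv W hW
    have h1 : piOne B (X₁ := X₁) 0 = u • (Formal.modPowπ m (0 + 1) O).app ⊤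
        (show Γ(O, ⊤) from v) := by
      have e : one X₁ = u • (show Γ(O, ⊤) from v) := huv.symm
      show (Formal.modPowπ m (0 + 1) O).app ⊤ (one X₁) = _
      rw [e, Scheme.Modules.Hom.app_smul]
    rw [h1]
    have h2 := Scheme.Modules.map_smul (N 0) (homOfLE (le_top : W ≤ ⊤)) u
      ((Formal.modPowπ m (0 + 1) O).app ⊤ (show Γ(O, ⊤) from v))
    refine h2.trans ?_
    have hW' : (N 0).presheaf.map (homOfLE (le_top : W ≤ ⊤)).op
        ((Formal.modPowπ m (0 + 1) O).app ⊤ (show Γ(O, ⊤) from v)) = 0 := hW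
    rw [hW', smul_zero]
  let t' : Γ(X₁, ⊤) := t
  let t'' : Γ(X₁, ⊤) := 1 - t'
  rcases hloc t' with hu | hu
  · obtain ⟨u, hu⟩ := hu.exists_left_inv
    have h1 := key u t' hu W₂ (by
      show res (N 0) (le_top : W₂ ≤ ⊤) ((Formal.modPowπ m (0 + 1) O).app ⊤ t) = 0
      rw [ht]
      exact hs02)
    have h2 := disjoint_closedFibre_of_res_piOne_eq_zero B W₂ h1
    obtain ⟨x, hx, hxT'⟩ := hne'
    exact Set.disjoint_left.mp h2 (fun hx1 : x ∈ Z₁ => Set.disjoint_left.mp hd hx1 ⟨hx, hxT'⟩) hx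
  · obtain ⟨u, hu⟩ := hu.exists_left_inv
    have h1 := key u t'' hu W₁ (by
      have e : (Formal.modPowπ m (0 + 1) O).app ⊤
          (show Γ(O, ⊤) from t'') =
          piOne B (X₁ := X₁) 0 - s0 := by
        rw [← ht]
        exact map_sub ((Formal.modPowπ m (0 + 1) O).app ⊤).hom (one X₁) t
      rw [e, map_sub, hs01, sub_self])
    have h2 := disjoint_closedFibre_of_res_piOne_eq_zero B W₁ h1
    obtain ⟨x, hx, hxT⟩ := hne
    exact Set.disjoint_left.mp h2 (fun hx2 : x ∈ Z₂ => Set.disjoint_left.mp hd ⟨hx, hxT⟩ hx2) hx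

end Groth.Agent.Helper1.ZCon
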