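import Mathlib
import Groth.Agent.Helper1.Lef1
import Groth.Agent.Helper1.ZCon3
import Groth.Agent.Helper4.AffineDict

set_option autoImplicit false
set_option linter.unusedSectionVars false
set_option linter.style.haveILetI false

/-!
# HypCoh1: linear algebra of exact sequences and injectivity on `H⁰`
-/

namespace Groth.Agent.Helper1.HypCoh

open CategoryTheory Limits AlgebraicGeometry Opposite TopologicalSpace

universe u v

section linalg

variable {K : Type*} [Field K] {A B C D E : Type*}
  [AddCommGroup A] [Module K A] [AddCommGroup B] [Module K B] [AddCommGroup C] [Module K C]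
  [AddCommGroup D] [Module K D] [AddCommGroup E] [Module K E]

/-- the middle term of an exact sequence of finite-dimensional spaces is finite-dimensional -/
theorem finite_of_exact [Module.Finite K B] [Module.Finite K D] (b : B →ₗ[K] C) (c : C →ₗ[K] D)
    (hbc : Function.Exact b c) : Module.Finite K C := by
  have h1 : Module.Finite K (LinearMap.range c) := inferInstance
  have h2 : Module.Finite K (LinearMap.ker c) := by
    rw [LinearMap.exact_iff.1 hbc]
    exact Module.Finite.range b
  haveI : Module.Finite K (C ⧸ LinearMap.ker c) := Module.Finite.equiv (c.quotKerEquivRange).symm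
  exact Module.Finite.of_submodule_quotient (LinearMap.ker c)

/-- dimension count in a six-term exact sequence `0 → A → B → C → D → E → 0` -/
theorem finrank_six [Module.Finite K A] [Module.Finite K B] [Module.Finite K D]
    [Module.Finite K E]
    (a : A →ₗ[K] B) (b : B →ₗ[K] C) (c : C →ₗ[K] D) (d : D →ₗ[K] E)
    (ha : Function.Injective a) (hab : Function.Exact a b) (hbc : Function.Exact b c)
    (hcd : Function.Exact c d) (hd : Function.Surjective d) :
    Module.finrank K C + Module.finrank K A + Module.finrank K E =
      Module.finrank K B + Module.finrank K D := by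
  haveI := finite_of_exact b c hbc
  have h1 := LinearMap.finrank_range_add_finrank_ker c
  have h2 := LinearMap.finrank_range_add_finrank_ker b
  have h3 := LinearMap.finrank_range_add_finrank_ker d
  have h4 := LinearMap.finrank_range_add_finrank_ker a
  have e1 : LinearMap.ker c = LinearMap.range b := LinearMap.exact_iff.1 hbc
  have e2 : LinearMap.ker b = LinearMap.range a := LinearMap.exact_iff.1 hab
  have e3 : LinearMap.ker d = LinearMap.range c := LinearMap.exact_iff.1 hcd
  have e4 : Module.finrank K (LinearMap.ker a) = 0 := by
    rw [LinearMap.ker_eq_bot.2 ha]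
    exact finrank_bot K A
  have e5 : Module.finrank K (LinearMap.range d) = Module.finrank K E := by
    rw [LinearMap.range_eq_top.2 hd]
    exact finrank_top K E
  rw [e1] at h1
  rw [e2] at h2
  rw [e3] at h3
  omega

end linalg

section H0

variable (A : Type u) [CommRing A] {X : Scheme.{u}} [X.Over (Spec (CommRingCat.of A))]

/-- `H⁰` preserves monomorphisms -/
theorem injective_HHlin_zero {M N : X.Modules} (φ : M ⟶ N) [Mono φ] :
    Function.Injective (Canon.HHlin A φ 0) := by
  intro x y h
  apply (Groth.Agent.Lead.ProperFinA.h0Equiv M).injective
  apply Groth.Agent.Helper4.AffineDict.app_injective_of_mono φ ⊤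
  have hx := Groth.Agent.Helper1.ZCon.h0Equiv_HHlin (A := A) φ x
  have hy := Groth.Agent.Helper1.ZCon.h0Equiv_HHlin (A := A) φ y
  rw [h] at hx
  exact hx.symm.trans hy

end H0

end Groth.Agent.Helper1.HypCoh
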