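import Mathlib
import Groth.Agent.Helper1.HypCoh1
import Groth.Agent.Helper1.ProjMid
import Groth.Agent.Helper1.ProjTop8
import Groth.Agent.Helper1.SerreFin2
import Groth.Agent.Helper6.HomogRank
import Groth.Agent.Helper6.HProj
import Groth.Agent.S0002

set_option autoImplicit false
set_option linter.unusedSectionVars false
set_option linter.style.haveILetI false

/-!
# HypCoh2: the dimensions of the cohomology of `O(m)` on `P^N_F`
-/

namespace Groth.Agent.Helper1.HypCoh

open CategoryTheory Limits AlgebraicGeometry Opposite TopologicalSpace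

universe u

variable (F : Type u) [Field F] (N : ℕ)

local notation "ℙ" => CohB1.ProjSpace N F
local notation "𝕆(" d ")" => Twist.twistProjSpace N F d

theorem finite_HH_of_isCoh (M : (ℙ).Modules) (hM : Coh.IsCoh M) (p : ℕ) :
    Module.Finite F (Coh.HH ℙ M p) := by
  haveI : IsProper (CohB1.ProjSpace.toSpec N F) := Groth.Agent.Helper6.HProj.isProper_toSpec N F
  haveI : IsProper (ℙ ↘ Spec (CommRingCat.of F)) := ‹IsProper (CohB1.ProjSpace.toSpec N F)›
  exact Groth.Agent.S0002.result F ℙ M hM p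

theorem finrank_H0 (hN : 0 < N) (m : ℤ) :
    Module.finrank F (Coh.HH ℙ 𝕆(m) 0) = Nat.choose (m + N).toNat N := by
  rcases lt_or_ge m 0 with hm | hm
  · haveI := Groth.Agent.Helper1.ProjTop.subsingleton_H0 N F m hN hm
    rw [Module.finrank_zero_of_subsingleton, Nat.choose_eq_zero_of_lt]
    omega
  · obtain ⟨dd, rfl⟩ := Int.eq_ofNat_of_zero_le hm
    obtain ⟨e⟩ := Groth.Agent.Helper1.ProjTop.nonempty_H0 N F dd
    rw [e.finrank_eq, Groth.Agent.Helper6.HomogRank.finrank_homogeneousSubmodule]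
    congr 1

theorem finrank_top (hN : 0 < N) (m : ℤ) :
    Module.finrank F (Coh.HH ℙ 𝕆(m) N) = Nat.choose (-m - 1).toNat N := by
  rcases lt_or_ge (-((N : ℤ) + 1)) m with hm | hm
  · haveI := Groth.Agent.Helper1.ProjTop.subsingleton_top N F m hN hm
    rw [Module.finrank_zero_of_subsingleton, Nat.choose_eq_zero_of_lt]
    omega
  · obtain ⟨kk, hkk⟩ := Int.eq_ofNat_of_zero_le (show 0 ≤ -m - 1 - N by omega)
    obtain rfl : m = -((N : ℤ) + 1 + kk) := by omega
    obtain ⟨e⟩ := Groth.Agent.Helper1.ProjTop.nonempty_top N F kk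
    rw [e.finrank_eq, Groth.Agent.Helper6.HomogRank.finrank_homogeneousSubmodule]
    congr 1
    omega

theorem subsingleton_mid (m : ℤ) (p : ℕ) (hp : 1 ≤ p) (hpN : p ≠ N) :
    Subsingleton (Coh.HH ℙ 𝕆(m) p) :=
  Groth.Agent.Helper1.ProjTop.subsingleton_mid N F m p hp hpN

end Groth.Agent.Helper1.HypCoh
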