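import Mathlib
import Groth.Agent.Helper1.HypCoh2
import Groth.Agent.Helper1.PF4
import Groth.Agent.Helper4.GV7
import Groth.Agent.Helper4.SN107
import Groth.Agent.Helper3.ProjNoeth
import Groth.Agent.S10829

set_option autoImplicit false
set_option linter.unusedSectionVars false
set_option linter.style.haveILetI false

/-!
# HypCoh3: vanishing of the top cohomology of modules supported on a proper closed subscheme
of `P^N_F`
-/

namespace Groth.Agent.Helper1.HypCoh

open CategoryTheory Limits AlgebraicGeometry Opposite TopologicalSpace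
open Groth.Agent.Helper4.GV

universe u

/-- in an irreducible space of dimension `≤ N`, proper subsets have dimension `< N` -/
theorem dimLT_of_ne_univ {T : TopCat.{u}} [IrreducibleSpace T] (N : ℕ)
    (hdim : topologicalKrullDim T ≤ (N : WithBot ℕ∞)) (Y : Set T) (hY : Y ≠ Set.univ) :
    DimLT Y N := by
  intro T₀ hT₀
  let top : IrreducibleCloseds T := ⟨Set.univ, IrreducibleSpace.isIrreducible_univ T, isClosed_univ⟩
  have hlt : T₀ < top := by
    refine lt_of_le_of_ne (fun x _ => Set.mem_univ x) (fun h => hY ?_)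
    have h1 : (T₀ : Set T) = Set.univ := congrArg (fun W : IrreducibleCloseds T => (W : Set T)) h
    exact Set.eq_univ_of_univ_subset (h1 ▸ hT₀)
  have h1 := Order.height_add_one_le hlt
  have h2 : (Order.height top : WithBot ℕ∞) ≤ (N : WithBot ℕ∞) :=
    (Order.height_le_krullDim top).trans hdim
  have h3 : Order.height top ≤ (N : ℕ∞) := by exact_mod_cast h2
  have h4 : Order.height T₀ + 1 ≤ (N : ℕ∞) := h1.trans h3
  exact (ENat.add_one_le_iff (ne_top_of_le_ne_top (ENat.coe_ne_top N)
    ((le_self_add).trans h4))).1 h4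

/-- the direct image of a module is supported on the range of the morphism -/
theorem suppIn_pushforward {X P : Scheme.{u}} (ι : X ⟶ P) (G : X.Modules) :
    SuppIn (Coh.toAb ((Scheme.Modules.pushforward ι).obj G)) (Set.range ι.base) := by
  intro W hW s
  refine TopCat.Presheaf.section_ext
    (⟨G.presheaf, G.isSheaf⟩ : TopCat.Sheaf Ab X.toTopCat) (ι ⁻¹ᵁ W) s 0 (fun y hy => ?_)
  exact (Set.disjoint_left.mp hW hy ⟨y, rfl⟩).elim

variable (F : Type u) [Field F] (N : ℕ)

local notation "ℙ" => CohB1.ProjSpace N F
local notation "𝕆(" d ")" => Twist.twistProjSpace N F d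

/-- **the cohomology of `O_X(n)` vanishes in degrees `≥ N` for a proper closed subscheme `X` of
`P^N`** -/
theorem subsingleton_HH_quot_twist (I : (ℙ).IdealSheafData) (hI : I ≠ ⊥) (n : ℤ) (p : ℕ)
    (hp : N ≤ p) :
    Subsingleton (Coh.HH ℙ (CohB1.tensorMod (ClSub.quotMod I) 𝕆(n)) p) := by
  haveI : IsNoetherian ℙ := Groth.Agent.Helper3.ProjNoeth.main (CohB1.polyGrading N F)
  haveI hNS : NoetherianSpace ℙ := inferInstance
  haveI : NoetherianSpace ↑(ℙ).toTopCat := hNS
  haveI : IsIntegral ℙ := inferInstance
  haveI hirr : IrreducibleSpace ℙ := inferInstance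
  haveI : IrreducibleSpace ↑(ℙ).toTopCat := hirr
  have hinv : PicF.IsInvertible 𝕆(n) := Groth.Agent.Helper1.SerreVan.isInvertible_twist N F n
  let e := Groth.Agent.Helper1.PF.projIso I.subschemeι (Coh.structureModule I.subscheme) 𝕆(n) hinv
  refine (Groth.Agent.Helper1.ProjTop.HHlinEquiv F e p).toEquiv.subsingleton_congr.2 ?_
  have hne : Set.range I.subschemeι.base ≠ Set.univ := by
    rw [Scheme.IdealSheafData.range_subschemeι]
    intro h
    apply hI
    rw [← Scheme.IdealSheafData.support_eq_top_iff]
    exact TopologicalSpace.Closeds.ext h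
  have hcl : IsClosed (Set.range I.subschemeι.base) := I.subschemeι.isClosedEmbedding.isClosed_range
  exact main_aux (X := (ℙ).toTopCat) ⟨Set.range I.subschemeι.base, hcl⟩ N
    (dimLT_of_ne_univ N (le_of_eq (Groth.Agent.S10829.result F N)) _ hne) _
    (suppIn_pushforward I.subschemeι _) p hp

end Groth.Agent.Helper1.HypCoh
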