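import Mathlib
import Groth.Agent.Helper1.HypCoh3
import Groth.Agent.Helper1.KzExt2
import Groth.Agent.Helper1.IdealMul1
import Groth.Agent.Helper4.SN35
import Groth.Agent.Lead.ResPropD

set_option autoImplicit false
set_option linter.unusedSectionVars false
set_option linter.style.haveILetI false

/-!
# HypCoh4: the cohomology of `O_X(n)` for a hypersurface `X ⊆ P^N_F`
-/

namespace Groth.Agent.Helper1.HypCoh

open CategoryTheory Limits AlgebraicGeometry Opposite TopologicalSpace
open Groth.Agent.Helper1.Lef Groth.Agent.Helper1.HHLes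

universe u

/-- the ideal module of the zero ideal vanishes -/
theorem isZero_idealMod_bot {X : Scheme.{u}} : IsZero (ClSub.idealMod (⊥ : X.IdealSheafData)) := by
  rw [IsZero.iff_id_eq_zero]
  apply Groth.Agent.Lead.ResProp.eq_zero_of_app_affine
  intro U s
  have hs : s = 0 := by
    apply Groth.Agent.Helper1.IdealMul.val_injective (⊥ : X.IdealSheafData) U.1
    have h := Groth.Agent.Helper1.IdealMul.val_mem (⊥ : X.IdealSheafData) U s
    rw [Scheme.IdealSheafData.ideal_bot, Pi.bot_apply, Ideal.mem_bot] at h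
    exact h.trans (Groth.Agent.Helper1.IdealMul.val_zero _ _).symm
  rw [hs]
  exact map_zero _

variable (F : Type u) [Field F] (N : ℕ)

local notation "ℙ" => CohB1.ProjSpace N F
local notation "𝕆(" d ")" => Twist.twistProjSpace N F d

variable (I : (CohB1.ProjSpace N F).IdealSheafData) (k : ℤ)
  (e : ClSub.idealMod I ≅ Twist.twistProjSpace N F (-k)) (n : ℤ)

include e in
theorem ne_bot : I ≠ ⊥ := by
  rintro rfl
  haveI : IsIntegral ℙ := inferInstance
  haveI : Nonempty ℙ := inferInstance
  exact Groth.Agent.Helper4.SN.not_isZero_of_isInvertible 𝕆(-k)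
    (Groth.Agent.Helper1.SerreVan.isInvertible_twist N F (-k)) (isZero_idealMod_bot.of_iso e.symm)

/-- `0 → I(n) → O(n) → O_X(n) → 0` -/
noncomputable def T : ShortComplex (ℙ).Modules :=
  (idealSC I).map (DCoh.tensorRightMod 𝕆(n))

theorem T_shortExact : (T F N I n).ShortExact :=
  Groth.Agent.Helper1.TwistExact.shortExact_map_tensorRightMod (idealSC_shortExact I) _
    (Groth.Agent.Helper1.SerreVan.isInvertible_twist N F n)

theorem T_X₃ : (T F N I n).X₃ = CohB1.tensorMod (ClSub.quotMod I) 𝕆(n) := rfl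

include e in
theorem nonempty_iso₁ : Nonempty ((T F N I n).X₁ ≅ 𝕆(n - k)) := by
  obtain ⟨e'⟩ := Groth.Agent.Helper1.TwistMul.nonempty_twist_tensor_twist_iso
    (CohB1.polyGrading N F) (Groth.Agent.Helper1.SerreFin.hcov_poly N F) (-k) n (n - k) (by ring)
  exact ⟨PicGrp.tensorModIso e (Iso.refl _) ≪≫ e'⟩

theorem nonempty_iso₂ : Nonempty ((T F N I n).X₂ ≅ 𝕆(n)) :=
  ⟨Groth.Agent.Helper4.AmpleBasis.unitorL _⟩

end Groth.Agent.Helper1.HypCoh
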