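import Mathlib
import Groth.Agent.Helper1.Hyp7
import Groth.Agent.Helper1.HypCoh4

set_option autoImplicit false
set_option linter.unusedSectionVars false
set_option linter.style.haveILetI false

/-!
# Hyp8: the zero form: `LefPen.hypIdeal 0 = ⊥`, and the cohomology of the subscheme defined by `⊥`
-/

namespace Groth.Agent.Helper1.Hyp

open CategoryTheory AlgebraicGeometry TopologicalSpace Opposite

universe u

variable {r : ℕ} {k : Type u} [Field k]

lemma dehom_zero {d : ℕ} (i : Fin (r + 1)) : LefPen.dehom (0 : LefPen.Form r k d) i = 0 := by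
  unfold LefPen.dehom
  have h : HomogeneousLocalization.Away.mk (CohB1.polyGrading r k) (LefPen.X_mem r k i) d
      ((0 : LefPen.Form r k d) : MvPolynomial (Fin (r + 1)) k)
      (by rw [smul_eq_mul, mul_one]; exact (0 : LefPen.Form r k d).2) = 0 := by
    apply HomogeneousLocalization.val_injective
    rw [HomogeneousLocalization.Away.val_mk, HomogeneousLocalization.val_zero]
    exact Localization.mk_zero _
  rw [h, map_zero]
  rfl

/-- the ideal sheaf of the zero form is zero -/
theorem hypIdeal_zero {d : ℕ} : LefPen.hypIdeal (0 : LefPen.Form r k d) = ⊥ := by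
  rw [eq_bot_iff]
  intro U a ha
  have ha' : a ∈ LefPen.hypFamily (0 : LefPen.Form r k d) U :=
    Scheme.IdealSheafData.ideal_ofIdeals_le (LefPen.hypFamily _) U ha
  refine mem_ideal_of_cover (⊥ : (CohB1.ProjSpace r k).IdealSheafData) U (fun i => UI U i)
    (fun i => inf_le_left) ?_ a ?_
  · intro x hx
    have h1 : x ∈ (⨆ i : Fin (r + 1), LefPen.chart r k i) := by
      rw [show (⨆ i : Fin (r + 1), LefPen.chart r k i) = ⊤ from
        Groth.Agent.Helper1.Segre.iSup_basicOpen_X k r]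
      trivial
    obtain ⟨i, hi⟩ := Opens.mem_iSup.1 h1
    exact Opens.mem_iSup.2 ⟨i, ⟨hx, hi⟩⟩
  · intro i
    have h2 := (Ideal.mem_iInf.1 ha') i
    rw [Ideal.mem_comap, dehom_zero, map_zero, Ideal.span_singleton_zero, Ideal.mem_bot] at h2
    rw [Scheme.IdealSheafData.ideal_bot, Pi.bot_apply, Ideal.mem_bot]
    exact h2

variable {N : ℕ}

/-- `O_P ≅ O_P / 0` -/
theorem nonempty_iso_quotMod_bot {X : Scheme.{u}} :
    Nonempty (Coh.structureModule X ≅ ClSub.quotMod (⊥ : X.IdealSheafData)) := by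
  have hS := Groth.Agent.Helper1.Lef.idealSC_shortExact (⊥ : X.IdealSheafData)
  have hiso : IsIso (Groth.Agent.Helper1.Lef.idealSC (⊥ : X.IdealSheafData)).g :=
    hS.isIso_g_iff.2 Groth.Agent.Helper1.HypCoh.isZero_idealMod_bot
  exact ⟨@asIso _ _ _ _ (Groth.Agent.Helper1.Lef.idealSC (⊥ : X.IdealSheafData)).g hiso⟩

/-- `H^p(X, O_X) ≃ H^p(P, O(0))` for the closed subscheme `X` of `P` defined by `0` -/
theorem nonempty_HH_equiv_bot (I : (CohB1.ProjSpace N k).IdealSheafData) (hI : I = ⊥)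
    [I.subscheme.Over (Spec (CommRingCat.of k))]
    (hinst : I.subscheme ↘ (Spec (CommRingCat.of k)) = I.subschemeι ≫ CohB1.ProjSpace.toSpec N k)
    (p : ℕ) :
    Nonempty (Coh.HH I.subscheme (Coh.structureModule I.subscheme) p ≃ₗ[k]
      Coh.HH (CohB1.ProjSpace N k) (Twist.twistProjSpace N k 0) p) := by
  subst hI
  obtain ⟨σ⟩ := nonempty_HH_equiv (⊥ : (CohB1.ProjSpace N k).IdealSheafData) hinst p
  obtain ⟨e⟩ := nonempty_iso_quotMod_bot (X := CohB1.ProjSpace N k)
  exact ⟨σ.trans (Groth.Agent.Helper1.ProjTop.HHlinEquiv k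
    (PicGrp.tensorModIso e.symm (Iso.refl _) ≪≫ Groth.Agent.Helper4.AmpleBasis.unitorL _) p)⟩

end Groth.Agent.Helper1.Hyp
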