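import Mathlib
import Groth.Agent.Helper1.Hyp8

set_option autoImplicit false
set_option linter.unusedSectionVars false
set_option linter.style.haveILetI false

/-!
# Hyp9: the support of `LefPen.hypIdeal G` is `V_+(G)`; the support of `LefPen.ciIdeal G`
-/

namespace Groth.Agent.Helper1.Hyp

open CategoryTheory AlgebraicGeometry TopologicalSpace Opposite
open Groth.Agent.Helper1.GrT Groth.Agent.Helper1.ProjO Groth.Agent.Helper1.TwistMul

universe u

variable {r : ℕ} {k : Type u} [Field k]

/-- the chart as an affine open -/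
noncomputable abbrev chartA (i : Fin (r + 1)) : (CohB1.ProjSpace r k).affineOpens :=
  ⟨LefPen.chart r k i, Proj.isAffineOpen_basicOpen _ _ (LefPen.X_mem r k i) Nat.one_pos⟩

lemma map_refl {X : Scheme.{u}} (U : X.Opens) (s : Γ(X, U)) :
    (X.presheaf.map (homOfLE (le_refl U)).op).hom s = s := by
  have : (homOfLE (le_refl U)).op = 𝟙 (op U) := rfl
  rw [this, CategoryTheory.Functor.map_id]
  rfl

theorem ideal_ZG_chart {d : ℕ} (G : LefPen.Form r k d) (hG0 : G.1 ≠ 0) (i : Fin (r + 1)) :
    (ZG G).ideal (chartA i) = Ideal.span {LefPen.dehom G i} := by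
  have h := ideal_Z (CohB1.polyGrading r k) (hcov r k) d G.1 G.2 hG0 (MvPolynomial.X i)
    (LefPen.X_mem r k i) (chartA i) le_rfl
  have h2 : fW (CohB1.polyGrading r k) d G.1 G.2 (MvPolynomial.X i) (LefPen.X_mem r k i)
      (chartA (k := k) i).1 le_rfl = LefPen.dehom G i :=
    map_refl (X := Proj (CohB1.polyGrading r k)) _ _
  rw [← h2]
  exact h

theorem basicOpen_dehom {d : ℕ} (G : LefPen.Form r k d) (i : Fin (r + 1)) :
    (CohB1.ProjSpace r k).basicOpen (LefPen.dehom G i) =
      ProjectiveSpectrum.basicOpen (CohB1.polyGrading r k) (G.1 * MvPolynomial.X i) :=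
  basicOpen_eq (CohB1.polyGrading r k) (MvPolynomial.X i) (LefPen.dehom G i) d G.1
    (fun y hy => evO_mkB (CohB1.polyGrading r k) (MvPolynomial.X i) (LefPen.X_mem r k i) d G.1
      (by rw [smul_eq_mul, mul_one]; exact G.2) y hy)

/-- a point of `P^r_k` as a point of the projective spectrum -/
abbrev toPS (x : CohB1.ProjSpace r k) : ProjectiveSpectrum (CohB1.polyGrading r k) := x

/-- **K1** the support of the ideal sheaf of `V_+(G)` -/
theorem mem_support_hypIdeal_iff {d : ℕ} (G : LefPen.Form r k d) (x : CohB1.ProjSpace r k) :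
    x ∈ (LefPen.hypIdeal G).support ↔
      G.1 ∈ (toPS x).asHomogeneousIdeal := by
  by_cases hG0 : G.1 = 0
  · have hG : G = 0 := Subtype.ext hG0
    rw [hG, hypIdeal_zero, Scheme.IdealSheafData.support_bot]
    exact ⟨fun _ => Submodule.zero_mem _, fun _ => trivial⟩
  · have h1 : x ∈ (⨆ i : Fin (r + 1), LefPen.chart r k i) := by
      rw [show (⨆ i : Fin (r + 1), LefPen.chart r k i) = ⊤ from
        Groth.Agent.Helper1.Segre.iSup_basicOpen_X k r]
      trivial
    obtain ⟨i, hi⟩ := Opens.mem_iSup.1 h1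
    rw [hypIdeal_eq G hG0]
    refine (Scheme.IdealSheafData.mem_support_iff_of_mem (I := ZG G) (U := chartA i) hi).trans ?_
    have e1 : (CohB1.ProjSpace r k).zeroLocus (U := (chartA i).1)
        (((ZG G).ideal (chartA i) : Ideal _) : Set _) =
        (CohB1.ProjSpace r k).zeroLocus (U := (chartA i).1) {LefPen.dehom G i} := by
      rw [ideal_ZG_chart G hG0 i]
      exact Scheme.zeroLocus_span _ _
    rw [e1]
    refine (Scheme.mem_zeroLocus_iff _ _ _).trans ?_
    have e2 := basicOpen_dehom G i
    constructor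
    · intro h
      by_contra hGx
      refine h _ rfl ?_
      rw [e2]
      intro hmem
      rcases (toPS x).isPrime.mem_or_mem hmem with h3 | h3
      · exact hGx h3
      · exact hi h3
    · rintro h _ rfl
      rw [e2]
      intro hmem
      exact hmem (Ideal.mul_mem_right _ _ h)

theorem support_hypIdeal {d : ℕ} (G : LefPen.Form r k d) :
    ((LefPen.hypIdeal G).support : Set (CohB1.ProjSpace r k)) =
      ProjectiveSpectrum.zeroLocus (CohB1.polyGrading r k) {G.1} := by
  ext x
  refine (mem_support_hypIdeal_iff G x).trans ?_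
  refine Iff.trans ?_ (ProjectiveSpectrum.mem_zeroLocus _ (toPS x) _).symm
  exact Set.singleton_subset_iff.symm

theorem support_ciIdeal {ι : Type} {a : ι → ℕ} (G : ∀ j, LefPen.Form r k (a j)) :
    ((LefPen.ciIdeal G).support : Set (CohB1.ProjSpace r k)) =
      ProjectiveSpectrum.zeroLocus (CohB1.polyGrading r k)
        (Ideal.span (Set.range fun j => (G j).1) : Set (MvPolynomial (Fin (r + 1)) k)) := by
  rw [ProjectiveSpectrum.zeroLocus_span]
  ext x
  unfold LefPen.ciIdeal
  rw [Scheme.IdealSheafData.support_iSup]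
  refine Iff.trans ?_ (ProjectiveSpectrum.mem_zeroLocus _ (toPS x) _).symm
  simp only [Closeds.coe_iInf, Set.mem_iInter, SetLike.mem_coe]
  constructor
  · rintro h _ ⟨j, rfl⟩
    exact (mem_support_hypIdeal_iff (G j) x).1 (h j)
  · intro h j
    exact (mem_support_hypIdeal_iff (G j) x).2 (h ⟨j, rfl⟩)

end Groth.Agent.Helper1.Hyp
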