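import Mathlib
import Groth.Agent.Helper1.Hyp9
import Groth.Agent.Helper1.CIReg3
import Groth.Agent.Helper1.CIReg4

set_option autoImplicit false
set_option linter.unusedSectionVars false
set_option linter.style.haveILetI false

/-!
# CIReg5: regularity of dehomogenized forms on the standard charts, and
`I_G ⊓ J = I_G * J` for a complete intersection
-/

namespace Groth.Agent.Helper1.CIReg

open CategoryTheory AlgebraicGeometry TopologicalSpace Opposite HomogeneousLocalization
open Groth.Agent.Helper1.Hyp

universe u

variable {n : ℕ} {k : Type u} [Field k]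

/-- the ideal of a hypersurface on a standard chart -/
theorem ideal_hypIdeal_chart {d : ℕ} (G : LefPen.Form n k d) (i : Fin (n + 1)) :
    (LefPen.hypIdeal G).ideal (chartA i) = Ideal.span {LefPen.dehom G i} := by
  by_cases hG0 : G.1 = 0
  · have hG : G = 0 := Subtype.ext hG0
    subst hG
    rw [hypIdeal_zero, dehom_zero, Scheme.IdealSheafData.ideal_bot]
    simp
  · rw [hypIdeal_eq G hG0]
    exact ideal_ZG_chart G hG0 i

/-- the ring isomorphism between the degree zero localization and the sections on a chart -/
noncomputable def chartEquiv (i : Fin (n + 1)) :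
    Away (CohB1.polyGrading n k) (MvPolynomial.X i : MvPolynomial (Fin (n + 1)) k) ≃+*
      Γ(CohB1.ProjSpace n k, LefPen.chart n k i) :=
  (Proj.basicOpenIsoAway (CohB1.polyGrading n k) (MvPolynomial.X i) (LefPen.X_mem n k i)
    Nat.one_pos).commRingCatIsoToRingEquiv

lemma chartEquiv_mk (i : Fin (n + 1)) {d : ℕ} (G : LefPen.Form n k d) :
    chartEquiv i (Away.mk (CohB1.polyGrading n k) (LefPen.X_mem n k i) d G.1
      (by rw [smul_eq_mul, mul_one]; exact G.2)) = LefPen.dehom G i := rfl

/-- regularity on a chart -/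
theorem dehom_mul_mem {ι : Type*} [Fintype ι] (a : ι → ℕ) (g : ∀ l, LefPen.Form n k (a l))
    {d : ℕ} (F : LefPen.Form n k d)
    (hcore : ∀ x, F.1 * x ∈ Ideal.span (Set.range fun l => (g l).1) →
      x ∈ Ideal.span (Set.range fun l => (g l).1))
    (i : Fin (n + 1)) (y : Γ(CohB1.ProjSpace n k, LefPen.chart n k i))
    (hy : LefPen.dehom F i * y ∈ Ideal.span (Set.range fun l => LefPen.dehom (g l) i)) :
    y ∈ Ideal.span (Set.range fun l => LefPen.dehom (g l) i) := by
  set e := chartEquiv (n := n) (k := k) i with he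
  have hspan : Ideal.span (Set.range fun l => LefPen.dehom (g l) i) =
      Ideal.map e (Ideal.span (Set.range fun l =>
        Away.mk (CohB1.polyGrading n k) (LefPen.X_mem n k i) (a l) (g l).1
          (by rw [smul_eq_mul, mul_one]; exact (g l).2))) := by
    rw [Ideal.map_span]
    congr 1
    ext s
    simp only [Set.mem_range, Set.mem_image, exists_exists_eq_and]
    rfl
  rw [hspan] at hy ⊢
  rw [Ideal.mem_map_of_equiv] at hy ⊢
  obtain ⟨w, hw, hwy⟩ := hy
  refine ⟨e.symm y, ?_, e.apply_symm_apply y⟩
  apply mem_span_of_mk_mul_mem (CohB1.polyGrading n k) (LefPen.X_mem n k i)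
    (fun l => (g l).1) a (fun l => by rw [smul_eq_mul, mul_one]; exact (g l).2) d F.1
    (by rw [smul_eq_mul, mul_one]; exact F.2) hcore
  have h1 : w = Away.mk (CohB1.polyGrading n k) (LefPen.X_mem n k i) d F.1
      (by rw [smul_eq_mul, mul_one]; exact F.2) * e.symm y := by
    apply e.injective
    rw [hwy, map_mul, e.apply_symm_apply]
    rfl
  rw [← h1]
  exact hw

end Groth.Agent.Helper1.CIReg
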