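import Mathlib
import Groth.Agent.Helper1.CIReg5

set_option autoImplicit false
set_option linter.unusedSectionVars false
set_option linter.style.haveILetI false

/-!
# CIReg6: the partial ideals `J_j = (G_0, …, G_{j-1})` of a complete intersection and
`I_{G_j} ⊓ J_j = I_{G_j} * J_j`
-/

namespace Groth.Agent.Helper1.CIReg

open CategoryTheory AlgebraicGeometry TopologicalSpace Opposite HomogeneousLocalization
open Groth.Agent.Helper1.Hyp

universe u

variable {n : ℕ} {k : Type u} [Field k]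

/-- the partial ideal generated by the first `j` forms -/
noncomputable def Jp {r : ℕ} {a : Fin r → ℕ} (G : ∀ j : Fin r, LefPen.Form n k (a j)) (j : ℕ)
    (hj : j ≤ r) : (CohB1.ProjSpace n k).IdealSheafData :=
  ⨆ l : Fin j, LefPen.hypIdeal (G (Fin.castLE hj l))

variable {r : ℕ} {a : Fin r → ℕ} (G : ∀ j : Fin r, LefPen.Form n k (a j))

lemma Jp_zero : Jp G 0 (Nat.zero_le r) = ⊥ := by
  unfold Jp
  rw [iSup_of_empty]

lemma Jp_succ (j : ℕ) (hj : j + 1 ≤ r) :
    Jp G (j + 1) hj = Jp G j (Nat.le_of_succ_le hj) ⊔ LefPen.hypIdeal (G ⟨j, hj⟩) := by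
  unfold Jp
  apply le_antisymm
  · refine iSup_le (fun l => ?_)
    refine Fin.lastCases ?_ (fun l' => ?_) l
    · exact le_sup_right
    · exact le_sup_of_le_left (le_iSup (fun l : Fin j =>
        LefPen.hypIdeal (G (Fin.castLE (Nat.le_of_succ_le hj) l))) l')
  · refine sup_le (iSup_le (fun l => ?_)) ?_
    · exact le_iSup (fun l : Fin (j + 1) => LefPen.hypIdeal (G (Fin.castLE hj l))) l.castSucc
    · exact le_iSup (fun l : Fin (j + 1) => LefPen.hypIdeal (G (Fin.castLE hj l))) (Fin.last j)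

lemma Jp_last : Jp G r le_rfl = LefPen.ciIdeal G := rfl

theorem ideal_Jp_chart (j : ℕ) (hj : j ≤ r) (i : Fin (n + 1)) :
    (Jp G j hj).ideal (chartA i) =
      Ideal.span (Set.range fun l : Fin j => LefPen.dehom (G (Fin.castLE hj l)) i) := by
  unfold Jp
  rw [Scheme.IdealSheafData.ideal_iSup, iSup_apply]
  simp only [ideal_hypIdeal_chart]
  rw [← Ideal.span_iUnion]
  congr 1
  ext s
  simp

/-- the height bound from the dimension hypothesis -/
theorem le_height_of_hdim (hr : r ≤ n)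
    (hdim : topologicalKrullDim ↥(LefPen.ciIdeal G).subscheme ≤ ((n - r : ℕ) : WithBot ℕ∞)) :
    (r : ℕ∞) ≤ (Ideal.span (Set.range fun j => (G j).1)).height := by
  apply le_height_of_dim r hr
  · exact isHomogeneous_span_range _ a (fun j => (MvPolynomial.mem_homogeneousSubmodule _ _).1 (G j).2)
  · have h := support_ciIdeal G
    have hdim' : topologicalKrullDim ↥((LefPen.ciIdeal G).support : Set (CohB1.ProjSpace n k)) ≤
        ((n - r : ℕ) : WithBot ℕ∞) := hdim
    rw [h] at hdim'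
    exact hdim'

/-- **regularity**: `I_{G_j} ⊓ J_j ≤ I_{G_j} * J_j` -/
theorem inf_le_mul (hr : r ≤ n) (ha : ∀ j, 1 ≤ a j)
    (hdim : topologicalKrullDim ↥(LefPen.ciIdeal G).subscheme ≤ ((n - r : ℕ) : WithBot ℕ∞))
    (j : Fin r) :
    LefPen.hypIdeal (G j) ⊓ Jp G j j.2.le ≤ LefPen.hypIdeal (G j) * Jp G j j.2.le := by
  have hJ := le_height_of_hdim G hr hdim
  refine Scheme.IdealSheafData.le_of_iSup_eq_top (X := CohB1.ProjSpace n k)
    (I := LefPen.hypIdeal (G j) ⊓ Jp G j j.2.le) (J := LefPen.hypIdeal (G j) * Jp G j j.2.le)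
    (fun i : Fin (n + 1) => chartA (k := k) i)
    (Groth.Agent.Helper1.Segre.iSup_basicOpen_X k n) ?_
  intro i
  have e1 : (LefPen.hypIdeal (G j) ⊓ Jp G j j.2.le).ideal (chartA i) =
      Ideal.span {LefPen.dehom (G j) i} ⊓
        Ideal.span (Set.range fun l : Fin j => LefPen.dehom (G (Fin.castLE j.2.le l)) i) := by
    rw [← ideal_Jp_chart, ← ideal_hypIdeal_chart]
    rfl
  have e2 : (LefPen.hypIdeal (G j) * Jp G j j.2.le).ideal (chartA i) =
      Ideal.span {LefPen.dehom (G j) i} *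
        Ideal.span (Set.range fun l : Fin j => LefPen.dehom (G (Fin.castLE j.2.le l)) i) := by
    rw [← ideal_Jp_chart, ← ideal_hypIdeal_chart]
    rfl
  rw [e1, e2]
  intro s hs
  obtain ⟨hs1, hs2⟩ := hs
  obtain ⟨y, rfl⟩ := Ideal.mem_span_singleton'.1 hs1
  have hs2' : LefPen.dehom (G j) i * y ∈
      Ideal.span (Set.range fun l : Fin j => LefPen.dehom (G (Fin.castLE j.2.le l)) i) := by
    rw [mul_comm (LefPen.dehom (G j) i) y]
    exact hs2
  rw [mul_comm y (LefPen.dehom (G j) i)]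
  refine Ideal.mul_mem_mul (Ideal.mem_span_singleton_self _) ?_
  refine dehom_mul_mem (fun l : Fin j => a (Fin.castLE j.2.le l))
    (fun l : Fin j => G (Fin.castLE j.2.le l)) (G j) ?_ i y hs2'
  intro x hx
  exact mem_of_mul_mem r (fun j => (G j).1) a
    (fun j => (MvPolynomial.mem_homogeneousSubmodule _ _).1 (G j).2) ha hJ j x hx

end Groth.Agent.Helper1.CIReg
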