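import Mathlib
import Groth.Agent.Helper1.HypCoh4
import Groth.Agent.Helper1.HHLes3

set_option autoImplicit false
set_option linter.unusedSectionVars false
set_option linter.style.haveILetI false

/-!
# HypCoh5: counting the cohomology of `O_X(n)` for a hypersurface `X ⊆ P^N_F`
-/

namespace Groth.Agent.Helper1.HypCoh

open CategoryTheory Limits AlgebraicGeometry Opposite TopologicalSpace
open Groth.Agent.Helper1.Lef Groth.Agent.Helper1.HHLes Groth.Agent.Helper1.ProjTop

universe u

variable (F : Type u) [Field F] (N : ℕ)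

local notation "ℙ" => CohB1.ProjSpace N F
local notation "𝕆(" d ")" => Twist.twistProjSpace N F d

variable (I : (CohB1.ProjSpace N F).IdealSheafData) (k : ℤ)
  (e : ClSub.idealMod I ≅ Twist.twistProjSpace N F (-k)) (n : ℤ)

theorem finite_twist (m : ℤ) (p : ℕ) : Module.Finite F (Coh.HH ℙ 𝕆(m) p) :=
  finite_HH_of_isCoh F N _ (Groth.Agent.Helper1.SerreFin.isCoh_twist N F m) p

include e in
theorem finite_X₁ (p : ℕ) : Module.Finite F (Coh.HH ℙ (T F N I n).X₁ p) := by
  obtain ⟨e₁⟩ := nonempty_iso₁ F N I k e n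
  haveI := finite_twist F N (n - k) p
  exact Module.Finite.equiv (HHlinEquiv F e₁ p).symm

theorem finite_X₂ (p : ℕ) : Module.Finite F (Coh.HH ℙ (T F N I n).X₂ p) := by
  obtain ⟨e₂⟩ := nonempty_iso₂ F N I n
  haveI := finite_twist F N n p
  exact Module.Finite.equiv (HHlinEquiv F e₂ p).symm

include e in
theorem subsingleton_X₁ (p : ℕ) (hp : 1 ≤ p) (hpN : p ≠ N) :
    Subsingleton (Coh.HH ℙ (T F N I n).X₁ p) := by
  obtain ⟨e₁⟩ := nonempty_iso₁ F N I k e n
  haveI := subsingleton_mid F N (n - k) p hp hpN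
  exact (HHlinEquiv F e₁ p).toEquiv.subsingleton

theorem subsingleton_X₂ (p : ℕ) (hp : 1 ≤ p) (hpN : p ≠ N) :
    Subsingleton (Coh.HH ℙ (T F N I n).X₂ p) := by
  obtain ⟨e₂⟩ := nonempty_iso₂ F N I n
  haveI := subsingleton_mid F N n p hp hpN
  exact (HHlinEquiv F e₂ p).toEquiv.subsingleton

include e in
theorem subsingleton_X₃ (p : ℕ) (hp : N ≤ p) : Subsingleton (Coh.HH ℙ (T F N I n).X₃ p) :=
  subsingleton_HH_quot_twist F N I (ne_bot F N I k e) n p hp

include e in
/-- vanishing in the middle range -/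
theorem subsingleton_X₃_mid (p : ℕ) (hp : 1 ≤ p) (hpN : p ≠ N) (hpN' : p + 1 ≠ N) :
    Subsingleton (Coh.HH ℙ (T F N I n).X₃ p) := by
  haveI := subsingleton_X₂ F N I n p hp hpN
  haveI := subsingleton_X₁ F N I k e n (p + 1) (by omega) hpN'
  refine ⟨fun x y => ?_⟩
  have key : ∀ z : Coh.HH ℙ (T F N I n).X₃ p, z = 0 := by
    intro z
    obtain ⟨w, hw⟩ := (exact_g_δ F (T F N I n) (T_shortExact F N I n) p z).1
      (Subsingleton.elim _ _)
    rw [← hw, Subsingleton.elim w 0, map_zero]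
  rw [key x, key y]

include e in
theorem finrank_X₁_zero (hN : 0 < N) :
    Module.finrank F (Coh.HH ℙ (T F N I n).X₁ 0) = Nat.choose (n - k + N).toNat N := by
  obtain ⟨e₁⟩ := nonempty_iso₁ F N I k e n
  rw [(HHlinEquiv F e₁ 0).finrank_eq, finrank_H0 F N hN]

theorem finrank_X₂_zero (hN : 0 < N) :
    Module.finrank F (Coh.HH ℙ (T F N I n).X₂ 0) = Nat.choose (n + N).toNat N := by
  obtain ⟨e₂⟩ := nonempty_iso₂ F N I n
  rw [(HHlinEquiv F e₂ 0).finrank_eq, finrank_H0 F N hN]

include e in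
theorem finrank_X₁_top (hN : 0 < N) :
    Module.finrank F (Coh.HH ℙ (T F N I n).X₁ N) = Nat.choose (k - n - 1).toNat N := by
  obtain ⟨e₁⟩ := nonempty_iso₁ F N I k e n
  rw [(HHlinEquiv F e₁ N).finrank_eq, finrank_top F N hN]
  congr 2
  ring

theorem finrank_X₂_top (hN : 0 < N) :
    Module.finrank F (Coh.HH ℙ (T F N I n).X₂ N) = Nat.choose (-n - 1).toNat N := by
  obtain ⟨e₂⟩ := nonempty_iso₂ F N I n
  rw [(HHlinEquiv F e₂ N).finrank_eq, finrank_top F N hN]

include e in
/-- the six-term count in degree `p`, given injectivity on the left and surjectivity on the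
right -/
theorem count (p : ℕ)
    (hinj : Function.Injective (Canon.HHlin F (T F N I n).f p))
    (hsurj : Function.Surjective (Canon.HHlin F (T F N I n).f (p + 1))) :
    Module.Finite F (Coh.HH ℙ (T F N I n).X₃ p) ∧
    Module.finrank F (Coh.HH ℙ (T F N I n).X₃ p) +
        Module.finrank F (Coh.HH ℙ (T F N I n).X₁ p) +
        Module.finrank F (Coh.HH ℙ (T F N I n).X₂ (p + 1)) =
      Module.finrank F (Coh.HH ℙ (T F N I n).X₂ p) +
        Module.finrank F (Coh.HH ℙ (T F N I n).X₁ (p + 1)) := by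
  have hT := T_shortExact F N I n
  haveI := finite_X₁ F N I k e n p
  haveI := finite_X₁ F N I k e n (p + 1)
  haveI := finite_X₂ F N I n p
  haveI := finite_X₂ F N I n (p + 1)
  exact ⟨finite_of_exact _ _ (exact_g_δ F (T F N I n) hT p),
    finrank_six _ _ _ _ hinj (exact_f_g F (T F N I n) hT p) (exact_g_δ F (T F N I n) hT p)
      (exact_δ_f F (T F N I n) hT p) hsurj⟩

theorem surjective_of_vanishing (p : ℕ)
    (hvan : Subsingleton (Coh.HH ℙ (T F N I n).X₃ (p + 1))) :
    Function.Surjective (Canon.HHlin F (T F N I n).f (p + 1)) := by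
  intro y
  exact (exact_f_g F (T F N I n) (T_shortExact F N I n) (p + 1) y).1 (Subsingleton.elim _ _)

theorem injective_zero : Function.Injective (Canon.HHlin F (T F N I n).f 0) := by
  haveI := (T_shortExact F N I n).mono_f
  exact injective_HHlin_zero F _

end Groth.Agent.Helper1.HypCoh
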