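import Mathlib
import Groth.Agent.Helper1.CIMV1
import Groth.Agent.Helper1.CIReg6
import Groth.Agent.Helper1.IdealMul3
import Groth.Agent.Helper1.Hyp6
import Groth.Agent.Helper1.HypCoh5
import Groth.Agent.Helper1.KzLin3
import Groth.Agent.Helper1.KzChase

set_option autoImplicit false
set_option linter.unusedSectionVars false
set_option linter.style.haveILetI false

/-!
# CIMV2: vanishing of the intermediate cohomology of the twisted ideal sheaves of a complete
intersection in projective space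
-/

namespace Groth.Agent.Helper1.CIMV

open CategoryTheory Limits AlgebraicGeometry TopologicalSpace Opposite
open Groth.Agent.Helper1.HHLes Groth.Agent.Helper1.CIReg Groth.Agent.Helper1.IdealMul

universe u

section general

variable (A : Type u) [CommRing A] {X : Scheme.{u}} [X.Over (Spec (CommRingCat.of A))]

include A in
theorem subsingleton_X₂_of (S : ShortComplex X.Modules) (hS : S.ShortExact) (p : ℕ)
    (h1 : Subsingleton (Coh.HH X S.X₁ p)) (h3 : Subsingleton (Coh.HH X S.X₃ p)) :
    Subsingleton (Coh.HH X S.X₂ p) := by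
  refine ⟨fun x y => ?_⟩
  have key : ∀ z : Coh.HH X S.X₂ p, z = 0 := by
    intro z
    obtain ⟨w, hw⟩ := (exact_f_g A S hS p z).1 (Subsingleton.elim _ _)
    rw [← hw, Subsingleton.elim w 0, map_zero]
  rw [key x, key y]

include A in
theorem subsingleton_X₃_of (S : ShortComplex X.Modules) (hS : S.ShortExact) (p : ℕ)
    (h2 : Subsingleton (Coh.HH X S.X₂ p)) (h1 : Subsingleton (Coh.HH X S.X₁ (p + 1))) :
    Subsingleton (Coh.HH X S.X₃ p) := by
  refine ⟨fun x y => ?_⟩
  have key : ∀ z : Coh.HH X S.X₃ p, z = 0 := by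
    intro z
    obtain ⟨w, hw⟩ := (exact_g_δ A S hS p z).1 (Subsingleton.elim _ _)
    rw [← hw, Subsingleton.elim w 0, map_zero]
  rw [key x, key y]

include A in
theorem subsingleton_of_iso {F G : X.Modules} (e : F ≅ G) (p : ℕ)
    (h : Subsingleton (Coh.HH X G p)) : Subsingleton (Coh.HH X F p) :=
  (Groth.Agent.Helper1.ProjTop.HHlinEquiv A e p).toEquiv.subsingleton

end general

variable (k : Type u) [Field k] (n : ℕ)

local notation "ℙ" => CohB1.ProjSpace n k
local notation "𝕆(" d ")" => Twist.twistProjSpace n k d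

/-- the twist of a biproduct has vanishing cohomology if the twists of both summands do -/
theorem subsingleton_biprod_twist (A B : (ℙ).Modules) (i : ℤ) (p : ℕ)
    (hA : Subsingleton (Coh.HH ℙ (CohB1.tensorMod A 𝕆(i)) p))
    (hB : Subsingleton (Coh.HH ℙ (CohB1.tensorMod B 𝕆(i)) p)) :
    Subsingleton (Coh.HH ℙ (CohB1.tensorMod (A ⊞ B) 𝕆(i)) p) := by
  have hS := Groth.Agent.Helper1.TwistExact.shortExact_map_tensorRightMod
    (ShortComplex.Splitting.ofHasBinaryBiproduct A B).shortExact 𝕆(i)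
    (Groth.Agent.Helper1.SerreVan.isInvertible_twist n k i)
  exact subsingleton_X₂_of k _ hS p hA hB

variable {k n}
variable {r : ℕ} {a : Fin r → ℕ} (G : ∀ j : Fin r, LefPen.Form n k (a j))

/-- the forms of a complete intersection are nonzero -/
theorem form_ne_zero (hr : r ≤ n) (ha : ∀ j, 1 ≤ a j)
    (hdim : topologicalKrullDim ↥(LefPen.ciIdeal G).subscheme ≤ ((n - r : ℕ) : WithBot ℕ∞))
    (j : Fin r) : (G j).1 ≠ 0 := by
  intro h0
  have hJ := le_height_of_hdim G hr hdim
  have h1 := mem_of_mul_mem r (fun j => (G j).1) a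
    (fun j => (MvPolynomial.mem_homogeneousSubmodule _ _).1 (G j).2) ha hJ j 1
    (by rw [h0, zero_mul]; exact zero_mem _)
  have h2 : Ideal.span (Set.range fun l : Fin j => (G (Fin.castLE j.2.le l)).1) ≤ mm k n := by
    rw [Ideal.span_le]
    rintro _ ⟨l, rfl⟩
    exact mem_mm_of_isHomogeneous _ (a (Fin.castLE j.2.le l))
      ((MvPolynomial.mem_homogeneousSubmodule _ _).1 (G (Fin.castLE j.2.le l)).2) (ha _)
  exact (Ideal.ne_top_iff_one (mm k n)).1 (mm_isMaximal k n).ne_top (h2 h1)

theorem isEffCartierIdeal_hypIdeal {d : ℕ} (F : LefPen.Form n k d) (hF : F.1 ≠ 0) :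
    BlowUp.IsEffCartierIdeal (LefPen.hypIdeal F) := by
  obtain ⟨e⟩ := Groth.Agent.Helper1.Hyp.nonempty_idealMod_hypIdeal_iso F hF
  exact Groth.Agent.Lead.IdealModDict.isEffCartierIdeal_of_isInvertible _
    (Groth.Agent.Helper4.AmpleIso.isInvertible_of_iso e.symm
      (Groth.Agent.Helper1.SerreVan.isInvertible_twist n k _))

/-- **the intermediate cohomology of the twisted partial ideal sheaves vanishes** -/
theorem subsingleton_HH_Jp (hr : r ≤ n) (ha : ∀ j, 1 ≤ a j)
    (hdim : topologicalKrullDim ↥(LefPen.ciIdeal G).subscheme ≤ ((n - r : ℕ) : WithBot ℕ∞))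
    (j : ℕ) (hj : j ≤ r) (i : ℤ) (p : ℕ) (hp : 1 ≤ p) (hpj : p + j ≤ n) :
    Subsingleton (Coh.HH ℙ (CohB1.tensorMod (ClSub.idealMod (Jp G j hj)) 𝕆(i)) p) := by
  induction j generalizing i p with
  | zero =>
    apply Groth.Agent.Helper1.KzChase.subsingleton_HH_of_isZero
    have h0 : IsZero (ClSub.idealMod (Jp G 0 hj)) := by
      rw [Jp_zero]
      exact Groth.Agent.Helper1.HypCoh.isZero_idealMod_bot
    exact (DCoh.tensorRightMod 𝕆(i)).map_isZero h0
  | succ j ih =>
    have hj' : j ≤ r := Nat.le_of_succ_le hj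
    set J := Jp G j hj' with hJdef
    set I := LefPen.hypIdeal (G ⟨j, hj⟩) with hIdef
    have hG0 : (G ⟨j, hj⟩).1 ≠ 0 := form_ne_zero G hr ha hdim ⟨j, hj⟩
    obtain ⟨eI⟩ := Groth.Agent.Helper1.Hyp.nonempty_idealMod_hypIdeal_iso (G ⟨j, hj⟩) hG0
    have hcart : BlowUp.IsEffCartierIdeal I := isEffCartierIdeal_hypIdeal _ hG0
    -- `J ⊓ I = J * I`
    have hinf : J ⊓ I = J * I := by
      apply le_antisymm
      · have h := inf_le_mul G hr ha hdim ⟨j, hj⟩
        rw [inf_comm, mul_comm]
        exact h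
      · intro U
        exact Ideal.mul_le_inf
    -- the twisted Mayer–Vietoris sequence
    have hS := Groth.Agent.Helper1.TwistExact.shortExact_map_tensorRightMod
      (mv_shortExact J I) 𝕆(i) (Groth.Agent.Helper1.SerreVan.isInvertible_twist n k i)
    have hX₃ : Jp G (j + 1) hj = J ⊔ I := Jp_succ G j hj
    rw [hX₃]
    refine subsingleton_X₃_of k _ hS p ?_ ?_
    · -- the middle term
      apply subsingleton_biprod_twist
      · exact ih hj' i p hp (by omega)
      · obtain ⟨e⟩ := Groth.Agent.Helper1.TwistMul.nonempty_twist_tensor_twist_iso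
          (CohB1.polyGrading n k) (Groth.Agent.Helper1.SerreFin.hcov_poly n k)
          (-(a ⟨j, hj⟩ : ℤ)) i (i - a ⟨j, hj⟩) (by ring)
        refine subsingleton_of_iso k (PicGrp.tensorModIso eI (Iso.refl _) ≪≫ e) p ?_
        exact Groth.Agent.Helper1.HypCoh.subsingleton_mid k n _ p hp (by omega)
    · -- the left term
      obtain ⟨e⟩ := Groth.Agent.Helper1.KzLin.tw_tw_iso n k (ClSub.idealMod J)
        (-(a ⟨j, hj⟩ : ℤ)) i (i - a ⟨j, hj⟩) (by ring)
      refine subsingleton_of_iso k (PicGrp.tensorModIso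
        (idealModCongr hinf ≪≫ (mulIso J I hcart).symm ≪≫
          PicGrp.tensorModIso (Iso.refl _) eI) (Iso.refl _) ≪≫ e) (p + 1) ?_
      exact ih hj' _ (p + 1) (by omega) (by omega)

end Groth.Agent.Helper1.CIMV
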