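import Mathlib
import Groth.Agent.Helper1.CIMV2
import Groth.Agent.Helper1.PF2
import Groth.Agent.Helper9.ClImmPF1
import Groth.Agent.Helper4.SN182
import Groth.Agent.Helper1.ZCon3
import Groth.Agent.Helper1.AffLin2
import Groth.Agent.Helper1.Dev6

set_option autoImplicit false
set_option linter.unusedSectionVars false
set_option linter.style.haveILetI false

/-!
# CIMV3: the cohomology of `O_X(i)` for a complete intersection `X ⊆ P^n_k`
-/

namespace Groth.Agent.Helper1.CIMV

open CategoryTheory Limits AlgebraicGeometry TopologicalSpace Opposite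
open Groth.Agent.Helper1.HHLes Groth.Agent.Helper1.CIReg Groth.Agent.Helper1.IdealMul
open Groth.Agent.Helper1.Lef

universe u

section unit

variable {X Y : Scheme.{u}} (f : X ⟶ Y) (L : Y.Modules)

/-- the unit of the adjunction through the projection morphism -/
theorem unitorL_hom_comp_η :
    (Groth.Agent.Helper4.AmpleBasis.unitorL L).hom ≫ Groth.Agent.Helper4.PullTensor.η f L =
      KoszTw.tensorMap (ClSub.unitToPush f) (𝟙 L) ≫
        Groth.Agent.Helper1.PF.projMap f (Coh.structureModule X) L ≫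
          (Scheme.Modules.pushforward f).map
            (Groth.Agent.Helper4.AmpleBasis.unitorL ((Scheme.Modules.pullback f).obj L)).hom := by
  apply Groth.Agent.Helper4.TensorLift.hom_ext
  intro V c₀ b
  obtain ⟨c, rfl⟩ : ∃ c : Γ(Y, V), (show Γ(Coh.structureModule Y, V) from c) = c₀ := ⟨c₀, rfl⟩
  have h1 : ((Groth.Agent.Helper4.AmpleBasis.unitorL L).hom ≫
      Groth.Agent.Helper4.PullTensor.η f L).app V
        (SecTwist.tmul (Coh.structureModule Y) L V c b) =
      (Groth.Agent.Helper4.PullTensor.η f L).app V (c • b) := by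
    have := Groth.Agent.Helper4.SN.unitorL_tmul L V c b
    exact congrArg ((Groth.Agent.Helper4.PullTensor.η f L).app V) this
  rw [h1, Scheme.Modules.Hom.app_smul]
  have h2 : (KoszTw.tensorMap (ClSub.unitToPush f) (𝟙 L) ≫
        Groth.Agent.Helper1.PF.projMap f (Coh.structureModule X) L ≫
          (Scheme.Modules.pushforward f).map
            (Groth.Agent.Helper4.AmpleBasis.unitorL ((Scheme.Modules.pullback f).obj L)).hom).app V
        (SecTwist.tmul (Coh.structureModule Y) L V c b) =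
      (Groth.Agent.Helper4.AmpleBasis.unitorL ((Scheme.Modules.pullback f).obj L)).hom.app (f ⁻¹ᵁ V)
        ((Groth.Agent.Helper1.PF.projMap f (Coh.structureModule X) L).app V
          ((KoszTw.tensorMap (ClSub.unitToPush f) (𝟙 L)).app V
            (SecTwist.tmul (Coh.structureModule Y) L V c b))) := rfl
  rw [h2, KoszTw.tensorMap_tmul, Groth.Agent.Helper1.PF.projMap_tmul]
  have h3 := Groth.Agent.Helper4.SN.unitorL_tmul ((Scheme.Modules.pullback f).obj L) (f ⁻¹ᵁ V)
    ((ClSub.unitToPush f).app V c)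
    ((Groth.Agent.Helper4.PullTensor.η f L).app V ((𝟙 L : L ⟶ L).app V b))
  exact h3.symm

end unit

variable {k : Type u} [Field k] {n : ℕ}

local notation "ℙ" => CohB1.ProjSpace n k
local notation "𝕆(" d ")" => Twist.twistProjSpace n k d

variable {r : ℕ} {a : Fin r → ℕ} (G : ∀ j : Fin r, LefPen.Form n k (a j))

/-- `H^p(P, (O/I)(i)) = 0` for `0 < p < n - r` -/
theorem subsingleton_HH_quotMod (hr : r ≤ n) (ha : ∀ j, 1 ≤ a j)
    (hdim : topologicalKrullDim ↥(LefPen.ciIdeal G).subscheme ≤ ((n - r : ℕ) : WithBot ℕ∞))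
    (i : ℤ) (p : ℕ) (hp : 1 ≤ p) (hpr : p + 1 + r ≤ n) :
    Subsingleton (Coh.HH ℙ (CohB1.tensorMod (ClSub.quotMod (LefPen.ciIdeal G)) 𝕆(i)) p) := by
  have hS := Groth.Agent.Helper1.HypCoh.T_shortExact k n (LefPen.ciIdeal G) i
  refine subsingleton_X₃_of k _ hS p ?_ ?_
  · obtain ⟨e₂⟩ := Groth.Agent.Helper1.HypCoh.nonempty_iso₂ k n (LefPen.ciIdeal G) i
    exact subsingleton_of_iso k e₂ p
      (Groth.Agent.Helper1.HypCoh.subsingleton_mid k n i p hp (by omega))
  · exact subsingleton_HH_Jp G hr ha hdim r le_rfl i (p + 1) (by omega) (by omega)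

/-- `H^0(P, O(i)) → H^0(P, (O/I)(i))` is surjective if `n - r ≥ 1` -/
theorem surjective_app_top (hr : r ≤ n) (ha : ∀ j, 1 ≤ a j)
    (hdim : topologicalKrullDim ↥(LefPen.ciIdeal G).subscheme ≤ ((n - r : ℕ) : WithBot ℕ∞))
    (h1 : 1 + r ≤ n) (i : ℤ) :
    Function.Surjective
      ((KoszTw.tensorMap (ClSub.toSubscheme (LefPen.ciIdeal G)) (𝟙 𝕆(i))).app ⊤) := by
  have hS := Groth.Agent.Helper1.HypCoh.T_shortExact k n (LefPen.ciIdeal G) i
  haveI hsub : Subsingleton (Coh.HH ℙ (Groth.Agent.Helper1.HypCoh.T k n (LefPen.ciIdeal G) i).X₁ 1) :=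
    subsingleton_HH_Jp G hr ha hdim r le_rfl i 1 le_rfl (by omega)
  have hg : (Groth.Agent.Helper1.HypCoh.T k n (LefPen.ciIdeal G) i).g =
      KoszTw.tensorMap (ClSub.toSubscheme (LefPen.ciIdeal G)) (𝟙 𝕆(i)) :=
    KoszTw.tensorRightMod_map _ _
  rw [← hg]
  intro c
  obtain ⟨c', rfl⟩ := (Groth.Agent.Lead.ProperFinA.h0Equiv _).surjective c
  obtain ⟨a', rfl⟩ := (exact_g_δ k _ hS 0 c').1 (Subsingleton.elim _ _)
  exact ⟨_, (Groth.Agent.Helper1.ZCon.h0Equiv_HHlin (A := k) _ a').symm⟩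

end Groth.Agent.Helper1.CIMV
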