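import Mathlib
import Groth.Agent.Helper1.Hyp7

set_option autoImplicit false
set_option linter.unusedSectionVars false
set_option linter.style.haveILetI false

/-!
# CIMV4: a quasi-compact quasi-separated scheme over a field `k` with `Γ(X, O_X) = k` is
geometrically connected
-/

namespace Groth.Agent.Helper1.CIMV

open CategoryTheory Limits AlgebraicGeometry TopologicalSpace Opposite

universe u

theorem flat_of_field {k K : Type u} [Field k] [Field K]
    (y : Spec (CommRingCat.of K) ⟶ Spec (CommRingCat.of k)) : Flat y := by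
  obtain ⟨φ, rfl⟩ : ∃ φ, Spec.map φ = y := ⟨Spec.preimage y, Spec.map_preimage y⟩
  rw [Flat.SpecMap_iff]
  letI := φ.hom.toAlgebra
  show Module.Flat k K
  haveI : Module.Free k K := Module.Free.of_divisionRing k K
  exact Module.Flat.of_free

theorem geometricallyConnected_of_bijective {k : Type u} [Field k] {X : Scheme.{u}}
    (g : X ⟶ Spec (CommRingCat.of k)) [CompactSpace X] [QuasiSeparatedSpace X]
    (h : Function.Bijective (Coh.toGlobal g)) : GeometricallyConnected g := by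
  refine ⟨fun K _ y Z fst snd H => ?_⟩
  haveI : Flat y := flat_of_field y
  have hUST : (⊤ : (Spec (CommRingCat.of K)).Opens) ≤ y ⁻¹ᵁ ⊤ := le_rfl
  have hUSX : (⊤ : X.Opens) ≤ g ⁻¹ᵁ ⊤ := le_rfl
  have hUY : (⊤ : Z.Opens) = fst ⁻¹ᵁ ⊤ ⊓ snd ⁻¹ᵁ ⊤ := by simp
  have hiso := isIso_pushoutSection_of_isQuasiSeparated_of_flat_right H hUST hUSX hUY
    (isAffineOpen_top _) (isAffineOpen_top _) isCompact_univ
    (isQuasiSeparated_univ_iff.2 inferInstance)
  -- `g.appLE ⊤ ⊤` is an isomorphism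
  have hg : IsIso (g.appLE ⊤ ⊤ hUSX) := by
    rw [ConcreteCategory.isIso_iff_bijective]
    have h1 : Function.Bijective ((Scheme.ΓSpecIso (CommRingCat.of k)).inv.hom) :=
      ConcreteCategory.bijective_of_isIso (Scheme.ΓSpecIso (CommRingCat.of k)).inv
    have h2 : (Coh.toGlobal g : k → Γ(X, ⊤)) =
        (g.appLE ⊤ ⊤ hUSX).hom ∘ (Scheme.ΓSpecIso (CommRingCat.of k)).inv.hom := by
      ext a
      simp only [Coh.toGlobal, Scheme.Hom.appLE, Function.comp_apply]
      have h3 : X.presheaf.map (homOfLE hUSX).op = 𝟙 _ := X.presheaf.map_id (op ⊤)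
      rw [h3]
      rfl
    rw [h2] at h
    exact (Function.Bijective.of_comp_iff _ h1).1 h
  haveI := hg
  haveI hinr : IsIso (pushout.inr (g.appLE ⊤ ⊤ hUSX) (y.appLE ⊤ ⊤ hUST)) := inferInstance
  have hle : (⊤ : Z.Opens) ≤ snd ⁻¹ᵁ ⊤ := le_rfl
  have hsnd : pushout.inr (g.appLE ⊤ ⊤ hUSX) (y.appLE ⊤ ⊤ hUST) ≫
      pushoutSection H hUST hUSX hUY = snd.appLE ⊤ ⊤ hle := pushout.inr_desc _ _ _
  have hsndiso : IsIso (snd.appLE ⊤ ⊤ hle) := by
    rw [← hsnd]
    infer_instance
  refine Groth.Agent.Helper1.Hyp.connectedSpace_of_bijective_field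
    ((snd.appLE ⊤ ⊤ hle).hom.comp (Scheme.ΓSpecIso (CommRingCat.of K)).inv.hom) ?_
  have h1 : Function.Bijective ((Scheme.ΓSpecIso (CommRingCat.of K)).inv.hom) :=
    ConcreteCategory.bijective_of_isIso (Scheme.ΓSpecIso (CommRingCat.of K)).inv
  have h2 : Function.Bijective ((snd.appLE ⊤ ⊤ hle).hom) :=
    ConcreteCategory.bijective_of_isIso (snd.appLE ⊤ ⊤ hle)
  exact h2.comp h1

end Groth.Agent.Helper1.CIMV
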