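import Mathlib
import Groth.Agent.Helper1.CIMV3
import Groth.Agent.Helper1.CIMV4

set_option autoImplicit false
set_option linter.unusedSectionVars false
set_option linter.style.haveILetI false

/-!
# CIMV5: `Γ(X, O_X) = k` for a complete intersection `X ⊆ P^n_k` of positive dimension;
geometric connectedness
-/

namespace Groth.Agent.Helper1.CIMV

open CategoryTheory Limits AlgebraicGeometry TopologicalSpace Opposite
open Groth.Agent.Helper1.HHLes Groth.Agent.Helper1.CIReg Groth.Agent.Helper1.IdealMul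
open Groth.Agent.Helper1.Lef

universe u

variable {k : Type u} [Field k] {n : ℕ}

local notation "ℙ" => CohB1.ProjSpace n k
local notation "𝕆(" d ")" => Twist.twistProjSpace n k d

variable {r : ℕ} {a : Fin r → ℕ} (G : ∀ j : Fin r, LefPen.Form n k (a j))

theorem surjective_toSubscheme_app_top (hr : r ≤ n) (ha : ∀ j, 1 ≤ a j)
    (hdim : topologicalKrullDim ↥(LefPen.ciIdeal G).subscheme ≤ ((n - r : ℕ) : WithBot ℕ∞))
    (h1 : 1 + r ≤ n) :
    Function.Surjective ((ClSub.toSubscheme (LefPen.ciIdeal G)).app ⊤) := by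
  have hS := idealSC_shortExact (LefPen.ciIdeal G)
  have h0 : Subsingleton (Coh.HH ℙ (CohB1.tensorMod (ClSub.idealMod (LefPen.ciIdeal G)) 𝕆(0)) 1) :=
    subsingleton_HH_Jp G hr ha hdim r le_rfl 0 1 le_rfl (by omega)
  obtain ⟨e⟩ := Groth.Agent.Helper1.KzLin.tw_zero_iso n k (ClSub.idealMod (LefPen.ciIdeal G))
  haveI hsub : Subsingleton (Coh.HH ℙ (idealSC (LefPen.ciIdeal G)).X₁ 1) :=
    subsingleton_of_iso k e.symm 1 h0
  intro c
  obtain ⟨c', rfl⟩ := (Groth.Agent.Lead.ProperFinA.h0Equiv _).surjective c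
  obtain ⟨a', rfl⟩ := (exact_g_δ k _ hS 0 c').1 (Subsingleton.elim _ _)
  exact ⟨_, (Groth.Agent.Helper1.ZCon.h0Equiv_HHlin (A := k) _ a').symm⟩

theorem bijective_toGlobal_projSpace (hn : 0 < n) :
    Function.Bijective (Coh.toGlobal (CohB1.ProjSpace.toSpec n k)) := by
  apply Groth.Agent.Helper1.Hyp.bijective_toGlobal_of_finrank_one
  obtain ⟨e⟩ := Groth.Agent.Helper1.KzLin.tw_zero n k
  have h := Groth.Agent.Helper1.HypCoh.finrank_H0 k n hn 0
  rw [(Groth.Agent.Helper1.ProjTop.HHlinEquiv k e 0).finrank_eq] at h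
  rw [h]
  simp

theorem nonempty_of_dim {T : Type*} [TopologicalSpace T] (m : ℕ)
    (h : topologicalKrullDim T = ((m : ℕ) : WithBot ℕ∞)) : Nonempty T := by
  by_contra hne
  rw [not_nonempty_iff] at hne
  have h1 : topologicalKrullDim T = ⊥ := by
    unfold topologicalKrullDim
    rw [Order.krullDim_eq_bot_iff]
    exact ⟨fun Z => Z.isIrreducible'.1.elim (fun x _ => hne.false x)⟩
  rw [h1] at h
  exact (WithBot.bot_ne_coe h).elim

theorem bijective_toGlobal_ci (hr : r ≤ n) (ha : ∀ j, 1 ≤ a j)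
    (hdim : topologicalKrullDim ↥(LefPen.ciIdeal G).subscheme = ((n - r : ℕ) : WithBot ℕ∞))
    (h1 : 1 ≤ n - r) :
    Function.Bijective (Coh.toGlobal
      ((LefPen.ciIdeal G).subschemeι ≫ CohB1.ProjSpace.toSpec n k)) := by
  set I := LefPen.ciIdeal G with hI
  have hne : Nonempty ↥I.subscheme := nonempty_of_dim (n - r) hdim
  haveI hnt : Nontrivial Γ(I.subscheme, ⊤) :=
    @Scheme.component_nontrivial I.subscheme ⊤ ⟨⟨hne.some, trivial⟩⟩
  haveI : Nontrivial (Coh.Γtop I.subscheme) := hnt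
  constructor
  · exact RingHom.injective _
  · have hP := (bijective_toGlobal_projSpace (k := k) (n := n) (by omega)).2
    have hs := surjective_toSubscheme_app_top G hr ha hdim.le (by omega)
    intro c
    obtain ⟨b, hb⟩ := hs c
    obtain ⟨a₀, ha₀⟩ := hP b
    refine ⟨a₀, ?_⟩
    rw [← hb, ← ha₀]
    rfl

/-- **S14334** -/
theorem geometricallyConnected_ci (hr : r ≤ n) (ha : ∀ j, 1 ≤ a j)
    (hdim : topologicalKrullDim ↥(LefPen.ciIdeal G).subscheme = ((n - r : ℕ) : WithBot ℕ∞))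
    (h1 : 1 ≤ n - r) :
    GeometricallyConnected ((LefPen.ciIdeal G).subschemeι ≫ CohB1.ProjSpace.toSpec n k) := by
  haveI : IsNoetherian (CohB1.ProjSpace n k) :=
    Groth.Agent.Helper3.ProjNoeth.main (CohB1.polyGrading n k)
  haveI : IsNoetherian (LefPen.ciIdeal G).subscheme :=
    Groth.Agent.Helper1.Dev.isNoetherian_of_isClosedImmersion (LefPen.ciIdeal G).subschemeι
  exact geometricallyConnected_of_bijective _ (bijective_toGlobal_ci G hr ha hdim h1)

end Groth.Agent.Helper1.CIMV
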