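import Mathlib
import Groth.Agent.Helper1.ClDual3
import Groth.Agent.Helper1.CMcl3

/-!
# ClDual4: duality in all degrees for an arbitrary coherent dualizing pair on a closed subscheme
of `P^N_k` whose negative twists have no cohomology below the dimension
-/

set_option autoImplicit false
set_option linter.style.haveILetI false
set_option linter.unusedSectionVars false

universe u

open CategoryTheory CategoryTheory.Limits Abelian AlgebraicGeometry Opposite
open Groth.Agent.Helper9.TensorSh Groth.Agent.Helper9.TensorAdj Groth.Agent.Helper9.TensorFlat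
  Groth.Agent.Helper1.ExtTw Groth.Agent.Helper1.ExtSh Groth.Agent.Helper1.LerayCol
  Groth.Agent.Helper1.YDual

namespace Groth.Agent.Helper1.ClDual

attribute [local instance] Groth.Agent.Helper9.TensorAdj.hasSheafHom

variable (N : ℕ) (k : Type u) [Field k] {X : Scheme.{u}} [X.Over (Spec (CommRingCat.of k))]
  (ι : X ⟶ CohB1.ProjSpace N k) [IsClosedImmersion ι]

local notation "ℙ" => CohB1.ProjSpace N k
local notation "𝕆(" d ")" => Twist.twistProjSpace N k d
local notation "ωP" => Twist.twistProjSpace N k (-((N : ℤ) + 1))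

variable [HasExt.{u} X.Modules]

/-- presentations adapted to a coherent module `ω` and to the vanishing of the cohomology of the
negative twists below degree `n` -/
theorem exists_pres_adapted (n : ℕ) (ω : X.Modules) (hω : Coh.IsCoh ω)
    (hvan : ∀ p : ℕ, p < n → ∃ m₀ : ℤ, ∀ m : ℤ, m₀ ≤ m →
      Subsingleton (Coh.HH X ((Scheme.Modules.pullback ι).obj 𝕆(-m)) p))
    (F : X.Modules) (hF : Coh.IsCoh F) :
    ∃ (E : X.Modules) (π : E ⟶ F), Epi π ∧ Coh.IsCoh E ∧ Coh.IsCoh (kernel π) ∧
      (∀ m : ℕ, 1 ≤ m → Subsingleton (Ext.{u} E ω m)) ∧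
      (∀ j : ℕ, j < n → Subsingleton (Coh.HH X E j)) := by
  haveI := isLocallyNoetherian_of_closed N k ι
  obtain ⟨m₁, hm₁⟩ := exists_vanishing_ext_neg_twist N k ι ω _
    (Groth.Agent.Helper1.ClTr.isCoh_push N k ι ω hω) ⟨Iso.refl _⟩
  have hex : ∀ p : ℕ, ∃ m₀ : ℤ, p < n → ∀ m : ℤ, m₀ ≤ m →
      Subsingleton (Coh.HH X ((Scheme.Modules.pullback ι).obj 𝕆(-m)) p) := by
    intro p
    by_cases hp : p < n
    · obtain ⟨m₀, hm₀⟩ := hvan p hp
      exact ⟨m₀, fun _ => hm₀⟩
    · exact ⟨0, fun h => absurd h hp⟩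
  choose f hf using hex
  let B₂ : ℕ := (Finset.range n).sup (fun p => (f p).toNat)
  have hB₂ : ∀ p, p < n → f p ≤ (B₂ : ℤ) := by
    intro p hp
    have h1 : (f p).toNat ≤ B₂ :=
      Finset.le_sup (f := fun p => (f p).toNat) (Finset.mem_range.2 hp)
    have h2 : f p ≤ ((f p).toNat : ℤ) := Int.self_le_toNat _
    have h3 : ((f p).toNat : ℤ) ≤ (B₂ : ℤ) := by exact_mod_cast h1
    omega
  let B : ℕ := max (max m₁.toNat B₂) 1
  have hB1 : m₁ ≤ (B : ℤ) := by
    have h1 : m₁ ≤ (m₁.toNat : ℤ) := Int.self_le_toNat _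
    have h2 : m₁.toNat ≤ B := le_trans (le_max_left _ _) (le_max_left _ _)
    have h3 : (m₁.toNat : ℤ) ≤ (B : ℤ) := by exact_mod_cast h2
    omega
  have hB2 : (B₂ : ℤ) ≤ (B : ℤ) := by
    have h2 : B₂ ≤ B := le_trans (le_max_right _ _) (le_max_left _ _)
    exact_mod_cast h2
  obtain ⟨s', q, π, hπ, hq⟩ := exists_pres_le N k ι F hF B (le_max_right _ _)
  have hE : Coh.IsCoh (∐ fun j : Fin s' => Ltw N k ι (q j)) := isCoh_sigma_Ltw N k ι q
  refine ⟨_, π, hπ, hE, Groth.Agent.Lead.PerfLib.isCoh_kernel hE hF π, fun m hm => ?_,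
    fun p hp => ?_⟩
  · refine Groth.Agent.Helper1.ExtDual.subsingleton_ext_sigma _ _ m (fun j' => ?_)
    have h1 := hm₁ (-(q j')) (by have := hq j'; omega) m hm
    rwa [neg_neg] at h1
  · refine Groth.Agent.Helper1.SerreVan.subsingleton_HH_sigma _ p (fun j' => ?_)
    have h1 := hf p hp (-(q j')) (by have := hq j'; have := hB₂ p hp; omega)
    rwa [neg_neg] at h1

open Groth.Agent.Helper1.DualSh in
/-- **duality in all degrees** for a coherent dualizing pair, under the vanishing of the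
cohomology of the negative twists below degree `n` -/
theorem duality_of_vanishing (n : ℕ) (ω : X.Modules) (hω : Coh.IsCoh ω)
    (t : Coh.HH X ω n →ₗ[k] k) (ht : ∀ F : X.Modules, Coh.IsCoh F → IsDual k n t F)
    (hvan : ∀ p : ℕ, p < n → ∃ m₀ : ℤ, ∀ m : ℤ, m₀ ≤ m →
      Subsingleton (Coh.HH X ((Scheme.Modules.pullback ι).obj 𝕆(-m)) p))
    (i : ℕ) (F : X.Modules) (hF : Coh.IsCoh F) :
    (∀ j : ℕ, i + j = n → Nonempty (Ext.{u} F ω i ≃ₗ[k] Module.Dual k (Coh.HH X F j))) ∧
      (n < i → Subsingleton (Ext.{u} F ω i)) :=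
  Groth.Agent.Helper1.ExtDual.main k n t (fun M => Coh.IsCoh M) ht
    (fun F hF => exists_pres_adapted N k ι n ω hω hvan F hF) i F hF

/-- the Cohen–Macaulay condition gives the vanishing of the cohomology of the negative twists -/
theorem exists_vanishing_of_cm (n : ℕ) (hn : topologicalKrullDim ↥X = n)
    (hcm : ∀ x : X, IsClosed ({x} : Set X) →
        LocCoh.IsCohenMacaulayLocalRing (X.presheaf.stalk x) ∧
          ringKrullDim (X.presheaf.stalk x) = n)
    (p : ℕ) (hp : p < n) :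
    ∃ m₀ : ℤ, ∀ m : ℤ, m₀ ≤ m →
      Subsingleton (Coh.HH X ((Scheme.Modules.pullback ι).obj 𝕆(-m)) p) := by
  haveI : EnoughInjectives (CohB1.ProjSpace N k).Modules :=
    Groth.Agent.Helper9.ModCechExt.enoughInjectives_mod (CohB1.ProjSpace N k).ringCatSheaf
  haveI : HasExt.{u} (CohB1.ProjSpace N k).Modules := hasExt_of_enoughInjectives _
  haveI : HasInjectiveResolutions (ModSite.Mod (CohB1.ProjSpace N k).sheaf) :=
    inferInstanceAs (HasInjectiveResolutions (CohB1.ProjSpace N k).Modules)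
  have hnN : n ≤ N := by
    have h1 := ι.isClosedEmbedding.isInducing.topologicalKrullDim_le
    rw [hn, Groth.Agent.S10829.result k N] at h1
    exact_mod_cast h1
  have h1 := (Groth.Agent.Helper1.CMcl.cm_iff_isZero_extSh N k ι n hn).1 hcm p hp (by omega)
  rw [isZero_extSh_push_iff N k ι (N - p) (by omega), show N - (N - p) = p by omega] at h1
  exact h1

end Groth.Agent.Helper1.ClDual
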