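import Mathlib
import Groth.Agent.Helper1.ExtSh10
import Groth.Agent.Helper1.HHLes3

/-!
# ExtLoc1: `Extᵖ(E, B) ≃ₗ Hᵖ(X, ℋom(E, B))` for `E` finite locally free, linearly over the base ring
-/

set_option autoImplicit false
set_option linter.style.haveILetI false
set_option linter.unusedSectionVars false

universe u

open CategoryTheory CategoryTheory.Limits Abelian AlgebraicGeometry Opposite
open Groth.Agent.Helper9.TensorSh Groth.Agent.Helper9.TensorAdj Groth.Agent.Helper9.TensorFlat
  Groth.Agent.Helper1.ExtSh Groth.Agent.Helper1.HHLes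

namespace Groth.Agent.Helper1.ExtLoc

attribute [local instance] Groth.Agent.Helper9.TensorAdj.hasSheafHom

variable (A : Type u) [CommRing A] {X : Scheme.{u}} [X.Over (Spec (CommRingCat.of A))]
  [HasExt.{u} X.Modules]

/-- naturality of `e₀'` in the second variable -/
theorem e₀'_nat_right (M : X.Modules) {G G' : X.Modules} (ψ : G ⟶ G') (x : Ext.{u} M G 0) :
    e₀' A M G' (x.comp (Ext.mk₀ ψ) (add_zero 0)) =
      Canon.HHlin A ((SH M).map ψ) 0 (e₀' A M G x) := by
  obtain ⟨f, rfl⟩ := (Ext.mk₀_bijective _ _).2 x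
  rw [Ext.mk₀_comp_mk₀, e₀'_mk₀, e₀'_mk₀]
  refine Eq.trans ?_ (evalH0A_comp A
    ((adjX M).homEquiv (Coh.structureModule X) G ((lu M).hom ≫ f)) ((SH M).map ψ))
  have h := (adjX M).homEquiv_naturality_right ((lu M).hom ≫ f) ψ
  rw [Category.assoc] at h
  exact congrArg (evalH0A A _) h

omit [HasExt.{u} X.Modules] [X.Over (Spec (CommRingCat.of A))] in
/-- the cohomology of an injective module vanishes in positive degrees -/
theorem subsingleton_HH_of_injective [inst : HasExt.{u} X.Modules] (J : X.Modules) [Injective J]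
    (p : ℕ) (hp : 1 ≤ p) :
    Subsingleton (Coh.HH X J p) := by
  obtain ⟨q, rfl⟩ : ∃ q, p = q + 1 := ⟨p - 1, by omega⟩
  obtain ⟨e⟩ := @Groth.Agent.Helper9.ModUnitExt.nonempty_addEquiv _ _
    (Opens.grothendieckTopology X) X.ringCatSheaf inst J (q + 1)
  have e' : Ext.{u} (Coh.structureModule X) J (q + 1) ≃+ Coh.HH X J (q + 1) := e
  have h : ∀ z : Ext.{u} (Coh.structureModule X) J (q + 1), z = 0 :=
    fun z => Ext.eq_zero_of_injective z
  refine ⟨fun a b => ?_⟩
  apply e'.symm.injective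
  rw [h (e'.symm a), h (e'.symm b)]

/-- the connecting map of `Ext(M, -)` -/
noncomputable def δC {S : ShortComplex X.Modules} (hS : S.ShortExact) (M : X.Modules) (p : ℕ) :
    Ext.{u} M S.X₃ p →ₗ[A] Ext.{u} M S.X₁ (p + 1) where
  toFun x := x.comp hS.extClass rfl
  map_add' x y := Ext.add_comp _ _ _ _
  map_smul' a x := Ext.smul_comp _ _ _ _

lemma δC_apply {S : ShortComplex X.Modules} (hS : S.ShortExact) (M : X.Modules) (p : ℕ)
    (x : Ext.{u} M S.X₃ p) : δC A hS M p x = x.comp hS.extClass rfl := rfl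

section step

variable {S : ShortComplex X.Modules} (hS : S.ShortExact) [Injective S.X₂] (E : X.Modules)

lemma surjective_δC (p : ℕ) : Function.Surjective (δC A hS E p) := by
  intro z
  obtain ⟨x, hx⟩ := Ext.covariant_sequence_exact₁ E hS z
    (Ext.eq_zero_of_injective _) (n₀ := p) rfl
  exact ⟨x, hx⟩

lemma δC_eq_zero_iff (p : ℕ) (x : Ext.{u} E S.X₃ p) :
    δC A hS E p x = 0 ↔
      ∃ y : Ext.{u} E S.X₂ p, y.comp (Ext.mk₀ S.g) (add_zero p) = x := by
  constructor
  · intro hx
    exact Ext.covariant_sequence_exact₃ E hS x rfl hx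
  · rintro ⟨y, rfl⟩
    rw [δC_apply, Ext.comp_assoc_of_second_deg_zero, hS.comp_extClass, Ext.comp_zero]

lemma injective_δC (p : ℕ) (hp : 1 ≤ p) : Function.Injective (δC A hS E p) := by
  rw [injective_iff_map_eq_zero]
  intro x hx
  obtain ⟨y, rfl⟩ := (δC_eq_zero_iff A hS E p x).1 hx
  obtain ⟨q, rfl⟩ : ∃ q, p = q + 1 := ⟨p - 1, by omega⟩
  rw [Ext.eq_zero_of_injective y, Ext.zero_comp]

end step

section stepH

variable {T : ShortComplex X.Modules} (hT : T.ShortExact) [Injective T.X₂]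

lemma surjective_δ (p : ℕ) : Function.Surjective (δ A T hT p) := by
  intro z
  haveI := subsingleton_HH_of_injective T.X₂ (p + 1) (by omega)
  exact (exact_δ_f A T hT p z).1 (Subsingleton.elim _ _)

lemma injective_δ (p : ℕ) (hp : 1 ≤ p) : Function.Injective (δ A T hT p) := by
  haveI := subsingleton_HH_of_injective T.X₂ p hp
  rw [injective_iff_map_eq_zero]
  intro x hx
  obtain ⟨y, rfl⟩ := (exact_g_δ A T hT p x).1 hx
  rw [Subsingleton.elim y 0, map_zero]

end stepH

section main

variable (E : X.Modules) [PreservesFiniteLimits (SH E)] [PreservesFiniteColimits (SH E)]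
  {S : ShortComplex X.Modules} (hS : S.ShortExact) [Injective S.X₂]
  (hI : Injective ((SH E).obj S.X₂))

include hS hI in
/-- degree one -/
theorem step_one : Nonempty (Ext.{u} E S.X₁ 1 ≃ₗ[A] Coh.HH X ((SH E).obj S.X₁) 1) := by
  have hT : (S.map (SH E)).ShortExact := hS.map_of_exact (SH E)
  haveI : Injective (S.map (SH E)).X₂ := hI
  have hsH := surjective_δ A hT 0
  have hex := exact_g_δ A (S.map (SH E)) hT 0
  generalize δ A (S.map (SH E)) hT 0 = dH at hsH hex
  refine Groth.Agent.Helper1.ExtHom.nonempty_linearEquiv_of_ker_eq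
    (δC A hS E 0) (dH ∘ₗ (e₀' A E S.X₃).toLinearMap) (surjective_δC A hS E 0) ?_ ?_
  · intro z
    obtain ⟨w, hw⟩ := hsH z
    refine ⟨(e₀' A E S.X₃).symm w, ?_⟩
    show dH (e₀' A E S.X₃ ((e₀' A E S.X₃).symm w)) = z
    rw [LinearEquiv.apply_symm_apply, hw]
  · intro x
    rw [δC_eq_zero_iff A hS E 0 x]
    show _ ↔ dH (e₀' A E S.X₃ x) = 0
    rw [hex (e₀' A E S.X₃ x)]
    constructor
    · rintro ⟨y, rfl⟩
      exact ⟨e₀' A E S.X₂ y, (e₀'_nat_right A E S.g y).symm⟩
    · rintro ⟨w, hw⟩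
      refine ⟨(e₀' A E S.X₂).symm w, (e₀' A E S.X₃).injective ?_⟩
      rw [e₀'_nat_right, LinearEquiv.apply_symm_apply]
      exact hw

include hS hI in
/-- shifting the degree -/
theorem step_succ (p : ℕ) (hp : 1 ≤ p)
    (ih : Nonempty (Ext.{u} E S.X₃ p ≃ₗ[A] Coh.HH X ((SH E).obj S.X₃) p)) :
    Nonempty (Ext.{u} E S.X₁ (p + 1) ≃ₗ[A] Coh.HH X ((SH E).obj S.X₁) (p + 1)) := by
  have hT : (S.map (SH E)).ShortExact := hS.map_of_exact (SH E)
  haveI : Injective (S.map (SH E)).X₂ := hI
  obtain ⟨e1⟩ := ih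
  let e2 : Ext.{u} E S.X₃ p ≃ₗ[A] Ext.{u} E S.X₁ (p + 1) :=
    LinearEquiv.ofBijective (δC A hS E p) ⟨injective_δC A hS E p hp, surjective_δC A hS E p⟩
  let e3 : Coh.HH X ((SH E).obj S.X₃) p ≃ₗ[A] Coh.HH X ((SH E).obj S.X₁) (p + 1) :=
    LinearEquiv.ofBijective (δ A (S.map (SH E)) hT p)
      ⟨injective_δ A hT p hp, surjective_δ A hT p⟩
  exact ⟨e2.symm.trans (e1.trans e3)⟩

end main

/-- the injective hull sequence `0 → B → I → Q → 0` -/
noncomputable abbrev injSC (B : X.Modules) [EnoughInjectives X.Modules] : ShortComplex X.Modules :=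
  ShortComplex.mk (Injective.ι B) (cokernel.π (Injective.ι B)) (cokernel.condition _)

lemma injSC_shortExact (B : X.Modules) [EnoughInjectives X.Modules] : (injSC B).ShortExact :=
  { exact := ShortComplex.exact_of_g_is_cokernel _ (cokernelIsCokernel _)
    mono_f := inferInstanceAs (Mono (Injective.ι B))
    epi_g := inferInstanceAs (Epi (cokernel.π (Injective.ι B))) }

/-- **`Extᵖ(E, B) ≃ₗ Hᵖ(X, ℋom(E, B))` for `E` finite locally free** -/
theorem nonempty_ext_linearEquiv_HH (E : X.Modules) (hE : FlatMod.IsFinLocFree E) :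
    ∀ (p : ℕ) (B : X.Modules),
      Nonempty (Ext.{u} E B p ≃ₗ[A] Coh.HH X ((SH E).obj B) p) := by
  haveI : EnoughInjectives X.Modules :=
    Groth.Agent.Helper9.ModCechExt.enoughInjectives_mod X.ringCatSheaf
  haveI : PreservesFiniteLimits (SH E) := preservesFiniteLimits_sheafHom (O := X.sheaf) E
  haveI : PreservesFiniteColimits (SH E) := preservesFiniteColimits_modSite_sheafHom E hE
  have hinj : ∀ I : X.Modules, Injective I → Injective ((SH E).obj I) := fun I hI =>
    Groth.Agent.Helper1.SHLoc.injective_sheafHom_obj E hE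
      ((adjX E).ofNatIsoLeft (symIso (O := X.sheaf) E).symm) I
  intro p
  induction p with
  | zero => exact fun B => ⟨e₀' A E B⟩
  | succ p ih =>
    intro B
    haveI : Injective (injSC B).X₂ := inferInstanceAs (Injective (Injective.under B))
    rcases Nat.eq_zero_or_pos p with rfl | hp
    · exact step_one A E (injSC_shortExact B) (hinj _ inferInstance)
    · exact step_succ A E (injSC_shortExact B) (hinj _ inferInstance) p hp (ih (injSC B).X₃)

end Groth.Agent.Helper1.ExtLoc
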