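import Mathlib
import Groth.Agent.Helper1.ClDual4
import Groth.Agent.Helper1.ExtLoc1
import Groth.Agent.Helper5.BCMin8
import Groth.Agent.Helper5.VarDim4

/-!
# CMcl4: duality for vector bundles on an equidimensional Cohen–Macaulay closed subscheme of
`P^N_k`: `H^i(X, F)ᵛ ≃ₗ H^{n-i}(X, ℋom(F, ω))`
-/

set_option autoImplicit false
set_option linter.style.haveILetI false
set_option linter.unusedSectionVars false

universe u

open CategoryTheory CategoryTheory.Limits Abelian AlgebraicGeometry Opposite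
open Groth.Agent.Helper9.TensorSh Groth.Agent.Helper9.TensorAdj Groth.Agent.Helper9.TensorFlat
  Groth.Agent.Helper1.ExtSh

namespace Groth.Agent.Helper1.CMcl

attribute [local instance] Groth.Agent.Helper9.TensorAdj.hasSheafHom

/-- the local rings at the closed points of an equidimensional scheme locally of finite type over
a field have the dimension of the scheme -/
theorem ringKrullDim_stalk_of_equidim (k : Type u) [Field k] {X : Scheme.{u}}
    (f : X ⟶ Spec (CommRingCat.of k)) [LocallyOfFiniteType f] (n : ℕ)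
    (heq : ∀ Z : Set ↥X, Z ∈ irreducibleComponents ↥X →
      topologicalKrullDim ↥Z = (n : WithBot ℕ∞))
    (x : X) (hx : IsClosed ({x} : Set X)) :
    ringKrullDim (X.presheaf.stalk x) = n := by
  obtain ⟨m, -, h2, h3⟩ := Groth.Agent.Helper5.VarDim.localDim_formula k f x
  obtain ⟨ξ, -, hmax, h4⟩ := Groth.Agent.Helper5.BCMin.exists_max_localDim_eq k f x
  have hZ := Groth.Agent.Helper5.EqAt.closure_singleton_mem_irreducibleComponents ξ hmax
  rw [h4, heq _ hZ, h3 hx] at h2
  simpa using h2.symm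

variable (N : ℕ) (k : Type u) [Field k] {X : Scheme.{u}} [X.Over (Spec (CommRingCat.of k))]
  (ι : X ⟶ CohB1.ProjSpace N k) [IsClosedImmersion ι]

open Groth.Agent.Helper1.DualSh in
include N ι in
/-- **duality for vector bundles** -/
theorem nonempty_dual_linearEquiv_HH_sheafHom [HasExt.{u} X.Modules] (n : ℕ)
    (hn : topologicalKrullDim ↥X = n)
    (hcm : ∀ x : X, IsClosed ({x} : Set X) →
        LocCoh.IsCohenMacaulayLocalRing (X.presheaf.stalk x) ∧
          ringKrullDim (X.presheaf.stalk x) = n)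
    (ω : X.Modules) (hω : Coh.IsCoh ω)
    (t : Coh.HH X ω n →ₗ[k] k) (ht : ∀ F : X.Modules, Coh.IsCoh F → IsDual k n t F)
    (F : X.Modules) (hF : FlatMod.IsFinLocFree F) [DCoh.HasSheafHom F] (i : ℕ) (hi : i ≤ n) :
    Nonempty (Module.Dual k (Coh.HH X F i) ≃ₗ[k]
      Coh.HH X ((DCoh.sheafHom F).obj ω) (n - i)) := by
  have hvan := fun p hp =>
    Groth.Agent.Helper1.ClDual.exists_vanishing_of_cm N k ι n hn hcm p hp
  obtain ⟨e1⟩ := (Groth.Agent.Helper1.ClDual.duality_of_vanishing N k ι n ω hω t ht hvan (n - i)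
    F (Groth.Agent.Lead.PerfLib.isCoh_of_isFinLocFree hF)).1 i (by omega)
  obtain ⟨e2⟩ := Groth.Agent.Helper1.ExtLoc.nonempty_ext_linearEquiv_HH k F hF (n - i) ω
  let c : DCoh.sheafHom F ≅ SH F :=
    (DCoh.sheafHomAdj F).rightAdjointUniq
      ((adjX F).ofNatIsoLeft (symIso (O := X.sheaf) F).symm)
  exact ⟨e1.symm.trans (e2.trans
    (Groth.Agent.Helper1.ProjTop.HHlinEquiv k (c.app ω).symm (n - i)))⟩

end Groth.Agent.Helper1.CMcl
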