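import Mathlib
import Groth.Agent.Helper1.PC10

/-!
# Naturality of projective cones, part 5: the canonical immersions `C → Ĉ` are natural
-/

set_option autoImplicit false
set_option linter.style.haveILetI false

namespace Groth.Agent.Helper1.CN

open CategoryTheory Limits AlgebraicGeometry TopologicalSpace Opposite RelProj RelCone
  HomogeneousLocalization Groth.Agent.Helper1.RP Groth.Agent.Helper1.SQ Groth.Agent.Helper1.PC
open scoped HomogeneousIdeal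

universe u

noncomputable section

section ring

variable {A σ B τ : Type u} [CommRing A] [SetLike σ A] [AddSubgroupClass σ A]
  [CommRing B] [SetLike τ B] [AddSubgroupClass τ B]
  {𝒜 : ℕ → σ} {ℬ : ℕ → τ} [GradedRing 𝒜] [GradedRing ℬ]

theorem awayMapE_mk (ψ : 𝒜 →+*ᵍ ℬ) {f : A} {b : B} (e : ψ f = b) {d : ℕ} (hf : f ∈ 𝒜 d)
    (hb : b ∈ ℬ d) (n : ℕ) (x : A) (hx : x ∈ 𝒜 (n • d)) :
    awayMapE ψ e (Away.mk 𝒜 hf n x hx) = Away.mk ℬ hb n (ψ x) (ψ.map_mem hx) := by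
  subst e
  exact Away.map_mk ψ f hf n x hx

end ring

variable {Y Y' PC PC' : Scheme.{u}} {q : Y' ⟶ Y} {𝒮 : QCGrAlg Y} {𝒮' : QCGrAlg Y'}
  {u : QGrHom q 𝒮 𝒮'} {𝒮h : QCGrAlg Y} {ι : 𝒮.toQCAlg ⟶ 𝒮h.toQCAlg}
  {z : 𝒮h.presheaf.obj (op ⊤)} (hz : IsPolyOver 𝒮 𝒮h ι z)
  {𝒮h' : QCGrAlg Y'} {ι' : 𝒮'.toQCAlg ⟶ 𝒮h'.toQCAlg} {z' : 𝒮h'.presheaf.obj (op ⊤)}
  (hz' : IsPolyOver 𝒮' 𝒮h' ι' z')
  {uh : QGrHom q 𝒮h 𝒮h'}
  {pC : PC ⟶ Y}
  {chartC : ∀ (U : Y.Opens) (hU : IsAffineOpen U),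
    (((pC ⁻¹ᵁ U : PC.Opens) : Scheme.{u}) ≅ Proj (𝒮h.deg U hU))}
  {pC' : PC' ⟶ Y'}
  {chartC' : ∀ (U : Y'.Opens) (hU : IsAffineOpen U),
    (((pC' ⁻¹ᵁ U : PC'.Opens) : Scheme.{u}) ≅ Proj (𝒮h'.deg U hU))}

/-- `z ↦ 1` is natural -/
theorem evalOne_uh (huh : ∀ U : Y.Opens, ι.hom.app (op U) ≫ uh.app U =
      u.app U ≫ ι'.hom.app (op (q ⁻¹ᵁ U)))
    (huhz : (uh.app ⊤).hom z = restrictTop 𝒮h' z' (q ⁻¹ᵁ ⊤))
    (U : Y.Opens) (hU : IsAffineOpen U) (U' : Y'.Opens) (hU' : IsAffineOpen U')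
    (hle : U' ≤ q ⁻¹ᵁ U) (x : 𝒮h.presheaf.obj (op U)) :
    hz'.evalOne U' hU' (uh.gradedAt U hU U' hU' hle x) =
      u.gradedAt U hU U' hU' hle (hz.evalOne U hU x) := by
  refine ringHom_ext_poly (ι.hom.app (op U)).hom (restrictTop 𝒮h z U) (hz.bij U hU).2
    ((hz'.evalOne U' hU').comp (uh.appLE U U' hle).hom)
    ((u.appLE U U' hle).hom.comp (hz.evalOne U hU)) ?_ ?_ x
  · intro a
    have h1 := uh_ι (u := u) (uh := uh) hz.graded hz'.graded huh U hU U' hU' hle a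
    have h1' : (uh.appLE U U' hle).hom ((ι.hom.app (op U)).hom a) =
        (ι'.hom.app (op U')).hom ((u.appLE U U' hle).hom a) := h1
    rw [RingHom.comp_apply, RingHom.comp_apply, h1', IsPolyOver.evalOne_ι,
      IsPolyOver.evalOne_ι]
  · have h1 := uh_z (uh := uh) huhz U hU U' hU' hle
    have h1' : (uh.appLE U U' hle).hom (restrictTop 𝒮h z U) = restrictTop 𝒮h' z' U' := h1
    rw [RingHom.comp_apply, RingHom.comp_apply, h1', IsPolyOver.evalOne_z,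
      IsPolyOver.evalOne_z, map_one]

/-- the ring identity behind the naturality of `i` -/
theorem awayZToBase_natural (huh : ∀ U : Y.Opens, ι.hom.app (op U) ≫ uh.app U =
      u.app U ≫ ι'.hom.app (op (q ⁻¹ᵁ U)))
    (huhz : (uh.app ⊤).hom z = restrictTop 𝒮h' z' (q ⁻¹ᵁ ⊤))
    (U : Y.Opens) (hU : IsAffineOpen U) (U' : Y'.Opens) (hU' : IsAffineOpen U')
    (hle : U' ≤ q ⁻¹ᵁ U)
    (e : uh.gradedAt U hU U' hU' hle (restrictTop 𝒮h z U) = restrictTop 𝒮h' z' U') :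
    (hz'.awayZToBase U' hU').comp (awayMapE (uh.gradedAt U hU U' hU' hle) e) =
      (u.appLE U U' hle).hom.comp (hz.awayZToBase U hU) := by
  ext t
  obtain ⟨k, x, hx, rfl⟩ := Away.mk_surjective (𝒮h.deg U hU) (hz.deg_z U hU) t
  rw [RingHom.comp_apply, RingHom.comp_apply, awayMapE_mk _ e (hz.deg_z U hU) (hz'.deg_z U' hU'),
    awayZToBase_mk, awayZToBase_mk]
  exact evalOne_uh hz hz' huh huhz U hU U' hU' hle x

end

end Groth.Agent.Helper1.CN
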