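import Mathlib
import Groth.Agent.Helper1.CN5

/-!
# Naturality of projective cones, part 6: the square `Φ̂ ∘ i' = i ∘ Spec(φ)`
-/

set_option autoImplicit false
set_option linter.style.haveILetI false

namespace Groth.Agent.Helper1.CN

open CategoryTheory Limits AlgebraicGeometry TopologicalSpace Opposite RelProj RelCone
  HomogeneousLocalization Groth.Agent.Helper1.RP Groth.Agent.Helper1.SQ Groth.Agent.Helper1.PC
open scoped HomogeneousIdeal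

universe u

noncomputable section

variable {Y Y' PC PC' : Scheme.{u}} {q : Y' ⟶ Y} {𝒮 : QCGrAlg Y} {𝒮' : QCGrAlg Y'}
  {u : QGrHom q 𝒮 𝒮'} {𝒮h : QCGrAlg Y} {ι : 𝒮.toQCAlg ⟶ 𝒮h.toQCAlg}
  {z : 𝒮h.presheaf.obj (op ⊤)} (hz : IsPolyOver 𝒮 𝒮h ι z)
  {𝒮h' : QCGrAlg Y'} {ι' : 𝒮'.toQCAlg ⟶ 𝒮h'.toQCAlg} {z' : 𝒮h'.presheaf.obj (op ⊤)}
  (hz' : IsPolyOver 𝒮' 𝒮h' ι' z')
  {uh : QGrHom q 𝒮h 𝒮h'}
  {pC : PC ⟶ Y}
  {chartC : ∀ (U : Y.Opens) (hU : IsAffineOpen U),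
    (((pC ⁻¹ᵁ U : PC.Opens) : Scheme.{u}) ≅ Proj (𝒮h.deg U hU))}
  {pC' : PC' ⟶ Y'}
  {chartC' : ∀ (U : Y'.Opens) (hU : IsAffineOpen U),
    (((pC' ⁻¹ᵁ U : PC'.Opens) : Scheme.{u}) ≅ Proj (𝒮h'.deg U hU))}

include hz in
/-- `i'(C') ⊆ G(φ̂)` -/
theorem range_coneImm_subset_domQ
    (huhz : (uh.app ⊤).hom z = restrictTop 𝒮h' z' (q ⁻¹ᵁ ⊤))
    {i' : 𝒮'.toQCAlg.spec ⟶ PC'} (hi' : IsConeImm 𝒮' hz' pC' chartC' i') :
    Set.range i' ⊆ ((domQ uh pC' chartC' : PC'.Opens) : Set PC') := by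
  rintro _ ⟨c', rfl⟩
  obtain ⟨U, hU, U', hU', hle, hc'⟩ := exists_pair (g := q) (𝒮'.toQCAlg.π c')
  obtain ⟨v₀, rfl⟩ := exists_ι_of_mem 𝒮'.toQCAlg c' U' hU' hc'
  rw [coneImm_apply hz' hi']
  apply mem_domQ_of_mem_domOpen U hU U' hU' hle
  rw [mem_domOpen_iff_homog]
  refine ⟨1, one_pos, restrictTop 𝒮h z U, hz.deg_z U hU, ?_⟩
  rw [uh_z huhz, ← Proj.opensRange_awayι _ _ (hz'.deg_z U' hU') one_pos]
  exact ⟨_, rfl⟩

/-- the square `Φ̂ ∘ i' = i ∘ Spec(φ)` -/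
theorem coneImm_natural
    (huh : ∀ U : Y.Opens, ι.hom.app (op U) ≫ uh.app U = u.app U ≫ ι'.hom.app (op (q ⁻¹ᵁ U)))
    (huhz : (uh.app ⊤).hom z = restrictTop 𝒮h' z' (q ⁻¹ᵁ ⊤))
    {Φh : ((domQ uh pC' chartC' : PC'.Opens) : Scheme.{u}) ⟶ PC}
    (hΦh : IsProjQMapOn uh pC chartC pC' chartC' (domQ uh pC' chartC') Φh)
    {Φc : 𝒮'.toQCAlg.spec ⟶ 𝒮.toQCAlg.spec} (hΦc : RelSpec.IsSpecQMap u.toQHom Φc)
    {i : 𝒮.toQCAlg.spec ⟶ PC} (hi : IsConeImm 𝒮 hz pC chartC i)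
    {i' : 𝒮'.toQCAlg.spec ⟶ PC'} (hi' : IsConeImm 𝒮' hz' pC' chartC' i')
    (i'' : 𝒮'.toQCAlg.spec ⟶ ((domQ uh pC' chartC' : PC'.Opens) : Scheme.{u}))
    (hi'' : i'' ≫ (domQ uh pC' chartC').ι = i') : i'' ≫ Φh = Φc ≫ i := by
  apply hom_ext_of_charts
  intro c'
  obtain ⟨U, hU, U', hU', hle, hc'⟩ := exists_pair (g := q) (𝒮'.toQCAlg.π c')
  obtain ⟨v₀, hv₀⟩ := exists_ι_of_mem 𝒮'.toQCAlg c' U' hU' hc'
  refine ⟨_, 𝒮'.toQCAlg.ι U' hU', inferInstance, ⟨v₀, hv₀⟩, ?_⟩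
  have e := uh_z (uh := uh) huhz U hU U' hU' hle
  have hf := hz.deg_z U hU
  have hb := hz'.deg_z U' hU'
  have h1 := range_flex_subset (u := uh) (p' := pC') (chart' := chartC') U hU U' hU' hle one_pos
    (restrictTop 𝒮h z U) hf _ e hb
  have hc := IsOpenImmersion.lift_fac (domQ uh pC' chartC').ι _ h1
  have h2 := flex_chart hΦh U hU U' hU' hle one_pos (restrictTop 𝒮h z U) hf _ e hb _ hc
  have hA : 𝒮'.toQCAlg.ι U' hU' ≫ i'' =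
      Spec.map (CommRingCat.ofHom (hz'.awayZToBase U' hU')) ≫
        IsOpenImmersion.lift (domQ uh pC' chartC').ι _ h1 := by
    rw [← cancel_mono (domQ uh pC' chartC').ι, Category.assoc, hi'', Category.assoc, hc]
    exact hi' U' hU'
  rw [← Category.assoc, hA, Category.assoc, h2, ← Category.assoc (𝒮'.toQCAlg.ι U' hU'),
    hΦc U hU U' hU' hle, Category.assoc, hi U hU, ← Spec.map_comp_assoc, ← Spec.map_comp_assoc]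
  congr 2
  rw [← CommRingCat.ofHom_comp]
  have h3 := awayZToBase_natural hz hz' huh huhz U hU U' hU' hle e
  rw [h3]
  rfl

end

end Groth.Agent.Helper1.CN
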