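import Mathlib
import Groth.Agent.Helper1.PC8

/-!
# The canonical morphism `C → Ĉ`, part 1: ring level
-/

set_option autoImplicit false
set_option linter.style.haveILetI false

namespace Groth.Agent.Helper1.CZ

open CategoryTheory Limits AlgebraicGeometry TopologicalSpace Opposite RelProj RelCone
  HomogeneousLocalization DirectSum Groth.Agent.Helper1.RP Groth.Agent.Helper1.PC
open scoped HomogeneousIdeal

universe u

noncomputable section

section ring

variable {A σ : Type u} [CommRing A] [SetLike σ A] [AddSubgroupClass σ A] {𝒜 : ℕ → σ}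
  [GradedRing 𝒜]
variable {B τ : Type u} [CommRing B] [SetLike τ B] [AddSubgroupClass τ B] {ℬ : ℕ → τ}
  [GradedRing ℬ]

/-- `Away.map` with a prescribed target element -/
def awayMapEq (g : 𝒜 →+*ᵍ ℬ) {f : A} {x : B} (hx : g f = x) : Away 𝒜 f →+* Away ℬ x :=
  hx ▸ Away.map g f

theorem awayMapEq_mk (g : 𝒜 →+*ᵍ ℬ) {f : A} {x : B} (hx : g f = x) {d : ℕ} (hf : f ∈ 𝒜 d)
    (hx' : x ∈ ℬ d) (n : ℕ) (a : A) (ha : a ∈ 𝒜 (n • d)) :
    awayMapEq g hx (Away.mk 𝒜 hf n a ha) = Away.mk ℬ hx' n (g a) (g.map_mem ha) := by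
  subst hx
  exact Away.map_mk g f hf n a ha

@[reassoc] theorem awayι_comp_map_eq (g : 𝒜 →+*ᵍ ℬ) (hg : ℬ₊ ≤ 𝒜₊.map g) {f : A} {x : B} (hx : g f = x)
    {i : ℕ} (hi : 0 < i) (hf : f ∈ 𝒜 i) (hx' : x ∈ ℬ i) :
    Proj.awayι ℬ x hx' hi ≫ Proj.map g hg =
      Spec.map (CommRingCat.ofHom (awayMapEq g hx)) ≫ Proj.awayι 𝒜 f hf hi := by
  subst hx
  exact Proj.awayι_comp_map g hg hi f hf

end ring

variable {Y : Scheme.{u}} {𝒮 𝒮h : QCGrAlg Y} {ι : 𝒮.toQCAlg ⟶ 𝒮h.toQCAlg}
  {z : 𝒮h.presheaf.obj (op ⊤)} (h : IsPolyOver 𝒮 𝒮h ι z) (U : Y.Opens) (hU : IsAffineOpen U)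

/-- the elements `ι(x)/z^k`, `x ∈ 𝒮(U)_k` -/
def gen (k : ℕ) (x : 𝒮.presheaf.obj (op U)) (hx : x ∈ 𝒮.deg U hU k) :
    Away (𝒮h.deg U hU) (restrictTop 𝒮h z U) :=
  Away.mk (𝒮h.deg U hU) (h.deg_z U hU) k ((ι.hom.app (op U)).hom x)
    (by rw [smul_eq_mul, mul_one]; exact h.graded U hU k x hx)

theorem val_gen (k : ℕ) (x : 𝒮.presheaf.obj (op U)) (hx : x ∈ 𝒮.deg U hU k) :
    (gen h U hU k x hx).val = Localization.mk ((ι.hom.app (op U)).hom x)
      ⟨restrictTop 𝒮h z U ^ k, pow_mem (Submonoid.mem_powers (restrictTop 𝒮h z U)) k⟩ :=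
  Away.val_mk _ _ _ _ _

/-- every element of `𝒮h(U)_(z)` is a sum of elements `ι(x)/z^k` -/
theorem mem_closure_gen (q : Away (𝒮h.deg U hU) (restrictTop 𝒮h z U)) :
    q ∈ AddSubmonoid.closure
      {q' | ∃ (k : ℕ) (x : 𝒮.presheaf.obj (op U)) (hx : x ∈ 𝒮.deg U hU k),
        q' = gen h U hU k x hx} := by
  obtain ⟨k, x, hx, rfl⟩ := Away.mk_surjective (𝒮h.deg U hU) (h.deg_z U hU) q
  have hx' : x ∈ 𝒮h.deg U hU k := by
    rw [smul_eq_mul, mul_one] at hx; exact hx
  obtain ⟨P, hP⟩ := (h.bij U hU).2 x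
  have hP' : Polynomial.eval₂ ((gradedHomAt ι h.graded U hU : 𝒮.deg U hU →+*ᵍ 𝒮h.deg U hU) :
      𝒮.presheaf.obj (op U) →+* 𝒮h.presheaf.obj (op U)) (restrictTop 𝒮h z U) P = x := hP
  have hmem : Polynomial.eval₂ ((gradedHomAt ι h.graded U hU : 𝒮.deg U hU →+*ᵍ 𝒮h.deg U hU) :
      𝒮.presheaf.obj (op U) →+* 𝒮h.presheaf.obj (op U)) (restrictTop 𝒮h z U) P ∈
      𝒮h.deg U hU k := by rw [hP']; exact hx'
  have hsum := eq_sum_of_mem (gradedHomAt ι h.graded U hU) (restrictTop 𝒮h z U)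
    (h.deg_z U hU) P hmem
  rw [hP'] at hsum
  -- the sum of generators
  have key : Away.mk (𝒮h.deg U hU) (h.deg_z U hU) k x hx =
      ∑ j ∈ Finset.range (k + 1), gen h U hU (k - j)
        (GradedRing.proj (𝒮.deg U hU) (k - j) (P.coeff j)) (SetLike.coe_mem _) := by
    apply HomogeneousLocalization.val_injective
    rw [Away.val_mk]
    have hv : ∀ (s : Finset ℕ) (F : ℕ → Away (𝒮h.deg U hU) (restrictTop 𝒮h z U)),
        (∑ j ∈ s, F j).val = ∑ j ∈ s, (F j).val := by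
      intro s F
      induction s using Finset.induction_on with
      | empty => simp
      | insert a s ha ih => rw [Finset.sum_insert ha, Finset.sum_insert ha, val_add, ih]
    rw [hv]
    conv_lhs => rw [hsum]
    have hmk : ∀ (s : Finset ℕ) (F : ℕ → 𝒮h.presheaf.obj (op U))
        (d : Submonoid.powers (restrictTop 𝒮h z U)),
        Localization.mk (∑ j ∈ s, F j) d = ∑ j ∈ s, Localization.mk (F j) d := by
      intro s F d
      induction s using Finset.induction_on with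
      | empty => simp [Localization.mk_zero]
      | insert a s ha ih =>
        rw [Finset.sum_insert ha, Finset.sum_insert ha, ← ih, Localization.add_mk_self]
    rw [hmk]
    apply Finset.sum_congr rfl
    intro j hj
    rw [Finset.mem_range] at hj
    rw [val_gen, Localization.mk_eq_mk_iff, Localization.r_iff_exists]
    refine ⟨1, ?_⟩
    simp only [OneMemClass.coe_one, one_mul]
    show restrictTop 𝒮h z U ^ (k - j) * _ = restrictTop 𝒮h z U ^ k * _
    have : restrictTop 𝒮h z U ^ k = restrictTop 𝒮h z U ^ (k - j) * restrictTop 𝒮h z U ^ j := by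
      rw [← pow_add]; congr 1; omega
    rw [this]
    show _ = _ * (ι.hom.app (op U)).hom _
    have e : (gradedHomAt ι h.graded U hU) (GradedRing.proj (𝒮.deg U hU) (k - j) (P.coeff j)) =
      (ι.hom.app (op U)).hom (GradedRing.proj (𝒮.deg U hU) (k - j) (P.coeff j)) := rfl
    rw [e]
    ring
  rw [key]
  apply AddSubmonoid.sum_mem
  intro j _
  exact AddSubmonoid.subset_closure ⟨_, _, _, rfl⟩

/-- two additive maps out of `𝒮h(U)_(z)` agreeing on the `ι(x)/z^k` are equal -/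
theorem away_hom_ext {R : Type*} [Semiring R]
    (f g : Away (𝒮h.deg U hU) (restrictTop 𝒮h z U) →+* R)
    (hfg : ∀ (k : ℕ) (x : 𝒮.presheaf.obj (op U)) (hx : x ∈ 𝒮.deg U hU k),
      f (gen h U hU k x hx) = g (gen h U hU k x hx)) : f = g := by
  ext q
  have := mem_closure_gen h U hU q
  induction this using AddSubmonoid.closure_induction with
  | mem q hq =>
    obtain ⟨k, x, hx, rfl⟩ := hq
    exact hfg k x hx
  | zero => rw [map_zero, map_zero]
  | add a b _ _ ha hb => rw [map_add, map_add, ha, hb]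

theorem awayZToBase_gen (k : ℕ) (x : 𝒮.presheaf.obj (op U)) (hx : x ∈ 𝒮.deg U hU k) :
    h.awayZToBase U hU (gen h U hU k x hx) = x := by
  rw [h.awayZToBase_of_val U hU _ _ k (val_gen h U hU k x hx), IsPolyOver.evalOne_ι]

/-- a homomorphism with the computation rule of the statement is `awayZToBase` -/
theorem eq_awayZToBase
    (θ : CommRingCat.of (Away (𝒮h.deg U hU) (restrictTop 𝒮h z U)) ⟶ 𝒮.presheaf.obj (op U))
    (hθ : ∀ (q : Away (𝒮h.deg U hU) (restrictTop 𝒮h z U))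
      (k : ℕ) (x : 𝒮.presheaf.obj (op U)), x ∈ 𝒮.deg U hU k →
        q.val = Localization.mk ((ι.hom.app (op U)).hom x)
          ⟨restrictTop 𝒮h z U ^ k, pow_mem (Submonoid.mem_powers (restrictTop 𝒮h z U)) k⟩ →
        θ.hom q = x) :
    θ = CommRingCat.ofHom (h.awayZToBase U hU) := by
  apply CommRingCat.hom_ext
  apply away_hom_ext h U hU
  intro k x hx
  rw [hθ _ k x hx (val_gen h U hU k x hx)]
  exact (awayZToBase_gen h U hU k x hx).symm

end

end Groth.Agent.Helper1.CZ
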