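import Mathlib
import Groth.Agent.Helper1.CZ1
import Groth.Agent.Helper1.RP13

/-!
# The canonical morphism `C → Ĉ`, part 2: existence (gluing over the affine opens)
-/

set_option autoImplicit false
set_option linter.style.haveILetI false

namespace Groth.Agent.Helper1.CZ

open CategoryTheory Limits AlgebraicGeometry TopologicalSpace Opposite RelProj RelCone
  HomogeneousLocalization DirectSum Groth.Agent.Helper1.RP Groth.Agent.Helper1.PC
open scoped HomogeneousIdeal

universe u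

noncomputable section

section ring

variable {A σ : Type u} [CommRing A] [SetLike σ A] [AddSubgroupClass σ A] {𝒜 : ℕ → σ}
  [GradedRing 𝒜]

theorem away_mk_congr {f : A} {d : ℕ} (hf : f ∈ 𝒜 d) (n : ℕ) {a a' : A} (e : a = a')
    (ha : a ∈ 𝒜 (n • d)) (ha' : a' ∈ 𝒜 (n • d)) :
    Away.mk 𝒜 hf n a ha = Away.mk 𝒜 hf n a' ha' := by
  subst e; rfl

end ring

variable {Y PC : Scheme.{u}} {𝒮 𝒮h : QCGrAlg Y} {ι : 𝒮.toQCAlg ⟶ 𝒮h.toQCAlg}
  {z : 𝒮h.presheaf.obj (op ⊤)} (hz : IsPolyOver 𝒮 𝒮h ι z)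
  {pC : PC ⟶ Y}
  {chartC : ∀ (U : Y.Opens) (hU : IsAffineOpen U),
    (((pC ⁻¹ᵁ U : PC.Opens) : Scheme.{u}) ≅ Proj (𝒮h.deg U hU))}

theorem ι_res_apply {U V : Y.Opens} (i : V ≤ U) (x : 𝒮.presheaf.obj (op U)) :
    (𝒮h.presheaf.map (homOfLE i).op).hom ((ι.hom.app (op U)).hom x) =
      (ι.hom.app (op V)).hom ((𝒮.presheaf.map (homOfLE i).op).hom x) := by
  have := congrArg (fun t => t.hom x) (ι.hom.naturality (homOfLE i).op)
  exact this.symm

theorem restrictTop_res {U V : Y.Opens} (hU : IsAffineOpen U) (hV : IsAffineOpen V) (i : V ≤ U) :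
    𝒮h.res hU hV i (restrictTop 𝒮h z U) = restrictTop 𝒮h z V :=
  res_resTop z hU hV i

/-- `awayZToBase` is compatible with restriction -/
theorem res_awayZToBase {U V : Y.Opens} (hU : IsAffineOpen U) (hV : IsAffineOpen V) (i : V ≤ U) :
    (𝒮.presheaf.map (homOfLE i).op).hom.comp (hz.awayZToBase U hU) =
      (hz.awayZToBase V hV).comp (awayMapEq (𝒮h.res hU hV i) (restrictTop_res hU hV i)) := by
  apply away_hom_ext hz U hU
  intro k x hx
  rw [RingHom.comp_apply, RingHom.comp_apply, awayZToBase_gen]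
  unfold gen
  rw [awayMapEq_mk (𝒮h.res hU hV i) (restrictTop_res hU hV i) (hz.deg_z U hU) (hz.deg_z V hV)]
  have hx' : (𝒮.presheaf.map (homOfLE i).op).hom x ∈ 𝒮.deg V hV k := 𝒮.map_mem hU hV i hx
  have e : (𝒮h.res hU hV i) ((ι.hom.app (op U)).hom x) =
      (ι.hom.app (op V)).hom ((𝒮.presheaf.map (homOfLE i).op).hom x) := ι_res_apply i x
  rw [away_mk_congr (hz.deg_z V hV) k e _
    (by rw [smul_eq_mul, mul_one]; exact hz.graded V hV k _ hx')]
  exact (awayZToBase_gen hz V hV k _ hx').symm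

variable (pC chartC) in
/-- the chart-level morphism `Spec 𝒮(U) → Ĉ` -/
def chartMor (U : Y.Opens) (hU : IsAffineOpen U) : Spec (𝒮.presheaf.obj (op U)) ⟶ PC :=
  Spec.map (CommRingCat.ofHom (hz.awayZToBase U hU)) ≫
    Proj.awayι (𝒮h.deg U hU) (restrictTop 𝒮h z U) (hz.deg_z U hU) one_pos ≫ emb pC chartC U hU

theorem chartMor_res (hPC : IsRelProj 𝒮h pC chartC) (U : Y.Opens) (hU : IsAffineOpen U)
    (r : Γ(Y, U)) :
    Spec.map (𝒮.presheaf.map (homOfLE (Y.basicOpen_le r)).op) ≫ chartMor hz pC chartC U hU =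
      chartMor hz pC chartC (Y.basicOpen r) (hU.basicOpen r) := by
  unfold chartMor
  rw [← map_res_emb hPC U hU r]
  rw [awayι_comp_map_eq_assoc (𝒮h.res hU (hU.basicOpen r) (Y.basicOpen_le r))
    (𝒮h.irrelevant_le_map U hU r) (restrictTop_res hU (hU.basicOpen r) (Y.basicOpen_le r))
    one_pos (hz.deg_z U hU) (hz.deg_z _ (hU.basicOpen r))]
  rw [← Spec.map_comp_assoc, ← Spec.map_comp_assoc]
  congr 2
  apply CommRingCat.hom_ext
  exact res_awayZToBase hz hU (hU.basicOpen r) (Y.basicOpen_le r)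

/-- the canonical morphism from the affine cone to the projective cone -/
def coneImm (hPC : IsRelProj 𝒮h pC chartC) : 𝒮.toQCAlg.spec ⟶ PC :=
  colimit.desc 𝒮.toQCAlg.glueData.functor
    { pt := PC
      ι :=
        { app := fun U => chartMor hz pC chartC U.1 U.2
          naturality := by
            rintro ⟨V, hV⟩ ⟨U, hU⟩ g
            obtain ⟨r, hr⟩ := g.le
            change Y.basicOpen r = V at hr
            subst hr
            erw [Category.comp_id]
            exact chartMor_res hz hPC U hU r } }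

theorem ι_coneImm (hPC : IsRelProj 𝒮h pC chartC) (U : Y.Opens) (hU : IsAffineOpen U) :
    𝒮.toQCAlg.ι U hU ≫ coneImm hz hPC = chartMor hz pC chartC U hU :=
  colimit.ι_desc _ _

theorem isConeImm_coneImm (hPC : IsRelProj 𝒮h pC chartC) :
    IsConeImm 𝒮 hz pC chartC (coneImm hz hPC) := fun U hU => ι_coneImm hz hPC U hU

end

end Groth.Agent.Helper1.CZ
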