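import Mathlib

/-!
# The canonical morphism `C → Ĉ`, part 3: `D_+(z) ⊆ Proj` is schematically dense when `z` is a
non-zero-divisor (section level)
-/

set_option autoImplicit false
set_option linter.style.haveILetI false

namespace Groth.Agent.Helper1.CZ

open CategoryTheory Limits AlgebraicGeometry TopologicalSpace Opposite
  HomogeneousLocalization
open scoped HomogeneousIdeal

universe u

noncomputable section

section general

theorem specMap_app_injective {R S : CommRingCat.{u}} (φ : R ⟶ S)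
    (hφ : Function.Injective φ.hom) (W : (Spec R).Opens) (hW : W = ⊤) :
    Function.Injective ((Spec.map φ).app W).hom := by
  subst hW
  have h1 : (Spec.map φ).appTop =
      (Scheme.ΓSpecIso R).hom ≫ φ ≫ (Scheme.ΓSpecIso S).inv := by
    rw [← Category.assoc, Iso.eq_comp_inv]
    exact Scheme.ΓSpecIso_naturality φ
  show Function.Injective ((Spec.map φ).appTop).hom
  rw [h1]
  have h2 : Function.Injective (Scheme.ΓSpecIso R).hom.hom :=
    ((ConcreteCategory.isIso_iff_bijective (Scheme.ΓSpecIso R).hom).mp inferInstance).1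
  have h3 : Function.Injective (Scheme.ΓSpecIso S).inv.hom :=
    ((ConcreteCategory.isIso_iff_bijective (Scheme.ΓSpecIso S).inv).mp inferInstance).1
  simp only [CommRingCat.hom_comp, RingHom.coe_comp]
  exact h3.comp (hφ.comp h2)

theorem app_injective_of_isIso {X Z : Scheme.{u}} (f : X ⟶ Z) [IsIso f] (W : Z.Opens) :
    Function.Injective (f.app W).hom :=
  ((ConcreteCategory.isIso_iff_bijective (f.app W)).mp inferInstance).1

theorem app_injective_of_le_opensRange {X Z : Scheme.{u}} (f : X ⟶ Z) [IsOpenImmersion f]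
    (W : Z.Opens) (hW : W ≤ f.opensRange) : Function.Injective (f.app W).hom := by
  haveI := Scheme.Hom.isIso_app f W hW
  exact ((ConcreteCategory.isIso_iff_bijective (f.app W)).mp inferInstance).1

end general

variable {A σ : Type u} [CommRing A] [SetLike σ A] [AddSubgroupClass σ A] {𝒜 : ℕ → σ}
  [GradedRing 𝒜]

theorem awayι_congr_deg {f : A} {d d' : ℕ} (e : d = d') (hf : f ∈ 𝒜 d) (hf' : f ∈ 𝒜 d')
    (hd : 0 < d) (hd' : 0 < d') : Proj.awayι 𝒜 f hf hd = Proj.awayι 𝒜 f hf' hd' := by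
  subst e; rfl

theorem pow_mul_eq_zero {g : A} (hnzd : ∀ y : A, g * y = 0 → y = 0) (n : ℕ) (y : A)
    (h : g ^ n * y = 0) : y = 0 := by
  induction n with
  | zero => simpa using h
  | succ n ih =>
    apply ih
    apply hnzd
    rw [← mul_assoc, ← pow_succ']
    exact h

theorem awayMap_injective {f g x : A} {d e : ℕ} (hf : f ∈ 𝒜 d) (hg : g ∈ 𝒜 e) (hx : x = f * g)
    (hnzd : ∀ y : A, g * y = 0 → y = 0) : Function.Injective (awayMap 𝒜 hg hx) := by
  rw [injective_iff_map_eq_zero]
  intro q hq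
  obtain ⟨n, a, ha, rfl⟩ := Away.mk_surjective 𝒜 hf q
  rw [awayMap_mk 𝒜 hg hx n hf a ha] at hq
  have h1 := congrArg HomogeneousLocalization.val hq
  rw [Away.val_mk, HomogeneousLocalization.val_zero, Localization.mk_eq_mk',
    IsLocalization.mk'_eq_zero_iff] at h1
  obtain ⟨⟨_, m, rfl⟩, hm⟩ := h1
  have hm' : g ^ (m + n) * (f ^ m * a) = 0 := by
    have : x ^ m * (a * g ^ n) = 0 := hm
    rw [hx] at this
    rw [← this]
    ring
  have h2 := pow_mul_eq_zero hnzd _ _ hm'
  apply HomogeneousLocalization.val_injective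
  rw [Away.val_mk, HomogeneousLocalization.val_zero, Localization.mk_eq_mk',
    IsLocalization.mk'_eq_zero_iff]
  exact ⟨⟨f ^ m, m, rfl⟩, h2⟩

/-- for a non-zero-divisor `z` the sections of `Proj` over `D_+(f)` inject into those over
`D_+(f) ∩ D_+(z)` -/
theorem awayι_app_injective {z f : A} {m d : ℕ} (hz : z ∈ 𝒜 m) (hm : 0 < m) (hf : f ∈ 𝒜 d)
    (hd : 0 < d) (hnzd : ∀ y : A, z * y = 0 → y = 0)
    (V : (Proj 𝒜).Opens) (hV : V = Proj.basicOpen 𝒜 f) :
    Function.Injective ((Proj.awayι 𝒜 z hz hm).app V).hom := by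
  subst hV
  have hk1 := Proj.SpecMap_awayMap_awayι 𝒜 hf hd hz (rfl : f * z = f * z)
  have hk2 := Proj.SpecMap_awayMap_awayι 𝒜 hz hm hf (mul_comm f z : f * z = z * f)
  rw [awayι_congr_deg (Nat.add_comm m d) _
    ((rfl : f * z = f * z) ▸ SetLike.mul_mem_graded hf hz) _
    (hd.trans_le (d.le_add_right m)), ← hk1] at hk2
  have H : Function.Injective
      ((Spec.map (CommRingCat.ofHom (awayMap 𝒜 hf (mul_comm f z : f * z = z * f))) ≫
        Proj.awayι 𝒜 z hz hm).app (Proj.basicOpen 𝒜 f)).hom := by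
    rw [hk2, Scheme.Hom.comp_app]
    refine Function.Injective.comp
      (g := ((Spec.map (CommRingCat.ofHom (awayMap 𝒜 hz (rfl : f * z = f * z)))).app
        (Proj.awayι 𝒜 f hf hd ⁻¹ᵁ Proj.basicOpen 𝒜 f)).hom)
      (f := ((Proj.awayι 𝒜 f hf hd).app (Proj.basicOpen 𝒜 f)).hom) ?_ ?_
    · apply specMap_app_injective
      · exact awayMap_injective hf hz rfl hnzd
      · rw [← Proj.opensRange_awayι 𝒜 f hf hd, Scheme.Hom.preimage_opensRange]
    · apply app_injective_of_le_opensRange
      rw [Proj.opensRange_awayι]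
  rw [Scheme.Hom.comp_app] at H
  exact Function.Injective.of_comp
    (f := ((Spec.map (CommRingCat.ofHom (awayMap 𝒜 hf (mul_comm f z : f * z = z * f)))).app
        (Proj.awayι 𝒜 z hz hm ⁻¹ᵁ Proj.basicOpen 𝒜 f)).hom)
    (g := ((Proj.awayι 𝒜 z hz hm).app (Proj.basicOpen 𝒜 f)).hom) H

end

end Groth.Agent.Helper1.CZ
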