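import Mathlib
import Groth.Agent.Helper1.CZ2
import Groth.Agent.Helper1.CZ3
import Groth.Agent.Helper5.RelProjSep

/-!
# The canonical morphism `C → Ĉ`, part 4: open immersion, affine, image, kernel
-/

set_option autoImplicit false
set_option linter.style.haveILetI false

namespace Groth.Agent.Helper1.CZ

open CategoryTheory Limits AlgebraicGeometry TopologicalSpace Opposite RelProj RelCone
  HomogeneousLocalization DirectSum Groth.Agent.Helper1.RP Groth.Agent.Helper1.PC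
open scoped HomogeneousIdeal

universe u

noncomputable section

section general

/-- a morphism injective on points which is an open immersion on charts is an open immersion -/
theorem isOpenImmersion_of_charts {X Z : Scheme.{u}} (f : X ⟶ Z)
    (hinj : Function.Injective f)
    (h : ∀ x : X, ∃ (V : Scheme.{u}) (j : V ⟶ X) (_ : IsOpenImmersion j),
      x ∈ Set.range j ∧ IsOpenImmersion (j ≫ f)) : IsOpenImmersion f := by
  have hopen : IsOpenMap f := by
    intro W hW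
    rw [isOpen_iff_forall_mem_open]
    rintro _ ⟨x, hxW, rfl⟩
    obtain ⟨V, j, hj, ⟨v, rfl⟩, hjf⟩ := h x
    refine ⟨(j ≫ f) '' (j ⁻¹' W), ?_, ?_, ?_⟩
    · rintro _ ⟨v', hv', rfl⟩
      exact ⟨j v', hv', by rw [Scheme.Hom.comp_apply]⟩
    · exact (j ≫ f).isOpenEmbedding.isOpenMap _ (hW.preimage j.continuous)
    · exact ⟨v, hxW, by rw [Scheme.Hom.comp_apply]⟩
  have hemb : Topology.IsOpenEmbedding f :=
    Topology.IsOpenEmbedding.of_continuous_injective_isOpenMap f.continuous hinj hopen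
  haveI : ∀ x, IsIso (f.stalkMap x) := by
    intro x
    obtain ⟨V, j, hj, ⟨v, rfl⟩, hjf⟩ := h x
    have h1 : IsIso ((j ≫ f).stalkMap v) := inferInstance
    rw [Scheme.Hom.stalkMap_comp] at h1
    exact @IsIso.of_isIso_comp_right _ _ _ _ _ (f.stalkMap (j v)) (j.stalkMap v) inferInstance h1
  exact IsOpenImmersion.of_isIso_stalkMap f hemb

end general

variable {Y PC : Scheme.{u}} {𝒮 𝒮h : QCGrAlg Y} {ι : 𝒮.toQCAlg ⟶ 𝒮h.toQCAlg}
  {z : 𝒮h.presheaf.obj (op ⊤)} (hz : IsPolyOver 𝒮 𝒮h ι z)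
  {pC : PC ⟶ Y}
  {chartC : ∀ (U : Y.Opens) (hU : IsAffineOpen U),
    (((pC ⁻¹ᵁ U : PC.Opens) : Scheme.{u}) ≅ Proj (𝒮h.deg U hU))}

include hz in
/-- `z` is a non-zero-divisor of `𝒮[z]` -/
theorem z_nzd (U : Y.Opens) (hU : IsAffineOpen U) (y : 𝒮h.presheaf.obj (op U))
    (h : restrictTop 𝒮h z U * y = 0) : y = 0 := by
  obtain ⟨P, rfl⟩ := (hz.polyEquiv U hU).surjective y
  have e : hz.polyEquiv U hU Polynomial.X = restrictTop 𝒮h z U := by
    rw [IsPolyOver.polyEquiv_apply, Polynomial.eval₂_X]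
  rw [← e, ← map_mul] at h
  have h1 : Polynomial.X * P = 0 := (hz.polyEquiv U hU).injective (h.trans (map_zero _).symm)
  have h2 : P = 0 := by
    ext n
    have := congrArg (fun Q => Polynomial.coeff Q (n + 1)) h1
    simpa [Polynomial.coeff_X_mul] using this
  rw [h2, map_zero]

instance isIso_specMap_awayZToBase (U : Y.Opens) (hU : IsAffineOpen U) :
    IsIso (Spec.map (CommRingCat.ofHom (hz.awayZToBase U hU))) := by
  haveI : IsIso (CommRingCat.ofHom (hz.awayZToBase U hU)) :=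
    (ConcreteCategory.isIso_iff_bijective _).mpr (awayZToBase_bijective hz U hU)
  infer_instance

instance isOpenImmersion_chartMor (U : Y.Opens) (hU : IsAffineOpen U) :
    IsOpenImmersion (chartMor hz pC chartC U hU) := by
  unfold chartMor
  infer_instance

variable {i : 𝒮.toQCAlg.spec ⟶ PC}

theorem ι_comp_eq_chartMor (hi : IsConeImm 𝒮 hz pC chartC i) (U : Y.Opens) (hU : IsAffineOpen U) :
    𝒮.toQCAlg.ι U hU ≫ i = chartMor hz pC chartC U hU := hi U hU

theorem coneImm_injective (hPC : IsRelProj 𝒮h pC chartC) (hi : IsConeImm 𝒮 hz pC chartC i) :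
    Function.Injective i := by
  intro x x' hxx'
  have hπ : ∀ c, 𝒮.toQCAlg.π c = pC (i c) := by
    intro c
    have := congrArg (fun t : _ ⟶ Y => t c) (coneImm_comm hz hPC hi)
    exact this.symm
  obtain ⟨_, ⟨U, hU, rfl⟩, hxU, -⟩ :=
    Y.isBasis_affineOpens.exists_subset_of_mem_open (Set.mem_univ (𝒮.toQCAlg.π x)) isOpen_univ
  have hx'U : 𝒮.toQCAlg.π x' ∈ U := by
    rw [hπ, ← hxx', ← hπ]; exact hxU
  obtain ⟨v, rfl⟩ := exists_ι_of_mem 𝒮.toQCAlg x U hU hxU
  obtain ⟨v', rfl⟩ := exists_ι_of_mem 𝒮.toQCAlg x' U hU hx'U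
  rw [← Scheme.Hom.comp_apply, ← Scheme.Hom.comp_apply, ι_comp_eq_chartMor hz hi] at hxx'
  rw [(chartMor hz pC chartC U hU).injective hxx']

theorem isOpenImmersion_coneImm (hPC : IsRelProj 𝒮h pC chartC)
    (hi : IsConeImm 𝒮 hz pC chartC i) : IsOpenImmersion i := by
  apply isOpenImmersion_of_charts i (coneImm_injective hz hPC hi)
  intro x
  obtain ⟨U, hU, v, hv⟩ := exists_ι 𝒮.toQCAlg x
  refine ⟨_, 𝒮.toQCAlg.ι U hU, inferInstance, ⟨v, hv⟩, ?_⟩
  rw [ι_comp_eq_chartMor hz hi]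
  infer_instance

theorem isAffineHom_coneImm (hPC : IsRelProj 𝒮h pC chartC)
    (hi : IsConeImm 𝒮 hz pC chartC i) : IsAffineHom i := by
  haveI : IsSeparated pC := Groth.Agent.Helper5.RelProjSep.isSeparated 𝒮h pC chartC hPC
  haveI : IsAffineHom (i ≫ pC) := by
    rw [coneImm_comm hz hPC hi]; infer_instance
  exact MorphismProperty.of_postcomp (W := @IsAffineHom) (W' := @IsSeparated) i pC
    inferInstance inferInstance

theorem range_coneImm (hPC : IsRelProj 𝒮h pC chartC) (hi : IsConeImm 𝒮 hz pC chartC i)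
    (Xz : PC.Opens)
    (hX : ∀ (U : Y.Opens) (hU : IsAffineOpen U),
      Xz ⊓ pC ⁻¹ᵁ U = (pC ⁻¹ᵁ U).ι ''ᵁ ((chartC U hU).hom ⁻¹ᵁ
        Proj.basicOpen (𝒮h.deg U hU) (restrictTop 𝒮h z U))) :
    Set.range i = (Xz : Set PC) := by
  ext y
  obtain ⟨_, ⟨U, hU, rfl⟩, hyU, -⟩ :=
    Y.isBasis_affineOpens.exists_subset_of_mem_open (Set.mem_univ (pC y)) isOpen_univ
  have hy : y ∈ pC ⁻¹ᵁ U := hyU
  have e1 := emb_chart_hom pC chartC U hU y hy
  have h1 : y ∈ Set.range i ↔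
      (chartC U hU).hom ⟨y, hy⟩ ∈ Proj.basicOpen (𝒮h.deg U hU) (restrictTop 𝒮h z U) := by
    rw [← emb_mem_range_coneImm_iff hz hPC hi U hU, e1]
  have h2 : y ∈ (Xz : Set PC) ↔
      (chartC U hU).hom ⟨y, hy⟩ ∈ Proj.basicOpen (𝒮h.deg U hU) (restrictTop 𝒮h z U) := by
    have : y ∈ (Xz : Set PC) ↔ y ∈ Xz ⊓ pC ⁻¹ᵁ U := ⟨fun h => ⟨h, hy⟩, fun h => h.1⟩
    rw [this, hX U hU]
    constructor
    · rintro ⟨t, ht, hty⟩
      have : t = ⟨y, hy⟩ := Subtype.ext hty
      rw [← this]; exact ht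
    · intro h
      exact ⟨⟨y, hy⟩, h, rfl⟩
  rw [h1, h2]

end

end Groth.Agent.Helper1.CZ
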