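import Mathlib
import Groth.Agent.Helper1.CZ4

/-!
# The canonical morphism `C → Ĉ`, part 5: the kernel ideal sheaf is zero
-/

set_option autoImplicit false
set_option linter.style.haveILetI false

namespace Groth.Agent.Helper1.CZ

open CategoryTheory Limits AlgebraicGeometry TopologicalSpace Opposite RelProj RelCone
  HomogeneousLocalization DirectSum Groth.Agent.Helper1.RP Groth.Agent.Helper1.PC
open scoped HomogeneousIdeal

universe u

noncomputable section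

section general

theorem comp_app_injective {X Y Z : Scheme.{u}} (f : X ⟶ Y) (g : Y ⟶ Z) (U : Z.Opens)
    (hg : Function.Injective (g.app U).hom) (hf : Function.Injective (f.app (g ⁻¹ᵁ U)).hom) :
    Function.Injective ((f ≫ g).app U).hom := by
  rw [Scheme.Hom.comp_app]
  exact Function.Injective.comp (g := (f.app (g ⁻¹ᵁ U)).hom) (f := (g.app U).hom) hf hg

theorem app_injective_of_comp {X Y Z : Scheme.{u}} (f : X ⟶ Y) (g : Y ⟶ Z) (U : Z.Opens)
    (h : Function.Injective ((f ≫ g).app U).hom) : Function.Injective (g.app U).hom := by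
  rw [Scheme.Hom.comp_app] at h
  exact Function.Injective.of_comp (f := (f.app (g ⁻¹ᵁ U)).hom) (g := (g.app U).hom) h

end general

variable {Y PC : Scheme.{u}} {𝒮 𝒮h : QCGrAlg Y} {ι : 𝒮.toQCAlg ⟶ 𝒮h.toQCAlg}
  {z : 𝒮h.presheaf.obj (op ⊤)} (hz : IsPolyOver 𝒮 𝒮h ι z)
  {pC : PC ⟶ Y}
  {chartC : ∀ (U : Y.Opens) (hU : IsAffineOpen U),
    (((pC ⁻¹ᵁ U : PC.Opens) : Scheme.{u}) ≅ Proj (𝒮h.deg U hU))}
  {i : 𝒮.toQCAlg.spec ⟶ PC}

theorem coneImm_app_injective (hi : IsConeImm 𝒮 hz pC chartC i) (U : Y.Opens)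
    (hU : IsAffineOpen U) {d : ℕ} (hd : 0 < d) (f : 𝒮h.presheaf.obj (op U))
    (hf : f ∈ 𝒮h.deg U hU d) :
    Function.Injective
      (i.app (emb pC chartC U hU ''ᵁ Proj.basicOpen (𝒮h.deg U hU) f)).hom := by
  apply app_injective_of_comp (𝒮.toQCAlg.ι U hU) i
  rw [hi U hU]
  apply comp_app_injective
  · apply comp_app_injective
    · apply app_injective_of_le_opensRange
      exact Scheme.Hom.image_le_opensRange _ _
    · apply awayι_app_injective (hz.deg_z U hU) one_pos hf hd (z_nzd hz U hU)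
      exact Scheme.Hom.preimage_image_eq _ _
  · exact app_injective_of_isIso _ _

theorem ker_coneImm (hPC : IsRelProj 𝒮h pC chartC) (hi : IsConeImm 𝒮 hz pC chartC i) :
    i.ker = ⊥ := by
  haveI : IsAffineHom i := isAffineHom_coneImm hz hPC hi
  let I := Σ (U : Y.affineOpens), Σ (d : {d : ℕ // 0 < d}), (𝒮h.deg U.1 U.2 d.1)
  let W : I → PC.affineOpens := fun t =>
    ⟨emb pC chartC t.1.1 t.1.2 ''ᵁ Proj.basicOpen (𝒮h.deg t.1.1 t.1.2) (t.2.2 : _),
      (Proj.isAffineOpen_basicOpen (𝒮h.deg t.1.1 t.1.2) _ t.2.2.2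
        t.2.1.2).image_of_isOpenImmersion _⟩
  have hcov : ⨆ t, (W t).1 = ⊤ := by
    rw [eq_top_iff]
    intro y _
    obtain ⟨_, ⟨U, hU, rfl⟩, hyU, -⟩ :=
      Y.isBasis_affineOpens.exists_subset_of_mem_open (Set.mem_univ (pC y)) isOpen_univ
    have hy : y ∈ pC ⁻¹ᵁ U := hyU
    have e1 := emb_chart_hom pC chartC U hU y hy
    obtain ⟨e, he, b, hb, hbw⟩ := exists_homog_notMem ((chartC U hU).hom ⟨y, hy⟩)
    exact Opens.mem_iSup.2 ⟨⟨⟨U, hU⟩, ⟨e, he⟩, ⟨b, hb⟩⟩, ⟨_, hbw, e1⟩⟩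
  apply Scheme.IdealSheafData.ext_of_iSup_eq_top W hcov
  intro t
  rw [Scheme.Hom.ker_apply, Scheme.IdealSheafData.ideal_bot, Pi.bot_apply]
  exact (RingHom.injective_iff_ker_eq_bot _).mp
    (coneImm_app_injective hz hi t.1.1 t.1.2 t.2.1.2 _ t.2.2.2)

end

end Groth.Agent.Helper1.CZ
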