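import Mathlib

set_option autoImplicit false
set_option linter.style.haveILetI false

/-!
# Algebra for top exterior powers of free modules and bases of localizations
-/

namespace Groth.Agent.Helper1.Canon

open Module

universe u

section Loc

variable {R R' M M' ι : Type*} [CommRing R] [CommRing R'] [AddCommGroup M] [Module R M]
  [AddCommGroup M'] [Module R' M'] [Algebra R R']

/-- a basis of a module induces a basis of a "localization away from `f`", given by the
elementary conditions -/
theorem exists_basis_of_localizing (f : R) [IsLocalization.Away f R'] (r : M →+ M')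
    (hr : ∀ (a : R) (m : M), r (a • m) = algebraMap R R' a • r m)
    (hzero : ∀ m : M, r m = 0 → ∃ k : ℕ, f ^ k • m = 0)
    (hsurj : ∀ t : M', ∃ (k : ℕ) (m : M), algebraMap R R' (f ^ k) • t = r m)
    (b : Basis ι R M) : ∃ b' : Basis ι R' M', ∀ i, b' i = r (b i) := by
  letI : Module R M' := Module.compHom M' (algebraMap R R')
  haveI : IsScalarTower R R' M' := by
    refine ⟨fun a c m => ?_⟩
    change (a • c) • m = algebraMap R R' a • (c • m)
    rw [Algebra.smul_def, mul_smul]
  let rl : M →ₗ[R] M' :=
    { toFun := r
      map_add' := r.map_add
      map_smul' := fun a m => hr a m }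
  haveI : IsLocalizedModule.Away f rl := by
    refine IsLocalizedModule.Away.mk_of_addCommGroup ?_ ?_ ?_
    · have hu : IsUnit (algebraMap R R' f) := IsLocalization.Away.algebraMap_isUnit f
      obtain ⟨u, hu⟩ := hu
      refine ⟨⟨algebraMap R (Module.End R M') f,
        { toFun := fun m => (u⁻¹ : R'ˣ).val • m
          map_add' := fun x y => smul_add _ _ _
          map_smul' := fun a m => by
            change (u⁻¹ : R'ˣ).val • (algebraMap R R' a • m) =
              algebraMap R R' a • ((u⁻¹ : R'ˣ).val • m)
            rw [smul_smul, smul_smul, mul_comm] }, ?_, ?_⟩, rfl⟩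
      · ext m
        change algebraMap R R' f • ((u⁻¹ : R'ˣ).val • m) = m
        rw [smul_smul, ← hu, Units.mul_inv, one_smul]
      · ext m
        change (u⁻¹ : R'ˣ).val • (algebraMap R R' f • m) = m
        rw [smul_smul, ← hu, Units.inv_mul, one_smul]
    · intro t
      obtain ⟨k, m, hm⟩ := hsurj t
      exact ⟨k, m, hm⟩
    · intro m hm
      exact hzero m hm
  exact ⟨b.ofIsLocalizedModule R' (Submonoid.powers f) rl,
    fun i => Basis.ofIsLocalizedModule_apply R' (Submonoid.powers f) rl b i⟩

end Loc

section Top

open exteriorPower Set

variable {R : Type u} [CommRing R] {M : Type u} [AddCommGroup M] [Module R M] (n : ℕ)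

/-- the one-element index type of the top exterior power -/
noncomputable def eqv : powersetCard (Fin n) n ≃ Fin 1 :=
  Finite.equivFinOfCardEq (by rw [powersetCard.card]; simp)

/-- the canonical ordering of the basis vectors in the top wedge -/
noncomputable def τ : Fin n → Fin n :=
  fun j => (powersetCard.ofFinEmbEquiv.symm ((eqv n).symm 0)) j

/-- the top wedge of a family of `n` vectors -/
noncomputable def topWedge (e : Fin n → M) : ⋀[R]^n M :=
  ιMulti R n (e ∘ τ n)

/-- the basis of the top exterior power of a free module of rank `n` -/
noncomputable def topBasis (b : Basis (Fin n) R M) : Basis (Fin 1) R (⋀[R]^n M) :=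
  (b.exteriorPower n).reindex (eqv n)

theorem topBasis_apply (b : Basis (Fin n) R M) (i : Fin 1) :
    topBasis n b i = topWedge n (fun j => b j) := by
  have hi : i = 0 := Subsingleton.elim _ _
  subst hi
  rw [topBasis, Basis.reindex_apply, exteriorPower.basis_apply]
  rfl

end Top

end Groth.Agent.Helper1.Canon
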