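import Groth.Agent.Helper1.Canon1
import Groth.Agent.Helper4.QcohGlue
import Groth.Agent.Helper4.FinLocFree2
import Groth.Agent.Helper4.SN47
import Groth.Prelude.Def_ExtPow2

set_option autoImplicit false
set_option linter.style.haveILetI false
set_option linter.unusedSectionVars false

/-!
# The top exterior power of a finite locally free module of rank `n` is invertible
-/

namespace Groth.Agent.Helper1.Canon

open CategoryTheory AlgebraicGeometry Opposite TopologicalSpace Module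
open Groth.Agent.Helper4.QcqsMod Groth.Agent.Helper4.FinLocFree

universe u

variable {X : Scheme.{u}} (E ω : X.Modules) (n : ℕ)

section

variable
  (φ : ∀ U : X.affineOpens, (ω.val.obj (op U.1)) ≃ₗ[Γ(X, U.1)]
    ↥(⋀[Γ(X, U.1)]^n (E.val.obj (op U.1))))
  (hφ : ∀ (U V : X.affineOpens) (h : V.1 ≤ U.1) (e : Fin n → E.val.obj (op U.1)),
      ω.val.map (homOfLE h).op ((φ U).symm (exteriorPower.ιMulti _ n e)) =
        (φ V).symm (exteriorPower.ιMulti _ n (fun j => E.val.map (homOfLE h).op (e j))))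

/-- sections as a module over the ring of sections (identity) -/
noncomputable def secEquiv (M : X.Modules) (U : X.Opens) :
    Γ(M, U) ≃ₗ[Γ(X, U)] (M.val.obj (op U)) :=
  LinearEquiv.refl Γ(X, U) Γ(M, U)

/-- the basis of `ω(U)` deduced from a basis of `E(U)` -/
noncomputable def βOf (U : X.affineOpens) (b : Basis (Fin n) Γ(X, U.1) Γ(E, U.1)) :
    Basis (Fin 1) Γ(X, U.1) Γ(ω, U.1) :=
  (topBasis n (b.map (secEquiv E U.1))).map ((φ U).symm.trans (secEquiv ω U.1).symm)

lemma βOf_apply (U : X.affineOpens) (b : Basis (Fin n) Γ(X, U.1) Γ(E, U.1))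
    (i : Fin 1) : βOf E ω n φ U b i =
      (secEquiv ω U.1).symm ((φ U).symm (topWedge n (fun j => secEquiv E U.1 (b j)))) := by
  rw [βOf, Basis.map_apply, topBasis_apply]
  rfl

include hφ in
lemma map_βOf (U V : X.affineOpens) (h : V.1 ≤ U.1)
    (b : Basis (Fin n) Γ(X, U.1) Γ(E, U.1))
    (b' : Basis (Fin n) Γ(X, V.1) Γ(E, V.1))
    (hb : ∀ i, b' i = E.presheaf.map (homOfLE h).op (b i)) :
    ω.presheaf.map (homOfLE h).op (βOf E ω n φ U b 0) = βOf E ω n φ V b' 0 := by
  rw [βOf_apply, βOf_apply]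
  unfold topWedge
  refine (hφ U V h ((fun j => secEquiv E U.1 (b j)) ∘ τ n)).trans ?_
  have hfun : (fun j => E.val.map (homOfLE h).op
      (((fun j => secEquiv E U.1 (b j)) ∘ τ n) j) : Fin n → E.val.obj (op V.1)) =
      (fun j => secEquiv E V.1 (b' j)) ∘ τ n := by
    funext j
    exact (hb _).symm
  exact congrArg (fun e => (φ V).symm (exteriorPower.ιMulti _ n e)) hfun

end

theorem isLocalizingOn_and_basis [E.IsQuasicoherent] (hω : ExtPow.IsExtPow n E ω)
    {U : X.Opens} (hU : IsAffineOpen U) (b : Basis (Fin n) Γ(X, U) Γ(E, U)) :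
    IsLocalizingOn ω U ∧ Nonempty (Basis (Fin 1) Γ(X, U) Γ(ω, U)) := by
  obtain ⟨φ, hφ⟩ := hω
  let U' : X.affineOpens := ⟨U, hU⟩
  let βU : Basis (Fin 1) Γ(X, U) Γ(ω, U) := βOf E ω n φ U' b
  have hE := isLocalizingOn_of_isAffineOpen E hU
  have key : ∀ f : Γ(X, U),
      ∃ βV : Basis (Fin 1) Γ(X, X.basicOpen f) Γ(ω, X.basicOpen f),
        ω.presheaf.map (homOfLE (X.basicOpen_le f)).op (βU 0) = βV 0 := by
    intro f
    let V' : X.affineOpens := ⟨X.basicOpen f, hU.basicOpen f⟩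
    haveI := hU.isLocalization_basicOpen f
    obtain ⟨bV, hbV⟩ := exists_basis_of_localizing (R := Γ(X, U)) (R' := Γ(X, X.basicOpen f))
      (M := Γ(E, U)) (M' := Γ(E, X.basicOpen f)) f
      (E.presheaf.map (homOfLE (X.basicOpen_le f)).op).hom
      (fun a m => Scheme.Modules.map_smul E (homOfLE (X.basicOpen_le f)) a m)
      (fun m hm => hE.zero f m hm) (fun t => hE.surj f t) b
    exact ⟨βOf E ω n φ V' bV, map_βOf E ω n φ hφ U' V' (X.basicOpen_le f) b bV hbV⟩
  refine ⟨⟨fun f m hm => ?_, fun f t => ?_⟩, ⟨βU⟩⟩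
  · obtain ⟨βV, hβ⟩ := key f
    haveI := hU.isLocalization_basicOpen f
    set a : Γ(X, U) := βU.repr m 0 with ha
    have hm' : m = a • βU 0 := by
      have := βU.sum_repr m
      rw [Fin.sum_univ_one] at this
      exact this.symm
    have h1 : algebraMap Γ(X, U) Γ(X, X.basicOpen f) a • βV 0 = 0 := by
      rw [← hβ]
      have := Scheme.Modules.map_smul ω (homOfLE (X.basicOpen_le f)) a (βU 0)
      rw [← hm', hm] at this
      exact this.symm
    have h2 : algebraMap Γ(X, U) Γ(X, X.basicOpen f) a = 0 := by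
      have := congrArg (fun x => βV.repr x 0) h1
      simp only [map_smul, Basis.repr_self, Finsupp.smul_apply, Finsupp.single_eq_same,
        smul_eq_mul, mul_one, map_zero, Finsupp.zero_apply] at this
      exact this
    obtain ⟨⟨_, k, rfl⟩, hk⟩ :=
      (IsLocalization.map_eq_zero_iff (Submonoid.powers f) Γ(X, X.basicOpen f) a).mp h2
    refine ⟨k, ?_⟩
    have hk' : f ^ k * a = 0 := hk
    rw [hm', smul_smul, hk', zero_smul]
  · obtain ⟨βV, hβ⟩ := key f
    haveI := hU.isLocalization_basicOpen f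
    set c : Γ(X, X.basicOpen f) := βV.repr t 0 with hc
    have ht : t = c • βV 0 := by
      have := βV.sum_repr t
      rw [Fin.sum_univ_one] at this
      exact this.symm
    obtain ⟨⟨a, ⟨_, k, rfl⟩⟩, hak⟩ := IsLocalization.surj (Submonoid.powers f) c
    refine ⟨k, a • βU 0, ?_⟩
    have h3 := Scheme.Modules.map_smul ω (homOfLE (X.basicOpen_le f)) a (βU 0)
    have hak' : c * algebraMap Γ(X, U) Γ(X, X.basicOpen f) (f ^ k) =
        algebraMap Γ(X, U) Γ(X, X.basicOpen f) a := hak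
    refine Eq.trans ?_ h3.symm
    change algebraMap Γ(X, U) Γ(X, X.basicOpen f) (f ^ k) • t =
      algebraMap Γ(X, U) Γ(X, X.basicOpen f) a •
        ω.presheaf.map (homOfLE (X.basicOpen_le f)).op (βU 0)
    rw [hβ, ← hak', ht, smul_smul, mul_comm]

/-- **the top exterior power of a finite locally free module of rank `n` is invertible** -/
theorem isInvertible_of_isExtPow [E.IsQuasicoherent] (hω : ExtPow.IsExtPow n E ω)
    (hE : ∀ x : X, ∃ U : X.Opens, IsAffineOpen U ∧ x ∈ U ∧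
      Nonempty (Basis (Fin n) Γ(X, U) Γ(E, U))) :
    PicF.IsInvertible ω := by
  have h : ∀ x : X, ∃ U : X.Opens, IsAffineOpen U ∧ x ∈ U ∧ IsLocalizingOn ω U ∧
      Nonempty (Basis (Fin 1) Γ(X, U) Γ(ω, U)) := by
    intro x
    obtain ⟨U, hU, hx, ⟨b⟩⟩ := hE x
    obtain ⟨h1, h2⟩ := isLocalizingOn_and_basis E ω n hω hU b
    exact ⟨U, hU, hx, h1, h2⟩
  haveI : ω.IsQuasicoherent := by
    apply Groth.Agent.Helper4.QcohGlue.isQuasicoherent_of_isLocalizingOn
    intro x
    obtain ⟨U, hU, hx, h1, -⟩ := h x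
    exact ⟨U, hU, hx, h1⟩
  apply Groth.Agent.Helper4.SN.isInvertible_of_rank_one
  intro x
  obtain ⟨U, hU, hx, -, hb⟩ := h x
  exact ⟨U, hx, (isFreeAlong_ι_iff_basis hU ω).mpr hb⟩

end Groth.Agent.Helper1.Canon
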