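import Groth.Agent.Helper1.Canon2
import Groth.Agent.Lead.OmegaLocC
import Groth.Agent.Lead.OmegaUnivA
import Groth.Agent.Helper4.TensorInv
import Groth.Prelude.Def_Canon

set_option autoImplicit false
set_option linter.style.haveILetI false
set_option linter.unusedSectionVars false

/-!
# The relative canonical sheaf of a smooth morphism of relative dimension `n` is invertible
-/

namespace Groth.Agent.Helper1.Canon

open CategoryTheory AlgebraicGeometry Opposite TopologicalSpace Module
open Groth.Agent.Lead OmegaSh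

universe u

variable {X Y : Scheme.{u}} (f : X ⟶ Y)

/-- the sheaf of differentials of a smooth morphism of relative dimension `n` has bases of `n`
elements on small affine opens -/
theorem exists_basis_omega [QuasiSeparated f] (n : ℕ) [SmoothOfRelativeDimension n f] (x : X) :
    ∃ U : X.Opens, IsAffineOpen U ∧ x ∈ U ∧
      Nonempty (Basis (Fin n) Γ(X, U) Γ(Omega.sheaf f, U)) := by
  obtain ⟨V, hV, U, hU, hxU, e, hsm⟩ :=
    SmoothOfRelativeDimension.exists_isStandardSmoothOfRelativeDimension (n := n) (f := f) x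
  letI := (f.appLE V U e).hom.toAlgebra
  haveI hsm' : Algebra.IsStandardSmoothOfRelativeDimension n Γ(Y, V) Γ(X, U) := hsm
  haveI : Algebra.IsStandardSmooth Γ(Y, V) Γ(X, U) := hsm'.isStandardSmooth
  obtain ⟨ε, -⟩ := OmegaLocC.exists_sectionsEquiv_frozen f hU hV e rfl
  haveI : Nonempty U := ⟨⟨x, hxU⟩⟩
  haveI : Nontrivial Γ(X, U) := inferInstance
  have hr : Module.rank Γ(X, U) Ω[Γ(X, U)⁄Γ(Y, V)] = n :=
    Algebra.IsStandardSmoothOfRelativeDimension.rank_kaehlerDifferential n
  haveI : Module.Free Γ(X, U) Ω[Γ(X, U)⁄Γ(Y, V)] := inferInstance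
  haveI : Module.Finite Γ(X, U) Ω[Γ(X, U)⁄Γ(Y, V)] := inferInstance
  have hfr : Module.finrank Γ(X, U) Ω[Γ(X, U)⁄Γ(Y, V)] = n :=
    Module.finrank_eq_of_rank_eq hr
  exact ⟨U, hU, hxU, ⟨(Module.finBasisOfFinrankEq _ _ hfr).map ε.symm⟩⟩

/-- **the relative canonical sheaf of a smooth morphism is invertible** -/
theorem isInvertible_of_isTopDiff [QuasiSeparated f] (n : ℕ) [SmoothOfRelativeDimension n f]
    (ω : X.Modules) (hω : Canon.IsTopDiff f n ω) : PicF.IsInvertible ω := by
  haveI : (Omega.sheaf f).IsQuasicoherent :=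
    OmegaLocB.isQuasicoherent_of_isUniversal f (dOmega f) (OmegaUnivA.isUniversal f)
  exact isInvertible_of_isExtPow (Omega.sheaf f) ω n hω (fun x => exists_basis_omega f n x)

theorem isInvertible_tensorPow_of_isTopDiff [QuasiSeparated f] (n : ℕ)
    [SmoothOfRelativeDimension n f] (ω : X.Modules) (hω : Canon.IsTopDiff f n ω) (m : ℕ) :
    PicF.IsInvertible (CohB1.tensorPow ω m) :=
  Groth.Agent.Helper4.TensorInv.isInvertible_tensorPow (isInvertible_of_isTopDiff f n ω hω) m

end Groth.Agent.Helper1.Canon
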