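import Groth.Agent.Helper1.BaseChart4
import Groth.Agent.Helper4.PullUnit

set_option autoImplicit false
set_option linter.style.haveILetI false

/-!
# Seesaw: pullbacks from the base are trivial on the fibres
-/

namespace Groth.Agent.Helper1.Seesaw

open CategoryTheory Limits AlgebraicGeometry Opposite TopologicalSpace
open Groth.Agent.Helper1.BaseChart Groth.Agent.Helper4.PullUnit

universe u

variable {X Y : Scheme.{u}} (f : X ⟶ Y)

/-- the pullback of an invertible module to the spectrum of a residue field is trivial -/
theorem nonempty_pullback_fromSpecResidueField_iso (M : Y.Modules) (hM : PicF.IsInvertible M)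
    (y : Y) :
    Nonempty ((Scheme.Modules.pullback (Y.fromSpecResidueField y)).obj M ≅
      Coh.structureModule (Spec (Y.residueField y))) := by
  obtain ⟨U, hy, ⟨θ⟩⟩ := hM y
  exact ⟨(Scheme.Modules.pullbackCongr (hLift_ι U y hy).symm).app M ≪≫
    ((Scheme.Modules.pullbackComp (hLift U y hy) U.ι).app M).symm ≪≫
    (Scheme.Modules.pullback (hLift U y hy)).mapIso
      (((Scheme.Modules.restrictFunctorIsoPullback U.ι).app M).symm ≪≫ θ) ≪≫
    pullbackUnitIso (hLift U y hy)⟩

/-- a module pulled back from an invertible module on the base is trivial on every fibre -/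
theorem nonempty_fiberMod_pullback_iso (M : Y.Modules) (hM : PicF.IsInvertible M) (y : Y) :
    Nonempty (CohIII.fiberMod f ((Scheme.Modules.pullback f).obj M) y ≅
      Coh.structureModule (f.fiber y)) := by
  obtain ⟨θ⟩ := nonempty_pullback_fromSpecResidueField_iso M hM y
  exact ⟨(Scheme.Modules.pullbackComp (f.fiberι y) f).app M ≪≫
    (Scheme.Modules.pullbackCongr (f.fiber_fac y)).app M ≪≫
    ((Scheme.Modules.pullbackComp (f.fiberToSpecResidueField y)
      (Y.fromSpecResidueField y)).app M).symm ≪≫
    (Scheme.Modules.pullback (f.fiberToSpecResidueField y)).mapIso θ ≪≫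
    pullbackUnitIso (f.fiberToSpecResidueField y)⟩

end Groth.Agent.Helper1.Seesaw
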