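import Groth.Agent.Helper1.SW6
import Groth.Agent.Helper1.UF9
import Groth.Agent.Helper1.Seesaw8
import Groth.Agent.Helper1.BoxPic3
import Groth.Agent.Lead.PullFF

set_option autoImplicit false
set_option linter.style.haveILetI false
set_option linter.unusedSectionVars false
set_option linter.unusedVariables false

/-!
# The seesaw criterion: an invertible module comes from the base iff it and its inverse have
sections on every fibre and the degree-zero base change maps are surjective
-/

namespace Groth.Agent.Helper1.SW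

open CategoryTheory AlgebraicGeometry Opposite TopologicalSpace
  AlgebraicGeometry.Scheme.Modules
open Groth.Agent.Helper1.UF Groth.Agent.Helper4.PullUnit Groth.Agent.Helper1.Seesaw

universe u

section tensor

variable {Z : Scheme.{u}}

/-- two inverses of a module are isomorphic -/
noncomputable def inverseIso (L M M' : Z.Modules)
    (e : CohB1.tensorMod L M ≅ Coh.structureModule Z)
    (e' : CohB1.tensorMod M' L ≅ Coh.structureModule Z) : M ≅ M' :=
  (Groth.Agent.Lead.Ref1B.unitorL M).symm ≪≫ PicGrp.tensorModIso e'.symm (Iso.refl M) ≪≫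
    Groth.Agent.Lead.Ref1B.assoc M' L M ≪≫ PicGrp.tensorModIso (Iso.refl M') e ≪≫
    SecTwist.unitorR M'

/-- an inverse of an invertible module is invertible -/
theorem isInvertible_of_inverse (L M : Z.Modules) (hL : PicF.IsInvertible L)
    (e : CohB1.tensorMod L M ≅ Coh.structureModule Z) : PicF.IsInvertible M := by
  obtain ⟨Li, hLi, ⟨a⟩, -⟩ := Groth.Agent.Lead.InvDual.exists_inverse L hL
  exact Groth.Agent.Helper4.AmpleIso.isInvertible_of_iso (inverseIso L M Li e a).symm hLi

/-- the identity of a module isomorphic to the structure sheaf of a scheme with `1 ≠ 0` is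
not zero -/
theorem id_ne_zero_of_iso_unit (N : Z.Modules) (e : N ≅ Coh.structureModule Z)
    [Nontrivial Γ(Z, ⊤)] : 𝟙 N ≠ 0 := by
  intro h0
  have hid' : 𝟙 (Coh.structureModule Z) = 0 := by
    have : 𝟙 (Coh.structureModule Z) = e.inv ≫ 𝟙 N ≫ e.hom := by
      rw [Category.id_comp, Iso.inv_hom_id]
    rw [this, h0, Limits.zero_comp, Limits.comp_zero]
  have h10 := congrArg (fun ψ : Coh.structureModule Z ⟶ Coh.structureModule Z =>
    ψ.app ⊤ (show Γ(Coh.structureModule Z, ⊤) from (1 : Γ(Z, ⊤)))) hid'
  exact one_ne_zero (α := Γ(Z, ⊤)) h10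

/-- `H⁰` of a trivial module on a scheme with `1 ≠ 0` is not zero -/
theorem nontrivial_HH_zero_of_iso_unit (N : Z.Modules) (e : N ≅ Coh.structureModule Z)
    [Nontrivial Γ(Z, ⊤)] : Nontrivial (Coh.HH Z N 0) := by
  let φ := Groth.Agent.Lead.ProperFinA.h0Equiv N
  have h1 : (e.inv.app ⊤) (show Γ(Coh.structureModule Z, ⊤) from (1 : Γ(Z, ⊤))) ≠ 0 := by
    intro h0
    have h2 := congrArg (e.hom.app ⊤) h0
    rw [map_zero] at h2
    have h3 : (e.hom.app ⊤) ((e.inv.app ⊤)
        (show Γ(Coh.structureModule Z, ⊤) from (1 : Γ(Z, ⊤)))) =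
        (show Γ(Coh.structureModule Z, ⊤) from (1 : Γ(Z, ⊤))) := by
      have := congrArg (fun ψ : Coh.structureModule Z ⟶ Coh.structureModule Z =>
        ψ.app ⊤ (show Γ(Coh.structureModule Z, ⊤) from (1 : Γ(Z, ⊤)))) e.inv_hom_id
      exact this
    rw [h3] at h2
    exact one_ne_zero (α := Γ(Z, ⊤)) h2
  refine ⟨⟨φ.symm ((e.inv.app ⊤) (show Γ(Coh.structureModule Z, ⊤) from (1 : Γ(Z, ⊤)))), 0, ?_⟩⟩
  intro h0
  apply h1
  have := congrArg φ h0
  rw [AddEquiv.apply_symm_apply, map_zero] at this
  exact this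

end tensor

variable {X S : Scheme.{u}} (f : X ⟶ S) [IsProper f]

/-- geometric fibres of a geometrically integral morphism -/
theorem geom_of_geometricallyIntegral [GeometricallyIntegral f] (K : Type u) [Field K]
    (g : Spec (CommRingCat.of K) ⟶ S) :
    IsReduced (Limits.pullback f g) ∧ ConnectedSpace ↥(Limits.pullback f g) := by
  haveI : IsIntegral (Limits.pullback f g) :=
    GeometricallyIntegral.geometrically_isIntegral (f := f) g
      (Limits.pullback.fst _ g) (Limits.pullback.snd _ g) (IsPullback.of_hasPullback _ g)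
  exact ⟨inferInstance, inferInstance⟩

theorem isIso_appTop_of_geometricallyIntegral [GeometricallyIntegral f] (y : S) :
    IsIso (f.fiberToSpecResidueField y).appTop :=
  isIso_appTop_of_geometric f (fun K _ _ g => geom_of_geometricallyIntegral f K g) y

/-- (a) ⇒ (b) for one module -/
theorem pulled_back_conditions [GeometricallyIntegral f] (N : X.Modules) (N₀ : S.Modules)
    (hN₀ : PicF.IsInvertible N₀) (θ : N ≅ (pullback f).obj N₀) (s : S) :
    Nontrivial (CohIII.fiberH f N s 0) ∧
      Epi (CohBC.bc0 f (S.fromSpecResidueField s) (f.fiberToSpecResidueField s) (f.fiberι s)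
        (f.fiber_fac s) N) := by
  obtain ⟨e₁⟩ := nonempty_fiberMod_pullback_iso f N₀ hN₀ s
  have e₀ : CohIII.fiberMod f N s ≅ Coh.structureModule (f.fiber s) :=
    (pullback (f.fiberι s)).mapIso θ ≪≫ e₁
  haveI : Nontrivial Γ(f.fiber s, ⊤) := (isField_Γ_fiber f s).nontrivial
  have hN : PicF.IsInvertible N :=
    Groth.Agent.Helper4.AmpleIso.isInvertible_of_iso θ.symm
      (Groth.Agent.Helper4.PullSec.isInvertible_pullback _ hN₀)
  haveI : N.IsQuasicoherent := (Groth.Agent.Lead.Ref1K.isCoh_of_isInvertible N hN).1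
  refine ⟨nontrivial_HH_zero_of_iso_unit _ e₀, ?_⟩
  exact epi_bc0_fibre_of_ne_zero f N s (isIso_appTop_of_geometricallyIntegral f s) e₀
    (bc0_ne_zero_of_iso_pullback f _ _ _ _ N N₀ θ (id_ne_zero_of_iso_unit _ e₀))

/-- (b) ⇒ triviality on the fibre -/
theorem fiber_trivial_of_sections [GeometricallyIntegral f] (L M : X.Modules)
    (hL : PicF.IsInvertible L) (b : CohB1.tensorMod L M ≅ Coh.structureModule X) (s : S)
    (n1 : Nontrivial (CohIII.fiberH f L s 0)) (n2 : Nontrivial (CohIII.fiberH f M s 0)) :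
    Nonempty (CohIII.fiberMod f L s ≅ Coh.structureModule (f.fiber s)) := by
  have hM : PicF.IsInvertible M := isInvertible_of_inverse L M hL b
  have hLy : PicF.IsInvertible (CohIII.fiberMod f L s) :=
    Groth.Agent.Helper4.PullSec.isInvertible_pullback (f.fiberι s) hL
  have hMy : PicF.IsInvertible (CohIII.fiberMod f M s) :=
    Groth.Agent.Helper4.PullSec.isInvertible_pullback (f.fiberι s) hM
  let by' : CohB1.tensorMod (CohIII.fiberMod f L s) (CohIII.fiberMod f M s) ≅
      Coh.structureModule (f.fiber s) :=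
    (Groth.Agent.Helper4.PullTensor.pullTensorIso (f.fiberι s) hL hM).symm ≪≫
      (Scheme.Modules.pullback (f.fiberι s)).mapIso b ≪≫
      Groth.Agent.Helper4.PullUnit.pullbackUnitIso (f.fiberι s)
  obtain ⟨σ, hσ⟩ := exists_hom_ne_zero _ n1
  obtain ⟨τ, hτ⟩ := exists_hom_ne_zero _ n2
  exact Groth.Agent.Helper4.SecTriv.nonempty_iso_unit_of_inverse_pair (isField_Γ_fiber f s)
    _ _ hLy hMy ⟨by'⟩ σ hσ τ hτ

/-- an epimorphic base change map to a fibre on which the module is trivial does not vanish -/
theorem bc0_ne_zero_of_epi [GeometricallyIntegral f] (N : X.Modules) (s : S)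
    (e₀ : CohIII.fiberMod f N s ≅ Coh.structureModule (f.fiber s))
    (hepi : Epi (CohBC.bc0 f (S.fromSpecResidueField s) (f.fiberToSpecResidueField s) (f.fiberι s)
        (f.fiber_fac s) N)) :
    CohBC.bc0 f (S.fromSpecResidueField s) (f.fiberToSpecResidueField s) (f.fiberι s)
        (f.fiber_fac s) N ≠ 0 := by
  haveI : Nontrivial Γ(f.fiber s, ⊤) := (isField_Γ_fiber f s).nontrivial
  intro h0
  have hid : 𝟙 ((pushforward (f.fiberToSpecResidueField s)).obj (CohIII.fiberMod f N s)) = 0 := by
    rw [← cancel_epi (CohBC.bc0 f (S.fromSpecResidueField s) (f.fiberToSpecResidueField s)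
      (f.fiberι s) (f.fiber_fac s) N), h0, Limits.zero_comp, Limits.zero_comp]
  have hid' : 𝟙 ((pushforward (f.fiberToSpecResidueField s)).obj
      (Coh.structureModule (f.fiber s))) = 0 := by
    have : 𝟙 ((pushforward (f.fiberToSpecResidueField s)).obj
        (Coh.structureModule (f.fiber s))) =
        (pushforward (f.fiberToSpecResidueField s)).map e₀.inv ≫
          𝟙 ((pushforward (f.fiberToSpecResidueField s)).obj (CohIII.fiberMod f N s)) ≫
          (pushforward (f.fiberToSpecResidueField s)).map e₀.hom := by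
      rw [Category.id_comp, ← Functor.map_comp, Iso.inv_hom_id, CategoryTheory.Functor.map_id]
    rw [this, hid, Limits.zero_comp, Limits.comp_zero]
  have h10 := congrArg (fun φ : (pushforward (f.fiberToSpecResidueField s)).obj
      (Coh.structureModule (f.fiber s)) ⟶ (pushforward (f.fiberToSpecResidueField s)).obj
      (Coh.structureModule (f.fiber s)) => φ.app ⊤
        (show Γ((pushforward (f.fiberToSpecResidueField s)).obj
          (Coh.structureModule (f.fiber s)), ⊤) from (1 : Γ(f.fiber s, ⊤)))) hid'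
  exact one_ne_zero (α := Γ(f.fiber s, ⊤)) h10

/-- (b) ⇒ conclusions, for a proper flat finitely presented geometrically integral family -/
theorem descends_of_conditions [Flat f] [LocallyOfFinitePresentation f] [GeometricallyIntegral f]
    (L M : X.Modules) (hL : PicF.IsInvertible L)
    (b : CohB1.tensorMod L M ≅ Coh.structureModule X)
    (h1 : ∀ s : S, Nontrivial (CohIII.fiberH f L s 0))
    (h2 : ∀ s : S, Nontrivial (CohIII.fiberH f M s 0))
    (h3 : ∀ s : S, Epi (CohBC.bc0 f (S.fromSpecResidueField s) (f.fiberToSpecResidueField s)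
      (f.fiberι s) (f.fiber_fac s) L)) :
    (∀ s : S, Nonempty (CohIII.fiberMod f L s ≅ Coh.structureModule (f.fiber s))) ∧
    PicF.IsInvertible ((pushforward f).obj L) ∧
      IsIso ((pullbackPushforwardAdjunction f).counit.app L) := by
  have htriv : ∀ s : S, Nonempty (CohIII.fiberMod f L s ≅ Coh.structureModule (f.fiber s)) :=
    fun s => fiber_trivial_of_sections f L M hL b s (h1 s) (h2 s)
  have h := fun s => isIso_appTop_of_geometricallyIntegral f s
  have hloc : ∀ y : S, ∃ U : S.Opens, y ∈ U ∧
      Nonempty (L.restrict (f ⁻¹ᵁ U).ι ≅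
        Coh.structureModule ((f ⁻¹ᵁ U : X.Opens) : Scheme.{u})) := by
    intro y
    obtain ⟨e₀⟩ := htriv y
    exact exists_nhd_trivial_of_bc0_ne_zero f L hL y (bc0_ne_zero_of_epi f L y e₀ (h3 y)) e₀
      (isField_Γ_fiber f y)
  have hfL : PicF.IsInvertible ((Scheme.Modules.pushforward f).obj L) := by
    intro y
    obtain ⟨U, hyU, ⟨θ⟩⟩ := hloc y
    exact ⟨U, hyU, nonempty_pushforward_restrict_iso f U
      (fun V _ => Groth.Agent.Helper1.UF.isIso_app_of_isIso f h V) L θ⟩
  exact ⟨htriv, hfL, isIso_counit f L hL hfL hloc⟩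

/-- the base module is the direct image -/
theorem nonempty_iso_pushforward [Flat f] [LocallyOfFinitePresentation f] [GeometricallyIntegral f]
    (L : X.Modules) (L₀ : S.Modules) (hL₀ : PicF.IsInvertible L₀) (θ : L ≅ (pullback f).obj L₀) :
    Nonempty (L₀ ≅ (pushforward f).obj L) := by
  have h := fun s => isIso_appTop_of_geometricallyIntegral f s
  have hf : ∀ U : S.Opens, Function.Bijective (f.app U) := fun U => by
    haveI := Groth.Agent.Helper1.UF.isIso_app_of_isIso f h U
    exact ConcreteCategory.bijective_of_isIso _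
  haveI := Groth.Agent.Lead.PullFF.isIso_unit_of_isFinLocFree f hf L₀
    (Groth.Agent.Lead.Ref1K.isFinLocFree_of_isInvertible L₀ hL₀)
  exact ⟨asIso ((pullbackPushforwardAdjunction f).unit.app L₀) ≪≫ (pushforward f).mapIso θ.symm⟩

end Groth.Agent.Helper1.SW
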