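import Groth.Agent.Helper1.Canon3
import Groth.Agent.Helper1.SW7
import Groth.Agent.Helper5.RedDesc
import Groth.Agent.Helper6.HProj
import Groth.Prelude.Def_RedSub

set_option autoImplicit false
set_option linter.style.haveILetI false
set_option linter.unusedSectionVars false

/-!
# Pluricanonical sheaves trivial on the fibres of a smooth projective family
-/

namespace Groth.Agent.Helper1.Canon

open CategoryTheory AlgebraicGeometry Opposite TopologicalSpace Limits
open Groth.Agent.Helper4.PullUnit Groth.Agent.Helper1.Seesaw

universe u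

variable {X S : Scheme.{u}} (f : X ⟶ S)

/-- locally projective morphisms are proper -/
theorem isProper_of_isLocallyProjective (h : RedSub.IsLocallyProjective (Over.mk f)) :
    IsProper f := by
  choose V hsV n e he hcomm using h
  refine IsZariskiLocalAtTarget.of_iSup_eq_top (P := @IsProper) V ?_ ?_
  · rw [eq_top_iff]
    intro s _
    exact Opens.mem_iSup.mpr ⟨s, hsV s⟩
  · intro s
    have h1 : IsProper (pullback.snd f (V s).ι) := by
      have h2 : pullback.snd f (V s).ι =
          e s ≫ CohB1.ProjSpaceOver.toBase (n s) ((V s : S.Opens) : Scheme.{u}) := (hcomm s).symm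
      rw [h2]
      haveI := he s
      haveI := Groth.Agent.Helper6.HProj.isProper_toBase (n s) ((V s : S.Opens) : Scheme.{u})
      infer_instance
    unfold morphismRestrict
    infer_instance

/-- geometric fibres of a smooth morphism with geometrically connected fibres -/
theorem geom_of_smooth [Smooth f] [GeometricallyConnected f] (K : Type u) [Field K]
    (g : Spec (CommRingCat.of K) ⟶ S) :
    IsReduced (pullback f g) ∧ ConnectedSpace ↥(pullback f g) := by
  refine ⟨?_, ?_⟩
  · haveI : Smooth (pullback.snd f g) := inferInstance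
    exact Groth.Agent.Helper5.RedDesc.isReduced_of_smooth (pullback.snd f g)
  · exact GeometricallyConnected.geometrically_connectedSpace (f := f) g
      (pullback.fst f g) (pullback.snd f g) (IsPullback.of_hasPullback f g)

section main

variable [IsLocallyNoetherian S] (hproj : RedSub.IsLocallyProjective (Over.mk f))
  (n : ℕ) [SmoothOfRelativeDimension n f] [GeometricallyConnected f]
  (ω : X.Modules) (hω : Canon.IsTopDiff f n ω) (m : ℕ)
  (htriv : ∀ s : ↥S, Nonempty ((Scheme.Modules.pullback (f.fiberι s)).obj (CohB1.tensorPow ω m) ≅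
      Coh.structureModule (f.fiber s)))

include hproj hω htriv in
/-- S19498 -/
theorem evaluation_isIso_of_h1
    (hH1 : ∀ s : ↥S, Subsingleton (Coh.HH (f.fiber s) (Coh.structureModule (f.fiber s)) 1)) :
    IsIso ((Scheme.Modules.pullbackPushforwardAdjunction f).counit.app (CohB1.tensorPow ω m)) := by
  haveI : IsProper f := isProper_of_isLocallyProjective f hproj
  haveI : Smooth f := SmoothOfRelativeDimension.smooth n f
  have hL := isInvertible_tensorPow_of_isTopDiff f n ω hω m
  have h : ∀ s : S, IsIso (f.fiberToSpecResidueField s).appTop := fun s =>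
    Groth.Agent.Helper1.UF.isIso_appTop_of_geometric f
      (fun K _ _ g => geom_of_smooth f K g) s
  have hH1' : ∀ s : S, Subsingleton (CohIII.fiberH f (Coh.structureModule X) s 1) := fun s =>
    Groth.Agent.Helper1.SW.subsingleton_HH_of_iso (pullbackUnitIso (f.fiberι s)) 1 (hH1 s)
  exact (Groth.Agent.Helper1.SW.core f h hH1' _ hL htriv).2.2

include hproj hω htriv in
/-- S19497 -/
theorem evaluation_isIso_of_isReduced [IsReduced S] :
    IsIso ((Scheme.Modules.pullbackPushforwardAdjunction f).counit.app (CohB1.tensorPow ω m)) := by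
  haveI : IsProper f := isProper_of_isLocallyProjective f hproj
  haveI : Smooth f := SmoothOfRelativeDimension.smooth n f
  have hL := isInvertible_tensorPow_of_isTopDiff f n ω hω m
  have hgeo : ∀ (K : Type u) [Field K] [IsAlgClosed K] (g : Spec (CommRingCat.of K) ⟶ S),
      IsReduced (pullback f g) ∧ ConnectedSpace ↥(pullback f g) :=
    fun K _ _ g => geom_of_smooth f K g
  have h : ∀ s : S, IsIso (f.fiberToSpecResidueField s).appTop := fun s =>
    Groth.Agent.Helper1.UF.isIso_appTop_of_geometric f hgeo s
  have hloc : ∀ y : S, ∃ U : S.Opens, y ∈ U ∧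
      Nonempty ((CohB1.tensorPow ω m).restrict (f ⁻¹ᵁ U).ι ≅
        Coh.structureModule ((f ⁻¹ᵁ U : X.Opens) : Scheme.{u})) := by
    intro y
    obtain ⟨e₀⟩ := htriv y
    refine exists_nhd_trivial' f y _ hL (fun y' _ => ?_) e₀
    obtain ⟨e'⟩ := htriv y'
    rw [fiberRank_eq_of_iso f _ y' e']
    exact Groth.Agent.Helper1.UF.finrank_Γ_fiber_eq_one_of_geometric f hgeo y'
  have hfL : PicF.IsInvertible ((Scheme.Modules.pushforward f).obj (CohB1.tensorPow ω m)) := by
    intro y
    obtain ⟨U, hyU, ⟨θ⟩⟩ := hloc y
    exact ⟨U, hyU, nonempty_pushforward_restrict_iso f U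
      (fun V _ => Groth.Agent.Helper1.UF.isIso_app_of_isIso f h V) _ θ⟩
  exact isIso_counit f _ hL hfL hloc

end main

end Groth.Agent.Helper1.Canon
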