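import Groth.Agent.Helper1.Canon5

set_option autoImplicit false
set_option linter.style.haveILetI false
set_option linter.unusedSectionVars false

/-!
# Pluricanonical sheaves with bijective evaluation map: direct image and base change
-/

namespace Groth.Agent.Helper1.Canon

open CategoryTheory AlgebraicGeometry Opposite TopologicalSpace
  AlgebraicGeometry.Scheme.Modules

universe u

variable {X S : Scheme.{u}} (f : X ⟶ S)
  [IsLocallyNoetherian S] (hproj : RedSub.IsLocallyProjective (Over.mk f))
  (n : ℕ) [SmoothOfRelativeDimension n f] [GeometricallyConnected f]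
  (ω : X.Modules) (hω : Canon.IsTopDiff f n ω) (m : ℕ)
  (hev : IsIso ((pullbackPushforwardAdjunction f).counit.app (CohB1.tensorPow ω m)))

include hproj hω hev in
theorem isInvertible_pushforward_pluricanonical :
    PicF.IsInvertible ((pushforward f).obj (CohB1.tensorPow ω m)) := by
  haveI : IsProper f := isProper_of_isLocallyProjective f hproj
  haveI : Smooth f := SmoothOfRelativeDimension.smooth n f
  have hL := isInvertible_tensorPow_of_isTopDiff f n ω hω m
  exact isInvertible_pushforward_of_isIso_counit f _ hL hev

include hproj hω hev in
/-- S15936 -/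
theorem pushforward_pluricanonical_rank_one :
    FlatMod.IsFinLocFreeOfRank 1 ((pushforward f).obj (CohB1.tensorPow ω m)) :=
  Groth.Agent.Helper4.QAffSec.isFinLocFreeOfRank_one_of_isInvertible _
    (isInvertible_pushforward_pluricanonical f hproj n ω hω m hev)

include hproj hω hev in
/-- S15938 -/
theorem baseChange_pluricanonical_isIso {S' : Scheme.{u}} (g : S' ⟶ S) :
    IsIso (((pullbackPushforwardAdjunction (Limits.pullback.snd f g)).homEquiv _ _)
      ((pullbackComp (Limits.pullback.snd f g) g).hom.app _ ≫
        (pullbackCongr (Limits.pullback.condition (f := f) (g := g))).inv.app _ ≫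
        (pullbackComp (Limits.pullback.fst f g) f).inv.app _ ≫
        (pullback (Limits.pullback.fst f g)).map
          ((pullbackPushforwardAdjunction f).counit.app (CohB1.tensorPow ω m)))) := by
  haveI : IsProper f := isProper_of_isLocallyProjective f hproj
  haveI : Smooth f := SmoothOfRelativeDimension.smooth n f
  have h : ∀ s : S, IsIso (f.fiberToSpecResidueField s).appTop := fun s =>
    Groth.Agent.Helper1.UF.isIso_appTop_of_geometric f
      (fun K _ _ g => geom_of_smooth f K g) s
  have hN := isInvertible_pushforward_pluricanonical f hproj n ω hω m hev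
  rw [homEquiv_counit_form_eq_bc0 f g (Limits.pullback.snd f g) (Limits.pullback.fst f g)
    Limits.pullback.condition (CohB1.tensorPow ω m)]
  exact isIso_bc0_of_iso_pullback f h _ _ hN
    (asIso ((pullbackPushforwardAdjunction f).counit.app (CohB1.tensorPow ω m))).symm
    (IsPullback.of_hasPullback f g)

end Groth.Agent.Helper1.Canon
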