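import Mathlib
import Groth.Agent.Helper1.LocCohBasic

set_option autoImplicit false

/-!
# Maps with torsion kernel and cokernel induce isomorphisms on higher local cohomology
-/

namespace Groth.Agent.Helper1.LocCohDelta
open CategoryTheory Limits Opposite

universe u

variable {R : Type u} [CommRing R] (J : Ideal R)

section

variable [IsNoetherianRing R]

lemma isIso_lc_map_g_of_isTors (S : ShortComplex (ModuleCat.{u} R)) (hS : S.ShortExact)
    (h₁ : IsTors J S.X₁) (n : ℕ) : IsIso ((localCohomology J (n + 1)).map S.g) := by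
  have hm : Mono ((localCohomology J (n + 1)).map S.g) :=
    (lc_exact₂ J S hS (n + 1)).mono_g ((isZero_lc_of_isTors J n _ h₁).eq_of_src _ _)
  have he : Epi ((localCohomology J (n + 1)).map S.g) :=
    (lc_exact₃ J S hS (n + 1)).epi_f ((isZero_lc_of_isTors J (n + 1) _ h₁).eq_of_tgt _ _)
  exact isIso_of_mono_of_epi _

lemma isIso_lc_map_f_of_isTors (S : ShortComplex (ModuleCat.{u} R)) (hS : S.ShortExact)
    (h₃ : IsTors J S.X₃) (n : ℕ) : IsIso ((localCohomology J (n + 2)).map S.f) := by
  have hm : Mono ((localCohomology J (n + 2)).map S.f) :=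
    (lc_exact₁ J S hS (n + 1)).mono_g ((isZero_lc_of_isTors J n _ h₃).eq_of_src _ _)
  have he : Epi ((localCohomology J (n + 2)).map S.f) :=
    (lc_exact₂ J S hS (n + 2)).epi_f ((isZero_lc_of_isTors J (n + 1) _ h₃).eq_of_tgt _ _)
  exact isIso_of_mono_of_epi _

end

/-- the short exact sequence `0 → ker f → M → range f → 0` -/
abbrev kerSC {M N : ModuleCat.{u} R} (f : M ⟶ N) : ShortComplex (ModuleCat.{u} R) :=
  ShortComplex.mk (ModuleCat.ofHom (LinearMap.ker f.hom).subtype)
    (ModuleCat.ofHom f.hom.rangeRestrict) (by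
      ext ⟨x, hx⟩
      exact hx)

lemma kerSC_shortExact {M N : ModuleCat.{u} R} (f : M ⟶ N) : (kerSC f).ShortExact where
  exact := by
    rw [ShortComplex.moduleCat_exact_iff]
    intro y hy
    refine ⟨⟨y, ?_⟩, rfl⟩
    rw [LinearMap.mem_ker]
    exact congrArg Subtype.val hy
  mono_f := (ModuleCat.mono_iff_injective _).2 (Submodule.injective_subtype _)
  epi_g := (ModuleCat.epi_iff_surjective _).2 f.hom.surjective_rangeRestrict

/-- the short exact sequence `0 → range f → N → N / range f → 0` -/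
abbrev rangeSC {M N : ModuleCat.{u} R} (f : M ⟶ N) : ShortComplex (ModuleCat.{u} R) :=
  ShortComplex.mk (ModuleCat.ofHom (LinearMap.range f.hom).subtype)
    (ModuleCat.ofHom (LinearMap.range f.hom).mkQ) (by
      ext ⟨x, hx⟩
      exact (Submodule.Quotient.mk_eq_zero _).2 hx)

lemma rangeSC_shortExact {M N : ModuleCat.{u} R} (f : M ⟶ N) : (rangeSC f).ShortExact where
  exact := by
    rw [ShortComplex.moduleCat_exact_iff]
    intro y hy
    exact ⟨⟨y, (Submodule.Quotient.mk_eq_zero _).1 hy⟩, rfl⟩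
  mono_f := (ModuleCat.mono_iff_injective _).2 (Submodule.injective_subtype _)
  epi_g := (ModuleCat.epi_iff_surjective _).2 (Submodule.mkQ_surjective _)

lemma kerSC_g_rangeSC_f {M N : ModuleCat.{u} R} (f : M ⟶ N) : (kerSC f).g ≫ (rangeSC f).f = f := by
  ext x
  rfl

/-- a map with power-torsion kernel and cokernel induces isomorphisms on `H^i_J`, `i ≥ 2` -/
theorem isIso_lc_map_of_isTors [IsNoetherianRing R] {M N : ModuleCat.{u} R} (f : M ⟶ N)
    (hK : ∀ x ∈ LinearMap.ker f.hom, x ∈ DRing.torsionSub J M)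
    (hC : ∀ y : N ⧸ LinearMap.range f.hom, y ∈ DRing.torsionSub J (N ⧸ LinearMap.range f.hom))
    (n : ℕ) : IsIso ((localCohomology J (n + 2)).map f) := by
  have h1 : IsIso ((localCohomology J (n + 1 + 1)).map (kerSC f).g) := by
    refine isIso_lc_map_g_of_isTors J (kerSC f) (kerSC_shortExact f) ?_ (n + 1)
    rintro ⟨x, hx⟩
    obtain ⟨k, hk⟩ := hK x hx
    exact ⟨k, fun a ha => Subtype.ext (hk a ha)⟩
  have h2 : IsIso ((localCohomology J (n + 2)).map (rangeSC f).f) :=
    isIso_lc_map_f_of_isTors J (rangeSC f) (rangeSC_shortExact f) hC n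
  have h3 : (localCohomology J (n + 2)).map f =
      (localCohomology J (n + 2)).map (kerSC f).g ≫ (localCohomology J (n + 2)).map (rangeSC f).f := by
    rw [← Functor.map_comp]
    rfl
  rw [h3]
  exact @IsIso.comp_isIso _ _ _ _ _ _ _ h1 h2

end Groth.Agent.Helper1.LocCohDelta
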