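import Mathlib
import Groth.Agent.Helper1.LocCohIso

set_option autoImplicit false

/-!
# Injectivity of the top local cohomology of a module of finite injective dimension

If `M` has injective dimension `≤ n`, `H^j_J(M) = 0` for `0 < j < n` and `H^0_J(M)` is injective,
then `H^n_J(M)` is injective (dimension shifting along `0 → M → I → C → 0`).
-/

namespace Groth.Agent.Helper1.GorTop
open CategoryTheory Limits Opposite Groth.Agent.Helper1.LocCohDelta

universe u

variable {R : Type u} [CommRing R] (J : Ideal R)

/-- in a short exact sequence with injective `X₁`, `X₂`, the object `X₃` is injective -/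
lemma injective_X₃ {C : Type*} [Category C] [Abelian C] {S : ShortComplex C} (hS : S.ShortExact)
    [Injective S.X₁] [Injective S.X₂] : Injective S.X₃ := by
  have s := hS.splittingOfInjective
  have r : Retract S.X₃ S.X₂ := { i := s.s, r := S.g, retract := s.s_g }
  exact r.injective

lemma injective_of_iso' {C : Type*} [Category C] {X Y : C} (e : X ≅ Y) [Injective X] :
    Injective Y := Injective.of_iso e inferInstance

/-- for `0 → M → I → C → 0` with `I` injective, `δ : H^{j+1}(C) → H^{j+2}(M)` is an isomorphism -/
lemma isIso_lcδ_succ (S : ShortComplex (ModuleCat.{u} R)) (hS : S.ShortExact) [Injective S.X₂]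
    (j : ℕ) : IsIso (lcδ J S hS (j + 1)) := by
  have hm : Mono (lcδ J S hS (j + 1)) :=
    (lc_exact₃ J S hS (j + 1)).mono_g ((isZero_lc_injective J S.X₂ j).eq_of_src _ _)
  have he : Epi (lcδ J S hS (j + 1)) :=
    (lc_exact₁ J S hS (j + 1)).epi_f ((isZero_lc_injective J S.X₂ (j + 1)).eq_of_tgt _ _)
  exact isIso_of_mono_of_epi _

/-- for `0 → M → I → C → 0` with `I` injective, `δ : H^0(C) → H^1(M)` is an epimorphism -/
lemma epi_lcδ_zero (S : ShortComplex (ModuleCat.{u} R)) (hS : S.ShortExact) [Injective S.X₂] :
    Epi (lcδ J S hS 0) :=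
  (lc_exact₁ J S hS 0).epi_f ((isZero_lc_injective J S.X₂ 0).eq_of_tgt _ _)

section

variable [IsNoetherianRing R]

lemma injective_lc_zero (E : ModuleCat.{u} R) [Injective E] :
    Injective ((localCohomology J 0).obj E) := by
  have := GammaInj.injective_gammaI_obj J E
  exact Injective.of_iso ((lcZeroIso J).app E).symm inferInstance

/-- the range of `H^0(I) → H^0(C)` is injective when `H^0(M)` is -/
lemma injective_range (S : ShortComplex (ModuleCat.{u} R)) (hS : S.ShortExact) [Injective S.X₂]
    (h0 : Injective ((localCohomology J 0).obj S.X₁)) :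
    Injective (kerSC ((localCohomology J 0).map S.g)).X₃ := by
  have hI := injective_lc_zero J S.X₂
  -- the kernel of `H^0(g)` is `H^0(M)`
  have hmono := lc_mono₀ J S hS
  have hex := lc_exact₂ J S hS 0
  have hK : Injective (kerSC ((localCohomology J 0).map S.g)).X₁ := by
    -- `H^0(M) ≅ ker`
    have hex' := (ShortComplex.moduleCat_exact_iff _).1 hex
    have hinj : Function.Injective ((localCohomology J 0).map S.f).hom :=
      (ModuleCat.mono_iff_injective _).1 hmono
    let φ : (localCohomology J 0).obj S.X₁ →ₗ[R]
        LinearMap.ker ((localCohomology J 0).map S.g).hom :=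
      LinearMap.codRestrict _ ((localCohomology J 0).map S.f).hom (fun x => by
        rw [LinearMap.mem_ker]
        have := lc_w₂ J S 0
        exact congrArg (fun t => t.hom x) this)
    have hφ : Function.Bijective φ := by
      constructor
      · intro x y hxy
        apply hinj
        exact congrArg Subtype.val hxy
      · rintro ⟨y, hy⟩
        obtain ⟨x, hx⟩ := hex' y hy
        exact ⟨x, Subtype.ext hx⟩
    exact Injective.of_iso (LinearEquiv.ofBijective φ hφ).toModuleIso h0
  have : Injective (kerSC ((localCohomology J 0).map S.g)).X₂ := hI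
  exact injective_X₃ (kerSC_shortExact _)

/-- `H^1(M)` is injective if `H^0(M)` and `H^0(C)` are -/
lemma injective_lc_one (S : ShortComplex (ModuleCat.{u} R)) (hS : S.ShortExact) [Injective S.X₂]
    (h0 : Injective ((localCohomology J 0).obj S.X₁))
    (h3 : Injective ((localCohomology J 0).obj S.X₃)) :
    Injective ((localCohomology J 1).obj S.X₁) := by
  have hr := injective_range J S hS h0
  have hr' : Injective (rangeSC ((localCohomology J 0).map S.g)).X₁ := hr
  have : Injective (rangeSC ((localCohomology J 0).map S.g)).X₂ := h3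
  have hc : Injective (rangeSC ((localCohomology J 0).map S.g)).X₃ :=
    injective_X₃ (rangeSC_shortExact _)
  -- `coker ≅ H^1(M)`
  have hepi := epi_lcδ_zero J S hS
  have hex := (ShortComplex.moduleCat_exact_iff _).1 (lc_exact₃ J S hS 0)
  have hsurj : Function.Surjective (lcδ J S hS 0).hom := (ModuleCat.epi_iff_surjective _).1 hepi
  let ψ : ((localCohomology J 0).obj S.X₃ ⧸ LinearMap.range ((localCohomology J 0).map S.g).hom)
      →ₗ[R] (localCohomology J 1).obj S.X₁ :=
    Submodule.liftQ _ (lcδ J S hS 0).hom (by
      rintro _ ⟨x, rfl⟩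
      rw [LinearMap.mem_ker]
      have := lc_w₃ J S hS 0
      exact congrArg (fun t => t.hom x) this)
  have hψ : Function.Bijective ψ := by
    constructor
    · rw [← LinearMap.ker_eq_bot, eq_bot_iff]
      intro y hy
      obtain ⟨y, rfl⟩ := Submodule.Quotient.mk_surjective _ y
      rw [LinearMap.mem_ker] at hy
      have hy' : (lcδ J S hS 0).hom y = 0 := hy
      obtain ⟨x, hx⟩ := hex y hy'
      rw [Submodule.mem_bot, Submodule.Quotient.mk_eq_zero]
      exact ⟨x, hx⟩
    · intro z
      obtain ⟨y, rfl⟩ := hsurj z
      exact ⟨Submodule.Quotient.mk y, rfl⟩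
  exact Injective.of_iso (LinearEquiv.ofBijective ψ hψ).toModuleIso hc

/-- `H^0(C)` is injective if `H^0(M)` is and `H^1(M) = 0` -/
lemma injective_lc_zero_X₃ (S : ShortComplex (ModuleCat.{u} R)) (hS : S.ShortExact)
    [Injective S.X₂] (h0 : Injective ((localCohomology J 0).obj S.X₁))
    (h1 : IsZero ((localCohomology J 1).obj S.X₁)) :
    Injective ((localCohomology J 0).obj S.X₃) := by
  have hr := injective_range J S hS h0
  have hepi : Epi ((localCohomology J 0).map S.g) :=
    (lc_exact₃ J S hS 0).epi_f (h1.eq_of_tgt _ _)
  have hsurj : Function.Surjective ((localCohomology J 0).map S.g).hom :=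
    (ModuleCat.epi_iff_surjective _).1 hepi
  have hrange : LinearMap.range ((localCohomology J 0).map S.g).hom = ⊤ :=
    LinearMap.range_eq_top.2 hsurj
  let e : LinearMap.range ((localCohomology J 0).map S.g).hom ≃ₗ[R]
      (localCohomology J 0).obj S.X₃ :=
    (LinearEquiv.ofEq _ _ hrange).trans Submodule.topEquiv
  exact Injective.of_iso e.toModuleIso hr

/-- **Injectivity of top local cohomology** by dimension shifting. -/
theorem injective_lc (n : ℕ) : ∀ (M : ModuleCat.{u} R), HasInjectiveDimensionLT M (n + 2) →
    (∀ j, 0 < j → j < n + 1 → IsZero ((localCohomology J j).obj M)) →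
    Injective ((localCohomology J 0).obj M) →
    Injective ((localCohomology J (n + 1)).obj M) := by
  induction n with
  | zero =>
    intro M hM _ h0
    let S : ShortComplex (ModuleCat.{u} R) :=
      ShortComplex.mk (Injective.ι M) (cokernel.π (Injective.ι M)) (cokernel.condition _)
    have hS : S.ShortExact :=
      { exact := ShortComplex.exact_cokernel _
        mono_f := inferInstanceAs (Mono (Injective.ι M))
        epi_g := inferInstanceAs (Epi (cokernel.π (Injective.ι M))) }
    have hI : Injective S.X₂ := inferInstanceAs (Injective (Injective.under M))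
    have hC : HasInjectiveDimensionLT S.X₃ 1 :=
      (hS.hasInjectiveDimensionLT_X₃_iff 0 hI).2 hM
    have hC' : Injective S.X₃ := inferInstance
    exact injective_lc_one J S hS h0 (injective_lc_zero J S.X₃)
  | succ n ih =>
    intro M hM hvan h0
    let S : ShortComplex (ModuleCat.{u} R) :=
      ShortComplex.mk (Injective.ι M) (cokernel.π (Injective.ι M)) (cokernel.condition _)
    have hS : S.ShortExact :=
      { exact := ShortComplex.exact_cokernel _
        mono_f := inferInstanceAs (Mono (Injective.ι M))
        epi_g := inferInstanceAs (Epi (cokernel.π (Injective.ι M))) }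
    have hI : Injective S.X₂ := inferInstanceAs (Injective (Injective.under M))
    have hC : HasInjectiveDimensionLT S.X₃ (n + 2) :=
      (hS.hasInjectiveDimensionLT_X₃_iff (n + 1) hI).2 hM
    have hvanC : ∀ j, 0 < j → j < n + 1 → IsZero ((localCohomology J j).obj S.X₃) := by
      intro j hj hjn
      obtain ⟨j, rfl⟩ : ∃ j', j = j' + 1 := ⟨j - 1, by omega⟩
      have := isIso_lcδ_succ J S hS j
      exact (hvan (j + 1 + 1) (by omega) (by omega)).of_iso (asIso (lcδ J S hS (j + 1)))
    have h0C : Injective ((localCohomology J 0).obj S.X₃) :=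
      injective_lc_zero_X₃ J S hS h0 (hvan 1 (by omega) (by omega))
    have := ih S.X₃ hC hvanC h0C
    have hiso := isIso_lcδ_succ J S hS n
    exact Injective.of_iso (asIso (lcδ J S hS (n + 1))) this

end

end Groth.Agent.Helper1.GorTop
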