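import Mathlib
import Groth.Agent.Helper1.LocCohIso
import Groth.Agent.Helper1.LocCohLinear
import Groth.Agent.Helper1.LocCohDepth

set_option autoImplicit false

/-!
# `Hom(N, H^t_𝔪(M))` along a regular sequence killing `N`

For an `M`-regular sequence `rs` in `𝔪` of length `t` and a module `N` killed by `rs`:
`Hom(N, H^t_𝔪(M)) ≅ Hom(N, H^0_𝔪(M/(rs)M))`.
-/

namespace Groth.Agent.Helper1.GorTop
open CategoryTheory Limits Opposite Groth.Agent.Helper1.LocCohDelta IsLocalRing
open RingTheory.Sequence Pointwise

universe u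

variable {R : Type u} [CommRing R] (J : Ideal R)

/-- one step: `Hom(N, H^t(M/xM)) ≃ Hom(N, H^{t+1}(M))` when `xN = 0`, `x` is `M`-regular and
`H^t(M) = 0` -/
theorem nonempty_homEquiv (M : ModuleCat.{u} R) (x : R) (hreg : IsSMulRegular M x) (t : ℕ)
    (hz : IsZero ((localCohomology J t).obj M)) (N : Type u) [AddCommGroup N] [Module R N]
    (hN : ∀ n : N, x • n = 0) :
    Nonempty ((N →ₗ[R] (localCohomology J t).obj (ModuleCat.of R (QuotSMulTop x M))) ≃ₗ[R]
      (N →ₗ[R] (localCohomology J (t + 1)).obj M)) := by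
  let S := ModuleCat.smulShortComplex M x
  have hS : S.ShortExact := IsSMulRegular.smulShortComplex_shortExact (M := M) hreg
  have hmono : Mono (lcδ J S hS t) := (lc_exact₃ J S hS t).mono_g (hz.eq_of_src _ _)
  have hinj : Function.Injective (lcδ J S hS t).hom := (ModuleCat.mono_iff_injective _).1 hmono
  have hex := (ShortComplex.moduleCat_exact_iff _).1 (lc_exact₁ J S hS t)
  have hfm : (localCohomology J (t + 1)).map S.f =
      x • 𝟙 ((localCohomology J (t + 1)).obj M) := by
    show (localCohomology J (t + 1)).map (x • 𝟙 M) = _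
    rw [lc_map_smul, CategoryTheory.Functor.map_id]
  have hrange : ∀ y : (localCohomology J (t + 1)).obj M, x • y = 0 →
      y ∈ LinearMap.range (lcδ J S hS t).hom := by
    intro y hy
    have : ((localCohomology J (t + 1)).map S.f).hom y = 0 := by
      rw [hfm]
      exact hy
    obtain ⟨z, hz⟩ := hex y this
    exact ⟨z, hz⟩
  let e := LinearEquiv.ofInjective (lcδ J S hS t).hom hinj
  let F : (N →ₗ[R] (localCohomology J t).obj (ModuleCat.of R (QuotSMulTop x M))) →ₗ[R]
      (N →ₗ[R] (localCohomology J (t + 1)).obj M) :=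
    LinearMap.llcomp R N _ _ (lcδ J S hS t).hom
  have hF : Function.Bijective F := by
    constructor
    · intro φ ψ h
      ext n
      apply hinj
      exact LinearMap.congr_fun h n
    · intro ψ
      have hψ : ∀ n, ψ n ∈ LinearMap.range (lcδ J S hS t).hom := by
        intro n
        apply hrange
        rw [← map_smul, hN, map_zero]
      refine ⟨e.symm.toLinearMap ∘ₗ LinearMap.codRestrict _ ψ hψ, ?_⟩
      ext n
      show (lcδ J S hS t).hom (e.symm ⟨ψ n, hψ n⟩) = ψ n
      have := e.apply_symm_apply ⟨ψ n, hψ n⟩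
      exact congrArg Subtype.val this
  exact ⟨LinearEquiv.ofBijective F hF⟩

/-- the iterated quotient `M/(rs)M` -/
noncomputable def Q : List R → ModuleCat.{u} R → ModuleCat.{u} R
  | [], M => M
  | r :: rs, M => Q rs (ModuleCat.of R (QuotSMulTop r M))

lemma Q_nil (M : ModuleCat.{u} R) : Q [] M = M := rfl

lemma Q_cons (r : R) (rs : List R) (M : ModuleCat.{u} R) :
    Q (r :: rs) M = Q rs (ModuleCat.of R (QuotSMulTop r M)) := rfl

lemma finite_Q (rs : List R) : ∀ (M : ModuleCat.{u} R), Module.Finite R M →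
    Module.Finite R (Q rs M) := by
  induction rs with
  | nil => intro M h; exact h
  | cons r rs ih =>
    intro M h
    rw [Q_cons]
    exact ih _ (inferInstanceAs (Module.Finite R (QuotSMulTop r M)))

/-- a surjection `M → Q rs M` -/
lemma exists_surjective_Q (rs : List R) : ∀ (M : ModuleCat.{u} R),
    ∃ f : M →ₗ[R] Q rs M, Function.Surjective f := by
  induction rs with
  | nil => intro M; exact ⟨LinearMap.id, Function.surjective_id⟩
  | cons r rs ih =>
    intro M
    obtain ⟨f, hf⟩ := ih (ModuleCat.of R (QuotSMulTop r M))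
    refine ⟨f ∘ₗ Submodule.mkQ _, ?_⟩
    exact hf.comp (Submodule.mkQ_surjective _)

/-- `Q rs M` is killed by every element of `rs` -/
lemma smul_Q (rs : List R) : ∀ (M : ModuleCat.{u} R), ∀ r ∈ rs, ∀ q : Q rs M, r • q = 0 := by
  induction rs with
  | nil => intro M r hr; simp at hr
  | cons a rs ih =>
    intro M r hr
    show ∀ q : ↑(Q rs (ModuleCat.of R (QuotSMulTop a M))), r • q = 0
    intro q
    rw [List.mem_cons] at hr
    rcases hr with rfl | hr
    · obtain ⟨f, hf⟩ := exists_surjective_Q rs (ModuleCat.of R (QuotSMulTop r M))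
      obtain ⟨y, rfl⟩ := hf q
      obtain ⟨m, rfl⟩ := Submodule.mkQ_surjective _ y
      rw [← map_smul, ← map_smul]
      have : (r • (⊤ : Submodule R M)).mkQ (r • m) = 0 := by
        rw [Submodule.mkQ_apply, Submodule.Quotient.mk_eq_zero]
        exact Submodule.smul_mem_pointwise_smul m r ⊤ Submodule.mem_top
      rw [this, map_zero]
    · exact ih _ r hr q

end Groth.Agent.Helper1.GorTop
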