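import Mathlib

/-!
Dimension of finite modules over Noetherian rings: finite length iff dimension `≤ 0`,
and the characterisation of the dimension by systems of parameters in the Jacobson radical
(semi-local case).
-/

namespace Groth.Agent.Helper1.SupportDim

open Module Ideal

universe v
variable {A : Type*} [CommRing A] {M : Type*} [AddCommGroup M] [Module A M]

/-- `A ⧸ Ann M` embeds into a finite power of `M` when `M` is finite. -/
lemma isArtinianRing_quotient_annihilator [Module.Finite A M] [IsArtinian A M] :
    IsArtinianRing (A ⧸ annihilator A M) := by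
  classical
  obtain ⟨s, hs⟩ := (Module.Finite.fg_top : (⊤ : Submodule A M).FG)
  let φ : A →ₗ[A] (s → M) := LinearMap.pi fun m => LinearMap.toSpanSingleton A M m.1
  have hker : LinearMap.ker φ = annihilator A M := by
    ext a
    simp only [LinearMap.mem_ker, Module.mem_annihilator]
    constructor
    · intro h m
      have hm : m ∈ Submodule.span A (s : Set M) := by rw [hs]; trivial
      refine Submodule.span_induction ?_ ?_ ?_ ?_ hm
      · intro x hx
        have := congrFun h ⟨x, hx⟩
        simpa [φ] using this
      · simp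
      · intro x y _ _ hx hy; rw [smul_add, hx, hy, add_zero]
      · intro c x _ hx; rw [smul_comm, hx, smul_zero]
    · intro h
      ext m
      simp [φ, h]
  have hart : IsArtinian A (A ⧸ LinearMap.ker φ) :=
    isArtinian_of_injective ((LinearMap.ker φ).liftQ φ le_rfl)
      (LinearMap.ker_eq_bot.mp (Submodule.ker_liftQ_eq_bot _ _ _ le_rfl))
  rw [hker] at hart
  exact isArtinian_of_tower A hart

lemma supportDim_le_zero_of_isFiniteLength [Module.Finite A M] (h : IsFiniteLength A M) :
    supportDim A M ≤ 0 := by
  have hArt : IsArtinian A M := (isFiniteLength_iff_isNoetherian_isArtinian.mp h).2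
  have := isArtinianRing_quotient_annihilator (A := A) (M := M)
  rw [supportDim_eq_ringKrullDim_quotient_annihilator]
  have : Ring.KrullDimLE 0 (A ⧸ annihilator A M) := inferInstance
  exact_mod_cast Ring.krullDimLE_iff.mp this

lemma isFiniteLength_of_supportDim_le_zero [IsNoetherianRing A] [Module.Finite A M]
    (h : supportDim A M ≤ 0) : IsFiniteLength A M := by
  rw [supportDim_eq_ringKrullDim_quotient_annihilator] at h
  have hk : Ring.KrullDimLE 0 (A ⧸ annihilator A M) := Ring.krullDimLE_iff.mpr (by exact_mod_cast h)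
  have hArt : IsArtinianRing (A ⧸ annihilator A M) :=
    IsNoetherianRing.isArtinianRing_of_krullDimLE_zero
  let _ : Module (A ⧸ annihilator A M) M := Module.quotientAnnihilator
  have hfin : Module.Finite (A ⧸ annihilator A M) M :=
    Module.Finite.of_restrictScalars_finite A _ M
  have h1 : IsArtinian (A ⧸ annihilator A M) M := inferInstance
  have h2 : IsArtinian A M :=
    isArtinian_of_surjective_algebraMap (R := A ⧸ annihilator A M) Ideal.Quotient.mk_surjective
  have h3 : IsNoetherian A M := isNoetherian_of_isNoetherianRing_of_finite A M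
  exact isFiniteLength_iff_isNoetherian_isArtinian.mpr ⟨h3, h2⟩


open RingTheory Sequence PrimeSpectrum Pointwise Submodule in
/-- Upper bound: if `M / (rs) M` has finite length with `rs` in the Jacobson radical then
`dim M ≤ rs.length`. -/
theorem supportDim_le_length_of_isFiniteLength {A : Type*} [CommRing A] [IsNoetherianRing A] :
    ∀ (rs : List A) (M : Type v) [AddCommGroup M] [Module A M] [Module.Finite A M],
      (∀ r ∈ rs, r ∈ Ring.jacobson A) →
      IsFiniteLength A (M ⧸ (Ideal.ofList rs • (⊤ : Submodule A M))) →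
      supportDim A M ≤ rs.length := by
  intro rs
  induction rs with
  | nil =>
    intro M _ _ _ _ hfl
    have hbot : (Ideal.ofList ([] : List A) • (⊤ : Submodule A M)) = ⊥ := by
      rw [Ideal.ofList_nil, Submodule.bot_smul]
    have e : (M ⧸ (Ideal.ofList ([] : List A) • (⊤ : Submodule A M))) ≃ₗ[A] M :=
      Submodule.quotEquivOfEqBot _ hbot
    simpa using supportDim_le_zero_of_isFiniteLength (e.isFiniteLength hfl)
  | cons r rs ih =>
    intro M _ _ _ hrs hfl
    have e := Submodule.quotOfListConsSMulTopEquivQuotSMulTopInner M r rs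
    have h1 := ih (QuotSMulTop r M) (fun x hx => hrs x (List.mem_cons_of_mem _ hx))
      (e.isFiniteLength hfl)
    have h2 := Module.supportDim_le_supportDim_quotSMulTop_succ_of_mem_jacobson (M := M)
      (x := r) ((annihilator A M).ringJacobson_le_jacobson (hrs r List.mem_cons_self))
    refine h2.trans ?_
    rw [List.length_cons, Nat.cast_add, Nat.cast_one]
    exact add_le_add_left h1 1

open PrimeSpectrum in
/-- cutting down the dimension by an element avoiding the non-maximal minimal primes. -/
theorem supportDim_quotSMulTop_le {A : Type*} [CommRing A] {M : Type*} [AddCommGroup M]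
    [Module A M] [Module.Finite A M] {x : A}
    (hn : ∀ p ∈ (annihilator A M).minimalPrimes, ¬ p.IsMaximal → x ∉ p) (d : ℕ)
    (h : supportDim A M ≤ d + 1) : supportDim A (QuotSMulTop x M) ≤ d := by
  unfold supportDim Order.krullDim at *
  refine iSup_le fun p => ?_
  have hp := p.head.2
  simp only [support_quotSMulTop, Set.mem_inter_iff, mem_zeroLocus,
    Set.singleton_subset_iff] at hp
  have le : support A (QuotSMulTop x M) ⊆ support A M := by simp
  let q : LTSeries (support A M) :=
    p.map (Set.MapsTo.restrict id (support A (QuotSMulTop x M)) (support A M) le) (fun _ _ h ↦ h)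
  obtain ⟨r, hrm, hr⟩ := Ideal.exists_minimalPrimes_le (mem_support_iff_of_finite.mp q.head.2)
  by_cases hmax : r.IsMaximal
  · -- then the chain has length zero
    have hreq : r = q.head.1.asIdeal := hmax.eq_of_le q.head.1.isPrime.ne_top hr
    by_cases hlen : p.length = 0
    · rw [hlen]; simp
    · exfalso
      have h1lt : 1 < p.length + 1 := by omega
      have h01 : (0 : Fin (p.length + 1)) < ⟨1, h1lt⟩ := by
        rw [Fin.lt_def]; simp
      have hlt : p 0 < p ⟨1, h1lt⟩ := p.strictMono h01
      have hlt' : (p 0).1.asIdeal < (p ⟨1, h1lt⟩).1.asIdeal := hlt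
      have h0 : (p 0).1.asIdeal = r := hreq.symm
      rw [h0] at hlt'
      exact absurd (hmax.eq_of_le (p ⟨1, h1lt⟩).1.isPrime.ne_top hlt'.le) (ne_of_lt hlt')
  · have hxr : x ∉ r := hn r hrm hmax
    let r' : support A M := ⟨⟨r, hrm.isPrime⟩, mem_support_iff_of_finite.mpr hrm.1.2⟩
    have hr' : r' < q.head := lt_of_le_of_ne hr (fun h ↦ hxr (by
      have : r = q.head.1.asIdeal := congrArg (fun z : support A M => z.1.asIdeal) h
      rw [this]; exact hp.2))
    have hlen := (le_iSup (fun s : LTSeries (support A M) => (s.length : WithBot ℕ∞))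
      (q.cons r' hr')).trans h
    have hlen' : ((p.length + 1 : ℕ) : WithBot ℕ∞) ≤ ((d + 1 : ℕ) : WithBot ℕ∞) := by
      simpa [q] using hlen
    have : p.length + 1 ≤ d + 1 := by exact_mod_cast hlen'
    exact_mod_cast Nat.le_of_succ_le_succ this


/-- In a ring with finitely many maximal ideals, a prime containing the Jacobson radical is
maximal. -/
theorem isMaximal_of_jacobson_le {A : Type*} [CommRing A] [Finite (MaximalSpectrum A)]
    (p : Ideal A) [hp : p.IsPrime] (h : Ring.jacobson A ≤ p) : p.IsMaximal := by
  classical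
  have hfin : {I : Ideal A | I.IsMaximal}.Finite := by
    have : {I : Ideal A | I.IsMaximal} = Set.range (fun m : MaximalSpectrum A => m.asIdeal) := by
      ext I
      constructor
      · intro hI; exact ⟨⟨I, hI⟩, rfl⟩
      · rintro ⟨m, rfl⟩; exact m.isMaximal
    rw [this]
    exact Set.finite_range _
  rw [Ring.jacobson_eq_sInf_isMaximal] at h
  have h' : hfin.toFinset.inf id ≤ p := by
    refine le_trans ?_ h
    refine le_sInf fun I hI => ?_
    exact Finset.inf_le (f := id) (hfin.mem_toFinset.mpr hI)
  obtain ⟨I, hI, hIp⟩ := (Ideal.IsPrime.inf_le' hp).mp h'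
  have hImax : I.IsMaximal := hfin.mem_toFinset.mp hI
  have : I = p := hImax.eq_of_le hp.ne_top hIp
  exact this ▸ hImax

/-- prime avoidance in the semilocal case -/
theorem exists_mem_jacobson_notMem {A : Type*} [CommRing A] [IsNoetherianRing A]
    [Finite (MaximalSpectrum A)] (I : Ideal A) :
    ∃ x ∈ Ring.jacobson A, ∀ p ∈ I.minimalPrimes, ¬ p.IsMaximal → x ∉ p := by
  classical
  have hfin : {p ∈ I.minimalPrimes | ¬ p.IsMaximal}.Finite :=
    (I.finite_minimalPrimes_of_isNoetherianRing).subset (Set.sep_subset _ _)
  by_contra hcon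
  push Not at hcon
  have hcover : (Ring.jacobson A : Set A) ⊆
      ⋃ p ∈ (hfin.toFinset : Set (Ideal A)), ((id p : Ideal A) : Set A) := by
    intro x hx
    obtain ⟨p, hp, hpmax, hxp⟩ := hcon x hx
    simp only [Set.Finite.coe_toFinset, id_eq, Set.mem_iUnion, SetLike.mem_coe, exists_prop]
    exact ⟨p, ⟨hp, hpmax⟩, hxp⟩
  obtain ⟨p, hp, hle⟩ := (Ideal.subset_union_prime (s := hfin.toFinset) (f := id) ⊥ ⊥
    (fun p hp _ _ => ((hfin.mem_toFinset.mp hp).1).isPrime)).mp hcover
  have hp' := hfin.mem_toFinset.mp hp
  have := hp'.1.isPrime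
  exact hp'.2 (isMaximal_of_jacobson_le p hle)

/-- Lower bound: existence of a system of parameters in the Jacobson radical. -/
theorem exists_list_of_supportDim_le {A : Type*} [CommRing A] [IsNoetherianRing A]
    [Finite (MaximalSpectrum A)] :
    ∀ (d : ℕ) (M : Type v) [AddCommGroup M] [Module A M] [Module.Finite A M],
      supportDim A M ≤ d →
      ∃ rs : List A, rs.length = d ∧ (∀ r ∈ rs, r ∈ Ring.jacobson A) ∧
        IsFiniteLength A (M ⧸ (Ideal.ofList rs • (⊤ : Submodule A M))) := by
  intro d
  induction d with
  | zero =>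
    intro M _ _ _ h
    refine ⟨[], rfl, by simp, ?_⟩
    have hbot : (Ideal.ofList ([] : List A) • (⊤ : Submodule A M)) = ⊥ := by
      rw [Ideal.ofList_nil, Submodule.bot_smul]
    have e : (M ⧸ (Ideal.ofList ([] : List A) • (⊤ : Submodule A M))) ≃ₗ[A] M :=
      Submodule.quotEquivOfEqBot _ hbot
    exact e.symm.isFiniteLength (isFiniteLength_of_supportDim_le_zero (by simpa using h))
  | succ d ih =>
    intro M _ _ _ h
    obtain ⟨x, hxj, hx⟩ := exists_mem_jacobson_notMem (annihilator A M)
    have hdim : supportDim A (QuotSMulTop x M) ≤ d :=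
      supportDim_quotSMulTop_le hx d (by simpa using h)
    obtain ⟨rs, hlen, hrs, hfl⟩ := ih (QuotSMulTop x M) hdim
    refine ⟨x :: rs, by simp [hlen], ?_, ?_⟩
    · intro r hr
      rcases List.mem_cons.mp hr with rfl | hr
      · exact hxj
      · exact hrs r hr
    · exact (Submodule.quotOfListConsSMulTopEquivQuotSMulTopInner M x rs).symm.isFiniteLength hfl

end Groth.Agent.Helper1.SupportDim
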