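import Mathlib
import Groth.Agent.Helper1.GorTopB
import Groth.Agent.Helper1.SupportDim
import Groth.Agent.Helper2.MatlisLen
import Groth.Agent.Helper2.Depth

set_option autoImplicit false

/-!
# Counting the socle of the top local cohomology
-/

namespace Groth.Agent.Helper1.GorTop
open CategoryTheory Limits Opposite Groth.Agent.Helper1.LocCohDelta IsLocalRing
open RingTheory.Sequence Pointwise

universe u

variable {R : Type u} [CommRing R] [IsLocalRing R] [IsNoetherianRing R]

lemma nontrivial_Q (rs : List R) : ∀ (M : ModuleCat.{u} R), Module.Finite R M → Nontrivial M →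
    (∀ r ∈ rs, r ∈ maximalIdeal R) → Nontrivial (Q rs M) := by
  induction rs with
  | nil => intro M _ h _; exact h
  | cons r rs ih =>
    intro M hf hn hm
    rw [Q_cons]
    refine ih _ (inferInstanceAs (Module.Finite R (QuotSMulTop r M))) ?_
      (fun a ha => hm a (List.mem_cons_of_mem _ ha))
    exact nontrivial_quotSMulTop_of_mem_maximalIdeal M (hm r List.mem_cons_self)

lemma supportDim_Q (rs : List R) : ∀ (M : ModuleCat.{u} R), Module.Finite R M →
    IsWeaklyRegular M rs → (∀ r ∈ rs, r ∈ maximalIdeal R) →
    Module.supportDim R (Q rs M) + rs.length = Module.supportDim R M := by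
  induction rs with
  | nil =>
    intro M _ _ _
    rw [Q_nil, List.length_nil, Nat.cast_zero, add_zero]
  | cons r rs ih =>
    intro M hf hreg hm
    rw [isWeaklyRegular_cons_iff] at hreg
    have h1 := ih (ModuleCat.of R (QuotSMulTop r M))
      (inferInstanceAs (Module.Finite R (QuotSMulTop r M))) hreg.2
      (fun a ha => hm a (List.mem_cons_of_mem _ ha))
    have h2 := Module.supportDim_quotSMulTop_succ_eq_supportDim (M := M) hreg.1
      (hm r List.mem_cons_self)
    rw [Q_cons, List.length_cons, Nat.cast_add, Nat.cast_one, ← add_assoc, h1]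
    exact h2

/-- vanishing below the length of a regular sequence -/
lemma isZero_lc_of_isWeaklyRegular (M : ModuleCat.{u} R) [Module.Finite R M] (rs : List R)
    (hreg : IsWeaklyRegular M rs) (hm : ∀ r ∈ rs, r ∈ maximalIdeal R) (j : ℕ)
    (hj : j < rs.length) : IsZero ((localCohomology (maximalIdeal R) j).obj M) := by
  by_cases hM : Subsingleton M
  · have hz : IsZero M := ModuleCat.isZero_of_subsingleton M
    have : (localCohomology (maximalIdeal R) j).PreservesZeroMorphisms :=
      Functor.preservesZeroMorphisms_of_iso (lcIso (maximalIdeal R) j).symm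
    exact Functor.map_isZero _ hz
  · rw [not_subsingleton_iff_nontrivial] at hM
    have hIM : maximalIdeal R • (⊤ : Submodule R M) ≠ ⊤ :=
      Groth.Agent.Helper2.Depth.smul_top_ne_top R M
    have h1 : (rs.length : ℕ∞) ≤ LocCoh.idealDepth (maximalIdeal R) M :=
      (LocCohDepth.le_idealDepth_iff (maximalIdeal R) M hIM rs.length).2 ⟨rs, rfl, hm, hreg⟩
    have := (LocCohDepth.le_idealDepth_iff_lc (maximalIdeal R) M hIM rs.length).1 h1 j hj
    exact ModuleCat.isZero_iff_subsingleton.2 this

/-- the iterated `Hom` shift -/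
theorem nonempty_homEquiv_list (rs : List R) : ∀ (M : ModuleCat.{u} R), Module.Finite R M →
    IsWeaklyRegular M rs → (∀ r ∈ rs, r ∈ maximalIdeal R) →
    ∀ (N : Type u) [AddCommGroup N] [Module R N], (∀ r ∈ rs, ∀ n : N, r • n = 0) →
    Nonempty ((N →ₗ[R] (localCohomology (maximalIdeal R) 0).obj (Q rs M)) ≃ₗ[R]
      (N →ₗ[R] (localCohomology (maximalIdeal R) rs.length).obj M)) := by
  induction rs with
  | nil =>
    intro M _ _ _ N _ _ _
    exact ⟨LinearEquiv.refl _ _⟩
  | cons r rs ih =>
    intro M hf hreg hm N _ _ hN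
    have hreg' := (isWeaklyRegular_cons_iff _ _ _).1 hreg
    obtain ⟨e1⟩ := ih (ModuleCat.of R (QuotSMulTop r M))
      (inferInstanceAs (Module.Finite R (QuotSMulTop r M))) hreg'.2
      (fun a ha => hm a (List.mem_cons_of_mem _ ha)) N
      (fun a ha => hN a (List.mem_cons_of_mem _ ha))
    have hz : IsZero ((localCohomology (maximalIdeal R) rs.length).obj M) :=
      isZero_lc_of_isWeaklyRegular M (r :: rs) hreg hm rs.length (by simp)
    obtain ⟨e2⟩ := nonempty_homEquiv (maximalIdeal R) M r hreg'.1 rs.length hz N
      (hN r List.mem_cons_self)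
    exact ⟨e1.trans e2⟩

/-- length of `Hom(M, E)` for injective `E`: multiplicative in the socle length -/
lemma length_hom {E : Type u} [AddCommGroup E] [Module R E] (hinj : Module.Injective R E) :
    ∀ (M : Type u) [AddCommGroup M] [Module R M], IsFiniteLength R M →
      Module.length R (M →ₗ[R] E) =
        Module.length R (ResidueField R →ₗ[R] E) * Module.length R M := by
  intro M _ _ hM
  induction hM with
  | @of_subsingleton M _ _ _ =>
    have : Subsingleton (M →ₗ[R] E) := ⟨fun φ ψ => LinearMap.ext fun x => by
      rw [Subsingleton.elim x 0, map_zero, map_zero]⟩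
    rw [Module.length_eq_zero (M := M →ₗ[R] E), Module.length_eq_zero (M := M), mul_zero]
  | @of_simple_quotient M _ _ N hS hN ih =>
    let f : (M ⧸ N →ₗ[R] E) →ₗ[R] (M →ₗ[R] E) := LinearMap.lcomp R E N.mkQ
    let g : (M →ₗ[R] E) →ₗ[R] (N →ₗ[R] E) := LinearMap.lcomp R E N.subtype
    have hf : Function.Injective f := by
      intro φ ψ h
      ext x
      exact LinearMap.congr_fun h x
    have hg : Function.Surjective g := by
      intro φ
      obtain ⟨ψ, hψ⟩ := Module.Injective.extension_property R E N M N.subtype
        N.injective_subtype φ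
      exact ⟨ψ, hψ⟩
    have hex : Function.Exact f g := by
      intro φ
      constructor
      · intro h
        have hker : N ≤ LinearMap.ker φ := by
          intro x hx
          rw [LinearMap.mem_ker]
          exact LinearMap.congr_fun h ⟨x, hx⟩
        refine ⟨N.liftQ φ hker, ?_⟩
        ext x
        rfl
      · rintro ⟨ψ, rfl⟩
        ext x
        change ψ (N.mkQ (x : M)) = 0
        rw [Submodule.mkQ_apply, (Submodule.Quotient.mk_eq_zero N).2 x.2, map_zero]
    have h1 := Module.length_eq_add_of_exact f g hf hg hex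
    have h2 := Module.length_eq_add_of_exact N.subtype N.mkQ N.injective_subtype
      N.mkQ_surjective (LinearMap.exact_subtype_mkQ N)
    obtain ⟨e⟩ := Groth.Agent.Helper2.MatlisLen.nonempty_equiv_residueField (A := R) (M ⧸ N)
    have hs : Module.length R (M ⧸ N →ₗ[R] E) = Module.length R (ResidueField R →ₗ[R] E) :=
      (LinearEquiv.congrLeft E R e).length_eq
    rw [h1, h2, ih, hs, Module.length_eq_one R (M ⧸ N), mul_add, mul_one, add_comm]

omit [IsLocalRing R] [IsNoetherianRing R] in
/-- endomorphisms of a cyclic module -/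
lemma nonempty_end_equiv_of_cyclic (N : Type u) [AddCommGroup N] [Module R N]
    (p : R →ₗ[R] N) (hp : Function.Surjective p) : Nonempty ((N →ₗ[R] N) ≃ₗ[R] N) := by
  let F : (N →ₗ[R] N) →ₗ[R] N := LinearMap.applyₗ (p 1)
  have hF : Function.Bijective F := by
    constructor
    · intro φ ψ h
      ext n
      obtain ⟨a, rfl⟩ := hp n
      have h' : φ (p 1) = ψ (p 1) := h
      have ha : p a = a • p 1 := by rw [← map_smul, smul_eq_mul, mul_one]
      rw [ha, map_smul, map_smul, h']
    · intro y
      -- the map `p a ↦ a • y`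
      have hker : LinearMap.ker p ≤ LinearMap.ker (LinearMap.toSpanSingleton R N y) := by
        intro a ha
        rw [LinearMap.mem_ker] at ha ⊢
        obtain ⟨b, rfl⟩ := hp y
        rw [LinearMap.toSpanSingleton_apply, ← map_smul, smul_eq_mul, mul_comm, ← smul_eq_mul,
          map_smul, ha, smul_zero]
      let e := (LinearMap.quotKerEquivOfSurjective p hp)
      refine ⟨((LinearMap.ker p).liftQ _ hker) ∘ₗ e.symm.toLinearMap, ?_⟩
      show ((LinearMap.ker p).liftQ _ hker) (e.symm (p 1)) = y
      have h1 : e.symm (p 1) = Submodule.Quotient.mk 1 := by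
        rw [LinearEquiv.symm_apply_eq]
        rfl
      rw [h1, Submodule.liftQ_apply, LinearMap.toSpanSingleton_apply, one_smul]
  exact ⟨LinearEquiv.ofBijective F hF⟩

end Groth.Agent.Helper1.GorTop
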