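import Mathlib
import Groth.Agent.Helper1.GorTopA
import Groth.Agent.Helper1.GorTopC
import Groth.Agent.Helper1.LocCohTors
import Groth.Agent.Helper6.Bass5
import Groth.Agent.S5155

set_option autoImplicit false

/-!
# `H^n_𝔪(R)` is an injective hull of the residue field for a Gorenstein local ring of dimension `n`
-/

namespace Groth.Agent.Helper1.GorTop
open CategoryTheory Limits Opposite Groth.Agent.Helper1.LocCohDelta IsLocalRing
open RingTheory.Sequence Pointwise

universe u

variable {R : Type u} [CommRing R]

/-- criterion: an injective `𝔪`-torsion module `H` with `Hom(Q, H) ≅ Q` for some nonzero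
finite-length `Q` is an injective hull of the residue field -/
theorem exists_isInjectiveHull_of_count [IsLocalRing R] [IsNoetherianRing R]
    (H : Type u) [AddCommGroup H] [Module R H] (hinj : Module.Injective R H)
    (htors : LocCoh.IsPowerTorsion (maximalIdeal R) H)
    (Qm : Type u) [AddCommGroup Qm] [Module R Qm] [Nontrivial Qm] (hfl : IsFiniteLength R Qm)
    (e : (Qm →ₗ[R] H) ≃ₗ[R] Qm) :
    ∃ g : ResidueField R →ₗ[R] H, InjHull.IsInjectiveHull g := by
  apply (Groth.Agent.S5155.result R H).2
  refine ⟨hinj, htors, ?_⟩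
  rw [← Module.length_eq_one_iff]
  have h1 := length_hom hinj Qm hfl
  rw [e.length_eq] at h1
  have hpos : 0 < Module.length R Qm := Module.length_pos
  have hne : Module.length R Qm ≠ ⊤ := Module.length_ne_top_iff.2 hfl
  obtain ⟨a, ha⟩ := ENat.ne_top_iff_exists.1 hne
  rw [← ha] at h1 hpos
  generalize Module.length R (ResidueField R →ₗ[R] H) = c at h1 ⊢
  induction c using ENat.recTopCoe with
  | top =>
    exfalso
    rw [ENat.top_mul (by exact_mod_cast hpos.ne')] at h1
    exact ENat.coe_ne_top _ h1
  | coe c =>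
    have h2 : a = c * a := by exact_mod_cast h1
    have ha0 : 0 < a := by exact_mod_cast hpos
    have : c = 1 := by nlinarith
    rw [this]
    rfl

/-- finite modules of dimension zero are `𝔪`-torsion -/
lemma isTors_of_supportDim_eq_zero [IsLocalRing R] [IsNoetherianRing R] (M : ModuleCat.{u} R)
    [Module.Finite R M] (hM : Module.supportDim R M = 0) : IsTors (maximalIdeal R) M := by
  have hs := support_of_supportDim_eq_zero (R := R) (N := M) hM
  rw [Module.support_eq_zeroLocus] at hs
  have h2 := (PrimeSpectrum.zeroLocus_subset_zeroLocus_iff _ _).1 hs.le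
  obtain ⟨k, hk⟩ := Ideal.exists_pow_le_of_le_radical_of_fg h2 (IsNoetherian.noetherian _)
  intro x
  exact ⟨k, fun c hc => Module.mem_annihilator.1 (hk hc) x⟩

theorem exists_isInjectiveHull [LocCoh.IsGorensteinLocalRing R] (n : ℕ)
    (hn : ringKrullDim R = n) :
    ∃ g : ResidueField R →ₗ[R] LocCoh.H (maximalIdeal R) n R, InjHull.IsInjectiveHull g := by
  have hcm : LocCoh.IsCohenMacaulayLocalRing R := Groth.Agent.Helper6.Bass.cm_of_gorenstein
  have hdepth : LocCoh.depth R R = n := by
    have h1 := hcm.supportDim_eq_depth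
    rw [Module.supportDim_self_eq_ringKrullDim, hn] at h1
    have : ((n : ℕ∞) : WithBot ℕ∞) = ((LocCoh.depth R R : ℕ∞) : WithBot ℕ∞) := h1
    exact (WithBot.coe_injective this).symm
  have hIM : maximalIdeal R • (⊤ : Submodule R R) ≠ ⊤ :=
    Groth.Agent.Helper2.Depth.smul_top_ne_top R R
  obtain ⟨rs, hlen, hm, hreg⟩ :=
    (LocCohDepth.le_idealDepth_iff (maximalIdeal R) R hIM n).1 hdepth.ge
  -- injective dimension
  have hid : HasInjectiveDimensionLT (ModuleCat.of R R) (n + 1) :=
    Groth.Agent.Helper6.Bass.hasInjectiveDimensionLT_of_ext_residueField R n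
      (fun i hi => (Groth.Agent.Helper6.Bass.gorenstein_top n hn).2 (R ⧸ maximalIdeal R) i hi)
  have hvan : ∀ j, j < n → IsZero ((localCohomology (maximalIdeal R) j).obj (ModuleCat.of R R)) := by
    intro j hj
    exact isZero_lc_of_isWeaklyRegular (ModuleCat.of R R) rs hreg hm j (hlen ▸ hj)
  have hinjobj : Injective ((localCohomology (maximalIdeal R) n).obj (ModuleCat.of R R)) := by
    rcases Nat.eq_zero_or_pos n with rfl | hpos
    · have : Injective (ModuleCat.of R R) := by
        have : HasInjectiveDimensionLT (ModuleCat.of R R) 1 := hid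
        infer_instance
      exact injective_lc_zero (maximalIdeal R) _
    · obtain ⟨k, rfl⟩ : ∃ k, n = k + 1 := ⟨n - 1, by omega⟩
      refine injective_lc (maximalIdeal R) k (ModuleCat.of R R) hid
        (fun j _ hj => hvan j hj) ?_
      exact (hvan 0 (by omega)).injective
  have hinj : Module.Injective R (LocCoh.H (maximalIdeal R) n R) :=
    Module.injective_module_of_injective_object R _
  have htors : LocCoh.IsPowerTorsion (maximalIdeal R) (LocCoh.H (maximalIdeal R) n R) :=
    LocCohTors.isPowerTorsion (maximalIdeal R) n (ModuleCat.of R R)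
  -- the module `Q = R/(rs)`
  have hQfin : Module.Finite R (Q rs (ModuleCat.of R R)) :=
    finite_Q rs _ (inferInstanceAs (Module.Finite R R))
  have hQnt : Nontrivial (Q rs (ModuleCat.of R R)) :=
    nontrivial_Q rs _ (inferInstanceAs (Module.Finite R R)) (inferInstanceAs (Nontrivial R)) hm
  have hQdim : Module.supportDim R (Q rs (ModuleCat.of R R)) = 0 := by
    have h1 := supportDim_Q rs (ModuleCat.of R R) (inferInstanceAs (Module.Finite R R)) hreg hm
    have h2 : Module.supportDim R (ModuleCat.of R R) = n := by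
      show Module.supportDim R R = n
      rw [Module.supportDim_self_eq_ringKrullDim, hn]
    rw [h2, hlen] at h1
    have h0 := (Module.supportDim_ne_bot_iff_nontrivial R (Q rs (ModuleCat.of R R))).2 hQnt
    generalize Module.supportDim R (Q rs (ModuleCat.of R R)) = y at h1 h0
    induction y using WithBot.recBotCoe with
    | bot => exact absurd rfl h0
    | coe y =>
      induction y using ENat.recTopCoe with
      | top =>
        exfalso
        have : ((⊤ : ℕ∞) : WithBot ℕ∞) + (n : WithBot ℕ∞) = ((⊤ : ℕ∞) : WithBot ℕ∞) := by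
          rw [show (n : WithBot ℕ∞) = ((n : ℕ∞) : WithBot ℕ∞) from rfl, ← WithBot.coe_add, top_add]
        rw [this] at h1
        have h3 : ((⊤ : ℕ∞) : WithBot ℕ∞) = ((n : ℕ∞) : WithBot ℕ∞) := h1
        exact ENat.top_ne_natCast n (WithBot.coe_injective h3)
      | coe y =>
        have h3 : (((y + n : ℕ) : ℕ∞) : WithBot ℕ∞) = ((n : ℕ∞) : WithBot ℕ∞) := by
          refine Eq.trans ?_ h1
          push_cast
          rfl
        have h4 : y + n = n := by exact_mod_cast WithBot.coe_injective h3
        have : y = 0 := by omega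
        rw [this]
        rfl
  have hQfl : IsFiniteLength R (Q rs (ModuleCat.of R R)) :=
    SupportDim.isFiniteLength_of_supportDim_le_zero hQdim.le
  have hQtors : IsTors (maximalIdeal R) (Q rs (ModuleCat.of R R)) :=
    isTors_of_supportDim_eq_zero _ hQdim
  obtain ⟨e1⟩ := nonempty_homEquiv_list rs (ModuleCat.of R R)
    (inferInstanceAs (Module.Finite R R)) hreg hm (Q rs (ModuleCat.of R R))
    (smul_Q rs (ModuleCat.of R R))
  let e2 := lcZeroEquivOfIsTors (maximalIdeal R) (Q rs (ModuleCat.of R R)) hQtors
  obtain ⟨p, hp⟩ := exists_surjective_Q rs (ModuleCat.of R R)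
  obtain ⟨e3⟩ := nonempty_end_equiv_of_cyclic (Q rs (ModuleCat.of R R)) p hp
  rw [hlen] at e1
  have e : (Q rs (ModuleCat.of R R) →ₗ[R] LocCoh.H (maximalIdeal R) n R) ≃ₗ[R]
      Q rs (ModuleCat.of R R) :=
    e1.symm.trans ((LinearEquiv.congrRight e2).trans e3)
  exact exists_isInjectiveHull_of_count _ hinj htors (Q rs (ModuleCat.of R R)) hQfl e

end Groth.Agent.Helper1.GorTop
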