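import Mathlib
import Groth.Agent.Helper1.ExtOldZero

set_option autoImplicit false

/-!
# A linear bridge between Mathlib's two `Ext`s for modules

`((Ext R (ModuleCat R) n).obj (op X)).obj Y ≃ₗ[R] Abelian.Ext X Y n`.
-/

namespace Groth.Agent.Helper1.ExtBridgeLin

open CategoryTheory Limits Opposite Abelian

universe u

variable {R : Type u} [CommRing R]

lemma mem_ker_iff {X : ModuleCat.{u} R} (P : ProjectiveResolution X)
    (Y : ModuleCat.{u} R) (n : ℕ)
    (f : ((P.complex.linearYonedaObj R Y).sc' n (n + 1) (n + 2)).X₂) :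
    f ∈ LinearMap.ker ((P.complex.linearYonedaObj R Y).sc' n (n + 1) (n + 2)).g.hom ↔
      P.complex.d (n + 2) (n + 1) ≫ (show P.complex.X (n + 1) ⟶ Y from f) = 0 := by
  rw [LinearMap.mem_ker]
  simp only [HomologicalComplex.sc', HomologicalComplex.shortComplexFunctor',
    ChainComplex.linearYonedaObj_d]
  exact Iff.rfl

/-- the `R`-linear map `Z^{n+1}(Hom(P, Y)) → Ext^{n+1}(X, Y)` -/
noncomputable def cyclesToExt {X : ModuleCat.{u} R} (P : ProjectiveResolution X)
    (Y : ModuleCat.{u} R) (n : ℕ) :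
    LinearMap.ker ((P.complex.linearYonedaObj R Y).sc' n (n + 1) (n + 2)).g.hom →ₗ[R]
      Abelian.Ext.{u} X Y (n + 1) where
  toFun f := P.extMk (f.1 : P.complex.X (n + 1) ⟶ Y) (n + 2) rfl
    ((mem_ker_iff P Y n f.1).1 f.2)
  map_add' f g := by
    rw [P.add_extMk]
    rfl
  map_smul' r f := by
    rw [RingHom.id_apply, Ext.smul_eq_comp_mk₀, P.extMk_comp_mk₀]
    have h : ((r • f : LinearMap.ker
        ((P.complex.linearYonedaObj R Y).sc' n (n + 1) (n + 2)).g.hom).1 :
          P.complex.X (n + 1) ⟶ Y) = (f.1 : P.complex.X (n + 1) ⟶ Y) ≫ (r • 𝟙 Y) := by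
      rw [Linear.comp_smul, Category.comp_id]
      rfl
    simp only [h]

lemma cyclesToExt_surjective {X : ModuleCat.{u} R} (P : ProjectiveResolution X)
    (Y : ModuleCat.{u} R) (n : ℕ) : Function.Surjective (cyclesToExt P Y n) := by
  intro α
  obtain ⟨f, hf, rfl⟩ := P.extMk_surjective α (n + 2) rfl
  exact ⟨⟨f, (mem_ker_iff P Y n f).2 hf⟩, rfl⟩

lemma ker_cyclesToExt {X : ModuleCat.{u} R} (P : ProjectiveResolution X)
    (Y : ModuleCat.{u} R) (n : ℕ) :
    LinearMap.ker (cyclesToExt P Y n) =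
      LinearMap.range ((P.complex.linearYonedaObj R Y).sc' n (n + 1) (n + 2)).moduleCatToCycles := by
  ext f
  rw [LinearMap.mem_ker, LinearMap.mem_range]
  show P.extMk (f.1 : P.complex.X (n + 1) ⟶ Y) (n + 2) rfl ((mem_ker_iff P Y n f.1).1 f.2) = 0 ↔ _
  rw [P.extMk_eq_zero_iff _ (n + 2) rfl _ n rfl]
  have key : ∀ g : P.complex.X n ⟶ Y,
      (((P.complex.linearYonedaObj R Y).sc' n (n + 1) (n + 2)).moduleCatToCycles g).1 =
        P.complex.d (n + 1) n ≫ g := by
    intro g
    show ((P.complex.linearYonedaObj R Y).sc' n (n + 1) (n + 2)).f.hom g = _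
    simp only [HomologicalComplex.sc', HomologicalComplex.shortComplexFunctor',
      ChainComplex.linearYonedaObj_d]
    rfl
  constructor
  · rintro ⟨g, hg⟩
    exact ⟨g, Subtype.ext ((key g).trans hg)⟩
  · rintro ⟨g, hg⟩
    exact ⟨g, (key g).symm.trans (congrArg Subtype.val hg)⟩

/-- **The linear bridge** -/
theorem nonempty_linearEquiv (X Y : ModuleCat.{u} R) (n : ℕ) :
    Nonempty ((((Ext R (ModuleCat.{u} R) n).obj (op X)).obj Y) ≃ₗ[R] Abelian.Ext.{u} X Y n) := by
  rcases n with _ | n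
  · have e1 : (((Ext R (ModuleCat.{u} R) 0).obj (op X)).obj Y) ≅
        ((linearCoyoneda R (ModuleCat.{u} R)).obj (op X)).obj Y :=
      (Groth.Agent.Helper1.ExtOld.ext0Iso (R := R) (projectiveResolution X)).app Y
    exact ⟨e1.toLinearEquiv.trans (Ext.linearEquiv₀ (R := R) (X := X) (Y := Y)).symm⟩
  · let P : ProjectiveResolution X := projectiveResolution X
    let C := P.complex.linearYonedaObj R Y
    have e1 : (((Ext R (ModuleCat.{u} R) (n + 1)).obj (op X)).obj Y) ≅ C.homology (n + 1) :=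
      P.isoExt (n + 1) Y
    have e2 : C.homology (n + 1) ≅ (C.sc' n (n + 1) (n + 2)).homology :=
      C.homologyIsoSc' n (n + 1) (n + 2) (by simp) (by simp)
    have e3 := (C.sc' n (n + 1) (n + 2)).moduleCatHomologyIso
    let e4 := (LinearMap.quotKerEquivOfSurjective (cyclesToExt P Y n)
      (cyclesToExt_surjective P Y n))
    have e5 := Submodule.quotEquivOfEq _ _ (ker_cyclesToExt P Y n)
    exact ⟨(e1 ≪≫ e2 ≪≫ e3).toLinearEquiv.trans (e5.symm.trans e4)⟩

end Groth.Agent.Helper1.ExtBridgeLin
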