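import Mathlib

set_option autoImplicit false

/-!
# Natural transformations between right exact additive functors on modules

A natural transformation between right exact additive endofunctors of `ModuleCat R` which is an
isomorphism at `R` is an isomorphism at every finitely generated module (`R` Noetherian).
-/

namespace Groth.Agent.Helper1.LDual
open CategoryTheory Limits

universe u

variable {R : Type u} [CommRing R]

/-- right exactness of an additive functor on modules -/
def RightExact (F : ModuleCat.{u} R ⥤ ModuleCat.{u} R) [F.Additive] : Prop :=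
  ∀ S : ShortComplex (ModuleCat.{u} R), S.Exact → Epi S.g → (S.map F).Exact ∧ Epi (F.map S.g)

variable {F G : ModuleCat.{u} R ⥤ ModuleCat.{u} R} [F.Additive] [G.Additive] (τ : F ⟶ G)

/-- finite free modules -/
lemma isIso_app_free (h : IsIso (τ.app (ModuleCat.of R R))) (b : ℕ) :
    IsIso (τ.app (ModuleCat.of R (Fin b → R))) := by
  let X : ModuleCat.{u} R := ModuleCat.of R R
  let Y : ModuleCat.{u} R := ModuleCat.of R (Fin b → R)
  let ι : Fin b → (X ⟶ Y) := fun i => ModuleCat.ofHom (LinearMap.single R (fun _ => R) i)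
  let π : Fin b → (Y ⟶ X) := fun i => ModuleCat.ofHom (LinearMap.proj i)
  have hsum : ∑ i, π i ≫ ι i = 𝟙 Y := by
    apply ModuleCat.hom_ext
    apply LinearMap.ext
    intro x
    rw [ModuleCat.hom_sum, LinearMap.sum_apply]
    show ∑ i, Pi.single i (x i) = x
    exact Finset.univ_sum_single x
  refine ⟨∑ i, G.map (π i) ≫ inv (τ.app X) ≫ F.map (ι i), ?_, ?_⟩
  · rw [Preadditive.comp_sum]
    have : ∀ i, τ.app Y ≫ G.map (π i) ≫ inv (τ.app X) ≫ F.map (ι i) = F.map (π i ≫ ι i) := by
      intro i
      rw [← Category.assoc, ← τ.naturality (π i), Category.assoc, IsIso.hom_inv_id_assoc,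
        Functor.map_comp]
    rw [Finset.sum_congr rfl (fun i _ => this i), ← Functor.map_sum, hsum, CategoryTheory.Functor.map_id]
  · rw [Preadditive.sum_comp]
    have : ∀ i, (G.map (π i) ≫ inv (τ.app X) ≫ F.map (ι i)) ≫ τ.app Y = G.map (π i ≫ ι i) := by
      intro i
      rw [Category.assoc, Category.assoc, τ.naturality (ι i), IsIso.inv_hom_id_assoc,
        Functor.map_comp]
    rw [Finset.sum_congr rfl (fun i _ => this i), ← Functor.map_sum, hsum, CategoryTheory.Functor.map_id]

/-- cokernels -/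
lemma isIso_app_X₃ (S : ShortComplex (ModuleCat.{u} R)) (_hF : (S.map F).Exact)
    (hFg : Epi (F.map S.g)) (hG : (S.map G).Exact) (hGg : Epi (G.map S.g))
    (h₁ : IsIso (τ.app S.X₁)) (h₂ : IsIso (τ.app S.X₂)) : IsIso (τ.app S.X₃) := by
  rw [ConcreteCategory.isIso_iff_bijective]
  have hFs : Function.Surjective (F.map S.g).hom := (ModuleCat.epi_iff_surjective _).1 hFg
  have hGs : Function.Surjective (G.map S.g).hom := (ModuleCat.epi_iff_surjective _).1 hGg
  have b₁ : Function.Bijective (τ.app S.X₁).hom :=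
    (ConcreteCategory.isIso_iff_bijective _).1 h₁
  have b₂ : Function.Bijective (τ.app S.X₂).hom :=
    (ConcreteCategory.isIso_iff_bijective _).1 h₂
  have hGe := (ShortComplex.moduleCat_exact_iff _).1 hG
  have nat_g : ∀ x, (τ.app S.X₃).hom ((F.map S.g).hom x) = (G.map S.g).hom ((τ.app S.X₂).hom x) :=
    fun x => congrArg (fun t => t.hom x) (τ.naturality S.g)
  have nat_f : ∀ x, (τ.app S.X₂).hom ((F.map S.f).hom x) = (G.map S.f).hom ((τ.app S.X₁).hom x) :=
    fun x => congrArg (fun t => t.hom x) (τ.naturality S.f)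
  have hFz : ∀ x, (F.map S.g).hom ((F.map S.f).hom x) = 0 := by
    intro x
    have : F.map S.f ≫ F.map S.g = 0 := by rw [← Functor.map_comp, S.zero, Functor.map_zero]
    exact congrArg (fun t => t.hom x) this
  constructor
  · intro w w' hww
    have hsub : (τ.app S.X₃).hom (w - w') = 0 := by rw [map_sub, hww, sub_self]
    obtain ⟨x, hx⟩ := hFs (w - w')
    have h1 : (G.map S.g).hom ((τ.app S.X₂).hom x) = 0 := by rw [← nat_g, hx, hsub]
    obtain ⟨y', hy'⟩ := hGe _ h1
    obtain ⟨x', rfl⟩ := b₁.2 y'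
    have h2 : (τ.app S.X₂).hom x = (τ.app S.X₂).hom ((F.map S.f).hom x') := by
      rw [nat_f]
      exact hy'.symm
    have h3 := b₂.1 h2
    have : w - w' = 0 := by rw [← hx, h3, hFz]
    exact sub_eq_zero.1 this
  · intro z
    obtain ⟨y, rfl⟩ := hGs z
    obtain ⟨x, rfl⟩ := b₂.2 y
    exact ⟨(F.map S.g).hom x, nat_g x⟩

/-- **finitely generated modules** -/
theorem isIso_app_of_finite [IsNoetherianRing R] (hF : RightExact F) (hG : RightExact G)
    (h : IsIso (τ.app (ModuleCat.of R R))) (M : ModuleCat.{u} R) [Module.Finite R M] :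
    IsIso (τ.app M) := by
  obtain ⟨b, p, hp⟩ := Module.Finite.exists_fin' R M
  have hker : Module.Finite R (LinearMap.ker p) := inferInstance
  obtain ⟨a, q, hq⟩ := Module.Finite.exists_fin' R (LinearMap.ker p)
  let S : ShortComplex (ModuleCat.{u} R) :=
    ShortComplex.mk (ModuleCat.ofHom ((LinearMap.ker p).subtype ∘ₗ q)) (ModuleCat.ofHom p) (by
      ext x
      exact (q _).2)
  have hS : S.Exact := by
    rw [ShortComplex.moduleCat_exact_iff]
    intro y hy
    obtain ⟨x, hx⟩ := hq ⟨y, hy⟩
    exact ⟨x, congrArg Subtype.val hx⟩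
  have hSg : Epi S.g := (ModuleCat.epi_iff_surjective _).2 hp
  have h1 := hF S hS hSg
  have h2 := hG S hS hSg
  exact isIso_app_X₃ τ S h1.1 h1.2 h2.1 h2.2 (isIso_app_free τ h a) (isIso_app_free τ h b)

end Groth.Agent.Helper1.LDual
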