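import Mathlib
import Groth.Agent.Helper1.LDualA

set_option autoImplicit false

/-!
# The tensor comparison `M ⊗ T(R) → T(M)` for a linear functor `T` (Watts)
-/

namespace Groth.Agent.Helper1.LDual
open CategoryTheory Limits TensorProduct

universe u

variable {R : Type u} [CommRing R]

/-- the functor `M ↦ M ⊗ H` -/
noncomputable def tens (H : ModuleCat.{u} R) : ModuleCat.{u} R ⥤ ModuleCat.{u} R where
  obj M := ModuleCat.of R (M ⊗[R] H)
  map g := ModuleCat.ofHom (g.hom.rTensor H)
  map_id M := by
    apply ModuleCat.hom_ext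
    exact LinearMap.rTensor_id _ _
  map_comp f g := by
    apply ModuleCat.hom_ext
    exact LinearMap.rTensor_comp _ _ _

instance (H : ModuleCat.{u} R) : (tens H).Additive where
  map_add {X Y f g} := by
    apply ModuleCat.hom_ext
    exact LinearMap.rTensor_add _ _ _

lemma rightExact_tens (H : ModuleCat.{u} R) : RightExact (tens H) := by
  intro S hS hg
  have hg' : Function.Surjective S.g.hom := (ModuleCat.epi_iff_surjective _).1 hg
  have hex : Function.Exact S.f.hom S.g.hom := (ShortComplex.ShortExact.moduleCat_exact_iff_function_exact S).1 hS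
  constructor
  · rw [ShortComplex.ShortExact.moduleCat_exact_iff_function_exact]
    exact rTensor_exact H hex hg'
  · rw [ModuleCat.epi_iff_surjective]
    exact LinearMap.rTensor_surjective H hg'

variable (T : ModuleCat.{u} R ⥤ ModuleCat.{u} R) [T.Additive] [T.Linear R]

/-- multiplication by `m` as a morphism `R ⟶ M` -/
noncomputable def mulHom (M : ModuleCat.{u} R) (m : M) : ModuleCat.of R R ⟶ M :=
  ModuleCat.ofHom (LinearMap.toSpanSingleton R M m)

lemma mulHom_add (M : ModuleCat.{u} R) (m m' : M) :
    mulHom M (m + m') = mulHom M m + mulHom M m' := by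
  apply ModuleCat.hom_ext
  apply LinearMap.ext_ring
  simp [mulHom]

lemma mulHom_smul (M : ModuleCat.{u} R) (c : R) (m : M) :
    mulHom M (c • m) = c • mulHom M m := by
  apply ModuleCat.hom_ext
  apply LinearMap.ext_ring
  simp [mulHom]

lemma mulHom_comp {M N : ModuleCat.{u} R} (g : M ⟶ N) (m : M) :
    mulHom M m ≫ g = mulHom N (g.hom m) := by
  apply ModuleCat.hom_ext
  apply LinearMap.ext_ring
  simp [mulHom]

lemma mulHom_self (r : R) : mulHom (ModuleCat.of R R) r = r • 𝟙 (ModuleCat.of R R) := by
  apply ModuleCat.hom_ext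
  apply LinearMap.ext_ring
  simp [mulHom]

/-- the bilinear map `M → T(R) → T(M)` -/
noncomputable def thetaBil (M : ModuleCat.{u} R) :
    M →ₗ[R] T.obj (ModuleCat.of R R) →ₗ[R] T.obj M :=
  LinearMap.mk₂ R (fun m t => (T.map (mulHom M m)).hom t)
    (fun m m' t => by rw [mulHom_add, T.map_add]; rfl)
    (fun c m t => by rw [mulHom_smul, Functor.Linear.map_smul]; rfl)
    (fun m t t' => map_add _ _ _)
    (fun c m t => map_smul _ _ _)

/-- `θ : M ⊗ T(R) → T(M)` -/
noncomputable def theta : tens (T.obj (ModuleCat.of R R)) ⟶ T where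
  app M := ModuleCat.ofHom (TensorProduct.lift (thetaBil T M))
  naturality M N g := by
    apply ModuleCat.hom_ext
    apply TensorProduct.ext'
    intro m t
    show (T.map (mulHom N (g.hom m))).hom t = (T.map g).hom ((T.map (mulHom M m)).hom t)
    rw [← mulHom_comp, T.map_comp]
    rfl

lemma theta_app_tmul (M : ModuleCat.{u} R) (m : M) (t : T.obj (ModuleCat.of R R)) :
    ((theta T).app M).hom (m ⊗ₜ t) = (T.map (mulHom M m)).hom t := rfl

lemma isIso_theta_self : IsIso ((theta T).app (ModuleCat.of R R)) := by
  rw [ConcreteCategory.isIso_iff_bijective]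
  have : ((theta T).app (ModuleCat.of R R)).hom =
      (TensorProduct.lid R (T.obj (ModuleCat.of R R))).toLinearMap := by
    apply TensorProduct.ext'
    intro r t
    show (T.map (mulHom (ModuleCat.of R R) r)).hom t = r • t
    rw [mulHom_self, Functor.Linear.map_smul, CategoryTheory.Functor.map_id]
    rfl
  show Function.Bijective ((theta T).app (ModuleCat.of R R)).hom
  rw [this]
  exact (TensorProduct.lid R _).bijective

/-- **Watts**: `M ⊗ T(R) ≅ T(M)` for finitely generated `M` -/
theorem isIso_theta_of_finite [IsNoetherianRing R] (hT : RightExact T) (M : ModuleCat.{u} R)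
    [Module.Finite R M] : IsIso ((theta T).app M) :=
  isIso_app_of_finite (theta T) (rightExact_tens _) hT (isIso_theta_self T) M

end Groth.Agent.Helper1.LDual
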