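import Mathlib
import Groth.Agent.Helper1.LDualB

set_option autoImplicit false

/-!
# The functor `M ↦ Hom(Hom(M, K), E)` and the comparison `T ⟶ Hom(Hom(-, K), E)`
-/

namespace Groth.Agent.Helper1.LDual
open CategoryTheory Limits TensorProduct

universe u

variable {R : Type u} [CommRing R]
variable (K E : Type u) [AddCommGroup K] [Module R K] [AddCommGroup E] [Module R E]

/-- the functor `M ↦ Hom(Hom(M, K), E)` -/
noncomputable def dd : ModuleCat.{u} R ⥤ ModuleCat.{u} R where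
  obj M := ModuleCat.of R ((M →ₗ[R] K) →ₗ[R] E)
  map g := ModuleCat.ofHom (LinearMap.lcomp R E (LinearMap.lcomp R K g.hom))
  map_id M := by
    apply ModuleCat.hom_ext
    rfl
  map_comp f g := by
    apply ModuleCat.hom_ext
    rfl

/-- evaluation of an element of `Hom(Hom(M,K),E)` -/
def ddEval {M : ModuleCat.{u} R} (φ : (dd K E).obj M) (ψ : M →ₗ[R] K) : E :=
  (show (M →ₗ[R] K) →ₗ[R] E from φ) ψ

lemma dd_map_apply {M N : ModuleCat.{u} R} (g : M ⟶ N) (φ : (M →ₗ[R] K) →ₗ[R] E)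
    (ψ : N →ₗ[R] K) : ddEval K E (((dd K E).map g).hom φ) ψ = φ (ψ ∘ₗ g.hom) := rfl

lemma dd_ext {M : ModuleCat.{u} R} (φ φ' : (dd K E).obj M)
    (h : ∀ ψ, ddEval K E φ ψ = ddEval K E φ' ψ) : φ = φ' :=
  LinearMap.ext (f := (show (M →ₗ[R] K) →ₗ[R] E from φ)) (g := (show (M →ₗ[R] K) →ₗ[R] E from φ')) h

instance : (dd (R := R) K E).Additive where
  map_add {X Y f g} := by
    apply ModuleCat.hom_ext
    apply LinearMap.ext
    intro (φ : (X →ₗ[R] K) →ₗ[R] E)
    apply dd_ext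
    intro ψ
    show φ (ψ ∘ₗ (f + g).hom) = φ (ψ ∘ₗ f.hom) + φ (ψ ∘ₗ g.hom)
    rw [ModuleCat.hom_add, LinearMap.comp_add, map_add]

lemma rightExact_dd [Module.Injective R E] : RightExact (dd (R := R) K E) := by
  intro S hS hg
  have hg' : Function.Surjective S.g.hom := (ModuleCat.epi_iff_surjective _).1 hg
  have hex := (ShortComplex.moduleCat_exact_iff S).1 hS
  constructor
  · rw [ShortComplex.moduleCat_exact_iff]
    intro (φ : (S.X₂ →ₗ[R] K) →ₗ[R] E) hφ
    -- `φ` vanishes on the maps `ψ ∘ g`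
    have hφ' : ∀ ψ : S.X₃ →ₗ[R] K, φ (ψ ∘ₗ S.g.hom) = 0 := fun ψ =>
      LinearMap.congr_fun hφ ψ
    -- `φ` vanishes on the kernel of restriction along `f`
    let res : (S.X₂ →ₗ[R] K) →ₗ[R] (S.X₁ →ₗ[R] K) := LinearMap.lcomp R K S.f.hom
    have hker : LinearMap.ker res ≤ LinearMap.ker φ := by
      intro ψ hψ
      rw [LinearMap.mem_ker] at hψ ⊢
      -- `ψ` kills the range of `f` = kernel of `g`, so factors through `g`
      have hk : LinearMap.ker S.g.hom ≤ LinearMap.ker ψ := by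
        intro x hx
        obtain ⟨y, rfl⟩ := hex x hx
        exact LinearMap.congr_fun hψ y
      let e := LinearMap.quotKerEquivOfSurjective S.g.hom hg'
      let ψ' : S.X₃ →ₗ[R] K := ((LinearMap.ker S.g.hom).liftQ ψ hk) ∘ₗ e.symm.toLinearMap
      have : ψ' ∘ₗ S.g.hom = ψ := by
        apply LinearMap.ext
        intro x
        show ((LinearMap.ker S.g.hom).liftQ ψ hk) (e.symm (S.g.hom x)) = ψ x
        have : e.symm (S.g.hom x) = Submodule.Quotient.mk x := by
          rw [LinearEquiv.symm_apply_eq]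
          rfl
        rw [this, Submodule.liftQ_apply]
      rw [← this]
      exact hφ' ψ'
    -- extend along the injection `Hom(X₂,K)/ker ↪ Hom(X₁,K)`
    let φ₀ : ((S.X₂ →ₗ[R] K) ⧸ LinearMap.ker res) →ₗ[R] E := (LinearMap.ker res).liftQ φ hker
    let j : ((S.X₂ →ₗ[R] K) ⧸ LinearMap.ker res) →ₗ[R] (S.X₁ →ₗ[R] K) :=
      (LinearMap.ker res).liftQ res le_rfl
    have hj : Function.Injective j := by
      rw [← LinearMap.ker_eq_bot]
      exact Submodule.ker_liftQ_eq_bot _ _ _ le_rfl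
    obtain ⟨φ₁, hφ₁⟩ := Module.Injective.extension_property R E _ _ j hj φ₀
    refine ⟨φ₁, ?_⟩
    apply LinearMap.ext
    intro ψ
    show φ₁ (ψ ∘ₗ S.f.hom) = φ ψ
    have := LinearMap.congr_fun hφ₁ (Submodule.Quotient.mk ψ)
    exact this
  · rw [ModuleCat.epi_iff_surjective]
    intro (φ : (S.X₃ →ₗ[R] K) →ₗ[R] E)
    let res : (S.X₃ →ₗ[R] K) →ₗ[R] (S.X₂ →ₗ[R] K) := LinearMap.lcomp R K S.g.hom
    have hres : Function.Injective res := by
      intro ψ ψ' h
      apply LinearMap.ext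
      intro x
      obtain ⟨y, rfl⟩ := hg' x
      exact LinearMap.congr_fun h y
    obtain ⟨φ₁, hφ₁⟩ := Module.Injective.extension_property R E _ _ res hres φ
    exact ⟨φ₁, hφ₁⟩

variable (T : ModuleCat.{u} R ⥤ ModuleCat.{u} R) [T.Additive] [T.Linear R]
variable {K E}

/-- the comparison `T(M) → Hom(Hom(M,K),E)` attached to `ρ : T(K) → E` -/
noncomputable def tauApp (ρ : T.obj (ModuleCat.of R K) →ₗ[R] E) (M : ModuleCat.{u} R) :
    T.obj M →ₗ[R] (M →ₗ[R] K) →ₗ[R] E :=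
  LinearMap.mk₂ R (fun ξ ψ => ρ ((T.map (ModuleCat.ofHom ψ)).hom ξ))
    (fun ξ ξ' ψ => by rw [map_add, map_add])
    (fun c ξ ψ => by rw [map_smul, map_smul])
    (fun ξ ψ ψ' => by rw [ModuleCat.ofHom_add, T.map_add, ModuleCat.hom_add,
      LinearMap.add_apply, map_add])
    (fun c ξ ψ => by
      have : ModuleCat.ofHom (c • ψ) = c • ModuleCat.ofHom ψ := rfl
      rw [this, Functor.Linear.map_smul, ModuleCat.hom_smul, LinearMap.smul_apply, map_smul])

/-- `τ : T ⟶ Hom(Hom(-,K),E)` -/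
noncomputable def tau (ρ : T.obj (ModuleCat.of R K) →ₗ[R] E) : T ⟶ dd K E where
  app M := ModuleCat.ofHom (tauApp T ρ M)
  naturality M N g := by
    apply ModuleCat.hom_ext
    apply LinearMap.ext
    intro ξ
    apply dd_ext
    intro ψ
    show ρ ((T.map (ModuleCat.ofHom ψ)).hom ((T.map g).hom ξ)) =
      ρ ((T.map (ModuleCat.ofHom (ψ ∘ₗ g.hom))).hom ξ)
    have : ModuleCat.ofHom (ψ ∘ₗ g.hom) = g ≫ ModuleCat.ofHom ψ := rfl
    rw [this, T.map_comp]
    rfl

lemma tau_app_apply (ρ : T.obj (ModuleCat.of R K) →ₗ[R] E) (M : ModuleCat.{u} R)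
    (ξ : T.obj M) (ψ : M →ₗ[R] K) :
    ddEval K E (((tau T ρ).app M).hom ξ) ψ = ρ ((T.map (ModuleCat.ofHom ψ)).hom ξ) := rfl

/-- `τ_R` is an isomorphism when `ρ` is compatible with `c : T(R) ≃ Hom(K,E)` -/
lemma isIso_tau_self (ρ : T.obj (ModuleCat.of R K) →ₗ[R] E)
    (c : T.obj (ModuleCat.of R R) ≃ₗ[R] (K →ₗ[R] E))
    (hρ : ∀ (x : K) (ξ : T.obj (ModuleCat.of R R)),
      ρ ((T.map (mulHom (ModuleCat.of R K) x)).hom ξ) = c ξ x) :
    IsIso ((tau T ρ).app (ModuleCat.of R R)) := by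
  rw [ConcreteCategory.isIso_iff_bijective]
  have key : ∀ (ξ : T.obj (ModuleCat.of R R)) (ψ : R →ₗ[R] K),
      ddEval K E (((tau T ρ).app (ModuleCat.of R R)).hom ξ) ψ = c ξ (ψ 1) := by
    intro ξ ψ
    rw [tau_app_apply, ← hρ]
    have : ModuleCat.ofHom ψ = mulHom (ModuleCat.of R K) (ψ 1) := by
      apply ModuleCat.hom_ext
      apply LinearMap.ext_ring
      simp [mulHom]
    rw [this]
  constructor
  · intro ξ ξ' h
    apply c.injective
    apply LinearMap.ext
    intro x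
    have h1 : ddEval K E (((tau T ρ).app (ModuleCat.of R R)).hom ξ)
        (LinearMap.toSpanSingleton R K x) = ddEval K E (((tau T ρ).app (ModuleCat.of R R)).hom ξ')
        (LinearMap.toSpanSingleton R K x) := by rw [h]
    have h2 := key ξ (LinearMap.toSpanSingleton R K x)
    have h3 := key ξ' (LinearMap.toSpanSingleton R K x)
    rw [LinearMap.toSpanSingleton_apply, one_smul] at h2 h3
    rw [← h2, ← h3]
    exact h1
  · intro (Φ : (R →ₗ[R] K) →ₗ[R] E)
    let φ : K →ₗ[R] E := Φ ∘ₗ (LinearMap.ringLmapEquivSelf R R K).symm.toLinearMap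
    refine ⟨c.symm φ, ?_⟩
    apply dd_ext
    intro ψ
    rw [key, LinearEquiv.apply_symm_apply]
    show Φ ((LinearMap.ringLmapEquivSelf R R K).symm (ψ 1)) = Φ ψ
    congr 1
    apply LinearMap.ext_ring
    simp

end Groth.Agent.Helper1.LDual
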