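import Mathlib
import Groth.Agent.Helper1.LocCohVanish

set_option autoImplicit false

/-!
# Top local cohomology: right exactness and consequences
-/

namespace Groth.Agent.Helper1.LocCohTop
open CategoryTheory Limits Opposite
open Groth.Agent.Helper1.DeltaFun Groth.Agent.Helper1.LocCohDelta

universe u

section dim

variable {R : Type u} [CommRing R]

/-- a set of primes containing no top-dimensional minimal prime has dimension `< dim R` -/
lemma krullDim_lt_of_not_topMinimal (d : ℕ) (hd : ringKrullDim R = d)
    (Z : Set (PrimeSpectrum R))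
    (hZ : ∀ q ∈ Z, q.asIdeal ∈ minimalPrimes R → ringKrullDim (R ⧸ q.asIdeal) = d → False) :
    Order.krullDim Z < d := by
  rw [Order.krullDim_lt_coe_iff]
  intro l
  by_contra hl
  rw [not_lt] at hl
  obtain ⟨p, hp, hp'⟩ := Ideal.exists_minimalPrimes_le (J := l.head.1.asIdeal) bot_le
  let p' : PrimeSpectrum R := ⟨p, hp.1.1⟩
  let l' : LTSeries (PrimeSpectrum R) := l.map Subtype.val (fun _ _ ↦ id)
  by_cases hlt : p' < l'.head
  · have h1 : ((l'.cons p' hlt).length : WithBot ℕ∞) ≤ ringKrullDim R :=
      Order.LTSeries.length_le_krullDim _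
    rw [hd] at h1
    have h2 : (l'.cons p' hlt).length = l.length + 1 := by simp [l']
    rw [h2] at h1
    have h3 : l.length + 1 ≤ d := by exact_mod_cast h1
    omega
  · have hle : p' ≤ l'.head := hp'
    have heq : p' = l.head.1 := eq_of_le_of_not_lt hle hlt
    apply hZ l.head.1 l.head.2
    · rw [← heq]
      exact hp
    · apply le_antisymm
      · exact (ringKrullDim_quotient_le _).trans hd.le
      · rw [ringKrullDim_quotient]
        let l'' : LTSeries (PrimeSpectrum.zeroLocus (R := R) (l.head.1.asIdeal : Set R)) :=
          { length := l.length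
            toFun := fun i => ⟨(l i).1, by
              rw [PrimeSpectrum.mem_zeroLocus]
              exact (show l.head.1 ≤ (l i).1 from LTSeries.head_le l i)⟩
            step := fun i => l.step i }
        have h1 : ((l''.length : ℕ) : WithBot ℕ∞) ≤
            Order.krullDim (PrimeSpectrum.zeroLocus (R := R) (l.head.1.asIdeal : Set R)) :=
          Order.LTSeries.length_le_krullDim _
        refine le_trans ?_ h1
        exact_mod_cast hl

end dim

section epi

variable {R : Type u} [CommRing R] [IsNoetherianRing R] (I : Ideal R)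

/-- right exactness of top local cohomology -/
lemma epi_lc_map {X Y : ModuleCat.{u} R} (μ : X ⟶ Y) (d : ℕ)
    (h1 : ∀ K : ModuleCat.{u} R, IsZero ((localCohomology I (d + 1)).obj K))
    (h2 : IsZero ((localCohomology I d).obj (cokernel μ))) :
    Epi ((localCohomology I d).map μ) := by
  have hμ : μ = Abelian.factorThruImage μ ≫ Abelian.image.ι μ := by simp
  let S₁ : ShortComplex (ModuleCat.{u} R) :=
    ShortComplex.mk (kernel.ι (Abelian.factorThruImage μ)) (Abelian.factorThruImage μ)
      (kernel.condition _)
  have hS₁ : S₁.ShortExact :=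
    { exact := ShortComplex.exact_of_f_is_kernel _ (kernelIsKernel _)
      mono_f := inferInstanceAs (Mono (kernel.ι _))
      epi_g := inferInstanceAs (Epi (Abelian.factorThruImage μ)) }
  have e₁ : Epi ((localCohomology I d).map (Abelian.factorThruImage μ)) :=
    ((lcDelta I).exact₃ S₁ hS₁ d).epi_f ((h1 _).eq_of_tgt _ _)
  let S₂ : ShortComplex (ModuleCat.{u} R) :=
    ShortComplex.mk (Abelian.image.ι μ) (cokernel.π μ) (by
      rw [← cancel_epi (Abelian.factorThruImage μ)]
      simp)
  have hS₂ : S₂.ShortExact :=
    { exact := by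
        apply ShortComplex.exact_of_f_is_kernel
        exact kernelIsKernel (cokernel.π μ)
      mono_f := inferInstanceAs (Mono (Abelian.image.ι μ))
      epi_g := inferInstanceAs (Epi (cokernel.π μ)) }
  have e₂ : Epi ((localCohomology I d).map (Abelian.image.ι μ)) :=
    (LocCohVanish.lc_exact₂ I S₂ hS₂ d).epi_f (h2.eq_of_tgt _ _)
  rw [hμ, Functor.map_comp]
  exact epi_comp _ _

end epi

section smul

variable {R : Type u} [CommRing R] [IsNoetherianRing R] (I : Ideal R)

lemma isZero_lc_succ_dim (d : ℕ) (hd : ringKrullDim R = d) (K : ModuleCat.{u} R) :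
    IsZero ((localCohomology I (d + 1)).obj K) := by
  refine LocCohVanish.isZero_lc_of_supportDim_lt I K (d + 1) ?_
  refine (Module.supportDim_le_ringKrullDim R K).trans_lt ?_
  rw [hd]
  exact_mod_cast Nat.lt_succ_self d

theorem smul_surjective (d : ℕ) (hd : ringKrullDim R = d) (f : R)
    (hf : ∀ p ∈ minimalPrimes R, ringKrullDim (R ⧸ p) = d → f ∉ p)
    (M : Type u) [AddCommGroup M] [Module R M] [Module.Finite R M] :
    Function.Surjective
      (fun x : (localCohomology I d).obj (ModuleCat.of R M) => f • x) := by
  let S := ModuleCat.smulShortComplex (ModuleCat.of R M) f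
  have hS : S.Exact := ModuleCat.smulShortComplex_exact _ f
  haveI : Epi S.g := ModuleCat.smulShortComplex_g_epi _ f
  let e : cokernel S.f ≅ S.X₃ :=
    IsColimit.coconePointUniqueUpToIso (cokernelIsCokernel S.f) hS.gIsCokernel
  have hdim : Module.supportDim R (QuotSMulTop f M) < (d : WithBot ℕ∞) := by
    apply krullDim_lt_of_not_topMinimal d hd
    intro q hq hmin hdq
    rw [Module.support_quotSMulTop] at hq
    have : f ∈ q.asIdeal := by
      have := hq.2
      rw [PrimeSpectrum.mem_zeroLocus, Set.singleton_subset_iff] at this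
      exact this
    exact hf _ hmin hdq this
  have hz : IsZero ((localCohomology I d).obj (cokernel S.f)) :=
    IsZero.of_iso (LocCohVanish.isZero_lc_of_supportDim_lt I (QuotSMulTop f M) d hdim)
      ((localCohomology I d).mapIso e)
  have hepi := epi_lc_map I S.f d (isZero_lc_succ_dim I d hd) hz
  have hfm : (localCohomology I d).map S.f =
      f • 𝟙 ((localCohomology I d).obj (ModuleCat.of R M)) := by
    show (localCohomology I d).map (f • 𝟙 (ModuleCat.of R M)) = _
    rw [lc_map_smul, CategoryTheory.Functor.map_id]
  rw [hfm] at hepi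
  exact (ModuleCat.epi_iff_surjective _).1 hepi

end smul

section top

variable {R : Type u} [CommRing R]

lemma mem_of_mem_support {C : Type*} [AddCommGroup C] [Module R C] (q : PrimeSpectrum R)
    (hq : q ∈ Module.support R C) (a : R) (ha : ∀ c : C, a • c = 0) : a ∈ q.asIdeal := by
  rw [Module.mem_support_iff'] at hq
  obtain ⟨m, hm⟩ := hq
  by_contra h
  exact hm a h (ha m)

lemma eq_of_le_of_mem_minimalPrimes {p q : Ideal R} [p.IsPrime] (hq : q ∈ minimalPrimes R)
    (hpq : p ≤ q) : q = p :=
  le_antisymm (hq.2 ⟨inferInstance, bot_le⟩ hpq) hpq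

variable [IsNoetherianRing R] (I : Ideal R)

/-- the finitely generated case of the top vanishing criterion -/
theorem isZero_top_fg (d : ℕ) (hd : ringKrullDim R = d)
    (M : Type u) [AddCommGroup M] [Module R M] [Module.Finite R M]
    (hsupp : ∀ p ∈ minimalPrimes R, ringKrullDim (R ⧸ p) = d → ∀ hp : p.IsPrime,
      (⟨p, hp⟩ : PrimeSpectrum R) ∈ Module.support R M)
    (hvan : IsZero ((localCohomology I d).obj (ModuleCat.of R M))) :
    ∀ (N : Type u) [AddCommGroup N] [Module R N] [Module.Finite R N],
      IsZero ((localCohomology I d).obj (ModuleCat.of R N)) := by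
  intro N _ _ hfin
  induction hfin using IsNoetherianRing.induction_on_isQuotientEquivQuotientPrime R with
  | subsingleton N =>
    exact LocCohVanish.isZero_lc_of_subsingleton I N d
  | quotient N p e =>
    haveI : p.asIdeal.IsPrime := p.2
    have hpN : ∀ a ∈ p.asIdeal, ∀ n : N, a • n = 0 := by
      intro a ha n
      apply e.injective
      rw [map_smul, map_zero]
      obtain ⟨s, hs⟩ := Submodule.Quotient.mk_surjective _ (e n)
      rw [← hs, ← Submodule.Quotient.mk_smul, Submodule.Quotient.mk_eq_zero, smul_eq_mul]
      exact Ideal.mul_mem_right s _ ha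
    by_cases htop : p.asIdeal ∈ minimalPrimes R ∧ ringKrullDim (R ⧸ p.asIdeal) = d
    · -- top-dimensional minimal prime: use a nonzero map `M → N`
      have hpM := hsupp _ htop.1 htop.2 p.2
      haveI : Nontrivial N := e.toEquiv.nontrivial
      have hns : ¬ Subsingleton (M →ₗ[R] N) := by
        rw [IsSMulRegular.subsingleton_linearMap_iff]
        rintro ⟨r, hr, hreg⟩
        have hrp : r ∈ p.asIdeal := mem_of_mem_support ⟨p.asIdeal, p.2⟩ hpM r
          (fun c => Module.mem_annihilator.1 hr c)
        obtain ⟨x, y, hxy⟩ := exists_pair_ne N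
        apply hxy
        apply hreg
        show r • x = r • y
        rw [hpN r hrp x, hpN r hrp y]
      rw [not_subsingleton_iff_nontrivial] at hns
      obtain ⟨ψ, hψ⟩ := exists_ne (0 : M →ₗ[R] N)
      obtain ⟨m₀, hm₀⟩ : ∃ m₀, ψ m₀ ≠ 0 := by
        by_contra h
        push Not at h
        exact hψ (LinearMap.ext h)
      obtain ⟨r, hr⟩ := Submodule.Quotient.mk_surjective _ (e (ψ m₀))
      have hrp : r ∉ p.asIdeal := by
        intro h
        apply hm₀
        apply e.injective
        rw [map_zero, ← hr, Submodule.Quotient.mk_eq_zero]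
        exact h
      let μ : ModuleCat.of R M ⟶ ModuleCat.of R N := ModuleCat.ofHom ψ
      have hπ : Function.Surjective (cokernel.π μ) :=
        (ModuleCat.epi_iff_surjective _).1 inferInstance
      have hμπ : ∀ m : M, (cokernel.π μ) (ψ m) = 0 := by
        intro m
        have := cokernel.condition μ
        exact congrArg (fun f => f.hom m) this
      have hrC : ∀ c : (cokernel μ : ModuleCat.{u} R), r • c = 0 := by
        intro c
        obtain ⟨n, rfl⟩ := hπ c
        obtain ⟨s, hs⟩ := Submodule.Quotient.mk_surjective _ (e n)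
        have : r • n = ψ (s • m₀) := by
          apply e.injective
          rw [map_smul, map_smul, map_smul, ← hs, ← hr, ← Submodule.Quotient.mk_smul,
            ← Submodule.Quotient.mk_smul, smul_eq_mul, smul_eq_mul, mul_comm]
        rw [← map_smul, this, hμπ]
      have hpC : ∀ a ∈ p.asIdeal, ∀ c : (cokernel μ : ModuleCat.{u} R), a • c = 0 := by
        intro a ha c
        obtain ⟨n, rfl⟩ := hπ c
        rw [← map_smul, hpN a ha n, map_zero]
      have hdim : Module.supportDim R (cokernel μ : ModuleCat.{u} R) < (d : WithBot ℕ∞) := by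
        apply krullDim_lt_of_not_topMinimal d hd
        intro q hq hmin _
        have h1 : p.asIdeal ≤ q.asIdeal := fun a ha => mem_of_mem_support q hq a (hpC a ha)
        have h2 : r ∈ q.asIdeal := mem_of_mem_support q hq r hrC
        rw [eq_of_le_of_mem_minimalPrimes hmin h1] at h2
        exact hrp h2
      have hz : IsZero ((localCohomology I d).obj (cokernel μ)) :=
        LocCohVanish.isZero_lc_of_supportDim_lt I (cokernel μ : ModuleCat.{u} R) d hdim
      haveI := epi_lc_map I μ d (isZero_lc_succ_dim I d hd) hz
      exact IsZero.of_epi ((localCohomology I d).map μ) hvan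
    · -- otherwise the support of `N` has dimension `< d`
      apply LocCohVanish.isZero_lc_of_supportDim_lt I N d
      apply krullDim_lt_of_not_topMinimal d hd
      intro q hq hmin hdq
      have h1 : p.asIdeal ≤ q.asIdeal := fun a ha => mem_of_mem_support q hq a (hpN a ha)
      have := eq_of_le_of_mem_minimalPrimes hmin h1
      apply htop
      rw [← this]
      exact ⟨hmin, hdq⟩
  | exact N₁ N₂ N₃ f g hf hg hfg h₁ h₃ =>
    let S : ShortComplex (ModuleCat.{u} R) :=
      ModuleCat.shortComplexOfCompEqZero f g hfg.linearMap_comp_eq_zero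
    have hS : S.ShortExact :=
      { exact := ModuleCat.shortComplex_exact _ hfg
        mono_f := (ModuleCat.mono_iff_injective _).2 hf
        epi_g := (ModuleCat.epi_iff_surjective _).2 hg }
    exact (LocCohVanish.lc_exact₂ I S hS d).isZero_of_both_isZero h₁ h₃

/-- if top local cohomology vanishes on one finite module supported at all top-dimensional
minimal primes then it vanishes on all modules -/
theorem isZero_top (d : ℕ) (hd : ringKrullDim R = d)
    (M : Type u) [AddCommGroup M] [Module R M] [Module.Finite R M]
    (hsupp : ∀ p ∈ minimalPrimes R, ringKrullDim (R ⧸ p) = d → ∀ hp : p.IsPrime,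
      (⟨p, hp⟩ : PrimeSpectrum R) ∈ Module.support R M)
    (hvan : IsZero ((localCohomology I d).obj (ModuleCat.of R M)))
    (N : Type u) [AddCommGroup N] [Module R N] :
    IsZero ((localCohomology I d).obj (ModuleCat.of R N)) := by
  apply LocCohRing.isZero_of_fg (localCohomology I d)
    (fun Λ _ _ _ => LcColim.preservesColimitsOfShape I Λ d)
  intro N' hN'
  haveI : Module.Finite R N' := Module.Finite.iff_fg.2 hN'
  exact isZero_top_fg I d hd M hsupp hvan N'

end top

end Groth.Agent.Helper1.LocCohTop
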