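import Mathlib
import Groth.Agent.Helper1.LocCohTop

set_option autoImplicit false

/-!
# Top local cohomology of modules: dimension lemmas and the module version of the
top-vanishing criterion
-/

namespace Groth.Agent.Helper1.LocCohTopMod
open CategoryTheory Limits Opposite
open Groth.Agent.Helper1.DeltaFun Groth.Agent.Helper1.LocCohDelta

universe u

section dim

variable {R : Type u} [CommRing R]

/-- `dim R/q` is the coheight of `q` -/
lemma ringKrullDim_quotient_eq_coheight (q : PrimeSpectrum R) :
    ringKrullDim (R ⧸ q.asIdeal) = ((Order.coheight q : ℕ∞) : WithBot ℕ∞) := by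
  rw [ringKrullDim_quotient, Order.coheight_eq_krullDim_Ici]
  have : PrimeSpectrum.zeroLocus (q.asIdeal : Set R) = Set.Ici q := by
    ext p
    rw [PrimeSpectrum.mem_zeroLocus, Set.mem_Ici]
    exact Iff.rfl
  rw [this]

/-- primes of the same finite coheight are incomparable -/
lemma eq_of_le_of_dim_eq (q q' : PrimeSpectrum R) (h : q ≤ q') (e : ℕ)
    (hq : ringKrullDim (R ⧸ q.asIdeal) = e) (hq' : ringKrullDim (R ⧸ q'.asIdeal) = e) :
    q = q' := by
  by_contra hne
  have hlt : q < q' := lt_of_le_of_ne h hne
  rw [ringKrullDim_quotient_eq_coheight] at hq hq'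
  have h1 : Order.coheight q = (e : ℕ∞) := by exact_mod_cast hq
  have h2 : Order.coheight q' = (e : ℕ∞) := by exact_mod_cast hq'
  have h3 := Order.coheight_strictAnti hlt (by rw [h2]; exact ENat.natCast_lt_top e)
  rw [h1, h2] at h3
  exact lt_irrefl _ h3

variable {M : Type*} [AddCommGroup M] [Module R M]

/-- `dim R/q ≤ dim Supp M` for `q ∈ Supp M` -/
lemma ringKrullDim_quotient_le_supportDim (q : PrimeSpectrum R) (hq : q ∈ Module.support R M) :
    ringKrullDim (R ⧸ q.asIdeal) ≤ Module.supportDim R M := by
  rw [ringKrullDim_quotient, Module.supportDim]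
  have hsub : PrimeSpectrum.zeroLocus (q.asIdeal : Set R) ⊆ Module.support R M := by
    intro p hp
    exact Module.mem_support_mono (show q ≤ p from (PrimeSpectrum.mem_zeroLocus _ _).1 hp) hq
  exact Order.krullDim_le_of_strictMono (fun p => (⟨p.1, hsub p.2⟩ : Module.support R M))
    (fun _ _ h => h)

/-- a prime of the support realising the dimension -/
lemma exists_mem_support_dim_eq (e : ℕ) (he : Module.supportDim R M = e) :
    ∃ q ∈ Module.support R M, ringKrullDim (R ⧸ q.asIdeal) = e := by
  obtain ⟨l, hl⟩ := (Order.le_krullDim_iff (α := Module.support R M) (n := e)).1 he.ge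
  refine ⟨l.head.1, l.head.2, le_antisymm ?_ ?_⟩
  · rw [← he]
    exact ringKrullDim_quotient_le_supportDim _ l.head.2
  · rw [ringKrullDim_quotient]
    let l' : LTSeries (PrimeSpectrum.zeroLocus (R := R) (l.head.1.asIdeal : Set R)) :=
      { length := l.length
        toFun := fun i => ⟨(l i).1, by
          rw [PrimeSpectrum.mem_zeroLocus]
          exact (show l.head.1 ≤ (l i).1 from LTSeries.head_le l i)⟩
        step := fun i => l.step i }
    have h1 : ((l'.length : ℕ) : WithBot ℕ∞) ≤
        Order.krullDim (PrimeSpectrum.zeroLocus (R := R) (l.head.1.asIdeal : Set R)) :=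
      Order.LTSeries.length_le_krullDim _
    refine le_trans ?_ h1
    show ((e : ℕ) : WithBot ℕ∞) ≤ ((l.length : ℕ) : WithBot ℕ∞)
    rw [hl]

/-- a set of primes strictly above `p` has dimension `< dim R/p` -/
lemma krullDim_lt_of_forall_lt (p : PrimeSpectrum R) (d : ℕ)
    (hd : ringKrullDim (R ⧸ p.asIdeal) ≤ d) (Z : Set (PrimeSpectrum R)) (hZ : ∀ q ∈ Z, p < q) :
    Order.krullDim Z < d := by
  rw [Order.krullDim_lt_coe_iff]
  intro l
  rw [ringKrullDim_quotient] at hd
  have hmem : ∀ q : PrimeSpectrum R, p ≤ q →
      q ∈ PrimeSpectrum.zeroLocus (R := R) (p.asIdeal : Set R) := fun q hq =>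
    (PrimeSpectrum.mem_zeroLocus _ _).2 hq
  let l' : LTSeries (PrimeSpectrum.zeroLocus (R := R) (p.asIdeal : Set R)) :=
    { length := l.length
      toFun := fun i => ⟨(l i).1, hmem _ (hZ _ (l i).2).le⟩
      step := fun i => l.step i }
  have hlt : (⟨p, hmem p le_rfl⟩ : PrimeSpectrum.zeroLocus (R := R) (p.asIdeal : Set R)) <
      l'.head := hZ _ (l 0).2
  have h1 : ((l'.cons _ hlt).length : WithBot ℕ∞) ≤
      Order.krullDim (PrimeSpectrum.zeroLocus (R := R) (p.asIdeal : Set R)) :=
    Order.LTSeries.length_le_krullDim _
  have h2 : (l'.cons _ hlt).length = l.length + 1 := by simp [l']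
  rw [h2] at h1
  have h3 : ((l.length + 1 : ℕ) : WithBot ℕ∞) ≤ d := h1.trans hd
  have h4 : l.length + 1 ≤ d := by exact_mod_cast h3
  omega

end dim

section epi

variable {R : Type u} [CommRing R] [IsNoetherianRing R] (I : Ideal R)

/-- right exactness of top local cohomology, only assuming vanishing on the kernel -/
lemma epi_lc_map' {X Y : ModuleCat.{u} R} (μ : X ⟶ Y) (d : ℕ)
    (h1 : IsZero ((localCohomology I (d + 1)).obj (kernel (Abelian.factorThruImage μ))))
    (h2 : IsZero ((localCohomology I d).obj (cokernel μ))) :
    Epi ((localCohomology I d).map μ) := by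
  have hμ : μ = Abelian.factorThruImage μ ≫ Abelian.image.ι μ := by simp
  let S₁ : ShortComplex (ModuleCat.{u} R) :=
    ShortComplex.mk (kernel.ι (Abelian.factorThruImage μ)) (Abelian.factorThruImage μ)
      (kernel.condition _)
  have hS₁ : S₁.ShortExact :=
    { exact := ShortComplex.exact_of_f_is_kernel _ (kernelIsKernel _)
      mono_f := inferInstanceAs (Mono (kernel.ι _))
      epi_g := inferInstanceAs (Epi (Abelian.factorThruImage μ)) }
  have e₁ : Epi ((localCohomology I d).map (Abelian.factorThruImage μ)) :=
    ((lcDelta I).exact₃ S₁ hS₁ d).epi_f (h1.eq_of_tgt _ _)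
  let S₂ : ShortComplex (ModuleCat.{u} R) :=
    ShortComplex.mk (Abelian.image.ι μ) (cokernel.π μ) (by
      rw [← cancel_epi (Abelian.factorThruImage μ)]
      simp)
  have hS₂ : S₂.ShortExact :=
    { exact := by
        apply ShortComplex.exact_of_f_is_kernel
        exact kernelIsKernel (cokernel.π μ)
      mono_f := inferInstanceAs (Mono (Abelian.image.ι μ))
      epi_g := inferInstanceAs (Epi (cokernel.π μ)) }
  have e₂ : Epi ((localCohomology I d).map (Abelian.image.ι μ)) :=
    (LocCohVanish.lc_exact₂ I S₂ hS₂ d).epi_f (h2.eq_of_tgt _ _)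
  rw [hμ, Functor.map_comp]
  exact epi_comp _ _

omit [IsNoetherianRing R] in
/-- a surjection with kernel killed by `H^{d+1}` induces a surjection on `H^d` -/
lemma epi_lc_of_surjective {X Y : Type u} [AddCommGroup X] [Module R X] [AddCommGroup Y]
    [Module R Y] (π : X →ₗ[R] Y) (hπ : Function.Surjective π) (d : ℕ)
    (h : IsZero ((localCohomology I (d + 1)).obj (ModuleCat.of R (LinearMap.ker π)))) :
    Epi ((localCohomology I d).map (ModuleCat.ofHom π)) := by
  let S : ShortComplex (ModuleCat.{u} R) :=
    ModuleCat.shortComplexOfCompEqZero (LinearMap.ker π).subtype π (by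
      ext x
      exact x.2)
  have hS : S.ShortExact :=
    { exact := ModuleCat.shortComplex_exact _ (LinearMap.exact_subtype_ker_map π)
      mono_f := (ModuleCat.mono_iff_injective _).2 (Submodule.injective_subtype _)
      epi_g := (ModuleCat.epi_iff_surjective _).2 hπ }
  exact ((lcDelta I).exact₃ S hS d).epi_f (h.eq_of_tgt _ _)

end epi

section top

variable {R : Type u} [CommRing R] [IsNoetherianRing R] (I : Ideal R)

open Groth.Agent.Helper1.LocCohTop in
/-- module version of the top vanishing criterion: if `H^d_I(M) = 0` with `dim M ≤ d` then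
`H^d_I(N) = 0` for all finite `N` with `Supp N ⊆ Supp M` -/
theorem isZero_top_of_support_le (d : ℕ)
    (M : Type u) [AddCommGroup M] [Module R M] [Module.Finite R M]
    (hM : Module.supportDim R M ≤ d)
    (hvan : IsZero ((localCohomology I d).obj (ModuleCat.of R M))) :
    ∀ (N : Type u) [AddCommGroup N] [Module R N] [Module.Finite R N],
      Module.support R N ⊆ Module.support R M →
      IsZero ((localCohomology I d).obj (ModuleCat.of R N)) := by
  intro N _ _ hfin
  induction hfin using IsNoetherianRing.induction_on_isQuotientEquivQuotientPrime R with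
  | subsingleton N =>
    intro _
    exact LocCohVanish.isZero_lc_of_subsingleton I N d
  | quotient N p e =>
    intro hsupp
    haveI : p.asIdeal.IsPrime := p.2
    have hpN : ∀ a ∈ p.asIdeal, ∀ n : N, a • n = 0 := by
      intro a ha n
      apply e.injective
      rw [map_smul, map_zero]
      obtain ⟨s, hs⟩ := Submodule.Quotient.mk_surjective _ (e n)
      rw [← hs, ← Submodule.Quotient.mk_smul, Submodule.Quotient.mk_eq_zero, smul_eq_mul]
      exact Ideal.mul_mem_right s _ ha
    haveI : Nontrivial N := e.toEquiv.nontrivial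
    have hpsuppN : p ∈ Module.support R N := by
      rw [e.support_eq, Module.support_eq_zeroLocus, Ideal.annihilator_quotient,
        PrimeSpectrum.mem_zeroLocus]
    have hpM : p ∈ Module.support R M := hsupp hpsuppN
    have hdimN : Module.supportDim R N = ringKrullDim (R ⧸ p.asIdeal) := by
      rw [Module.supportDim_eq_of_equiv e, Module.supportDim_quotient_eq_ringKrullDim]
    by_cases hlt : ringKrullDim (R ⧸ p.asIdeal) < d
    · apply LocCohVanish.isZero_lc_of_supportDim_lt I N d
      rw [hdimN]
      exact hlt
    · have hpd : ringKrullDim (R ⧸ p.asIdeal) ≤ d :=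
        (ringKrullDim_quotient_le_supportDim p hpM).trans hM
      -- a nonzero map `M → N`
      have hns : ¬ Subsingleton (M →ₗ[R] N) := by
        rw [IsSMulRegular.subsingleton_linearMap_iff]
        rintro ⟨r, hr, hreg⟩
        have hrp : r ∈ p.asIdeal := mem_of_mem_support p hpM r
          (fun c => Module.mem_annihilator.1 hr c)
        obtain ⟨x, y, hxy⟩ := exists_pair_ne N
        apply hxy
        apply hreg
        show r • x = r • y
        rw [hpN r hrp x, hpN r hrp y]
      rw [not_subsingleton_iff_nontrivial] at hns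
      obtain ⟨ψ, hψ⟩ := exists_ne (0 : M →ₗ[R] N)
      obtain ⟨m₀, hm₀⟩ : ∃ m₀, ψ m₀ ≠ 0 := by
        by_contra h
        push Not at h
        exact hψ (LinearMap.ext h)
      obtain ⟨r, hr⟩ := Submodule.Quotient.mk_surjective _ (e (ψ m₀))
      have hrp : r ∉ p.asIdeal := by
        intro h
        apply hm₀
        apply e.injective
        rw [map_zero, ← hr, Submodule.Quotient.mk_eq_zero]
        exact h
      let μ : ModuleCat.of R M ⟶ ModuleCat.of R N := ModuleCat.ofHom ψ
      have hπ : Function.Surjective (cokernel.π μ) :=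
        (ModuleCat.epi_iff_surjective _).1 inferInstance
      have hμπ : ∀ m : M, (cokernel.π μ) (ψ m) = 0 := by
        intro m
        have := cokernel.condition μ
        exact congrArg (fun f => f.hom m) this
      have hrC : ∀ c : (cokernel μ : ModuleCat.{u} R), r • c = 0 := by
        intro c
        obtain ⟨n, rfl⟩ := hπ c
        obtain ⟨s, hs⟩ := Submodule.Quotient.mk_surjective _ (e n)
        have : r • n = ψ (s • m₀) := by
          apply e.injective
          rw [map_smul, map_smul, map_smul, ← hs, ← hr, ← Submodule.Quotient.mk_smul,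
            ← Submodule.Quotient.mk_smul, smul_eq_mul, smul_eq_mul, mul_comm]
        rw [← map_smul, this, hμπ]
      have hpC : ∀ a ∈ p.asIdeal, ∀ c : (cokernel μ : ModuleCat.{u} R), a • c = 0 := by
        intro a ha c
        obtain ⟨n, rfl⟩ := hπ c
        rw [← map_smul, hpN a ha n, map_zero]
      have hdim : Module.supportDim R (cokernel μ : ModuleCat.{u} R) < (d : WithBot ℕ∞) := by
        apply krullDim_lt_of_forall_lt p d hpd
        intro q hq
        have h1 : p ≤ q := fun a ha => mem_of_mem_support q hq a (hpC a ha)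
        have h2 : r ∈ q.asIdeal := mem_of_mem_support q hq r hrC
        refine lt_of_le_of_ne h1 ?_
        rintro rfl
        exact hrp h2
      have hz : IsZero ((localCohomology I d).obj (cokernel μ)) :=
        LocCohVanish.isZero_lc_of_supportDim_lt I (cokernel μ : ModuleCat.{u} R) d hdim
      have hker : IsZero ((localCohomology I (d + 1)).obj
          (kernel (Abelian.factorThruImage μ))) := by
        apply LocCohVanish.isZero_lc_of_supportDim_lt I
          (kernel (Abelian.factorThruImage μ) : ModuleCat.{u} R) (d + 1)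
        have hinj : Function.Injective (kernel.ι (Abelian.factorThruImage μ)).hom :=
          (ModuleCat.mono_iff_injective _).1 inferInstance
        refine ((Module.supportDim_le_of_injective _ hinj).trans hM).trans_lt ?_
        exact_mod_cast Nat.lt_succ_self d
      haveI := epi_lc_map' I μ d hker hz
      exact IsZero.of_epi ((localCohomology I d).map μ) hvan
  | exact N₁ N₂ N₃ f g hf hg hfg h₁ h₃ =>
    intro hsupp
    let S : ShortComplex (ModuleCat.{u} R) :=
      ModuleCat.shortComplexOfCompEqZero f g hfg.linearMap_comp_eq_zero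
    have hS : S.ShortExact :=
      { exact := ModuleCat.shortComplex_exact _ hfg
        mono_f := (ModuleCat.mono_iff_injective _).2 hf
        epi_g := (ModuleCat.epi_iff_surjective _).2 hg }
    exact (LocCohVanish.lc_exact₂ I S hS d).isZero_of_both_isZero
      (h₁ ((Module.support_subset_of_injective f hf).trans hsupp))
      (h₃ ((Module.support_subset_of_surjective g hg).trans hsupp))

end top

end Groth.Agent.Helper1.LocCohTopMod
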