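import Mathlib
import Groth.Agent.Helper1.LDualC
import Groth.Agent.Helper1.LocCohRing
import Groth.Agent.Helper1.LocCohLinear
import Groth.Agent.Helper1.LocCohTopMod
import Groth.Agent.Helper1.LocCohVanish

set_option autoImplicit false

/-!
# Top local cohomology: `H^n_J(M) ≅ M ⊗ H^n_J(R) ≅ Hom(Hom(M,K),E)` for a canonical module `K`
-/

namespace Groth.Agent.Helper1.LDual
open CategoryTheory Limits TensorProduct Groth.Agent.Helper1.LocCohDelta

universe u

variable {R : Type u} [CommRing R] [IsNoetherianRing R] (J : Ideal R) (n : ℕ)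

instance additive_lc : (localCohomology J n).Additive := LocCohRing.additive_lc J n

instance linear_lc : Functor.Linear R (localCohomology J n) where
  map_smul f r := lc_map_smul J r n f

/-- top local cohomology is right exact -/
lemma rightExact_lc (hvan : ∀ M : ModuleCat.{u} R, IsZero ((localCohomology J (n + 1)).obj M)) :
    RightExact (localCohomology J n) := by
  intro S hS hg
  have hg' : Function.Surjective S.g.hom := (ModuleCat.epi_iff_surjective _).1 hg
  have hex := (ShortComplex.moduleCat_exact_iff S).1 hS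
  have hepi : Epi ((localCohomology J n).map S.g) := by
    have := LocCohTopMod.epi_lc_of_surjective J S.g.hom hg' n (hvan _)
    exact this
  refine ⟨?_, hepi⟩
  -- the short exact sequence `0 → ker g → X₂ → X₃ → 0`
  let A : ShortComplex (ModuleCat.{u} R) :=
    ModuleCat.shortComplexOfCompEqZero (LinearMap.ker S.g.hom).subtype S.g.hom (by
      ext x
      exact x.2)
  have hA : A.ShortExact :=
    { exact := ModuleCat.shortComplex_exact _ (LinearMap.exact_subtype_ker_map S.g.hom)
      mono_f := (ModuleCat.mono_iff_injective _).2 (Submodule.injective_subtype _)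
      epi_g := (ModuleCat.epi_iff_surjective _).2 hg' }
  have hAex := (ShortComplex.moduleCat_exact_iff _).1 (lc_exact₂ J A hA n)
  -- `f` factors through `ker g` surjectively
  let f' : S.X₁ →ₗ[R] LinearMap.ker S.g.hom :=
    LinearMap.codRestrict _ S.f.hom (fun x => by
      rw [LinearMap.mem_ker]
      exact congrArg (fun t => t.hom x) S.zero)
  have hf' : Function.Surjective f' := by
    rintro ⟨y, hy⟩
    obtain ⟨x, hx⟩ := hex y hy
    exact ⟨x, Subtype.ext hx⟩
  have hepi' : Epi ((localCohomology J n).map (ModuleCat.ofHom f')) :=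
    LocCohTopMod.epi_lc_of_surjective J f' hf' n (hvan _)
  have hsurj' : Function.Surjective ((localCohomology J n).map (ModuleCat.ofHom f')).hom :=
    (ModuleCat.epi_iff_surjective _).1 hepi'
  have hfac : S.f = ModuleCat.ofHom f' ≫ A.f := rfl
  rw [ShortComplex.moduleCat_exact_iff]
  intro y hy
  obtain ⟨z, hz⟩ := hAex y hy
  obtain ⟨x, rfl⟩ := hsurj' z
  refine ⟨x, ?_⟩
  show ((localCohomology J n).map S.f).hom x = y
  rw [hfac, Functor.map_comp]
  exact hz

variable {J n}

/-- **Top local cohomology and a canonical module**: a natural transformation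
`H^n_J ⟶ Hom(Hom(-,K),E)` which is an isomorphism on finitely generated modules. -/
theorem exists_tau (hvan : ∀ M : ModuleCat.{u} R, IsZero ((localCohomology J (n + 1)).obj M))
    (K E : Type u) [AddCommGroup K] [Module R K] [Module.Finite R K] [AddCommGroup E] [Module R E]
    [Module.Injective R E]
    (c : (localCohomology J n).obj (ModuleCat.of R R) ≃ₗ[R] (K →ₗ[R] E)) :
    ∃ τ : localCohomology J n ⟶ dd K E,
      ∀ (M : ModuleCat.{u} R) [Module.Finite R M], IsIso (τ.app M) := by
  let T := localCohomology J n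
  have hT : RightExact T := rightExact_lc J n hvan
  have hθ : IsIso ((theta T).app (ModuleCat.of R K)) :=
    isIso_theta_of_finite T hT (ModuleCat.of R K)
  let θinv : T.obj (ModuleCat.of R K) →ₗ[R] (K ⊗[R] T.obj (ModuleCat.of R R)) :=
    (inv ((theta T).app (ModuleCat.of R K))).hom
  let ev : (K ⊗[R] T.obj (ModuleCat.of R R)) →ₗ[R] E :=
    TensorProduct.lift (LinearMap.flip c.toLinearMap)
  let ρ : T.obj (ModuleCat.of R K) →ₗ[R] E := ev ∘ₗ θinv
  have hρ : ∀ (x : K) (ξ : T.obj (ModuleCat.of R R)),
      ρ ((T.map (mulHom (ModuleCat.of R K) x)).hom ξ) = c ξ x := by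
    intro x ξ
    have h1 : (T.map (mulHom (ModuleCat.of R K) x)).hom ξ =
        ((theta T).app (ModuleCat.of R K)).hom (x ⊗ₜ ξ) := rfl
    have h2 : θinv (((theta T).app (ModuleCat.of R K)).hom (x ⊗ₜ ξ)) = x ⊗ₜ ξ := by
      have := IsIso.hom_inv_id ((theta T).app (ModuleCat.of R K))
      exact congrArg (fun t => t.hom (x ⊗ₜ ξ)) this
    show ev (θinv _) = _
    rw [h1, h2]
    rfl
  refine ⟨tau T ρ, fun M _ => ?_⟩
  exact isIso_app_of_finite (tau T ρ) hT (rightExact_dd K E) (isIso_tau_self T ρ c hρ) M

end Groth.Agent.Helper1.LDual
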