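import Mathlib
import Groth.Agent.Helper1.LDualD

set_option autoImplicit false

/-!
# Grothendieck vanishing above the dimension of the ring, and the top duality statement
-/

namespace Groth.Agent.Helper1.LDual
open CategoryTheory Limits TensorProduct Groth.Agent.Helper1.LocCohDelta IsLocalRing

universe u

variable {R : Type u} [CommRing R] [IsNoetherianRing R]

lemma isZero_lc_succ_dim (J : Ideal R) (n : ℕ) (hn : ringKrullDim R = n)
    (M : ModuleCat.{u} R) : IsZero ((localCohomology J (n + 1)).obj M) := by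
  have := LocCohVanish.isZero_lc_of_supportDim_lt J M (n + 1) (by
    refine lt_of_le_of_lt (Module.supportDim_le_ringKrullDim R M) ?_
    rw [hn]
    exact_mod_cast Nat.lt_succ_self n)
  exact this

/-- `H^n_J(M) ≅ Hom(Hom(M,K),E)` for finitely generated `M` -/
theorem nonempty_top_equiv (J : Ideal R) (n : ℕ) (hn : ringKrullDim R = n)
    (K E : Type u) [AddCommGroup K] [Module R K] [Module.Finite R K] [AddCommGroup E] [Module R E]
    [Module.Injective R E]
    (eK : (K →ₗ[R] E) ≃ₗ[R] LocCoh.H J n R)
    (M : Type u) [AddCommGroup M] [Module R M] [Module.Finite R M] :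
    Nonempty (LocCoh.H J n M ≃ₗ[R] ((M →ₗ[R] K) →ₗ[R] E)) := by
  obtain ⟨τ, hτ⟩ := exists_tau (J := J) (n := n) (isZero_lc_succ_dim J n hn) K E eK.symm
  have := hτ (ModuleCat.of R M)
  exact ⟨(asIso (τ.app (ModuleCat.of R M))).toLinearEquiv⟩

end Groth.Agent.Helper1.LDual
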