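import Mathlib
import Groth.Agent.Helper1.LDualE

set_option autoImplicit false

/-!
# Local duality with a canonical module (derived-category `Ext` version)

`H^j_J(M) ≅ Hom(Ext^i(M,K),E)` for `i + j = n`, assuming `H^j_J(R) = 0` for `j < n`
and `H^{n+1}_J = 0`.
-/

namespace Groth.Agent.Helper1.LDual
open CategoryTheory Limits Abelian Groth.Agent.Helper1.LocCohDelta

universe u

variable {R : Type u} [CommRing R]

/-- functionals on a cokernel -/
lemma nonempty_dual_equiv_ker {A B X E : Type u} [AddCommGroup A] [Module R A] [AddCommGroup B]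
    [Module R B] [AddCommGroup X] [Module R X] [AddCommGroup E] [Module R E]
    (q : A →ₗ[R] X) (hq : Function.Surjective q) (res : B →ₗ[R] A)
    (hker : LinearMap.ker q = LinearMap.range res) :
    Nonempty ((X →ₗ[R] E) ≃ₗ[R] LinearMap.ker (LinearMap.lcomp R E res)) := by
  let Φ : (X →ₗ[R] E) →ₗ[R] LinearMap.ker (LinearMap.lcomp R E res) :=
    LinearMap.codRestrict _ (LinearMap.lcomp R E q) (fun χ => by
      rw [LinearMap.mem_ker]
      apply LinearMap.ext
      intro b
      show χ (q (res b)) = 0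
      have : res b ∈ LinearMap.ker q := by rw [hker]; exact ⟨b, rfl⟩
      rw [LinearMap.mem_ker.1 this, map_zero])
  have hΦ : Function.Bijective Φ := by
    constructor
    · intro χ χ' h
      apply LinearMap.ext
      intro x
      obtain ⟨a, rfl⟩ := hq x
      have := congrArg Subtype.val h
      exact LinearMap.congr_fun this a
    · rintro ⟨φ, hφ⟩
      rw [LinearMap.mem_ker] at hφ
      have hk : LinearMap.ker q ≤ LinearMap.ker φ := by
        rw [hker]
        rintro _ ⟨b, rfl⟩
        rw [LinearMap.mem_ker]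
        exact LinearMap.congr_fun hφ b
      let e := LinearMap.quotKerEquivOfSurjective q hq
      refine ⟨((LinearMap.ker q).liftQ φ hk) ∘ₗ e.symm.toLinearMap, Subtype.ext ?_⟩
      apply LinearMap.ext
      intro a
      show ((LinearMap.ker q).liftQ φ hk) (e.symm (q a)) = φ a
      have : e.symm (q a) = Submodule.Quotient.mk a := by
        rw [LinearEquiv.symm_apply_eq]
        rfl
      rw [this, Submodule.liftQ_apply]
  exact ⟨LinearEquiv.ofBijective Φ hΦ⟩

/-- kernels in a commutative square with bijective vertical maps -/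
lemma nonempty_ker_equiv {A A' B B' : Type u} [AddCommGroup A] [Module R A] [AddCommGroup A']
    [Module R A'] [AddCommGroup B] [Module R B] [AddCommGroup B'] [Module R B']
    (f : A →ₗ[R] B) (f' : A' →ₗ[R] B') (v : A →ₗ[R] A') (w : B →ₗ[R] B')
    (hv : Function.Bijective v) (hw : Function.Injective w)
    (comm : ∀ a, w (f a) = f' (v a)) :
    Nonempty (LinearMap.ker f ≃ₗ[R] LinearMap.ker f') := by
  let Φ : LinearMap.ker f →ₗ[R] LinearMap.ker f' :=
    LinearMap.codRestrict _ (v ∘ₗ (LinearMap.ker f).subtype) (fun a => by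
      rw [LinearMap.mem_ker]
      show f' (v a.1) = 0
      rw [← comm, LinearMap.mem_ker.1 a.2, map_zero])
  have hΦ : Function.Bijective Φ := by
    constructor
    · intro a a' h
      apply Subtype.ext
      apply hv.1
      exact congrArg Subtype.val h
    · rintro ⟨a', ha'⟩
      obtain ⟨a, rfl⟩ := hv.2 a'
      refine ⟨⟨a, ?_⟩, rfl⟩
      rw [LinearMap.mem_ker] at ha' ⊢
      apply hw
      rw [comm, ha', map_zero]
  exact ⟨LinearEquiv.ofBijective Φ hΦ⟩

/-- `Ext^{i+2}(X₃,Y) ≃ Ext^{i+1}(X₁,Y)` when `X₂` is projective -/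
lemma nonempty_ext_shift (S : ShortComplex (ModuleCat.{u} R)) (hS : S.ShortExact)
    [Projective S.X₂] (Y : ModuleCat.{u} R) (i : ℕ) :
    Nonempty (Ext S.X₁ Y (i + 1) ≃ₗ[R] Ext S.X₃ Y (i + 2)) := by
  let δ : Ext S.X₁ Y (i + 1) →ₗ[R] Ext S.X₃ Y (i + 2) :=
    Ext.precompOfLinear hS.extClass R Y (show 1 + (i + 1) = i + 2 by omega)
  have hδ : Function.Bijective δ := by
    constructor
    · rw [← LinearMap.ker_eq_bot, eq_bot_iff]
      intro x hx
      rw [LinearMap.mem_ker] at hx
      obtain ⟨x₂, rfl⟩ := Ext.contravariant_sequence_exact₁ hS Y x (by omega) hx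
      rw [Ext.eq_zero_of_projective x₂, Ext.comp_zero]
      exact Submodule.zero_mem _
    · intro x₃
      exact Ext.contravariant_sequence_exact₃ hS Y x₃ (Ext.eq_zero_of_projective _) (by omega)
  exact ⟨LinearEquiv.ofBijective δ hδ⟩

/-- `Hom(Ext^1(X₃,Y),E) ≃ {φ : Hom(Hom(X₁,Y),E) | φ ∘ res = 0}` when `X₂` is projective -/
lemma nonempty_dual_ext_one (S : ShortComplex (ModuleCat.{u} R)) (hS : S.ShortExact)
    [Projective S.X₂] (Y : ModuleCat.{u} R) (E : Type u) [AddCommGroup E] [Module R E] :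
    Nonempty ((Ext S.X₃ Y 1 →ₗ[R] E) ≃ₗ[R]
      LinearMap.ker (LinearMap.lcomp R E (LinearMap.lcomp R Y S.f.hom))) := by
  let q : (S.X₁ →ₗ[R] Y) →ₗ[R] Ext S.X₃ Y 1 :=
    (Ext.precompOfLinear hS.extClass R Y (show 1 + 0 = 1 by omega)) ∘ₗ
      (Ext.linearEquiv₀ (R := R) (X := S.X₁) (Y := Y)).symm.toLinearMap ∘ₗ
      (ModuleCat.homLinearEquiv (S := R) (M := S.X₁) (N := Y)).symm.toLinearMap
  have hq_apply : ∀ ψ : S.X₁ →ₗ[R] Y,
      q ψ = hS.extClass.comp (Ext.mk₀ (ModuleCat.ofHom ψ)) (show 1 + 0 = 1 by omega) := by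
    intro ψ
    rfl
  have hq : Function.Surjective q := by
    intro x₃
    obtain ⟨x₁, hx₁⟩ := Ext.contravariant_sequence_exact₃ hS Y x₃
      (Ext.eq_zero_of_projective _) (show 1 + 0 = 1 by omega)
    obtain ⟨ψ, rfl⟩ := (Ext.mk₀_bijective S.X₁ Y).2 x₁
    exact ⟨ψ.hom, hx₁⟩
  have hker : LinearMap.ker q = LinearMap.range (LinearMap.lcomp R Y S.f.hom) := by
    ext ψ
    rw [LinearMap.mem_ker, hq_apply, LinearMap.mem_range]
    constructor
    · intro h
      obtain ⟨x₂, hx₂⟩ := Ext.contravariant_sequence_exact₁ hS Y _ (by omega) h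
      obtain ⟨χ, rfl⟩ := (Ext.mk₀_bijective S.X₂ Y).2 x₂
      rw [Ext.mk₀_comp_mk₀] at hx₂
      have := (Ext.mk₀_bijective S.X₁ Y).1 hx₂
      refine ⟨χ.hom, ?_⟩
      exact congrArg ModuleCat.Hom.hom this
    · rintro ⟨χ, rfl⟩
      have : ModuleCat.ofHom ((LinearMap.lcomp R Y S.f.hom) χ) = S.f ≫ ModuleCat.ofHom χ := rfl
      rw [this, ← Ext.mk₀_comp_mk₀, ← Ext.comp_assoc_of_third_deg_zero, hS.extClass_comp,
        Ext.zero_comp]
  exact nonempty_dual_equiv_ker q hq _ hker

variable [IsNoetherianRing R]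

/-- `δ : H^j(X₃) → H^{j+1}(X₁)` is an isomorphism when `H^j(X₂) = H^{j+1}(X₂) = 0` -/
lemma nonempty_lc_shift (J : Ideal R) (S : ShortComplex (ModuleCat.{u} R)) (hS : S.ShortExact)
    (j : ℕ) (h0 : IsZero ((localCohomology J j).obj S.X₂))
    (h1 : IsZero ((localCohomology J (j + 1)).obj S.X₂)) :
    Nonempty ((localCohomology J j).obj S.X₃ ≃ₗ[R] (localCohomology J (j + 1)).obj S.X₁) := by
  have hm : Mono (lcδ J S hS j) := (lc_exact₃ J S hS j).mono_g (h0.eq_of_src _ _)
  have he : Epi (lcδ J S hS j) := (lc_exact₁ J S hS j).epi_f (h1.eq_of_tgt _ _)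
  have := isIso_of_mono_of_epi (lcδ J S hS j)
  exact ⟨(asIso (lcδ J S hS j)).toLinearEquiv⟩

/-- `H^j(X₃) ≃ ker(H^{j+1}(f))` when `H^j(X₂) = 0` -/
lemma nonempty_lc_ker (J : Ideal R) (S : ShortComplex (ModuleCat.{u} R)) (hS : S.ShortExact)
    (j : ℕ) (h0 : IsZero ((localCohomology J j).obj S.X₂)) :
    Nonempty ((localCohomology J j).obj S.X₃ ≃ₗ[R]
      LinearMap.ker ((localCohomology J (j + 1)).map S.f).hom) := by
  have hm : Mono (lcδ J S hS j) := (lc_exact₃ J S hS j).mono_g (h0.eq_of_src _ _)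
  have hinj : Function.Injective (lcδ J S hS j).hom := (ModuleCat.mono_iff_injective _).1 hm
  have hex := (ShortComplex.moduleCat_exact_iff _).1 (lc_exact₁ J S hS j)
  have hrange : LinearMap.range (lcδ J S hS j).hom =
      LinearMap.ker ((localCohomology J (j + 1)).map S.f).hom := by
    ext y
    constructor
    · rintro ⟨x, rfl⟩
      rw [LinearMap.mem_ker]
      exact congrArg (fun t => t.hom x) (lc_w₁ J S hS j)
    · intro hy
      obtain ⟨x, hx⟩ := hex y hy
      exact ⟨x, hx⟩
  exact ⟨(LinearEquiv.ofInjective (lcδ J S hS j).hom hinj).trans (LinearEquiv.ofEq _ _ hrange)⟩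

/-- **Local duality** (derived-category `Ext`): `H^j_J(M) ≅ Hom(Ext^i(M,K),E)` for `i + j = n`. -/
theorem nonempty_equiv_ext (J : Ideal R) (n : ℕ)
    (hvan : ∀ M : ModuleCat.{u} R, IsZero ((localCohomology J (n + 1)).obj M))
    (hdepth : ∀ j, j < n → IsZero ((localCohomology J j).obj (ModuleCat.of R R)))
    (K E : Type u) [AddCommGroup K] [Module R K] [Module.Finite R K] [AddCommGroup E] [Module R E]
    [Module.Injective R E]
    (eK : (K →ₗ[R] E) ≃ₗ[R] (localCohomology J n).obj (ModuleCat.of R R)) :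
    ∀ (i j : ℕ), i + j = n → ∀ (M : Type u) [AddCommGroup M] [Module R M] [Module.Finite R M],
      Nonempty ((localCohomology J j).obj (ModuleCat.of R M) ≃ₗ[R]
        (Ext (ModuleCat.of R M) (ModuleCat.of R K) i →ₗ[R] E)) := by
  obtain ⟨τ, hτ⟩ := exists_tau (J := J) (n := n) hvan K E eK.symm
  have hfree : ∀ (b j : ℕ), j < n →
      IsZero ((localCohomology J j).obj (ModuleCat.of R (Fin b → R))) := fun b j hj =>
    LocCohRing.isZero_free (localCohomology J j) (hdepth j hj) b
  intro i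
  induction i with
  | zero =>
    intro j hj M _ _ _
    obtain rfl : j = n := by omega
    have := hτ (ModuleCat.of R M)
    let e1 := (asIso (τ.app (ModuleCat.of R M))).toLinearEquiv
    let e2 : Ext (ModuleCat.of R M) (ModuleCat.of R K) 0 ≃ₗ[R] (M →ₗ[R] K) :=
      (Ext.linearEquiv₀ (R := R)).trans ModuleCat.homLinearEquiv
    exact ⟨e1.trans (LinearEquiv.congrLeft E R e2.symm)⟩
  | succ i ih =>
    intro j hj M _ _ _
    obtain ⟨b, p, hp⟩ := Module.Finite.exists_fin' R M
    let S := p.shortComplexKer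
    have hS : S.ShortExact := LinearMap.shortExact_shortComplexKer hp
    have hproj : Projective S.X₂ := by
      have : Module.Projective R (Fin b → R) := inferInstance
      exact (IsProjective.iff_projective (R := R) (Fin b → R)).1 this
    have hfin : Module.Finite R (LinearMap.ker p) := inferInstance
    rcases i with _ | i
    · -- `i = 1`, `j + 1 = n`
      obtain rfl : n = j + 1 := by omega
      obtain ⟨e1⟩ := nonempty_lc_ker J S hS j (hfree b j (by omega))
      obtain ⟨e3⟩ := nonempty_dual_ext_one S hS (ModuleCat.of R K) E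
      have hN := hτ S.X₁
      have hF := hτ S.X₂
      obtain ⟨e2⟩ := nonempty_ker_equiv ((localCohomology J (j + 1)).map S.f).hom
        ((dd K E).map S.f).hom (τ.app S.X₁).hom (τ.app S.X₂).hom
        ((ConcreteCategory.isIso_iff_bijective _).1 hN)
        ((ConcreteCategory.isIso_iff_bijective _).1 hF).1
        (fun a => (congrArg (fun t => t.hom a) (τ.naturality S.f)))
      exact ⟨e1.trans (e2.trans e3.symm)⟩
    · -- `i + 2`
      obtain ⟨e1⟩ := nonempty_lc_shift J S hS j (hfree b j (by omega)) (hfree b (j + 1) (by omega))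
      obtain ⟨e2⟩ := ih (j + 1) (by omega) (LinearMap.ker p)
      obtain ⟨e3⟩ := nonempty_ext_shift S hS (ModuleCat.of R K) i
      exact ⟨e1.trans (e2.trans (LinearEquiv.congrLeft E R e3))⟩

end Groth.Agent.Helper1.LDual
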