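import Mathlib
import Groth.Agent.Helper1.LDualF
import Groth.Agent.Helper1.ExtBridgeLin
import Groth.Agent.Helper1.LocCohDepth
import Groth.Agent.Helper2.Depth

set_option autoImplicit false

/-!
# Local duality over a Cohen–Macaulay local ring with a canonical module (Mathlib's old `Ext`)
-/

namespace Groth.Agent.Helper1.LDual
open CategoryTheory Limits Opposite IsLocalRing

universe u

variable {R : Type u} [CommRing R]

/-- vanishing of `H^j_𝔪(R)` below the dimension for a Cohen–Macaulay local ring -/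
lemma isZero_lc_of_cm [LocCoh.IsCohenMacaulayLocalRing R] (n : ℕ) (hn : ringKrullDim R = n)
    (j : ℕ) (hj : j < n) :
    IsZero ((localCohomology (maximalIdeal R) j).obj (ModuleCat.of R R)) := by
  have hdepth : LocCoh.depth R R = n := by
    have h1 := LocCoh.IsCohenMacaulayLocalRing.supportDim_eq_depth (R := R)
    rw [Module.supportDim_self_eq_ringKrullDim, hn] at h1
    have : ((n : ℕ∞) : WithBot ℕ∞) = ((LocCoh.depth R R : ℕ∞) : WithBot ℕ∞) := h1
    exact (WithBot.coe_injective this).symm
  have hIM : maximalIdeal R • (⊤ : Submodule R R) ≠ ⊤ :=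
    Groth.Agent.Helper2.Depth.smul_top_ne_top R R
  exact ModuleCat.isZero_iff_subsingleton.2
    ((LocCohDepth.le_idealDepth_iff_lc (maximalIdeal R) R hIM n).1 hdepth.ge j hj)

/-- **Local duality** over a Cohen–Macaulay local ring with canonical module `K` -/
theorem nonempty_equiv_oldExt [LocCoh.IsCohenMacaulayLocalRing R] (n : ℕ)
    (hn : ringKrullDim R = n)
    (K E : Type u) [AddCommGroup K] [Module R K] [Module.Finite R K] [AddCommGroup E] [Module R E]
    [Module.Injective R E]
    (eK : (K →ₗ[R] E) ≃ₗ[R] LocCoh.H (maximalIdeal R) n R)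
    (M : Type u) [AddCommGroup M] [Module R M] [Module.Finite R M] (i j : ℕ) (hij : i + j = n) :
    Nonempty (LocCoh.H (maximalIdeal R) j M ≃ₗ[R]
      ((((Ext R (ModuleCat.{u} R) i).obj (op (ModuleCat.of R M))).obj (ModuleCat.of R K))
        →ₗ[R] E)) := by
  obtain ⟨e1⟩ := nonempty_equiv_ext (maximalIdeal R) n (isZero_lc_succ_dim _ n hn)
    (isZero_lc_of_cm n hn) K E eK i j hij M
  obtain ⟨e2⟩ := ExtBridgeLin.nonempty_linearEquiv (ModuleCat.of R M) (ModuleCat.of R K) i
  exact ⟨e1.trans (LinearEquiv.congrLeft E R e2.symm)⟩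

end Groth.Agent.Helper1.LDual
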