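import Mathlib
import Groth.Agent.Helper1.LDualG
import Groth.Agent.Helper1.GorTopD
import Groth.Agent.S0302

set_option autoImplicit false

/-!
# Local duality over a Gorenstein local ring
-/

namespace Groth.Agent.Helper1.LDual
open CategoryTheory Limits Opposite IsLocalRing

universe u

variable {R : Type u} [CommRing R]

/-- for a Gorenstein local ring of dimension `n`, `R` is a canonical module -/
lemma nonempty_canon_self [LocCoh.IsGorensteinLocalRing R] (n : ℕ) (hn : ringKrullDim R = n)
    (E : Type u) [AddCommGroup E] [Module R E] (f : ResidueField R →ₗ[R] E)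
    (hf : InjHull.IsInjectiveHull f) :
    Nonempty ((R →ₗ[R] E) ≃ₗ[R] LocCoh.H (maximalIdeal R) n R) := by
  obtain ⟨g, hg⟩ := GorTop.exists_isInjectiveHull (R := R) n hn
  obtain ⟨e, -⟩ := Groth.Agent.S0302.result R (ResidueField R) E
    (LocCoh.H (maximalIdeal R) n R) f hf g hg
  exact ⟨(LinearMap.ringLmapEquivSelf R R E).trans e⟩

/-- **Local duality** over a Gorenstein local ring -/
theorem nonempty_equiv_oldExt_gorenstein [LocCoh.IsGorensteinLocalRing R] (n : ℕ)
    (hn : ringKrullDim R = n)
    (E : Type u) [AddCommGroup E] [Module R E] (f : ResidueField R →ₗ[R] E)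
    (hf : InjHull.IsInjectiveHull f)
    (M : Type u) [AddCommGroup M] [Module R M] [Module.Finite R M] (i j : ℕ) (hij : i + j = n) :
    Nonempty (LocCoh.H (maximalIdeal R) j M ≃ₗ[R]
      ((((Ext R (ModuleCat.{u} R) i).obj (op (ModuleCat.of R M))).obj (ModuleCat.of R R))
        →ₗ[R] E)) := by
  have hcm : LocCoh.IsCohenMacaulayLocalRing R := Groth.Agent.Helper6.Bass.cm_of_gorenstein
  haveI := hf.isInjective
  obtain ⟨eK⟩ := nonempty_canon_self n hn E f hf
  exact nonempty_equiv_oldExt n hn R E eK M i j hij

end Groth.Agent.Helper1.LDual
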