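import Mathlib
import Groth.Agent.Helper1.LocCohArtinian

set_option autoImplicit false

/-!
# Finiteness of local cohomology versus annihilation (Faltings)
-/

namespace Groth.Agent.Helper1.LocCohFinite
open CategoryTheory Limits Opposite
open Groth.Agent.Helper1.DeltaFun Groth.Agent.Helper1.LocCohDelta
open Groth.Agent.Helper1.LocCohArtinian

universe u

section basic

variable {R : Type u} [CommRing R] (I : Ideal R)

/-- a finite power-torsion module is killed by a power of the ideal -/
lemma exists_pow_smul_eq_zero {N : Type*} [AddCommGroup N] [Module R N] [Module.Finite R N]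
    (hN : ∀ x : N, ∃ k : ℕ, ∀ a ∈ I ^ k, a • x = 0) :
    ∃ k : ℕ, ∀ a ∈ I ^ k, ∀ x : N, a • x = 0 := by
  classical
  obtain ⟨s, hs⟩ := (Module.Finite.fg_top : (⊤ : Submodule R N).FG)
  choose k hk using hN
  refine ⟨s.sup k, fun a ha x => ?_⟩
  have hx : x ∈ Submodule.span R (s : Set N) := by
    rw [hs]
    exact Submodule.mem_top
  induction hx using Submodule.span_induction with
  | mem y hy => exact hk y a (Ideal.pow_le_pow_right (Finset.le_sup hy) ha)
  | zero => rw [smul_zero]
  | add y z _ _ hy hz => rw [smul_add, hy, hz, add_zero]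
  | smul r y _ hy => rw [smul_comm, hy, smul_zero]

lemma finite_of_mono [IsNoetherianRing R] {X Y : ModuleCat.{u} R} (f : X ⟶ Y) (hf : Mono f)
    (h : Module.Finite R Y) : Module.Finite R X :=
  Module.Finite.of_injective f.hom ((ModuleCat.mono_iff_injective f).1 hf)

lemma finite_of_epi {X Y : ModuleCat.{u} R} (f : X ⟶ Y) (hf : Epi f)
    (h : Module.Finite R X) : Module.Finite R Y :=
  Module.Finite.of_surjective f.hom ((ModuleCat.epi_iff_surjective f).1 hf)

lemma smul_eq_zero_of_epi {X Y : ModuleCat.{u} R} (f : X ⟶ Y) (hf : Epi f) (a : R)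
    (h : ∀ x : X, a • x = 0) (y : Y) : a • y = 0 := by
  obtain ⟨x, rfl⟩ := (ModuleCat.epi_iff_surjective f).1 hf y
  rw [← map_smul, h, map_zero]

lemma mul_smul_eq_zero_of_exact {X Y Z : ModuleCat.{u} R} (f : X ⟶ Y) (g : Y ⟶ Z)
    (w : f ≫ g = 0) (hex : (ShortComplex.mk f g w).Exact) (a b : R)
    (ha : ∀ x : X, a • x = 0) (hb : ∀ z : Z, b • z = 0) (y : Y) : (a * b) • y = 0 := by
  rw [ShortComplex.moduleCat_exact_iff] at hex
  have h1 : g.hom (b • y) = 0 := by
    rw [map_smul]
    exact hb _
  obtain ⟨z, hz⟩ := hex (b • y) h1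
  have hz' : f.hom z = b • y := hz
  rw [mul_smul, ← hz', ← map_smul, ha z, map_zero]

end basic

section main

variable {R : Type u} [CommRing R] [IsNoetherianRing R] (I : Ideal R)

lemma finite_lc_zero (M : Type u) [AddCommGroup M] [Module R M] [Module.Finite R M] :
    Module.Finite R ((localCohomology I 0).obj (ModuleCat.of R M)) := by
  have e : (localCohomology I 0).obj (ModuleCat.of R M) ≅
      ModuleCat.of R (DRing.torsionSub I M) := (lcZeroIso I).app (ModuleCat.of R M)
  exact Module.Finite.equiv e.symm.toLinearEquiv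

lemma isZero_lc_zero_of_torsionSub_eq_bot (M : Type u) [AddCommGroup M] [Module R M]
    (h : DRing.torsionSub I M = ⊥) : IsZero ((localCohomology I 0).obj (ModuleCat.of R M)) := by
  have e : (localCohomology I 0).obj (ModuleCat.of R M) ≅
      ModuleCat.of R (DRing.torsionSub I M) := (lcZeroIso I).app (ModuleCat.of R M)
  have : Subsingleton (DRing.torsionSub I M) := by
    rw [h]
    infer_instance
  exact IsZero.of_iso (ModuleCat.isZero_of_subsingleton _) e

/-- the short exact sequence `0 → Γ → M → M/Γ → 0` -/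
noncomputable def gammaSC (M : Type u) [AddCommGroup M] [Module R M] :
    ShortComplex (ModuleCat.{u} R) :=
  ModuleCat.shortComplexOfCompEqZero (DRing.torsionSub I M).subtype (DRing.torsionSub I M).mkQ (by
    ext x
    exact (Submodule.Quotient.mk_eq_zero _).2 x.2)

lemma gammaSC_shortExact (M : Type u) [AddCommGroup M] [Module R M] :
    (gammaSC I M).ShortExact :=
  { exact := ModuleCat.shortComplex_exact _ (LinearMap.exact_subtype_mkQ _)
    mono_f := (ModuleCat.mono_iff_injective _).2 (Submodule.injective_subtype _)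
    epi_g := (ModuleCat.epi_iff_surjective _).2 (Submodule.mkQ_surjective _) }

lemma isZero_lc_gamma (M : Type u) [AddCommGroup M] [Module R M] (i : ℕ) :
    IsZero ((localCohomology I (i + 1)).obj (gammaSC I M).X₁) := by
  apply isZero_lc_of_isTors I i
  rintro ⟨x, n, hn⟩
  exact ⟨n, fun c hc => Subtype.ext (hn c hc)⟩

/-- `H^{i+1}(M) → H^{i+1}(M/Γ)` is an isomorphism -/
lemma mono_lc_gamma (M : Type u) [AddCommGroup M] [Module R M] (i : ℕ) :
    Mono ((localCohomology I (i + 1)).map (gammaSC I M).g) :=
  (LocCohVanish.lc_exact₂ I _ (gammaSC_shortExact I M) (i + 1)).mono_g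
    ((isZero_lc_gamma I M i).eq_of_src _ _)

lemma epi_lc_gamma (M : Type u) [AddCommGroup M] [Module R M] (i : ℕ) :
    Epi ((localCohomology I (i + 1)).map (gammaSC I M).g) :=
  ((lcDelta I).exact₃ _ (gammaSC_shortExact I M) (i + 1)).epi_f
    ((isZero_lc_gamma I M (i + 1)).eq_of_tgt _ _)

/-- the hard direction of Faltings' criterion -/
theorem finite_of_annihilated (n : ℕ) : ∀ (M : Type u) [AddCommGroup M] [Module R M]
    [Module.Finite R M] (J : Ideal R), I ≤ J.radical →
    (∀ i : ℕ, i ≤ n → ∀ a ∈ J, ∀ x : (localCohomology I i).obj (ModuleCat.of R M), a • x = 0) →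
    ∀ i : ℕ, i ≤ n → Module.Finite R ((localCohomology I i).obj (ModuleCat.of R M)) := by
  induction n with
  | zero =>
    intro M _ _ _ J _ _ i hi
    obtain rfl : i = 0 := by omega
    exact finite_lc_zero I M
  | succ n ih =>
    intro M _ _ _ J hIJ hJ i hi
    rcases i with _ | j
    · exact finite_lc_zero I M
    have hj : j ≤ n := by omega
    let Γ := DRing.torsionSub I M
    let M' := M ⧸ Γ
    -- (a) reduce to `M'`
    suffices hfin : Module.Finite R ((localCohomology I (j + 1)).obj (ModuleCat.of R M')) by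
      exact finite_of_mono ((localCohomology I (j + 1)).map (gammaSC I M).g)
        (mono_lc_gamma I M j) hfin
    -- (b) `J` kills `H^i(M')`
    have hJ' : ∀ i : ℕ, i ≤ n + 1 → ∀ a ∈ J,
        ∀ x : (localCohomology I i).obj (ModuleCat.of R M'), a • x = 0 := by
      intro i hi a ha x
      rcases i with _ | i
      · have hz := isZero_lc_zero_of_torsionSub_eq_bot I M' (torsionSub_quotient_eq_bot I M)
        have := ModuleCat.isZero_iff_subsingleton.1 hz
        exact Subsingleton.elim _ _
      · exact smul_eq_zero_of_epi ((localCohomology I (i + 1)).map (gammaSC I M).g)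
          (epi_lc_gamma I M i) a (hJ (i + 1) hi a ha) x
    -- (c) a regular element in `J`
    obtain ⟨r, hrI, hreg⟩ := exists_regular' I M' (torsionSub_quotient_eq_bot I M)
    obtain ⟨k, hk⟩ := hIJ hrI
    have hxreg : IsSMulRegular M' (r ^ k) := hreg.pow k
    -- (d) the sequence for multiplication by `x = r ^ k`
    let S := ModuleCat.smulShortComplex (ModuleCat.of R M') (r ^ k)
    have hS : S.ShortExact :=
      IsSMulRegular.smulShortComplex_shortExact (M := ModuleCat.of R M') hxreg
    have hfS : ∀ i : ℕ, (localCohomology I i).map S.f =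
        (r ^ k) • 𝟙 ((localCohomology I i).obj (ModuleCat.of R M')) := by
      intro i
      show (localCohomology I i).map ((r ^ k) • 𝟙 (ModuleCat.of R M')) = _
      rw [lc_map_smul, CategoryTheory.Functor.map_id]
    have hf0 : ∀ i : ℕ, i ≤ n + 1 → (localCohomology I i).map S.f = 0 := by
      intro i hi
      rw [hfS i]
      ext x
      exact hJ' i hi _ hk x
    have hδepi : ∀ i : ℕ, i ≤ n → Epi ((lcDelta I).δ S hS i) := fun i hi =>
      ((lcDelta I).exact₁ S hS i).epi_f (hf0 (i + 1) (by omega))
    -- `J * J` kills `H^i(M'/xM')`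
    have hJJ : ∀ i : ℕ, i ≤ n → ∀ a ∈ J * J,
        ∀ y : (localCohomology I i).obj (ModuleCat.of R (QuotSMulTop (r ^ k) M')),
          a • y = 0 := by
      intro i hi a ha y
      refine Submodule.mul_induction_on ha ?_ ?_
      · intro a ha b hb
        exact mul_smul_eq_zero_of_exact _ _ _ ((lcDelta I).exact₃ S hS i) a b
          (hJ' i (by omega) a ha) (hJ' (i + 1) (by omega) b hb) y
      · intro a b ha hb
        rw [add_smul, ha, hb, add_zero]
    have hrad : I ≤ (J * J).radical := by
      rw [Ideal.radical_mul, inf_idem]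
      exact hIJ
    -- (e) induction
    have hfin' := ih (QuotSMulTop (r ^ k) M') (J * J) hrad hJJ j hj
    exact finite_of_epi ((lcDelta I).δ S hS j) (hδepi j hj) hfin'

/-- Faltings: finiteness of `H^i_I(M)`, `i ≤ n`, iff annihilation by an ideal `J` with
`I ≤ √J` -/
theorem finite_iff_annihilated (M : Type u) [AddCommGroup M] [Module R M] [Module.Finite R M]
    (n : ℕ) :
    (∀ i : ℕ, i ≤ n → Module.Finite R ((localCohomology I i).obj (ModuleCat.of R M))) ↔
      ∃ J : Ideal R, I ≤ J.radical ∧ ∀ i : ℕ, i ≤ n → ∀ a ∈ J,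
        ∀ x : (localCohomology I i).obj (ModuleCat.of R M), a • x = 0 := by
  constructor
  · intro h
    have h1 : ∀ i : ℕ, i ≤ n → ∃ k : ℕ, ∀ a ∈ I ^ k,
        ∀ x : (localCohomology I i).obj (ModuleCat.of R M), a • x = 0 := by
      intro i hi
      haveI := h i hi
      exact exists_pow_smul_eq_zero I (LocCohTors.isPowerTorsion I i (ModuleCat.of R M))
    choose! k hk using h1
    refine ⟨I ^ ((Finset.range (n + 1)).sup k + 1), ?_, ?_⟩
    · rw [Ideal.radical_pow I (Nat.succ_ne_zero _)]
      exact Ideal.le_radical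
    · intro i hi a ha x
      refine hk i hi a (Ideal.pow_le_pow_right ?_ ha) x
      exact (Finset.le_sup (f := k) (Finset.mem_range.2 (by omega))).trans (Nat.le_succ _)
  · rintro ⟨J, hJ, h⟩
    exact finite_of_annihilated I n M J hJ h

end main

end Groth.Agent.Helper1.LocCohFinite
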