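import Mathlib
import Groth.Agent.Helper1.LocCohTopMod
import Groth.Agent.Helper1.LocCohFinite

set_option autoImplicit false

/-!
# Grothendieck's non-vanishing theorem: `H^{dim M}_𝔪(M) ≠ 0`
-/

namespace Groth.Agent.Helper1.LocCohNonvanish
open CategoryTheory Limits Opposite IsLocalRing
open Groth.Agent.Helper1.DeltaFun Groth.Agent.Helper1.LocCohDelta
open Groth.Agent.Helper1.LocCohArtinian Groth.Agent.Helper1.LocCohTopMod

universe u

variable {R : Type u} [CommRing R] [IsNoetherianRing R] [IsLocalRing R]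

/-- the case of dimension `0` -/
lemma nonvanishing_zero (M : Type u) [AddCommGroup M] [Module R M] [Module.Finite R M]
    (hM : Module.supportDim R M = 0) :
    ¬ IsZero ((localCohomology (maximalIdeal R) 0).obj (ModuleCat.of R M)) := by
  intro hz
  have hnt : Nontrivial M := by
    rw [← Module.supportDim_ne_bot_iff_nontrivial R, hM]
    exact WithBot.coe_ne_bot
  have hs := support_of_supportDim_eq_zero (R := R) (N := M) hM
  rw [Module.support_eq_zeroLocus] at hs
  have h2 := (PrimeSpectrum.zeroLocus_subset_zeroLocus_iff _ _).1 hs.le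
  obtain ⟨k, hk⟩ := Ideal.exists_pow_le_of_le_radical_of_fg h2 (IsNoetherian.noetherian _)
  have htop : DRing.torsionSub (maximalIdeal R) M = ⊤ := by
    rw [eq_top_iff]
    intro x _
    exact ⟨k, fun c hc => Module.mem_annihilator.1 (hk hc) x⟩
  have e : (localCohomology (maximalIdeal R) 0).obj (ModuleCat.of R M) ≅
      ModuleCat.of R (DRing.torsionSub (maximalIdeal R) M) :=
    (lcZeroIso (maximalIdeal R)).app (ModuleCat.of R M)
  have h3 := ModuleCat.isZero_iff_subsingleton.1 (IsZero.of_iso hz e.symm)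
  have h4 : Subsingleton M := by
    refine ⟨fun x y => ?_⟩
    have hx : x ∈ DRing.torsionSub (maximalIdeal R) M := by rw [htop]; exact Submodule.mem_top
    have hy : y ∈ DRing.torsionSub (maximalIdeal R) M := by rw [htop]; exact Submodule.mem_top
    have := @Subsingleton.elim _ h3 (⟨x, hx⟩ : DRing.torsionSub (maximalIdeal R) M) ⟨y, hy⟩
    exact congrArg Subtype.val this
  exact not_subsingleton M h4

/-- variant for `dim ≤ 0` and nonzero modules -/
lemma nonvanishing_zero' (M : Type u) [AddCommGroup M] [Module R M] [Module.Finite R M]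
    [Nontrivial M] (hM : Module.supportDim R M ≤ 0) :
    ¬ IsZero ((localCohomology (maximalIdeal R) 0).obj (ModuleCat.of R M)) := by
  apply nonvanishing_zero
  apply le_antisymm hM
  have h0 := (Module.supportDim_ne_bot_iff_nontrivial R M).2 inferInstance
  obtain ⟨x, hx⟩ := WithBot.ne_bot_iff_exists.1 h0
  rw [← hx]
  exact WithBot.coe_le_coe.2 (zero_le)

lemma ringKrullDim_quotient_maximalIdeal : ringKrullDim (R ⧸ maximalIdeal R) = 0 :=
  ringKrullDim_eq_zero_of_field (ResidueField R)

omit [IsNoetherianRing R] in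
/-- a prime of the support of a module killed by a power of `𝔪` is `𝔪` -/
lemma eq_maximalIdeal_of_mem_support {M : Type*} [AddCommGroup M] [Module R M] (k : ℕ)
    (hk : ∀ a ∈ maximalIdeal R ^ k, ∀ x : M, a • x = 0) (q : PrimeSpectrum R)
    (hq : q ∈ Module.support R M) : q.asIdeal = maximalIdeal R := by
  apply le_antisymm (le_maximalIdeal q.2.ne_top)
  intro a ha
  have : a ^ k ∈ q.asIdeal :=
    LocCohTop.mem_of_mem_support q hq (a ^ k) (fun c => hk _ (Ideal.pow_mem_pow ha k) c)
  exact q.2.mem_of_pow_mem k this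

/-- the case of dimension `1` -/
lemma nonvanishing_one (M : Type u) [AddCommGroup M] [Module R M] [Module.Finite R M]
    (hM : Module.supportDim R M = 1) :
    ¬ IsZero ((localCohomology (maximalIdeal R) 1).obj (ModuleCat.of R M)) := by
  intro hz
  let Γ := DRing.torsionSub (maximalIdeal R) M
  have hz' : IsZero ((localCohomology (maximalIdeal R) 1).obj (ModuleCat.of R (M ⧸ Γ))) := by
    exact @IsZero.of_epi _ _ _ _ _ ((localCohomology (maximalIdeal R) (0 + 1)).map
      (LocCohFinite.gammaSC (maximalIdeal R) M).g)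
      (LocCohFinite.epi_lc_gamma (maximalIdeal R) M 0) hz
  have hnt : Nontrivial (M ⧸ Γ) := by
    by_contra hsub
    rw [not_nontrivial_iff_subsingleton] at hsub
    have htop : ∀ x : M, x ∈ Γ := fun x =>
      (Submodule.Quotient.mk_eq_zero Γ).1 (Subsingleton.elim _ _)
    obtain ⟨k, hk⟩ := LocCohFinite.exists_pow_smul_eq_zero (maximalIdeal R) (N := M)
      (fun x => htop x)
    obtain ⟨q, hq, hqd⟩ := exists_mem_support_dim_eq 1 hM
    rw [eq_maximalIdeal_of_mem_support k hk q hq, ringKrullDim_quotient_maximalIdeal] at hqd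
    exact zero_ne_one hqd
  obtain ⟨x, hxm, hreg⟩ := exists_regular (M ⧸ Γ)
    (torsionSub_quotient_eq_bot (maximalIdeal R) M)
  haveI : Nontrivial (QuotSMulTop x (M ⧸ Γ)) :=
    nontrivial_quotSMulTop_of_mem_maximalIdeal (M ⧸ Γ) hxm
  have hdim : Module.supportDim R (QuotSMulTop x (M ⧸ Γ)) ≤ 0 := by
    have h1 : Module.supportDim R (M ⧸ Γ) ≤ 1 :=
      (Module.supportDim_le_of_surjective _ (Submodule.mkQ_surjective _)).trans hM.le
    have h2 := (Module.supportDim_quotSMulTop_succ_le_of_notMem_minimalPrimes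
      (M := M ⧸ Γ) (x := x) (fun _ => hreg.notMem_of_mem_minimalPrimes)).trans h1
    generalize Module.supportDim R (QuotSMulTop x (M ⧸ Γ)) = y at h2
    induction y using WithBot.recBotCoe with
    | bot => exact bot_le
    | coe y =>
      induction y using ENat.recTopCoe with
      | top =>
        exfalso
        have : ((⊤ : ℕ∞) : WithBot ℕ∞) + 1 = ((⊤ : ℕ∞) : WithBot ℕ∞) := rfl
        rw [this] at h2
        have h3 : ((⊤ : ℕ∞) : WithBot ℕ∞) ≤ ((1 : ℕ∞) : WithBot ℕ∞) := h2
        exact absurd (WithBot.coe_le_coe.1 h3) (by simp)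
      | coe y =>
        have h3 : ((y + 1 : ℕ) : WithBot ℕ∞) ≤ ((1 : ℕ) : WithBot ℕ∞) := by
          exact_mod_cast h2
        have h4 : y + 1 ≤ 1 := by exact_mod_cast h3
        exact_mod_cast (by omega : y ≤ 0)
  have hnv := nonvanishing_zero' (QuotSMulTop x (M ⧸ Γ)) hdim
  apply hnv
  let S := ModuleCat.smulShortComplex (ModuleCat.of R (M ⧸ Γ)) x
  have hS : S.ShortExact :=
    IsSMulRegular.smulShortComplex_shortExact (M := ModuleCat.of R (M ⧸ Γ)) hreg
  have h0 : IsZero ((localCohomology (maximalIdeal R) 0).obj (ModuleCat.of R (M ⧸ Γ))) :=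
    LocCohFinite.isZero_lc_zero_of_torsionSub_eq_bot (maximalIdeal R) (M ⧸ Γ)
      (torsionSub_quotient_eq_bot (maximalIdeal R) M)
  exact ((lcDelta (maximalIdeal R)).exact₃ S hS 0).isZero_of_both_isZero h0 hz'

omit [IsNoetherianRing R] [IsLocalRing R] in
lemma isSMulRegular_quotient_prime (P : Ideal R) [P.IsPrime] (x : R) (hx : x ∉ P) :
    IsSMulRegular (R ⧸ P) x := by
  intro a b hab
  have h1 : x • a = x • b := hab
  rw [Algebra.smul_def, Algebra.smul_def] at h1
  refine mul_left_cancel₀ ?_ h1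
  rw [Ideal.Quotient.algebraMap_eq, Ne, Ideal.Quotient.eq_zero_iff_mem]
  exact hx

omit [IsNoetherianRing R] [IsLocalRing R] in
lemma withBot_add_one_cancel (y : WithBot ℕ∞) (n : ℕ) (h : y + 1 = ((n + 1 : ℕ) : WithBot ℕ∞)) :
    y = (n : WithBot ℕ∞) := by
  induction y using WithBot.recBotCoe with
  | bot =>
    exfalso
    rw [WithBot.bot_add] at h
    exact WithBot.bot_ne_coe h
  | coe y =>
    induction y using ENat.recTopCoe with
    | top =>
      exfalso
      have h1 : ((⊤ : ℕ∞) : WithBot ℕ∞) + 1 = ((⊤ : ℕ∞) : WithBot ℕ∞) := rfl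
      rw [h1] at h
      have h3 : ((⊤ : ℕ∞) : WithBot ℕ∞) = (((n + 1 : ℕ) : ℕ∞) : WithBot ℕ∞) := h
      exact absurd (WithBot.coe_injective h3) (ENat.top_ne_coe _)
    | coe y =>
      have h3 : ((y + 1 : ℕ) : WithBot ℕ∞) = ((n + 1 : ℕ) : WithBot ℕ∞) := by
        exact_mod_cast h
      have h4 : y + 1 = n + 1 := by exact_mod_cast h3
      have h5 : y = n := by omega
      rw [h5]
      rfl

/-- above a prime `P₀` with `dim R/P₀ = e + 2` there are infinitely many primes `q` with
`dim R/q = e + 1` -/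
lemma infinite_primes (P₀ : PrimeSpectrum R) (e : ℕ)
    (hP₀ : ringKrullDim (R ⧸ P₀.asIdeal) = ((e + 2 : ℕ) : WithBot ℕ∞)) :
    {q : PrimeSpectrum R | P₀ ≤ q ∧
      ringKrullDim (R ⧸ q.asIdeal) = ((e + 1 : ℕ) : WithBot ℕ∞)}.Infinite := by
  classical
  intro hfin
  have key : ∀ x ∈ maximalIdeal R, x ∉ P₀.asIdeal →
      ∃ q ∈ {q : PrimeSpectrum R | P₀ ≤ q ∧
        ringKrullDim (R ⧸ q.asIdeal) = ((e + 1 : ℕ) : WithBot ℕ∞)}, x ∈ q.asIdeal := by
    intro x hxm hxP
    haveI : P₀.asIdeal.IsPrime := P₀.2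
    have hreg : IsSMulRegular (R ⧸ P₀.asIdeal) x := isSMulRegular_quotient_prime _ x hxP
    have h1 := Module.supportDim_quotSMulTop_succ_eq_supportDim hreg hxm
    rw [Module.supportDim_quotient_eq_ringKrullDim, hP₀] at h1
    have h2 := withBot_add_one_cancel _ (e + 1) h1
    obtain ⟨q, hq, hqd⟩ := exists_mem_support_dim_eq (e + 1) h2
    rw [Module.support_quotSMulTop] at hq
    refine ⟨q, ⟨?_, hqd⟩, ?_⟩
    · have := hq.1
      rw [Module.support_eq_zeroLocus, Ideal.annihilator_quotient,
        PrimeSpectrum.mem_zeroLocus] at this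
      exact this
    · have := hq.2
      rw [PrimeSpectrum.mem_zeroLocus, Set.singleton_subset_iff] at this
      exact this
  have hsub : (maximalIdeal R : Set R) ⊆
      ⋃ i ∈ (↑(insert P₀ hfin.toFinset) : Set (PrimeSpectrum R)), (i.asIdeal : Set R) := by
    intro x hx
    rw [Set.mem_iUnion₂]
    by_cases hxP : x ∈ P₀.asIdeal
    · exact ⟨P₀, Finset.mem_coe.2 (Finset.mem_insert_self _ _), hxP⟩
    · obtain ⟨q, hq, hxq⟩ := key x hx hxP
      exact ⟨q, Finset.mem_coe.2 (Finset.mem_insert_of_mem (hfin.mem_toFinset.2 hq)), hxq⟩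
  obtain ⟨i, hi, hmi⟩ := (Ideal.subset_union_prime (f := fun i : PrimeSpectrum R => i.asIdeal)
    P₀ P₀ (fun i _ _ _ => i.2)).1 hsub
  have him : i.asIdeal = maximalIdeal R := le_antisymm (le_maximalIdeal i.2.ne_top) hmi
  rcases Finset.mem_insert.1 hi with rfl | hi
  · rw [him, ringKrullDim_quotient_maximalIdeal] at hP₀
    have : (0 : ℕ) = e + 2 := by exact_mod_cast hP₀
    omega
  · have := (hfin.mem_toFinset.1 hi).2
    rw [him, ringKrullDim_quotient_maximalIdeal] at this
    have : (0 : ℕ) = e + 1 := by exact_mod_cast this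
    omega

omit [IsNoetherianRing R] [IsLocalRing R] in
lemma withBot_lt_of_add_one_le (y : WithBot ℕ∞) (n : ℕ) (h : y + 1 ≤ (n : WithBot ℕ∞)) :
    y < (n : WithBot ℕ∞) := by
  induction y using WithBot.recBotCoe with
  | bot => exact WithBot.bot_lt_coe _
  | coe y =>
    induction y using ENat.recTopCoe with
    | top =>
      exfalso
      have h1 : ((⊤ : ℕ∞) : WithBot ℕ∞) + 1 = ((⊤ : ℕ∞) : WithBot ℕ∞) := rfl
      rw [h1] at h
      have h3 : ((⊤ : ℕ∞) : WithBot ℕ∞) ≤ (((n : ℕ) : ℕ∞) : WithBot ℕ∞) := h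
      exact absurd (WithBot.coe_le_coe.1 h3) (by simp)
    | coe y =>
      have h3 : ((y + 1 : ℕ) : WithBot ℕ∞) ≤ ((n : ℕ) : WithBot ℕ∞) := by
        exact_mod_cast h
      have h4 : y + 1 ≤ n := by exact_mod_cast h3
      exact_mod_cast (by omega : y < n)

omit [IsLocalRing R] in
/-- `y •` is surjective on the top local cohomology of `R/Q` for `y ∉ Q` -/
lemma smul_surjective_quotient_prime (Q : PrimeSpectrum R) (e : ℕ)
    (hQ : ringKrullDim (R ⧸ Q.asIdeal) = e) (y : R) (hy : y ∉ Q.asIdeal) (I : Ideal R) :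
    Function.Surjective
      (fun c : (localCohomology I e).obj (ModuleCat.of R (R ⧸ Q.asIdeal)) => y • c) := by
  haveI : Q.asIdeal.IsPrime := Q.2
  have hreg : IsSMulRegular (R ⧸ Q.asIdeal) y := isSMulRegular_quotient_prime _ y hy
  let S := ModuleCat.smulShortComplex (ModuleCat.of R (R ⧸ Q.asIdeal)) y
  have hS : S.ShortExact :=
    IsSMulRegular.smulShortComplex_shortExact (M := ModuleCat.of R (R ⧸ Q.asIdeal)) hreg
  have hdim : Module.supportDim R (QuotSMulTop y (R ⧸ Q.asIdeal)) < (e : WithBot ℕ∞) := by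
    apply withBot_lt_of_add_one_le
    have := Module.supportDim_quotSMulTop_succ_le_of_notMem_minimalPrimes
      (M := R ⧸ Q.asIdeal) (x := y) (fun _ => hreg.notMem_of_mem_minimalPrimes)
    rw [Module.supportDim_quotient_eq_ringKrullDim, hQ] at this
    exact this
  have hz : IsZero ((localCohomology I e).obj S.X₃) :=
    LocCohVanish.isZero_lc_of_supportDim_lt I (QuotSMulTop y (R ⧸ Q.asIdeal)) e hdim
  have hepi : Epi ((localCohomology I e).map S.f) :=
    (LocCohVanish.lc_exact₂ I S hS e).epi_f (hz.eq_of_tgt _ _)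
  have hfm : (localCohomology I e).map S.f =
      y • 𝟙 ((localCohomology I e).obj (ModuleCat.of R (R ⧸ Q.asIdeal))) := by
    show (localCohomology I e).map (y • 𝟙 (ModuleCat.of R (R ⧸ Q.asIdeal))) = _
    rw [lc_map_smul, CategoryTheory.Functor.map_id]
  rw [hfm] at hepi
  exact (ModuleCat.epi_iff_surjective _).1 hepi

/-- **Grothendieck's non-vanishing theorem** -/
theorem nonvanishing (d : ℕ) : ∀ (M : Type u) [AddCommGroup M] [Module R M] [Module.Finite R M],
    Module.supportDim R M = d →
    ¬ IsZero ((localCohomology (maximalIdeal R) d).obj (ModuleCat.of R M)) := by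
  induction d with
  | zero =>
    intro M _ _ _ h
    exact nonvanishing_zero M (by exact_mod_cast h)
  | succ d ih =>
    rcases d with _ | e
    · intro M _ _ _ h
      exact nonvanishing_one M (by exact_mod_cast h)
    · intro M _ _ _ hM hz
      let 𝔞 := Module.annihilator R M
      have hsuppX : Module.support R (R ⧸ 𝔞) = Module.support R M := by
        rw [Module.support_eq_zeroLocus, Ideal.annihilator_quotient, Module.support_eq_zeroLocus]
      have hTV := isZero_top_of_support_le (maximalIdeal R) (e + 1 + 1) M hM.le hz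
      obtain ⟨P₀, hP₀M, hP₀d⟩ := exists_mem_support_dim_eq (e + 1 + 1) hM
      have hinf := infinite_primes P₀ e hP₀d
      let q : ℕ → PrimeSpectrum R := fun n => (hinf.natEmbedding _ n).1
      have hq_inj : Function.Injective q := fun a b hab =>
        (hinf.natEmbedding _).injective (Subtype.ext hab)
      have hq : ∀ n, P₀ ≤ q n ∧
          ringKrullDim (R ⧸ (q n).asIdeal) = ((e + 1 : ℕ) : WithBot ℕ∞) :=
        fun n => (hinf.natEmbedding _ n).2
      let A := (localCohomology (maximalIdeal R) (e + 1)).obj (ModuleCat.of R (R ⧸ 𝔞))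
      haveI : IsArtinian R A := isArtinian_lc (e + 1) (R ⧸ 𝔞)
      let P : ℕ → Ideal R := fun n => ∏ j ∈ Finset.range n, (q j).asIdeal
      have hPsucc : ∀ n, P (n + 1) = P n * (q n).asIdeal := fun n => Finset.prod_range_succ _ n
      let B : ℕ →o (Submodule R A)ᵒᵈ :=
        ⟨fun n => OrderDual.toDual (P n • (⊤ : Submodule R A)), by
          apply monotone_nat_of_le_succ
          intro n
          have hle : P (n + 1) ≤ P n := by
            rw [hPsucc]
            exact Ideal.mul_le_left (I := P n) (J := (q n).asIdeal)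
          exact OrderDual.toDual_le_toDual.2 (Submodule.smul_mono_left hle)⟩
      obtain ⟨n, hn⟩ := IsArtinian.monotone_stabilizes B
      have hB : P n • (⊤ : Submodule R A) = (q n).asIdeal • (P n • (⊤ : Submodule R A)) := by
        have h1 : P n • (⊤ : Submodule R A) = P (n + 1) • (⊤ : Submodule R A) :=
          hn (n + 1) (Nat.le_succ n)
        rw [hPsucc, mul_comm, Submodule.mul_smul] at h1
        exact h1
      let Q := q n
      have hQM : Q ∈ Module.support R M := Module.mem_support_mono (hq n).1 hP₀M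
      have h𝔞Q : 𝔞 ≤ Q.asIdeal := by
        rw [Module.support_eq_zeroLocus, PrimeSpectrum.mem_zeroLocus] at hQM
        exact hQM
      let π₀ : (R ⧸ 𝔞) →ₗ[R] (R ⧸ Q.asIdeal) := Submodule.mapQ 𝔞 Q.asIdeal LinearMap.id h𝔞Q
      have hπ₀ : Function.Surjective π₀ := by
        intro z
        obtain ⟨r, rfl⟩ := Submodule.Quotient.mk_surjective _ z
        exact ⟨Submodule.Quotient.mk r, rfl⟩
      have hker : IsZero ((localCohomology (maximalIdeal R) (e + 1 + 1)).obj
          (ModuleCat.of R (LinearMap.ker π₀))) := by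
        apply hTV
        rw [← hsuppX]
        exact Module.support_subset_of_injective _ (Submodule.injective_subtype _)
      have hepi := epi_lc_of_surjective (maximalIdeal R) π₀ hπ₀ (e + 1) hker
      have hsurj := (ModuleCat.epi_iff_surjective _).1 hepi
      have hQC : ∀ r ∈ Q.asIdeal, ∀ c : (localCohomology (maximalIdeal R) (e + 1)).obj
          (ModuleCat.of R (R ⧸ Q.asIdeal)), r • c = 0 := by
        intro r hr c
        apply smul_lc_eq_zero (maximalIdeal R) (e + 1) (ModuleCat.of R (R ⧸ Q.asIdeal)) r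
        intro z
        obtain ⟨s, rfl⟩ := Submodule.Quotient.mk_surjective _ z
        show r • (Submodule.Quotient.mk s : R ⧸ Q.asIdeal) = 0
        rw [← Submodule.Quotient.mk_smul, Submodule.Quotient.mk_eq_zero, smul_eq_mul]
        exact Ideal.mul_mem_right s _ hr
      have hkill : ∀ y ∈ P n, ∀ c : (localCohomology (maximalIdeal R) (e + 1)).obj
          (ModuleCat.of R (R ⧸ Q.asIdeal)), y • c = 0 := by
        intro y hy c
        obtain ⟨a, rfl⟩ := hsurj c
        rw [← map_smul]
        have hya : y • a ∈ P n • (⊤ : Submodule R A) :=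
          Submodule.smul_mem_smul hy Submodule.mem_top
        rw [hB] at hya
        refine Submodule.smul_induction_on hya ?_ ?_
        · intro r hr b _
          rw [map_smul]
          exact hQC r hr _
        · intro x y hx hy
          rw [map_add, hx, hy, add_zero]
      obtain ⟨y, hyP, hyQ⟩ : ∃ y ∈ P n, y ∉ Q.asIdeal := by
        by_contra hcon
        push Not at hcon
        have hle : P n ≤ Q.asIdeal := hcon
        obtain ⟨j, hj, hjQ⟩ := (Ideal.IsPrime.prod_le Q.2).1 hle
        have h1 := eq_of_le_of_dim_eq (q j) Q hjQ (e + 1) (hq j).2 (hq n).2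
        have h2 := hq_inj h1
        rw [Finset.mem_range] at hj
        omega
      have hysurj := smul_surjective_quotient_prime Q (e + 1) (hq n).2 y hyQ (maximalIdeal R)
      have hC : IsZero ((localCohomology (maximalIdeal R) (e + 1)).obj
          (ModuleCat.of R (R ⧸ Q.asIdeal))) := by
        refine @ModuleCat.isZero_of_subsingleton _ _ _ ⟨fun c₁ c₂ => ?_⟩
        have h0 : ∀ c : (localCohomology (maximalIdeal R) (e + 1)).obj
            (ModuleCat.of R (R ⧸ Q.asIdeal)), c = 0 := by
          intro c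
          obtain ⟨c', rfl⟩ := hysurj c
          exact hkill y hyP c'
        rw [h0 c₁, h0 c₂]
      exact ih (R ⧸ Q.asIdeal)
        (by rw [Module.supportDim_quotient_eq_ringKrullDim]; exact (hq n).2) hC

/-- in positive degree `n ≥ dim M` some `x ∈ 𝔪` acts surjectively on `H^n_I(M)` -/
lemma exists_smul_surjective (I : Ideal R) (hI : I ≤ maximalIdeal R) (n : ℕ)
    (M : Type u) [AddCommGroup M] [Module R M]
    [Module.Finite R M] (hM : Module.supportDim R M ≤ ((n + 1 : ℕ) : WithBot ℕ∞)) :
    ∃ x ∈ maximalIdeal R, Function.Surjective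
      (fun c : (localCohomology I (n + 1)).obj (ModuleCat.of R M) => x • c) := by
  let Γ := DRing.torsionSub I M
  obtain ⟨x, hxI, hreg⟩ := exists_regular' I (M ⧸ Γ) (torsionSub_quotient_eq_bot I M)
  refine ⟨x, hI hxI, ?_⟩
  let S := ModuleCat.smulShortComplex (ModuleCat.of R (M ⧸ Γ)) x
  have hS : S.ShortExact :=
    IsSMulRegular.smulShortComplex_shortExact (M := ModuleCat.of R (M ⧸ Γ)) hreg
  have hdim : Module.supportDim R (QuotSMulTop x (M ⧸ Γ)) < ((n + 1 : ℕ) : WithBot ℕ∞) := by
    apply withBot_lt_of_add_one_le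
    have h1 : Module.supportDim R (M ⧸ Γ) ≤ ((n + 1 : ℕ) : WithBot ℕ∞) :=
      (Module.supportDim_le_of_surjective _ (Submodule.mkQ_surjective _)).trans hM
    exact (Module.supportDim_quotSMulTop_succ_le_of_notMem_minimalPrimes
      (M := M ⧸ Γ) (x := x) (fun _ => hreg.notMem_of_mem_minimalPrimes)).trans h1
  have hz : IsZero ((localCohomology I (n + 1)).obj S.X₃) :=
    LocCohVanish.isZero_lc_of_supportDim_lt I (QuotSMulTop x (M ⧸ Γ)) (n + 1) hdim
  have hepi : Epi ((localCohomology I (n + 1)).map S.f) :=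
    (LocCohVanish.lc_exact₂ I S hS (n + 1)).epi_f (hz.eq_of_tgt _ _)
  have hfm : (localCohomology I (n + 1)).map S.f =
      x • 𝟙 ((localCohomology I (n + 1)).obj (ModuleCat.of R (M ⧸ Γ))) := by
    show (localCohomology I (n + 1)).map (x • 𝟙 (ModuleCat.of R (M ⧸ Γ))) = _
    rw [lc_map_smul, CategoryTheory.Functor.map_id]
  rw [hfm] at hepi
  have hsurj' := (ModuleCat.epi_iff_surjective _).1 hepi
  -- transport along `H^{n+1}(M) ≅ H^{n+1}(M/Γ)`
  have hφinj := (ModuleCat.mono_iff_injective _).1 (LocCohFinite.mono_lc_gamma I M n)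
  have hφsurj := (ModuleCat.epi_iff_surjective _).1 (LocCohFinite.epi_lc_gamma I M n)
  intro c
  obtain ⟨c', hc'⟩ := hsurj' (((localCohomology I (n + 1)).map
    (LocCohFinite.gammaSC I M).g).hom c)
  obtain ⟨c'', rfl⟩ := hφsurj c'
  refine ⟨c'', hφinj ?_⟩
  have h2 : x • ((localCohomology I (n + 1)).map (LocCohFinite.gammaSC I M).g).hom c'' =
      ((localCohomology I (n + 1)).map (LocCohFinite.gammaSC I M).g).hom c := hc'
  rw [← h2]
  exact map_smul _ x c''

/-- top local cohomology in positive dimension is not finitely generated -/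
theorem not_finite_top (n : ℕ) (hn0 : 0 < n) (M : Type u) [AddCommGroup M] [Module R M]
    [Module.Finite R M] (hn : Module.supportDim R M = n) :
    ¬ Module.Finite R ((localCohomology (maximalIdeal R) n).obj (ModuleCat.of R M)) := by
  intro hfin
  obtain ⟨k, rfl⟩ : ∃ k, n = k + 1 := ⟨n - 1, by omega⟩
  have hnv := nonvanishing (k + 1) M hn
  rw [ModuleCat.isZero_iff_subsingleton, not_subsingleton_iff_nontrivial] at hnv
  obtain ⟨x, hx, hsurj⟩ := exists_smul_surjective (maximalIdeal R) le_rfl k M hn.le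
  have hne := Submodule.top_ne_pointwise_smul_of_mem_jacobson_annihilator
    (M := (localCohomology (maximalIdeal R) (k + 1)).obj (ModuleCat.of R M)) (r := x)
    (maximalIdeal_le_jacobson _ hx)
  apply hne
  rw [eq_comm, eq_top_iff]
  intro c _
  obtain ⟨c', rfl⟩ := hsurj c
  exact Submodule.smul_mem_pointwise_smul _ _ _ Submodule.mem_top

end Groth.Agent.Helper1.LocCohNonvanish
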