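import Mathlib
import Groth.Agent.Helper1.LDualH
import Groth.Agent.Helper1.LocCohNonvanish
import Groth.Agent.Helper6.Matlis5
import Groth.Agent.S5170

set_option autoImplicit false

/-!
# `Ext^i(M, A)` for a module of finite length over a Gorenstein local ring
-/

namespace Groth.Agent.Helper1.LDual
open CategoryTheory Limits Opposite IsLocalRing Groth.Agent.Helper1.LocCohDelta

universe u

variable {A : Type u} [CommRing A] [IsLocalRing A]

/-- a module of finite length is killed by a power of the maximal ideal -/
lemma exists_pow_kill (M : Type u) [AddCommGroup M] [Module A M] (hM : IsFiniteLength A M) :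
    ∃ k : ℕ, ∀ a ∈ maximalIdeal A ^ k, ∀ x : M, a • x = 0 := by
  induction hM with
  | @of_subsingleton M _ _ _ =>
    exact ⟨0, fun a _ x => Subsingleton.elim _ _⟩
  | @of_simple_quotient M _ _ N hS hN ih =>
    obtain ⟨k, hk⟩ := ih
    obtain ⟨e⟩ := Groth.Agent.Helper2.MatlisLen.nonempty_equiv_residueField (A := A) (M ⧸ N)
    have hm : ∀ c ∈ maximalIdeal A, ∀ x : M, c • x ∈ N := by
      intro c hc x
      rw [← Submodule.Quotient.mk_eq_zero, Submodule.Quotient.mk_smul]
      apply e.injective
      rw [map_smul, map_zero]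
      show (algebraMap A (ResidueField A) c) * _ = 0
      rw [show algebraMap A (ResidueField A) c = 0 from
        (IsLocalRing.residue_eq_zero_iff c).2 hc, zero_mul]
    refine ⟨k + 1, fun a ha x => ?_⟩
    rw [pow_succ] at ha
    refine Submodule.mul_induction_on ha (fun b hb c hc => ?_) (fun u v hu hv => ?_)
    · rw [mul_smul]
      have := hk b hb ⟨c • x, hm c hc x⟩
      exact congrArg Subtype.val this
    · rw [add_smul, hu, hv, add_zero]

variable [IsNoetherianRing A]

/-- a finitely generated module killed by a power of the maximal ideal has finite length -/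
lemma isFiniteLength_of_pow_kill (G : Type u) [AddCommGroup G] [Module A G] [Module.Finite A G]
    (k : ℕ) (hk : ∀ a ∈ maximalIdeal A ^ k, ∀ x : G, a • x = 0) : IsFiniteLength A G := by
  apply SupportDim.isFiniteLength_of_supportDim_le_zero
  have : Subsingleton (Module.support A G) := by
    refine ⟨fun p q => Subtype.ext (PrimeSpectrum.ext ?_)⟩
    rw [LocCohNonvanish.eq_maximalIdeal_of_mem_support k hk p.1 p.2,
      LocCohNonvanish.eq_maximalIdeal_of_mem_support k hk q.1 q.2]
  exact Order.krullDim_nonpos_of_subsingleton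

/-- `Ext^i(M, Y)` is killed by the annihilators of `M` -/
lemma smul_ext_eq_zero {M Y : ModuleCat.{u} A} (a : A) (ha : ∀ x : M, a • x = 0) (i : ℕ)
    (x : Abelian.Ext M Y i) : a • x = 0 := by
  have h1 : a • 𝟙 M = 0 := by
    ext m
    exact ha m
  have h2 : (Abelian.Ext.mk₀ (a • 𝟙 M)).comp x (zero_add i) = a • x := by
    rw [Abelian.Ext.mk₀_smul, Abelian.Ext.smul_comp, Abelian.Ext.mk₀_id_comp]
  rw [← h2, h1, Abelian.Ext.mk₀_zero, Abelian.Ext.zero_comp]

/-- a module with vanishing Matlis dual vanishes -/
lemma subsingleton_of_dual (E : Type u) [AddCommGroup E] [Module A E]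
    (f : ResidueField A →ₗ[A] E) (hf : InjHull.IsInjectiveHull f)
    (G : Type u) [AddCommGroup G] [Module A G] (h : Subsingleton (G →ₗ[A] E)) :
    Subsingleton G := by
  have h1 := Groth.Agent.Helper6.Matlis.annihilator_dual f hf G
  have h2 : (1 : A) ∈ Module.annihilator A (G →ₗ[A] E) := by
    rw [Module.mem_annihilator]
    intro φ
    exact Subsingleton.elim _ _
  rw [← h1, Module.mem_annihilator] at h2
  refine ⟨fun x y => ?_⟩
  rw [← one_smul A x, ← one_smul A y, h2 x, h2 y]

/-- **Ext of finite length modules over a Gorenstein local ring** -/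
theorem ext_finiteLength [LocCoh.IsGorensteinLocalRing A] (n : ℕ) (hn : ringKrullDim A = n)
    (M : Type u) [AddCommGroup M] [Module A M] (hM : IsFiniteLength A M) :
    (∀ i : ℕ, i ≠ n → Subsingleton (((Ext A (ModuleCat.{u} A) i).obj
      (op (ModuleCat.of A M))).obj (ModuleCat.of A A))) ∧
    Module.length A (((Ext A (ModuleCat.{u} A) n).obj (op (ModuleCat.of A M))).obj
      (ModuleCat.of A A)) = Module.length A M := by
  -- an injective hull of the residue field
  obtain ⟨g, hg⟩ := GorTop.exists_isInjectiveHull (R := A) n hn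
  set E := LocCoh.H (maximalIdeal A) n A
  have hfin : Module.Finite A M := by
    have := (isFiniteLength_iff_isNoetherian_isArtinian.1 hM).1
    infer_instance
  obtain ⟨k, hk⟩ := exists_pow_kill M hM
  have htors : IsTors (maximalIdeal A) (ModuleCat.of A M) := fun x => ⟨k, fun a ha => hk a ha x⟩
  constructor
  · intro i hi
    rcases lt_or_gt_of_ne hi with h | h
    · obtain ⟨e⟩ := nonempty_equiv_oldExt_gorenstein n hn E g hg M i (n - i) (by omega)
      obtain ⟨j, hj⟩ : ∃ j, n - i = j + 1 := ⟨n - i - 1, by omega⟩
      rw [hj] at e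
      have hz : IsZero ((localCohomology (maximalIdeal A) (j + 1)).obj (ModuleCat.of A M)) :=
        isZero_lc_of_isTors (maximalIdeal A) j _ htors
      have hs : Subsingleton (LocCoh.H (maximalIdeal A) (j + 1) M) :=
        ModuleCat.isZero_iff_subsingleton.1 hz
      have hs' := e.symm.toEquiv.subsingleton
      exact subsingleton_of_dual E g hg _ hs'
    · obtain ⟨e⟩ := ExtBridgeLin.nonempty_linearEquiv (ModuleCat.of A M) (ModuleCat.of A A) i
      have := (Groth.Agent.Helper6.Bass.gorenstein_top n hn).2 M i (by omega)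
      exact e.toEquiv.subsingleton
  · obtain ⟨e⟩ := nonempty_equiv_oldExt_gorenstein n hn E g hg M n 0 (by omega)
    obtain ⟨eb⟩ := ExtBridgeLin.nonempty_linearEquiv (ModuleCat.of A M) (ModuleCat.of A A) n
    set G := ((Ext A (ModuleCat.{u} A) n).obj (op (ModuleCat.of A M))).obj (ModuleCat.of A A)
    have hGfin : Module.Finite A G := Module.Finite.equiv eb.symm
    have hGk : ∀ a ∈ maximalIdeal A ^ k, ∀ x : G, a • x = 0 := by
      intro a ha x
      apply eb.injective
      rw [map_smul, map_zero]
      exact smul_ext_eq_zero a (hk a ha) n _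
    have hGfl : IsFiniteLength A G := isFiniteLength_of_pow_kill G k hGk
    have h1 := Groth.Agent.S5170.result A E g hg G hGfl
    have e0 := lcZeroEquivOfIsTors (maximalIdeal A) (ModuleCat.of A M) htors
    rw [← h1, ← e.length_eq]
    exact e0.length_eq

end Groth.Agent.Helper1.LDual
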