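import Mathlib
import Groth.Agent.Helper1.LDualJ
import Groth.Agent.Helper1.LocCohNonvanish
import Groth.Agent.Helper1.LocCohTopMod

set_option autoImplicit false

/-!
# Canonical modules of a Noetherian local ring: associated primes
-/

namespace Groth.Agent.Helper1.Canon
open CategoryTheory Limits Opposite IsLocalRing

universe u

variable {R : Type u} [CommRing R] [IsNoetherianRing R] [IsLocalRing R]

/-- `Hom(M, K) ≠ 0` iff `dim M = n` for a canonical module `K` -/
lemma nontrivial_hom_iff (n : ℕ) (hn : ringKrullDim R = n)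
    (E : Type u) [AddCommGroup E] [Module R E] (f : ResidueField R →ₗ[R] E)
    (hf : InjHull.IsInjectiveHull f)
    (K : Type u) [AddCommGroup K] [Module R K] [Module.Finite R K]
    (eK : (K →ₗ[R] E) ≃ₗ[R] LocCoh.H (maximalIdeal R) n R)
    (M : Type u) [AddCommGroup M] [Module R M] [Module.Finite R M] :
    Nontrivial (M →ₗ[R] K) ↔ Module.supportDim R M = n := by
  haveI := hf.isInjective
  obtain ⟨e⟩ := LDual.nonempty_top_equiv (maximalIdeal R) n hn K E eK M
  constructor
  · intro hnt
    have h1 : ¬ Subsingleton ((M →ₗ[R] K) →ₗ[R] E) := fun h =>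
      not_subsingleton _ (LDual.subsingleton_of_dual E f hf _ h)
    have h2 : ¬ IsZero ((localCohomology (maximalIdeal R) n).obj (ModuleCat.of R M)) := by
      intro hz
      exact h1 (e.toEquiv.subsingleton_congr.1 (ModuleCat.isZero_iff_subsingleton.1 hz))
    refine le_antisymm ?_ ?_
    · rw [← hn]
      exact Module.supportDim_le_ringKrullDim R M
    · by_contra hlt
      exact h2 (LocCohVanish.isZero_lc_of_supportDim_lt (maximalIdeal R) M n (not_le.1 hlt))
  · intro hdim
    have h2 := LocCohNonvanish.nonvanishing n M hdim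
    by_contra hnt
    rw [not_nontrivial_iff_subsingleton] at hnt
    apply h2
    rw [ModuleCat.isZero_iff_subsingleton]
    haveI : Subsingleton ((M →ₗ[R] K) →ₗ[R] E) :=
      ⟨fun a b => LinearMap.ext fun x => by rw [Subsingleton.elim x 0, map_zero, map_zero]⟩
    exact e.toEquiv.subsingleton_congr.2 inferInstance

omit [IsNoetherianRing R] [IsLocalRing R] in
lemma nontrivial_hom_quot_iff (K : Type u) [AddCommGroup K] [Module R K] (p : Ideal R) :
    Nontrivial (R ⧸ p →ₗ[R] K) ↔ ∃ x : K, x ≠ 0 ∧ ∀ r ∈ p, r • x = 0 := by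
  constructor
  · intro hnt
    obtain ⟨φ, hφ⟩ := exists_ne (0 : R ⧸ p →ₗ[R] K)
    refine ⟨φ (Ideal.Quotient.mk p 1), fun h0 => hφ ?_, fun r hr => ?_⟩
    · apply LinearMap.ext
      intro y
      obtain ⟨r, rfl⟩ := Ideal.Quotient.mk_surjective y
      have : Ideal.Quotient.mk p r = r • Ideal.Quotient.mk p 1 := by
        show Submodule.Quotient.mk r = r • Submodule.Quotient.mk (1 : R)
        rw [← Submodule.Quotient.mk_smul, smul_eq_mul, mul_one]
      rw [this, map_smul, h0, smul_zero, LinearMap.zero_apply]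
    · rw [← map_smul]
      have : r • Ideal.Quotient.mk p 1 = 0 := by
        show r • Submodule.Quotient.mk (1 : R) = (0 : R ⧸ p)
        rw [← Submodule.Quotient.mk_smul, smul_eq_mul, mul_one]
        exact Ideal.Quotient.eq_zero_iff_mem.2 hr
      rw [this, map_zero]
  · rintro ⟨x, hx0, hx⟩
    let φ : R ⧸ p →ₗ[R] K := Submodule.liftQ p (LinearMap.toSpanSingleton R K x) (by
      intro r hr
      rw [LinearMap.mem_ker, LinearMap.toSpanSingleton_apply]
      exact hx r hr)
    refine ⟨⟨φ, 0, fun h => hx0 ?_⟩⟩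
    have h1 : φ (Submodule.Quotient.mk 1) = x := by
      show (Submodule.liftQ p (LinearMap.toSpanSingleton R K x) _) (Submodule.Quotient.mk 1) = x
      rw [Submodule.liftQ_apply, LinearMap.toSpanSingleton_apply, one_smul]
    rw [← h1, h, LinearMap.zero_apply]

/-- the associated primes of a canonical module -/
theorem associatedPrimes_eq (n : ℕ) (hn : ringKrullDim R = n)
    (E : Type u) [AddCommGroup E] [Module R E] (f : ResidueField R →ₗ[R] E)
    (hf : InjHull.IsInjectiveHull f)
    (K : Type u) [AddCommGroup K] [Module R K] [Module.Finite R K]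
    (eK : (K →ₗ[R] E) ≃ₗ[R] LocCoh.H (maximalIdeal R) n R) :
    associatedPrimes R K = {p : Ideal R | p.IsPrime ∧ ringKrullDim (R ⧸ p) = n} := by
  have key : ∀ p : Ideal R, p.IsPrime →
      ((∃ x : K, x ≠ 0 ∧ ∀ r ∈ p, r • x = 0) ↔ ringKrullDim (R ⧸ p) = n) := by
    intro p hp
    rw [← nontrivial_hom_quot_iff, nontrivial_hom_iff n hn E f hf K eK (R ⧸ p),
      Module.supportDim_quotient_eq_ringKrullDim]
  have hsub : ∀ p ∈ associatedPrimes R K, p.IsPrime ∧ ringKrullDim (R ⧸ p) = n := by
    intro p hp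
    have hpp : p.IsPrime := hp.isPrime
    refine ⟨hpp, (key p hpp).1 ?_⟩
    obtain ⟨-, g, hg⟩ := (isAssociatedPrime_iff_exists_injective_linearMap p K).1 hp
    rw [← nontrivial_hom_quot_iff]
    haveI : Nontrivial (R ⧸ p) := Ideal.Quotient.nontrivial_iff.2 hpp.ne_top
    refine ⟨⟨g, 0, fun h => ?_⟩⟩
    obtain ⟨a, b, hab⟩ := exists_pair_ne (R ⧸ p)
    apply hab
    apply hg
    rw [h, LinearMap.zero_apply, LinearMap.zero_apply]
  ext p
  constructor
  · exact hsub p
  · rintro ⟨hpp, hdim⟩
    obtain ⟨x, hx0, hx⟩ := (key p hpp).2 hdim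
    obtain ⟨q, hq, hle⟩ := exists_le_isAssociatedPrime_of_isNoetherianRing R x hx0
    have hq2 := hsub q hq
    have hpq : p ≤ q := fun r hr => hle (by
      rw [Submodule.mem_colon_singleton, Submodule.mem_bot]
      exact hx r hr)
    have := LocCohTopMod.eq_of_le_of_dim_eq ⟨p, hpp⟩ ⟨q, hq2.1⟩ hpq n hdim hq2.2
    have h3 : p = q := congrArg PrimeSpectrum.asIdeal this
    rw [h3]
    exact hq

end Groth.Agent.Helper1.Canon
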