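import Mathlib
import Groth.Agent.Helper1.LDualJ
import Groth.Agent.Helper2.MatlisLen
import Groth.Agent.S5155

set_option autoImplicit false

/-!
# A finite module whose Matlis dual is `E` is free of rank one
-/

namespace Groth.Agent.Helper1.Canon
open CategoryTheory Limits Opposite IsLocalRing TensorProduct

universe u

variable {R : Type u} [CommRing R] [IsNoetherianRing R] [IsLocalRing R]

open Pointwise in
/-- a finite module whose Matlis dual is isomorphic to `E` is isomorphic to `R` -/
theorem nonempty_equiv_self_of_dual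
    (E : Type u) [AddCommGroup E] [Module R E] (f : ResidueField R →ₗ[R] E)
    (hf : InjHull.IsInjectiveHull f)
    (K : Type u) [AddCommGroup K] [Module R K] [Module.Finite R K]
    (e : (K →ₗ[R] E) ≃ₗ[R] E) : Nonempty (K ≃ₗ[R] R) := by
  haveI := hf.isInjective
  obtain ⟨hinj, -, hsimple⟩ := (Groth.Agent.S5155.result R E).1 ⟨f, hf⟩
  -- the annihilator of `K` is trivial
  have hann : Module.annihilator R K = ⊥ := by
    rw [Groth.Agent.Helper6.Matlis.annihilator_dual f hf K, e.annihilator_eq,
      ← (LinearMap.ringLmapEquivSelf R R E).annihilator_eq,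
      ← Groth.Agent.Helper6.Matlis.annihilator_dual f hf R]
    exact Module.annihilator_eq_bot.2 inferInstance
  -- `K / 𝔪 K` is simple
  let Q := K ⧸ (maximalIdeal R • (⊤ : Submodule R K))
  have e1 : (Q →ₗ[R] E) ≃ₗ[R] (ResidueField R →ₗ[R] E) :=
    (LinearEquiv.congrLeft E R (quotTensorEquivQuotSMul K (maximalIdeal R)).symm).trans
      ((TensorProduct.lift.equiv (.id R) (R ⧸ maximalIdeal R) K E).symm.trans
        (LinearEquiv.congrRight e))
  have hQfl : IsFiniteLength R Q := by
    apply LDual.isFiniteLength_of_pow_kill Q 1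
    intro a ha x
    rw [pow_one] at ha
    obtain ⟨x, rfl⟩ := Submodule.Quotient.mk_surjective _ x
    rw [← Submodule.Quotient.mk_smul, Submodule.Quotient.mk_eq_zero]
    exact Submodule.smul_mem_smul ha Submodule.mem_top
  have hlen : Module.length R Q = 1 := by
    rw [← Groth.Agent.Helper2.MatlisLen.key hsimple hinj Q hQfl, e1.length_eq,
      Module.length_eq_one_iff]
    exact hsimple
  have hQs : IsSimpleModule R Q := Module.length_eq_one_iff.1 hlen
  have hco : IsCoatom (maximalIdeal R • (⊤ : Submodule R K)) := isSimpleModule_iff_isCoatom.1 hQs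
  -- pick a generator
  obtain ⟨x, -, hx⟩ := SetLike.exists_of_lt (lt_top_iff_ne_top.2 hco.1)
  have hsup : Submodule.span R {x} ⊔ maximalIdeal R • (⊤ : Submodule R K) = ⊤ := by
    by_contra hne
    have h1 := hco.2 (Submodule.span R {x} ⊔ maximalIdeal R • (⊤ : Submodule R K))
    have h2 : maximalIdeal R • (⊤ : Submodule R K) <
        Submodule.span R {x} ⊔ maximalIdeal R • (⊤ : Submodule R K) := by
      refine lt_of_le_of_ne le_sup_right (fun h => hx ?_)
      rw [h]
      exact le_sup_left (α := Submodule R K) (Submodule.mem_span_singleton_self x)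
    exact hne (h1 h2)
  have hspan : (⊤ : Submodule R K) ≤ Submodule.span R {x} := by
    apply Submodule.le_of_le_smul_of_le_jacobson_bot (Module.finite_def.1 inferInstance)
      (IsLocalRing.maximalIdeal_le_jacobson ⊥)
    rw [hsup]
  have hsurj : Function.Surjective (LinearMap.toSpanSingleton R K x) := by
    intro y
    obtain ⟨r, rfl⟩ := Submodule.mem_span_singleton.1 (hspan (Submodule.mem_top (x := y)))
    exact ⟨r, rfl⟩
  have hinj' : Function.Injective (LinearMap.toSpanSingleton R K x) := by
    rw [injective_iff_map_eq_zero]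
    intro r hr
    rw [LinearMap.toSpanSingleton_apply] at hr
    have : r ∈ Module.annihilator R K := by
      rw [Module.mem_annihilator]
      intro y
      obtain ⟨s, rfl⟩ := hsurj y
      rw [LinearMap.toSpanSingleton_apply, smul_comm, hr, smul_zero]
    rwa [hann, Ideal.mem_bot] at this
  exact ⟨(LinearEquiv.ofBijective _ ⟨hinj', hsurj⟩).symm⟩

end Groth.Agent.Helper1.Canon
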