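import Mathlib
import Groth.Agent.Helper1.CanonA

set_option autoImplicit false

/-!
# Canonical modules: systems of parameters are regular (first two elements)
-/

namespace Groth.Agent.Helper1.Canon
open CategoryTheory Limits Opposite IsLocalRing Groth.Agent.Helper1.LocCohDelta

universe u

variable {R : Type u} [CommRing R] [IsNoetherianRing R] [IsLocalRing R]

/-- if `H^n(ι)` is injective then `Hom(ι, K)` is surjective -/
lemma hom_restrict_surjective (n : ℕ) (hn : ringKrullDim R = n)
    (E : Type u) [AddCommGroup E] [Module R E] (f : ResidueField R →ₗ[R] E)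
    (hf : InjHull.IsInjectiveHull f)
    (K : Type u) [AddCommGroup K] [Module R K] [Module.Finite R K]
    (eK : (K →ₗ[R] E) ≃ₗ[R] LocCoh.H (maximalIdeal R) n R)
    (M N : Type u) [AddCommGroup M] [Module R M] [Module.Finite R M]
    [AddCommGroup N] [Module R N] [Module.Finite R N] (ι : N →ₗ[R] M)
    (hι : Function.Injective
      ((localCohomology (maximalIdeal R) n).map (ModuleCat.ofHom ι)).hom)
    (φ : N →ₗ[R] K) : ∃ ψ : M →ₗ[R] K, ψ ∘ₗ ι = φ := by
  haveI := hf.isInjective
  obtain ⟨τ, hτ⟩ := LDual.exists_tau (J := maximalIdeal R) (n := n)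
    (LDual.isZero_lc_succ_dim (maximalIdeal R) n hn) K E eK.symm
  have hN := hτ (ModuleCat.of R N)
  have hM := hτ (ModuleCat.of R M)
  have hnat := τ.naturality (ModuleCat.ofHom ι)
  -- `dd ι` is injective
  have hdd : Function.Injective ((LDual.dd K E).map (ModuleCat.ofHom ι)).hom := by
    have h1 : Function.Injective
        ((localCohomology (maximalIdeal R) n).map (ModuleCat.ofHom ι) ≫
          τ.app (ModuleCat.of R M)).hom := by
      rw [ModuleCat.hom_comp]
      exact ((ConcreteCategory.isIso_iff_bijective _).1 hM).1.comp hι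
    rw [hnat, ModuleCat.hom_comp] at h1
    intro x y hxy
    obtain ⟨x', rfl⟩ := ((ConcreteCategory.isIso_iff_bijective _).1 hN).2 x
    obtain ⟨y', rfl⟩ := ((ConcreteCategory.isIso_iff_bijective _).1 hN).2 y
    rw [h1 hxy]
  -- the cokernel of `Hom(ι, K)` has vanishing dual
  let ρ : (M →ₗ[R] K) →ₗ[R] (N →ₗ[R] K) := LinearMap.lcomp R K ι
  have hsub : Subsingleton ((N →ₗ[R] K) ⧸ LinearMap.range ρ) := by
    apply LDual.subsingleton_of_dual E f hf
    refine ⟨fun χ χ' => ?_⟩
    have key : ∀ χ : ((N →ₗ[R] K) ⧸ LinearMap.range ρ) →ₗ[R] E, χ = 0 := by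
      intro χ
      let c : (LDual.dd K E).obj (ModuleCat.of R N) :=
        (show (N →ₗ[R] K) →ₗ[R] E from χ ∘ₗ (LinearMap.range ρ).mkQ)
      have h0 : ((LDual.dd K E).map (ModuleCat.ofHom ι)).hom c = 0 := by
        apply LDual.dd_ext
        intro ψ
        show χ ((LinearMap.range ρ).mkQ (ρ ψ)) = 0
        rw [Submodule.mkQ_apply, (Submodule.Quotient.mk_eq_zero _).2 (LinearMap.mem_range_self ρ ψ),
          map_zero]
      have h1 : c = 0 := hdd (h0.trans (map_zero _).symm)
      have h1' : χ ∘ₗ (LinearMap.range ρ).mkQ = 0 := h1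
      apply LinearMap.ext
      intro y
      obtain ⟨y, rfl⟩ := Submodule.Quotient.mk_surjective _ y
      exact LinearMap.congr_fun h1' y
    rw [key χ, key χ']
  have : φ ∈ LinearMap.range ρ := by
    rw [← Submodule.Quotient.mk_eq_zero]
    exact Subsingleton.elim _ _
  obtain ⟨ψ, hψ⟩ := this
  exact ⟨ψ, hψ⟩

end Groth.Agent.Helper1.Canon
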