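import Mathlib
import Groth.Agent.Helper1.CanonC
import Groth.Agent.Helper1.LDualG
import Groth.Agent.Helper1.LocCohDepth

set_option autoImplicit false

/-!
# Canonical modules over a Cohen–Macaulay local ring: vanishing of `Ext`
-/

namespace Groth.Agent.Helper1.Canon
open CategoryTheory Limits Opposite IsLocalRing Abelian Groth.Agent.Helper1.LocCohDelta

universe u

variable {R : Type u} [CommRing R] [LocCoh.IsCohenMacaulayLocalRing R]
  (n : ℕ) (hn : ringKrullDim R = n)
  (E : Type u) [AddCommGroup E] [Module R E] (f : ResidueField R →ₗ[R] E)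
  (hf : InjHull.IsInjectiveHull f)
  (K : Type u) [AddCommGroup K] [Module R K] [Module.Finite R K]
  (eK : (K →ₗ[R] E) ≃ₗ[R] LocCoh.H (maximalIdeal R) n R)

include hn hf eK

/-- local duality (derived `Ext`) over a CM local ring with canonical module -/
lemma cm_dual (i j : ℕ) (hij : i + j = n) (M : Type u) [AddCommGroup M] [Module R M]
    [Module.Finite R M] :
    Nonempty ((localCohomology (maximalIdeal R) j).obj (ModuleCat.of R M) ≃ₗ[R]
      (Ext (ModuleCat.of R M) (ModuleCat.of R K) i →ₗ[R] E)) := by
  haveI := hf.isInjective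
  exact LDual.nonempty_equiv_ext (maximalIdeal R) n (LDual.isZero_lc_succ_dim _ n hn)
    (LDual.isZero_lc_of_cm n hn) K E eK i j hij M

/-- vanishing of `Ext` from vanishing of local cohomology -/
lemma subsingleton_ext_of_isZero_lc (i j : ℕ) (hij : i + j = n) (M : Type u) [AddCommGroup M]
    [Module R M] [Module.Finite R M]
    (h : IsZero ((localCohomology (maximalIdeal R) j).obj (ModuleCat.of R M))) :
    Subsingleton (Ext (ModuleCat.of R M) (ModuleCat.of R K) i) := by
  obtain ⟨e⟩ := cm_dual n hn E f hf K eK i j hij M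
  apply LDual.subsingleton_of_dual E f hf
  exact e.toEquiv.subsingleton_congr.1 (ModuleCat.isZero_iff_subsingleton.1 h)

/-- vanishing of local cohomology from vanishing of `Ext` -/
lemma isZero_lc_of_subsingleton_ext (i j : ℕ) (hij : i + j = n) (M : Type u) [AddCommGroup M]
    [Module R M] [Module.Finite R M]
    (h : Subsingleton (Ext (ModuleCat.of R M) (ModuleCat.of R K) i)) :
    IsZero ((localCohomology (maximalIdeal R) j).obj (ModuleCat.of R M)) := by
  obtain ⟨e⟩ := cm_dual n hn E f hf K eK i j hij M
  rw [ModuleCat.isZero_iff_subsingleton]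
  haveI : Subsingleton (Ext (ModuleCat.of R M) (ModuleCat.of R K) i →ₗ[R] E) :=
    ⟨fun a b => LinearMap.ext fun x => by rw [Subsingleton.elim x 0, map_zero, map_zero]⟩
  exact e.toEquiv.subsingleton_congr.2 inferInstance

omit hf eK in
/-- the residue field has no higher local cohomology -/
lemma isZero_lc_residueField (j : ℕ) (hj : 0 < j) :
    IsZero ((localCohomology (maximalIdeal R) j).obj
      (ModuleCat.of R (R ⧸ maximalIdeal R))) := by
  apply LocCohVanish.isZero_lc_of_supportDim_lt
  rw [Module.supportDim_quotient_eq_ringKrullDim, LocCohNonvanish.ringKrullDim_quotient_maximalIdeal]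
  exact_mod_cast hj

/-- `Ext^i(k, K) = 0` for `i < n` -/
lemma subsingleton_ext_residueField (i : ℕ) (hi : i < n) :
    Subsingleton (Ext (ModuleCat.of R (R ⧸ maximalIdeal R)) (ModuleCat.of R K) i) :=
  subsingleton_ext_of_isZero_lc n hn E f hf K eK i (n - i) (by omega) _
    (isZero_lc_residueField n hn (n - i) (by omega))

/-- `H^j_𝔪(K) = 0` for `j < n` -/
lemma isZero_lc_canon (j : ℕ) (hj : j < n) :
    IsZero ((localCohomology (maximalIdeal R) j).obj (ModuleCat.of R K)) := by
  have hsupp : Module.support R (R ⧸ maximalIdeal R) =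
      PrimeSpectrum.zeroLocus (maximalIdeal R : Set R) := by
    rw [Module.support_eq_zeroLocus, Ideal.annihilator_quotient]
  exact LocCohExt.lc_isZero_of_ext (maximalIdeal R) (R ⧸ maximalIdeal R) hsupp n K
    (fun i hi => subsingleton_ext_residueField n hn E f hf K eK i hi) j hj

/-- `Ext^i(K, K) = 0` for `0 < i ≤ n` -/
lemma subsingleton_ext_canon (i : ℕ) (hi0 : 0 < i) (hi : i ≤ n) :
    Subsingleton (Ext (ModuleCat.of R K) (ModuleCat.of R K) i) :=
  subsingleton_ext_of_isZero_lc n hn E f hf K eK i (n - i) (by omega) K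
    (isZero_lc_canon n hn E f hf K eK (n - i) (by omega))

end Groth.Agent.Helper1.Canon
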