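import Mathlib
import Groth.Agent.Helper1.CanonE
import Groth.Agent.Helper2.Depth
import Groth.Agent.Helper6.Bass2

set_option autoImplicit false

/-!
# Canonical modules over a Cohen–Macaulay local ring: injective dimension and depth
-/

namespace Groth.Agent.Helper1.Canon
open CategoryTheory Limits Opposite IsLocalRing Abelian Groth.Agent.Helper1.LocCohDelta

universe u

section syz

variable {R : Type u} [CommRing R] [IsNoetherianRing R] (J : Ideal R)

/-- the depth lemma for a syzygy, in terms of local cohomology -/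
lemma isZero_lc_syzygy (S : ShortComplex (ModuleCat.{u} R)) (hS : S.ShortExact) (n t : ℕ)
    (hF : ∀ j, j < n → IsZero ((localCohomology J j).obj S.X₂))
    (hM : ∀ j, j < t → IsZero ((localCohomology J j).obj S.X₃))
    (j : ℕ) (hjn : j < n) (hjt : j ≤ t) : IsZero ((localCohomology J j).obj S.X₁) := by
  rcases Nat.eq_zero_or_pos j with rfl | hj
  · have := lc_mono₀ J S hS
    exact IsZero.of_mono ((localCohomology J 0).map S.f) (hF 0 hjn)
  · obtain ⟨j, rfl⟩ : ∃ j', j = j' + 1 := ⟨j - 1, by omega⟩
    exact (lc_exact₁ J S hS j).isZero_of_both_isZero (hM j (by omega)) (hF (j + 1) hjn)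

end syz

variable {R : Type u} [CommRing R] [LocCoh.IsCohenMacaulayLocalRing R]
  (n : ℕ) (hn : ringKrullDim R = n)
  (E : Type u) [AddCommGroup E] [Module R E] (f : ResidueField R →ₗ[R] E)
  (hf : InjHull.IsInjectiveHull f)
  (K : Type u) [AddCommGroup K] [Module R K] [Module.Finite R K]
  (eK : (K →ₗ[R] E) ≃ₗ[R] LocCoh.H (maximalIdeal R) n R)

include hn hf eK

/-- `Ext^1(M, K) = 0` for maximal Cohen–Macaulay `M` (or `M = 0`) -/
lemma subsingleton_ext_one (M : Type u) [AddCommGroup M] [Module R M] [Module.Finite R M]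
    (hM : ∀ j, j < n → IsZero ((localCohomology (maximalIdeal R) j).obj (ModuleCat.of R M))) :
    Subsingleton (Ext (ModuleCat.of R M) (ModuleCat.of R K) 1) := by
  obtain ⟨b, p, hp⟩ := Module.Finite.exists_fin' R M
  let S := p.shortComplexKer
  have hS : S.ShortExact := LinearMap.shortExact_shortComplexKer hp
  have hproj : Projective S.X₂ := by
    have : Module.Projective R (Fin b → R) := inferInstance
    exact (IsProjective.iff_projective (R := R) (Fin b → R)).1 this
  have hfin : Module.Finite R (LinearMap.ker p) := inferInstance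
  have hι : Function.Injective
      ((localCohomology (maximalIdeal R) n).map (ModuleCat.ofHom (LinearMap.ker p).subtype)).hom := by
    rcases Nat.eq_zero_or_pos n with rfl | hn0
    · exact (ModuleCat.mono_iff_injective _).1 (lc_mono₀ (maximalIdeal R) S hS)
    · obtain ⟨k, rfl⟩ : ∃ k, n = k + 1 := ⟨n - 1, by omega⟩
      have : Mono ((localCohomology (maximalIdeal R) (k + 1)).map S.f) :=
        (lc_exact₁ (maximalIdeal R) S hS k).mono_g ((hM k (by omega)).eq_of_src _ _)
      exact (ModuleCat.mono_iff_injective _).1 this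
  refine ⟨fun x y => ?_⟩
  have key : ∀ x₃ : Ext S.X₃ (ModuleCat.of R K) 1, x₃ = 0 := by
    intro x₃
    obtain ⟨x₁, hx₁⟩ := Ext.contravariant_sequence_exact₃ hS (ModuleCat.of R K) x₃
      (Ext.eq_zero_of_projective _) (show 1 + 0 = 1 by omega)
    obtain ⟨φ, rfl⟩ := (Ext.mk₀_bijective S.X₁ (ModuleCat.of R K)).2 x₁
    obtain ⟨ψ, hψ⟩ := hom_restrict_surjective n hn E f hf K eK (Fin b → R) (LinearMap.ker p)
      (LinearMap.ker p).subtype hι φ.hom
    have h1 : φ = S.f ≫ ModuleCat.ofHom ψ := by
      apply ModuleCat.hom_ext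
      exact hψ.symm
    rw [← hx₁, h1, ← Ext.mk₀_comp_mk₀, ← Ext.comp_assoc_of_third_deg_zero, hS.extClass_comp,
      Ext.zero_comp]
  rw [key x, key y]

/-- vanishing of `Ext^e(M, K)` above the defect of depth -/
lemma subsingleton_ext_of_depth (e : ℕ) :
    ∀ (M : Type u) [AddCommGroup M] [Module R M] [Module.Finite R M] (t : ℕ), t ≤ n →
    (∀ j, j < t → IsZero ((localCohomology (maximalIdeal R) j).obj (ModuleCat.of R M))) →
    (n - t) + 1 ≤ e + 1 →
    Subsingleton (Ext (ModuleCat.of R M) (ModuleCat.of R K) (e + 1)) := by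
  induction e with
  | zero =>
    intro M _ _ _ t ht hM hte
    have htn : t = n := by omega
    subst htn
    exact subsingleton_ext_one t hn E f hf K eK M hM
  | succ e ih =>
    intro M _ _ _ t ht hM hte
    obtain ⟨b, p, hp⟩ := Module.Finite.exists_fin' R M
    let S := p.shortComplexKer
    have hS : S.ShortExact := LinearMap.shortExact_shortComplexKer hp
    have hproj : Projective S.X₂ := by
      have : Module.Projective R (Fin b → R) := inferInstance
      exact (IsProjective.iff_projective (R := R) (Fin b → R)).1 this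
    have hfin : Module.Finite R (LinearMap.ker p) := inferInstance
    have hF : ∀ j, j < n → IsZero ((localCohomology (maximalIdeal R) j).obj S.X₂) := fun j hj =>
      LocCohRing.isZero_free (localCohomology (maximalIdeal R) j) (LDual.isZero_lc_of_cm n hn j hj) b
    have hN : ∀ j, j < min (t + 1) n →
        IsZero ((localCohomology (maximalIdeal R) j).obj (ModuleCat.of R (LinearMap.ker p))) :=
      fun j hj => isZero_lc_syzygy (maximalIdeal R) S hS n t hF hM j (by omega) (by omega)
    have h1 := ih (LinearMap.ker p) (min (t + 1) n) (by omega) hN (by omega)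
    obtain ⟨e1⟩ := LDual.nonempty_ext_shift S hS (ModuleCat.of R K) e
    exact e1.symm.toEquiv.subsingleton_congr.2 h1

/-- `K` has injective dimension at most `n` -/
theorem hasInjectiveDimensionLT_canon : HasInjectiveDimensionLT (ModuleCat.of R K) (n + 1) := by
  apply Groth.Agent.Helper6.Bass.hasInjectiveDimensionLT_of_ext_residueField (A := R) K n
  intro i hi
  obtain ⟨i, rfl⟩ : ∃ i', i = i' + 1 := ⟨i - 1, by omega⟩
  exact subsingleton_ext_of_depth n hn E f hf K eK i (R ⧸ maximalIdeal R) 0 (by omega)
    (fun j hj => absurd hj (by omega)) (by omega)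

end Groth.Agent.Helper1.Canon
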