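import Mathlib
import Groth.Agent.Helper1.CanonG

set_option autoImplicit false

/-!
# Canonical modules over a Cohen–Macaulay local ring: exact injective dimension, CM property
-/

namespace Groth.Agent.Helper1.Canon
open CategoryTheory Limits Opposite IsLocalRing Abelian Groth.Agent.Helper1.LocCohDelta

universe u

variable {R : Type u} [CommRing R] [LocCoh.IsCohenMacaulayLocalRing R]
  (n : ℕ) (hn : ringKrullDim R = n)
  (E : Type u) [AddCommGroup E] [Module R E] (f : ResidueField R →ₗ[R] E)
  (hf : InjHull.IsInjectiveHull f)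
  (K : Type u) [AddCommGroup K] [Module R K] [Module.Finite R K]
  (eK : (K →ₗ[R] E) ≃ₗ[R] LocCoh.H (maximalIdeal R) n R)

include hn hf eK

/-- a canonical module is nonzero -/
lemma nontrivial_canon : Nontrivial K := by
  have h := (nontrivial_hom_iff n hn E f hf K eK R).2
    (by rw [Module.supportDim_self_eq_ringKrullDim, hn])
  by_contra hK
  rw [not_nontrivial_iff_subsingleton] at hK
  obtain ⟨φ, ψ, hφψ⟩ := h
  exact hφψ (LinearMap.ext fun x => Subsingleton.elim _ _)

/-- `Ext^n(k, K) ≠ 0` -/
lemma not_subsingleton_ext_residueField :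
    ¬ Subsingleton (Ext (ModuleCat.of R (R ⧸ maximalIdeal R)) (ModuleCat.of R K) n) := by
  intro h
  have h1 := isZero_lc_of_subsingleton_ext n hn E f hf K eK n 0 (by omega)
    (R ⧸ maximalIdeal R) h
  exact LocCohNonvanish.nonvanishing 0 (R ⧸ maximalIdeal R) (by
    rw [Module.supportDim_quotient_eq_ringKrullDim,
      LocCohNonvanish.ringKrullDim_quotient_maximalIdeal]
    rfl) h1

theorem not_hasInjectiveDimensionLT_canon : ¬ HasInjectiveDimensionLT (ModuleCat.of R K) n := by
  intro h
  exact not_subsingleton_ext_residueField n hn E f hf K eK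
    (HasInjectiveDimensionLT.subsingleton (ModuleCat.of R K) n n le_rfl _)

/-- `H^n_𝔪(K) ≠ 0` -/
lemma not_isZero_lc_canon :
    ¬ IsZero ((localCohomology (maximalIdeal R) n).obj (ModuleCat.of R K)) := by
  intro h
  have h1 := subsingleton_ext_of_isZero_lc n hn E f hf K eK 0 n (by omega) K h
  haveI := nontrivial_canon n hn E f hf K eK
  have e2 : Ext (ModuleCat.of R K) (ModuleCat.of R K) 0 ≃ₗ[R] (K →ₗ[R] K) :=
    (Ext.linearEquiv₀ (R := R)).trans ModuleCat.homLinearEquiv
  have h2 : Subsingleton (K →ₗ[R] K) := e2.symm.toEquiv.subsingleton_congr.2 h1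
  obtain ⟨x, y, hxy⟩ := exists_pair_ne K
  apply hxy
  have := Subsingleton.elim (LinearMap.id : K →ₗ[R] K) 0
  have hx : x = 0 := by simpa using LinearMap.congr_fun this x
  have hy : y = 0 := by simpa using LinearMap.congr_fun this y
  rw [hx, hy]

theorem supportDim_canon : Module.supportDim R K = n := by
  refine le_antisymm ?_ ?_
  · rw [← hn]
    exact Module.supportDim_le_ringKrullDim R K
  · by_contra hlt
    exact not_isZero_lc_canon n hn E f hf K eK
      (LocCohVanish.isZero_lc_of_supportDim_lt (maximalIdeal R) K n (not_le.1 hlt))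

theorem depth_canon : LocCoh.depth R K = n := by
  haveI := nontrivial_canon n hn E f hf K eK
  have hIM : maximalIdeal R • (⊤ : Submodule R K) ≠ ⊤ :=
    Groth.Agent.Helper2.Depth.smul_top_ne_top R K
  rw [LocCoh.depth, LocCohDepth.idealDepth_eq_iff (maximalIdeal R) K hIM n]
  refine ⟨fun i hi => ModuleCat.isZero_iff_subsingleton.1
    (isZero_lc_canon n hn E f hf K eK i hi), ?_⟩
  by_contra hnt
  rw [not_nontrivial_iff_subsingleton] at hnt
  exact not_isZero_lc_canon n hn E f hf K eK (ModuleCat.isZero_iff_subsingleton.2 hnt)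

theorem isCohenMacaulayModule_canon : LocCoh.IsCohenMacaulayModule R K := by
  rw [LocCoh.IsCohenMacaulayModule, supportDim_canon n hn E f hf K eK,
    depth_canon n hn E f hf K eK]
  rfl

end Groth.Agent.Helper1.Canon
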