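import Mathlib
import Groth.Agent.Helper1.GorTopA

set_option autoImplicit false

/-!
# `Ext` vanishing from local cohomology

If all `H^i_J(M)` are injective and vanish for `i > j`, then `Ext^{j+1}(N, M) = 0` for every
`J`-power-torsion module `N`.
-/

namespace Groth.Agent.Helper1.GorTop
open CategoryTheory Limits Opposite Groth.Agent.Helper1.LocCohDelta Abelian

universe u

variable {R : Type u} [CommRing R] (J : Ideal R)

/-- the natural map `H^0_J ⟶ 𝟭` -/
noncomputable def lcι : localCohomology J 0 ⟶ 𝟭 (ModuleCat.{u} R) :=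
  (lcZeroIso J).hom ≫ DRing.gammaIι J

lemma isIso_lcι_app (N : ModuleCat.{u} R) (hN : IsTors J N) : IsIso ((lcι J).app N) := by
  have h2 : IsIso ((DRing.gammaIι J).app N) := by
    rw [ConcreteCategory.isIso_iff_bijective]
    constructor
    · intro x y h
      exact Subtype.ext h
    · intro y
      exact ⟨⟨y, hN y⟩, rfl⟩
  rw [lcι, NatTrans.comp_app]
  infer_instance

section

variable [IsNoetherianRing R]

/-- `H^0(C)` is injective if `H^0(M)` and `H^1(M)` are -/
lemma injective_lc_zero_X₃' (S : ShortComplex (ModuleCat.{u} R)) (hS : S.ShortExact)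
    [Injective S.X₂] (h0 : Injective ((localCohomology J 0).obj S.X₁))
    (h1 : Injective ((localCohomology J 1).obj S.X₁)) :
    Injective ((localCohomology J 0).obj S.X₃) := by
  have hr := injective_range J S hS h0
  have hr' : Injective (rangeSC ((localCohomology J 0).map S.g)).X₁ := hr
  -- `coker ≅ H^1(M)`
  have hepi := epi_lcδ_zero J S hS
  have hex := (ShortComplex.moduleCat_exact_iff _).1 (lc_exact₃ J S hS 0)
  have hsurj : Function.Surjective (lcδ J S hS 0).hom := (ModuleCat.epi_iff_surjective _).1 hepi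
  let ψ : ((localCohomology J 0).obj S.X₃ ⧸ LinearMap.range ((localCohomology J 0).map S.g).hom)
      →ₗ[R] (localCohomology J 1).obj S.X₁ :=
    Submodule.liftQ _ (lcδ J S hS 0).hom (by
      rintro _ ⟨x, rfl⟩
      rw [LinearMap.mem_ker]
      have := lc_w₃ J S hS 0
      exact congrArg (fun t => t.hom x) this)
  have hψ : Function.Bijective ψ := by
    constructor
    · rw [← LinearMap.ker_eq_bot, eq_bot_iff]
      intro y hy
      obtain ⟨y, rfl⟩ := Submodule.Quotient.mk_surjective _ y
      rw [LinearMap.mem_ker] at hy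
      have hy' : (lcδ J S hS 0).hom y = 0 := hy
      obtain ⟨x, hx⟩ := hex y hy'
      rw [Submodule.mem_bot, Submodule.Quotient.mk_eq_zero]
      exact ⟨x, hx⟩
    · intro z
      obtain ⟨y, rfl⟩ := hsurj z
      exact ⟨Submodule.Quotient.mk y, rfl⟩
  have hc : Injective (rangeSC ((localCohomology J 0).map S.g)).X₃ :=
    Injective.of_iso (LinearEquiv.ofBijective ψ hψ).toModuleIso.symm h1
  have h2 : HasInjectiveDimensionLT (rangeSC ((localCohomology J 0).map S.g)).X₂ 1 :=
    (rangeSC_shortExact _).hasInjectiveDimensionLT_X₂ 1 inferInstance inferInstance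
  have : Injective (rangeSC ((localCohomology J 0).map S.g)).X₂ := inferInstance
  exact this

/-- the class of modules with injective local cohomology concentrated in degrees `≤ j` -/
def KK (j : ℕ) (M : ModuleCat.{u} R) : Prop :=
  (∀ i, Injective ((localCohomology J i).obj M)) ∧
    ∀ i, j < i → IsZero ((localCohomology J i).obj M)

lemma KK_mono {j j' : ℕ} (h : j ≤ j') {M : ModuleCat.{u} R} (hM : KK J j M) : KK J j' M :=
  ⟨hM.1, fun i hi => hM.2 i (by omega)⟩

/-- the cosyzygy is in the class one degree lower -/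
lemma KK_X₃ (S : ShortComplex (ModuleCat.{u} R)) (hS : S.ShortExact) [Injective S.X₂] (j : ℕ)
    (hM : KK J (j + 1) S.X₁) : KK J j S.X₃ := by
  constructor
  · intro i
    rcases Nat.eq_zero_or_pos i with rfl | hi
    · exact injective_lc_zero_X₃' J S hS (hM.1 0) (hM.1 1)
    · obtain ⟨i, rfl⟩ : ∃ i', i = i' + 1 := ⟨i - 1, by omega⟩
      have := isIso_lcδ_succ J S hS i
      exact Injective.of_iso (asIso (lcδ J S hS (i + 1))).symm (hM.1 (i + 1 + 1))
  · intro i hi
    obtain ⟨i, rfl⟩ : ∃ i', i = i' + 1 := ⟨i - 1, by omega⟩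
    have := isIso_lcδ_succ J S hS i
    exact (hM.2 (i + 1 + 1) (by omega)).of_iso (asIso (lcδ J S hS (i + 1)))

lemma KK_X₃_zero (S : ShortComplex (ModuleCat.{u} R)) (hS : S.ShortExact) [Injective S.X₂]
    (hM : KK J 0 S.X₁) : KK J 0 S.X₃ :=
  KK_X₃ J S hS 0 (KK_mono J (by omega) hM)

/-- lifting maps from torsion modules along `I → C` when `H^1(M) = 0` and `H^0(M)` is injective -/
lemma exists_lift (S : ShortComplex (ModuleCat.{u} R)) (hS : S.ShortExact)
    (h0 : Injective ((localCohomology J 0).obj S.X₁))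
    (h1 : IsZero ((localCohomology J 1).obj S.X₁))
    (N : ModuleCat.{u} R) (hN : IsTors J N) (φ : N ⟶ S.X₃) : ∃ ψ : N ⟶ S.X₂, ψ ≫ S.g = φ := by
  let S0 : ShortComplex (ModuleCat.{u} R) :=
    ShortComplex.mk ((localCohomology J 0).map S.f) ((localCohomology J 0).map S.g) (lc_w₂ J S 0)
  have hS0 : S0.ShortExact :=
    { exact := lc_exact₂ J S hS 0
      mono_f := lc_mono₀ J S hS
      epi_g := (lc_exact₃ J S hS 0).epi_f (h1.eq_of_tgt _ _) }
  have : Injective S0.X₁ := h0
  have s := hS0.splittingOfInjective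
  have hiso := isIso_lcι_app J N hN
  let φ' : N ⟶ (localCohomology J 0).obj S.X₃ := inv ((lcι J).app N) ≫ (localCohomology J 0).map φ
  refine ⟨φ' ≫ s.s ≫ (lcι J).app S.X₂, ?_⟩
  have hn1 := (lcι J).naturality S.g
  have hn2 := (lcι J).naturality φ
  simp only [Functor.id_obj, Functor.id_map] at hn1 hn2
  have hsg : s.s ≫ (localCohomology J 0).map S.g = 𝟙 _ := s.s_g
  have hsg' : s.s ≫ (localCohomology J 0).map S.g = 𝟙 ((localCohomology J 0).obj S.X₃) := hsg
  calc (φ' ≫ s.s ≫ (lcι J).app S.X₂) ≫ S.g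
      = φ' ≫ s.s ≫ ((lcι J).app S.X₂ ≫ S.g) := by simp only [Category.assoc]
    _ = φ' ≫ (s.s ≫ (localCohomology J 0).map S.g) ≫ (lcι J).app S.X₃ := by
        rw [← hn1]; simp only [Category.assoc]
    _ = φ' ≫ (lcι J).app S.X₃ := by rw [hsg', Category.id_comp]
    _ = inv ((lcι J).app N) ≫ ((localCohomology J 0).map φ ≫ (lcι J).app S.X₃) := by
        simp only [φ', Category.assoc]
    _ = φ := by rw [hn2, IsIso.inv_hom_id_assoc]

/-- **Ext vanishing** -/
theorem ext_eq_zero (j : ℕ) : ∀ (M : ModuleCat.{u} R), KK J j M →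
    ∀ (N : ModuleCat.{u} R), IsTors J N → ∀ x : Ext N M (j + 1), x = 0 := by
  induction j with
  | zero =>
    intro M hM N hN x
    let S : ShortComplex (ModuleCat.{u} R) :=
      ShortComplex.mk (Injective.ι M) (cokernel.π (Injective.ι M)) (cokernel.condition _)
    have hS : S.ShortExact :=
      { exact := ShortComplex.exact_cokernel _
        mono_f := inferInstanceAs (Mono (Injective.ι M))
        epi_g := inferInstanceAs (Epi (cokernel.π (Injective.ι M))) }
    have hI : Injective S.X₂ := inferInstanceAs (Injective (Injective.under M))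
    have hx : x.comp (Ext.mk₀ S.f) (add_zero 1) = 0 := Ext.eq_zero_of_injective _
    obtain ⟨x₃, rfl⟩ := Ext.covariant_sequence_exact₁ N hS x hx (zero_add 1)
    obtain ⟨φ, rfl⟩ := (Ext.mk₀_bijective N S.X₃).2 x₃
    obtain ⟨ψ, rfl⟩ := exists_lift J S hS (hM.1 0) (hM.2 1 (by omega)) N hN φ
    rw [← Ext.mk₀_comp_mk₀, Ext.comp_assoc_of_second_deg_zero, hS.comp_extClass, Ext.comp_zero]
  | succ j ih =>
    intro M hM N hN x
    let S : ShortComplex (ModuleCat.{u} R) :=
      ShortComplex.mk (Injective.ι M) (cokernel.π (Injective.ι M)) (cokernel.condition _)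
    have hS : S.ShortExact :=
      { exact := ShortComplex.exact_cokernel _
        mono_f := inferInstanceAs (Mono (Injective.ι M))
        epi_g := inferInstanceAs (Epi (cokernel.π (Injective.ι M))) }
    have hI : Injective S.X₂ := inferInstanceAs (Injective (Injective.under M))
    have hx : x.comp (Ext.mk₀ S.f) (add_zero (j + 1 + 1)) = 0 := Ext.eq_zero_of_injective _
    obtain ⟨x₃, rfl⟩ := Ext.covariant_sequence_exact₁ N hS x hx rfl
    rw [ih S.X₃ (KK_X₃ J S hS j hM) N hN x₃, Ext.zero_comp]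

end

end Groth.Agent.Helper1.GorTop
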