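import Mathlib
import Groth.Agent.Helper1.GorTopE
import Groth.Agent.Helper1.LDualD

set_option autoImplicit false

/-!
# `Ext^n(N, G) ≅ Hom(N, H^n_J(G))` for `J`-torsion `N` when the lower `H^j_J(G)` are injective
-/

namespace Groth.Agent.Helper1.GorTop
open CategoryTheory Limits Opposite Groth.Agent.Helper1.LocCohDelta Abelian

universe u

variable {R : Type u} [CommRing R] (J : Ideal R)

lemma lcι_app_injective (G : ModuleCat.{u} R) : Function.Injective ((lcι J).app G).hom := by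
  rw [lcι, NatTrans.comp_app, ModuleCat.hom_comp]
  intro x y h
  have h1 : ((lcZeroIso J).hom.app G).hom x = ((lcZeroIso J).hom.app G).hom y := Subtype.ext h
  exact ((ConcreteCategory.isIso_iff_bijective ((lcZeroIso J).hom.app G)).1 inferInstance).1 h1

instance (G : ModuleCat.{u} R) : Mono ((lcι J).app G) :=
  (ModuleCat.mono_iff_injective _).2 (lcι_app_injective J G)

/-- maps from a torsion module factor through `H^0` -/
lemma exists_fac (N G : ModuleCat.{u} R) (hN : IsTors J N) (ψ : N ⟶ G) :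
    ∃ σ : N ⟶ (localCohomology J 0).obj G, σ ≫ (lcι J).app G = ψ := by
  have hiso := isIso_lcι_app J N hN
  refine ⟨inv ((lcι J).app N) ≫ (localCohomology J 0).map ψ, ?_⟩
  have hn := (lcι J).naturality ψ
  simp only [Functor.id_obj, Functor.id_map] at hn
  rw [Category.assoc, hn, IsIso.inv_hom_id_assoc]

/-- the linear equivalence `Hom(N, H^0(G)) ≃ Hom(N, G)` for torsion `N` -/
noncomputable def facEquiv (N G : ModuleCat.{u} R) (hN : IsTors J N) :
    (N →ₗ[R] (localCohomology J 0).obj G) ≃ₗ[R] (N →ₗ[R] G) :=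
  LinearEquiv.ofBijective (LinearMap.compRight R ((lcι J).app G).hom) (by
    constructor
    · intro σ σ' h
      apply LinearMap.ext
      intro x
      apply lcι_app_injective J G
      exact LinearMap.congr_fun h x
    · intro ψ
      obtain ⟨σ, hσ⟩ := exists_fac J N G hN (ModuleCat.ofHom ψ)
      refine ⟨σ.hom, ?_⟩
      exact congrArg ModuleCat.Hom.hom hσ)

lemma facEquiv_apply (N G : ModuleCat.{u} R) (hN : IsTors J N)
    (σ : N →ₗ[R] (localCohomology J 0).obj G) :
    facEquiv J N G hN σ = ((lcι J).app G).hom ∘ₗ σ := rfl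

section

variable [IsNoetherianRing R]

/-- the sequence `0 → range H^0(g) → H^0(C) → H^1(M) → 0` -/
noncomputable abbrev seqB (S : ShortComplex (ModuleCat.{u} R)) (hS : S.ShortExact) :
    ShortComplex (ModuleCat.{u} R) :=
  ShortComplex.mk
    (ModuleCat.ofHom (LinearMap.range ((localCohomology J 0).map S.g).hom).subtype)
    (lcδ J S hS 0) (by
      ext ⟨y, x, rfl⟩
      have := lc_w₃ J S hS 0
      exact congrArg (fun t => t.hom x) this)

lemma seqB_shortExact (S : ShortComplex (ModuleCat.{u} R)) (hS : S.ShortExact) [Injective S.X₂] :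
    (seqB J S hS).ShortExact where
  exact := by
    rw [ShortComplex.moduleCat_exact_iff]
    intro y hy
    obtain ⟨x, hx⟩ := (ShortComplex.moduleCat_exact_iff _).1 (lc_exact₃ J S hS 0) y hy
    exact ⟨⟨y, ⟨x, hx⟩⟩, rfl⟩
  mono_f := (ModuleCat.mono_iff_injective _).2 (Submodule.injective_subtype _)
  epi_g := epi_lcδ_zero J S hS

/-- the sequence `0 → H^0(M) → H^0(I) → range H^0(g) → 0` -/
noncomputable abbrev seqA (S : ShortComplex (ModuleCat.{u} R)) :
    ShortComplex (ModuleCat.{u} R) :=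
  ShortComplex.mk ((localCohomology J 0).map S.f)
    (ModuleCat.ofHom ((localCohomology J 0).map S.g).hom.rangeRestrict) (by
      ext x
      have := lc_w₂ J S 0
      exact congrArg (fun t => t.hom x) this)

lemma seqA_shortExact (S : ShortComplex (ModuleCat.{u} R)) (hS : S.ShortExact) :
    (seqA J S).ShortExact where
  exact := by
    rw [ShortComplex.moduleCat_exact_iff]
    intro y hy
    have hy' : ((localCohomology J 0).map S.g).hom y = 0 := congrArg Subtype.val hy
    exact (ShortComplex.moduleCat_exact_iff _).1 (lc_exact₂ J S hS 0) y hy'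
  mono_f := lc_mono₀ J S hS
  epi_g := (ModuleCat.epi_iff_surjective _).2
    ((localCohomology J 0).map S.g).hom.surjective_rangeRestrict

/-- lifting along `δ⁰` -/
lemma exists_lift_δ (S : ShortComplex (ModuleCat.{u} R)) (hS : S.ShortExact) [Injective S.X₂]
    (h0 : Injective ((localCohomology J 0).obj S.X₁)) (N : ModuleCat.{u} R)
    (θ : N ⟶ (localCohomology J 1).obj S.X₁) :
    ∃ σ : N ⟶ (localCohomology J 0).obj S.X₃, σ ≫ lcδ J S hS 0 = θ := by
  have hr : Injective (seqB J S hS).X₁ := injective_range J S hS h0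
  obtain ⟨x₂, hx₂⟩ := Ext.covariant_sequence_exact₃ N (seqB_shortExact J S hS) (Ext.mk₀ θ)
    (show 0 + 1 = 1 by omega) (Ext.eq_zero_of_injective _)
  obtain ⟨σ, rfl⟩ := (Ext.mk₀_bijective _ _).2 x₂
  rw [Ext.mk₀_comp_mk₀] at hx₂
  exact ⟨σ, (Ext.mk₀_bijective _ _).1 hx₂⟩

/-- the kernel of composition with `δ⁰` -/
lemma exists_lift_of_comp_δ_eq_zero (S : ShortComplex (ModuleCat.{u} R)) (hS : S.ShortExact)
    [Injective S.X₂] (h0 : Injective ((localCohomology J 0).obj S.X₁)) (N : ModuleCat.{u} R)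
    (σ : N ⟶ (localCohomology J 0).obj S.X₃) (hσ : σ ≫ lcδ J S hS 0 = 0) :
    ∃ τ : N ⟶ (localCohomology J 0).obj S.X₂, τ ≫ (localCohomology J 0).map S.g = σ := by
  obtain ⟨x₁, hx₁⟩ := Ext.covariant_sequence_exact₂ N (seqB_shortExact J S hS) (Ext.mk₀ σ) (by
    rw [Ext.mk₀_comp_mk₀]
    show Ext.mk₀ (σ ≫ lcδ J S hS 0) = 0
    rw [hσ, Ext.mk₀_zero])
  obtain ⟨ρ, rfl⟩ := (Ext.mk₀_bijective _ _).2 x₁
  rw [Ext.mk₀_comp_mk₀] at hx₁
  have hρ : ρ ≫ (seqB J S hS).f = σ := (Ext.mk₀_bijective _ _).1 hx₁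
  have hA : Injective (seqA J S).X₁ := h0
  obtain ⟨x₂, hx₂⟩ := Ext.covariant_sequence_exact₃ N (seqA_shortExact J S hS) (Ext.mk₀ ρ)
    (show 0 + 1 = 1 by omega) (Ext.eq_zero_of_injective _)
  obtain ⟨τ, rfl⟩ := (Ext.mk₀_bijective _ _).2 x₂
  rw [Ext.mk₀_comp_mk₀] at hx₂
  have hτ : τ ≫ (seqA J S).g = ρ := (Ext.mk₀_bijective _ _).1 hx₂
  refine ⟨τ, ?_⟩
  rw [← hρ, ← hτ]
  rfl

/-- covariant dimension shift -/
lemma nonempty_ext_shift_cov (S : ShortComplex (ModuleCat.{u} R)) (hS : S.ShortExact)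
    [Injective S.X₂] (N : ModuleCat.{u} R) (i : ℕ) :
    Nonempty (Ext N S.X₃ (i + 1) ≃ₗ[R] Ext N S.X₁ (i + 2)) := by
  let δ : Ext N S.X₃ (i + 1) →ₗ[R] Ext N S.X₁ (i + 2) :=
    Ext.postcompOfLinear hS.extClass R N (show (i + 1) + 1 = i + 2 by omega)
  have hδ : Function.Bijective δ := by
    constructor
    · rw [← LinearMap.ker_eq_bot, eq_bot_iff]
      intro x hx
      rw [LinearMap.mem_ker] at hx
      obtain ⟨x₂, rfl⟩ := Ext.covariant_sequence_exact₃ N hS x (by omega) hx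
      rw [Ext.eq_zero_of_injective x₂, Ext.zero_comp]
      exact Submodule.zero_mem _
    · intro x₁
      exact Ext.covariant_sequence_exact₁ N hS x₁ (Ext.eq_zero_of_injective _) (by omega)
  exact ⟨LinearEquiv.ofBijective δ hδ⟩

/-- the degree one case -/
lemma nonempty_ext_one_equiv (S : ShortComplex (ModuleCat.{u} R)) (hS : S.ShortExact)
    [Injective S.X₂] (h0 : Injective ((localCohomology J 0).obj S.X₁)) (N : ModuleCat.{u} R)
    (hN : IsTors J N) :
    Nonempty (Ext N S.X₁ 1 ≃ₗ[R] (N →ₗ[R] (localCohomology J 1).obj S.X₁)) := by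
  let bd : (N →ₗ[R] S.X₃) →ₗ[R] Ext N S.X₁ 1 :=
    (Ext.postcompOfLinear hS.extClass R N (show 0 + 1 = 1 by omega)) ∘ₗ
      (Ext.linearEquiv₀ (R := R) (X := N) (Y := S.X₃)).symm.toLinearMap ∘ₗ
      (ModuleCat.homLinearEquiv (S := R) (M := N) (N := S.X₃)).symm.toLinearMap
  have hbd_apply : ∀ φ : N →ₗ[R] S.X₃,
      bd φ = (Ext.mk₀ (ModuleCat.ofHom φ)).comp hS.extClass (show 0 + 1 = 1 by omega) := by
    intro φ
    rfl
  let Θ : (N →ₗ[R] S.X₃) →ₗ[R] (N →ₗ[R] (localCohomology J 1).obj S.X₁) :=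
    (LinearMap.compRight R (lcδ J S hS 0).hom) ∘ₗ (facEquiv J N S.X₃ hN).symm.toLinearMap
  have hΘ_apply : ∀ σ : N →ₗ[R] (localCohomology J 0).obj S.X₃,
      Θ (((lcι J).app S.X₃).hom ∘ₗ σ) = (lcδ J S hS 0).hom ∘ₗ σ := by
    intro σ
    show (lcδ J S hS 0).hom ∘ₗ ((facEquiv J N S.X₃ hN).symm (((lcι J).app S.X₃).hom ∘ₗ σ)) = _
    rw [← facEquiv_apply J N S.X₃ hN σ, LinearEquiv.symm_apply_apply]
  have hbd : Function.Surjective bd := by
    intro x₁
    obtain ⟨x₃, hx₃⟩ := Ext.covariant_sequence_exact₁ N hS x₁ (Ext.eq_zero_of_injective _)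
      (show 0 + 1 = 1 by omega)
    obtain ⟨φ, rfl⟩ := (Ext.mk₀_bijective N S.X₃).2 x₃
    exact ⟨φ.hom, hx₃⟩
  have hΘ : Function.Surjective Θ := by
    intro θ
    obtain ⟨σ, hσ⟩ := exists_lift_δ J S hS h0 N (ModuleCat.ofHom θ)
    refine ⟨((lcι J).app S.X₃).hom ∘ₗ σ.hom, ?_⟩
    rw [hΘ_apply]
    exact congrArg ModuleCat.Hom.hom hσ
  have hnat : (localCohomology J 0).map S.g ≫ (lcι J).app S.X₃ = (lcι J).app S.X₂ ≫ S.g := by
    have := (lcι J).naturality S.g
    simpa only [Functor.id_obj, Functor.id_map] using this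
  have hker : LinearMap.ker bd = LinearMap.ker Θ := by
    ext φ
    rw [LinearMap.mem_ker, LinearMap.mem_ker, hbd_apply]
    constructor
    · intro h
      obtain ⟨x₂, hx₂⟩ := Ext.covariant_sequence_exact₃ N hS _ (show 0 + 1 = 1 by omega) h
      obtain ⟨χ, rfl⟩ := (Ext.mk₀_bijective N S.X₂).2 x₂
      rw [Ext.mk₀_comp_mk₀] at hx₂
      have hχ : χ ≫ S.g = ModuleCat.ofHom φ := (Ext.mk₀_bijective _ _).1 hx₂
      obtain ⟨τ, hτ⟩ := exists_fac J N S.X₂ hN χ
      have hφ : φ = ((lcι J).app S.X₃).hom ∘ₗ (τ ≫ (localCohomology J 0).map S.g).hom := by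
        have : ModuleCat.ofHom φ = (τ ≫ (localCohomology J 0).map S.g) ≫ (lcι J).app S.X₃ := by
          rw [Category.assoc, hnat, ← Category.assoc, hτ, hχ]
        exact congrArg ModuleCat.Hom.hom this
      rw [hφ, hΘ_apply]
      have : (τ ≫ (localCohomology J 0).map S.g) ≫ lcδ J S hS 0 = 0 := by
        rw [Category.assoc, lc_w₃, comp_zero]
      exact congrArg ModuleCat.Hom.hom this
    · intro h
      obtain ⟨σ, hσ⟩ := exists_fac J N S.X₃ hN (ModuleCat.ofHom φ)
      have hφ : φ = ((lcι J).app S.X₃).hom ∘ₗ σ.hom := (congrArg ModuleCat.Hom.hom hσ).symm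
      rw [hφ, hΘ_apply] at h
      have hσδ : σ ≫ lcδ J S hS 0 = 0 := by
        apply ModuleCat.hom_ext
        exact h
      obtain ⟨τ, hτ⟩ := exists_lift_of_comp_δ_eq_zero J S hS h0 N σ hσδ
      have h1 : ModuleCat.ofHom φ = (τ ≫ (lcι J).app S.X₂) ≫ S.g := by
        rw [Category.assoc, ← hnat, ← Category.assoc, hτ, hσ]
      rw [h1, ← Ext.mk₀_comp_mk₀, Ext.comp_assoc_of_second_deg_zero, hS.comp_extClass,
        Ext.comp_zero]
  exact ⟨(LinearMap.quotKerEquivOfSurjective bd hbd).symm ≪≫ₗ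
    (Submodule.quotEquivOfEq _ _ hker) ≪≫ₗ (LinearMap.quotKerEquivOfSurjective Θ hΘ)⟩

/-- **`Ext` into a module with injective lower local cohomology**. -/
theorem nonempty_ext_equiv_hom (n : ℕ) : ∀ (G : ModuleCat.{u} R),
    (∀ j, j < n → Injective ((localCohomology J j).obj G)) →
    ∀ (N : ModuleCat.{u} R), IsTors J N →
    Nonempty (Ext N G n ≃ₗ[R] (N →ₗ[R] (localCohomology J n).obj G)) := by
  induction n with
  | zero =>
    intro G _ N hN
    exact ⟨((Ext.linearEquiv₀ (R := R)).trans ModuleCat.homLinearEquiv).trans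
      (facEquiv J N G hN).symm⟩
  | succ n ih =>
    intro G hG N hN
    let S : ShortComplex (ModuleCat.{u} R) :=
      ShortComplex.mk (Injective.ι G) (cokernel.π (Injective.ι G)) (cokernel.condition _)
    have hS : S.ShortExact :=
      { exact := ShortComplex.exact_cokernel _
        mono_f := inferInstanceAs (Mono (Injective.ι G))
        epi_g := inferInstanceAs (Epi (cokernel.π (Injective.ι G))) }
    have hI : Injective S.X₂ := inferInstanceAs (Injective (Injective.under G))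
    rcases n with _ | m
    · exact nonempty_ext_one_equiv J S hS (hG 0 (by omega)) N hN
    · have hC : ∀ j, j < m + 1 → Injective ((localCohomology J j).obj S.X₃) := by
        intro j hj
        rcases Nat.eq_zero_or_pos j with rfl | hj0
        · exact injective_lc_zero_X₃' J S hS (hG 0 (by omega)) (hG 1 (by omega))
        · obtain ⟨j, rfl⟩ : ∃ j', j = j' + 1 := ⟨j - 1, by omega⟩
          have := isIso_lcδ_succ J S hS j
          exact Injective.of_iso (asIso (lcδ J S hS (j + 1))).symm (hG (j + 1 + 1) (by omega))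
      obtain ⟨e1⟩ := ih S.X₃ hC N hN
      obtain ⟨e2⟩ := nonempty_ext_shift_cov S hS N m
      have := isIso_lcδ_succ J S hS m
      let e3 : (localCohomology J (m + 1)).obj S.X₃ ≃ₗ[R] (localCohomology J (m + 1 + 1)).obj S.X₁ :=
        (asIso (lcδ J S hS (m + 1))).toLinearEquiv
      exact ⟨e2.symm.trans (e1.trans (LinearEquiv.congrRight e3))⟩

end

end Groth.Agent.Helper1.GorTop
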