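import Mathlib
import Groth.Agent.Helper1.CanonH
import Groth.Agent.Helper1.CanonB
import Groth.Agent.Helper1.GorTopF
import Groth.Agent.Helper1.LocCohTors
import Groth.Agent.Helper6.ExtFin
import Groth.Agent.S0302

set_option autoImplicit false

/-!
# Canonical modules over a Cohen–Macaulay local ring: `R ≅ End(K)`
-/

namespace Groth.Agent.Helper1.Canon
open CategoryTheory Limits Opposite IsLocalRing Abelian Groth.Agent.Helper1.LocCohDelta

universe u

variable {R : Type u} [CommRing R] [LocCoh.IsCohenMacaulayLocalRing R]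
  (n : ℕ) (hn : ringKrullDim R = n)
  (E : Type u) [AddCommGroup E] [Module R E] (f : ResidueField R →ₗ[R] E)
  (hf : InjHull.IsInjectiveHull f)
  (K : Type u) [AddCommGroup K] [Module R K] [Module.Finite R K]
  (eK : (K →ₗ[R] E) ≃ₗ[R] LocCoh.H (maximalIdeal R) n R)

omit [LocCoh.IsCohenMacaulayLocalRing R] in
lemma isTors_residueField [IsLocalRing R] :
    IsTors (maximalIdeal R) (ModuleCat.of R (R ⧸ maximalIdeal R)) := by
  intro x
  refine ⟨1, fun a ha => ?_⟩
  rw [pow_one] at ha
  exact Groth.Agent.Helper6.Bass.smul_quot_eq_zero (maximalIdeal R) a ha x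

include hn hf eK

/-- `Ext^n(k, K)` is simple -/
lemma isSimpleModule_ext_residueField :
    IsSimpleModule R (Ext (ModuleCat.of R (R ⧸ maximalIdeal R)) (ModuleCat.of R K) n) := by
  haveI := hf.isInjective
  obtain ⟨hinj, -, hsimple⟩ := (Groth.Agent.S5155.result R E).1 ⟨f, hf⟩
  obtain ⟨e⟩ := cm_dual n hn E f hf K eK n 0 (by omega) (R ⧸ maximalIdeal R)
  have e0 := lcZeroEquivOfIsTors (maximalIdeal R) (ModuleCat.of R (R ⧸ maximalIdeal R))
    isTors_residueField
  haveI : Module.Finite R (Ext (ModuleCat.of R (R ⧸ maximalIdeal R)) (ModuleCat.of R K) n) :=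
    Groth.Agent.Helper6.ExtFin.finite_ext K n (R ⧸ maximalIdeal R)
  have hfl : IsFiniteLength R (Ext (ModuleCat.of R (R ⧸ maximalIdeal R)) (ModuleCat.of R K) n) := by
    apply LDual.isFiniteLength_of_pow_kill _ 1
    intro a ha x
    rw [pow_one] at ha
    exact LDual.smul_ext_eq_zero a
      (fun y => Groth.Agent.Helper6.Bass.smul_quot_eq_zero (maximalIdeal R) a ha y) n x
  rw [← Module.length_eq_one_iff,
    ← Groth.Agent.Helper2.MatlisLen.key hsimple hinj _ hfl, ← e.length_eq, e0.length_eq,
    Module.length_eq_one_iff]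
  exact isSimpleModule_iff_isCoatom.2 (Ideal.isMaximal_def.1 (maximalIdeal.isMaximal R))

/-- `H^n_𝔪(K)` is injective -/
lemma injective_lc_canon :
    Module.Injective R ((localCohomology (maximalIdeal R) n).obj (ModuleCat.of R K)) := by
  have hid := hasInjectiveDimensionLT_canon n hn E f hf K eK
  have : Injective ((localCohomology (maximalIdeal R) n).obj (ModuleCat.of R K)) := by
    rcases n with _ | m
    · have : Injective (ModuleCat.of R K) :=
        injective_iff_hasInjectiveDimensionLT_one.2 hid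
      exact GorTop.injective_lc_zero (maximalIdeal R) (ModuleCat.of R K)
    · exact GorTop.injective_lc (maximalIdeal R) m (ModuleCat.of R K) hid
        (fun j _ hj => isZero_lc_canon (m + 1) hn E f hf K eK j hj)
        (isZero_lc_canon (m + 1) hn E f hf K eK 0 (by omega)).injective
  exact Module.injective_module_of_injective_object R _

/-- `H^n_𝔪(K)` is an injective hull of the residue field -/
lemma nonempty_lc_canon_equiv :
    Nonempty (E ≃ₗ[R] (localCohomology (maximalIdeal R) n).obj (ModuleCat.of R K)) := by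
  have hinj := injective_lc_canon n hn E f hf K eK
  have htors := LocCohTors.isPowerTorsion (maximalIdeal R) n (ModuleCat.of R K)
  have hG : ∀ j, j < n →
      Injective ((localCohomology (maximalIdeal R) j).obj (ModuleCat.of R K)) :=
    fun j hj => (isZero_lc_canon n hn E f hf K eK j hj).injective
  obtain ⟨e1⟩ := GorTop.nonempty_ext_equiv_hom (maximalIdeal R) n (ModuleCat.of R K) hG
    (ModuleCat.of R (R ⧸ maximalIdeal R)) isTors_residueField
  have hs := isSimpleModule_ext_residueField n hn E f hf K eK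
  have hs' : IsSimpleModule R (ResidueField R →ₗ[R]
      (localCohomology (maximalIdeal R) n).obj (ModuleCat.of R K)) :=
    IsSimpleModule.congr e1.symm
  obtain ⟨g, hg⟩ := (Groth.Agent.S5155.result R _).2 ⟨hinj, htors, hs'⟩
  obtain ⟨e, -⟩ := Groth.Agent.S0302.result R (ResidueField R) E _ f hf g hg
  exact ⟨e⟩

/-- `End(K) ≅ R` as modules -/
lemma nonempty_end_equiv : Nonempty ((K →ₗ[R] K) ≃ₗ[R] R) := by
  obtain ⟨e1⟩ := nonempty_lc_canon_equiv n hn E f hf K eK
  obtain ⟨e2⟩ := cm_dual n hn E f hf K eK 0 n (by omega) K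
  let e3 : Ext (ModuleCat.of R K) (ModuleCat.of R K) 0 ≃ₗ[R] (K →ₗ[R] K) :=
    (Ext.linearEquiv₀ (R := R)).trans ModuleCat.homLinearEquiv
  haveI : IsNoetherian R K := inferInstance
  haveI : IsNoetherian R (K →ₗ[R] K) := isNoetherian_linearMap R K K
  exact nonempty_equiv_self_of_dual E f hf (K →ₗ[R] K)
    ((LinearEquiv.congrLeft E R e3.symm).trans (e2.symm.trans e1.symm))

/-- **`R → End(K)` is bijective** -/
theorem bijective_toEnd : Function.Bijective (fun r : R => r • (LinearMap.id : K →ₗ[R] K)) := by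
  obtain ⟨e⟩ := nonempty_end_equiv n hn E f hf K eK
  set g₀ : K →ₗ[R] K := e.symm 1 with hg₀
  have hgen : ∀ g : K →ₗ[R] K, g = e g • g₀ := by
    intro g
    apply e.injective
    rw [map_smul, hg₀, LinearEquiv.apply_symm_apply, smul_eq_mul, mul_one]
  set c := e LinearMap.id with hc
  set d := e (g₀ ∘ₗ g₀) with hd
  have h1 : g₀ = (c * d) • g₀ := by
    have h2 : g₀ = g₀ ∘ₗ (LinearMap.id : K →ₗ[R] K) := rfl
    rw [hgen LinearMap.id, LinearMap.comp_smul, hgen (g₀ ∘ₗ g₀), smul_smul] at h2
    exact h2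
  have hcd : c * d = 1 := by
    have := congrArg e h1
    rw [map_smul, hg₀, LinearEquiv.apply_symm_apply, smul_eq_mul, mul_one] at this
    exact this.symm
  have hfun : (fun r : R => r • (LinearMap.id : K →ₗ[R] K)) = fun r => e.symm (r * c) := by
    funext r
    apply e.injective
    rw [map_smul, LinearEquiv.apply_symm_apply, smul_eq_mul]
  rw [hfun]
  refine e.symm.bijective.comp ⟨fun r s h => ?_, fun r => ⟨r * d, ?_⟩⟩
  · have := congrArg (· * d) h
    simpa [mul_assoc, hcd] using this
  · show r * d * c = r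
    rw [mul_assoc, mul_comm d c, hcd, mul_one]

end Groth.Agent.Helper1.Canon
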