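import Groth.Agent.Helper1.CohTopCech

/-!
# Cartan's criterion and surjectivity of sections from vanishing of `Ȟ¹`
-/

namespace Groth.Agent.Helper1.Cartan

open CategoryTheory Limits Opposite TopologicalSpace Abelian
open Groth.Agent.Lead.CohTopB
open Groth.Agent.Helper1.DeltaCmp
open Groth.Agent.Helper1.Cech
open Groth.Agent.Helper1.CechTop
open Groth.Agent.Helper1.CohTopExt
open Groth.Agent.Helper1.CohTopCech

universe u

variable {X : TopCat.{u}}

section core

variable (S : ShortComplex (CohTop.Ab X)) (hS : S.ShortExact) (T : Opens X) {κ : Type u}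
  (W : κ → Opens X) (hT : ∀ k, W k ≤ T) (hcover : T ≤ iSup W)

/-- the maps of Čech complexes -/
noncomputable abbrev fC : cx W S.X₁.obj ⟶ cx W S.X₂.obj := (cechComplexFunctor W).map S.f.hom
/-- the maps of Čech complexes -/
noncomputable abbrev gC : cx W S.X₂.obj ⟶ cx W S.X₃.obj := (cechComplexFunctor W).map S.g.hom

include hS in
lemma fC_injective (n : ℕ) : Function.Injective ((fC S W).f n) := by
  have := hS.mono_f
  exact map_injective_of S.f.hom n (fun x => injective_app_of_mono S.f _)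

include hS in
lemma fC_exact (n : ℕ) (c : (cx W S.X₂.obj).X n) (hc : (gC S W).f n c = 0) :
    ∃ c' : (cx W S.X₁.obj).X n, (fC S W).f n c' = c := by
  have := hS.mono_f
  exact map_exact_of (S.map (sheafToPresheaf _ _)) n
    (fun x y hy => TopCat.Sheaf.sections_exact_of_left_exact hS.1 hS.2 y hy) c hc

lemma gC_fC (n : ℕ) (c : (cx W S.X₁.obj).X n) : (gC S W).f n ((fC S W).f n c) = 0 := by
  rw [← ConcreteCategory.comp_apply, ← HomologicalComplex.comp_f, ← Functor.map_comp]
  have : S.f.hom ≫ S.g.hom = 0 := by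
    rw [← ObjectProperty.FullSubcategory.comp_hom, S.zero]
    rfl
  rw [this, Functor.map_zero]
  rfl

include hS hcover in
theorem core (hz : IsZero (CohTop.cechH S.X₁.obj W 1)) (q : S.X₃.obj.obj (op T))
    (t : ∀ k, S.X₂.obj.obj (op (W k)))
    (ht : ∀ k, S.g.hom.app (op (W k)) (t k) = S.X₃.obj.map (homOfLE (hT k)).op q) :
    ∃ a : S.X₂.obj.obj (op T), S.g.hom.app (op T) a = q := by
  -- the 0-cochain of local lifts
  let s : (cx W S.X₂.obj).X 0 :=
    Cech.mk (fun y => S.X₂.obj.map (homOfLE (prodU_le W y 0)).op (t (y 0)))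
  have hs1 : (gC S W).f 0 s = aug W S.X₃.obj T hT q := by
    apply ext_rc
    intro y
    rw [rc_map, rc_aug, rc_self, comp_mk]
    have h1 := NatTrans.naturality_apply S.g.hom (homOfLE (prodU_le W y 0)).op (t (y 0))
    rw [h1, ht, ← ConcreteCategory.comp_apply, ← S.X₃.obj.map_comp]
    rfl
  have hs2 : (gC S W).f 1 ((cx W S.X₂.obj).d 0 1 s) = 0 := by
    have := ConcreteCategory.congr_hom ((gC S W).comm 0 1) s
    rw [ConcreteCategory.comp_apply, ConcreteCategory.comp_apply] at this
    rw [← this, hs1, d_aug]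
  obtain ⟨c, hc⟩ := fC_exact S hS W 1 _ hs2
  have hc2 : (cx W S.X₁.obj).d 1 2 c = 0 := by
    apply fC_injective S hS W 2
    have := ConcreteCategory.congr_hom ((fC S W).comm 1 2) c
    rw [ConcreteCategory.comp_apply, ConcreteCategory.comp_apply] at this
    rw [← this, hc, map_zero, ← ConcreteCategory.comp_apply, HomologicalComplex.d_comp_d]
    rfl
  obtain ⟨b, hb⟩ := exists_of_isZero_homology _ 0 hz c hc2
  let s' : (cx W S.X₂.obj).X 0 := s - (fC S W).f 0 b
  have hs' : (cx W S.X₂.obj).d 0 1 s' = 0 := by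
    have := ConcreteCategory.congr_hom ((fC S W).comm 0 1) b
    rw [ConcreteCategory.comp_apply, ConcreteCategory.comp_apply] at this
    show (cx W S.X₂.obj).d 0 1 (s - (fC S W).f 0 b) = 0
    have hb' : (cx W S.X₁.obj).d 0 1 b = c := hb
    rw [map_sub, this, hb', hc, sub_self]
  obtain ⟨a, ha⟩ := exists_aug_of_cocycle' S.X₂ T hT hcover s' hs'
  refine ⟨a, ?_⟩
  apply aug_injective' S.X₃ T hT hcover
  rw [← aug_map hT S.g.hom a, ha]
  show (gC S W).f 0 (s - (fC S W).f 0 b) = _
  rw [map_sub, gC_fC, sub_zero, hs1]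

end core

/-- Sections of `X₂` map onto sections of `X₃` over `U` as soon as every open covering of `U` has
a refinement with vanishing `Ȟ¹(-, X₁)`. -/
theorem surjective_of_refine (S : ShortComplex (CohTop.Ab X)) (hS : S.ShortExact) (U : Opens X)
    (h : ∀ (ι : Type u) (V : ι → Opens X), iSup V = U →
      ∃ (κ : Type u) (W : κ → Opens X) (r : κ → ι), iSup W = U ∧ (∀ k, W k ≤ V (r k)) ∧
        IsZero (CohTop.cechH S.X₁.obj W 1)) :
    Function.Surjective (S.g.hom.app (op U)) := by
  intro q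
  have hls := (TopCat.Sheaf.isLocallySurjective_iff_epi S.g).mpr hS.epi_g
  have hloc := (TopCat.Presheaf.isLocallySurjective_iff S.g.hom).mp hls U q
  choose V hV ht hxV using hloc
  choose t ht using ht
  obtain ⟨κ, W, r, hW, hWV, hz⟩ := h U (fun x => V x.1 x.2) (by
    apply le_antisymm
    · exact iSup_le fun x => hV x.1 x.2
    · intro x hx
      exact Opens.mem_iSup.mpr ⟨⟨x, hx⟩, hxV x hx⟩)
  have hT : ∀ k, W k ≤ U := fun k => (hWV k).trans (hV _ _)
  refine core S hS U W hT hW.ge hz q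
    (fun k => S.X₂.obj.map (homOfLE (hWV k)).op (t (r k).1 (r k).2)) ?_
  intro k
  have h1 := NatTrans.naturality_apply S.g.hom (homOfLE (hWV k)).op (t (r k).1 (r k).2)
  rw [h1, ht]
  show S.X₃.obj.map _ (S.X₃.obj.map _ q) = _
  rw [← ConcreteCategory.comp_apply, ← S.X₃.obj.map_comp]
  rfl

/-- the class of sheaves all of whose higher Čech cohomology groups vanish -/
def CechAcyclic (F : CohTop.Ab X) : Prop :=
  ∀ (ι : Type u) (U : ι → Opens X) (p : ℕ), IsZero (CohTop.cechH F.obj U (p + 1))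

lemma surjective_of_cechAcyclic (S : ShortComplex (CohTop.Ab X)) (hS : S.ShortExact)
    (h : CechAcyclic S.X₁) (U : Opens X) : Function.Surjective (S.g.hom.app (op U)) :=
  surjective_of_refine S hS U (fun ι V hV => ⟨ι, V, id, hV, fun _ => le_rfl, h ι V 0⟩)

lemma cechAcyclic_X₃ (S : ShortComplex (CohTop.Ab X)) (hS : S.ShortExact)
    (h : CechAcyclic S.X₁) [Injective S.X₂] : CechAcyclic S.X₃ := by
  intro ι U p
  have hsec : SectionwiseExact U (S.map (sheafToPresheaf _ _)) :=
    fun m x => shortExact_sections hS _ (surjective_of_cechAcyclic S hS h _)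
  have hC := shortExact_map_cech hsec
  have hex := hC.homology_exact₃ (p + 1) (p + 2) rfl
  exact hex.isZero_X₂ ((isZero_cech_of_injective U S.X₂ p).eq_of_src _ _)
    ((h ι U (p + 1)).eq_of_tgt _ _)

/-- Cartan's criterion -/
theorem cartan (p : ℕ) : ∀ (F : CohTop.Ab X), CechAcyclic F → ∀ (U : Opens X),
    Subsingleton (Ext (freeU U) F (p + 1)) := by
  induction p with
  | zero =>
    intro F hF U
    refine subsingleton_of_forall_eq 0 (fun x => ?_)
    obtain ⟨S, hS, hI, rfl⟩ : ∃ (S : ShortComplex (CohTop.Ab X)) (_ : S.ShortExact)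
        (_ : Injective S.X₂), S.X₁ = F := ⟨injSC F, injSC_shortExact F, inferInstance, rfl⟩
    have h0 : x.comp (Ext.mk₀ S.f) (add_zero 1) = 0 := Ext.eq_zero_of_injective _
    obtain ⟨x₃, hx₃⟩ := Ext.covariant_sequence_exact₁ _ hS x h0 (zero_add 1)
    obtain ⟨q, rfl⟩ := (Ext.mk₀_bijective _ S.X₃).2 x₃
    obtain ⟨t, ht⟩ := surjective_of_cechAcyclic S hS hF U (homEquiv U _ q)
    have hq : (homEquiv U _).symm t ≫ S.g = q := by
      apply (homEquiv U _).injective
      rw [homEquiv_comp, Equiv.apply_symm_apply]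
      exact ht
    rw [← hx₃, ← hq, ← Ext.mk₀_comp_mk₀, Ext.comp_assoc_of_second_deg_zero,
      hS.comp_extClass, Ext.comp_zero]
  | succ p ih =>
    intro F hF U
    refine subsingleton_of_forall_eq 0 (fun x => ?_)
    obtain ⟨S, hS, hI, rfl⟩ : ∃ (S : ShortComplex (CohTop.Ab X)) (_ : S.ShortExact)
        (_ : Injective S.X₂), S.X₁ = F := ⟨injSC F, injSC_shortExact F, inferInstance, rfl⟩
    have h0 : x.comp (Ext.mk₀ S.f) (add_zero _) = 0 := Ext.eq_zero_of_injective _
    obtain ⟨x₃, hx₃⟩ := Ext.covariant_sequence_exact₁ _ hS x h0 rfl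
    have := ih S.X₃ (cechAcyclic_X₃ S hS hF) U
    rw [← hx₃, Subsingleton.elim x₃ 0, Ext.zero_comp]

end Groth.Agent.Helper1.Cartan
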