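import Groth.Agent.Helper1.TensSec5

set_option autoImplicit false

/-!
# Sections over the preimage of an affine open under an affine base change: ring-level pushout
-/

namespace Groth.Agent.Helper1.CechBC

open CategoryTheory Limits Opposite TopologicalSpace AlgebraicGeometry TensorProduct
open Groth.Agent.Helper1.TensSec

universe u

section rho

variable (A : Type u) [CommRing A] {X : Scheme.{u}} [X.Over (Spec (CommRingCat.of A))]

/-- the structure map `A → Γ(X, U)` through the open subscheme `U` -/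
lemma comm_rho (U : X.Opens) :
    (U.ι ≫ (X ↘ Spec (CommRingCat.of A))).appTop ≫ U.topIso.hom =
      (Scheme.ΓSpecIso (CommRingCat.of A)).hom ≫ CommRingCat.ofHom (ρV A U) := by
  rw [← cancel_epi (Scheme.ΓSpecIso (CommRingCat.of A)).inv, Iso.inv_hom_id_assoc]
  have key : Scheme.Hom.appTop U.ι ≫ U.topIso.hom =
      X.presheaf.map (homOfLE (le_top : U ≤ ⊤)).op := by
    rw [Scheme.Opens.ι_appTop, Scheme.Opens.topIso_hom]
    exact (X.presheaf.map_comp (homOfLE (le_top : U.ι ''ᵁ ⊤ ≤ ⊤)).op
      (eqToHom U.ι_image_top.symm).op).symm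
  ext a
  unfold ρV Coh.resTop Coh.toGlobal
  simp only [Scheme.Hom.comp_appTop, Category.assoc, key]
  rfl

end rho

section pushout

variable (A A' : Type u) [CommRing A] [CommRing A'] [Algebra A A'] {X X' : Scheme.{u}}
  [X.Over (Spec (CommRingCat.of A))] [X'.Over (Spec (CommRingCat.of A'))] (g' : X' ⟶ X)
  (hsq : IsPullback g' (X' ↘ Spec (CommRingCat.of A')) (X ↘ Spec (CommRingCat.of A))
    (Spec.map (CommRingCat.ofHom (algebraMap A A'))))

set_option backward.isDefEq.respectTransparency false in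
include hsq in
/-- `Γ(X', g'⁻¹U) = A' ⊗_A Γ(X, U)` for `U` affine -/
theorem isPushout_sections (U : X.Opens) (hU : IsAffineOpen U) :
    IsPushout (CommRingCat.ofHom (ρV A U)) (CommRingCat.ofHom (algebraMap A A'))
      (g'.appLE U (g' ⁻¹ᵁ U) le_rfl) (CommRingCat.ofHom (ρV A' (g' ⁻¹ᵁ U))) := by
  have h := (isPullback_morphismRestrict g' U).paste_vert hsq
  haveI : IsAffine U.toScheme := hU
  have hp := isPushout_appTop_of_isPullback h
  refine hp.of_iso (Scheme.ΓSpecIso (CommRingCat.of A)) U.topIso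
    (Scheme.ΓSpecIso (CommRingCat.of A')) (g' ⁻¹ᵁ U).topIso (comm_rho A U) ?_ ?_
    (comm_rho A' (g' ⁻¹ᵁ U))
  · exact Scheme.ΓSpecIso_naturality (CommRingCat.ofHom (algebraMap A A'))
  · rw [morphismRestrict_appTop, Scheme.Opens.topIso_hom, Scheme.Opens.topIso_hom]
    simp only [Scheme.Hom.app_eq_appLE, Scheme.Hom.appLE_map, Scheme.Hom.map_appLE,
      Category.assoc]

end pushout

end Groth.Agent.Helper1.CechBC
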