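import Groth.Agent.Helper1.CechBC1

set_option autoImplicit false

/-!
# Sections of the pulled-back module over the preimage of an affine open: `A' ⊗_A Γ(U, F)`
-/

namespace Groth.Agent.Helper1.CechBC

open CategoryTheory Limits Opposite TopologicalSpace AlgebraicGeometry TensorProduct
open Groth.Agent.Helper1.TensSec Groth.Agent.Lead.BCMap

universe u

section algebra

/-- base change along a pushout square of rings -/
theorem exists_equiv_of_pushout {R S B B' : Type u} [CommRing R] [CommRing S] [CommRing B]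
    [CommRing B'] [Algebra R S] (a : R →+* B) (a' : S →+* B') (b : B →+* B')
    (hpo : IsPushout (CommRingCat.ofHom a) (CommRingCat.ofHom (algebraMap R S))
      (CommRingCat.ofHom b) (CommRingCat.ofHom a'))
    {N N' : Type u} [AddCommGroup N] [Module B N] [AddCommGroup N'] [Module B' N']
    (pb : N →+ N')
    (hbc : letI := b.toAlgebra
      letI : Module B N' := Module.compHom _ b
      haveI : IsScalarTower B B' N' := IsScalarTower.of_compHom _ _ _
      ∃ ρ : N →ₗ[B] N', (∀ m, ρ m = pb m) ∧ IsBaseChange B' ρ) :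
    letI : Module R N := Module.compHom N a
    ∃ h : S ⊗[R] N ≃+ N', ∀ s n, h (s ⊗ₜ n) = a' s • pb n := by
  letI : Algebra R B := a.toAlgebra
  letI : Algebra S B' := a'.toAlgebra
  letI : Algebra B B' := b.toAlgebra
  letI : Algebra R B' := (b.comp a).toAlgebra
  haveI : IsScalarTower R B B' := IsScalarTower.of_algebraMap_eq (fun _ => rfl)
  have hw : ∀ r, b (a r) = a' (algebraMap R S r) := by
    intro r
    have := congrArg (fun k => k.hom r) hpo.w
    exact this
  haveI : IsScalarTower R S B' := IsScalarTower.of_algebraMap_eq (fun r => hw r)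
  have hP : Algebra.IsPushout R B S B' := CommRingCat.isPushout_iff_isPushout.mp hpo
  haveI : Algebra.IsPushout R S B B' := hP.symm
  letI : Module B N' := Module.compHom _ b
  haveI : IsScalarTower B B' N' := IsScalarTower.of_compHom _ _ _
  letI : Module R N := Module.compHom N a
  haveI : IsScalarTower R B N := IsScalarTower.of_compHom _ _ _
  obtain ⟨ρ, hρ, hb⟩ := hbc
  let e1 : B' ⊗[B] N ≃ₗ[B'] N' := hb.equiv
  let e2 : B' ⊗[B] N ≃ₗ[S] S ⊗[R] N := Algebra.IsPushout.cancelBaseChange R S B B' N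
  refine ⟨e2.symm.toAddEquiv.trans e1.toAddEquiv, fun s n => ?_⟩
  show e1 (e2.symm (s ⊗ₜ n)) = a' s • pb n
  rw [Algebra.IsPushout.cancelBaseChange_symm_tmul]
  show hb.equiv (algebraMap S B' s ⊗ₜ n) = a' s • pb n
  rw [IsBaseChange.equiv_tmul, hρ]
  rfl

end algebra

section sections

variable (A A' : Type u) [CommRing A] [CommRing A'] [Algebra A A'] {X X' : Scheme.{u}}
  [X.Over (Spec (CommRingCat.of A))] [X'.Over (Spec (CommRingCat.of A'))] (g' : X' ⟶ X)
  (hsq : IsPullback g' (X' ↘ Spec (CommRingCat.of A')) (X ↘ Spec (CommRingCat.of A))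
    (Spec.map (CommRingCat.ofHom (algebraMap A A'))))

include hsq in
lemma isAffineHom_of_isPullback : IsAffineHom g' :=
  MorphismProperty.of_isPullback (P := @IsAffineHom) hsq.flip inferInstance

variable (F : X.Modules) [F.IsQuasicoherent]

include hsq in
/-- `Γ(g'⁻¹U, g'^*F) = A' ⊗_A Γ(U, F)` for `U` affine -/
theorem exists_secEquiv (U : X.Opens) (hU : IsAffineOpen U) (V : X'.Opens) (hV : V = g' ⁻¹ᵁ U) :
    ∃ h : A' ⊗[A] SecA A F U ≃+ SecA A' ((Scheme.Modules.pullback g').obj F) V,
      ∀ (s : A') (n : SecA A F U), h (s ⊗ₜ n) =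
        s • (show SecA A' ((Scheme.Modules.pullback g').obj F) V from
          pbSec g' F U V hV.le (show Γ(F, U) from n)) := by
  subst hV
  haveI := isAffineHom_of_isPullback A A' g' hsq
  have hV' : IsAffineOpen (g' ⁻¹ᵁ U) := hU.preimage g'
  exact exists_equiv_of_pushout (ρV A U) (ρV A' (g' ⁻¹ᵁ U)) (g'.appLE U (g' ⁻¹ᵁ U) le_rfl).hom
    (isPushout_sections A A' g' hsq U hU) (pbSec g' F U (g' ⁻¹ᵁ U) le_rfl)
    (exists_isBaseChange_pbSec g' F hU hV' le_rfl)

end sections

end Groth.Agent.Helper1.CechBC
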