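import Groth.Agent.Helper1.CechBC2
import Groth.Agent.Helper1.ACech1
import Groth.Agent.Helper1.CechPush
import Groth.Agent.Helper1.FlatCxBC2

set_option autoImplicit false

/-!
# The Čech complex of the pulled-back module is the base change of the Čech complex
-/

namespace Groth.Agent.Helper1.CechBC

open CategoryTheory Limits Opposite TopologicalSpace AlgebraicGeometry TensorProduct
open Groth.Agent.Helper1.TensSec Groth.Agent.Lead.BCMap Groth.Agent.Helper1.Cech
open Groth.Agent.Helper1.ACech Groth.Agent.Helper1.FlatCx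

universe u

section upgrade

lemma exists_linearEquiv_of_addEquiv {R S N N' : Type u} [CommRing R] [CommRing S] [Algebra R S]
    [AddCommGroup N] [Module R N] [AddCommGroup N'] [Module S N'] (pb : N → N')
    (h : S ⊗[R] N ≃+ N') (hh : ∀ s n, h (s ⊗ₜ n) = s • pb n) :
    ∃ hL : S ⊗[R] N ≃ₗ[S] N', ∀ s n, hL (s ⊗ₜ n) = s • pb n := by
  refine ⟨{ h with
    map_smul' := fun s' z => by
      show h (s' • z) = s' • h z
      induction z using TensorProduct.induction_on with
      | zero => rw [smul_zero, map_zero, smul_zero]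
      | tmul s n => rw [TensorProduct.smul_tmul', hh, hh, smul_eq_mul, mul_smul]
      | add x y hx hy => rw [smul_add, map_add, hx, hy, map_add, smul_add] }, hh⟩

end upgrade

variable (A A' : Type u) [CommRing A] [CommRing A'] [Algebra A A'] {X X' : Scheme.{u}}
  [X.Over (Spec (CommRingCat.of A))] [X'.Over (Spec (CommRingCat.of A'))] (g' : X' ⟶ X)
  (hsq : IsPullback g' (X' ↘ Spec (CommRingCat.of A')) (X ↘ Spec (CommRingCat.of A))
    (Spec.map (CommRingCat.ofHom (algebraMap A A'))))
  {ι : Type u} (U : ι → X.Opens)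

/-- the preimage cover -/
abbrev Up : ι → X'.Opens := fun i => g' ⁻¹ᵁ U i

lemma prodU_preimage {n : ℕ} (x : Fin (n + 1) → ι) :
    prodU (Up g' U) x = g' ⁻¹ᵁ prodU U x :=
  le_antisymm (CechPush.prodU_le_map g'.base U (Up g' U) (fun _ => rfl) x)
    (CechPush.map_le_prodU g'.base U (Up g' U) (fun _ => rfl) x)

variable (F : X.Modules) [F.IsQuasicoherent]

/-- `g'^* F` -/
noncomputable abbrev Fp : X'.Modules := (Scheme.Modules.pullback g').obj F

/-- the pullback of sections over `prodU U x` -/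
noncomputable def pbx {n : ℕ} (x : Fin (n + 1) → ι) :
    SecA A F (prodU U x) → SecA A' (Fp g' F) (prodU (Up g' U) x) :=
  fun s => pbSec g' F (prodU U x) (prodU (Up g' U) x) (prodU_preimage g' U x).le
    (show Γ(F, prodU U x) from s)

variable (hx : ∀ (n : ℕ) (x : Fin (n + 1) → ι), IsAffineOpen (prodU U x))

include hsq hx in
lemma exists_hL {n : ℕ} (x : Fin (n + 1) → ι) :
    ∃ hL : A' ⊗[A] SecA A F (prodU U x) ≃ₗ[A'] SecA A' (Fp g' F) (prodU (Up g' U) x),
      ∀ s m, hL (s ⊗ₜ m) = s • pbx A A' g' U F x m := by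
  obtain ⟨h, hh⟩ := exists_secEquiv A A' g' hsq F (prodU U x) (hx n x) (prodU (Up g' U) x)
    (prodU_preimage g' U x)
  exact exists_linearEquiv_of_addEquiv (pbx A A' g' U F x) h hh

variable [Fintype ι] [DecidableEq ι]

/-- the chosen linear equivalences -/
noncomputable def hL {n : ℕ} (x : Fin (n + 1) → ι) :
    A' ⊗[A] SecA A F (prodU U x) ≃ₗ[A'] SecA A' (Fp g' F) (prodU (Up g' U) x) :=
  (exists_hL A A' g' hsq U F hx x).choose

lemma hL_tmul {n : ℕ} (x : Fin (n + 1) → ι) (s : A') (m : SecA A F (prodU U x)) :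
    hL A A' g' hsq U F hx x (s ⊗ₜ m) = s • pbx A A' g' U F x m :=
  (exists_hL A A' g' hsq U F hx x).choose_spec s m

/-- `A' ⊗_A Čⁿ(U, F) ≃ Čⁿ(U', F')` -/
noncomputable def Theta (n : ℕ) : A' ⊗[A] Co A U F n ≃ₗ[A'] Co A' (Up g' U) (Fp g' F) n :=
  (TensorProduct.piRight A A' A' (fun x : Fin (n + 1) → ι => SecA A F (prodU U x))).trans
    (LinearEquiv.piCongrRight (fun x => hL A A' g' hsq U F hx x))

lemma Theta_tmul (n : ℕ) (s : A') (c : Co A U F n) (x : Fin (n + 1) → ι) :
    Theta A A' g' hsq U F hx n (s ⊗ₜ c) x = s • pbx A A' g' U F x (c x) := by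
  unfold Theta
  rw [LinearEquiv.trans_apply, LinearEquiv.piCongrRight_apply, TensorProduct.piRight_apply,
    TensorProduct.piRightHom_tmul, hL_tmul]

omit [F.IsQuasicoherent] [Fintype ι] [DecidableEq ι] in
lemma pbx_add {n : ℕ} (x : Fin (n + 1) → ι) (m m' : SecA A F (prodU U x)) :
    pbx A A' g' U F x (m + m') = pbx A A' g' U F x m + pbx A A' g' U F x m' :=
  map_add (pbSec g' F (prodU U x) (prodU (Up g' U) x) (prodU_preimage g' U x).le) _ _

omit [F.IsQuasicoherent] [Fintype ι] [DecidableEq ι] in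
lemma pbx_res {n : ℕ} (j : Fin (n + 2)) (x : Fin (n + 2) → ι)
    (m : SecA A F (prodU U (x ∘ j.succAbove))) :
    pbx A A' g' U F x (resA A F (face U j x) m) =
      resA A' (Fp g' F) (face (Up g' U) j x) (pbx A A' g' U F (x ∘ j.succAbove) m) := by
  exact pbSec_res g' F (prodU_preimage g' U (x ∘ j.succAbove)).le (prodU_preimage g' U x).le
    (face U j x).le (face (Up g' U) j x).le (show Γ(F, prodU U (x ∘ j.succAbove)) from m)

/-- `pbx` as an additive map -/
noncomputable def pbxH {n : ℕ} (x : Fin (n + 1) → ι) :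
    SecA A F (prodU U x) →+ SecA A' (Fp g' F) (prodU (Up g' U) x) where
  toFun := pbx A A' g' U F x
  map_zero' := map_zero (pbSec g' F (prodU U x) (prodU (Up g' U) x) (prodU_preimage g' U x).le)
  map_add' := pbx_add A A' g' U F x

lemma Theta_d (n : ℕ) (z : A' ⊗[A] Co A U F n) :
    Theta A A' g' hsq U F hx (n + 1) ((dA A U F n).lTensor A' z) =
      dA A' (Up g' U) (Fp g' F) n (Theta A A' g' hsq U F hx n z) := by
  induction z using TensorProduct.induction_on with
  | zero => rw [map_zero, map_zero, map_zero, map_zero]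
  | tmul s c =>
    funext x
    rw [LinearMap.lTensor_tmul, Theta_tmul, dA_apply, dA_apply]
    have h1 : pbx A A' g' U F x (∑ j : Fin (n + 2), (-1 : ℤ) ^ (j : ℕ) •
        resA A F (face U j x) (c (x ∘ j.succAbove))) =
        ∑ j : Fin (n + 2), (-1 : ℤ) ^ (j : ℕ) •
          pbx A A' g' U F x (resA A F (face U j x) (c (x ∘ j.succAbove))) := by
      have := map_sum (pbxH A A' g' U F x) (fun j : Fin (n + 2) => (-1 : ℤ) ^ (j : ℕ) •
        resA A F (face U j x) (c (x ∘ j.succAbove))) Finset.univ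
      refine this.trans (Finset.sum_congr rfl fun j _ => ?_)
      exact map_zsmul (pbxH A A' g' U F x) _ _
    rw [h1, Finset.smul_sum]
    refine Finset.sum_congr rfl fun j _ => ?_
    rw [pbx_res, Theta_tmul, map_smul, smul_comm]
  | add z z' hz hz' => rw [map_add, map_add, hz, hz', map_add, map_add]

end Groth.Agent.Helper1.CechBC
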