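import Groth.Agent.Helper1.CechBC3

set_option autoImplicit false

/-!
# The isomorphism of complexes `A' ⊗_A Č(U, F) ≅ Č(U', F')`
-/

namespace Groth.Agent.Helper1.CechBC

open CategoryTheory Limits Opposite TopologicalSpace AlgebraicGeometry TensorProduct
open Groth.Agent.Helper1.TensSec Groth.Agent.Lead.BCMap Groth.Agent.Helper1.Cech
open Groth.Agent.Helper1.ACech Groth.Agent.Helper1.FlatCx

universe u

variable (A A' : Type u) [CommRing A] [CommRing A'] [Algebra A A'] {X X' : Scheme.{u}}
  [X.Over (Spec (CommRingCat.of A))] [X'.Over (Spec (CommRingCat.of A'))] (g' : X' ⟶ X)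
  (hsq : IsPullback g' (X' ↘ Spec (CommRingCat.of A')) (X ↘ Spec (CommRingCat.of A))
    (Spec.map (CommRingCat.ofHom (algebraMap A A'))))
  {ι : Type u} (U : ι → X.Opens) (F : X.Modules) [F.IsQuasicoherent]
  (hx : ∀ (n : ℕ) (x : Fin (n + 1) → ι), IsAffineOpen (prodU U x))
  [Fintype ι] [DecidableEq ι]

/-- the components -/
noncomputable def compEquiv (n : ℕ) :
    ((ModuleCat.extendScalars (algebraMap A A')).obj (ModuleCat.of A (Co A U F n))) ≃ₗ[A']
      Co A' (Up g' U) (Fp g' F) n :=
  (extendScalarsEquiv (S := A') (ModuleCat.of A (Co A U F n))).trans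
    (Theta A A' g' hsq U F hx n)

/-- **the Čech complex of `g'^*F` on the preimage cover is the base change of the Čech complex** -/
noncomputable def cxIso :
    CohIII.bcCx (algebraMap A A') (CA A U F) ≅ CA A' (Up g' U) (Fp g' F) :=
  HomologicalComplex.Hom.isoOfComponents
    (fun n => (compEquiv A A' g' hsq U F hx n).toModuleIso)
    (by
      intro i j hij
      obtain rfl : i + 1 = j := hij
      rw [CA_d]
      have hd : (CohIII.bcCx (algebraMap A A') (CA A U F)).d i (i + 1) =
          (ModuleCat.extendScalars (algebraMap A A')).map (ModuleCat.ofHom (dA A U F i)) := by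
        show (ModuleCat.extendScalars (algebraMap A A')).map ((CA A U F).d i (i + 1)) = _
        exact congrArg _ (CA_d A U F i)
      rw [hd]
      ext z
      show dA A' (Up g' U) (Fp g' F) i (compEquiv A A' g' hsq U F hx i z) =
        compEquiv A A' g' hsq U F hx (i + 1)
          (((ModuleCat.extendScalars (algebraMap A A')).map (ModuleCat.ofHom (dA A U F i))).hom z)
      unfold compEquiv
      rw [LinearEquiv.trans_apply, LinearEquiv.trans_apply, extendScalarsEquiv_map, ← Theta_d]
      rfl)

end Groth.Agent.Helper1.CechBC
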