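import Groth.Agent.Helper1.FlatCxBasic

set_option autoImplicit false

/-!
# A quasi-isomorphism between complexes of flat modules, acyclic below some degree after every
tensor product, stays a quasi-isomorphism after tensoring
-/

namespace Groth.Agent.Helper1.FlatCx

open CategoryTheory CategoryTheory.Limits MonoidalCategory

universe u

variable {A : Type u} [CommRing A] {ι : Type} {c : ComplexShape ι}
  {L P : HomologicalComplex (ModuleCat.{u} A) c} (f : L ⟶ P)

/-- the natural transformation `L ⊗ - ⟶ P ⊗ -` induced by `f : L ⟶ P` -/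
noncomputable def tensorNat : tensorFunctor L ⟶ tensorFunctor P where
  app M := ((tensorRight M).mapHomologicalComplex c).map f
  naturality M M' g :=
    ((NatTrans.mapHomologicalComplex ((tensoringRight (ModuleCat.{u} A)).map g) c).naturality f).symm

/-- the natural transformation `T_i^L ⟶ T_i^P` induced by `f : L ⟶ P` -/
noncomputable def tfunNat (i : ι) : CohIII.TFun L i ⟶ CohIII.TFun P i :=
  Functor.whiskerRight (tensorNat f) (HomologicalComplex.homologyFunctor _ c i)

lemma tfunNat_app (i : ι) (M : ModuleCat.{u} A) :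
    (tfunNat f i).app M =
      HomologicalComplex.homologyMap (((tensorRight M).mapHomologicalComplex c).map f) i := rfl

/-- flat base case -/
lemma isIso_tfunNat_of_flat (i : ι) [QuasiIsoAt f i] (M : ModuleCat.{u} A) [Module.Flat A M] :
    IsIso ((tfunNat f i).app M) := by
  have hph : (tensorRight M).PreservesHomology := by
    have h1 : PreservesFiniteLimits (tensorRight M) := inferInstance
    have h2 : PreservesFiniteColimits (tensorRight M) := inferInstance
    have := ((Functor.exact_tfae (tensorRight M)).out 3 2)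
    exact this.mp ⟨h1, h2⟩
  have hq : QuasiIsoAt (((tensorRight M).mapHomologicalComplex c).map f) i := inferInstance
  exact (quasiIsoAt_iff_isIso_homologyMap _ i).1 hq

section LES

variable (hL : ∀ i, Module.Flat A (L.X i)) (hP : ∀ i, Module.Flat A (P.X i))
  {S : ShortComplex (ModuleCat.{u} A)} (hS : S.ShortExact)

lemma δ_tfunNat (i j : ι) (hij : c.Rel i j) :
    δ L hL hS i j hij ≫ (tfunNat f j).app S.X₁ = (tfunNat f i).app S.X₃ ≫ δ P hP hS i j hij :=
  HomologicalComplex.HomologySequence.δ_naturality (S.mapNatTrans (tensorNat f))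
    (shortExact_map_tensorFunctor L hL hS) (shortExact_map_tensorFunctor P hP hS) i j hij

include hL hP hS in
lemma epi_step (i j : ι) (hij : c.Rel i j)
    (h2 : Epi ((tfunNat f i).app S.X₂)) (h3 : Epi ((tfunNat f j).app S.X₁))
    (h4 : Mono ((tfunNat f j).app S.X₂)) : Epi ((tfunNat f i).app S.X₃) := by
  rw [ModuleCat.epi_iff_surjective] at h2 h3 ⊢
  rw [ModuleCat.mono_iff_injective] at h4
  intro y
  -- notation
  have hδ := δ_tfunNat f hL hP hS i j hij
  have e1L := (ShortComplex.moduleCat_exact_iff _).1 (exact₁ L hL hS i j hij)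
  have e3P := (ShortComplex.moduleCat_exact_iff _).1 (exact₃ P hP hS i j hij)
  obtain ⟨x, hx⟩ := h3 ((δ P hP hS i j hij).hom y)
  have hx0 : ((CohIII.TFun L j).map S.f).hom x = 0 := by
    apply h4
    rw [map_zero]
    have := ConcreteCategory.congr_hom ((tfunNat f j).naturality S.f) x
    rw [ConcreteCategory.comp_apply, ConcreteCategory.comp_apply] at this
    refine this.trans ?_
    rw [hx]
    have h0 := ConcreteCategory.congr_hom (δ_comp P hP hS i j hij) y
    rw [ConcreteCategory.comp_apply] at h0
    exact h0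
  obtain ⟨m, hm⟩ := e1L x hx0
  have hm' : (δ P hP hS i j hij).hom (y - ((tfunNat f i).app S.X₃).hom m) = 0 := by
    rw [map_sub, sub_eq_zero, ← hx]
    have := ConcreteCategory.congr_hom hδ m
    rw [ConcreteCategory.comp_apply, ConcreteCategory.comp_apply] at this
    rw [← this]
    exact congrArg _ hm.symm
  obtain ⟨w, hw⟩ := e3P _ hm'
  obtain ⟨w', hw'⟩ := h2 w
  refine ⟨m + ((CohIII.TFun L i).map S.g).hom w', ?_⟩
  rw [map_add]
  have := ConcreteCategory.congr_hom ((tfunNat f i).naturality S.g) w'
  rw [ConcreteCategory.comp_apply, ConcreteCategory.comp_apply] at this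
  change _ + ((tfunNat f i).app S.X₃).hom (((CohIII.TFun L i).map S.g).hom w') = y
  rw [this, hw']
  change _ + ((CohIII.TFun P i).map S.g).hom w = y
  rw [hw]
  abel

include hL hP hS in
lemma mono_step (i j : ι) (hij : c.Rel i j)
    (h1 : Epi ((tfunNat f i).app S.X₁)) (h2 : Mono ((tfunNat f i).app S.X₂))
    (h4 : Mono ((tfunNat f j).app S.X₁)) : Mono ((tfunNat f i).app S.X₃) := by
  rw [ModuleCat.epi_iff_surjective] at h1
  rw [ModuleCat.mono_iff_injective] at h2 h4 ⊢
  rw [injective_iff_map_eq_zero]
  intro m hm
  have hδ := δ_tfunNat f hL hP hS i j hij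
  have e3L := (ShortComplex.moduleCat_exact_iff _).1 (exact₃ L hL hS i j hij)
  have e2P := (ShortComplex.moduleCat_exact_iff _).1 (exact₂ P hP hS i)
  have hδm : (δ L hL hS i j hij).hom m = 0 := by
    apply h4
    rw [map_zero]
    have := ConcreteCategory.congr_hom hδ m
    rw [ConcreteCategory.comp_apply, ConcreteCategory.comp_apply] at this
    refine this.trans ?_
    change (δ P hP hS i j hij).hom (((tfunNat f i).app S.X₃).hom m) = 0
    rw [hm, map_zero]
  obtain ⟨w, hw⟩ := e3L m hδm
  have hw0 : ((CohIII.TFun P i).map S.g).hom (((tfunNat f i).app S.X₂).hom w) = 0 := by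
    have := ConcreteCategory.congr_hom ((tfunNat f i).naturality S.g) w
    rw [ConcreteCategory.comp_apply, ConcreteCategory.comp_apply] at this
    refine this.symm.trans ?_
    change ((tfunNat f i).app S.X₃).hom (((CohIII.TFun L i).map S.g).hom w) = 0
    have hw2 : ((CohIII.TFun L i).map S.g).hom w = m := hw
    rw [hw2, hm]
  obtain ⟨v, hv⟩ := e2P _ hw0
  obtain ⟨v', hv'⟩ := h1 v
  have hwv : w = ((CohIII.TFun L i).map S.f).hom v' := by
    apply h2
    have := ConcreteCategory.congr_hom ((tfunNat f i).naturality S.f) v'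
    rw [ConcreteCategory.comp_apply, ConcreteCategory.comp_apply] at this
    refine Eq.trans ?_ this.symm
    change _ = ((CohIII.TFun P i).map S.f).hom (((tfunNat f i).app S.X₁).hom v')
    rw [hv']
    exact hv.symm
  have hw2 : ((CohIII.TFun L i).map S.g).hom w = m := hw
  rw [← hw2, hwv]
  have h0 : (CohIII.TFun L i).map S.f ≫ (CohIII.TFun L i).map S.g = 0 := by
    rw [← Functor.map_comp, S.zero, Functor.map_zero]
  have := ConcreteCategory.congr_hom h0 v'
  rw [ConcreteCategory.comp_apply] at this
  exact this

end LES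

end Groth.Agent.Helper1.FlatCx
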