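import Groth.Agent.Helper1.CechBC4
import Groth.Agent.Helper1.Bridge2
import Groth.Agent.Helper1.FlatCxQis

set_option autoImplicit false

/-!
# The `ℤ`-indexed Čech complexes under base change; transfer of exactness properties
-/

namespace Groth.Agent.Helper1.CechBC

open CategoryTheory Limits Opposite TopologicalSpace AlgebraicGeometry TensorProduct
open Groth.Agent.Helper1.TensSec Groth.Agent.Helper1.Cech
open Groth.Agent.Helper1.ACech Groth.Agent.Helper1.FlatCx Groth.Agent.Helper1.Bridge
open Groth.Agent.Helper1.NatCech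

universe u

section tfun

variable {A : Type u} [CommRing A] {ι : Type} {c : ComplexShape ι}
  {L P : HomologicalComplex (ModuleCat.{u} A) c}

/-- isomorphic complexes have isomorphic `T`-functors -/
noncomputable def tfunIsoOfIso (θ : L ≅ P) (i : ι) : CohIII.TFun L i ≅ CohIII.TFun P i := by
  haveI : ∀ M, IsIso ((tfunNat θ.hom i).app M) := fun M => by
    rw [tfunNat_app]
    exact (((HomologicalComplex.homologyFunctor (ModuleCat.{u} A) c i).mapIso
      (((MonoidalCategory.tensorRight M).mapHomologicalComplex c).mapIso θ))).isIso_hom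
  haveI : IsIso (tfunNat θ.hom i) := NatIso.isIso_of_isIso_app _
  exact asIso (tfunNat θ.hom i)

end tfun

variable (A A' : Type u) [CommRing A] [CommRing A'] [Algebra A A'] {X X' : Scheme.{u}}
  [X.Over (Spec (CommRingCat.of A))] [X'.Over (Spec (CommRingCat.of A'))] (g' : X' ⟶ X)
  (hsq : IsPullback g' (X' ↘ Spec (CommRingCat.of A')) (X ↘ Spec (CommRingCat.of A))
    (Spec.map (CommRingCat.ofHom (algebraMap A A'))))
  {t : ℕ} (U : Fin t → X.Opens) (hU : ∀ k, IsAffineOpen (U k))
  (hd : ∀ V W : X.Opens, IsAffineOpen V → IsAffineOpen W → IsAffineOpen (V ⊓ W))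
  (F : X.Modules) [F.IsQuasicoherent]

/-- the preimage cover, indexed by `Fin t` -/
abbrev Ut : Fin t → X'.Opens := fun k => g' ⁻¹ᵁ U k

include hsq hU hd in
/-- `A' ⊗_A PZ(U, F) ≅ PZ(U', F')` -/
theorem nonempty_PZ_iso :
    Nonempty (CohIII.bcCx (algebraMap A A') (PZ A U F) ≅ PZ A' (Ut g' U) (Fp g' F)) := by
  classical
  have hx : ∀ (n : ℕ) (x : Fin (n + 1) → ULift.{u} (Fin t)), IsAffineOpen (prodU (Uc U) x) :=
    fun n x => isAffineOpen_prodU U hd hU x
  have θ := cxIso A A' g' hsq (Uc U) F hx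
  exact ⟨ExtMap.iso embNeg (ModuleCat.extendScalars (algebraMap A A')) (CA A (Uc U) F) ≪≫
    (embNeg.extendFunctor _).mapIso θ⟩

end Groth.Agent.Helper1.CechBC
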