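import Groth.Agent.Helper1.CechBasic

/-!
# Čech cohomology of an injective presheaf vanishes in positive degrees

Abstract version: `U : ι → D` a family in a category with finite products, `G : D ⥤ C` a functor,
`I` an injective object of `Cᵒᵖ ⥤ AddCommGrpCat.{w}`.  If for every `V : C` the simplicial set
`n ↦ ⊔_x Hom_C(V, G(U_{x_0} × ⋯ × U_{x_n}))` admits an "extra degeneracy", the Čech complex of
`G.op ⋙ I` is exact in positive degrees.
-/

namespace Groth.Agent.Helper1.CechInj

open CategoryTheory Limits Opposite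
open Groth.Agent.Helper1.Cech

universe w v' v u' u

variable {D : Type u'} [Category.{v'} D] [HasFiniteProducts D] {ι : Type w} (U : ι → D)
variable {C : Type u} [Category.{v} C] [LocallySmall.{w} C] (G : D ⥤ C)

/-- the set `⊔_x Hom(V, G(U_x))` -/
abbrev Sob (n : ℕ) (V : C) : Type w := Σ x : Fin (n + 1) → ι, Shrink.{w} (V ⟶ G.obj (prodU U x))

variable {U G}

/-- constructor for elements of `Sob` -/
noncomputable def mkS {n : ℕ} {V : C} (x : Fin (n + 1) → ι) (g : V ⟶ G.obj (prodU U x)) :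
    Sob U G n V := ⟨x, equivShrink _ g⟩

/-- the morphism underlying an element of `Sob` -/
noncomputable def homS {n : ℕ} {V : C} (s : Sob U G n V) : V ⟶ G.obj (prodU U s.1) :=
  (equivShrink _).symm s.2

@[simp] lemma mkS_fst {n : ℕ} {V : C} (x : Fin (n + 1) → ι) (g : V ⟶ G.obj (prodU U x)) :
    (mkS (U := U) (G := G) x g).1 = x := rfl

@[simp] lemma homS_mkS {n : ℕ} {V : C} (x : Fin (n + 1) → ι) (g : V ⟶ G.obj (prodU U x)) :
    homS (mkS (U := U) (G := G) x g) = g :=
  Equiv.symm_apply_apply _ _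

@[simp] lemma mkS_homS {n : ℕ} {V : C} (s : Sob U G n V) : mkS s.1 (homS s) = s := by
  obtain ⟨x, g⟩ := s
  simp [homS, mkS]

lemma mkS_eq {n : ℕ} {V : C} {x y : Fin (n + 1) → ι} (h : x = y)
    {g : V ⟶ G.obj (prodU U x)} {g' : V ⟶ G.obj (prodU U y)}
    (hg : g ≫ G.map (eqToHom (by rw [h])) = g') : mkS (U := U) (G := G) x g = mkS y g' := by
  subst h
  have : g = g' := by simpa using hg
  rw [this]

/-- restriction along `f : V' ⟶ V` -/
noncomputable def Smap {n : ℕ} {V V' : C} (f : V' ⟶ V) (s : Sob U G n V) : Sob U G n V' :=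
  mkS s.1 (f ≫ homS s)

@[simp] lemma Smap_mkS {n : ℕ} {V V' : C} (f : V' ⟶ V) (x : Fin (n + 1) → ι)
    (g : V ⟶ G.obj (prodU U x)) : Smap f (mkS (U := U) (G := G) x g) = mkS x (f ≫ g) := by
  simp [Smap]

@[simp] lemma Smap_id {n : ℕ} {V : C} (s : Sob U G n V) : Smap (𝟙 V) s = s := by
  simp [Smap]

@[simp] lemma Smap_comp {n : ℕ} {V V' V'' : C} (f : V' ⟶ V) (f' : V'' ⟶ V') (s : Sob U G n V) :
    Smap (f' ≫ f) s = Smap f' (Smap f s) := by
  simp [Smap]

/-- the face maps -/
noncomputable def dS {n : ℕ} (j : Fin (n + 2)) {V : C} (s : Sob U G (n + 1) V) : Sob U G n V :=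
  mkS (s.1 ∘ j.succAbove) (homS s ≫ G.map (face U j s.1))

@[simp] lemma dS_mkS {n : ℕ} (j : Fin (n + 2)) {V : C} (x : Fin (n + 2) → ι)
    (g : V ⟶ G.obj (prodU U x)) :
    dS j (mkS (U := U) (G := G) x g) = mkS (x ∘ j.succAbove) (g ≫ G.map (face U j x)) := by
  simp [dS]

lemma dS_Smap {n : ℕ} (j : Fin (n + 2)) {V V' : C} (f : V' ⟶ V) (s : Sob U G (n + 1) V) :
    dS j (Smap f s) = Smap f (dS j s) := by
  simp [dS, Smap]

variable (U G)

/-- the free abelian presheaf on `S n` -/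
noncomputable abbrev Z (n : ℕ) : Cᵒᵖ ⥤ AddCommGrpCat.{w} where
  obj V := AddCommGrpCat.of (FreeAbelianGroup (Sob U G n V.unop))
  map f := AddCommGrpCat.ofHom (FreeAbelianGroup.map (Smap f.unop))
  map_id V := by
    ext s
    simp
  map_comp f g := by
    ext s
    simp

lemma map_dS_Smap {n : ℕ} (j : Fin (n + 2)) {V V' : C} (f : V' ⟶ V) :
    (FreeAbelianGroup.map (dS (U := U) (G := G) j)).comp (FreeAbelianGroup.map (Smap f)) =
      (FreeAbelianGroup.map (Smap f)).comp (FreeAbelianGroup.map (dS j)) := by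
  rw [← FreeAbelianGroup.map_comp, ← FreeAbelianGroup.map_comp]
  congr 1
  funext s
  exact dS_Smap j f s

/-- the face maps on free presheaves -/
noncomputable def dZ (n : ℕ) (j : Fin (n + 2)) : Z U G (n + 1) ⟶ Z U G n where
  app V := AddCommGrpCat.ofHom (FreeAbelianGroup.map (dS j))
  naturality V V' f := by
    show AddCommGrpCat.ofHom _ ≫ AddCommGrpCat.ofHom _ =
      AddCommGrpCat.ofHom _ ≫ AddCommGrpCat.ofHom _
    rw [← AddCommGrpCat.ofHom_comp, ← AddCommGrpCat.ofHom_comp, map_dS_Smap]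

/-- the boundary map of the complex of free presheaves -/
noncomputable def bd (n : ℕ) : Z U G (n + 1) ⟶ Z U G n :=
  ∑ j : Fin (n + 2), (-1 : ℤ) ^ (j : ℕ) • dZ U G n j


/-- the boundary map on sections -/
noncomputable def bdFun (n : ℕ) (V : C) :
    FreeAbelianGroup (Sob U G (n + 1) V) →+ FreeAbelianGroup (Sob U G n V) :=
  ∑ j : Fin (n + 2), (-1 : ℤ) ^ (j : ℕ) • FreeAbelianGroup.map (dS j)

lemma bdFun_of (n : ℕ) (V : C) (s : Sob U G (n + 1) V) :
    bdFun U G n V (FreeAbelianGroup.of s) =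
      ∑ j : Fin (n + 2), (-1 : ℤ) ^ (j : ℕ) • FreeAbelianGroup.of (dS j s) := by
  unfold bdFun
  rw [AddMonoidHom.finset_sum_apply]
  refine Finset.sum_congr rfl (fun j _ => ?_)
  rw [AddMonoidHom.smul_apply, FreeAbelianGroup.map_of_apply]

lemma bd_app (n : ℕ) (V : Cᵒᵖ) :
    (bd U G n).app V = AddCommGrpCat.ofHom (bdFun U G n V.unop) := by
  apply AddCommGrpCat.hom_ext
  apply AddMonoidHom.ext
  intro z
  unfold bd bdFun
  rw [NatTrans.app_sum]
  erw [hom_sum]
  rw [AddCommGrpCat.hom_ofHom, AddMonoidHom.finset_sum_apply]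
  refine Finset.sum_congr rfl (fun j _ => ?_)
  rw [NatTrans.app_zsmul]
  rfl

section toHom

variable (I : Cᵒᵖ ⥤ AddCommGrpCat.{w})

/-- the value of a cochain on an element of `Sob` -/
noncomputable def ev {n : ℕ} (c : (cx U (G.op ⋙ I)).X n) {V : C} (s : Sob U G n V) :
    I.obj (op V) :=
  I.map (homS s).op (comp U (G.op ⋙ I) n s.1 c)

lemma ev_mkS {n : ℕ} (c : (cx U (G.op ⋙ I)).X n) {V : C} (x : Fin (n + 1) → ι)
    (g : V ⟶ G.obj (prodU U x)) :
    ev U G I c (mkS x g) = I.map g.op (comp U (G.op ⋙ I) n x c) := by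
  unfold ev
  rw [homS_mkS]
  rfl

lemma ev_Smap {n : ℕ} (c : (cx U (G.op ⋙ I)).X n) {V V' : C} (f : V' ⟶ V) (s : Sob U G n V) :
    ev U G I c (Smap f s) = I.map f.op (ev U G I c s) := by
  unfold Smap
  rw [ev_mkS]
  unfold ev
  rw [op_comp, Functor.map_comp]
  rfl

/-- the morphism of presheaves attached to a cochain -/
noncomputable def toHom {n : ℕ} (c : (cx U (G.op ⋙ I)).X n) : Z U G n ⟶ I where
  app V := AddCommGrpCat.ofHom (FreeAbelianGroup.lift (fun s : Sob U G n V.unop => ev U G I c s))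
  naturality V V' f := by
    apply AddCommGrpCat.hom_ext
    apply FreeAbelianGroup.lift_ext
    intro s
    show FreeAbelianGroup.lift _ (FreeAbelianGroup.map (Smap f.unop) (FreeAbelianGroup.of s)) =
      I.map f (FreeAbelianGroup.lift _ (FreeAbelianGroup.of s))
    rw [FreeAbelianGroup.map_of_apply, FreeAbelianGroup.lift_apply_of,
      FreeAbelianGroup.lift_apply_of, ev_Smap]
    rfl

lemma toHom_app_of {n : ℕ} (c : (cx U (G.op ⋙ I)).X n) {V : C} (s : Sob U G n V) :
    ((toHom U G I c).app (op V)).hom (FreeAbelianGroup.of s) = ev U G I c s :=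
  FreeAbelianGroup.lift_apply_of _ _

lemma ev_zero {n : ℕ} {V : C} (s : Sob U G n V) :
    ev U G I (0 : (cx U (G.op ⋙ I)).X n) s = 0 := by
  unfold ev
  rw [map_zero, map_zero]

lemma ev_id {n : ℕ} (c : (cx U (G.op ⋙ I)).X n) (x : Fin (n + 1) → ι) :
    ev U G I c (mkS x (𝟙 (G.obj (prodU U x)))) = comp U (G.op ⋙ I) n x c := by
  rw [ev_mkS, op_id, CategoryTheory.Functor.map_id]
  rfl

lemma toHom_zero {n : ℕ} : toHom U G I (0 : (cx U (G.op ⋙ I)).X n) = 0 := by
  ext V : 2
  apply AddCommGrpCat.hom_ext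
  apply FreeAbelianGroup.lift_ext
  intro s
  erw [toHom_app_of, ev_zero]
  rfl

lemma toHom_injective {n : ℕ} {c c' : (cx U (G.op ⋙ I)).X n}
    (h : toHom U G I c = toHom U G I c') : c = c' := by
  apply Cech.ext
  intro x
  rw [← ev_id, ← ev_id, ← toHom_app_of, ← toHom_app_of, h]

lemma ev_dS {n : ℕ} (c : (cx U (G.op ⋙ I)).X n) {V : C} (s : Sob U G (n + 1) V)
    (j : Fin (n + 2)) :
    ev U G I c (dS j s) = I.map (homS s).op ((G.op ⋙ I).map (face U j s.1).op
      (comp U (G.op ⋙ I) n (s.1 ∘ j.succAbove) c)) := by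
  show ev U G I c (mkS _ _) = _
  rw [ev_mkS, op_comp, CategoryTheory.Functor.map_comp]
  rfl

lemma ev_d {n : ℕ} (c : (cx U (G.op ⋙ I)).X n) {V : C} (s : Sob U G (n + 1) V) :
    ev U G I ((cx U (G.op ⋙ I)).d n (n + 1) c) s =
      ∑ j : Fin (n + 2), (-1 : ℤ) ^ (j : ℕ) • ev U G I c (dS j s) := by
  unfold ev
  rw [comp_d, map_sum]
  refine Finset.sum_congr rfl (fun j _ => ?_)
  rw [map_zsmul]
  congr 1
  exact (ev_dS U G I c s j).symm

/-- `toHom` on sections -/
noncomputable def toHomFun {n : ℕ} (c : (cx U (G.op ⋙ I)).X n) (V : C) :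
    FreeAbelianGroup (Sob U G n V) →+ I.obj (op V) :=
  FreeAbelianGroup.lift (fun s : Sob U G n V => ev U G I c s)

lemma toHom_app {n : ℕ} (c : (cx U (G.op ⋙ I)).X n) (V : Cᵒᵖ) :
    (toHom U G I c).app V = AddCommGrpCat.ofHom (toHomFun U G I c V.unop) := rfl

lemma toHomFun_of {n : ℕ} (c : (cx U (G.op ⋙ I)).X n) {V : C} (s : Sob U G n V) :
    toHomFun U G I c V (FreeAbelianGroup.of s) = ev U G I c s :=
  FreeAbelianGroup.lift_apply_of _ _

lemma bdFun_toHomFun {n : ℕ} (c : (cx U (G.op ⋙ I)).X n) (V : C) :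
    (toHomFun U G I c V).comp (bdFun U G n V) =
      toHomFun U G I ((cx U (G.op ⋙ I)).d n (n + 1) c) V := by
  apply FreeAbelianGroup.lift_ext
  intro s
  rw [AddMonoidHom.comp_apply, bdFun_of, map_sum, toHomFun_of, ev_d]
  refine Finset.sum_congr rfl (fun j _ => ?_)
  rw [map_zsmul, toHomFun_of]

lemma bd_toHom {n : ℕ} (c : (cx U (G.op ⋙ I)).X n) :
    bd U G n ≫ toHom U G I c = toHom U G I ((cx U (G.op ⋙ I)).d n (n + 1) c) := by
  ext V : 2
  rw [NatTrans.comp_app, bd_app, toHom_app, toHom_app, ← AddCommGrpCat.ofHom_comp,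
    bdFun_toHomFun]

/-- the cochain attached to a morphism of presheaves -/
noncomputable def ofHom {n : ℕ} (ψ : Z U G n ⟶ I) : (cx U (G.op ⋙ I)).X n :=
  Cech.mk (fun x => (ψ.app (op (G.obj (prodU U x)))).hom
    (FreeAbelianGroup.of (mkS x (𝟙 (G.obj (prodU U x))))))

lemma toHom_ofHom {n : ℕ} (ψ : Z U G n ⟶ I) : toHom U G I (ofHom U G I ψ) = ψ := by
  ext V : 2
  apply AddCommGrpCat.hom_ext
  apply FreeAbelianGroup.lift_ext
  intro s
  erw [toHom_app_of]
  obtain ⟨x, g, rfl⟩ : ∃ x g, s = mkS x g := ⟨s.1, homS s, (mkS_homS s).symm⟩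
  rw [ev_mkS]
  unfold ofHom
  rw [comp_mk]
  have h := ConcreteCategory.congr_hom (ψ.naturality g.op)
    (FreeAbelianGroup.of (mkS x (𝟙 (G.obj (prodU U x)))))
  rw [ConcreteCategory.comp_apply, ConcreteCategory.comp_apply] at h
  refine h.symm.trans ?_
  congr 1
  show FreeAbelianGroup.map (Smap g) (FreeAbelianGroup.of _) = _
  rw [FreeAbelianGroup.map_of_apply, Smap_mkS, Category.comp_id]

end toHom


variable {U G} in
/-- an extra degeneracy on the simplicial set `n ↦ Sob U G n V` -/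
structure ExtraDeg (V : C) where
  /-- the extra degeneracy -/
  h : ∀ n, Sob U G n V → Sob U G (n + 1) V
  d0 : ∀ n (s : Sob U G n V), dS 0 (h n s) = s
  dsucc : ∀ n (j : Fin (n + 2)) (s : Sob U G (n + 1) V),
    dS j.succ (h (n + 1) s) = h n (dS j s)

variable {U G} in
lemma ExtraDeg.homotopy {V : C} (E : ExtraDeg (U := U) (G := G) V) (n : ℕ)
    (z : FreeAbelianGroup (Sob U G (n + 1) V)) :
    bdFun U G (n + 1) V (FreeAbelianGroup.map (E.h (n + 1)) z) +
      FreeAbelianGroup.map (E.h n) (bdFun U G n V z) = z := by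
  have : (bdFun U G (n + 1) V).comp (FreeAbelianGroup.map (E.h (n + 1))) +
      (FreeAbelianGroup.map (E.h n)).comp (bdFun U G n V) = AddMonoidHom.id _ := by
    apply FreeAbelianGroup.lift_ext
    intro s
    rw [AddMonoidHom.add_apply, AddMonoidHom.comp_apply, AddMonoidHom.comp_apply,
      FreeAbelianGroup.map_of_apply, bdFun_of, bdFun_of, Fin.sum_univ_succ, map_sum]
    simp only [Fin.val_zero, pow_zero, one_smul, E.d0, Fin.val_succ, E.dsucc, map_zsmul,
      FreeAbelianGroup.map_of_apply, AddMonoidHom.id_apply, pow_succ, mul_neg, mul_one, neg_smul,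
      Finset.sum_neg_distrib]
    abel
  exact DFunLike.congr_fun this z

section ofEquiv

variable {U G}
variable {F : Type*} {T : Type*} (a : T → F)

/-- tuples of points lying over the same element -/
abbrev W (n : ℕ) : Type _ := {t : Fin (n + 1) → T // ∀ k, a (t k) = a (t 0)}

/-- a chosen point in a nonempty fibre -/
noncomputable def pt (f : F) (h : ∃ p, a p = f) : T := h.choose

lemma a_pt (f : F) (h : ∃ p, a p = f) : a (pt a f h) = f := h.choose_spec

lemma pt_congr {f f' : F} (hf : f = f') (h : ∃ p, a p = f) (h' : ∃ p, a p = f') :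
    pt a f h = pt a f' h' := by
  subst hf
  rfl

/-- prepend the chosen point -/
noncomputable def extW {n : ℕ} (t : W a n) : W a (n + 1) :=
  ⟨Fin.cons (pt a (a (t.1 0)) ⟨_, rfl⟩) t.1, by
    intro k
    refine Fin.cases ?_ (fun k' => ?_) k
    · rfl
    · rw [Fin.cons_succ, Fin.cons_zero, a_pt a, t.2 k']⟩

lemma extW_val {n : ℕ} (t : W a n) :
    (extW a t).1 = Fin.cons (pt a (a (t.1 0)) ⟨_, rfl⟩) t.1 := rfl

/-- an extra degeneracy from a description of the simplicial set as tuples of points -/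
noncomputable def ExtraDeg.ofEquiv {V : C} (e : ∀ n, Sob U G n V ≃ W a n)
    (he : ∀ n (j : Fin (n + 2)) (s : Sob U G (n + 1) V),
      (e n (dS j s)).1 = (e (n + 1) s).1 ∘ j.succAbove) : ExtraDeg (U := U) (G := G) V where
  h n s := (e (n + 1)).symm (extW a (e n s))
  d0 n s := by
    apply (e n).injective
    apply Subtype.ext
    rw [he, Equiv.apply_symm_apply, extW_val]
    funext k
    simp [Fin.succAbove_zero]
  dsucc n j s := by
    apply (e (n + 1)).injective
    apply Subtype.ext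
    rw [he, Equiv.apply_symm_apply, Equiv.apply_symm_apply, extW_val, extW_val]
    funext k
    refine Fin.cases ?_ (fun k' => ?_) k
    · rw [Function.comp_apply, Fin.succ_succAbove_zero, Fin.cons_zero, Fin.cons_zero]
      apply pt_congr
      rw [he, Function.comp_apply]
      exact ((e (n + 1) s).2 _).symm
    · rw [Function.comp_apply, Fin.succ_succAbove_succ, Fin.cons_succ, Fin.cons_succ, he]
      rfl

end ofEquiv

section main

variable (I : Cᵒᵖ ⥤ AddCommGrpCat.{w}) [Injective I]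

include U G in
theorem exists_of_cocycle (hE : ∀ V : C, Nonempty (ExtraDeg (U := U) (G := G) V)) (p : ℕ)
    (c : (cx U (G.op ⋙ I)).X (p + 1))
    (hc : (cx U (G.op ⋙ I)).d (p + 1) (p + 2) c = 0) :
    ∃ b : (cx U (G.op ⋙ I)).X p, (cx U (G.op ⋙ I)).d p (p + 1) b = c := by
  have h1 : bd U G (p + 1) ≫ toHom U G I c = 0 := by
    rw [bd_toHom, hc, toHom_zero]
  have h2 : kernel.ι (bd U G p) ≫ toHom U G I c = 0 := by
    ext V : 2
    apply AddCommGrpCat.hom_ext
    apply AddMonoidHom.ext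
    intro z
    obtain ⟨E⟩ := hE V.unop
    obtain ⟨z', hz'⟩ : ∃ z' : FreeAbelianGroup (Sob U G (p + 1) V.unop),
      z' = ((kernel.ι (bd U G p)).app V).hom z := ⟨_, rfl⟩
    have hz0 : bdFun U G p V.unop z' = 0 := by
      have := ConcreteCategory.congr_hom (congrArg (fun t => t.app V) (kernel.condition (bd U G p))) z
      simp only [NatTrans.comp_app, ConcreteCategory.comp_apply] at this
      rw [bd_app] at this
      rw [hz']
      exact this
    have hz1 := E.homotopy p z'
    rw [hz0, map_zero, add_zero] at hz1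
    have h3 := ConcreteCategory.congr_hom (congrArg (fun t => t.app V) h1)
      (FreeAbelianGroup.map (E.h (p + 1)) z')
    simp only [NatTrans.comp_app, ConcreteCategory.comp_apply] at h3
    rw [bd_app] at h3
    show ((toHom U G I c).app V).hom (((kernel.ι (bd U G p)).app V).hom z) = 0
    rw [← hz', ← hz1]
    exact h3
  let χ' : Abelian.coimage (bd U G p) ⟶ I := cokernel.desc _ _ h2
  let ψ : Z U G p ⟶ I := Injective.factorThru χ' (Abelian.factorThruCoimage (bd U G p))
  refine ⟨ofHom U G I ψ, ?_⟩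
  apply toHom_injective U G I
  rw [← bd_toHom, toHom_ofHom]
  have : bd U G p = Abelian.coimage.π (bd U G p) ≫ Abelian.factorThruCoimage (bd U G p) :=
    (Abelian.coimage.fac _).symm
  rw [this, Category.assoc, Injective.comp_factorThru]
  exact cokernel.π_desc _ _ _

end main

end Groth.Agent.Helper1.CechInj
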