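import Mathlib
import Groth.Agent.Helper1.Dev28
import Groth.Agent.Lead.Hartogs2

/-!
# Chevalley's theorem, part 1: the module `g_* O_W` for `g : W ⟶ X` with `W` integral
-/

set_option autoImplicit false
set_option linter.style.haveILetI false

namespace Groth.Agent.Helper1.Chev

open CategoryTheory Limits AlgebraicGeometry TopologicalSpace
open Groth.Agent.Helper4.StalkDict Groth.Agent.Helper4 Groth.Agent.Lead.PushStalk
  Groth.Agent.Helper1.Dev

universe u

variable {W X : Scheme.{u}}

/-- a function not invertible at the image of the generic point of an integral scheme pulls back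
to zero -/
theorem app_eq_zero_of_notMem_basicOpen [IsIntegral W] (g : W ⟶ X) (U : X.Opens) (a : Γ(X, U))
    (h : g (genericPoint W) ∉ X.basicOpen a) : g.app U a = 0 := by
  have h1 : g ⁻¹ᵁ (X.basicOpen a) = W.basicOpen (g.app U a) := Scheme.preimage_basicOpen g a
  have h2 : W.basicOpen (g.app U a) = ⊥ := by
    by_contra hne
    have hne' : ((W.basicOpen (g.app U a) : W.Opens) : Set W).Nonempty := by
      rw [Set.nonempty_iff_ne_empty]
      intro h0
      apply hne
      ext1
      simpa using h0
    have h3 : genericPoint W ∈ ((W.basicOpen (g.app U a) : W.Opens) : Set W) :=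
      ((genericPoint_spec W).mem_open_set_iff (W.basicOpen (g.app U a)).isOpen).2
        (by simpa using hne')
    rw [← h1] at h3
    exact h h3
  exact (basicOpen_eq_bot_iff _).1 h2

/-- the stalk of `g_* N` at the image of the generic point is killed by the maximal ideal -/
theorem smul_eq_zero_push [IsIntegral W] (g : W ⟶ X) (N : W.Modules) (x : X)
    (hx : g (genericPoint W) = x) (a : X.presheaf.stalk x)
    (ha : a ∈ IsLocalRing.maximalIdeal (X.presheaf.stalk x))
    (m : ((Scheme.Modules.pushforward g).obj N).presheaf.stalk x) : a • m = 0 := by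
  subst hx
  obtain ⟨U, hU, a₀, m₀, rfl, rfl⟩ :=
    exists_common ((Scheme.Modules.pushforward g).obj N) _ a m
  rw [← germ_smul]
  have h0 : g.app U a₀ = 0 := by
    apply app_eq_zero_of_notMem_basicOpen
    intro hmem
    rw [Scheme.mem_basicOpen _ _ _ hU] at hmem
    exact (IsLocalRing.mem_maximalIdeal _).1 ha hmem
  rw [push_smul, h0, zero_smul]
  exact map_zero _

/-- transfer of annihilation along an isomorphism -/
theorem smul_eq_zero_of_iso {F G : X.Modules} (e : F ≅ G) (x : X) (a : X.presheaf.stalk x)
    (h : ∀ m : G.presheaf.stalk x, a • m = 0) (m : F.presheaf.stalk x) : a • m = 0 := by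
  have hb := stalkLin_bijective_of_isIso e.hom x
  apply hb.1
  rw [_root_.map_smul, h, map_zero]

/-- the stalk of `g_* O_W` at a point of the image is not zero -/
theorem not_subsingleton_stalk_push_structure (g : W ⟶ X) (y : W) :
    ¬ Subsingleton (((Scheme.Modules.pushforward g).obj (Coh.structureModule W)).presheaf.stalk
      (g y)) := by
  intro hcon
  have h1 : psHom g (Coh.structureModule W) y
      ((((Scheme.Modules.pushforward g).obj (Coh.structureModule W)).presheaf.germ ⊤ (g y)
        trivial) (1 : Γ(W, g ⁻¹ᵁ ⊤))) = psHom g (Coh.structureModule W) y 0 :=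
    congrArg _ (Subsingleton.elim _ _)
  rw [psHom_germ, map_zero] at h1
  have h2 : Groth.Agent.Lead.WeakAss.germF ⊤ y trivial (1 : Γ(W, ⊤)) = 0 := h1
  have h3 : Groth.Agent.Lead.Hartogs2.unitEquiv y 1 = 0 := by
    change (1 : W.presheaf.stalk y) • Groth.Agent.Lead.WeakAss.germF ⊤ y trivial (1 : Γ(W, ⊤)) = 0
    rw [one_smul]
    exact h2
  exact one_ne_zero ((Groth.Agent.Lead.Hartogs2.unitEquiv y).map_eq_zero_iff.1 h3)

end Groth.Agent.Helper1.Chev
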