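import Mathlib
import Groth.Agent.Helper1.Chev1
import Groth.Agent.Lead.ThickBC

/-!
# Chevalley's theorem, part 2: `g_* (J O_W · M) ⊆ J · g_* M`
-/

set_option autoImplicit false
set_option linter.style.haveILetI false

namespace Groth.Agent.Helper1.Chev

open CategoryTheory Limits AlgebraicGeometry TopologicalSpace
open Groth.Agent.Helper4.StalkDict Groth.Agent.Helper4 Groth.Agent.Lead.PushStalk
  Groth.Agent.Helper1.Dev Groth.Agent.Lead.Thick

universe u

/-- induction principle for `(I.map φ) • ⊤` -/
theorem map_smul_top_induction {R S M : Type*} [CommRing R] [CommRing S] [AddCommGroup M]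
    [Module S M] (φ : R →+* S) (I : Ideal R) (P : M → Prop) (h0 : P 0)
    (hadd : ∀ x y, P x → P y → P (x + y)) (hsmul : ∀ a ∈ I, ∀ m : M, P (φ a • m))
    (m : M) (hm : m ∈ (I.map φ) • (⊤ : Submodule S M)) : P m := by
  have key : ∀ b ∈ I.map φ, ∀ n : M, P (b • n) := by
    intro b hb
    unfold Ideal.map at hb
    induction hb using Submodule.span_induction with
    | mem x hx =>
      obtain ⟨a, ha, rfl⟩ := hx
      exact fun n => hsmul a ha n
    | zero => intro n; rw [zero_smul]; exact h0
    | add x y _ _ hx hy => intro n; rw [add_smul]; exact hadd _ _ (hx n) (hy n)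
    | smul s x _ hx =>
      intro n
      rw [smul_eq_mul, mul_comm, mul_smul]
      exact hx (s • n)
  exact Submodule.smul_induction_on (p := P) hm (fun r hr n _ => key r hr n)
    (fun x y hx hy => hadd _ _ hx hy)

variable {W X : Scheme.{u}}

/-- `g_* ((J O_W) M) ⟶ g_* M ⟶ ι_* ι^* g_* M` vanishes -/
theorem push_map_comp_η_eq_zero (g : W ⟶ X) [IsAffineHom g] (M : W.Modules) [M.IsQuasicoherent]
    (J : X.IdealSheafData) :
    haveI : ((Scheme.Modules.pushforward g).obj M).IsQuasicoherent :=
      QcohGlue.isQuasicoherent_pushforward g M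
    (Scheme.Modules.pushforward g).map (Dual3.idealMulι (J.comap g) M) ≫
      η J.subschemeι ((Scheme.Modules.pushforward g).obj M) = 0 := by
  haveI : ((Scheme.Modules.pushforward g).obj M).IsQuasicoherent :=
    QcohGlue.isQuasicoherent_pushforward g M
  haveI : ((Dual3.idealMul (J.comap g)).obj M).IsQuasicoherent :=
    inferInstanceAs (kernel (η (J.comap g).subschemeι M)).IsQuasicoherent
  haveI : ((Scheme.Modules.pushforward g).obj
      ((Dual3.idealMul (J.comap g)).obj M)).IsQuasicoherent :=
    QcohGlue.isQuasicoherent_pushforward g _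
  apply QcohLocal.eq_zero_of_app_eq_zero_of_affine_cover
  intro x
  obtain ⟨U, hU, hx⟩ := QcohLimits.exists_affine_nhd x
  refine ⟨U, hU, hx, fun s => ?_⟩
  have hV : IsAffineOpen (g ⁻¹ᵁ U) := hU.preimage g
  -- the section `m` of `M` over `g⁻¹ U`
  set m : Γ(M, g ⁻¹ᵁ U) := (Dual3.idealMulι (J.comap g) M).app (g ⁻¹ᵁ U) s with hm
  have h1 : (η (J.comap g).subschemeι M).app (g ⁻¹ᵁ U) m = 0 := by
    have h2 : Dual3.idealMulι (J.comap g) M ≫ η (J.comap g).subschemeι M = 0 :=
      kernel.condition _
    have h3 := congrArg (fun φ => φ.app (g ⁻¹ᵁ U) s) h2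
    exact h3
  have h4 := η_app_ker (J.comap g).subschemeι M hV m h1
  rw [(J.comap g).ker_subschemeι_app ⟨g ⁻¹ᵁ U, hV⟩,
    Groth.Agent.Lead.ThickBC.ideal_comap_appLE g J ⟨U, hU⟩ ⟨g ⁻¹ᵁ U, hV⟩ le_rfl,
    ← Scheme.Hom.app_eq_appLE] at h4
  show (η J.subschemeι ((Scheme.Modules.pushforward g).obj M)).app U
    (show Γ((Scheme.Modules.pushforward g).obj M, U) from m) = 0
  refine map_smul_top_induction (g.app U).hom (J.ideal ⟨U, hU⟩)
    (fun m' : Γ(M, g ⁻¹ᵁ U) => (η J.subschemeι ((Scheme.Modules.pushforward g).obj M)).app U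
      (show Γ((Scheme.Modules.pushforward g).obj M, U) from m') = 0) ?_ ?_ ?_ m h4
  · exact map_zero _
  · intro x y hx hy
    show (η J.subschemeι ((Scheme.Modules.pushforward g).obj M)).app U
      ((show Γ((Scheme.Modules.pushforward g).obj M, U) from x) +
        (show Γ((Scheme.Modules.pushforward g).obj M, U) from y)) = 0
    rw [map_add, hx, hy, add_zero]
  · intro a ha m'
    show (η J.subschemeι ((Scheme.Modules.pushforward g).obj M)).app U
      (a • (show Γ((Scheme.Modules.pushforward g).obj M, U) from m')) = 0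
    rw [Scheme.Modules.Hom.app_smul]
    refine kills_push J.subschemeι _ U hU a ?_ _
    rw [pow_one, J.ker_subschemeι_app ⟨U, hU⟩]
    exact ha

end Groth.Agent.Helper1.Chev

namespace Groth.Agent.Helper1.Chev

open CategoryTheory Limits AlgebraicGeometry TopologicalSpace
open Groth.Agent.Helper4.StalkDict Groth.Agent.Helper4 Groth.Agent.Lead.PushStalk
  Groth.Agent.Helper1.Dev Groth.Agent.Lead.Thick

universe u

variable {W X : Scheme.{u}}

/-- away from `V(J)`, the stalk of `g_* ((J O_W) M)` is the stalk of `g_* M` -/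
theorem stalkLin_push_map_bijective (g : W ⟶ X) [IsFinite g] (M : W.Modules) [M.IsQuasicoherent]
    (J : X.IdealSheafData) (ξ : X) (hξ : ξ ∉ (J.support : Set X)) :
    Function.Bijective
      (stalkLin ((Scheme.Modules.pushforward g).map (Dual3.idealMulι (J.comap g) M)) ξ) := by
  set i' := (J.comap g).subschemeι with hi'
  set E := (Scheme.Modules.pullback i').obj M with hE
  have hS₀ : (kerSC (η i' M)).ShortExact := kerSC_shortExact (η i' M)
  haveI := hS₀.mono_f
  have hS : ((kerSC (η i' M)).map (Scheme.Modules.pushforward g)).Exact :=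
    hS₀.exact.map_of_mono_of_preservesKernel (Scheme.Modules.pushforward g) inferInstance
      inferInstance
  haveI : Mono ((kerSC (η i' M)).map (Scheme.Modules.pushforward g)).f :=
    inferInstanceAs (Mono ((Scheme.Modules.pushforward g).map (kerSC (η i' M)).f))
  have hex := StalkExact.stalkLin_exact _ hS ξ
  have hsub : Subsingleton (((Scheme.Modules.pushforward g).obj
      ((Scheme.Modules.pushforward i').obj E)).presheaf.stalk ξ) := by
    have e : (Scheme.Modules.pushforward g).obj ((Scheme.Modules.pushforward i').obj E) ≅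
        (Scheme.Modules.pushforward (i' ≫ g)).obj E :=
      (Scheme.Modules.pushforwardComp i' g).app E
    have hcl : IsClosed (Set.range (i' ≫ g)) := (i' ≫ g).isClosedMap.isClosed_range
    have hnot : ξ ∉ Set.range (i' ≫ g) := by
      rintro ⟨z, rfl⟩
      apply hξ
      have h1 : i' z ∈ ((J.comap g).support : Set W) := by
        rw [← Scheme.IdealSheafData.range_subschemeι]
        exact ⟨z, rfl⟩
      rw [Scheme.IdealSheafData.support_comap] at h1
      exact h1
    haveI := subsingleton_stalk_of_notMem_range (i' ≫ g) E hcl ξ hnot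
    exact (stalkLin_bijective_of_isIso e.hom ξ).1.subsingleton
  constructor
  · exact StalkExact.stalkLin_injective
      ((Scheme.Modules.pushforward g).map (Dual3.idealMulι (J.comap g) M)) ξ
  · intro t
    exact (hex t).1 (@Subsingleton.elim _ hsub _ _)

end Groth.Agent.Helper1.Chev
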