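import Mathlib
import Groth.Agent.Helper1.Chev2
import Groth.Agent.Lead.Thick2

/-!
# Chevalley's theorem, part 3: the class of modules with vanishing `H¹`
-/

set_option autoImplicit false
set_option linter.style.haveILetI false

namespace Groth.Agent.Helper1.Chev

open CategoryTheory Limits AlgebraicGeometry TopologicalSpace
open Groth.Agent.Helper4.StalkDict Groth.Agent.Helper4 Groth.Agent.Lead.PushStalk
  Groth.Agent.Helper1.Dev Groth.Agent.Lead.Thick Groth.Agent.Helper1.SerreCrit

universe u

variable {X : Scheme.{u}}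

/-- cohomology of a retract -/
theorem subsingleton_HH_of_retract {F M : X.Modules} (s : F ⟶ M) (p : M ⟶ F) (h : s ≫ p = 𝟙 F)
    (n : ℕ) (hM : Subsingleton (Coh.HH X M n)) : Subsingleton (Coh.HH X F n) := by
  have key : ∀ x : Coh.HH X F n, x = 0 := by
    intro x
    have h1 : (show Abelian.Ext _ ((toAbF X).obj F) n from x) =
        (show Abelian.Ext _ ((toAbF X).obj F) n from x).comp
          (Abelian.Ext.mk₀ (𝟙 ((toAbF X).obj F))) (add_zero n) := by
      rw [Abelian.Ext.comp_mk₀_id]
    have h2 : 𝟙 ((toAbF X).obj F) = (toAbF X).map s ≫ (toAbF X).map p := by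
      rw [← Functor.map_comp, h, CategoryTheory.Functor.map_id]
    rw [h2, ← Abelian.Ext.mk₀_comp_mk₀, ← Abelian.Ext.comp_assoc_of_third_deg_zero] at h1
    have h3 : (show Abelian.Ext _ ((toAbF X).obj F) n from x).comp
        (Abelian.Ext.mk₀ ((toAbF X).map s)) (add_zero n) = 0 :=
      @Subsingleton.elim _ hM _ _
    rw [h3, Abelian.Ext.zero_comp] at h1
    exact h1
  exact ⟨fun a b => by rw [key a, key b]⟩

/-- the modules with vanishing `H¹` form a class closed under extensions -/
theorem halfClass_H1 (X : Scheme.{u}) :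
    HalfClass (fun M : X.Modules => Subsingleton (Coh.HH X M 1)) where
  iso := fun e h => subsingleton_HH_of_retract e.inv e.hom e.inv_hom_id 1 h
  zero := fun M hM => subsingleton_HH_of_isZero M hM 1
  ext := fun S hS _ _ _ h1 h3 => subsingleton_HH_middle S hS 1 h1 h3

/-- `H¹` of a power vanishes only if `H¹` vanishes -/
theorem root_H1 (F : X.Modules) (r : ℕ) (hr : 1 ≤ r)
    (h : Subsingleton (Coh.HH X (∐ fun _ : Fin r => F) 1)) : Subsingleton (Coh.HH X F 1) :=
  subsingleton_HH_of_retract (Sigma.ι (fun _ : Fin r => F) ⟨0, hr⟩)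
    (Sigma.desc fun _ => 𝟙 F) (by simp) 1 h

/-- `H¹` of the direct image of a quasi-coherent module on an affine scheme along an affine
morphism vanishes -/
theorem subsingleton_H1_push {W : Scheme.{u}} (g : W ⟶ X) [IsAffineHom g] [IsAffine W]
    (N : W.Modules) [N.IsQuasicoherent] :
    Subsingleton (Coh.HH X ((Scheme.Modules.pushforward g).obj N) 1) := by
  obtain ⟨e⟩ := Groth.Agent.S0012.result g N 1
  haveI := Groth.Agent.S0007.result W N 1 one_pos
  exact e.symm.injective.subsingleton

end Groth.Agent.Helper1.Chev
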