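import Mathlib
import Groth.Agent.Helper1.Chev3

/-!
# Chevalley's theorem, part 4: the deep submodules of `g_* O_W`
-/

set_option autoImplicit false
set_option linter.style.haveILetI false

namespace Groth.Agent.Helper1.Chev

open CategoryTheory Limits AlgebraicGeometry TopologicalSpace
open Groth.Agent.Helper4.StalkDict Groth.Agent.Helper4 Groth.Agent.Lead.PushStalk
  Groth.Agent.Helper1.Dev Groth.Agent.Lead.Thick Groth.Agent.Helper1.SerreCrit

universe u

variable {W X : Scheme.{u}}

/-- for a finite morphism `g` from an affine scheme, `J · g_* M` contains a submodule with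
vanishing `H¹` which agrees with `g_* M` away from `V(J)` -/
theorem exists_deep (g : W ⟶ X) [IsFinite g] [IsAffine W] (M : W.Modules) [M.IsQuasicoherent]
    (J : X.IdealSheafData) (ξ : X) (hξ : ξ ∉ (J.support : Set X)) :
    ∃ (G' : X.Modules) (ι' : G' ⟶ (Dual3.idealMul J).obj ((Scheme.Modules.pushforward g).obj M)),
      Mono ι' ∧ Coh.IsQCoh G' ∧
      Function.Bijective (stalkLin (ι' ≫ Dual3.idealMulι J _) ξ) ∧
      Subsingleton (Coh.HH X G' 1) := by
  haveI : ((Scheme.Modules.pushforward g).obj M).IsQuasicoherent :=
    QcohGlue.isQuasicoherent_pushforward g M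
  haveI : ((Dual3.idealMul (J.comap g)).obj M).IsQuasicoherent :=
    inferInstanceAs (kernel (η (J.comap g).subschemeι M)).IsQuasicoherent
  haveI : ((Scheme.Modules.pushforward g).obj
      ((Dual3.idealMul (J.comap g)).obj M)).IsQuasicoherent :=
    QcohGlue.isQuasicoherent_pushforward g _
  have hφ := push_map_comp_η_eq_zero g M J
  let ι' : (Scheme.Modules.pushforward g).obj ((Dual3.idealMul (J.comap g)).obj M) ⟶
      (Dual3.idealMul J).obj ((Scheme.Modules.pushforward g).obj M) :=
    kernel.lift (η J.subschemeι ((Scheme.Modules.pushforward g).obj M))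
      ((Scheme.Modules.pushforward g).map (Dual3.idealMulι (J.comap g) M)) hφ
  have hι' : ι' ≫ Dual3.idealMulι J ((Scheme.Modules.pushforward g).obj M) =
      (Scheme.Modules.pushforward g).map (Dual3.idealMulι (J.comap g) M) :=
    kernel.lift_ι _ _ _
  haveI : Mono ((Scheme.Modules.pushforward g).map (Dual3.idealMulι (J.comap g) M)) :=
    inferInstance
  refine ⟨_, ι', ?_, inferInstance, ?_, subsingleton_H1_push g _⟩
  · haveI : Mono (ι' ≫ Dual3.idealMulι J ((Scheme.Modules.pushforward g).obj M)) := by
      rw [hι']; infer_instance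
    exact mono_of_mono ι' (Dual3.idealMulι J ((Scheme.Modules.pushforward g).obj M))
  · rw [hι']
    exact stalkLin_push_map_bijective g M J ξ hξ

end Groth.Agent.Helper1.Chev
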