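import Mathlib

set_option autoImplicit false

/-! Inductive construction of a right resolution `K ⟶ L` of a sequence/complex by objects of a
class `P` into which every object embeds. -/

namespace Groth.Agent.Helper1.ResCore
open CategoryTheory Limits Category

universe v u

/-- a cochain-complex-like sequence -/
structure Seq (A : Type u) [Category.{v} A] [HasZeroMorphisms A] where
  X : ℕ → A
  d : ∀ n, X n ⟶ X (n + 1)
  sq : ∀ n, d n ≫ d (n + 1) = 0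

variable {A : Type u} [Category.{v} A] [Abelian A] (K : Seq A)

/-- cokernel of the incoming differential -/
noncomputable def CK : ℕ → A
  | 0 => K.X 0
  | n + 1 => cokernel (K.d n)

noncomputable def pK : ∀ n, K.X n ⟶ CK K n
  | 0 => 𝟙 _
  | n + 1 => cokernel.π (K.d n)

instance (n : ℕ) : Epi (pK K n) := by
  cases n
  · exact inferInstanceAs (Epi (𝟙 _))
  · exact inferInstanceAs (Epi (cokernel.π _))

noncomputable def dK' : ∀ n, CK K n ⟶ K.X (n + 1)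
  | 0 => K.d 0
  | n + 1 => cokernel.desc (K.d n) (K.d (n + 1)) (K.sq n)

@[reassoc (attr := simp)]
lemma pK_dK' (n : ℕ) : pK K n ≫ dK' K n = K.d n := by
  cases n
  · exact id_comp _
  · exact cokernel.π_desc _ _ _

variable (P : ℕ → A → Prop)
  (emb : ∀ (n : ℕ) (Y : A), ∃ (Y' : A) (ι : Y ⟶ Y'), P n Y' ∧ Mono ι)

noncomputable def E (n : ℕ) (Y : A) : A := (emb n Y).choose
noncomputable def ιE (n : ℕ) (Y : A) : Y ⟶ E P emb n Y := (emb n Y).choose_spec.choose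
lemma hE (n : ℕ) (Y : A) : P n (E P emb n Y) := (emb n Y).choose_spec.choose_spec.1
instance mono_ιE (n : ℕ) (Y : A) : Mono (ιE P emb n Y) := (emb n Y).choose_spec.choose_spec.2

/-- the data at stage `n` -/
structure Stage (n : ℕ) where
  L : A
  a : K.X n ⟶ L
  C : A
  p : L ⟶ C
  abar : CK K n ⟶ C
  comm : pK K n ≫ abar = a ≫ p
  hP : P n L
  mono_a : Mono a
  mono_abar : Mono abar

noncomputable def stage0 : Stage K P 0 where
  L := E P emb 0 (K.X 0)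
  a := ιE P emb 0 (K.X 0)
  C := E P emb 0 (K.X 0)
  p := 𝟙 _
  abar := ιE P emb 0 (K.X 0)
  comm := (id_comp _).trans (comp_id _).symm
  hP := hE P emb 0 _
  mono_a := mono_ιE P emb 0 _
  mono_abar := mono_ιE P emb 0 _

namespace Stage
variable {K P} {n : ℕ} (s : Stage K P n)

noncomputable abbrev Q : A := pushout s.abar (dK' K n)
noncomputable abbrev L' : A := E P emb (n + 1) s.Q
noncomputable def u : s.C ⟶ s.L' emb := pushout.inl _ _ ≫ ιE P emb (n + 1) s.Q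
noncomputable def dnext : s.L ⟶ s.L' emb := s.p ≫ s.u emb
noncomputable def a' : K.X (n + 1) ⟶ s.L' emb := pushout.inr _ _ ≫ ιE P emb (n + 1) s.Q

lemma d_a' : K.d n ≫ s.a' emb = s.a ≫ s.dnext emb := by
  dsimp only [a', dnext, u]
  rw [← pK_dK' K n, assoc, ← pushout.condition_assoc, ← assoc (pK K n), s.comm, assoc]

/-- the key property of the pushout -/
lemma key {T : A} (c : T ⟶ s.C) (k : T ⟶ K.X (n + 1)) (h : c ≫ s.u emb = k ≫ s.a' emb) :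
    ∃ (T' : A) (π : T' ⟶ T) (_ : Epi π) (w : T' ⟶ CK K n),
      w ≫ s.abar = π ≫ c ∧ w ≫ dK' K n = π ≫ k := by
  have h' : c ≫ pushout.inl s.abar (dK' K n) = k ≫ pushout.inr s.abar (dK' K n) := by
    rw [← cancel_mono (ιE P emb (n + 1) s.Q)]
    simpa only [assoc, u, a'] using h
  have hpo := IsPushout.of_hasPushout s.abar (dK' K n)
  have hz : biprod.lift c (-k) ≫ hpo.cokernelCofork.π = 0 := by
    dsimp
    simp [h']
  obtain ⟨T', π, hπ, x, hx⟩ :=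
    (CokernelCofork.IsColimit.comp_π_eq_zero_iff_up_to_refinements
      hpo.isColimitCokernelCofork (biprod.lift c (-k))).1 hz
  refine ⟨T', π, hπ, x, ?_, ?_⟩
  · have := hx =≫ biprod.fst
    simpa using this.symm
  · have := hx =≫ biprod.snd
    simpa using this.symm

lemma dnext_cokernel_π : s.dnext emb ≫ cokernel.π (s.dnext emb) = 0 := cokernel.condition _

lemma abar'_w : K.d n ≫ s.a' emb ≫ cokernel.π (s.dnext emb) = 0 := by
  rw [← assoc, d_a', assoc, cokernel.condition, comp_zero]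

/-- the next `abar` -/
noncomputable def abar' : CK K (n + 1) ⟶ cokernel (s.dnext emb) :=
  cokernel.desc (K.d n) (s.a' emb ≫ cokernel.π (s.dnext emb)) (s.abar'_w emb)

lemma π_abar' : cokernel.π (K.d n) ≫ s.abar' emb = s.a' emb ≫ cokernel.π (s.dnext emb) :=
  cokernel.π_desc _ _ _

/-- mono on `H^{n+1}` -/
lemma M {T : A} (x₂ : T ⟶ K.X (n + 1)) (y₁ : T ⟶ s.L)
    (h : x₂ ≫ s.a' emb = y₁ ≫ s.dnext emb) :
    ∃ (T' : A) (π : T' ⟶ T) (_ : Epi π) (x₁ : T' ⟶ K.X n), π ≫ x₂ = x₁ ≫ K.d n := by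
  obtain ⟨T₁, π₁, _, w, -, hw⟩ := s.key emb (y₁ ≫ s.p) x₂ (by rw [assoc, h]; rfl)
  obtain ⟨T₂, π₂, _, v, hv⟩ := surjective_up_to_refinements_of_epi (pK K n) w
  refine ⟨T₂, π₂ ≫ π₁, inferInstance, v, ?_⟩
  rw [assoc, ← hw, ← assoc, hv, assoc, pK_dK']

/-- epi on `H^n`, first half -/
lemma E_aux {T : A} (y₂ : T ⟶ s.L) (h : y₂ ≫ s.dnext emb = 0) :
    ∃ (T' : A) (π : T' ⟶ T) (_ : Epi π) (x₂ : T' ⟶ K.X n),
      x₂ ≫ K.d n = 0 ∧ (π ≫ y₂ - x₂ ≫ s.a) ≫ s.p = 0 := by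
  obtain ⟨T₁, π₁, _, w, hw₁, hw₂⟩ := s.key emb (y₂ ≫ s.p) 0
    (by rw [zero_comp, assoc]; exact h)
  obtain ⟨T₂, π₂, _, v, hv⟩ := surjective_up_to_refinements_of_epi (pK K n) w
  refine ⟨T₂, π₂ ≫ π₁, inferInstance, v, ?_, ?_⟩
  · rw [← pK_dK', ← assoc, ← hv, assoc, hw₂, comp_zero, comp_zero]
  · have e : (v ≫ s.a) ≫ s.p = (π₂ ≫ π₁) ≫ y₂ ≫ s.p := by
      rw [assoc, ← s.comm, ← assoc, ← hv, assoc, hw₁, assoc]
    rw [Preadditive.sub_comp, e, assoc, assoc, sub_self]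

lemma mono_abar' : Mono (s.abar' emb) := by
  rw [Preadditive.mono_iff_cancel_zero]
  intro T x' hx'
  obtain ⟨x, rfl⟩ : ∃ x : T ⟶ cokernel (K.d n), x = x' := ⟨x', rfl⟩
  have hx : x ≫ s.abar' emb = 0 := hx'
  change x = 0
  obtain ⟨T₁, π₁, _, y, hy⟩ := surjective_up_to_refinements_of_epi (cokernel.π (K.d n)) x
  have h1 : (y ≫ s.a' emb) ≫ cokernel.π (s.dnext emb) = 0 := by
    rw [assoc, ← π_abar', ← assoc, ← hy, assoc, hx, comp_zero]
  obtain ⟨T₂, π₂, _, z, hz⟩ :=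
    (CokernelCofork.IsColimit.comp_π_eq_zero_iff_up_to_refinements
      (cokernelIsCokernel (s.dnext emb)) (y ≫ s.a' emb)).1 h1
  obtain ⟨T₃, π₃, _, x₁, hx₁⟩ := s.M emb (π₂ ≫ y) z (by rw [assoc]; exact hz)
  rw [← cancel_epi π₁, ← cancel_epi π₂, ← cancel_epi π₃, comp_zero, comp_zero, comp_zero, hy,
    ← assoc π₂, ← assoc π₃, hx₁, assoc, cokernel.condition, comp_zero]

/-- the next stage -/
noncomputable def next : Stage K P (n + 1) where
  L := s.L' emb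
  a := s.a' emb
  C := cokernel (s.dnext emb)
  p := cokernel.π _
  abar := s.abar' emb
  comm := s.π_abar' emb
  hP := hE P emb (n + 1) _
  mono_a := by
    have := s.mono_abar
    exact mono_comp _ _
  mono_abar := s.mono_abar' emb

/-- epi on `H^{n+1}` -/
lemma E_succ {T : A} (y₂ : T ⟶ s.L' emb) (h : y₂ ≫ (s.next emb).dnext emb = 0) :
    ∃ (T' : A) (π : T' ⟶ T) (_ : Epi π) (x₂ : T' ⟶ K.X (n + 1)) (y₁ : T' ⟶ s.L),
      x₂ ≫ K.d (n + 1) = 0 ∧ π ≫ y₂ = x₂ ≫ s.a' emb + y₁ ≫ s.dnext emb := by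
  obtain ⟨T₁, π₁, _, x₂, hx₂, h₁'⟩ := (s.next emb).E_aux emb y₂ h
  have h₁ : (π₁ ≫ y₂ - x₂ ≫ s.a' emb) ≫ cokernel.π (s.dnext emb) = 0 := h₁' 
  obtain ⟨T₂, π₂, _, y₁, hy₁⟩ :=
    (CokernelCofork.IsColimit.comp_π_eq_zero_iff_up_to_refinements
      (cokernelIsCokernel (s.dnext emb)) _).1 h₁
  refine ⟨T₂, π₂ ≫ π₁, inferInstance, π₂ ≫ x₂, y₁, by rw [assoc, hx₂, comp_zero], ?_⟩
  rw [← hy₁, Preadditive.comp_sub, assoc, assoc]
  abel

end Stage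

/-- epi on `H^0` -/
lemma E_zero {T : A} (y₂ : T ⟶ (stage0 K P emb).L) (h : y₂ ≫ (stage0 K P emb).dnext emb = 0) :
    ∃ (T' : A) (π : T' ⟶ T) (_ : Epi π) (x₂ : T' ⟶ K.X 0),
      x₂ ≫ K.d 0 = 0 ∧ π ≫ y₂ = x₂ ≫ (stage0 K P emb).a := by
  obtain ⟨T₁, π₁, _, x₂, hx₂, h₁⟩ := (stage0 K P emb).E_aux emb y₂ h
  refine ⟨T₁, π₁, inferInstance, x₂, hx₂, ?_⟩
  have : (π₁ ≫ y₂ - x₂ ≫ (stage0 K P emb).a) ≫ 𝟙 _ = 0 := h₁
  rwa [comp_id, sub_eq_zero] at this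

/-- all the stages -/
noncomputable def stage : ∀ n, Stage K P n
  | 0 => stage0 K P emb
  | n + 1 => (stage n).next emb

/-- the resolution of the sequence `K` -/
structure Res where
  L : Seq A
  a : ∀ n, K.X n ⟶ L.X n
  comm : ∀ n, K.d n ≫ a (n + 1) = a n ≫ L.d n
  hP : ∀ n, P n (L.X n)
  mono : ∀ n, Mono (a n)
  M : ∀ (n : ℕ) {T : A} (x₂ : T ⟶ K.X (n + 1)) (y₁ : T ⟶ L.X n),
    x₂ ≫ a (n + 1) = y₁ ≫ L.d n →
      ∃ (T' : A) (π : T' ⟶ T) (_ : Epi π) (x₁ : T' ⟶ K.X n), π ≫ x₂ = x₁ ≫ K.d n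
  E0 : ∀ {T : A} (y₂ : T ⟶ L.X 0), y₂ ≫ L.d 0 = 0 →
    ∃ (T' : A) (π : T' ⟶ T) (_ : Epi π) (x₂ : T' ⟶ K.X 0), x₂ ≫ K.d 0 = 0 ∧ π ≫ y₂ = x₂ ≫ a 0
  E : ∀ (n : ℕ) {T : A} (y₂ : T ⟶ L.X (n + 1)), y₂ ≫ L.d (n + 1) = 0 →
    ∃ (T' : A) (π : T' ⟶ T) (_ : Epi π) (x₂ : T' ⟶ K.X (n + 1)) (y₁ : T' ⟶ L.X n),
      x₂ ≫ K.d (n + 1) = 0 ∧ π ≫ y₂ = x₂ ≫ a (n + 1) + y₁ ≫ L.d n

/-- existence of the resolution -/
noncomputable def res : Res K P where
  L :=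
    { X := fun n => (stage K P emb n).L
      d := fun n => (stage K P emb n).dnext emb
      sq := fun n => by
        change (stage K P emb n).dnext emb ≫ cokernel.π _ ≫ _ = 0
        rw [cokernel.condition_assoc, zero_comp] }
  a := fun n => (stage K P emb n).a
  comm := fun n => (stage K P emb n).d_a' emb
  hP := fun n => (stage K P emb n).hP
  mono := fun n => (stage K P emb n).mono_a
  M := fun n _ x₂ y₁ h => (stage K P emb n).M emb x₂ y₁ h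
  E0 := fun y₂ h => E_zero K P emb y₂ h
  E := fun n _ y₂ h => (stage K P emb n).E_succ emb y₂ h

end Groth.Agent.Helper1.ResCore
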