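import Mathlib
import Groth.Agent.Helper1.ResCore

set_option autoImplicit false
set_option linter.unusedSectionVars false

/-! Resolutions of complexes (indexed by `ℕ`, or by `ℤ` and bounded below) by objects of a class. -/

namespace Groth.Agent.Helper1.ResCx
open CategoryTheory Limits Category HomologicalComplex ResCore

universe v u
variable {A : Type u} [Category.{v} A] [Abelian A]

/-- the `ℕ`-indexed complex of a sequence -/
noncomputable def _root_.Groth.Agent.Helper1.ResCore.Seq.cx (L : Seq A) : CochainComplex A ℕ :=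
  CochainComplex.of L.X L.d L.sq

@[simp] lemma cx_d (L : Seq A) (n : ℕ) : L.cx.d n (n + 1) = L.d n := CochainComplex.of_d _ _ _

lemma cx_d_self (L : Seq A) (n : ℕ) : L.cx.d n n = 0 := L.cx.shape _ _ (by simp)

section nat
variable (K : CochainComplex A ℕ)

/-- the sequence underlying an `ℕ`-indexed complex -/
def seqOfNat : Seq A where
  X n := K.X n
  d n := K.d n (n + 1)
  sq n := K.d_comp_d _ _ _

variable {K} {P : ℕ → A → Prop} (R : Res (seqOfNat K) P)

/-- the resolving complex -/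
noncomputable def Lnat : CochainComplex A ℕ := R.L.cx

@[simp] lemma Lnat_d (n : ℕ) : (Lnat R).d n (n + 1) = R.L.d n := cx_d _ _

/-- the resolution map -/
noncomputable def αnat : K ⟶ Lnat R where
  f n := R.a n
  comm' i j hij := by
    obtain rfl : i + 1 = j := hij
    rw [Lnat_d]
    exact (R.comm i).symm

lemma Lnat_d_self (n : ℕ) : (Lnat R).d n n = 0 := (Lnat R).shape _ _ (by simp)

/-- typed version of `R.a` -/
noncomputable abbrev an (n : ℕ) : K.X n ⟶ (Lnat R).X n := (αnat R).f n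

lemma an_comm (n : ℕ) : K.d n (n + 1) ≫ an R (n + 1) = an R n ≫ (Lnat R).d n (n + 1) :=
  ((αnat R).comm n (n + 1)).symm

instance (n : ℕ) : Mono ((αnat R).f n) := R.mono n

lemma hP_nat (n : ℕ) : P n ((Lnat R).X n) := R.hP n

lemma E0_nat {T : A} (y₂ : T ⟶ (Lnat R).X 0) (h : y₂ ≫ (Lnat R).d 0 1 = 0) :
    ∃ (T' : A) (π : T' ⟶ T) (_ : Epi π) (x₂ : T' ⟶ K.X 0),
      x₂ ≫ K.d 0 1 = 0 ∧ π ≫ y₂ = x₂ ≫ an R 0 := R.E0 y₂ (by rw [← Lnat_d]; exact h)

lemma E_nat (n : ℕ) {T : A} (y₂ : T ⟶ (Lnat R).X (n + 1))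
    (h : y₂ ≫ (Lnat R).d (n + 1) (n + 2) = 0) :
    ∃ (T' : A) (π : T' ⟶ T) (_ : Epi π) (x₂ : T' ⟶ K.X (n + 1)) (y₁ : T' ⟶ (Lnat R).X n),
      x₂ ≫ K.d (n + 1) (n + 2) = 0 ∧
        π ≫ y₂ = x₂ ≫ an R (n + 1) + y₁ ≫ (Lnat R).d n (n + 1) := by
  obtain ⟨T', π, hπ, x₂, y₁, h₁, h₂⟩ := R.E n y₂ (by rw [← Lnat_d]; exact h)
  exact ⟨T', π, hπ, x₂, y₁, h₁, by rw [Lnat_d]; exact h₂⟩

lemma M_nat (n : ℕ) {T : A} (x₂ : T ⟶ K.X (n + 1)) (y₁ : T ⟶ (Lnat R).X n)
    (h : x₂ ≫ an R (n + 1) = y₁ ≫ (Lnat R).d n (n + 1)) :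
    ∃ (T' : A) (π : T' ⟶ T) (_ : Epi π) (x₁ : T' ⟶ K.X n), π ≫ x₂ = x₁ ≫ K.d n (n + 1) :=
  R.M n x₂ y₁ (by rw [← Lnat_d]; exact h)

instance quasiIso_αnat : QuasiIso (αnat R) where
  quasiIsoAt j := by
    rw [quasiIsoAt_iff_isIso_homologyMap]
    rcases j with _ | n
    · have hm : Mono (homologyMap (αnat R) 0) := by
        rw [mono_homologyMap_iff_up_to_refinements (αnat R) 0 0 1 (by simp) (by simp)]
        intro T x₂ _ y₁ h
        have hx : x₂ = 0 := by
          have := R.mono 0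
          rw [Lnat_d_self, comp_zero] at h
          have h' : x₂ ≫ R.a 0 = 0 ≫ R.a 0 := by rw [zero_comp]; exact h
          exact (cancel_mono (R.a 0)).1 h' 
        exact ⟨T, 𝟙 T, inferInstance, 0, by rw [hx, comp_zero, zero_comp]⟩
      have he : Epi (homologyMap (αnat R) 0) := by
        rw [epi_homologyMap_iff_up_to_refinements (αnat R) 0 0 1 (by simp) (by simp)]
        intro T y₂ h
        obtain ⟨T', π, hπ, x₂, hx₂, e⟩ := R.E0 y₂ (by rw [← Lnat_d]; exact h)
        exact ⟨T', π, hπ, x₂, hx₂, 0, by rw [zero_comp, add_zero]; exact e⟩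
      exact isIso_of_mono_of_epi _
    · have hm : Mono (homologyMap (αnat R) (n + 1)) := by
        rw [mono_homologyMap_iff_up_to_refinements (αnat R) n (n + 1) (n + 2) (by simp)
          (by simp)]
        intro T x₂ _ y₁ h
        exact R.M n x₂ y₁ (by rw [← Lnat_d]; exact h)
      have he : Epi (homologyMap (αnat R) (n + 1)) := by
        rw [epi_homologyMap_iff_up_to_refinements (αnat R) n (n + 1) (n + 2) (by simp)
          (by simp)]
        intro T y₂ h
        obtain ⟨T', π, hπ, x₂, y₁, hx₂, e⟩ := R.E n y₂ (by rw [← Lnat_d]; exact h)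
        exact ⟨T', π, hπ, x₂, hx₂, y₁, by rw [Lnat_d]; exact e⟩
      exact isIso_of_mono_of_epi _

end nat

/-- every `ℕ`-indexed cochain complex has a termwise mono quasi-isomorphism to a complex with
terms in the class `P`. -/
theorem exists_nat (P : ℕ → A → Prop)
    (emb : ∀ (n : ℕ) (Y : A), ∃ (Y' : A) (ι : Y ⟶ Y'), P n Y' ∧ Mono ι)
    (K : CochainComplex A ℕ) :
    ∃ (L : CochainComplex A ℕ) (α : K ⟶ L), (∀ n, P n (L.X n)) ∧ (∀ n, Mono (α.f n)) ∧
      QuasiIso α :=
  ⟨Lnat (res (seqOfNat K) P emb), αnat _, (res (seqOfNat K) P emb).hP,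
    (res (seqOfNat K) P emb).mono, inferInstance⟩

section int
variable (K : CochainComplex A ℤ)

/-- the sequence underlying the nonnegative part of a `ℤ`-indexed complex -/
def seqOfInt : Seq A where
  X n := K.X (Int.ofNat n)
  d n := K.d (Int.ofNat n) (Int.ofNat (n + 1))
  sq n := K.d_comp_d _ _ _

variable {K} {P : ℕ → A → Prop} (R : Res (seqOfInt K) P) (Z : A)

/-- the objects of the `ℤ`-indexed resolving complex -/
def XZ : ℤ → A
  | Int.ofNat k => R.L.X k
  | Int.negSucc _ => Z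

/-- the differentials of the `ℤ`-indexed resolving complex -/
noncomputable def dZ : ∀ i j : ℤ, XZ R Z i ⟶ XZ R Z j
  | Int.ofNat p, Int.ofNat q => R.L.cx.d p q
  | Int.ofNat _, Int.negSucc _ => 0
  | Int.negSucc _, Int.ofNat _ => 0
  | Int.negSucc _, Int.negSucc _ => 0

@[simp] lemma dZ_ofNat (p q : ℕ) : dZ R Z (Int.ofNat p) (Int.ofNat q) = R.L.cx.d p q := rfl

/-- the `ℤ`-indexed resolving complex -/
noncomputable def Lint : CochainComplex A ℤ where
  X := XZ R Z
  d := dZ R Z
  shape i j hij := by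
    rcases i with p | p <;> rcases j with q | q
    · refine R.L.cx.shape p q (fun h => hij ?_)
      change Int.ofNat p + 1 = Int.ofNat q
      obtain rfl : p + 1 = q := h
      rfl
    all_goals rfl
  d_comp_d' i j k _ _ := by
    rcases i with p | p <;> rcases j with q | q <;> rcases k with r | r
    · exact R.L.cx.d_comp_d _ _ _
    all_goals first | exact zero_comp | exact comp_zero

@[simp] lemma Lint_d_ofNat (p q : ℕ) :
    (Lint R Z).d (Int.ofNat p) (Int.ofNat q) = R.L.cx.d p q := rfl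

lemma Lint_d_succ (p : ℕ) :
    (Lint R Z).d (Int.ofNat p) (Int.ofNat (p + 1)) = R.L.d p := cx_d _ _

variable [K.IsStrictlyGE 0]

lemma isZero_K_negSucc (m : ℕ) : IsZero (K.X (Int.negSucc m)) :=
  K.isZero_of_isStrictlyGE 0 _ (by simp [Int.negSucc_eq]; omega)

/-- the components of the resolution map -/
noncomputable def fZ : ∀ i : ℤ, K.X i ⟶ XZ R Z i
  | Int.ofNat k => R.a k
  | Int.negSucc _ => 0

/-- the resolution map -/
noncomputable def αint : K ⟶ Lint R Z where
  f := fZ R Z
  comm' i j hij := by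
    rcases i with p | p <;> rcases j with q | q
    · have hpq : p + 1 = q := by
        have : Int.ofNat p + 1 = Int.ofNat q := hij
        exact Int.ofNat.inj this
      subst hpq
      change R.a p ≫ R.L.cx.d p (p + 1) = K.d (Int.ofNat p) (Int.ofNat (p + 1)) ≫ R.a (p + 1)
      rw [cx_d]
      exact (R.comm p).symm
    · change R.a p ≫ 0 = _ ≫ 0
      rw [comp_zero, comp_zero]
    · exact (isZero_K_negSucc p).eq_of_src _ _
    · exact (isZero_K_negSucc p).eq_of_src _ _

@[simp] lemma αint_f_ofNat (k : ℕ) : (αint R Z).f (Int.ofNat k) = R.a k := rfl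

variable {Z}

lemma quasiIso_αint (hZ : IsZero Z) : QuasiIso (αint R Z) where
  quasiIsoAt j := by
    rw [quasiIsoAt_iff_isIso_homologyMap]
    rcases j with n | m
    · rcases n with _ | n
      · have hm : Mono (homologyMap (αint R Z) (Int.ofNat 0)) := by
          rw [mono_homologyMap_iff_up_to_refinements (αint R Z) (Int.negSucc 0) (Int.ofNat 0)
            (Int.ofNat 1) (by simp) (by simp)]
          intro T x₂ _ y₁ h
          have hx : x₂ = 0 := by
            have := R.mono 0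
            have h' : x₂ ≫ R.a 0 = 0 ≫ R.a 0 := by
              rw [zero_comp]
              exact h.trans comp_zero
            exact (cancel_mono (R.a 0)).1 h'
          exact ⟨T, 𝟙 T, inferInstance, 0, by rw [hx, comp_zero, zero_comp]⟩
        have he : Epi (homologyMap (αint R Z) (Int.ofNat 0)) := by
          rw [epi_homologyMap_iff_up_to_refinements (αint R Z) (Int.negSucc 0) (Int.ofNat 0)
            (Int.ofNat 1) (by simp) (by simp)]
          intro T y₂ h
          obtain ⟨T', π, hπ, x₂, hx₂, e⟩ := R.E0 y₂ (by rw [← Lint_d_succ R Z]; exact h)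
          exact ⟨T', π, hπ, x₂, hx₂, 0, by rw [zero_comp, add_zero]; exact e⟩
        exact isIso_of_mono_of_epi _
      · have hm : Mono (homologyMap (αint R Z) (Int.ofNat (n + 1))) := by
          rw [mono_homologyMap_iff_up_to_refinements (αint R Z) (Int.ofNat n)
            (Int.ofNat (n + 1)) (Int.ofNat (n + 2)) (by simp) (by simp; ring)]
          intro T x₂ _ y₁ h
          exact R.M n x₂ y₁ (by rw [← Lint_d_succ R Z]; exact h)
        have he : Epi (homologyMap (αint R Z) (Int.ofNat (n + 1))) := by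
          rw [epi_homologyMap_iff_up_to_refinements (αint R Z) (Int.ofNat n)
            (Int.ofNat (n + 1)) (Int.ofNat (n + 2)) (by simp) (by simp; ring)]
          intro T y₂ h
          obtain ⟨T', π, hπ, x₂, y₁, hx₂, e⟩ :=
            R.E n y₂ (by rw [← Lint_d_succ R Z]; exact h)
          exact ⟨T', π, hπ, x₂, hx₂, y₁, by rw [Lint_d_succ]; exact e⟩
        exact isIso_of_mono_of_epi _
    · have h1 : IsZero (K.homology (Int.negSucc m)) :=
        (K.exactAt_iff_isZero_homology _).1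
          (ShortComplex.exact_of_isZero_X₂ _ (isZero_K_negSucc m))
      have h2 : IsZero ((Lint R Z).homology (Int.negSucc m)) :=
        ((Lint R Z).exactAt_iff_isZero_homology _).1 (ShortComplex.exact_of_isZero_X₂ _ hZ)
      exact ⟨⟨0, h1.eq_of_src _ _, h2.eq_of_src _ _⟩⟩

lemma isStrictlyGE_Lint (hZ : IsZero Z) : (Lint R Z).IsStrictlyGE 0 := by
  rw [CochainComplex.isStrictlyGE_iff]
  intro i hi
  rcases i with n | m
  · exact absurd hi (by simp)
  · exact hZ

end int

/-- every cochain complex in degrees `≥ 0` has a termwise mono quasi-isomorphism to a complex in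
degrees `≥ 0` with terms in the class `P` in nonnegative degrees, and a given zero object in
negative degrees. -/
theorem exists_int_zero (P : ℕ → A → Prop)
    (emb : ∀ (n : ℕ) (Y : A), ∃ (Y' : A) (ι : Y ⟶ Y'), P n Y' ∧ Mono ι)
    (K : CochainComplex A ℤ) [K.IsStrictlyGE 0] (Z : A) (hZ : IsZero Z) :
    ∃ (L : CochainComplex A ℤ) (α : K ⟶ L), L.IsStrictlyGE 0 ∧
      (∀ n : ℕ, P n (L.X (Int.ofNat n))) ∧ (∀ m : ℕ, L.X (Int.negSucc m) = Z) ∧
      (∀ n, Mono (α.f n)) ∧ QuasiIso α := by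
  let R := res (seqOfInt K) P emb
  refine ⟨Lint R Z, αint R Z, isStrictlyGE_Lint R hZ, R.hP, fun _ => rfl, ?_, quasiIso_αint R hZ⟩
  intro n
  rcases n with n | m
  · exact R.mono n
  · exact ⟨fun g h _ => (isZero_K_negSucc m).eq_of_tgt g h⟩

/-- every cochain complex in degrees `≥ a` has a termwise mono quasi-isomorphism to a complex in
degrees `≥ a` with terms in the class `I` (containing a zero object, and such that every object
embeds in an object of `I`). -/
theorem exists_int (I : A → Prop) (hI0 : ∃ Z : A, IsZero Z ∧ I Z)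
    (hI : ∀ X : A, ∃ (Y : A) (ι : X ⟶ Y), I Y ∧ Mono ι)
    (K : CochainComplex A ℤ) (a : ℤ) [K.IsStrictlyGE a] :
    ∃ (L : CochainComplex A ℤ) (α : K ⟶ L), L.IsStrictlyGE a ∧ (∀ n, I (L.X n)) ∧
      (∀ n, Mono (α.f n)) ∧ QuasiIso α := by
  obtain ⟨Z, hZ, hIZ⟩ := hI0
  have : (K⟦a⟧).IsStrictlyGE 0 := K.isStrictlyGE_shift a a 0 (by simp)
  obtain ⟨L', α', hL', h1, h2, h3, h4⟩ :=
    exists_int_zero (fun _ => I) (fun _ => hI) (K⟦a⟧) Z hZ
  have hI' : ∀ m : ℤ, I (L'.X m) := by
    intro m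
    rcases m with n | m
    · exact h1 n
    · rw [h2]; exact hIZ
  let e := (shiftFunctorCompIsoId (CochainComplex A ℤ) a (-a) (add_neg_cancel a)).symm.app K
  refine ⟨L'⟦-a⟧, e.hom ≫ α'⟦-a⟧', L'.isStrictlyGE_shift 0 (-a) a (by simp),
    fun n => hI' _, fun n => ?_, ?_⟩
  · have : Mono ((α'⟦-a⟧').f n) := h3 _
    have : IsIso (e.hom.f n) :=
      inferInstanceAs (IsIso ((HomologicalComplex.eval _ _ n).map e.hom))
    rw [HomologicalComplex.comp_f]
    infer_instance
  · have : QuasiIso (α'⟦-a⟧') := (CochainComplex.quasiIso_shift_iff α' (-a)).2 h4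
    infer_instance

end Groth.Agent.Helper1.ResCx
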