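import Mathlib
import Groth.Agent.Helper1.Leray
import Groth.Agent.Helper1.TBridge
import Groth.Agent.Helper1.ResCx

set_option autoImplicit false
set_option linter.unusedSectionVars false

/-! Objects of a class adapted to an additive functor `f` (in the sense that `f` preserves
acyclic `ℕ`-indexed complexes with terms in the class) are right `f`-acyclic. -/

namespace Groth.Agent.Helper1.ClassAcyc
open CategoryTheory Limits Category HomologicalComplex DerivedCategory Leray ResCore ResCx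

universe w' w v' v u' u

section general
variable {C : Type u} [Category.{v} C] [Abelian C] [HasDerivedCategory.{w} C] [EnoughInjectives C]
  {D : Type u'} [Category.{v'} D] [Abelian D] [HasDerivedCategory.{w'} D]
  (F : C ⥤ D) [F.Additive]

/-- a quasi-isomorphism from a bounded below complex of injectives induces monomorphisms on the
homology of the images under `F`. -/
lemma mono_homologyMap_map {J O : CochainComplex.Plus C} (hJ : ∀ n, Injective (J.obj.X n))
    (t : J ⟶ O) [QuasiIso t.hom] (i : ℤ) :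
    Mono (HomologicalComplex.homologyMap
      ((F.mapHomologicalComplex (ComplexShape.up ℤ)).map t.hom) i) := by
  have nat := (RFLes.θ F).naturality t
  have i1 := RFLes.isIso_θ_app F J hJ
  have i2 := isIso_Ψ_map F t
  have i3 : IsIso ((RFLes.G F).map t ≫ (RFLes.θ F).app O) := by rw [nat]; infer_instance
  have hs : IsSplitMono ((RFLes.G F).map t) :=
    IsSplitMono.mk' ⟨(RFLes.θ F).app O ≫ inv ((RFLes.G F).map t ≫ (RFLes.θ F).app O), by
      rw [← assoc, IsIso.hom_inv_id]⟩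
  have hm : Mono ((RFLes.G F ⋙ DerivedCategory.homologyFunctor D i).map t) :=
    inferInstanceAs (Mono ((DerivedCategory.homologyFunctor D i).map ((RFLes.G F).map t)))
  have e := (GHIso F i).hom.naturality t
  have e' : HomologicalComplex.homologyMap
      ((F.mapHomologicalComplex (ComplexShape.up ℤ)).map t.hom) i =
      (GHIso F i).inv.app J ≫ (RFLes.G F ⋙ DerivedCategory.homologyFunctor D i).map t ≫
        (GHIso F i).hom.app O := by
    rw [e, Iso.inv_hom_id_app_assoc]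
    rfl
  rw [e']
  have m1 : Mono ((GHIso F i).hom.app O) := (((GHIso F i).app O).isIso_hom).mono_of_iso
  have m2 : Mono ((GHIso F i).inv.app J) := (((GHIso F i).app J).isIso_inv).mono_of_iso
  have m3 : Mono ((RFLes.G F ⋙ DerivedCategory.homologyFunctor D i).map t ≫
      (GHIso F i).hom.app O) := @mono_comp _ _ _ _ _ _ hm _ m1
  exact @mono_comp _ _ _ _ _ _ m2 _ m3

end general

section aug
variable {A : Type u} [Category.{v} A] [Abelian A] {𝒪 : A → Prop}
  {X : A} (I : InjectiveResolution X) (R : Res (seqOfNat I.cocomplex) (fun _ => 𝒪))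

/-- typed version of `I.ι.f 0` -/
noncomputable def ι0 : X ⟶ I.cocomplex.X 0 := I.ι.f 0

instance : Mono (ι0 I) := inferInstanceAs (Mono (I.ι.f 0))

lemma ι0_d : ι0 I ≫ I.cocomplex.d 0 1 = 0 := I.ι_f_zero_comp_complex_d

lemma exists_lift_ι0 {T : A} (y : T ⟶ I.cocomplex.X 0) (hy : y ≫ I.cocomplex.d 0 1 = 0) :
    ∃ z : T ⟶ X, z ≫ ι0 I = y :=
  ⟨(KernelFork.IsLimit.lift' I.isLimitKernelFork y hy).1,
    (KernelFork.IsLimit.lift' I.isLimitKernelFork y hy).2⟩

/-- the augmentation `X ⟶ O⁰` -/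
noncomputable def ε : X ⟶ (Lnat R).X 0 := ι0 I ≫ an R 0

lemma ε_d : ε I R ≫ (Lnat R).d 0 1 = 0 := by
  rw [ε, assoc, ← an_comm, ← assoc, ι0_d, zero_comp]

instance : Mono (ε I R) := mono_comp _ _

/-- the augmented complex `X → O⁰ → O¹ → ⋯` -/
noncomputable def Aug : CochainComplex A ℕ := (Lnat R).augment (ε I R) (ε_d I R)

lemma Aug_mem (hX : 𝒪 X) : ∀ i, 𝒪 ((Aug I R).X i)
  | 0 => hX
  | i + 1 => hP_nat R i

lemma Aug_exact₁ : (ShortComplex.mk (ε I R) ((Lnat R).d 0 1) (ε_d I R)).Exact := by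
  rw [ShortComplex.exact_iff_exact_up_to_refinements]
  intro T x₂ hx₂
  replace hx₂ : x₂ ≫ (Lnat R).d 0 1 = 0 := hx₂
  obtain ⟨T₁, π₁, hπ₁, y, hy, e⟩ := E0_nat R x₂ hx₂
  obtain ⟨z, hz⟩ := exists_lift_ι0 I y hy
  refine ⟨T₁, π₁, hπ₁, z, ?_⟩
  change π₁ ≫ x₂ = z ≫ ι0 I ≫ an R 0
  rw [e, ← assoc, hz]

lemma Aug_exact₂ (k : ℕ) : (ShortComplex.mk ((Lnat R).d k (k + 1)) ((Lnat R).d (k + 1) (k + 2))
    ((Lnat R).d_comp_d _ _ _)).Exact := by
  rw [ShortComplex.exact_iff_exact_up_to_refinements]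
  intro T x₂ hx₂
  replace hx₂ : x₂ ≫ (Lnat R).d (k + 1) (k + 2) = 0 := hx₂
  obtain ⟨T₁, π₁, hπ₁, y, y₁, hy, e⟩ := E_nat R k x₂ hx₂
  obtain ⟨T₂, π₂, hπ₂, z, hz⟩ := (I.exact_succ k).exact_up_to_refinements y hy
  replace hz : π₂ ≫ y = z ≫ I.cocomplex.d k (k + 1) := hz
  refine ⟨T₂, π₂ ≫ π₁, inferInstance, z ≫ an R k + π₂ ≫ y₁, ?_⟩
  change (π₂ ≫ π₁) ≫ x₂ = (z ≫ an R k + π₂ ≫ y₁) ≫ (Lnat R).d k (k + 1)
  rw [assoc, e, Preadditive.comp_add, ← assoc π₂ y, hz, Preadditive.add_comp, assoc,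
    assoc, assoc, an_comm]

lemma Aug_acyclic : (Aug I R).Acyclic := by
  intro i
  rcases i with _ | _ | k
  · rw [exactAt_iff' _ 0 0 1 (by simp) (by simp)]
    exact (ShortComplex.exact_iff_mono _ rfl).2 (inferInstanceAs (Mono (ε I R)))
  · rw [exactAt_iff' _ 0 1 2 (by simp) (by simp)]
    exact Aug_exact₁ I R
  · rw [exactAt_iff' _ (k + 1) (k + 2) (k + 3) (by simp) (by simp)]
    exact Aug_exact₂ I R k

end aug

section main
variable {A : Type u} [Category.{v} A] [Abelian A] [EnoughInjectives A]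
  {B : Type u'} [Category.{v'} B] [Abelian B] (f : A ⥤ B) [f.Additive] (𝒪 : A → Prop)
  (h1 : ∀ K : CochainComplex A ℕ, (∀ i, 𝒪 (K.X i)) → K.Acyclic →
      ((f.mapHomologicalComplex (ComplexShape.up ℕ)).obj K).Acyclic)
  (h2 : ∀ X : A, ∃ (Y : A) (i : X ⟶ Y), 𝒪 Y ∧ Mono i)

include h1 in
lemma exactAt_map_Lnat {X : A} (hX : 𝒪 X) (I : InjectiveResolution X)
    (R : Res (seqOfNat I.cocomplex) (fun _ => 𝒪)) (m : ℕ) :
    ((f.mapHomologicalComplex (ComplexShape.up ℕ)).obj (Lnat R)).ExactAt (m + 1) := by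
  have h := h1 (Aug I R) (Aug_mem I R hX) (Aug_acyclic I R) (m + 2)
  rw [exactAt_iff' _ (m + 1) (m + 2) (m + 3) (by simp) (by simp)] at h
  rw [exactAt_iff' _ m (m + 1) (m + 2) (by simp) (by simp)]
  exact h

include h1 h2 in
theorem isZero_rightDerived (X : A) (hX : 𝒪 X) (n : ℕ) (hn : 0 < n) :
    IsZero ((f.rightDerived n).obj X) := by
  let _ : HasDerivedCategory A := HasDerivedCategory.standard _
  let _ : HasDerivedCategory B := HasDerivedCategory.standard _
  rw [TBridge.isZero_rightDerived_iff]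
  let I := injectiveResolution X
  let R : Res (seqOfNat I.cocomplex) (fun _ => 𝒪) := res _ _ (fun _ => h2)
  obtain ⟨m, rfl⟩ : ∃ m, n = m + 1 := ⟨n - 1, by omega⟩
  refine IsZero.of_iso ?_ (THIso f I ((m + 1 : ℕ) : ℤ))
  -- the complexes in `Plus`
  let e := ComplexShape.embeddingUpNat
  let OP : CochainComplex.Plus A := ⟨(Lnat R).extend e, 0, inferInstance⟩
  let t : Acyc.resP I ⟶ OP := ObjectProperty.homMk (extendMap (αnat R) e)
  have : QuasiIso t.hom := inferInstanceAs (QuasiIso (extendMap (αnat R) e))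
  have hm := mono_homologyMap_map f (J := Acyc.resP I)
    (fun n => inferInstanceAs (Injective (I.cochainComplex.X n))) t ((m + 1 : ℕ) : ℤ)
  refine @IsZero.of_mono _ _ _ _ _ _ hm ?_
  -- exactness of `f O`
  have hex := exactAt_map_Lnat f 𝒪 h1 hX I R m
  rw [exactAt_iff_isZero_homology] at hex
  refine IsZero.of_iso hex ?_
  exact (HomologicalComplex.homologyFunctor B _ _).mapIso (MapExtend.mapExtendIso e f (Lnat R)) ≪≫
    (((f.mapHomologicalComplex _).obj (Lnat R)).extendHomologyIso e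
      (by simp [e] : e.f (m + 1) = ((m + 1 : ℕ) : ℤ)))

end main

end Groth.Agent.Helper1.ClassAcyc
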