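import Mathlib
import Groth.Prelude.Def_CohDer
import Groth.Agent.Helper1.Compact

set_option autoImplicit false
set_option linter.unusedSectionVars false

namespace Groth.Agent.Helper1.CompactEnv
open CategoryTheory Limits CohDer Pretriangulated ZeroObject Groth.Agent.Helper1.Compact

universe v u
variable {D : Type u} [Category.{v} D] [Preadditive D] [HasZeroObject D] [HasShift D ℤ]
    [∀ n : ℤ, (shiftFunctor D n).Additive] [Pretriangulated D] [IsTriangulated D]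
    [HasCoproducts.{v} D]

lemma isCompactObject_of_retract {K K' : D} (r : Retract K K') (hK' : IsCompactObject K') :
    IsCompactObject K := by
  apply isCompactObject_of_forall
  intro ι X φ
  obtain ⟨S, hS⟩ := exists_one_sub_proj_comp_eq_zero hK' X (r.r ≫ φ)
  refine ⟨S, ?_⟩
  have : φ = r.i ≫ r.r ≫ φ := by rw [← Category.assoc, r.retract, Category.id_comp]
  rw [this, Category.assoc, Category.assoc, ← Category.assoc r.r, hS, comp_zero]

instance : ObjectProperty.IsStableUnderRetracts (fun K : D => IsCompactObject K) where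
  of_retract r h := isCompactObject_of_retract r h

instance : ObjectProperty.IsTriangulated (fun K : D => IsCompactObject K) :=
  isTriangulated_isCompactObject

variable {ι : Type v} (E : ι → D)

/-- the finite set of generators -/
def Pfin (s : Finset ι) : ObjectProperty D := fun Y => ∃ i ∈ s, Y = E i

/-- its triangulated envelope -/
abbrev Env (s : Finset ι) : ObjectProperty D := (Pfin E s).triangEnvelope

lemma pfin_nonempty {s : Finset ι} (hs : s.Nonempty) : (Pfin E s).Nonempty := by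
  obtain ⟨i, hi⟩ := hs
  exact ⟨E i, i, hi, rfl⟩

lemma env_mono {s t : Finset ι} (h : s ⊆ t) : Env E s ≤ Env E t :=
  ObjectProperty.monotone_triangEnvelope (fun _ ⟨i, hi, e⟩ => ⟨i, h hi, e⟩)

lemma env_compact (hc : ∀ i, IsCompactObject (E i)) (s : Finset ι) :
    Env E s ≤ (fun K : D => IsCompactObject K) := by
  rw [ObjectProperty.triangEnvelope_le_iff]
  rintro Y ⟨i, _, rfl⟩
  exact hc i

lemma env_zero {s : Finset ι} (hs : s.Nonempty) {Z : D} (hZ : IsZero Z) : Env E s Z := by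
  have := pfin_nonempty E hs
  have : (Env E s).IsTriangulated := inferInstance
  exact ObjectProperty.prop_of_isZero _ hZ

lemma env_biprod {s : Finset ι} (hs : s.Nonempty) {X Y : D} (hX : Env E s X) (hY : Env E s Y) :
    Env E s (X ⊞ Y) := by
  have := pfin_nonempty E hs
  have : (Env E s).IsTriangulated := inferInstance
  exact (Env E s).ext_of_isTriangulatedClosed₂ _ (binaryBiproductTriangle_distinguished X Y) hX hY

lemma env_ext₂ {s : Finset ι} (hs : s.Nonempty) (T : Triangle D) (hT : T ∈ distTriang D)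
    (h₁ : Env E s T.obj₁) (h₃ : Env E s T.obj₃) : Env E s T.obj₂ := by
  have := pfin_nonempty E hs
  have : (Env E s).IsTriangulated := inferInstance
  exact (Env E s).ext_of_isTriangulatedClosed₂ _ hT h₁ h₃

lemma env_shift_gen (i : ι) (m : ℤ) : Env E {i} ((shiftFunctor D m).obj (E i)) :=
  (Env E {i}).le_shift m _ ((Pfin E {i}).le_triangEnvelope _ ⟨i, by simp, rfl⟩)

/-- a map factors through an object of a finite envelope -/
def Fact {C W : D} (φ : C ⟶ W) : Prop :=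
  ∃ s : Finset ι, s.Nonempty ∧ ∃ (E' : D) (g : C ⟶ E') (h : E' ⟶ W), Env E s E' ∧ g ≫ h = φ

variable {E}

lemma fact_zero [Nonempty ι] (C W : D) : Fact E (0 : C ⟶ W) := by
  obtain ⟨i⟩ := ‹Nonempty ι›
  exact ⟨{i}, ⟨i, by simp⟩, 0, 0, 0, env_zero E ⟨i, by simp⟩ (isZero_zero _), by simp⟩

lemma fact_comp {C W W' : D} {φ : C ⟶ W} (h : Fact E φ) (u : W ⟶ W') : Fact E (φ ≫ u) := by
  obtain ⟨s, hs, E', g, h, hE', fac⟩ := h
  exact ⟨s, hs, E', g, h ≫ u, hE', by rw [← Category.assoc, fac]⟩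

lemma fact_add {C W : D} {φ₁ φ₂ : C ⟶ W} (h₁ : Fact E φ₁) (h₂ : Fact E φ₂) :
    Fact E (φ₁ + φ₂) := by
  classical
  obtain ⟨s₁, hs₁, E₁, g₁, k₁, hE₁, fac₁⟩ := h₁
  obtain ⟨s₂, hs₂, E₂, g₂, k₂, hE₂, fac₂⟩ := h₂
  refine ⟨s₁ ∪ s₂, hs₁.mono Finset.subset_union_left, E₁ ⊞ E₂, biprod.lift g₁ g₂,
    biprod.desc k₁ k₂, ?_, ?_⟩
  · exact env_biprod E (hs₁.mono Finset.subset_union_left)
      (env_mono E Finset.subset_union_left _ hE₁) (env_mono E Finset.subset_union_right _ hE₂)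
  · rw [biprod.lift_desc, fac₁, fac₂]

lemma fact_of_env {C W : D} (φ : C ⟶ W) {s : Finset ι} (hs : s.Nonempty) (hW : Env E s W) :
    Fact E φ :=
  ⟨s, hs, W, φ, 𝟙 _, hW, Category.comp_id _⟩

lemma fact_sum [Nonempty ι] {C W : D} {κ : Type*} (S : Finset κ) (ψ : κ → (C ⟶ W))
    (h : ∀ k ∈ S, Fact E (ψ k)) : Fact E (∑ k ∈ S, ψ k) := by
  classical
  induction S using Finset.induction_on with
  | empty => simpa using fact_zero C W
  | insert a S ha ih =>
    rw [Finset.sum_insert ha]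
    exact fact_add (h a (Finset.mem_insert_self _ _))
      (ih (fun k hk => h k (Finset.mem_insert_of_mem hk)))

/-- Lemma A -/
lemma fact_of_compact_to_coprod [Nonempty ι] {C : D} (hC : IsCompactObject C) {κ : Type v}
    (X : κ → D) (hX : ∀ k, ∃ s : Finset ι, s.Nonempty ∧ Env E s (X k)) (φ : C ⟶ ∐ X) :
    Fact E φ := by
  obtain ⟨S, hS⟩ := (isCompactObject_iff C).1 hC κ X φ
  rw [← hS, proj_eq_sum, Preadditive.comp_sum]
  apply fact_sum
  intro k _
  obtain ⟨s, hs, hk⟩ := hX k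
  rw [← Category.assoc]
  exact fact_comp (fact_of_env _ hs hk) _

lemma fact_step [Nonempty ι] (hc : ∀ i, IsCompactObject (E i)) {Y Kn Kn1 : D}
    (y : Y ⟶ Kn) (f : Kn ⟶ Kn1) (z : Kn1 ⟶ (shiftFunctor D (1 : ℤ)).obj Y)
    (hT : Triangle.mk y f z ∈ distTriang D)
    (hY : ∀ (C : D), IsCompactObject C → ∀ ψ : C ⟶ (shiftFunctor D (1 : ℤ)).obj Y, Fact E ψ)
    (IH : ∀ (C : D), IsCompactObject C → ∀ ψ : C ⟶ Kn, Fact E ψ)
    {C : D} (hC : IsCompactObject C) (φ : C ⟶ Kn1) : Fact E φ := by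
  classical
  -- step 1
  obtain ⟨s₁, hs₁, E₁, g₁, j₁, hE₁, fac₁⟩ := hY C hC (φ ≫ z)
  obtain ⟨C', v, w, hTC⟩ := distinguished_cocone_triangle₁ g₁
  have hC' : IsCompactObject C' := by
    have h := ObjectProperty.ext_of_isTriangulatedClosed₁ (fun K : D => IsCompactObject K) _ hTC
      hC (env_compact E hc s₁ _ hE₁)
    exact h
  have hrot := rot_of_distTriang _ hT
  obtain ⟨θ, hθ₁, hθ₂⟩ : ∃ θ : C' ⟶ Kn, v ≫ φ = θ ≫ f ∧
      w ≫ (shiftFunctor D (1 : ℤ)).map θ = j₁ ≫ (-(shiftFunctor D (1 : ℤ)).map y) :=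
    complete_distinguished_triangle_morphism₁ _ _ hTC hrot φ j₁ fac₁
  -- step 2
  obtain ⟨s₂, hs₂, E₂, g₂, h₂, hE₂, fac₂⟩ := IH C' hC' θ
  -- step 3
  obtain ⟨E₃, p, q, hT₃⟩ := distinguished_cocone_triangle₂ (w ≫ g₂⟦(1 : ℤ)⟧')
  have hE₃ : Env E (s₁ ∪ s₂) E₃ :=
    env_ext₂ E (hs₁.mono Finset.subset_union_left) _ hT₃
      (env_mono E Finset.subset_union_right _ hE₂) (env_mono E Finset.subset_union_left _ hE₁)
  obtain ⟨g₃, hg₃₁, hg₃₂⟩ : ∃ g₃ : C ⟶ E₃, v ≫ g₃ = g₂ ≫ p ∧ g₁ ≫ 𝟙 _ = g₃ ≫ q :=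
    complete_distinguished_triangle_morphism₂ _ _ hTC hT₃ g₂ (𝟙 _)
    (by
      change w ≫ (shiftFunctor D (1 : ℤ)).map g₂ = 𝟙 _ ≫ w ≫ (shiftFunctor D (1 : ℤ)).map g₂
      rw [Category.id_comp])
  obtain ⟨h₃, hh₃₁, hh₃₂⟩ : ∃ h₃ : E₃ ⟶ Kn1, p ≫ h₃ = h₂ ≫ f ∧ q ≫ j₁ = h₃ ≫ z :=
    complete_distinguished_triangle_morphism₂ _ _ hT₃ hrot h₂ j₁
    (by
      change (w ≫ (shiftFunctor D (1 : ℤ)).map g₂) ≫ (shiftFunctor D (1 : ℤ)).map h₂ =
        j₁ ≫ (-(shiftFunctor D (1 : ℤ)).map y)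
      rw [Category.assoc, ← Functor.map_comp, fac₂]
      exact hθ₂)
  -- step 4
  have hδ : (φ - g₃ ≫ h₃) ≫ z = 0 := by
    rw [Preadditive.sub_comp, Category.assoc, ← hh₃₂, ← Category.assoc, ← hg₃₂, Category.comp_id,
      fac₁, sub_self]
  obtain ⟨ε, hε⟩ : ∃ ε : C ⟶ Kn, φ - g₃ ≫ h₃ = ε ≫ f :=
    Triangle.coyoneda_exact₃ _ hT (φ - g₃ ≫ h₃) hδ
  have hfε : Fact E (φ - g₃ ≫ h₃) := by
    rw [hε]
    exact fact_comp (IH C hC ε) f
  have hf₃ : Fact E (g₃ ≫ h₃) :=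
    ⟨s₁ ∪ s₂, hs₁.mono Finset.subset_union_left, E₃, g₃, h₃, hE₃, rfl⟩
  have := fact_add hf₃ hfε
  rwa [add_sub_cancel] at this

theorem fact_main [Nonempty ι] (hc : ∀ i, IsCompactObject (E i))
    (K : ℕ → D) (f : ∀ n, K n ⟶ K (n + 1))
    (h0 : ∃ (κ : Type v) (a : κ → ι) (m : κ → ℤ), Nonempty (K 0 ≅ ∐ (fun k => (shiftFunctor D (m k)).obj (E (a k)))))
    (hstep : ∀ n, ∃ (κ : Type v) (a : κ → ι) (m : κ → ℤ) (y : (∐ fun k => (shiftFunctor D (m k)).obj (E (a k))) ⟶ K n)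
      (z : K (n + 1) ⟶ (shiftFunctor D (1 : ℤ)).obj (∐ fun k => (shiftFunctor D (m k)).obj (E (a k)))),
      Triangle.mk y (f n) z ∈ distinguishedTriangles) :
    ∀ (n : ℕ) (C : D), IsCompactObject C → ∀ φ : C ⟶ K n, Fact E φ := by
  intro n
  induction n with
  | zero =>
    intro C hC φ
    obtain ⟨κ, a, m, ⟨e⟩⟩ := h0
    have h1 : Fact E (φ ≫ e.hom) := fact_of_compact_to_coprod hC _
      (fun k => ⟨{a k}, ⟨a k, by simp⟩, env_shift_gen E (a k) (m k)⟩) _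
    have := fact_comp h1 e.inv
    rwa [Category.assoc, e.hom_inv_id, Category.comp_id] at this
  | succ n IH =>
    intro C hC φ
    obtain ⟨κ, a, m, y, z, hT⟩ := hstep n
    refine fact_step hc y (f n) z hT ?_ IH hC φ
    intro C₁ hC₁ ψ
    have : IsIso (sigmaComparison (shiftFunctor D (1 : ℤ))
      (fun k => (shiftFunctor D (m k)).obj (E (a k)))) := inferInstance
    have h1 : Fact E (ψ ≫ inv (sigmaComparison (shiftFunctor D (1 : ℤ))
        (fun k => (shiftFunctor D (m k)).obj (E (a k))))) :=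
      fact_of_compact_to_coprod hC₁ _
        (fun k => ⟨{a k}, ⟨a k, by simp⟩,
          (Env E {a k}).le_shift 1 _ (env_shift_gen E (a k) (m k))⟩) _
    have := fact_comp h1 (sigmaComparison (shiftFunctor D (1 : ℤ))
        (fun k => (shiftFunctor D (m k)).obj (E (a k))))
    rwa [Category.assoc, IsIso.inv_hom_id, Category.comp_id] at this

theorem exists_factor [Nonempty ι] (hc : ∀ i, IsCompactObject (E i))
    (K : ℕ → D) (f : ∀ n, K n ⟶ K (n + 1))
    (h0 : ∃ (κ : Type v) (a : κ → ι) (m : κ → ℤ), Nonempty (K 0 ≅ ∐ (fun k => (shiftFunctor D (m k)).obj (E (a k)))))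
    (hstep : ∀ n, ∃ (κ : Type v) (a : κ → ι) (m : κ → ℤ) (y : (∐ fun k => (shiftFunctor D (m k)).obj (E (a k))) ⟶ K n)
      (z : K (n + 1) ⟶ (shiftFunctor D (1 : ℤ)).obj (∐ fun k => (shiftFunctor D (m k)).obj (E (a k)))),
      Triangle.mk y (f n) z ∈ distinguishedTriangles)
    (C : D) (hC : IsCompactObject C) (n : ℕ) (φ : C ⟶ K n) :
    ∃ (s : Finset ι) (E' : D) (g : C ⟶ E') (h : E' ⟶ K n),
      ObjectProperty.triangEnvelope (fun Y : D => ∃ i ∈ s, Y = E i) E' ∧ g ≫ h = φ := by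
  obtain ⟨s, _, E', g, h, hE', fac⟩ := fact_main hc K f h0 hstep n C hC φ
  exact ⟨s, E', g, h, hE', fac⟩

end Groth.Agent.Helper1.CompactEnv
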