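import Mathlib
import Groth.Agent.Helper1.Hocolim
import Groth.Agent.Helper1.CompactEnv

/-!
# Compact generator vs classical generator of compacts
-/

set_option autoImplicit false
set_option linter.unusedSectionVars false

namespace Groth.Agent.Helper1.ClassGen
open CategoryTheory Limits CohDer Pretriangulated ZeroObject

universe v u

variable {D : Type u} [Category.{v} D] [Preadditive D] [HasZeroObject D] [HasShift D ℤ]
  [∀ n : ℤ, (shiftFunctor D n).Additive] [Pretriangulated D] [IsTriangulated D]

/-- Objects with no nonzero maps to any shift of `K`. -/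
def Orth (K : D) : ObjectProperty D := fun Y => ∀ (n : ℤ) (f : Y ⟶ (shiftFunctor D n).obj K), f = 0

instance (K : D) : (Orth K).IsStableUnderRetracts where
  of_retract := by
    intro X Y r hY n f
    have := hY n (r.r ≫ f)
    rw [← Category.id_comp f, ← r.retract, Category.assoc, this, comp_zero]

lemma orth_shift (K : D) {Y : D} (hY : Orth K Y) (a : ℤ) : Orth K ((shiftFunctor D a).obj Y) := by
  intro n f
  let e : (shiftFunctor D (-a)).obj ((shiftFunctor D n).obj K) ≅ (shiftFunctor D (n - a)).obj K :=
    ((shiftFunctorAdd' D n (-a) (n - a) (by ring)).app K).symm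
  let e' : Y ≅ (shiftFunctor D (-a)).obj ((shiftFunctor D a).obj Y) :=
    ((shiftFunctorCompIsoId D a (-a) (by ring)).app Y).symm
  have := hY (n - a) (e'.hom ≫ (shiftFunctor D (-a)).map f ≫ e.hom)
  rw [← cancel_epi e'.inv, ← cancel_mono e.inv] at this
  simp only [Category.assoc, Iso.hom_inv_id, Category.comp_id, Iso.inv_hom_id_assoc, comp_zero,
    zero_comp] at this
  apply (shiftFunctor D (-a)).map_injective
  rw [this, Functor.map_zero]

instance (K : D) : (Orth K).IsTriangulated where
  exists_zero := ⟨0, isZero_zero _, fun n f => (isZero_zero _).eq_of_src _ _⟩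
  isStableUnderShiftBy a := { le_shift := fun Y hY => orth_shift K hY a }
  ext₂' T hT h₁ h₃ := by
    apply ObjectProperty.le_isoClosure
    intro n f
    have h : T.mor₁ ≫ f = 0 := h₁ n _
    obtain ⟨g, hg⟩ := Triangle.yoneda_exact₂ T hT f h
    rw [hg, h₃ n g, comp_zero]

variable [HasCoproducts.{v} D] [HasColimitsOfShape (Discrete ℕ) D]

theorem main (E : D) (hE : IsCompactObject E) :
    Generates (fun _ : Unit => E) ↔
      (IsCompactlyGenerated D ∧ ∀ X : D, IsCompactObject X →
        ObjectProperty.triangEnvelope (fun Y : D => Y = E) X) := by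
  constructor
  · intro hg
    let E' : PUnit.{v + 1} → D := fun _ => E
    have hg' : Generates E' := fun K hK => hg K (fun _ n f => hK PUnit.unit n f)
    have hc' : ∀ i, IsCompactObject (E' i) := fun _ => hE
    refine ⟨⟨PUnit.{v + 1}, E', hc', hg'⟩, fun X hX => ?_⟩
    have hL := Hocolim.main E' X hc' hg'
    obtain ⟨N, aN, haN⟩ := Hocolim.exists_factor hL hX (Compact.isCompactObject_shift hX _) (𝟙 X)
    obtain ⟨s, E'', g, h, hE'', fac⟩ := CompactEnv.exists_factor hc' (Hocolim.KK E' X)
      (Hocolim.ff E' X)
      ⟨Hocolim.Idx E' X, fun k => k.1, fun k => k.2.1, ⟨Iso.refl _⟩⟩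
      (fun n => ⟨Hocolim.KIdx E' (Hocolim.stage E' X n), fun k => k.1.1, fun k => k.1.2.1,
        Hocolim.y E' (Hocolim.stage E' X n), Hocolim.z E' (Hocolim.stage E' X n),
        Hocolim.triangle_mem E' (Hocolim.stage E' X n)⟩) X hX N aN
    have hle : ObjectProperty.triangEnvelope (fun Y : D => ∃ i ∈ s, Y = E' i) ≤
        ObjectProperty.triangEnvelope (fun Y : D => Y = E) :=
      ObjectProperty.monotone_triangEnvelope (fun Y ⟨_, _, h⟩ => h)
    have r : Retract X E'' :=
      { i := g
        r := h ≫ Hocolim.pp E' X N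
        retract := by rw [← Category.assoc, fac, ← haN] }
    exact ObjectProperty.IsStableUnderRetracts.of_retract r (hle _ hE'')
  · rintro ⟨⟨ι', E', hc', hg'⟩, henv⟩ K hK
    apply hg'
    intro i n f
    have h1 : ObjectProperty.triangEnvelope (fun Y : D => Y = E) ≤ Orth K := by
      rw [ObjectProperty.triangEnvelope_le_iff]
      rintro Y rfl
      exact fun n f => hK () n f
    exact h1 _ (henv _ (hc' i)) n f

end Groth.Agent.Helper1.ClassGen
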