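import Mathlib

set_option autoImplicit false
set_option linter.unusedSectionVars false

/-! The "cofree" cochain complex `cof J` on a graded object `J : ℤ → A`, with terms
`J k ⊞ J (k + 1)` and differential `(a, b) ↦ (b, 0)`; every family of maps `M.X k ⟶ J k` induces a
chain map `M ⟶ cof J`, which is a termwise monomorphism if the given maps are. -/

namespace Groth.Agent.Helper1.Cofree
open CategoryTheory Limits HomologicalComplex

universe v u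

variable {A : Type u} [Category.{v} A] [Preadditive A] [HasBinaryBiproducts A]

/-- the cofree complex on a graded object -/
noncomputable def cof (J : ℤ → A) : CochainComplex A ℤ :=
  CochainComplex.of (fun k => J k ⊞ J (k + 1)) (fun _ => biprod.snd ≫ biprod.inl) (by simp)

lemma cof_d (J : ℤ → A) (k : ℤ) :
    (cof J).d k (k + 1) = (biprod.snd ≫ biprod.inl : J k ⊞ J (k + 1) ⟶ J (k + 1) ⊞ J (k + 1 + 1)) :=
  by
  change CochainComplex.of.d (fun k => J k ⊞ J (k + 1)) (fun _ => biprod.snd ≫ biprod.inl) k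
    (k + 1) = _
  exact CochainComplex.of_d _ _ _

/-- first projection -/
noncomputable def p1 (J : ℤ → A) (k : ℤ) : (cof J).X k ⟶ J k := (biprod.fst : J k ⊞ J (k + 1) ⟶ _)

/-- second projection -/
noncomputable def p2 (J : ℤ → A) (k : ℤ) : (cof J).X k ⟶ J (k + 1) :=
  (biprod.snd : J k ⊞ J (k + 1) ⟶ _)

/-- first inclusion -/
noncomputable def i1 (J : ℤ → A) (k : ℤ) : J k ⟶ (cof J).X k := (biprod.inl : _ ⟶ J k ⊞ J (k + 1))

/-- second inclusion -/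
noncomputable def i2 (J : ℤ → A) (k : ℤ) : J (k + 1) ⟶ (cof J).X k :=
  (biprod.inr : _ ⟶ J k ⊞ J (k + 1))

@[reassoc (attr := simp)]
lemma i1_p1 (J : ℤ → A) (k : ℤ) : i1 J k ≫ p1 J k = 𝟙 _ :=
  biprod.inl_fst (X := J k) (Y := J (k + 1))

@[reassoc (attr := simp)]
lemma i1_p2 (J : ℤ → A) (k : ℤ) : i1 J k ≫ p2 J k = 0 :=
  biprod.inl_snd (X := J k) (Y := J (k + 1))

@[reassoc (attr := simp)]
lemma i2_p1 (J : ℤ → A) (k : ℤ) : i2 J k ≫ p1 J k = 0 :=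
  biprod.inr_fst (X := J k) (Y := J (k + 1))

@[reassoc (attr := simp)]
lemma i2_p2 (J : ℤ → A) (k : ℤ) : i2 J k ≫ p2 J k = 𝟙 _ :=
  biprod.inr_snd (X := J k) (Y := J (k + 1))

lemma total (J : ℤ → A) (k : ℤ) : p1 J k ≫ i1 J k + p2 J k ≫ i2 J k = 𝟙 _ :=
  biprod.total (X := J k) (Y := J (k + 1))

lemma hom_ext_to (J : ℤ → A) (k : ℤ) {W : A} (f g : W ⟶ (cof J).X k)
    (h1 : f ≫ p1 J k = g ≫ p1 J k) (h2 : f ≫ p2 J k = g ≫ p2 J k) : f = g :=
  biprod.hom_ext (X := J k) (Y := J (k + 1)) f g h1 h2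

lemma hom_ext_from (J : ℤ → A) (k : ℤ) {W : A} (f g : (cof J).X k ⟶ W)
    (h1 : i1 J k ≫ f = i1 J k ≫ g) (h2 : i2 J k ≫ f = i2 J k ≫ g) : f = g :=
  biprod.hom_ext' (X := J k) (Y := J (k + 1)) f g h1 h2

@[reassoc (attr := simp)]
lemma d_p1 (J : ℤ → A) (k : ℤ) : (cof J).d k (k + 1) ≫ p1 J (k + 1) = p2 J k := by
  rw [cof_d]
  exact (by simp : (biprod.snd ≫ biprod.inl : J k ⊞ J (k + 1) ⟶ J (k + 1) ⊞ J (k + 1 + 1)) ≫
    biprod.fst = biprod.snd)

@[reassoc (attr := simp)]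
lemma d_p2 (J : ℤ → A) (k : ℤ) : (cof J).d k (k + 1) ≫ p2 J (k + 1) = 0 := by
  rw [cof_d]
  exact (by simp : (biprod.snd ≫ biprod.inl : J k ⊞ J (k + 1) ⟶ J (k + 1) ⊞ J (k + 1 + 1)) ≫
    biprod.snd = 0)

/-- morphisms to the terms -/
noncomputable def liftX (J : ℤ → A) (k : ℤ) {W : A} (a : W ⟶ J k) (b : W ⟶ J (k + 1)) :
    W ⟶ (cof J).X k := (biprod.lift a b : W ⟶ J k ⊞ J (k + 1))

@[reassoc (attr := simp)]
lemma liftX_p1 (J : ℤ → A) (k : ℤ) {W : A} (a : W ⟶ J k) (b : W ⟶ J (k + 1)) :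
    liftX J k a b ≫ p1 J k = a := biprod.lift_fst (X := J k) (Y := J (k + 1)) a b

@[reassoc (attr := simp)]
lemma liftX_p2 (J : ℤ → A) (k : ℤ) {W : A} (a : W ⟶ J k) (b : W ⟶ J (k + 1)) :
    liftX J k a b ≫ p2 J k = b := biprod.lift_snd (X := J k) (Y := J (k + 1)) a b

/-- the chain map induced by a family of maps -/
noncomputable def toCof (M : CochainComplex A ℤ) (J : ℤ → A) (ι : ∀ k, M.X k ⟶ J k) :
    M ⟶ cof J where
  f k := liftX J k (ι k) (M.d k (k + 1) ≫ ι (k + 1))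
  comm' i j hij := by
    obtain rfl : i + 1 = j := hij
    apply hom_ext_to J (i + 1)
    · simp
    · simp

@[simp] lemma toCof_f (M : CochainComplex A ℤ) (J : ℤ → A) (ι : ∀ k, M.X k ⟶ J k) (k : ℤ) :
    (toCof M J ι).f k = liftX J k (ι k) (M.d k (k + 1) ≫ ι (k + 1)) := rfl

lemma mono_toCof_f (M : CochainComplex A ℤ) (J : ℤ → A) (ι : ∀ k, M.X k ⟶ J k) (k : ℤ)
    [Mono (ι k)] : Mono ((toCof M J ι).f k) := by
  have : Mono ((toCof M J ι).f k ≫ p1 J k) := by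
    rw [toCof_f, liftX_p1]
    infer_instance
  exact mono_of_mono _ (p1 J k)

/-- functoriality of the cofree complex -/
noncomputable def cofMap {J J' : ℤ → A} (g : ∀ k, J k ⟶ J' k) : cof J ⟶ cof J' where
  f k := liftX J' k (p1 J k ≫ g k) (p2 J k ≫ g (k + 1))
  comm' i j hij := by
    obtain rfl : i + 1 = j := hij
    apply hom_ext_to J' (i + 1)
    · simp
    · simp

@[simp] lemma cofMap_f {J J' : ℤ → A} (g : ∀ k, J k ⟶ J' k) (k : ℤ) :
    (cofMap g).f k = liftX J' k (p1 J k ≫ g k) (p2 J k ≫ g (k + 1)) := rfl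

lemma cofMap_id (J : ℤ → A) : cofMap (fun k => 𝟙 (J k)) = 𝟙 (cof J) := by
  ext k
  apply hom_ext_to J k <;> simp

lemma cofMap_comp {J J' J'' : ℤ → A} (g : ∀ k, J k ⟶ J' k) (g' : ∀ k, J' k ⟶ J'' k) :
    cofMap (fun k => g k ≫ g' k) = cofMap g ≫ cofMap g' := by
  ext k
  apply hom_ext_to J'' k <;> simp

lemma toCof_cofMap {M M' : CochainComplex A ℤ} (f : M ⟶ M') {J J' : ℤ → A}
    (ι : ∀ k, M.X k ⟶ J k) (ι' : ∀ k, M'.X k ⟶ J' k) (g : ∀ k, J k ⟶ J' k)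
    (h : ∀ k, ι k ≫ g k = f.f k ≫ ι' k) : toCof M J ι ≫ cofMap g = f ≫ toCof M' J' ι' := by
  ext k
  apply hom_ext_to J' k
  · simp [h]
  · simp [h]

lemma isZero_X (J : ℤ → A) (k : ℤ) (h1 : IsZero (J k)) (h2 : IsZero (J (k + 1))) :
    IsZero ((cof J).X k) := by
  rw [IsZero.iff_id_eq_zero]
  apply hom_ext_to J k
  · exact h1.eq_of_tgt _ _
  · exact h2.eq_of_tgt _ _

end Groth.Agent.Helper1.Cofree
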