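import Groth.Agent.Helper1.Cocone
import Groth.Agent.Helper1.Cofree

set_option autoImplicit false
set_option linter.unusedSectionVars false

/-! Resolutions of unbounded complexes by complexes with terms in a class `P` satisfying a finite
cohomological dimension condition. -/

namespace Groth.Agent.Helper1.ClassRes
open CategoryTheory Limits HomologicalComplex ZeroObject

universe v u

variable {A : Type u} [Category.{v} A] [Abelian A]

/-- a termwise monomorphism out of a complex -/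
structure EmbData (T : CochainComplex A ℤ) where
  /-- the target -/
  E : CochainComplex A ℤ
  /-- the embedding -/
  e : T ⟶ E
  mono : ∀ k, Mono (e.f k)

/-- the identity embedding -/
def idEmb (T : CochainComplex A ℤ) : EmbData T :=
  ⟨T, 𝟙 T, fun k => by rw [id_f]; infer_instance⟩

lemma epi_e_f_of_eq_idEmb {T : CochainComplex A ℤ} (d : EmbData T) (h : d = idEmb T) (k : ℤ) :
    Epi (d.e.f k) := by
  subst h
  change Epi ((𝟙 T : T ⟶ T).f k)
  rw [id_f]
  infer_instance

section tower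
variable (emb : ∀ (_ : ℕ) (T : CochainComplex A ℤ), EmbData T) (X : CochainComplex A ℤ)

/-- the tower of successive cokernels -/
noncomputable def tow : ℕ → CochainComplex A ℤ
  | 0 => X
  | j + 1 => cokernel (emb j (tow j)).e

/-- the `j`-th embedding target -/
noncomputable abbrev TE (j : ℕ) : CochainComplex A ℤ := (emb j (tow emb X j)).E

/-- the `j`-th embedding -/
noncomputable abbrev te (j : ℕ) : tow emb X j ⟶ TE emb X j := (emb j (tow emb X j)).e

/-- the `j`-th projection -/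
noncomputable def tc (j : ℕ) : TE emb X j ⟶ tow emb X (j + 1) := cokernel.π (te emb X j)

@[reassoc (attr := simp)]
lemma te_tc (j : ℕ) : te emb X j ≫ tc emb X j = 0 := cokernel.condition _

@[reassoc (attr := simp)]
lemma te_tc_f (j : ℕ) (k : ℤ) : (te emb X j).f k ≫ (tc emb X j).f k = 0 := by
  rw [← comp_f, te_tc, zero_f]

instance (j : ℕ) : Epi (tc emb X j) := inferInstanceAs (Epi (cokernel.π _))

instance (j : ℕ) (k : ℤ) : Mono ((te emb X j).f k) := (emb j (tow emb X j)).mono k

instance (j : ℕ) : Mono (te emb X j) := mono_of_mono_f _ (fun _ => inferInstance)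

/-- the short exact sequence at stage `j` -/
noncomputable def SC (j : ℕ) : ShortComplex (CochainComplex A ℤ) :=
  ShortComplex.mk (te emb X j) (tc emb X j) (te_tc emb X j)

lemma shortExact_SC (j : ℕ) : (SC emb X j).ShortExact where
  exact := ShortComplex.exact_cokernel _
  mono_f := inferInstanceAs (Mono (te emb X j))
  epi_g := inferInstanceAs (Epi (tc emb X j))

instance (j : ℕ) (k : ℤ) : Epi ((tc emb X j).f k) :=
  Cocone.epi_g (SC emb X j) (shortExact_SC emb X j) k

/-- the column complex in degree `k` -/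
noncomputable def col (k : ℤ) : CochainComplex A ℕ :=
  CochainComplex.of (fun i => (TE emb X i).X k)
    (fun i => (tc emb X i).f k ≫ (te emb X (i + 1)).f k) (fun i => by
      rw [Category.assoc, te_tc_f_assoc, zero_comp, comp_zero])

lemma col_d (k : ℤ) (i : ℕ) :
    (col emb X k).d i (i + 1) = (tc emb X i).f k ≫ (te emb X (i + 1)).f k := by
  change CochainComplex.of.d (fun i => (TE emb X i).X k)
    (fun i => (tc emb X i).f k ≫ (te emb X (i + 1)).f k) i (i + 1) = _
  exact CochainComplex.of_d _ _ _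

lemma col_exactAt (k : ℤ) (i : ℕ) : (col emb X k).ExactAt (i + 1) := by
  rw [exactAt_iff_exact_up_to_refinements _ i (i + 1) (i + 1 + 1) (by simp) (by simp)]
  intro W x hx
  change W ⟶ (TE emb X (i + 1)).X k at x
  have hx0 : x ≫ ((tc emb X (i + 1)).f k ≫ (te emb X (i + 1 + 1)).f k) = 0 :=
    (congrArg (fun f => x ≫ f) (col_d emb X k (i + 1))).symm.trans hx
  have hx' : x ≫ (tc emb X (i + 1)).f k = 0 := by
    rw [← cancel_mono ((te emb X (i + 1 + 1)).f k), Category.assoc, zero_comp]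
    exact hx0
  obtain ⟨W₁, π₁, _, y, hy⟩ : ∃ (W₁ : A) (π₁ : W₁ ⟶ W) (_ : Epi π₁)
      (y : W₁ ⟶ (tow emb X (i + 1)).X k), π₁ ≫ x = y ≫ (te emb X (i + 1)).f k :=
    Cocone.exact_k (SC emb X (i + 1)) (shortExact_SC emb X (i + 1)) k x hx'
  obtain ⟨W₂, π₂, _, z, hz⟩ := surjective_up_to_refinements_of_epi ((tc emb X i).f k) y
  refine ⟨W₂, π₂ ≫ π₁, inferInstance, z, ?_⟩
  have : (π₂ ≫ π₁) ≫ x = z ≫ ((tc emb X i).f k ≫ (te emb X (i + 1)).f k) := by
    rw [Category.assoc, hy, reassoc_of% hz]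
  exact this.trans (congrArg (fun f => z ≫ f) (col_d emb X k i)).symm

end tower

section main
variable (P : ObjectProperty A)
  (h1 : ∀ X : A, ∃ (Y : A) (i : X ⟶ Y), P Y ∧ Mono i)
  (h2 : ∀ S : ShortComplex A, S.ShortExact → P S.X₁ → (P S.X₂ ↔ P S.X₃))

include h1 h2 in
lemma P_of_isZero (Z : A) (hZ : IsZero Z) : P Z := by
  obtain ⟨Y, -, hY, -⟩ := h1 0
  let S : ShortComplex A := ShortComplex.mk (𝟙 Y) (0 : Y ⟶ Z) (by simp)
  have hS : S.ShortExact :=
    { exact := (S.exact_iff_epi rfl).2 (inferInstanceAs (Epi (𝟙 Y)))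
      mono_f := inferInstanceAs (Mono (𝟙 Y))
      epi_g := ⟨fun g h _ => hZ.eq_of_src g h⟩ }
  exact (h2 S hS hY).1 hY

include h1 h2 in
lemma P_of_iso {Y Y' : A} (e : Y ≅ Y') (hY : P Y) : P Y' := by
  let S : ShortComplex A := ShortComplex.mk (0 : 0 ⟶ Y) e.hom (by simp)
  have hS : S.ShortExact :=
    { exact := (S.exact_iff_mono rfl).2 (inferInstanceAs (Mono e.hom))
      mono_f := ⟨fun g h _ => (isZero_zero A).eq_of_tgt g h⟩
      epi_g := inferInstanceAs (Epi e.hom) }
  exact (h2 S hS (P_of_isZero P h1 h2 0 (isZero_zero A))).1 hY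

include h2 in
lemma P_biprod {Y Y' : A} (hY : P Y) (hY' : P Y') : P (Y ⊞ Y') :=
  (h2 _ (ShortComplex.Splitting.ofHasBinaryBiproduct Y Y').shortExact hY).2 hY'

/-- the cofree embedding with terms in `P` -/
noncomputable def cofEmb (T : CochainComplex A ℤ) : EmbData T where
  E := Cofree.cof (fun k => (h1 (T.X k)).choose)
  e := Cofree.toCof T _ (fun k => (h1 (T.X k)).choose_spec.choose)
  mono k := by
    have : Mono (h1 (T.X k)).choose_spec.choose := (h1 (T.X k)).choose_spec.choose_spec.2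
    exact Cofree.mono_toCof_f T _ _ k

include h2 in
lemma P_cofEmb (T : CochainComplex A ℤ) (k : ℤ) : P ((cofEmb P h1 T).E.X k) :=
  P_biprod P h2 (h1 (T.X k)).choose_spec.choose_spec.1
    (h1 (T.X (k + 1))).choose_spec.choose_spec.1

variable (n : ℕ)

/-- the stage-dependent embedding -/
noncomputable def emb (j : ℕ) (T : CochainComplex A ℤ) : EmbData T :=
  if j < n then cofEmb P h1 T else idEmb T

lemma emb_lt (j : ℕ) (hj : j < n) (T : CochainComplex A ℤ) :
    emb P h1 n j T = cofEmb P h1 T := if_pos hj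

lemma emb_ge (j : ℕ) (hj : n ≤ j) (T : CochainComplex A ℤ) :
    emb P h1 n j T = idEmb T := if_neg (Nat.not_lt.2 hj)

lemma isZero_tow (X : CochainComplex A ℤ) (j : ℕ) (hj : n < j) :
    IsZero (tow (emb P h1 n) X j) := by
  obtain ⟨i, rfl⟩ : ∃ i, j = i + 1 := ⟨j - 1, by omega⟩
  change IsZero (cokernel (emb P h1 n i (tow (emb P h1 n) X i)).e)
  rw [emb_ge P h1 n i (by omega)]
  exact isZero_cokernel_of_epi (𝟙 _)

variable (hn : 1 ≤ n)
  (h3 : ∀ K : CochainComplex A ℕ, (∀ i : ℕ, 1 ≤ i → i ≤ n → K.ExactAt i) →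
    (∀ i : ℕ, n < i → IsZero (K.X i)) →
      Epi (K.d (n - 1) n) → (∀ i : ℕ, i < n → P (K.X i)) → P (K.X n))

include h2 hn h3 in
lemma P_tow_n (X : CochainComplex A ℤ) (k : ℤ) : P ((tow (emb P h1 n) X n).X k) := by
  have key := h3 (col (emb P h1 n) X k) ?_ ?_ ?_ ?_
  · have : (col (emb P h1 n) X k).X n = (TE (emb P h1 n) X n).X k := rfl
    rw [this] at key
    dsimp only [TE] at key
    rw [emb_ge P h1 n n le_rfl] at key
    exact key
  · intro i hi _
    obtain ⟨i, rfl⟩ : ∃ i', i = i' + 1 := ⟨i - 1, by omega⟩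
    exact col_exactAt _ X k i
  · intro i hi
    change IsZero ((TE (emb P h1 n) X i).X k)
    dsimp only [TE]
    rw [emb_ge P h1 n i (by omega)]
    exact Functor.map_isZero (eval A _ k) (isZero_tow P h1 n X i hi)
  · obtain ⟨m, rfl⟩ : ∃ m, n = m + 1 := ⟨n - 1, by omega⟩
    rw [show m + 1 - 1 = m by omega, col_d]
    have : Epi ((te (emb P h1 (m + 1)) X (m + 1)).f k) :=
      epi_e_f_of_eq_idEmb _ (emb_ge P h1 (m + 1) (m + 1) le_rfl _) k
    have h'' : Epi ((tc (emb P h1 (m + 1)) X m).f k ≫ (te (emb P h1 (m + 1)) X (m + 1)).f k) :=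
      epi_comp _ _
    exact h''
  · intro i hi
    change P ((TE (emb P h1 n) X i).X k)
    dsimp only [TE]
    rw [emb_lt P h1 n i hi]
    exact P_cofEmb P h1 h2 _ k

include h2 hn h3 in
lemma exists_res_tow (X : CochainComplex A ℤ) (m : ℕ) (hm : m ≤ n) :
    ∃ (I : CochainComplex A ℤ) (f : tow (emb P h1 n) X (n - m) ⟶ I),
      QuasiIso f ∧ ∀ k : ℤ, P (I.X k) := by
  induction m with
  | zero => exact ⟨_, 𝟙 _, inferInstance, P_tow_n P h1 h2 n hn h3 X⟩
  | succ m ih =>
    obtain ⟨j, hj⟩ : ∃ j, j = n - (m + 1) := ⟨_, rfl⟩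
    have hj' : n - m = j + 1 := by omega
    obtain ⟨I', q, hq, hI'⟩ : ∃ (I : CochainComplex A ℤ) (f : tow (emb P h1 n) X (j + 1) ⟶ I),
        QuasiIso f ∧ ∀ k : ℤ, P (I.X k) := by
      rw [← hj']
      exact ih (by omega)
    rw [← hj]
    refine ⟨Cocone.cc (tc (emb P h1 n) X j ≫ q),
      Cocone.lift _ (te (emb P h1 n) X j) (by rw [te_tc_assoc, zero_comp]), ?_, fun k => ?_⟩
    · exact @Cocone.quasiIso_lift A _ _ (SC (emb P h1 n) X j) (shortExact_SC _ X j) I' q hq _ rfl _
    · have hE : P ((TE (emb P h1 n) X j).X k) := by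
        dsimp only [TE]
        rw [emb_lt P h1 n j (by omega)]
        exact P_cofEmb P h1 h2 _ k
      exact P_biprod P h2 hE (hI' (k - 1))

include h1 h2 hn h3 in
theorem main (X : CochainComplex A ℤ) :
    ∃ (I : CochainComplex A ℤ) (f : X ⟶ I), QuasiIso f ∧ ∀ k : ℤ, P (I.X k) := by
  have := exists_res_tow P h1 h2 n hn h3 X n le_rfl
  rw [Nat.sub_self] at this
  exact this

end main

end Groth.Agent.Helper1.ClassRes
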