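import Mathlib

set_option autoImplicit false
set_option linter.unusedSectionVars false

/-! A hand-rolled mapping cocone `cc φ` of a morphism of cochain complexes `φ : E ⟶ T`, with terms
`E.X k ⊞ T.X (k - 1)`, and the quasi-isomorphism `X ⟶ cc (π ≫ q)` attached to a short exact
sequence `0 ⟶ X ⟶ E ⟶ Y ⟶ 0` and a quasi-isomorphism `q : Y ⟶ T`. -/

namespace Groth.Agent.Helper1.Cocone
open CategoryTheory Limits HomologicalComplex

universe v u

section defs
variable {A : Type u} [Category.{v} A] [Preadditive A] [HasBinaryBiproducts A]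
  {E T : CochainComplex A ℤ} (φ : E ⟶ T)

/-- the differential of the cocone -/
noncomputable def D (i j : ℤ) (h : i + 1 = j) : E.X i ⊞ T.X (i - 1) ⟶ E.X j ⊞ T.X (j - 1) :=
  biprod.fst ≫ E.d i j ≫ biprod.inl +
    biprod.fst ≫ φ.f i ≫ (T.XIsoOfEq (show i = j - 1 by omega)).hom ≫ biprod.inr -
    biprod.snd ≫ T.d (i - 1) (j - 1) ≫ biprod.inr

@[reassoc]
lemma D_fst (i j : ℤ) (h : i + 1 = j) : D φ i j h ≫ biprod.fst = biprod.fst ≫ E.d i j := by
  simp [D]

@[reassoc]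
lemma D_snd (i j : ℤ) (h : i + 1 = j) : D φ i j h ≫ biprod.snd =
    biprod.fst ≫ φ.f i ≫ (T.XIsoOfEq (show i = j - 1 by omega)).hom -
      biprod.snd ≫ T.d (i - 1) (j - 1) := by
  simp [D]

lemma D_D (i j k : ℤ) (hij : i + 1 = j) (hjk : j + 1 = k) : D φ i j hij ≫ D φ j k hjk = 0 := by
  apply biprod.hom_ext
  · rw [Category.assoc, D_fst, D_fst_assoc, E.d_comp_d, comp_zero, zero_comp]
  · rw [Category.assoc, D_snd, Preadditive.comp_sub, D_fst_assoc, D_snd_assoc, zero_comp,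
      Preadditive.sub_comp, Category.assoc, Category.assoc, Category.assoc, T.d_comp_d, comp_zero,
      sub_zero, XIsoOfEq_hom_comp_d, ← φ.comm_assoc, d_comp_XIsoOfEq_hom, sub_self]

/-- the cocone -/
noncomputable def cc : CochainComplex A ℤ where
  X k := E.X k ⊞ T.X (k - 1)
  d i j := if h : i + 1 = j then D φ i j h else 0
  shape i j hij := dif_neg hij
  d_comp_d' i j k hij hjk := by
    have h1 : i + 1 = j := hij
    have h2 : j + 1 = k := hjk
    rw [dif_pos h1, dif_pos h2]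
    exact D_D φ i j k h1 h2

lemma cc_d (i j : ℤ) (h : i + 1 = j) : (cc φ).d i j = D φ i j h := dif_pos h

/-- first projection -/
noncomputable def fstX (k : ℤ) : (cc φ).X k ⟶ E.X k := (biprod.fst : E.X k ⊞ T.X (k - 1) ⟶ _)

/-- second projection -/
noncomputable def sndX (k m : ℤ) (h : m + 1 = k) : (cc φ).X k ⟶ T.X m :=
  (biprod.snd : E.X k ⊞ T.X (k - 1) ⟶ _) ≫ (T.XIsoOfEq (show k - 1 = m by omega)).hom

/-- first inclusion -/
noncomputable def inlX (k : ℤ) : E.X k ⟶ (cc φ).X k := (biprod.inl : _ ⟶ E.X k ⊞ T.X (k - 1))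

/-- second inclusion -/
noncomputable def inrX (k m : ℤ) (h : m + 1 = k) : T.X m ⟶ (cc φ).X k :=
  (T.XIsoOfEq (show m = k - 1 by omega)).hom ≫ (biprod.inr : _ ⟶ E.X k ⊞ T.X (k - 1))

@[reassoc (attr := simp)]
lemma inlX_fstX (k : ℤ) : inlX φ k ≫ fstX φ k = 𝟙 _ :=
  (biprod.inl_fst : (biprod.inl : _ ⟶ E.X k ⊞ T.X (k - 1)) ≫ _ = _)

@[reassoc (attr := simp)]
lemma inlX_sndX (k m : ℤ) (h : m + 1 = k) : inlX φ k ≫ sndX φ k m h = 0 := by
  have : (biprod.inl : _ ⟶ E.X k ⊞ T.X (k - 1)) ≫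
      (biprod.snd : E.X k ⊞ T.X (k - 1) ⟶ _) ≫ (T.XIsoOfEq (show k - 1 = m by omega)).hom = 0 := by
    simp
  exact this

@[reassoc (attr := simp)]
lemma inrX_fstX (k m : ℤ) (h : m + 1 = k) : inrX φ k m h ≫ fstX φ k = 0 := by
  have : ((T.XIsoOfEq (show m = k - 1 by omega)).hom ≫
      (biprod.inr : _ ⟶ E.X k ⊞ T.X (k - 1))) ≫ (biprod.fst : E.X k ⊞ T.X (k - 1) ⟶ _) = 0 := by
    simp
  exact this

@[reassoc (attr := simp)]
lemma inrX_sndX (k m : ℤ) (h : m + 1 = k) : inrX φ k m h ≫ sndX φ k m h = 𝟙 _ := by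
  have : ((T.XIsoOfEq (show m = k - 1 by omega)).hom ≫
      (biprod.inr : _ ⟶ E.X k ⊞ T.X (k - 1))) ≫ (biprod.snd : E.X k ⊞ T.X (k - 1) ⟶ _) ≫
        (T.XIsoOfEq (show k - 1 = m by omega)).hom = 𝟙 _ := by
    simp [XIsoOfEq_hom_comp_XIsoOfEq_hom]
  exact this

lemma total (k m : ℤ) (h : m + 1 = k) :
    fstX φ k ≫ inlX φ k + sndX φ k m h ≫ inrX φ k m h = 𝟙 _ := by
  have : (biprod.fst : E.X k ⊞ T.X (k - 1) ⟶ _) ≫ (biprod.inl : _ ⟶ E.X k ⊞ T.X (k - 1)) +
      ((biprod.snd : E.X k ⊞ T.X (k - 1) ⟶ _) ≫ (T.XIsoOfEq (show k - 1 = m by omega)).hom) ≫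
        ((T.XIsoOfEq (show m = k - 1 by omega)).hom ≫
          (biprod.inr : _ ⟶ E.X k ⊞ T.X (k - 1))) = 𝟙 _ := by
    simp only [Category.assoc, XIsoOfEq_hom_comp_XIsoOfEq_hom_assoc, XIsoOfEq_rfl, Iso.refl_hom,
      Category.id_comp, biprod.total]
  exact this

lemma hom_ext_to (k m : ℤ) (h : m + 1 = k) {W : A} (f g : W ⟶ (cc φ).X k)
    (h1 : f ≫ fstX φ k = g ≫ fstX φ k) (h2 : f ≫ sndX φ k m h = g ≫ sndX φ k m h) : f = g := by
  rw [← Category.comp_id f, ← Category.comp_id g, ← total φ k m h, Preadditive.comp_add,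
    Preadditive.comp_add, reassoc_of% h1, reassoc_of% h2]

lemma hom_ext_from (k m : ℤ) (h : m + 1 = k) {W : A} (f g : (cc φ).X k ⟶ W)
    (h1 : inlX φ k ≫ f = inlX φ k ≫ g) (h2 : inrX φ k m h ≫ f = inrX φ k m h ≫ g) : f = g := by
  rw [← Category.id_comp f, ← Category.id_comp g, ← total φ k m h, Preadditive.add_comp,
    Preadditive.add_comp, Category.assoc, Category.assoc, Category.assoc, Category.assoc, h1, h2]

@[reassoc]
lemma d_fstX (i j : ℤ) : (cc φ).d i j ≫ fstX φ j = fstX φ i ≫ E.d i j := by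
  by_cases h : i + 1 = j
  · rw [cc_d φ i j h]
    exact D_fst φ i j h
  · rw [(cc φ).shape i j h, E.shape i j h, zero_comp, comp_zero]

@[reassoc]
lemma d_sndX (m i j : ℤ) (hm : m + 1 = i) (hi : i + 1 = j) :
    (cc φ).d i j ≫ sndX φ j i hi = fstX φ i ≫ φ.f i - sndX φ i m hm ≫ T.d m i := by
  rw [cc_d φ i j hi]
  have : D φ i j hi ≫ (biprod.snd : E.X j ⊞ T.X (j - 1) ⟶ _) ≫
      (T.XIsoOfEq (show j - 1 = i by omega)).hom =
      (biprod.fst : E.X i ⊞ T.X (i - 1) ⟶ _) ≫ φ.f i -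
        ((biprod.snd : E.X i ⊞ T.X (i - 1) ⟶ _) ≫ (T.XIsoOfEq (show i - 1 = m by omega)).hom) ≫
          T.d m i := by
    rw [D_snd_assoc, Preadditive.sub_comp, Category.assoc, Category.assoc, Category.assoc,
      XIsoOfEq_hom_comp_XIsoOfEq_hom, XIsoOfEq_rfl, Iso.refl_hom, Category.comp_id,
      d_comp_XIsoOfEq_hom, Category.assoc, XIsoOfEq_hom_comp_d]
  exact this

/-- the projection to `E` -/
noncomputable def fst : cc φ ⟶ E where
  f k := fstX φ k
  comm' i j _ := (d_fstX φ i j).symm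

@[simp] lemma fst_f (k : ℤ) : (fst φ).f k = fstX φ k := rfl

/-- morphisms to the cocone -/
noncomputable def liftX {W : A} (k m : ℤ) (h : m + 1 = k) (e : W ⟶ E.X k) (t : W ⟶ T.X m) :
    W ⟶ (cc φ).X k := e ≫ inlX φ k + t ≫ inrX φ k m h

@[reassoc (attr := simp)]
lemma liftX_fstX {W : A} (k m : ℤ) (h : m + 1 = k) (e : W ⟶ E.X k) (t : W ⟶ T.X m) :
    liftX φ k m h e t ≫ fstX φ k = e := by
  simp [liftX]

@[reassoc (attr := simp)]
lemma liftX_sndX {W : A} (k m : ℤ) (h : m + 1 = k) (e : W ⟶ E.X k) (t : W ⟶ T.X m) :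
    liftX φ k m h e t ≫ sndX φ k m h = t := by
  simp [liftX]

/-- the lift of a morphism killed by `φ` -/
noncomputable def lift {M : CochainComplex A ℤ} (α : M ⟶ E) (hα : α ≫ φ = 0) : M ⟶ cc φ where
  f k := α.f k ≫ inlX φ k
  comm' i j hij := by
    have hij' : i + 1 = j := hij
    have h0 : α.f i ≫ φ.f i = 0 := by
      rw [← comp_f, hα, zero_f]
    apply hom_ext_to φ j i hij'
    · simp only [Category.assoc, d_fstX, inlX_fstX_assoc, inlX_fstX, Category.comp_id, α.comm]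
    · rw [Category.assoc, d_sndX φ (i - 1) i j (by omega) hij']
      simp only [Category.assoc, inlX_sndX, comp_zero, Preadditive.comp_sub, inlX_fstX_assoc,
        inlX_sndX_assoc, zero_comp, sub_zero, h0]

@[simp] lemma lift_f {M : CochainComplex A ℤ} (α : M ⟶ E) (hα : α ≫ φ = 0) (k : ℤ) :
    (lift φ α hα).f k = α.f k ≫ inlX φ k := rfl

@[reassoc (attr := simp)]
lemma lift_fst {M : CochainComplex A ℤ} (α : M ⟶ E) (hα : α ≫ φ = 0) :
    lift φ α hα ≫ fst φ = α := by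
  ext k
  simp

lemma lift_f_mono {M : CochainComplex A ℤ} (α : M ⟶ E) (hα : α ≫ φ = 0) (k : ℤ) [Mono (α.f k)] :
    Mono ((lift φ α hα).f k) := by
  have : Mono ((lift φ α hα).f k ≫ fstX φ k) := by
    rw [lift_f, Category.assoc, inlX_fstX, Category.comp_id]
    infer_instance
  exact mono_of_mono _ (fstX φ k)

instance mono_inlX (k : ℤ) : Mono (inlX φ k) := mono_of_mono_fac (inlX_fstX φ k)

instance epi_fstX (k : ℤ) : Epi (fstX φ k) := epi_of_epi_fac (inlX_fstX φ k)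

lemma isZero_X (k : ℤ) (h1 : IsZero (E.X k)) (h2 : IsZero (T.X (k - 1))) :
    IsZero ((cc φ).X k) := by
  rw [IsZero.iff_id_eq_zero]
  apply hom_ext_to φ k (k - 1) (by omega)
  · exact h1.eq_of_tgt _ _
  · exact h2.eq_of_tgt _ _

lemma isStrictlyGE (a : ℤ) [E.IsStrictlyGE a] [T.IsStrictlyGE (a - 1)] :
    (cc φ).IsStrictlyGE a := by
  rw [CochainComplex.isStrictlyGE_iff]
  intro k hk
  exact isZero_X φ k (E.isZero_of_isStrictlyGE a k hk) (T.isZero_of_isStrictlyGE (a - 1) _ (by omega))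

end defs

section functoriality
variable {A : Type u} [Category.{v} A] [Preadditive A] [HasBinaryBiproducts A]
  {E T E' T' E'' T'' : CochainComplex A ℤ} (φ : E ⟶ T) (φ' : E' ⟶ T') (φ'' : E'' ⟶ T'')

/-- the map on terms induced by a commutative square -/
noncomputable def ccMapX (u : E ⟶ E') (v : T ⟶ T') (k : ℤ) : (cc φ).X k ⟶ (cc φ').X k :=
  liftX φ' k (k - 1) (by omega) (fstX φ k ≫ u.f k) (sndX φ k (k - 1) (by omega) ≫ v.f (k - 1))

@[reassoc (attr := simp)]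
lemma ccMapX_fstX (u : E ⟶ E') (v : T ⟶ T') (k : ℤ) :
    ccMapX φ φ' u v k ≫ fstX φ' k = fstX φ k ≫ u.f k := by
  simp [ccMapX]

@[reassoc (attr := simp)]
lemma ccMapX_sndX (u : E ⟶ E') (v : T ⟶ T') (k m : ℤ) (hm : m + 1 = k) :
    ccMapX φ φ' u v k ≫ sndX φ' k m hm = sndX φ k m hm ≫ v.f m := by
  obtain rfl : m = k - 1 := by omega
  simp [ccMapX]

/-- the map of cocones induced by a commutative square -/
noncomputable def ccMap (u : E ⟶ E') (v : T ⟶ T') (h : φ ≫ v = u ≫ φ') : cc φ ⟶ cc φ' where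
  f k := ccMapX φ φ' u v k
  comm' i j hij := by
    have hij' : i + 1 = j := hij
    have hf : φ.f i ≫ v.f i = u.f i ≫ φ'.f i := by
      rw [← comp_f, h, comp_f]
    apply hom_ext_to φ' j i hij'
    · simp only [Category.assoc, d_fstX, ccMapX_fstX_assoc, ccMapX_fstX, d_fstX_assoc, u.comm]
    · rw [Category.assoc, d_sndX φ' (i - 1) i j (by omega) hij', Category.assoc, ccMapX_sndX,
        d_sndX_assoc φ (i - 1) i j (by omega) hij']
      simp only [Preadditive.comp_sub, Preadditive.sub_comp, Category.assoc, ccMapX_fstX_assoc,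
        ccMapX_sndX_assoc, hf, v.comm]

@[simp] lemma ccMap_f (u : E ⟶ E') (v : T ⟶ T') (h : φ ≫ v = u ≫ φ') (k : ℤ) :
    (ccMap φ φ' u v h).f k = ccMapX φ φ' u v k := rfl

lemma ccMap_id : ccMap φ φ (𝟙 E) (𝟙 T) (by simp) = 𝟙 (cc φ) := by
  ext k
  apply hom_ext_to φ k (k - 1) (by omega) <;> simp

lemma ccMap_comp (u : E ⟶ E') (v : T ⟶ T') (h : φ ≫ v = u ≫ φ') (u' : E' ⟶ E'') (v' : T' ⟶ T'')
    (h' : φ' ≫ v' = u' ≫ φ'') :
    ccMap φ φ'' (u ≫ u') (v ≫ v') (by rw [reassoc_of% h, h', Category.assoc]) =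
      ccMap φ φ' u v h ≫ ccMap φ' φ'' u' v' h' := by
  ext k
  apply hom_ext_to φ'' k (k - 1) (by omega) <;> simp

lemma lift_ccMap {M M' : CochainComplex A ℤ} (α : M ⟶ E) (hα : α ≫ φ = 0) (α' : M' ⟶ E')
    (hα' : α' ≫ φ' = 0) (w : M ⟶ M') (u : E ⟶ E') (v : T ⟶ T') (h : φ ≫ v = u ≫ φ')
    (hw : α ≫ u = w ≫ α') : lift φ α hα ≫ ccMap φ φ' u v h = w ≫ lift φ' α' hα' := by
  have hf : ∀ k, α.f k ≫ u.f k = w.f k ≫ α'.f k := fun k => by
    rw [← comp_f, hw, comp_f]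
  ext k
  apply hom_ext_to φ' k (k - 1) (by omega) <;> simp [hf]

/-- the cocone as a functor on arrows -/
noncomputable def ccF : Arrow (CochainComplex A ℤ) ⥤ CochainComplex A ℤ where
  obj φ := cc φ.hom
  map {φ φ'} sq := ccMap φ.hom φ'.hom sq.left sq.right sq.w.symm
  map_id φ := ccMap_id φ.hom
  map_comp {φ φ' φ''} sq sq' := ccMap_comp φ.hom φ'.hom φ''.hom _ _ _ _ _ _

end functoriality

section qis
variable {A : Type u} [Category.{v} A] [Abelian A]
  (S : ShortComplex (CochainComplex A ℤ)) (hS : S.ShortExact) {T : CochainComplex A ℤ}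
  (q : S.X₃ ⟶ T)

/-- the comparison map from the kernel to the cocone -/
noncomputable def lam : S.X₁ ⟶ cc (S.g ≫ q) :=
  lift (S.g ≫ q) S.f (by rw [S.zero_assoc, zero_comp])

@[simp] lemma lam_f (k : ℤ) : (lam S q).f k = S.f.f k ≫ inlX (S.g ≫ q) k := rfl

include hS

lemma mono_f (k : ℤ) : Mono (S.f.f k) :=
  (((shortExact_iff_degreewise_shortExact S).1 hS) k).mono_f

lemma epi_g (k : ℤ) : Epi (S.g.f k) :=
  (((shortExact_iff_degreewise_shortExact S).1 hS) k).epi_g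

lemma exact_k (k : ℤ) {W : A} (x₂ : W ⟶ S.X₂.X k) (h : x₂ ≫ S.g.f k = 0) :
    ∃ (W' : A) (π : W' ⟶ W) (_ : Epi π) (x₁ : W' ⟶ S.X₁.X k), π ≫ x₂ = x₁ ≫ S.f.f k :=
  (((shortExact_iff_degreewise_shortExact S).1 hS) k).exact.exact_up_to_refinements x₂ h

omit hS in
@[reassoc]
lemma fg_zero (k : ℤ) : S.f.f k ≫ S.g.f k = 0 := by
  rw [← comp_f, S.zero, zero_f]

lemma mono_homologyMap_lam [QuasiIso q] (z a b c : ℤ) (hz : z + 1 = a) (ha : a + 1 = b)
    (hb : b + 1 = c) : Mono (homologyMap (lam S q) b) := by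
  have hpa : (ComplexShape.up ℤ).prev b = a := by simp [← ha]
  have hnb : (ComplexShape.up ℤ).next b = c := by simp [← hb]
  have hpz : (ComplexShape.up ℤ).prev a = z := by simp [← hz]
  have hna : (ComplexShape.up ℤ).next a = b := by simp [← ha]
  rw [mono_homologyMap_iff_up_to_refinements (lam S q) a b c hpa hnb]
  intro W x₂ hx₂ y₁ hy₁
  obtain ⟨e, he⟩ : ∃ e : W ⟶ S.X₂.X a, e = y₁ ≫ fstX (S.g ≫ q) a := ⟨_, rfl⟩
  obtain ⟨t, ht⟩ : ∃ t : W ⟶ T.X z, t = y₁ ≫ sndX (S.g ≫ q) a z hz := ⟨_, rfl⟩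
  have h1 : x₂ ≫ S.f.f b = e ≫ S.X₂.d a b := by
    have := hy₁ =≫ fstX (S.g ≫ q) b
    simp only [Category.assoc, d_fstX, lam_f, inlX_fstX, Category.comp_id] at this
    rw [this, he, Category.assoc]
  have h2 : e ≫ S.g.f a ≫ q.f a = t ≫ T.d z a := by
    have := hy₁ =≫ sndX (S.g ≫ q) b a ha
    simp only [Category.assoc, d_sndX _ z a b hz ha, lam_f, inlX_sndX, comp_zero,
      Preadditive.comp_sub, comp_f] at this
    rw [he, ht, Category.assoc, Category.assoc]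
    exact (sub_eq_zero.1 this.symm)
  have h3 : (e ≫ S.g.f a) ≫ S.X₃.d a b = 0 := by
    rw [Category.assoc, S.g.comm, ← reassoc_of% h1, fg_zero, comp_zero]
  have hq : Mono (homologyMap q a) := inferInstance
  rw [mono_homologyMap_iff_up_to_refinements q z a b hpz hna] at hq
  obtain ⟨W₁, π₁, _, y, hy⟩ := hq _ h3 t (by rw [Category.assoc, h2])
  have := epi_g S hS z
  obtain ⟨W₂, π₂, _, e', he'⟩ := surjective_up_to_refinements_of_epi (S.g.f z) y
  obtain ⟨W₃, π₃, _, x', hx'⟩ := exact_k S hS a (π₂ ≫ π₁ ≫ e - e' ≫ S.X₂.d z a) (by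
      rw [Preadditive.sub_comp, Category.assoc, Category.assoc, Category.assoc,
        ← S.g.comm, ← reassoc_of% he', ← hy, sub_self])
  refine ⟨W₃, π₃ ≫ π₂ ≫ π₁, inferInstance, x', ?_⟩
  have := mono_f S hS b
  rw [← cancel_mono (S.f.f b), Category.assoc, Category.assoc, Category.assoc, h1,
    Category.assoc, ← S.f.comm, ← reassoc_of% hx', Preadditive.sub_comp, Preadditive.comp_sub,
    Category.assoc, Category.assoc, Category.assoc, S.X₂.d_comp_d, comp_zero, comp_zero,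
    sub_zero]

lemma epi_homologyMap_lam [QuasiIso q] (z a b c : ℤ) (hz : z + 1 = a) (ha : a + 1 = b)
    (hb : b + 1 = c) : Epi (homologyMap (lam S q) b) := by
  have hpa : (ComplexShape.up ℤ).prev b = a := by simp [← ha]
  have hnb : (ComplexShape.up ℤ).next b = c := by simp [← hb]
  have hpz : (ComplexShape.up ℤ).prev a = z := by simp [← hz]
  have hna : (ComplexShape.up ℤ).next a = b := by simp [← ha]
  rw [epi_homologyMap_iff_up_to_refinements (lam S q) a b c hpa hnb]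
  intro W y₂ hy₂
  obtain ⟨e, he⟩ : ∃ e : W ⟶ S.X₂.X b, e = y₂ ≫ fstX (S.g ≫ q) b := ⟨_, rfl⟩
  obtain ⟨t, ht⟩ : ∃ t : W ⟶ T.X a, t = y₂ ≫ sndX (S.g ≫ q) b a ha := ⟨_, rfl⟩
  have h1 : e ≫ S.X₂.d b c = 0 := by
    have := hy₂ =≫ fstX (S.g ≫ q) c
    simp only [Category.assoc, d_fstX, zero_comp] at this
    rw [he, Category.assoc, this]
  have h2 : e ≫ S.g.f b ≫ q.f b = t ≫ T.d a b := by
    have := hy₂ =≫ sndX (S.g ≫ q) c b hb
    simp only [Category.assoc, d_sndX _ a b c ha hb, zero_comp, Preadditive.comp_sub,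
      comp_f] at this
    rw [he, ht, Category.assoc, Category.assoc]
    exact sub_eq_zero.1 this
  have h3 : (e ≫ S.g.f b) ≫ S.X₃.d b c = 0 := by
    rw [Category.assoc, S.g.comm, reassoc_of% h1, zero_comp]
  have hq : Mono (homologyMap q b) := inferInstance
  rw [mono_homologyMap_iff_up_to_refinements q a b c hpa hnb] at hq
  obtain ⟨W₁, π₁, _, y, hy⟩ := hq _ h3 t (by rw [Category.assoc, h2])
  have hu : (y ≫ q.f a - π₁ ≫ t) ≫ T.d a b = 0 := by
    rw [Preadditive.sub_comp, Category.assoc, Category.assoc, q.comm, ← reassoc_of% hy, ← h2,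
      sub_self]
  have hq' : Epi (homologyMap q a) := inferInstance
  rw [epi_homologyMap_iff_up_to_refinements q z a b hpz hna] at hq'
  obtain ⟨W₂, π₂, _, y', hy', t', ht'⟩ := hq' _ hu
  have := epi_g S hS a
  obtain ⟨W₃, π₃, _, e'', he''⟩ := surjective_up_to_refinements_of_epi (S.g.f a) (π₂ ≫ y - y')
  have hA : e'' ≫ S.g.f a ≫ S.X₃.d a b = π₃ ≫ π₂ ≫ π₁ ≫ e ≫ S.g.f b := by
    rw [← reassoc_of% he'', Preadditive.sub_comp, Preadditive.comp_sub, hy', comp_zero, sub_zero,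
      Category.assoc, ← hy]
  have hB : e'' ≫ S.g.f a ≫ q.f a = π₃ ≫ π₂ ≫ π₁ ≫ t + π₃ ≫ t' ≫ T.d z a := by
    rw [← reassoc_of% he'', Preadditive.sub_comp, Category.assoc]
    rw [Preadditive.comp_sub, sub_eq_iff_eq_add] at ht'
    rw [ht', ← Preadditive.comp_add]
    congr 1
    abel
  obtain ⟨W₄, π₄, _, x, hx⟩ := exact_k S hS b (π₃ ≫ π₂ ≫ π₁ ≫ e - e'' ≫ S.X₂.d a b) (by
      rw [Preadditive.sub_comp, Category.assoc, Category.assoc, Category.assoc, Category.assoc,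
        ← S.g.comm, hA, sub_self])
  have := mono_f S hS c
  refine ⟨W₄, π₄ ≫ π₃ ≫ π₂ ≫ π₁, inferInstance, x, ?_,
    liftX (S.g ≫ q) a z hz (π₄ ≫ e'') (π₄ ≫ π₃ ≫ t'), ?_⟩
  · rw [← cancel_mono (S.f.f c), Category.assoc, ← S.f.comm, ← reassoc_of% hx, zero_comp,
      Preadditive.sub_comp, Category.assoc, Category.assoc, Category.assoc, Category.assoc,
      S.X₂.d_comp_d, comp_zero, h1, comp_zero, comp_zero, comp_zero, sub_zero, comp_zero]
  · apply hom_ext_to (S.g ≫ q) b a ha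
    · simp only [Category.assoc, Preadditive.add_comp, d_fstX, lam_f, inlX_fstX, Category.comp_id,
        liftX_fstX_assoc, ← he, ← hx, Preadditive.comp_sub]
      abel
    · simp only [Category.assoc, Preadditive.add_comp, d_sndX _ z a b hz ha, lam_f, inlX_sndX,
        comp_zero, zero_add, Preadditive.comp_sub, liftX_fstX_assoc, liftX_sndX_assoc, ← ht,
        comp_f, hB, Preadditive.comp_add]
      abel

lemma quasiIso_lam [QuasiIso q] : QuasiIso (lam S q) := by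
  rw [quasiIso_iff]
  intro b
  rw [quasiIsoAt_iff_isIso_homologyMap]
  have := mono_homologyMap_lam S hS q (b - 1 - 1) (b - 1) b (b + 1) (by omega) (by omega) rfl
  have := epi_homologyMap_lam S hS q (b - 1 - 1) (b - 1) b (b + 1) (by omega) (by omega) rfl
  exact isIso_of_mono_of_epi _

lemma quasiIso_lift [QuasiIso q] (φ : S.X₂ ⟶ T) (hφ : S.g ≫ q = φ) (h0 : S.f ≫ φ = 0) :
    QuasiIso (lift φ S.f h0) := by
  subst hφ
  exact quasiIso_lam S hS q

end qis

end Groth.Agent.Helper1.Cocone
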