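import Groth.Agent.Helper1.CohTopFun
import Groth.Agent.Helper1.CohTopPush
import Groth.Prelude.Def_CohCx

set_option autoImplicit false

/-!
# The adjunction `F ↦ F|_U ⊣ j_*` for the inclusion `j` of an open subspace, and the comparison
with the sheaf-theoretic pullback
-/

namespace Groth.Agent.Helper1.CohTopAdj

open CategoryTheory Limits Opposite TopologicalSpace
open Groth.Agent.Helper1.CohTopFun

universe u
variable {X : TopCat.{u}} (U : Opens X)

lemma jObj_map_le (V : Opens X) : jObj U ((Opens.map (CohCx.incl U)).obj V) ≤ V := by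
  rintro _ ⟨y, hy, rfl⟩
  exact hy

lemma le_map_jObj (W : Opens (TopCat.of U)) : W ≤ (Opens.map (CohCx.incl U)).obj (jObj U W) := by
  intro y hy
  exact ⟨y, hy, rfl⟩

/-- unit of the adjunction: restriction of sections `F(V) → F(V ∩ U)` -/
noncomputable def unitApp (F : CohTop.Ab X) :
    F ⟶ (CohTop.push (CohCx.incl U)).obj ((CohTop.restrFunctor U).obj F) :=
  ⟨{ app := fun V => F.obj.map (homOfLE (jObj_map_le U V.unop)).op
     naturality := fun V V' i => by
       change F.obj.map _ ≫ F.obj.map _ = F.obj.map _ ≫ F.obj.map _
       rw [← F.obj.map_comp, ← F.obj.map_comp]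
       rfl }⟩

/-- counit of the adjunction -/
noncomputable def counitApp (G : CohTop.Ab (TopCat.of U)) :
    (CohTop.restrFunctor U).obj ((CohTop.push (CohCx.incl U)).obj G) ⟶ G :=
  ⟨{ app := fun W => G.obj.map (homOfLE (le_map_jObj U W.unop)).op
     naturality := fun W W' i => by
       change G.obj.map _ ≫ G.obj.map _ = G.obj.map _ ≫ G.obj.map _
       rw [← G.obj.map_comp, ← G.obj.map_comp]
       rfl }⟩

/-- the adjunction between restriction to an open subspace and pushforward -/
noncomputable def restrPushAdj : CohTop.restrFunctor U ⊣ CohTop.push (CohCx.incl U) where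
  unit :=
    { app := fun F => unitApp U F
      naturality := fun F G φ => by
        ext : 2
        funext V
        change φ.hom.app _ ≫ G.obj.map _ = F.obj.map _ ≫ φ.hom.app _
        exact (φ.hom.naturality _).symm }
  counit :=
    { app := fun G => counitApp U G
      naturality := fun F G φ => by
        ext : 2
        funext V
        change φ.hom.app _ ≫ G.obj.map _ = F.obj.map _ ≫ φ.hom.app _
        exact (φ.hom.naturality _).symm }
  left_triangle_components F := by
    ext : 2
    funext W
    change F.obj.map _ ≫ F.obj.map _ = 𝟙 _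
    rw [← F.obj.map_comp]
    exact F.obj.map_id _
  right_triangle_components G := by
    ext : 2
    funext V
    change G.obj.map _ ≫ G.obj.map _ = 𝟙 _
    rw [← G.obj.map_comp]
    exact G.obj.map_id _

/-- the pull-push adjunction for the inclusion of `U` -/
noncomputable abbrev ppAdj : CohTop.pull (CohCx.incl U) ⊣ CohTop.push (CohCx.incl U) :=
  TopCat.Sheaf.pullbackPushforwardAdjunction AddCommGrpCat.{u} (CohCx.incl U)

/-- pullback along the inclusion of an open subspace is restriction -/
noncomputable def pullIsoRestr : CohTop.pull (CohCx.incl U) ≅ CohTop.restrFunctor U :=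
  (ppAdj U).leftAdjointUniq (restrPushAdj U)

lemma unit_pullIsoRestr (F : CohTop.Ab X) :
    (ppAdj U).unit.app F ≫ (CohTop.push (CohCx.incl U)).map ((pullIsoRestr U).hom.app F) =
      unitApp U F :=
  Adjunction.unit_leftAdjointUniq_hom_app (ppAdj U) (restrPushAdj U) F

lemma epi_unitApp (F : CohTop.Ab X) [hF : TopCat.Sheaf.IsFlasque F] : Epi (unitApp U F) := by
  have : Epi ((sheafToPresheaf _ _).map (unitApp U F)) := by
    rw [NatTrans.epi_iff_epi_app]
    intro V
    exact hF.epi (homOfLE (jObj_map_le U V.unop)).op
  exact (sheafToPresheaf _ _).epi_of_epi_map this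

lemma epi_unit (F : CohTop.Ab X) [hF : TopCat.Sheaf.IsFlasque F] :
    Epi ((ppAdj U).unit.app F) := by
  have h := unit_pullIsoRestr U F
  have : Epi ((ppAdj U).unit.app F ≫
      (CohTop.push (CohCx.incl U)).map ((pullIsoRestr U).hom.app F)) := by
    rw [h]
    exact epi_unitApp U F
  have e : (ppAdj U).unit.app F = ((ppAdj U).unit.app F ≫
      (CohTop.push (CohCx.incl U)).map ((pullIsoRestr U).hom.app F)) ≫
      (CohTop.push (CohCx.incl U)).map ((pullIsoRestr U).inv.app F) := by
    rw [Category.assoc, ← Functor.map_comp, Iso.hom_inv_id_app, CategoryTheory.Functor.map_id]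
    exact (Category.comp_id _).symm
  rw [e]
  infer_instance

instance : (CohTop.push (CohCx.incl U)).Additive := CohTop.instAdditiveAbPush _

instance : PreservesFiniteLimits (CohTop.push (CohCx.incl U)) :=
  (inferInstance : ∀ {X Y : TopCat.{u}} (f : X ⟶ Y), PreservesFiniteLimits (CohTop.push f)) _

instance : PreservesFiniteLimits (CohTop.pull (CohCx.incl U)) :=
  preservesFiniteLimits_of_natIso (pullIsoRestr U).symm

instance : PreservesFiniteColimits (CohTop.pull (CohCx.incl U)) :=
  preservesFiniteColimits_of_natIso (pullIsoRestr U).symm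

instance : (CohTop.pull (CohCx.incl U)).Additive :=
  Functor.additive_of_preserves_binary_products _

end Groth.Agent.Helper1.CohTopAdj
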