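import Mathlib
import Groth.Prelude.Def_CohDer
import Groth.Agent.Helper1.Compact
import Groth.Agent.Helper1.Brown

set_option autoImplicit false
set_option linter.unusedSectionVars false

/-! A right adjoint of a coproduct preserving triangulated functor preserves coproducts iff the
left adjoint preserves compactness of the generators. -/

namespace Groth.Agent.Helper1.CompAdj
open CategoryTheory Limits CohDer Groth.Agent.Helper1.Compact

universe v u u'

section additive
variable {D : Type u} [Category.{v} D] [Preadditive D] [HasCoproducts.{v} D]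
  {E : Type u'} [Category.{v} E] [Preadditive E] [HasCoproducts.{v} E]
  (F : D ⥤ E) (G : E ⥤ D) (adj : F ⊣ G) [G.Additive]

lemma sigmaComparison_map_π {κ : Type v} (X : κ → E) (k : κ) :
    sigmaComparison G X ≫ G.map (π X k) = π (fun i => G.obj (X i)) k := by
  apply Sigma.hom_ext
  intro j
  rw [ι_comp_sigmaComparison_assoc, ← G.map_comp]
  by_cases h : j = k
  · subst h
    rw [ι_π_self, ι_π_self, G.map_id]
  · rw [ι_π_of_ne _ _ _ h, ι_π_of_ne _ _ _ h, G.map_zero]

open scoped Classical in
lemma sigmaComparison_map_proj' {κ : Type v} (X : κ → E) (S : Finset κ) :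
    sigmaComparison G X ≫ G.map (proj X S) = proj (fun i => G.obj (X i)) S ≫ sigmaComparison G X := by
  apply Sigma.hom_ext
  intro i
  rw [ι_comp_sigmaComparison_assoc, ← G.map_comp, ι_proj, ι_proj_assoc]
  split_ifs
  · rw [ι_comp_sigmaComparison]
  · rw [G.map_zero, zero_comp]

lemma map_proj {κ : Type v} (X : κ → E) (S : Finset κ) :
    G.map (proj X S) =
      (∑ k ∈ S, G.map (π X k) ≫ Sigma.ι (fun i => G.obj (X i)) k) ≫ sigmaComparison G X := by
  rw [proj_eq_sum, G.map_sum, Preadditive.sum_comp]
  apply Finset.sum_congr rfl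
  intro k _
  rw [G.map_comp, Category.assoc, ι_comp_sigmaComparison]

include adj in
/-- If `G` preserves coproducts, `F` preserves compact objects. -/
lemma isCompactObject_map [∀ κ : Type v, PreservesColimitsOfShape (Discrete κ) G] {T : D}
    (hT : IsCompactObject T) : IsCompactObject (F.obj T) := by
  apply isCompactObject_of_forall
  intro κ X φ
  have : IsIso (sigmaComparison G X) := inferInstance
  obtain ⟨S, hS⟩ := exists_one_sub_proj_comp_eq_zero hT (fun i => G.obj (X i))
    (adj.homEquiv _ _ φ ≫ inv (sigmaComparison G X))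
  refine ⟨S, ?_⟩
  apply (adj.homEquiv _ _).injective
  rw [adj.homEquiv_naturality_right, G.map_sub, G.map_id]
  have h0 : adj.homEquiv T (∐ X) 0 = 0 := by
    rw [adj.homEquiv_unit, G.map_zero, comp_zero]
  rw [h0]
  have h2 : 𝟙 (G.obj (∐ X)) - G.map (proj X S) =
      inv (sigmaComparison G X) ≫ (𝟙 _ - proj (fun i => G.obj (X i)) S) ≫ sigmaComparison G X := by
    rw [Preadditive.sub_comp, Preadditive.comp_sub, Category.id_comp, IsIso.inv_hom_id,
      ← sigmaComparison_map_proj', IsIso.inv_hom_id_assoc]
  rw [h2, ← Category.assoc, ← Category.assoc, hS, zero_comp]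

variable {T : D} (hT : IsCompactObject T) (hFT : IsCompactObject (F.obj T))

include hT in
lemma comparison_inj {κ : Type v} (X : κ → E) (γ : T ⟶ ∐ (fun k => G.obj (X k)))
    (hγ : γ ≫ sigmaComparison G X = 0) : γ = 0 := by
  obtain ⟨S, hS⟩ := (isCompactObject_iff T).1 hT κ (fun k => G.obj (X k)) γ
  rw [← hS, proj_eq_sum, Preadditive.comp_sum]
  apply Finset.sum_eq_zero
  intro k _
  rw [← sigmaComparison_map_π G X k, ← Category.assoc, ← Category.assoc, hγ, zero_comp, zero_comp]

include adj hFT in
lemma comparison_surj {κ : Type v} (X : κ → E) (b : T ⟶ G.obj (∐ X)) :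
    ∃ b' : T ⟶ ∐ (fun k => G.obj (X k)), b = b' ≫ sigmaComparison G X := by
  obtain ⟨S, hS⟩ := (isCompactObject_iff (F.obj T)).1 hFT κ X ((adj.homEquiv _ _).symm b)
  have h1 : b ≫ G.map (proj X S) = b := by
    have := congrArg (adj.homEquiv _ _) hS
    rw [adj.homEquiv_naturality_right, Equiv.apply_symm_apply] at this
    exact this
  refine ⟨b ≫ ∑ k ∈ S, G.map (π X k) ≫ Sigma.ι (fun i => G.obj (X i)) k, ?_⟩
  rw [Category.assoc, ← map_proj, h1]

end additive

section main
open Pretriangulated
variable {D : Type u} [Category.{v} D] [Preadditive D] [HasZeroObject D] [HasShift D ℤ]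
    [∀ n : ℤ, (shiftFunctor D n).Additive] [Pretriangulated D] [HasCoproducts.{v} D]
    {E : Type u'} [Category.{v} E] [Preadditive E] [HasZeroObject E] [HasShift E ℤ]
    [∀ n : ℤ, (shiftFunctor E n).Additive] [Pretriangulated E] [HasCoproducts.{v} E]
    {ι : Type v} (S : ι → D) (hSc : ∀ i, IsCompactObject (S i)) (hSg : Generates S)
    (F : D ⥤ E) [F.CommShift ℤ] [F.IsTriangulated]
    (G : E ⥤ D) (adj : F ⊣ G)

include hSc hSg adj in
theorem main :
    (∀ (κ : Type v), PreservesColimitsOfShape (Discrete κ) G) ↔
      ∀ i, IsCompactObject (F.obj (S i)) := by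
  have : G.Additive := adj.right_adjoint_additive
  constructor
  · intro h i
    exact isCompactObject_map F G adj (hSc i)
  · intro h κ
    have hiso : ∀ X : κ → E, IsIso (sigmaComparison G X) := by
      intro X
      apply Brown.isIso_of_generators S hSg
      · intro i m γ hγ
        exact comparison_inj G (isCompactObject_shift (hSc i) m) X γ hγ
      · intro i m b
        have hFT : IsCompactObject (F.obj ((shiftFunctor D m).obj (S i))) :=
          isCompactObject_of_iso ((F.commShiftIso m).app (S i)).symm
            (isCompactObject_shift (h i) m)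
        exact comparison_surj F G adj hFT X b
    have : ∀ X : κ → E, PreservesColimit (Discrete.functor X) G := fun X =>
      PreservesCoproduct.of_iso_comparison G X
    exact preservesColimitsOfShape_of_discrete G

end main

end Groth.Agent.Helper1.CompAdj
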