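import Mathlib
import Groth.Agent.Helper1.DeltaFunctor

set_option autoImplicit false

/-!
# Vanishing of the derived functors of a composite `G ⋙ F` (Grothendieck spectral sequence,
vanishing part, by dimension shifting)
-/

namespace Groth.Agent.Helper1.CompVanish
open CategoryTheory Limits Groth.Agent.Helper1.DeltaFun

universe v u v' u' v'' u''

variable {A : Type u} [Category.{v} A] [Abelian A] [EnoughInjectives A]
  {B : Type u'} [Category.{v'} B] [Abelian B]

lemma epi_of_iso_nat {D : Type*} [Category D] {X Y X' Y' : D} (f : X ⟶ Y) (f' : X' ⟶ Y')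
    (a : X ≅ X') (b : Y ≅ Y') (h : f ≫ b.hom = a.hom ≫ f') [Epi f'] : Epi f := by
  have : f = a.hom ≫ f' ≫ b.inv := by
    rw [← reassoc_of% h, Iso.hom_inv_id, Category.comp_id]
  rw [this]
  infer_instance

section one

variable (G : A ⥤ B) [G.Additive] [PreservesFiniteLimits G]

/-- if `R¹G(X₁) = 0` then `G` preserves the epimorphism of a short exact sequence -/
lemma epi_map_g (S : ShortComplex A) (hS : S.ShortExact)
    (h : IsZero ((G.rightDerived 1).obj S.X₁)) : Epi (G.map S.g) := by
  have hex := (rightDerivedDelta G).exact₃ S hS 0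
  have h0 : (rightDerivedDelta G).δ S hS 0 = 0 := h.eq_of_tgt _ _
  have hepi : Epi ((G.rightDerived 0).map S.g) := hex.epi_f h0
  have hnat := G.rightDerivedZeroIsoSelf.inv.naturality S.g
  exact epi_of_iso_nat (G.map S.g) ((G.rightDerived 0).map S.g)
    (G.rightDerivedZeroIsoSelf.symm.app S.X₂) (G.rightDerivedZeroIsoSelf.symm.app S.X₃) hnat

lemma shortExact_map (S : ShortComplex A) (hS : S.ShortExact)
    (h : IsZero ((G.rightDerived 1).obj S.X₁)) : (S.map G).ShortExact := by
  have h1 := (Functor.preservesFiniteLimits_iff_forall_exact_map_and_mono G).1 inferInstance S hS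
  exact { exact := h1.1, mono_f := h1.2, epi_g := epi_map_g G S hS h }

/-- the cokernel of an effacement of a `G`-acyclic object is `G`-acyclic -/
lemma acyclic_coker (M : A) (hM : ∀ q : ℕ, IsZero ((G.rightDerived (q + 1)).obj M)) (q : ℕ) :
    IsZero ((G.rightDerived (q + 1)).obj (E M).X₃) := by
  have hex := (rightDerivedDelta G).exact₃ (E M) (hE M) (q + 1)
  exact hex.isZero_of_both_isZero
    (Functor.isZero_rightDerived_obj_injective_succ G q (E M).X₂) (hM (q + 1))

end one

variable {C : Type u''} [Category.{v''} C] [Abelian C] [EnoughInjectives B]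
  (G : A ⥤ B) [G.Additive] [PreservesFiniteLimits G] (F : B ⥤ C) [F.Additive]
  [PreservesFiniteLimits F]
  (hGF : ∀ (I : A) [Injective I] (n : ℕ), IsZero ((F.rightDerived (n + 1)).obj (G.obj I)))

include hGF

/-- for `G`-acyclic `M`, vanishing of `RⁿF(GM)` implies vanishing of `Rⁿ(G ⋙ F)(M)` -/
lemma base (n : ℕ) : ∀ (M : A), (∀ q : ℕ, IsZero ((G.rightDerived (q + 1)).obj M)) →
    IsZero ((F.rightDerived (n + 1)).obj (G.obj M)) →
    IsZero (((G ⋙ F).rightDerived (n + 1)).obj M) := by
  induction n with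
  | zero =>
    intro M hM h0
    have hS := shortExact_map G (E M) (hE M) (hM 0)
    -- `FGE → FGQ` is epi
    have hepi : Epi ((G ⋙ F).map (E M).g) := by
      have := epi_map_g F ((E M).map G) hS h0
      exact this
    have hex := (rightDerivedDelta (G ⋙ F)).exact₃ (E M) (hE M) 0
    have hepi' : Epi (((G ⋙ F).rightDerived 0).map (E M).g) := by
      have hnat := (G ⋙ F).rightDerivedZeroIsoSelf.hom.naturality (E M).g
      exact epi_of_iso_nat (((G ⋙ F).rightDerived 0).map (E M).g) ((G ⋙ F).map (E M).g)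
        ((G ⋙ F).rightDerivedZeroIsoSelf.app (E M).X₂)
        ((G ⋙ F).rightDerivedZeroIsoSelf.app (E M).X₃) hnat
    have hδ : (rightDerivedDelta (G ⋙ F)).δ (E M) (hE M) 0 = 0 := by
      have w := (rightDerivedDelta (G ⋙ F)).w₃ (E M) (hE M) 0
      exact (cancel_epi (((G ⋙ F).rightDerived 0).map (E M).g)).1 (w.trans comp_zero.symm)
    have hex1 := (rightDerivedDelta (G ⋙ F)).exact₁ (E M) (hE M) 0
    exact hex1.isZero_of_both_zeros hδ
      ((Functor.isZero_rightDerived_obj_injective_succ (G ⋙ F) 0 (E M).X₂).eq_of_tgt _ _)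
  | succ n ih =>
    intro M hM h0
    have hS := shortExact_map G (E M) (hE M) (hM 0)
    have hQ : IsZero ((F.rightDerived (n + 1)).obj (G.obj (E M).X₃)) := by
      have hex := (rightDerivedDelta F).exact₃ ((E M).map G) hS (n + 1)
      exact hex.isZero_of_both_isZero (hGF (E M).X₂ n) h0
    have h1 := ih (E M).X₃ (acyclic_coker G M hM) hQ
    have hex1 := (rightDerivedDelta (G ⋙ F)).exact₁ (E M) (hE M) (n + 1)
    exact hex1.isZero_of_both_isZero h1
      (Functor.isZero_rightDerived_obj_injective_succ (G ⋙ F) (n + 1) (E M).X₂)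

/-- vanishing of `Rⁿ(G ⋙ F)(M)` for `n > c + d` if `R^qG(M) = 0` for `q > d` and
`R^pF = 0` for `p > c` -/
theorem main (c : ℕ) (hF : ∀ (p : ℕ), c < p → ∀ N : B, IsZero ((F.rightDerived p).obj N)) (d : ℕ) :
    ∀ (M : A), (∀ q : ℕ, d < q → IsZero ((G.rightDerived q).obj M)) →
      ∀ n : ℕ, c + d < n → IsZero (((G ⋙ F).rightDerived n).obj M) := by
  induction d with
  | zero =>
    intro M hM n hn
    obtain ⟨m, rfl⟩ : ∃ m, n = m + 1 := ⟨n - 1, by omega⟩
    exact base G F hGF m M (fun q => hM (q + 1) (by omega)) (hF (m + 1) (by omega) _)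
  | succ d ih =>
    intro M hM n hn
    obtain ⟨m, rfl⟩ : ∃ m, n = m + 1 := ⟨n - 1, by omega⟩
    have hQ : ∀ q : ℕ, d < q → IsZero ((G.rightDerived q).obj (E M).X₃) := by
      intro q hq
      obtain ⟨r, rfl⟩ : ∃ r, q = r + 1 := ⟨q - 1, by omega⟩
      have hex := (rightDerivedDelta G).exact₃ (E M) (hE M) (r + 1)
      exact hex.isZero_of_both_isZero
        (Functor.isZero_rightDerived_obj_injective_succ G r (E M).X₂) (hM (r + 1 + 1) (by omega))
    have h1 := ih (E M).X₃ hQ m (by omega)
    have hex1 := (rightDerivedDelta (G ⋙ F)).exact₁ (E M) (hE M) m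
    obtain ⟨k, rfl⟩ : ∃ k, m = k + 1 := ⟨m - 1, by omega⟩
    exact hex1.isZero_of_both_isZero h1
      (Functor.isZero_rightDerived_obj_injective_succ (G ⋙ F) (k + 1) (E M).X₂)

end Groth.Agent.Helper1.CompVanish
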