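import Mathlib

/-!
# Modules with a connection along a derivation: localization
-/

set_option autoImplicit false

namespace Groth.Agent.Helper1.Conn

universe u v
variable {A : Type u} [CommRing A] (θ : Derivation ℤ A A)

/-- a `θ`-connection on `M` -/
def IsConn {M : Type v} [AddCommGroup M] [Module A M] (D : M →+ M) : Prop :=
  ∀ (a : A) (m : M), D (a • m) = θ a • m + a • D m

/-- the twisted module structure on `N × N` -/
def Tw (_θ : Derivation ℤ A A) (N : Type v) : Type v := N × N

namespace Tw

variable {N : Type v} [AddCommGroup N] [Module A N]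

instance : AddCommGroup (Tw θ N) := inferInstanceAs (AddCommGroup (N × N))

instance : SMul A (Tw θ N) where
  smul a p := ((a • p.1, a • p.2 + θ a • p.1) : N × N)

lemma smul_fst (a : A) (p : Tw θ N) : (a • p).1 = a • p.1 := rfl
lemma smul_snd (a : A) (p : Tw θ N) : (a • p).2 = a • p.2 + θ a • p.1 := rfl
lemma add_fst (p q : Tw θ N) : (p + q).1 = p.1 + q.1 := rfl
lemma add_snd (p q : Tw θ N) : (p + q).2 = p.2 + q.2 := rfl
lemma zero_fst : (0 : Tw θ N).1 = 0 := rfl
lemma zero_snd : (0 : Tw θ N).2 = 0 := rfl

@[ext] lemma ext {p q : Tw θ N} (h1 : p.1 = q.1) (h2 : p.2 = q.2) : p = q := Prod.ext h1 h2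

instance : Module A (Tw θ N) where
  one_smul p := by
    apply Tw.ext
    · rw [smul_fst, one_smul]
    · rw [smul_snd, one_smul, Derivation.map_one_eq_zero, zero_smul, add_zero]
  mul_smul a b p := by
    apply Tw.ext
    · rw [smul_fst, smul_fst, smul_fst, mul_smul]
    · rw [smul_snd, smul_snd, smul_snd, smul_fst, Derivation.leibniz, smul_add, add_smul, mul_smul,
        smul_eq_mul, smul_eq_mul, mul_smul, mul_smul, smul_comm b (θ a) p.1]
      abel
  smul_zero a := by
    apply Tw.ext
    · rw [smul_fst, zero_fst, smul_zero]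
    · rw [smul_snd, zero_snd, zero_fst, smul_zero, smul_zero, add_zero]
  smul_add a p q := by
    apply Tw.ext
    · rw [smul_fst, add_fst, add_fst, smul_add, smul_fst, smul_fst]
    · rw [smul_snd, add_snd, add_snd, add_fst, smul_add, smul_add, smul_snd, smul_snd]
      abel
  add_smul a b p := by
    apply Tw.ext
    · rw [smul_fst, add_fst, add_smul, smul_fst, smul_fst]
    · rw [smul_snd, add_snd, add_smul, map_add, add_smul, smul_snd, smul_snd]
      abel
  zero_smul p := by
    apply Tw.ext
    · rw [smul_fst, zero_smul, zero_fst]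
    · rw [smul_snd, zero_smul, map_zero, zero_smul, add_zero, zero_snd]

/-- first projection, linear -/
def fstL : Tw θ N →ₗ[A] N where
  toFun p := p.1
  map_add' _ _ := rfl
  map_smul' _ _ := rfl

/-- second projection, additive -/
def sndA : Tw θ N →+ N where
  toFun p := p.2
  map_zero' := rfl
  map_add' _ _ := rfl

lemma isUnit_of_bijective (s : A) (hs : Function.Bijective (fun x : N => s • x)) :
    IsUnit (algebraMap A (Module.End A (Tw θ N)) s) := by
  rw [Module.End.isUnit_iff]
  constructor
  · rw [injective_iff_map_eq_zero]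
    intro p hp
    have h1 : s • p.1 = 0 := congrArg Prod.fst hp
    have h2 : s • p.2 + θ s • p.1 = 0 := congrArg Prod.snd hp
    have h3 : p.1 = 0 := hs.1 (by simpa using h1)
    rw [h3, smul_zero, add_zero] at h2
    have h4 : p.2 = 0 := hs.1 (by simpa using h2)
    exact Tw.ext θ h3 h4
  · intro q
    obtain ⟨x, hx⟩ := hs.2 q.1
    obtain ⟨y, hy⟩ := hs.2 (q.2 - θ s • x)
    refine ⟨((x, y) : N × N), ?_⟩
    apply Tw.ext
    · exact hx
    · change s • y + θ s • x = q.2
      have : s • y = q.2 - θ s • x := hy
      rw [this, sub_add_cancel]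

end Tw

section loc

variable {M N : Type v} [AddCommGroup M] [Module A M] [AddCommGroup N] [Module A N]

omit θ in
lemma smul_bijective (S : Submonoid A) (f : M →ₗ[A] N) [IsLocalizedModule S f] (s : S) :
    Function.Bijective (fun x : N => (s : A) • x) :=
  (Module.End.isUnit_iff _).1 (IsLocalizedModule.map_units f s)

variable (S : Submonoid A) (f : M →ₗ[A] N) [IsLocalizedModule S f]

variable {θ}

/-- the linear map `M → Tw N` attached to a connection -/
def twMap (D : M →+ M) (hD : IsConn θ D) : M →ₗ[A] Tw θ N where
  toFun m := ((f m, f (D m)) : N × N)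
  map_add' m m' := by
    apply Tw.ext
    · change f (m + m') = f m + f m'
      rw [map_add]
    · change f (D (m + m')) = f (D m) + f (D m')
      rw [map_add, map_add]
  map_smul' a m := by
    apply Tw.ext
    · change f (a • m) = a • f m
      rw [map_smul]
    · change f (D (a • m)) = a • f (D m) + θ a • f m
      rw [hD, map_add, map_smul, map_smul, add_comm]

/-- the lifted linear map `N → Tw N` -/
noncomputable def twLift (D : M →+ M) (hD : IsConn θ D) : N →ₗ[A] Tw θ N :=
  IsLocalizedModule.lift S f (twMap f D hD)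
    (fun s => Tw.isUnit_of_bijective θ (s : A) (smul_bijective S f s))

lemma twLift_apply (D : M →+ M) (hD : IsConn θ D) (m : M) :
    twLift S f D hD (f m) = ((f m, f (D m)) : N × N) :=
  IsLocalizedModule.lift_apply S f _ _ m

lemma twLift_fst (D : M →+ M) (hD : IsConn θ D) (x : N) : (twLift S f D hD x).1 = x := by
  have h : (Tw.fstL θ).comp (twLift S f D hD) = LinearMap.id := by
    apply IsLocalizedModule.ext S f (IsLocalizedModule.map_units f)
    ext m
    simp only [LinearMap.comp_apply, LinearMap.id_apply]
    rw [twLift_apply]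
    rfl
  exact LinearMap.congr_fun h x

/-- the localized connection -/
noncomputable def locConn (D : M →+ M) (hD : IsConn θ D) : N →+ N :=
  (Tw.sndA θ).comp (twLift S f D hD).toAddMonoidHom

lemma locConn_isConn (D : M →+ M) (hD : IsConn θ D) : IsConn θ (locConn S f D hD) := by
  intro a x
  change (twLift S f D hD (a • x)).2 = θ a • x + a • (twLift S f D hD x).2
  rw [map_smul, Tw.smul_snd, twLift_fst, add_comm]

lemma locConn_apply (D : M →+ M) (hD : IsConn θ D) (m : M) :
    locConn S f D hD (f m) = f (D m) := by
  change (twLift S f D hD (f m)).2 = f (D m)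
  rw [twLift_apply]

/-- uniqueness: two additive maps satisfying the same Leibniz rule relative to a linear map `c`,
agreeing on the image of `M`, agree -/
lemma eq_of_leibniz {P : Type v} [AddCommGroup P] [Module A P]
    (hP : ∀ s : S, IsUnit (algebraMap A (Module.End A P) s)) (c : N →ₗ[A] P) (Φ Ψ : N →+ P)
    (hΦ : ∀ a x, Φ (a • x) = θ a • c x + a • Φ x) (hΨ : ∀ a x, Ψ (a • x) = θ a • c x + a • Ψ x)
    (h : ∀ m, Φ (f m) = Ψ (f m)) (x : N) : Φ x = Ψ x := by
  let Δ : N →ₗ[A] P :=
    { toFun := fun x => Φ x - Ψ x
      map_add' := fun x y => by rw [map_add, map_add]; abel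
      map_smul' := fun a x => by
        rw [hΦ, hΨ, RingHom.id_apply, smul_sub]
        abel }
  have h0 : Δ = 0 := by
    apply IsLocalizedModule.ext S f hP
    ext m
    change Φ (f m) - Ψ (f m) = 0
    rw [h, sub_self]
  have := LinearMap.congr_fun h0 x
  exact sub_eq_zero.1 this

end loc

end Groth.Agent.Helper1.Conn
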