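import Mathlib
import Groth.Agent.Helper1.KoszulCone

/-!
# The long exact homology sequence of a mapping cocone
-/

set_option autoImplicit false

namespace Groth.Agent.Helper1.ExtCech
open CategoryTheory Limits CochainComplex HomologicalComplex
open Groth.Agent.Helper1

universe v u
variable {C : Type u} [Category.{v} C] [Abelian C]

variable {K L : CochainComplex C ℤ} (φ : K ⟶ L)

/-- the shift isomorphism `H^n(cocone φ) ≅ H^m(cone φ)`, `m + 1 = n` -/
noncomputable def sh (m n : ℤ) (h : m + 1 = n) :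
    (mappingCocone φ).homology n ≅ (mappingCone φ).homology m :=
  (CochainComplex.ShiftSequence.shiftIso C (-1) n m (by omega)).app (mappingCone φ)

/-- `H^m(L) ⟶ H^n(cocone φ)` -/
noncomputable def cι (m n : ℤ) (h : m + 1 = n) : L.homology m ⟶ (mappingCocone φ).homology n :=
  homologyMap (mappingCone.inr φ) m ≫ (sh φ m n h).inv

/-- `H^n(cocone φ) ⟶ H^n(K)` -/
noncomputable def cπ (m n : ℤ) (h : m + 1 = n) : (mappingCocone φ).homology n ⟶ K.homology n :=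
  (sh φ m n h).hom ≫ KoszulCone.coneδ φ m n h

lemma cw₁ (m n : ℤ) (h : m + 1 = n) : homologyMap φ m ≫ cι φ m n h = 0 := by
  rw [cι, reassoc_of% (KoszulCone.w₂ φ m), zero_comp]

lemma cexact₁ (m n : ℤ) (h : m + 1 = n) :
    (ShortComplex.mk (homologyMap φ m) (cι φ m n h) (cw₁ φ m n h)).Exact := by
  refine ShortComplex.exact_of_iso ?_ (KoszulCone.exact₂ φ m)
  refine ShortComplex.isoMk (Iso.refl _) (Iso.refl _) (sh φ m n h).symm ?_ ?_
  · simp
  · simp [cι]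

lemma cw₂ (m n : ℤ) (h : m + 1 = n) : cι φ m n h ≫ cπ φ m n h = 0 := by
  rw [cι, cπ, Category.assoc, Iso.inv_hom_id_assoc, KoszulCone.w₃]

lemma cexact₂ (m n : ℤ) (h : m + 1 = n) :
    (ShortComplex.mk (cι φ m n h) (cπ φ m n h) (cw₂ φ m n h)).Exact := by
  refine ShortComplex.exact_of_iso ?_ (KoszulCone.exact₃ φ m n h)
  refine ShortComplex.isoMk (Iso.refl _) (sh φ m n h).symm (Iso.refl _) ?_ ?_
  · simp [cι]
  · simp [cπ]

lemma cw₃ (m n : ℤ) (h : m + 1 = n) : cπ φ m n h ≫ homologyMap φ n = 0 := by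
  rw [cπ, Category.assoc, KoszulCone.w₁, comp_zero]

lemma cexact₃ (m n : ℤ) (h : m + 1 = n) :
    (ShortComplex.mk (cπ φ m n h) (homologyMap φ n) (cw₃ φ m n h)).Exact := by
  refine ShortComplex.exact_of_iso ?_ (KoszulCone.exact₁ φ m n h)
  refine ShortComplex.isoMk (sh φ m n h).symm (Iso.refl _) (Iso.refl _) ?_ ?_
  · simp [cπ]
  · simp

section naturality

variable {K₁ L₁ K₂ L₂ K₃ L₃ : CochainComplex C ℤ} (φ₁ : K₁ ⟶ L₁) (φ₂ : K₂ ⟶ L₂) (φ₃ : K₃ ⟶ L₃)
  (a : K₁ ⟶ K₂) (b : L₁ ⟶ L₂) (comm : φ₁ ≫ b = a ≫ φ₂)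

/-- functoriality of the mapping cocone -/
noncomputable def coconeMap : mappingCocone φ₁ ⟶ mappingCocone φ₂ :=
  (mappingCone.map φ₁ φ₂ a b comm)⟦(-1 : ℤ)⟧'

lemma coconeMap_id : coconeMap φ φ (𝟙 _) (𝟙 _) (by rw [Category.id_comp, Category.comp_id]) =
    𝟙 (mappingCocone φ) := by
  rw [coconeMap, mappingCone.map_id]
  exact (CategoryTheory.shiftFunctor (CochainComplex C ℤ) (-1 : ℤ)).map_id _

lemma coconeMap_comp (a' : K₂ ⟶ K₃) (b' : L₂ ⟶ L₃) (comm' : φ₂ ≫ b' = a' ≫ φ₃) :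
    coconeMap φ₁ φ₃ (a ≫ a') (b ≫ b') (by rw [reassoc_of% comm, comm', Category.assoc]) =
      coconeMap φ₁ φ₂ a b comm ≫ coconeMap φ₂ φ₃ a' b' comm' := by
  rw [coconeMap, mappingCone.map_comp φ₁ φ₂ φ₃ a b comm a' b' comm']
  exact (CategoryTheory.shiftFunctor (CochainComplex C ℤ) (-1 : ℤ)).map_comp _ _

lemma sh_naturality (m n : ℤ) (h : m + 1 = n) :
    homologyMap (coconeMap φ₁ φ₂ a b comm) n ≫ (sh φ₂ m n h).hom =
      (sh φ₁ m n h).hom ≫ homologyMap (mappingCone.map φ₁ φ₂ a b comm) m :=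
  (CochainComplex.ShiftSequence.shiftIso C (-1) n m (by omega)).hom.naturality
    (mappingCone.map φ₁ φ₂ a b comm)

lemma sh_inv_naturality (m n : ℤ) (h : m + 1 = n) :
    homologyMap (mappingCone.map φ₁ φ₂ a b comm) m ≫ (sh φ₂ m n h).inv =
      (sh φ₁ m n h).inv ≫ homologyMap (coconeMap φ₁ φ₂ a b comm) n :=
  (CochainComplex.ShiftSequence.shiftIso C (-1) n m (by omega)).inv.naturality
    (mappingCone.map φ₁ φ₂ a b comm)

lemma inr_map : mappingCone.inr φ₁ ≫ mappingCone.map φ₁ φ₂ a b comm = b ≫ mappingCone.inr φ₂ :=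
  (mappingCone.triangleMap φ₁ φ₂ a b comm).comm₂

lemma cι_naturality (m n : ℤ) (h : m + 1 = n) :
    cι φ₁ m n h ≫ homologyMap (coconeMap φ₁ φ₂ a b comm) n = homologyMap b m ≫ cι φ₂ m n h := by
  rw [cι, cι, Category.assoc, ← sh_inv_naturality, ← Category.assoc, ← Category.assoc,
    ← homologyMap_comp, ← homologyMap_comp, inr_map]

lemma cπ_naturality (m n : ℤ) (h : m + 1 = n) :
    homologyMap (coconeMap φ₁ φ₂ a b comm) n ≫ cπ φ₂ m n h = cπ φ₁ m n h ≫ homologyMap a n := by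
  rw [cπ, cπ, ← Category.assoc, sh_naturality, Category.assoc, Category.assoc,
    KoszulCone.coneδ_naturality]

end naturality

end Groth.Agent.Helper1.ExtCech
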