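import Mathlib
import Groth.Prelude.Def_DerCA
import Groth.Agent.Helper1.ExtCechCocone
import Groth.Agent.Helper1.KoszulReg
import Groth.Agent.Helper1.LocFun
import Groth.Agent.Helper1.DeltaFunctor

/-!
# The extended Čech complex is an exact functor of the module; the resulting δ-functor
-/

set_option autoImplicit false

namespace Groth.Agent.Helper1.ExtCech
open CategoryTheory Limits CochainComplex HomologicalComplex HomComplex DerCA
open Groth.Agent.Helper1 Groth.Agent.Helper1.Koszul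

universe u
variable {R : Type u} [CommRing R]

lemma extCech_cons (M : ModuleCat.{u} R) (f : R) (fs : List R) :
    extCech M (f :: fs) = mappingCocone (locCxUnit (Submonoid.powers f) (extCech M fs)) := rfl

lemma locCxUnit_naturality (S : Submonoid R) {K K' : DRing.Cx R} (a : K ⟶ K') :
    locCxUnit S K ≫ (locCx S).map a = a ≫ locCxUnit S K' := by
  refine HomologicalComplex.hom_ext _ _ (fun n => ?_)
  exact ((locUnit S).naturality (a.f n)).symm

/-- functoriality of the extended Čech complex in the module -/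
noncomputable def cmap {M N : ModuleCat.{u} R} (g : M ⟶ N) :
    ∀ fs : List R, extCech M fs ⟶ extCech N fs
  | [] => (HomologicalComplex.single (ModuleCat.{u} R) (ComplexShape.up ℤ) 0).map g
  | f :: fs => coconeMap (locCxUnit (Submonoid.powers f) (extCech M fs))
      (locCxUnit (Submonoid.powers f) (extCech N fs)) (cmap g fs)
      ((locCx (Submonoid.powers f)).map (cmap g fs)) (locCxUnit_naturality _ _)

lemma coconeMap_congr {K₁ L₁ K₂ L₂ : CochainComplex (ModuleCat.{u} R) ℤ} (φ₁ : K₁ ⟶ L₁)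
    (φ₂ : K₂ ⟶ L₂) {a a' : K₁ ⟶ K₂} {b b' : L₁ ⟶ L₂} (comm : φ₁ ≫ b = a ≫ φ₂) (ha : a = a')
    (hb : b = b') :
    coconeMap φ₁ φ₂ a b comm = coconeMap φ₁ φ₂ a' b' (by rw [← ha, ← hb]; exact comm) := by
  subst ha hb
  rfl

lemma cmap_id (M : ModuleCat.{u} R) : ∀ fs : List R, cmap (𝟙 M) fs = 𝟙 _
  | [] => (HomologicalComplex.single (ModuleCat.{u} R) (ComplexShape.up ℤ) 0).map_id M
  | f :: fs => by
    have h := cmap_id M fs
    have h2 : (locCx (Submonoid.powers f)).map (cmap (𝟙 M) fs) = 𝟙 _ := by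
      rw [h, CategoryTheory.Functor.map_id]
    simp only [cmap]
    rw [coconeMap_congr _ _ _ h h2]
    exact coconeMap_id _

lemma cmap_comp {M N P : ModuleCat.{u} R} (g : M ⟶ N) (h : N ⟶ P) :
    ∀ fs : List R, cmap (g ≫ h) fs = cmap g fs ≫ cmap h fs
  | [] => (HomologicalComplex.single (ModuleCat.{u} R) (ComplexShape.up ℤ) 0).map_comp g h
  | f :: fs => by
    have ih := cmap_comp g h fs
    have h2 : (locCx (Submonoid.powers f)).map (cmap (g ≫ h) fs) =
        (locCx (Submonoid.powers f)).map (cmap g fs) ≫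
          (locCx (Submonoid.powers f)).map (cmap h fs) := by
      rw [ih, CategoryTheory.Functor.map_comp]
    simp only [cmap]
    rw [coconeMap_congr _ _ _ ih h2]
    exact coconeMap_comp _ _ _ _ _ _ _ _ _

lemma coconeMap_zero {K₁ L₁ K₂ L₂ : CochainComplex (ModuleCat.{u} R) ℤ} (φ₁ : K₁ ⟶ L₁)
    (φ₂ : K₂ ⟶ L₂) (comm : φ₁ ≫ (0 : L₁ ⟶ L₂) = (0 : K₁ ⟶ K₂) ≫ φ₂) :
    coconeMap φ₁ φ₂ 0 0 comm = 0 := by
  rw [coconeMap, cone_map_zero]
  exact (CategoryTheory.shiftFunctor (CochainComplex (ModuleCat.{u} R) ℤ) (-1 : ℤ)).map_zero _ _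

lemma cmap_zero {M N : ModuleCat.{u} R} : ∀ fs : List R, cmap (0 : M ⟶ N) fs = 0
  | [] => (HomologicalComplex.single (ModuleCat.{u} R) (ComplexShape.up ℤ) 0).map_zero M N
  | f :: fs => by
    have ih := cmap_zero (M := M) (N := N) fs
    have h2 : (locCx (Submonoid.powers f)).map (cmap (0 : M ⟶ N) fs) = 0 := by
      rw [ih, CategoryTheory.Functor.map_zero]
    simp only [cmap]
    rw [coconeMap_congr _ _ _ ih h2]
    exact coconeMap_zero _ _ _

lemma locFunctor_map_smul (S : Submonoid R) {M N : ModuleCat.{u} R} (c : R) (g : M ⟶ N) :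
    (locFunctor S).map (c • g) = c • (locFunctor S).map g := by
  ext x
  change (IsLocalizedModule.map S (LocalizedModule.mkLinearMap S M)
    (LocalizedModule.mkLinearMap S N)) (c • g.hom) x = _
  rw [map_smul]
  rfl

lemma locCx_map_smul (S : Submonoid R) {K K' : DRing.Cx R} (c : R) (a : K ⟶ K') :
    (locCx S).map (c • a) = c • (locCx S).map a := by
  refine HomologicalComplex.hom_ext _ _ (fun n => ?_)
  exact locFunctor_map_smul S c (a.f n)

lemma coconeMap_smul {K₁ L₁ K₂ L₂ : CochainComplex (ModuleCat.{u} R) ℤ} (φ₁ : K₁ ⟶ L₁)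
    (φ₂ : K₂ ⟶ L₂) (a : K₁ ⟶ K₂) (b : L₁ ⟶ L₂) (comm : φ₁ ≫ b = a ≫ φ₂) (c : R)
    (comm' : φ₁ ≫ (c • b) = (c • a) ≫ φ₂) :
    coconeMap φ₁ φ₂ (c • a) (c • b) comm' = c • coconeMap φ₁ φ₂ a b comm := by
  rw [coconeMap, cone_map_smul φ₁ φ₂ a b comm c comm']
  refine HomologicalComplex.hom_ext _ _ (fun n => ?_)
  rfl

lemma cmap_smul {M N : ModuleCat.{u} R} (c : R) (g : M ⟶ N) :
    ∀ fs : List R, cmap (c • g) fs = c • cmap g fs
  | [] => single_map_smul c g
  | f :: fs => by
    have ih := cmap_smul c g fs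
    have h2 : (locCx (Submonoid.powers f)).map (cmap (c • g) fs) =
        c • (locCx (Submonoid.powers f)).map (cmap g fs) := by
      rw [ih, locCx_map_smul]
    simp only [cmap]
    rw [coconeMap_congr _ _ _ ih h2]
    exact coconeMap_smul _ _ _ _ _ c _

lemma cmap_smul_id (M : ModuleCat.{u} R) (c : R) (fs : List R) :
    cmap (c • 𝟙 M) fs = c • 𝟙 (extCech M fs) := by
  rw [cmap_smul, cmap_id]

end Groth.Agent.Helper1.ExtCech
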