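import Mathlib
import Groth.Prelude.Def_DerCA
import Groth.Agent.Helper1.ExtCechFunctor

/-!
# The extended Čech complex is an exact functor of the module; the resulting δ-functor
-/

set_option autoImplicit false

namespace Groth.Agent.Helper1.ExtCech
open CategoryTheory Limits CochainComplex HomologicalComplex HomComplex DerCA
open Groth.Agent.Helper1 Groth.Agent.Helper1.Koszul

universe u
variable {R : Type u} [CommRing R]

section conemap

variable {K₁ L₁ K₂ L₂ : CochainComplex (ModuleCat.{u} R) ℤ} (φ₁ : K₁ ⟶ L₁) (φ₂ : K₂ ⟶ L₂)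
  (a : K₁ ⟶ K₂) (b : L₁ ⟶ L₂) (comm : φ₁ ≫ b = a ≫ φ₂)

lemma map_f_fst' (n m : ℤ) (h : n + 1 = m) :
    (mappingCone.map φ₁ φ₂ a b comm).f n ≫ (mappingCone.fst φ₂).1.v n m h =
      (mappingCone.fst φ₁).1.v n m h ≫ a.f m := by
  subst h
  simp [mappingCone.map, mappingCone.desc_f _ _ _ _ n (n + 1) rfl]

lemma map_f_snd' (n : ℤ) :
    (mappingCone.map φ₁ φ₂ a b comm).f n ≫ (mappingCone.snd φ₂).v n n (add_zero n) =
      (mappingCone.snd φ₁).v n n (add_zero n) ≫ b.f n := by
  simp [mappingCone.map, mappingCone.desc_f _ _ _ _ n (n + 1) rfl]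

lemma inl_map_f' (n m : ℤ) (h : n + 1 = m) :
    (mappingCone.inl φ₁).v m n (by omega) ≫ (mappingCone.map φ₁ φ₂ a b comm).f n =
      a.f m ≫ (mappingCone.inl φ₂).v m n (by omega) := by
  subst h
  simp [mappingCone.map]

lemma inr_map_f' (n : ℤ) :
    (mappingCone.inr φ₁).f n ≫ (mappingCone.map φ₁ φ₂ a b comm).f n =
      b.f n ≫ (mappingCone.inr φ₂).f n := by
  simp [mappingCone.map]

lemma cone_decomp' {K L : CochainComplex (ModuleCat.{u} R) ℤ} (φ : K ⟶ L) (n m : ℤ)
    (h : n + 1 = m) (x : (mappingCone φ).X n) :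
    x = ((mappingCone.inl φ).v m n (by omega)).hom (((mappingCone.fst φ).1.v n m h).hom x) +
      ((mappingCone.inr φ).f n).hom (((mappingCone.snd φ).v n n (add_zero n)).hom x) := by
  have := congrArg (fun g => g.hom x) (mappingCone.id_X φ n m h)
  exact this.symm

end conemap

section degses

variable {K₁ K₂ K₃ L₁ L₂ L₃ : CochainComplex (ModuleCat.{u} R) ℤ} (φ₁ : K₁ ⟶ L₁) (φ₂ : K₂ ⟶ L₂)
  (φ₃ : K₃ ⟶ L₃) (a : K₁ ⟶ K₂) (a' : K₂ ⟶ K₃) (b : L₁ ⟶ L₂) (b' : L₂ ⟶ L₃)
  (ca : φ₁ ≫ b = a ≫ φ₂) (cb : φ₂ ≫ b' = a' ≫ φ₃)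

lemma degSES_cone' (n m : ℤ) (h : n + 1 = m) (hn : DegSES b b' n) (hm : DegSES a a' m) :
    DegSES (mappingCone.map φ₁ φ₂ a b ca) (mappingCone.map φ₂ φ₃ a' b' cb) n := by
  obtain ⟨in_n, ex_n, su_n⟩ := hn
  obtain ⟨in_m, ex_m, su_m⟩ := hm
  have fstA := fun x => congrArg (fun g => g.hom x) (map_f_fst' φ₁ φ₂ a b ca n m h)
  have sndA := fun x => congrArg (fun g => g.hom x) (map_f_snd' φ₁ φ₂ a b ca n)
  have inlA := fun x => congrArg (fun g => g.hom x) (inl_map_f' φ₁ φ₂ a b ca n m h)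
  have inrA := fun x => congrArg (fun g => g.hom x) (inr_map_f' φ₁ φ₂ a b ca n)
  have fstB := fun x => congrArg (fun g => g.hom x) (map_f_fst' φ₂ φ₃ a' b' cb n m h)
  have sndB := fun x => congrArg (fun g => g.hom x) (map_f_snd' φ₂ φ₃ a' b' cb n)
  have inlB := fun x => congrArg (fun g => g.hom x) (inl_map_f' φ₂ φ₃ a' b' cb n m h)
  have inrB := fun x => congrArg (fun g => g.hom x) (inr_map_f' φ₂ φ₃ a' b' cb n)
  simp only [ModuleCat.hom_comp, LinearMap.comp_apply] at fstA sndA inlA inrA fstB sndB inlB inrB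
  refine ⟨?_, ?_, ?_⟩
  · rw [injective_iff_map_eq_zero]
    intro x hx
    rw [cone_decomp' φ₁ n m h x]
    have h1 : ((mappingCone.fst φ₁).1.v n m h).hom x = 0 := by
      apply in_m
      rw [← fstA, hx, map_zero, map_zero]
    have h2 : ((mappingCone.snd φ₁).v n n (add_zero n)).hom x = 0 := by
      apply in_n
      rw [← sndA, hx, map_zero, map_zero]
    rw [h1, h2, map_zero, map_zero, add_zero]
  · intro y
    constructor
    · intro hy
      have h1 : (a'.f m).hom (((mappingCone.fst φ₂).1.v n m h).hom y) = 0 := by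
        rw [← fstB, hy, map_zero]
      have h2 : (b'.f n).hom (((mappingCone.snd φ₂).v n n (add_zero n)).hom y) = 0 := by
        rw [← sndB, hy, map_zero]
      obtain ⟨u, hu⟩ := (ex_m _).1 h1
      obtain ⟨v, hv⟩ := (ex_n _).1 h2
      refine ⟨((mappingCone.inl φ₁).v m n (by omega)).hom u + ((mappingCone.inr φ₁).f n).hom v, ?_⟩
      rw [map_add, inlA, inrA, hu, hv]
      exact (cone_decomp' φ₂ n m h y).symm
    · rintro ⟨x, rfl⟩
      rw [cone_decomp' φ₁ n m h x, map_add, map_add, inlA, inrA, inlB, inrB]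
      rw [(ex_m _).2 ⟨_, rfl⟩, (ex_n _).2 ⟨_, rfl⟩, map_zero, map_zero, add_zero]
  · intro y
    obtain ⟨u, hu⟩ := su_m (((mappingCone.fst φ₃).1.v n m h).hom y)
    obtain ⟨v, hv⟩ := su_n (((mappingCone.snd φ₃).v n n (add_zero n)).hom y)
    refine ⟨((mappingCone.inl φ₂).v m n (by omega)).hom u + ((mappingCone.inr φ₂).f n).hom v, ?_⟩
    rw [map_add, inlB, inrB, hu, hv]
    exact (cone_decomp' φ₃ n m h y).symm

lemma degSES_cocone (n : ℤ) (hK : DegSES a a' n) (hL : DegSES b b' (n + -1)) :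
    DegSES (coconeMap φ₁ φ₂ a b ca) (coconeMap φ₂ φ₃ a' b' cb) n :=
  degSES_cone' φ₁ φ₂ φ₃ a a' b b' ca cb (n + -1) n (by omega) hL hK

end degses

lemma degSES_locCx (S : Submonoid R) {K₁ K₂ K₃ : DRing.Cx R} (a : K₁ ⟶ K₂) (b : K₂ ⟶ K₃) (n : ℤ)
    (h : DegSES a b n) : DegSES ((locCx S).map a) ((locCx S).map b) n := by
  obtain ⟨h1, h2, h3⟩ := h
  refine ⟨?_, ?_, ?_⟩
  · exact IsLocalizedModule.map_injective S (LocalizedModule.mkLinearMap S (K₁.X n))
      (LocalizedModule.mkLinearMap S (K₂.X n)) (a.f n).hom h1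
  · exact IsLocalizedModule.map_exact S (LocalizedModule.mkLinearMap S (K₁.X n))
      (LocalizedModule.mkLinearMap S (K₂.X n)) (LocalizedModule.mkLinearMap S (K₃.X n))
      (a.f n).hom (b.f n).hom h2
  · exact IsLocalizedModule.map_surjective S (LocalizedModule.mkLinearMap S (K₂.X n))
      (LocalizedModule.mkLinearMap S (K₃.X n)) (b.f n).hom h3

section main

variable (S : ShortComplex (ModuleCat.{u} R)) (hS : S.ShortExact)

include hS in
theorem degSES_cmap : ∀ (fs : List R) (n : ℤ), DegSES (cmap S.f fs) (cmap S.g fs) n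
  | [], n => degSES_single S hS n
  | f :: fs, n =>
    degSES_cocone _ _ _ _ _ _ _ _ _ n (degSES_cmap fs n)
      (degSES_locCx _ _ _ _ (degSES_cmap fs (n + -1)))

/-- the short complex of Čech complexes attached to a short complex of modules -/
noncomputable def cS (fs : List R) : ShortComplex (CochainComplex (ModuleCat.{u} R) ℤ) :=
  ShortComplex.mk (cmap S.f fs) (cmap S.g fs) (by rw [← cmap_comp, S.zero, cmap_zero])

include hS in
theorem cS_shortExact (fs : List R) : (cS S fs).ShortExact := by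
  apply HomologicalComplex.shortExact_of_degreewise_shortExact
  intro n
  obtain ⟨h1, h2, h3⟩ := degSES_cmap S hS fs n
  refine ShortComplex.ShortExact.mk' ?_ ?_ ?_
  · rw [ShortComplex.ShortExact.moduleCat_exact_iff_function_exact]
    exact h2
  · exact (ModuleCat.mono_iff_injective _).2 h1
  · exact (ModuleCat.epi_iff_surjective _).2 h3

end main

/-- functoriality of `cS` -/
noncomputable def cSmap {S S' : ShortComplex (ModuleCat.{u} R)} (φ : S ⟶ S') (fs : List R) :
    cS S fs ⟶ cS S' fs where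
  τ₁ := cmap φ.τ₁ fs
  τ₂ := cmap φ.τ₂ fs
  τ₃ := cmap φ.τ₃ fs
  comm₁₂ := by
    dsimp [cS]
    rw [← cmap_comp, ← cmap_comp, φ.comm₁₂]
  comm₂₃ := by
    dsimp [cS]
    rw [← cmap_comp, ← cmap_comp, φ.comm₂₃]

section deltafunctor

open Groth.Agent.Helper1.DeltaFun

variable (fs : List R)

/-- the Čech cohomology functors -/
noncomputable def Hfun (q : ℤ) : ModuleCat.{u} R ⥤ ModuleCat.{u} R where
  obj M := extCechH fs M q
  map g := homologyMap (cmap g fs) q
  map_id M := by rw [cmap_id, homologyMap_id]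
  map_comp g h := by rw [cmap_comp, homologyMap_comp]

/-- the Čech cohomology δ-functor -/
noncomputable def extCechDelta : DeltaFunctor (ModuleCat.{u} R) (ModuleCat.{u} R) where
  T p := Hfun fs (p : ℤ)
  δ S hS p := (cS_shortExact S hS fs).δ (p : ℤ) ((p + 1 : ℕ) : ℤ) (by push_cast; rfl)
  δ_nat φ hS hS' p :=
    HomologicalComplex.HomologySequence.δ_naturality (cSmap φ fs) (cS_shortExact _ hS fs)
      (cS_shortExact _ hS' fs) _ _ _
  w₃ S hS p := (cS_shortExact S hS fs).comp_δ _ _ _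
  w₁ S hS p := (cS_shortExact S hS fs).δ_comp _ _ _
  exact₃ S hS p := (cS_shortExact S hS fs).homology_exact₃ _ _ _
  exact₁ S hS p := (cS_shortExact S hS fs).homology_exact₁ _ _ _

end deltafunctor

end Groth.Agent.Helper1.ExtCech
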