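import Mathlib
import Groth.Prelude.Def_DerCA
import Groth.Agent.Helper1.ConnLoc
import Groth.Agent.Helper1.ExtCechExact

/-!
# Complexes with a connection along a derivation: localization, cones, shifts, homology
-/

set_option autoImplicit false

namespace Groth.Agent.Helper1.Conn
open CategoryTheory Limits CochainComplex HomologicalComplex HomComplex DerCA
open Groth.Agent.Helper1.ExtCech

universe u
variable {A : Type u} [CommRing A] (θ : Derivation ℤ A A)

/-- a connection on a complex -/
structure CxConn (K : CochainComplex (ModuleCat.{u} A) ℤ) where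
  /-- the operators -/
  D : ∀ n, K.X n →+ K.X n
  conn : ∀ n, IsConn θ (D n)
  comm : ∀ i j (x : K.X i), (K.d i j).hom (D i x) = D j ((K.d i j).hom x)

variable {θ}

/-- compatibility of a morphism with connections -/
def Compat {K L : CochainComplex (ModuleCat.{u} A) ℤ} (c₁ : CxConn θ K) (c₂ : CxConn θ L)
    (φ : K ⟶ L) : Prop :=
  ∀ n (x : K.X n), (φ.f n).hom (c₁.D n x) = c₂.D n ((φ.f n).hom x)

section loc

variable (S : Submonoid A) {K : CochainComplex (ModuleCat.{u} A) ℤ} (c : CxConn θ K)

/-- the localized operator -/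
noncomputable def locD (n : ℤ) :
    LocalizedModule S (K.X n) →+ LocalizedModule S (K.X n) :=
  locConn S (LocalizedModule.mkLinearMap S (K.X n)) (c.D n) (c.conn n)

lemma locD_isConn (n : ℤ) : IsConn θ (locD S c n) := locConn_isConn _ _ _ _

lemma locD_mk (n : ℤ) (m : K.X n) :
    locD S c n (LocalizedModule.mkLinearMap S (K.X n) m) =
      LocalizedModule.mkLinearMap S (K.X n) (c.D n m) := locConn_apply _ _ _ _ m

lemma locD_comm (i j : ℤ) (x : LocalizedModule S (K.X i)) :
    (IsLocalizedModule.map S (LocalizedModule.mkLinearMap S (K.X i))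
      (LocalizedModule.mkLinearMap S (K.X j)) (K.d i j).hom) (locD S c i x) =
    locD S c j ((IsLocalizedModule.map S (LocalizedModule.mkLinearMap S (K.X i))
      (LocalizedModule.mkLinearMap S (K.X j)) (K.d i j).hom) x) := by
  set g := IsLocalizedModule.map S (LocalizedModule.mkLinearMap S (K.X i))
      (LocalizedModule.mkLinearMap S (K.X j)) (K.d i j).hom with hg
  refine eq_of_leibniz (θ := θ) S (LocalizedModule.mkLinearMap S (K.X i))
    (IsLocalizedModule.map_units (LocalizedModule.mkLinearMap S (K.X j))) g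
    (g.toAddMonoidHom.comp (locD S c i)) ((locD S c j).comp g.toAddMonoidHom) ?_ ?_ ?_ x
  · intro a y
    change g (locD S c i (a • y)) = θ a • g y + a • g (locD S c i y)
    rw [locD_isConn S c i a y, map_add, map_smul, map_smul]
  · intro a y
    change locD S c j (g (a • y)) = θ a • g y + a • locD S c j (g y)
    rw [map_smul, locD_isConn S c j a (g y)]
  · intro m
    change g (locD S c i (LocalizedModule.mkLinearMap S (K.X i) m)) =
      locD S c j (g (LocalizedModule.mkLinearMap S (K.X i) m))
    rw [locD_mk, hg, IsLocalizedModule.map_apply, IsLocalizedModule.map_apply, locD_mk, c.comm]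

/-- the localized connection on the localized complex -/
noncomputable def CxConn.loc : CxConn θ ((locCx S).obj K) where
  D n := locD S c n
  conn n := locD_isConn S c n
  comm i j x := locD_comm S c i j x

lemma compat_locCxUnit : Compat c (c.loc S) (locCxUnit S K) := by
  intro n x
  exact (locD_mk S c n x).symm

end loc

section shift

variable {K : CochainComplex (ModuleCat.{u} A) ℤ} (c : CxConn θ K)

/-- the connection on the shifted complex -/
noncomputable def CxConn.shift (k : ℤ) : CxConn θ (K⟦k⟧) where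
  D n := c.D (n + k)
  conn n := c.conn (n + k)
  comm i j x := by
    have h : (K⟦k⟧).d i j = k.negOnePow • K.d (i + k) (j + k) :=
      CochainComplex.shiftFunctor_obj_d' K k i j
    rw [h]
    change (k.negOnePow : ℤ) • (K.d (i + k) (j + k)).hom (c.D (i + k) x) =
      c.D (j + k) ((k.negOnePow : ℤ) • (K.d (i + k) (j + k)).hom x)
    rw [map_zsmul, c.comm]

end shift

section cone

variable {K L : CochainComplex (ModuleCat.{u} A) ℤ} (c₁ : CxConn θ K) (c₂ : CxConn θ L)
  (φ : K ⟶ L) (hφ : Compat c₁ c₂ φ)

/-- the operator on the cone -/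
noncomputable def coneD (n : ℤ) : (mappingCone φ).X n →+ (mappingCone φ).X n :=
  ((mappingCone.inl φ).v (n + 1) n (by omega)).hom.toAddMonoidHom.comp
    ((c₁.D (n + 1)).comp ((mappingCone.fst φ).1.v n (n + 1) rfl).hom.toAddMonoidHom) +
  ((mappingCone.inr φ).f n).hom.toAddMonoidHom.comp
    ((c₂.D n).comp ((mappingCone.snd φ).v n n (add_zero n)).hom.toAddMonoidHom)

lemma coneD_apply (n : ℤ) (x : (mappingCone φ).X n) :
    coneD c₁ c₂ φ n x =
      ((mappingCone.inl φ).v (n + 1) n (by omega)).hom
        (c₁.D (n + 1) (((mappingCone.fst φ).1.v n (n + 1) rfl).hom x)) +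
      ((mappingCone.inr φ).f n).hom (c₂.D n (((mappingCone.snd φ).v n n (add_zero n)).hom x)) :=
  rfl

lemma fst_inl (n : ℤ) (u : K.X (n + 1)) :
    ((mappingCone.fst φ).1.v n (n + 1) rfl).hom
      (((mappingCone.inl φ).v (n + 1) n (by omega)).hom u) = u := by
  have := congrArg (fun g => g.hom u) (mappingCone.inl_v_fst_v φ (n + 1) n rfl)
  exact this

lemma fst_inr (n : ℤ) (v : L.X n) :
    ((mappingCone.fst φ).1.v n (n + 1) rfl).hom (((mappingCone.inr φ).f n).hom v) = 0 := by
  have := congrArg (fun g => g.hom v) (mappingCone.inr_f_fst_v φ n (n + 1) rfl)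
  exact this

lemma snd_inl (n : ℤ) (u : K.X (n + 1)) :
    ((mappingCone.snd φ).v n n (add_zero n)).hom
      (((mappingCone.inl φ).v (n + 1) n (by omega)).hom u) = 0 := by
  have := congrArg (fun g => g.hom u) (mappingCone.inl_v_snd_v φ (n + 1) n (by omega))
  exact this

lemma snd_inr (n : ℤ) (v : L.X n) :
    ((mappingCone.snd φ).v n n (add_zero n)).hom (((mappingCone.inr φ).f n).hom v) = v := by
  have := congrArg (fun g => g.hom v) (mappingCone.inr_f_snd_v φ n)
  exact this

lemma fst_coneD (n : ℤ) (x : (mappingCone φ).X n) :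
    ((mappingCone.fst φ).1.v n (n + 1) rfl).hom (coneD c₁ c₂ φ n x) =
      c₁.D (n + 1) (((mappingCone.fst φ).1.v n (n + 1) rfl).hom x) := by
  rw [coneD_apply, map_add, fst_inl, fst_inr, add_zero]

lemma snd_coneD (n : ℤ) (x : (mappingCone φ).X n) :
    ((mappingCone.snd φ).v n n (add_zero n)).hom (coneD c₁ c₂ φ n x) =
      c₂.D n (((mappingCone.snd φ).v n n (add_zero n)).hom x) := by
  rw [coneD_apply, map_add, snd_inl, snd_inr, zero_add]

lemma cone_ext (n : ℤ) (x y : (mappingCone φ).X n)
    (h1 : ((mappingCone.fst φ).1.v n (n + 1) rfl).hom x =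
      ((mappingCone.fst φ).1.v n (n + 1) rfl).hom y)
    (h2 : ((mappingCone.snd φ).v n n (add_zero n)).hom x =
      ((mappingCone.snd φ).v n n (add_zero n)).hom y) : x = y := by
  rw [cone_decomp' φ n (n + 1) rfl x, cone_decomp' φ n (n + 1) rfl y, h1, h2]

lemma coneD_isConn (n : ℤ) : IsConn θ (coneD c₁ c₂ φ n) := by
  intro a x
  apply cone_ext φ n
  · rw [fst_coneD, map_smul, c₁.conn, map_add, map_smul, map_smul, fst_coneD]
  · rw [snd_coneD, map_smul, c₂.conn, map_add, map_smul, map_smul, snd_coneD]

lemma fst_d (i j : ℤ) (hij : i + 1 = j) (x : (mappingCone φ).X i) :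
    ((mappingCone.fst φ).1.v j (j + 1) rfl).hom (((mappingCone φ).d i j).hom x) =
      -(K.d j (j + 1)).hom (((mappingCone.fst φ).1.v i j hij).hom x) := by
  have := congrArg (fun g => g.hom x) (mappingCone.d_fst_v φ i j (j + 1) hij rfl)
  exact this

lemma snd_d (i j : ℤ) (hij : i + 1 = j) (x : (mappingCone φ).X i) :
    ((mappingCone.snd φ).v j j (add_zero j)).hom (((mappingCone φ).d i j).hom x) =
      (φ.f j).hom (((mappingCone.fst φ).1.v i j hij).hom x) +
        (L.d i j).hom (((mappingCone.snd φ).v i i (add_zero i)).hom x) := by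
  have := congrArg (fun g => g.hom x) (mappingCone.d_snd_v φ i j hij)
  exact this

include hφ in
lemma coneD_comm (i j : ℤ) (x : (mappingCone φ).X i) :
    ((mappingCone φ).d i j).hom (coneD c₁ c₂ φ i x) =
      coneD c₁ c₂ φ j (((mappingCone φ).d i j).hom x) := by
  by_cases hij : i + 1 = j
  · subst hij
    apply cone_ext φ (i + 1)
    · rw [fst_d φ i (i + 1) rfl, fst_coneD, fst_coneD, fst_d φ i (i + 1) rfl, map_neg, c₁.comm]
    · rw [snd_d φ i (i + 1) rfl, snd_coneD, snd_coneD, snd_d φ i (i + 1) rfl, fst_coneD, map_add,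
        hφ, c₂.comm]
  · have h0 : (mappingCone φ).d i j = 0 := (mappingCone φ).shape i j hij
    rw [h0]
    change (0 : (mappingCone φ).X j) = coneD c₁ c₂ φ j 0
    rw [map_zero]

/-- the connection on the cone -/
noncomputable def CxConn.cone : CxConn θ (mappingCone φ) where
  D n := coneD c₁ c₂ φ n
  conn n := coneD_isConn c₁ c₂ φ n
  comm i j x := coneD_comm c₁ c₂ φ hφ i j x

/-- the connection on the cocone -/
noncomputable def CxConn.cocone : CxConn θ (mappingCocone φ) :=
  (CxConn.cone c₁ c₂ φ hφ).shift (-1)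

end cone

end Groth.Agent.Helper1.Conn
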