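import Mathlib
import Groth.Prelude.Def_DerCA
import Groth.Agent.Helper1.ExtCechExact

/-!
# Homology commutes with localization: `H^n(K) → H^n(K_S)` is a localization map
-/

set_option autoImplicit false

namespace Groth.Agent.Helper1.ExtCech
open CategoryTheory Limits CochainComplex HomologicalComplex HomComplex DerCA
open Groth.Agent.Helper1 Groth.Agent.Helper1.LocFun

universe u
variable {R : Type u} [CommRing R] (S : Submonoid R) (K : DRing.Cx R)

lemma homologyMap_locCxUnit (n : ℤ) :
    homologyMap (locCxUnit S K) n =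
      ((K.sc n).mapHomologyIso (𝟭 (ModuleCat.{u} R))).hom ≫ (locUnit S).app (K.sc n).homology ≫
        ((K.sc n).mapHomologyIso (locFunctor S)).inv :=
  ShortComplex.homologyMap_mapNatTrans (K.sc n) (locUnit S)

instance isLocalizedModule_homologyMap (n : ℤ) :
    IsLocalizedModule S (homologyMap (locCxUnit S K) n).hom := by
  rw [homologyMap_locCxUnit]
  let e₁ := ((K.sc n).mapHomologyIso (𝟭 (ModuleCat.{u} R))).toLinearEquiv
  let e₂ := ((K.sc n).mapHomologyIso (locFunctor S)).symm.toLinearEquiv
  have h0 : IsLocalizedModule S (LocalizedModule.mkLinearMap S (K.sc n).homology) := inferInstance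
  have h1 : IsLocalizedModule S
      ((LocalizedModule.mkLinearMap S (K.sc n).homology) ∘ₗ e₁.toLinearMap) :=
    IsLocalizedModule.of_linearEquiv_right (hf := h0) S _ e₁
  have h2 : IsLocalizedModule S (e₂.toLinearMap ∘ₗ
      ((LocalizedModule.mkLinearMap S (K.sc n).homology) ∘ₗ e₁.toLinearMap)) :=
    IsLocalizedModule.of_linearEquiv (hf := h1) S _ e₂
  exact h2

end Groth.Agent.Helper1.ExtCech
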