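import Mathlib
import Groth.Prelude.Def_DerCA
import Groth.Agent.Helper1.ExtCechLoc

/-!
# Element level long exact sequence of the Čech cocone step, torsion of Čech cohomology
-/

set_option autoImplicit false

namespace Groth.Agent.Helper1.ExtCech
open CategoryTheory Limits CochainComplex HomologicalComplex HomComplex DerCA
open Groth.Agent.Helper1 Groth.Agent.Helper1.LocFun

universe u
variable {R : Type u} [CommRing R]

section general

variable {K L : CochainComplex (ModuleCat.{u} R) ℤ} (φ : K ⟶ L)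

lemma fexact₁ (m n : ℤ) (h : m + 1 = n) :
    Function.Exact (homologyMap φ m).hom (cι φ m n h).hom := by
  have := cexact₁ φ m n h
  rw [ShortComplex.ShortExact.moduleCat_exact_iff_function_exact] at this
  exact this

lemma fexact₂ (m n : ℤ) (h : m + 1 = n) :
    Function.Exact (cι φ m n h).hom (cπ φ m n h).hom := by
  have := cexact₂ φ m n h
  rw [ShortComplex.ShortExact.moduleCat_exact_iff_function_exact] at this
  exact this

lemma fexact₃ (m n : ℤ) (h : m + 1 = n) :
    Function.Exact (cπ φ m n h).hom (homologyMap φ n).hom := by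
  have := cexact₃ φ m n h
  rw [ShortComplex.ShortExact.moduleCat_exact_iff_function_exact] at this
  exact this

end general

section step

variable (f : R) (K : DRing.Cx R)

/-- the step map -/
noncomputable abbrev stepφ : K ⟶ (locCx (Submonoid.powers f)).obj K :=
  locCxUnit (Submonoid.powers f) K

lemma loc_eq_zero (n : ℤ) (x : K.homology n) (hx : (homologyMap (stepφ f K) n).hom x = 0) :
    ∃ k : ℕ, f ^ k • x = 0 := by
  have h := IsLocalizedModule.exists_of_eq (S := Submonoid.powers f)
    (f := (homologyMap (stepφ f K) n).hom) (x₁ := x) (x₂ := 0) (by rw [hx, map_zero])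
  obtain ⟨⟨_, k, rfl⟩, hc⟩ := h
  refine ⟨k, ?_⟩
  rw [smul_zero] at hc
  exact hc

lemma loc_eq_zero_iff (n : ℤ) (x : K.homology n) :
    (homologyMap (stepφ f K) n).hom x = 0 ↔ ∃ k : ℕ, f ^ k • x = 0 := by
  refine ⟨loc_eq_zero f K n x, ?_⟩
  rintro ⟨k, hk⟩
  have h1 : f ^ k • (homologyMap (stepφ f K) n).hom x = 0 := by
    rw [← map_smul, hk, map_zero]
  have hu := IsLocalizedModule.map_units (S := Submonoid.powers f)
    (homologyMap (stepφ f K) n).hom ⟨f ^ k, k, rfl⟩
  have hinj := ((Module.End.isUnit_iff _).1 hu).1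
  apply hinj
  rw [map_zero]
  exact h1

lemma loc_surj (n : ℤ) (y : ((locCx (Submonoid.powers f)).obj K).homology n) :
    ∃ (k : ℕ) (x : K.homology n), f ^ k • y = (homologyMap (stepφ f K) n).hom x := by
  obtain ⟨⟨x, ⟨_, k, rfl⟩⟩, hx⟩ := IsLocalizedModule.surj (Submonoid.powers f)
    (homologyMap (stepφ f K) n).hom y
  exact ⟨k, x, hx⟩

lemma loc_smul_injective (n : ℤ) (k : ℕ) (y : ((locCx (Submonoid.powers f)).obj K).homology n)
    (hy : f ^ k • y = 0) : y = 0 := by
  have hu := IsLocalizedModule.map_units (S := Submonoid.powers f)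
    (homologyMap (stepφ f K) n).hom ⟨f ^ k, k, rfl⟩
  have hinj := ((Module.End.isUnit_iff _).1 hu).1
  apply hinj
  rw [map_zero]
  exact hy

end step

/-- every Čech cohomology class is killed by a power of each element of the list -/
theorem exists_pow_smul_eq_zero (M : ModuleCat.{u} R) :
    ∀ (fs : List R) (q : ℤ) (x : extCechH fs M q) (g : R), g ∈ fs → ∃ k : ℕ, g ^ k • x = 0
  | [], q, x, g, hg => by simp at hg
  | f :: fs, q, x, g, hg => by
    have hq : (q - 1) + 1 = q := by omega
    let K := extCech M fs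
    have e1 := fexact₁ (stepφ f K) (q - 1) q hq
    have e2 := fexact₂ (stepφ f K) (q - 1) q hq
    have e3 := fexact₃ (stepφ f K) (q - 1) q hq
    -- a power of `g` kills the image in `H^q(K)`
    have hπ : ∃ k : ℕ, g ^ k • (cπ (stepφ f K) (q - 1) q hq).hom x = 0 := by
      rcases List.mem_cons.1 hg with rfl | hg'
      · exact loc_eq_zero g K q _ (e3.apply_apply_eq_zero x)
      · exact exists_pow_smul_eq_zero M fs q _ g hg'
    obtain ⟨k, hk⟩ := hπ
    rw [← map_smul] at hk
    obtain ⟨y, hy⟩ := (e2 _).1 hk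
    -- a power of `g` kills `ι y`
    obtain ⟨j, z, hz⟩ := loc_surj f K (q - 1) y
    have hι : ∃ l : ℕ, g ^ l • (cι (stepφ f K) (q - 1) q hq).hom y = 0 := by
      rcases List.mem_cons.1 hg with rfl | hg'
      · refine ⟨j, ?_⟩
        rw [← map_smul, hz]
        exact e1.apply_apply_eq_zero z
      · obtain ⟨l, hl⟩ := exists_pow_smul_eq_zero M fs (q - 1) z g hg'
        refine ⟨l, ?_⟩
        have h1 : f ^ j • (g ^ l • y) = 0 := by
          rw [smul_comm, hz, ← map_smul, hl, map_zero]
        rw [← map_smul, loc_smul_injective f K (q - 1) j _ h1, map_zero]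
    obtain ⟨l, hl⟩ := hι
    refine ⟨l + k, ?_⟩
    rw [pow_add, mul_smul]
    have : g ^ k • x = (cι (stepφ f K) (q - 1) q hq).hom y := hy.symm
    rw [this]
    exact hl

theorem exists_pow_forall_smul_eq_zero (M : ModuleCat.{u} R) (fs : List R) (q : ℤ)
    (x : extCechH fs M q) : ∃ n : ℕ, 1 ≤ n ∧ ∀ f ∈ fs, f ^ n • x = 0 := by
  have key : ∀ (gs : List R), (∀ g ∈ gs, g ∈ fs) → ∃ n : ℕ, 1 ≤ n ∧ ∀ f ∈ gs, f ^ n • x = 0 := by
    intro gs
    induction gs with
    | nil => exact fun _ => ⟨1, le_rfl, fun f hf => by simp at hf⟩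
    | cons g gs ih =>
      intro hgs
      obtain ⟨n, hn, h⟩ := ih (fun a ha => hgs a (List.mem_cons_of_mem _ ha))
      obtain ⟨k, hk⟩ := exists_pow_smul_eq_zero M fs q x g (hgs g List.mem_cons_self)
      refine ⟨n + k, by omega, fun a ha => ?_⟩
      rcases List.mem_cons.1 ha with rfl | ha
      · rw [pow_add, mul_smul, hk, smul_zero]
      · rw [add_comm, pow_add, mul_smul, h a ha, smul_zero]
  exact key fs (fun g hg => hg)

end Groth.Agent.Helper1.ExtCech
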