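import Mathlib
import Groth.Prelude.Def_DerCA
import Groth.Prelude.Def_DRing3
import Groth.Agent.Helper1.ExtCechElem
import Groth.Agent.Helper1.KoszulBot

/-!
# Degree zero Čech cohomology is the torsion functor, naturally (any ring)
-/

set_option autoImplicit false

namespace Groth.Agent.Helper1.ExtCech
open CategoryTheory Limits CochainComplex HomologicalComplex HomComplex DerCA
open Groth.Agent.Helper1 Groth.Agent.Helper1.Koszul

universe u
variable {R : Type u} [CommRing R]

lemma isZero_X_of_neg (M : ModuleCat.{u} R) : ∀ (fs : List R) (n : ℤ), n < 0 →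
    IsZero ((extCech M fs).X n)
  | [], n, hn => HomologicalComplex.isZero_single_obj_X _ _ _ _ (by omega)
  | f :: fs, n, hn => by
    have h1 : IsZero ((extCech M fs).X (n + -1 + 1)) := isZero_X_of_neg M fs _ (by omega)
    have h2 : IsZero (((locCx (Submonoid.powers f)).obj (extCech M fs)).X (n + -1)) :=
      (locFunctor (Submonoid.powers f)).map_isZero (isZero_X_of_neg M fs _ (by omega))
    exact (mappingCone.isZero_X_iff
      (locCxUnit (Submonoid.powers f) (extCech M fs)) (n + -1)).2 ⟨h1, h2⟩

/-- the bottom map `H^0(C(M; fs)) ⟶ M` -/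
noncomputable def botMap (M : ModuleCat.{u} R) : ∀ (fs : List R), ((extCech M fs).homology 0 ⟶ M)
  | [] => (HomologicalComplex.singleObjHomologySelfIso (ComplexShape.up ℤ) 0 M).hom
  | f :: fs => cπ (stepφ f (extCech M fs)) (-1) 0 (by norm_num) ≫ botMap M fs

lemma botMap_naturality {M N : ModuleCat.{u} R} (g : M ⟶ N) :
    ∀ (fs : List R), homologyMap (cmap g fs) 0 ≫ botMap N fs = botMap M fs ≫ g
  | [] => HomologicalComplex.singleObjHomologySelfIso_hom_naturality g
      (c := ComplexShape.up ℤ) (j := (0 : ℤ))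
  | f :: fs => by
    have h1 := cπ_naturality (stepφ f (extCech M fs)) (stepφ f (extCech N fs)) (cmap g fs)
      ((locCx (Submonoid.powers f)).map (cmap g fs)) (locCxUnit_naturality _ _) (-1) 0
      (by norm_num)
    have ih := botMap_naturality g fs
    exact comp_square _ _ _ _ _ _ _ h1 ih

lemma cπ_injective (f : R) (K : DRing.Cx R) (hK : IsZero (K.X (-1))) :
    Function.Injective (cπ (stepφ f K) (-1) 0 (by norm_num)).hom := by
  rw [injective_iff_map_eq_zero]
  intro x hx
  obtain ⟨y, rfl⟩ := (fexact₂ (stepφ f K) (-1) 0 (by norm_num) x).1 hx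
  have hz : IsZero (((locCx (Submonoid.powers f)).obj K).homology (-1)) :=
    isZero_homology_of_isZero_X _ ((locFunctor (Submonoid.powers f)).map_isZero hK)
  have : Subsingleton (((locCx (Submonoid.powers f)).obj K).homology (-1)) :=
    ModuleCat.isZero_iff_subsingleton.1 hz
  rw [Subsingleton.elim y 0, map_zero]

lemma botMap_injective (M : ModuleCat.{u} R) :
    ∀ (fs : List R), Function.Injective (botMap M fs).hom
  | [] => by
    have : IsIso (botMap M []) := by
      unfold botMap
      infer_instance
    exact ((ConcreteCategory.isIso_iff_bijective (botMap M [])).1 this).1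
  | f :: fs => by
    have h1 := cπ_injective f (extCech M fs) (isZero_X_of_neg M fs (-1) (by norm_num))
    have h2 := botMap_injective M fs
    have : (botMap M (f :: fs)).hom =
        (botMap M fs).hom ∘ₗ (cπ (stepφ f (extCech M fs)) (-1) 0 (by norm_num)).hom := rfl
    rw [this]
    exact h2.comp h1

lemma botMap_cons_apply (M : ModuleCat.{u} R) (f : R) (fs : List R)
    (z : (extCech M (f :: fs)).homology 0) :
    (botMap M (f :: fs)).hom z =
      (botMap M fs).hom ((cπ (stepφ f (extCech M fs)) (-1) 0 (by norm_num)).hom z) := rfl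

lemma mem_range_botMap (M : ModuleCat.{u} R) :
    ∀ (fs : List R) (x : M),
      x ∈ LinearMap.range (botMap M fs).hom ↔ ∀ g ∈ fs, ∃ k : ℕ, g ^ k • x = 0
  | [], x => by
    have : IsIso (botMap M []) := by
      unfold botMap
      infer_instance
    have hs := ((ConcreteCategory.isIso_iff_bijective (botMap M [])).1 this).2
    constructor
    · intro _ y hy
      simp at hy
    · intro _
      obtain ⟨z, hz⟩ := hs x
      exact ⟨z, hz⟩
  | f :: fs, x => by
    have ih := mem_range_botMap M fs x
    have hinj := botMap_injective M fs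
    have e3 := fexact₃ (stepφ f (extCech M fs)) (-1) 0 (by norm_num)
    constructor
    · rintro ⟨z, rfl⟩ g hg
      rw [botMap_cons_apply]
      rcases List.mem_cons.1 hg with rfl | hg'
      · obtain ⟨k, hk⟩ := loc_eq_zero g (extCech M fs) 0 _ (e3.apply_apply_eq_zero z)
        exact ⟨k, by rw [← map_smul, hk, map_zero]⟩
      · exact (ih.1 ⟨_, rfl⟩) g hg'
    · intro h
      obtain ⟨y, rfl⟩ := ih.2 (fun g hg => h g (List.mem_cons_of_mem _ hg))
      obtain ⟨k, hk⟩ := h f List.mem_cons_self
      rw [← map_smul] at hk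
      have hk' : f ^ k • y = 0 := hinj (by rw [hk, map_zero])
      have h0 := (loc_eq_zero_iff f (extCech M fs) 0 y).2 ⟨k, hk'⟩
      obtain ⟨z, rfl⟩ := (e3 y).1 h0
      exact ⟨z, botMap_cons_apply M f fs z⟩

lemma mem_torsionSub_span_iff' (fs : List R) (M : Type u) [AddCommGroup M] [Module R M] (x : M) :
    x ∈ DRing.torsionSub (Ideal.span {a | a ∈ fs}) M ↔ ∀ g ∈ fs, ∃ k : ℕ, g ^ k • x = 0 := by
  rw [mem_torsionSub_span_iff]
  constructor
  · rintro ⟨n, hn⟩ g hg
    exact ⟨n, hn g hg⟩
  · intro h
    have key : ∀ (gs : List R), (∀ g ∈ gs, g ∈ fs) → ∃ n : ℕ, ∀ f ∈ gs, f ^ n • x = 0 := by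
      intro gs
      induction gs with
      | nil => exact fun _ => ⟨0, fun f hf => by simp at hf⟩
      | cons g gs ih =>
        intro hgs
        obtain ⟨n, hn⟩ := ih (fun a ha => hgs a (List.mem_cons_of_mem _ ha))
        obtain ⟨k, hk⟩ := h g (hgs g List.mem_cons_self)
        refine ⟨n + k, fun a ha => ?_⟩
        rcases List.mem_cons.1 ha with rfl | ha
        · rw [pow_add, mul_smul, hk, smul_zero]
        · rw [add_comm, pow_add, mul_smul, hn a ha, smul_zero]
    exact key fs (fun g hg => hg)

lemma range_botMap (fs : List R) (M : ModuleCat.{u} R) :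
    LinearMap.range (botMap M fs).hom = DRing.torsionSub (Ideal.span {a | a ∈ fs}) M := by
  ext x
  rw [mem_range_botMap, mem_torsionSub_span_iff']

/-- `H^0(C(M; fs)) ≅ Γ_{(fs)}(M)` -/
noncomputable def botEquiv (fs : List R) (M : ModuleCat.{u} R) :
    (extCech M fs).homology 0 ≃ₗ[R] DRing.torsionSub (Ideal.span {a | a ∈ fs}) M :=
  (LinearEquiv.ofInjective (botMap M fs).hom (botMap_injective M fs)).trans
    (LinearEquiv.ofEq _ _ (range_botMap fs M))

lemma botEquiv_apply (fs : List R) (M : ModuleCat.{u} R) (z : (extCech M fs).homology 0) :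
    ((botEquiv fs M z : DRing.torsionSub (Ideal.span {a | a ∈ fs}) M) : M) =
      (botMap M fs).hom z := rfl

/-- the natural isomorphism in degree zero -/
noncomputable def botIso (fs : List R) : Hfun fs 0 ≅ DRing.gammaI (Ideal.span {a | a ∈ fs}) :=
  NatIso.ofComponents (fun M => (botEquiv fs M).toModuleIso) (by
    intro M N g
    ext z
    apply Subtype.ext
    exact congrArg (fun k => k.hom z) (botMap_naturality g fs))

end Groth.Agent.Helper1.ExtCech
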