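import Mathlib
import Groth.Prelude.Def_DerCA
import Groth.Prelude.Def_Wider
import Groth.Agent.Helper1.ConnCx
import Groth.Agent.Helper1.ExtCechLC

/-!
# Operators on local cohomology induced by derivations
-/

set_option autoImplicit false

namespace Groth.Agent.Helper1.Conn
open CategoryTheory Limits CochainComplex HomologicalComplex HomComplex DerCA
open Groth.Agent.Helper1.ExtCech

universe u
variable {A : Type u} [CommRing A] {θ : Derivation ℤ A A}

section transport

variable {M N : Type u} [AddCommGroup M] [Module A M] [AddCommGroup N] [Module A N]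

/-- transport of a connection along a linear equivalence -/
def transport (e : M ≃ₗ[A] N) (D : M →+ M) : N →+ N :=
  (e : M →ₗ[A] N).toAddMonoidHom.comp (D.comp (e.symm : N →ₗ[A] M).toAddMonoidHom)

lemma transport_isConn (e : M ≃ₗ[A] N) (D : M →+ M) (hD : IsConn θ D) :
    IsConn θ (transport e D) := by
  intro a x
  change e (D (e.symm (a • x))) = θ a • x + a • e (D (e.symm x))
  rw [map_smul, hD, map_add, map_smul, map_smul, LinearEquiv.apply_symm_apply]

end transport

section homology

/-- a connection on the middle term of a short complex of modules, compatible with additive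
operators on the outer terms, induces a connection on the homology -/
theorem exists_conn_sc (S : ShortComplex (ModuleCat.{u} A)) (D₁ : S.X₁ →+ S.X₁)
    (D₂ : S.X₂ →+ S.X₂) (D₃ : S.X₃ →+ S.X₃) (h₂ : IsConn θ D₂)
    (hf : ∀ x, S.f.hom (D₁ x) = D₂ (S.f.hom x)) (hg : ∀ x, S.g.hom (D₂ x) = D₃ (S.g.hom x)) :
    ∃ D : S.homology →+ S.homology, IsConn θ D := by
  let Z := LinearMap.ker S.g.hom
  let B : Submodule A Z := LinearMap.range S.moduleCatToCycles
  -- the operator on cycles
  let DZ : Z →+ Z :=
    { toFun := fun z => ⟨D₂ z.1, by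
        rw [LinearMap.mem_ker, hg, (LinearMap.mem_ker.1 z.2), map_zero]⟩
      map_zero' := by
        apply Subtype.ext
        change D₂ 0 = 0
        rw [map_zero]
      map_add' := fun z z' => by
        apply Subtype.ext
        change D₂ (z.1 + z'.1) = D₂ z.1 + D₂ z'.1
        rw [map_add] }
  have hDZ : ∀ (a : A) (z : Z), DZ (a • z) = θ a • z + a • DZ z := by
    intro a z
    apply Subtype.ext
    change D₂ (a • z.1) = θ a • z.1 + a • D₂ z.1
    rw [h₂]
  have hB : ∀ z : Z, z ∈ B → DZ z ∈ B := by
    rintro z ⟨y, rfl⟩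
    refine ⟨D₁ y, ?_⟩
    apply Subtype.ext
    change S.f.hom (D₁ y) = D₂ (S.f.hom y)
    rw [hf]
  have key : ∀ z z' : Z, B.mkQ z = B.mkQ z' → B.mkQ (DZ z) = B.mkQ (DZ z') := by
    intro z z' h
    have h1 : z - z' ∈ B := (Submodule.Quotient.eq B).1 h
    have h2 := hB _ h1
    rw [map_sub] at h2
    exact (Submodule.Quotient.eq B).2 h2
  have hsurj := Submodule.mkQ_surjective B
  have hrep : ∀ z : Z, B.mkQ (DZ (hsurj (B.mkQ z)).choose) = B.mkQ (DZ z) :=
    fun z => key _ _ (hsurj (B.mkQ z)).choose_spec
  let Dbar : (Z ⧸ B) →+ (Z ⧸ B) :=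
    { toFun := fun q => B.mkQ (DZ (hsurj q).choose)
      map_zero' := by
        have := hrep 0
        rw [map_zero] at this
        rw [this, map_zero, map_zero]
      map_add' := fun q q' => by
        obtain ⟨z, rfl⟩ := hsurj q
        obtain ⟨z', rfl⟩ := hsurj q'
        rw [← map_add, hrep, hrep, hrep, map_add, map_add] }
  have hDbar : IsConn θ Dbar := by
    intro a q
    obtain ⟨z, rfl⟩ := hsurj q
    change B.mkQ (DZ (hsurj (a • B.mkQ z)).choose) = θ a • B.mkQ z + a • B.mkQ (DZ (hsurj (B.mkQ z)).choose)
    rw [← map_smul, hrep, hrep, hDZ, map_add, map_smul, map_smul]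
  let e : S.homology ≃ₗ[A] (Z ⧸ B) := S.moduleCatHomologyIso.toLinearEquiv
  exact ⟨transport e.symm Dbar, transport_isConn e.symm Dbar hDbar⟩

theorem exists_conn_homology {K : CochainComplex (ModuleCat.{u} A) ℤ} (c : CxConn θ K) (n : ℤ) :
    ∃ D : K.homology n →+ K.homology n, IsConn θ D :=
  exists_conn_sc (K.sc n) (c.D _) (c.D n) (c.D _) (c.conn n) (fun x => c.comm _ _ x)
    (fun x => c.comm _ _ x)

end homology

section single

variable (M : ModuleCat.{u} A) (D : M →+ M) (hD : IsConn θ D)

/-- the operator on the single complex -/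
noncomputable def singleD (n : ℤ) :
    ((HomologicalComplex.single (ModuleCat.{u} A) (ComplexShape.up ℤ) 0).obj M).X n →+
      ((HomologicalComplex.single (ModuleCat.{u} A) (ComplexShape.up ℤ) 0).obj M).X n :=
  if h : n = 0 then
    transport (HomologicalComplex.singleObjXIsoOfEq (ComplexShape.up ℤ) 0 M n h).symm.toLinearEquiv D
  else 0

include hD in
lemma singleD_isConn (n : ℤ) : IsConn θ (singleD M D n) := by
  unfold singleD
  split_ifs with h
  · exact transport_isConn _ D hD
  · intro a x
    have : Subsingleton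
        (((HomologicalComplex.single (ModuleCat.{u} A) (ComplexShape.up ℤ) 0).obj M).X n) :=
      ModuleCat.isZero_iff_subsingleton.1 (HomologicalComplex.isZero_single_obj_X _ _ _ _ h)
    exact Subsingleton.elim _ _

/-- the connection on the single complex -/
noncomputable def CxConn.single :
    CxConn θ ((HomologicalComplex.single (ModuleCat.{u} A) (ComplexShape.up ℤ) 0).obj M) where
  D n := singleD M D n
  conn n := singleD_isConn M D hD n
  comm i j x := by
    have h0 : ((HomologicalComplex.single (ModuleCat.{u} A) (ComplexShape.up ℤ) 0).obj M).d i j = 0 :=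
      HomologicalComplex.single_obj_d _ _ _ _ _
    rw [h0]
    change (0 : ((HomologicalComplex.single (ModuleCat.{u} A) (ComplexShape.up ℤ) 0).obj M).X j) =
      singleD M D j 0
    rw [map_zero]

/-- the connection on the extended Čech complex -/
noncomputable def extCechConn : ∀ fs : List A, CxConn θ (extCech M fs)
  | [] => CxConn.single M D hD
  | f :: fs => CxConn.cocone (extCechConn fs) ((extCechConn fs).loc (Submonoid.powers f))
      (locCxUnit (Submonoid.powers f) (extCech M fs)) (compat_locCxUnit _ _)

end single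

/-- a derivation induces operators on local cohomology -/
theorem exists_operator [IsNoetherianRing A] (I : Ideal A) (θ : Derivation ℤ A A) (i : ℕ) :
    ∃ D : LocCoh.H I i A →+ LocCoh.H I i A,
      ∀ (a : A) (ξ : LocCoh.H I i A), D (a • ξ) = θ a • ξ + a • D ξ := by
  classical
  obtain ⟨s, hs⟩ : I.FG := IsNoetherian.noetherian I
  let fs : List A := s.toList
  have hfs : Ideal.span {a | a ∈ fs} = I := by
    rw [← hs]
    congr 1
    ext a
    simp [fs]
  subst hfs
  have hθ : IsConn θ ((θ : A →ₗ[ℤ] A).toAddMonoidHom : (ModuleCat.of A A) →+ (ModuleCat.of A A)) := by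
    intro a m
    change θ (a * m) = θ a • m + a • θ m
    rw [Derivation.leibniz]
    simp only [smul_eq_mul]
    ring
  obtain ⟨D₀, hD₀⟩ := exists_conn_homology (extCechConn (ModuleCat.of A A) _ hθ fs) (i : ℤ)
  obtain ⟨e⟩ := nonempty_extCechH_iso_lc fs (ModuleCat.of A A) i
  exact ⟨transport e.toLinearEquiv D₀, transport_isConn e.toLinearEquiv D₀ hD₀⟩

end Groth.Agent.Helper1.Conn
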