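import Mathlib
import Groth.Agent.Helper1.ClopenIdem1

set_option autoImplicit false
set_option linter.unusedSectionVars false
set_option linter.style.haveILetI false

/-!
# ConnRed: global functions on a connected reduced scheme proper over an algebraically closed
field are constant
-/

namespace Groth.Agent.Helper1.ConnRed

open CategoryTheory AlgebraicGeometry Opposite TopologicalSpace Polynomial

universe u

section alg

variable {k B : Type*} [Field k] [IsAlgClosed k] [CommRing B] [Algebra k B]

/-- a reduced algebra, integral over an algebraically closed field, whose only idempotents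
are `0` and `1`, consists of constants -/
theorem surjective_algebraMap_of_idem [IsReduced B] [Algebra.IsIntegral k B]
    (hid : ∀ e : B, e * e = e → e = 0 ∨ e = 1) :
    Function.Surjective (algebraMap k B) := by
  intro b
  by_cases hB : Subsingleton B
  · exact ⟨0, Subsingleton.elim _ _⟩
  rw [not_subsingleton_iff_nontrivial] at hB
  have hb : IsIntegral k b := Algebra.IsIntegral.isIntegral b
  have hmonic : (minpoly k b).Monic := minpoly.monic hb
  have hdeg : (minpoly k b).degree ≠ 0 := (minpoly.degree_pos hb).ne'
  obtain ⟨a, ha⟩ := IsAlgClosed.exists_root (minpoly k b) hdeg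
  set r := (minpoly k b) /ₘ (X - C a) with hr
  have hpr : (X - C a) * r = minpoly k b := Polynomial.mul_divByMonic_eq_iff_isRoot.2 ha
  have hrmonic : r.Monic :=
    Polynomial.Monic.of_mul_monic_left (monic_X_sub_C a) (by rw [hpr]; exact hmonic)
  have hlt : r.degree < (minpoly k b).degree := by
    rw [← hpr, degree_mul, degree_X_sub_C]
    have h0 : r.degree ≠ ⊥ := by
      rw [Ne, degree_eq_bot]; exact hrmonic.ne_zero
    obtain ⟨d, hd⟩ := WithBot.ne_bot_iff_exists.1 h0
    rw [← hd]
    have : ((d : ℕ) : WithBot ℕ) < 1 + (d : WithBot ℕ) := by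
      rw [add_comm]; exact_mod_cast Nat.lt_succ_self d
    exact this
  have hnot : aeval b r ≠ 0 := by
    intro h0
    exact absurd (minpoly.min k b hrmonic h0) (not_le.2 hlt)
  have hp0 : aeval b (minpoly k b) = 0 := minpoly.aeval k b
  by_cases hdvd : (X - C a) ∣ r
  · exfalso
    obtain ⟨r', hr'⟩ := hdvd
    apply hnot
    have hsq : aeval b r * aeval b r = 0 := by
      rw [← map_mul]
      have : r * r = minpoly k b * r' := by rw [← hpr, hr']; ring
      rw [this, map_mul, hp0, zero_mul]
    have hnil : IsNilpotent (aeval b r) := ⟨2, by rw [pow_two]; exact hsq⟩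
    exact hnil.eq_zero
  · have hcop : IsCoprime (X - C a) r :=
      ((irreducible_X_sub_C a).coprime_iff_not_dvd).2 hdvd
    obtain ⟨u, v, huv⟩ := hcop
    set e := aeval b (v * r) with he
    have he1 : aeval b (u * (X - C a)) + e = 1 := by
      rw [he, ← map_add, huv, map_one]
    have hidem : e * e = e := by
      have h1 : e * aeval b (u * (X - C a)) = 0 := by
        rw [he, ← map_mul]
        have : v * r * (u * (X - C a)) = minpoly k b * (u * v) := by rw [← hpr]; ring
        rw [this, map_mul, hp0, zero_mul]
      calc e * e = e * (1 - aeval b (u * (X - C a))) := by rw [← he1]; ring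
        _ = e := by rw [mul_sub, mul_one, h1, sub_zero]
    rcases hid e hidem with h0 | h1
    · exfalso
      apply hnot
      rw [h0, add_zero] at he1
      calc aeval b r = aeval b r * aeval b (u * (X - C a)) := by rw [he1, mul_one]
        _ = aeval b (minpoly k b * u) := by
            rw [← map_mul]; congr 1; rw [← hpr]; ring
        _ = 0 := by rw [map_mul, hp0, zero_mul]
    · refine ⟨a, ?_⟩
      have h2 : aeval b (X - C a) = 0 := by
        calc aeval b (X - C a) = aeval b (X - C a) * e := by rw [h1, mul_one]
          _ = aeval b (minpoly k b * v) := by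
              rw [he, ← map_mul]; congr 1; rw [← hpr]; ring
          _ = 0 := by rw [map_mul, hp0, zero_mul]
      rw [map_sub, aeval_X, aeval_C] at h2
      exact (sub_eq_zero.1 h2).symm

end alg

section sch

variable {Y : Scheme.{u}}

/-- the idempotent global functions of a connected reduced scheme are `0` and `1` -/
theorem idem_of_connected_reduced [ConnectedSpace Y] [IsReduced Y] (e : Γ(Y, ⊤))
    (he : e * e = e) : e = 0 ∨ e = 1 := by
  have hcl := Groth.Agent.Helper1.ClopenIdem.isClopen_basicOpen_of_idempotent e he
  rcases isClopen_iff.1 hcl with h | h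
  · left
    apply (basicOpen_eq_bot_iff e).1
    ext x
    simp only [Opens.coe_bot, Set.mem_empty_iff_false, iff_false]
    intro hx
    have : x ∈ (Y.basicOpen e : Set Y) := hx
    rw [h] at this
    exact this
  · right
    have hc := Groth.Agent.Helper1.ClopenIdem.basicOpen_compl_of_idempotent e he
    rw [h, Set.compl_univ] at hc
    have h0 : (1 : Γ(Y, ⊤)) - e = 0 := by
      apply (basicOpen_eq_bot_iff (1 - e)).1
      ext x
      simp only [Opens.coe_bot, Set.mem_empty_iff_false, iff_false]
      intro hx
      have : x ∈ (Y.basicOpen (1 - e) : Set Y) := hx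
      rw [← hc] at this
      exact this
    exact (sub_eq_zero.1 h0).symm

variable (k : Type u) [Field k] [IsAlgClosed k]

/-- **constants**: on a connected reduced scheme, universally closed over an algebraically
closed field `k`, every global function is a constant -/
theorem surjective_const (g : Y ⟶ Spec (CommRingCat.of k)) [UniversallyClosed g]
    [ConnectedSpace Y] [IsReduced Y] :
    Function.Surjective ((Scheme.ΓSpecIso (CommRingCat.of k)).inv ≫ g.appTop).hom := by
  let F := (Scheme.ΓSpecIso (CommRingCat.of k)).inv ≫ g.appTop
  have hF : F.hom.IsIntegral := by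
    apply RingHom.isIntegral_respectsIso.2
      (e := (Scheme.ΓSpecIso (CommRingCat.of k)).symm.commRingCatIsoToRingEquiv)
    exact isIntegral_appTop_of_universallyClosed g
  letI : Algebra k Γ(Y, ⊤) := F.hom.toAlgebra
  haveI : Algebra.IsIntegral k Γ(Y, ⊤) := ⟨hF⟩
  haveI : _root_.IsReduced Γ(Y, ⊤) := inferInstance
  exact surjective_algebraMap_of_idem (k := k) (B := Γ(Y, ⊤))
    (fun e he => idem_of_connected_reduced e he)

end sch

end Groth.Agent.Helper1.ConnRed
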