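import Mathlib

set_option autoImplicit false

open Topology TopologicalSpace Set

namespace Groth.Agent.Helper1.Constr

universe u
variable {X : Type u} [TopologicalSpace X]

/-- dichotomy for constructible sets on an irreducible subset -/
theorem dichotomy {Y : Set X} (hY : IsIrreducible Y) {E : Set X} (hE : IsConstructible E) :
    (∃ U : Set X, IsOpen U ∧ (U ∩ Y).Nonempty ∧ U ∩ Y ⊆ E) ∨
    (∃ U : Set X, IsOpen U ∧ (U ∩ Y).Nonempty ∧ U ∩ Y ⊆ Eᶜ) := by
  induction hE using IsConstructible.empty_union_induction with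
  | open_retrocompact U hU _ =>
    by_cases h : (U ∩ Y).Nonempty
    · exact Or.inl ⟨U, hU, h, inter_subset_left⟩
    · refine Or.inr ⟨univ, isOpen_univ, by simpa using hY.nonempty, ?_⟩
      intro x hx hxU
      exact h ⟨x, hxU, hx.2⟩
  | union s hs t ht ihs iht =>
    rcases ihs with ⟨U, hU, hne, hsub⟩ | ⟨U, hU, hne, hsub⟩
    · exact Or.inl ⟨U, hU, hne, hsub.trans subset_union_left⟩
    rcases iht with ⟨V, hV, hne', hsub'⟩ | ⟨V, hV, hne', hsub'⟩
    · exact Or.inl ⟨V, hV, hne', hsub'.trans subset_union_right⟩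
    · refine Or.inr ⟨U ∩ V, hU.inter hV, ?_, ?_⟩
      · have := hY.isPreirreducible U V hU hV (by rwa [inter_comm]) (by rwa [inter_comm])
        rwa [inter_comm]
      · rintro x ⟨⟨hxU, hxV⟩, hxY⟩
        rw [compl_union]; exact ⟨hsub ⟨hxU, hxY⟩, hsub' ⟨hxV, hxY⟩⟩
  | compl s hs ih =>
    rcases ih with h | h
    · right; simpa using h
    · left; exact h

/-- Noetherian induction on closed subsets, with the reducible case handled by decomposition into
finitely many irreducible closed subsets. -/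
theorem closed_induction [NoetherianSpace X] (P : Set X → Prop)
    (hirr : ∀ Y, IsClosed Y → IsIrreducible Y → (∀ Z, IsClosed Z → Z ⊂ Y → P Z) → P Y)
    (hunion : ∀ (S : Set (Set X)), S.Finite → (∀ Z ∈ S, IsClosed Z) → (∀ Z ∈ S, P Z) → P (⋃₀ S))
    (Y : Set X) (hY : IsClosed Y) : P Y := by
  lift Y to Closeds X using hY
  refine wellFounded_lt.induction (C := fun Y : Closeds X => P (Y : Set X)) Y ?_
  intro Y IH
  by_cases hirrY : IsIrreducible (Y : Set X)
  · apply hirr _ Y.isClosed hirrY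
    intro Z hZ hZY
    lift Z to Closeds X using hZ
    exact IH Z (by exact_mod_cast hZY)
  · obtain ⟨S, hSf, hSc, hSi, hSU⟩ :=
      NoetherianSpace.exists_finite_set_isClosed_irreducible Y.isClosed
    rw [hSU]
    apply hunion S hSf hSc
    intro Z hZ
    have hZY : Z ⊆ (Y : Set X) := by rw [hSU]; exact subset_sUnion_of_mem hZ
    have hne : Z ≠ (Y : Set X) := by
      rintro rfl
      exact hirrY (hSi _ hZ)
    have hlt : Z ⊂ (Y : Set X) := ⟨hZY, fun h => hne (Subset.antisymm hZY h)⟩
    have hZc := hSc Z hZ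
    lift Z to Closeds X using hZc
    exact IH Z (by exact_mod_cast hlt)

/-- in a Noetherian space open and closed sets are constructible -/
theorem isConstructible_of_isOpen [NoetherianSpace X] {U : Set X} (hU : IsOpen U) :
    IsConstructible U :=
  IsRetrocompact.isConstructible hU (fun _ _ _ => NoetherianSpace.isCompact _)

theorem isConstructible_of_isClosed [NoetherianSpace X] {Z : Set X} (hZ : IsClosed Z) :
    IsConstructible Z := by
  rw [← isConstructible_compl]
  exact isConstructible_of_isOpen hZ.isOpen_compl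

/-- removing a nonempty relatively open subset of an irreducible set gives a proper subset -/
theorem diff_ssubset {Y U : Set X} (hne : (U ∩ Y).Nonempty) : Y \ U ⊂ Y := by
  refine ⟨sdiff_subset, fun h => ?_⟩
  obtain ⟨x, hxU, hxY⟩ := hne
  exact (h hxY).2 hxU

/-- characterization of open sets in a Noetherian space -/
theorem isOpen_iff [NoetherianSpace X] (E : Set X) :
    IsOpen E ↔
      ∀ Y : Set X, IsClosed Y → IsIrreducible Y → (E ∩ Y).Nonempty →
        ∃ U : Set X, IsOpen U ∧ (U ∩ Y).Nonempty ∧ U ∩ Y ⊆ E := by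
  constructor
  · intro hE Y _ _ hne
    exact ⟨E, hE, hne, inter_subset_left⟩
  · intro H
    suffices h : ∀ Y : Set X, IsClosed Y → IsClosed (Y \ E) by
      have := h univ isClosed_univ
      rw [← compl_eq_univ_sdiff] at this
      exact isClosed_compl_iff.1 this
    intro Y hY
    refine closed_induction (fun Y => IsClosed (Y \ E)) ?_ ?_ Y hY
    · intro Y hYc hYi IH
      by_cases hne : (E ∩ Y).Nonempty
      · obtain ⟨U, hU, hUY, hsub⟩ := H Y hYc hYi hne
        have h1 : Y \ E = (Y \ U) \ E := by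
          ext x
          simp only [mem_sdiff]
          constructor
          · rintro ⟨hxY, hxE⟩
            exact ⟨⟨hxY, fun hxU => hxE (hsub ⟨hxU, hxY⟩)⟩, hxE⟩
          · rintro ⟨⟨hxY, _⟩, hxE⟩
            exact ⟨hxY, hxE⟩
        rw [h1]
        exact IH (Y \ U) (hYc.sdiff hU) (diff_ssubset hUY)
      · have : Y \ E = Y := by
          ext x
          simp only [mem_sdiff, and_iff_left_iff_imp]
          intro hxY hxE
          exact hne ⟨x, hxE, hxY⟩
        rw [this]; exact hYc
    · intro S hSf hSc hS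
      have : ⋃₀ S \ E = ⋃ Z ∈ S, Z \ E := by
        ext x; simp only [mem_sdiff, mem_sUnion, mem_iUnion]
        constructor
        · rintro ⟨⟨Z, hZ, hxZ⟩, hxE⟩; exact ⟨Z, hZ, hxZ, hxE⟩
        · rintro ⟨Z, hZ, hxZ, hxE⟩; exact ⟨⟨Z, hZ, hxZ⟩, hxE⟩
      rw [this]
      exact hSf.isClosed_biUnion hS

/-- density of the trace of `E` on `Y`, in terms of closures in `X` -/
theorem dense_trace_iff {Y E : Set X} :
    Dense (Subtype.val ⁻¹' E : Set Y) ↔ Y ⊆ closure (E ∩ Y) := by
  rw [Subtype.dense_iff, Subtype.image_preimage_coe, inter_comm]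

theorem subset_closure_of_open_inter {Y U : Set X} (hY : IsIrreducible Y) (hU : IsOpen U)
    (hne : (U ∩ Y).Nonempty) : Y ⊆ closure (U ∩ Y) := by
  intro y hy
  rw [mem_closure_iff]
  intro V hV hyV
  have := hY.isPreirreducible V U hV hU ⟨y, hy, hyV⟩ (by rwa [inter_comm])
  obtain ⟨z, hzY, hzV, hzU⟩ := this
  exact ⟨z, hzV, hzU, hzY⟩

theorem dense_trace_of_open {Y U E : Set X} (hY : IsIrreducible Y) (hU : IsOpen U)
    (hne : (U ∩ Y).Nonempty) (hsub : U ∩ Y ⊆ E) : Dense (Subtype.val ⁻¹' E : Set Y) := by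
  rw [dense_trace_iff]
  refine (subset_closure_of_open_inter hY hU hne).trans (closure_mono ?_)
  exact subset_inter hsub inter_subset_right

/-- a constructible set whose trace on an irreducible set is dense contains a nonempty relatively
open subset -/
theorem exists_open_of_dense_trace {Y E : Set X} (hY : IsIrreducible Y) (hE : IsConstructible E)
    (hd : Dense (Subtype.val ⁻¹' E : Set Y)) :
    ∃ U : Set X, IsOpen U ∧ (U ∩ Y).Nonempty ∧ U ∩ Y ⊆ E := by
  rcases dichotomy hY hE with h | ⟨U, hU, ⟨x, hxU, hxY⟩, hsub⟩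
  · exact h
  · exfalso
    rw [dense_trace_iff] at hd
    have hx := hd hxY
    rw [mem_closure_iff] at hx
    obtain ⟨z, hzU, hzE, hzY⟩ := hx U hU hxU
    exact hsub ⟨hzU, hzY⟩ hzE

/-- S2395 -/
theorem dense_iff_of_irreducibleSpace [IrreducibleSpace X] {E : Set X}
    (hE : IsConstructible E) :
    Dense E ↔ ∃ U : Set X, IsOpen U ∧ U.Nonempty ∧ U ⊆ E := by
  constructor
  · intro hd
    have hirr : IsIrreducible (univ : Set X) := IrreducibleSpace.isIrreducible_univ X
    have hd' : Dense (Subtype.val ⁻¹' E : Set (univ : Set X)) := by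
      rw [dense_trace_iff, inter_univ]
      intro x _; exact hd x
    obtain ⟨U, hU, hne, hsub⟩ := exists_open_of_dense_trace hirr hE hd'
    rw [inter_univ] at hne hsub
    exact ⟨U, hU, hne, hsub⟩
  · rintro ⟨U, hU, hne, hsub⟩
    exact (hU.dense hne).mono hsub

/-- S2397 -/
theorem directed_cover [NoetherianSpace X] {ι : Type*} [Preorder ι] [IsDirected ι (· ≤ ·)]
    [Nonempty ι] (E : ι → Set X) (hmono : Monotone E) (hE : ∀ a, IsConstructible (E a))
    (hirr : ∀ Y : Set X, IsClosed Y → IsIrreducible Y → ∃ a, Y ⊆ closure (E a ∩ Y)) :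
    ∃ a, E a = univ := by
  suffices h : ∀ Y : Set X, IsClosed Y → ∃ a, Y ⊆ E a by
    obtain ⟨a, ha⟩ := h univ isClosed_univ
    exact ⟨a, eq_univ_of_univ_subset ha⟩
  intro Y hY
  refine closed_induction (fun Y => ∃ a, Y ⊆ E a) ?_ ?_ Y hY
  · intro Y hYc hYi IH
    obtain ⟨a, ha⟩ := hirr Y hYc hYi
    obtain ⟨U, hU, hne, hsub⟩ := exists_open_of_dense_trace hYi (hE a) (dense_trace_iff.2 ha)
    obtain ⟨b, hb⟩ := IH (Y \ U) (hYc.sdiff hU) (diff_ssubset hne)
    obtain ⟨c, hac, hbc⟩ := exists_ge_ge a b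
    refine ⟨c, fun y hy => ?_⟩
    by_cases hyU : y ∈ U
    · exact hmono hac (hsub ⟨hyU, hy⟩)
    · exact hmono hbc (hb ⟨hy, hyU⟩)
  · intro S hSf hSc hS
    choose! f hf using hS
    obtain ⟨c, hc⟩ := (hSf.image f).bddAbove
    refine ⟨c, sUnion_subset fun Z hZ => ?_⟩
    exact (hf Z hZ).trans (hmono (hc (mem_image_of_mem f hZ)))

/-- S2398 -/
theorem mem_nhds_iff_dense [NoetherianSpace X] (x : X) {E : Set X} (hE : IsConstructible E) :
    E ∈ nhds x ↔
      ∀ Y : Set X, IsClosed Y → IsIrreducible Y → x ∈ Y → Dense (Subtype.val ⁻¹' E : Set Y) := by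
  constructor
  · intro hEx Y _ hYi hxY
    obtain ⟨V, hVE, hV, hxV⟩ := mem_nhds_iff.1 hEx
    exact dense_trace_of_open hYi hV ⟨x, hxV, hxY⟩ (inter_subset_left.trans hVE)
  · intro H
    suffices h : ∀ Y : Set X, IsClosed Y → ∃ V : Set X, IsOpen V ∧ x ∈ V ∧ V ∩ Y ⊆ E by
      obtain ⟨V, hV, hxV, hsub⟩ := h univ isClosed_univ
      rw [inter_univ] at hsub
      exact mem_nhds_iff.2 ⟨V, hsub, hV, hxV⟩
    intro Y hY
    refine closed_induction (fun Y => ∃ V : Set X, IsOpen V ∧ x ∈ V ∧ V ∩ Y ⊆ E) ?_ ?_ Y hY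
    · intro Y hYc hYi IH
      by_cases hxY : x ∈ Y
      · obtain ⟨U, hU, hne, hsub⟩ := exists_open_of_dense_trace hYi hE (H Y hYc hYi hxY)
        obtain ⟨V, hV, hxV, hVsub⟩ := IH (Y \ U) (hYc.sdiff hU) (diff_ssubset hne)
        refine ⟨V, hV, hxV, ?_⟩
        rintro y ⟨hyV, hyY⟩
        by_cases hyU : y ∈ U
        · exact hsub ⟨hyU, hyY⟩
        · exact hVsub ⟨hyV, hyY, hyU⟩
      · exact ⟨Yᶜ, hYc.isOpen_compl, hxY, by rw [compl_inter_self]; exact empty_subset _⟩
    · intro S hSf hSc hS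
      choose! V hV hxV hVsub using hS
      refine ⟨⋂ Z ∈ S, V Z, hSf.isOpen_biInter hV, mem_iInter₂.2 hxV, ?_⟩
      rintro y ⟨hyV, Z, hZ, hyZ⟩
      exact hVsub Z hZ ⟨mem_iInter₂.1 hyV Z hZ, hyZ⟩

/-- S2396 -/
theorem isConstructible_iff [NoetherianSpace X] (E : Set X) :
    IsConstructible E ↔
      ∀ Y : Set X, IsClosed Y → IsIrreducible Y →
        IsNowhereDense (Subtype.val ⁻¹' E : Set Y) ∨
          ∃ U : Set X, IsOpen U ∧ (U ∩ Y).Nonempty ∧ U ∩ Y ⊆ E := by
  constructor
  · intro hE Y _ hYi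
    rcases dichotomy hYi hE with h | ⟨U, hU, ⟨x, hxU, hxY⟩, hsub⟩
    · exact Or.inr h
    · left
      haveI : IrreducibleSpace Y := Subtype.irreducibleSpace hYi
      have hcl : IsClosed (Subtype.val ⁻¹' Uᶜ : Set Y) :=
        hU.isClosed_compl.preimage continuous_subtype_val
      have hop : IsOpen (Subtype.val ⁻¹' U : Set Y) := hU.preimage continuous_subtype_val
      have hsub' : (Subtype.val ⁻¹' E : Set Y) ⊆ Subtype.val ⁻¹' Uᶜ := by
        rintro ⟨y, hyY⟩ hyE hyU
        exact hsub ⟨hyU, hyY⟩ hyE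
      have h1 : closure (Subtype.val ⁻¹' E : Set Y) ⊆ Subtype.val ⁻¹' Uᶜ :=
        closure_minimal hsub' hcl
      unfold IsNowhereDense
      by_contra hne
      have hne' : (interior (closure (Subtype.val ⁻¹' E : Set Y))).Nonempty :=
        nonempty_iff_ne_empty.2 hne
      have hUne : (Subtype.val ⁻¹' U : Set Y).Nonempty := ⟨⟨x, hxY⟩, hxU⟩
      obtain ⟨z, hz1, hz2⟩ := nonempty_preirreducible_inter isOpen_interior hop hne' hUne
      exact h1 (interior_subset hz1) hz2
  · intro H
    suffices h : ∀ Y : Set X, IsClosed Y → IsConstructible (E ∩ Y) by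
      simpa using h univ isClosed_univ
    intro Y hY
    refine closed_induction (fun Y => IsConstructible (E ∩ Y)) ?_ ?_ Y hY
    · intro Y hYc hYi IH
      rcases H Y hYc hYi with hnd | ⟨U, hU, hne, hsub⟩
      · have hY'sub : closure (E ∩ Y) ⊆ Y := closure_minimal inter_subset_right hYc
        have hY'ne : closure (E ∩ Y) ≠ Y := by
          intro heq
          have hd : Dense (Subtype.val ⁻¹' E : Set Y) := dense_trace_iff.2 heq.ge
          unfold IsNowhereDense at hnd
          rw [hd.closure_eq, interior_univ] at hnd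
          obtain ⟨y, hy⟩ := hYi.nonempty
          exact (Set.univ_eq_empty_iff.1 hnd).false ⟨y, hy⟩
        have h2 : E ∩ Y = E ∩ closure (E ∩ Y) := by
          apply Subset.antisymm
          · exact fun x hx => ⟨hx.1, subset_closure hx⟩
          · exact inter_subset_inter_right _ hY'sub
        rw [h2]
        exact IH _ isClosed_closure ⟨hY'sub, fun h => hY'ne (Subset.antisymm hY'sub h)⟩
      · have h2 : E ∩ Y = (U ∩ Y) ∪ (E ∩ (Y \ U)) := by
          ext x
          simp only [mem_inter_iff, mem_union, mem_sdiff]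
          constructor
          · rintro ⟨hxE, hxY⟩
            by_cases hxU : x ∈ U
            · exact Or.inl ⟨hxU, hxY⟩
            · exact Or.inr ⟨hxE, hxY, hxU⟩
          · rintro (⟨hxU, hxY⟩ | ⟨hxE, hxY, _⟩)
            · exact ⟨hsub ⟨hxU, hxY⟩, hxY⟩
            · exact ⟨hxE, hxY⟩
        rw [h2]
        exact ((isConstructible_of_isOpen hU).inter (isConstructible_of_isClosed hYc)).union
          (IH _ (hYc.sdiff hU) (diff_ssubset hne))
    · intro S hSf _ hS
      have : E ∩ ⋃₀ S = ⋃ Z ∈ S, E ∩ Z := by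
        rw [sUnion_eq_biUnion, inter_iUnion₂]
      rw [this]
      exact IsConstructible.biUnion hSf hS

/-- S2400 -/
theorem constructible_function_iff [NoetherianSpace X] {T : Type*} (h : X → T) :
    ((∀ t, IsConstructible (h ⁻¹' {t})) ∧ (Set.range h).Finite) ↔
      ∀ Y : Set X, IsClosed Y → IsIrreducible Y →
        ∃ U : Set X, IsOpen U ∧ (U ∩ Y).Nonempty ∧ ∀ a ∈ U ∩ Y, ∀ b ∈ U ∩ Y, h a = h b := by
  classical
  constructor
  · rintro ⟨hfib, hfin⟩ Y _ hYi
    by_contra hcon
    push Not at hcon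
    -- for each value t, the complement of the fibre contains a nonempty open of Y
    have hall : ∀ t ∈ Set.range h, ∃ U : Set X, IsOpen U ∧ (U ∩ Y).Nonempty ∧ U ∩ Y ⊆ (h ⁻¹' {t})ᶜ := by
      intro t _
      rcases dichotomy hYi (hfib t) with ⟨U, hU, hne, hsub⟩ | hr
      · exfalso
        obtain ⟨a, ha, b, hb, hab⟩ := hcon U hU hne
        have h1 : h a = t := hsub ha
        have h2 : h b = t := hsub hb
        exact hab (h1.trans h2.symm)
      · exact hr
    choose! U hU hne hsub using hall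
    have hR : ∀ t, t ∈ hfin.toFinset ↔ t ∈ Set.range h := fun t => hfin.mem_toFinset
    have := (isIrreducible_iff_sInter.1 hYi) (hfin.toFinset.image U)
      (by
        intro u hu
        obtain ⟨t, ht, rfl⟩ := Finset.mem_image.1 hu
        exact hU t ((hR t).1 ht))
      (by
        intro u hu
        obtain ⟨t, ht, rfl⟩ := Finset.mem_image.1 hu
        rw [inter_comm]
        exact hne t ((hR t).1 ht))
    obtain ⟨y, hyY, hy⟩ := this
    have hmem : h y ∈ hfin.toFinset := (hR _).2 (mem_range_self y)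
    have hyU : y ∈ U (h y) := by
      apply mem_sInter.1 hy
      exact_mod_cast Finset.mem_image_of_mem U hmem
    exact hsub (h y) (mem_range_self y) ⟨hyU, hyY⟩ rfl
  · intro H
    suffices hmain : ∀ Y : Set X, IsClosed Y →
        ((h '' Y).Finite ∧ ∀ t, IsConstructible (h ⁻¹' {t} ∩ Y)) by
      obtain ⟨h1, h2⟩ := hmain univ isClosed_univ
      refine ⟨fun t => by simpa using h2 t, by simpa using h1⟩
    intro Y hY
    refine closed_induction (fun Y => (h '' Y).Finite ∧ ∀ t, IsConstructible (h ⁻¹' {t} ∩ Y))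
      ?_ ?_ Y hY
    · intro Y hYc hYi IH
      obtain ⟨U, hU, hne, hconst⟩ := H Y hYc hYi
      obtain ⟨x₀, hx₀⟩ := hne
      obtain ⟨hfin', hcons'⟩ := IH (Y \ U) (hYc.sdiff hU) (diff_ssubset ⟨x₀, hx₀⟩)
      constructor
      · refine (hfin'.insert (h x₀)).subset ?_
        rintro _ ⟨y, hyY, rfl⟩
        by_cases hyU : y ∈ U
        · left; exact hconst y ⟨hyU, hyY⟩ x₀ hx₀
        · right; exact ⟨y, ⟨hyY, hyU⟩, rfl⟩
      · intro t
        by_cases ht : h x₀ = t
        · have : h ⁻¹' {t} ∩ Y = (U ∩ Y) ∪ (h ⁻¹' {t} ∩ (Y \ U)) := by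
            ext y
            simp only [mem_inter_iff, mem_preimage, mem_singleton_iff, mem_union, mem_sdiff]
            constructor
            · rintro ⟨hyt, hyY⟩
              by_cases hyU : y ∈ U
              · exact Or.inl ⟨hyU, hyY⟩
              · exact Or.inr ⟨hyt, hyY, hyU⟩
            · rintro (⟨hyU, hyY⟩ | ⟨hyt, hyY, _⟩)
              · exact ⟨(hconst y ⟨hyU, hyY⟩ x₀ hx₀).trans ht, hyY⟩
              · exact ⟨hyt, hyY⟩
          rw [this]
          exact ((isConstructible_of_isOpen hU).inter (isConstructible_of_isClosed hYc)).union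
            (hcons' t)
        · have : h ⁻¹' {t} ∩ Y = h ⁻¹' {t} ∩ (Y \ U) := by
            ext y
            simp only [mem_inter_iff, mem_preimage, mem_singleton_iff, mem_sdiff]
            constructor
            · rintro ⟨hyt, hyY⟩
              refine ⟨hyt, hyY, fun hyU => ht ?_⟩
              exact (hconst x₀ hx₀ y ⟨hyU, hyY⟩).trans hyt
            · rintro ⟨hyt, hyY, _⟩
              exact ⟨hyt, hyY⟩
          rw [this]
          exact hcons' t
    · intro S hSf _ hS
      constructor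
      · rw [sUnion_eq_biUnion, image_iUnion₂]
        exact hSf.biUnion fun Z hZ => (hS Z hZ).1
      · intro t
        have : h ⁻¹' {t} ∩ ⋃₀ S = ⋃ Z ∈ S, h ⁻¹' {t} ∩ Z := by
          rw [sUnion_eq_biUnion, inter_iUnion₂]
        rw [this]
        exact IsConstructible.biUnion hSf fun Z hZ => (hS Z hZ).2 t

/-- S2433 -/
theorem directed_cover_of_quasiSober [NoetherianSpace X] [QuasiSober X] {ι : Type*} [Preorder ι]
    [IsDirected ι (· ≤ ·)] [Nonempty ι] (E : ι → Set X) (hmono : Monotone E)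
    (hE : ∀ a, IsConstructible (E a)) (hcov : ⋃ a, E a = univ) : ∃ a, E a = univ := by
  apply directed_cover E hmono hE
  intro Y hYc hYi
  obtain ⟨η, hη⟩ := QuasiSober.sober hYi hYc
  have : η ∈ ⋃ a, E a := by rw [hcov]; trivial
  obtain ⟨a, ha⟩ := mem_iUnion.1 this
  refine ⟨a, ?_⟩
  rw [← hη.def]
  exact closure_mono (singleton_subset_iff.2 ⟨ha, subset_closure (mem_singleton η)⟩)

/-- S2401 -/
theorem finite_range_of_quasiSober [NoetherianSpace X] [QuasiSober X] {T : Type*} (h : X → T)
    (hfib : ∀ t, IsConstructible (h ⁻¹' {t})) : (Set.range h).Finite := by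
  refine ((constructible_function_iff h).2 ?_).2
  intro Y hYc hYi
  obtain ⟨η, hη⟩ := QuasiSober.sober hYi hYc
  rcases dichotomy hYi (hfib (h η)) with ⟨U, hU, hne, hsub⟩ | ⟨U, hU, hne, hsub⟩
  · refine ⟨U, hU, hne, fun a ha b hb => ?_⟩
    have h1 : h a = h η := hsub ha
    have h2 : h b = h η := hsub hb
    exact h1.trans h2.symm
  · exfalso
    have hηU : η ∈ U := (hη.mem_open_set_iff hU).2 (by rwa [inter_comm])
    exact hsub ⟨hηU, hη.mem⟩ rfl

/-- S2402 -/
theorem upperSemicontinuous_iff [NoetherianSpace X] [QuasiSober X] {T : Type*} [LinearOrder T]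
    (h : X → T) (hc : (∀ t, IsConstructible (h ⁻¹' {t})) ∧ (Set.range h).Finite) :
    UpperSemicontinuous h ↔ ∀ x x' : X, x' ⤳ x → h x' ≤ h x := by
  constructor
  · intro husc x x' hspec
    by_contra hlt
    have hlt' : h x < h x' := not_le.1 hlt
    have hev := husc x (h x') hlt'
    have hev' : {z | h z < h x'} ∈ nhds x' := hspec hev
    have hmem : x' ∈ {z | h z < h x'} := mem_of_mem_nhds hev'
    exact lt_irrefl _ hmem
  · intro H x y hy
    -- the set {x' | h x' < y} is constructible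
    have hcons : IsConstructible {x' | h x' < y} := by
      have : {x' | h x' < y} = ⋃ t ∈ (Set.range h ∩ Set.Iio y), h ⁻¹' {t} := by
        ext z
        simp only [mem_ofPred_eq, mem_iUnion, mem_preimage, mem_singleton_iff, exists_prop,
          mem_inter_iff, mem_range, mem_Iio]
        constructor
        · intro hz; exact ⟨h z, ⟨⟨z, rfl⟩, hz⟩, rfl⟩
        · rintro ⟨t, ⟨_, ht⟩, rfl⟩; exact ht
      rw [this]
      exact IsConstructible.biUnion (hc.2.subset inter_subset_left) fun t _ => hc.1 t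
    have : {x' | h x' < y} ∈ nhds x := by
      rw [mem_nhds_iff_dense x hcons]
      intro Y hYc hYi hxY
      obtain ⟨η, hη⟩ := QuasiSober.sober hYi hYc
      rw [dense_trace_iff, ← hη.def]
      apply closure_mono
      rw [singleton_subset_iff]
      have hspec : η ⤳ x := by
        rw [specializes_iff_mem_closure, hη.def]; exact hxY
      exact ⟨lt_of_le_of_lt (H x η hspec) hy, subset_closure (mem_singleton η)⟩
    exact this

end Groth.Agent.Helper1.Constr
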