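import Groth.Agent.Helper1.Cocone

set_option autoImplicit false
set_option linter.unusedSectionVars false

/-! For a short exact sequence of cochain complexes `0 ⟶ K ⟶ E ⟶ Y ⟶ 0` with `E` contractible, the
quasi-isomorphism `K ⟶ Y[-1]` attached to a contraction of `E`. -/

namespace Groth.Agent.Helper1.Contract
open CategoryTheory Limits HomologicalComplex

universe v u

section sh
variable {A : Type u} [Category.{v} A] [Preadditive A]

/-- the shifted complex `Y[-1]`, with terms `Y.X (m - 1)` and differential `-d` -/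
def sh (Y : CochainComplex A ℤ) : CochainComplex A ℤ where
  X m := Y.X (m - 1)
  d i j := -Y.d (i - 1) (j - 1)
  shape i j h := by
    have h' : ¬ (i + 1 = j) := h
    rw [Y.shape _ _ (by
      change ¬ (i - 1 + 1 = j - 1)
      omega), neg_zero]
  d_comp_d' i j k _ _ := by simp

lemma sh_d (Y : CochainComplex A ℤ) (i j : ℤ) : (sh Y).d i j = -Y.d (i - 1) (j - 1) := rfl

end sh

section main
variable {A : Type u} [Category.{v} A] [Abelian A]
  (S : ShortComplex (CochainComplex A ℤ)) (hS : S.ShortExact)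
  (s : ∀ (n m : ℤ), n + 1 = m → (S.X₂.X m ⟶ S.X₂.X n))
  (hs : ∀ (z a b : ℤ) (hz : z + 1 = a) (ha : a + 1 = b),
    s z a hz ≫ S.X₂.d z a + S.X₂.d a b ≫ s a b ha = 𝟙 (S.X₂.X a))

/-- the components of the comparison map, with general indices -/
def rf (n m : ℤ) (h : n + 1 = m) : S.X₁.X m ⟶ S.X₃.X n := S.f.f m ≫ s n m h ≫ S.g.f n

include hs in
lemma rf_d (z a b : ℤ) (hz : z + 1 = a) (ha : a + 1 = b) :
    rf S s z a hz ≫ S.X₃.d z a = -S.X₁.d a b ≫ rf S s a b ha := by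
  have h1 : s z a hz ≫ S.X₂.d z a = 𝟙 _ - S.X₂.d a b ≫ s a b ha := by
    rw [← hs z a b hz ha, add_sub_cancel_right]
  calc rf S s z a hz ≫ S.X₃.d z a = S.f.f a ≫ (s z a hz ≫ S.X₂.d z a) ≫ S.g.f a := by
        simp only [rf, Category.assoc, S.g.comm]
    _ = S.f.f a ≫ (𝟙 _ - S.X₂.d a b ≫ s a b ha) ≫ S.g.f a := by rw [h1]
    _ = -S.X₁.d a b ≫ rf S s a b ha := by
        simp only [rf, Preadditive.sub_comp, Preadditive.comp_sub, Category.id_comp,
          Cocone.fg_zero, zero_sub, Category.assoc, S.f.comm_assoc]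

/-- the comparison map `K ⟶ Y[-1]` -/
def r : S.X₁ ⟶ sh S.X₃ where
  f m := rf S s (m - 1) m (by omega)
  comm' i j hij := by
    obtain rfl : i = j - 1 := by
      have : i + 1 = j := hij
      omega
    have h := rf_d S s hs (j - 1 - 1) (j - 1) j (by omega) (by omega)
    have h' : rf S s (j - 1 - 1) (j - 1) (by omega) ≫ (-S.X₃.d (j - 1 - 1) (j - 1)) =
        S.X₁.d (j - 1) j ≫ rf S s (j - 1) j (by omega) := by
      rw [Preadditive.comp_neg, h, neg_neg]
    exact h'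

@[simp] lemma r_f (m : ℤ) : (r S s hs).f m = rf S s (m - 1) m (by omega) := rfl

include hS in
lemma mono_homologyMap_r (b : ℤ) : Mono (homologyMap (r S s hs) b) := by
  rw [mono_homologyMap_iff_up_to_refinements (r S s hs) (b - 1) b (b + 1) (by simp) (by simp)]
  intro W x₂ hx₂ y₁ hy₁
  change W ⟶ S.X₃.X (b - 1 - 1) at y₁
  have h1 : x₂ ≫ S.f.f b ≫ s (b - 1) b (by omega) ≫ S.g.f (b - 1) =
      -y₁ ≫ S.X₃.d (b - 1 - 1) (b - 1) := by
    rw [← Preadditive.comp_neg]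
    exact hy₁
  have := Cocone.epi_g S hS (b - 1 - 1)
  obtain ⟨W₁, π₁, _, u, hu⟩ := surjective_up_to_refinements_of_epi (S.g.f (b - 1 - 1)) y₁
  obtain ⟨W₂, π₂, _, w, hw⟩ := Cocone.exact_k S hS (b - 1)
    (π₁ ≫ x₂ ≫ S.f.f b ≫ s (b - 1) b (by omega) + u ≫ S.X₂.d (b - 1 - 1) (b - 1)) (by
      rw [Preadditive.add_comp]
      simp only [Category.assoc]
      rw [h1, ← S.g.comm, ← reassoc_of% hu, Preadditive.comp_neg, neg_add_cancel])
  refine ⟨W₂, π₂ ≫ π₁, inferInstance, w, ?_⟩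
  have := Cocone.mono_f S hS b
  have h2 : s (b - 1) b (by omega) ≫ S.X₂.d (b - 1) b =
      𝟙 _ - S.X₂.d b (b + 1) ≫ s b (b + 1) rfl := by
    rw [← hs (b - 1) b (b + 1) (by omega) rfl, add_sub_cancel_right]
  rw [← cancel_mono (S.f.f b), Category.assoc w, ← S.f.comm, ← reassoc_of% hw,
    Preadditive.add_comp, Preadditive.comp_add]
  simp only [Category.assoc, S.X₂.d_comp_d, comp_zero, add_zero, h2, Preadditive.comp_sub,
    Category.comp_id, S.f.comm_assoc, reassoc_of% hx₂, zero_comp, sub_zero]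

include hS in
lemma epi_homologyMap_r (b : ℤ) : Epi (homologyMap (r S s hs) b) := by
  rw [epi_homologyMap_iff_up_to_refinements (r S s hs) (b - 1) b (b + 1) (by simp) (by simp)]
  intro W y₂ hy₂
  change W ⟶ S.X₃.X (b - 1) at y₂
  have hy : y₂ ≫ S.X₃.d (b - 1) b = 0 := by
    have h1 : y₂ ≫ (-S.X₃.d (b - 1) (b + 1 - 1)) = 0 := hy₂
    rw [Preadditive.comp_neg, neg_eq_zero] at h1
    rw [← d_comp_XIsoOfEq_hom S.X₃ (show b + 1 - 1 = b by omega) (b - 1), reassoc_of% h1, zero_comp]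
  have := Cocone.epi_g S hS (b - 1)
  obtain ⟨W₁, π₁, _, u, hu⟩ := surjective_up_to_refinements_of_epi (S.g.f (b - 1)) y₂
  obtain ⟨W₂, π₂, _, x, hx⟩ := Cocone.exact_k S hS b (u ≫ S.X₂.d (b - 1) b) (by
    rw [Category.assoc, ← S.g.comm, ← reassoc_of% hu, hy, comp_zero])
  have := Cocone.mono_f S hS (b + 1)
  have h2 : S.X₂.d (b - 1) b ≫ s (b - 1) b (by omega) =
      𝟙 _ - s (b - 1 - 1) (b - 1) (by omega) ≫ S.X₂.d (b - 1 - 1) (b - 1) := by
    rw [← hs (b - 1 - 1) (b - 1) b (by omega) (by omega), add_sub_cancel_left]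
  have hx0 : x ≫ S.X₁.d b (b + 1) = 0 := by
    rw [← cancel_mono (S.f.f (b + 1)), Category.assoc, ← S.f.comm, ← reassoc_of% hx, zero_comp]
    simp only [Category.assoc, S.X₂.d_comp_d, comp_zero]
  have key : (π₂ ≫ π₁) ≫ y₂ = x ≫ S.f.f b ≫ s (b - 1) b (by omega) ≫ S.g.f (b - 1) +
      (-π₂ ≫ u ≫ s (b - 1 - 1) (b - 1) (by omega) ≫ S.g.f (b - 1 - 1)) ≫
        (-S.X₃.d (b - 1 - 1) (b - 1)) := by
    rw [← reassoc_of% hx, Preadditive.neg_comp, Preadditive.comp_neg, neg_neg]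
    simp only [Category.assoc]
    rw [reassoc_of% h2, Preadditive.sub_comp, Category.id_comp, S.g.comm, hu]
    simp only [Preadditive.comp_sub, Category.assoc]
    abel
  exact ⟨W₂, π₂ ≫ π₁, inferInstance, x, hx0,
    -π₂ ≫ u ≫ s (b - 1 - 1) (b - 1) (by omega) ≫ S.g.f (b - 1 - 1), key⟩

include hS in
lemma quasiIso_r : QuasiIso (r S s hs) := by
  rw [quasiIso_iff]
  intro b
  rw [quasiIsoAt_iff_isIso_homologyMap]
  have := mono_homologyMap_r S hS s hs b
  have := epi_homologyMap_r S hS s hs b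
  exact isIso_of_mono_of_epi _

end main

end Groth.Agent.Helper1.Contract
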