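import Mathlib
import Groth.Agent.Helper1.LocCohRestr
import Groth.Agent.Helper1.DeltaComp

set_option autoImplicit false

/-!
# Independence of the base: `H^i_{IR'}(M') ≅ H^i_I(M')` for an `R'`-module `M'`
-/

namespace Groth.Agent.Helper1.LocCohBase
open CategoryTheory Limits Opposite
open Groth.Agent.Helper1.DeltaFun Groth.Agent.Helper1.LocCohDelta Groth.Agent.Helper1.LocCohRestr

universe u

variable {R : Type u} [CommRing R] {R' : Type u} [CommRing R'] [Algebra R R']

variable (R R') in
/-- restriction of scalars -/
noncomputable abbrev Res : ModuleCat.{u} R' ⥤ ModuleCat.{u} R :=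
  ModuleCat.restrictScalars (algebraMap R R')

lemma res_shortExact (S : ShortComplex (ModuleCat.{u} R')) (hS : S.ShortExact) :
    (S.map (Res R R')).ShortExact where
  exact := by
    rw [ShortComplex.moduleCat_exact_iff]
    intro y hy
    exact (ShortComplex.moduleCat_exact_iff S).1 hS.exact y hy
  mono_f := by
    have := hS.mono_f
    exact (ModuleCat.mono_iff_injective ((Res R R').map S.f)).2
      ((ModuleCat.mono_iff_injective S.f).1 inferInstance)
  epi_g := by
    have := hS.epi_g
    exact (ModuleCat.epi_iff_surjective ((Res R R').map S.g)).2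
      ((ModuleCat.epi_iff_surjective S.g).1 inferInstance)

instance : PreservesFiniteLimits (Res R R') := by
  rw [Functor.preservesFiniteLimits_iff_forall_exact_map_and_mono]
  intro T hT
  have h := res_shortExact (R := R) (R' := R') T hT
  exact ⟨h.exact, h.mono_f⟩

instance : PreservesFiniteColimits (Res R R') := by
  rw [Functor.preservesFiniteColimits_iff_forall_exact_map_and_epi]
  intro T hT
  have h := res_shortExact (R := R) (R' := R') T hT
  exact ⟨h.exact, h.epi_g⟩

variable (I : Ideal R)

lemma mem_iff (M' : ModuleCat.{u} R') (x : M') :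
    x ∈ DRing.torsionSub (I.map (algebraMap R R')) M' ↔
      x ∈ DRing.torsionSub I ((Res R R').obj M') := by
  letI : Module R M' := Module.compHom M' (algebraMap R R')
  haveI : IsScalarTower R R' M' := IsScalarTower.of_algebraMap_smul (fun _ _ => rfl)
  exact mem_torsionSub_map_iff I M' x

/-- the comparison map -/
noncomputable def gammaResHom (M' : ModuleCat.{u} R') :
    (DRing.gammaI (I.map (algebraMap R R')) ⋙ Res R R').obj M' ⟶
      (Res R R' ⋙ DRing.gammaI I).obj M' :=
  ModuleCat.ofHom (X := (Res R R').obj ((DRing.gammaI (I.map (algebraMap R R'))).obj M'))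
    (Y := (DRing.gammaI I).obj ((Res R R').obj M'))
    { toFun := fun x => ⟨(x : DRing.torsionSub (I.map (algebraMap R R')) M').1,
        (mem_iff I M' _).1 (x : DRing.torsionSub (I.map (algebraMap R R')) M').2⟩
      map_add' := fun _ _ => rfl
      map_smul' := fun _ _ => rfl }

/-- the inverse comparison map -/
noncomputable def gammaResInv (M' : ModuleCat.{u} R') :
    (Res R R' ⋙ DRing.gammaI I).obj M' ⟶
      (DRing.gammaI (I.map (algebraMap R R')) ⋙ Res R R').obj M' :=
  ModuleCat.ofHom (Y := (Res R R').obj ((DRing.gammaI (I.map (algebraMap R R'))).obj M'))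
    (X := (DRing.gammaI I).obj ((Res R R').obj M'))
    { toFun := fun x => (⟨(x : DRing.torsionSub I ((Res R R').obj M')).1,
        (mem_iff I M' _).2 (x : DRing.torsionSub I ((Res R R').obj M')).2⟩ :
          DRing.torsionSub (I.map (algebraMap R R')) M')
      map_add' := fun _ _ => rfl
      map_smul' := fun _ _ => rfl }

/-- `Γ_{IR'}(M')|_R ≅ Γ_I(M'|_R)` -/
noncomputable def gammaResIso :
    DRing.gammaI (I.map (algebraMap R R')) ⋙ Res R R' ≅ Res R R' ⋙ DRing.gammaI I :=
  NatIso.ofComponents (fun M' =>
    { hom := gammaResHom I M'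
      inv := gammaResInv I M'
      hom_inv_id := by
        ext x
        rfl
      inv_hom_id := by
        ext x
        rfl })
    (fun f => by
      ext x
      rfl)

end Groth.Agent.Helper1.LocCohBase

namespace Groth.Agent.Helper1.LocCohBase
open CategoryTheory Limits Opposite
open Groth.Agent.Helper1.DeltaFun Groth.Agent.Helper1.LocCohDelta Groth.Agent.Helper1.LocCohRestr

universe u

variable {R : Type u} [CommRing R] [IsNoetherianRing R] {R' : Type u} [CommRing R']
  [IsNoetherianRing R'] [Algebra R R'] (I : Ideal R)

/-- `H^•_{IR'}(-)|_R` -/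
noncomputable abbrev T₁ : DeltaFunctor (ModuleCat.{u} R') (ModuleCat.{u} R) :=
  (lcDelta (I.map (algebraMap R R'))).postcomp (Res R R')

/-- `H^•_I((-)|_R)` -/
noncomputable abbrev T₂ : DeltaFunctor (ModuleCat.{u} R') (ModuleCat.{u} R) :=
  (lcDelta I).precomp (Res R R') (fun S hS => res_shortExact S hS)

omit [IsNoetherianRing R] [IsNoetherianRing R'] in
lemma T₁_effaceable : (T₁ (R' := R') I).Effaceable := fun E' _ n =>
  Functor.map_isZero (Res R R') (lcDelta_effaceable _ E' n)

lemma T₂_effaceable : (T₂ (R' := R') I).Effaceable := by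
  intro E' _ n
  obtain ⟨s, rfl⟩ : I.FG := IsNoetherian.noetherian I
  have hE : Module.Injective R' E' := Module.injective_module_of_injective_object R' E'
  letI : Module R E' := Module.compHom E' (algebraMap R R')
  haveI : IsScalarTower R R' E' := IsScalarTower.of_algebraMap_smul (fun _ _ => rfl)
  exact isZero_lc_restrict (R' := R') s E' n

/-- the degree `0` comparison -/
noncomputable def e₀ : (T₁ (R' := R') I).T 0 ≅ (T₂ (R' := R') I).T 0 :=
  Functor.isoWhiskerRight (lcZeroIso (I.map (algebraMap R R'))) (Res R R') ≪≫ gammaResIso I ≪≫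
    (Functor.isoWhiskerLeft (Res R R') (lcZeroIso I)).symm

/-- independence of the base, as an isomorphism of functors -/
noncomputable def baseIso (n : ℕ) :
    localCohomology (I.map (algebraMap R R')) n ⋙ Res R R' ≅ Res R R' ⋙ localCohomology I n :=
  isoOfEffaceable (T := T₁ (R' := R') I) (T' := T₂ (R' := R') I) (T₁_effaceable I)
    (T₂_effaceable I) (e₀ I) n

end Groth.Agent.Helper1.LocCohBase

namespace Groth.Agent.Helper1.LocCohBase
open CategoryTheory Limits Opposite
open Groth.Agent.Helper1.DeltaFun Groth.Agent.Helper1.LocCohDelta Groth.Agent.Helper1.LocCohRestr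

universe u

variable {R : Type u} [CommRing R] {R' : Type u} [CommRing R'] [Algebra R R']

/-- `M'|_R` computed with `restrictScalars` or with a given compatible `R`-module structure -/
noncomputable def resObjIso (M' : Type u) [AddCommGroup M'] [Module R' M'] [Module R M']
    [IsScalarTower R R' M'] : (Res R R').obj (ModuleCat.of R' M') ≅ ModuleCat.of R M' where
  hom := ModuleCat.ofHom (X := (Res R R').obj (ModuleCat.of R' M')) (Y := ModuleCat.of R M')
    { toFun := fun (x : M') => x
      map_add' := fun _ _ => rfl
      map_smul' := fun r (x : M') => algebraMap_smul (R := R) (M := M') R' r x }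
  inv := ModuleCat.ofHom (Y := (Res R R').obj (ModuleCat.of R' M')) (X := ModuleCat.of R M')
    { toFun := fun (x : M') => (x : M')
      map_add' := fun _ _ => rfl
      map_smul' := fun r (x : M') => (algebraMap_smul (R := R) (M := M') R' r x).symm }
  hom_inv_id := by
    ext x
    rfl
  inv_hom_id := by
    ext x
    rfl

variable [IsNoetherianRing R] [IsNoetherianRing R'] (I : Ideal R)

theorem exists_addEquiv (M' : Type u) [AddCommGroup M'] [Module R' M'] [Module R M']
    [IsScalarTower R R' M'] (i : ℕ) :
    ∃ φ : (localCohomology (I.map (algebraMap R R')) i).obj (ModuleCat.of R' M') ≃+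
        (localCohomology I i).obj (ModuleCat.of R M'),
      ∀ (r : R) (x : (localCohomology (I.map (algebraMap R R')) i).obj (ModuleCat.of R' M')),
        φ (algebraMap R R' r • x) = r • φ x := by
  let e : (Res R R').obj ((localCohomology (I.map (algebraMap R R')) i).obj (ModuleCat.of R' M')) ≅
      (localCohomology I i).obj (ModuleCat.of R M') :=
    (baseIso (R' := R') I i).app (ModuleCat.of R' M') ≪≫
      (localCohomology I i).mapIso (resObjIso M')
  refine ⟨e.toLinearEquiv.toAddEquiv, fun r x => ?_⟩
  exact e.toLinearEquiv.map_smul r x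

end Groth.Agent.Helper1.LocCohBase
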