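import Mathlib

set_option autoImplicit false

/-!
# Modules over a quotient: transporting structure along a surjective algebra map
-/

namespace Groth.Agent.Helper1.QuotDual
open CategoryTheory

universe u

variable {S R : Type u} [CommRing S] [CommRing R] [Algebra S R]

/-- an `S`-module killed by `ker (S → R)` is an `R`-module, `S → R` surjective -/
noncomputable def modOfKill (hg : Function.Surjective (algebraMap S R))
    (X : Type u) [AddCommGroup X] [Module S X]
    (h : ∀ a : S, algebraMap S R a = 0 → ∀ x : X, a • x = 0) : Module R X :=
  letI : SMul R X := ⟨fun r x => (Function.surjInv hg r) • x⟩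
  Function.Surjective.moduleLeft (algebraMap S R) hg (fun c x => by
    show (Function.surjInv hg (algebraMap S R c)) • x = c • x
    have h1 : algebraMap S R (Function.surjInv hg (algebraMap S R c) - c) = 0 := by
      rw [map_sub, Function.surjInv_eq hg, sub_self]
    have h2 := h _ h1 x
    rwa [sub_smul, sub_eq_zero] at h2)

lemma modOfKill_smul (hg : Function.Surjective (algebraMap S R))
    (X : Type u) [AddCommGroup X] [Module S X]
    (h : ∀ a : S, algebraMap S R a = 0 → ∀ x : X, a • x = 0) (s : S) (x : X) :
    letI := modOfKill hg X h
    (algebraMap S R s) • x = s • x := by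
  letI := modOfKill hg X h
  show (Function.surjInv hg (algebraMap S R s)) • x = s • x
  have h1 : algebraMap S R (Function.surjInv hg (algebraMap S R s) - s) = 0 := by
    rw [map_sub, Function.surjInv_eq hg, sub_self]
  have h2 := h _ h1 x
  rwa [sub_smul, sub_eq_zero] at h2

lemma isScalarTower_modOfKill (hg : Function.Surjective (algebraMap S R))
    (X : Type u) [AddCommGroup X] [Module S X]
    (h : ∀ a : S, algebraMap S R a = 0 → ∀ x : X, a • x = 0) :
    letI := modOfKill hg X h
    IsScalarTower S R X := by
  letI := modOfKill hg X h
  exact IsScalarTower.of_algebraMap_smul (fun s x => modOfKill_smul hg X h s x)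

variable (S R) in
/-- for a surjective algebra map, `S`-linear maps between `R`-modules are `R`-linear -/
noncomputable def linEquivOfSurj (hg : Function.Surjective (algebraMap S R))
    (X Y : Type u) [AddCommGroup X] [Module S X] [Module R X] [IsScalarTower S R X]
    [AddCommGroup Y] [Module S Y] [Module R Y] [IsScalarTower S R Y] :
    (X →ₗ[S] Y) ≃+ (X →ₗ[R] Y) where
  toFun φ :=
    { toFun := φ
      map_add' := φ.map_add
      map_smul' := fun r x => by
        obtain ⟨s, rfl⟩ := hg r
        simp only [algebraMap_smul, map_smul, RingHom.id_apply] }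
  invFun ψ := ψ.restrictScalars S
  left_inv φ := rfl
  right_inv ψ := rfl
  map_add' φ ψ := rfl

open ModuleCat in
/-- the adjunction `Hom_R(K, Hom_S(R, E)) ≅ Hom_S(K, E)` -/
noncomputable def coextEquiv
    (K : Type u) [AddCommGroup K] [Module S K] [Module R K] [IsScalarTower S R K]
    (E : Type u) [AddCommGroup E] [Module S E] :
    (K →ₗ[R] (coextendScalars (algebraMap S R)).obj (ModuleCat.of S E)) ≃+ (K →ₗ[S] E) where
  toFun φ :=
    { toFun := fun k => (CoextendScalars.equiv (algebraMap S R) (ModuleCat.of S E) (φ k)) (1 : R)
      map_add' := fun x y => by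
        rw [map_add, map_add]
        rfl
      map_smul' := fun s x => by
        rw [← algebraMap_smul R s x, map_smul, map_smul]
        show (CoextendScalars.equiv (algebraMap S R) (ModuleCat.of S E) (φ x))
          ((1 : R) * algebraMap S R s) = _
        rw [one_mul]
        have := (CoextendScalars.equiv (algebraMap S R) (ModuleCat.of S E) (φ x)).map_smul s (1 : R)
        refine Eq.trans ?_ this
        congr 1
        show algebraMap S R s = algebraMap S R s * 1
        rw [mul_one] }
  invFun ψ :=
    { toFun := fun k => (CoextendScalars.equiv (algebraMap S R) (ModuleCat.of S E)).symm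
        { toFun := fun r : R => ψ (r • k)
          map_add' := fun (r1 r2 : R) => by
            show ψ ((r1 + r2) • k) = ψ (r1 • k) + ψ (r2 • k)
            rw [add_smul, map_add]
          map_smul' := fun s (r : R) => by
            show ψ ((algebraMap S R s * r) • k) = s • ψ (r • k)
            rw [mul_smul, algebraMap_smul, map_smul] }
      map_add' := fun x y => by
        apply (CoextendScalars.equiv (algebraMap S R) (ModuleCat.of S E)).injective
        rw [map_add, LinearEquiv.apply_symm_apply, LinearEquiv.apply_symm_apply,
          LinearEquiv.apply_symm_apply]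
        apply LinearMap.ext
        intro (r : R)
        show ψ (r • (x + y)) = ψ (r • x) + ψ (r • y)
        rw [smul_add, map_add]
      map_smul' := fun r x => by
        apply (CoextendScalars.equiv (algebraMap S R) (ModuleCat.of S E)).injective
        rw [map_smul, LinearEquiv.apply_symm_apply, LinearEquiv.apply_symm_apply]
        apply LinearMap.ext
        intro (t : R)
        show ψ (t • r • x) = ψ ((t * r) • x)
        rw [mul_smul] }
  left_inv φ := by
    apply LinearMap.ext
    intro k
    apply (CoextendScalars.equiv (algebraMap S R) (ModuleCat.of S E)).injective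
    apply LinearMap.ext
    intro (r : R)
    show (CoextendScalars.equiv (algebraMap S R) (ModuleCat.of S E) (φ (r • k))) (1 : R) = _
    rw [map_smul, map_smul]
    show (CoextendScalars.equiv (algebraMap S R) (ModuleCat.of S E) (φ k)) ((1 : R) * r) = _
    rw [one_mul]
  right_inv ψ := by
    apply LinearMap.ext
    intro k
    show ψ ((1 : R) • k) = ψ k
    rw [one_smul]
  map_add' φ ψ := by
    apply LinearMap.ext
    intro k
    show (CoextendScalars.equiv (algebraMap S R) (ModuleCat.of S E) ((φ + ψ) k)) (1 : R) = _
    rw [LinearMap.add_apply, map_add]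
    rfl

open ModuleCat in
lemma coextEquiv_smul
    (K : Type u) [AddCommGroup K] [Module S K] [Module R K] [IsScalarTower S R K]
    (E : Type u) [AddCommGroup E] [Module S E] (s : S)
    (φ : K →ₗ[R] (coextendScalars (algebraMap S R)).obj (ModuleCat.of S E)) :
    coextEquiv K E (algebraMap S R s • φ) = s • coextEquiv K E φ := by
  apply LinearMap.ext
  intro k
  show (CoextendScalars.equiv (algebraMap S R) (ModuleCat.of S E) ((algebraMap S R s • φ) k))
    (1 : R) = s • (CoextendScalars.equiv (algebraMap S R) (ModuleCat.of S E) (φ k)) (1 : R)
  rw [LinearMap.smul_apply, map_smul]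
  show (CoextendScalars.equiv (algebraMap S R) (ModuleCat.of S E) (φ k))
    ((1 : R) * algebraMap S R s) = _
  rw [one_mul]
  have := (CoextendScalars.equiv (algebraMap S R) (ModuleCat.of S E) (φ k)).map_smul s (1 : R)
  refine Eq.trans ?_ this
  congr 1
  show algebraMap S R s = algebraMap S R s * 1
  rw [mul_one]

end Groth.Agent.Helper1.QuotDual
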