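import Mathlib
import Groth.Agent.Helper1.QuotDualA
import Groth.Agent.Helper1.LDualH
import Groth.Agent.Helper1.LDualJ
import Groth.Agent.Helper1.LocCohBase
import Groth.Agent.Helper6.ExtFin
import Groth.Agent.S5156

set_option autoImplicit false

/-!
# Local duality for a homomorphic image of a Gorenstein local ring
-/

namespace Groth.Agent.Helper1.QuotDual
open CategoryTheory Limits Opposite IsLocalRing

universe u

variable {S R : Type u} [CommRing S] [CommRing R] [Algebra S R]

lemma map_maximalIdeal [IsLocalRing S] [IsLocalRing R]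
    (hg : Function.Surjective (algebraMap S R)) :
    (maximalIdeal S).map (algebraMap S R) = maximalIdeal R := by
  have h1 : ((maximalIdeal R).comap (algebraMap S R)).IsMaximal :=
    Ideal.comap_isMaximal_of_surjective _ hg
  have h2 := IsLocalRing.eq_maximalIdeal h1
  rw [← h2, Ideal.map_comap_of_surjective _ hg]

/-- **Local duality** over a quotient of a Gorenstein local ring. -/
theorem exists_dual [LocCoh.IsGorensteinLocalRing S] [IsNoetherianRing R] [IsLocalRing R]
    (hg : Function.Surjective (algebraMap S R))
    (d : ℕ) (hd : ringKrullDim S = d)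
    (E : Type u) [AddCommGroup E] [Module R E] (f : ResidueField R →ₗ[R] E)
    (hf : InjHull.IsInjectiveHull f)
    (N : Type u) [AddCommGroup N] [Module R N] [Module S N] [IsScalarTower S R N]
    [Module.Finite R N] (i j : ℕ) (hij : i + j = d) :
    ∃ (K : ModuleCat.{u} R), Module.Finite R K ∧
      Nonempty ((K →ₗ[R] E) ≃ₗ[R] LocCoh.H (maximalIdeal R) j N) := by
  haveI : Module.Finite S R := Module.Finite.of_surjective (Algebra.linearMap S R) hg
  haveI : Module.Finite S N := Module.Finite.trans R N
  have hcm : LocCoh.IsCohenMacaulayLocalRing S := Groth.Agent.Helper6.Bass.cm_of_gorenstein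
  -- the injective hull over `S`
  obtain ⟨gS, hgS⟩ := GorTop.exists_isInjectiveHull (R := S) d hd
  haveI := hgS.isInjective
  -- local duality over `S`
  obtain ⟨e1⟩ := LDual.nonempty_equiv_ext (R := S) (maximalIdeal S) d
    (LDual.isZero_lc_succ_dim (maximalIdeal S) d hd)
    (fun j hj => LDual.isZero_lc_of_cm d hd j hj) S (LocCoh.H (maximalIdeal S) d S)
    (LinearMap.ringLmapEquivSelf S S _) i j hij N
  -- the module `K`
  have hkill : ∀ a : S, algebraMap S R a = 0 →
      ∀ x : Abelian.Ext (ModuleCat.of S N) (ModuleCat.of S S) i, a • x = 0 := by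
    intro a ha x
    refine LDual.smul_ext_eq_zero a (fun (y : N) => ?_) i x
    rw [← algebraMap_smul R a y, ha, zero_smul]
  letI modK : Module R (Abelian.Ext (ModuleCat.of S N) (ModuleCat.of S S) i) :=
    modOfKill hg _ hkill
  haveI : IsScalarTower S R (Abelian.Ext (ModuleCat.of S N) (ModuleCat.of S S) i) :=
    isScalarTower_modOfKill hg _ hkill
  haveI : Module.Finite S (Abelian.Ext (ModuleCat.of S N) (ModuleCat.of S S) i) :=
    Groth.Agent.Helper6.ExtFin.finite_ext S i N
  haveI : Module.Finite R (Abelian.Ext (ModuleCat.of S N) (ModuleCat.of S S) i) :=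
    Module.Finite.of_restrictScalars_finite S R _
  refine ⟨ModuleCat.of R (Abelian.Ext (ModuleCat.of S N) (ModuleCat.of S S) i), ‹_›, ?_⟩
  -- the hull over `R`
  obtain ⟨g', hg'⟩ := Groth.Agent.S5156.result S R (LocCoh.H (maximalIdeal S) d S) gS hgS
  obtain ⟨e2, -⟩ := Groth.Agent.S0302.result R (ResidueField R) E _ f hf g' hg'
  -- base independence
  have key : ∀ J : Ideal R, J = (maximalIdeal S).map (algebraMap S R) →
      ∃ φ : (localCohomology J j).obj (ModuleCat.of R N) ≃+
        (localCohomology (maximalIdeal S) j).obj (ModuleCat.of S N),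
      ∀ (r : S) (x : (localCohomology J j).obj (ModuleCat.of R N)),
        φ (algebraMap S R r • x) = r • φ x := by
    rintro _ rfl
    exact LocCohBase.exists_addEquiv (R := S) (R' := R) (maximalIdeal S) N j
  obtain ⟨φ, hφ⟩ := key _ (map_maximalIdeal hg).symm
  let Φ : (Abelian.Ext (ModuleCat.of S N) (ModuleCat.of S S) i →ₗ[R] E) ≃+
      (localCohomology (maximalIdeal R) j).obj (ModuleCat.of R N) :=
    ((LinearEquiv.congrRight e2).toAddEquiv.trans (coextEquiv _ _)).trans
      (e1.symm.toAddEquiv.trans φ.symm)
  have hΦ : ∀ (s : S) (x : Abelian.Ext (ModuleCat.of S N) (ModuleCat.of S S) i →ₗ[R] E),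
      Φ (algebraMap S R s • x) = algebraMap S R s • Φ x := by
    intro s x
    show φ.symm (e1.symm (coextEquiv _ _ (LinearEquiv.congrRight e2 (algebraMap S R s • x)))) =
      algebraMap S R s • φ.symm (e1.symm (coextEquiv _ _ (LinearEquiv.congrRight e2 x)))
    rw [map_smul, coextEquiv_smul, map_smul]
    apply φ.injective
    rw [hφ, AddEquiv.apply_symm_apply, AddEquiv.apply_symm_apply]
  exact ⟨{ toFun := Φ
           map_add' := Φ.map_add
           map_smul' := fun r x => by
             obtain ⟨s, rfl⟩ := hg r
             exact hΦ s x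
           invFun := Φ.symm
           left_inv := Φ.left_inv
           right_inv := Φ.right_inv }⟩

end Groth.Agent.Helper1.QuotDual
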