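import Mathlib
import Groth.Agent.Helper1.QuotDualB

set_option autoImplicit false

/-!
# Vanishing of local cohomology over a Gorenstein local ring via `Ext`, and base independence
for surjective maps of local rings
-/

namespace Groth.Agent.Helper1.Core
open CategoryTheory Limits Opposite IsLocalRing Abelian

universe u

section G1

variable {S T : Type u} [CommRing S] [CommRing T] [IsNoetherianRing S] [IsNoetherianRing T]
  [IsLocalRing S] [IsLocalRing T] [Algebra S T]

/-- base independence of local cohomology at the maximal ideal, for a surjection of local rings -/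
theorem exists_addEquiv_maximalIdeal (hst : Function.Surjective (algebraMap S T))
    (N : Type u) [AddCommGroup N] [Module T N] [Module S N] [IsScalarTower S T N] (j : ℕ) :
    ∃ φ : (localCohomology (maximalIdeal T) j).obj (ModuleCat.of T N) ≃+
        (localCohomology (maximalIdeal S) j).obj (ModuleCat.of S N),
      ∀ (s : S) (x : (localCohomology (maximalIdeal T) j).obj (ModuleCat.of T N)),
        φ (algebraMap S T s • x) = s • φ x := by
  have key : ∀ J : Ideal T, J = (maximalIdeal S).map (algebraMap S T) →
      ∃ φ : (localCohomology J j).obj (ModuleCat.of T N) ≃+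
        (localCohomology (maximalIdeal S) j).obj (ModuleCat.of S N),
      ∀ (r : S) (x : (localCohomology J j).obj (ModuleCat.of T N)),
        φ (algebraMap S T r • x) = r • φ x := by
    rintro _ rfl
    exact LocCohBase.exists_addEquiv (R := S) (R' := T) (maximalIdeal S) N j
  exact key _ (QuotDual.map_maximalIdeal hst).symm

end G1

section G2

variable {S : Type u} [CommRing S] [LocCoh.IsGorensteinLocalRing S]

/-- over a Gorenstein local ring of dimension `h`: `H^j_𝔪(N) = 0 ↔ Ext^i(N, S) = 0`, `i + j = h` -/
theorem subsingleton_lc_iff_ext (h : ℕ) (hh : ringKrullDim S = h)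
    (N : Type u) [AddCommGroup N] [Module S N] [Module.Finite S N] (i j : ℕ) (hij : i + j = h) :
    Subsingleton ((localCohomology (maximalIdeal S) j).obj (ModuleCat.of S N)) ↔
      Subsingleton (Ext (ModuleCat.of S N) (ModuleCat.of S S) i) := by
  have hcm : LocCoh.IsCohenMacaulayLocalRing S := Groth.Agent.Helper6.Bass.cm_of_gorenstein
  obtain ⟨gS, hgS⟩ := GorTop.exists_isInjectiveHull (R := S) h hh
  haveI := hgS.isInjective
  obtain ⟨e1⟩ := LDual.nonempty_equiv_ext (R := S) (maximalIdeal S) h
    (LDual.isZero_lc_succ_dim (maximalIdeal S) h hh)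
    (fun j hj => LDual.isZero_lc_of_cm h hh j hj) S (LocCoh.H (maximalIdeal S) h S)
    (LinearMap.ringLmapEquivSelf S S _) i j hij N
  constructor
  · intro hs
    apply LDual.subsingleton_of_dual _ gS hgS
    exact e1.toEquiv.subsingleton_congr.1 hs
  · intro hs
    haveI : Subsingleton (Ext (ModuleCat.of S N) (ModuleCat.of S S) i →ₗ[S]
        LocCoh.H (maximalIdeal S) h S) :=
      ⟨fun a b => LinearMap.ext fun x => by rw [Subsingleton.elim x 0, map_zero, map_zero]⟩
    exact e1.toEquiv.subsingleton_congr.2 inferInstance

omit [LocCoh.IsGorensteinLocalRing S] in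
/-- vanishing above the dimension -/
theorem subsingleton_lc_of_gt [IsNoetherianRing S] [IsLocalRing S] (h : ℕ)
    (hh : ringKrullDim S = h)
    (N : Type u) [AddCommGroup N] [Module S N] (j : ℕ) (hj : h < j) :
    Subsingleton ((localCohomology (maximalIdeal S) j).obj (ModuleCat.of S N)) := by
  apply ModuleCat.isZero_iff_subsingleton.1
  apply LocCohVanish.isZero_lc_of_supportDim_lt
  refine lt_of_le_of_lt (Module.supportDim_le_ringKrullDim S N) ?_
  rw [hh]
  exact_mod_cast hj

end G2

end Groth.Agent.Helper1.Core
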