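import Mathlib

set_option autoImplicit false

/-!
# Localizing a module over a quotient ring: `M_P ≅ M_p`
-/

namespace Groth.Agent.Helper1.Core

universe u

variable {R A : Type u} [CommRing R] [CommRing A] [Algebra R A] (p : Ideal A) [p.IsPrime]

/-- the local homomorphism `R_P → A_p` -/
noncomputable abbrev locHom :
    Localization.AtPrime (p.comap (algebraMap R A)) →+* Localization.AtPrime p :=
  Localization.localRingHom _ p (algebraMap R A) rfl

lemma locHom_surjective (hπ : Function.Surjective (algebraMap R A)) :
    Function.Surjective (locHom (R := R) p) := by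
  intro y
  obtain ⟨a, t, rfl⟩ := IsLocalization.exists_mk'_eq p.primeCompl y
  obtain ⟨r, rfl⟩ := hπ a
  obtain ⟨s, hs⟩ := hπ t.1
  have hsP : s ∈ (p.comap (algebraMap R A)).primeCompl := by
    show ¬ (algebraMap R A s ∈ p)
    rw [hs]
    exact t.2
  refine ⟨IsLocalization.mk' _ r ⟨s, hsP⟩, ?_⟩
  rw [Localization.localRingHom_mk']
  congr 1
  exact Subtype.ext hs

/-- a copy of `M_p`, regarded also as a module over `R_P` and over `R` -/
def Np (R : Type u) {A : Type u} [CommRing R] [CommRing A] [Algebra R A] (p : Ideal A)
    [p.IsPrime] (M : Type u) [AddCommGroup M] [Module A M] : Type u :=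
  LocalizedModule p.primeCompl M

variable (M : Type u) [AddCommGroup M] [Module A M]

noncomputable instance : AddCommGroup (Np R p M) :=
  inferInstanceAs (AddCommGroup (LocalizedModule p.primeCompl M))

noncomputable instance : Module (Localization.AtPrime p) (Np R p M) :=
  inferInstanceAs (Module (Localization.AtPrime p) (LocalizedModule p.primeCompl M))

noncomputable instance : Module A (Np R p M) :=
  inferInstanceAs (Module A (LocalizedModule p.primeCompl M))

instance : IsScalarTower A (Localization.AtPrime p) (Np R p M) :=
  inferInstanceAs (IsScalarTower A (Localization.AtPrime p) (LocalizedModule p.primeCompl M))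

/-- the algebra structure `R_P → A_p` -/
noncomputable def locAlg :
    Algebra (Localization.AtPrime (p.comap (algebraMap R A))) (Localization.AtPrime p) :=
  (locHom (R := R) p).toAlgebra

attribute [local instance] locAlg

noncomputable instance modRP :
    Module (Localization.AtPrime (p.comap (algebraMap R A))) (Np R p M) :=
  Module.compHom _ (locHom (R := R) p)

instance isScalarTower_RP : IsScalarTower (Localization.AtPrime (p.comap (algebraMap R A)))
    (Localization.AtPrime p) (Np R p M) :=
  IsScalarTower.of_algebraMap_smul fun _ _ => rfl

noncomputable instance modR : Module R (Np R p M) :=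
  Module.compHom _ (algebraMap R (Localization.AtPrime (p.comap (algebraMap R A))))

instance isScalarTower_R : IsScalarTower R (Localization.AtPrime (p.comap (algebraMap R A)))
    (Np R p M) :=
  IsScalarTower.of_algebraMap_smul fun _ _ => rfl

lemma smul_def_R (r : R) (x : Np R p M) : r • x = (algebraMap R A r) • x := by
  show (locHom (R := R) p (algebraMap R _ r)) • x = _
  rw [Localization.localRingHom_to_map, algebraMap_smul]

/-- constructor of elements -/
def Np.mk (m : M) (t : p.primeCompl) : Np R p M := LocalizedModule.mk m t

lemma smul_mk (a : A) (m : M) (t : p.primeCompl) :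
    a • Np.mk (R := R) p M m t = Np.mk p M (a • m) t :=
  LocalizedModule.smul'_mk a m t

variable [Module R M] [IsScalarTower R A M]

/-- the localization map `M → M_p` as an `R`-linear map -/
noncomputable def locMap : M →ₗ[R] Np R p M where
  toFun m := Np.mk p M m 1
  map_add' m m' := by
    have h : (LocalizedModule.mk (m + m') (1 : p.primeCompl) : LocalizedModule p.primeCompl M) =
        LocalizedModule.mk m 1 + LocalizedModule.mk m' 1 := by
      rw [LocalizedModule.mk_add_mk, one_smul, one_smul, one_mul]
    exact h
  map_smul' r m := by
    rw [RingHom.id_apply, smul_def_R, smul_mk, algebraMap_smul]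

lemma mem_primeCompl_of_map_eq {s : R} {t : p.primeCompl} (hs : algebraMap R A s = t.1) :
    s ∈ (p.comap (algebraMap R A)).primeCompl := by
  show ¬ (algebraMap R A s ∈ p)
  rw [hs]
  exact t.2

lemma isLocalizedModule_locMap (hπ : Function.Surjective (algebraMap R A)) :
    IsLocalizedModule (p.comap (algebraMap R A)).primeCompl (locMap (R := R) p M) where
  map_units s := by
    rw [Module.End.isUnit_iff]
    have hu : IsUnit (algebraMap A (Localization.AtPrime p) (algebraMap R A s.1)) :=
      IsLocalization.map_units (Localization.AtPrime p) (⟨algebraMap R A s.1, s.2⟩ : p.primeCompl)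
    obtain ⟨u, hu'⟩ := hu
    have key : ∀ x : Np R p M, s.1 • x = (u : Localization.AtPrime p) • x := by
      intro x
      rw [smul_def_R, hu', algebraMap_smul (Localization.AtPrime p)]
    constructor
    · intro x y hxy
      have h1 : (u : Localization.AtPrime p) • x = (u : Localization.AtPrime p) • y := by
        rw [← key, ← key]
        exact hxy
      have := congrArg (fun z => (↑u⁻¹ : Localization.AtPrime p) • z) h1
      simpa [smul_smul] using this
    · intro y
      refine ⟨(↑u⁻¹ : Localization.AtPrime p) • y, ?_⟩
      show s.1 • ((↑u⁻¹ : Localization.AtPrime p) • y) = y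
      rw [key, smul_smul, Units.mul_inv, one_smul]
  surj y := by
    induction y using LocalizedModule.induction_on with
    | h m t =>
      obtain ⟨s, hs⟩ := hπ t.1
      refine ⟨⟨m, ⟨s, mem_primeCompl_of_map_eq p hs⟩⟩, ?_⟩
      show s • Np.mk (R := R) p M m t = Np.mk (R := R) p M m 1
      rw [smul_def_R, hs, smul_mk]
      exact LocalizedModule.mk_cancel t m
  exists_of_eq {m m'} h := by
    have h' : LocalizedModule.mk m (1 : p.primeCompl) = LocalizedModule.mk m' 1 := h
    rw [LocalizedModule.mk_eq] at h'
    obtain ⟨t, ht⟩ := h'
    rw [one_smul, one_smul] at ht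
    obtain ⟨s, hs⟩ := hπ t.1
    refine ⟨⟨s, mem_primeCompl_of_map_eq p hs⟩, ?_⟩
    show s • m = s • m'
    rw [← algebraMap_smul A s m, ← algebraMap_smul A s m', hs]
    exact ht

/-- `M_P ≅ M_p` as `R_P`-modules -/
noncomputable def locEquiv (hπ : Function.Surjective (algebraMap R A)) :
    LocalizedModule (p.comap (algebraMap R A)).primeCompl M
      ≃ₗ[Localization.AtPrime (p.comap (algebraMap R A))] Np R p M :=
  haveI := isLocalizedModule_locMap p M hπ
  LinearEquiv.extendScalarsOfIsLocalization (p.comap (algebraMap R A)).primeCompl
    (Localization.AtPrime (p.comap (algebraMap R A)))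
    (IsLocalizedModule.iso (p.comap (algebraMap R A)).primeCompl (locMap (R := R) p M))

end Groth.Agent.Helper1.Core
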