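import Mathlib
import Groth.Agent.Helper1.RegBound

set_option autoImplicit false

namespace Groth.Agent.Helper1.Syzygy
open CategoryTheory ModuleCat
universe u
variable {A : Type u} [CommRing A]

/-- The `Shrink`-free description of the localized module. -/
noncomputable def locIso (M : Type u) [AddCommGroup M] [Module A M] (S : Submonoid A) :
    (ModuleCat.of A M).localizedModule S ≅ ModuleCat.of (Localization S) (LocalizedModule S M) :=
  (Shrink.linearEquiv (Localization S) (LocalizedModule S M)).toModuleIso

lemma hasPdLE_loc_iff (M : Type u) [AddCommGroup M] [Module A M] (S : Submonoid A) (n : ℕ) :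
    HasProjectiveDimensionLE ((ModuleCat.of A M).localizedModule S) n ↔
      projectiveDimension (ModuleCat.of (Localization S) (LocalizedModule S M)) ≤ n := by
  rw [projectiveDimension_le_iff]
  exact ⟨fun h => hasProjectiveDimensionLT_of_iso (locIso M S) (n + 1),
    fun h => hasProjectiveDimensionLT_of_iso (locIso M S).symm (n + 1)⟩

variable [IsNoetherianRing A]

/-- An `n`-th syzygy module `K` of `M`: after any localization, `pd ≤ n` iff `K` is projective. -/
theorem exists_syzygy (n : ℕ) : ∀ (M : Type u) [AddCommGroup M] [Module A M] [Module.Finite A M],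
    ∃ (K : Type u) (_ : AddCommGroup K) (_ : Module A K) (_ : Module.Finite A K),
      ∀ S : Submonoid A, HasProjectiveDimensionLE ((ModuleCat.of A M).localizedModule S) n ↔
        Projective ((ModuleCat.of A K).localizedModule S) := by
  induction n with
  | zero =>
    intro M _ _ _
    refine ⟨M, inferInstance, inferInstance, inferInstance, fun S => ?_⟩
    show HasProjectiveDimensionLT _ (0 + 1) ↔ _
    rw [zero_add, ← projective_iff_hasProjectiveDimensionLT_one]
  | succ n ih =>
    intro M _ _ _
    rcases Module.exists_finite_presentation A M with ⟨P, _, _, _, _, f, surjf⟩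
    let T := f.shortComplexKer
    have T_exact := LinearMap.shortExact_shortComplexKer surjf
    have proj := ModuleCat.projective_of_categoryTheory_projective T.X₂
    obtain ⟨K, i1, i2, i3, hK⟩ := ih (LinearMap.ker f)
    refine ⟨K, i1, i2, i3, fun S => ?_⟩
    have TS_exact : (T.map (ModuleCat.localizedModuleFunctor S)).ShortExact :=
      T_exact.map_of_exact (ModuleCat.localizedModuleFunctor S)
    have projS : Projective (T.map (ModuleCat.localizedModuleFunctor S)).X₂ :=
      (ModuleCat.localizedModuleFunctor.{u} S).projective_obj_of_projective proj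
    rw [← hK S]
    exact TS_exact.hasProjectiveDimensionLT_X₃_iff n projS

lemma projective_loc_prime_iff (K : Type u) [AddCommGroup K] [Module A K] [Module.Finite A K]
    (p : PrimeSpectrum A) :
    Projective ((ModuleCat.of A K).localizedModule p.asIdeal.primeCompl) ↔
      p ∈ Module.freeLocus A K := by
  rw [← Groth.Agent.Helper1.RegBound.mem_pdLocus_zero_iff (ModuleCat.of A K) p]
  show _ ↔ HasProjectiveDimensionLT _ (0 + 1)
  rw [zero_add, ← projective_iff_hasProjectiveDimensionLT_one]

lemma projective_loc_away_iff (K : Type u) [AddCommGroup K] [Module A K] [Module.Finite A K]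
    (s : A) :
    Projective ((ModuleCat.of A K).localizedModule (Submonoid.powers s)) ↔
      (PrimeSpectrum.basicOpen s : Set (PrimeSpectrum A)) ⊆ Module.freeLocus A K := by
  have : Module.FinitePresentation A K := Module.finitePresentation_of_finite A K
  rw [Module.basicOpen_subset_freeLocus_iff]
  have h2 : Projective ((ModuleCat.of A K).localizedModule (Submonoid.powers s)) ↔
      Module.Projective (Localization.Away s)
        ((ModuleCat.of A K).localizedModule (Submonoid.powers s)) :=
    (IsProjective.iff_projective (R := Localization.Away s)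
      ((ModuleCat.of A K).localizedModule (Submonoid.powers s))).symm
  rw [h2]
  let e : ((ModuleCat.of A K).localizedModule (Submonoid.powers s)) ≃ₗ[Localization.Away s]
      LocalizedModule.Away s K :=
    Shrink.linearEquiv (Localization.Away s) (LocalizedModule (Submonoid.powers s) K)
  exact ⟨fun h => Module.Projective.of_equiv e, fun h => Module.Projective.of_equiv e.symm⟩


/-- `pd_{A_s} M_s ≤ n` implies `pd_{A_p} M_p ≤ n` for `s ∉ p`. -/
lemma pd_prime_le_of_pd_away_le (M : Type u) [AddCommGroup M] [Module A M] [Module.Finite A M]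
    (p : PrimeSpectrum A) (s : A) (hs : s ∉ p.asIdeal) (n : ℕ)
    (h : projectiveDimension (ModuleCat.of (Localization.Away s)
      (LocalizedModule (Submonoid.powers s) M)) ≤ n) :
    projectiveDimension (ModuleCat.of (Localization.AtPrime p.asIdeal)
      (LocalizedModule p.asIdeal.primeCompl M)) ≤ n := by
  obtain ⟨K, _, _, _, hK⟩ := exists_syzygy (A := A) n M
  rw [← hasPdLE_loc_iff, hK, projective_loc_away_iff] at h
  rw [← hasPdLE_loc_iff, hK, projective_loc_prime_iff]
  exact h hs

/-- If `pd_{A_p} M_p ≤ n` then `pd_{A_s} M_s ≤ n` for some `s ∉ p`. -/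
lemma exists_pd_away_le_of_pd_prime_le (M : Type u) [AddCommGroup M] [Module A M]
    [Module.Finite A M] (p : PrimeSpectrum A) (n : ℕ)
    (h : projectiveDimension (ModuleCat.of (Localization.AtPrime p.asIdeal)
      (LocalizedModule p.asIdeal.primeCompl M)) ≤ n) :
    ∃ s : A, s ∉ p.asIdeal ∧ projectiveDimension (ModuleCat.of (Localization.Away s)
      (LocalizedModule (Submonoid.powers s) M)) ≤ n := by
  obtain ⟨K, _, _, _, hK⟩ := exists_syzygy (A := A) n M
  rw [← hasPdLE_loc_iff, hK, projective_loc_prime_iff] at h
  have : Module.FinitePresentation A K := Module.finitePresentation_of_finite A K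
  have hopen : IsOpen (Module.freeLocus A K) := Module.isOpen_freeLocus
  obtain ⟨U, ⟨s, rfl⟩, hpU, hU⟩ :=
    PrimeSpectrum.isTopologicalBasis_basic_opens.exists_subset_of_mem_open h hopen
  refine ⟨s, hpU, ?_⟩
  rw [← hasPdLE_loc_iff, hK, projective_loc_away_iff]
  exact hU


omit [IsNoetherianRing A] in
/-- If `M_p = 0` for a finite module, then `M_s = 0` for some `s ∉ p`. -/
lemma exists_subsingleton_away (M : Type u) [AddCommGroup M] [Module A M] [Module.Finite A M]
    (p : Ideal A) [p.IsPrime] (h : Subsingleton (LocalizedModule p.primeCompl M)) :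
    ∃ s : A, s ∉ p ∧ Subsingleton (LocalizedModule (Submonoid.powers s) M) := by
  classical
  rw [LocalizedModule.subsingleton_iff] at h
  obtain ⟨G, hG⟩ := (Module.Finite.fg_top : (⊤ : Submodule A M).FG)
  choose r hr hr0 using h
  refine ⟨∏ g ∈ G, r g, ?_, ?_⟩
  · intro hmem
    obtain ⟨g, _, hg⟩ := (Ideal.IsPrime.prod_mem_iff).mp hmem
    exact hr g hg
  · rw [LocalizedModule.subsingleton_iff]
    intro m
    refine ⟨∏ g ∈ G, r g, Submonoid.mem_powers _, ?_⟩
    have hm : m ∈ Submodule.span A (G : Set M) := by rw [hG]; trivial
    induction hm using Submodule.span_induction with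
    | mem x hx =>
      rw [← Finset.mul_prod_erase G r hx, mul_comm, mul_smul, hr0 x, smul_zero]
    | zero => simp
    | add x y _ _ hx hy => rw [smul_add, hx, hy, add_zero]
    | smul a x _ hx => rw [smul_comm, hx, smul_zero]

omit [IsNoetherianRing A] in
/-- If `M_s = 0` and `s ∉ p` then `M_p = 0`. -/
lemma subsingleton_prime_of_away (M : Type u) [AddCommGroup M] [Module A M]
    (p : Ideal A) [p.IsPrime] (s : A) (hs : s ∉ p)
    (h : Subsingleton (LocalizedModule (Submonoid.powers s) M)) :
    Subsingleton (LocalizedModule p.primeCompl M) := by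
  rw [LocalizedModule.subsingleton_iff] at h ⊢
  intro m
  obtain ⟨r, ⟨k, rfl⟩, hr0⟩ := h m
  exact ⟨s ^ k, fun hmem => hs (Ideal.IsPrime.mem_of_pow_mem inferInstance k hmem), hr0⟩

end Groth.Agent.Helper1.Syzygy
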