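import Mathlib
import Groth.Agent.Helper1.CoreA
import Groth.Agent.Helper1.CoreB
import Groth.Agent.Helper6.ExtBC3
import Groth.Agent.Helper6.GorenFinDim

set_option autoImplicit false

/-!
# The core lemma: local cohomology of `M_p` over `A_p` (A a quotient of `R`, `R_P` Gorenstein)
vanishes iff `Ext_R^i(M, R)` vanishes at `P`.
-/

namespace Groth.Agent.Helper1.Core
open CategoryTheory Limits Opposite IsLocalRing Abelian

universe u

section ExtTransport

variable {C : Type*} [Category C] [Abelian C] [HasExt C]

lemma subsingleton_ext_of_iso_right {X Y Y' : C} (α : Y ≅ Y') (i : ℕ)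
    (h : Subsingleton (Ext X Y' i)) : Subsingleton (Ext X Y i) := by
  refine ⟨fun a b => ?_⟩
  have key : ∀ a : Ext X Y i, a = (a.comp (Ext.mk₀ α.hom) (add_zero i)).comp (Ext.mk₀ α.inv)
      (add_zero i) := by
    intro a
    rw [Ext.comp_assoc_of_third_deg_zero, Ext.mk₀_comp_mk₀, α.hom_inv_id, Ext.comp_mk₀_id]
  rw [key a, key b, Subsingleton.elim (a.comp (Ext.mk₀ α.hom) (add_zero i))
    (b.comp (Ext.mk₀ α.hom) (add_zero i))]

lemma subsingleton_ext_of_iso_left {X X' Y : C} (α : X ≅ X') (i : ℕ)
    (h : Subsingleton (Ext X' Y i)) : Subsingleton (Ext X Y i) := by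
  refine ⟨fun a b => ?_⟩
  have key : ∀ a : Ext X Y i, a = (Ext.mk₀ α.hom).comp ((Ext.mk₀ α.inv).comp a (zero_add i))
      (zero_add i) := by
    intro a
    rw [← Ext.comp_assoc_of_second_deg_zero, Ext.mk₀_comp_mk₀, α.hom_inv_id, Ext.mk₀_id_comp]
  rw [key a, key b, Subsingleton.elim ((Ext.mk₀ α.inv).comp a (zero_add i))
    ((Ext.mk₀ α.inv).comp b (zero_add i))]

end ExtTransport

section ExtLoc

variable {R : Type u} [CommRing R] [IsNoetherianRing R] (S : Submonoid R)

/-- `Ext` of the localizations vanishes iff every `Ext` class is killed by an element of `S` -/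
theorem ext_loc_subsingleton_iff (M N : ModuleCat.{u} R) [Module.Finite R M] (i : ℕ) :
    Subsingleton (Ext ((ModuleCat.localizedModuleFunctor.{u} S).obj M)
        ((ModuleCat.localizedModuleFunctor.{u} S).obj N) i) ↔
      ∀ e : Ext M N i, ∃ s : S, (s : R) • e = 0 := by
  obtain ⟨h1, h2⟩ := Groth.Agent.Helper6.ExtBC.loc_main S M N i
  constructor
  · intro hs e
    exact (h2 e).1 (Subsingleton.elim _ _)
  · intro h
    refine ⟨fun a b => ?_⟩
    have key : ∀ y : Ext ((ModuleCat.localizedModuleFunctor.{u} S).obj M)
        ((ModuleCat.localizedModuleFunctor.{u} S).obj N) i, y = 0 := by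
      intro y
      obtain ⟨e, s, hes⟩ := h1 y
      rw [(h2 e).2 (h e)] at hes
      obtain ⟨u, hu⟩ := IsLocalization.map_units (Localization S) s
      rw [← hu] at hes
      have := congrArg (fun z => (↑u⁻¹ : Localization S) • z) hes
      simpa [smul_smul] using this
    rw [key a, key b]

/-- the same, with the `Shrink`-free models of the localizations -/
theorem subsingleton_ext_loc_iff (M : Type u) [AddCommGroup M] [Module R M] [Module.Finite R M]
    (i : ℕ) :
    Subsingleton (Ext (ModuleCat.of (Localization S) (LocalizedModule S M))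
        (ModuleCat.of (Localization S) (Localization S)) i) ↔
      ∀ e : Ext (ModuleCat.of R M) (ModuleCat.of R R) i, ∃ s : S, (s : R) • e = 0 := by
  rw [← ext_loc_subsingleton_iff S (ModuleCat.of R M) (ModuleCat.of R R) i]
  constructor
  · intro hs
    apply subsingleton_ext_of_iso_right (Groth.Agent.Helper6.GorenFinDim.selfLocIso R S)
    exact subsingleton_ext_of_iso_left (Groth.Agent.Helper1.Syzygy.locIso M S) i hs
  · intro hs
    apply subsingleton_ext_of_iso_right (Groth.Agent.Helper6.GorenFinDim.selfLocIso R S).symm
    exact subsingleton_ext_of_iso_left (Groth.Agent.Helper1.Syzygy.locIso M S).symm i hs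

end ExtLoc

section Main

variable {R A : Type u} [CommRing R] [CommRing A] [IsNoetherianRing R] [IsNoetherianRing A]
  [Algebra R A] (p : Ideal A) [p.IsPrime]
  (M : Type u) [AddCommGroup M] [Module A M] [Module R M] [IsScalarTower R A M]

attribute [local instance] locAlg

/-- Step 1–2: `H^j_{pA_p}(M_p) = 0 ↔ H^j_{PR_P}(M_P) = 0` -/
theorem subsingleton_lc_loc_iff (hπ : Function.Surjective (algebraMap R A)) (j : ℕ) :
    Subsingleton (LocCoh.H (maximalIdeal (Localization.AtPrime p)) j
        (LocalizedModule p.primeCompl M)) ↔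
      Subsingleton (LocCoh.H (maximalIdeal (Localization.AtPrime (p.comap (algebraMap R A)))) j
        (LocalizedModule (p.comap (algebraMap R A)).primeCompl M)) := by
  obtain ⟨φ, -⟩ := exists_addEquiv_maximalIdeal
    (S := Localization.AtPrime (p.comap (algebraMap R A))) (T := Localization.AtPrime p)
    (locHom_surjective p hπ) (Np R p M) j
  have e2 : (localCohomology (maximalIdeal (Localization.AtPrime (p.comap (algebraMap R A)))) j).obj
      (ModuleCat.of _ (LocalizedModule (p.comap (algebraMap R A)).primeCompl M)) ≅
      (localCohomology (maximalIdeal (Localization.AtPrime (p.comap (algebraMap R A)))) j).obj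
      (ModuleCat.of _ (Np R p M)) :=
    (localCohomology _ j).mapIso (locEquiv p M hπ).toModuleIso
  have h1 : Subsingleton (LocCoh.H (maximalIdeal (Localization.AtPrime p)) j
        (LocalizedModule p.primeCompl M)) ↔
      Subsingleton ((localCohomology (maximalIdeal
        (Localization.AtPrime (p.comap (algebraMap R A)))) j).obj
        (ModuleCat.of _ (Np R p M))) := φ.toEquiv.subsingleton_congr
  rw [h1]
  exact e2.toLinearEquiv.toEquiv.subsingleton_congr.symm

variable [Module.Finite R M]

/-- **Core lemma** -/
theorem subsingleton_lc_loc_iff_ext (hπ : Function.Surjective (algebraMap R A))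
    [LocCoh.IsGorensteinLocalRing (Localization.AtPrime (p.comap (algebraMap R A)))]
    (h : ℕ) (hh : ringKrullDim (Localization.AtPrime (p.comap (algebraMap R A))) = h)
    (i j : ℕ) (hij : i + j = h) :
    Subsingleton (LocCoh.H (maximalIdeal (Localization.AtPrime p)) j
        (LocalizedModule p.primeCompl M)) ↔
      ∀ e : Ext (ModuleCat.of R M) (ModuleCat.of R R) i,
        ∃ s : R, s ∉ p.comap (algebraMap R A) ∧ s • e = 0 := by
  rw [subsingleton_lc_loc_iff p M hπ j]
  have h1 := subsingleton_lc_iff_ext (S := Localization.AtPrime (p.comap (algebraMap R A))) h hh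
    (LocalizedModule (p.comap (algebraMap R A)).primeCompl M) i j hij
  show Subsingleton ((localCohomology _ j).obj _) ↔ _
  rw [h1]
  have h2 := ext_loc_subsingleton_iff (p.comap (algebraMap R A)).primeCompl
    (ModuleCat.of R M) (ModuleCat.of R R) i
  have h3 : Subsingleton (Ext (ModuleCat.of (Localization.AtPrime (p.comap (algebraMap R A)))
        (LocalizedModule (p.comap (algebraMap R A)).primeCompl M))
        (ModuleCat.of (Localization.AtPrime (p.comap (algebraMap R A)))
          (Localization.AtPrime (p.comap (algebraMap R A)))) i) ↔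
      Subsingleton (Ext ((ModuleCat.localizedModuleFunctor.{u}
          (p.comap (algebraMap R A)).primeCompl).obj (ModuleCat.of R M))
        ((ModuleCat.localizedModuleFunctor.{u}
          (p.comap (algebraMap R A)).primeCompl).obj (ModuleCat.of R R)) i) := by
    constructor
    · intro hs
      apply subsingleton_ext_of_iso_right
        (Groth.Agent.Helper6.GorenFinDim.selfLocIso R (p.comap (algebraMap R A)).primeCompl)
      exact subsingleton_ext_of_iso_left
        (Groth.Agent.Helper1.Syzygy.locIso M (p.comap (algebraMap R A)).primeCompl) i hs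
    · intro hs
      apply subsingleton_ext_of_iso_right
        (Groth.Agent.Helper6.GorenFinDim.selfLocIso R (p.comap (algebraMap R A)).primeCompl).symm
      exact subsingleton_ext_of_iso_left
        (Groth.Agent.Helper1.Syzygy.locIso M (p.comap (algebraMap R A)).primeCompl).symm i hs
  rw [h3, h2]
  constructor
  · intro hx e
    obtain ⟨s, hs⟩ := hx e
    exact ⟨s.1, s.2, hs⟩
  · intro hx e
    obtain ⟨s, hs1, hs2⟩ := hx e
    exact ⟨⟨s, hs1⟩, hs2⟩

/-- vanishing above the height -/
theorem subsingleton_lc_loc_of_gt (hπ : Function.Surjective (algebraMap R A))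
    (h : ℕ) (hh : ringKrullDim (Localization.AtPrime (p.comap (algebraMap R A))) = h)
    (j : ℕ) (hj : h < j) :
    Subsingleton (LocCoh.H (maximalIdeal (Localization.AtPrime p)) j
        (LocalizedModule p.primeCompl M)) := by
  rw [subsingleton_lc_loc_iff p M hπ j]
  exact subsingleton_lc_of_gt h hh _ j hj

end Main

end Groth.Agent.Helper1.Core
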