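import Mathlib
import Groth.Agent.Helper1.CoreA
import Groth.Agent.Helper6.Bass5
import Groth.Agent.Helper6.ExtFin

set_option autoImplicit false

/-!
# Annihilators of local cohomology over a Gorenstein local ring via `Ext`
-/

namespace Groth.Agent.Helper1.Core
open CategoryTheory Limits Opposite IsLocalRing Abelian

universe u

section D

variable {S : Type u} [CommRing S] [LocCoh.IsGorensteinLocalRing S]

/-- over a Gorenstein local ring of dimension `h`, `H^j_𝔪(N)` and `Ext^i(N, S)`, `i + j = h`,
have the same annihilator -/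
theorem smul_lc_eq_zero_iff (h : ℕ) (hh : ringKrullDim S = h)
    (N : Type u) [AddCommGroup N] [Module S N] [Module.Finite S N] (i j : ℕ) (hij : i + j = h)
    (r : S) :
    (∀ x : (localCohomology (maximalIdeal S) j).obj (ModuleCat.of S N), r • x = 0) ↔
      (∀ e : Ext (ModuleCat.of S N) (ModuleCat.of S S) i, r • e = 0) := by
  have hcm : LocCoh.IsCohenMacaulayLocalRing S := Groth.Agent.Helper6.Bass.cm_of_gorenstein
  obtain ⟨gS, hgS⟩ := GorTop.exists_isInjectiveHull (R := S) h hh
  haveI := hgS.isInjective
  obtain ⟨e1⟩ := LDual.nonempty_equiv_ext (R := S) (maximalIdeal S) h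
    (LDual.isZero_lc_succ_dim (maximalIdeal S) h hh)
    (fun j hj => LDual.isZero_lc_of_cm h hh j hj) S (LocCoh.H (maximalIdeal S) h S)
    (LinearMap.ringLmapEquivSelf S S _) i j hij N
  have h1 := Groth.Agent.Helper6.Matlis.annihilator_dual gS hgS
    (Ext (ModuleCat.of S N) (ModuleCat.of S S) i)
  have h2 := e1.annihilator_eq
  rw [← Module.mem_annihilator, ← Module.mem_annihilator, h2, ← h1]

/-- `Ext^i(N, S) = 0` above the dimension -/
theorem subsingleton_ext_of_gt (h : ℕ) (hh : ringKrullDim S = h)
    (N : Type u) [AddCommGroup N] [Module S N] [Module.Finite S N] (i : ℕ) (hi : h < i) :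
    Subsingleton (Ext (ModuleCat.of S N) (ModuleCat.of S S) i) :=
  (Groth.Agent.Helper6.Bass.gorenstein_top (A := S) h hh).2 N i hi

end D

end Groth.Agent.Helper1.Core
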