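import Mathlib
import Groth.Agent.Helper1.LDualH
import Groth.Agent.Helper6.CMCaten
import Groth.Agent.Helper1.LocCohTopMod

set_option autoImplicit false

/-!
# `ht I + dim S/I = dim S` in a Cohen–Macaulay local ring
-/

namespace Groth.Agent.Helper1.LDual
open CategoryTheory Limits Opposite IsLocalRing

universe u

variable {S : Type u} [CommRing S]

lemma height_add_dim [LocCoh.IsCohenMacaulayLocalRing S] (I : Ideal S) (g d N : ℕ)
    (hg : I.height = g) (hd : ringKrullDim (S ⧸ I) = d) (hN : ringKrullDim S = N) :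
    g + d = N := by
  have hfull := Groth.Agent.Helper6.CMCaten.hasCMFull_of_cm S
  apply le_antisymm
  · -- a prime `q ⊇ I` with `dim S/q = d`
    have hsd : Module.supportDim S (S ⧸ I) = d := by
      rw [Module.supportDim_quotient_eq_ringKrullDim, hd]
    obtain ⟨q, hq, hqd⟩ := LocCohTopMod.exists_mem_support_dim_eq (R := S) (M := S ⧸ I) d hsd
    have hIq : I ≤ q.asIdeal := by
      rw [Module.support_eq_zeroLocus, Ideal.annihilator_quotient] at hq
      exact hq
    have h1 := Groth.Agent.Helper6.CMCaten.dim_eq hfull q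
    rw [hN, hqd] at h1
    have h2 : I.height ≤ q.asIdeal.height := Ideal.height_mono hIq
    rw [hg] at h2
    have hfin : q.asIdeal.height ≠ ⊤ := Ideal.height_ne_top_of_isPrime
    obtain ⟨h, hh⟩ := ENat.ne_top_iff_exists.1 hfin
    rw [← hh] at h1 h2
    have h3 : (N : WithBot ℕ∞) = ((d + h : ℕ) : WithBot ℕ∞) := by
      rw [h1]
      push_cast
      rfl
    have h4 : N = d + h := by exact_mod_cast h3
    have h5 : g ≤ h := by exact_mod_cast h2
    omega
  · -- a prime `p ⊇ I` with `ht p = g`
    obtain ⟨p, hp, hIp, hpg⟩ := Ideal.exists_isPrime_height_eq hg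
    have h1 := Groth.Agent.Helper6.CMCaten.dim_eq hfull ⟨p, hp⟩
    rw [hN] at h1
    have h2 : ringKrullDim (S ⧸ p) ≤ ringKrullDim (S ⧸ I) :=
      ringKrullDim_le_of_surjective (Ideal.Quotient.factor hIp)
        (Ideal.Quotient.factor_surjective hIp)
    rw [hd] at h2
    have hpg' : (⟨p, hp⟩ : PrimeSpectrum S).asIdeal.height = g := hpg
    rw [hpg'] at h1
    -- `N = dim S/p + g ≤ d + g`
    have h3 : (N : WithBot ℕ∞) ≤ ((d + g : ℕ) : WithBot ℕ∞) := by
      rw [h1]
      push_cast
      exact add_le_add_left h2 _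
    have : N ≤ d + g := by exact_mod_cast h3
    omega

end Groth.Agent.Helper1.LDual
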