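import Mathlib
import Groth.Agent.Helper1.CoreC
import Groth.Agent.Helper1.CoreD
import Groth.Agent.Helper1.LDualI
import Groth.Agent.Helper1.LDualJ

set_option autoImplicit false

/-!
# Annihilators of `H^i_𝔪(M)` over a quotient `A` of a Gorenstein local ring, via stalk vanishing
-/

namespace Groth.Agent.Helper1.Core
open CategoryTheory Limits Opposite IsLocalRing Abelian

universe u

section E4

variable {R : Type u} [CommRing R] (T : Type*) [AddCommGroup T] [Module R T] [Module.Finite R T]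

/-- `𝔞 ⊆ √Ann T` iff `T_P = 0` for all primes `P ⊉ 𝔞` -/
theorem radical_kill_iff (𝔞 : Ideal R) :
    (∀ r ∈ 𝔞, ∃ n : ℕ, ∀ e : T, r ^ n • e = 0) ↔
      ∀ (P : Ideal R) [P.IsPrime], ¬ 𝔞 ≤ P → ∀ e : T, ∃ s : R, s ∉ P ∧ s • e = 0 := by
  constructor
  · intro h P _ hP e
    obtain ⟨r, hr, hrP⟩ := Set.not_subset.1 hP
    obtain ⟨n, hn⟩ := h r hr
    exact ⟨r ^ n, fun hc => hrP (Ideal.IsPrime.mem_of_pow_mem ‹_› n hc), hn e⟩
  · intro h r hr
    have hrad : r ∈ (Module.annihilator R T).radical := by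
      rw [Ideal.radical_eq_sInf, Ideal.mem_sInf]
      rintro P ⟨hP1, hP2⟩
      by_contra hrP
      have hP : ¬ 𝔞 ≤ P := fun hle => hrP (hle hr)
      have h1 := h P hP
      have h2 : (⟨P, hP2⟩ : PrimeSpectrum R) ∉ Module.support R T := by
        rw [Module.notMem_support_iff']
        exact h1
      exact h2 (Module.mem_support_iff_of_finite.2 hP1)
    obtain ⟨n, hn⟩ := hrad
    exact ⟨n, fun e => Module.mem_annihilator.1 hn e⟩

end E4

section E

variable {R' A : Type u} [CommRing R'] [CommRing A] [LocCoh.IsGorensteinLocalRing R']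
  [IsNoetherianRing A] [IsLocalRing A] [Algebra R' A]
  (M : Type u) [AddCommGroup M] [Module A M] [Module R' M] [IsScalarTower R' A M]

/-- the kernel of `R' → A` kills `Ext(M, -)` -/
lemma ker_smul_ext (Y : ModuleCat.{u} R') (k : ℕ) (r : R') (hr : algebraMap R' A r = 0)
    (e : Ext (ModuleCat.of R' M) Y k) : r • e = 0 := by
  apply LDual.smul_ext_eq_zero (M := ModuleCat.of R' M) r
  intro x
  show r • (x : M) = 0
  rw [← algebraMap_smul A r (x : M), hr, zero_smul]

/-- transfer of annihilators along base independence -/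
theorem lc_kill_iff (hπ : Function.Surjective (algebraMap R' A)) (j : ℕ) (r : R') :
    (∀ x : (localCohomology (maximalIdeal A) j).obj (ModuleCat.of A M),
        algebraMap R' A r • x = 0) ↔
      (∀ y : (localCohomology (maximalIdeal R') j).obj (ModuleCat.of R' M), r • y = 0) := by
  obtain ⟨φ, hφ⟩ := exists_addEquiv_maximalIdeal hπ M j
  constructor
  · intro h y
    obtain ⟨x, rfl⟩ := φ.surjective y
    rw [← hφ, h x, map_zero]
  · intro h x
    apply φ.injective
    rw [hφ, h, map_zero]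

variable [Module.Finite R' M]

/-- `J ⊆ √Ann H^i_𝔪(M)` in terms of `Ext^k_{R'}(M, R')`, `k + i = d` -/
theorem le_radical_iff_ext (hπ : Function.Surjective (algebraMap R' A)) (d : ℕ)
    (hd : ringKrullDim R' = d) (k i : ℕ) (hki : k + i = d) (J : Ideal A) :
    J ≤ (Module.annihilator A (LocCoh.H (maximalIdeal A) i M)).radical ↔
      ∀ r : R', algebraMap R' A r ∈ J → ∃ n : ℕ,
        ∀ e : Ext (ModuleCat.of R' M) (ModuleCat.of R' R') k, r ^ n • e = 0 := by
  have key : ∀ (r : R') (n : ℕ),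
      (algebraMap R' A r) ^ n ∈ Module.annihilator A (LocCoh.H (maximalIdeal A) i M) ↔
        ∀ e : Ext (ModuleCat.of R' M) (ModuleCat.of R' R') k, r ^ n • e = 0 := by
    intro r n
    rw [Module.mem_annihilator, ← map_pow]
    rw [← smul_lc_eq_zero_iff d hd M k i hki (r ^ n)]
    exact lc_kill_iff M hπ i (r ^ n)
  constructor
  · intro h r hr
    obtain ⟨n, hn⟩ := h hr
    exact ⟨n, (key r n).1 hn⟩
  · intro h a ha
    obtain ⟨r, rfl⟩ := hπ a
    obtain ⟨n, hn⟩ := h r ha
    exact ⟨n, (key r n).2 hn⟩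

end E

end Groth.Agent.Helper1.Core
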