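import Mathlib
import Groth.Agent.Helper1.CoreE

set_option autoImplicit false

/-!
# `J ⊆ √Ann H^i_𝔪(M)` iff stalk vanishing, for a quotient `A` of a Gorenstein local ring
-/

namespace Groth.Agent.Helper1.Core
open CategoryTheory Limits Opposite IsLocalRing Abelian

universe u

/-- localizations of a Gorenstein local ring are Gorenstein -/
lemma gorenstein_localization (R' : Type u) [CommRing R'] [LocCoh.IsGorensteinLocalRing R']
    (P : Ideal R') [P.IsPrime] : LocCoh.IsGorensteinLocalRing (Localization.AtPrime P) := by
  obtain ⟨n, hn⟩ := LocCoh.IsGorensteinLocalRing.exists_hasInjectiveDimensionLT (A := R')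
  exact (Groth.Agent.Helper6.GorenFinDim.forward R' n hn).1.isGorensteinLocalRing_localization P

/-- `R ⧸ f⁻¹ p ≅ A ⧸ p` for surjective `f` -/
lemma ringKrullDim_quotient_comap {R A : Type u} [CommRing R] [CommRing A] (f : R →+* A)
    (hf : Function.Surjective f) (p : Ideal A) :
    ringKrullDim (R ⧸ p.comap f) = ringKrullDim (A ⧸ p) := by
  have hker : RingHom.ker ((Ideal.Quotient.mk p).comp f) = p.comap f := by
    rw [← RingHom.comap_ker, Ideal.mk_ker]
  have hs : Function.Surjective ((Ideal.Quotient.mk p).comp f) :=
    Ideal.Quotient.mk_surjective.comp hf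
  exact ringKrullDim_eq_of_ringEquiv ((Ideal.quotEquivOfEq hker.symm).trans
    (RingHom.quotientKerEquivOfSurjective hs))

section F

variable {R' A : Type u} [CommRing R'] [CommRing A] [LocCoh.IsGorensteinLocalRing R']
  [IsNoetherianRing A] [IsLocalRing A] [Algebra R' A]
  (M : Type u) [AddCommGroup M] [Module A M] [Module R' M] [IsScalarTower R' A M]
  [Module.Finite R' M]

/-- the dimension formula `ht P + dim A/p = d` -/
lemma height_comap_add (hπ : Function.Surjective (algebraMap R' A)) (d : ℕ)
    (hd : ringKrullDim R' = d) (p : Ideal A) [p.IsPrime] (c h : ℕ)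
    (hc : ringKrullDim (A ⧸ p) = c) (hh : (p.comap (algebraMap R' A)).height = h) :
    h + c = d := by
  haveI : LocCoh.IsCohenMacaulayLocalRing R' := Groth.Agent.Helper6.Bass.cm_of_gorenstein
  apply LDual.height_add_dim (p.comap (algebraMap R' A)) h c d hh _ hd
  rw [ringKrullDim_quotient_comap _ hπ p, hc]

theorem stalk_iff (hπ : Function.Surjective (algebraMap R' A)) (d : ℕ)
    (hd : ringKrullDim R' = d) (k i : ℕ) (hki : k + i = d) (p : Ideal A) [p.IsPrime] (c : ℕ)
    (hc : ringKrullDim (A ⧸ p) = c) :
    (∀ e : Ext (ModuleCat.of R' M) (ModuleCat.of R' R') k,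
        ∃ s : R', s ∉ p.comap (algebraMap R' A) ∧ s • e = 0) ↔
      (∀ j : ℕ, j + c = i → Subsingleton (LocCoh.H (maximalIdeal (Localization.AtPrime p)) j
        (LocalizedModule p.primeCompl M))) := by
  haveI := gorenstein_localization R' (p.comap (algebraMap R' A))
  have hfin : (p.comap (algebraMap R' A)).height ≠ ⊤ :=
    Ideal.height_ne_top (Ideal.IsPrime.ne_top inferInstance)
  obtain ⟨h, hh⟩ := ENat.ne_top_iff_exists.mp hfin
  have hhc : h + c = d := height_comap_add hπ d hd p c h hc hh.symm
  have hdimP : ringKrullDim (Localization.AtPrime (p.comap (algebraMap R' A))) = h := by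
    rw [IsLocalization.AtPrime.ringKrullDim_eq_height (p.comap (algebraMap R' A)), ← hh]
    rfl
  by_cases hkh : k ≤ h
  · have core := subsingleton_lc_loc_iff_ext p M hπ h hdimP k (h - k) (by omega)
    constructor
    · intro hx j hj
      obtain rfl : j = h - k := by omega
      exact core.2 hx
    · intro hx
      exact core.1 (hx (h - k) (by omega))
  · constructor
    · intro _ j hj
      omega
    · intro _ e
      have h1 := (subsingleton_ext_loc_iff (p.comap (algebraMap R' A)).primeCompl M k).1
        (subsingleton_ext_of_gt h hdimP _ k (by omega)) e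
      obtain ⟨s, hs⟩ := h1
      exact ⟨s.1, s.2, hs⟩

/-- **Main theorem**: radical of the annihilator of `H^i_𝔪(M)` and stalk vanishing -/
theorem le_radical_iff_stalk (hπ : Function.Surjective (algebraMap R' A)) (d : ℕ)
    (hd : ringKrullDim R' = d) (i : ℕ) (J : Ideal A) :
    J ≤ (Module.annihilator A (LocCoh.H (maximalIdeal A) i M)).radical ↔
      ∀ (p : Ideal A) [p.IsPrime], ¬ J ≤ p → ∀ (c j : ℕ), ringKrullDim (A ⧸ p) = c →
        j + c = i → Subsingleton (LocCoh.H (maximalIdeal (Localization.AtPrime p)) j
          (LocalizedModule p.primeCompl M)) := by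
  by_cases hid : i ≤ d
  · rw [le_radical_iff_ext M hπ d hd (d - i) i (by omega) J]
    haveI : Module.Finite R' (Ext (ModuleCat.of R' M) (ModuleCat.of R' R') (d - i)) :=
      Groth.Agent.Helper6.ExtFin.finite_ext R' (d - i) M
    have h1 := radical_kill_iff (Ext (ModuleCat.of R' M) (ModuleCat.of R' R') (d - i))
      (J.comap (algebraMap R' A))
    have h1' : (∀ r : R', algebraMap R' A r ∈ J → ∃ n : ℕ,
        ∀ e : Ext (ModuleCat.of R' M) (ModuleCat.of R' R') (d - i), r ^ n • e = 0) ↔
        ∀ (P : Ideal R') [P.IsPrime], ¬ J.comap (algebraMap R' A) ≤ P →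
          ∀ e : Ext (ModuleCat.of R' M) (ModuleCat.of R' R') (d - i),
            ∃ s : R', s ∉ P ∧ s • e = 0 := h1
    rw [h1']
    constructor
    · intro hx p _ hJp c j hc hj
      have h2 := hx (p.comap (algebraMap R' A))
        (fun hle => hJp ((Ideal.comap_le_comap_iff_of_surjective _ hπ _ _).1 hle))
      exact (stalk_iff M hπ d hd (d - i) i (by omega) p c hc).1 h2 j hj
    · intro hx P _ hJP e
      by_cases hker : RingHom.ker (algebraMap R' A) ≤ P
      · haveI hp : (P.map (algebraMap R' A)).IsPrime :=
          Ideal.map_isPrime_of_surjective hπ hker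
        have hcomap : (P.map (algebraMap R' A)).comap (algebraMap R' A) = P := by
          rw [Ideal.comap_map_of_surjective' _ hπ]
          exact sup_eq_left.2 hker
        have hJp : ¬ J ≤ P.map (algebraMap R' A) := by
          intro hle
          apply hJP
          rw [← hcomap]
          exact Ideal.comap_mono hle
        have hfin : ringKrullDim (A ⧸ P.map (algebraMap R' A)) ≠ ⊤ := by
          intro htop
          have h3 : ringKrullDim (A ⧸ P.map (algebraMap R' A)) ≤ ringKrullDim A :=
            ringKrullDim_le_of_surjective _ Ideal.Quotient.mk_surjective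
          rw [htop, top_le_iff] at h3
          exact ringKrullDim_ne_top h3
        have hbot : ringKrullDim (A ⧸ P.map (algebraMap R' A)) ≠ ⊥ := by
          haveI : Nontrivial (A ⧸ P.map (algebraMap R' A)) :=
            Ideal.Quotient.nontrivial_iff.2 hp.ne_top
          exact ringKrullDim_ne_bot
        obtain ⟨c, hc⟩ : ∃ c : ℕ, ringKrullDim (A ⧸ P.map (algebraMap R' A)) = c := by
          generalize ringKrullDim (A ⧸ P.map (algebraMap R' A)) = x at hfin hbot
          induction x with
          | bot => exact absurd rfl hbot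
          | coe x =>
            induction x with
            | top => exact absurd rfl hfin
            | coe x => exact ⟨x, rfl⟩
        have h2 := (stalk_iff M hπ d hd (d - i) i (by omega) (P.map (algebraMap R' A)) c hc).2
          (fun j hj => hx (P.map (algebraMap R' A)) hJp c j hc hj) e
        rw [hcomap] at h2
        exact h2
      · obtain ⟨r, hr, hrP⟩ := Set.not_subset.1 hker
        exact ⟨r, hrP, ker_smul_ext M _ _ r hr e⟩
  · push Not at hid
    have hzero : Subsingleton (LocCoh.H (maximalIdeal A) i M) := by
      obtain ⟨φ, -⟩ := exists_addEquiv_maximalIdeal hπ M i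
      haveI := subsingleton_lc_of_gt d hd M i hid
      exact φ.toEquiv.subsingleton
    constructor
    · intro _ p _ hJp c j hc hj
      have hfin : (p.comap (algebraMap R' A)).height ≠ ⊤ :=
        Ideal.height_ne_top (Ideal.IsPrime.ne_top inferInstance)
      obtain ⟨h, hh⟩ := ENat.ne_top_iff_exists.mp hfin
      have hhc : h + c = d := height_comap_add hπ d hd p c h hc hh.symm
      have hdimP : ringKrullDim (Localization.AtPrime (p.comap (algebraMap R' A))) = h := by
        rw [IsLocalization.AtPrime.ringKrullDim_eq_height (p.comap (algebraMap R' A)), ← hh]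
        rfl
      exact subsingleton_lc_loc_of_gt p M hπ h hdimP j (by omega)
    · intro _ a _
      refine Ideal.le_radical ?_
      rw [Module.mem_annihilator]
      intro x
      exact Subsingleton.elim _ _

end F

section Dim

variable (A : Type u) [CommRing A] [IsNoetherianRing A] [IsLocalRing A]

lemma exists_nat_ringKrullDim : ∃ d : ℕ, ringKrullDim A = d := by
  have hfin : ringKrullDim A ≠ ⊤ := ringKrullDim_ne_top
  have hbot : ringKrullDim A ≠ ⊥ := ringKrullDim_ne_bot
  generalize ringKrullDim A = x at hfin hbot
  induction x with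
  | bot => exact absurd rfl hbot
  | coe x =>
    induction x with
    | top => exact absurd rfl hfin
    | coe x => exact ⟨x, rfl⟩

lemma exists_nat_ringKrullDim_quotient (p : Ideal A) [hp : p.IsPrime] :
    ∃ c : ℕ, ringKrullDim (A ⧸ p) = c := by
  have hfin : ringKrullDim (A ⧸ p) ≠ ⊤ := by
    intro htop
    have h3 : ringKrullDim (A ⧸ p) ≤ ringKrullDim A :=
      ringKrullDim_le_of_surjective _ Ideal.Quotient.mk_surjective
    rw [htop, top_le_iff] at h3
    exact ringKrullDim_ne_top h3
  have hbot : ringKrullDim (A ⧸ p) ≠ ⊥ := by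
    haveI : Nontrivial (A ⧸ p) := Ideal.Quotient.nontrivial_iff.2 hp.ne_top
    exact ringKrullDim_ne_bot
  generalize ringKrullDim (A ⧸ p) = x at hfin hbot
  induction x with
  | bot => exact absurd rfl hbot
  | coe x =>
    induction x with
    | top => exact absurd rfl hfin
    | coe x => exact ⟨x, rfl⟩

end Dim

end Groth.Agent.Helper1.Core
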