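import Mathlib
import Groth.Agent.Helper1.LDualJ
import Groth.Agent.Helper6.Matlis2

set_option autoImplicit false

/-!
# Finite length of Artinian modules over a Noetherian local ring
-/

namespace Groth.Agent.Helper1.Core
open IsLocalRing

universe u

variable (A : Type u) [CommRing A] [IsNoetherianRing A] [IsLocalRing A]

/-- an Artinian module over a Noetherian local ring has finite length iff it is killed by a power
of the maximal ideal -/
theorem isFiniteLength_iff_of_isArtinian (X : Type u) [AddCommGroup X] [Module A X]
    [IsArtinian A X] :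
    IsFiniteLength A X ↔ maximalIdeal A ≤ (Module.annihilator A X).radical := by
  constructor
  · intro h a ha
    obtain ⟨k, hk⟩ := LDual.exists_pow_kill X h
    refine ⟨k, ?_⟩
    rw [Module.mem_annihilator]
    exact fun x => hk _ (Ideal.pow_mem_pow ha k) x
  · intro h
    obtain ⟨n, hn⟩ := Ideal.exists_pow_le_of_le_radical_of_fg h (IsNoetherian.noetherian _)
    have htors : Module.IsTorsionBySet A X ((maximalIdeal A ^ n : Ideal A) : Set A) :=
      fun x a => Module.mem_annihilator.1 (hn a.2) x
    letI : Module (A ⧸ maximalIdeal A ^ n) X := htors.module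
    haveI : IsScalarTower A (A ⧸ maximalIdeal A ^ n) X := htors.isScalarTower
    haveI : IsArtinian (A ⧸ maximalIdeal A ^ n) X := isArtinian_of_tower A inferInstance
    haveI : IsArtinian A (A ⧸ maximalIdeal A ^ n) :=
      (isFiniteLength_iff_isNoetherian_isArtinian.1
        (Groth.Agent.Helper6.Matlis.isFiniteLength_quot_pow (R := A) n)).2
    haveI : IsArtinianRing (A ⧸ maximalIdeal A ^ n) := isArtinian_of_tower A inferInstance
    haveI : IsNoetherian (A ⧸ maximalIdeal A ^ n) X :=
      IsSemiprimaryRing.isNoetherian_iff_isArtinian.2 inferInstance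
    haveI : Module.Finite (A ⧸ maximalIdeal A ^ n) X := inferInstance
    haveI : Module.Finite A X := Module.Finite.trans (A ⧸ maximalIdeal A ^ n) X
    exact LDual.isFiniteLength_of_pow_kill X n
      (fun a ha x => Module.mem_annihilator.1 (hn ha) x)

end Groth.Agent.Helper1.Core
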