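import Mathlib
import Groth.Agent.Helper1.LocCohDepth
import Groth.Agent.Helper1.LocCohVanish

set_option autoImplicit false

/-!
# `n < depth N + e` in terms of vanishing of local cohomology
-/

namespace Groth.Agent.Helper1.Core
open IsLocalRing CategoryTheory

universe u

variable (B : Type u) [CommRing B] [IsNoetherianRing B] [IsLocalRing B]
  (N : Type u) [AddCommGroup N] [Module B N] [Module.Finite B N]

theorem lt_depth_add_iff (n e : ℕ) :
    (n : ℕ∞) < LocCoh.depth B N + e ↔
      ∀ j : ℕ, j + e ≤ n → Subsingleton (LocCoh.H (maximalIdeal B) j N) := by
  by_cases hIM : maximalIdeal B • (⊤ : Submodule B N) = ⊤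
  · have hD : LocCoh.depth B N = ⊤ := by
      rw [LocCoh.depth, LocCoh.idealDepth, if_pos hIM]
    have hN : Subsingleton N := by
      have h1 : (⊤ : Submodule B N) = ⊥ :=
        Submodule.eq_bot_of_le_smul_of_le_jacobson_bot (maximalIdeal B) ⊤ Module.Finite.fg_top
          hIM.ge (IsLocalRing.maximalIdeal_le_jacobson _)
      refine ⟨fun x y => ?_⟩
      have hx : x ∈ (⊤ : Submodule B N) := Submodule.mem_top
      have hy : y ∈ (⊤ : Submodule B N) := Submodule.mem_top
      rw [h1, Submodule.mem_bot] at hx hy
      rw [hx, hy]
    rw [hD]
    constructor
    · intro _ j _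
      apply ModuleCat.isZero_iff_subsingleton.1
      apply LocCohVanish.isZero_lc_of_supportDim_lt
      rw [Module.supportDim_eq_bot_of_subsingleton]
      exact WithBot.bot_lt_coe _
    · intro _
      rw [top_add]
      exact ENat.natCast_lt_top n
  · have key := fun k => LocCohDepth.le_idealDepth_iff_lc (maximalIdeal B) N hIM k
    have hD : LocCoh.depth B N = LocCoh.idealDepth (maximalIdeal B) N := rfl
    rw [hD]
    generalize LocCoh.idealDepth (maximalIdeal B) N = D at key
    induction D with
    | top =>
      constructor
      · intro _ j _
        exact (key (j + 1)).1 le_top j (Nat.lt_succ_self j)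
      · intro _
        rw [top_add]
        exact ENat.natCast_lt_top n
    | coe t =>
      constructor
      · intro h j hj
        have h1 : n < t + e := by exact_mod_cast h
        exact (key t).1 le_rfl j (by omega)
      · intro h
        by_contra hcon
        have h1 : ¬ n < t + e := by
          intro h2
          apply hcon
          exact_mod_cast h2
        have h2 : ((t + 1 : ℕ) : ℕ∞) ≤ (t : ℕ∞) := by
          rw [key (t + 1)]
          intro j hj
          exact h j (by omega)
        have : t + 1 ≤ t := by exact_mod_cast h2
        omega

end Groth.Agent.Helper1.Core
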