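import Mathlib
import Groth.Agent.Helper1.CoreC
import Groth.Agent.Helper6.CMCaten
import Groth.Agent.Helper2.RegCM
import Groth.Agent.S0342

set_option autoImplicit false

/-!
# Descending along saturated chains of primes: `H^{t+1}(M_y) = 0 ⇒ H^t(M_z) = 0` for `z ⋖ y`
over a quotient of a regular ring
-/

namespace Groth.Agent.Helper1.Core
open CategoryTheory Limits Opposite IsLocalRing Abelian

universe u

section Height

variable {R : Type u} [CommRing R] [IsNoetherianRing R]

/-- `ht y = ht x + 1` for `x ⋖ y` when `R_y` is Cohen–Macaulay (adapted from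
`Helper6.CMCaten.height_covBy`) -/
theorem height_covBy_of_cm (x y : PrimeSpectrum R) (hxy : x ⋖ y)
    [LocCoh.IsCohenMacaulayLocalRing (Localization.AtPrime y.asIdeal)] :
    y.asIdeal.height = x.asIdeal.height + 1 := by
  set B := Localization.AtPrime y.asIdeal with hB
  have hle : x.asIdeal ≤ y.asIdeal := hxy.1.le
  have hdisj : Disjoint (y.asIdeal.primeCompl : Set R) (x.asIdeal : Set R) := by
    rw [Set.disjoint_left]
    intro a ha hax
    exact ha (hle hax)
  have hPprime : (x.asIdeal.map (algebraMap R B)).IsPrime :=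
    IsLocalization.isPrime_of_isPrime_disjoint y.asIdeal.primeCompl B x.asIdeal x.2 hdisj
  let P : PrimeSpectrum B := ⟨x.asIdeal.map (algebraMap R B), hPprime⟩
  have hcomapP : P.asIdeal.comap (algebraMap R B) = x.asIdeal :=
    IsLocalization.under_map_of_isPrime_disjoint y.asIdeal.primeCompl B x.2 hdisj
  have hcomap_max : (maximalIdeal B).comap (algebraMap R B) = y.asIdeal :=
    IsLocalization.AtPrime.under_maximalIdeal _ y.asIdeal
  have h1 := Groth.Agent.Helper6.CMCaten.dim_eq
    (Groth.Agent.Helper6.CMCaten.hasCMFull_of_cm B) P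
  rw [IsLocalization.AtPrime.ringKrullDim_eq_height y.asIdeal B] at h1
  have h2 : P.asIdeal.height = x.asIdeal.height :=
    IsLocalization.height_map_of_disjoint y.asIdeal.primeCompl x.asIdeal hdisj
  rw [h2, Groth.Agent.Helper2.Caten.dimQuot_eq_coheight P] at h1
  -- coheight of P is 1
  have hcomap_lt : ∀ J K : PrimeSpectrum B, J < K →
      J.asIdeal.comap (algebraMap R B) < K.asIdeal.comap (algebraMap R B) := by
    intro J K hJK
    refine lt_of_le_of_ne (Ideal.comap_mono hJK.le) fun heq => ?_
    have e1 := IsLocalization.map_under y.asIdeal.primeCompl B J.asIdeal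
    have e2 := IsLocalization.map_under y.asIdeal.primeCompl B K.asIdeal
    rw [Ideal.under_def] at e1 e2
    rw [heq, e2] at e1
    exact hJK.ne (PrimeSpectrum.ext e1.symm)
  have hco : Order.coheight P = 1 := by
    apply le_antisymm
    · rw [Order.coheight_le_iff']
      intro s hs
      by_contra hlen
      have hlen2 : 2 ≤ s.length := by
        by_contra h'
        apply hlen
        have : s.length ≤ 1 := by omega
        exact_mod_cast this
      have h01 : s ⟨0, by omega⟩ < s ⟨1, by omega⟩ := s.strictMono (by simp [Fin.lt_def])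
      have h12 : s ⟨1, by omega⟩ < s ⟨2, by omega⟩ := s.strictMono (by simp [Fin.lt_def])
      have hs0 : s ⟨0, by omega⟩ = P := hs
      have c1 := hcomap_lt _ _ h01
      have c2 := hcomap_lt _ _ h12
      rw [hs0, hcomapP] at c1
      have c3 : (s ⟨2, by omega⟩).asIdeal.comap (algebraMap R B) ≤ y.asIdeal :=
        le_trans (Ideal.comap_mono (IsLocalRing.le_maximalIdeal (s ⟨2, by omega⟩).2.ne_top))
          hcomap_max.le
      have hprime : ((s ⟨1, by omega⟩).asIdeal.comap (algebraMap R B)).IsPrime :=
        Ideal.comap_isPrime _ _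
      exact hxy.2 (c := ⟨_, hprime⟩) (show x.asIdeal < _ from c1)
        (show _ < y.asIdeal from lt_of_lt_of_le c2 c3)
    · rw [Order.one_le_iff_ne_zero, Order.coheight_ne_zero]
      intro hmax
      have hPm : P.asIdeal ≤ maximalIdeal B := IsLocalRing.le_maximalIdeal P.2.ne_top
      have : (⟨maximalIdeal B, inferInstance⟩ : PrimeSpectrum B) ≤ P := hmax hPm
      have heq : P.asIdeal = maximalIdeal B := le_antisymm hPm this
      have : x.asIdeal = y.asIdeal := by rw [← hcomapP, heq, hcomap_max]
      exact hxy.1.ne (PrimeSpectrum.ext this)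
  rw [hco] at h1
  have h3 : ((y.asIdeal.height : ℕ∞) : WithBot ℕ∞) =
      ((x.asIdeal.height + 1 : ℕ∞) : WithBot ℕ∞) := by
    rw [h1, add_comm]; rfl
  exact WithBot.coe_eq_coe.mp h3

end Height

section Step

variable {R A : Type u} [CommRing R] [CommRing A] [IsRegularRing R] [IsNoetherianRing A]
  [Algebra R A]
  (M : Type u) [AddCommGroup M] [Module A M] [Module R M] [IsScalarTower R A M]
  [Module.Finite R M]

/-- covering relations of primes of `A` pull back to covering relations of primes of `R` -/
lemma comap_covBy (hπ : Function.Surjective (algebraMap R A)) (z y : PrimeSpectrum A)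
    (hzy : z ⋖ y) :
    (⟨z.asIdeal.comap (algebraMap R A), inferInstance⟩ : PrimeSpectrum R) ⋖
      ⟨y.asIdeal.comap (algebraMap R A), inferInstance⟩ := by
  constructor
  · show z.asIdeal.comap (algebraMap R A) < y.asIdeal.comap (algebraMap R A)
    refine lt_of_le_of_ne (Ideal.comap_mono hzy.1.le) fun heq => ?_
    have := Ideal.comap_injective_of_surjective _ hπ heq
    exact hzy.1.ne (PrimeSpectrum.ext this)
  · intro W hzW hWy
    have hzW' : z.asIdeal.comap (algebraMap R A) < W.asIdeal := hzW
    have hWy' : W.asIdeal < y.asIdeal.comap (algebraMap R A) := hWy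
    have hker : RingHom.ker (algebraMap R A) ≤ W.asIdeal := by
      refine le_trans ?_ hzW'.le
      intro r hr
      rw [Ideal.mem_comap, (RingHom.mem_ker).1 hr]
      exact zero_mem _
    have hp : (W.asIdeal.map (algebraMap R A)).IsPrime :=
      Ideal.map_isPrime_of_surjective hπ hker
    have hcomap : (W.asIdeal.map (algebraMap R A)).comap (algebraMap R A) = W.asIdeal := by
      rw [Ideal.comap_map_of_surjective' _ hπ]
      exact sup_eq_left.2 hker
    refine hzy.2 (c := ⟨W.asIdeal.map (algebraMap R A), hp⟩) ?_ ?_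
    · show z.asIdeal < W.asIdeal.map (algebraMap R A)
      have h1 : z.asIdeal.comap (algebraMap R A) <
          (W.asIdeal.map (algebraMap R A)).comap (algebraMap R A) := by rw [hcomap]; exact hzW'
      refine lt_of_le_of_ne ((Ideal.comap_le_comap_iff_of_surjective _ hπ _ _).1 h1.le) ?_
      intro heq
      rw [heq] at h1
      exact lt_irrefl _ h1
    · show W.asIdeal.map (algebraMap R A) < y.asIdeal
      have h1 : (W.asIdeal.map (algebraMap R A)).comap (algebraMap R A) <
          y.asIdeal.comap (algebraMap R A) := by rw [hcomap]; exact hWy'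
      refine lt_of_le_of_ne ((Ideal.comap_le_comap_iff_of_surjective _ hπ _ _).1 h1.le) ?_
      intro heq
      rw [heq] at h1
      exact lt_irrefl _ h1

/-- one step down a covering of primes -/
theorem lc_step (hπ : Function.Surjective (algebraMap R A)) (z y : PrimeSpectrum A)
    (hzy : z ⋖ y) (t : ℕ)
    (hy : Subsingleton (LocCoh.H (maximalIdeal (Localization.AtPrime y.asIdeal)) (t + 1)
      (LocalizedModule y.asIdeal.primeCompl M))) :
    Subsingleton (LocCoh.H (maximalIdeal (Localization.AtPrime z.asIdeal)) t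
      (LocalizedModule z.asIdeal.primeCompl M)) := by
  have hcov := comap_covBy hπ z y hzy
  haveI : LocCoh.IsCohenMacaulayLocalRing
      (Localization.AtPrime (y.asIdeal.comap (algebraMap R A))) :=
    { supportDim_eq_depth := Groth.Agent.Helper2.RegCM.cm_of_isRegularLocalRing _ }
  have hht := height_covBy_of_cm _ _ hcov
  have hht' : (y.asIdeal.comap (algebraMap R A)).height =
      (z.asIdeal.comap (algebraMap R A)).height + 1 := hht
  haveI : LocCoh.IsGorensteinLocalRing
      (Localization.AtPrime (y.asIdeal.comap (algebraMap R A))) := Groth.Agent.S0342.result _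
  haveI : LocCoh.IsGorensteinLocalRing
      (Localization.AtPrime (z.asIdeal.comap (algebraMap R A))) := Groth.Agent.S0342.result _
  have hfinz : (z.asIdeal.comap (algebraMap R A)).height ≠ ⊤ :=
    Ideal.height_ne_top (Ideal.IsPrime.ne_top inferInstance)
  obtain ⟨hZ, hhZ⟩ := ENat.ne_top_iff_exists.mp hfinz
  rw [← hhZ] at hht'
  have hdimZ : ringKrullDim (Localization.AtPrime (z.asIdeal.comap (algebraMap R A))) = hZ := by
    rw [IsLocalization.AtPrime.ringKrullDim_eq_height (z.asIdeal.comap (algebraMap R A)), ← hhZ]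
    rfl
  have hdimY : ringKrullDim (Localization.AtPrime (y.asIdeal.comap (algebraMap R A))) =
      (hZ + 1 : ℕ) := by
    rw [IsLocalization.AtPrime.ringKrullDim_eq_height (y.asIdeal.comap (algebraMap R A)), hht']
    rfl
  by_cases htZ : t ≤ hZ
  · have coreY := subsingleton_lc_loc_iff_ext y.asIdeal M hπ (hZ + 1) hdimY (hZ - t) (t + 1)
      (by omega)
    have coreZ := subsingleton_lc_loc_iff_ext z.asIdeal M hπ hZ hdimZ (hZ - t) t (by omega)
    rw [coreZ]
    intro e
    obtain ⟨s, hs, hse⟩ := coreY.1 hy e
    refine ⟨s, fun hsz => hs ?_, hse⟩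
    exact Ideal.comap_mono hzy.1.le hsz
  · exact subsingleton_lc_loc_of_gt z.asIdeal M hπ hZ hdimZ t (by omega)

/-- descending along a chain -/
theorem lc_chain (hπ : Function.Surjective (algebraMap R A)) (p : PrimeSpectrum A) :
    ∀ (n : ℕ) (y : Set.Ici p), Order.height y = n → ∀ t : ℕ,
      Subsingleton (LocCoh.H (maximalIdeal (Localization.AtPrime y.1.asIdeal)) (t + n)
        (LocalizedModule y.1.asIdeal.primeCompl M)) →
      Subsingleton (LocCoh.H (maximalIdeal (Localization.AtPrime p.asIdeal)) t
        (LocalizedModule p.asIdeal.primeCompl M)) := by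
  intro n
  induction n with
  | zero =>
    intro y hy t h
    have hmin : IsMin y := by
      rw [← Order.height_eq_zero]
      exact_mod_cast hy
    have hyp : y ≤ ⟨p, Set.mem_Ici.2 le_rfl⟩ := hmin (show (⟨p, Set.mem_Ici.2 le_rfl⟩ : Set.Ici p) ≤ y from y.2)
    obtain rfl : y = ⟨p, Set.mem_Ici.2 le_rfl⟩ := le_antisymm hyp y.2
    exact h
  | succ n ih =>
    intro y hy t h
    have hy' : Order.height y = (n : ℕ∞) + 1 := by exact_mod_cast hy
    obtain ⟨-, ⟨z, hzy, hzn⟩, hall⟩ := Order.height_eq_coe_add_one_iff.1 hy'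
    have hcov : z.1 ⋖ y.1 := by
      refine ⟨hzy, ?_⟩
      intro w hzw hwy
      have hw : p ≤ w := le_trans z.2 hzw.le
      have h1 : Order.height z + 1 ≤ Order.height (⟨w, hw⟩ : Set.Ici p) :=
        Order.height_add_one_le (show z < ⟨w, hw⟩ from hzw)
      have h2 : Order.height (⟨w, hw⟩ : Set.Ici p) ≤ n := hall ⟨w, hw⟩ hwy
      rw [hzn] at h1
      have : ((n + 1 : ℕ) : ℕ∞) ≤ (n : ℕ∞) := by
        push_cast
        exact h1.trans h2
      have : n + 1 ≤ n := by exact_mod_cast this
      omega
    have h1 := lc_step M hπ z.1 y.1 hcov (t + n) h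
    exact ih z hzn t h1

end Step

end Groth.Agent.Helper1.Core
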