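import Mathlib
import Groth.Prelude.Def_SGA2
import Groth.Agent.Helper1.CoreI

set_option autoImplicit false

/-!
# The codimension-one reduction for stalk vanishing (quotients of regular rings)
-/

namespace Groth.Agent.Helper1.Core
open CategoryTheory Limits Opposite IsLocalRing Abelian

universe u

variable {R A : Type u} [CommRing R] [CommRing A] [IsRegularRing R] [IsNoetherianRing A]
  [Algebra R A]
  (M : Type u) [AddCommGroup M] [Module A M] [Module R M] [IsScalarTower R A M]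
  [Module.Finite R M]

theorem relCodim_descend (hπ : Function.Surjective (algebraMap R A)) (I : Ideal A) (i : ℕ)
    (h : ∀ p : PrimeSpectrum A, ¬ I ≤ p.asIdeal → SGA2.relCodim I p = 1 → ∀ j : ℕ, j + 1 = i →
      Subsingleton (LocCoh.H (maximalIdeal (Localization.AtPrime p.asIdeal)) j
        (LocalizedModule p.asIdeal.primeCompl M))) :
    ∀ p : PrimeSpectrum A, ¬ I ≤ p.asIdeal → ∀ (c j : ℕ), SGA2.relCodim I p = c → j + c = i →
      Subsingleton (LocCoh.H (maximalIdeal (Localization.AtPrime p.asIdeal)) j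
        (LocalizedModule p.asIdeal.primeCompl M)) := by
  intro p hp c j hc hj
  have hne : Nonempty {q : PrimeSpectrum A // p ≤ q ∧ I ≤ q.asIdeal} := by
    by_contra hemp
    rw [not_nonempty_iff] at hemp
    have : SGA2.relCodim I p = ⊤ := iInf_of_empty _
    rw [this] at hc
    exact ENat.top_ne_coe c hc
  obtain ⟨q, hq⟩ := ENat.exists_eq_iInf
    (fun q : {q : PrimeSpectrum A // p ≤ q ∧ I ≤ q.asIdeal} =>
      Order.height (⟨q.1, q.2.1⟩ : Set.Ici p))
  have hqc : Order.height (⟨q.1, q.2.1⟩ : Set.Ici p) = c := hq.trans hc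
  -- `c ≠ 0`
  have hc0 : c ≠ 0 := by
    rintro rfl
    have hmin : IsMin (⟨q.1, q.2.1⟩ : Set.Ici p) := by
      rw [← Order.height_eq_zero]
      exact_mod_cast hqc
    have h1 : (⟨q.1, q.2.1⟩ : Set.Ici p) ≤ ⟨p, Set.mem_Ici.2 le_rfl⟩ :=
      hmin (show (⟨p, Set.mem_Ici.2 le_rfl⟩ : Set.Ici p) ≤ ⟨q.1, q.2.1⟩ from q.2.1)
    exact hp (le_trans q.2.2 h1)
  obtain ⟨n, rfl⟩ : ∃ n, c = n + 1 := ⟨c - 1, by omega⟩
  rcases Nat.eq_zero_or_pos n with rfl | hn
  · exact h p hp (by rw [hc]; rfl) j hj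
  · obtain ⟨m, rfl⟩ : ∃ m, n = m + 1 := ⟨n - 1, by omega⟩
    have hqc' : Order.height (⟨q.1, q.2.1⟩ : Set.Ici p) = ((m + 1 : ℕ) : ℕ∞) + 1 := by
      rw [hqc]; push_cast; rfl
    obtain ⟨-, ⟨p', hp'q, hp'n⟩, hall⟩ := Order.height_eq_coe_add_one_iff.1 hqc'
    -- `p' ⋖ q`
    have hcov : p'.1 ⋖ q.1 := by
      refine ⟨hp'q, ?_⟩
      intro w hzw hwy
      have hw : p ≤ w := le_trans p'.2 hzw.le
      have h1 : Order.height p' + 1 ≤ Order.height (⟨w, hw⟩ : Set.Ici p) :=
        Order.height_add_one_le (show p' < ⟨w, hw⟩ from hzw)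
      have h2 : Order.height (⟨w, hw⟩ : Set.Ici p) ≤ ((m + 1 : ℕ) : ℕ∞) := hall ⟨w, hw⟩ hwy
      rw [hp'n] at h1
      have : ((m + 1 + 1 : ℕ) : ℕ∞) ≤ ((m + 1 : ℕ) : ℕ∞) := by
        push_cast
        push_cast at h1 h2
        exact h1.trans h2
      have : m + 1 + 1 ≤ m + 1 := by exact_mod_cast this
      omega
    -- `I ⊄ p'`
    have hIp' : ¬ I ≤ p'.1.asIdeal := by
      intro hI
      have h1 : SGA2.relCodim I p ≤ Order.height p' :=
        iInf_le (fun q : {q : PrimeSpectrum A // p ≤ q ∧ I ≤ q.asIdeal} =>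
          Order.height (⟨q.1, q.2.1⟩ : Set.Ici p)) ⟨p'.1, p'.2, hI⟩
      rw [hc, hp'n] at h1
      have : m + 1 + 1 ≤ m + 1 := by exact_mod_cast h1
      omega
    -- `relCodim I p' = 1`
    have hrel : SGA2.relCodim I p'.1 = 1 := by
      apply le_antisymm
      · refine iInf_le_of_le ⟨q.1, hp'q.le, q.2.2⟩ ?_
        have h1 : Order.height (⟨q.1, hp'q.le⟩ : Set.Ici p'.1) ≤ ((1 : ℕ) : ℕ∞) := by
          rw [Order.height_le_coe_iff]
          intro y hy
          have hy' : y.1 < q.1 := hy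
          have hyp : y = ⟨p'.1, Set.mem_Ici.2 le_rfl⟩ := by
            apply Subtype.ext
            by_contra hne
            exact hcov.2 (lt_of_le_of_ne y.2 (Ne.symm hne)) hy'
          have hmin : IsMin y := by
            rw [hyp]
            intro z _
            exact z.2
          rw [Order.height_eq_zero.2 hmin]
          exact_mod_cast Nat.one_pos
        exact_mod_cast h1
      · refine le_iInf fun q' => ?_
        rw [Order.one_le_iff_ne_zero, Ne, Order.height_eq_zero]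
        intro hmin
        have h1 : (⟨q'.1, q'.2.1⟩ : Set.Ici p'.1) ≤ ⟨p'.1, Set.mem_Ici.2 le_rfl⟩ :=
          hmin (show (⟨p'.1, Set.mem_Ici.2 le_rfl⟩ : Set.Ici p'.1) ≤ ⟨q'.1, q'.2.1⟩ from q'.2.1)
        exact hIp' (le_trans q'.2.2 h1)
    have h1 := h p'.1 hIp' hrel (j + (m + 1)) (by omega)
    exact lc_chain M hπ p (m + 1) p' hp'n j h1

end Groth.Agent.Helper1.Core
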