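import Mathlib
import Groth.Agent.Helper1.LocCohBase

set_option autoImplicit false

/-!
# Local cohomology commutes with localization
-/

namespace Groth.Agent.Helper1.LocCohLocS
open CategoryTheory Limits Opposite
open Groth.Agent.Helper1.DeltaFun Groth.Agent.Helper1.LocCohDelta Groth.Agent.Helper1.LocFun

universe u

variable {R : Type u} [CommRing R] (S : Submonoid R) (I : Ideal R)

/-- if `I^m` kills `x / s` then some `t • x`, `t ∈ S`, is killed by `I^m` -/
lemma exists_smul_mem_torsionSub [IsNoetherianRing R] {M : Type u} [AddCommGroup M] [Module R M]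
    (x : M) (s : S) (hz : LocalizedModule.mk x s ∈ DRing.torsionSub I (LocalizedModule S M)) :
    ∃ t : S, t • x ∈ DRing.torsionSub I M := by
  classical
  obtain ⟨m, hm⟩ := hz
  obtain ⟨g, hg⟩ : (I ^ m).FG := IsNoetherian.noetherian _
  have h1 : ∀ c ∈ g, ∃ t : S, t • c • x = 0 := by
    intro c hc
    have h2 := hm c (hg ▸ Submodule.subset_span hc)
    rw [LocalizedModule.smul'_mk, ← LocalizedModule.zero_mk s, LocalizedModule.mk_eq] at h2
    obtain ⟨u, hu⟩ := h2
    refine ⟨u * s, ?_⟩
    rw [mul_smul]
    rw [hu, smul_zero, smul_zero]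
  choose! t ht using h1
  refine ⟨∏ c ∈ g, t c, m, fun c hc => ?_⟩
  rw [← hg] at hc
  induction hc using Submodule.span_induction with
  | mem c hc =>
    obtain ⟨k, hk⟩ := Finset.dvd_prod_of_mem t hc
    rw [smul_comm, hk, mul_comm, mul_smul, ht c hc, smul_zero]
  | zero => rw [zero_smul]
  | add c d _ _ hc hd => rw [add_smul, hc, hd, add_zero]
  | smul r c _ hc => rw [smul_eq_mul, mul_smul, hc, smul_zero]

end Groth.Agent.Helper1.LocCohLocS

namespace Groth.Agent.Helper1.LocCohLocS
open CategoryTheory Limits Opposite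
open Groth.Agent.Helper1.DeltaFun Groth.Agent.Helper1.LocCohDelta Groth.Agent.Helper1.LocFun

universe u

variable {R : Type u} [CommRing R] (S : Submonoid R) (I : Ideal R)

lemma locFunctor_map_mk {M N : ModuleCat.{u} R} (g : M ⟶ N) (x : M) (s : S) :
    ((DerCA.locFunctor S).map g).hom (LocalizedModule.mk x s) = LocalizedModule.mk (g.hom x) s := by
  show (IsLocalizedModule.map S (LocalizedModule.mkLinearMap S M)
    (LocalizedModule.mkLinearMap S N) g.hom) (LocalizedModule.mk x s) =
      LocalizedModule.mk (g.hom x) s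
  rw [IsLocalizedModule.mk_eq_mk', IsLocalizedModule.map_mk', ← IsLocalizedModule.mk_eq_mk']

lemma map_ι_mem (M : ModuleCat.{u} R) (z : (DerCA.locFunctor S).obj ((DRing.gammaI I).obj M)) :
    ((DerCA.locFunctor S).map ((DRing.gammaIι I).app M)).hom z ∈
      DRing.torsionSub I (LocalizedModule S M) := by
  induction z using LocalizedModule.induction_on with
  | h x s =>
    obtain ⟨x, m, hm⟩ := x
    rw [locFunctor_map_mk]
    refine ⟨m, fun c hc => ?_⟩
    change c • LocalizedModule.mk x s = 0
    rw [LocalizedModule.smul'_mk, hm c hc, LocalizedModule.zero_mk]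

/-- the comparison `Γ_I(M)_S ⟶ Γ_I(M_S)` -/
noncomputable def θapp (M : ModuleCat.{u} R) :
    (DRing.gammaI I ⋙ DerCA.locFunctor S).obj M ⟶ (DerCA.locFunctor S ⋙ DRing.gammaI I).obj M :=
  ModuleCat.ofHom (LinearMap.codRestrict (DRing.torsionSub I (LocalizedModule S M))
    ((DerCA.locFunctor S).map ((DRing.gammaIι I).app M)).hom (map_ι_mem S I M))

lemma θapp_val (M : ModuleCat.{u} R) (z : (DerCA.locFunctor S).obj ((DRing.gammaI I).obj M)) :
    @Subtype.val (LocalizedModule S M) (fun w => w ∈ DRing.torsionSub I (LocalizedModule S M))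
      ((θapp S I M).hom z) = ((DerCA.locFunctor S).map ((DRing.gammaIι I).app M)).hom z := rfl

/-- the natural transformation `Γ_I(-)_S ⟶ Γ_I((-)_S)` -/
noncomputable def θ : DRing.gammaI I ⋙ DerCA.locFunctor S ⟶ DerCA.locFunctor S ⋙ DRing.gammaI I where
  app M := θapp S I M
  naturality M N f := by
    ext z
    apply Subtype.ext
    have h1 : ((DerCA.locFunctor S).map ((DRing.gammaI I).map f) ≫
        (DerCA.locFunctor S).map ((DRing.gammaIι I).app N)) =
        (DerCA.locFunctor S).map ((DRing.gammaIι I).app M) ≫ (DerCA.locFunctor S).map f := by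
      rw [← Functor.map_comp, ← Functor.map_comp]
      congr 1
    exact congrArg (fun t => t.hom z) h1

lemma θapp_bijective [IsNoetherianRing R] (M : ModuleCat.{u} R) :
    Function.Bijective (θapp S I M).hom := by
  constructor
  · intro z₁ z₂ h
    have h1 := congrArg Subtype.val h
    rw [θapp_val, θapp_val] at h1
    have hinj : Function.Injective ((DerCA.locFunctor S).map ((DRing.gammaIι I).app M)).hom := by
      show Function.Injective (IsLocalizedModule.map S
        (LocalizedModule.mkLinearMap S (DRing.torsionSub I M))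
        (LocalizedModule.mkLinearMap S M) (DRing.torsionSub I M).subtype)
      exact IsLocalizedModule.map_injective S _ _ _ (Submodule.injective_subtype _)
    exact hinj h1
  · rintro ⟨z, hz⟩
    induction z using LocalizedModule.induction_on with
    | h x s =>
      obtain ⟨t, ht⟩ := exists_smul_mem_torsionSub S I x s hz
      refine ⟨LocalizedModule.mk ⟨t • x, ht⟩ (t * s), Subtype.ext ?_⟩
      rw [θapp_val, locFunctor_map_mk]
      exact LocalizedModule.mk_cancel_common_left t s x

instance [IsNoetherianRing R] (M : ModuleCat.{u} R) : IsIso ((θ S I).app M) :=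
  (ConcreteCategory.isIso_iff_bijective _).2 (θapp_bijective S I M)

instance [IsNoetherianRing R] : IsIso (θ S I) := NatIso.isIso_of_isIso_app _

end Groth.Agent.Helper1.LocCohLocS

namespace Groth.Agent.Helper1.LocCohLocS
open CategoryTheory Limits Opposite
open Groth.Agent.Helper1.DeltaFun Groth.Agent.Helper1.LocCohDelta Groth.Agent.Helper1.LocFun

universe u

variable {R : Type u} [CommRing R] [IsNoetherianRing R] (S : Submonoid R) (I : Ideal R)

/-- `H^•_I(-)_S` -/
noncomputable abbrev T₄ : DeltaFunctor (ModuleCat.{u} R) (ModuleCat.{u} R) :=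
  (lcDelta I).postcomp (DerCA.locFunctor S)

/-- `H^•_I((-)_S)` -/
noncomputable abbrev T₂ : DeltaFunctor (ModuleCat.{u} R) (ModuleCat.{u} R) :=
  (lcDelta I).precomp (DerCA.locFunctor S) (fun T hT => map_shortExact S T hT)

omit [IsNoetherianRing R] in
lemma T₄_effaceable : (T₄ S I).Effaceable := fun E _ n =>
  Functor.map_isZero (DerCA.locFunctor S) (lcDelta_effaceable _ E n)

lemma T₂_effaceable : (T₂ S I).Effaceable := fun E _ n =>
  lcDelta_effaceable I ((DerCA.locFunctor S).obj E) n

/-- the degree `0` comparison -/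
noncomputable def e₀ : (T₄ S I).T 0 ≅ (T₂ S I).T 0 :=
  Functor.isoWhiskerRight (lcZeroIso I) (DerCA.locFunctor S) ≪≫ asIso (θ S I) ≪≫
    (Functor.isoWhiskerLeft (DerCA.locFunctor S) (lcZeroIso I)).symm

/-- local cohomology commutes with localization -/
noncomputable def locIso (n : ℕ) :
    localCohomology I n ⋙ DerCA.locFunctor S ≅ DerCA.locFunctor S ⋙ localCohomology I n :=
  isoOfEffaceable (T := T₄ S I) (T' := T₂ S I) (T₄_effaceable S I) (T₂_effaceable S I) (e₀ S I) n

end Groth.Agent.Helper1.LocCohLocS

namespace Groth.Agent.Helper1.LocCohLocS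
open CategoryTheory Limits Opposite
open Groth.Agent.Helper1.DeltaFun Groth.Agent.Helper1.LocCohDelta Groth.Agent.Helper1.LocFun
open Groth.Agent.Helper1.LocCohBase

universe u

variable {R : Type u} [CommRing R] [IsNoetherianRing R] (S : Submonoid R) (I : Ideal R)

/-- `S⁻¹H^i_I(M) ≅ H^i_{IS⁻¹R}(S⁻¹M)` over `S⁻¹R` -/
theorem nonempty_localized_linearEquiv (M : Type u) [AddCommGroup M] [Module R M] (i : ℕ) :
    Nonempty (LocalizedModule S ((localCohomology I i).obj (ModuleCat.of R M)) ≃ₗ[Localization S]
      (localCohomology (I.map (algebraMap R (Localization S))) i).obj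
        (ModuleCat.of (Localization S) (LocalizedModule S M))) := by
  have : IsNoetherianRing (Localization S) := IsLocalization.isNoetherianRing S _ inferInstance
  let B := (localCohomology (I.map (algebraMap R (Localization S))) i).obj
    (ModuleCat.of (Localization S) (LocalizedModule S M))
  let e₁ : LocalizedModule S ((localCohomology I i).obj (ModuleCat.of R M)) ≃ₗ[R]
      (localCohomology I i).obj (ModuleCat.of R (LocalizedModule S M)) :=
    ((locIso S I i).app (ModuleCat.of R M)).toLinearEquiv
  let e₂ : (Res R (Localization S)).obj B ≅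
      (localCohomology I i).obj (ModuleCat.of R (LocalizedModule S M)) :=
    (baseIso (R' := Localization S) I i).app (ModuleCat.of (Localization S) (LocalizedModule S M)) ≪≫
      (localCohomology I i).mapIso (resObjIso (LocalizedModule S M))
  let e : LocalizedModule S ((localCohomology I i).obj (ModuleCat.of R M)) ≃ₗ[R]
      (Res R (Localization S)).obj B := e₁ ≪≫ₗ e₂.toLinearEquiv.symm
  haveI : IsScalarTower R (Localization S) ((Res R (Localization S)).obj B) :=
    IsScalarTower.of_algebraMap_smul (fun _ _ => rfl)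
  have E := LinearEquiv.extendScalarsOfIsLocalization S (Localization S) e
  exact ⟨E⟩

end Groth.Agent.Helper1.LocCohLocS
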