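import Mathlib
import Groth.Agent.Helper1.LocCohDepth
import Groth.Agent.Helper1.LocCohLocS
import Groth.Agent.Helper1.LocCohFinite
import Groth.Agent.Helper1.LocCohLinear

set_option autoImplicit false

/-!
# Towards `f_a^b(M) ≤ λ_a^b(M)` (Brodmann–Sharp 9.3.5): basic predicates

* `PK s X`: some power of `s` kills `X`;
* `LZ p X`: the localization of `X` at `p` vanishes;
* `DP p t M`: `depth M_p = t`, expressed through `H^i_p(M)`.
-/

namespace Groth.Agent.Helper1.Faltings
open CategoryTheory Limits IsLocalRing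
open Groth.Agent.Helper1.DeltaFun Groth.Agent.Helper1.LocCohDelta

universe u

variable {R : Type u} [CommRing R]

/-- some power of `s` kills `X` -/
def PK (s : R) (X : Type*) [AddCommGroup X] [Module R X] : Prop :=
  ∃ k : ℕ, ∀ z : X, s ^ k • z = 0

/-- the localization of `X` at `p` vanishes -/
def LZ (p : Ideal R) (X : Type*) [AddCommGroup X] [Module R X] : Prop :=
  ∀ z : X, ∃ u : R, u ∉ p ∧ u • z = 0

lemma PK_of_exact {X Y Z : ModuleCat.{u} R} (f : X ⟶ Y) (g : Y ⟶ Z) (w : f ≫ g = 0)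
    (hex : (ShortComplex.mk f g w).Exact) (s : R) (hX : PK s X) (hZ : PK s Z) : PK s Y := by
  obtain ⟨k, hk⟩ := hX
  obtain ⟨l, hl⟩ := hZ
  exact ⟨k + l, fun y => by
    rw [pow_add]
    exact LocCohFinite.mul_smul_eq_zero_of_exact f g w hex _ _ hk hl y⟩

lemma PK_mul_right (s t : R) {X : Type*} [AddCommGroup X] [Module R X] (h : PK s X) :
    PK (s * t) X := by
  obtain ⟨k, hk⟩ := h
  exact ⟨k, fun z => by rw [mul_pow, mul_comm, mul_smul, hk, smul_zero]⟩

lemma PK_mul_left (s t : R) {X : Type*} [AddCommGroup X] [Module R X] (h : PK s X) :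
    PK (t * s) X := by
  rw [mul_comm]
  exact PK_mul_right s t h

lemma PK_of_smul_eq_zero (s : R) {X : Type*} [AddCommGroup X] [Module R X]
    (h : ∀ z : X, s • z = 0) : PK s X :=
  ⟨1, fun z => by rw [pow_one]; exact h z⟩

lemma mem_radical_annihilator_iff (s : R) (X : Type*) [AddCommGroup X] [Module R X] :
    s ∈ (Module.annihilator R X).radical ↔ PK s X := by
  constructor
  · rintro ⟨k, hk⟩
    exact ⟨k, fun z => Module.mem_annihilator.1 hk z⟩
  · rintro ⟨k, hk⟩
    exact ⟨k, Module.mem_annihilator.2 hk⟩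

lemma LZ_of_exact (p : Ideal R) [hp : p.IsPrime] {X Y Z : ModuleCat.{u} R} (f : X ⟶ Y) (g : Y ⟶ Z)
    (w : f ≫ g = 0) (hex : (ShortComplex.mk f g w).Exact) (hX : LZ p X) (hZ : LZ p Z) :
    LZ p Y := by
  intro y
  rw [ShortComplex.moduleCat_exact_iff] at hex
  obtain ⟨u, hu, huy⟩ := hZ (g.hom y)
  have h1 : g.hom (u • y) = 0 := by rw [map_smul]; exact huy
  obtain ⟨x, hx⟩ := hex (u • y) h1
  have hx' : f.hom x = u • y := hx
  obtain ⟨v, hv, hvx⟩ := hX x
  refine ⟨v * u, fun h => (hp.mem_or_mem h).elim hv hu, ?_⟩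
  rw [mul_smul, ← hx', ← map_smul, hvx, map_zero]

lemma LZ_of_PK (p : Ideal R) [hp : p.IsPrime] (s : R) (hs : s ∉ p) {X : Type*} [AddCommGroup X]
    [Module R X] (h : PK s X) : LZ p X := by
  obtain ⟨k, hk⟩ := h
  exact fun z => ⟨s ^ k, fun h' => hs (hp.mem_of_pow_mem _ h'), hk z⟩

lemma LZ_iff_subsingleton (p : Ideal R) [hp : p.IsPrime] (X : Type*) [AddCommGroup X]
    [Module R X] : LZ p X ↔ Subsingleton (LocalizedModule p.primeCompl X) := by
  rw [LocalizedModule.subsingleton_iff]
  constructor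
  · intro h z
    obtain ⟨u, hu, huz⟩ := h z
    exact ⟨u, hu, huz⟩
  · intro h z
    obtain ⟨u, hu, huz⟩ := h z
    exact ⟨u, hu, huz⟩

section les

variable [IsNoetherianRing R] (a : Ideal R) (P : ModuleCat.{u} R → Prop)
  (hP : ∀ {X Y Z : ModuleCat.{u} R} (f : X ⟶ Y) (g : Y ⟶ Z) (w : f ≫ g = 0),
    (ShortComplex.mk f g w).Exact → P X → P Z → P Y)
  (S : ShortComplex (ModuleCat.{u} R)) (hS : S.ShortExact)

include hP hS

lemma lc_mid (i : ℕ) (h₁ : P ((localCohomology a i).obj S.X₁))
    (h₃ : P ((localCohomology a i).obj S.X₃)) : P ((localCohomology a i).obj S.X₂) :=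
  hP _ _ _ (LocCohVanish.lc_exact₂ a S hS i) h₁ h₃

lemma lc_right (i : ℕ) (h₂ : P ((localCohomology a i).obj S.X₂))
    (h₁ : P ((localCohomology a (i + 1)).obj S.X₁)) : P ((localCohomology a i).obj S.X₃) :=
  hP _ _ _ ((lcDelta a).exact₃ S hS i) h₂ h₁

lemma lc_left (i : ℕ) (h₃ : P ((localCohomology a i).obj S.X₃))
    (h₂ : P ((localCohomology a (i + 1)).obj S.X₂)) : P ((localCohomology a (i + 1)).obj S.X₁) :=
  hP _ _ _ ((lcDelta a).exact₁ S hS i) h₃ h₂

end les

/-- `depth M_p = t`, expressed through the local cohomology modules `H^i_p(M)` -/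
def DP (p : Ideal R) (t : ℕ) (M : Type u) [AddCommGroup M] [Module R M] : Prop :=
  (∀ i : ℕ, i < t → LZ p (LocCoh.H p i M)) ∧ ¬ LZ p (LocCoh.H p t M)

theorem DP_of_depth_eq [IsNoetherianRing R] (p : Ideal R) [hp : p.IsPrime] (M : Type u)
    [AddCommGroup M] [Module R M] [Module.Finite R M] (t : ℕ)
    (h : LocCoh.depth (Localization.AtPrime p) (LocalizedModule p.primeCompl M) = t) :
    DP p t M := by
  classical
  let S := p.primeCompl
  haveI : IsNoetherianRing (Localization.AtPrime p) :=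
    IsLocalization.isNoetherianRing S _ inferInstance
  haveI : Module.Finite (Localization.AtPrime p) (LocalizedModule S M) :=
    Module.Finite.of_isLocalizedModule S (LocalizedModule.mkLinearMap S M)
  have hIM : maximalIdeal (Localization.AtPrime p) •
      (⊤ : Submodule (Localization.AtPrime p) (LocalizedModule S M)) ≠ ⊤ := by
    intro htop
    unfold LocCoh.depth LocCoh.idealDepth at h
    rw [if_pos htop] at h
    exact ENat.top_ne_coe t h
  have h2 := (LocCohDepth.idealDepth_eq_iff (maximalIdeal (Localization.AtPrime p))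
    (LocalizedModule S M) hIM t).1 h
  have hmap : p.map (algebraMap R (Localization.AtPrime p)) =
      maximalIdeal (Localization.AtPrime p) := Localization.AtPrime.map_eq_maximalIdeal
  have he : ∀ i : ℕ, Nonempty (LocalizedModule S (LocCoh.H p i M) ≃ₗ[Localization.AtPrime p]
      LocCoh.H (maximalIdeal (Localization.AtPrime p)) i (LocalizedModule S M)) := by
    intro i
    have := LocCohLocS.nonempty_localized_linearEquiv S p M i
    rw [hmap] at this
    exact this
  constructor
  · intro i hi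
    obtain ⟨e⟩ := he i
    rw [LZ_iff_subsingleton]
    haveI := h2.1 i hi
    exact e.toEquiv.subsingleton
  · intro hLZ
    obtain ⟨e⟩ := he t
    rw [LZ_iff_subsingleton] at hLZ
    haveI := h2.2
    haveI : Nontrivial (LocalizedModule S (LocCoh.H p t M)) := e.toEquiv.nontrivial
    exact not_subsingleton _ hLZ

end Groth.Agent.Helper1.Faltings
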