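import Mathlib
import Groth.Agent.Helper1.LocCohNonvanish
import Groth.Agent.Helper1.LocCohBase

set_option autoImplicit false

/-!
# `H^1_a(M)` is not annihilated by elements outside an associated prime `p` with `ht (a+p)/p = 1`
(local case)
-/

namespace Groth.Agent.Helper1.LocCohAss
open CategoryTheory Limits Opposite IsLocalRing
open Groth.Agent.Helper1.DeltaFun Groth.Agent.Helper1.LocCohDelta

universe u

variable {R : Type u} [CommRing R] [IsNoetherianRing R] [IsLocalRing R]

/-- `H^1_a(R/p) ≠ 0` when `rad(a+p) ⊇ 𝔪` and `dim R/p = 1` -/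
lemma nontrivial_lc_one_quotient (a p : Ideal R) [p.IsPrime] (ha : a ≤ maximalIdeal R)
    (hrad : maximalIdeal R ≤ (a ⊔ p).radical) (hdim : ringKrullDim (R ⧸ p) = 1) :
    Nontrivial ((localCohomology a 1).obj (ModuleCat.of R (R ⧸ p))) := by
  have hnv := LocCohNonvanish.nonvanishing (R := R) 1 (R ⧸ p)
    (by rw [Module.supportDim_quotient_eq_ringKrullDim, hdim]; rfl)
  rw [ModuleCat.isZero_iff_subsingleton, not_subsingleton_iff_nontrivial] at hnv
  obtain ⟨φa, -⟩ := LocCohBase.exists_addEquiv (R := R) (R' := R ⧸ p) a (R ⧸ p) 1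
  obtain ⟨φm, -⟩ := LocCohBase.exists_addEquiv (R := R) (R' := R ⧸ p) (maximalIdeal R) (R ⧸ p) 1
  have hr : (a.map (algebraMap R (R ⧸ p))).radical =
      ((maximalIdeal R).map (algebraMap R (R ⧸ p))).radical := by
    apply le_antisymm
    · exact Ideal.radical_mono (Ideal.map_mono ha)
    · rw [Ideal.radical_le_radical_iff, Ideal.map_le_iff_le_comap]
      intro x hx
      obtain ⟨k, hk⟩ := hrad hx
      obtain ⟨y, hy, z, hz, hyz⟩ := Submodule.mem_sup.1 hk
      refine ⟨k, ?_⟩
      rw [← map_pow, ← hyz, map_add]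
      have hz0 : algebraMap R (R ⧸ p) z = 0 := Ideal.Quotient.eq_zero_iff_mem.2 hz
      rw [hz0, add_zero]
      exact Ideal.mem_map_of_mem _ hy
  let e := (localCohomology.isoOfSameRadical hr 1).app (ModuleCat.of (R ⧸ p) (R ⧸ p))
  exact (φa.symm.toEquiv.trans (e.toLinearEquiv.toEquiv.trans φm.toEquiv)).nontrivial


/-- the local case: `s ∉ p`, `p ∈ Ass M`, `dim R/p = 1`, `rad(a+p) = 𝔪`; then no power of `s`
kills `H^1_a(M)` -/
theorem exists_smul_ne_zero (a p : Ideal R) [hpp : p.IsPrime] (ha : a ≤ maximalIdeal R)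
    (hrad : maximalIdeal R ≤ (a ⊔ p).radical) (hdim : ringKrullDim (R ⧸ p) = 1)
    (M : Type u) [AddCommGroup M] [Module R M] [Module.Finite R M]
    (hp : p ∈ associatedPrimes R M) (s : R) (hs : s ∉ p) (n : ℕ) :
    ∃ z : (localCohomology a 1).obj (ModuleCat.of R M), s ^ n • z ≠ 0 := by
  by_contra hcon
  push Not at hcon
  -- an element of `𝔪 ∖ p`
  have hpm : ∃ y ∈ maximalIdeal R, y ∉ p := by
    by_contra h
    push Not at h
    have hpe : p = maximalIdeal R := le_antisymm (le_maximalIdeal hpp.ne_top) h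
    subst hpe
    rw [LocCohNonvanish.ringKrullDim_quotient_maximalIdeal] at hdim
    exact zero_ne_one hdim
  obtain ⟨y, hym, hyp⟩ := hpm
  set t := s ^ n * y with ht
  have htm : t ∈ maximalIdeal R := Ideal.mul_mem_left _ _ hym
  have htp : t ∉ p := fun h => (hpp.mem_or_mem h).elim
    (fun h' => hs (hpp.mem_of_pow_mem _ h')) hyp
  have hkill : ∀ z : (localCohomology a 1).obj (ModuleCat.of R M), t • z = 0 := by
    intro z
    rw [ht, mul_comm, mul_smul, hcon, smul_zero]
  -- the injection `R/p → M`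
  obtain ⟨-, x, hx⟩ := isAssociatedPrime_iff.1 hp
  let f : (R ⧸ p) →ₗ[R] M := Submodule.liftQ p (LinearMap.toSpanSingleton R M x) (by
    intro r hr
    rw [hx, Submodule.mem_colon_singleton, Submodule.mem_bot] at hr
    rw [LinearMap.mem_ker, LinearMap.toSpanSingleton_apply]
    exact hr)
  have hf : Function.Injective f := by
    rw [← LinearMap.ker_eq_bot, Submodule.ker_liftQ_eq_bot']
    ext r
    rw [LinearMap.mem_ker, LinearMap.toSpanSingleton_apply, hx, Submodule.mem_colon_singleton,
      Submodule.mem_bot]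
  let S : ShortComplex (ModuleCat.{u} R) :=
    ShortComplex.mk (ModuleCat.ofHom f) (ModuleCat.ofHom (LinearMap.range f).mkQ) (by
      ext r
      simp)
  have hS : S.ShortExact := by
    refine ShortComplex.ShortExact.mk' ?_ ?_ ?_
    · rw [ShortComplex.moduleCat_exact_iff_range_eq_ker]
      show LinearMap.range f = LinearMap.ker (LinearMap.range f).mkQ
      rw [Submodule.ker_mkQ]
    · exact (ModuleCat.mono_iff_injective _).2 hf
    · exact (ModuleCat.epi_iff_surjective _).2 (Submodule.mkQ_surjective _)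
  have hex := (lcDelta a).exact₁ S hS 0
  haveI := nontrivial_lc_one_quotient a p ha hrad hdim
  have hsurj := LocCohNonvanish.smul_surjective_quotient_prime ⟨p, hpp⟩ 1 hdim t htp a
  have hzero : ∀ w : (localCohomology a 1).obj (ModuleCat.of R (R ⧸ p)),
      ((localCohomology a 1).map S.f).hom w = 0 := by
    intro w
    obtain ⟨w', rfl⟩ := hsurj w
    show ((localCohomology a 1).map S.f).hom (t • w') = 0
    rw [map_smul]
    exact hkill _
  have hδ : Function.Surjective ((lcDelta a).δ S hS 0).hom := by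
    intro w
    rw [ShortComplex.moduleCat_exact_iff] at hex
    exact hex w (hzero w)
  haveI : Module.Finite R S.X₃ :=
    Module.Finite.of_surjective (LinearMap.range f).mkQ (Submodule.mkQ_surjective _)
  haveI hfin0 : Module.Finite R (((lcDelta a).T 0).obj S.X₃) :=
    LocCohFinite.finite_lc_zero a (M ⧸ LinearMap.range f)
  haveI hfinW : Module.Finite R ((localCohomology a 1).obj (ModuleCat.of R (R ⧸ p))) :=
    Module.Finite.of_surjective ((lcDelta a).δ S hS 0).hom hδ
  have hne := Submodule.top_ne_pointwise_smul_of_mem_jacobson_annihilator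
    (M := (localCohomology a 1).obj (ModuleCat.of R (R ⧸ p))) (r := t)
    (maximalIdeal_le_jacobson _ htm)
  apply hne
  rw [eq_comm, eq_top_iff]
  intro c _
  obtain ⟨c', rfl⟩ := hsurj c
  exact Submodule.smul_mem_pointwise_smul _ _ _ Submodule.mem_top

end Groth.Agent.Helper1.LocCohAss
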