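import Mathlib
import Groth.Agent.Helper1.LocCohAss
import Groth.Agent.Helper1.LocCohLocS
import Groth.Agent.Helper2.Isch
import Groth.Agent.Helper6.DepthHt

set_option autoImplicit false

/-!
# `b ⊄ rad Ann H^1_a(M)` for `p ∈ Ass M`, `b ⊄ p`, `ht (a+p)/p = 1`
-/

namespace Groth.Agent.Helper1.LocCohAssGlobal
open IsLocalRing

universe u

variable {R : Type u} [CommRing R] [IsNoetherianRing R]

/-- a prime `q` minimal over `a ⊔ p` with `ht q/p = ht (a+p)/p` (finite) -/
lemma exists_prime (a p : Ideal R) [hpp : p.IsPrime] (n : ℕ)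
    (hht : ((a ⊔ p).map (Ideal.Quotient.mk p)).height = n) :
    ∃ q : Ideal R, q.IsPrime ∧ a ⊔ p ≤ q ∧ (q.map (Ideal.Quotient.mk p)).height = n ∧
      ∀ P : Ideal R, P.IsPrime → a ⊔ p ≤ P → P ≤ q → P = q := by
  obtain ⟨Q, hQ, hIQ, hQht⟩ := Ideal.exists_isPrime_height_eq hht
  have hqQ : (Q.comap (Ideal.Quotient.mk p)).map (Ideal.Quotient.mk p) = Q :=
    Ideal.map_comap_of_surjective _ Ideal.Quotient.mk_surjective Q
  refine ⟨Q.comap (Ideal.Quotient.mk p), Ideal.comap_isPrime _ _, Ideal.map_le_iff_le_comap.1 hIQ,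
    by rw [hqQ, hQht], ?_⟩
  intro P hP haP hPq
  have hpP : p ≤ P := le_sup_right.trans haP
  haveI hP' : (P.map (Ideal.Quotient.mk p)).IsPrime :=
    Ideal.map_isPrime_of_surjective Ideal.Quotient.mk_surjective (by rw [Ideal.mk_ker]; exact hpP)
  have h1 : P.map (Ideal.Quotient.mk p) ≤ Q := by
    rw [← hqQ]
    exact Ideal.map_mono hPq
  have h2 : (a ⊔ p).map (Ideal.Quotient.mk p) ≤ P.map (Ideal.Quotient.mk p) := Ideal.map_mono haP
  have h3 : Q.height ≤ (P.map (Ideal.Quotient.mk p)).height := by
    rw [hQht, ← hht]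
    exact Ideal.height_mono h2
  have h4 : P.map (Ideal.Quotient.mk p) = Q := Ideal.eq_of_le_of_height_le _ h1 h3
  rw [← h4, Ideal.comap_map_of_surjective _ Ideal.Quotient.mk_surjective,
    ← RingHom.ker_eq_comap_bot, Ideal.mk_ker]
  exact (sup_eq_left.2 hpP).symm


section loc

variable (p q : Ideal R) [hpp : p.IsPrime] [hqp : q.IsPrime] (hpq : p ≤ q)

include hpq in
lemma disjoint_primeCompl : Disjoint (q.primeCompl : Set R) (p : Set R) :=
  Set.disjoint_left.2 fun _ hxS hxp => hxS (hpq hxp)

include hpq in
lemma isPrime_map : (p.map (algebraMap R (Localization.AtPrime q))).IsPrime :=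
  IsLocalization.isPrime_of_isPrime_disjoint q.primeCompl _ p hpp (disjoint_primeCompl p q hpq)

include hpq in
lemma comap_map : (p.map (algebraMap R (Localization.AtPrime q))).comap
    (algebraMap R (Localization.AtPrime q)) = p :=
  IsLocalization.under_map_of_isPrime_disjoint q.primeCompl _ hpp (disjoint_primeCompl p q hpq)

omit hpp in
lemma map_le_maximalIdeal (a : Ideal R) (ha : a ≤ q) :
    a.map (algebraMap R (Localization.AtPrime q)) ≤ maximalIdeal (Localization.AtPrime q) := by
  rw [Ideal.map_le_iff_le_comap]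
  intro x hx
  rw [Ideal.mem_comap]
  exact (IsLocalization.AtPrime.to_map_mem_maximal_iff (Localization.AtPrime q) q x).2 (ha hx)

omit hpp in
/-- if `q` is minimal over `I` then `rad(I R_q)` is the maximal ideal -/
lemma maximalIdeal_le_radical (I : Ideal R) (hIq : I ≤ q)
    (hmin : ∀ P : Ideal R, P.IsPrime → I ≤ P → P ≤ q → P = q) :
    maximalIdeal (Localization.AtPrime q) ≤
      (I.map (algebraMap R (Localization.AtPrime q))).radical := by
  rw [Ideal.radical_eq_sInf]
  refine le_sInf ?_
  rintro P' ⟨hIP', hP'⟩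
  have h1 : I ≤ P'.comap (algebraMap R (Localization.AtPrime q)) :=
    Ideal.map_le_iff_le_comap.1 hIP'
  have h2 : P'.comap (algebraMap R (Localization.AtPrime q)) ≤ q := by
    have e1 : (maximalIdeal (Localization.AtPrime q)).comap
        (algebraMap R (Localization.AtPrime q)) = q :=
      IsLocalization.AtPrime.under_maximalIdeal (Localization.AtPrime q) q
    exact (Ideal.comap_mono (IsLocalRing.le_maximalIdeal hP'.ne_top)).trans (le_of_eq e1)
  have h3 := hmin _ (Ideal.comap_isPrime _ _) h1 h2
  have h4 : P' = (P'.comap (algebraMap R (Localization.AtPrime q))).map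
      (algebraMap R (Localization.AtPrime q)) :=
    (IsLocalization.map_comap q.primeCompl _ P').symm
  rw [h4, h3, Localization.AtPrime.map_eq_maximalIdeal]

include hpq in
/-- `dim R_q/pR_q = 1` when `ht q/p = 1` -/
lemma ringKrullDim_quotient_map (hht : (q.map (Ideal.Quotient.mk p)).height = 1) :
    ringKrullDim (Localization.AtPrime q ⧸ p.map (algebraMap R (Localization.AtPrime q))) = 1 := by
  haveI := isPrime_map p q hpq
  apply le_antisymm
  · have h := Groth.Agent.Helper2.Isch.dim_quot_localization_le (A := R) ⟨p, hpp⟩ ⟨q, hqp⟩ hpq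
      (p.map (algebraMap R (Localization.AtPrime q))) (comap_map p q hpq)
    have h2 := Groth.Agent.Helper6.DepthHt.height_Ici_eq R p q hpq
    rw [hht] at h2
    rw [h2] at h
    exact h
  · have e := Groth.Agent.Helper2.Caten.dimQuot_eq_coheight
      (⟨p.map (algebraMap R (Localization.AtPrime q)), isPrime_map p q hpq⟩ :
        PrimeSpectrum (Localization.AtPrime q))
    change ringKrullDim (Localization.AtPrime q ⧸ p.map (algebraMap R (Localization.AtPrime q)))
      = _ at e
    rw [e]
    have hne : Order.coheight (⟨p.map (algebraMap R (Localization.AtPrime q)),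
        isPrime_map p q hpq⟩ : PrimeSpectrum (Localization.AtPrime q)) ≠ 0 := by
      rw [Ne, Order.coheight_eq_zero]
      intro hmax
      have hle : (⟨p.map (algebraMap R (Localization.AtPrime q)), isPrime_map p q hpq⟩ :
          PrimeSpectrum (Localization.AtPrime q)) ≤ IsLocalRing.closedPoint _ := by
        rw [← PrimeSpectrum.asIdeal_le_asIdeal]
        exact IsLocalRing.le_maximalIdeal (isPrime_map p q hpq).ne_top
      have heq := hmax.eq_of_le hle
      have h5 : p.map (algebraMap R (Localization.AtPrime q)) =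
          maximalIdeal (Localization.AtPrime q) := congrArg PrimeSpectrum.asIdeal heq
      have h6 : p = q := by
        rw [← comap_map p q hpq, h5]
        exact IsLocalization.AtPrime.under_maximalIdeal (Localization.AtPrime q) q
      subst h6
      rw [Ideal.map_quotient_self, Ideal.height_bot] at hht
      exact zero_ne_one hht
    have h1 : (1 : ℕ∞) ≤ Order.coheight (⟨p.map (algebraMap R (Localization.AtPrime q)),
        isPrime_map p q hpq⟩ : PrimeSpectrum (Localization.AtPrime q)) :=
      ENat.one_le_iff_ne_zero.2 hne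
    exact_mod_cast h1

end loc

/-- **B–S 9.3.3**: for `p ∈ Ass M` with `ht (a+p)/p = 1` and `s ∉ p`, no power of `s` kills
`H^1_a(M)` -/
theorem exists_smul_ne_zero (a : Ideal R) (M : Type u) [AddCommGroup M] [Module R M]
    [Module.Finite R M] (p : Ideal R) [hpp : p.IsPrime] (hp : p ∈ associatedPrimes R M)
    (hht : ((a ⊔ p).map (Ideal.Quotient.mk p)).height = 1) (s : R) (hs : s ∉ p) (k : ℕ) :
    ∃ z : LocCoh.H a 1 M, s ^ k • z ≠ 0 := by
  classical
  by_contra hcon
  push Not at hcon
  obtain ⟨q, hqp, hapq, hqht, hmin⟩ := exists_prime a p 1 (by rw [hht]; rfl)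
  have hpq : p ≤ q := le_sup_right.trans hapq
  have haq : a ≤ q := le_sup_left.trans hapq
  let S := q.primeCompl
  haveI : IsNoetherianRing (Localization.AtPrime q) :=
    IsLocalization.isNoetherianRing S _ inferInstance
  haveI hp'prime := isPrime_map p q hpq
  haveI : Module.Finite (Localization.AtPrime q) (LocalizedModule S M) :=
    Module.Finite.of_isLocalizedModule S (LocalizedModule.mkLinearMap S M)
  have hp' : p.map (algebraMap R (Localization.AtPrime q)) ∈
      associatedPrimes (Localization.AtPrime q) (LocalizedModule S M) := by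
    apply Module.associatedPrimes.mem_associatedPrimes_of_comap_mem_associatedPrimes_of_isLocalizedModule
      S (LocalizedModule.mkLinearMap S M)
    rw [comap_map p q hpq]
    exact hp
  have hrad : maximalIdeal (Localization.AtPrime q) ≤
      (a.map (algebraMap R (Localization.AtPrime q)) ⊔
        p.map (algebraMap R (Localization.AtPrime q))).radical := by
    rw [← Ideal.map_sup]
    exact maximalIdeal_le_radical q (a ⊔ p) hapq hmin
  have hs' : algebraMap R (Localization.AtPrime q) s ∉
      p.map (algebraMap R (Localization.AtPrime q)) := by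
    intro h
    apply hs
    rw [← comap_map p q hpq]
    exact h
  obtain ⟨z, hz⟩ := LocCohAss.exists_smul_ne_zero (a.map (algebraMap R (Localization.AtPrime q)))
    (p.map (algebraMap R (Localization.AtPrime q))) (map_le_maximalIdeal q a haq) hrad
    (ringKrullDim_quotient_map p q hpq (by rw [hqht]; rfl)) (LocalizedModule S M) hp'
    (algebraMap R (Localization.AtPrime q) s) hs' k
  obtain ⟨e⟩ := LocCohLocS.nonempty_localized_linearEquiv S a M 1
  apply hz
  obtain ⟨w, rfl⟩ := e.surjective z
  rw [← map_smul]
  suffices h0 : (algebraMap R (Localization.AtPrime q) s) ^ k • w = 0 by rw [h0, map_zero]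
  induction w using LocalizedModule.induction_on with
  | h m u =>
    rw [← map_pow, algebraMap_smul, LocalizedModule.smul'_mk, hcon m, LocalizedModule.zero_mk]

/-- the form of the statement with radicals of annihilators -/
theorem not_le_radical_annihilator (a b : Ideal R) (M : Type u) [AddCommGroup M] [Module R M]
    [Module.Finite R M] (p : Ideal R) [hpp : p.IsPrime] (hp : p ∈ associatedPrimes R M)
    (hb : ¬ b ≤ p) (hht : ((a ⊔ p).map (Ideal.Quotient.mk p)).height = 1) :
    ¬ b ≤ (Module.annihilator R (LocCoh.H a 1 M)).radical := by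
  intro hb'
  obtain ⟨s, hsb, hsp⟩ := Set.not_subset.1 hb
  obtain ⟨k, hk⟩ := hb' hsb
  obtain ⟨z, hz⟩ := exists_smul_ne_zero a M p hp hht s hsp k
  exact hz (Module.mem_annihilator.1 hk z)

end Groth.Agent.Helper1.LocCohAssGlobal
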