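import Mathlib
import Groth.Agent.Helper1.FaltingsA
import Groth.Agent.Helper1.LocCohAssGlobal
import Groth.Agent.Helper1.LocCohArtinian
import Groth.Agent.Helper1.LocCohTors

set_option autoImplicit false

/-!
# Towards `f_a^b(M) ≤ λ_a^b(M)`: the case `ht (a+p)/p = 1`
-/

namespace Groth.Agent.Helper1.Faltings
open CategoryTheory Limits IsLocalRing
open Groth.Agent.Helper1.DeltaFun Groth.Agent.Helper1.LocCohDelta

universe u

variable {R : Type u} [CommRing R] [IsNoetherianRing R]

/-- an element killing `X` kills `H^i_J(X)` -/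
lemma smul_lc_eq_zero (J : Ideal R) (s : R) (X : ModuleCat.{u} R) (h : ∀ x : X, s • x = 0) (i : ℕ)
    (z : (localCohomology J i).obj X) : s • z = 0 := by
  have h0 : s • 𝟙 X = 0 := by
    ext x
    exact h x
  have h1 : (localCohomology J i).map (s • 𝟙 X) = s • 𝟙 _ := by
    rw [lc_map_smul, CategoryTheory.Functor.map_id]
  rw [h0, lc_map_zero] at h1
  have h2 := congrArg (fun φ => φ.hom z) h1
  exact h2.symm

lemma LZ_of_linearEquiv (p : Ideal R) {X Y : Type*} [AddCommGroup X] [Module R X]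
    [AddCommGroup Y] [Module R Y] (e : X ≃ₗ[R] Y) (h : LZ p X) : LZ p Y := by
  intro y
  obtain ⟨u, hu, hz⟩ := h (e.symm y)
  refine ⟨u, hu, ?_⟩
  rw [← e.apply_symm_apply y, ← map_smul, hz, map_zero]

lemma LZ_lc_zero_iff (p J : Ideal R) (M : Type u) [AddCommGroup M] [Module R M] :
    LZ p (LocCoh.H J 0 M) ↔ LZ p (DRing.torsionSub J M) := by
  have e : (localCohomology J 0).obj (ModuleCat.of R M) ≅
      ModuleCat.of R (DRing.torsionSub J M) := (lcZeroIso J).app (ModuleCat.of R M)
  exact ⟨LZ_of_linearEquiv p e.toLinearEquiv, LZ_of_linearEquiv p e.symm.toLinearEquiv⟩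

/-- the kernel of `M → M_p` is killed by a single element outside `p` -/
lemma exists_kill_ker (p : Ideal R) [hp : p.IsPrime] (M : Type u) [AddCommGroup M] [Module R M]
    [Module.Finite R M] :
    ∃ s₀ : R, s₀ ∉ p ∧
      ∀ n ∈ LinearMap.ker (LocalizedModule.mkLinearMap p.primeCompl M), s₀ • n = 0 := by
  classical
  have hfg : (LinearMap.ker (LocalizedModule.mkLinearMap p.primeCompl M)).FG :=
    IsNoetherian.noetherian _
  obtain ⟨T, hT⟩ := hfg
  have hT' : ∀ n ∈ T, ∃ u : R, u ∉ p ∧ u • n = 0 := by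
    intro n hn
    have : n ∈ LinearMap.ker (LocalizedModule.mkLinearMap p.primeCompl M) := by
      rw [← hT]
      exact Submodule.subset_span hn
    obtain ⟨r, hr, hrn⟩ := LocalizedModule.mem_ker_mkLinearMap_iff.1 this
    exact ⟨r, hr, hrn⟩
  choose! u hu hun using hT'
  refine ⟨∏ n ∈ T, u n, ?_, ?_⟩
  · intro hmem
    obtain ⟨n, hn, hnp⟩ := (hp.prod_mem_iff).1 hmem
    exact hu n hn hnp
  · intro n hn
    rw [← hT] at hn
    refine Submodule.span_induction ?_ ?_ ?_ ?_ hn
    · intro y hy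
      rw [← Finset.mul_prod_erase T u hy, mul_comm, mul_smul, hun y hy, smul_zero]
    · exact smul_zero _
    · intro y z _ _ hy hz
      rw [smul_add, hy, hz, add_zero]
    · intro c y _ hy
      rw [smul_comm, hy, smul_zero]

/-- if `ker(x on W) ⊆ im(A → W)`, `A_p = 0`, `W` is `p`-power torsion and `x ∈ p`, then
`W_p = 0` -/
lemma LZ_of_exact_smul (p : Ideal R) [hp : p.IsPrime] {A W : ModuleCat.{u} R} (δ : A ⟶ W)
    (x : R) (hx : x ∈ p) (hW : LocCoh.IsPowerTorsion p W)
    (hex : ∀ z : W, x • z = 0 → ∃ w, δ.hom w = z) (hA : LZ p A) : LZ p W := by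
  have key : ∀ k : ℕ, ∀ z : W, x ^ k • z = 0 → ∃ u : R, u ∉ p ∧ u • z = 0 := by
    intro k
    induction k with
    | zero =>
      intro z hz
      rw [pow_zero, one_smul] at hz
      exact ⟨1, fun h => hp.ne_top ((Ideal.eq_top_iff_one _).2 h), by rw [hz, smul_zero]⟩
    | succ k ih =>
      intro z hz
      have h1 : x • (x ^ k • z) = 0 := by rw [smul_smul, ← pow_succ']; exact hz
      obtain ⟨w, hw⟩ := hex _ h1
      obtain ⟨v, hv, hvw⟩ := hA w
      have h2 : x ^ k • (v • z) = 0 := by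
        rw [smul_comm, ← hw, ← map_smul, hvw, map_zero]
      obtain ⟨u, hu, huz⟩ := ih (v • z) h2
      exact ⟨u * v, fun h => (hp.mem_or_mem h).elim hu hv, by rw [mul_smul]; exact huz⟩
  intro z
  obtain ⟨k, hk⟩ := hW z
  exact key k z (hk _ (Ideal.pow_mem_pow hx k))

/-- depth `0` at `p` means `p ∈ Ass M` -/
lemma mem_associatedPrimes_of_DP_zero (p : Ideal R) [hp : p.IsPrime] (M : Type u)
    [AddCommGroup M] [Module R M] (h : DP p 0 M) : p ∈ associatedPrimes R M := by
  have h1 : ¬ LZ p (DRing.torsionSub p M) := fun h' => h.2 ((LZ_lc_zero_iff p p M).2 h')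
  unfold LZ at h1
  push Not at h1
  obtain ⟨⟨y, k, hk⟩, hy⟩ := h1
  refine ⟨hp, y, ?_⟩
  ext c
  rw [Ideal.mem_radical_iff]
  constructor
  · intro hc
    refine ⟨k, ?_⟩
    rw [Submodule.mem_colon_singleton, Submodule.mem_bot]
    exact hk _ (Ideal.pow_mem_pow hc k)
  · rintro ⟨n, hn⟩
    rw [Submodule.mem_colon_singleton, Submodule.mem_bot] at hn
    by_contra hcp
    have hcn : c ^ n ∉ p := fun h' => hcp (hp.mem_of_pow_mem _ h')
    apply hy (c ^ n) hcn
    exact Subtype.ext hn


/-- the case `ht (a+p)/p = 1`, by induction on the depth of `M_p` -/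
theorem height_one (a p : Ideal R) [hp : p.IsPrime]
    (hht : ((a ⊔ p).map (Ideal.Quotient.mk p)).height = 1) :
    ∀ (t : ℕ) (M : Type u) [AddCommGroup M] [Module R M] [Module.Finite R M] (s : R),
      s ∉ p → DP p t M → ∃ i : ℕ, i ≤ t + 1 ∧ ¬ PK s (LocCoh.H a i M) := by
  intro t
  induction t with
  | zero =>
    intro M _ _ _ s hs hD
    have hass := mem_associatedPrimes_of_DP_zero p M hD
    refine ⟨1, le_rfl, ?_⟩
    rintro ⟨k, hk⟩
    obtain ⟨z, hz⟩ := LocCohAssGlobal.exists_smul_ne_zero a M p hass hht s hs k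
    exact hz (hk z)
  | succ t ih =>
    intro M _ _ _ s hs hD
    obtain ⟨s₀, hs₀, hkill⟩ := exists_kill_ker p M
    let N := LinearMap.ker (LocalizedModule.mkLinearMap p.primeCompl M)
    -- the first short exact sequence `0 → N → M → M/N → 0`
    let S₁ : ShortComplex (ModuleCat.{u} R) :=
      ShortComplex.mk (ModuleCat.ofHom N.subtype) (ModuleCat.ofHom N.mkQ) (by
        ext r
        simp)
    have hS₁ : S₁.ShortExact := by
      refine ShortComplex.ShortExact.mk' ?_ ?_ ?_
      · rw [ShortComplex.moduleCat_exact_iff_range_eq_ker]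
        show LinearMap.range N.subtype = LinearMap.ker N.mkQ
        rw [Submodule.ker_mkQ, Submodule.range_subtype]
      · exact (ModuleCat.mono_iff_injective _).2 N.subtype_injective
      · exact (ModuleCat.epi_iff_surjective _).2 (Submodule.mkQ_surjective _)
    have hN : ∀ (J : Ideal R) (i : ℕ), PK s₀ ((localCohomology J i).obj S₁.X₁) := fun J i =>
      PK_of_smul_eq_zero s₀ (smul_lc_eq_zero J s₀ S₁.X₁
        (fun x => Subtype.ext (hkill x.1 x.2)) i)
    have hNZ : ∀ (i : ℕ), LZ p ((localCohomology p i).obj S₁.X₁) := fun i =>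
      LZ_of_PK p s₀ hs₀ (hN p i)
    -- `depth (M/N)_p = t + 1`
    have hD' : DP p (t + 1) (M ⧸ N) := by
      constructor
      · intro i hi
        exact lc_right p (fun X => LZ p X) (fun f g w hex => LZ_of_exact p f g w hex) S₁ hS₁ i
          (hD.1 i hi) (hNZ (i + 1))
      · intro h
        exact hD.2 (lc_mid p (fun X => LZ p X) (fun f g w hex => LZ_of_exact p f g w hex) S₁ hS₁
          (t + 1) (hNZ (t + 1)) h)
    -- `M/N` has no `p`-torsion
    have htors : DRing.torsionSub p (M ⧸ N) = ⊥ := by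
      have h0 := (LZ_lc_zero_iff p p (M ⧸ N)).1 (hD'.1 0 (Nat.succ_pos t))
      rw [eq_bot_iff]
      intro y hy
      obtain ⟨u, hu, huy⟩ := h0 ⟨y, hy⟩
      have huy' : u • y = 0 := congrArg Subtype.val huy
      obtain ⟨m, rfl⟩ := Submodule.mkQ_surjective N y
      rw [← map_smul, Submodule.mkQ_apply, Submodule.Quotient.mk_eq_zero] at huy'
      obtain ⟨v, hv, hvm⟩ := LocalizedModule.mem_ker_mkLinearMap_iff.1 huy'
      rw [Submodule.mem_bot, Submodule.mkQ_apply, Submodule.Quotient.mk_eq_zero]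
      refine LocalizedModule.mem_ker_mkLinearMap_iff.2 ⟨v * u, ?_, ?_⟩
      · exact Submonoid.mul_mem _ hv hu
      · rw [mul_smul]
        exact hvm
    obtain ⟨x, hxp, hreg⟩ := LocCohArtinian.exists_regular' p (M ⧸ N) htors
    -- the second short exact sequence `0 → M/N → M/N → (M/N)/x → 0`
    let S₂ := ModuleCat.smulShortComplex (ModuleCat.of R (M ⧸ N)) x
    have hS₂ : S₂.ShortExact :=
      IsSMulRegular.smulShortComplex_shortExact (M := ModuleCat.of R (M ⧸ N)) hreg
    have hfm : ∀ (J : Ideal R) (i : ℕ), (localCohomology J i).map S₂.f =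
        x • 𝟙 ((localCohomology J i).obj (ModuleCat.of R (M ⧸ N))) := by
      intro J i
      show (localCohomology J i).map (x • 𝟙 (ModuleCat.of R (M ⧸ N))) = _
      rw [lc_map_smul, CategoryTheory.Functor.map_id]
    have hDQ : DP p t (QuotSMulTop x (M ⧸ N)) := by
      constructor
      · intro i hi
        exact lc_right p (fun X => LZ p X) (fun f g w hex => LZ_of_exact p f g w hex) S₂ hS₂ i
          (hD'.1 i (by omega)) (hD'.1 (i + 1) (by omega))
      · intro hLZQ
        apply hD'.2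
        refine LZ_of_exact_smul p ((lcDelta p).δ S₂ hS₂ t) x hxp
          (LocCohTors.isPowerTorsion p (t + 1) _) ?_ hLZQ
        intro z hz
        have hex := (lcDelta p).exact₁ S₂ hS₂ t
        rw [ShortComplex.moduleCat_exact_iff] at hex
        apply hex z
        show ((localCohomology p (t + 1)).map S₂.f).hom z = 0
        rw [hfm]
        exact hz
    have hs₁ : s * s₀ ∉ p := fun h => (hp.mem_or_mem h).elim hs hs₀
    obtain ⟨i, hi, hnPK⟩ := ih (QuotSMulTop x (M ⧸ N)) (s * s₀) hs₁ hDQ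
    -- one of `H^i_a(M/N)`, `H^{i+1}_a(M/N)` is not killed by a power of `s s₀`
    have h1 : ∃ j : ℕ, j ≤ t + 1 + 1 ∧ ¬ PK (s * s₀) ((localCohomology a j).obj S₁.X₃) := by
      by_contra hcon
      push Not at hcon
      apply hnPK
      exact lc_right a (fun X => PK (s * s₀) X)
        (fun f g w hex => PK_of_exact f g w hex (s * s₀)) S₂ hS₂ i
        (hcon i (by omega)) (hcon (i + 1) (by omega))
    obtain ⟨j, hj, hnj⟩ := h1
    refine ⟨j, hj, fun hPK => hnj ?_⟩
    exact lc_right a (fun X => PK (s * s₀) X)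
      (fun f g w hex => PK_of_exact f g w hex (s * s₀)) S₁ hS₁ j
      (PK_mul_right s s₀ hPK) (PK_mul_left s₀ s (hN a (j + 1)))

end Groth.Agent.Helper1.Faltings
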