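import Mathlib
import Groth.Agent.Helper1.FaltingsB
import Groth.Agent.Helper5.PrimeBetween

set_option autoImplicit false

/-!
# Heights in quotients are superadditive; monotonicity of `idealDepth`
-/

namespace Groth.Agent.Helper1.Faltings
open CategoryTheory Limits IsLocalRing Order

universe u

/-- Poset lemma: a chain ending at `a` followed by a chain from `a` to `b`
(same argument as `Helper5/DimFormula1`). -/
theorem length_add_height_head_le {α : Type*} [Preorder α] (l : LTSeries α) :
    (l.length : ℕ∞) + height l.head ≤ height l.last := by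
  rcases eq_or_ne (height l.head) ⊤ with h | h
  · have : height l.head ≤ height l.last := height_mono (LTSeries.head_le_last l)
    rw [h, top_le_iff] at this
    rw [this]
    exact le_top
  · obtain ⟨n, hn⟩ := ENat.ne_top_iff_exists.1 h
    obtain ⟨q, hq1, hq2⟩ := exists_series_of_height_eq_coe l.head hn.symm
    have h1 : (q.smash l hq1).length ≤ height (q.smash l hq1).last :=
      length_le_height_last
    rw [RelSeries.last_smash, RelSeries.smash_length] at h1
    rw [← hn, ← hq2, add_comm]
    exact_mod_cast h1

/-- For a surjection `π : A → B` with prime kernel `Q` and a prime `q` of `B`: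
`ht q + ht Q ≤ ht π⁻¹ q` (same argument as `Helper5/DimFormula1`). -/
theorem height_add_height_ker_le {A B : Type*} [CommRing A] [CommRing B] (π : A →+* B)
    (hπ : Function.Surjective π) (Q : Ideal A) [hQ : Q.IsPrime] (hQk : Q = RingHom.ker π)
    (q : Ideal B) [hq : q.IsPrime] :
    q.height + Q.height ≤ (q.comap π).height := by
  let q' : PrimeSpectrum B := ⟨q, hq⟩
  let Q' : PrimeSpectrum A := ⟨Q, hQ⟩
  let c : PrimeSpectrum B → PrimeSpectrum A := PrimeSpectrum.comap π
  have hc : StrictMono c := by
    intro x y hxy
    refine lt_of_le_of_ne ?_ ?_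
    · exact Ideal.comap_mono (f := π) hxy.le
    · intro h
      exact hxy.ne (PrimeSpectrum.comap_injective_of_surjective π hπ h)
  have h1 : q.height = height q' := PrimeSpectrum.height_eq_orderHeight q'
  have h2 : Q.height = height Q' := PrimeSpectrum.height_eq_orderHeight Q'
  have h3 : (q.comap π).height = height (c q') := PrimeSpectrum.height_eq_orderHeight (c q')
  have hne : Nonempty {l : LTSeries (PrimeSpectrum B) // l.last = q'} :=
    ⟨⟨RelSeries.singleton _ q', rfl⟩⟩
  rw [h1, h2, h3, height_eq_iSup_last_eq q', iSup_subtype', ENat.iSup_add]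
  refine iSup_le fun l => ?_
  obtain ⟨l, hl⟩ := l
  have key := length_add_height_head_le (l.map c hc)
  rw [LTSeries.last_map, LTSeries.head_map, LTSeries.map_length, hl] at key
  refine le_trans ?_ key
  gcongr
  show Q ≤ (l.head.asIdeal).comap π
  rw [hQk]
  exact Ideal.comap_mono (f := π) bot_le

variable {R : Type u} [CommRing R]

lemma comap_map_mk (p q : Ideal R) (hpq : p ≤ q) :
    (q.map (Ideal.Quotient.mk p)).comap (Ideal.Quotient.mk p) = q := by
  rw [Ideal.comap_map_of_surjective _ Ideal.Quotient.mk_surjective, ← RingHom.ker_eq_comap_bot,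
    Ideal.mk_ker]
  exact sup_eq_left.2 hpq

lemma isPrime_map_mk (p q : Ideal R) [hq : q.IsPrime] (hpq : p ≤ q) :
    (q.map (Ideal.Quotient.mk p)).IsPrime :=
  Ideal.map_isPrime_of_surjective Ideal.Quotient.mk_surjective (by rw [Ideal.mk_ker]; exact hpq)

/-- `ht q/P + ht P/p ≤ ht q/p` -/
theorem height_add_le (p P q : Ideal R) [hp : p.IsPrime] [hP : P.IsPrime] [hq : q.IsPrime]
    (hpP : p ≤ P) (hPq : P ≤ q) :
    (q.map (Ideal.Quotient.mk P)).height + (P.map (Ideal.Quotient.mk p)).height ≤
      (q.map (Ideal.Quotient.mk p)).height := by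
  haveI := isPrime_map_mk p P hpP
  haveI := isPrime_map_mk P q hPq
  have hk : P.map (Ideal.Quotient.mk p) = RingHom.ker (Ideal.Quotient.factor hpP) := by
    apply Ideal.comap_injective_of_surjective _ (Ideal.Quotient.mk_surjective (I := p))
    rw [comap_map_mk p P hpP, RingHom.ker_eq_comap_bot, Ideal.comap_comap,
      Ideal.Quotient.factor_comp_mk, ← RingHom.ker_eq_comap_bot, Ideal.mk_ker]
  have h := height_add_height_ker_le (Ideal.Quotient.factor hpP)
    (Ideal.Quotient.factor_surjective hpP) (P.map (Ideal.Quotient.mk p)) hk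
    (q.map (Ideal.Quotient.mk P))
  have hc : (q.map (Ideal.Quotient.mk P)).comap (Ideal.Quotient.factor hpP) =
      q.map (Ideal.Quotient.mk p) := by
    apply Ideal.comap_injective_of_surjective _ (Ideal.Quotient.mk_surjective (I := p))
    rw [comap_map_mk p q (hpP.trans hPq), Ideal.comap_comap, Ideal.Quotient.factor_comp_mk,
      comap_map_mk P q hPq]
  rw [hc] at h
  exact h

end Groth.Agent.Helper1.Faltings
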