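import Mathlib
import Groth.Agent.Helper1.RegAB
import Groth.Agent.Helper1.FaltingsC

set_option autoImplicit false

/-!
# Projective dimension bounds from adjusted depths over regular rings
-/

namespace Groth.Agent.Helper1.Faltings
open CategoryTheory IsLocalRing

universe u

variable {R : Type u} [CommRing R] [IsNoetherianRing R]

/-- if `q ⊆ P` are primes with `R_q` regular, `ht P ≤ D` and `D ≤ t + depth M_q + ht P/q`, then
`pd M_q ≤ t` -/
theorem pd_le_of_adj (q P : Ideal R) [hq : q.IsPrime] [hP : P.IsPrime] (hqP : q ≤ P)
    [hreg : IsRegularLocalRing (Localization.AtPrime q)] (D : ℕ) (hD : P.height ≤ D)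
    (M : Type u) [AddCommGroup M] [Module R M] [Module.Finite R M] (t : ℕ)
    (h : (D : ℕ∞) ≤ t + (LocCoh.depth (Localization.AtPrime q) (LocalizedModule q.primeCompl M) +
      (P.map (Ideal.Quotient.mk q)).height)) :
    HasProjectiveDimensionLE (ModuleCat.of (Localization.AtPrime q)
      (LocalizedModule q.primeCompl M)) t := by
  haveI : Module.Finite (Localization.AtPrime q) (LocalizedModule q.primeCompl M) :=
    Module.Finite.of_isLocalizedModule q.primeCompl (LocalizedModule.mkLinearMap q.primeCompl M)
  haveI := isPrime_map_mk q P hqP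
  have hadd : (P.map (Ideal.Quotient.mk q)).height + q.height ≤ P.height := by
    have h1 := height_add_height_ker_le (Ideal.Quotient.mk q) Ideal.Quotient.mk_surjective q
      (Ideal.mk_ker).symm (P.map (Ideal.Quotient.mk q))
    rw [comap_map_mk q P hqP] at h1
    exact h1
  have hfin₁ : (P.map (Ideal.Quotient.mk q)).height ≠ ⊤ := by
    intro htop
    rw [htop, top_add, top_le_iff] at hadd
    rw [hadd, top_le_iff] at hD
    exact ENat.natCast_ne_top _ hD
  have hfin₂ : q.height ≠ ⊤ := by
    intro htop
    rw [htop, add_top, top_le_iff] at hadd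
    rw [hadd, top_le_iff] at hD
    exact ENat.natCast_ne_top _ hD
  obtain ⟨e, he⟩ := ENat.ne_top_iff_exists.1 hfin₂
  have hdim : ringKrullDim (Localization.AtPrime q) = e := by
    rw [IsLocalization.AtPrime.ringKrullDim_eq_height q, ← he]
    rfl
  apply RegAB.pd_le_of_depth e hdim
  have h2 : (e : ℕ∞) + (P.map (Ideal.Quotient.mk q)).height ≤
      (t + LocCoh.depth (Localization.AtPrime q) (LocalizedModule q.primeCompl M)) +
        (P.map (Ideal.Quotient.mk q)).height := by
    rw [he, add_comm, add_assoc]
    exact (hadd.trans hD).trans h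
  exact (WithTop.add_le_add_iff_right hfin₁).1 h2

end Groth.Agent.Helper1.Faltings
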