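import Mathlib
import Groth.Agent.Helper1.LocCohBasic
import Groth.Agent.Helper1.FunLES
import Groth.Agent.Helper5.DTUniv

set_option autoImplicit false

/-!
# The ideal transform `D_I`: left exactness, the sequence `Γ_I → 𝟭 → D_I`, derived functors
-/

namespace Groth.Agent.Helper1.DTDerived
open CategoryTheory Limits Opposite LocCoh
open Groth.Agent.Helper5.DTApi Groth.Agent.Helper5.DTKer Groth.Agent.Helper5.DTCor
open Groth.Agent.Helper1.FunLES Groth.Agent.Helper1.LocCohDelta

universe u

variable {R : Type u} [CommRing R] (I : Ideal R)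

/-- `η : 𝟭 ⟶ D_I` -/
noncomputable def toDTNat : 𝟭 (ModuleCat.{u} R) ⟶ idealTransform I where
  app M := ModuleCat.ofHom (toDT I M)
  naturality M N f := by
    ext m
    exact (toDT_naturality I f.hom m).symm

lemma toDTNat_app_hom (M : ModuleCat.{u} R) : ((toDTNat I).app M).hom = toDT I M := rfl

lemma gammaIι_toDTNat : DRing.gammaIι I ≫ toDTNat I = 0 := by
  ext M ⟨m, hm⟩
  change toDT I M m = 0
  rw [← LinearMap.mem_ker, ker_toDT]
  exact hm

lemma res_comp (M N : ModuleCat.{u} R) {n m : ℕ} (h : n ≤ m) (f : ModuleCat.of R ↥(I ^ n) ⟶ M)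
    (φ : M ⟶ N) : res I N h (f ≫ φ) = res I M h f ≫ φ := rfl

/-- `D_I` preserves monomorphisms -/
lemma map_injective_of_injective {M N : ModuleCat.{u} R} (φ : M ⟶ N)
    (hφ : Function.Injective φ.hom) : Function.Injective ((idealTransform I).map φ).hom := by
  rw [← LinearMap.ker_eq_bot, eq_bot_iff]
  intro x hx
  rw [LinearMap.mem_ker] at hx
  obtain ⟨n, f, rfl⟩ := exists_rep I _ x
  rw [map_ι, ι_eq_zero_iff] at hx
  obtain ⟨k, hk, h0⟩ := hx
  rw [Submodule.mem_bot, ι_eq_zero_iff]
  refine ⟨k, hk, ?_⟩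
  rw [res_comp] at h0
  have : Mono φ := (ModuleCat.mono_iff_injective φ).2 hφ
  exact (cancel_mono φ).1 (h0.trans zero_comp.symm)

/-- `D_I` is exact in the middle on left exact sequences -/
lemma map_exact (S : ShortComplex (ModuleCat.{u} R)) (hS : S.ShortExact) :
    (S.map (idealTransform I)).Exact := by
  rw [ShortComplex.moduleCat_exact_iff]
  intro y hy
  obtain ⟨n, g, rfl⟩ := exists_rep I _ y
  change ((idealTransform I).map S.g).hom _ = 0 at hy
  rw [map_ι, ι_eq_zero_iff] at hy
  obtain ⟨k, hk, h0⟩ := hy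
  rw [res_comp] at h0
  have := hS.mono_f
  let g' : ModuleCat.of R ↥(I ^ k) ⟶ S.X₁ := hS.exact.lift (res I _ hk g) h0
  have hg' : g' ≫ S.f = res I _ hk g := hS.exact.lift_f _ _
  refine ⟨ι I _ k g', ?_⟩
  change ((idealTransform I).map S.f).hom _ = _
  rw [map_ι, hg', ι_res]

instance preservesFiniteLimits_idealTransform : PreservesFiniteLimits (idealTransform I) := by
  rw [Functor.preservesFiniteLimits_iff_forall_exact_map_and_mono]
  intro S hS
  refine ⟨map_exact I S hS, ?_⟩
  have := hS.mono_f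
  exact (ModuleCat.mono_iff_injective _).2
    (map_injective_of_injective I S.f ((ModuleCat.mono_iff_injective _).1 inferInstance))

/-- for an injective module `E`, the map `E → D_I(E)` is surjective -/
lemma toDT_surjective_of_injective (E : ModuleCat.{u} R) [Injective E] :
    Function.Surjective (toDT I E) := by
  intro x
  obtain ⟨n, f, rfl⟩ := exists_rep I _ x
  let incl : ModuleCat.of R ↥(I ^ n) ⟶ ModuleCat.of R R := ModuleCat.ofHom (I ^ n).subtype
  have : Mono incl := (ModuleCat.mono_iff_injective _).2 (Submodule.injective_subtype _)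
  let g : ModuleCat.of R R ⟶ E := Injective.factorThru f incl
  have hg : incl ≫ g = f := Injective.comp_factorThru f incl
  refine ⟨g.hom (1 : R), ?_⟩
  rw [toDT_apply', ← ι_res I _ (Nat.zero_le n) (smulMor I 0 _ _), res_smulMor]
  congr 1
  apply ModuleCat.hom_ext
  ext ⟨r, hr⟩
  rw [smulMor_hom_apply, ← map_smul, ← hg]
  simp [incl]

/-- `0 → Γ_I(E) → E → D_I(E) → 0` is short exact for injective `E` -/
lemma sc_shortExact (E : ModuleCat.{u} R) [Injective E] :
    (sc (DRing.gammaIι I) (toDTNat I) (gammaIι_toDTNat I) E).ShortExact where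
  exact := by
    rw [ShortComplex.moduleCat_exact_iff]
    intro y hy
    change toDT I E y = 0 at hy
    rw [← LinearMap.mem_ker, ker_toDT] at hy
    exact ⟨⟨y, hy⟩, rfl⟩
  mono_f := (ModuleCat.mono_iff_injective _).2 (Submodule.injective_subtype _)
  epi_g := (ModuleCat.epi_iff_surjective _).2 (toDT_surjective_of_injective I E)

lemma isZero_rightDerived_id (n : ℕ) (X : ModuleCat.{u} R) :
    IsZero (((𝟭 (ModuleCat.{u} R)).rightDerived (n + 1)).obj X) :=
  isZero_rightDerived_of_exact (G := 𝟭 (ModuleCat.{u} R)) n X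

/-- `RⁿD_I ≅ Rⁿ⁺¹Γ_I` for `n ≥ 1` -/
noncomputable def rightDerivedIso (n : ℕ) :
    (idealTransform I).rightDerived (n + 1) ≅ (DRing.gammaI I).rightDerived (n + 2) :=
  isoOfIsZero (DRing.gammaIι I) (toDTNat I) (gammaIι_toDTNat I)
    (fun E _ => sc_shortExact I E) (n + 1) (isZero_rightDerived_id n) (isZero_rightDerived_id (n + 1))

/-- `RⁿD_I ≅ Hⁿ⁺¹_I` for `n ≥ 1` -/
noncomputable def rightDerivedIsoLc (n : ℕ) :
    (idealTransform I).rightDerived (n + 1) ≅ localCohomology I (n + 2) :=
  rightDerivedIso I n ≪≫ (lcIso I (n + 2)).symm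

/-- `R¹Γ_I ≅ coker(𝟭 ⟶ D_I)` -/
theorem nonempty_iso_cokernel_toDTNat :
    Nonempty ((DRing.gammaI I).rightDerived 1 ≅ cokernel (toDTNat I)) :=
  nonempty_iso_cokernel (DRing.gammaIι I) (toDTNat I) (gammaIι_toDTNat I)
    (fun E _ => sc_shortExact I E) (isZero_rightDerived_id 0)

end Groth.Agent.Helper1.DTDerived

namespace Groth.Agent.Helper1.DTDerived
open CategoryTheory Limits Opposite LocCoh
open Groth.Agent.Helper1.FunLES Groth.Agent.Helper1.LocCohDelta

universe u

variable {R : Type u} [CommRing R] (I : Ideal R)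

/-- `coker(M → D_I(M)) ≅ H¹_I(M)` -/
theorem nonempty_coker_toDT_linearEquiv (M : ModuleCat.{u} R) :
    Nonempty (((idealTransform I).obj M ⧸ LinearMap.range (toDT I M)) ≃ₗ[R]
      (localCohomology I 1).obj M) := by
  obtain ⟨e⟩ := nonempty_iso_cokernel_toDTNat I
  let e1 : (localCohomology I 1).obj M ≅ (cokernel (toDTNat I)).obj M :=
    (lcIso I 1).app M ≪≫ e.app M
  let e2 : (cokernel (toDTNat I)).obj M ≅ cokernel ((toDTNat I).app M) :=
    PreservesCokernel.iso ((evaluation _ _).obj M) (toDTNat I)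
  let e3 := ModuleCat.cokernelIsoRangeQuotient ((toDTNat I).app M)
  exact ⟨(e1 ≪≫ e2 ≪≫ e3).toLinearEquiv.symm⟩

end Groth.Agent.Helper1.DTDerived

namespace Groth.Agent.Helper1.DTDerived
open CategoryTheory Limits Opposite LocCoh
open Groth.Agent.Helper1.FunLES Groth.Agent.Helper1.LocCohDelta Groth.Agent.Helper1.DeltaFun

universe u

variable {R : Type u} [CommRing R] (I : Ideal R)

/-- a left exact additive functor with vanishing `R¹` is right exact -/
lemma preservesFiniteColimits_of_isZero_rightDerived_one {A B : Type*} [Category A] [Abelian A]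
    [Category B] [Abelian B] [EnoughInjectives A] (F : A ⥤ B) [F.Additive]
    [PreservesFiniteLimits F] (h : ∀ X, IsZero ((F.rightDerived 1).obj X)) :
    PreservesFiniteColimits F := by
  rw [Functor.preservesFiniteColimits_iff_forall_exact_map_and_epi]
  intro S hS
  refine ⟨((Functor.preservesFiniteLimits_iff_forall_exact_map_and_mono F).1 inferInstance S hS).1, ?_⟩
  have he : Epi ((F.rightDerived 0).map S.g) :=
    ((rightDerivedDelta F).exact₃ S hS 0).epi_f ((h S.X₁).eq_of_tgt _ _)
  have hn := F.rightDerivedZeroIsoSelf.hom.naturality S.g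
  have h2 : F.map S.g = F.rightDerivedZeroIsoSelf.inv.app S.X₂ ≫ (F.rightDerived 0).map S.g ≫
      F.rightDerivedZeroIsoSelf.hom.app S.X₃ := by
    rw [hn, ← Category.assoc, ← NatTrans.comp_app, Iso.inv_hom_id, NatTrans.id_app, Category.id_comp]
  rw [h2]
  infer_instance

theorem exact_iff_cdLE_one :
    (PreservesFiniteLimits (idealTransform I) ∧ PreservesFiniteColimits (idealTransform I)) ↔
      LocCoh.CdLE R I 1 := by
  constructor
  · rintro ⟨h1, h2⟩ M _ _ i hi
    obtain ⟨n, rfl⟩ : ∃ n, i = n + 2 := ⟨i - 2, by omega⟩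
    have hz : IsZero (((idealTransform I).rightDerived (n + 1)).obj (ModuleCat.of R M)) :=
      isZero_rightDerived_of_exact (G := idealTransform I) n _
    have hz' : IsZero ((localCohomology I (n + 2)).obj (ModuleCat.of R M)) :=
      IsZero.of_iso hz ((rightDerivedIsoLc I n).app _).symm
    exact (ModuleCat.isZero_iff_subsingleton.1 hz')
  · intro h
    refine ⟨inferInstance, ?_⟩
    apply preservesFiniteColimits_of_isZero_rightDerived_one
    intro X
    have hz' : IsZero ((localCohomology I (0 + 2)).obj X) :=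
      ModuleCat.isZero_iff_subsingleton.2 (h X 2 (by norm_num))
    exact IsZero.of_iso hz' ((rightDerivedIsoLc I 0).app X)

end Groth.Agent.Helper1.DTDerived
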