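import Mathlib
import Groth.Agent.Helper1.LocCohLES
import Groth.Agent.Helper1.DTDerived

set_option autoImplicit false

/-!
# `H¹_{(b)}(M) ≅ coker(M → M_b)`
-/

namespace Groth.Agent.Helper1.LocCohPrincipal
open CategoryTheory Limits Opposite
open Groth.Agent.Helper1.LocCohDelta Groth.Agent.Helper1.LocCohLES Groth.Agent.Helper1.LocFun
open Groth.Agent.Helper1.FunLES

universe u

variable {R : Type u} [CommRing R] (b : R)

lemma ι_η : DRing.gammaIι (Ideal.span {b}) ≫ η b = 0 := by
  ext M ⟨x, hx⟩
  change LocalizedModule.mkLinearMap (Submonoid.powers b) M x = 0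
  rw [mk_eq_zero_iff]
  exact (mem_torsionSub_span_singleton b x).1 hx

variable [IsNoetherianRing R]

lemma sc_shortExact (E : ModuleCat.{u} R) [Injective E] :
    (sc (DRing.gammaIι (Ideal.span {b})) (η b) (ι_η b) E).ShortExact where
  exact := by
    rw [ShortComplex.moduleCat_exact_iff]
    intro y h0
    change LocalizedModule.mkLinearMap (Submonoid.powers b) E y = 0 at h0
    rw [mk_eq_zero_iff] at h0
    exact ⟨⟨y, (mem_torsionSub_span_singleton b y).2 h0⟩, rfl⟩
  mono_f := (ModuleCat.mono_iff_injective _).2 (Submodule.injective_subtype _)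
  epi_g := by
    have hE : Module.Injective R E := Module.injective_module_of_injective_object R E
    exact (ModuleCat.epi_iff_surjective _).2 (mk_surjective_of_injective b E)

/-- `coker(M → M_b) ≃ H¹_{(b)}(M)` -/
theorem nonempty_coker_linearEquiv (M : ModuleCat.{u} R) :
    Nonempty ((LocalizedModule (Submonoid.powers b) M ⧸
      LinearMap.range (LocalizedModule.mkLinearMap (Submonoid.powers b) M)) ≃ₗ[R]
      (localCohomology (Ideal.span {b}) 1).obj M) := by
  obtain ⟨e⟩ := nonempty_iso_cokernel (DRing.gammaIι (Ideal.span {b})) (η b) (ι_η b)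
    (fun E _ => sc_shortExact b E) (DTDerived.isZero_rightDerived_id 0)
  let e1 : (localCohomology (Ideal.span {b}) 1).obj M ≅ (cokernel (η b)).obj M :=
    (lcIso (Ideal.span {b}) 1).app M ≪≫ e.app M
  let e2 : (cokernel (η b)).obj M ≅ cokernel ((η b).app M) :=
    PreservesCokernel.iso ((evaluation _ _).obj M) (η b)
  let e3 := ModuleCat.cokernelIsoRangeQuotient ((η b).app M)
  exact ⟨(e1 ≪≫ e2 ≪≫ e3).toLinearEquiv.symm⟩

end Groth.Agent.Helper1.LocCohPrincipal
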