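import Mathlib
import Groth.Agent.Helper1.LocCohLinear
import Groth.Agent.Helper1.LocCohPrincipal

set_option autoImplicit false

/-!
# `H^i_a(M) → H^i_a(M_b)` is a localization at `b`
-/

namespace Groth.Agent.Helper1.LocCohLES
open CategoryTheory Limits Opposite
open Groth.Agent.Helper1.DeltaFun Groth.Agent.Helper1.LocCohDelta Groth.Agent.Helper1.LocFun

universe u

variable {R : Type u} [CommRing R] (a : Ideal R) (b : R)

lemma pow_mem_sup_pow (k : ℕ) : b ^ k ∈ (a ⊔ Ideal.span {b}) ^ k :=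
  Ideal.pow_mem_pow (Ideal.mem_sup_right (Ideal.mem_span_singleton_self b)) k

/-- every element of `H^i_{a+(b)}(M)` is killed by a power of `b` -/
lemma exists_pow_smul_eq_zero (i : ℕ) (M : ModuleCat.{u} R)
    (z : (localCohomology (a ⊔ Ideal.span {b}) i).obj M) : ∃ k : ℕ, b ^ k • z = 0 := by
  obtain ⟨k, hk⟩ := LocCohTors.isPowerTorsion (a ⊔ Ideal.span {b}) i M z
  exact ⟨k, hk _ (pow_mem_sup_pow a b k)⟩

/-- a functor compatible with scalars sends the invertible action of `b` to an invertible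
action -/
lemma isUnit_algebraMap_of_map_smul (F : ModuleCat.{u} R ⥤ ModuleCat.{u} R)
    (hF : ∀ (r : R) (X : ModuleCat.{u} R), F.map (r • 𝟙 X) = r • 𝟙 _) (X : ModuleCat.{u} R)
    (r : R) (h : IsUnit (algebraMap R (Module.End R X) r)) :
    IsUnit (algebraMap R (Module.End R (F.obj X)) r) := by
  obtain ⟨⟨g, g', h1, h2⟩, hg⟩ := h
  change g = algebraMap R (Module.End R X) r at hg
  subst hg
  have e1 : ModuleCat.ofHom (algebraMap R (Module.End R X) r) = r • 𝟙 X := by
    ext x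
    rfl
  have e2 : (r • 𝟙 (F.obj X) : F.obj X ⟶ F.obj X).hom = algebraMap R (Module.End R (F.obj X)) r := by
    ext x
    rfl
  have h1' : (r • 𝟙 X) ≫ ModuleCat.ofHom g' = 𝟙 X := by
    rw [← e1]
    ext x
    exact LinearMap.congr_fun h2 x
  have h2' : ModuleCat.ofHom g' ≫ (r • 𝟙 X) = 𝟙 X := by
    rw [← e1]
    ext x
    exact LinearMap.congr_fun h1 x
  have h3 := congrArg F.map h1'
  have h4 := congrArg F.map h2'
  rw [F.map_comp, hF, F.map_id] at h3 h4
  refine ⟨⟨algebraMap R (Module.End R (F.obj X)) r, (F.map (ModuleCat.ofHom g')).hom, ?_, ?_⟩, rfl⟩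
  · rw [← e2]
    ext x
    exact congrArg (fun t => t.hom x) h4
  · rw [← e2]
    ext x
    exact congrArg (fun t => t.hom x) h3

variable [IsNoetherianRing R]

/-- `H^i_a(M) → H^i_a(M_b)` is a localization at the powers of `b` -/
theorem isLocalizedModule_lc_map (i : ℕ) (M : ModuleCat.{u} R) :
    IsLocalizedModule (Submonoid.powers b) ((localCohomology a i).map ((η b).app M)).hom where
  map_units := by
    rintro ⟨_, ⟨n, rfl⟩⟩
    have h1 : IsUnit (algebraMap R (Module.End R ((L b).obj M)) b) :=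
      IsLocalizedModule.map_units (LocalizedModule.mkLinearMap (Submonoid.powers b) M)
        ⟨b, Submonoid.mem_powers b⟩
    have h2 := isUnit_algebraMap_of_map_smul (localCohomology a i)
      (fun r X => by
        rw [lc_map_smul, CategoryTheory.Functor.map_id]) ((L b).obj M) b h1
    change IsUnit (algebraMap R _ (b ^ n))
    rw [map_pow]
    exact h2.pow n
  surj := by
    intro y
    obtain ⟨w3, e3⟩ := exact₃ a b i M
    obtain ⟨k, hk⟩ := exists_pow_smul_eq_zero a b (i + 1) M ((conn a b i M).hom y)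
    rw [← map_smul] at hk
    obtain ⟨x, hx⟩ := (ShortComplex.moduleCat_exact_iff _).1 e3 (b ^ k • y) hk
    exact ⟨⟨x, ⟨b ^ k, k, rfl⟩⟩, hx.symm⟩
  exists_of_eq := by
    intro x₁ x₂ h
    obtain ⟨w2, e2⟩ := exact₂ a b i M
    have h0 : ((localCohomology a i).map ((η b).app M)).hom (x₁ - x₂) = 0 := by
      rw [map_sub, h, sub_self]
    obtain ⟨z, hz⟩ := (ShortComplex.moduleCat_exact_iff _).1 e2 (x₁ - x₂) h0
    obtain ⟨k, hk⟩ := exists_pow_smul_eq_zero a b i M z
    refine ⟨⟨b ^ k, k, rfl⟩, ?_⟩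
    have h5 : b ^ k • (x₁ - x₂) = 0 := by
      change ((Dual2.HmapOfLE _ i).app M).hom z = x₁ - x₂ at hz
      rw [← hz, ← map_smul, hk, map_zero]
    rw [smul_sub, sub_eq_zero] at h5
    exact h5

end Groth.Agent.Helper1.LocCohLES

namespace Groth.Agent.Helper1.LocCohLES
open CategoryTheory Limits Opposite
open Groth.Agent.Helper1.DeltaFun Groth.Agent.Helper1.LocCohDelta Groth.Agent.Helper1.LocFun

universe u

variable {R : Type u} [CommRing R] [IsNoetherianRing R] (a : Ideal R) (b : R)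

/-- the quotient of a localization `N'` of `N` by the image of `N` only depends on `N` -/
theorem nonempty_quot_equiv_of_isLocalizedModule (S : Submonoid R) {N N' : Type u}
    [AddCommGroup N] [Module R N] [AddCommGroup N'] [Module R N'] (f : N →ₗ[R] N')
    [IsLocalizedModule S f] :
    Nonempty ((LocalizedModule S N ⧸ LinearMap.range (LocalizedModule.mkLinearMap S N)) ≃ₗ[R]
      (N' ⧸ LinearMap.range f)) := by
  refine ⟨Submodule.Quotient.equiv _ _ (IsLocalizedModule.iso S f) ?_⟩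
  have h : f = (IsLocalizedModule.iso S f).toLinearMap ∘ₗ LocalizedModule.mkLinearMap S N := by
    rw [← IsLocalizedModule.iso_symm_comp S f, ← LinearMap.comp_assoc]
    ext x
    simp
  conv_rhs => rw [h]
  rw [LinearMap.range_comp]

/-- `coker(H^i_a(M) → H^i_a(M_b)) ≃ ker(H^{i+1}_{a+(b)}(M) → H^{i+1}_a(M))` -/
theorem nonempty_coker_equiv_ker (i : ℕ) (M : ModuleCat.{u} R) :
    Nonempty (((localCohomology a i).obj ((L b).obj M) ⧸
      LinearMap.range ((localCohomology a i).map ((η b).app M)).hom) ≃ₗ[R]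
      LinearMap.ker ((Dual2.HmapOfLE (le_sup_left : a ≤ a ⊔ Ideal.span {b}) (i + 1)).app M).hom) := by
  obtain ⟨w3, e3⟩ := exact₃ a b i M
  obtain ⟨w1, e1⟩ := exact₁ a b i M
  have r3 := e3.moduleCat_range_eq_ker
  have r1 := e1.moduleCat_range_eq_ker
  exact ⟨Submodule.quotEquivOfEq _ _ r3 ≪≫ₗ
    (LinearMap.quotKerEquivRange (conn a b i M).hom) ≪≫ₗ LinearEquiv.ofEq _ _ r1⟩

/-- the image of `H^i_{a+(b)}(M) → H^i_a(M)` is the `b`-power torsion -/
theorem mem_range_hmap_iff (i : ℕ) (M : ModuleCat.{u} R) (x : (localCohomology a i).obj M) :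
    x ∈ LinearMap.range ((Dual2.HmapOfLE (le_sup_left : a ≤ a ⊔ Ideal.span {b}) i).app M).hom ↔
      ∃ n : ℕ, b ^ n • x = 0 := by
  obtain ⟨w2, e2⟩ := exact₂ a b i M
  have := isLocalizedModule_lc_map a b i M
  constructor
  · rintro ⟨z, rfl⟩
    obtain ⟨k, hk⟩ := exists_pow_smul_eq_zero a b i M z
    exact ⟨k, by rw [← map_smul, hk, map_zero]⟩
  · rintro ⟨n, hn⟩
    have h0 : ((localCohomology a i).map ((η b).app M)).hom x = 0 := by
      rw [IsLocalizedModule.eq_zero_iff (Submonoid.powers b)]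
      exact ⟨⟨b ^ n, n, rfl⟩, hn⟩
    obtain ⟨z, hz⟩ := (ShortComplex.moduleCat_exact_iff _).1 e2 x h0
    exact ⟨z, hz⟩

/-- `ker(H^{i+1}_{a+(b)}(M) → H^{i+1}_a(M)) ≃ H¹_{(b)}(H^i_a(M))` -/
theorem nonempty_ker_equiv_lc_one (i : ℕ) (M : ModuleCat.{u} R) :
    Nonempty (LinearMap.ker
      ((Dual2.HmapOfLE (le_sup_left : a ≤ a ⊔ Ideal.span {b}) (i + 1)).app M).hom ≃ₗ[R]
      (localCohomology (Ideal.span {b}) 1).obj ((localCohomology a i).obj M)) := by
  obtain ⟨e1⟩ := nonempty_coker_equiv_ker a b i M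
  have := isLocalizedModule_lc_map a b i M
  obtain ⟨e2⟩ := nonempty_quot_equiv_of_isLocalizedModule (Submonoid.powers b)
    ((localCohomology a i).map ((η b).app M)).hom
  obtain ⟨e3⟩ := LocCohPrincipal.nonempty_coker_linearEquiv b ((localCohomology a i).obj M)
  exact ⟨e1.symm ≪≫ₗ e2.symm ≪≫ₗ e3⟩

end Groth.Agent.Helper1.LocCohLES
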