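import Mathlib
import Groth.Agent.Helper1.LocCohDepth

set_option autoImplicit false

/-!
# A uniform annihilator of low local cohomology of a module free at a prime
-/

namespace Groth.Agent.Helper1.LocCohFreeAnn
open CategoryTheory Limits Opposite
open Groth.Agent.Helper1.DeltaFun Groth.Agent.Helper1.LocCohDelta

universe u

section alg

variable {R : Type u} [CommRing R] (M : Type u) [AddCommGroup M] [Module R M]
  [Module.FinitePresentation R M] (p : Ideal R) [p.IsPrime]
  [Module.Free (Localization.AtPrime p) (LocalizedModule p.primeCompl M)]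

/-- a finitely presented module free at `p` is a "retract up to `s ∉ p`" of a finite free module -/
lemma exists_maps : ∃ (n : ℕ) (α : M →ₗ[R] (Fin n →₀ R)) (β : (Fin n →₀ R) →ₗ[R] M) (s : R),
    s ∉ p ∧ β ∘ₗ α = s • LinearMap.id := by
  let S := p.primeCompl
  let Rp := Localization.AtPrime p
  let M' := LocalizedModule S M
  haveI : Module.Finite Rp M' := inferInstance
  let n := Module.finrank Rp M'
  let e : M' ≃ₗ[Rp] (Fin n →₀ Rp) := (Module.finBasis Rp M').repr
  let f : (Fin n →₀ R) →ₗ[R] (Fin n →₀ Rp) :=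
    Finsupp.mapRange.linearMap (α := Fin n) (Algebra.linearMap R Rp)
  let mk : M →ₗ[R] M' := LocalizedModule.mkLinearMap S M
  let g : M →ₗ[R] (Fin n →₀ Rp) := (e.restrictScalars R).toLinearMap ∘ₗ mk
  obtain ⟨α, s₁, hα⟩ := Module.FinitePresentation.exists_lift_of_isLocalizedModule S f g
  let g' : (Fin n →₀ R) →ₗ[R] M' := (e.symm.restrictScalars R).toLinearMap ∘ₗ f
  obtain ⟨β, s₂, hβ⟩ := Module.FinitePresentation.exists_lift_of_isLocalizedModule S mk g'
  have hcomp : mk ∘ₗ (β ∘ₗ α) = mk ∘ₗ ((s₂ * s₁ : S) • (LinearMap.id : M →ₗ[R] M)) := by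
    rw [← LinearMap.comp_assoc, hβ]
    ext m
    simp only [LinearMap.coe_comp, Function.comp_apply, LinearMap.smul_apply, LinearMap.id_coe,
      id_eq, g']
    have h1 : f (α m) = (s₁ : R) • g m := LinearMap.congr_fun hα m
    rw [h1]
    simp only [g, LinearMap.coe_comp, Function.comp_apply, map_smul]
    simp only [LinearEquiv.coe_coe, LinearEquiv.restrictScalars_apply, LinearEquiv.symm_apply_apply]
    rw [Submonoid.smul_def, Submonoid.smul_def, smul_smul, map_smul, Submonoid.coe_mul]
  obtain ⟨s₃, hs₃⟩ := Module.Finite.exists_smul_of_comp_eq_of_isLocalizedModule S mk _ _ hcomp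
  refine ⟨n, α, (s₃ : R) • β, (s₃ : R) * ((s₂ : R) * (s₁ : R)), ?_, ?_⟩
  · exact (s₃ * (s₂ * s₁)).2
  · rw [LinearMap.smul_comp]
    have := hs₃
    rw [Submonoid.smul_def, Submonoid.smul_def, Submonoid.smul_def, smul_smul] at this
    exact this

end alg

section main

variable {R : Type u} [CommRing R] [IsNoetherianRing R]

theorem main (M : Type u) [AddCommGroup M] [Module R M] [Module.Finite R M] (p : Ideal R)
    [p.IsPrime] [Module.Free (Localization.AtPrime p) (LocalizedModule p.primeCompl M)] :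
    ∃ s : R, s ∉ p ∧ ∀ (b : Ideal R), b ≠ ⊤ → ∀ (i : ℕ),
      (i : ℕ∞) < LocCoh.idealDepth b R →
        ∀ x : (localCohomology b i).obj (ModuleCat.of R M), s • x = 0 := by
  haveI : Module.FinitePresentation R M := Module.finitePresentation_of_finite R M
  obtain ⟨n, α, β, s, hs, hαβ⟩ := exists_maps M p
  refine ⟨s, hs, fun b hb i hi x => ?_⟩
  have hbR : b • (⊤ : Submodule R R) ≠ ⊤ := by
    rw [smul_eq_mul, Ideal.mul_top]
    exact hb
  have h1 : ((i + 1 : ℕ) : ℕ∞) ≤ LocCoh.idealDepth b R := by
    have := Order.add_one_le_of_lt hi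
    exact_mod_cast this
  have h2 : Subsingleton (LocCoh.H b i R) :=
    (LocCohDepth.le_idealDepth_iff_lc b R hbR (i + 1)).1 h1 i (Nat.lt_succ_self i)
  have h3 : IsZero ((localCohomology b i).obj (ModuleCat.of R R)) :=
    ModuleCat.isZero_iff_subsingleton.2 h2
  have h4 : IsZero ((localCohomology b i).obj (ModuleCat.of R (Fin n →₀ R))) :=
    IsZero.of_iso (LocCohRing.isZero_free (localCohomology b i) h3 n)
      ((localCohomology b i).mapIso (Finsupp.linearEquivFunOnFinite R R (Fin n)).toModuleIso)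
  have h5 : ModuleCat.ofHom α ≫ ModuleCat.ofHom β = s • 𝟙 (ModuleCat.of R M) := by
    rw [← ModuleCat.ofHom_comp, hαβ]
    rfl
  have h6 : s • 𝟙 ((localCohomology b i).obj (ModuleCat.of R M)) = 0 := by
    have := congrArg (localCohomology b i).map h5
    rw [Functor.map_comp, lc_map_smul, CategoryTheory.Functor.map_id] at this
    rw [← this, h4.eq_of_tgt ((localCohomology b i).map (ModuleCat.ofHom α)) 0, zero_comp]
  have := congrArg (fun φ => φ.hom x) h6
  exact this

end main

end Groth.Agent.Helper1.LocCohFreeAnn
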