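import Mathlib
import Groth.Agent.Helper1.LocCohFreeAnn

set_option autoImplicit false

/-!
# Uniform annihilators of low local cohomology in terms of local projective dimension
-/

namespace Groth.Agent.Helper1.LocCohPdAnn
open CategoryTheory Limits Opposite
open Groth.Agent.Helper1.DeltaFun Groth.Agent.Helper1.LocCohDelta

universe u

variable {R : Type u} [CommRing R] [IsNoetherianRing R]

/-- localizing a short exact sequence at a prime -/
lemma localized_shortExact (p : Ideal R) [p.IsPrime] {K F M : Type u} [AddCommGroup K]
    [Module R K] [AddCommGroup F] [Module R F] [AddCommGroup M] [Module R M]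
    (ι : K →ₗ[R] F) (π : F →ₗ[R] M) (hι : Function.Injective ι) (hπ : Function.Surjective π)
    (hex : Function.Exact ι π) :
    (ShortComplex.mk
      (ModuleCat.ofHom (LocalizedModule.map p.primeCompl ι))
      (ModuleCat.ofHom (LocalizedModule.map p.primeCompl π))
      (by
        rw [← ModuleCat.ofHom_comp]
        have : LocalizedModule.map p.primeCompl π ∘ₗ LocalizedModule.map p.primeCompl ι = 0 := by
          ext x
          induction x using LocalizedModule.induction_on with
          | h m s =>
            simp only [LinearMap.coe_comp, Function.comp_apply, LocalizedModule.map_mk,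
              LinearMap.zero_apply]
            rw [hex.apply_apply_eq_zero, LocalizedModule.zero_mk]
        rw [this]
        rfl)).ShortExact where
  exact := by
    rw [ShortComplex.ShortExact.moduleCat_exact_iff_function_exact]
    exact LocalizedModule.map_exact p.primeCompl ι π hex
  mono_f := (ModuleCat.mono_iff_injective _).2 (LocalizedModule.map_injective _ ι hι)
  epi_g := (ModuleCat.epi_iff_surjective _).2 (LocalizedModule.map_surjective _ π hπ)

omit [IsNoetherianRing R] in
lemma smul_eq_zero_of_mono {X Y : ModuleCat.{u} R} (f : X ⟶ Y) [Mono f] (s : R) (x : X)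
    (h : s • f.hom x = 0) : s • x = 0 := by
  apply (ModuleCat.mono_iff_injective f).1 inferInstance
  rw [map_smul, map_zero]
  exact h

theorem main (h : ℕ) : ∀ (M : Type u) [AddCommGroup M] [Module R M] [Module.Finite R M]
    (p : Ideal R) [p.IsPrime],
    HasProjectiveDimensionLE (ModuleCat.of (Localization.AtPrime p)
      (LocalizedModule p.primeCompl M)) h →
    ∃ s : R, s ∉ p ∧ ∀ (b : Ideal R), b ≠ ⊤ → ∀ (i : ℕ),
      ((i + h : ℕ) : ℕ∞) < LocCoh.idealDepth b R →
        ∀ x : (localCohomology b i).obj (ModuleCat.of R M), s • x = 0 := by
  induction h with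
  | zero =>
    intro M _ _ _ p _ hpd
    have h1 : Projective (ModuleCat.of (Localization.AtPrime p)
        (LocalizedModule p.primeCompl M)) :=
      (projective_iff_hasProjectiveDimensionLE_zero _).2 hpd
    have h2 : Module.Projective (Localization.AtPrime p) (LocalizedModule p.primeCompl M) :=
      (IsProjective.iff_projective _).2 h1
    haveI : Module.Free (Localization.AtPrime p) (LocalizedModule p.primeCompl M) :=
      Module.free_of_flat_of_isLocalRing
    obtain ⟨s, hs, H⟩ := LocCohFreeAnn.main M p
    exact ⟨s, hs, fun b hb i hi x => H b hb i (by simpa using hi) x⟩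
  | succ h ih =>
    intro M _ _ _ p _ hpd
    obtain ⟨n, π, hπ⟩ := Module.Finite.exists_fin' R M
    let K := LinearMap.ker π
    have hS := localized_shortExact p K.subtype π K.injective_subtype hπ
      (LinearMap.exact_subtype_ker_map π)
    have hfree : Module.Free (Localization.AtPrime p)
        (LocalizedModule p.primeCompl (Fin n → R)) :=
      Module.free_of_isLocalizedModule p.primeCompl
        (LocalizedModule.mkLinearMap p.primeCompl (Fin n → R))
    have hproj : Projective (ModuleCat.of (Localization.AtPrime p)
        (LocalizedModule p.primeCompl (Fin n → R))) :=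
      (IsProjective.iff_projective _).1 inferInstance
    have hK : HasProjectiveDimensionLE (ModuleCat.of (Localization.AtPrime p)
        (LocalizedModule p.primeCompl K)) h :=
      hS.hasProjectiveDimensionLT_X₁ (h + 1) inferInstance hpd
    obtain ⟨s, hs, H⟩ := ih K p hK
    refine ⟨s, hs, fun b hb i hi x => ?_⟩
    -- the short exact sequence `0 → K → R^n → M → 0`
    let S : ShortComplex (ModuleCat.{u} R) :=
      ModuleCat.shortComplexOfCompEqZero K.subtype π (by
        ext x
        exact x.2)
    have hSe : S.ShortExact :=
      { exact := ModuleCat.shortComplex_exact _ (LinearMap.exact_subtype_ker_map π)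
        mono_f := (ModuleCat.mono_iff_injective _).2 K.injective_subtype
        epi_g := (ModuleCat.epi_iff_surjective _).2 hπ }
    have hbR : b • (⊤ : Submodule R R) ≠ ⊤ := by
      rw [smul_eq_mul, Ideal.mul_top]
      exact hb
    have h1 : ((i + 1 : ℕ) : ℕ∞) ≤ LocCoh.idealDepth b R := by
      have h0 : ((i : ℕ) : ℕ∞) < LocCoh.idealDepth b R :=
        lt_of_le_of_lt (by exact_mod_cast (by omega : i ≤ i + (h + 1))) hi
      have := Order.add_one_le_of_lt h0
      exact_mod_cast this
    have h2 : Subsingleton (LocCoh.H b i R) :=
      (LocCohDepth.le_idealDepth_iff_lc b R hbR (i + 1)).1 h1 i (Nat.lt_succ_self i)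
    have h3 : IsZero ((localCohomology b i).obj (ModuleCat.of R R)) :=
      ModuleCat.isZero_iff_subsingleton.2 h2
    have h4 : IsZero ((localCohomology b i).obj S.X₂) :=
      LocCohRing.isZero_free (localCohomology b i) h3 n
    have hex := (lcDelta b).exact₃ S hSe i
    have hmono : Mono ((lcDelta b).δ S hSe i) := hex.mono_g (h4.eq_of_src _ _)
    exact smul_eq_zero_of_mono ((lcDelta b).δ S hSe i) s x (H b hb (i + 1) (by
      have : i + 1 + h = i + (h + 1) := by omega
      rw [this]
      exact hi) _)

end Groth.Agent.Helper1.LocCohPdAnn
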