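import Mathlib
import Groth.Agent.Helper1.LocCohDepth
import Groth.Agent.Helper1.LocCohLocS
import Groth.Agent.Helper1.LocCohTors
import Groth.Agent.Helper2.Isch
import Groth.Agent.Helper2.RegCM
import Groth.Agent.Helper2.SerreLoc
import Groth.Agent.Helper6.CMCaten

set_option autoImplicit false

/-!
# In a regular ring, `ht p ≤ grade(p, R)` for prime ideals `p`
-/

namespace Groth.Agent.Helper1.RegGrade
open CategoryTheory IsLocalRing

universe u

section loc

variable {A : Type u} [CommRing A] [IsRegularLocalRing A]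

/-- the local case -/
theorem height_le_idealDepth_local (p : Ideal A) [hp : p.IsPrime] :
    p.height ≤ LocCoh.idealDepth p A := by
  rcases eq_or_ne (LocCoh.idealDepth p A) ⊤ with htop | htop
  · rw [htop]; exact le_top
  obtain ⟨g, hg⟩ := ENat.ne_top_iff_exists.1 htop
  have h1 := Groth.Agent.Helper2.Isch.depth_le_idealDepth_add_dim p g A hg.symm
  have hcm : LocCoh.IsCohenMacaulayModule A A :=
    Groth.Agent.Helper2.RegCM.cm_of_isRegularLocalRing A
  have hfull : Groth.Agent.Helper6.CMCaten.HasCMFull A := by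
    refine ⟨A, inferInstance, inferInstance, inferInstance, hcm, ?_⟩
    rw [Module.support_eq_zeroLocus, Module.annihilator_eq_bot.mpr inferInstance]
    simp
  have h2 := Groth.Agent.Helper6.CMCaten.dim_eq hfull ⟨p, hp⟩
  have h3 : Module.supportDim A A = ((LocCoh.depth A A : ℕ∞) : WithBot ℕ∞) := hcm
  rw [Module.supportDim_self_eq_ringKrullDim] at h3
  rw [← h3, h2] at h1
  -- `dim A/p` is a natural number
  have hne_bot : ringKrullDim (A ⧸ p) ≠ ⊥ := ringKrullDim_ne_bot
  have hne_top : ringKrullDim (A ⧸ p) ≠ ⊤ := ringKrullDim_ne_top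
  obtain ⟨n, hn⟩ : ∃ n : ℕ, ringKrullDim (A ⧸ p) = n := by
    obtain ⟨x, hx⟩ := WithBot.ne_bot_iff_exists.1 hne_bot
    have hx' : x ≠ ⊤ := by
      intro h
      apply hne_top
      rw [← hx, h]
      rfl
    obtain ⟨n, rfl⟩ := ENat.ne_top_iff_exists.1 hx'
    exact ⟨n, hx.symm⟩
  rw [hn] at h1
  have h4 : ((n : ℕ∞) + p.height : ℕ∞) ≤ (g : ℕ∞) + (n : ℕ∞) := by exact_mod_cast h1
  rw [← hg, add_comm (g : ℕ∞)] at *
  exact (WithTop.add_le_add_iff_left (ENat.natCast_ne_top n)).1 h4

end loc


lemma smul_top_ne_top_self {A : Type u} [CommRing A] (p : Ideal A) (hp : p ≠ ⊤) :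
    p • (⊤ : Submodule A A) ≠ ⊤ := by
  intro h
  apply hp
  have h1 : p • (⊤ : Submodule A A) ≤ p :=
    Submodule.smul_le.2 (fun r hr n _ => p.mul_mem_right n hr)
  rw [h] at h1
  exact top_le_iff.1 h1

section glob

variable {S : Type u} [CommRing S] [IsRegularRing S]

/-- in a regular ring, `ht p ≤ grade(p, S)` -/
theorem height_le_idealDepth (p : Ideal S) [hp : p.IsPrime] :
    p.height ≤ LocCoh.idealDepth p S := by
  classical
  obtain ⟨h, hh⟩ := ENat.ne_top_iff_exists.1 (Ideal.height_ne_top_of_isPrime (I := p))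
  rw [← hh]
  have hIM := smul_top_ne_top_self p hp.ne_top
  refine (LocCohDepth.le_idealDepth_iff_lc p S hIM h).2 (fun j hj => ?_)
  refine ⟨fun z₁ z₂ => ?_⟩
  suffices h0 : ∀ z : LocCoh.H p j S, z = 0 by rw [h0 z₁, h0 z₂]
  intro z
  by_contra hz
  -- the annihilator of `z` is proper, hence inside a maximal ideal `Q`
  let 𝔞 : Ideal S := LinearMap.ker (LinearMap.toSpanSingleton S (LocCoh.H p j S) z)
  have h𝔞 : 𝔞 ≠ ⊤ := by
    intro htop
    have : (1 : S) ∈ 𝔞 := by rw [htop]; exact Submodule.mem_top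
    rw [LinearMap.mem_ker, LinearMap.toSpanSingleton_apply, one_smul] at this
    exact hz this
  obtain ⟨Q, hQmax, h𝔞Q⟩ := Ideal.exists_le_maximal 𝔞 h𝔞
  haveI hQ : Q.IsPrime := hQmax.isPrime
  have hmem : ∀ u : S, u • z = 0 → u ∈ Q := fun u hu => h𝔞Q (by
    rw [LinearMap.mem_ker, LinearMap.toSpanSingleton_apply]; exact hu)
  have hpQ : p ≤ Q := by
    intro x hx
    obtain ⟨k, hk⟩ := LocCohTors.isPowerTorsion p j (ModuleCat.of S S) z
    exact hQ.mem_of_pow_mem k (hmem _ (hk _ (Ideal.pow_mem_pow hx k)))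
  -- localize at `Q`
  let Q' := Q.primeCompl
  have hdisj : Disjoint (Q' : Set S) (p : Set S) :=
    Set.disjoint_left.2 fun _ hxS hxp => hxS (hpQ hxp)
  haveI hp' : (p.map (algebraMap S (Localization.AtPrime Q))).IsPrime :=
    IsLocalization.isPrime_of_isPrime_disjoint Q' _ p hp hdisj
  have hht : (p.map (algebraMap S (Localization.AtPrime Q))).height = h := by
    rw [IsLocalization.height_map_of_disjoint Q' p hdisj, hh]
  have hloc := height_le_idealDepth_local (p.map (algebraMap S (Localization.AtPrime Q)))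
  rw [hht] at hloc
  have hsub : Subsingleton (LocCoh.H (p.map (algebraMap S (Localization.AtPrime Q))) j
      (Localization.AtPrime Q)) :=
    (LocCohDepth.le_idealDepth_iff_lc _ _ (smul_top_ne_top_self _ hp'.ne_top) h).1 hloc j hj
  obtain ⟨e⟩ := LocCohLocS.nonempty_localized_linearEquiv Q' p S j
  have hsub' : Subsingleton (LocalizedModule Q' (LocCoh.H p j S)) := by
    haveI : Subsingleton ((localCohomology (p.map (algebraMap S (Localization Q'))) j).obj
        (ModuleCat.of (Localization Q') (LocalizedModule Q' S))) := hsub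
    exact e.toEquiv.subsingleton
  rw [LocalizedModule.subsingleton_iff] at hsub'
  obtain ⟨u, hu, huz⟩ := hsub' z
  exact hu (hmem u huz)

end glob

end Groth.Agent.Helper1.RegGrade
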