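import Mathlib
import Groth.Agent.Helper1.FaltingsE
import Groth.Agent.Helper1.RegGrade
import Groth.Agent.Helper1.LocCohLocalization
import Groth.Agent.Helper1.LocCohPdAnn
import Groth.Agent.Helper2.DepthCM4

set_option autoImplicit false

/-!
# The hard half of Faltings' annihilator theorem over a regular ring
-/

namespace Groth.Agent.Helper1.Faltings
open CategoryTheory Limits IsLocalRing
open Groth.Agent.Helper1.DeltaFun Groth.Agent.Helper1.LocCohDelta

universe u

section basic

variable {R : Type u} [CommRing R]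

lemma minAdjDepth_mono (a a' b : Ideal R) (h : a ≤ a') (M : Type u) [AddCommGroup M]
    [Module R M] : LocCoh.minAdjDepth a b M ≤ LocCoh.minAdjDepth a' b M := by
  unfold LocCoh.minAdjDepth
  refine iInf₂_mono (fun p _ => ?_)
  unfold LocCoh.adjDepth
  gcongr

/-- if every prime `q ⊆ p` containing `𝔞` contains `s`, then `x s^k ∈ 𝔞` for some `x ∉ p` -/
lemma exists_mul_pow_mem (p : Ideal R) [hp : p.IsPrime] (𝔞 : Ideal R) (s : R)
    (h : ∀ q : Ideal R, q.IsPrime → q ≤ p → 𝔞 ≤ q → s ∈ q) :
    ∃ x : R, x ∉ p ∧ ∃ k : ℕ, x * s ^ k ∈ 𝔞 := by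
  by_contra hcon
  push Not at hcon
  have hdisj : Disjoint (𝔞 : Set R) ((p.primeCompl ⊔ Submonoid.powers s : Submonoid R) : Set R) := by
    rw [Set.disjoint_left]
    intro y hy hyT
    obtain ⟨x, hx, z, ⟨k, rfl⟩, rfl⟩ := Submonoid.mem_sup.1 hyT
    exact hcon x hx k hy
  obtain ⟨q, hq, h𝔞q, hqT⟩ := Ideal.exists_le_prime_disjoint 𝔞 _ hdisj
  rw [Set.disjoint_left] at hqT
  have hqp : q ≤ p := by
    intro x hx
    by_contra hxp
    exact hqT hx (Submonoid.mem_sup_left (show x ∈ p.primeCompl from hxp))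
  exact hqT (h q hq hqp h𝔞q) (Submonoid.mem_sup_right (Submonoid.mem_powers s))

end basic

variable {R : Type u} [CommRing R] [IsNoetherianRing R]

/-- elements of `H^i_a(M)` killed by a power of `x` are killed by a fixed power of `s` as soon as
`H^i_{a+(x)}(M)` is -/
lemma torsion_killed (a : Ideal R) (x s : R) (i : ℕ) (M : ModuleCat.{u} R)
    (h : PK s ((localCohomology (a ⊔ Ideal.span {x}) i).obj M)) :
    ∃ k : ℕ, ∀ z : (localCohomology a i).obj M, (∃ n : ℕ, x ^ n • z = 0) → s ^ k • z = 0 := by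
  obtain ⟨k, hk⟩ := h
  refine ⟨k, fun z hz => ?_⟩
  obtain ⟨w, rfl⟩ := (LocCohLES.mem_range_hmap_iff a x i M z).2 hz
  rw [← map_smul, hk w, map_zero]

lemma lc_top_eq_zero (i : ℕ) (M : ModuleCat.{u} R) (z : (localCohomology (⊤ : Ideal R) i).obj M) :
    z = 0 := by
  obtain ⟨k, hk⟩ := LocCohTors.isPowerTorsion (⊤ : Ideal R) i M z
  have := hk 1 (by rw [Ideal.top_pow]; exact Submodule.mem_top)
  rwa [one_smul] at this

/-- a module vanishing at `q` is killed by an element outside `q` -/
lemma exists_kill_of_subsingleton (q : Ideal R) [hq : q.IsPrime] (M : Type u) [AddCommGroup M]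
    [Module R M] [Module.Finite R M] (h : Subsingleton (LocalizedModule q.primeCompl M)) :
    ∃ u : R, u ∉ q ∧ ∀ m : M, u • m = 0 := by
  obtain ⟨u, hu, hkill⟩ := exists_kill_ker q M
  refine ⟨u, hu, fun m => hkill m ?_⟩
  rw [LocalizedModule.subsingleton_iff_ker_eq_top.1 h]
  exact Submodule.mem_top


section regular

variable {S : Type u} [CommRing S] [IsRegularRing S]

/-- the prime case: annihilators outside each `q ⊆ p` with `s ∉ q` -/
lemma exists_kill_prime (p : Ideal S) [hp : p.IsPrime] (M : Type u) [AddCommGroup M] [Module S M]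
    [Module.Finite S M] (s : S) (i : ℕ)
    (hi : (i : ℕ∞) < LocCoh.minAdjDepth p (Ideal.span {s}) M)
    (q : Ideal S) [hq : q.IsPrime] (hqp : q ≤ p) (hsq : s ∉ q) :
    ∃ u : S, u ∉ q ∧ ∀ z : LocCoh.H p i M, u • z = 0 := by
  classical
  rcases subsingleton_or_nontrivial (LocalizedModule q.primeCompl M) with hsub | hnt
  · obtain ⟨u, hu, hkill⟩ := exists_kill_of_subsingleton q M hsub
    exact ⟨u, hu, fun z => smul_lc_eq_zero p u (ModuleCat.of S M) hkill i z⟩
  haveI : IsNoetherianRing (Localization.AtPrime q) :=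
    IsLocalization.isNoetherianRing q.primeCompl _ inferInstance
  haveI : Module.Finite (Localization.AtPrime q) (LocalizedModule q.primeCompl M) :=
    Module.Finite.of_isLocalizedModule q.primeCompl (LocalizedModule.mkLinearMap q.primeCompl M)
  obtain ⟨d, hd⟩ := ENat.ne_top_iff_exists.1 (Ideal.height_ne_top_of_isPrime (I := p))
  -- `i + 1 ≤ depth M_q + ht p/q`
  have h1 : ((i + 1 : ℕ) : ℕ∞) ≤ LocCoh.depth (Localization.AtPrime q)
      (LocalizedModule q.primeCompl M) + (p.map (Ideal.Quotient.mk q)).height := by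
    have h2 : LocCoh.minAdjDepth p (Ideal.span {s}) M ≤ LocCoh.adjDepth p M ⟨q, hq⟩ := by
      unfold LocCoh.minAdjDepth
      exact iInf₂_le (⟨q, hq⟩ : PrimeSpectrum S)
        (fun h => hsq (h (Ideal.subset_span rfl)))
    have h3 : LocCoh.adjDepth p M ⟨q, hq⟩ = LocCoh.depth (Localization.AtPrime q)
        (LocalizedModule q.primeCompl M) + (p.map (Ideal.Quotient.mk q)).height := by
      unfold LocCoh.adjDepth
      show _ + ((p ⊔ q).map (Ideal.Quotient.mk q)).height = _
      rw [sup_eq_left.2 hqp]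
    rw [← h3]
    refine le_trans ?_ h2
    rw [Nat.cast_add, Nat.cast_one]
    exact Order.add_one_le_of_lt hi
  -- `depth M_q ≤ ht q`
  have h4 : LocCoh.depth (Localization.AtPrime q) (LocalizedModule q.primeCompl M) ≤ q.height := by
    have h5 := Groth.Agent.Helper2.DepthCM4.depth_le_supportDim (A := Localization.AtPrime q)
      (LocalizedModule q.primeCompl M)
    have h6 : Module.supportDim (Localization.AtPrime q) (LocalizedModule q.primeCompl M) ≤
        ringKrullDim (Localization.AtPrime q) := Module.supportDim_le_ringKrullDim _ _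
    rw [IsLocalization.AtPrime.ringKrullDim_eq_height q] at h6
    exact_mod_cast h5.trans h6
  -- `ht p/q + ht q ≤ ht p`
  haveI := isPrime_map_mk q p hqp
  have hadd : (p.map (Ideal.Quotient.mk q)).height + q.height ≤ p.height := by
    have h7 := height_add_height_ker_le (Ideal.Quotient.mk q) Ideal.Quotient.mk_surjective q
      (Ideal.mk_ker).symm (p.map (Ideal.Quotient.mk q))
    rw [comap_map_mk q p hqp] at h7
    exact h7
  have h8 : ((i + 1 : ℕ) : ℕ∞) ≤ (d : ℕ∞) := by
    rw [hd]
    refine h1.trans (le_trans ?_ hadd)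
    rw [add_comm]
    gcongr
  have h8' : i + 1 ≤ d := by exact_mod_cast h8
  -- `pd M_q ≤ d - (i+1)`
  have hpd : HasProjectiveDimensionLE (ModuleCat.of (Localization.AtPrime q)
      (LocalizedModule q.primeCompl M)) (d - (i + 1)) := by
    refine pd_le_of_adj q p hqp d (le_of_eq hd.symm) M (d - (i + 1)) ?_
    have h9 : (d : ℕ∞) = ((d - (i + 1) : ℕ) : ℕ∞) + ((i + 1 : ℕ) : ℕ∞) := by
      rw [← Nat.cast_add]
      congr 1
      omega
    rw [h9]
    gcongr
  obtain ⟨u, hu, hkill⟩ := LocCohPdAnn.main (d - (i + 1)) M q hpd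
  refine ⟨u, hu, fun z => hkill p hp.ne_top i ?_ z⟩
  have h10 := RegGrade.height_le_idealDepth p
  rw [← hd] at h10
  refine lt_of_lt_of_le ?_ h10
  have : i + (d - (i + 1)) < d := by omega
  exact_mod_cast this

/-- **Faltings' annihilator theorem, hard half, over a regular ring** -/
theorem regular_main (M : Type u) [AddCommGroup M] [Module S M] [Module.Finite S M] (s : S) :
    ∀ (a : Ideal S) (i : ℕ), (i : ℕ∞) < LocCoh.minAdjDepth a (Ideal.span {s}) M →
      PK s (LocCoh.H a i M) := by
  intro a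
  induction a using WellFoundedGT.induction with
  | ind a ih =>
    intro i hi
    by_cases htop : a = ⊤
    · subst htop
      exact ⟨0, fun z => by rw [lc_top_eq_zero i (ModuleCat.of S M) z, smul_zero]⟩
    -- the consequence of the induction hypothesis
    have hstar : ∀ x : S, x ∉ a → ∃ k : ℕ, ∀ z : LocCoh.H a i M,
        (∃ n : ℕ, x ^ n • z = 0) → s ^ k • z = 0 := by
      intro x hx
      have hlt : a < a ⊔ Ideal.span {x} := by
        refine lt_of_le_of_ne le_sup_left (fun h => hx ?_)
        rw [h]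
        exact Ideal.mem_sup_right (Ideal.mem_span_singleton_self x)
      exact torsion_killed a x s i (ModuleCat.of S M)
        (ih _ hlt i (lt_of_lt_of_le hi (minAdjDepth_mono _ _ _ le_sup_left M)))
    by_cases hprime : a.IsPrime
    · -- the prime case
      let 𝔞 : Ideal S := Module.annihilator S (LocCoh.H a i M)
      have h𝔞 : ∀ q : Ideal S, q.IsPrime → q ≤ a → 𝔞 ≤ q → s ∈ q := by
        intro q hq hqa h𝔞q
        by_contra hsq
        obtain ⟨u, hu, hkill⟩ := exists_kill_prime a M s i hi q hqa hsq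
        exact hu (h𝔞q (Module.mem_annihilator.2 hkill))
      obtain ⟨x, hxa, k, hxk⟩ := exists_mul_pow_mem a 𝔞 s h𝔞
      obtain ⟨k', hk'⟩ := hstar x hxa
      refine ⟨k' + k, fun z => ?_⟩
      rw [pow_add, mul_smul]
      apply hk'
      refine ⟨1, ?_⟩
      rw [pow_one, ← mul_smul]
      exact Module.mem_annihilator.1 hxk z
    · -- the non-prime case
      rcases Ideal.not_isPrime_iff.1 hprime with h | ⟨x, hx, y, hy, hxy⟩
      · exact absurd h htop
      obtain ⟨kx, hkx⟩ := hstar x hx
      obtain ⟨ky, hky⟩ := hstar y hy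
      refine ⟨ky + kx, fun z => ?_⟩
      obtain ⟨n, hn⟩ := LocCohTors.isPowerTorsion a i (ModuleCat.of S M) z
      have h1 : (x * y) ^ n • z = 0 := hn _ (Ideal.pow_mem_pow hxy n)
      rw [mul_pow, mul_smul] at h1
      have h2 : s ^ kx • (y ^ n • z) = 0 := hkx _ ⟨n, h1⟩
      rw [smul_comm] at h2
      rw [pow_add, mul_smul]
      exact hky _ ⟨n, h2⟩

end regular

end Groth.Agent.Helper1.Faltings
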