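import Mathlib
import Groth.Agent.Helper1.FaltingsF
import Groth.Agent.Helper1.LocCohBase
import Groth.Agent.Helper2.DepthLoc

set_option autoImplicit false

/-!
# Transfer of finiteness dimensions and adjusted depths along a surjective ring map
-/

namespace Groth.Agent.Helper1.Faltings
open CategoryTheory Limits IsLocalRing

universe u

section converse

variable {R : Type u} [CommRing R] [IsNoetherianRing R]

/-- the converse of `DP_of_depth_eq` -/
theorem depth_eq_of_DP (p : Ideal R) [hp : p.IsPrime] (M : Type u) [AddCommGroup M] [Module R M]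
    [Module.Finite R M] (t : ℕ) (h : DP p t M) :
    LocCoh.depth (Localization.AtPrime p) (LocalizedModule p.primeCompl M) = t := by
  haveI : IsNoetherianRing (Localization.AtPrime p) :=
    IsLocalization.isNoetherianRing p.primeCompl _ inferInstance
  haveI : Module.Finite (Localization.AtPrime p) (LocalizedModule p.primeCompl M) :=
    Module.Finite.of_isLocalizedModule p.primeCompl (LocalizedModule.mkLinearMap p.primeCompl M)
  rcases subsingleton_or_nontrivial (LocalizedModule p.primeCompl M) with hsub | hnt
  · exfalso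
    obtain ⟨u, hu, hkill⟩ := exists_kill_of_subsingleton p M hsub
    exact h.2 (fun z => ⟨u, hu, smul_lc_eq_zero p u (ModuleCat.of R M) hkill t z⟩)
  have hfin : LocCoh.depth (Localization.AtPrime p) (LocalizedModule p.primeCompl M) ≠ ⊤ := by
    intro htop
    have h5 := Groth.Agent.Helper2.DepthCM4.depth_le_supportDim (A := Localization.AtPrime p)
      (LocalizedModule p.primeCompl M)
    have h6 : Module.supportDim (Localization.AtPrime p) (LocalizedModule p.primeCompl M) ≤
        ringKrullDim (Localization.AtPrime p) := Module.supportDim_le_ringKrullDim _ _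
    rw [htop] at h5
    have h7 := h5.trans h6
    have h8 : ringKrullDim (Localization.AtPrime p) < ⊤ := ringKrullDim_lt_top
    exact absurd (lt_of_le_of_lt h7 h8) (by simp)
  obtain ⟨t', ht'⟩ := ENat.ne_top_iff_exists.1 hfin
  have hD' := DP_of_depth_eq p M t' ht'.symm
  rw [← ht']
  congr 1
  rcases lt_trichotomy t' t with hlt | heq | hgt
  · exact absurd (h.1 t' hlt) hD'.2
  · exact heq
  · exact absurd (hD'.1 t hgt) h.2

end converse


section transfer

variable {S R : Type u} [CommRing S] [CommRing R] [IsNoetherianRing S] [IsNoetherianRing R]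
  [Algebra S R] (hπ : Function.Surjective (algebraMap S R))
  (M : Type u) [AddCommGroup M] [Module R M] [Module S M] [IsScalarTower S R M]

lemma PK_map (I : Ideal S) (i : ℕ) (s : S) (h : PK s (LocCoh.H I i M)) :
    PK (algebraMap S R s) (LocCoh.H (I.map (algebraMap S R)) i M) := by
  obtain ⟨φ, hφ⟩ := LocCohBase.exists_addEquiv (R := S) (R' := R) I M i
  obtain ⟨k, hk⟩ := h
  refine ⟨k, fun x => φ.injective ?_⟩
  rw [← map_pow, hφ, hk, map_zero]

include hπ in
lemma LZ_map_iff (P : Ideal S)
    (hP : (P.map (algebraMap S R)).comap (algebraMap S R) = P) (I : Ideal S) (j : ℕ) :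
    LZ P (LocCoh.H I j M) ↔
      LZ (P.map (algebraMap S R)) (LocCoh.H (I.map (algebraMap S R)) j M) := by
  obtain ⟨φ, hφ⟩ := LocCohBase.exists_addEquiv (R := S) (R' := R) I M j
  constructor
  · intro h z
    obtain ⟨v, hv, hvz⟩ := h (φ z)
    refine ⟨algebraMap S R v, fun hmem => hv ?_, φ.injective ?_⟩
    · rw [← hP]
      exact hmem
    · rw [hφ, hvz, map_zero]
  · intro h z'
    obtain ⟨z, rfl⟩ := φ.surjective z'
    obtain ⟨u, hu, huz⟩ := h z
    obtain ⟨v, rfl⟩ := hπ u
    refine ⟨v, fun hmem => hu (Ideal.mem_map_of_mem _ hmem), ?_⟩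
    rw [← hφ, huz, map_zero]

include hπ in
lemma DP_map_iff (P : Ideal S)
    (hP : (P.map (algebraMap S R)).comap (algebraMap S R) = P) (t : ℕ) :
    DP P t M ↔ DP (P.map (algebraMap S R)) t M := by
  unfold DP
  rw [LZ_map_iff hπ M P hP P t]
  constructor
  · rintro ⟨h1, h2⟩
    exact ⟨fun i hi => (LZ_map_iff hπ M P hP P i).1 (h1 i hi), h2⟩
  · rintro ⟨h1, h2⟩
    exact ⟨fun i hi => (LZ_map_iff hπ M P hP P i).2 (h1 i hi), h2⟩

omit [IsNoetherianRing S] [IsNoetherianRing R] in
include hπ in
/-- heights in `S/P` and `R/p` agree -/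
lemma height_map_quotient (P : Ideal S)
    (hP : (P.map (algebraMap S R)).comap (algebraMap S R) = P) (A : Ideal S) :
    ((A ⊔ P).map (Ideal.Quotient.mk P)).height =
      ((A.map (algebraMap S R) ⊔ P.map (algebraMap S R)).map
        (Ideal.Quotient.mk (P.map (algebraMap S R)))).height := by
  have H : P ≤ (P.map (algebraMap S R)).comap (algebraMap S R) := Ideal.le_comap_map
  let e : S ⧸ P ≃+* R ⧸ P.map (algebraMap S R) :=
    RingEquiv.ofBijective (Ideal.quotientMap (P.map (algebraMap S R)) (algebraMap S R) H)
      ⟨Ideal.quotientMap_injective' hP.le, Ideal.quotientMap_surjective hπ⟩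
  rw [← RingEquiv.height_map e]
  congr 1
  have he : (e : S ⧸ P →+* R ⧸ P.map (algebraMap S R)).comp (Ideal.Quotient.mk P) =
      (Ideal.Quotient.mk (P.map (algebraMap S R))).comp (algebraMap S R) :=
    Ideal.quotientMap_comp_mk H
  show Ideal.map (e : S ⧸ P →+* R ⧸ P.map (algebraMap S R)) _ = _
  rw [Ideal.map_map, he, ← Ideal.map_map, Ideal.map_sup]


include hπ in
/-- **Faltings' annihilator theorem, hard half**, for a homomorphic image of a regular ring -/
theorem image_main [hS : IsRegularRing S] [Module.Finite R M] [Module.Finite S M]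
    (a b : Ideal R) : LocCoh.minAdjDepth a b M ≤ LocCoh.finDimRel a b M := by
  classical
  unfold LocCoh.finDimRel
  refine le_iInf₂ (fun i hi => ?_)
  by_contra hlt
  rw [not_le] at hlt
  apply hi
  intro r hr
  rw [mem_radical_annihilator_iff]
  obtain ⟨s, rfl⟩ := hπ r
  have hA : (a.comap (algebraMap S R)).map (algebraMap S R) = a :=
    Ideal.map_comap_of_surjective _ hπ a
  have key : (i : ℕ∞) < LocCoh.minAdjDepth (a.comap (algebraMap S R)) (Ideal.span {s}) M := by
    refine lt_of_lt_of_le hlt ?_
    unfold LocCoh.minAdjDepth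
    refine le_iInf₂ (fun P hsP => ?_)
    haveI hPprime := P.2
    have hsP' : s ∉ P.asIdeal := fun h => hsP ((Ideal.span_singleton_le_iff_mem _).2 h)
    by_cases hker : RingHom.ker (algebraMap S R) ≤ P.asIdeal
    · haveI hp : (P.asIdeal.map (algebraMap S R)).IsPrime :=
        Ideal.map_isPrime_of_surjective hπ hker
      have hcomap : (P.asIdeal.map (algebraMap S R)).comap (algebraMap S R) = P.asIdeal := by
        rw [Ideal.comap_map_of_surjective _ hπ, ← RingHom.ker_eq_comap_bot]
        exact sup_eq_left.2 hker
      have hbp : ¬ b ≤ P.asIdeal.map (algebraMap S R) := by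
        intro hle
        apply hsP'
        rw [← hcomap]
        exact hle hr
      refine (iInf₂_le (⟨P.asIdeal.map (algebraMap S R), hp⟩ : PrimeSpectrum R) hbp).trans ?_
      unfold LocCoh.adjDepth
      show LocCoh.depth (Localization.AtPrime (P.asIdeal.map (algebraMap S R)))
        (LocalizedModule (P.asIdeal.map (algebraMap S R)).primeCompl M) +
          ((a ⊔ P.asIdeal.map (algebraMap S R)).map
            (Ideal.Quotient.mk (P.asIdeal.map (algebraMap S R)))).height ≤
        LocCoh.depth (Localization.AtPrime P.asIdeal) (LocalizedModule P.asIdeal.primeCompl M) +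
          ((a.comap (algebraMap S R) ⊔ P.asIdeal).map (Ideal.Quotient.mk P.asIdeal)).height
      rw [height_map_quotient hπ P.asIdeal hcomap (a.comap (algebraMap S R)), hA]
      gcongr
      rcases eq_or_ne (LocCoh.depth (Localization.AtPrime P.asIdeal)
        (LocalizedModule P.asIdeal.primeCompl M)) ⊤ with htop | hfin
      · rw [htop]; exact le_top
      · obtain ⟨t, ht⟩ := ENat.ne_top_iff_exists.1 hfin
        have hD := DP_of_depth_eq P.asIdeal M t ht.symm
        have hD' := (DP_map_iff hπ M P.asIdeal hcomap t).1 hD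
        rw [depth_eq_of_DP _ M t hD', ← ht]
    · -- `M_P = 0`
      obtain ⟨c, hc, hcP⟩ := Set.not_subset.1 hker
      have hsub : Subsingleton (LocalizedModule P.asIdeal.primeCompl M) := by
        rw [LocalizedModule.subsingleton_iff]
        intro m
        refine ⟨c, hcP, ?_⟩
        have h1 : c • m = algebraMap S R c • m := (algebraMap_smul R c m).symm
        rw [h1, (RingHom.mem_ker).1 hc, zero_smul]
      unfold LocCoh.adjDepth
      rw [Groth.Agent.Helper2.DepthLoc.depth_eq_top_of_subsingleton, top_add]
      exact le_top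
  have hPK := regular_main M s (a.comap (algebraMap S R)) i key
  have h2 := PK_map (R := R) M (a.comap (algebraMap S R)) i s hPK
  rw [hA] at h2
  exact h2


include hπ in
/-- depths at corresponding primes agree -/
lemma depth_map_eq [Module.Finite R M] [Module.Finite S M] (P : Ideal S) [hPp : P.IsPrime]
    [hp : (P.map (algebraMap S R)).IsPrime]
    (hcomap : (P.map (algebraMap S R)).comap (algebraMap S R) = P) :
    LocCoh.depth (Localization.AtPrime (P.map (algebraMap S R)))
      (LocalizedModule (P.map (algebraMap S R)).primeCompl M) =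
    LocCoh.depth (Localization.AtPrime P) (LocalizedModule P.primeCompl M) := by
  rcases eq_or_ne (LocCoh.depth (Localization.AtPrime P) (LocalizedModule P.primeCompl M)) ⊤
    with htop | hfin
  · rcases eq_or_ne (LocCoh.depth (Localization.AtPrime (P.map (algebraMap S R)))
      (LocalizedModule (P.map (algebraMap S R)).primeCompl M)) ⊤ with htop' | hfin'
    · rw [htop, htop']
    · exfalso
      obtain ⟨t, ht⟩ := ENat.ne_top_iff_exists.1 hfin'
      have hD := DP_of_depth_eq (P.map (algebraMap S R)) M t ht.symm
      have hD' := (DP_map_iff hπ M P hcomap t).2 hD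
      rw [depth_eq_of_DP P M t hD'] at htop
      exact ENat.natCast_ne_top t htop
  · obtain ⟨t, ht⟩ := ENat.ne_top_iff_exists.1 hfin
    have hD := DP_of_depth_eq P M t ht.symm
    have hD' := (DP_map_iff hπ M P hcomap t).1 hD
    rw [depth_eq_of_DP _ M t hD', ← ht]

include hπ in
/-- adjusted depths at corresponding primes agree -/
lemma adjDepth_map_eq [Module.Finite R M] [Module.Finite S M] (A : Ideal S) (P : Ideal S)
    [hPp : P.IsPrime] [hp : (P.map (algebraMap S R)).IsPrime]
    (hcomap : (P.map (algebraMap S R)).comap (algebraMap S R) = P) :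
    LocCoh.adjDepth (A.map (algebraMap S R)) M ⟨P.map (algebraMap S R), hp⟩ =
      LocCoh.adjDepth A M ⟨P, hPp⟩ := by
  unfold LocCoh.adjDepth
  show LocCoh.depth (Localization.AtPrime (P.map (algebraMap S R)))
      (LocalizedModule (P.map (algebraMap S R)).primeCompl M) +
        ((A.map (algebraMap S R) ⊔ P.map (algebraMap S R)).map
          (Ideal.Quotient.mk (P.map (algebraMap S R)))).height =
      LocCoh.depth (Localization.AtPrime P) (LocalizedModule P.primeCompl M) +
        ((A ⊔ P).map (Ideal.Quotient.mk P)).height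
  rw [height_map_quotient hπ P hcomap A, depth_map_eq hπ M P hcomap]

include hπ in
/-- the minimum adjusted depth can be computed over the quotient ring -/
theorem minAdjDepth_map_eq [Module.Finite R M] [Module.Finite S M] (A B : Ideal S) :
    LocCoh.minAdjDepth A B M =
      LocCoh.minAdjDepth (A.map (algebraMap S R)) (B.map (algebraMap S R)) M := by
  apply le_antisymm
  · unfold LocCoh.minAdjDepth
    refine le_iInf₂ (fun p' hbp' => ?_)
    haveI := p'.2
    let P : Ideal S := p'.asIdeal.comap (algebraMap S R)
    haveI hPp : P.IsPrime := Ideal.comap_isPrime _ _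
    have hmap : P.map (algebraMap S R) = p'.asIdeal := Ideal.map_comap_of_surjective _ hπ _
    haveI hp : (P.map (algebraMap S R)).IsPrime := by rw [hmap]; exact p'.2
    have hcomap : (P.map (algebraMap S R)).comap (algebraMap S R) = P := by rw [hmap]
    have hBP : ¬ B ≤ P := fun h => hbp' (by
      rw [← hmap]
      exact Ideal.map_mono h)
    refine (iInf₂_le (⟨P, hPp⟩ : PrimeSpectrum S) hBP).trans ?_
    rw [← adjDepth_map_eq hπ M A P hcomap]
    apply le_of_eq
    congr 1
    exact PrimeSpectrum.ext hmap
  · unfold LocCoh.minAdjDepth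
    refine le_iInf₂ (fun P hBP => ?_)
    haveI hPp := P.2
    by_cases hker : RingHom.ker (algebraMap S R) ≤ P.asIdeal
    · haveI hp : (P.asIdeal.map (algebraMap S R)).IsPrime :=
        Ideal.map_isPrime_of_surjective hπ hker
      have hcomap : (P.asIdeal.map (algebraMap S R)).comap (algebraMap S R) = P.asIdeal := by
        rw [Ideal.comap_map_of_surjective _ hπ, ← RingHom.ker_eq_comap_bot]
        exact sup_eq_left.2 hker
      have hbp : ¬ B.map (algebraMap S R) ≤ P.asIdeal.map (algebraMap S R) := by
        intro hle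
        apply hBP
        rw [← hcomap]
        exact Ideal.le_comap_map.trans (Ideal.comap_mono hle)
      refine (iInf₂_le (⟨P.asIdeal.map (algebraMap S R), hp⟩ : PrimeSpectrum R) hbp).trans ?_
      rw [adjDepth_map_eq hπ M A P.asIdeal hcomap]
    · obtain ⟨c, hc, hcP⟩ := Set.not_subset.1 hker
      have hsub : Subsingleton (LocalizedModule P.asIdeal.primeCompl M) := by
        rw [LocalizedModule.subsingleton_iff]
        intro m
        refine ⟨c, hcP, ?_⟩
        have h1 : c • m = algebraMap S R c • m := (algebraMap_smul R c m).symm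
        rw [h1, (RingHom.mem_ker).1 hc, zero_smul]
      unfold LocCoh.adjDepth
      rw [Groth.Agent.Helper2.DepthLoc.depth_eq_top_of_subsingleton, top_add]
      exact le_top

end transfer

end Groth.Agent.Helper1.Faltings
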