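import Mathlib
import Groth.Prelude.Def_SGA2
import Groth.Prelude.Def_W4bk5brsh7111920
import Groth.Agent.Helper6.DepthHt
import Groth.Agent.Helper1.LocCohFinite
import Groth.Agent.Helper1.FaltingsD
import Groth.Agent.Helper1.FaltingsG

set_option autoImplicit false

/-!
# Finiteness of `H^i_I(M)`, `i ≤ n`, via depth and relative codimension (quotients of regular rings)
-/

namespace Groth.Agent.Helper1.Core
open CategoryTheory IsLocalRing

universe u

section K0

variable {A : Type u} [CommRing A]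

/-- `c(p) = ht((I + p)/p)` -/
theorem relCodim_eq_height (I : Ideal A) (p : PrimeSpectrum A) :
    SGA2.relCodim I p = ((I ⊔ p.asIdeal).map (Ideal.Quotient.mk p.asIdeal)).height := by
  have hmk : Function.Surjective (Ideal.Quotient.mk p.asIdeal) := Ideal.Quotient.mk_surjective
  apply le_antisymm
  · rw [Ideal.height_eq_inf_minimalPrimes]
    refine le_iInf₂ fun Q hQ => ?_
    haveI hQp : Q.IsPrime := hQ.1.1
    let q : PrimeSpectrum A := ⟨Q.comap (Ideal.Quotient.mk p.asIdeal), inferInstance⟩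
    have hpq : p ≤ q := by
      show p.asIdeal ≤ Q.comap _
      intro x hx
      rw [Ideal.mem_comap, Ideal.Quotient.eq_zero_iff_mem.2 hx]
      exact zero_mem _
    have hIq : I ≤ q.asIdeal := by
      intro x hx
      show Ideal.Quotient.mk p.asIdeal x ∈ Q
      exact hQ.1.2 (Ideal.mem_map_of_mem _ (Ideal.mem_sup_left hx))
    have h1 : SGA2.relCodim I p ≤ Order.height (⟨q, hpq⟩ : Set.Ici p) :=
      iInf_le (fun q : {q : PrimeSpectrum A // p ≤ q ∧ I ≤ q.asIdeal} =>
        Order.height (⟨q.1, q.2.1⟩ : Set.Ici p)) ⟨q, hpq, hIq⟩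
    have h2 : Order.height (⟨q, hpq⟩ : Set.Ici p) =
        (q.asIdeal.map (Ideal.Quotient.mk p.asIdeal)).height :=
      Groth.Agent.Helper6.DepthHt.height_Ici_eq A p.asIdeal q.asIdeal hpq
    rw [h2] at h1
    have h3 : q.asIdeal.map (Ideal.Quotient.mk p.asIdeal) = Q :=
      Ideal.map_comap_of_surjective _ hmk Q
    rw [h3] at h1
    exact h1
  · refine le_iInf fun q => ?_
    haveI := q.1.2
    have h2 : Order.height (⟨q.1, q.2.1⟩ : Set.Ici p) =
        (q.1.asIdeal.map (Ideal.Quotient.mk p.asIdeal)).height :=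
      Groth.Agent.Helper6.DepthHt.height_Ici_eq A p.asIdeal q.1.asIdeal q.2.1
    rw [h2]
    exact Ideal.height_mono (Ideal.map_mono (sup_le q.2.2 q.2.1))

/-- a codimension-one predecessor -/
theorem exists_pred_of_relCodim (I : Ideal A) (p : PrimeSpectrum A) (c : ℕ)
    (hc : SGA2.relCodim I p = ((c + 1 : ℕ) : ℕ∞)) :
    ∃ (p' : Set.Ici p) (q : PrimeSpectrum A), Order.height p' = c ∧ p'.1 ⋖ q ∧
      I ≤ q.asIdeal ∧ ¬ I ≤ p'.1.asIdeal := by
  have hne : Nonempty {q : PrimeSpectrum A // p ≤ q ∧ I ≤ q.asIdeal} := by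
    by_contra hemp
    rw [not_nonempty_iff] at hemp
    have : SGA2.relCodim I p = ⊤ := iInf_of_empty _
    rw [this] at hc
    exact ENat.top_ne_coe _ hc
  obtain ⟨q, hq⟩ := ENat.exists_eq_iInf
    (fun q : {q : PrimeSpectrum A // p ≤ q ∧ I ≤ q.asIdeal} =>
      Order.height (⟨q.1, q.2.1⟩ : Set.Ici p))
  have hqc : Order.height (⟨q.1, q.2.1⟩ : Set.Ici p) = ((c + 1 : ℕ) : ℕ∞) := hq.trans hc
  have hqc' : Order.height (⟨q.1, q.2.1⟩ : Set.Ici p) = (c : ℕ∞) + 1 := by
    rw [hqc]; push_cast; rfl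
  obtain ⟨-, ⟨p', hp'q, hp'n⟩, hall⟩ := Order.height_eq_coe_add_one_iff.1 hqc'
  refine ⟨p', q.1, hp'n, ?_, q.2.2, ?_⟩
  · refine ⟨hp'q, ?_⟩
    intro w hzw hwy
    have hw : p ≤ w := le_trans p'.2 hzw.le
    have h1 : Order.height p' + 1 ≤ Order.height (⟨w, hw⟩ : Set.Ici p) :=
      Order.height_add_one_le (show p' < ⟨w, hw⟩ from hzw)
    have h2 : Order.height (⟨w, hw⟩ : Set.Ici p) ≤ (c : ℕ∞) := hall ⟨w, hw⟩ hwy
    rw [hp'n] at h1
    have : ((c + 1 : ℕ) : ℕ∞) ≤ (c : ℕ∞) := by
      push_cast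
      exact h1.trans h2
    have : c + 1 ≤ c := by exact_mod_cast this
    omega
  · intro hI
    have h1 : SGA2.relCodim I p ≤ Order.height p' :=
      iInf_le (fun q : {q : PrimeSpectrum A // p ≤ q ∧ I ≤ q.asIdeal} =>
        Order.height (⟨q.1, q.2.1⟩ : Set.Ici p)) ⟨p'.1, p'.2, hI⟩
    rw [hc, hp'n] at h1
    have : c + 1 ≤ c := by exact_mod_cast h1
    omega

/-- for a covering `p ⋖ q` with `I ≤ q`, `c(p) ≤ 1` -/
theorem relCodim_le_one_of_covBy (I : Ideal A) (p q : PrimeSpectrum A) (hpq : p ⋖ q)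
    (hIq : I ≤ q.asIdeal) : SGA2.relCodim I p ≤ 1 := by
  refine iInf_le_of_le ⟨q, hpq.1.le, hIq⟩ ?_
  have h1 : Order.height (⟨q, hpq.1.le⟩ : Set.Ici p) ≤ ((1 : ℕ) : ℕ∞) := by
    rw [Order.height_le_coe_iff]
    intro y hy
    have hy' : y.1 < q := hy
    have hyp : y = ⟨p, Set.mem_Ici.2 le_rfl⟩ := by
      apply Subtype.ext
      by_contra hne
      exact hpq.2 (lt_of_le_of_ne y.2 (Ne.symm hne)) hy'
    have hmin : IsMin y := by
      rw [hyp]
      intro z _
      exact z.2
    rw [Order.height_eq_zero.2 hmin]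
    exact_mod_cast Nat.one_pos
  exact_mod_cast h1

/-- `c(p) ≠ 0` when `I ⊄ p` -/
theorem relCodim_ne_zero (I : Ideal A) (p : PrimeSpectrum A) (hp : ¬ I ≤ p.asIdeal) :
    SGA2.relCodim I p ≠ 0 := by
  intro h0
  have h1 : (1 : ℕ∞) ≤ SGA2.relCodim I p := by
    refine le_iInf fun q' => ?_
    rw [Order.one_le_iff_ne_zero, Ne, Order.height_eq_zero]
    intro hmin
    have h1 : (⟨q'.1, q'.2.1⟩ : Set.Ici p) ≤ ⟨p, Set.mem_Ici.2 le_rfl⟩ :=
      hmin (show (⟨p, Set.mem_Ici.2 le_rfl⟩ : Set.Ici p) ≤ ⟨q'.1, q'.2.1⟩ from q'.2.1)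
    exact hp (le_trans q'.2.2 h1)
  rw [h0] at h1
  exact absurd h1 (by simp)

end K0

section K3

variable {A : Type u} [CommRing A] [IsNoetherianRing A] (I : Ideal A)
  (M : Type u) [AddCommGroup M] [Module A M] [Module.Finite A M]

/-- the combinatorial equivalence between the adjusted-depth condition and the codimension-one
depth condition -/
theorem depth_relCodim_iff (n : ℕ) :
    (∀ p : PrimeSpectrum A, ¬ I ≤ p.asIdeal →
      (n : ℕ∞) < LocCoh.depth (Localization.AtPrime p.asIdeal)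
        (LocalizedModule p.asIdeal.primeCompl M) + SGA2.relCodim I p) ↔
    (∀ p q : PrimeSpectrum A, ¬ I ≤ p.asIdeal → I ≤ q.asIdeal → p ⋖ q →
      (n : ℕ∞) ≤ LocCoh.depth (Localization.AtPrime p.asIdeal)
        (LocalizedModule p.asIdeal.primeCompl M)) := by
  constructor
  · intro h p q hp hq hpq
    have h1 := h p hp
    have h2 := relCodim_le_one_of_covBy I p q hpq hq
    generalize LocCoh.depth (Localization.AtPrime p.asIdeal)
      (LocalizedModule p.asIdeal.primeCompl M) = d at h1 ⊢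
    have h3 : (n : ℕ∞) < d + 1 := lt_of_lt_of_le h1 (add_le_add_right h2 d)
    induction d with
    | top => exact le_top
    | coe d =>
      have : n < d + 1 := by exact_mod_cast h3
      exact_mod_cast Nat.lt_succ_iff.1 this
  · intro h p hp
    have hc0 := relCodim_ne_zero I p hp
    generalize hcc : SGA2.relCodim I p = cc at hc0
    induction cc with
    | top =>
      rw [add_top]
      exact ENat.natCast_lt_top n
    | coe c =>
      obtain ⟨c', rfl⟩ : ∃ c', c = c' + 1 := by
        refine ⟨c - 1, ?_⟩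
        have : c ≠ 0 := by
          rintro rfl
          exact hc0 rfl
        omega
      obtain ⟨p', q, hp'c, hcov, hIq, hIp'⟩ := exists_pred_of_relCodim I p c' hcc
      have h1 := h p'.1 q hIp' hIq hcov
      have h2 := Groth.Agent.Helper2.Isch.depth_le_depth_add_height (A := A) (M := M) p p'.1 p'.2
      have h2' : LocCoh.depth (Localization.AtPrime p'.1.asIdeal)
          (LocalizedModule p'.1.asIdeal.primeCompl M) ≤
          LocCoh.depth (Localization.AtPrime p.asIdeal)
            (LocalizedModule p.asIdeal.primeCompl M) + (c' : ℕ∞) := by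
        rw [← hp'c]
        exact h2
      have h3 := h1.trans h2'
      generalize LocCoh.depth (Localization.AtPrime p.asIdeal)
        (LocalizedModule p.asIdeal.primeCompl M) = d at h3 ⊢
      induction d with
      | top =>
        rw [top_add]
        exact ENat.natCast_lt_top n
      | coe d =>
        have : n ≤ d + c' := by exact_mod_cast h3
        have : n < d + (c' + 1) := by omega
        exact_mod_cast this

end K3

section K1

variable {R : Type u} [CommRing R] [IsNoetherianRing R] (I : Ideal R)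
  (M : Type u) [AddCommGroup M] [Module R M] [Module.Finite R M]

/-- finiteness of `H^i_I(M)` for `i ≤ n` iff `n < f_I(M)` (Faltings) -/
theorem finite_iff_lt_finDimRel (n : ℕ) :
    (∀ i : ℕ, i ≤ n → Module.Finite R (LocCoh.H I i M)) ↔
      (n : ℕ∞) < LocCoh.finDimRel I I M := by
  rw [show (∀ i : ℕ, i ≤ n → Module.Finite R (LocCoh.H I i M)) ↔ _ from
    LocCohFinite.finite_iff_annihilated I M n]
  constructor
  · rintro ⟨J, hJ, hkill⟩
    have h1 : ((n + 1 : ℕ) : ℕ∞) ≤ LocCoh.finDimRel I I M := by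
      unfold LocCoh.finDimRel
      refine le_iInf₂ fun i hi => ?_
      by_contra hlt
      have hin : i ≤ n := by
        have : ¬ (n + 1 ≤ i) := fun h => hlt (by exact_mod_cast h)
        omega
      apply hi
      intro a ha
      obtain ⟨m, hm⟩ := hJ ha
      exact ⟨m, Module.mem_annihilator.2 (hkill i hin _ hm)⟩
    exact lt_of_lt_of_le (by exact_mod_cast Nat.lt_succ_self n) h1
  · intro h
    have h1 : ∀ i ≤ n, I ≤ (Module.annihilator R (LocCoh.H I i M)).radical := by
      intro i hi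
      by_contra hcon
      have h2 : LocCoh.finDimRel I I M ≤ i := iInf₂_le i hcon
      have h3 := lt_of_lt_of_le h h2
      have : n < i := by exact_mod_cast h3
      omega
    have h2 : ∀ i, i ≤ n → ∃ k : ℕ, I ^ k ≤ Module.annihilator R (LocCoh.H I i M) :=
      fun i hi => Ideal.exists_pow_le_of_le_radical_of_fg (h1 i hi) (IsNoetherian.noetherian _)
    choose! k hk using h2
    refine ⟨I ^ ((Finset.range (n + 1)).sup k + 1), ?_, ?_⟩
    · rw [Ideal.radical_pow I (Nat.succ_ne_zero _)]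
      exact Ideal.le_radical
    · intro i hi a ha x
      have hle : k i ≤ (Finset.range (n + 1)).sup k + 1 :=
        (Finset.le_sup (f := k) (Finset.mem_range.2 (by omega))).trans (Nat.le_succ _)
      exact Module.mem_annihilator.1 (hk i hi (Ideal.pow_le_pow_right hle ha)) x

omit [IsNoetherianRing R] [Module.Finite R M] in
theorem lt_minAdjDepth_iff (n : ℕ) :
    (n : ℕ∞) < LocCoh.minAdjDepth I I M ↔
      ∀ p : PrimeSpectrum R, ¬ I ≤ p.asIdeal → (n : ℕ∞) < LocCoh.adjDepth I M p := by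
  have key : ∀ x : ℕ∞, (n : ℕ∞) < x ↔ ((n + 1 : ℕ) : ℕ∞) ≤ x := fun x => by
    rw [Nat.cast_add, Nat.cast_one, ENat.add_one_le_iff (ENat.coe_ne_top n)]
  unfold LocCoh.minAdjDepth
  rw [key, le_iInf₂_iff]
  exact forall₂_congr fun p hp => (key _).symm

end K1

end Groth.Agent.Helper1.Core
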