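import Mathlib
import Groth.Agent.Helper1.CoreI
import Groth.Agent.Helper1.CoreK
import Groth.Agent.Helper2.LocSupp
import Groth.Agent.Helper2.DepthCM4
import Groth.Agent.S11653
import Groth.Agent.S11660

set_option autoImplicit false

/-!
# Heights along chains in a quotient of a regular ring; the Cohen–Macaulay-off-`V(I)` criterion
-/

namespace Groth.Agent.Helper1.Core
open CategoryTheory IsLocalRing

universe u

section L1

variable {A : Type u} [CommRing A] (M : Type u) [AddCommGroup M] [Module A M]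

/-- `ht(p/p₀) ≤ dim M_p` for `p₀ ∈ Supp M`, `p₀ ≤ p` -/
theorem height_Ici_le_supportDim (p₀ p : PrimeSpectrum A) (h : p₀ ≤ p)
    (hp₀ : p₀ ∈ Module.support A M) :
    ((Order.height (⟨p, h⟩ : Set.Ici p₀) : ℕ∞) : WithBot ℕ∞) ≤
      Module.supportDim (Localization.AtPrime p.asIdeal)
        (LocalizedModule p.asIdeal.primeCompl M) := by
  rw [Order.height_eq_krullDim_Iic]
  unfold Module.supportDim
  let e := IsLocalization.AtPrime.primeSpectrumOrderIso (Localization.AtPrime p.asIdeal) p.asIdeal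
  have hmem : ∀ x : Set.Iic (⟨p, h⟩ : Set.Ici p₀),
      e.symm ⟨x.1.1, x.2⟩ ∈ Module.support (Localization.AtPrime p.asIdeal)
        (LocalizedModule p.asIdeal.primeCompl M) := by
    intro x
    refine Groth.Agent.Helper2.LocSupp.mem_support_localized p.asIdeal M x.1.1 x.2
      (Module.mem_support_mono x.1.2 hp₀) _ ?_
    have h1 : e (e.symm ⟨x.1.1, x.2⟩) = ⟨x.1.1, x.2⟩ := e.apply_symm_apply _
    have h2 := congrArg (fun y : Set.Iic (⟨p.asIdeal, p.2⟩ : PrimeSpectrum A) => y.1.asIdeal) h1
    exact h2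
  let f : Set.Iic (⟨p, h⟩ : Set.Ici p₀) → Module.support (Localization.AtPrime p.asIdeal)
      (LocalizedModule p.asIdeal.primeCompl M) := fun x => ⟨e.symm ⟨x.1.1, x.2⟩, hmem x⟩
  refine Order.krullDim_le_of_strictMono f ?_
  intro x y hxy
  show e.symm ⟨x.1.1, x.2⟩ < e.symm ⟨y.1.1, y.2⟩
  rw [e.symm.lt_iff_lt]
  exact hxy

end L1

section L2

variable {R A : Type u} [CommRing R] [CommRing A] [IsRegularRing R] [IsNoetherianRing A]
  [Algebra R A]

/-- the height formula along `Ici p` -/
theorem height_comap_eq_add (hπ : Function.Surjective (algebraMap R A)) (p : PrimeSpectrum A) :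
    ∀ (n : ℕ) (y : Set.Ici p), Order.height y = n →
      (y.1.asIdeal.comap (algebraMap R A)).height =
        (p.asIdeal.comap (algebraMap R A)).height + n := by
  intro n
  induction n with
  | zero =>
    intro y hy
    have hmin : IsMin y := by
      rw [← Order.height_eq_zero]
      exact_mod_cast hy
    have hyp : y ≤ ⟨p, Set.mem_Ici.2 le_rfl⟩ :=
      hmin (show (⟨p, Set.mem_Ici.2 le_rfl⟩ : Set.Ici p) ≤ y from y.2)
    obtain rfl : y = ⟨p, Set.mem_Ici.2 le_rfl⟩ := le_antisymm hyp y.2
    simp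
  | succ n ih =>
    intro y hy
    have hy' : Order.height y = (n : ℕ∞) + 1 := by exact_mod_cast hy
    obtain ⟨-, ⟨z, hzy, hzn⟩, hall⟩ := Order.height_eq_coe_add_one_iff.1 hy'
    have hcov : z.1 ⋖ y.1 := by
      refine ⟨hzy, ?_⟩
      intro w hzw hwy
      have hw : p ≤ w := le_trans z.2 hzw.le
      have h1 : Order.height z + 1 ≤ Order.height (⟨w, hw⟩ : Set.Ici p) :=
        Order.height_add_one_le (show z < ⟨w, hw⟩ from hzw)
      have h2 : Order.height (⟨w, hw⟩ : Set.Ici p) ≤ n := hall ⟨w, hw⟩ hwy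
      rw [hzn] at h1
      have : ((n + 1 : ℕ) : ℕ∞) ≤ (n : ℕ∞) := by
        push_cast
        exact h1.trans h2
      have : n + 1 ≤ n := by exact_mod_cast this
      omega
    have hcov' := comap_covBy hπ z.1 y.1 hcov
    haveI : LocCoh.IsCohenMacaulayLocalRing
        (Localization.AtPrime (y.1.asIdeal.comap (algebraMap R A))) :=
      { supportDim_eq_depth := Groth.Agent.Helper2.RegCM.cm_of_isRegularLocalRing _ }
    have hht := height_covBy_of_cm _ _ hcov'
    have hht' : (y.1.asIdeal.comap (algebraMap R A)).height =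
        (z.1.asIdeal.comap (algebraMap R A)).height + 1 := hht
    rw [hht', ih z hzn]
    push_cast
    rw [add_assoc]

omit [IsRegularRing R] [Algebra R A] in
/-- heights in `Ici p` are finite -/
lemma height_Ici_ne_top (p : PrimeSpectrum A) (y : Set.Ici p) : Order.height y ≠ ⊤ := by
  haveI := y.1.2
  have h1 : Order.height (⟨y.1, y.2⟩ : Set.Ici p) =
      (y.1.asIdeal.map (Ideal.Quotient.mk p.asIdeal)).height :=
    Groth.Agent.Helper6.DepthHt.height_Ici_eq A p.asIdeal y.1.asIdeal y.2
  have h2 : (y.1.asIdeal.map (Ideal.Quotient.mk p.asIdeal)).IsPrime :=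
    Ideal.map_isPrime_of_surjective Ideal.Quotient.mk_surjective
      (by rw [Ideal.mk_ker]; exact y.2)
  have h3 : Order.height y = (y.1.asIdeal.map (Ideal.Quotient.mk p.asIdeal)).height := h1
  rw [h3]
  exact Ideal.height_ne_top h2.ne_top

/-- additivity of heights along `p₀ ≤ p ≤ q` -/
theorem height_Ici_add (hπ : Function.Surjective (algebraMap R A)) (p₀ p q : PrimeSpectrum A)
    (h₁ : p₀ ≤ p) (h₂ : p ≤ q) :
    Order.height (⟨q, h₁.trans h₂⟩ : Set.Ici p₀) =
      Order.height (⟨p, h₁⟩ : Set.Ici p₀) + Order.height (⟨q, h₂⟩ : Set.Ici p) := by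
  obtain ⟨n₁, hn₁⟩ := ENat.ne_top_iff_exists.mp (height_Ici_ne_top p₀ ⟨p, h₁⟩)
  obtain ⟨n₂, hn₂⟩ := ENat.ne_top_iff_exists.mp (height_Ici_ne_top p ⟨q, h₂⟩)
  obtain ⟨n₃, hn₃⟩ := ENat.ne_top_iff_exists.mp (height_Ici_ne_top p₀ ⟨q, h₁.trans h₂⟩)
  have e1 := height_comap_eq_add hπ p₀ n₁ ⟨p, h₁⟩ hn₁.symm
  have e2 := height_comap_eq_add hπ p n₂ ⟨q, h₂⟩ hn₂.symm
  have e3 := height_comap_eq_add hπ p₀ n₃ ⟨q, h₁.trans h₂⟩ hn₃.symm
  have hfin : (p₀.asIdeal.comap (algebraMap R A)).height ≠ ⊤ :=
    Ideal.height_ne_top (Ideal.IsPrime.ne_top inferInstance)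
  obtain ⟨h₀, hh₀⟩ := ENat.ne_top_iff_exists.mp hfin
  simp only at e1 e2 e3
  rw [e1, ← hh₀] at e2
  rw [e2, ← hh₀] at e3
  have : h₀ + n₁ + n₂ = h₀ + n₃ := by exact_mod_cast e3
  rw [← hn₁, ← hn₂, ← hn₃]
  have : n₃ = n₁ + n₂ := by omega
  exact_mod_cast this

end L2

section L4

variable {R A : Type u} [CommRing R] [CommRing A] [IsRegularRing R] [IsNoetherianRing A]
  (π : R →+* A) (hπ : Function.Surjective π) (I : Ideal A)
  (M : Type u) [AddCommGroup M] [Module A M] [Module.Finite A M]

include hπ in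
/-- Faltings: finiteness of `H^i_I(M)`, `i ≤ n`, iff `n < depth M_p + c(p)` for all `p ⊉ I` -/
theorem finite_iff_depth_relCodim (n : ℕ) :
    (∀ i : ℕ, i ≤ n → Module.Finite A (LocCoh.H I i M)) ↔
      ∀ p : PrimeSpectrum A, ¬ I ≤ p.asIdeal →
        (n : ℕ∞) < LocCoh.depth (Localization.AtPrime p.asIdeal)
          (LocalizedModule p.asIdeal.primeCompl M) + SGA2.relCodim I p := by
  have h1 := Groth.Agent.S11653.result A I I M
  have h2 := Groth.Agent.S11660.result R A π hπ I I M
  have heq : LocCoh.finDimRel I I M = LocCoh.minAdjDepth I I M := le_antisymm h1 h2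
  rw [finite_iff_lt_finDimRel, heq, lt_minAdjDepth_iff]
  refine forall₂_congr fun p hp => ?_
  rw [relCodim_eq_height]
  rfl

include hπ in
theorem cm_off_criterion
    (hCM : ∀ p : PrimeSpectrum A, ¬ I ≤ p.asIdeal →
      Subsingleton (LocalizedModule p.asIdeal.primeCompl M) ∨
        LocCoh.IsCohenMacaulayModule (Localization.AtPrime p.asIdeal)
          (LocalizedModule p.asIdeal.primeCompl M)) (n : ℕ) :
    (∀ i : ℕ, i ≤ n → Module.Finite A (LocCoh.H I i M)) ↔
      ∀ p : PrimeSpectrum A, ¬ I ≤ p.asIdeal →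
        p.asIdeal ∈ (Module.annihilator A M).minimalPrimes → (n : ℕ∞) < SGA2.relCodim I p := by
  letI : Algebra R A := π.toAlgebra
  have hπ' : Function.Surjective (algebraMap R A) := hπ
  rw [finite_iff_depth_relCodim π hπ I M n]
  constructor
  · intro h p hp hmin
    have h1 := h p hp
    have hsupp : p ∈ Module.support A M := Module.mem_support_iff_of_finite.2 hmin.1.2
    haveI : Nontrivial (LocalizedModule p.asIdeal.primeCompl M) := Module.mem_support_iff.1 hsupp
    have h2 := Groth.Agent.Helper2.DepthCM4.depth_le_supportDim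
      (A := Localization.AtPrime p.asIdeal) (LocalizedModule p.asIdeal.primeCompl M)
    have h3 := Groth.Agent.Helper2.DepthCM4.supportDim_localized_le_zero p.asIdeal M
      (fun q hq hqp => by
        have hq' : Module.annihilator A M ≤ q.asIdeal := Module.mem_support_iff_of_finite.1 hq
        exact le_antisymm hqp (hmin.2 ⟨q.2, hq'⟩ hqp))
    have h4 := h2.trans h3
    have h5 : LocCoh.depth (Localization.AtPrime p.asIdeal)
        (LocalizedModule p.asIdeal.primeCompl M) = 0 := by
      have : ((LocCoh.depth (Localization.AtPrime p.asIdeal)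
        (LocalizedModule p.asIdeal.primeCompl M) : ℕ∞) : WithBot ℕ∞) ≤ ((0 : ℕ∞) : WithBot ℕ∞) := h4
      exact le_antisymm (WithBot.coe_le_coe.1 this) bot_le
    rw [h5, zero_add] at h1
    exact h1
  · intro h p hp
    rcases hCM p hp with hsub | hcm
    · have hD : LocCoh.depth (Localization.AtPrime p.asIdeal)
          (LocalizedModule p.asIdeal.primeCompl M) = ⊤ := by
        rw [LocCoh.depth, LocCoh.idealDepth, if_pos (Subsingleton.elim _ _)]
      rw [hD, top_add]
      exact ENat.natCast_lt_top n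
    · -- `M_p` is nonzero
      have hnt : Nontrivial (LocalizedModule p.asIdeal.primeCompl M) := by
        by_contra hcon
        rw [not_nontrivial_iff_subsingleton] at hcon
        have h1 : Module.supportDim (Localization.AtPrime p.asIdeal)
            (LocalizedModule p.asIdeal.primeCompl M) = ⊥ :=
          Module.supportDim_eq_bot_of_subsingleton _ _
        have h2 : Module.supportDim (Localization.AtPrime p.asIdeal)
            (LocalizedModule p.asIdeal.primeCompl M) = _ := hcm
        rw [h1] at h2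
        exact WithBot.bot_ne_coe h2
      have hsupp : p ∈ Module.support A M := Module.mem_support_iff.2 hnt
      have hann : Module.annihilator A M ≤ p.asIdeal := Module.mem_support_iff_of_finite.1 hsupp
      obtain ⟨P₀, hP₀min, hP₀le⟩ := Ideal.exists_minimalPrimes_le hann
      haveI := hP₀min.1.1
      let p₀ : PrimeSpectrum A := ⟨P₀, hP₀min.1.1⟩
      have hp₀p : p₀ ≤ p := hP₀le
      have hIp₀ : ¬ I ≤ p₀.asIdeal := fun hle => hp (hle.trans hP₀le)
      have hp₀supp : p₀ ∈ Module.support A M := Module.mem_support_iff_of_finite.2 hP₀min.1.2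
      have hrel := h p₀ hIp₀ hP₀min
      -- `ht(p/p₀) ≤ depth M_p`
      have h1 := height_Ici_le_supportDim M p₀ p hp₀p hp₀supp
      have hcm' : Module.supportDim (Localization.AtPrime p.asIdeal)
          (LocalizedModule p.asIdeal.primeCompl M) = ((LocCoh.depth (Localization.AtPrime p.asIdeal)
            (LocalizedModule p.asIdeal.primeCompl M) : ℕ∞) : WithBot ℕ∞) := hcm
      rw [hcm'] at h1
      have h1' : Order.height (⟨p, hp₀p⟩ : Set.Ici p₀) ≤
          LocCoh.depth (Localization.AtPrime p.asIdeal)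
            (LocalizedModule p.asIdeal.primeCompl M) := WithBot.coe_le_coe.1 h1
      -- compare the relative codimensions
      have h2 : SGA2.relCodim I p₀ ≤ Order.height (⟨p, hp₀p⟩ : Set.Ici p₀) + SGA2.relCodim I p := by
        rcases eq_or_ne (SGA2.relCodim I p) ⊤ with htop | hfin
        · rw [htop, add_top]
          exact le_top
        · have hne : Nonempty {q : PrimeSpectrum A // p ≤ q ∧ I ≤ q.asIdeal} := by
            by_contra hemp
            rw [not_nonempty_iff] at hemp
            exact hfin (iInf_of_empty _)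
          obtain ⟨q, hq⟩ := ENat.exists_eq_iInf
            (fun q : {q : PrimeSpectrum A // p ≤ q ∧ I ≤ q.asIdeal} =>
              Order.height (⟨q.1, q.2.1⟩ : Set.Ici p))
          have hq' : Order.height (⟨q.1, q.2.1⟩ : Set.Ici p) = SGA2.relCodim I p := hq
          rw [← hq', ← height_Ici_add hπ' p₀ p q.1 hp₀p q.2.1]
          exact iInf_le (fun q : {q : PrimeSpectrum A // p₀ ≤ q ∧ I ≤ q.asIdeal} =>
            Order.height (⟨q.1, q.2.1⟩ : Set.Ici p₀)) ⟨q.1, hp₀p.trans q.2.1, q.2.2⟩
      exact lt_of_lt_of_le hrel (h2.trans (add_le_add_left h1' _))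

end L4

end Groth.Agent.Helper1.Core
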