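import Mathlib
import Groth.Agent.Helper1.FlatCxLocal

set_option autoImplicit false

/-!
# Kernels of natural transformations between corepresentable functors are corepresentable
-/

namespace Groth.Agent.Helper1.Corep

open CategoryTheory CategoryTheory.Limits Opposite

universe u

variable {A : Type u} [CommRing A] {G G' : ModuleCat.{u} A ⥤ ModuleCat.{u} A}
  {Q Q' : ModuleCat.{u} A}

theorem exists_kernel_corep [Module.Finite A Q]
    (e : G ≅ (linearCoyoneda A (ModuleCat.{u} A)).obj (op Q))
    (e' : G' ≅ (linearCoyoneda A (ModuleCat.{u} A)).obj (op Q')) (η : G ⟶ G') :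
    ∃ (R : ModuleCat.{u} A) (ι : (linearCoyoneda A (ModuleCat.{u} A)).obj (op R) ⟶ G),
      Module.Finite A R ∧ (∀ M : ModuleCat.{u} A, Function.Injective (ι.app M).hom) ∧
        ∀ (M : ModuleCat.{u} A) (x : G.obj M),
          (η.app M).hom x = 0 ↔ ∃ y, (ι.app M).hom y = x := by
  -- Yoneda
  obtain ⟨f, hf⟩ := (linearCoyoneda A (ModuleCat.{u} A)).map_surjective (e.inv ≫ η ≫ e'.hom)
  let v : Q' ⟶ Q := f.unop
  let R : ModuleCat.{u} A := ModuleCat.of A (Q ⧸ LinearMap.range v.hom)
  let π : Q ⟶ R := ModuleCat.ofHom (LinearMap.range v.hom).mkQ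
  have hvπ : v ≫ π = 0 := by
    ext x
    show (LinearMap.range v.hom).mkQ (v.hom x) = 0
    rw [Submodule.mkQ_apply, Submodule.Quotient.mk_eq_zero]
    exact ⟨x, rfl⟩
  haveI : Epi π := (ModuleCat.epi_iff_surjective _).mpr (Submodule.mkQ_surjective _)
  -- injectivity of the components of `e.inv`
  have hinv : ∀ M : ModuleCat.{u} A, Function.Injective (e.inv.app M).hom := by
    intro M
    apply Function.LeftInverse.injective (g := (e.hom.app M).hom)
    intro x
    exact FlatCx.comp_apply_eq₁ (e.inv_hom_id_app M) x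
  have hinv' : ∀ M : ModuleCat.{u} A, Function.Injective (e'.hom.app M).hom := by
    intro M
    apply Function.LeftInverse.injective (g := (e'.inv.app M).hom)
    intro x
    exact FlatCx.comp_apply_eq₁ (e'.hom_inv_id_app M) x
  -- the key computation
  have key : ∀ (M : ModuleCat.{u} A) (g : Q ⟶ M),
      (e'.hom.app M).hom ((η.app M).hom ((e.inv.app M).hom g)) = (v ≫ g : Q' ⟶ M) := by
    intro M g
    have h1 := congrArg (fun k => (k.app M).hom g) hf
    exact h1.symm
  refine ⟨R, (linearCoyoneda A (ModuleCat.{u} A)).map π.op ≫ e.inv, ?_, ?_, ?_⟩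
  · show Module.Finite A (Q ⧸ LinearMap.range v.hom)
    infer_instance
  · intro M y y' h
    have h2 : (π ≫ (show R ⟶ M from y) : Q ⟶ M) = π ≫ (show R ⟶ M from y') := hinv M h
    exact (cancel_epi π).mp h2
  · intro M x
    -- write `x = e.inv g`
    have hx : (e.inv.app M).hom ((e.hom.app M).hom x) = x :=
      FlatCx.comp_apply_eq₁ (e.hom_inv_id_app M) x
    set g : Q ⟶ M := (e.hom.app M).hom x with hg
    constructor
    · intro h0
      have h3 : (v ≫ g : Q' ⟶ M) = 0 := by
        rw [← key M g, hx, h0]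
        exact map_zero _
      -- `g` factors through `π`
      have hle : LinearMap.range v.hom ≤ LinearMap.ker g.hom := by
        rintro _ ⟨z, rfl⟩
        exact congrArg (fun k => ModuleCat.Hom.hom k z) h3
      let y : R ⟶ M := ModuleCat.ofHom ((LinearMap.range v.hom).liftQ g.hom hle)
      refine ⟨y, ?_⟩
      have h4 : (π ≫ y : Q ⟶ M) = g := by
        ext z
        rfl
      show (e.inv.app M).hom (π ≫ y : Q ⟶ M) = x
      rw [h4, hx]
    · rintro ⟨y, rfl⟩
      apply hinv' M
      rw [map_zero]
      have h5 := key M (π ≫ (show R ⟶ M from y))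
      refine h5.trans ?_
      rw [← Category.assoc, hvπ, zero_comp]
      rfl

end Groth.Agent.Helper1.Corep
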