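import Mathlib

set_option autoImplicit false
universe u
open CategoryTheory Simplicial Opposite SimplexCategory MonoidalCategory

namespace Groth.Agent.Helper1.Cosk

section
variable {U : SSet.{u}} (n : ℕ) [hU : SimplicialObject.IsCoskeletal U n]

include hU in
/-- maps into a coskeletal simplicial set are determined by their restriction to dims `≤ n` -/
lemma hom_ext {G : SSet.{u}} (a b : G ⟶ U)
    (h : ∀ (k : SimplexCategory) (_ : k.len ≤ n), a.app (op k) = b.app (op k)) : a = b := by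
  apply Functor.hom_ext_of_isRightKanExtension U (𝟙 ((Truncated.inclusion n).op ⋙ U))
  ext X : 2
  simp only [Functor.whiskerLeft_app, Category.comp_id]
  exact congrArg _ (h X.unop.obj X.unop.property)

/-- the lift of a truncated map -/
noncomputable def lift {G : SSet.{u}}
    (β : (Truncated.inclusion n).op ⋙ G ⟶ (Truncated.inclusion n).op ⋙ U) : G ⟶ U :=
  Functor.liftOfIsRightKanExtension U (𝟙 _) G β

lemma lift_app {G : SSet.{u}}
    (β : (Truncated.inclusion n).op ⋙ G ⟶ (Truncated.inclusion n).op ⋙ U)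
    (X : (SimplexCategory.Truncated n)ᵒᵖ) :
    (lift n β).app ((Truncated.inclusion n).op.obj X) = β.app X := by
  have := Functor.liftOfIsRightKanExtension_fac_app U (𝟙 ((Truncated.inclusion n).op ⋙ U)) G β X
  simpa [lift] using this

end

/-- build a morphism of truncated simplicial sets from a compatible family of functions -/
def mkTrunc (n : ℕ) {G U : SSet.{u}}
    (H : ∀ (a : SimplexCategory), a.len ≤ n → (G.obj (op a) → U.obj (op a)))
    (hH : ∀ (a b : SimplexCategory) (ha : a.len ≤ n) (hb : b.len ≤ n) (θ : a ⟶ b)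
      (x : G.obj (op b)), U.map θ.op (H b hb x) = H a ha (G.map θ.op x)) :
    (Truncated.inclusion n).op ⋙ G ⟶ (Truncated.inclusion n).op ⋙ U where
  app X := TypeCat.ofHom (H X.unop.obj X.unop.property)
  naturality X Y θ := by
    ext x
    exact (hH Y.unop.obj X.unop.obj Y.unop.property X.unop.property θ.unop.hom x).symm

/-- lift of a family of functions -/
noncomputable def liftFam (n : ℕ) {G U : SSet.{u}} [SimplicialObject.IsCoskeletal U n]
    (H : ∀ (a : SimplexCategory), a.len ≤ n → (G.obj (op a) → U.obj (op a)))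
    (hH : ∀ (a b : SimplexCategory) (ha : a.len ≤ n) (hb : b.len ≤ n) (θ : a ⟶ b)
      (x : G.obj (op b)), U.map θ.op (H b hb x) = H a ha (G.map θ.op x)) : G ⟶ U :=
  lift n (mkTrunc n H hH)

lemma liftFam_app (n : ℕ) {G U : SSet.{u}} [SimplicialObject.IsCoskeletal U n]
    (H : ∀ (a : SimplexCategory), a.len ≤ n → (G.obj (op a) → U.obj (op a)))
    (hH : ∀ (a b : SimplexCategory) (ha : a.len ≤ n) (hb : b.len ≤ n) (θ : a ⟶ b)
      (x : G.obj (op b)), U.map θ.op (H b hb x) = H a ha (G.map θ.op x))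
    (a : SimplexCategory) (ha : a.len ≤ n) (x : G.obj (op a)) :
    (liftFam n H hH).app (op a) x = H a ha x := by
  have := lift_app n (mkTrunc n H hH) (op ⟨a, ha⟩)
  exact congrArg (fun φ => φ x) this

lemma mem_boundary_of_lt (m : ℕ) (a : SimplexCategory) (ha : a.len < m)
    (x : (Δ[m] : SSet.{u}).obj (op a)) : x ∈ (SSet.boundary.{u} m).obj (op a) := by
  have := SSet.boundary_obj_eq_univ.{u} a.len m ha
  change x ∈ (SSet.boundary.{u} m).obj (op ⦋a.len⦌)
  rw [this]
  trivial

theorem trivFib_of_cosk {U V : SSet.{u}} (f : V ⟶ U) (n : ℕ)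
    (h1 : ∀ i : ℕ, i < n → Function.Bijective (f.app (op ⦋i⦌)))
    (h2 : Function.Surjective (f.app (op ⦋n⦌)))
    [SimplicialObject.IsCoskeletal U n] [SimplicialObject.IsCoskeletal V n] :
    SSet.modelCategoryQuillen.I.rlp f := by
  intro A B ι hι
  obtain ⟨m⟩ := hι
  refine ⟨fun {t b} sq => ?_⟩
  by_cases hmn : m ≤ n
  · -- low dimensions
    have hsurj : Function.Surjective (f.app (op ⦋m⦌)) := by
      rcases hmn.lt_or_eq with h | rfl
      · exact (h1 m h).2
      · exact h2
    obtain ⟨v, hv⟩ := hsurj (SSet.yonedaEquiv b)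
    have fac_right : SSet.yonedaEquiv.symm v ≫ f = b := by
      rw [SSet.yonedaEquiv_symm_comp]
      apply SSet.yonedaEquiv.injective
      rw [Equiv.apply_symm_apply]
      exact hv
    obtain _ | k := m
    · exact ⟨⟨{ l := SSet.yonedaEquiv.symm v, fac_left := SSet.boundary.hom_ext₀,
                fac_right := fac_right }⟩⟩
    · refine ⟨⟨{ l := SSet.yonedaEquiv.symm v, fac_left := SSet.boundary.hom_ext (fun j => ?_),
                 fac_right := fac_right }⟩⟩
      rw [SSet.boundary.ι_ι_assoc, SSet.stdSimplex.δ_comp_yonedaEquiv_symm]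
      apply SSet.yonedaEquiv.injective
      rw [Equiv.apply_symm_apply]
      apply (h1 k (by omega)).1
      have e1 : f.app (op ⦋k⦌) (V.δ j v) = U.δ j (f.app (op ⦋k + 1⦌) v) :=
        congrArg (fun φ => φ v) (f.naturality (SimplexCategory.δ j).op)
      have e2 := congrArg SSet.yonedaEquiv (SSet.boundary.ι j ≫= sq.w)
      rw [SSet.boundary.ι_ι_assoc, SSet.stdSimplex.yonedaEquiv_δ_comp, ← Category.assoc,
        SSet.yonedaEquiv_comp] at e2
      rw [e1, hv, e2]
  · -- high dimensions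
    have hm : n < m := by omega
    let H : ∀ (a : SimplexCategory), a.len ≤ n → ((Δ[m] : SSet.{u}).obj (op a) → V.obj (op a)) :=
      fun a ha x => t.app (op a) ⟨x, mem_boundary_of_lt m a (by omega) x⟩
    have hH : ∀ (a b : SimplexCategory) (ha : a.len ≤ n) (hb : b.len ≤ n) (θ : a ⟶ b)
        (x : (Δ[m] : SSet.{u}).obj (op b)), V.map θ.op (H b hb x) = H a ha ((Δ[m] : SSet.{u}).map θ.op x) := by
      intro a b ha hb θ x
      exact (congrArg (fun φ => φ ⟨x, mem_boundary_of_lt m b (by omega) x⟩) (t.naturality θ.op)).symm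
    refine ⟨⟨{ l := liftFam n H hH, fac_left := ?_, fac_right := ?_ }⟩⟩
    · apply hom_ext n
      intro a ha
      ext ⟨x, hx⟩
      exact liftFam_app n H hH a ha x
    · apply hom_ext n
      intro a ha
      ext x
      have e1 := liftFam_app n H hH a ha x
      have e2 := congrArg (fun φ => φ.app (op a) ⟨x, mem_boundary_of_lt m a (by omega) x⟩) sq.w
      change f.app (op a) ((liftFam n H hH).app (op a) x) = b.app (op a) x
      rw [e1]
      exact e2

/-- the simplex of `Δ[1]` is constantly `1` -/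
def IsOne {a : SimplexCategory} (α : (Δ[1] : SSet.{u}).obj (op a)) : Prop :=
  ∀ k, SSet.stdSimplex.asOrderHom α k = 1

lemma asOrderHom_map {a b : SimplexCategory} (θ : a ⟶ b) (α : (Δ[1] : SSet.{u}).obj (op b))
    (k : Fin (a.len + 1)) :
    SSet.stdSimplex.asOrderHom ((Δ[1] : SSet.{u}).map θ.op α) k =
      SSet.stdSimplex.asOrderHom α (θ.toOrderHom k) := rfl

lemma IsOne.map {a b : SimplexCategory} (θ : a ⟶ b) {α : (Δ[1] : SSet.{u}).obj (op b)}
    (h : IsOne α) : IsOne ((Δ[1] : SSet.{u}).map θ.op α) := fun k => by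
  rw [asOrderHom_map]; exact h _

lemma not_surjective_of_isOne_map {a b : SimplexCategory} (θ : a ⟶ b)
    {α : (Δ[1] : SSet.{u}).obj (op b)}
    (h : ¬ IsOne α) (h' : IsOne ((Δ[1] : SSet.{u}).map θ.op α)) :
    ¬ Function.Surjective θ.toOrderHom := by
  intro hs
  apply h
  intro k
  obtain ⟨k', rfl⟩ := hs k
  have := h' k'
  rwa [asOrderHom_map] at this

lemma tensor_map_fst {V W : SSet.{u}} {a b : SimplexCategoryᵒᵖ} (θ : a ⟶ b) (x : (V ⊗ W).obj a) :
    ((V ⊗ W).map θ x).1 = V.map θ x.1 := rfl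

lemma tensor_map_snd {V W : SSet.{u}} {a b : SimplexCategoryᵒᵖ} (θ : a ⟶ b) (x : (V ⊗ W).obj a) :
    ((V ⊗ W).map θ x).2 = W.map θ x.2 := rfl

section
variable {U V : SSet.{u}} (f₀ f₁ : V ⟶ U) (n : ℕ)
  (h : ∀ i : ℕ, i < n → f₀.app (op ⦋i⦌) = f₁.app (op ⦋i⦌))

open Classical in
/-- the truncated homotopy -/
noncomputable def Hfam : ∀ (a : SimplexCategory), a.len ≤ n →
    ((V ⊗ Δ[1] : SSet.{u}).obj (op a) → U.obj (op a)) :=
  fun a _ x => if IsOne x.2 then f₁.app (op a) x.1 else f₀.app (op a) x.1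

lemma nat_app (f : V ⟶ U) {a b : SimplexCategory} (θ : a ⟶ b) (v : V.obj (op b)) :
    U.map θ.op (f.app (op b) v) = f.app (op a) (V.map θ.op v) :=
  (congrArg (fun φ => φ v) (f.naturality θ.op)).symm

include h in
lemma map_eq_of_not_surjective {a b : SimplexCategory} (hb : b.len ≤ n) (θ : a ⟶ b)
    (hθ : ¬ Function.Surjective θ.toOrderHom) (v : V.obj (op b)) :
    U.map θ.op (f₀.app (op b) v) = U.map θ.op (f₁.app (op b) v) := by
  induction a using SimplexCategory.rec with | _ k =>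
  induction b using SimplexCategory.rec with | _ m =>
  obtain _ | m := m
  · exfalso
    apply hθ
    intro y
    exact ⟨0, @Subsingleton.elim (Fin 1) _ _ _⟩
  · obtain ⟨i, θ', rfl⟩ := SimplexCategory.eq_comp_δ_of_not_surjective θ hθ
    have hm : m < n := by
      have : (⦋m + 1⦌ : SimplexCategory).len = m + 1 := rfl
      omega
    rw [op_comp, U.map_comp]
    change U.map θ'.op (U.map (SimplexCategory.δ i).op (f₀.app (op ⦋m + 1⦌) v)) =
      U.map θ'.op (U.map (SimplexCategory.δ i).op (f₁.app (op ⦋m + 1⦌) v))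
    rw [nat_app f₀, nat_app f₁, h m hm]

include h in
lemma Hfam_nat (a b : SimplexCategory) (ha : a.len ≤ n) (hb : b.len ≤ n) (θ : a ⟶ b)
    (x : (V ⊗ Δ[1] : SSet.{u}).obj (op b)) :
    U.map θ.op (Hfam f₀ f₁ n b hb x) = Hfam f₀ f₁ n a ha ((V ⊗ Δ[1] : SSet.{u}).map θ.op x) := by
  classical
  unfold Hfam
  rw [tensor_map_fst, tensor_map_snd]
  by_cases h1 : IsOne x.2
  · rw [if_pos h1, if_pos (h1.map θ), nat_app]
  · rw [if_neg h1]
    by_cases h2 : IsOne ((Δ[1] : SSet.{u}).map θ.op x.2)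
    · rw [if_pos h2, map_eq_of_not_surjective f₀ f₁ n h hb θ
        (not_surjective_of_isOne_map θ h1 h2), nat_app]
    · rw [if_neg h2, nat_app]


lemma not_isOne_ι₀ {a : SimplexCategory} (v : V.obj (op a)) :
    ¬ IsOne ((SSet.ι₀.app (op a) v).2) := by
  intro hone
  have h0 := hone 0
  have h1 : SSet.stdSimplex.asOrderHom ((SSet.ι₀.app (op a) v).2) 0 = 0 := rfl
  rw [h1] at h0
  exact absurd h0 (by decide)

lemma isOne_ι₁ {a : SimplexCategory} (v : V.obj (op a)) :
    IsOne ((SSet.ι₁.app (op a) v).2) := fun _ => rfl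

include h in
theorem homotopy_of_cosk [SimplicialObject.IsCoskeletal U n] :
    Nonempty (SSet.Homotopy f₀ f₁) := by
  classical
  refine ⟨{ h := liftFam n (Hfam f₀ f₁ n) (Hfam_nat f₀ f₁ n h), h₀ := ?_, h₁ := ?_, rel := ?_ }⟩
  · apply hom_ext n
    intro a ha
    ext v
    change (liftFam n (Hfam f₀ f₁ n) (Hfam_nat f₀ f₁ n h)).app (op a) (SSet.ι₀.app (op a) v) =
      f₀.app (op a) v
    rw [liftFam_app n _ _ a ha]
    unfold Hfam
    rw [if_neg (not_isOne_ι₀ v)]
    rfl
  · apply hom_ext n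
    intro a ha
    ext v
    change (liftFam n (Hfam f₀ f₁ n) (Hfam_nat f₀ f₁ n h)).app (op a) (SSet.ι₁.app (op a) v) =
      f₁.app (op a) v
    rw [liftFam_app n _ _ a ha]
    unfold Hfam
    rw [if_pos (isOne_ι₁ v)]
    rfl
  · ext m ⟨⟨x, hx⟩, _⟩
    exact hx.elim

end

end Groth.Agent.Helper1.Cosk
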