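import Groth.Agent.Helper1.NoethApx8
import Groth.Agent.Helper1.BaseChart15
import Groth.Agent.Helper4.SuppLib

set_option autoImplicit false
set_option linter.unusedVariables false
universe u
open CategoryTheory CategoryTheory.Limits AlgebraicGeometry TopologicalSpace Topology

/-!
# Vanishing of `Rᵖ f_* F` from the vanishing of the cohomology of the fibres
(proper morphisms of finite presentation over an arbitrary base)
-/

noncomputable section

namespace Groth.Agent.Helper1.NoethApx

open Groth.Agent.Helper1.BaseChart Groth.Agent.Helper1.FieldPt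

variable {X S : Scheme.{u}} (f : X ⟶ S)

/-- if `H^p` of all fibres over an affine open `W` vanish, then `H^p(f⁻¹W, F) = 0` -/
theorem subsingleton_HH_chart_of_betti (W : S.Opens) [IsAffine (W : Scheme.{u})]
    [IsProper f] [LocallyOfFinitePresentation f]
    (F : X.Modules) (hF : CohB1.IsFP F) (hfl : FlatMod.IsFlatOver f F) (p : ℕ)
    (h : ∀ s ∈ W, PerfAux.betti f F s p = 0) :
    Subsingleton (Coh.HH (XV f W) (FV f W F) p) := by
  letI := chartOver f W
  obtain ⟨A₀, _, _, ι, L, hLff, -, -, hbetti, -, hhom⟩ := exists_chart_complex_bc f W F hF hfl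
  have hL : ∀ i, Module.Finite A₀ (L.X i) ∧ Module.Flat A₀ (L.X i) := fun i => by
    haveI := (hLff i).2
    exact ⟨(hLff i).1, inferInstance⟩
  have hz := isZero_homology_bcCx_of_dRank ι L hL (-(p : ℤ)) (fun y => by
    obtain ⟨w, hw, rfl⟩ := exists_eq_chartPt W y
    rw [← hbetti w hw p]
    exact h w hw)
  obtain ⟨e⟩ := hhom p
  haveI : Subsingleton ((CohIII.bcCx ι L).homology (-(p : ℤ))) :=
    ModuleCat.subsingleton_of_isZero hz
  exact e.symm.toEquiv.subsingleton

/-- a module restricts to zero on an open set as soon as it does so near each of its points -/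
theorem isZero_restrict_of_local (M : S.Modules) (U : S.Opens)
    (h : ∀ x ∈ U, ∃ W : S.Opens, x ∈ W ∧ IsZero (M.restrict W.ι)) :
    IsZero (M.restrict U.ι) := by
  apply Groth.Agent.Helper4.SuppLib.isZero_of_stalks
  intro x
  obtain ⟨W, hxW, hz⟩ := h x.1 x.2
  have h1 := Groth.Agent.Helper4.SuppLib.subsingleton_stalk_of_isZero _ hz ⟨x.1, hxW⟩
  have h2 := (Groth.Agent.Helper4.SuppLib.subsingleton_stalk_restrict_iff W.ι M ⟨x.1, hxW⟩).1 h1
  exact (Groth.Agent.Helper4.SuppLib.subsingleton_stalk_restrict_iff U.ι M x).2 h2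

/-- if `H^p` of all fibres over an open `U` vanish, then `Rᵖ f_* F` vanishes on `U` -/
theorem isZero_Rpush_restrict_of_betti [IsProper f] [LocallyOfFinitePresentation f]
    [HasInjectiveResolutions X.Modules]
    (F : X.Modules) (hF : CohB1.IsFP F) (hfl : FlatMod.IsFlatOver f F) (p : ℕ) (U : S.Opens)
    (h : ∀ s ∈ U, PerfAux.betti f F s p = 0) :
    IsZero (((Coh.Rpush f p).obj F).restrict U.ι) := by
  haveI := hF
  haveI : F.IsQuasicoherent := inferInstance
  haveI : Coh.IsQCoh F := inferInstance
  apply isZero_restrict_of_local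
  intro x hx
  obtain ⟨W, hW, hxW, hWU⟩ := exists_isAffineOpen_mem_and_subset (x := x) (U := U) hx
  haveI : IsAffine (W : Scheme.{u}) := hW
  refine ⟨W, hxW, ?_⟩
  exact isZero_Rpush_restrict f W F p
    (subsingleton_HH_chart_of_betti f W F hF hfl p (fun s hs => h s (hWU hs)))

end Groth.Agent.Helper1.NoethApx

end
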