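import Mathlib
import Groth.Agent.Helper1.FlatCxBC

/-!
# Open loci where `T_p` (after localization) is right/left exact
-/

set_option autoImplicit false

namespace Groth.Agent.Helper1.FlatCx

open CategoryTheory CategoryTheory.Limits TensorProduct

universe u

variable {A : Type u} [CommRing A]

/-- For a finite module, flatness of the localization at `y` is membership in the free locus. -/
lemma flat_localization_iff_mem_freeLocus (C : Type u) [AddCommGroup C] [Module A C]
    [Module.Finite A C] (y : PrimeSpectrum A) :
    Module.Flat (Localization.AtPrime y.asIdeal) (Localization.AtPrime y.asIdeal ⊗[A] C) ↔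
      y ∈ Module.freeLocus A C := by
  rw [Module.mem_freeLocus_iff_tensor y (Localization.AtPrime y.asIdeal)]
  constructor
  · intro h
    exact Module.free_of_flat_of_isLocalRing
  · intro h
    infer_instance

variable (P : ChainComplex (ModuleCat.{u} A) ℤ)

lemma preservesEpi_localization_iff (hP : ∀ i, Module.Finite A (P.X i) ∧ Module.Flat A (P.X i))
    (p : ℤ) (y : PrimeSpectrum A) :
    (CohIII.TFun (CohIII.bcCx (algebraMap A (Localization.AtPrime y.asIdeal)) P)
      p).PreservesEpimorphisms ↔ y ∈ Module.freeLocus A (P.opcycles (p - 1)) := by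
  haveI := (hP (p - 1)).1
  haveI := finite_opcycles P (p - 1)
  rw [preservesEpi_bcCx_iff _ P (fun i => (hP i).2) p]
  exact flat_localization_iff_mem_freeLocus _ y

lemma preservesMono_localization_iff (hP : ∀ i, Module.Finite A (P.X i) ∧ Module.Flat A (P.X i))
    (p : ℤ) (y : PrimeSpectrum A) :
    (CohIII.TFun (CohIII.bcCx (algebraMap A (Localization.AtPrime y.asIdeal)) P)
      p).PreservesMonomorphisms ↔ y ∈ Module.freeLocus A (P.opcycles p) := by
  haveI := (hP p).1
  haveI := finite_opcycles P p
  rw [preservesMono_bcCx_iff _ P (fun i => (hP i).2) p]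
  exact flat_localization_iff_mem_freeLocus _ y

theorem isOpen_rightExact_locus [IsNoetherianRing A]
    (hP : ∀ i, Module.Finite A (P.X i) ∧ Module.Flat A (P.X i)) (p : ℤ) :
    IsOpen {y : PrimeSpectrum A |
      (CohIII.TFun (CohIII.bcCx (algebraMap A (Localization.AtPrime y.asIdeal)) P)
        p).PreservesEpimorphisms} := by
  haveI := (hP (p - 1)).1
  haveI := finite_opcycles P (p - 1)
  haveI : Module.FinitePresentation A (P.opcycles (p - 1)) :=
    Module.finitePresentation_of_finite A _
  have : {y : PrimeSpectrum A |
      (CohIII.TFun (CohIII.bcCx (algebraMap A (Localization.AtPrime y.asIdeal)) P)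
        p).PreservesEpimorphisms} = Module.freeLocus A (P.opcycles (p - 1)) := by
    ext y
    exact preservesEpi_localization_iff P hP p y
  rw [this]
  exact Module.isOpen_freeLocus

theorem isOpen_leftExact_locus [IsNoetherianRing A]
    (hP : ∀ i, Module.Finite A (P.X i) ∧ Module.Flat A (P.X i)) (p : ℤ) :
    IsOpen {y : PrimeSpectrum A |
      (CohIII.TFun (CohIII.bcCx (algebraMap A (Localization.AtPrime y.asIdeal)) P)
        p).PreservesMonomorphisms} := by
  haveI := (hP p).1
  haveI := finite_opcycles P p
  haveI : Module.FinitePresentation A (P.opcycles p) :=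
    Module.finitePresentation_of_finite A _
  have : {y : PrimeSpectrum A |
      (CohIII.TFun (CohIII.bcCx (algebraMap A (Localization.AtPrime y.asIdeal)) P)
        p).PreservesMonomorphisms} = Module.freeLocus A (P.opcycles p) := by
    ext y
    exact preservesMono_localization_iff P hP p y
  rw [this]
  exact Module.isOpen_freeLocus

end Groth.Agent.Helper1.FlatCx
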