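import Groth.Agent.Helper1.DRankZero
import Groth.Agent.Helper1.FlatCxLocus
import Groth.Agent.Helper1.FlatCxChain
import Groth.Agent.S2411

set_option autoImplicit false

/-!
# `T_p` is exact when `dRank` vanishes identically in the two neighbouring degrees
-/

namespace Groth.Agent.Helper1.DRankConc

open CategoryTheory Limits MonoidalCategory HomologicalComplex TensorProduct
open Groth.Agent.Helper1.FlatCx Groth.Agent.Helper1.BCFlatCoh

universe u

section local_

variable {B : Type u} [CommRing B] [IsNoetherianRing B] [IsLocalRing B]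
  (Q : ChainComplex (ModuleCat.{u} B) ℤ)
  (hQ : ∀ i, Module.Finite B (Q.X i) ∧ Module.Flat B (Q.X i)) (p : ℤ)

include hQ in
/-- over a Noetherian local ring, `dRank = 0` at the closed point kills `T_p(k)` -/
theorem isZero_TFun_residue_of_dRank_closedPoint
    (h : CohIII.dRank Q p (IsLocalRing.closedPoint B) = 0) :
    IsZero ((CohIII.TFun Q p).obj (ModuleCat.of B (IsLocalRing.ResidueField B))) := by
  set κ' := (IsLocalRing.closedPoint B).asIdeal.ResidueField with hκ'
  haveI : ∀ i, Module.Finite κ' ((CohIII.bcCx (algebraMap B κ') Q).X i) := fun i =>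
    haveI := (hQ i).1
    finite_extendScalars (S := κ') (Q.X i)
  haveI : Module.Finite κ' ((CohIII.bcCx (algebraMap B κ') Q).homology p) :=
    finite_homology _ p
  have hsub : Subsingleton ((CohIII.bcCx (algebraMap B κ') Q).homology p) := by
    unfold CohIII.dRank at h
    exact Module.finrank_zero_iff.mp h
  have hz1 : IsZero ((CohIII.TFun Q p).obj (DRankQis.Bm (A := B) κ')) := by
    refine IsZero.of_iso ?_ (bcHomologyIso' κ' Q p).symm
    haveI : Subsingleton ((ModuleCat.restrictScalars.{u, u, u} (algebraMap B κ')).obj
        ((CohIII.bcCx (algebraMap B κ') Q).homology p)) := hsub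
    exact ModuleCat.isZero_of_subsingleton _
  haveI : (IsLocalRing.closedPoint B).asIdeal.IsMaximal :=
    inferInstanceAs (IsLocalRing.maximalIdeal B).IsMaximal
  let e : (B ⧸ (IsLocalRing.closedPoint B).asIdeal) ≃ₗ[B] κ' :=
    LinearEquiv.ofBijective
      (Algebra.linearMap (B ⧸ (IsLocalRing.closedPoint B).asIdeal) κ' |>.restrictScalars B)
      (Ideal.bijective_algebraMap_quotient_residueField _)
  exact hz1.of_iso ((CohIII.TFun Q p).mapIso e.toModuleIso)

end local_

variable {A : Type u} [CommRing A] [IsNoetherianRing A]
  (P : ChainComplex (ModuleCat.{u} A) ℤ)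
  (hP : ∀ i, Module.Finite A (P.X i) ∧ Module.Flat A (P.X i))

include hP in
/-- `T_p(k(x)) = 0` for the localized complex when `dRank P p x = 0`. -/
theorem isZero_TFun_residue_localization (p : ℤ) (x : PrimeSpectrum A)
    (h : CohIII.dRank P p x = 0) :
    IsZero ((CohIII.TFun (CohIII.bcCx (algebraMap A (Localization.AtPrime x.asIdeal)) P) p).obj
      (ModuleCat.of (Localization.AtPrime x.asIdeal)
        (IsLocalRing.ResidueField (Localization.AtPrime x.asIdeal)))) := by
  let B := Localization.AtPrime x.asIdeal
  let Q := CohIII.bcCx (algebraMap A B) P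
  have hQ : ∀ i, Module.Finite B (Q.X i) ∧ Module.Flat B (Q.X i) := fun i =>
    haveI := (hP i).1
    ⟨finite_extendScalars (S := B) (P.X i), flat_bcCx_X B P (fun i => (hP i).2) i⟩
  have hx : PrimeSpectrum.comap (algebraMap A B) (IsLocalRing.closedPoint B) = x := by
    apply PrimeSpectrum.ext
    exact Localization.AtPrime.under_maximalIdeal
  have h1 : CohIII.dRank Q p (IsLocalRing.closedPoint B) = 0 := by
    rw [dRank_baseChange P p (IsLocalRing.closedPoint B), hx]
    exact h
  exact isZero_TFun_residue_of_dRank_closedPoint Q hQ p h1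

include hP in
/-- If `dRank P q` and `dRank P r` vanish identically (`q + 1 = p`, `p + 1 = r`), then `T_p` is
exact. -/
theorem exact_of_dRank_eq_zero (p q r : ℤ) (hqp : q + 1 = p) (hpr : p + 1 = r)
    (hq : ∀ x, CohIII.dRank P q x = 0) (hr : ∀ x, CohIII.dRank P r x = 0) :
    (CohIII.TFun P p).PreservesMonomorphisms ∧ (CohIII.TFun P p).PreservesEpimorphisms := by
  have hloc : ∀ x : PrimeSpectrum A,
      (CohIII.TFun (CohIII.bcCx (algebraMap A (Localization.AtPrime x.asIdeal)) P)
        p).PreservesMonomorphisms ∧
      (CohIII.TFun (CohIII.bcCx (algebraMap A (Localization.AtPrime x.asIdeal)) P)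
        p).PreservesEpimorphisms := by
    intro x
    let B := Localization.AtPrime x.asIdeal
    let Q := CohIII.bcCx (algebraMap A B) P
    have hQ : ∀ i, Module.Finite B (Q.X i) ∧ Module.Flat B (Q.X i) := fun i =>
      haveI := (hP i).1
      ⟨finite_extendScalars (S := B) (P.X i), flat_bcCx_X B P (fun i => (hP i).2) i⟩
    exact (Groth.Agent.S2411.result Q hQ p q r hqp hpr
      (isZero_TFun_residue_localization P hP q x (hq x))
      (isZero_TFun_residue_localization P hP r x (hr x))).1
  have hflat : ∀ i, Module.Flat A (P.X i) := fun i => (hP i).2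
  have hq' : q = p - 1 := by omega
  constructor
  · rw [chain_preservesMono_iff P hflat p]
    haveI := (hP p).1
    haveI := finite_opcycles P p
    haveI : Module.FinitePresentation A (P.opcycles p) :=
      Module.finitePresentation_of_finite A _
    haveI : Module.Projective A (P.opcycles p) := by
      rw [← Module.freeLocus_eq_univ_iff, Set.eq_univ_iff_forall]
      intro x
      exact (preservesMono_localization_iff P hP p x).mp (hloc x).1
    infer_instance
  · rw [chain_preservesEpi_iff P hflat p q hqp]
    haveI := (hP q).1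
    haveI := finite_opcycles P q
    haveI : Module.FinitePresentation A (P.opcycles q) :=
      Module.finitePresentation_of_finite A _
    haveI : Module.Projective A (P.opcycles q) := by
      rw [← Module.freeLocus_eq_univ_iff, Set.eq_univ_iff_forall]
      intro x
      have := (preservesEpi_localization_iff P hP p x).mp (hloc x).2
      rw [← hq'] at this
      exact this
    infer_instance

/-- if `T_p` vanishes identically then so does `dRank P p` -/
theorem dRank_eq_zero_of_isZero_TFun {A : Type u} [CommRing A]
    (P : ChainComplex (ModuleCat.{u} A) ℤ) (p : ℤ)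
    (h : ∀ M : ModuleCat.{u} A, IsZero ((CohIII.TFun P p).obj M)) (x : PrimeSpectrum A) :
    CohIII.dRank P p x = 0 := by
  unfold CohIII.dRank
  have hz := (h (DRankQis.Bm (A := A) x.asIdeal.ResidueField)).of_iso
    (bcHomologyIso' x.asIdeal.ResidueField P p)
  have hs : Subsingleton ((ModuleCat.restrictScalars.{u, u, u}
      (algebraMap A x.asIdeal.ResidueField)).obj
      ((CohIII.bcCx (algebraMap A x.asIdeal.ResidueField) P).homology p)) :=
    ModuleCat.subsingleton_of_isZero hz
  haveI : Subsingleton ((CohIII.bcCx (algebraMap A x.asIdeal.ResidueField) P).homology p) := hs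
  exact Module.finrank_zero_of_subsingleton

end Groth.Agent.Helper1.DRankConc
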