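import Groth.Agent.Helper1.SCV16
import Groth.Agent.Helper1.DRankConc

set_option autoImplicit false
set_option linter.style.haveILetI false
set_option linter.unusedSectionVars false
set_option linter.unusedVariables false

/-!
# ValSeesaw2: the universal complex of an affine chart, with the vanishing of its fibre homology
in positive degrees
-/

namespace Groth.Agent.Helper1.ValSeesaw

open CategoryTheory Limits Opposite TopologicalSpace AlgebraicGeometry TensorProduct
  AlgebraicGeometry.Scheme.Modules
open Groth.Agent.Helper1.BaseChart Groth.Agent.Helper1.GBC Groth.Agent.Helper1.HMap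
open Groth.Agent.Lead.BCMap Groth.Agent.Helper1.FlatCx Groth.Agent.Helper1.NoethApx
open Groth.Agent.Helper1.BCFlatCoh Groth.Agent.Helper1 Groth.Agent.Helper1.SCV

universe u

variable {X S : Scheme.{u}} (f : X ⟶ S) (W : S.Opens) [IsAffine (W : Scheme.{u})]

/-- the universal complex of an affine chart of the base, with vanishing fibre homology in
positive degrees -/
theorem exists_master_pos [IsProper f] [LocallyOfFinitePresentation f]
    (F : X.Modules) (hF : CohB1.IsFP F) (hfl : FlatMod.IsFlatOver f F) :
    ∃ K : ChainComplex (ModuleCat.{u} (AV W)) ℤ, Master f W F K ∧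
      ∀ (i : ℤ), 0 < i → ∀ y : PrimeSpectrum (AV W), CohIII.dRank K i y = 0 := by
  obtain ⟨A₀, _, _, ι, L, hLff, ⟨b, hb⟩, hpos, hbetti, hgc⟩ :=
    exists_chart_complex_gc f W F hF hfl
  letI : Algebra A₀ (AV W) := ι.toAlgebra
  have hL : ∀ i, Module.Finite A₀ (L.X i) ∧ Module.Flat A₀ (L.X i) := fun i => by
    haveI := (hLff i).2
    exact ⟨(hLff i).1, inferInstance⟩
  refine ⟨CohIII.bcCx ι L, ⟨?_, ⟨b, ?_⟩, ?_, ?_, ?_⟩, ?_⟩
  · intro i
    haveI := (hLff i).1
    haveI := (hLff i).2
    refine ⟨finite_extendScalars (S := AV W) (L.X i), ?_⟩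
    exact Module.Free.of_equiv (extendScalarsEquiv (S := AV W) (L.X i)).symm
  · intro i hi
    exact Functor.map_isZero (ModuleCat.extendScalars.{u, u, u} ι) (hb i hi)
  · intro n A' _ _ X' _ g' hsq
    exact hgc A' X' g' hsq n
  · intro s hs p
    rw [hbetti s hs p]
    exact (dRank_baseChange L (-(p : ℤ)) (chartPt W s hs)).symm
  · intro p h
    apply isZero_homology_bcCx_of_dRank ι L hL
    intro y
    obtain ⟨w, hw, rfl⟩ := exists_eq_chartPt W y
    rw [← hbetti w hw p]
    exact h w hw
  · intro i hi y
    refine (dRank_baseChange L i y).trans ?_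
    exact Groth.Agent.Helper1.DRankConc.dRank_eq_zero_of_isZero_TFun L i (hpos i hi) _

end Groth.Agent.Helper1.ValSeesaw
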