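import Groth.Agent.Helper1.SCV21

set_option autoImplicit false
set_option linter.style.haveILetI false
set_option linter.unusedSectionVars false
set_option linter.unusedVariables false

/-!
# ValSeesaw3: non-vanishing of the degree-zero base change map, in terms of a complex computing
cohomology universally
-/

namespace Groth.Agent.Helper1.ValSeesaw

open CategoryTheory Limits Opposite TopologicalSpace AlgebraicGeometry TensorProduct
  AlgebraicGeometry.Scheme.Modules
open Groth.Agent.Helper1.BaseChart Groth.Agent.Helper1.GBC Groth.Agent.Helper1.HMap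
open Groth.Agent.Lead.BCMap Groth.Agent.Helper1.SCV

universe u

variable {X S X' S' : Scheme.{u}} {f : X ⟶ S} {g : S' ⟶ S} {f' : X' ⟶ S'} {g' : X' ⟶ X}
  (h : IsPullback g' f' f g)
  [QuasiCompact f] [QuasiSeparated f]
  (F : X.Modules) [Coh.IsQCoh F] (V : S.Opens) (V' : S'.Opens)
  [IsAffine (V : Scheme.{u})] [IsAffine (V' : Scheme.{u})] (e : V' ≤ g ⁻¹ᵁ V)

set_option maxHeartbeats 1600000 in
/-- **the degree-zero base change map does not vanish** as soon as the canonical map of the
homologies of a complex computing the cohomology of the charts compatibly with pullback does not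
vanish -/
theorem bc0_ne_zero_of_hmapM
    {ι : Type} {c : ComplexShape ι} (K : HomologicalComplex (ModuleCat.{u} (AV V)) c) (q : ι)
    (hGC : letI := chartOver f V; letI := chartOver f' V'; letI := chartsAlgebra g V V' e
      GCAt (AV V) (AV V') (gRes f g f' g' V V' e h.w) (FV f V F) K q 0)
    (hx : letI := chartsAlgebra g V V' e
      ∃ x : K.homology q, (hmapM (AV V') K q).hom x ≠ 0) :
    CohBC.bc0 f g f' g' h.w F ≠ 0 := by
  letI oV := chartOver f V
  letI oV' := chartOver f' V'
  letI aAA' := chartsAlgebra g V V' e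
  obtain ⟨e₁, e₁', he₁⟩ := hGC
  letI aRR' : Algebra Γ(S, V) Γ(S', V') := (g.appLE V V' e).hom.toAlgebra
  have hV : IsAffineOpen V := ‹IsAffine (V : Scheme.{u})›
  have hV' : IsAffineOpen V' := ‹IsAffine (V' : Scheme.{u})›
  haveI : F.IsQuasicoherent := inferInstance
  haveI qN : ((pushforward f).obj F).IsQuasicoherent :=
    Groth.Agent.Helper4.QcohGlue.isQuasicoherent_pushforward f F
  haveI : QuasiCompact f' := MorphismProperty.of_isPullback (P := @QuasiCompact) h inferInstance
  haveI : QuasiSeparated f' :=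
    MorphismProperty.of_isPullback (P := @QuasiSeparated) h inferInstance
  haveI qG : ((Scheme.Modules.pullback g').obj F).IsQuasicoherent :=
    Groth.Agent.Lead.StalkPull.isQuasicoherent_pullbackObj g' F
  haveI : Coh.IsQCoh ((Scheme.Modules.pullback g').obj F) := qG
  letI mRN₁ : Module Γ(S, V) Γ((Scheme.Modules.pullback g).obj ((pushforward f).obj F), V') :=
    Module.compHom _ (g.appLE V V' e).hom
  haveI tN₁ : IsScalarTower Γ(S, V) Γ(S', V')
      Γ((Scheme.Modules.pullback g).obj ((pushforward f).obj F), V') :=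
    IsScalarTower.of_compHom _ _ _
  obtain ⟨ρ₁, hρ₁, hb₁⟩ := exists_isBaseChange_pbSec g ((pushforward f).obj F) hV hV' e
  let β : Γ((Scheme.Modules.pullback g).obj ((pushforward f).obj F), V') →ₗ[Γ(S', V')]
      Γ((pushforward f').obj ((Scheme.Modules.pullback g').obj F), V') :=
    { toFun := (CohBC.bc0 f g f' g' h.w F).app V'
      map_add' := fun a b => map_add _ a b
      map_smul' := fun r m => Hom.app_smul (CohBC.bc0 f g f' g' h.w F) r m }
  letI mAN : Module (AV V) ((CohIII.bcCx (algebraMap (AV V) (AV V')) K).homology q) :=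
    Module.compHom _ (algebraMap (AV V) (AV V'))
  haveI tAN : IsScalarTower (AV V) (AV V')
      ((CohIII.bcCx (algebraMap (AV V) (AV V')) K).homology q) :=
    IsScalarTower.of_compHom _ _ _
  let hh : K.homology q →ₗ[AV V] (CohIII.bcCx (algebraMap (AV V) (AV V')) K).homology q :=
    { toFun := fun x => (hmapM (AV V') K q).hom x
      map_add' := fun x y => map_add _ x y
      map_smul' := fun a x => (hmapM (AV V') K q).hom.map_smul a x }
  let a₁ : K.homology q ≃+ Γ((pushforward f).obj F, V) :=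
    e₁.toAddEquiv.trans (CohPull.sectH0 F (f ⁻¹ᵁ V)).symm
  have ha₁ : ∀ (a : AV V) x, a₁ (a • x) = tau V a • a₁ x := by
    intro a x
    show (show Γ((pushforward f).obj F, V) from
      (CohPull.sectH0 F (f ⁻¹ᵁ V)).symm (e₁ (a • x))) =
      tau V a • (show Γ((pushforward f).obj F, V) from
        (CohPull.sectH0 F (f ⁻¹ᵁ V)).symm (e₁ x))
    rw [e₁.map_smul, ← sectH0_symm_smul]
    refine congrArg (fun t => (CohPull.sectH0 F (f ⁻¹ᵁ V)).symm t) ?_
    show Sheaf.H.map (Coh.smulAb _ (Coh.toGlobal (chartHom f V) a)) 0 (e₁ x) = _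
    rw [toGlobal_chart]
    rfl
  let iso := CohPull.pullOnIso g' (f ⁻¹ᵁ V) (f' ⁻¹ᵁ V') (preimage_le f g f' g' V V' e h.w) F
  let a₂ : (CohIII.bcCx (algebraMap (AV V) (AV V')) K).homology q ≃+
      Γ((pushforward f').obj ((Scheme.Modules.pullback g').obj F), V') :=
    e₁'.toAddEquiv.trans
      ((Groth.Agent.Helper1.ProjTop.HHlinEquiv (AV V') iso 0).toAddEquiv.trans
        (CohPull.sectH0 ((Scheme.Modules.pullback g').obj F) (f' ⁻¹ᵁ V')).symm)
  have ha₂ : ∀ (a' : AV V') y, a₂ (a' • y) = tau V' a' • a₂ y := by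
    intro a' y
    show (show Γ((pushforward f').obj ((Scheme.Modules.pullback g').obj F), V') from
      (CohPull.sectH0 ((Scheme.Modules.pullback g').obj F) (f' ⁻¹ᵁ V')).symm
        (Groth.Agent.Helper1.ProjTop.HHlinEquiv (AV V') iso 0 (e₁' (a' • y)))) =
      tau V' a' • (show Γ((pushforward f').obj ((Scheme.Modules.pullback g').obj F), V') from
        (CohPull.sectH0 ((Scheme.Modules.pullback g').obj F) (f' ⁻¹ᵁ V')).symm
          (Groth.Agent.Helper1.ProjTop.HHlinEquiv (AV V') iso 0 (e₁' y)))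
    rw [e₁'.map_smul, LinearEquiv.map_smul, ← sectH0_symm_smul]
    refine congrArg (fun t => (CohPull.sectH0 ((Scheme.Modules.pullback g').obj F)
      (f' ⁻¹ᵁ V')).symm t) ?_
    show Sheaf.H.map (Coh.smulAb _ (Coh.toGlobal (chartHom f' V') a')) 0 _ = _
    rw [toGlobal_chart]
    rfl
  have hc : ∀ x, β (ρ₁ (a₁ x)) = a₂ (hh x) := by
    intro x
    show (CohBC.bc0 f g f' g' h.w F).app V' (ρ₁ ((CohPull.sectH0 F (f ⁻¹ᵁ V)).symm (e₁ x))) =
      (CohPull.sectH0 ((Scheme.Modules.pullback g').obj F) (f' ⁻¹ᵁ V')).symm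
        (Groth.Agent.Helper1.ProjTop.HHlinEquiv (AV V') iso 0 (e₁' ((hmapM (AV V') K q).hom x)))
    rw [hρ₁, he₁ x]
    obtain ⟨m, hm⟩ := (CohPull.sectH0 F (f ⁻¹ᵁ V)).surjective (e₁ x)
    rw [← hm, AddEquiv.symm_apply_apply]
    refine (bcMap_pbSec f g g' f' h.w F V V' e m).trans ?_
    apply (CohPull.sectH0 ((Scheme.Modules.pullback g').obj F) (f' ⁻¹ᵁ V')).injective
    rw [AddEquiv.apply_symm_apply]
    exact (Groth.Agent.Helper1.PC.pullOn_sectH0 g' (f ⁻¹ᵁ V) (f' ⁻¹ᵁ V')
      (preimage_le f g f' g' V V' e h.w) F m).symm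
  obtain ⟨x, hx⟩ := hx
  intro h0
  apply hx
  have h1 : a₂ (hh x) = 0 := by
    rw [← hc x]
    show (CohBC.bc0 f g f' g' h.w F).app V' (ρ₁ (a₁ x)) = 0
    rw [h0]
    rfl
  have h2 : hh x = 0 := by
    apply a₂.injective
    rw [h1, map_zero]
  exact h2

end Groth.Agent.Helper1.ValSeesaw
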