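import Groth.Agent.Helper1.SCV23
import Groth.Agent.Helper1.ValSeesaw3

set_option autoImplicit false
set_option linter.style.haveILetI false
set_option linter.unusedSectionVars false
set_option linter.unusedVariables false

/-!
# ValSeesaw4: non-vanishing of the degree-zero base change map of a fibre
-/

namespace Groth.Agent.Helper1.ValSeesaw

open CategoryTheory Limits Opposite TopologicalSpace AlgebraicGeometry TensorProduct
  AlgebraicGeometry.Scheme.Modules
open Groth.Agent.Helper1.BaseChart Groth.Agent.Helper1.GBC Groth.Agent.Helper1.HMap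
open Groth.Agent.Lead.BCMap Groth.Agent.Helper1.SCV

universe u

variable {X S : Scheme.{u}} (f : X ⟶ S)

variable (W : S.Opens) [IsAffine (W : Scheme.{u})]
  [QuasiCompact f] [QuasiSeparated f] (s : S) (hs : s ∈ W)
  (F : X.Modules) [Coh.IsQCoh F]
  (K : ChainComplex (ModuleCat.{u} (AV W)) ℤ) (q : ℤ)

set_option maxHeartbeats 1600000 in
/-- **the degree-zero base change map of the fibre at `s` does not vanish** as soon as the
canonical map `H_q(K) → H_q(K ⊗ κ(s))` of the universal complex does not vanish -/
theorem bc0_fibre_ne_zero (HGC : UnivGC f W F K q 0)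
    (hx : letI := chartsAlgebra (S.fromSpecResidueField s) W (topK s) (topK_le s W hs)
      ∃ x : K.homology q, (hmapM (AV (topK s)) K q).hom x ≠ 0) :
    CohBC.bc0 f (S.fromSpecResidueField s) (f.fiberToSpecResidueField s) (f.fiberι s)
      (f.fiber_fac s) F ≠ 0 := by
  have h : IsPullback (f.fiberι s) (f.fiberToSpecResidueField s) f (S.fromSpecResidueField s) :=
    IsPullback.of_hasPullback _ _
  letI oW := chartOver f W
  letI oV' := chartOver (f.fiberToSpecResidueField s) (topK s)
  letI aAA' := chartsAlgebra (S.fromSpecResidueField s) W (topK s) (topK_le s W hs)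
  have hGC := HGC (AV (topK s)) (XV (f.fiberToSpecResidueField s) (topK s))
    (gRes f (S.fromSpecResidueField s) (f.fiberToSpecResidueField s) (f.fiberι s) W (topK s)
      (topK_le s W hs) h.w)
    (isPullback_charts f (S.fromSpecResidueField s) (f.fiberToSpecResidueField s) (f.fiberι s)
      W (topK s) (topK_le s W hs) h)
  exact bc0_ne_zero_of_hmapM h F W (topK s) (topK_le s W hs) K q hGC hx

end Groth.Agent.Helper1.ValSeesaw
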