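import Groth.Agent.Helper1.ValSeesaw1
import Groth.Agent.Helper1.ValSeesaw2
import Groth.Agent.Helper1.ValSeesaw4
import Groth.Agent.Helper1.SW5
import Groth.Agent.Helper1.Seesaw11
import Groth.Agent.Helper1.NoethApx5
import Groth.Agent.Helper1.PicLoc4
import Groth.Agent.Lead.ParaFLib2
import Groth.Agent.Lead.InvDualA

set_option autoImplicit false
set_option linter.style.haveILetI false
set_option linter.unusedSectionVars false
set_option linter.unusedVariables false

/-!
# ValSeesaw5: semicontinuity along a specialisation, and the fibre rank of a module trivial on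
a fibre with only constant functions
-/

namespace Groth.Agent.Helper1.ValSeesaw

open CategoryTheory Limits Opposite TopologicalSpace AlgebraicGeometry TensorProduct
  AlgebraicGeometry.Scheme.Modules
open Groth.Agent.Helper1.BaseChart Groth.Agent.Helper1.SCV Groth.Agent.Helper1.Seesaw

universe u

variable {X S : Scheme.{u}} (f : X ⟶ S)

/-- the fibre ranks can only go up under specialisation -/
theorem fiberRank_le_of_specializes [IsProper f] [LocallyOfFinitePresentation f]
    (F : X.Modules) (hF : CohB1.IsFP F) (hfl : FlatMod.IsFlatOver f F) (i : ℕ) {η s : S}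
    (h : η ⤳ s) : CohIII.fiberRank f F i η ≤ CohIII.fiberRank f F i s := by
  by_contra hcon
  push Not at hcon
  have hopen := Groth.Agent.Helper1.NoethApx.isOpen_betti_lt f F hF hfl i
    (CohIII.fiberRank f F i η)
  have hs : s ∈ {s : S | PerfAux.betti f F s i < CohIII.fiberRank f F i η} := hcon
  have hη := h.mem_open hopen hs
  have hη' : PerfAux.betti f F η i < CohIII.fiberRank f F i η := hη
  exact lt_irrefl _ hη'

/-- `h⁰(X_y, L_y) = 1` when `L_y` is trivial and `Γ(X_y, O) = κ(y)` -/
theorem fiberRank_eq_one (L : X.Modules) (y : S)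
    (e₀ : CohIII.fiberMod f L y ≅ Coh.structureModule (f.fiber y))
    (h0 : Function.Bijective ((f.fiberToSpecResidueField y).appTop)) :
    CohIII.fiberRank f L 0 y = 1 := by
  rw [fiberRank_eq_of_iso f L y e₀]
  have hbij : Function.Bijective (algebraMap (S.residueField y) Γ(f.fiber y, ⊤)) := by
    show Function.Bijective ((f.fiberToSpecResidueField y).appTop.hom.comp
      (Scheme.ΓSpecIso (S.residueField y)).inv.hom)
    rw [RingHom.coe_comp]
    refine Function.Bijective.comp h0 ?_
    exact ConcreteCategory.bijective_of_isIso (Scheme.ΓSpecIso (S.residueField y)).inv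
  let e : S.residueField y ≃ₗ[S.residueField y] Γ(f.fiber y, ⊤) :=
    LinearEquiv.ofBijective (Algebra.linearMap (S.residueField y) Γ(f.fiber y, ⊤)) hbij
  rw [← e.finrank_eq, Module.finrank_self]

end Groth.Agent.Helper1.ValSeesaw
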