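import Groth.Agent.Helper1.CurveFam1
import Groth.Agent.Helper1.Canon5
import Groth.Agent.Helper1.NoethApx9
import Groth.Agent.Helper1.SCV22
import Groth.Agent.Helper1.ValSeesaw5
import Groth.Agent.Helper4.TensorInv
import Groth.Agent.Lead.PerfLib11

set_option autoImplicit false
set_option linter.style.haveILetI false
set_option linter.unusedSectionVars false
set_option linter.unusedVariables false

/-!
# Direct images of the structure sheaf for flat proper families with `Γ(X_s, O) = κ(s)` and
`H²(X_s, O) = 0` (families of curves)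
-/

namespace Groth.Agent.Helper1.CurveFam

open CategoryTheory Opposite TopologicalSpace AlgebraicGeometry
  AlgebraicGeometry.Scheme.Modules
open Groth.Agent.Helper1.BaseChart Groth.Agent.Helper1.SCV Groth.Agent.Helper4
  Groth.Agent.Helper4.FinLocFree

universe u

variable {X S : Scheme.{u}} (f : X ⟶ S) [Flat f] [IsProper f] [LocallyOfFinitePresentation f]

/-- the structure sheaf is of finite presentation and flat over the base -/
theorem structure_conditions :
    CohB1.IsFP (Coh.structureModule X) ∧ FlatMod.IsFlatOver f (Coh.structureModule X) :=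
  ⟨FinLocFree6.isFinitePresentation_unit,
    Groth.Agent.Lead.PerfLib.isFlatOver_of_isFinLocFree f FinLocFree6.isFinLocFree_unit⟩

/-- the degree zero base change map of the structure sheaf is an isomorphism for every base
change -/
theorem isIso_bc0_unit (h : ∀ s : S, IsIso (f.fiberToSpecResidueField s).appTop)
    {X' S' : Scheme.{u}} {g : S' ⟶ S} {f' : X' ⟶ S'} {g' : X' ⟶ X}
    (hsq : IsPullback g' f' f g) :
    IsIso (CohBC.bc0 f g f' g' hsq.w (Coh.structureModule X)) :=
  Groth.Agent.Helper1.Canon.isIso_bc0_of_iso_pullback f h _ (Coh.structureModule S)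
    TensorInv.isInvertible_structureModule (PullUnit.pullbackUnitIso f).symm hsq

/-- `h⁰(X_s, O) = 1` -/
theorem betti_zero (h : ∀ s : S, IsIso (f.fiberToSpecResidueField s).appTop) (s : S) :
    PerfAux.betti f (Coh.structureModule X) s 0 = 1 :=
  Groth.Agent.Helper1.ValSeesaw.fiberRank_eq_one f _ s (PullUnit.pullbackUnitIso (f.fiberι s))
    ((ConcreteCategory.isIso_iff_bijective _).mp (h s))

/-- `f_* O_X` is free of rank one near every point -/
theorem push_free (h : ∀ s : S, IsIso (f.fiberToSpecResidueField s).appTop) (s : S) :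
    ∃ U : S.Opens, s ∈ U ∧ Nonempty (((pushforward f).obj (Coh.structureModule X)).restrict U.ι ≅
      FlatMod.freeMod (↑U) 1) := by
  obtain ⟨hFP, hfl⟩ := structure_conditions f
  haveI : Coh.IsQCoh (Coh.structureModule X) :=
    FinLocFree2.isQuasicoherent_of_isFinitePresentation _ hFP
  obtain ⟨W, hW, hsW, -⟩ :=
    AlgebraicGeometry.exists_isAffineOpen_mem_and_subset (x := s) (U := ⊤) trivial
  haveI : IsAffine (W : Scheme.{u}) := hW
  haveI := Groth.Agent.Helper4.SchAdj.isGrothendieckAbelian_modules X
  haveI : HasInjectiveResolutions X.Modules := inferInstance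
  obtain ⟨K, M, h0⟩ := exists_master0 f W _ hFP hfl
  have hiso : IsIso (CohBC.bc0 f (S.fromSpecResidueField s) (f.fiberToSpecResidueField s)
      (f.fiberι s) (f.fiber_fac s) (Coh.structureModule X)) :=
    isIso_bc0_unit f h (IsPullback.of_hasPullback f (S.fromSpecResidueField s))
  have h₁ : chartPt W s hsW ∈ OLoc W K 0 := (M.bc0_epi_iff s hsW).mp inferInstance
  obtain ⟨V, hsV, -, hfree⟩ := M.exists_nhd_free0 h0 s hsW h₁
  obtain ⟨U, hsU, hU⟩ := hfree s hsV
  rw [betti_zero f h s] at hU
  exact ⟨U, hsU, hU⟩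

/-- `R¹ f_* O_X` is free near every point `s`, of rank `h¹(X_s, O)`, when `H²(X_s, O) = 0` -/
theorem R1_free [HasInjectiveResolutions X.Modules]
    (h : ∀ s : S, IsIso (f.fiberToSpecResidueField s).appTop) (s : S)
    (hv : Subsingleton (CohIII.fiberH f (Coh.structureModule X) s 2)) :
    ∃ U : S.Opens, s ∈ U ∧
      Nonempty (((Coh.Rpush f 1).obj (Coh.structureModule X)).restrict U.ι ≅
        FlatMod.freeMod (↑U) (PerfAux.betti f (Coh.structureModule X) s 1)) := by
  obtain ⟨hFP, hfl⟩ := structure_conditions f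
  haveI : Coh.IsQCoh (Coh.structureModule X) :=
    FinLocFree2.isQuasicoherent_of_isFinitePresentation _ hFP
  obtain ⟨W, hW, hsW, -⟩ :=
    AlgebraicGeometry.exists_isAffineOpen_mem_and_subset (x := s) (U := ⊤) trivial
  haveI : IsAffine (W : Scheme.{u}) := hW
  obtain ⟨K, M⟩ := exists_master f W _ hFP hfl
  have hiso : IsIso (CohBC.bc0 f (S.fromSpecResidueField s) (f.fiberToSpecResidueField s)
      (f.fiberι s) (f.fiber_fac s) (Coh.structureModule X)) :=
    isIso_bc0_unit f h (IsPullback.of_hasPullback f (S.fromSpecResidueField s))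
  have h₁ : chartPt W s hsW ∈ OLoc W K 0 := (M.bc0_epi_iff s hsW).mp inferInstance
  have h₂ : chartPt W s hsW ∈ OLoc W K 1 := M.mem_OLoc_of_subsingleton_succ 1 s hsW hv
  obtain ⟨V, hsV, -, hfree⟩ := M.exists_nhd_free 0 s hsW h₁ h₂
  exact hfree s hsV

end Groth.Agent.Helper1.CurveFam
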