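import Groth.Agent.Helper1.CurveFam2
import Groth.Agent.Helper4.FinLocFree6
import Groth.Agent.Helper4.QcohLocal
import Groth.Agent.Helper4.QcohGlue

set_option autoImplicit false
set_option linter.style.haveILetI false
set_option linter.unusedSectionVars false
set_option linter.unusedVariables false

/-!
# `O_S ⟶ f_* O_X` is an isomorphism for flat proper families with `Γ(X_s, O) = κ(s)`
-/

namespace Groth.Agent.Helper1.CurveFam

open CategoryTheory Opposite TopologicalSpace AlgebraicGeometry
  AlgebraicGeometry.Scheme.Modules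
open Groth.Agent.Helper1.BaseChart Groth.Agent.Helper1.SCV Groth.Agent.Helper4
  Groth.Agent.Helper4.FinLocFree

universe u

variable {X S : Scheme.{u}} (f : X ⟶ S) [Flat f] [IsProper f] [LocallyOfFinitePresentation f]

/-- `f.app U` is bijective for small affine opens `U` -/
theorem exists_affine_app_bijective (h : ∀ s : S, IsIso (f.fiberToSpecResidueField s).appTop)
    (s : S) : ∃ U : S.Opens, IsAffineOpen U ∧ s ∈ U ∧ Function.Bijective (f.app U).hom := by
  obtain ⟨U, hsU, ⟨e⟩⟩ := push_free f h s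
  obtain ⟨U', hU', hsU', hU'U⟩ := FinLocFree2.exists_affine_nhd_le s U hsU
  have hfree : IsFreeAlong ((pushforward f).obj (Coh.structureModule X)) U'.ι 1 :=
    IsFreeAlong.of_le hU'U ⟨e⟩
  haveI : ((pushforward f).obj (Coh.structureModule X)).IsQuasicoherent :=
    QcohGlue.isQuasicoherent_pushforward f _
  obtain ⟨b⟩ := (isFreeAlong_ι_iff_basis hU' _).mp hfree
  refine ⟨U', hU', hsU', ?_⟩
  letI := (f.app U').hom.toAlgebra
  let E : Γ(S, U') ≃ₗ[Γ(S, U')] Γ(X, f ⁻¹ᵁ U') :=
    (LinearEquiv.funUnique (Fin 1) Γ(S, U') Γ(S, U')).symm ≪≫ₗ b.equivFun.symm ≪≫ₗ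
      FinLocFree6.pushUnitEquiv f U'
  exact bijective_algebraMap_of_linearEquiv E

/-- **`O_S ⟶ f_* O_X` is an isomorphism** -/
theorem isIso_unitToPush (h : ∀ s : S, IsIso (f.fiberToSpecResidueField s).appTop) :
    IsIso (ClSub.unitToPush f) := by
  haveI : ((pushforward f).obj (Coh.structureModule X)).IsQuasicoherent :=
    QcohGlue.isQuasicoherent_pushforward f _
  haveI : (Coh.structureModule S).IsQuasicoherent :=
    FinLocFree4.isQuasicoherent_of_isFinLocFree _ FinLocFree6.isFinLocFree_unit
  apply QcohLocal.isIso_of_app_bijective_of_affine_cover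
  intro s
  obtain ⟨U, hU, hsU, hb⟩ := exists_affine_app_bijective f h s
  exact ⟨U, hU, hsU, hb⟩

end Groth.Agent.Helper1.CurveFam
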