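import Mathlib
import Groth.Agent.Helper1.ResCx

set_option autoImplicit false

/-! Short exact sequences of bounded below complexes have short exact injective resolutions. -/

namespace Groth.Agent.Helper1.SESInj
open CategoryTheory Limits Category HomologicalComplex CochainComplex ZeroObject

universe v u
variable {A : Type u} [Category.{v} A] [Abelian A]

lemma isStrictlyGE_biprod (K L : CochainComplex A ℤ) (n : ℤ) [K.IsStrictlyGE n]
    [L.IsStrictlyGE n] : (K ⊞ L).IsStrictlyGE n := by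
  rw [isStrictlyGE_iff]
  intro i hi
  refine IsZero.of_iso ?_ ((HomologicalComplex.eval A (ComplexShape.up ℤ) i).mapBiprod _ _)
  simp only [HomologicalComplex.eval_obj, biprod_isZero_iff]
  exact ⟨K.isZero_of_isStrictlyGE n i hi, L.isZero_of_isStrictlyGE n i hi⟩

lemma degreewise_fst (K J : CochainComplex A ℤ) (hJ : ∀ k, Injective (J.X k)) :
    degreewiseEpiWithInjectiveKernel (biprod.fst : K ⊞ J ⟶ K) := by
  intro k
  rw [Abelian.epiWithInjectiveKernel_iff]
  refine ⟨J.X k, hJ k, (biprod.inr : _ ⟶ K ⊞ J).f k, ?_,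
    ⟨(biprod.snd : K ⊞ J ⟶ _).f k, (biprod.inl : _ ⟶ K ⊞ J).f k, ?_, ?_, ?_⟩⟩
  · simp [← HomologicalComplex.comp_f]
  · simp [← HomologicalComplex.comp_f]
  · simp [← HomologicalComplex.comp_f]
  · change (biprod.snd : K ⊞ J ⟶ _).f k ≫ (biprod.inr : _ ⟶ K ⊞ J).f k +
      (biprod.fst : K ⊞ J ⟶ _).f k ≫ (biprod.inl : _ ⟶ K ⊞ J).f k = 𝟙 _
    rw [← HomologicalComplex.comp_f, ← HomologicalComplex.comp_f,
      ← HomologicalComplex.add_f_apply, add_comm, biprod.total]
    rfl

lemma injective_of_epiWithInjectiveKernel {X Y : A} (g : X ⟶ Y)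
    (hg : Abelian.epiWithInjectiveKernel g) [Injective Y] : Injective X := by
  rw [Abelian.epiWithInjectiveKernel_iff] at hg
  obtain ⟨I, _, f, w, ⟨σ⟩⟩ := hg
  exact Injective.of_iso σ.isoBinaryBiproduct.symm inferInstance

variable [EnoughInjectives A]

lemma exists_inj (K : CochainComplex A ℤ) (n : ℤ) [K.IsStrictlyGE n] :
    ∃ (L : CochainComplex A ℤ) (α : K ⟶ L), L.IsStrictlyGE n ∧ (∀ k, Injective (L.X k)) ∧
      (∀ k, Mono (α.f k)) ∧ QuasiIso α :=
  ResCx.exists_int (fun X => Injective X) ⟨(0 : A), isZero_zero _, inferInstance⟩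
    (fun X => ⟨Injective.under X, Injective.ι X, inferInstance, inferInstance⟩) K n

theorem main (S : ShortComplex (CochainComplex A ℤ)) (hS : S.ShortExact) (n : ℤ)
    [S.X₁.IsStrictlyGE n] [S.X₂.IsStrictlyGE n] [S.X₃.IsStrictlyGE n] :
    ∃ (T : ShortComplex (CochainComplex A ℤ)) (φ : S ⟶ T), T.ShortExact ∧
      T.X₁.IsStrictlyGE n ∧ T.X₂.IsStrictlyGE n ∧ T.X₃.IsStrictlyGE n ∧
      (∀ k : ℤ, Injective (T.X₁.X k) ∧ Injective (T.X₂.X k) ∧ Injective (T.X₃.X k)) ∧
      QuasiIso φ.τ₁ ∧ QuasiIso φ.τ₂ ∧ QuasiIso φ.τ₃ := by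
  obtain ⟨I₃, c, hI₃, injI₃, -, qc⟩ := exists_inj S.X₃ n
  obtain ⟨J, j, hJ, injJ, monoj, -⟩ := exists_inj S.X₂ n
  have : (I₃ ⊞ J).IsStrictlyGE n := isStrictlyGE_biprod _ _ n
  let f : S.X₂ ⟶ I₃ ⊞ J := biprod.lift (S.g ≫ c) j
  have hf : Mono f := by
    have : ∀ k, Mono (f.f k) := fun k => by
      have e : f.f k ≫ (biprod.snd : I₃ ⊞ J ⟶ J).f k = j.f k := by
        rw [← HomologicalComplex.comp_f, biprod.lift_snd]
      have := monoj k
      exact mono_of_mono_fac e
    exact HomologicalComplex.mono_of_mono_f _ this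
  obtain ⟨I₂, hI₂, ι, π, monoι, qι, hπ, fac⟩ := CochainComplex.Plus.modelCategoryQuillen.cm5a_cof f n
  let p : I₂ ⟶ I₃ := π ≫ biprod.fst
  have hp : degreewiseEpiWithInjectiveKernel p :=
    MorphismProperty.comp_mem _ _ _ hπ (degreewise_fst I₃ J injJ)
  have ιp : ι ≫ p = S.g ≫ c := by
    change ι ≫ π ≫ biprod.fst = _
    rw [← assoc, fac, biprod.lift_fst]
  have epip : Epi p := hp.epi
  let T : ShortComplex (CochainComplex A ℤ) := ShortComplex.mk (kernel.ι p) p (kernel.condition p)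
  have hT : T.ShortExact :=
    { exact := ShortComplex.exact_kernel p
      mono_f := inferInstanceAs (Mono (kernel.ι p))
      epi_g := epip }
  have hK : (kernel p).IsStrictlyGE n := by
    rw [isStrictlyGE_iff]
    intro i hi
    rw [IsZero.iff_id_eq_zero, ← cancel_mono ((kernel.ι p).f i)]
    apply (I₂.isZero_of_isStrictlyGE n i hi).eq_of_tgt
  have injK : ∀ k, Injective ((kernel p).X k) := fun k =>
    Injective.of_iso
      (asIso (kernelComparison p (HomologicalComplex.eval _ _ k))).symm (hp k).2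
  have injI₂ : ∀ k, Injective (I₂.X k) := fun k => by
    have := injI₃ k
    exact injective_of_epiWithInjectiveKernel (p.f k) (hp k)
  have w : (S.f ≫ ι) ≫ p = 0 := by
    rw [assoc, ιp, ← assoc, S.zero, zero_comp]
  let φ : S ⟶ T :=
    { τ₁ := kernel.lift p (S.f ≫ ι) w
      τ₂ := ι
      τ₃ := c
      comm₁₂ := kernel.lift_ι _ _ _
      comm₂₃ := ιp }
  have q₁ : QuasiIso φ.τ₁ := by
    let _ : HasDerivedCategory A := HasDerivedCategory.standard _
    have h₂ : IsIso (DerivedCategory.Q.map φ.τ₂) := by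
      rw [DerivedCategory.isIso_Q_map_iff_quasiIso]; exact qι
    have h₃ : IsIso (DerivedCategory.Q.map φ.τ₃) := by
      rw [DerivedCategory.isIso_Q_map_iff_quasiIso]; exact qc
    have := Pretriangulated.isIso₁_of_isIso₂₃ (DerivedCategory.triangleOfSES.map hS hT φ)
      (DerivedCategory.triangleOfSES_distinguished hS)
      (DerivedCategory.triangleOfSES_distinguished hT) h₂ h₃
    rw [← DerivedCategory.isIso_Q_map_iff_quasiIso]
    exact this
  exact ⟨T, φ, hT, hK, hI₂, hI₃, fun k => ⟨injK k, injI₂ k, injI₃ k⟩, q₁, qι, qc⟩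

end Groth.Agent.Helper1.SESInj
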