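import Mathlib
import Groth.Agent.Helper1.SESInj

set_option autoImplicit false

/-! Duality `(CochainComplex A ℤ)ᵒᵖ ⥤ CochainComplex Aᵒᵖ ℤ` (op + reindexing by negation) and
the projective dual of `SESInj.main`. -/

namespace Groth.Agent.Helper1.CxDual
open CategoryTheory Limits HomologicalComplex Opposite

universe v u
section
variable {V : Type u} [Category.{v} V] [HasZeroMorphisms V]

/-- Reindexing by negation. -/
@[simps]
def negObj (K : HomologicalComplex V (ComplexShape.up ℤ).symm) : CochainComplex V ℤ where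
  X n := K.X (-n)
  d i j := K.d (-i) (-j)
  shape i j h := K.shape _ _ (by
    intro h'
    apply h
    simp only [ComplexShape.symm_Rel, ComplexShape.up_Rel] at h' ⊢
    omega)
  d_comp_d' i j k _ _ := K.d_comp_d _ _ _

@[simps]
def negFunctor : HomologicalComplex V (ComplexShape.up ℤ).symm ⥤ CochainComplex V ℤ where
  obj := negObj
  map f := { f := fun n => f.f (-n), comm' := fun i j _ => f.comm _ _ }

variable [CategoryWithHomology V]

lemma quasiIsoAt_negFunctor_map_iff {K L : HomologicalComplex V (ComplexShape.up ℤ).symm}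
    (f : K ⟶ L) (n : ℤ) :
    QuasiIsoAt (negFunctor.map f) n ↔ QuasiIsoAt f (-n) := by
  rw [quasiIsoAt_iff' (negFunctor.map f) (n - 1) n (n + 1) (by simp) (by simp),
    quasiIsoAt_iff' f (-(n - 1)) (-n) (-(n + 1))
      (by
        have : (ComplexShape.up ℤ).symm.Rel (-(n - 1)) (-n) := by
          simp only [ComplexShape.symm_Rel, ComplexShape.up_Rel]; omega
        exact (ComplexShape.up ℤ).symm.prev_eq' this)
      (by
        have : (ComplexShape.up ℤ).symm.Rel (-n) (-(n + 1)) := by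
          simp only [ComplexShape.symm_Rel, ComplexShape.up_Rel]; omega
        exact (ComplexShape.up ℤ).symm.next_eq' this)]
  rfl

lemma quasiIso_negFunctor_map_iff {K L : HomologicalComplex V (ComplexShape.up ℤ).symm}
    (f : K ⟶ L) :
    QuasiIso (negFunctor.map f) ↔ QuasiIso f := by
  simp only [quasiIso_iff, quasiIsoAt_negFunctor_map_iff]
  constructor
  · intro h i
    have := h (-i)
    rwa [neg_neg] at this
  · intro h i
    exact h (-i)

end

section
variable (A : Type u) [Category.{v} A] [Abelian A]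

/-- The duality functor. -/
def D : (CochainComplex A ℤ)ᵒᵖ ⥤ CochainComplex Aᵒᵖ ℤ :=
  opFunctor A (ComplexShape.up ℤ) ⋙ negFunctor

/-- The duality functor in the other direction. -/
def D' : (CochainComplex Aᵒᵖ ℤ)ᵒᵖ ⥤ CochainComplex A ℤ :=
  unopFunctor A (ComplexShape.up ℤ) ⋙ negFunctor

variable {A}

@[simp] lemma D_obj_X (K : CochainComplex A ℤ) (n : ℤ) :
    ((D A).obj (op K)).X n = op (K.X (-n)) := rfl
@[simp] lemma D_obj_d (K : CochainComplex A ℤ) (i j : ℤ) :
    ((D A).obj (op K)).d i j = (K.d (-j) (-i)).op := rfl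
@[simp] lemma D_map_f {K L : CochainComplex A ℤ} (f : K ⟶ L) (n : ℤ) :
    ((D A).map f.op).f n = (f.f (-n)).op := rfl
@[simp] lemma D'_obj_X (K : CochainComplex Aᵒᵖ ℤ) (n : ℤ) :
    ((D' A).obj (op K)).X n = unop (K.X (-n)) := rfl
@[simp] lemma D'_obj_d (K : CochainComplex Aᵒᵖ ℤ) (i j : ℤ) :
    ((D' A).obj (op K)).d i j = (K.d (-j) (-i)).unop := rfl
@[simp] lemma D'_map_f {K L : CochainComplex Aᵒᵖ ℤ} (f : K ⟶ L) (n : ℤ) :
    ((D' A).map f.op).f n = (f.f (-n)).unop := rfl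

lemma quasiIso_D_map {K L : CochainComplex A ℤ} (f : K ⟶ L) [QuasiIso f] :
    QuasiIso ((D A).map f.op) := by
  change QuasiIso (negFunctor.map ((opFunctor A (ComplexShape.up ℤ)).map f.op))
  rw [quasiIso_negFunctor_map_iff, quasiIso_opFunctor_map_iff]
  infer_instance

lemma quasiIso_D'_map {K L : CochainComplex Aᵒᵖ ℤ} (f : K ⟶ L) [QuasiIso f] :
    QuasiIso ((D' A).map f.op) := by
  change QuasiIso (negFunctor.map ((unopFunctor A (ComplexShape.up ℤ)).map f.op))
  rw [quasiIso_negFunctor_map_iff, quasiIso_unopFunctor_map_iff]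
  infer_instance

/-- Double dual. -/
noncomputable def dd (K : CochainComplex A ℤ) : (D' A).obj (op ((D A).obj (op K))) ≅ K :=
  HomologicalComplex.Hom.isoOfComponents (fun n => K.XIsoOfEq (neg_neg n)) (by
    intro i j _
    simp)

lemma dd_naturality {K L : CochainComplex A ℤ} (f : K ⟶ L) :
    (D' A).map ((D A).map f.op).op ≫ (dd L).hom = (dd K).hom ≫ f := by
  ext n
  simp [dd, HomologicalComplex.XIsoOfEq_hom_naturality]

/-- Dual of a short complex of complexes. -/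
@[simps]
def dualSC (S : ShortComplex (CochainComplex A ℤ)) : ShortComplex (CochainComplex Aᵒᵖ ℤ) :=
  ShortComplex.mk ((D A).map S.g.op) ((D A).map S.f.op) (by
    rw [← Functor.map_comp, ← op_comp, S.zero]
    ext n
    rfl)

/-- Dual of a short complex of complexes. -/
@[simps]
def dualSC' (S : ShortComplex (CochainComplex Aᵒᵖ ℤ)) : ShortComplex (CochainComplex A ℤ) :=
  ShortComplex.mk ((D' A).map S.g.op) ((D' A).map S.f.op) (by
    rw [← Functor.map_comp, ← op_comp, S.zero]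
    ext n
    rfl)

lemma shortExact_dualSC (S : ShortComplex (CochainComplex A ℤ)) (hS : S.ShortExact) :
    (dualSC S).ShortExact := by
  apply shortExact_of_degreewise_shortExact
  intro i
  exact ((shortExact_iff_degreewise_shortExact S).1 hS (-i)).op

lemma shortExact_dualSC' (S : ShortComplex (CochainComplex Aᵒᵖ ℤ)) (hS : S.ShortExact) :
    (dualSC' S).ShortExact := by
  apply shortExact_of_degreewise_shortExact
  intro i
  exact ((shortExact_iff_degreewise_shortExact S).1 hS (-i)).unop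

lemma isStrictlyGE_D (K : CochainComplex A ℤ) (n : ℤ) [K.IsStrictlyLE n] :
    ((D A).obj (op K)).IsStrictlyGE (-n) := by
  rw [CochainComplex.isStrictlyGE_iff]
  intro i hi
  exact (K.isZero_of_isStrictlyLE n (-i) (by omega)).op

lemma isStrictlyLE_D' (K : CochainComplex Aᵒᵖ ℤ) (n : ℤ) [K.IsStrictlyGE (-n)] :
    ((D' A).obj (op K)).IsStrictlyLE n := by
  rw [CochainComplex.isStrictlyLE_iff]
  intro i hi
  exact (K.isZero_of_isStrictlyGE (-n) (-i) (by omega)).unop

/-- Projective dual of `SESInj.main`. -/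
theorem main [EnoughProjectives A]
    (S : ShortComplex (CochainComplex A ℤ)) (hS : S.ShortExact) (n : ℤ)
    [S.X₁.IsStrictlyLE n] [S.X₂.IsStrictlyLE n] [S.X₃.IsStrictlyLE n] :
    ∃ (T : ShortComplex (CochainComplex A ℤ)) (φ : T ⟶ S), T.ShortExact ∧
      T.X₁.IsStrictlyLE n ∧ T.X₂.IsStrictlyLE n ∧ T.X₃.IsStrictlyLE n ∧
      (∀ k : ℤ, Projective (T.X₁.X k) ∧ Projective (T.X₂.X k) ∧ Projective (T.X₃.X k)) ∧
      QuasiIso φ.τ₁ ∧ QuasiIso φ.τ₂ ∧ QuasiIso φ.τ₃ := by
  have hS' := shortExact_dualSC S hS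
  have : (dualSC S).X₁.IsStrictlyGE (-n) := isStrictlyGE_D S.X₃ n
  have : (dualSC S).X₂.IsStrictlyGE (-n) := isStrictlyGE_D S.X₂ n
  have : (dualSC S).X₃.IsStrictlyGE (-n) := isStrictlyGE_D S.X₁ n
  obtain ⟨T', φ', hT', h1, h2, h3, hinj, q1, q2, q3⟩ := SESInj.main (dualSC S) hS' (-n)
  obtain ⟨a₁, ha₁⟩ : ∃ a : (D A).obj (op S.X₃) ⟶ T'.X₁, a = φ'.τ₁ := ⟨_, rfl⟩
  obtain ⟨a₂, ha₂⟩ : ∃ a : (D A).obj (op S.X₂) ⟶ T'.X₂, a = φ'.τ₂ := ⟨_, rfl⟩
  obtain ⟨a₃, ha₃⟩ : ∃ a : (D A).obj (op S.X₁) ⟶ T'.X₃, a = φ'.τ₃ := ⟨_, rfl⟩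
  have c12 : a₁ ≫ T'.f = (D A).map S.g.op ≫ a₂ := by
    rw [ha₁, ha₂]; exact φ'.comm₁₂
  have c23 : a₂ ≫ T'.g = (D A).map S.f.op ≫ a₃ := by
    rw [ha₂, ha₃]; exact φ'.comm₂₃
  have q1' : QuasiIso a₁ := by rw [ha₁]; exact q1
  have q2' : QuasiIso a₂ := by rw [ha₂]; exact q2
  have q3' : QuasiIso a₃ := by rw [ha₃]; exact q3
  let t₁ : (D' A).obj (op T'.X₃) ⟶ S.X₁ := (D' A).map a₃.op ≫ (dd S.X₁).hom
  let t₂ : (D' A).obj (op T'.X₂) ⟶ S.X₂ := (D' A).map a₂.op ≫ (dd S.X₂).hom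
  let t₃ : (D' A).obj (op T'.X₁) ⟶ S.X₃ := (D' A).map a₁.op ≫ (dd S.X₃).hom
  have qt₁ : QuasiIso t₁ := by
    have : QuasiIso ((D' A).map a₃.op) := quasiIso_D'_map a₃
    infer_instance
  have qt₂ : QuasiIso t₂ := by
    have : QuasiIso ((D' A).map a₂.op) := quasiIso_D'_map a₂
    infer_instance
  have qt₃ : QuasiIso t₃ := by
    have : QuasiIso ((D' A).map a₁.op) := quasiIso_D'_map a₁
    infer_instance
  have e₁₂ : t₁ ≫ S.f = (D' A).map T'.g.op ≫ t₂ := by
    dsimp only [t₁, t₂]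
    rw [Category.assoc, ← dd_naturality, ← Category.assoc, ← Category.assoc,
      ← Functor.map_comp, ← Functor.map_comp, ← op_comp, ← op_comp, c23]
  have e₂₃ : t₂ ≫ S.g = (D' A).map T'.f.op ≫ t₃ := by
    dsimp only [t₂, t₃]
    rw [Category.assoc, ← dd_naturality, ← Category.assoc, ← Category.assoc,
      ← Functor.map_comp, ← Functor.map_comp, ← op_comp, ← op_comp, c12]
  refine ⟨dualSC' T',
    { τ₁ := t₁
      τ₂ := t₂
      τ₃ := t₃
      comm₁₂ := e₁₂
      comm₂₃ := e₂₃ }, shortExact_dualSC' T' hT', isStrictlyLE_D' _ n, isStrictlyLE_D' _ n,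
      isStrictlyLE_D' _ n, ?_, qt₁, qt₂, qt₃⟩
  intro k
  have := hinj (-k)
  obtain ⟨i1, i2, i3⟩ := this
  refine ⟨?_, ?_, ?_⟩
  · change Projective (unop (T'.X₃.X (-k)))
    infer_instance
  · change Projective (unop (T'.X₂.X (-k)))
    infer_instance
  · change Projective (unop (T'.X₁.X (-k)))
    infer_instance

end
end Groth.Agent.Helper1.CxDual
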