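import Mathlib
import Groth.Agent.Helper4.AffUP
import Groth.Agent.Helper4.RelSpecIso

/-!
# DP1: direct-image algebras turn fibre products of affine morphisms into pushouts
-/

set_option autoImplicit false
universe u
open CategoryTheory CategoryTheory.Limits AlgebraicGeometry TopologicalSpace Opposite

namespace Groth.Agent.Helper1.DP
open Groth.Agent.Helper4

theorem algHom_congr {W₁ W₂ S : Scheme.{u}} (e₁ : W₁ ⟶ S) (e₂ : W₂ ⟶ S)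
    {h h' : W₂ ⟶ W₁} (hh : h = h') (w : h ≫ e₁ = e₂) (w' : h' ≫ e₁ = e₂) :
    AffAlg.algHom e₁ e₂ h w = AffAlg.algHom e₁ e₂ h' w' := by
  subst hh; rfl

theorem algHom_app {W₁ W₂ S : Scheme.{u}} (e₁ : W₁ ⟶ S) (e₂ : W₂ ⟶ S)
    (h : W₂ ⟶ W₁) (w : h ≫ e₁ = e₂) (U : S.Opens) :
    (AffAlg.algHom e₁ e₂ h w).app (op U) =
      h.appLE (e₁ ⁻¹ᵁ U) (e₂ ⁻¹ᵁ U) (by subst w; exact le_rfl) := by
  subst w
  simp only [AffAlg.algHom]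
  exact (Scheme.Hom.appLE_eq_app h).symm

/-- functoriality of `A(h)` -/
theorem algHom_comp {W₁ W₂ W₃ S : Scheme.{u}} (e₁ : W₁ ⟶ S) (e₂ : W₂ ⟶ S) (e₃ : W₃ ⟶ S)
    (h : W₂ ⟶ W₁) (w : h ≫ e₁ = e₂) (k : W₃ ⟶ W₂) (w' : k ≫ e₂ = e₃)
    (w'' : (k ≫ h) ≫ e₁ = e₃) :
    AffAlg.algHom e₁ e₂ h w ≫ AffAlg.algHom e₂ e₃ k w' = AffAlg.algHom e₁ e₃ (k ≫ h) w'' := by
  apply NatTrans.ext
  funext U
  change (AffAlg.algHom e₁ e₂ h w).app (op U.unop) ≫ (AffAlg.algHom e₂ e₃ k w').app (op U.unop) =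
    (AffAlg.algHom e₁ e₃ (k ≫ h) w'').app (op U.unop)
  rw [algHom_app, algHom_app, algHom_app, Scheme.Hom.appLE_comp_appLE]

end Groth.Agent.Helper1.DP
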