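import Mathlib
import Groth.Agent.Helper1.DP1

/-!
# DP2: direct-image algebras turn fibre products of affine morphisms into pushouts
-/

set_option autoImplicit false
universe u
open CategoryTheory CategoryTheory.Limits AlgebraicGeometry TopologicalSpace Opposite

namespace Groth.Agent.Helper1.DP
open Groth.Agent.Helper4

variable {S : Scheme.{u}}

/-- `A(h)` as a morphism of quasi-coherent algebras -/
noncomputable def algQ {W₁ W₂ : Scheme.{u}} (e₁ : W₁ ⟶ S) (e₂ : W₂ ⟶ S)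
    [QuasiCompact e₁] [QuasiSeparated e₁] [QuasiCompact e₂] [QuasiSeparated e₂]
    (h : W₂ ⟶ W₁) (w : h ≫ e₁ = e₂) :
    RelSpec.QCAlg.directImage e₁ ⟶ RelSpec.QCAlg.directImage e₂ :=
  ⟨AffAlg.algHom e₁ e₂ h w, AffAlg.algHom_comm e₁ e₂ h w⟩

theorem algQ_congr {W₁ W₂ : Scheme.{u}} (e₁ : W₁ ⟶ S) (e₂ : W₂ ⟶ S)
    [QuasiCompact e₁] [QuasiSeparated e₁] [QuasiCompact e₂] [QuasiSeparated e₂]
    {h h' : W₂ ⟶ W₁} (hh : h = h') (w : h ≫ e₁ = e₂) (w' : h' ≫ e₁ = e₂) :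
    algQ e₁ e₂ h w = algQ e₁ e₂ h' w' := by
  subst hh; rfl

theorem algQ_comp {W₁ W₂ W₃ : Scheme.{u}} (e₁ : W₁ ⟶ S) (e₂ : W₂ ⟶ S) (e₃ : W₃ ⟶ S)
    [QuasiCompact e₁] [QuasiSeparated e₁] [QuasiCompact e₂] [QuasiSeparated e₂]
    [QuasiCompact e₃] [QuasiSeparated e₃]
    (h : W₂ ⟶ W₁) (w : h ≫ e₁ = e₂) (k : W₃ ⟶ W₂) (w' : k ≫ e₂ = e₃)
    (w'' : (k ≫ h) ≫ e₁ = e₃) :
    algQ e₁ e₂ h w ≫ algQ e₂ e₃ k w' = algQ e₁ e₃ (k ≫ h) w'' := by
  apply RelSpec.QCAlg.hom_ext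
  exact algHom_comp e₁ e₂ e₃ h w k w' w''

/-- the inverse of `gammaHom` -/
noncomputable def gammaInv (C : RelSpec.QCAlg S) : C ⟶ RelSpec.QCAlg.directImage C.π :=
  ⟨@CategoryTheory.inv _ _ _ _ C.gammaMap (RelSpecIso.isIso_gammaMap C), by
    have i : IsIso C.gammaMap := RelSpecIso.isIso_gammaMap C
    change C.str ≫ inv C.gammaMap = C.π.c
    rw [IsIso.comp_inv_eq]
    exact C.π_c_gammaMap.symm⟩

/-- `gammaHom` as an isomorphism -/
noncomputable def gammaIso (C : RelSpec.QCAlg S) : RelSpec.QCAlg.directImage C.π ≅ C where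
  hom := C.gammaHom
  inv := gammaInv C
  hom_inv_id := by
    apply RelSpec.QCAlg.hom_ext
    exact @IsIso.hom_inv_id _ _ _ _ C.gammaMap (RelSpecIso.isIso_gammaMap C)
  inv_hom_id := by
    apply RelSpec.QCAlg.hom_ext
    exact @IsIso.inv_hom_id _ _ _ _ C.gammaMap (RelSpecIso.isIso_gammaMap C)

section
variable {X : Scheme.{u}} (e : X ⟶ S) [IsAffineHom e] (C : RelSpec.QCAlg S)
  (a : RelSpec.QCAlg.directImage e ⟶ C)

/-- the `S`-morphism `Spec C ⟶ X` attached to an algebra map `A(X) ⟶ C` -/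
noncomputable def toX : C.spec ⟶ X := AffUP.ofAlgHom e C.π (a ≫ (gammaIso C).inv).hom

theorem toX_comp : toX e C a ≫ e = C.π :=
  AffUP.ofAlgHom_comp e C.π _ (a ≫ (gammaIso C).inv).comm

theorem algQ_toX : algQ e C.π (toX e C a) (toX_comp e C a) = a ≫ (gammaIso C).inv := by
  apply RelSpec.QCAlg.hom_ext
  exact AffUP.algHom_ofAlgHom e C.π _ (a ≫ (gammaIso C).inv).comm

theorem algQ_toX_gamma : algQ e C.π (toX e C a) (toX_comp e C a) ≫ (gammaIso C).hom = a := by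
  rw [algQ_toX, Category.assoc, Iso.inv_hom_id, Category.comp_id]

/-- a morphism over `S` to `X` is determined by its algebra map composed with `gammaMap` -/
theorem eq_toX (h : C.spec ⟶ X) (w : h ≫ e = C.π)
    (ha : algQ e C.π h w ≫ (gammaIso C).hom = a) : h = toX e C a := by
  apply AffUP.hom_ext e C.π h (toX e C a) w (toX_comp e C a)
  have h1 : algQ e C.π h w = algQ e C.π (toX e C a) (toX_comp e C a) := by
    rw [algQ_toX, ← ha, Category.assoc, Iso.hom_inv_id, Category.comp_id]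
  exact congrArg RelSpec.QCAlg.Hom.hom h1

end

end Groth.Agent.Helper1.DP
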