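import Mathlib
import Groth.Agent.Helper1.DP2

/-!
# DP3: direct-image algebras turn fibre products of affine morphisms into pushouts
-/

set_option autoImplicit false
universe u
open CategoryTheory CategoryTheory.Limits AlgebraicGeometry TopologicalSpace Opposite

namespace Groth.Agent.Helper1.DP
open Groth.Agent.Helper4

section
variable {X X' Y Z S : Scheme.{u}} (g : Y ⟶ S) [IsAffineHom g]
    (f : X ⟶ Y) [IsAffineHom f] (f' : X' ⟶ Y) [IsAffineHom f'] (p : Z ⟶ X) (p' : Z ⟶ X')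
    [IsAffineHom p] (hZ : IsPullback p p' f f') (w' : p' ≫ f' ≫ g = p ≫ f ≫ g)

section cocone
variable (C : RelSpec.QCAlg S)
  (a : RelSpec.QCAlg.directImage (f ≫ g) ⟶ C) (a' : RelSpec.QCAlg.directImage (f' ≫ g) ⟶ C)
  (hc : algQ g (f ≫ g) f rfl ≫ a = algQ g (f' ≫ g) f' rfl ≫ a')

theorem toX_comp_f : toX (f ≫ g) C a ≫ f = toX g C (algQ g (f ≫ g) f rfl ≫ a) := by
  have w1 : (toX (f ≫ g) C a ≫ f) ≫ g = C.π := by
    rw [Category.assoc]; exact toX_comp (f ≫ g) C a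
  refine eq_toX g C _ (toX (f ≫ g) C a ≫ f) w1 ?_
  rw [← algQ_comp g (f ≫ g) C.π f rfl (toX (f ≫ g) C a) (toX_comp (f ≫ g) C a) w1,
    Category.assoc, algQ_toX_gamma]

include hc in
theorem toX_eq : toX (f ≫ g) C a ≫ f = toX (f' ≫ g) C a' ≫ f' := by
  rw [toX_comp_f g f C a, toX_comp_f g f' C a']
  congr 1

/-- the lift to the fibre product -/
noncomputable def lift : C.spec ⟶ Z :=
  hZ.lift (toX (f ≫ g) C a) (toX (f' ≫ g) C a') (toX_eq g f f' C a a' hc)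

theorem lift_fst : lift g f f' p p' hZ C a a' hc ≫ p = toX (f ≫ g) C a := hZ.lift_fst _ _ _

theorem lift_snd : lift g f f' p p' hZ C a a' hc ≫ p' = toX (f' ≫ g) C a' := hZ.lift_snd _ _ _

theorem lift_comp : lift g f f' p p' hZ C a a' hc ≫ p ≫ f ≫ g = C.π := by
  rw [← Category.assoc, lift_fst, toX_comp]

/-- the induced map out of `A(Z)` -/
noncomputable def desc : RelSpec.QCAlg.directImage (p ≫ f ≫ g) ⟶ C :=
  algQ (p ≫ f ≫ g) C.π (lift g f f' p p' hZ C a a' hc) (lift_comp g f f' p p' hZ C a a' hc) ≫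
    (gammaIso C).hom

theorem inl_desc : algQ (f ≫ g) (p ≫ f ≫ g) p rfl ≫ desc g f f' p p' hZ C a a' hc = a := by
  unfold desc
  have w1 : (lift g f f' p p' hZ C a a' hc ≫ p) ≫ f ≫ g = C.π := by
    rw [Category.assoc]; exact lift_comp g f f' p p' hZ C a a' hc
  rw [← Category.assoc, algQ_comp (f ≫ g) (p ≫ f ≫ g) C.π p rfl _ _ w1,
    algQ_congr (f ≫ g) C.π (lift_fst g f f' p p' hZ C a a' hc) w1 (toX_comp (f ≫ g) C a),
    algQ_toX_gamma]

theorem inr_desc : algQ (f' ≫ g) (p ≫ f ≫ g) p' w' ≫ desc g f f' p p' hZ C a a' hc = a' := by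
  unfold desc
  have w1 : (lift g f f' p p' hZ C a a' hc ≫ p') ≫ f' ≫ g = C.π := by
    rw [Category.assoc, w']; exact lift_comp g f f' p p' hZ C a a' hc
  rw [← Category.assoc, algQ_comp (f' ≫ g) (p ≫ f ≫ g) C.π p' w' _ _ w1,
    algQ_congr (f' ≫ g) C.π (lift_snd g f f' p p' hZ C a a' hc) w1 (toX_comp (f' ≫ g) C a'),
    algQ_toX_gamma]

theorem desc_uniq (m : RelSpec.QCAlg.directImage (p ≫ f ≫ g) ⟶ C)
    (h1 : algQ (f ≫ g) (p ≫ f ≫ g) p rfl ≫ m = a)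
    (h2 : algQ (f' ≫ g) (p ≫ f ≫ g) p' w' ≫ m = a') :
    m = desc g f f' p p' hZ C a a' hc := by
  have hk : toX (p ≫ f ≫ g) C m = lift g f f' p p' hZ C a a' hc := by
    apply hZ.hom_ext
    · rw [lift_fst]
      have w1 : (toX (p ≫ f ≫ g) C m ≫ p) ≫ f ≫ g = C.π := by
        rw [Category.assoc]; exact toX_comp (p ≫ f ≫ g) C m
      refine eq_toX (f ≫ g) C a _ w1 ?_
      rw [← algQ_comp (f ≫ g) (p ≫ f ≫ g) C.π p rfl _ (toX_comp (p ≫ f ≫ g) C m) w1,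
        Category.assoc, algQ_toX_gamma, h1]
    · rw [lift_snd]
      have w1 : (toX (p ≫ f ≫ g) C m ≫ p') ≫ f' ≫ g = C.π := by
        rw [Category.assoc, w']; exact toX_comp (p ≫ f ≫ g) C m
      refine eq_toX (f' ≫ g) C a' _ w1 ?_
      rw [← algQ_comp (f' ≫ g) (p ≫ f ≫ g) C.π p' w' _ (toX_comp (p ≫ f ≫ g) C m) w1,
        Category.assoc, algQ_toX_gamma, h2]
  unfold desc
  rw [← algQ_congr (p ≫ f ≫ g) C.π hk (toX_comp (p ≫ f ≫ g) C m), algQ_toX_gamma]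

end cocone

include hZ in
theorem sq_comm : algQ g (f ≫ g) f rfl ≫ algQ (f ≫ g) (p ≫ f ≫ g) p rfl =
    algQ g (f' ≫ g) f' rfl ≫ algQ (f' ≫ g) (p ≫ f ≫ g) p' w' := by
  have w1 : (p ≫ f) ≫ g = p ≫ f ≫ g := Category.assoc _ _ _
  have w2 : (p' ≫ f') ≫ g = p ≫ f ≫ g := by rw [Category.assoc, w']
  rw [algQ_comp g (f ≫ g) (p ≫ f ≫ g) f rfl p rfl w1,
    algQ_comp g (f' ≫ g) (p ≫ f ≫ g) f' rfl p' w' w2]
  exact algQ_congr g (p ≫ f ≫ g) hZ.w w1 w2

include hZ in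
theorem isPushout_directImage :
    IsPushout (C := RelSpec.QCAlg S)
      (algQ g (f ≫ g) f rfl) (algQ g (f' ≫ g) f' rfl)
      (algQ (f ≫ g) (p ≫ f ≫ g) p rfl) (algQ (f' ≫ g) (p ≫ f ≫ g) p' w') := by
  refine ⟨⟨sq_comm g f f' p p' hZ w'⟩, ⟨PushoutCocone.IsColimit.mk _
    (fun s => desc g f f' p p' hZ s.pt s.inl s.inr s.condition)
    (fun s => inl_desc g f f' p p' hZ s.pt s.inl s.inr s.condition)
    (fun s => inr_desc g f f' p p' hZ w' s.pt s.inl s.inr s.condition)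
    (fun s m h1 h2 => desc_uniq g f f' p p' hZ w' s.pt s.inl s.inr s.condition m h1 h2)⟩⟩

end

end Groth.Agent.Helper1.DP
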