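import Mathlib
import Groth.Agent.Helper1.RFLes

set_option autoImplicit false
set_option linter.unusedSectionVars false

namespace Groth.Agent.Helper1.DPlusComp
open CategoryTheory Limits DerivedCategory

universe w'' w' w v'' v' v u'' u' u

variable {A : Type u} [Category.{v} A] [Abelian A] [HasDerivedCategory.{w} A] [EnoughInjectives A]
  {B : Type u'} [Category.{v'} B] [Abelian B] [HasDerivedCategory.{w'} B] [EnoughInjectives B]
  {C : Type u''} [Category.{v''} C] [Abelian C] [HasDerivedCategory.{w''} C]
  (T : A ⥤ B) [T.Additive] (S : B ⥤ C) [S.Additive] (U : A ⥤ C) [U.Additive] (e : T ⋙ S ≅ U)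

/-- the candidate unit for `RT ⋙ RS` -/
noncomputable def compUnit :
    U.mapHomotopyCategoryPlus ⋙ DerivedCategory.Plus.Qh ⟶
      DerivedCategory.Plus.Qh ⋙ (T.rightDerivedFunctorPlus ⋙ S.rightDerivedFunctorPlus) :=
  Functor.whiskerRight (Functor.mapHomotopyCategoryPlusCompIso e).inv _ ≫
    (Functor.associator _ _ _).hom ≫
    Functor.whiskerLeft T.mapHomotopyCategoryPlus S.rightDerivedFunctorPlusUnit ≫
    (Functor.associator _ _ _).inv ≫
    Functor.whiskerRight T.rightDerivedFunctorPlusUnit S.rightDerivedFunctorPlus ≫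
    (Functor.associator _ _ _).hom

lemma isIso_compUnit_app (hT : ∀ X : A, Injective X → Injective (T.obj X))
    (X₁ : HomotopyCategory.Plus (InjectiveObject A)) :
    IsIso ((compUnit T S U e).app ((InjectiveObject.ι A).mapHomotopyCategoryPlus.obj X₁)) := by
  dsimp [compUnit]
  simp only [Category.id_comp, Category.comp_id]
  have h1 : IsIso (S.rightDerivedFunctorPlusUnit.app (T.mapHomotopyCategoryPlus.obj
      ((InjectiveObject.ι A).mapHomotopyCategoryPlus.obj X₁))) := by
    obtain ⟨n, hn⟩ : ∃ n : ℤ, CochainComplex.IsStrictlyGE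
        ((T.mapHomologicalComplex _).obj
          (((InjectiveObject.ι A).mapHomologicalComplex _).obj X₁.obj.as)) n := by
      obtain ⟨n, hn⟩ := (HomotopyCategory.plus_quotient_obj_iff X₁.obj.as).1 X₁.property
      exact ⟨n, inferInstance⟩
    exact RFLes.isIso_unit_of_injective S
      ⟨(T.mapHomologicalComplex _).obj
          (((InjectiveObject.ι A).mapHomologicalComplex _).obj X₁.obj.as), n, hn⟩
      (fun k => hT _ (X₁.obj.as.X k).property)
  infer_instance

lemma isRightDerivedFunctor_comp (hT : ∀ X : A, Injective X → Injective (T.obj X)) :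
    (T.rightDerivedFunctorPlus ⋙ S.rightDerivedFunctorPlus).IsRightDerivedFunctor
      (compUnit T S U e) (HomotopyCategory.Plus.quasiIso A) := by
  apply LocalizerMorphism.Derives.isRightDerivedFunctor_of_isIso
    (Φ := HomotopyCategory.Plus.localizerMorphism A)
  · intro X Y f hf
    have : IsIso f := hf
    infer_instance
  · intro X₁
    exact isIso_compUnit_app T S U e hT X₁

include e in
theorem nonempty_comp_iso (hT : ∀ X : A, Injective X → Injective (T.obj X)) :
    Nonempty (T.rightDerivedFunctorPlus ⋙ S.rightDerivedFunctorPlus ≅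
      U.rightDerivedFunctorPlus) := by
  have := isRightDerivedFunctor_comp T S U e hT
  exact ⟨Functor.rightDerivedUnique _ _ (compUnit T S U e) U.rightDerivedFunctorPlusUnit
    (HomotopyCategory.Plus.quasiIso A)⟩

end Groth.Agent.Helper1.DPlusComp
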