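import Groth.Agent.Helper1.DRankConc
import Groth.Agent.Helper1.FlatCxVanish

set_option autoImplicit false

/-!
# `T_q = 0` when `dRank P q` vanishes identically
-/

namespace Groth.Agent.Helper1.DRankVanish

open CategoryTheory Limits MonoidalCategory HomologicalComplex TensorProduct
open Groth.Agent.Helper1.FlatCx Groth.Agent.Helper1.BCFlatCoh

universe u

variable {A : Type u} [CommRing A] [IsNoetherianRing A]
  (P : ChainComplex (ModuleCat.{u} A) ℤ)
  (hP : ∀ i, Module.Finite A (P.X i) ∧ Module.Flat A (P.X i))

include hP in
/-- if `dRank P q` vanishes identically, then `T_q = 0` -/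
theorem isZero_TFun_of_dRank_eq_zero (q : ℤ) (h : ∀ x, CohIII.dRank P q x = 0)
    (M : ModuleCat.{u} A) : IsZero ((CohIII.TFun P q).obj M) := by
  have hflat : ∀ i, Module.Flat A (P.X i) := fun i => (hP i).2
  have hloc : ∀ x : PrimeSpectrum A,
      (CohIII.TFun (CohIII.bcCx (algebraMap A (Localization.AtPrime x.asIdeal)) P)
        q).PreservesEpimorphisms := by
    intro x
    let B := Localization.AtPrime x.asIdeal
    let Q := CohIII.bcCx (algebraMap A B) P
    have hQ : ∀ i, Module.Finite B (Q.X i) ∧ Module.Flat B (Q.X i) := fun i =>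
      haveI := (hP i).1
      ⟨finite_extendScalars (S := B) (P.X i), flat_bcCx_X B P (fun i => (hP i).2) i⟩
    exact (exact_of_isZero_tfun Q q (fun N => Groth.Agent.S2408.result Q hQ q
      (Groth.Agent.Helper1.DRankConc.isZero_TFun_residue_localization P hP q x (h x)) N)).2
  have he : (CohIII.TFun P q).PreservesEpimorphisms := by
    rw [chain_preservesEpi_iff P hflat q (q - 1) (by ring)]
    haveI := (hP (q - 1)).1
    haveI := finite_opcycles P (q - 1)
    haveI : Module.FinitePresentation A (P.opcycles (q - 1)) :=
      Module.finitePresentation_of_finite A _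
    haveI : Module.Projective A (P.opcycles (q - 1)) := by
      rw [← Module.freeLocus_eq_univ_iff, Set.eq_univ_iff_forall]
      intro x
      exact (preservesEpi_localization_iff P hP q x).mp (hloc x)
    infer_instance
  exact Groth.Agent.Helper1.FlatCxVanish.isZero_TFun_of_preservesEpi P hflat q he
    (Groth.Agent.Helper1.DRankZero.isZero_homology_of_dRank_eq_zero P hP q h) M

end Groth.Agent.Helper1.DRankVanish
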