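import Groth.Agent.Helper1.NoethApx11

set_option autoImplicit false
set_option linter.unusedVariables false
universe u
open CategoryTheory CategoryTheory.Limits AlgebraicGeometry TopologicalSpace Topology

/-!
# Local freeness of `Rᵖ f_* F` over an open set of the base
-/

noncomputable section

namespace Groth.Agent.Helper1.NoethApx

open Groth.Agent.Helper1.BaseChart Groth.Agent.Helper1.FieldPt Groth.Agent.Helper4 Groth.Agent.Helper4.FinLocFree Groth.Agent.Helper4.StalkDict

variable {X S : Scheme.{u}} (f : X ⟶ S)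

/-- a module is finite locally free over an open set `U` as soon as it is free near each point
of `U` -/
theorem isFinLocFree_restrict_of_local (M : S.Modules) (U : S.Opens)
    (h : ∀ x ∈ U, ∃ (V : S.Opens) (n : ℕ), x ∈ V ∧ IsFreeAlong M V.ι n) :
    FlatMod.IsFinLocFree (M.restrict U.ι) := by
  apply isFinLocFree_of_isFreeAlong
  intro x
  obtain ⟨V, n, hxV, hfr⟩ := h x.1 x.2
  have h1 : IsFreeAlong M (V ⊓ U).ι n := hfr.of_le inf_le_left
  let k : ((V ⊓ U : S.Opens) : Scheme.{u}) ⟶ (U : Scheme.{u}) := S.homOfLE inf_le_right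
  have hk : k ≫ U.ι = (V ⊓ U).ι := by simp [k]
  refine ⟨_, k, inferInstance, n, ?_, ?_⟩
  · refine ⟨⟨x.1, ⟨hxV, x.2⟩⟩, ?_⟩
    apply Subtype.ext
    have := congrArg (fun φ => φ.base ⟨x.1, ⟨hxV, x.2⟩⟩) hk
    exact this
  · rw [IsFreeAlong.restrict_iff]
    exact h1.congr hk.symm

/-- if `H^{p+1}` and `H^{p-1}` of all fibres over an open `U` vanish, then `Rᵖ f_* F` is finite
locally free over `U` -/
theorem isFinLocFree_Rpush_restrict_of_betti [IsProper f] [LocallyOfFinitePresentation f]
    [HasInjectiveResolutions X.Modules]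
    (F : X.Modules) (hF : CohB1.IsFP F) (hfl : FlatMod.IsFlatOver f F) (p : ℕ) (U : S.Opens)
    (h1 : ∀ s ∈ U, PerfAux.betti f F s (p + 1) = 0)
    (h2 : 0 < p → ∀ s ∈ U, PerfAux.betti f F s (p - 1) = 0) :
    FlatMod.IsFinLocFree (((Coh.Rpush f p).obj F).restrict U.ι) := by
  apply isFinLocFree_restrict_of_local
  intro x hx
  obtain ⟨W, hW, hxW, hWU⟩ := exists_isAffineOpen_mem_and_subset (x := x) (U := U) hx
  haveI : IsAffine (W : Scheme.{u}) := hW
  obtain ⟨V, hxV, hV⟩ := exists_free_nhd_of_betti f W F hF hfl p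
    (fun s hs => h1 s (hWU hs)) (fun hp s hs => h2 hp s (hWU hs)) x hxW
  exact ⟨V, _, hxV, hV⟩

/-- if `H^1` of all fibres over an open `U` vanishes, then `f_* F` is finite locally free
over `U` -/
theorem isFinLocFree_push_restrict_of_betti [IsProper f] [LocallyOfFinitePresentation f]
    [HasInjectiveResolutions X.Modules]
    (F : X.Modules) (hF : CohB1.IsFP F) (hfl : FlatMod.IsFlatOver f F) (U : S.Opens)
    (h1 : ∀ s ∈ U, PerfAux.betti f F s 1 = 0) :
    FlatMod.IsFinLocFree (((Coh.push f).obj F).restrict U.ι) := by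
  have h := isFinLocFree_Rpush_restrict_of_betti f F hF hfl 0 U h1 (fun hp => absurd hp (by simp))
  haveI : PreservesLimits (Scheme.Modules.pushforward f) :=
    (Scheme.Modules.pullbackPushforwardAdjunction f).rightAdjoint_preservesLimits
  haveI : PreservesFiniteLimits (Scheme.Modules.pushforward f) := inferInstance
  exact FinLocFree2.isFinLocFree_of_iso ((Scheme.Modules.restrictFunctor U.ι).mapIso
      ((Scheme.Modules.pushforward f).rightDerivedZeroIsoSelf.app F)) h

end Groth.Agent.Helper1.NoethApx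

end
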