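import Groth.Agent.Helper1.PDeg4
import Groth.Agent.Helper1.NoethApx12
import Groth.Agent.Helper4.SN51
import Groth.Agent.Helper4.SN42

set_option autoImplicit false
set_option linter.style.haveILetI false
set_option linter.unusedSectionVars false
set_option linter.unusedVariables false

/-!
# Vanishing of `R¹ f_* L` for invertible modules of large degree on the fibres of a family of
smooth curves
-/

namespace Groth.Agent.Helper1.DegVan

open CategoryTheory AlgebraicGeometry TopologicalSpace Topology
open Groth.Agent.Helper1.PDeg Groth.Agent.Helper4.TensorInv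

universe u

/-- on a proper integral curve, an invertible module with `h⁰ > g` has no `H¹` -/
theorem subsingleton_H1_of_lt (k : Type u) [Field k] (Y : Scheme.{u})
    [Y.Over (Spec (CommRingCat.of k))] [IsProper (Y ↘ Spec (CommRingCat.of k))] [IsIntegral Y]
    (hdim : topologicalKrullDim Y = 1) (L : Y.Modules) (hL : PicF.IsInvertible L)
    (h : Curv2.genus k Y < Module.finrank k (Coh.HH Y L 0)) :
    Subsingleton (Coh.HH Y L 1) := by
  by_contra hns
  rw [not_subsingleton_iff_nontrivial] at hns
  have hcL := Groth.Agent.Helper1.SerreFin.isCoh_of_isInvertible L hL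
  have := Groth.Agent.Helper4.SN.h0_le_genus_of_h1_nontrivial k hdim L hcL
    (fun s hs => ⟨Groth.Agent.Helper4.NApx81.mono_of_ne_zero s isInvertible_structureModule hL hs,
      Groth.Agent.Helper4.NApx81.stalkLin_surjective_genericPoint s
        isInvertible_structureModule hL hs⟩) hns
  omega

variable {C S : Scheme.{u}} (f : C ⟶ S) [Smooth f] [IsProper f] [GeometricallyConnected f]

/-- the fibres are integral -/
theorem isIntegral_fiber (s : S) : IsIntegral (f.fiber s) := by
  letI : (f.fiber s).Over (Spec (CommRingCat.of (S.residueField s))) :=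
    ⟨f.fiberToSpecResidueField s⟩
  haveI : IsProper (f.fiber s ↘ Spec (CommRingCat.of (S.residueField s))) :=
    inferInstanceAs (IsProper (Limits.pullback.snd f (S.fromSpecResidueField s)))
  haveI : Smooth (f.fiber s ↘ Spec (CommRingCat.of (S.residueField s))) :=
    inferInstanceAs (Smooth (Limits.pullback.snd f (S.fromSpecResidueField s)))
  haveI : GeometricallyConnected (f.fiber s ↘ Spec (CommRingCat.of (S.residueField s))) :=
    MorphismProperty.of_isPullback (P := @GeometricallyConnected)
      (IsPullback.of_hasPullback f (S.fromSpecResidueField s)) inferInstance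
  exact Groth.Agent.Helper4.SN.isIntegral_of_smooth_of_geometricallyConnected
    (S.residueField s) (f.fiber s)

/-- **`H¹` of the fibres vanishes when the degree exceeds `2g - 2`** -/
theorem fiberRank_one_eq_zero (hdim : ∀ s : S, topologicalKrullDim ↥(f.fiber s) = 1)
    (L : C.Modules) (hL : PicF.IsInvertible L) (s : S)
    (hdeg : ((CohIII.fiberRank f L 0 s : ℤ) - CohIII.fiberRank f L 1 s) -
        (1 - (CohIII.fiberRank f (Coh.structureModule C) 1 s : ℤ)) >
      2 * (CohIII.fiberRank f (Coh.structureModule C) 1 s : ℤ) - 2) :
    CohIII.fiberRank f L 1 s = 0 := by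
  letI : (f.fiber s).Over (Spec (CommRingCat.of (S.residueField s))) :=
    ⟨f.fiberToSpecResidueField s⟩
  haveI : IsProper (f.fiber s ↘ Spec (CommRingCat.of (S.residueField s))) :=
    inferInstanceAs (IsProper (Limits.pullback.snd f (S.fromSpecResidueField s)))
  haveI := isIntegral_fiber f s
  have hg : Curv2.genus (S.residueField s) (f.fiber s) =
      CohIII.fiberRank f (Coh.structureModule C) 1 s :=
    ((Groth.Agent.Helper1.ProjTop.HHlinEquiv (S.residueField s)
      (Groth.Agent.Helper4.PullUnit.pullbackUnitIso (f.fiberι s)) 1).finrank_eq).symm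
  by_contra hne
  have hpos : 0 < CohIII.fiberRank f L 1 s := Nat.pos_of_ne_zero hne
  have hlt : Curv2.genus (S.residueField s) (f.fiber s) <
      Module.finrank (S.residueField s)
        (Coh.HH (f.fiber s) ((Scheme.Modules.pullback (f.fiberι s)).obj L) 0) := by
    rw [hg]
    have h0 : Module.finrank (S.residueField s)
        (Coh.HH (f.fiber s) ((Scheme.Modules.pullback (f.fiberι s)).obj L) 0) =
        CohIII.fiberRank f L 0 s := rfl
    rw [h0]
    omega
  haveI := subsingleton_H1_of_lt (S.residueField s) (f.fiber s) (hdim s) _
    (Groth.Agent.Helper4.PullSec.isInvertible_pullback (f.fiberι s) hL) hlt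
  apply hne
  exact Module.finrank_zero_of_subsingleton

end Groth.Agent.Helper1.DegVan
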