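import Groth.Agent.Helper1.DegVan1

set_option autoImplicit false
set_option linter.style.haveILetI false
set_option linter.unusedSectionVars false
set_option linter.unusedVariables false

/-!
# Vanishing of `R¹ f_* L` and local freeness of `f_* L` for large fibre degree
-/

namespace Groth.Agent.Helper1.DegVan

open CategoryTheory AlgebraicGeometry TopologicalSpace Topology
open Groth.Agent.Helper1.PDeg Groth.Agent.Helper4.TensorInv

universe u

variable {C S : Scheme.{u}} (f : C ⟶ S) [IsProper f] [Flat f] [LocallyOfFinitePresentation f]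
  [HasInjectiveResolutions C.Modules]

/-- if `H¹` of all fibres vanishes, `R¹ f_* F = 0` and `f_* F` is finite locally free -/
theorem isZero_R1_and_isFinLocFree_push (F : C.Modules) (hF : CohB1.IsFP F)
    (hfl : FlatMod.IsFlatOver f F) (h : ∀ s : S, PerfAux.betti f F s 1 = 0) :
    Limits.IsZero ((Coh.Rpush f 1).obj F) ∧ FlatMod.IsFinLocFree ((Coh.push f).obj F) := by
  constructor
  · have h1 := Groth.Agent.Helper1.NoethApx.isZero_Rpush_restrict_of_betti f F hF hfl 1 ⊤
      (fun s _ => h s)
    apply Groth.Agent.Helper4.SuppLib.isZero_of_stalks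
    intro x
    have h2 := Groth.Agent.Helper4.SuppLib.subsingleton_stalk_of_isZero _ h1 ⟨x, trivial⟩
    exact (Groth.Agent.Helper4.SuppLib.subsingleton_stalk_restrict_iff (⊤ : S.Opens).ι _
      ⟨x, trivial⟩).1 h2
  · intro x
    obtain ⟨W, hW, hxW, -⟩ := exists_isAffineOpen_mem_and_subset (x := x)
      (U := (⊤ : S.Opens)) trivial
    haveI : IsAffine (W : Scheme.{u}) := hW
    obtain ⟨U, hxU, ⟨e⟩⟩ := Groth.Agent.Helper1.NoethApx.exists_free_nhd_of_betti f W F hF hfl 0
      (fun s _ => h s) (fun hp => absurd hp (by simp)) x hxW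
    haveI : Limits.PreservesLimits (Scheme.Modules.pushforward f) :=
      (Scheme.Modules.pullbackPushforwardAdjunction f).rightAdjoint_preservesLimits
    haveI : Limits.PreservesFiniteLimits (Scheme.Modules.pushforward f) := inferInstance
    exact ⟨U, _, hxU, ⟨((Scheme.Modules.restrictFunctor U.ι).mapIso
      ((Scheme.Modules.pushforward f).rightDerivedZeroIsoSelf.app F)).symm ≪≫ e⟩⟩

end Groth.Agent.Helper1.DegVan
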