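import Groth.Agent.Helper1.DerLES

/-!
# Equivariant comparison of two effaceable cohomological δ-functors

Same as `DeltaCmp.nonempty_iso`, but keeping track of a family of endomorphisms
`u : ι → (F ⟶ F)`: the comparison isomorphism `Tⁿ(F) ≅ T'ⁿ(F)` can be chosen to commute with all
`Tⁿ(u a)`, `T'ⁿ(u a)` simultaneously, provided the effacements can be chosen equivariantly and the
connecting maps are natural.
-/

set_option autoImplicit false

namespace Groth.Agent.Helper1.DeltaEq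

open CategoryTheory Limits

universe w v₁ v₂ u₁ u₂

variable {A : Type u₁} [Category.{v₁} A] [Abelian A] {B : Type u₂} [Category.{v₂} B] [Abelian B]
variable {ι : Type w}

/-- `T` has a long exact sequence for the short complex `S` whose connecting maps commute with
the endomorphisms `φ a` of `S`. -/
def HasLESEq (T : ℕ → A ⥤ B) (S : ShortComplex A) (φ : ι → (S ⟶ S)) : Prop :=
  ∀ n : ℕ, ∃ (δ : (T n).obj S.X₃ ⟶ (T (n + 1)).obj S.X₁)
    (w₁ : (T n).map S.g ≫ δ = 0) (w₂ : δ ≫ (T (n + 1)).map S.f = 0),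
    (ShortComplex.mk _ _ w₁).Exact ∧ (ShortComplex.mk _ _ w₂).Exact ∧
    ∀ a, (T n).map (φ a).τ₃ ≫ δ = δ ≫ (T (n + 1)).map (φ a).τ₁

variable (T T' : ℕ → A ⥤ B)

/-- the data of an equivariant effacement of `(F, u)` -/
structure Effacement (𝒜 : A → Prop) (F : A) (u : ι → (F ⟶ F)) where
  /-- the short complex `F → I → Q` -/
  S : ShortComplex A
  /-- the endomorphisms of the short complex -/
  φ : ι → (S ⟶ S)
  /-- identification of the first term -/
  i : S.X₁ ≅ F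
  comm : ∀ a, (φ a).τ₁ ≫ i.hom = i.hom ≫ u a
  mem : 𝒜 S.X₃
  zero : ∀ n, IsZero ((T (n + 1)).obj S.X₂)
  zero' : ∀ n, IsZero ((T' (n + 1)).obj S.X₂)
  les : HasLESEq T S φ
  les' : HasLESEq T' S φ

variable {T T'}

lemma exists_iso_one {S : ShortComplex A} {φ : ι → (S ⟶ S)} (e : T 0 ≅ T' 0)
    (h : HasLESEq T S φ) (h' : HasLESEq T' S φ)
    (hz : IsZero ((T 1).obj S.X₂)) (hz' : IsZero ((T' 1).obj S.X₂)) :
    ∃ ψ : (T 1).obj S.X₁ ≅ (T' 1).obj S.X₁,
      ∀ a, (T 1).map (φ a).τ₁ ≫ ψ.hom = ψ.hom ≫ (T' 1).map (φ a).τ₁ := by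
  obtain ⟨δ, w₁, w₂, h₁, h₂, hc⟩ := h 0
  obtain ⟨δ', w₁', w₂', h₁', h₂', hc'⟩ := h' 0
  have hδ : Epi δ := h₂.epi_f (hz.eq_of_tgt _ _)
  have hδ' : Epi δ' := h₂'.epi_f (hz'.eq_of_tgt _ _)
  have hcok : IsColimit (CokernelCofork.ofπ δ w₁) := h₁.gIsCokernel
  have hcok' : IsColimit (CokernelCofork.ofπ δ' w₁') := h₁'.gIsCokernel
  have k1 : (T 0).map S.g ≫ (e.hom.app S.X₃ ≫ δ') = 0 := by
    rw [← Category.assoc, e.hom.naturality, Category.assoc, w₁', comp_zero]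
  have k2 : (T' 0).map S.g ≫ (e.inv.app S.X₃ ≫ δ) = 0 := by
    rw [← Category.assoc, e.inv.naturality, Category.assoc, w₁, comp_zero]
  let f := hcok.desc (CokernelCofork.ofπ _ k1)
  have hf : δ ≫ f = e.hom.app S.X₃ ≫ δ' := hcok.fac _ WalkingParallelPair.one
  let g := hcok'.desc (CokernelCofork.ofπ _ k2)
  have hg : δ' ≫ g = e.inv.app S.X₃ ≫ δ := hcok'.fac _ WalkingParallelPair.one
  have hfg : f ≫ g = 𝟙 _ := by
    rw [← cancel_epi δ, ← Category.assoc, hf, Category.assoc, hg, ← Category.assoc,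
      Iso.hom_inv_id_app, Category.id_comp]
    exact (Category.comp_id _).symm
  have hgf : g ≫ f = 𝟙 _ := by
    rw [← cancel_epi δ', ← Category.assoc, hg, Category.assoc, hf, ← Category.assoc,
      Iso.inv_hom_id_app, Category.id_comp]
    exact (Category.comp_id _).symm
  refine ⟨⟨f, g, hfg, hgf⟩, fun a => ?_⟩
  show (T 1).map (φ a).τ₁ ≫ f = f ≫ (T' 1).map (φ a).τ₁
  rw [← cancel_epi δ, ← Category.assoc, ← hc a, Category.assoc, hf, ← Category.assoc δ f, hf,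
    Category.assoc, ← hc' a, ← Category.assoc, ← Category.assoc, e.hom.naturality]

lemma exists_iso_succ {S : ShortComplex A} {φ : ι → (S ⟶ S)} (h : HasLESEq T S φ)
    (hz : ∀ n, IsZero ((T (n + 1)).obj S.X₂)) (n : ℕ) :
    ∃ ψ : (T (n + 1)).obj S.X₃ ≅ (T (n + 2)).obj S.X₁,
      ∀ a, (T (n + 1)).map (φ a).τ₃ ≫ ψ.hom = ψ.hom ≫ (T (n + 2)).map (φ a).τ₁ := by
  obtain ⟨δ, w₁, w₂, h₁, h₂, hc⟩ := h (n + 1)
  have : Epi δ := h₂.epi_f ((hz (n + 1)).eq_of_tgt _ _)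
  have : Mono δ := h₁.mono_g ((hz n).eq_of_src _ _)
  have : IsIso δ := isIso_of_mono_of_epi δ
  exact ⟨asIso δ, hc⟩

theorem exists_iso (𝒜 : A → Prop) (e : T 0 ≅ T' 0)
    (hE : ∀ (F : A) (u : ι → (F ⟶ F)), 𝒜 F → Nonempty (Effacement T T' 𝒜 F u)) :
    ∀ (n : ℕ) (F : A) (u : ι → (F ⟶ F)), 𝒜 F →
      ∃ ψ : (T n).obj F ≅ (T' n).obj F, ∀ a, (T n).map (u a) ≫ ψ.hom = ψ.hom ≫ (T' n).map (u a) := by
  intro n
  induction n with
  | zero => exact fun F u _ => ⟨e.app F, fun a => e.hom.naturality (u a)⟩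
  | succ n ih =>
    intro F u hF
    obtain ⟨E⟩ := hE F u hF
    obtain ⟨S, φ, i, comm, hQ, hz, hz', hl, hl'⟩ := E
    -- it suffices to treat `(S.X₁, τ₁)`
    suffices hsuff : ∃ ψ : (T (n + 1)).obj S.X₁ ≅ (T' (n + 1)).obj S.X₁,
        ∀ a, (T (n + 1)).map (φ a).τ₁ ≫ ψ.hom = ψ.hom ≫ (T' (n + 1)).map (φ a).τ₁ by
      obtain ⟨ψ, hψ⟩ := hsuff
      refine ⟨(T (n + 1)).mapIso i.symm ≪≫ ψ ≪≫ (T' (n + 1)).mapIso i, fun a => ?_⟩
      have c1 : (T (n + 1)).map (u a) ≫ (T (n + 1)).map i.inv =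
          (T (n + 1)).map i.inv ≫ (T (n + 1)).map (φ a).τ₁ := by
        rw [← Functor.map_comp, ← Functor.map_comp]
        congr 1
        rw [Iso.eq_inv_comp, ← Category.assoc, ← comm a, Category.assoc, Iso.hom_inv_id,
          Category.comp_id]
      have c2 : (T' (n + 1)).map (φ a).τ₁ ≫ (T' (n + 1)).map i.hom =
          (T' (n + 1)).map i.hom ≫ (T' (n + 1)).map (u a) := by
        rw [← Functor.map_comp, ← Functor.map_comp, comm a]
      simp only [Iso.trans_hom, Functor.mapIso_hom, Iso.symm_hom, Category.assoc]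
      rw [← Category.assoc, c1, Category.assoc, ← Category.assoc _ ψ.hom, hψ a, Category.assoc, c2]
    cases n with
    | zero => exact exists_iso_one e hl hl' (hz 0) (hz' 0)
    | succ n =>
      obtain ⟨i₁, h₁⟩ := exists_iso_succ hl hz n
      obtain ⟨i₂, h₂⟩ := exists_iso_succ hl' hz' n
      obtain ⟨j, hj⟩ := ih S.X₃ (fun a => (φ a).τ₃) hQ
      refine ⟨i₁.symm ≪≫ j ≪≫ i₂, fun a => ?_⟩
      have c1 : (T (n + 2)).map (φ a).τ₁ ≫ i₁.inv = i₁.inv ≫ (T (n + 1)).map (φ a).τ₃ := by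
        rw [Iso.comp_inv_eq, Category.assoc, h₁ a, ← Category.assoc, Iso.inv_hom_id,
          Category.id_comp]
      simp only [Iso.trans_hom, Iso.symm_hom, Category.assoc]
      rw [← Category.assoc, c1, Category.assoc, ← Category.assoc _ j.hom, hj a, Category.assoc,
        h₂ a]

end Groth.Agent.Helper1.DeltaEq
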