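import Mathlib
import Groth.Agent.Helper1.DerTrunc

set_option autoImplicit false

namespace Groth.Agent.Helper1.DerTrunc
open CategoryTheory Limits Pretriangulated DerivedCategory
universe w v u

section Seq
variable {D : Type*} [Category D]

/-- Composite of the first `k` maps of a sequence. -/
def compR : ∀ (k : ℕ) (X : ℕ → D) (_ : ∀ i, X i ⟶ X (i + 1)), (X 0 ⟶ X k)
  | 0, _, _ => 𝟙 _
  | k + 1, X, f => compR k X f ≫ f k

lemma compR_succ' (k : ℕ) (X : ℕ → D) (f : ∀ i, X i ⟶ X (i + 1)) :
    compR (k + 1) X f = f 0 ≫ compR k (fun i => X (i + 1)) (fun i => f (i + 1)) := by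
  induction k with
  | zero => simp [compR]
  | succ k ih =>
    show compR (k + 1) X f ≫ f (k + 1) = _
    rw [ih]
    simp [compR]

lemma compR_naturality (F : D ⥤ D) (α : F ⟶ 𝟭 D) (k : ℕ) (X : ℕ → D)
    (f : ∀ i, X i ⟶ X (i + 1)) :
    α.app (X 0) ≫ compR k X f =
      compR k (fun i => F.obj (X i)) (fun i => F.map (f i)) ≫ α.app (X k) := by
  induction k with
  | zero => simp [compR]
  | succ k ih =>
    have hn : F.map (f k) ≫ α.app (X (k + 1)) = α.app (X k) ≫ f k := α.naturality (f k)
    calc α.app (X 0) ≫ compR (k + 1) X f = (α.app (X 0) ≫ compR k X f) ≫ f k := by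
          simp [compR]
      _ = compR k (fun i => F.obj (X i)) (fun i => F.map (f i)) ≫ α.app (X k) ≫ f k := by
          rw [ih, Category.assoc]
      _ = compR k (fun i => F.obj (X i)) (fun i => F.map (f i)) ≫ F.map (f k) ≫
            α.app (X (k + 1)) := by rw [hn]
      _ = _ := by simp [compR]

lemma functor_map_eq_compR (K : ℕ ⥤ D) (k : ℕ) :
    K.map (homOfLE (Nat.zero_le k)) =
      compR k K.obj (fun i => K.map (homOfLE (Nat.le_succ i))) := by
  induction k with
  | zero =>
    show _ = 𝟙 _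
    rw [← K.map_id]
    congr 1
  | succ k ih =>
    show _ = compR k _ _ ≫ K.map (homOfLE (Nat.le_succ k))
    rw [← ih, ← K.map_comp]
    congr 1

end Seq

variable {C : Type u} [Category.{v} C] [Abelian C] [HasDerivedCategory.{w} C]

lemma homologyMap_truncLT_map_eq_zero {X Y : DerivedCategory C} (f : X ⟶ Y) (m q : ℤ)
    (hf : (homologyFunctor C q).map f = 0) :
    (homologyFunctor C q).map (((tD C).truncLT m).map f) = 0 := by
  by_cases hq : q ≤ m
  · have := mono_homologyMap_truncLTι Y m q hq
    rw [← cancel_mono ((homologyFunctor C q).map (((tD C).truncLTι m).app Y)), zero_comp,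
      ← Functor.map_comp]
    have hn := ((tD C).truncLTι m).naturality f
    dsimp at hn
    rw [hn, Functor.map_comp, hf, comp_zero]
  · apply IsZero.eq_of_src
    have : (((tD C).truncLT m).obj X).IsLE (m - 1) := inferInstance
    exact isZero_of_isLE _ (m - 1) q (by omega)

theorem compR_eq_zero (n : ℕ) : ∀ (a : ℤ) (X : ℕ → DerivedCategory C)
    (f : ∀ i, X i ⟶ X (i + 1)),
    (∀ i, i ≤ n + 1 → (X i).IsGE a) → (∀ i, i ≤ n + 1 → (X i).IsLE (a + n)) →
    (∀ i, i ≤ n → ∀ q : ℤ, (homologyFunctor C q).map (f i) = 0) → compR (n + 1) X f = 0 := by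
  induction n with
  | zero =>
    intro a X f hGE hLE hz
    have h0 : (X 0).IsGE a := hGE 0 (by omega)
    have h1 : (X 1).IsGE a := hGE 1 (by omega)
    have h0' : (X 0).IsLE a := by simpa using hLE 0 (by omega)
    have h1' : (X 1).IsLE a := by simpa using hLE 1 (by omega)
    show 𝟙 _ ≫ f 0 = 0
    rw [Category.id_comp]
    exact eq_zero_of_homologyMap_eq_zero_of_single a (f 0) (hz 0 le_rfl a)
  | succ n ih =>
    intro a X f hGE hLE hz
    rw [compR_succ']
    set m : ℤ := a + (n + 1 : ℕ) with hm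
    have hX0 : (X 0).IsLE m := hLE 0 (by omega)
    have hX1 : (X 1).IsLE m := hLE 1 (by omega)
    have hu : f 0 ≫ ((tD C).truncGEπ m).app (X 1) = 0 := by
      apply eq_zero_of_isLE_of_single m
      rw [Functor.map_comp, hz 0 (by omega) m, zero_comp]
    obtain ⟨g, hg⟩ : ∃ g : X 0 ⟶ ((tD C).truncLT m).obj (X 1),
        f 0 = g ≫ ((tD C).truncLTι m).app (X 1) :=
      Triangle.coyoneda_exact₂ _ ((tD C).triangleLTGE_distinguished m (X 1)) (f 0) hu
    rw [hg, Category.assoc]
    have hnat := compR_naturality ((tD C).truncLT m) ((tD C).truncLTι m) (n + 1)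
      (fun i => X (i + 1)) (fun i => f (i + 1))
    rw [hnat]
    have hIH := ih a (fun i => ((tD C).truncLT m).obj (X (i + 1)))
      (fun i => ((tD C).truncLT m).map (f (i + 1)))
      (fun i hi => by
        have : (X (i + 1)).IsGE a := hGE (i + 1) (by omega)
        infer_instance)
      (fun i hi => (tD C).isLE_truncLT_obj (X (i + 1)) m (a + n) (by rw [hm]; push_cast; omega))
      (fun i hi q => homologyMap_truncLT_map_eq_zero _ m q (hz (i + 1) (by omega) q))
    rw [hIH, zero_comp, comp_zero]

end Groth.Agent.Helper1.DerTrunc
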