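import Mathlib
import Groth.Agent.Helper1.DerTrunc2

set_option autoImplicit false

namespace Groth.Agent.Helper1.DerTrunc
open CategoryTheory Limits Pretriangulated DerivedCategory
universe w v u
variable {C : Type u} [Category.{v} C] [Abelian C] [HasDerivedCategory.{w} C]

/-- A morphism `X ⟶ Y` with `X ≤ n`, `Y ≥ n`, zero on `H^n`, is zero. -/
lemma eq_zero_of_isLE_of_isGE {X Y : DerivedCategory C} (n : ℤ)
    [X.IsLE n] [Y.IsGE n] (w : X ⟶ Y)
    (hw : (homologyFunctor C n).map w = 0) : w = 0 := by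
  have hT := (tD C).triangleLTGE_distinguished n X
  have h0 : ((tD C).truncLTι n).app X ≫ w = 0 :=
    (tD C).zero _ (n - 1) n (by omega)
  obtain ⟨w', hw'⟩ : ∃ w' : ((tD C).truncGE n).obj X ⟶ Y, w = ((tD C).truncGEπ n).app X ≫ w' :=
    Triangle.yoneda_exact₂ _ hT w h0
  have : Epi ((homologyFunctor C n).map (((tD C).truncGEπ n).app X)) :=
    epi_homologyMap_truncGEπ X n n le_rfl
  have h1 : (homologyFunctor C n).map w' = 0 := by
    rw [← cancel_epi ((homologyFunctor C n).map (((tD C).truncGEπ n).app X)), ← Functor.map_comp,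
      ← hw', hw, comp_zero]
  rw [hw', eq_zero_of_single_of_isGE n w' h1, comp_zero]

set_option backward.defeqAttrib.useBackward true in
set_option backward.isDefEq.respectTransparency false in
/-- The canonical truncations of a cochain complex fit into a distinguished triangle. -/
lemma exists_truncTriangle_distinguished (K : CochainComplex C ℤ) (n₀ n₁ : ℤ) (h : n₀ + 1 = n₁) :
    ∃ δ : Q.obj (K.truncGE n₁) ⟶ (Q.obj (K.truncLE n₀))⟦(1 : ℤ)⟧,
      Triangle.mk (Q.map (K.ιTruncLE n₀)) (Q.map (K.πTruncGE n₁)) δ ∈ distTriang _ := by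
  have hS := K.shortComplexTruncLE_shortExact n₀
  refine ⟨inv (Q.map (K.shortComplexTruncLEX₃ToTruncGE n₀ n₁ h)) ≫ (triangleOfSES hS).mor₃,
    isomorphic_distinguished _ (triangleOfSES_distinguished hS) _ (Iso.symm ?_)⟩
  refine Triangle.isoMk _ _ (Iso.refl _) (Iso.refl _)
    (asIso (Q.map (K.shortComplexTruncLEX₃ToTruncGE n₀ n₁ h))) ?_ ?_ (by simp)
  · dsimp
    rw [Category.id_comp, Category.comp_id]
    rfl
  · dsimp
    rw [Category.id_comp, ← Q.map_comp, CochainComplex.g_shortComplexTruncLEX₃ToTruncGE ..]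

end Groth.Agent.Helper1.DerTrunc
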