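import Mathlib
import Groth.Agent.Helper1.DerTrunc3

set_option autoImplicit false

namespace Groth.Agent.Helper1.DerTrunc
open CategoryTheory Limits Pretriangulated DerivedCategory
universe w v u
variable {C : Type u} [Category.{v} C] [Abelian C] [HasDerivedCategory.{w} C]

/-- `Q.map f` between `K ≤ n` and `L ≥ n` is zero as soon as `H^n(f) = 0`. -/
lemma Q_map_eq_zero_of_homologyMap_eq_zero {K L : CochainComplex C ℤ} (n : ℤ)
    [K.IsLE n] [L.IsGE n] (f : K ⟶ L)
    (hf : HomologicalComplex.homologyMap f n = 0) : (Q.map f : Q.obj K ⟶ Q.obj L) = 0 := by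
  apply eq_zero_of_isLE_of_isGE n
  have := (homologyFunctorFactors C n).hom.naturality f
  have h2 : (HomologicalComplex.homologyFunctor C (ComplexShape.up ℤ) n).map f = 0 := hf
  rw [h2, comp_zero] at this
  rw [← cancel_mono ((homologyFunctorFactors C n).hom.app L), zero_comp]
  exact this

lemma factors_truncLE_step (K : ℕ ⥤ CochainComplex C ℤ) (n : ℕ)
    (h0 : ∀ i : ℤ, 0 < i → IsZero ((K.obj 0).homology i))
    (hz : ∀ j : ℕ, j < n → HomologicalComplex.homologyMap (K.map (homOfLE (Nat.le_succ j))) (-(j : ℤ)) = 0) :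
    ∀ j : ℕ, j ≤ n → ∀ m : ℤ, m = -(j : ℤ) + 1 → Q.map (K.map (homOfLE (Nat.zero_le j))) ≫
      Q.map ((K.obj j).πTruncGE m) = 0 := by
  intro j
  induction j with
  | zero =>
    intro _ m hm
    have : (K.obj 0).IsLE 0 := by
      rw [CochainComplex.isLE_iff]
      intro i hi
      rw [HomologicalComplex.exactAt_iff_isZero_homology]
      exact h0 i hi
    obtain rfl : m = 1 := by simpa using hm
    exact (tD C).zero _ 0 1 (by omega)
  | succ j ih =>
    intro hj m hm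
    have hj' : j < n := hj
    obtain rfl : m = -(j : ℤ) := by rw [hm]; push_cast; ring
    obtain ⟨δ, hT⟩ := exists_truncTriangle_distinguished (K.obj j) (-(j : ℤ)) (-(j : ℤ) + 1) rfl
    obtain ⟨a, ha⟩ : ∃ a : Q.obj (K.obj 0) ⟶ Q.obj ((K.obj j).truncLE (-(j : ℤ))),
        Q.map (K.map (homOfLE (Nat.zero_le j))) = a ≫ Q.map ((K.obj j).ιTruncLE (-(j : ℤ))) :=
      Triangle.coyoneda_exact₂ _ hT _ (ih hj'.le _ rfl)
    have hcomp : K.map (homOfLE (Nat.zero_le (j + 1))) =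
        K.map (homOfLE (Nat.zero_le j)) ≫ K.map (homOfLE (Nat.le_succ j)) := by
      rw [← K.map_comp]; rfl
    rw [hcomp, Q.map_comp, ha]
    rw [Category.assoc, Category.assoc, ← Q.map_comp,
      ← Q.map_comp, Q_map_eq_zero_of_homologyMap_eq_zero (-(j : ℤ)), comp_zero]
    rw [HomologicalComplex.homologyMap_comp, HomologicalComplex.homologyMap_comp, hz j hj', zero_comp,
      comp_zero]

lemma factors_truncLE (K : ℕ ⥤ CochainComplex C ℤ) (n : ℕ)
    (h0 : ∀ i : ℤ, 0 < i → IsZero ((K.obj 0).homology i))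
    (hz : ∀ j : ℕ, j < n → HomologicalComplex.homologyMap (K.map (homOfLE (Nat.le_succ j))) (-(j : ℤ)) = 0) :
    ∃ φ : Q.obj (K.obj 0) ⟶ Q.obj ((K.obj n).truncLE (-(n : ℤ))),
      φ ≫ Q.map ((K.obj n).ιTruncLE (-(n : ℤ))) = Q.map (K.map (homOfLE (Nat.zero_le n))) := by
  obtain ⟨δ, hT⟩ := exists_truncTriangle_distinguished (K.obj n) (-(n : ℤ)) (-(n : ℤ) + 1) rfl
  obtain ⟨a, ha⟩ : ∃ a : Q.obj (K.obj 0) ⟶ Q.obj ((K.obj n).truncLE (-(n : ℤ))),
      Q.map (K.map (homOfLE (Nat.zero_le n))) = a ≫ Q.map ((K.obj n).ιTruncLE (-(n : ℤ))) :=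
    Triangle.coyoneda_exact₂ _ hT _ (factors_truncLE_step K n h0 hz n le_rfl _ rfl)
  exact ⟨a, ha.symm⟩

lemma factors_truncGE_step (K : ℕᵒᵖ ⥤ CochainComplex C ℤ) (n : ℕ)
    (h0 : ∀ i : ℤ, i < 0 → IsZero ((K.obj (Opposite.op 0)).homology i))
    (hz : ∀ j : ℕ, j < n →
      HomologicalComplex.homologyMap (K.map (homOfLE (Nat.le_succ j)).op) (j : ℤ) = 0) :
    ∀ j : ℕ, j ≤ n → ∀ m : ℤ, m = (j : ℤ) - 1 →
      Q.map ((K.obj (Opposite.op j)).ιTruncLE m) ≫
        Q.map (K.map (homOfLE (Nat.zero_le j)).op) = 0 := by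
  intro j
  induction j with
  | zero =>
    intro _ m hm
    have : (K.obj (Opposite.op 0)).IsGE 0 := by
      rw [CochainComplex.isGE_iff]
      intro i hi
      rw [HomologicalComplex.exactAt_iff_isZero_homology]
      exact h0 i hi
    obtain rfl : m = -1 := by simpa using hm
    exact (tD C).zero _ (-1) 0 (by omega)
  | succ j ih =>
    intro hj m hm
    have hj' : j < n := hj
    obtain rfl : m = (j : ℤ) := by rw [hm]; push_cast; ring
    obtain ⟨δ, hT⟩ := exists_truncTriangle_distinguished (K.obj (Opposite.op j))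
      ((j : ℤ) - 1) (j : ℤ) (by ring)
    obtain ⟨b, hb⟩ : ∃ b : Q.obj ((K.obj (Opposite.op j)).truncGE (j : ℤ)) ⟶
        Q.obj (K.obj (Opposite.op 0)),
        Q.map (K.map (homOfLE (Nat.zero_le j)).op) =
          Q.map ((K.obj (Opposite.op j)).πTruncGE (j : ℤ)) ≫ b :=
      Triangle.yoneda_exact₂ _ hT _ (ih hj'.le _ rfl)
    have hcomp : K.map (homOfLE (Nat.zero_le (j + 1))).op =
        K.map (homOfLE (Nat.le_succ j)).op ≫ K.map (homOfLE (Nat.zero_le j)).op := by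
      rw [← K.map_comp]; rfl
    rw [hcomp, Q.map_comp, hb]
    rw [← Category.assoc, ← Category.assoc, ← Q.map_comp,
      ← Q.map_comp, Q_map_eq_zero_of_homologyMap_eq_zero (j : ℤ), zero_comp]
    rw [HomologicalComplex.homologyMap_comp, HomologicalComplex.homologyMap_comp, hz j hj', comp_zero,
      zero_comp]

lemma factors_truncGE (K : ℕᵒᵖ ⥤ CochainComplex C ℤ) (n : ℕ)
    (h0 : ∀ i : ℤ, i < 0 → IsZero ((K.obj (Opposite.op 0)).homology i))
    (hz : ∀ j : ℕ, j < n →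
      HomologicalComplex.homologyMap (K.map (homOfLE (Nat.le_succ j)).op) (j : ℤ) = 0) :
    ∃ φ : Q.obj ((K.obj (Opposite.op n)).truncGE (n : ℤ)) ⟶ Q.obj (K.obj (Opposite.op 0)),
      Q.map ((K.obj (Opposite.op n)).πTruncGE (n : ℤ)) ≫ φ =
        Q.map (K.map (homOfLE (Nat.zero_le n)).op) := by
  obtain ⟨δ, hT⟩ := exists_truncTriangle_distinguished (K.obj (Opposite.op n))
    ((n : ℤ) - 1) (n : ℤ) (by ring)
  obtain ⟨b, hb⟩ : ∃ b : Q.obj ((K.obj (Opposite.op n)).truncGE (n : ℤ)) ⟶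
      Q.obj (K.obj (Opposite.op 0)),
      Q.map (K.map (homOfLE (Nat.zero_le n)).op) =
        Q.map ((K.obj (Opposite.op n)).πTruncGE (n : ℤ)) ≫ b :=
    Triangle.yoneda_exact₂ _ hT _ (factors_truncGE_step K n h0 hz n le_rfl _ rfl)
  exact ⟨b, hb.symm⟩

end Groth.Agent.Helper1.DerTrunc
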