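import Mathlib
import Groth.Agent.Helper1.DerTrunc3

set_option autoImplicit false

namespace Groth.Agent.Helper1.DerTrunc
open CategoryTheory Limits Pretriangulated Triangulated

section General

variable {C : Type*} [Category C] [Preadditive C] [HasZeroObject C] [HasShift C ℤ]
  [∀ (n : ℤ), (shiftFunctor C n).Additive] [Pretriangulated C] [IsTriangulated C]

set_option backward.defeqAttrib.useBackward true in
set_option backward.isDefEq.respectTransparency false in
/-- The distinguished triangle `τ_[a,b) X ⟶ τ_[a,c) X ⟶ τ_[b,c) X ⟶` for a t-structure. -/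
lemma exists_triangleGELT (t : TStructure C) (a b c : ℤ) (hab : a ≤ b) (hbc : b ≤ c) (X : C) :
    ∃ δ : (t.truncGELT b c).obj X ⟶ ((t.truncGELT a b).obj X)⟦(1 : ℤ)⟧,
      Triangle.mk ((t.truncGE a).map ((t.natTransTruncLTOfLE b c hbc).app X))
        ((t.natTransTruncGEOfLE a b hab).app ((t.truncLT c).obj X)) δ ∈ distTriang C := by
  have hab' : (a : EInt) ≤ b := WithBotTop.coe_le_coe.2 hab
  have hbc' : (b : EInt) ≤ c := WithBotTop.coe_le_coe.2 hbc
  have h := t.triangleω₁δ_distinguished (a : EInt) b c hab' hbc' X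
  refine ⟨((t.triangleω₁δ (a : EInt) b c hab' hbc').obj X).mor₃, ?_⟩
  refine isomorphic_distinguished _ h _ ?_
  refine Triangle.isoMk _ _ (Iso.refl _) (Iso.refl _) (Iso.refl _) ?_ ?_ ?_
  · dsimp
    rw [Category.comp_id, Category.id_comp]
    simp
    rfl
  · dsimp
    rw [Category.comp_id, Category.id_comp]
    simp
    rfl
  · simp

end General

end Groth.Agent.Helper1.DerTrunc
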