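import Mathlib
import Groth.Agent.Helper1.DerTrunc5
import Groth.Agent.Helper1.DerTrunc2

set_option autoImplicit false

namespace Groth.Agent.Helper1.DerTrunc
open CategoryTheory Limits Pretriangulated Triangulated DerivedCategory
universe w v u
variable {C : Type u} [Category.{v} C] [Abelian C] [HasDerivedCategory.{w} C]

lemma homologyMap_truncGE_map_eq_zero {X Y : DerivedCategory C} (f : X ⟶ Y) (m q : ℤ)
    (hf : (homologyFunctor C q).map f = 0) :
    (homologyFunctor C q).map (((tD C).truncGE m).map f) = 0 := by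
  by_cases hq : m ≤ q
  · have := epi_homologyMap_truncGEπ X m q hq
    rw [← cancel_epi ((homologyFunctor C q).map (((tD C).truncGEπ m).app X)), comp_zero,
      ← Functor.map_comp]
    have hn := ((tD C).truncGEπ m).naturality f
    dsimp at hn
    rw [← hn, Functor.map_comp, hf, zero_comp]
  · apply IsZero.eq_of_src
    have : (((tD C).truncGE m).obj X).IsGE m := inferInstance
    exact isZero_of_isGE _ m q (by omega)

theorem existsUnique_truncGELT_factor {K K' : DerivedCategory C} (f : K ⟶ K') (q : ℤ)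
    (h₁ : (homologyFunctor C (q - 1)).map f = 0)
    (h₂ : (homologyFunctor C q).map f = 0) :
    ∃! L : ((tD C).truncGELT q (q + 1)).obj K ⟶ ((tD C).truncGELT (q - 1) q).obj K',
      ((tD C).truncGELT (q - 1) (q + 1)).map f =
        ((tD C).natTransTruncGEOfLE (q - 1) q (sub_one_lt q).le).app
            (((tD C).truncLT (q + 1)).obj K) ≫ L ≫
          ((tD C).truncGE (q - 1)).map
            (((tD C).natTransTruncLTOfLE q (q + 1) (lt_add_one q).le).app K') := by
  obtain ⟨δ, hT⟩ := exists_triangleGELT (tD C) (q - 1) q (q + 1) (sub_one_lt q).le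
    (lt_add_one q).le K
  obtain ⟨δ', hT'⟩ := exists_triangleGELT (tD C) (q - 1) q (q + 1) (sub_one_lt q).le
    (lt_add_one q).le K'
  -- abbreviations
  obtain ⟨g, hg⟩ : ∃ g, g = ((tD C).truncGELT (q - 1) (q + 1)).map f := ⟨_, rfl⟩
  obtain ⟨π, hπ⟩ : ∃ π, π = ((tD C).natTransTruncGEOfLE (q - 1) q (sub_one_lt q).le).app
            (((tD C).truncLT (q + 1)).obj K) := ⟨_, rfl⟩
  obtain ⟨π', hπ'⟩ : ∃ π', π' = ((tD C).natTransTruncGEOfLE (q - 1) q (sub_one_lt q).le).app
            (((tD C).truncLT (q + 1)).obj K') := ⟨_, rfl⟩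
  obtain ⟨ι, hι⟩ : ∃ ι, ι = ((tD C).truncGE (q - 1)).map
            (((tD C).natTransTruncLTOfLE q (q + 1) (lt_add_one q).le).app K) := ⟨_, rfl⟩
  obtain ⟨ι', hι'⟩ : ∃ ι', ι' = ((tD C).truncGE (q - 1)).map
            (((tD C).natTransTruncLTOfLE q (q + 1) (lt_add_one q).le).app K') := ⟨_, rfl⟩
  rw [← hπ, ← hι] at hT
  rw [← hπ', ← hι'] at hT'
  rw [← hg, ← hπ, ← hι']
  -- homology of g vanishes in degrees q-1 and q
  have hg₁ : (homologyFunctor C (q - 1)).map g = 0 := by
    rw [hg]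
    exact homologyMap_truncGE_map_eq_zero _ _ _ (homologyMap_truncLT_map_eq_zero f _ _ h₁)
  have hg₂ : (homologyFunctor C q).map g = 0 := by
    rw [hg]
    exact homologyMap_truncGE_map_eq_zero _ _ _ (homologyMap_truncLT_map_eq_zero f _ _ h₂)
  -- t-structure bounds
  have X_le : (((tD C).truncGELT (q - 1) (q + 1)).obj K).IsLE q :=
    (tD C).isLE_of_iso (Iso.refl _) (n := q + 1 - 1) |> fun h => by simpa using h
  have h1 : g ≫ π' = 0 :=
    eq_zero_of_isLE_of_isGE q _ (by rw [Functor.map_comp, hg₂, zero_comp])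
  obtain ⟨g', hg'⟩ : ∃ g' : ((tD C).truncGELT (q - 1) (q + 1)).obj K ⟶
      ((tD C).truncGELT (q - 1) q).obj K', g = g' ≫ ι' := Triangle.coyoneda_exact₂ _ hT' g h1
  have hmono : Mono ((homologyFunctor C (q - 1)).map ι') :=
    (HomologySequence.mono_homologyMap_mor₁_iff _ hT' (q - 2) (q - 1) (by omega)).2
      (IsZero.eq_of_src (by
        have : (((tD C).truncGELT q (q + 1)).obj K').IsGE q := inferInstance
        exact isZero_of_isGE (((tD C).truncGELT q (q + 1)).obj K') q (q - 2) (by omega)) _ _)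
  have V_le : (((tD C).truncGELT (q - 1) q).obj K).IsLE (q - 1) := inferInstance
  have h2 : ι ≫ g' = 0 :=
    eq_zero_of_isLE_of_isGE (q - 1) _ (by
      rw [← cancel_mono ((homologyFunctor C (q - 1)).map ι'), zero_comp, ← Functor.map_comp,
        Category.assoc, ← hg', Functor.map_comp, hg₁, comp_zero])
  obtain ⟨L, hL⟩ : ∃ L : ((tD C).truncGELT q (q + 1)).obj K ⟶
      ((tD C).truncGELT (q - 1) q).obj K', g' = π ≫ L := Triangle.yoneda_exact₂ _ hT g' h2
  refine ⟨L, by rw [hg', hL, Category.assoc], ?_⟩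
  intro L' hL'
  have hM : π ≫ (L' - L) ≫ ι' = 0 := by
    rw [Preadditive.sub_comp, Preadditive.comp_sub, ← hL', hg', hL, Category.assoc, sub_self]
  have hM1 : (L' - L) ≫ ι' = 0 := by
    obtain ⟨c, hc⟩ : ∃ c : (((tD C).truncGELT (q - 1) q).obj K)⟦(1 : ℤ)⟧ ⟶
        ((tD C).truncGELT (q - 1) (q + 1)).obj K', (L' - L) ≫ ι' = δ ≫ c :=
      Triangle.yoneda_exact₃ _ hT _ hM
    have : (tD C).IsLE ((((tD C).truncGELT (q - 1) q).obj K)⟦(1 : ℤ)⟧) (q - 2) :=
      (tD C).isLE_shift _ (q - 1) 1 (q - 2)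
    have hc0 : c = 0 := (tD C).zero c (q - 2) (q - 1) (by omega)
    rw [hc, hc0, comp_zero]
  have hM2 : L' - L = 0 := by
    obtain ⟨d, hd⟩ : ∃ d : ((tD C).truncGELT q (q + 1)).obj K ⟶
        (((tD C).truncGELT q (q + 1)).obj K')⟦(-1 : ℤ)⟧,
        L' - L = d ≫ (Triangle.mk ι' π' δ').invRotate.mor₁ :=
      Triangle.coyoneda_exact₂ _ (inv_rot_of_distTriang _ hT') (L' - L) hM1
    have Y_le : (tD C).IsLE (((tD C).truncGELT q (q + 1)).obj K) q := by
      have : (tD C).IsLE (((tD C).truncGELT q (q + 1)).obj K) (q + 1 - 1) := inferInstance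
      simpa using this
    have : (tD C).IsGE ((((tD C).truncGELT q (q + 1)).obj K')⟦(-1 : ℤ)⟧) (q + 1) :=
      (tD C).isGE_shift _ q (-1) (q + 1)
    have hd0 : d = 0 := (tD C).zero d q (q + 1) (by omega)
    rw [hd, hd0]
    exact zero_comp
  exact sub_eq_zero.1 hM2

end Groth.Agent.Helper1.DerTrunc
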