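import Mathlib

/-!
# Linear dependence descends to the intersection of a directed family of subfields
-/

set_option autoImplicit false

namespace Groth.Agent.Helper1.DescentDep

variable {K : Type*} [Field K] {U : Type*} [AddCommGroup U] [Module K U]
  {J : Type*} [Fintype J] (c : J → U)

/-- a nontrivial linear relation among the `c j`, `j ∈ S`, with coefficients in `E` -/
def Dep (E : Subfield K) (S : Finset J) : Prop :=
  ∃ a : J → K, (∀ j, a j ∈ E) ∧ (∀ j, j ∉ S → a j = 0) ∧ a ≠ 0 ∧ ∑ j, a j • c j = 0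

lemma Dep.mono_field {E E' : Subfield K} (h : E ≤ E') {S : Finset J} (hd : Dep c E S) :
    Dep c E' S := by
  obtain ⟨a, h1, h2, h3, h4⟩ := hd
  exact ⟨a, fun j => h (h1 j), h2, h3, h4⟩

lemma Dep.mono_set {E : Subfield K} {S S' : Finset J} (h : S ⊆ S') (hd : Dep c E S) :
    Dep c E S' := by
  obtain ⟨a, h1, h2, h3, h4⟩ := hd
  exact ⟨a, h1, fun j hj => h2 j (fun hj' => hj (h hj')), h3, h4⟩

lemma not_dep_empty (E : Subfield K) : ¬ Dep c E ∅ := by
  rintro ⟨a, -, h2, h3, -⟩
  exact h3 (funext fun j => h2 j (Finset.notMem_empty j))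

variable {ι : Type*} [Nonempty ι] (F : ι → Subfield K)

theorem dep_iInf (hdir : ∀ a b : ι, ∃ d, F d ≤ F a ⊓ F b) (S : Finset J)
    (h : ∀ α, Dep c (F α) S) : Dep c (⨅ α, F α) S := by
  classical
  induction S using Finset.strongInduction with
  | H S ih =>
    by_cases hcase : ∃ j₀ ∈ S, ∀ α, Dep c (F α) (S.erase j₀)
    · obtain ⟨j₀, hj₀, hall⟩ := hcase
      exact (ih (S.erase j₀) (Finset.erase_ssubset hj₀) hall).mono_set c (Finset.erase_subset _ _)
    · push Not at hcase
      have hne : S.Nonempty := by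
        rw [Finset.nonempty_iff_ne_empty]
        rintro rfl
        exact not_dep_empty c _ (h (Classical.arbitrary ι))
      obtain ⟨j₀, hj₀⟩ := hne
      obtain ⟨α₀, hα₀⟩ := hcase j₀ hj₀
      -- normalized relations
      have key : ∀ β, F β ≤ F α₀ → ∃ b : J → K, (∀ j, b j ∈ F β) ∧ (∀ j, j ∉ S → b j = 0) ∧
          b j₀ = 1 ∧ ∑ j, b j • c j = 0 := by
        intro β hβ
        obtain ⟨a, h1, h2, h3, h4⟩ := h β
        have ha0 : a j₀ ≠ 0 := by
          intro h0
          apply hα₀
          refine Dep.mono_field c hβ ⟨a, h1, fun j hj => ?_, h3, h4⟩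
          by_cases hjj : j = j₀
          · rw [hjj, h0]
          · exact h2 j (fun hjS => hj (Finset.mem_erase.mpr ⟨hjj, hjS⟩))
        refine ⟨fun j => (a j₀)⁻¹ * a j, fun j => mul_mem (inv_mem (h1 j₀)) (h1 j),
          fun j hj => by simp only [h2 j hj, mul_zero], inv_mul_cancel₀ ha0, ?_⟩
        simp_rw [mul_smul]
        rw [← Finset.smul_sum, h4, smul_zero]
      obtain ⟨b₀, hb1, hb2, hb3, hb4⟩ := key α₀ le_rfl
      have huniq : ∀ β, F β ≤ F α₀ → ∀ b : J → K, (∀ j, b j ∈ F β) → (∀ j, j ∉ S → b j = 0) →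
          b j₀ = 1 → ∑ j, b j • c j = 0 → b = b₀ := by
        intro β hβ b h1 h2 h3 h4
        by_contra hne
        apply hα₀
        refine ⟨b - b₀, fun j => sub_mem (hβ (h1 j)) (hb1 j), fun j hj => ?_, sub_ne_zero.mpr hne, ?_⟩
        · by_cases hjj : j = j₀
          · simp [hjj, h3, hb3]
          · have hjS : j ∉ S := fun hjS => hj (Finset.mem_erase.mpr ⟨hjj, hjS⟩)
            simp [h2 j hjS, hb2 j hjS]
        · simp_rw [Pi.sub_apply, sub_smul]
          rw [Finset.sum_sub_distrib, h4, hb4, sub_zero]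
      refine ⟨b₀, fun j => ?_, hb2, ?_, hb4⟩
      · rw [Subfield.mem_iInf]
        intro α
        obtain ⟨γ, hγ⟩ := hdir α α₀
        obtain ⟨b, h1, h2, h3, h4⟩ := key γ (hγ.trans inf_le_right)
        have := huniq γ (hγ.trans inf_le_right) b h1 h2 h3 h4
        rw [← this]
        exact (hγ.trans inf_le_left) (h1 j)
      · intro h0
        have := congrFun h0 j₀
        rw [hb3] at this
        exact one_ne_zero this

end Groth.Agent.Helper1.DescentDep
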