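import Mathlib
import Groth.Prelude.Def_DiffOp

set_option autoImplicit false
universe u v

namespace Groth.Agent.Helper1.DiffOp
open Diff16

section
variable {A B : Type u} [CommRing A] [CommRing B] [Algebra A B]
variable {M N P : Type v} [AddCommGroup M] [Module A M] [Module B M] [IsScalarTower A B M]
  [AddCommGroup N] [Module A N] [Module B N] [IsScalarTower A B N]
  [AddCommGroup P] [Module A P] [Module B P] [IsScalarTower A B P]

lemma commutator_apply (D : M →ₗ[A] N) (b : B) (m : M) :
    Diff16.commutator A B M N D b m = D (b • m) - b • D m := by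
  simp [Diff16.commutator]

lemma commutator_zero (b : B) : Diff16.commutator A B M N 0 b = 0 := by
  ext m; simp [commutator_apply]

lemma commutator_add (D D' : M →ₗ[A] N) (b : B) :
    Diff16.commutator A B M N (D + D') b = Diff16.commutator A B M N D b + Diff16.commutator A B M N D' b := by
  ext m; simp only [commutator_apply, LinearMap.add_apply, smul_add]; abel

lemma commutator_neg (D : M →ₗ[A] N) (b : B) :
    Diff16.commutator A B M N (-D) b = - Diff16.commutator A B M N D b := by
  ext m; simp only [commutator_apply, LinearMap.neg_apply, smul_neg]; abel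

lemma commutator_comp (D : M →ₗ[A] N) (D' : N →ₗ[A] P) (b : B) :
    Diff16.commutator A B M P (D' ∘ₗ D) b =
      D' ∘ₗ Diff16.commutator A B M N D b + Diff16.commutator A B N P D' b ∘ₗ D := by
  ext m; simp only [commutator_apply, LinearMap.comp_apply, LinearMap.add_apply, map_sub]; abel

lemma isDiffOpLE_zero_iff (D : M →ₗ[A] N) :
    IsDiffOpLE A B M N 0 D ↔ ∀ (b : B) (m : M), D (b • m) = b • D m := Iff.rfl

lemma isDiffOpLE_succ_iff (n : ℕ) (D : M →ₗ[A] N) :
    IsDiffOpLE A B M N (n + 1) D ↔ ∀ b : B, IsDiffOpLE A B M N n (Diff16.commutator A B M N D b) :=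
  Iff.rfl

lemma isDiffOpLE_zero_map (n : ℕ) : IsDiffOpLE A B M N n (0 : M →ₗ[A] N) := by
  induction n with
  | zero => intro b m; simp
  | succ n ih => intro b; rw [commutator_zero]; exact ih

lemma commutator_eq_zero {D : M →ₗ[A] N} (hD : IsDiffOpLE A B M N 0 D) (b : B) :
    Diff16.commutator A B M N D b = 0 := by
  ext m; rw [commutator_apply, hD b m, sub_self]; rfl

lemma isDiffOpLE_zero_of_commutator {D : M →ₗ[A] N} (h : ∀ b : B, Diff16.commutator A B M N D b = 0) :
    IsDiffOpLE A B M N 0 D := by
  intro b m
  have := congrArg (fun f => f m) (h b)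
  simp only [commutator_apply, LinearMap.zero_apply] at this
  exact sub_eq_zero.1 this

lemma add {n : ℕ} {D D' : M →ₗ[A] N} (hD : IsDiffOpLE A B M N n D)
    (hD' : IsDiffOpLE A B M N n D') : IsDiffOpLE A B M N n (D + D') := by
  induction n generalizing D D' with
  | zero => intro b m; simp only [LinearMap.add_apply, hD b m, hD' b m, smul_add]
  | succ n ih => intro b; rw [commutator_add]; exact ih (hD b) (hD' b)

lemma neg {n : ℕ} {D : M →ₗ[A] N} (hD : IsDiffOpLE A B M N n D) :
    IsDiffOpLE A B M N n (-D) := by
  induction n generalizing D with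
  | zero => intro b m; simp only [LinearMap.neg_apply, hD b m, smul_neg]
  | succ n ih => intro b; rw [commutator_neg]; exact ih (hD b)

lemma succ {n : ℕ} {D : M →ₗ[A] N} (hD : IsDiffOpLE A B M N n D) :
    IsDiffOpLE A B M N (n + 1) D := by
  induction n generalizing D with
  | zero => intro b; rw [commutator_eq_zero hD]; exact isDiffOpLE_zero_map 0
  | succ n ih => intro b; exact ih (hD b)

lemma mono {n n' : ℕ} (h : n ≤ n') {D : M →ₗ[A] N} (hD : IsDiffOpLE A B M N n D) :
    IsDiffOpLE A B M N n' D := by
  induction h with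
  | refl => exact hD
  | step _ ih => exact succ ih

/-- composition -/
theorem comp_aux (k : ℕ) : ∀ (n n' : ℕ), n + n' = k → ∀ (D : M →ₗ[A] N) (D' : N →ₗ[A] P),
    IsDiffOpLE A B M N n D → IsDiffOpLE A B N P n' D' → IsDiffOpLE A B M P k (D' ∘ₗ D) := by
  induction k with
  | zero =>
    intro n n' h D D' hD hD'
    obtain ⟨rfl, rfl⟩ : n = 0 ∧ n' = 0 := by omega
    intro b m
    simp only [LinearMap.comp_apply, hD b m, hD' b (D m)]
  | succ k ih =>
    intro n n' h D D' hD hD' b
    rw [commutator_comp]
    apply add
    · -- D' ∘ [D, b]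
      rcases n with _ | n
      · rw [commutator_eq_zero hD, LinearMap.comp_zero]; exact isDiffOpLE_zero_map k
      · exact ih n n' (by omega) _ _ (hD b) hD'
    · rcases n' with _ | n'
      · rw [commutator_eq_zero hD', LinearMap.zero_comp]; exact isDiffOpLE_zero_map k
      · exact ih n n' (by omega) _ _ hD (hD' b)

theorem comp {n n' : ℕ} {D : M →ₗ[A] N} {D' : N →ₗ[A] P}
    (hD : IsDiffOpLE A B M N n D) (hD' : IsDiffOpLE A B N P n' D') :
    IsDiffOpLE A B M P (n + n') (D' ∘ₗ D) :=
  comp_aux (n + n') n n' rfl D D' hD hD'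

/-- multiplication by `b` is of order `0`. -/
lemma isDiffOpLE_lsmul (b : B) :
    IsDiffOpLE A B M M 0 ((LinearMap.lsmul B M b).restrictScalars A) := by
  intro b' m
  simp only [LinearMap.coe_restrictScalars, LinearMap.lsmul_apply]
  exact smul_comm b b' m

lemma commutator_add_right (D : M →ₗ[A] N) (b b' : B) :
    Diff16.commutator A B M N D (b + b') =
      Diff16.commutator A B M N D b + Diff16.commutator A B M N D b' := by
  ext m; simp only [commutator_apply, LinearMap.add_apply, add_smul, map_add]; abel

lemma commutator_mul (D : M →ₗ[A] N) (b b' : B) :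
    Diff16.commutator A B M N D (b * b') =
      Diff16.commutator A B M N D b ∘ₗ ((LinearMap.lsmul B M b').restrictScalars A) +
        ((LinearMap.lsmul B N b).restrictScalars A) ∘ₗ Diff16.commutator A B M N D b' := by
  ext m
  simp only [commutator_apply, LinearMap.add_apply, LinearMap.comp_apply,
    LinearMap.coe_restrictScalars, LinearMap.lsmul_apply, smul_sub, mul_smul]
  abel

lemma commutator_algebraMap (D : M →ₗ[A] N) (a : A) :
    Diff16.commutator A B M N D (algebraMap A B a) = 0 := by
  ext m
  simp only [commutator_apply, algebraMap_smul, map_smul, sub_self, LinearMap.zero_apply]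

theorem of_generators (s : Set B) (hs : Algebra.adjoin A s = ⊤) (n : ℕ) (D : M →ₗ[A] N)
    (hD : ∀ g ∈ s, IsDiffOpLE A B M N n (Diff16.commutator A B M N D g)) :
    IsDiffOpLE A B M N (n + 1) D := by
  intro b
  have hb : b ∈ Algebra.adjoin A s := by rw [hs]; trivial
  induction hb using Algebra.adjoin_induction with
  | mem x hx => exact hD x hx
  | algebraMap r => rw [commutator_algebraMap]; exact isDiffOpLE_zero_map n
  | add x y _ _ hx hy => rw [commutator_add_right]; exact add hx hy
  | mul x y _ _ hx hy =>
    rw [commutator_mul]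
    refine add ?_ ?_
    · exact mono (by omega) (comp (isDiffOpLE_lsmul (M := M) y) hx)
    · exact comp hy (isDiffOpLE_lsmul (M := N) x)

end

section AltSum
open Finset

variable {A B : Type u} [CommRing A] [CommRing B] [Algebra A B]
variable {M N : Type v} [AddCommGroup M] [Module A M] [Module B M] [IsScalarTower A B M]
  [AddCommGroup N] [Module A N] [Module B N] [IsScalarTower A B N]

/-- the alternating sum attached to a finite index set -/
noncomputable def altSum {ι : Type*} [DecidableEq ι] (S : Finset ι) (b : ι → B)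
    (D : M →ₗ[A] N) (t : M) : N :=
  ∑ H ∈ S.powerset, ((-1 : ℤ) ^ H.card) • ((∏ i ∈ H, b i) • D ((∏ i ∈ S \ H, b i) • t))

lemma altSum_empty {ι : Type*} [DecidableEq ι] (b : ι → B) (D : M →ₗ[A] N) (t : M) :
    altSum (∅ : Finset ι) b D t = D t := by
  simp [altSum]

lemma altSum_insert {ι : Type*} [DecidableEq ι] {S : Finset ι} {a : ι} (ha : a ∉ S) (b : ι → B)
    (D : M →ₗ[A] N) (t : M) :
    altSum (insert a S) b D t = altSum S b (Diff16.commutator A B M N D (b a)) t := by
  unfold altSum
  rw [Finset.sum_powerset_insert ha, ← Finset.sum_add_distrib]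
  apply Finset.sum_congr rfl
  intro H hH
  have hHS : H ⊆ S := Finset.mem_powerset.1 hH
  have haH : a ∉ H := fun h => ha (hHS h)
  have e1 : insert a S \ H = insert a (S \ H) := Finset.insert_sdiff_of_notMem _ haH
  have e2 : insert a S \ insert a H = S \ H := by
    ext x
    simp only [Finset.mem_sdiff, Finset.mem_insert, not_or]
    constructor
    · rintro ⟨h1 | h1, h2, h3⟩
      · exact absurd h1 h2
      · exact ⟨h1, h3⟩
    · rintro ⟨h1, h2⟩
      exact ⟨Or.inr h1, fun h => ha (h ▸ h1), h2⟩
  have haSH : a ∉ S \ H := fun h => ha (Finset.mem_sdiff.1 h).1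
  rw [e1, e2, Finset.prod_insert haSH, Finset.prod_insert haH, Finset.card_insert_of_notMem haH,
    commutator_apply, mul_smul (b a) _ t]
  generalize D (b a • (∏ i ∈ S \ H, b i) • t) = X
  generalize D ((∏ i ∈ S \ H, b i) • t) = Y
  generalize (∏ i ∈ H, b i) = p
  generalize H.card = k
  rw [pow_succ, mul_neg, mul_one, neg_smul, smul_sub, smul_sub, mul_comm (b a) p, mul_smul p (b a) Y]
  abel

lemma altSum_congr {ι : Type*} [DecidableEq ι] {S : Finset ι} {b b' : ι → B}
    (h : ∀ i ∈ S, b i = b' i) (D : M →ₗ[A] N) (t : M) : altSum S b D t = altSum S b' D t := by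
  unfold altSum
  apply Finset.sum_congr rfl
  intro H hH
  have hHS : H ⊆ S := Finset.mem_powerset.1 hH
  rw [Finset.prod_congr rfl (fun i hi => h i (hHS hi)),
    Finset.prod_congr rfl (fun i hi => h i (Finset.mem_sdiff.1 hi).1)]

lemma altSum_map {ι ι' : Type*} [DecidableEq ι] [DecidableEq ι'] (e : ι ↪ ι') (S : Finset ι)
    (b : ι' → B) (D : M →ₗ[A] N) (t : M) :
    altSum (S.map e) b D t = altSum S (b ∘ e) D t := by
  induction S using Finset.induction_on generalizing D with
  | empty => rw [Finset.map_empty, altSum_empty, altSum_empty]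
  | insert a S ha ih =>
    rw [Finset.map_insert, altSum_insert (by simpa using ha), altSum_insert ha, ih]
    rfl

/-- characterisation of order `≤ n` by alternating sums -/
theorem isDiffOpLE_iff_altSum (n : ℕ) (D : M →ₗ[A] N) :
    IsDiffOpLE A B M N n D ↔
      ∀ (b : Fin (n + 1) → B) (t : M), altSum (univ : Finset (Fin (n + 1))) b D t = 0 := by
  induction n generalizing D with
  | zero =>
    have hu : (univ : Finset (Fin 1)) = insert 0 ∅ := by decide
    constructor
    · intro hD b t
      rw [hu, altSum_insert (by simp), altSum_empty, commutator_apply, hD, sub_self]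
    · intro h b m
      have := h (fun _ => b) m
      rw [hu, altSum_insert (by simp), altSum_empty, commutator_apply] at this
      exact sub_eq_zero.1 this
  | succ n ih =>
    have hu : (univ : Finset (Fin (n + 2))) = insert 0 (univ.map (Fin.succEmb (n + 1))) := by
      ext i
      simp only [Finset.mem_univ, Finset.mem_insert, Finset.mem_map, true_and, Fin.coe_succEmb,
        true_iff]
      rcases Fin.eq_zero_or_eq_succ i with h | ⟨j, h⟩
      · exact Or.inl h
      · exact Or.inr ⟨j, h.symm⟩
    have h0 : (0 : Fin (n + 2)) ∉ (univ : Finset (Fin (n + 1))).map (Fin.succEmb (n + 1)) := by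
      simp [Fin.succ_ne_zero]
    constructor
    · intro hD b t
      rw [hu, altSum_insert h0, altSum_map]
      exact (ih _).1 (hD (b 0)) _ t
    · intro h b₀
      rw [ih]
      intro b' t
      have := h (Fin.cons b₀ b') t
      rw [hu, altSum_insert h0, altSum_map] at this
      simpa using this

end AltSum

section Linearize
open scoped TensorProduct

variable {A B : Type u} [CommRing A] [CommRing B] [Algebra A B]
variable {N : Type u} [AddCommGroup N] [Module A N] [Module B N] [IsScalarTower A B N]

lemma linearize_tmul (D : B →ₗ[A] N) (c c' : B) :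
    Diff16.linearize A B B N D (c ⊗ₜ[A] c') = c • D c' := by
  simp [Diff16.linearize]

/-- the key identity relating the linearisation of `D` and of its commutators -/
lemma linearize_mul_gen (D : B →ₗ[A] N) (b : B) (y : B ⊗[A] B) :
    Diff16.linearize A B B N D (y * ((1 : B) ⊗ₜ[A] b - b ⊗ₜ[A] (1 : B))) =
      Diff16.linearize A B B N (Diff16.commutator A B B N D b) y := by
  induction y using TensorProduct.induction_on with
  | zero => simp
  | tmul c c' =>
    rw [mul_sub, Algebra.TensorProduct.tmul_mul_tmul, Algebra.TensorProduct.tmul_mul_tmul,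
      map_sub, linearize_tmul, linearize_tmul, linearize_tmul, commutator_apply, mul_one, mul_one,
      smul_sub, smul_eq_mul, mul_comm c' b, mul_smul c b]
  | add x y hx hy => rw [add_mul, map_add, map_add, hx, hy]

lemma linearize_zero_map (y : B ⊗[A] B) :
    Diff16.linearize A B B N (0 : B →ₗ[A] N) y = 0 := by
  induction y using TensorProduct.induction_on with
  | zero => simp
  | tmul c c' => rw [linearize_tmul]; simp
  | add x y hx hy => rw [map_add, hx, hy, add_zero]

lemma gen_mem_ideal (b : B) :
    ((1 : B) ⊗ₜ[A] b - b ⊗ₜ[A] (1 : B)) ∈ KaehlerDifferential.ideal A B := by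
  rw [← KaehlerDifferential.span_range_eq_ideal]
  exact Ideal.subset_span ⟨b, rfl⟩

theorem linearize_vanish (n : ℕ) : ∀ (D : B →ₗ[A] N), IsDiffOpLE A B B N n D →
    ∀ y ∈ (KaehlerDifferential.ideal A B) ^ n, ∀ g ∈ KaehlerDifferential.ideal A B,
      Diff16.linearize A B B N D (y * g) = 0 := by
  induction n with
  | zero =>
    intro D hD y hy g hg
    rw [← KaehlerDifferential.span_range_eq_ideal] at hg
    induction hg using Submodule.span_induction generalizing y with
    | mem g hg =>
      obtain ⟨b, rfl⟩ := hg
      rw [linearize_mul_gen, commutator_eq_zero hD, linearize_zero_map]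
    | zero => simp
    | add g g' _ _ h1 h2 => rw [mul_add, map_add, h1 y hy, h2 y hy, add_zero]
    | smul z g _ h =>
      rw [smul_eq_mul, ← mul_assoc]
      exact h (y * z) (Ideal.mul_mem_right _ _ hy)
  | succ n ih =>
    intro D hD y hy g hg
    rw [← KaehlerDifferential.span_range_eq_ideal] at hg
    induction hg using Submodule.span_induction generalizing y with
    | mem g hg =>
      obtain ⟨b, rfl⟩ := hg
      rw [linearize_mul_gen]
      rw [pow_succ] at hy
      refine Submodule.mul_induction_on hy ?_ ?_
      · intro y' hy' g' hg'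
        exact ih _ (hD b) y' hy' g' hg'
      · intro x x' hx hx'
        rw [map_add, hx, hx', add_zero]
    | zero => simp
    | add g g' _ _ h1 h2 => rw [mul_add, map_add, h1 y hy, h2 y hy, add_zero]
    | smul z g _ h =>
      rw [smul_eq_mul, ← mul_assoc]
      exact h (y * z) (Ideal.mul_mem_right _ _ hy)

theorem linearize_vanish' (n : ℕ) (D : B →ₗ[A] N) (hD : IsDiffOpLE A B B N n D) :
    ∀ x ∈ (KaehlerDifferential.ideal A B) ^ (n + 1), Diff16.linearize A B B N D x = 0 := by
  intro x hx
  rw [pow_succ] at hx
  refine Submodule.mul_induction_on hx ?_ ?_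
  · intro y hy g hg
    exact linearize_vanish n D hD y hy g hg
  · intro x x' hx hx'
    rw [map_add, hx, hx', add_zero]

theorem isDiffOpLE_of_linearize_vanish (n : ℕ) : ∀ (D : B →ₗ[A] N),
    (∀ x ∈ (KaehlerDifferential.ideal A B) ^ (n + 1), Diff16.linearize A B B N D x = 0) →
      IsDiffOpLE A B B N n D := by
  induction n with
  | zero =>
    intro D h b m
    have h1 := h (((1 : B) ⊗ₜ[A] m) * ((1 : B) ⊗ₜ[A] b - b ⊗ₜ[A] (1 : B)))
      (by rw [zero_add, pow_one]; exact Ideal.mul_mem_left _ _ (gen_mem_ideal b))
    rw [linearize_mul_gen, linearize_tmul, one_smul, commutator_apply] at h1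
    exact sub_eq_zero.1 h1
  | succ n ih =>
    intro D h b
    apply ih
    intro x hx
    rw [← linearize_mul_gen]
    apply h
    rw [pow_succ]
    exact Ideal.mul_mem_mul hx (gen_mem_ideal b)

end Linearize

end Groth.Agent.Helper1.DiffOp
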