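import Mathlib
import Groth.Prelude.Def_DiffOp
import Groth.Agent.Helper1.DiffOp
import Groth.Agent.Helper1.DiffOpVanish

set_option autoImplicit false
universe u

namespace Groth.Agent.Helper1.DiffOpBasis
open Diff16 Groth.Agent.Helper1.DiffOp Groth.Agent.Helper1.DiffOpVanish

variable {A B : Type u} [CommRing A] [CommRing B] [Algebra A B]
variable {N : Type u} [AddCommGroup N] [Module A N] [Module B N] [IsScalarTower A B N]
variable {ι : Type} [Fintype ι] [DecidableEq ι] (z : ι → B)

omit [Algebra A B] in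
lemma mul_mono (i : ι) (q : ι → ℕ) :
    z i * ∏ j, z j ^ q j = ∏ j, z j ^ ((q + Pi.single i 1 : ι → ℕ) j) := by
  simp only [Pi.add_apply, pow_add, Finset.prod_mul_distrib]
  rw [mul_comm]
  congr 1
  rw [Finset.prod_eq_single i]
  · simp
  · intro j _ hj
    simp [hj]
  · intro h; exact absurd (Finset.mem_univ i) h

lemma sum_add_single (i : ι) (q : ι → ℕ) :
    ∑ j, (q + Pi.single i 1 : ι → ℕ) j = ∑ j, q j + 1 := by
  simp only [Pi.add_apply, Finset.sum_add_distrib]
  congr 1
  rw [Finset.sum_eq_single i]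
  · simp
  · intro j _ hj
    simp [hj]
  · intro h; exact absurd (Finset.mem_univ i) h

/-- sharp vanishing: an operator of order `≤ m` killing the monomials of degree `≤ m` is zero -/
theorem eq_zero_of_monomials_le
    (hz : Submodule.span B (Set.range fun i => KaehlerDifferential.D A B (z i)) = ⊤) :
    ∀ (m : ℕ) (Δ : B →ₗ[A] N), IsDiffOpLE A B B N m Δ →
      (∀ q : ι → ℕ, ∑ i, q i ≤ m → Δ (∏ i, z i ^ q i) = 0) → Δ = 0 := by
  have hzero : ∀ (Δ : B →ₗ[A] N), IsDiffOpLE A B B N 0 Δ → Δ 1 = 0 → Δ = 0 := by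
    intro Δ hΔ h1
    ext b
    have : b = b • (1 : B) := by rw [smul_eq_mul, mul_one]
    rw [this, hΔ b 1, h1, smul_zero]
    rfl
  have hone : ∀ (m : ℕ) (Δ : B →ₗ[A] N),
      (∀ q : ι → ℕ, ∑ i, q i ≤ m → Δ (∏ i, z i ^ q i) = 0) → Δ 1 = 0 := by
    intro m Δ hr
    have := hr (fun _ => 0) (by simp)
    simpa using this
  intro m
  induction m with
  | zero =>
    intro Δ hΔ hr
    exact hzero Δ hΔ (hone 0 Δ hr)
  | succ m ih =>
    intro Δ hΔ hr
    have hz0 : ∀ i, Diff16.commutator A B B N Δ (z i) = 0 := by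
      intro i
      apply ih _ (hΔ (z i))
      intro q hq
      rw [commutator_apply, hr q (by omega), smul_zero, sub_zero, smul_eq_mul, mul_mono]
      apply hr
      rw [sum_add_single]
      omega
    have hcomm := commutator_eq_zero_of_generators z hz (m + 1) Δ hΔ hz0
    exact hzero Δ (isDiffOpLE_zero_of_commutator hcomm) (hone (m + 1) Δ hr)

/-- bounding the order by the orders of the commutators with the generators -/
theorem isDiffOpLE_commutator_of_generators
    (hz : Submodule.span B (Set.range fun i => KaehlerDifferential.D A B (z i)) = ⊤) :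
    ∀ (k K : ℕ) (Δ : B →ₗ[A] N), IsDiffOpLE A B B N K Δ →
      (∀ i, IsDiffOpLE A B B N k (Diff16.commutator A B B N Δ (z i))) →
      ∀ b, IsDiffOpLE A B B N k (Diff16.commutator A B B N Δ b) := by
  intro k
  induction k with
  | zero =>
    intro K Δ hΔ h b
    apply isDiffOpLE_zero_of_commutator
    intro c
    rw [commutator_commutator_comm]
    apply commutator_eq_zero_of_generators z hz K (Diff16.commutator A B B N Δ c) (succ hΔ c)
    intro i
    rw [commutator_commutator_comm]
    exact commutator_eq_zero (h i) c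
  | succ k ih =>
    intro K Δ hΔ h b c
    rw [commutator_commutator_comm]
    apply ih K (Diff16.commutator A B B N Δ c) (succ hΔ c)
    intro i
    rw [commutator_commutator_comm]
    exact h i c

section Family
variable (Dp : (ι → ℕ) → (B →ₗ[A] B))

omit [DecidableEq ι] [Algebra A B] in
lemma prod_split {α : Type*} [CommMonoid α] (f : ι → α) (i : ι) [DecidableEq ι] :
    ∏ j, f j = f i * ∏ j ∈ Finset.univ.erase i, f j :=
  (Finset.mul_prod_erase Finset.univ f (Finset.mem_univ i)).symm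

/-- the commutator of `D_p` with `z_i` on monomials -/
lemma commutator_monomial
    (hDz : ∀ p q : ι → ℕ, Dp p (∏ i, z i ^ q i) =
        ((∏ i, Nat.choose (q i) (p i) : ℕ) : B) * ∏ i, z i ^ (q i - p i))
    (p : ι → ℕ) (i : ι) (q : ι → ℕ) :
    Diff16.commutator A B B B (Dp p) (z i) (∏ j, z j ^ q j) =
      if p i = 0 then 0 else Dp (p - Pi.single i 1) (∏ j, z j ^ q j) := by
  rw [commutator_apply, smul_eq_mul, mul_mono, hDz, hDz, smul_eq_mul]
  -- split off the coordinate `i`
  have s1 := prod_split (fun j => Nat.choose ((q + Pi.single i 1 : ι → ℕ) j) (p j)) i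
  have s2 := prod_split (fun j => z j ^ ((q + Pi.single i 1 : ι → ℕ) j - p j)) i
  have s3 := prod_split (fun j => Nat.choose (q j) (p j)) i
  have s4 := prod_split (fun j => z j ^ (q j - p j)) i
  rw [s1, s2, s3, s4]
  have e1 : ∏ j ∈ Finset.univ.erase i, Nat.choose ((q + Pi.single i 1 : ι → ℕ) j) (p j) =
      ∏ j ∈ Finset.univ.erase i, Nat.choose (q j) (p j) := by
    apply Finset.prod_congr rfl
    intro j hj
    have hne : j ≠ i := Finset.ne_of_mem_erase hj
    simp [hne]
  have e2 : ∏ j ∈ Finset.univ.erase i, z j ^ ((q + Pi.single i 1 : ι → ℕ) j - p j) =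
      ∏ j ∈ Finset.univ.erase i, z j ^ (q j - p j) := by
    apply Finset.prod_congr rfl
    intro j hj
    have hne : j ≠ i := Finset.ne_of_mem_erase hj
    simp [hne]
  rw [e1, e2]
  have e3 : (q + Pi.single i 1 : ι → ℕ) i = q i + 1 := by simp
  rw [e3]
  have e4 : ∏ j ∈ Finset.univ.erase i, Nat.choose (q j) ((p - Pi.single i 1 : ι → ℕ) j) =
      ∏ j ∈ Finset.univ.erase i, Nat.choose (q j) (p j) := by
    apply Finset.prod_congr rfl
    intro j hj
    have hne : j ≠ i := Finset.ne_of_mem_erase hj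
    simp [hne]
  have e5 : ∏ j ∈ Finset.univ.erase i, z j ^ (q j - (p - Pi.single i 1 : ι → ℕ) j) =
      ∏ j ∈ Finset.univ.erase i, z j ^ (q j - p j) := by
    apply Finset.prod_congr rfl
    intro j hj
    have hne : j ≠ i := Finset.ne_of_mem_erase hj
    simp [hne]
  have e6 : (p - Pi.single i 1 : ι → ℕ) i = p i - 1 := by simp
  have s5 := prod_split (fun j => Nat.choose (q j) ((p - Pi.single i 1 : ι → ℕ) j)) i
  have s6 := prod_split (fun j => z j ^ (q j - (p - Pi.single i 1 : ι → ℕ) j)) i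
  rw [hDz, s5, s6, e4, e5, e6]
  generalize ∏ j ∈ Finset.univ.erase i, Nat.choose (q j) (p j) = Rc
  generalize ∏ j ∈ Finset.univ.erase i, z j ^ (q j - p j) = Rm
  split_ifs with hpi
  · rw [hpi]
    simp only [Nat.choose_zero_right, one_mul, Nat.sub_zero, pow_succ]
    ring
  · obtain ⟨s, hs⟩ := Nat.exists_eq_succ_of_ne_zero hpi
    rw [hs, Nat.succ_eq_add_one, Nat.add_sub_cancel, Nat.add_sub_add_right, Nat.choose_succ_succ]
    by_cases hle : s + 1 ≤ q i
    · have : q i - s = (q i - (s + 1)) + 1 := by omega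
      rw [this, pow_succ]
      push_cast
      ring
    · rw [Nat.choose_eq_zero_of_lt (not_le.1 hle)]
      push_cast
      ring

lemma sum_sub_single (i : ι) (p : ι → ℕ) (hp : p i ≠ 0) :
    ∑ j, (p - Pi.single i 1 : ι → ℕ) j + 1 = ∑ j, p j := by
  have h1 : ∑ j, p j = ∑ j, ((p - Pi.single i 1 : ι → ℕ) j + (Pi.single i 1 : ι → ℕ) j) := by
    apply Finset.sum_congr rfl
    intro j _
    by_cases hj : j = i
    · subst hj
      simp only [Pi.sub_apply, Pi.single_eq_same]
      omega
    · simp [hj]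
  rw [h1, Finset.sum_add_distrib]
  congr 1
  rw [Finset.sum_eq_single i]
  · simp
  · intro j _ hj
    simp [hj]
  · intro h; exact absurd (Finset.mem_univ i) h

/-- the commutator identity as operators -/
theorem commutator_eq
    (hz : Submodule.span B (Set.range fun i => KaehlerDifferential.D A B (z i)) = ⊤)
    (hD : ∀ p, ∃ k : ℕ, IsDiffOpLE A B B B k (Dp p))
    (hDz : ∀ p q : ι → ℕ, Dp p (∏ i, z i ^ q i) =
        ((∏ i, Nat.choose (q i) (p i) : ℕ) : B) * ∏ i, z i ^ (q i - p i))
    (p : ι → ℕ) (i : ι) :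
    Diff16.commutator A B B B (Dp p) (z i) = if p i = 0 then 0 else Dp (p - Pi.single i 1) := by
  obtain ⟨k, hk⟩ := hD p
  obtain ⟨k', hk'⟩ := hD (p - Pi.single i 1)
  have h1 : IsDiffOpLE A B B B (max k k') (Diff16.commutator A B B B (Dp p) (z i)) :=
    mono (le_max_left k k') (succ hk (z i))
  have h2 : IsDiffOpLE A B B B (max k k') (if p i = 0 then 0 else Dp (p - Pi.single i 1)) := by
    split_ifs
    · exact isDiffOpLE_zero_map _
    · exact mono (le_max_right k k') hk'
  have h3 := eq_zero_of_monomials_le z hz (max k k') _ (sub h1 h2) (by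
    intro q _
    rw [LinearMap.sub_apply, commutator_monomial z Dp hDz p i q]
    split_ifs
    · simp
    · simp)
  exact sub_eq_zero.1 h3

/-- `D_p` has order at most `|p|` -/
theorem order_le
    (hz : Submodule.span B (Set.range fun i => KaehlerDifferential.D A B (z i)) = ⊤)
    (hD : ∀ p, ∃ k : ℕ, IsDiffOpLE A B B B k (Dp p))
    (hDz : ∀ p q : ι → ℕ, Dp p (∏ i, z i ^ q i) =
        ((∏ i, Nat.choose (q i) (p i) : ℕ) : B) * ∏ i, z i ^ (q i - p i)) :
    ∀ (s : ℕ) (p : ι → ℕ), ∑ i, p i = s → IsDiffOpLE A B B B s (Dp p) := by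
  intro s
  induction s with
  | zero =>
    intro p hp
    obtain ⟨k, hk⟩ := hD p
    apply isDiffOpLE_zero_of_commutator
    apply commutator_eq_zero_of_generators z hz k (Dp p) hk
    intro i
    rw [commutator_eq z Dp hz hD hDz p i]
    have : p i = 0 := by
      have := Finset.single_le_sum (f := p) (fun j _ => Nat.zero_le _) (Finset.mem_univ i)
      omega
    rw [if_pos this]
  | succ s ih =>
    intro p hp
    obtain ⟨k, hk⟩ := hD p
    intro b
    apply isDiffOpLE_commutator_of_generators z hz s k (Dp p) hk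
    intro i
    rw [commutator_eq z Dp hz hD hDz p i]
    split_ifs with hpi
    · exact isDiffOpLE_zero_map _
    · apply ih
      have := sum_sub_single i p hpi
      omega

end Family

section Matrix
variable (m : ℕ)

instance finite_Q : Finite {p : ι → ℕ // ∑ i, p i ≤ m} := by
  apply Finite.of_injective (fun p : {p : ι → ℕ // ∑ i, p i ≤ m} =>
    (fun i => (⟨p.1 i, by
      have := Finset.single_le_sum (f := p.1) (fun j _ => Nat.zero_le _) (Finset.mem_univ i)
      have := p.2
      omega⟩ : Fin (m + 1))))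
  intro p q h
  apply Subtype.ext
  funext i
  have := congrArg (fun f => (f i : ℕ)) h
  simpa using this

/-- the evaluation matrix of the family on monomials -/
noncomputable def Mx [Fintype {p : ι → ℕ // ∑ i, p i ≤ m}] :
    Matrix {p : ι → ℕ // ∑ i, p i ≤ m} {p : ι → ℕ // ∑ i, p i ≤ m} B :=
  fun p q => ((∏ i, Nat.choose (q.1 i) (p.1 i) : ℕ) : B) * ∏ i, z i ^ (q.1 i - p.1 i)

omit [DecidableEq ι] in
lemma Mx_eq_zero [Fintype {p : ι → ℕ // ∑ i, p i ≤ m}] (p q : {p : ι → ℕ // ∑ i, p i ≤ m})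
    (h : ∃ i, q.1 i < p.1 i) : Mx z m p q = 0 := by
  obtain ⟨i, hi⟩ := h
  unfold Mx
  rw [Finset.prod_eq_zero (Finset.mem_univ i) (Nat.choose_eq_zero_of_lt hi), Nat.cast_zero, zero_mul]

omit [DecidableEq ι] in
lemma Mx_self [Fintype {p : ι → ℕ // ∑ i, p i ≤ m}] (p : {p : ι → ℕ // ∑ i, p i ≤ m}) :
    Mx z m p p = 1 := by
  unfold Mx
  simp

lemma det_Mx [Fintype {p : ι → ℕ // ∑ i, p i ≤ m}] [DecidableEq {p : ι → ℕ // ∑ i, p i ≤ m}] :
    (Mx z m).det = 1 := by
  have hbt : (Mx z m).BlockTriangular (fun p : {p : ι → ℕ // ∑ i, p i ≤ m} => ∑ i, p.1 i) := by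
    intro p q hpq
    apply Mx_eq_zero
    by_contra hcon
    push Not at hcon
    have := Finset.sum_le_sum (fun i (_ : i ∈ Finset.univ) => hcon i)
    simp only at hpq
    omega
  rw [hbt.det]
  apply Finset.prod_eq_one
  intro k _
  have : (Mx z m).toSquareBlock (fun p : {p : ι → ℕ // ∑ i, p i ≤ m} => ∑ i, p.1 i) k = 1 := by
    ext ⟨p, hp⟩ ⟨q, hq⟩
    rw [Matrix.toSquareBlock_def, Matrix.of_apply, Matrix.one_apply]
    by_cases hpq : p = q
    · subst hpq
      rw [if_pos rfl]
      exact Mx_self z m p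
    · rw [if_neg (by intro h; exact hpq (by simpa using congrArg Subtype.val h))]
      apply Mx_eq_zero
      by_contra hcon
      push Not at hcon
      apply hpq
      apply Subtype.ext
      funext i
      by_contra hne
      have hlt : p.1 i < q.1 i := lt_of_le_of_ne (hcon i) hne
      have hsum : ∑ j, p.1 j < ∑ j, q.1 j :=
        Finset.sum_lt_sum (fun j (_ : j ∈ Finset.univ) => hcon j) ⟨i, Finset.mem_univ i, hlt⟩
      have hp' : ∑ j, p.1 j = k := hp
      have hq' : ∑ j, q.1 j = k := hq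
      omega
  rw [this, Matrix.det_one]

end Matrix

section Coeff
variable (Dp : (ι → ℕ) → (B →ₗ[A] B))

lemma isDiffOpLE_sum {κ : Type*} (s : Finset κ) (n : ℕ) (f : κ → (B →ₗ[A] B))
    (hf : ∀ k ∈ s, IsDiffOpLE A B B B n (f k)) : IsDiffOpLE A B B B n (∑ k ∈ s, f k) := by
  classical
  induction s using Finset.induction_on with
  | empty => simpa using isDiffOpLE_zero_map (A := A) (B := B) (M := B) (N := B) n
  | insert a s ha ih =>
    rw [Finset.sum_insert ha]
    exact add (hf a (Finset.mem_insert_self a s))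
      (ih (fun k hk => hf k (Finset.mem_insert_of_mem hk)))

theorem existsUnique_coeff
    (hz : Submodule.span B (Set.range fun i => KaehlerDifferential.D A B (z i)) = ⊤)
    (hD : ∀ p, ∃ k : ℕ, IsDiffOpLE A B B B k (Dp p))
    (hDz : ∀ p q : ι → ℕ, Dp p (∏ i, z i ^ q i) =
        ((∏ i, Nat.choose (q i) (p i) : ℕ) : B) * ∏ i, z i ^ (q i - p i))
    (m : ℕ) (D : B →ₗ[A] B) (hDm : IsDiffOpLE A B B B m D) :
    ∃! a : {p : ι → ℕ // ∑ i, p i ≤ m} →₀ B, D = a.sum fun p c => c • Dp p.1 := by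
  classical
  letI : Fintype {p : ι → ℕ // ∑ i, p i ≤ m} := Fintype.ofFinite _
  have hsum : ∀ a : {p : ι → ℕ // ∑ i, p i ≤ m} →₀ B,
      (a.sum fun p c => c • Dp p.1) = ∑ p, a p • Dp p.1 := by
    intro a
    exact Finsupp.sum_fintype _ _ (fun p => zero_smul _ _)
  have heval : ∀ (a : {p : ι → ℕ // ∑ i, p i ≤ m} → B) (q : {p : ι → ℕ // ∑ i, p i ≤ m}),
      (∑ p, a p • Dp p.1) (∏ i, z i ^ q.1 i) = (Matrix.vecMul a (Mx z m)) q := by
    intro a q
    rw [LinearMap.sum_apply, Matrix.vecMul, dotProduct]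
    apply Finset.sum_congr rfl
    intro p _
    rw [LinearMap.smul_apply, hDz, smul_eq_mul]
    rfl
  have hdet : IsUnit (Mx z m).det := by rw [det_Mx]; exact isUnit_one
  -- existence
  let v : {p : ι → ℕ // ∑ i, p i ≤ m} → B := fun q => D (∏ i, z i ^ q.1 i)
  let a : {p : ι → ℕ // ∑ i, p i ≤ m} → B := Matrix.vecMul v (Mx z m)⁻¹
  have ha : Matrix.vecMul a (Mx z m) = v := by
    show Matrix.vecMul (Matrix.vecMul v (Mx z m)⁻¹) (Mx z m) = v
    rw [Matrix.vecMul_vecMul, Matrix.nonsing_inv_mul _ hdet, Matrix.vecMul_one]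
  have hord : IsDiffOpLE A B B B m (D - ∑ p, a p • Dp p.1) := by
    apply sub hDm
    apply isDiffOpLE_sum
    intro p _
    exact smul (mono p.2 (order_le z Dp hz hD hDz _ p.1 rfl)) (a p)
  have hzero : D - ∑ p, a p • Dp p.1 = 0 := by
    apply eq_zero_of_monomials_le z hz m _ hord
    intro q hq
    rw [LinearMap.sub_apply, heval a ⟨q, hq⟩, ha, sub_self]
  refine ⟨Finsupp.equivFunOnFinite.symm a, ?_, ?_⟩
  · show D = _
    rw [hsum]
    exact sub_eq_zero.1 hzero
  · intro a2 h2
    rw [hsum] at h2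
    have h3 : Matrix.vecMul (a2 : {p : ι → ℕ // ∑ i, p i ≤ m} → B) (Mx z m) = v := by
      funext q
      rw [← heval, ← h2]
    have h4 : (a2 : {p : ι → ℕ // ∑ i, p i ≤ m} → B) = a := by
      have := congrArg (fun w => Matrix.vecMul w (Mx z m)⁻¹) h3
      simp only [Matrix.vecMul_vecMul, Matrix.mul_nonsing_inv _ hdet, Matrix.vecMul_one] at this
      exact this
    ext p
    rw [h4]
    rfl

end Coeff

end Groth.Agent.Helper1.DiffOpBasis
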