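import Groth.Agent.Helper1.Contract
import Groth.Agent.Helper1.Cofree

set_option autoImplicit false
set_option linter.unusedSectionVars false

/-! Resolutions of complexes by complexes of objects of dimension zero, for a dimension function
`d : A → ℕ∞` such that `n + d (K.X n)` tends to `-∞` when `n` tends to `-∞`. -/

namespace Groth.Agent.Helper1.DimRes
open CategoryTheory Limits HomologicalComplex

universe v u

variable {A : Type u} [Category.{v} A] [Abelian A]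

section contraction
variable (J : ℤ → A)

/-- the contraction of the cofree complex -/
noncomputable def cs (n m : ℤ) (h : n + 1 = m) : (Cofree.cof J).X m ⟶ (Cofree.cof J).X n := by
  subst h
  exact Cofree.p1 J (n + 1) ≫ Cofree.i2 J n

lemma cs_self (n : ℤ) : cs J n (n + 1) rfl = Cofree.p1 J (n + 1) ≫ Cofree.i2 J n := rfl

lemma hcs (z a b : ℤ) (hz : z + 1 = a) (ha : a + 1 = b) :
    cs J z a hz ≫ (Cofree.cof J).d z a + (Cofree.cof J).d a b ≫ cs J a b ha = 𝟙 _ := by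
  subst hz ha
  rw [cs_self, cs_self]
  apply Cofree.hom_ext_to J (z + 1)
  · simp
  · simp

end contraction

section dim
variable (d : A → ℕ∞)
  (h1 : ∀ X : A, ∃ (Y : A) (ι : X ⟶ Y), Mono ι ∧ d Y = 0)

/-- an embedding into an object of dimension zero, which is an isomorphism if the source already
has dimension zero -/
structure DEmb (X : A) where
  /-- the target -/
  M : A
  /-- the embedding -/
  ι : X ⟶ M
  mono : Mono ι
  hM : d M = 0
  iso : d X = 0 → IsIso ι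

/-- the chosen embedding -/
noncomputable def demb (X : A) : DEmb d X :=
  if h : d X = 0 then ⟨X, 𝟙 X, inferInstance, h, fun _ => inferInstance⟩
  else ⟨(h1 X).choose, (h1 X).choose_spec.choose, (h1 X).choose_spec.choose_spec.1,
    (h1 X).choose_spec.choose_spec.2, fun h' => absurd h' h⟩

variable (K : CochainComplex A ℤ)

/-- the targets of the embeddings -/
noncomputable def JK (k : ℤ) : A := (demb d h1 (K.X k)).M

/-- the embeddings -/
noncomputable def ιK (k : ℤ) : K.X k ⟶ JK d h1 K k := (demb d h1 (K.X k)).ι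

instance (k : ℤ) : Mono (ιK d h1 K k) := (demb d h1 (K.X k)).mono

lemma d_JK (k : ℤ) : d (JK d h1 K k) = 0 := (demb d h1 (K.X k)).hM

lemma isIso_ιK (k : ℤ) (h : d (K.X k) = 0) : IsIso (ιK d h1 K k) := (demb d h1 (K.X k)).iso h

/-- the cofree embedding -/
noncomputable def eK : K ⟶ Cofree.cof (JK d h1 K) := Cofree.toCof K _ (ιK d h1 K)

instance (k : ℤ) : Mono ((eK d h1 K).f k) := Cofree.mono_toCof_f K _ _ k

instance : Mono (eK d h1 K) := mono_of_mono_f _ (fun _ => inferInstance)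

/-- the short exact sequence `0 ⟶ K ⟶ E ⟶ E/K ⟶ 0` -/
noncomputable def SK : ShortComplex (CochainComplex A ℤ) :=
  ShortComplex.mk (eK d h1 K) (cokernel.π (eK d h1 K)) (cokernel.condition _)

lemma shortExact_SK : (SK d h1 K).ShortExact where
  exact := ShortComplex.exact_cokernel _
  mono_f := inferInstanceAs (Mono (eK d h1 K))
  epi_g := inferInstanceAs (Epi (cokernel.π (eK d h1 K)))

/-- the replacement complex -/
noncomputable def RK : CochainComplex A ℤ := Contract.sh (cokernel (eK d h1 K))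

/-- the replacement map -/
noncomputable def rK : K ⟶ RK d h1 K :=
  Contract.r (SK d h1 K) (cs (JK d h1 K)) (hcs (JK d h1 K))

lemma quasiIso_rK : QuasiIso (rK d h1 K) :=
  Contract.quasiIso_r (SK d h1 K) (shortExact_SK d h1 K) _ _

lemma rK_f (m : ℤ) : (rK d h1 K).f m =
    Contract.rf (SK d h1 K) (cs (JK d h1 K)) (m - 1) m (by omega) := rfl

lemma isIso_rf (n m : ℤ) (h : n + 1 = m) (hn : IsIso (ιK d h1 K n)) (hm : IsIso (ιK d h1 K m)) :
    IsIso (Contract.rf (SK d h1 K) (cs (JK d h1 K)) n m h) := by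
  subst h
  have hS := shortExact_SK d h1 K
  obtain ⟨c, hc⟩ : ∃ c : (Cofree.cof (JK d h1 K)).X n ⟶ (cokernel (eK d h1 K)).X n,
    c = (cokernel.π (eK d h1 K)).f n := ⟨_, rfl⟩
  have hex : ∀ {W : A} (x₂ : W ⟶ (Cofree.cof (JK d h1 K)).X n), x₂ ≫ c = 0 →
      ∃ (W' : A) (π : W' ⟶ W) (_ : Epi π) (x₁ : W' ⟶ K.X n), π ≫ x₂ = x₁ ≫ (eK d h1 K).f n := by
    intro W x₂ hx₂
    rw [hc] at hx₂
    exact Cocone.exact_k (SK d h1 K) hS n x₂ hx₂
  have hepic : Epi c := by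
    rw [hc]
    exact Cocone.epi_g (SK d h1 K) hS n
  have hfg : (eK d h1 K).f n ≫ c = 0 := by
    rw [hc]
    exact Cocone.fg_zero (SK d h1 K) n
  have he1 : (eK d h1 K).f n ≫ Cofree.p1 (JK d h1 K) n = ιK d h1 K n := by
    rw [eK, Cofree.toCof_f, Cofree.liftX_p1]
  have e1 : Contract.rf (SK d h1 K) (cs (JK d h1 K)) n (n + 1) rfl =
      ιK d h1 K (n + 1) ≫ (Cofree.i2 (JK d h1 K) n ≫ c) := by
    have : (eK d h1 K).f (n + 1) ≫ Cofree.p1 (JK d h1 K) (n + 1) = ιK d h1 K (n + 1) := by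
      rw [eK, Cofree.toCof_f, Cofree.liftX_p1]
    have e0 : Contract.rf (SK d h1 K) (cs (JK d h1 K)) n (n + 1) rfl =
        (eK d h1 K).f (n + 1) ≫ (Cofree.p1 (JK d h1 K) (n + 1) ≫ Cofree.i2 (JK d h1 K) n) ≫
          (cokernel.π (eK d h1 K)).f n := rfl
    rw [e0, ← hc, ← this]
    simp only [Category.assoc]
  rw [e1]
  suffices h : IsIso (Cofree.i2 (JK d h1 K) n ≫ c) from IsIso.comp_isIso' hm h
  have hmono : Mono (Cofree.i2 (JK d h1 K) n ≫ c) := by
    apply Preadditive.mono_of_cancel_zero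
    intro W x hx
    obtain ⟨W', π, _, w, hw⟩ := hex (x ≫ Cofree.i2 (JK d h1 K) n) (by rw [Category.assoc, hx])
    have h0 : w = 0 := by
      have := hw =≫ Cofree.p1 (JK d h1 K) n
      simp only [Category.assoc, Cofree.i2_p1, comp_zero, he1] at this
      rw [← cancel_mono (ιK d h1 K n), ← this, zero_comp]
    have := hw =≫ Cofree.p2 (JK d h1 K) n
    simp only [Category.assoc, Cofree.i2_p2, Category.comp_id, h0, zero_comp] at this
    rw [← cancel_epi π, this, comp_zero]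
  have hepi : Epi (Cofree.i2 (JK d h1 K) n ≫ c) := by
    rw [epi_iff_surjective_up_to_refinements]
    intro W y
    obtain ⟨W₁, π₁, _, u, hu⟩ := surjective_up_to_refinements_of_epi c y
    obtain ⟨u', hu'⟩ : ∃ u' : W₁ ⟶ (Cofree.cof (JK d h1 K)).X n,
      u' = u - (u ≫ Cofree.p1 (JK d h1 K) n ≫ inv (ιK d h1 K n)) ≫ (eK d h1 K).f n := ⟨_, rfl⟩
    have h0 : u' ≫ Cofree.p1 (JK d h1 K) n = 0 := by
      rw [hu', Preadditive.sub_comp, Category.assoc, he1]
      simp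
    have h2 : u' = (u' ≫ Cofree.p2 (JK d h1 K) n) ≫ Cofree.i2 (JK d h1 K) n := by
      conv_lhs => rw [← Category.comp_id u', ← Cofree.total (JK d h1 K) n,
        Preadditive.comp_add, reassoc_of% h0, zero_comp, zero_add, ← Category.assoc]
    have h3 : u' ≫ c = π₁ ≫ y := by
      rw [hu', Preadditive.sub_comp, Category.assoc, hfg, comp_zero, sub_zero, hu]
    refine ⟨W₁, π₁, inferInstance, u' ≫ Cofree.p2 (JK d h1 K) n, ?_⟩
    rw [← h3]
    conv_lhs => rw [h2]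
    rw [Category.assoc]
  exact isIso_of_mono_of_epi _

lemma isIso_rK_f (m : ℤ) (h : d (K.X (m - 1)) = 0) (h' : d (K.X m) = 0) :
    IsIso ((rK d h1 K).f m) := by
  rw [rK_f]
  exact isIso_rf d h1 K (m - 1) m (by omega) (isIso_ιK d h1 K _ h) (isIso_ιK d h1 K _ h')

variable (h2 : ∀ X Y : A, d (X ⊞ Y) ≤ max (d X) (d Y))
  (h3 : ∀ S : ShortComplex A, S.ShortExact → d S.X₃ ≤ max (d S.X₁ - 1) (d S.X₂))

include h2 h3 in
lemma d_RK_le (m : ℤ) : d ((RK d h1 K).X m) ≤ d (K.X (m - 1)) - 1 := by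
  have hS := (shortExact_iff_degreewise_shortExact (SK d h1 K)).1 (shortExact_SK d h1 K) (m - 1)
  have h := h3 _ hS
  have hE : d ((Cofree.cof (JK d h1 K)).X (m - 1)) = 0 := by
    have := h2 (JK d h1 K (m - 1)) (JK d h1 K (m - 1 + 1))
    rw [d_JK d h1 K (m - 1), d_JK d h1 K (m - 1 + 1), max_self] at this
    exact le_antisymm this bot_le
  have hE' : d ((SK d h1 K).map (eval A (ComplexShape.up ℤ) (m - 1))).X₂ = 0 := hE
  rw [hE'] at h
  have h' : max (d (K.X (m - 1)) - 1) 0 = d (K.X (m - 1)) - 1 := max_eq_left bot_le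
  exact h.trans (le_of_eq h')

end dim

section ofSeq
variable {C : Type*} [Category C] {X : ℕ → C} (f : ∀ n, X n ⟶ X (n + 1))

lemma ofSequence_map_mem (P : MorphismProperty C) [P.IsMultiplicative] (j₀ : ℕ)
    (hP : ∀ j, j₀ ≤ j → P (f j)) (i j : ℕ) (hi : j₀ ≤ i) (φ : i ⟶ j) :
    P ((Functor.ofSequence f).map φ) := by
  have hij : i ≤ j := leOfHom φ
  induction j, hij using Nat.le_induction with
  | base =>
    obtain rfl : φ = 𝟙 i := Subsingleton.elim _ _
    rw [CategoryTheory.Functor.map_id]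
    exact P.id_mem _
  | succ j hj ih =>
    obtain rfl : φ = homOfLE hj ≫ homOfLE (Nat.le_add_right j 1) := Subsingleton.elim _ _
    rw [Functor.map_comp, Functor.ofSequence_map_homOfLE_succ]
    exact P.comp_mem _ _ (ih _) (hP j (hi.trans hj))

end ofSeq

section iteration
variable (d : A → ℕ∞)
  (h1 : ∀ X : A, ∃ (Y : A) (ι : X ⟶ Y), Mono ι ∧ d Y = 0)
  (h2 : ∀ X Y : A, d (X ⊞ Y) ≤ max (d X) (d Y))
  (h3 : ∀ S : ShortComplex A, S.ShortExact → d S.X₃ ≤ max (d S.X₁ - 1) (d S.X₂))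
  (K : CochainComplex A ℤ)

/-- the sequence of replacements -/
noncomputable def Kseq : ℕ → CochainComplex A ℤ
  | 0 => K
  | j + 1 => RK d h1 (Kseq j)

/-- the transition maps -/
noncomputable def rseq (j : ℕ) : Kseq d h1 K j ⟶ Kseq d h1 K (j + 1) := rK d h1 (Kseq d h1 K j)

lemma quasiIso_rseq (j : ℕ) : QuasiIso (rseq d h1 K j) := quasiIso_rK d h1 _

include h2 h3 in
lemma d_Kseq_le (j : ℕ) (m : ℤ) : d ((Kseq d h1 K j).X m) ≤ d (K.X (m - j)) - j := by
  induction j generalizing m with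
  | zero =>
    have e : m - ((0 : ℕ) : ℤ) = m := by simp
    rw [e]
    simp [Kseq]
  | succ j ih =>
    have h := d_RK_le d h1 (Kseq d h1 K j) h2 h3 m
    have h' := ih (m - 1)
    have e : m - 1 - (j : ℤ) = m - ((j + 1 : ℕ) : ℤ) := by push_cast; ring
    rw [e] at h'
    calc d ((Kseq d h1 K (j + 1)).X m) ≤ d ((Kseq d h1 K j).X (m - 1)) - 1 := h
      _ ≤ (d (K.X (m - ((j + 1 : ℕ) : ℤ))) - j) - 1 := tsub_le_tsub_right h' 1
      _ = d (K.X (m - ((j + 1 : ℕ) : ℤ))) - ((j + 1 : ℕ) : ℕ∞) := by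
        rw [tsub_tsub]
        push_cast
        rfl

include h2 h3 in
lemma exists_d_Kseq_eq_zero
    (hK : ∀ m : ℤ, ∃ N : ℤ, ∀ n : ℤ, n ≤ N → ∃ k : ℕ, d (K.X n) = k ∧ n + k ≤ m) (m : ℤ) :
    ∃ j₀ : ℕ, ∀ j : ℕ, j₀ ≤ j → d ((Kseq d h1 K j).X m) = 0 := by
  obtain ⟨N, hN⟩ := hK m
  refine ⟨(m - N).toNat, fun j hj => ?_⟩
  have hjN : m - (j : ℤ) ≤ N := by
    have := Int.self_le_toNat (m - N)
    omega
  obtain ⟨k, hk, hkm⟩ := hN _ hjN
  have hkj : k ≤ j := by omega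
  have := d_Kseq_le d h1 h2 h3 K j m
  rw [hk] at this
  have h0 : ((k : ℕ∞) - (j : ℕ∞)) = 0 := by
    rw [tsub_eq_zero_iff_le]
    exact_mod_cast hkj
  rw [h0] at this
  exact le_antisymm this bot_le

/-- the sequence as a functor -/
noncomputable def F : ℕ ⥤ CochainComplex A ℤ := Functor.ofSequence (rseq d h1 K)

lemma quasiIso_F_map (i j : ℕ) (φ : i ⟶ j) : QuasiIso ((F d h1 K).map φ) := by
  rw [← mem_quasiIso_iff]
  exact ofSequence_map_mem _ (quasiIso A (ComplexShape.up ℤ)) 0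
    (fun j _ => (mem_quasiIso_iff _).2 (quasiIso_rseq d h1 K j)) i j (Nat.zero_le _) φ

lemma isIso_F_map_f (m : ℤ) (j₀ : ℕ) (h : ∀ j, j₀ ≤ j → IsIso ((rseq d h1 K j).f m))
    (i j : ℕ) (hi : j₀ ≤ i) (φ : i ⟶ j) : IsIso (((F d h1 K).map φ).f m) := by
  have := ofSequence_map_mem (rseq d h1 K) ((MorphismProperty.isomorphisms A).inverseImage
    (eval A (ComplexShape.up ℤ) m)) j₀ (fun j hj => by
      have := h j hj
      exact (MorphismProperty.isomorphisms.iff _).2 this) i j hi φ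
  exact (MorphismProperty.isomorphisms.iff _).1 this

include h2 h3 in
lemma exists_isIso_rseq_f
    (hK : ∀ m : ℤ, ∃ N : ℤ, ∀ n : ℤ, n ≤ N → ∃ k : ℕ, d (K.X n) = k ∧ n + k ≤ m) (m : ℤ) :
    ∃ j₀ : ℕ, ∀ j : ℕ, j₀ ≤ j →
      IsIso ((rseq d h1 K j).f m) ∧ d ((Kseq d h1 K j).X m) = 0 := by
  obtain ⟨j₁, hj₁⟩ := exists_d_Kseq_eq_zero d h1 h2 h3 K hK (m - 1)
  obtain ⟨j₂, hj₂⟩ := exists_d_Kseq_eq_zero d h1 h2 h3 K hK m
  refine ⟨max j₁ j₂, fun j hj => ⟨?_, hj₂ j (le_trans (le_max_right _ _) hj)⟩⟩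
  exact isIso_rK_f d h1 _ m (hj₁ j (le_trans (le_max_left _ _) hj))
    (hj₂ j (le_trans (le_max_right _ _) hj))

include h2 h3 in
lemma exists_evConst
    (hK : ∀ m : ℤ, ∃ N : ℤ, ∀ n : ℤ, n ≤ N → ∃ k : ℕ, d (K.X n) = k ∧ n + k ≤ m) (m : ℤ) :
    ∃ j₀ : ℕ, (F d h1 K ⋙ eval A (ComplexShape.up ℤ) m).IsEventuallyConstantFrom j₀ ∧
      d ((Kseq d h1 K j₀).X m) = 0 := by
  obtain ⟨j₀, hj₀⟩ := exists_isIso_rseq_f d h1 h2 h3 K hK m
  exact ⟨j₀, fun j φ => isIso_F_map_f d h1 K m j₀ (fun j hj => (hj₀ j hj).1) j₀ j le_rfl φ,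
    (hj₀ j₀ le_rfl).2⟩

include h1 h2 h3 in
theorem main (hiso : ∀ ⦃X Y : A⦄, Nonempty (X ≅ Y) → d X = d Y)
    (hK : ∀ m : ℤ, ∃ N : ℤ, ∀ n : ℤ, n ≤ N → ∃ k : ℕ, d (K.X n) = k ∧ n + k ≤ m) :
    ∃ (L : CochainComplex A ℤ) (f : K ⟶ L), QuasiIso f ∧ ∀ n, d (L.X n) = 0 := by
  have hcol : ∀ m : ℤ, HasColimit (F d h1 K ⋙ eval A (ComplexShape.up ℤ) m) := fun m =>
    (exists_evConst d h1 h2 h3 K hK m).choose_spec.1.hasColimit
  have hι : ∀ (m : ℤ) (j₀ : ℕ),
      (F d h1 K ⋙ eval A (ComplexShape.up ℤ) m).IsEventuallyConstantFrom j₀ → ∀ j : ℕ, j₀ ≤ j →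
      IsIso (((coconeOfHasColimitEval (F d h1 K)).ι.app j).f m) := by
    intro m j₀ h j hj
    rw [coconeOfHasColimitEval_ι_app_f]
    exact h.isIso_ι_of_isColimit' (colimit.isColimit _) j (homOfLE hj)
  refine ⟨(coconeOfHasColimitEval (F d h1 K)).pt, (coconeOfHasColimitEval (F d h1 K)).ι.app 0,
    ?_, ?_⟩
  · rw [quasiIso_iff]
    intro q
    obtain ⟨j1, hj1, -⟩ := exists_evConst d h1 h2 h3 K hK (q - 1)
    obtain ⟨j2, hj2, -⟩ := exists_evConst d h1 h2 h3 K hK q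
    obtain ⟨j3, hj3, -⟩ := exists_evConst d h1 h2 h3 K hK (q + 1)
    obtain ⟨j, hj⟩ : ∃ j : ℕ, j = max j1 (max j2 j3) := ⟨_, rfl⟩
    have e : (coconeOfHasColimitEval (F d h1 K)).ι.app 0 =
        (F d h1 K).map (homOfLE (Nat.zero_le j)) ≫ (coconeOfHasColimitEval (F d h1 K)).ι.app j :=
      ((coconeOfHasColimitEval (F d h1 K)).w _).symm
    have hq : QuasiIsoAt ((coconeOfHasColimitEval (F d h1 K)).ι.app j) q := by
      rw [quasiIsoAt_iff' _ (q - 1) q (q + 1) (by simp) (by simp)]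
      have i1 : IsIso ((shortComplexFunctor' A (ComplexShape.up ℤ) (q - 1) q (q + 1)).map
          ((coconeOfHasColimitEval (F d h1 K)).ι.app j)).τ₁ :=
        hι (q - 1) j1 hj1 j (by rw [hj]; exact le_max_left _ _)
      have i2 : IsIso ((shortComplexFunctor' A (ComplexShape.up ℤ) (q - 1) q (q + 1)).map
          ((coconeOfHasColimitEval (F d h1 K)).ι.app j)).τ₂ :=
        hι q j2 hj2 j (by rw [hj]; exact le_trans (le_max_left _ _) (le_max_right _ _))
      have i3 : IsIso ((shortComplexFunctor' A (ComplexShape.up ℤ) (q - 1) q (q + 1)).map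
          ((coconeOfHasColimitEval (F d h1 K)).ι.app j)).τ₃ :=
        hι (q + 1) j3 hj3 j (by rw [hj]; exact le_trans (le_max_right _ _) (le_max_right _ _))
      apply ShortComplex.quasiIso_of_epi_of_isIso_of_mono
    have hq' : QuasiIsoAt ((F d h1 K).map (homOfLE (Nat.zero_le j))) q := by
      have := quasiIso_F_map d h1 K 0 j (homOfLE (Nat.zero_le j))
      infer_instance
    rw [e]
    exact @quasiIsoAt_comp _ _ _ _ _ _ _ _ _ _ q _ _ _ hq' hq
  · intro n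
    obtain ⟨j₀, hj₀, hd⟩ := exists_evConst d h1 h2 h3 K hK n
    have := hι n j₀ hj₀ j₀ le_rfl
    exact (hiso ⟨asIso (((coconeOfHasColimitEval (F d h1 K)).ι.app j₀).f n)⟩).symm.trans hd

end iteration

end Groth.Agent.Helper1.DimRes
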