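import Mathlib

/-!
# A direct limit of rings with flat transition maps is flat over each stage
-/

set_option autoImplicit false

namespace Groth.Agent.Helper1.DirLimFlat

variable {ι : Type*} [Preorder ι] [Nonempty ι] [IsDirectedOrder ι] (G : ι → Type*)
  [∀ i, CommRing (G i)] (f : ∀ i j, i ≤ j → G i →+* G j)
  [DirectedSystem G fun i j h => f i j h]

lemma exists_of_family (i : ι) {l : ℕ}
    (x : Fin l → Ring.DirectLimit G (fun i j h => f i j h)) :
    ∃ (j : ι) (_ : i ≤ j) (y : Fin l → G j),
      ∀ k, Ring.DirectLimit.of G (fun i j h => f i j h) j (y k) = x k := by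
  classical
  choose jk yk hyk using fun k => Ring.DirectLimit.exists_of (x k)
  obtain ⟨j, hj⟩ := Finset.exists_le (insert i (Finset.univ.image jk))
  have hij : i ≤ j := hj i (Finset.mem_insert_self _ _)
  have hjk : ∀ k, jk k ≤ j := fun k =>
    hj _ (Finset.mem_insert_of_mem (Finset.mem_image_of_mem _ (Finset.mem_univ k)))
  exact ⟨j, hij, fun k => f (jk k) j (hjk k) (yk k), fun k => by
    rw [Ring.DirectLimit.of_f, hyk]⟩

theorem flat_of (hflat : ∀ i j h, (f i j h).Flat) (i : ι) :
    (Ring.DirectLimit.of G (fun i j h => f i j h) i).Flat := by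
  letI : Algebra (G i) (Ring.DirectLimit G (fun i j h => f i j h)) :=
    (Ring.DirectLimit.of G (fun i j h => f i j h) i).toAlgebra
  show Module.Flat (G i) (Ring.DirectLimit G (fun i j h => f i j h))
  apply Module.Flat.of_forall_isTrivialRelation
  intro l a x hax
  obtain ⟨j, hij, y, hy⟩ := exists_of_family G f i x
  have h1 : Ring.DirectLimit.of G (fun i j h => f i j h) j (∑ k, f i j hij (a k) * y k) = 0 := by
    rw [map_sum, ← hax]
    refine Finset.sum_congr rfl fun k _ => ?_
    rw [map_mul, Ring.DirectLimit.of_f, hy, Algebra.smul_def]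
    rfl
  obtain ⟨j', hjj', h2⟩ := Ring.DirectLimit.of.zero_exact h1
  have hij' := hij.trans hjj'
  letI : Algebra (G i) (G j') := (f i j' hij').toAlgebra
  haveI : Module.Flat (G i) (G j') := hflat i j' hij'
  have h3 : ∑ k, a k • f j j' hjj' (y k) = 0 := by
    rw [← h2, map_sum]
    refine Finset.sum_congr rfl fun k _ => ?_
    rw [map_mul, Algebra.smul_def]
    congr 1
    exact (DirectedSystem.map_map (f := fun i j h => f i j h) hij hjj' (a k)).symm
  obtain ⟨m, b, z, hz1, hz2⟩ := Module.Flat.isTrivialRelation_of_sum_smul_eq_zero (R := G i)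
    (M := G j') (f := a) (x := fun k => f j j' hjj' (y k)) h3
  refine ⟨m, b, fun n => Ring.DirectLimit.of G (fun i j h => f i j h) j' (z n), fun k => ?_, hz2⟩
  have hz1k : f j j' hjj' (y k) = ∑ n, b k n • z n := hz1 k
  rw [← hy k, ← Ring.DirectLimit.of_f hjj' (y k), hz1k, map_sum]
  refine Finset.sum_congr rfl fun n _ => ?_
  rw [Algebra.smul_def, Algebra.smul_def, map_mul]
  congr 1
  exact Ring.DirectLimit.of_f hij' (b k n)

end Groth.Agent.Helper1.DirLimFlat
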