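import Mathlib
import Groth.Agent.Helper1.DirLimFlat
import Groth.Agent.Helper1.CompletionFlat
import Groth.Agent.Helper1.HensNoeth

/-!
# Direct limits of local rings along local homomorphisms (EGA 0_III 10.3.1.3)
-/

set_option autoImplicit false

namespace Groth.Agent.Helper1.DirLimLocal

open IsLocalRing

variable {ι : Type*} [Preorder ι] [Nonempty ι] [IsDirectedOrder ι] (G : ι → Type*)
  [∀ i, CommRing (G i)] (f : ∀ i j, i ≤ j → G i →+* G j)
  [DirectedSystem G fun i j h => f i j h]

local notation "A" => Ring.DirectLimit G (fun i j h => f i j h)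
local notation "ofA" => Ring.DirectLimit.of G (fun i j h => f i j h)

variable (hloc : ∀ i j (h : i ≤ j), IsLocalHom (f i j h))

include hloc in
lemma isUnit_of_iff (i : ι) (x : G i) : IsUnit (ofA i x) ↔ IsUnit x := by
  constructor
  · intro hu
    obtain ⟨z, hz⟩ := hu.exists_right_inv
    obtain ⟨j, y, rfl⟩ := Ring.DirectLimit.exists_of z
    obtain ⟨k, hik, hjk⟩ := exists_ge_ge i j
    have h1 : ofA k (f i k hik x * f j k hjk y - 1) = 0 := by
      rw [map_sub, map_mul, Ring.DirectLimit.of_f, Ring.DirectLimit.of_f, hz, map_one, sub_self]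
    obtain ⟨k', hkk', h2⟩ := Ring.DirectLimit.of.zero_exact h1
    rw [map_sub, map_mul, map_one, sub_eq_zero] at h2
    have h3 : IsUnit (f k k' hkk' (f i k hik x)) := IsUnit.of_mul_eq_one _ h2
    have h4 : f k k' hkk' (f i k hik x) = f i k' (hik.trans hkk') x :=
      DirectedSystem.map_map (f := fun i j h => f i j h) hik hkk' x
    rw [h4] at h3
    haveI := hloc i k' (hik.trans hkk')
    exact isUnit_of_map_unit (f i k' (hik.trans hkk')) x h3
  · exact fun h => h.map _

variable [∀ i, IsLocalRing (G i)]

include hloc in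
theorem isLocalRing : IsLocalRing A := by
  haveI : Nontrivial A := by
    refine ⟨⟨0, 1, fun h => ?_⟩⟩
    let i := Classical.arbitrary ι
    have h1 : ofA i (1 : G i) = 0 := by rw [map_one]; exact h.symm
    obtain ⟨j, hij, h2⟩ := Ring.DirectLimit.of.zero_exact h1
    rw [map_one] at h2
    exact one_ne_zero h2
  refine IsLocalRing.of_isUnit_or_isUnit_one_sub_self fun a => ?_
  obtain ⟨i, x, rfl⟩ := Ring.DirectLimit.exists_of a
  rcases IsLocalRing.isUnit_or_isUnit_one_sub_self x with h | h
  · exact Or.inl (h.map _)
  · right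
    have := h.map (ofA i)
    rwa [map_sub, map_one] at this

variable (hmax : ∀ i j (h : i ≤ j), (maximalIdeal (G i)).map (f i j h) = maximalIdeal (G j))

include hloc hmax in
theorem map_maximalIdeal (i : ι) :
    haveI := isLocalRing G f hloc
    (maximalIdeal (G i)).map (ofA i) = maximalIdeal A := by
  haveI := isLocalRing G f hloc
  apply le_antisymm
  · rw [Ideal.map_le_iff_le_comap]
    intro x hx
    rw [Ideal.mem_comap, mem_maximalIdeal, mem_nonunits_iff, isUnit_of_iff G f hloc]
    exact hx
  · intro z hz
    obtain ⟨j, y, rfl⟩ := Ring.DirectLimit.exists_of z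
    rw [mem_maximalIdeal, mem_nonunits_iff, isUnit_of_iff G f hloc] at hz
    obtain ⟨k, hik, hjk⟩ := exists_ge_ge i j
    have h1 : f j k hjk y ∈ maximalIdeal (G k) := by
      rw [mem_maximalIdeal, mem_nonunits_iff]
      intro hu
      haveI := hloc j k hjk
      exact hz (isUnit_of_map_unit (f j k hjk) y hu)
    rw [← hmax i k hik] at h1
    have h2 := Ideal.mem_map_of_mem (ofA k) h1
    rw [Ideal.map_map, Ring.DirectLimit.of_f] at h2
    have h3 : (ofA k).comp (f i k hik) = ofA i := by
      ext x; exact Ring.DirectLimit.of_f hik x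
    rwa [h3] at h2


/-- An algebra over the direct limit which is flat over every stage is flat. -/
theorem flat_of_flat_stages (T : Type*) [CommRing T] [Algebra A T]
    (h : ∀ i : ι,
      letI : Algebra (G i) T := ((algebraMap A T).comp (ofA i)).toAlgebra
      Module.Flat (G i) T) : Module.Flat A T := by
  apply Module.Flat.of_forall_isTrivialRelation
  intro l a x hax
  obtain ⟨i, -, a', ha'⟩ := DirLimFlat.exists_of_family G f (Classical.arbitrary ι) a
  letI : Algebra (G i) T := ((algebraMap A T).comp (ofA i)).toAlgebra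
  haveI : Module.Flat (G i) T := h i
  have hsmul : ∀ (y : G i) (z : T), y • z = ofA i y • z := fun y z => by
    rw [Algebra.smul_def, Algebra.smul_def]; rfl
  have h3 : ∑ k, a' k • x k = 0 := by
    rw [← hax]
    exact Finset.sum_congr rfl fun k _ => by rw [hsmul, ha']
  obtain ⟨m, b, y, hy1, hy2⟩ := Module.Flat.isTrivialRelation_of_sum_smul_eq_zero (R := G i)
    (M := T) (f := a') (x := x) h3
  refine ⟨m, fun k n => ofA i (b k n), y, fun k => ?_, fun n => ?_⟩
  · rw [hy1 k]
    exact Finset.sum_congr rfl fun n _ => hsmul _ _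
  · rw [← map_zero (ofA i), ← hy2 n, map_sum]
    exact Finset.sum_congr rfl fun k _ => by rw [map_mul, ha']

section Noeth

variable [∀ i, IsNoetherianRing (G i)]
  (hflat : ∀ i j (h : i ≤ j), (f i j h).Flat)

include hloc hmax hflat in
/-- EGA 0_III 10.3.1.3: the direct limit is Noetherian. -/
theorem isNoetherianRing : IsNoetherianRing A := by
  haveI := isLocalRing G f hloc
  let i := Classical.arbitrary ι
  letI : Algebra (G i) A := (ofA i).toAlgebra
  have hm : (maximalIdeal (G i)).map (algebraMap (G i) A) = maximalIdeal A :=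
    map_maximalIdeal G f hloc hmax i
  have hfg := CompletionFlat.maximalIdeal_fg (G i) A hm
  haveI := AdicCompletion.isLocalRing_of_fg hfg
  haveI : IsNoetherianRing (AdicCompletion (maximalIdeal A) A) :=
    CompletionFlat.isNoetherianRing_completion (G i) A hm
  haveI : IsLocalHom (algebraMap A (AdicCompletion (maximalIdeal A) A)) :=
    AdicCompletion.algebraMap_isLocalHom_of_fg hfg
  haveI : Module.Flat A (AdicCompletion (maximalIdeal A) A) := by
    refine flat_of_flat_stages G f _ fun j => ?_
    letI : Algebra (G j) A := (ofA j).toAlgebra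
    haveI : Module.Flat (G j) A := DirLimFlat.flat_of G f hflat j
    have hmj : (maximalIdeal (G j)).map (algebraMap (G j) A) = maximalIdeal A :=
      map_maximalIdeal G f hloc hmax j
    exact CompletionFlat.flat_completion (G j) A hmj
  haveI : Module.FaithfullyFlat A (AdicCompletion (maximalIdeal A) A) :=
    Module.FaithfullyFlat.of_flat_of_isLocalHom
  exact Hens.isNoetherianRing_of_faithfullyFlat A (AdicCompletion (maximalIdeal A) A)

end Noeth

end Groth.Agent.Helper1.DirLimLocal
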