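import Mathlib
import Groth.Agent.Helper1.DualQc
import Groth.Agent.Helper1.DualTrick
import Groth.Agent.Helper1.AffLin2
import Groth.Agent.Helper1.GrSh2

set_option autoImplicit false
set_option linter.unusedSectionVars false
set_option linter.style.haveILetI false

/-!
# DualQc3: dualizing pairs along an affine morphism
-/

namespace Groth.Agent.Helper1.DualQc

open CategoryTheory Limits AlgebraicGeometry Opposite

universe u

variable (A : Type u) [CommRing A] {X Z : Scheme.{u}} [X.Over (Spec (CommRingCat.of A))]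
  [Z.Over (Spec (CommRingCat.of A))]

/-- **S13311**: a dualizing pair on `Z` induces one on `X` along an affine (quasi-compact,
quasi-separated) morphism `π : X ⟶ Z`, for `ω_X` representing `F ↦ Hom(π_* F, ω_Z)` -/
theorem exists_isRDualOver_of_affine (r : ℕ) (π : X ⟶ Z) [IsAffineHom π]
    (hπ : π ≫ (Z ↘ Spec (CommRingCat.of A)) = X ↘ Spec (CommRingCat.of A))
    (ωZ : Z.Modules) (trZ : Coh.HH Z ωZ r →ₗ[A] A) (hZ : Canon.IsRDualOver A Z r ωZ trZ)
    (ωX : X.Modules) (hωX : Coh.IsQCoh ωX) (τ : (Coh.push π).obj ωX ⟶ ωZ)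
    (huniv : ∀ F : X.Modules, Coh.IsQCoh F →
      Function.Bijective (fun φ : F ⟶ ωX => (Coh.push π).map φ ≫ τ)) :
    ∃ trX : Coh.HH X ωX r →ₗ[A] A, Canon.IsRDualOver A X r ωX trX := by
  have key := Groth.Agent.Helper1.DualTrick.main A (fun M : X.Modules => Coh.HH X M r)
    (fun {M N} (φ : M ⟶ N) => Canon.HHlin A φ r)
    (fun M => LinearMap.ext (fun x => Groth.Agent.Helper1.GrSh.HHlin_id A M r x))
    (fun {M N P} f g => LinearMap.ext (fun x => Groth.Agent.Helper1.GrSh.HHlin_comp A f g r x))
    ωX (fun M => Coh.IsQCoh M) hωX ?_ ?_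
  · obtain ⟨t, ht⟩ := key
    exact ⟨t, hωX, fun F hF => ht F hF⟩
  · intro F hF
    haveI : Coh.IsQCoh F := hF
    haveI : Coh.IsQCoh ωX := hωX
    exact Groth.Agent.Helper4.QcohLimits.isQuasicoherent_biprod _ _
  · intro M hM
    haveI : Coh.IsQCoh M := hM
    obtain ⟨σ, hσ⟩ := Groth.Agent.Helper1.AffLin.exists_HH_linearEquiv_end π A hπ M r
    have hqp : Coh.IsQCoh ((Coh.push π).obj M) :=
      Groth.Agent.Helper4.QcohGlue.isQuasicoherent_pushforward π M
    refine ⟨fun φ => (Canon.dualityMap A Z r ωZ trZ ((Coh.push π).obj M)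
      ((Coh.push π).map φ ≫ τ)) ∘ₗ σ.toLinearMap, ?_, ?_⟩
    · have hb1 := huniv M hM
      have hb2 := hZ.2 ((Coh.push π).obj M) hqp
      have hb3 : Function.Bijective (fun ξ : Coh.HH Z ((Coh.push π).obj M) r →ₗ[A] A =>
          ξ ∘ₗ σ.toLinearMap) := by
        constructor
        · intro ξ ξ' h
          apply LinearMap.ext
          intro y
          have := LinearMap.congr_fun h (σ.symm y)
          simpa using this
        · intro ζ
          refine ⟨ζ ∘ₗ σ.symm.toLinearMap, ?_⟩
          apply LinearMap.ext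
          intro y
          simp
      exact hb3.comp (hb2.comp hb1)
    · intro v φ
      apply LinearMap.ext
      intro x
      simp only [LinearMap.comp_apply, LinearEquiv.coe_coe]
      rw [hσ]
      change trZ (Canon.HHlin A ((Coh.push π).map (v ≫ φ) ≫ τ) r (σ x)) =
        trZ (Canon.HHlin A ((Coh.push π).map φ ≫ τ) r
          (Canon.HHlin A ((Coh.push π).map v) r (σ x)))
      rw [Functor.map_comp, Category.assoc, Groth.Agent.Helper1.GrSh.HHlin_comp]

end Groth.Agent.Helper1.DualQc
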