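import Mathlib

/-!
# A quotient by an ideal which becomes idempotent after localization is a localization
-/

namespace Groth.Agent.Helper1.ElemStd

open IsLocalization

theorem exists_away {T A Tt Aa : Type*} [CommRing T] [CommRing A] [CommRing Tt] [CommRing Aa]
    (t : T) (a : A) [Algebra T Tt] [IsLocalization.Away t Tt] [Algebra A Aa]
    [IsLocalization.Away a Aa] [Algebra Tt Aa] (π : T →+* A) (hπ : Function.Surjective π)
    (hta : π t = a)
    (hcomm : ∀ x, algebraMap Tt Aa (algebraMap T Tt x) = algebraMap A Aa (π x))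
    (G : Set T) (hGfin : G.Finite) (hG : Ideal.span G = RingHom.ker π)
    (hkill : ∀ g ∈ G, t * g ∈ (RingHom.ker π) ^ 2) :
    ∃ s : Tt, IsLocalization.Away s Aa := by
  obtain ⟨J, hJ⟩ : ∃ J : Ideal Tt, J = (RingHom.ker π).map (algebraMap T Tt) := ⟨_, rfl⟩
  have hJ' : J = Ideal.span (algebraMap T Tt '' G) := by
    rw [hJ, ← hG, Ideal.map_span]
  let pt : ℕ → Submonoid.powers t := fun k => ⟨t ^ k, k, rfl⟩
  let pa : ℕ → Submonoid.powers a := fun k => ⟨a ^ k, k, rfl⟩
  have htunit : IsUnit (algebraMap T Tt t) := IsLocalization.Away.algebraMap_isUnit t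
  have haunit : IsUnit (algebraMap A Aa a) := IsLocalization.Away.algebraMap_isUnit a
  -- J is finitely generated
  have hJfg : J.FG := by
    rw [hJ']
    exact Submodule.fg_span (hGfin.image _)
  -- J is idempotent
  have hJidem : IsIdempotentElem J := by
    apply le_antisymm Ideal.mul_le_left
    nth_rw 1 [hJ']
    rw [Ideal.span_le]
    rintro _ ⟨g, hg, rfl⟩
    have h1 : algebraMap T Tt (t * g) ∈ ((RingHom.ker π) ^ 2).map (algebraMap T Tt) :=
      Ideal.mem_map_of_mem _ (hkill g hg)
    rw [Ideal.map_pow, ← hJ, pow_two, map_mul] at h1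
    obtain ⟨u, hu⟩ := htunit
    have h2 : algebraMap T Tt g = ↑u⁻¹ * (algebraMap T Tt t * algebraMap T Tt g) := by
      rw [← hu, ← mul_assoc, Units.inv_mul, one_mul]
    rw [SetLike.mem_coe, h2]
    exact Ideal.mul_mem_left _ _ h1
  obtain ⟨e, he, hJe⟩ := (Ideal.isIdempotentElem_iff_of_fg J hJfg).mp hJidem
  -- kernel of Tt → Aa
  have hker : ∀ w : Tt, algebraMap Tt Aa w = 0 ↔ w ∈ J := by
    intro w
    constructor
    · intro hw
      obtain ⟨y, ⟨_, k, rfl⟩, rfl⟩ := IsLocalization.exists_mk'_eq (Submonoid.powers t) w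
      have h1 : algebraMap Tt Aa (algebraMap T Tt y) = 0 := by
        have : algebraMap T Tt y = IsLocalization.mk' Tt y (pt k) * algebraMap T Tt (t ^ k) :=
          (IsLocalization.mk'_spec Tt y (pt k)).symm
        rw [this, map_mul, hw, zero_mul]
      rw [hcomm, IsLocalization.map_eq_zero_iff (Submonoid.powers a)] at h1
      obtain ⟨⟨_, l, rfl⟩, hl⟩ := h1
      have h2 : t ^ l * y ∈ RingHom.ker π := by
        rw [RingHom.mem_ker, map_mul, map_pow, hta]
        exact hl
      have h3 : algebraMap T Tt (t ^ l * y) ∈ J := by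
        rw [hJ]; exact Ideal.mem_map_of_mem _ h2
      have h4 : IsLocalization.mk' Tt y (pt k) =
          IsLocalization.mk' Tt 1 (pt (k + l)) * algebraMap T Tt (t ^ l * y) := by
        rw [mul_comm, IsLocalization.mul_mk'_eq_mk'_of_mul, mul_one, IsLocalization.mk'_eq_iff_eq]
        simp only [pt, pow_add]
        congr 1
        ring
      rw [h4]
      exact Ideal.mul_mem_left _ _ h3
    · intro hw
      have hle : J ≤ RingHom.ker (algebraMap Tt Aa) := by
        rw [hJ, Ideal.map_le_iff_le_comap]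
        intro j hj
        rw [Ideal.mem_comap, RingHom.mem_ker, hcomm, (RingHom.mem_ker).mp hj, map_zero]
      exact hle hw
  -- surjectivity of Tt → Aa
  have hsurj : Function.Surjective (algebraMap Tt Aa) := by
    intro z
    obtain ⟨x, ⟨_, k, rfl⟩, rfl⟩ := IsLocalization.exists_mk'_eq (Submonoid.powers a) z
    obtain ⟨y, rfl⟩ := hπ x
    refine ⟨IsLocalization.mk' Tt y (pt k), ?_⟩
    rw [IsLocalization.eq_mk'_iff_mul_eq]
    have h1 : algebraMap A Aa (a ^ k) = algebraMap Tt Aa (algebraMap T Tt (t ^ k)) := by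
      rw [hcomm, map_pow π, hta]
    change algebraMap Tt Aa (IsLocalization.mk' Tt y (pt k)) * algebraMap A Aa (a ^ k) = _
    have h5 : IsLocalization.mk' Tt y (pt k) * algebraMap T Tt (t ^ k) = algebraMap T Tt y :=
      IsLocalization.mk'_spec Tt y (pt k)
    rw [h1, ← map_mul, h5, hcomm]
  have hemap : algebraMap Tt Aa e = 0 := by
    rw [hker, hJe]
    exact Ideal.mem_span_singleton_self e
  refine ⟨1 - e, ?_⟩
  rw [IsLocalization.Away, isLocalization_iff]
  refine ⟨?_, ?_, ?_⟩
  · rintro ⟨_, k, rfl⟩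
    simp [hemap]
  · intro z
    obtain ⟨w, rfl⟩ := hsurj z
    exact ⟨(w, 1), by simp⟩
  · intro x y hxy
    have h1 : x - y ∈ J := by
      rw [← hker, map_sub, hxy, sub_self]
    rw [hJe, Ideal.mem_span_singleton'] at h1
    obtain ⟨r, hr⟩ := h1
    refine ⟨⟨1 - e, 1, pow_one _⟩, ?_⟩
    have h2 : (1 - e) * (x - y) = 0 := by
      rw [← hr]
      have : e * e = e := he
      linear_combination (-r) * this
    simp only
    linear_combination h2

end Groth.Agent.Helper1.ElemStd
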