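import Mathlib
import Groth.Prelude.Def_CohB1
import Groth.Agent.Helper1.ColimCoh
import Groth.Agent.Helper9.RpushCmp
import Groth.Agent.Helper3.SheafModLib
import Groth.Agent.Helper4.QcohEpi
import Groth.Agent.Helper4.SecDict

/-!
# EpiColim: sections over an affine open of a filtered colimit of `O_X`-modules, and
"a map from a filtered colimit onto a finite-type module is epi at a finite stage"
-/

set_option autoImplicit false
universe u
open CategoryTheory CategoryTheory.Limits AlgebraicGeometry TopologicalSpace Opposite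

namespace Groth.Agent.Helper1.EpiColim
open Groth.Agent.Helper9.RpushCmp Groth.Agent.Helper1.CechTop

/-- sections over a compact quasi-separated open commute with filtered colimits of abelian
sheaves -/
theorem preservesColimitsOfShape_sections {X : TopCat.{u}} [PrespectralSpace X] (U : Opens X)
    (hU : IsCompact (U : Set X)) (hqs : IsQuasiSeparated (U : Set X))
    (J : Type u) [SmallCategory J] [IsFiltered J] :
    PreservesColimitsOfShape J (sectionsFunctor U : CohTop.Ab X ⥤ AddCommGrpCat.{u}) := by
  obtain ⟨α, _, _, _, G, _⟩ := IsFiltered.exists_directed J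
  have hα : PreservesColimitsOfShape α (sectionsFunctor U : CohTop.Ab X ⥤ AddCommGrpCat.{u}) := by
    constructor
    intro F
    exact preservesColimit_of_preserves_colimit_cocone (colimit.isColimit F)
      (Groth.Agent.Helper1.ColimCoh.isColimitMapCoconeSections' (colimit.isColimit F) U hU hqs)
  exact Functor.Final.preservesColimitsOfShape_of_final G _

variable {X : Scheme.{u}}

/-- every section over an affine open of a filtered colimit of modules comes from a stage -/
theorem exists_rep {J : Type u} [SmallCategory J] [IsFiltered J] (D : J ⥤ X.Modules)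
    (c : Cocone D) (hc : IsColimit c) {U : X.Opens} (hU : IsAffineOpen U) (s : Γ(c.pt, U)) :
    ∃ (j : J) (t : Γ(D.obj j, U)), (c.ι.app j).app U t = s := by
  haveI : PreservesColimitsOfSize.{u, u} (tA X) :=
    Groth.Agent.Helper3.SheafModLib.toSheaf_preservesColimits X.ringCatSheaf
  have hqs : IsQuasiSeparated (U.1 : Set X) := by
    rw [isQuasiSeparated_iff_quasiSeparatedSpace (U.1 : Set X) U.isOpen]
    have : IsAffine U := hU
    exact (inferInstance : QuasiSeparatedSpace (U : Scheme.{u}))
  haveI : PrespectralSpace X.toTopCat := (inferInstance : PrespectralSpace X)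
  haveI := preservesColimitsOfShape_sections (X := X.toTopCat) U hU.isCompact hqs J
  have hc1 := isColimitOfPreserves (tA X ⋙ (sectionsFunctor U :
    CohTop.Ab X.toTopCat ⥤ AddCommGrpCat.{u})) hc
  obtain ⟨j, t, ht⟩ := Concrete.isColimit_exists_rep _ hc1 s
  exact ⟨j, t, ht⟩

end Groth.Agent.Helper1.EpiColim

namespace Groth.Agent.Helper1.EpiColim
open Groth.Agent.Helper4

variable {X : Scheme.{u}}

/-- the map on sections over `U` of a morphism of modules, as a linear map -/
noncomputable def appLin {M N : X.Modules} (φ : M ⟶ N) (U : X.Opens) :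
    Γ(M, U) →ₗ[Γ(X, U)] Γ(N, U) where
  toFun := φ.app U
  map_add' := map_add _
  map_smul' r x := Scheme.Modules.Hom.app_smul φ r x

theorem epi_iff_eventually [CompactSpace X]
    {J : Type u} [SmallCategory J] [IsFiltered J] (D : J ⥤ X.Modules)
    [∀ j, Coh.IsQCoh (D.obj j)]
    (c : Cocone D) (hc : IsColimit c) [Coh.IsQCoh c.pt]
    (F : X.Modules) [Coh.IsQCoh F] (hF : CohB1.IsFT F) (u : c.pt ⟶ F) :
    Epi u ↔ ∃ j₀ : J, ∀ j : J, Nonempty (j₀ ⟶ j) → Epi (c.ι.app j ≫ u) := by
  classical
  constructor
  · intro hu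
    choose U hU hxU using fun x : X => QcohLimits.exists_affine_nhd x
    obtain ⟨T, hT⟩ := isCompact_univ.elim_finite_subcover (fun x => ((U x : X.Opens) : Set X))
      (fun x => (U x).isOpen) (fun x _ => Set.mem_iUnion.2 ⟨x, hxU x⟩)
    have hfin : ∀ x, Module.Finite Γ(X, U x) Γ(F, U x) := fun x =>
      SecDict.finite_sections (hU x) F inferInstance hF
    have hgen : ∀ x, ∃ S : Finset Γ(F, U x), Submodule.span Γ(X, U x) (S : Set Γ(F, U x)) = ⊤ :=
      fun x => (hfin x).fg_top
    choose S hS using hgen
    have hsurj : ∀ x, Function.Surjective (u.app (U x)) := fun x =>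
      QcohEpi.app_surjective_of_epi u (hU x)
    have hrep : ∀ (x : X) (m : Γ(F, U x)), ∃ (j : J) (t : Γ(D.obj j, U x)),
        u.app (U x) ((c.ι.app j).app (U x) t) = m := by
      intro x m
      obtain ⟨s, hs⟩ := hsurj x m
      obtain ⟨j, t, ht⟩ := exists_rep D c hc (hU x) s
      exact ⟨j, t, by rw [ht, hs]⟩
    choose jj tt htt using hrep
    let O : Finset J := T.biUnion (fun x => (S x).image (fun m => jj x m))
    obtain ⟨j₀, hj₀⟩ := IsFiltered.sup_objs_exists O
    refine ⟨j₀, fun j ⟨g⟩ => ?_⟩
    apply QcohLocal.epi_of_app_surjective_of_affine_cover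
    intro x
    obtain ⟨x', hx'⟩ := Set.mem_iUnion.1 (hT (Set.mem_univ x))
    obtain ⟨hx'T, hxx'⟩ := Set.mem_iUnion.1 hx'
    refine ⟨U x', hU x', hxx', ?_⟩
    have hrange : LinearMap.range (appLin (c.ι.app j ≫ u) (U x')) = ⊤ := by
      rw [eq_top_iff, ← hS x', Submodule.span_le]
      intro m hm
      have hmem : jj x' m ∈ O :=
        Finset.mem_biUnion.2 ⟨x', hx'T, Finset.mem_image.2 ⟨m, hm, rfl⟩⟩
      obtain ⟨g'⟩ := hj₀ hmem
      refine ⟨(D.map (g' ≫ g)).app (U x') (tt x' m), ?_⟩
      have hw : D.map (g' ≫ g) ≫ c.ι.app j = c.ι.app (jj x' m) := c.w (g' ≫ g)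
      have h1 : (c.ι.app j).app (U x') ((D.map (g' ≫ g)).app (U x') (tt x' m)) =
          (c.ι.app (jj x' m)).app (U x') (tt x' m) := by
        rw [← hw]
        rfl
      change u.app (U x') ((c.ι.app j).app (U x') ((D.map (g' ≫ g)).app (U x') (tt x' m))) = m
      rw [h1]
      exact htt x' m
    exact LinearMap.range_eq_top.1 hrange
  · rintro ⟨j₀, h⟩
    haveI := h j₀ ⟨𝟙 _⟩
    exact epi_of_epi (c.ι.app j₀) u

end Groth.Agent.Helper1.EpiColim
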