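import Mathlib
import Groth.Agent.Helper1.FlatCxLocal2

/-!
# Elementwise description of `T_p(M) ⊆ Z'_p ⊗ M` and a chase for quotient rings
-/

set_option autoImplicit false

namespace Groth.Agent.Helper1.FlatCx

open CategoryTheory CategoryTheory.Limits MonoidalCategory TensorProduct

universe u

variable {A : Type u} [CommRing A] {ι : Type} {c : ComplexShape ι}
variable (P : HomologicalComplex (ModuleCat.{u} A) c) (p j : ι) (hj : c.next p = j)

/-- The embedding `T_p(M) ↪ Z'_p(P) ⊗ M`. -/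
noncomputable def phi (M : ModuleCat.{u} A) :
    (CohIII.tensorObj P M).homology p ⟶ P.opcycles p ⊗ M :=
  (CohIII.tensorObj P M).homologyι p ≫ (opcyclesIso P p M).hom

lemma phi_fromOpcycles (M : ModuleCat.{u} A) :
    phi P p M ≫ P.fromOpcycles p j ▷ M = 0 := by
  unfold phi
  rw [Category.assoc, opcyclesIso_hom_fromOpcycles,
    HomologicalComplex.homologyι_comp_fromOpcycles_assoc, zero_comp]

lemma phi_naturality {M N : ModuleCat.{u} A} (f : M ⟶ N) :
    HomologicalComplex.homologyMap (CohIII.tensorMap P f) p ≫ phi P p N =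
      phi P p M ≫ P.opcycles p ◁ f := by
  unfold phi
  rw [← Category.assoc, HomologicalComplex.homologyι_naturality, Category.assoc,
    opcyclesIso_hom_naturality, Category.assoc]

include hj in
lemma exists_phi_eq (M : ModuleCat.{u} A) (w : (P.opcycles p ⊗ M : ModuleCat.{u} A))
    (hw : (P.fromOpcycles p j ▷ M).hom w = 0) :
    ∃ t : (CohIII.tensorObj P M).homology p, (phi P p M).hom t = w := by
  set y' := (opcyclesIso P p M).inv.hom w with hy'
  have hy'' : (opcyclesIso P p M).hom.hom y' = w := by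
    rw [hy']; exact comp_apply_eq₁ (Iso.inv_hom_id _) w
  have h1 : ((CohIII.tensorObj P M).fromOpcycles p j).hom y' = 0 := by
    have := comp_apply_eq (opcyclesIso_hom_fromOpcycles P p M j) y'
    rw [hy'', hw, XIso_hom_apply] at this
    exact this.symm
  obtain ⟨t', ht'⟩ := (exact_homologyι_fromOpcycles (CohIII.tensorObj P M) p j hj y').mp h1
  refine ⟨t', ?_⟩
  show (opcyclesIso P p M).hom.hom (((CohIII.tensorObj P M).homologyι p).hom t') = w
  rw [ht', hy'']

section Quot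

lemma tmul_one_eq_zero_iff (X : Type*) [AddCommGroup X] [Module A X] (I : Ideal A) (x : X) :
    x ⊗ₜ[A] (1 : A ⧸ I) = 0 ↔ x ∈ (I • ⊤ : Submodule A X) := by
  rw [← (tensorQuotEquivQuotSMul X I).map_eq_zero_iff]
  have : tensorQuotEquivQuotSMul X I (x ⊗ₜ 1) = Submodule.Quotient.mk x := by
    rw [← map_one (Ideal.Quotient.mk I), tensorQuotEquivQuotSMul_tmul_mk, one_smul]
  rw [this, Submodule.Quotient.mk_eq_zero]

lemma exists_tmul_one (X : Type*) [AddCommGroup X] [Module A X] (I : Ideal A)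
    (w : X ⊗[A] (A ⧸ I)) : ∃ x : X, w = x ⊗ₜ[A] (1 : A ⧸ I) := by
  obtain ⟨x, hx⟩ := Submodule.Quotient.mk_surjective _ (tensorQuotEquivQuotSMul X I w)
  refine ⟨x, ?_⟩
  rw [← tensorQuotEquivQuotSMul_symm_mk, hx, LinearEquiv.symm_apply_apply]

include hj in
/-- The chase: if `T_p(A/I) → T_p(A/J)` is surjective (`I ≤ J`) then every `z ∈ Z'_p` with
`g z ∈ J X` is congruent mod `J Z'_p` to some `z'` with `g z' ∈ I X`. -/
lemma chase (I J : Ideal A) (hIJ : I ≤ J)
    (hs : Function.Surjective (HomologicalComplex.homologyMap (CohIII.tensorMap P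
      (ModuleCat.ofHom (Ideal.Quotient.factorₐ A hIJ).toLinearMap :
        ModuleCat.of A (A ⧸ I) ⟶ ModuleCat.of A (A ⧸ J))) p).hom)
    (z : P.opcycles p) (hz : (P.fromOpcycles p j).hom z ∈ (J • ⊤ : Submodule A (P.X j))) :
    ∃ z' : P.opcycles p, (P.fromOpcycles p j).hom z' ∈ (I • ⊤ : Submodule A (P.X j)) ∧
      z - z' ∈ (J • ⊤ : Submodule A (P.opcycles p)) := by
  set f : ModuleCat.of A (A ⧸ I) ⟶ ModuleCat.of A (A ⧸ J) :=
    ModuleCat.ofHom (Ideal.Quotient.factorₐ A hIJ).toLinearMap with hf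
  set w : (P.opcycles p ⊗ ModuleCat.of A (A ⧸ J) : ModuleCat.{u} A) :=
    z ⊗ₜ[A] (1 : A ⧸ J) with hw
  have hw0 : (P.fromOpcycles p j ▷ ModuleCat.of A (A ⧸ J)).hom w = 0 := by
    show (P.fromOpcycles p j).hom z ⊗ₜ[A] (1 : A ⧸ J) = 0
    exact (tmul_one_eq_zero_iff _ J _).mpr hz
  obtain ⟨t, ht⟩ := exists_phi_eq P p j hj _ w hw0
  obtain ⟨t', rfl⟩ := hs t
  set w' := (phi P p (ModuleCat.of A (A ⧸ I))).hom t' with hw'
  have h1 : (P.fromOpcycles p j ▷ ModuleCat.of A (A ⧸ I)).hom w' = 0 :=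
    comp_apply_eq₁ (phi_fromOpcycles P p j _) t'
  have h2 : (P.opcycles p ◁ f).hom w' = w := by
    rw [← ht]
    exact (comp_apply_eq (phi_naturality P p f) t').symm
  obtain ⟨z', hz'⟩ := exists_tmul_one (P.opcycles p) I w'
  refine ⟨z', ?_, ?_⟩
  · rw [← tmul_one_eq_zero_iff]
    rw [hz'] at h1
    exact h1
  · rw [← tmul_one_eq_zero_iff, TensorProduct.sub_tmul, sub_eq_zero]
    rw [hz'] at h2
    have h3 : (P.opcycles p ◁ f).hom (z' ⊗ₜ[A] (1 : A ⧸ I)) = z' ⊗ₜ[A] (1 : A ⧸ J) := by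
      show z' ⊗ₜ[A] (Ideal.Quotient.factorₐ A hIJ (1 : A ⧸ I)) = _
      rw [map_one]
    rw [h3] at h2
    exact h2.symm

end Quot

end Groth.Agent.Helper1.FlatCx
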