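import Groth.Agent.Helper1.EtFib1
import Groth.Agent.Helper1.EtRoot1
import Groth.Prelude.Def_ega3

set_option autoImplicit false
set_option linter.style.haveILetI false

/-!
# Proper flat schemes over a local ring whose closed fibre has "étale" functions:
cohomological flatness in degree 0 (exactness of `T⁰`)
-/

namespace Groth.Agent.Helper1.EtFib

open CategoryTheory Limits AlgebraicGeometry Opposite IsLocalRing Polynomial
open Groth.Agent.Helper1.Form Groth.Agent.Helper1.ModPowT Groth.Agent.Helper1.FlatCx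
open Groth.Agent.Helper1.BCFlatCoh Groth.Agent.Helper1.QuotPush

universe u

theorem exact_of_roots (B : Type u) [CommRing B] [IsNoetherianRing B] [IsLocalRing B]
    (Z : Scheme.{u}) [Z.Over (Spec (CommRingCat.of B))]
    [IsProper (Z ↘ Spec (CommRingCat.of B))] [Flat (Z ↘ Spec (CommRingCat.of B))]
    (Z' : Scheme.{u}) (g' : Z' ⟶ Z) (f₀ : Z' ⟶ Spec (CommRingCat.of (B ⧸ maximalIdeal B)))
    (hsq : IsPullback g' f₀ (Z ↘ Spec (CommRingCat.of B))
      (Spec.map (CommRingCat.ofHom (Ideal.Quotient.mk (maximalIdeal B)))))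
    (hroot : ∀ b : Γ(Z', ⊤), ∃ G : B[X], (G.map (φΓ (A := B) g')).eval b = 0 ∧
      IsUnit ((G.map (φΓ (A := B) g')).derivative.eval b)) :
    (CohIII.tensorAFunctor B (Coh.structureModule Z) ⋙ CohIII.HAb Z 0).PreservesMonomorphisms ∧
      (CohIII.tensorAFunctor B (Coh.structureModule Z) ⋙ CohIII.HAb Z 0).PreservesEpimorphisms := by
  have hfl : FlatMod.IsFlatOver (Z ↘ Spec (CommRingCat.of B)) (Coh.structureModule Z) :=
    (Groth.Agent.Helper9.Chart17.isFlatOver_unit_iff _).mpr inferInstance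
  have hcoh : Coh.IsCoh (Coh.structureModule Z) :=
    Groth.Agent.Helper1.Dev.isCoh_structureModule Z
  haveI : (Coh.structureModule Z).IsQuasicoherent := hcoh.1
  obtain ⟨L, hLff, -, h3, hbr, -, -, h7⟩ :=
    Groth.Agent.Helper1.Bridge.exists_complex'' B Z (Coh.structureModule Z) hcoh hfl
  have hQ : ∀ i, Module.Finite B (L.X i) ∧ Module.Flat B (L.X i) := fun i =>
    ⟨(hLff i).1, by haveI := (hLff i).2; infer_instance⟩
  have hflat : ∀ i, Module.Flat B (L.X i) := fun i => (hQ i).2
  obtain ⟨e0⟩ := hbr 0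
  have e0' : CohIII.TFun L (0 : ℤ) ⋙ forget₂ (ModuleCat.{u} B) AddCommGrpCat.{u} ≅
      CohIII.tensorAFunctor B (Coh.structureModule Z) ⋙ CohIII.HAb Z 0 := e0
  have hs : ∀ n : ℕ, 0 ≤ n → Function.Surjective (HomologicalComplex.homologyMap
      (CohIII.tensorMap L (ModuleCat.ofHom (Ideal.Quotient.factorₐ B
        (Ideal.pow_le_self (I := maximalIdeal B) (Nat.succ_ne_zero n))).toLinearMap :
        ModuleCat.of B (B ⧸ maximalIdeal B ^ (n + 1)) ⟶
          ModuleCat.of B (B ⧸ maximalIdeal B))) (0 : ℤ)).hom := by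
    intro n _
    set u : ModuleCat.of B (B ⧸ maximalIdeal B ^ (n + 1)) ⟶ ModuleCat.of B (B ⧸ maximalIdeal B) :=
      ModuleCat.ofHom (Ideal.Quotient.factorₐ B
        (Ideal.pow_le_self (I := maximalIdeal B) (Nat.succ_ne_zero n))).toLinearMap with hu
    have hπ : π (maximalIdeal B ^ (n + 1)) ≫ u = π (maximalIdeal B) := by
      rfl
    have hgeo : Function.Surjective ((CohIII.HAb Z 0).map
        ((CohIII.tensorAFunctor B (Coh.structureModule Z)).map u)) := by
      refine surjective_HAb_map_of_roots (J' := maximalIdeal B ^ (n + 1)) (J := maximalIdeal B)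
        (Ideal.pow_le_self (Nat.succ_ne_zero n)) (n + 1) le_rfl
        (IsPullback.of_hasPullback (Z ↘ Spec (CommRingCat.of B))
          (Spec.map (CommRingCat.ofHom (Ideal.Quotient.mk (maximalIdeal B ^ (n + 1))))))
        hsq hroot
        (isQuot_isoA_inv_map_π (Coh.structureModule Z) (maximalIdeal B ^ (n + 1)))
        (isQuot_isoA_inv_map_π (Coh.structureModule Z) (maximalIdeal B)) _ ?_
      rw [Category.assoc, ← Functor.map_comp, hπ]
    have nat := e0'.hom.naturality u
    intro y
    obtain ⟨x, hx⟩ := hgeo ((e0'.hom.app _) y)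
    refine ⟨(e0'.inv.app _) x, ?_⟩
    have h1 := congrArg (fun k => k.hom ((e0'.inv.app _) x)) nat
    have h1' : (e0'.hom.app (ModuleCat.of B (B ⧸ maximalIdeal B)))
        (((CohIII.TFun L (0 : ℤ)).map u).hom
          ((e0'.inv.app (ModuleCat.of B (B ⧸ maximalIdeal B ^ (n + 1)))) x)) =
        ((CohIII.HAb Z 0).map ((CohIII.tensorAFunctor B (Coh.structureModule Z)).map u))
          ((e0'.hom.app (ModuleCat.of B (B ⧸ maximalIdeal B ^ (n + 1))))
            ((e0'.inv.app (ModuleCat.of B (B ⧸ maximalIdeal B ^ (n + 1)))) x)) := h1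
    have h2 : (e0'.hom.app (ModuleCat.of B (B ⧸ maximalIdeal B ^ (n + 1))))
        ((e0'.inv.app (ModuleCat.of B (B ⧸ maximalIdeal B ^ (n + 1)))) x) = x := by
      have := congrArg (fun k => k.hom x)
        (e0'.inv_hom_id_app (ModuleCat.of B (B ⧸ maximalIdeal B ^ (n + 1))))
      exact this
    rw [h2, hx] at h1'
    have hinj : Function.Injective (e0'.hom.app (ModuleCat.of B (B ⧸ maximalIdeal B))) :=
      ((ConcreteCategory.isIso_iff_bijective _).mp inferInstance).1
    exact hinj h1'
  have he : (CohIII.TFun L (0 : ℤ)).PreservesEpimorphisms :=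
    preservesEpi_of_surjective_large L hQ 0 0 hs
  have hm : (CohIII.TFun L (0 : ℤ)).PreservesMonomorphisms := by
    have he1 : (CohIII.TFun L (1 : ℤ)).PreservesEpimorphisms :=
      ⟨fun {M N} f _ => ⟨fun g h _ => (h3 1 one_pos N).eq_of_src _ _⟩⟩
    exact (chain_preservesEpi_iff_preservesMono L hflat 1 0 (by norm_num)).1 he1
  haveI := hm
  haveI := he
  haveI : (CohIII.TFun L (0 : ℤ) ⋙ forget₂ (ModuleCat.{u} B) AddCommGrpCat.{u}).PreservesMonomorphisms :=
    inferInstance
  haveI : (CohIII.TFun L (0 : ℤ) ⋙ forget₂ (ModuleCat.{u} B) AddCommGrpCat.{u}).PreservesEpimorphisms :=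
    inferInstance
  exact ⟨Functor.PreservesMonomorphisms.of_iso e0', Functor.PreservesEpimorphisms.of_iso e0'⟩

/-- the closed fibre of a scheme over a local ring, as a pullback along `Spec (A/m) → Spec A`,
together with the comparison of structure maps -/
theorem exists_closedFibre_data (A : Type u) [CommRing A] [IsLocalRing A] (X : Scheme.{u})
    [X.Over (Spec (CommRingCat.of A))]
    (y : ↥(Spec (CommRingCat.of A))) (hy : y.asIdeal = IsLocalRing.maximalIdeal A) :
    ∃ (f₀ : (X ↘ Spec (CommRingCat.of A)).fiber y ⟶ Spec (CommRingCat.of (A ⧸ maximalIdeal A)))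
      (ρ : A →+* (Spec (CommRingCat.of A)).residueField y),
      IsPullback ((X ↘ Spec (CommRingCat.of A)).fiberι y) f₀ (X ↘ Spec (CommRingCat.of A))
        (Spec.map (CommRingCat.ofHom (Ideal.Quotient.mk (maximalIdeal A)))) ∧
      Function.Surjective ρ ∧
      φΓ (A := A) ((X ↘ Spec (CommRingCat.of A)).fiberι y) =
        (algebraMap ((Spec (CommRingCat.of A)).residueField y)
          Γ((X ↘ Spec (CommRingCat.of A)).fiber y, ⊤)).comp ρ := by
  haveI hmax : y.asIdeal.IsMaximal := hy ▸ IsLocalRing.maximalIdeal.isMaximal A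
  let ψ₁ : A ⧸ maximalIdeal A ≃+* A ⧸ y.asIdeal := Ideal.quotEquivOfEq hy.symm
  let ψ₂ : A ⧸ y.asIdeal ≃+* y.asIdeal.ResidueField :=
    RingEquiv.ofBijective (algebraMap (A ⧸ y.asIdeal) y.asIdeal.ResidueField)
      (Ideal.bijective_algebraMap_quotient_residueField y.asIdeal)
  let ι := Scheme.Spec.residueFieldIso (CommRingCat.of A) y
  let ψ : CommRingCat.of (A ⧸ maximalIdeal A) ≅ (Spec (CommRingCat.of A)).residueField y :=
    (ψ₁.trans ψ₂).toCommRingCatIso ≪≫ ι.symm
  have hψ : CommRingCat.ofHom (Ideal.Quotient.mk (maximalIdeal A)) ≫ ψ.hom =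
      CommRingCat.ofHom (algebraMap A y.asIdeal.ResidueField) ≫ ι.inv := by
    ext a
    rfl
  have he : Spec.map ψ.hom ≫ Spec.map (CommRingCat.ofHom (Ideal.Quotient.mk (maximalIdeal A))) =
      (Spec (CommRingCat.of A)).fromSpecResidueField y := by
    rw [← Spec.map_comp, hψ, Spec.map_comp]
    exact Scheme.Spec.map_residueFieldIso_inv_eq_fromSpecResidueField (CommRingCat.of A) y
  have hpb : IsPullback ((X ↘ Spec (CommRingCat.of A)).fiberι y)
      ((X ↘ Spec (CommRingCat.of A)).fiberToSpecResidueField y) (X ↘ Spec (CommRingCat.of A))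
      ((Spec (CommRingCat.of A)).fromSpecResidueField y) := IsPullback.of_hasPullback _ _
  refine ⟨(X ↘ Spec (CommRingCat.of A)).fiberToSpecResidueField y ≫ Spec.map ψ.hom,
    ι.inv.hom.comp (algebraMap A y.asIdeal.ResidueField), ?_, ?_, ?_⟩
  · refine IsPullback.of_iso hpb (Iso.refl _) (Iso.refl _) (asIso (Spec.map ψ.hom)) (Iso.refl _)
      (by simp) (by simp) (by simp) ?_
    simp only [Iso.refl_hom, Category.comp_id, asIso_hom]
    exact he.symm
  · exact (ConcreteCategory.bijective_of_isIso ι.inv).surjective.comp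
      (Ideal.algebraMap_residueField_surjective y.asIdeal)
  · ext a
    have h1 := congrArg (fun φ => φ.appTop.hom
      ((Scheme.ΓSpecIso (CommRingCat.of A)).inv.hom a))
      ((X ↘ Spec (CommRingCat.of A)).fiber_fac y)
    have h2 := congrArg (fun φ => φ.hom a)
      (Scheme.ΓSpecIso_inv_naturality
        (CommRingCat.ofHom (algebraMap A y.asIdeal.ResidueField) ≫ ι.inv))
    rw [Spec.map_comp,
      Scheme.Spec.map_residueFieldIso_inv_eq_fromSpecResidueField (CommRingCat.of A) y] at h2
    simp only [Scheme.Hom.comp_appTop, CommRingCat.hom_comp, RingHom.comp_apply] at h1 h2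
    change ((X ↘ Spec (CommRingCat.of A)).fiberι y).appTop.hom
        ((X ↘ Spec (CommRingCat.of A)).appTop.hom
          ((Scheme.ΓSpecIso (CommRingCat.of A)).inv.hom a)) =
      ((X ↘ Spec (CommRingCat.of A)).fiberToSpecResidueField y).appTop.hom
        ((Scheme.ΓSpecIso ((Spec (CommRingCat.of A)).residueField y)).inv.hom
          (ι.inv.hom (algebraMap A y.asIdeal.ResidueField a)))
    rw [h1]
    congr 1
    exact h2.symm

/-- **Cohomological flatness in degree 0** over a Noetherian local base, when the functions on the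
closed fibre form an étale algebra over the residue field. -/
theorem exact_of_etale (A : Type u) [CommRing A]
    [IsNoetherianRing A] [IsLocalRing A] (X : Scheme.{u}) [X.Over (Spec (CommRingCat.of A))]
    [IsProper (X ↘ Spec (CommRingCat.of A))] [Flat (X ↘ Spec (CommRingCat.of A))]
    (y : ↥(Spec (CommRingCat.of A))) (hy : y.asIdeal = IsLocalRing.maximalIdeal A)
    (het : Algebra.Etale ((Spec (CommRingCat.of A)).residueField y)
      Γ((X ↘ Spec (CommRingCat.of A)).fiber y, ⊤)) :
    (CohIII.tensorAFunctor A (Coh.structureModule X) ⋙ CohIII.HAb X 0).PreservesMonomorphisms ∧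
      (CohIII.tensorAFunctor A (Coh.structureModule X) ⋙ CohIII.HAb X 0).PreservesEpimorphisms := by
  obtain ⟨f₀, ρ, hsq, hρ, hφ⟩ := exists_closedFibre_data A X y hy
  refine exact_of_roots A X _ _ f₀ hsq ?_
  intro b
  obtain ⟨g₀, h0, hu⟩ := Groth.Agent.Helper1.EtRoot.exists_simple_root
    ((Spec (CommRingCat.of A)).residueField y) Γ((X ↘ Spec (CommRingCat.of A)).fiber y, ⊤) b
  obtain ⟨G, hG⟩ := Polynomial.map_surjective ρ hρ g₀
  refine ⟨G, ?_, ?_⟩
  · rw [hφ, ← Polynomial.map_map, hG]
    exact h0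
  · rw [hφ, ← Polynomial.map_map, hG]
    exact hu

end Groth.Agent.Helper1.EtFib
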