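import Groth.Agent.Helper1.Fin10
import Groth.Agent.Helper1.HHLes2
import Mathlib

/-!
# Bounds for the dimensions of cohomology along an exact sequence `0 → C₀ → C₁ → C₂ → ⋯`
-/

set_option autoImplicit false
set_option linter.style.haveILetI false

namespace Groth.Agent.Helper1.ExBound

open CategoryTheory Limits AlgebraicGeometry TopologicalSpace Opposite Abelian
open Groth.Agent.Helper1.HHLes Groth.Agent.Helper1.SerreCrit Groth.Agent.Helper1.Fin

universe u

section LinAlg

variable {k : Type u} [Field k] {U V W : Type u} [AddCommGroup U] [AddCommGroup V]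
  [AddCommGroup W] [Module k U] [Module k V] [Module k W]

theorem finrank_le_of_exact (f : U →ₗ[k] V) (g : V →ₗ[k] W) (h : Function.Exact f g)
    [FiniteDimensional k U] [FiniteDimensional k V] [FiniteDimensional k W] :
    Module.finrank k V ≤ Module.finrank k U + Module.finrank k W := by
  have h1 := LinearMap.finrank_range_add_finrank_ker g
  have h2 : LinearMap.ker g = LinearMap.range f := LinearMap.exact_iff.1 h
  have h3 : Module.finrank k (LinearMap.range f) ≤ Module.finrank k U := LinearMap.finrank_range_le f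
  have h4 : Module.finrank k (LinearMap.range g) ≤ Module.finrank k W := Submodule.finrank_le _
  rw [h2] at h1
  omega

end LinAlg

variable (k : Type u) [Field k] {X : Scheme.{u}} [X.Over (Spec (CommRingCat.of k))]

/-- dimension of cohomology -/
noncomputable def hh (F : X.Modules) (m : ℕ) : ℕ := Module.finrank k (Coh.HH X F m)

theorem hh_eq_of_iso {F G : X.Modules} (e : F ≅ G) (m : ℕ) : hh k F m = hh k G m :=
  (Groth.Agent.Helper1.ProjTop.HHlinEquiv k e m).finrank_eq

theorem hh_eq_zero_of_isZero {F : X.Modules} (h : IsZero F) (m : ℕ) : hh k F m = 0 := by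
  haveI := subsingleton_HH_of_isZero (X := X) h m
  exact Module.finrank_zero_of_subsingleton

variable (S : ShortComplex X.Modules) (hS : S.ShortExact)
  (h₁ : KFin k S.X₁) (h₂ : KFin k S.X₂) (h₃ : KFin k S.X₃)

include hS h₁ h₂ h₃

theorem hh_X₂_le (m : ℕ) : hh k S.X₂ m ≤ hh k S.X₁ m + hh k S.X₃ m := by
  haveI := h₁ m; haveI := h₂ m; haveI := h₃ m
  exact finrank_le_of_exact _ _ (exact_f_g k S hS m)

theorem hh_X₃_le (m : ℕ) : hh k S.X₃ m ≤ hh k S.X₂ m + hh k S.X₁ (m + 1) := by
  haveI := h₁ (m + 1); haveI := h₂ m; haveI := h₃ m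
  exact finrank_le_of_exact _ _ (exact_g_δ k S hS m)

theorem hh_X₁_succ_le (m : ℕ) : hh k S.X₁ (m + 1) ≤ hh k S.X₃ m + hh k S.X₂ (m + 1) := by
  haveI := h₁ (m + 1); haveI := h₂ (m + 1); haveI := h₃ m
  exact finrank_le_of_exact _ _ (exact_δ_f k S hS m)

theorem hh_X₁_zero_le : hh k S.X₁ 0 ≤ hh k S.X₂ 0 := by
  haveI := h₁ 0; haveI := h₂ 0
  haveI := hS.mono_f
  exact LinearMap.finrank_le_finrank_of_injective (injective_HHlin_zero k S.f)

end Groth.Agent.Helper1.ExBound
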