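import Groth.Agent.Helper1.ExBound
import Mathlib

/-!
# Bounds for the dimensions of cohomology along an exact sequence, continued
-/

set_option autoImplicit false
set_option linter.style.haveILetI false

namespace Groth.Agent.Helper1.ExBound

open CategoryTheory Limits AlgebraicGeometry TopologicalSpace Opposite Abelian Finset
open Groth.Agent.Helper1.HHLes Groth.Agent.Helper1.SerreCrit Groth.Agent.Helper1.Fin

universe u

variable (k : Type u) [Field k] {X : Scheme.{u}} [X.Over (Spec (CommRingCat.of k))]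
  (C : ℕ → X.Modules) (d : ∀ j, C j ⟶ C (j + 1)) (hd : ∀ j, d j ≫ d (j + 1) = 0)
  (hex : ∀ j, (ShortComplex.mk (d j) (d (j + 1)) (hd j)).Exact)
  (hC : ∀ j, KFin k (C j)) (hK : ∀ j, KFin k (kernel (d j)))

/-- `C_j → ker d_{j+1}` -/
noncomputable def gg (j : ℕ) : C j ⟶ kernel (d (j + 1)) := kernel.lift (d (j + 1)) (d j) (hd j)

include hex in
theorem epi_gg (j : ℕ) : Epi (gg C d hd j) :=
  (ShortComplex.exact_iff_epi_kernel_lift _).1 (hex j)

theorem gg_ι (j : ℕ) : gg C d hd j ≫ kernel.ι (d (j + 1)) = d j := kernel.lift_ι _ _ _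

/-- `ker (C_j → ker d_{j+1}) ≅ ker d_j` -/
noncomputable def kerIso (j : ℕ) : kernel (gg C d hd j) ≅ kernel (d j) :=
  (kernelCompMono (gg C d hd j) (kernel.ι (d (j + 1)))).symm ≪≫ kernelIsoOfEq (gg_ι C d hd j)

include hex hC hK

theorem c_le (m j : ℕ) : hh k (C j) m ≤ hh k (kernel (d j)) m + hh k (kernel (d (j + 1))) m := by
  haveI := epi_gg C d hd hex j
  have h := hh_X₂_le k (kerSC (gg C d hd j)) (kerSC_shortExact _)
    (fun n => (exactClass_KFin k).iso (kerIso C d hd j).symm (hK j) n) (hC j) (hK (j + 1)) m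
  rw [← hh_eq_of_iso k (kerIso C d hd j) m]
  exact h

theorem a_succ_le (m j : ℕ) : hh k (kernel (d j)) (m + 1) ≤
    hh k (kernel (d (j + 1))) m + hh k (C j) (m + 1) := by
  haveI := epi_gg C d hd hex j
  have h := hh_X₁_succ_le k (kerSC (gg C d hd j)) (kerSC_shortExact _)
    (fun n => (exactClass_KFin k).iso (kerIso C d hd j).symm (hK j) n) (hC j) (hK (j + 1)) m
  rw [← hh_eq_of_iso k (kerIso C d hd j) (m + 1)]
  exact h

theorem a_zero_le (j : ℕ) : hh k (kernel (d j)) 0 ≤ hh k (C j) 0 := by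
  haveI := epi_gg C d hd hex j
  have h := hh_X₁_zero_le k (kerSC (gg C d hd j)) (kerSC_shortExact _)
    (fun n => (exactClass_KFin k).iso (kerIso C d hd j).symm (hK j) n) (hC j) (hK (j + 1))
  rw [← hh_eq_of_iso k (kerIso C d hd j) 0]
  exact h

theorem a_le' (m j : ℕ) : hh k (kernel (d (j + 1))) m ≤
    hh k (C j) m + hh k (kernel (d j)) (m + 1) := by
  haveI := epi_gg C d hd hex j
  have h := hh_X₃_le k (kerSC (gg C d hd j)) (kerSC_shortExact _)
    (fun n => (exactClass_KFin k).iso (kerIso C d hd j).symm (hK j) n) (hC j) (hK (j + 1)) m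
  rw [← hh_eq_of_iso k (kerIso C d hd j) (m + 1)]
  exact h

theorem a_le : ∀ (m j : ℕ), hh k (kernel (d j)) m ≤ ∑ t ∈ range (m + 1), hh k (C (j + t)) (m - t) := by
  intro m
  induction m with
  | zero =>
    intro j
    rw [sum_range_one]
    exact a_zero_le k C d hd hex hC hK j
  | succ m ih =>
    intro j
    rw [sum_range_succ']
    have h1 := a_succ_le k C d hd hex hC hK m j
    have h2 := ih (j + 1)
    have h3 : ∑ t ∈ range (m + 1), hh k (C (j + 1 + t)) (m - t) =
        ∑ t ∈ range (m + 1), hh k (C (j + (t + 1))) (m + 1 - (t + 1)) := by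
      refine sum_congr rfl (fun t _ => ?_)
      rw [Nat.add_sub_add_right, add_assoc, add_comm 1 t]
    rw [h3] at h2
    simp only [add_zero, Nat.sub_zero]
    omega

/-- the main bound -/
theorem main [Mono (d 0)] (i : ℕ) :
    |(hh k (C 0) i : ℤ) - (hh k (C 1) i : ℤ)| ≤
      (Finset.Icc 1 (i + 1)).sum (fun j => ((hh k (C (j + 1)) (i + 1 - j)) : ℤ)) +
        (Finset.Icc 1 i).sum (fun j => ((hh k (C (j + 1)) (i - j)) : ℤ)) := by
  have hz : ∀ m, hh k (kernel (d 0)) m = 0 := fun m =>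
    hh_eq_zero_of_isZero k (isZero_kernel_of_mono (d 0)) m
  -- `h^i(C_0) = h^i(K_1)`
  have e1 : hh k (C 0) i = hh k (kernel (d 1)) i := by
    have h1 : hh k (C 0) i ≤ hh k (kernel (d 0)) i + hh k (kernel (d 1)) i :=
      c_le k C d hd hex hC hK i 0
    have h2 : hh k (kernel (d 1)) i ≤ hh k (C 0) i + hh k (kernel (d 0)) (i + 1) :=
      a_le' k C d hd hex hC hK i 0
    rw [hz] at h1 h2
    omega
  have h3 : hh k (C 1) i ≤ hh k (kernel (d 1)) i + hh k (kernel (d 2)) i :=
    c_le k C d hd hex hC hK i 1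
  have h4 := a_le k C d hd hex hC hK i 2
  have s1 : (Finset.Icc 1 (i + 1)).sum (fun j => ((hh k (C (j + 1)) (i + 1 - j)) : ℤ)) =
      ((∑ t ∈ range (i + 1), hh k (C (2 + t)) (i - t) : ℕ) : ℤ) := by
    rw [← Finset.Ico_add_one_right_eq_Icc, Finset.sum_Ico_eq_sum_range]
    push_cast
    refine sum_congr (by simp) (fun t _ => ?_)
    have e2 : 1 + t + 1 = 2 + t := by omega
    have e3 : i + 1 - (1 + t) = i - t := by omega
    rw [e2, e3]
  have s2 : (Finset.Icc 1 i).sum (fun j => ((hh k (C (j + 1)) (i - j)) : ℤ)) =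
      ((∑ t ∈ range i, hh k (C (2 + t)) (i - 1 - t) : ℕ) : ℤ) := by
    rw [← Finset.Ico_add_one_right_eq_Icc, Finset.sum_Ico_eq_sum_range]
    push_cast
    refine sum_congr (by simp) (fun t _ => ?_)
    have e2 : 1 + t + 1 = 2 + t := by omega
    have e3 : i - (1 + t) = i - 1 - t := by omega
    rw [e2, e3]
  rw [s1, s2, e1, abs_le]
  cases i with
  | zero =>
    have h5 := a_zero_le k C d hd hex hC hK 1
    simp only [range_zero, sum_empty, Nat.cast_zero, add_zero]
    constructor <;> omega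
  | succ i =>
    have h5 : hh k (kernel (d 1)) (i + 1) ≤ hh k (kernel (d 2)) i + hh k (C 1) (i + 1) :=
      a_succ_le k C d hd hex hC hK i 1
    have h6 := a_le k C d hd hex hC hK i 2
    have e4 : ∀ t, i + 1 - 1 - t = i - t := fun t => by omega
    simp only [e4]
    constructor <;> omega

end Groth.Agent.Helper1.ExBound
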