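import Mathlib
import Groth.Agent.Helper1.ExtSh9
import Groth.Agent.Helper9.TildeTen1

/-!
# ExtAff1: the comparison `tilde (Hom_A(M, N)) ⟶ ℋom(M~, N~)` on `Spec A`, natural in `M`
-/

set_option autoImplicit false
set_option linter.style.haveILetI false
set_option linter.unusedSectionVars false

universe u

open CategoryTheory CategoryTheory.Limits AlgebraicGeometry Opposite MonoidalCategory
open Groth.Agent.Helper9.TensorSh Groth.Agent.Helper9.TensorAdj Groth.Agent.Helper9.TensorFlat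
  Groth.Agent.Helper9.TildeTen1 Groth.Agent.Helper1.ExtSh

namespace Groth.Agent.Helper1.ExtAff

attribute [local instance] hasSheafHom

variable {A : Type u} [CommRing A]

/-- the `A`-module `Hom_A(M, N)` -/
abbrev homMod (M N : ModuleCat.{u} A) : ModuleCat.{u} A := ModuleCat.of A (M ⟶ N)

/-- `Hom_A(g, N)` -/
noncomputable def homPre {M M' : ModuleCat.{u} A} (g : M' ⟶ M) (N : ModuleCat.{u} A) :
    homMod M N ⟶ homMod M' N :=
  ModuleCat.ofHom (Linear.leftComp A N g)

lemma homPre_apply {M M' : ModuleCat.{u} A} (g : M' ⟶ M) (N : ModuleCat.{u} A) (f : M ⟶ N) :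
    (homPre g N).hom f = g ≫ f := rfl

/-- evaluation `Hom_A(M, N) ⊗ M ⟶ N` -/
noncomputable def ev (M N : ModuleCat.{u} A) : homMod M N ⊗ M ⟶ N :=
  ModuleCat.ofHom (TensorProduct.lift (ModuleCat.homLinearEquiv (S := A)).toLinearMap)

lemma ev_tmul (M N : ModuleCat.{u} A) (f : M ⟶ N) (m : M) :
    (ev M N).hom (f ⊗ₜ[A] m) = f.hom m := rfl

lemma ev_dinat {M M' : ModuleCat.{u} A} (g : M' ⟶ M) (N : ModuleCat.{u} A) :
    (homPre g N ▷ M') ≫ ev M' N = (homMod M N ◁ g) ≫ ev M N := by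
  apply ModuleCat.MonoidalCategory.tensor_ext
  intro f m
  rfl

local notation "XA" => Spec (CommRingCat.of A)

/-- `tilde` on `A`-modules -/
noncomputable abbrev tl (M : ModuleCat.{u} A) : (Spec (CommRingCat.of A)).Modules :=
  tilde (R := CommRingCat.of A) M

/-- `tilde` on morphisms -/
noncomputable abbrev tlMap {M M' : ModuleCat.{u} A} (g : M ⟶ M') : tl M ⟶ tl M' :=
  tilde.map (R := CommRingCat.of A) g

/-- `P~ ⊗ M~ ≅ (P ⊗ M)~` -/
noncomputable def tt (P M : ModuleCat.{u} A) : (TNX (tl M)).obj (tl P) ≅ tl (P ⊗ M) :=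
  ttIso (R := CommRingCat.of A) P M

lemma tt_natural_left {P P' : ModuleCat.{u} A} (f : P ⟶ P') (M : ModuleCat.{u} A) :
    (TNX (tl M)).map (tlMap f) ≫ (tt P' M).hom = (tt P M).hom ≫ tlMap (f ▷ M) :=
  ttIso_natural_left (R := CommRingCat.of A) f M

lemma tt_natural_right (P : ModuleCat.{u} A) {M M' : ModuleCat.{u} A} (g : M ⟶ M') :
    ((DCoh.tensorBi (X := Spec (CommRingCat.of A))).obj (tl P)).map (tlMap g) ≫ (tt P M').hom =
      (tt P M).hom ≫ tlMap (P ◁ g) :=
  ttIso_natural_right (R := CommRingCat.of A) P g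

/-- the adjoint of `θ` -/
noncomputable def θadj (M N : ModuleCat.{u} A) : (TNX (tl M)).obj (tl (homMod M N)) ⟶ tl N :=
  (tt (homMod M N) M).hom ≫ tlMap (ev M N)

/-- **the comparison `Hom_A(M, N)~ ⟶ ℋom(M~, N~)`** -/
noncomputable def θ (M N : ModuleCat.{u} A) : tl (homMod M N) ⟶ (SH (tl M)).obj (tl N) :=
  (adjX (tl M)).homEquiv _ _ (θadj M N)

lemma homEquiv_symm_θ (M N : ModuleCat.{u} A) :
    ((adjX (tl M)).homEquiv _ _).symm (θ M N) = θadj M N :=
  Equiv.symm_apply_apply _ _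

/-- naturality of `θ` in the first variable -/
theorem θ_natural {M M' : ModuleCat.{u} A} (g : M' ⟶ M) (N : ModuleCat.{u} A) :
    tlMap (homPre g N) ≫ θ M' N =
      θ M N ≫ (ExtSupp.sheafHomMap (O := (Spec (CommRingCat.of A)).sheaf) (tlMap g)).app (tl N) := by
  apply ((adjX (tl M')).homEquiv _ _).symm.injective
  have hL : ((adjX (tl M')).homEquiv _ _).symm (tlMap (homPre g N) ≫ θ M' N) =
      (TNX (tl M')).map (tlMap (homPre g N)) ≫ θadj M' N := by
    rw [Adjunction.homEquiv_naturality_left_symm, homEquiv_symm_θ]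
  have hR : ((adjX (tl M')).homEquiv _ _).symm (θ M N ≫
      (ExtSupp.sheafHomMap (O := (Spec (CommRingCat.of A)).sheaf) (tlMap g)).app (tl N)) =
      ((DCoh.tensorBi (X := Spec (CommRingCat.of A))).obj (tl (homMod M N))).map (tlMap g) ≫
        θadj M N :=
    (homEquiv_symm_comp_sheafHomMap (O := (Spec (CommRingCat.of A)).sheaf)
      (tlMap g) (θ M N)).trans (congrArg (_ ≫ ·) (homEquiv_symm_θ M N))
  rw [hL, hR]
  unfold θadj
  rw [← Category.assoc, tt_natural_left, Category.assoc]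
  have h2 := tt_natural_right (homMod M N) g
  refine Eq.trans ?_ (Category.assoc _ _ _)
  refine Eq.trans ?_ (congrArg (· ≫ tlMap (ev M N)) h2.symm)
  rw [Category.assoc]
  congr 1
  show tilde.map _ ≫ tilde.map _ = tilde.map _ ≫ tilde.map _
  rw [← tilde.map_comp, ← tilde.map_comp, ev_dinat]

end Groth.Agent.Helper1.ExtAff
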