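import Mathlib
import Groth.Agent.Helper1.ExtAff1

set_option autoImplicit false
set_option linter.style.haveILetI false
set_option linter.unusedSectionVars false

universe u

open CategoryTheory CategoryTheory.Limits AlgebraicGeometry Opposite MonoidalCategory
open Groth.Agent.Helper9.TensorSh Groth.Agent.Helper9.TensorAdj Groth.Agent.Helper9.TensorFlat
  Groth.Agent.Helper9.TildeTen1 Groth.Agent.Helper1.ExtSh

namespace Groth.Agent.Helper1.ExtAff

attribute [local instance] hasSheafHom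

variable {A : Type u} [CommRing A]

section abstract

variable {ℬ : Type*} [Category ℬ] [Preadditive ℬ]

/-- the dual basis argument: a transformation which is an isomorphism at `A` is an isomorphism at
every retract of `Aⁿ` -/
theorem isIso_of_dual_basis {ΦM ΨM ΦA ΨA : ℬ} (θM : ΦM ⟶ ΨM) (θA : ΦA ⟶ ΨA) [IsIso θA]
    {ι : Type*} [Fintype ι] (φι : ι → (ΦM ⟶ ΦA)) (φπ : ι → (ΦA ⟶ ΦM))
    (ψι : ι → (ΨM ⟶ ΨA)) (ψπ : ι → (ΨA ⟶ ΨM))
    (h1 : ∀ j, θM ≫ ψι j = φι j ≫ θA) (h2 : ∀ j, φπ j ≫ θM = θA ≫ ψπ j)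
    (h3 : ∑ j, φι j ≫ φπ j = 𝟙 ΦM) (h4 : ∑ j, ψι j ≫ ψπ j = 𝟙 ΨM) : IsIso θM := by
  refine ⟨∑ j, ψι j ≫ inv θA ≫ φπ j, ?_, ?_⟩
  · rw [Preadditive.comp_sum, ← h3]
    refine Finset.sum_congr rfl (fun j _ => ?_)
    rw [← Category.assoc, h1, Category.assoc, IsIso.hom_inv_id_assoc]
  · rw [Preadditive.sum_comp, ← h4]
    refine Finset.sum_congr rfl (fun j _ => ?_)
    rw [Category.assoc, Category.assoc, h2, IsIso.inv_hom_id_assoc]

end abstract

/-- `θ` is an isomorphism as soon as `- ⊗ M~` is an equivalence and the evaluation is an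
isomorphism -/
theorem isIso_θ_of (M N : ModuleCat.{u} A) (h1 : (TNX (tl M)).IsEquivalence)
    (h2 : IsIso (ev M N)) : IsIso (θ M N) := by
  rw [isIso_iff_yoneda_map_bijective]
  intro T
  haveI : IsIso (θadj M N) := by
    unfold θadj
    haveI : IsIso (tlMap (ev M N)) :=
      inferInstanceAs (IsIso ((tilde.functor (CommRingCat.of A)).map (ev M N)))
    infer_instance
  have hb : Function.Bijective (fun x : T ⟶ tl (homMod M N) =>
      ((adjX (tl M)).homEquiv _ _).symm (x ≫ θ M N)) := by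
    have he : (fun x : T ⟶ tl (homMod M N) => ((adjX (tl M)).homEquiv _ _).symm (x ≫ θ M N)) =
        fun x => (TNX (tl M)).map x ≫ θadj M N := by
      funext x
      rw [Adjunction.homEquiv_naturality_left_symm, homEquiv_symm_θ]
    rw [he]
    constructor
    · intro x y hxy
      exact (TNX (tl M)).map_injective ((cancel_mono (θadj M N)).1 hxy)
    · intro y
      obtain ⟨x, hx⟩ := (TNX (tl M)).map_surjective (y ≫ inv (θadj M N))
      refine ⟨x, ?_⟩
      show (TNX (tl M)).map x ≫ θadj M N = y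
      rw [hx, Category.assoc, IsIso.inv_hom_id, Category.comp_id]
  exact (Function.Bijective.of_comp_iff' ((adjX (tl M)).homEquiv T _).symm.bijective _).1 hb

/-- `- ⊗ A~` is an equivalence -/
theorem isEquivalence_TNX_self : (TNX (tl (ModuleCat.of A A))).IsEquivalence := by
  have e : TNX (tl (ModuleCat.of A A)) ≅ 𝟭 _ :=
    Groth.Agent.Helper9.Unitor1.rUnitorIso (O := (Spec (CommRingCat.of A)).sheaf)
  exact Functor.isEquivalence_of_iso e.symm

/-- the evaluation `Hom(A, N) ⊗ A → N` is an isomorphism -/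
theorem isIso_ev_self (N : ModuleCat.{u} A) : IsIso (ev (ModuleCat.of A A) N) := by
  let e : (TensorProduct A ((ModuleCat.of A A) ⟶ N) A) ≃ₗ[A] N :=
    (TensorProduct.rid A _).trans ((ModuleCat.homLinearEquiv (S := A)).trans
      (LinearMap.ringLmapEquivSelf A A N))
  have h : ev (ModuleCat.of A A) N = e.toModuleIso.hom := by
    apply ModuleCat.MonoidalCategory.tensor_ext
    intro f a
    show f.hom a = a • (f.hom (1 : A))
    rw [← map_smul, smul_eq_mul, mul_one]
  rw [h]
  infer_instance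

theorem isIso_θ_self (N : ModuleCat.{u} A) : IsIso (θ (ModuleCat.of A A) N) :=
  isIso_θ_of _ N isEquivalence_TNX_self (isIso_ev_self N)

lemma homPre_comp {M M' M'' : ModuleCat.{u} A} (g : M' ⟶ M) (g' : M'' ⟶ M') (N : ModuleCat.{u} A) :
    homPre (g' ≫ g) N = homPre g N ≫ homPre g' N := by
  apply ModuleCat.hom_ext
  apply LinearMap.ext
  intro f
  exact Category.assoc g' g f

lemma homPre_id (M N : ModuleCat.{u} A) : homPre (𝟙 M) N = 𝟙 _ := by
  apply ModuleCat.hom_ext
  apply LinearMap.ext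
  intro f
  exact Category.id_comp f

lemma homPre_sum {M M' : ModuleCat.{u} A} {ι : Type*} (s : Finset ι) (g : ι → (M' ⟶ M))
    (N : ModuleCat.{u} A) : homPre (∑ j ∈ s, g j) N = ∑ j ∈ s, homPre (g j) N := by
  apply ModuleCat.hom_ext
  apply LinearMap.ext
  intro f
  show (∑ j ∈ s, g j) ≫ f = (∑ j ∈ s, homPre (g j) N).hom f
  rw [Preadditive.sum_comp, ModuleCat.hom_sum, LinearMap.sum_apply]
  rfl

lemma tilde_map_sum (R : CommRingCat.{u}) {M M' : ModuleCat.{u} R} {ι : Type*} (s : Finset ι)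
    (g : ι → (M ⟶ M')) : tilde.map (∑ j ∈ s, g j) = ∑ j ∈ s, tilde.map (g j) :=
  (tilde.functor R).map_sum g s

lemma tlMap_sum {M M' : ModuleCat.{u} A} {ι : Type*} (s : Finset ι) (g : ι → (M ⟶ M')) :
    tlMap (∑ j ∈ s, g j) = ∑ j ∈ s, tlMap (g j) :=
  tilde_map_sum (CommRingCat.of A) s g

/-- **`θ` is an isomorphism for `M` finite free** -/
theorem isIso_θ_of_finite_free (F N : ModuleCat.{u} A) [Module.Finite A F] [Module.Free A F] :
    IsIso (θ F N) := by
  let b := Module.Free.chooseBasis A F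
  let ιj : Module.Free.ChooseBasisIndex A F → (ModuleCat.of A A ⟶ F) :=
    fun j => ModuleCat.ofHom (LinearMap.toSpanSingleton A F (b j))
  let πj : Module.Free.ChooseBasisIndex A F → (F ⟶ ModuleCat.of A A) :=
    fun j => ModuleCat.ofHom (b.coord j)
  have hsum : ∑ j, πj j ≫ ιj j = 𝟙 F := by
    ext x
    rw [ModuleCat.hom_sum, LinearMap.sum_apply]
    show ∑ j, (b.coord j x) • b j = x
    exact b.sum_repr x
  haveI := isIso_θ_self (A := A) N
  refine isIso_of_dual_basis (θ F N) (θ (ModuleCat.of A A) N)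
    (fun j => tlMap (homPre (ιj j) N)) (fun j => tlMap (homPre (πj j) N))
    (fun j => (ExtSupp.sheafHomMap (O := (Spec (CommRingCat.of A)).sheaf)
      (tlMap (ιj j))).app (tl N))
    (fun j => (ExtSupp.sheafHomMap (O := (Spec (CommRingCat.of A)).sheaf)
      (tlMap (πj j))).app (tl N))
    (fun j => (θ_natural (ιj j) N).symm) (fun j => θ_natural (πj j) N) ?_ ?_
  · have h : ∀ j, tlMap (homPre (ιj j) N) ≫ tlMap (homPre (πj j) N) =
        tlMap (homPre (πj j ≫ ιj j) N) := by
      intro j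
      rw [homPre_comp]
      exact (tilde.map_comp _ _).symm
    rw [Finset.sum_congr rfl (fun j _ => h j), ← tlMap_sum, ← homPre_sum, hsum, homPre_id]
    exact tilde.map_id
  · have h : ∀ j, (ExtSupp.sheafHomMap (O := (Spec (CommRingCat.of A)).sheaf)
        (tlMap (ιj j))).app (tl N) ≫ (ExtSupp.sheafHomMap (O := (Spec (CommRingCat.of A)).sheaf)
        (tlMap (πj j))).app (tl N) = (ExtSupp.sheafHomMap (O := (Spec (CommRingCat.of A)).sheaf)
        (tlMap (πj j ≫ ιj j))).app (tl N) := by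
      intro j
      rw [← NatTrans.comp_app, sheafHomMap_comp]
      congr 2
      exact (tilde.map_comp _ _).symm
    refine (Finset.sum_congr rfl (fun j _ => h j)).trans ?_
    rw [← NatTrans.app_sum, ← sheafHomMap_sum]
    have key0 : ∑ j, tlMap (πj j ≫ ιj j) = 𝟙 (tl F) := by
      rw [← tlMap_sum, hsum]
      exact tilde.map_id
    refine (congrArg (fun t => (ExtSupp.sheafHomMap (O := (Spec (CommRingCat.of A)).sheaf)
      (M := tl F) (M' := tl F) t).app (tl N)) key0).trans ?_
    exact congrArg (fun t => t.app (tl N))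
      (sheafHomMap_id (O := (Spec (CommRingCat.of A)).sheaf) (M := tl F))

end Groth.Agent.Helper1.ExtAff
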