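import Mathlib
import Groth.Agent.Helper1.ExtAff2
import Groth.Agent.Helper1.ExtSh5
import Groth.Agent.Helper1.ExtBridgeLin
import Groth.Agent.Helper3.FinFreeRes
import Groth.Agent.Helper4.FinLocFree2
import Groth.Agent.Helper4.TildeExact

/-!
# ExtAff3: `ℰxtⁱ(M~, N~) ≅ (Extⁱ_A(M, N))~` on `Spec A` for `A` Noetherian and `M` finite
-/

set_option autoImplicit false
set_option linter.style.haveILetI false
set_option linter.unusedSectionVars false

universe u

open CategoryTheory CategoryTheory.Limits AlgebraicGeometry Opposite MonoidalCategory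
open Groth.Agent.Helper9.TensorSh Groth.Agent.Helper9.TensorAdj Groth.Agent.Helper9.TensorFlat
  Groth.Agent.Helper9.TildeTen1 Groth.Agent.Helper1.ExtSh

namespace Groth.Agent.Helper1.ExtAff

attribute [local instance] hasSheafHom

section general

variable (R : CommRingCat.{u})

/-- `tilde` commutes with the cohomology of complexes -/
noncomputable def tildeHomologyIso (K' : CochainComplex (ModuleCat.{u} R) ℕ) (i : ℕ) :
    ((((tilde.functor R).mapHomologicalComplex _).obj K').homology i) ≅
      (tilde.functor R).obj (K'.homology i) :=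
  (K'.sc i).mapHomologyIso (tilde.functor R)

/-- `tilde` preserves exactness of chain complexes -/
theorem tilde_exactAt (P : ChainComplex (ModuleCat.{u} R) ℕ) (i : ℕ) (h : P.ExactAt i) :
    (((tilde.functor R).mapHomologicalComplex _).obj P).ExactAt i := by
  rw [HomologicalComplex.exactAt_iff] at h ⊢
  exact h.map (tilde.functor R)

theorem tilde_exact (S : ShortComplex (ModuleCat.{u} R)) (h : S.Exact) :
    (S.map (tilde.functor R)).Exact := h.map (tilde.functor R)

/-- `tilde` of a finite free module is finite locally free -/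
theorem isFinLocFree_tilde (F : ModuleCat.{u} R) [Module.Finite R F] [Module.Free R F] :
    FlatMod.IsFinLocFree (tilde F) := by
  obtain ⟨n, ⟨e⟩⟩ := Groth.Agent.Helper4.FinLocFree.exists_fin_equiv R F
  have e1 : tilde F ≅ FlatMod.freeMod (Spec R) n :=
    (tilde.functor R).mapIso e.toModuleIso ≪≫ Groth.Agent.Helper4.FinLocFree.tildeFreeIso R n
  exact Groth.Agent.Helper4.FinLocFree2.isFinLocFree_of_iso e1.symm
    (Groth.Agent.Helper4.FinLocFree2.isFinLocFree_freeMod n)

theorem additive_tildeFunctor : (tilde.functor R).Additive := inferInstance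
theorem pfl_tildeFunctor : PreservesFiniteLimits (tilde.functor R) := inferInstance
theorem pfc_tildeFunctor : PreservesFiniteColimits (tilde.functor R) := inferInstance

end general

section inst
variable (A : Type u) [CommRing A]
instance instAdditiveTilde : (tilde.functor (CommRingCat.of A)).Additive :=
  additive_tildeFunctor _
instance instPFLTilde : PreservesFiniteLimits (tilde.functor (CommRingCat.of A)) :=
  pfl_tildeFunctor _
instance instPFCTilde : PreservesFiniteColimits (tilde.functor (CommRingCat.of A)) :=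
  pfc_tildeFunctor _
end inst

variable {A : Type u} [CommRing A]

/-- termwise `tilde` of a chain complex -/
noncomputable def Ecx (P : ChainComplex (ModuleCat.{u} A) ℕ) :
    ChainComplex (Spec (CommRingCat.of A)).Modules ℕ :=
  ((tilde.functor (CommRingCat.of A)).mapHomologicalComplex _).obj P

lemma Ecx_d (P : ChainComplex (ModuleCat.{u} A) ℕ) (i j : ℕ) :
    (Ecx P).d i j = tlMap (P.d i j) := rfl

/-- termwise `tilde` of a cochain complex -/
noncomputable def Kcx (K' : CochainComplex (ModuleCat.{u} A) ℕ) :
    CochainComplex (Spec (CommRingCat.of A)).Modules ℕ :=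
  ((tilde.functor (CommRingCat.of A)).mapHomologicalComplex _).obj K'

lemma Kcx_d (K' : CochainComplex (ModuleCat.{u} A) ℕ) (i j : ℕ) :
    (Kcx K').d i j = tlMap (K'.d i j) := rfl

lemma linearYonedaObj_d_eq (P : ChainComplex (ModuleCat.{u} A) ℕ) (N : ModuleCat.{u} A) (i j : ℕ) :
    (P.linearYonedaObj A N).d i j = homPre (P.d j i) N := rfl

section main

variable [HasInjectiveResolutions (ModSite.Mod (Spec (CommRingCat.of A)).sheaf)]
  (M N : ModuleCat.{u} A) (P : ProjectiveResolution M)
  (hP : ∀ n : ℕ, Module.Finite A (P.complex.X n) ∧ Module.Free A (P.complex.X n))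

/-- the augmentation -/
noncomputable def π0 : P.complex.X 0 ⟶ M := P.π.f 0

instance : Epi (π0 M P) := inferInstanceAs (Epi (P.π.f 0))

lemma d_π0 : P.complex.d 1 0 ≫ π0 M P = 0 := P.complex_d_comp_π_f_zero

lemma exact_π0 : (ShortComplex.mk (P.complex.d 1 0) (π0 M P) (d_π0 M P)).Exact :=
  ShortComplex.exact_of_g_is_cokernel _ P.isColimitCokernelCofork

/-- the augmentation of the `tilde` of the resolution -/
noncomputable def πE : (Ecx P.complex).X 0 ⟶ tl M := tlMap (π0 M P)

instance : Epi (πE M P) :=
  inferInstanceAs (Epi ((tilde.functor (CommRingCat.of A)).map (π0 M P)))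

lemma d_πE : (Ecx P.complex).d 1 0 ≫ πE M P = 0 := by
  show tlMap (P.complex.d 1 0) ≫ tlMap (π0 M P) = 0
  refine (tilde.map_comp _ _).symm.trans ?_
  rw [d_π0]
  exact tilde.map_zero

lemma exact_πE : (ShortComplex.mk ((Ecx P.complex).d 1 0) (πE M P) (d_πE M P)).Exact :=
  tilde_exact (CommRingCat.of A)
    (ShortComplex.mk (P.complex.d 1 0) (π0 M P) (d_π0 M P)) (exact_π0 M P)

lemma exactAt_Ecx (j : ℕ) : (Ecx P.complex).ExactAt (j + 1) :=
  tilde_exactAt (CommRingCat.of A) P.complex (j + 1) (P.complex_exactAt_succ j)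

include hP in
lemma acyclic_Ecx (j q : ℕ) (G : ModSite.Mod (Spec (CommRingCat.of A)).sheaf) :
    IsZero ((ModSite.extSh ((Ecx P.complex).X j) (q + 1)).obj G) := by
  haveI := (hP j).1
  haveI := (hP j).2
  exact isZero_extSh_of_isFinLocFree _ (isFinLocFree_tilde (CommRingCat.of A) (P.complex.X j)) q G

include hP in
lemma isIso_θ_res (j : ℕ) : IsIso (θ (P.complex.X j) N) := by
  haveI := (hP j).1
  haveI := (hP j).2
  exact isIso_θ_of_finite_free _ N

/-- the termwise comparison -/
noncomputable def eK (j : ℕ) : (Kcx (P.complex.linearYonedaObj A N)).X j ≅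
    (ModSite.sheafHom ((Ecx P.complex).X j)).obj (tl N) :=
  @asIso _ _ _ _ (θ (P.complex.X j) N) (isIso_θ_res M N P hP j)

lemma eK_comm (j : ℕ) : (Kcx (P.complex.linearYonedaObj A N)).d j (j + 1) ≫
    (eK M N P hP (j + 1)).hom = (eK M N P hP j).hom ≫
      (ExtSupp.sheafHomMap ((Ecx P.complex).d (j + 1) j)).app (tl N) :=
  θ_natural (P.complex.d (j + 1) j) N

include hP in
/-- the main comparison, for a resolution by finite free modules -/
theorem nonempty_extSh_iso_of_resolution (i : ℕ) :
    Nonempty ((ModSite.extSh (O := (Spec (CommRingCat.of A)).sheaf) (tl M) i).obj (tl N) ≅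
      tl ((P.complex.linearYonedaObj A N).homology i)) := by
  obtain ⟨e1⟩ := @nonempty_homology_iso_extSh _ _ _ (Spec (CommRingCat.of A)).sheaf _
    (tl M) (tl N) (Ecx P.complex) (πE M P) (inferInstanceAs (Epi (πE M P))) (d_πE M P)
    (exact_πE M P) (exactAt_Ecx M P) (acyclic_Ecx M P hP)
    (Kcx (P.complex.linearYonedaObj A N)) (eK M N P hP) (eK_comm M N P hP) i
  exact ⟨e1.symm ≪≫ tildeHomologyIso (CommRingCat.of A) (P.complex.linearYonedaObj A N) i⟩

end main

end Groth.Agent.Helper1.ExtAff
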