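import Mathlib
import Groth.Agent.Helper1.ExtAff3
import Groth.Agent.Helper1.ExtRes3
import Groth.Agent.Helper4.SecDict

/-!
# ExtAff4: sections of the Ext sheaves over an affine open:
`Γ(U, ℰxtⁱ(F, G)) ≃ₗ Extⁱ_{Γ(X,U)}(F(U), G(U))` for `F` coherent, `G` quasi-coherent on a locally
Noetherian scheme
-/

set_option autoImplicit false
set_option linter.style.haveILetI false
set_option linter.unusedSectionVars false

universe u

open CategoryTheory CategoryTheory.Limits AlgebraicGeometry Opposite MonoidalCategory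
open Groth.Agent.Helper9.TensorSh Groth.Agent.Helper9.TensorAdj Groth.Agent.Helper9.TensorFlat
  Groth.Agent.Helper1.ExtSh Groth.Agent.Helper1.ExtRes

namespace Groth.Agent.Helper1.ExtAff

attribute [local instance] hasSheafHom

section iso

variable {C : Type u} [SmallCategory C] {J : GrothendieckTopology C} {O : Sheaf J CommRingCat.{u}}

/-- `ℋom(M, -) ≅ ℋom(M', -)` for `M ≅ M'` -/
noncomputable def sheafHomIsoOfIso {M M' : ModSite.Mod O} (e : M ≅ M') :
    ModSite.sheafHom M ≅ ModSite.sheafHom M' where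
  hom := ExtSupp.sheafHomMap e.inv
  inv := ExtSupp.sheafHomMap e.hom
  hom_inv_id := by rw [sheafHomMap_comp, e.hom_inv_id, sheafHomMap_id]
  inv_hom_id := by rw [sheafHomMap_comp, e.inv_hom_id, sheafHomMap_id]

/-- `ℰxtⁿ(M, -) ≅ ℰxtⁿ(M', -)` for `M ≅ M'` -/
noncomputable def extShIsoOfIso [HasInjectiveResolutions (ModSite.Mod O)] {M M' : ModSite.Mod O}
    (e : M ≅ M') (n : ℕ) : ModSite.extSh M n ≅ ModSite.extSh M' n :=
  Groth.Agent.Helper1.DeltaFun.rightDerivedIso (sheafHomIsoOfIso e) n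

end iso

section main

open Groth.Agent.Helper4

variable {X : Scheme.{u}} [IsLocallyNoetherian X] {U : X.Opens} (hU : IsAffineOpen U)
  (F G : X.Modules) (hF : Coh.IsCoh F) (hG : SheafOfModules.IsQuasicoherent (R := X.ringCatSheaf) G)
  [ModSite.HasSheafHom (O := X.sheaf) F] [HasInjectiveResolutions (ModSite.Mod X.sheaf)]

set_option backward.isDefEq.respectTransparency false in
/-- a quasi-coherent module restricted to an affine open is the `tilde` of its sections -/
theorem nonempty_restrict_iso_tilde (G : X.Modules) (hG : SheafOfModules.IsQuasicoherent (R := X.ringCatSheaf) G) :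
    Nonempty (G.restrict hU.fromSpec ≅
      tilde (R := Γ(X, U)) (ModuleCat.of Γ(X, U) Γ(G, U))) := by
  haveI : SheafOfModules.IsQuasicoherent (R := X.ringCatSheaf) G := hG
  let N : (Spec Γ(X, U)).Modules := G.restrict hU.fromSpec
  haveI : N.IsQuasicoherent := inferInstance
  haveI : IsIso N.fromTildeΓ := inferInstance
  let e1 : tilde (moduleSpecΓFunctor.obj N) ≅ N := asIso N.fromTildeΓ
  let e2 : ModuleCat.of Γ(X, U) Γ(G, U) ≅ (moduleSpecΓFunctor.obj N : ModuleCat Γ(X, U)) :=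
    (SecDict.sectionsEquiv hU G).toModuleIso
  exact ⟨e1.symm ≪≫ (tilde.functor Γ(X, U)).mapIso e2.symm⟩

include hU hF hG in
set_option backward.isDefEq.respectTransparency false in
/-- **sections of the Ext sheaves over an affine open** -/
theorem nonempty_sections_extSh_linearEquiv (i : ℕ) :
    Nonempty (Γ((ModSite.extSh (O := X.sheaf) F i).obj G, U) ≃ₗ[Γ(X, U)]
      Abelian.Ext.{u} (ModuleCat.of Γ(X, U) Γ(F, U)) (ModuleCat.of Γ(X, U) Γ(G, U)) i) := by
  haveI : IsNoetherianRing Γ(X, U) := IsLocallyNoetherian.component_noetherian ⟨U, hU⟩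
  haveI : Module.Finite Γ(X, U) Γ(F, U) := SecDict.finite_sections hU F hF.1 hF.2
  haveI := hasInjectiveResolutions_mod (Spec Γ(X, U))
  obtain ⟨a1⟩ := nonempty_extSh_res_iso hU.fromSpec F i
  obtain ⟨eF⟩ := nonempty_restrict_iso_tilde hU F hF.1
  obtain ⟨eG⟩ := nonempty_restrict_iso_tilde hU G hG
  let MF : ModuleCat.{u} Γ(X, U) := ModuleCat.of Γ(X, U) Γ(F, U)
  let MG : ModuleCat.{u} Γ(X, U) := ModuleCat.of Γ(X, U) Γ(G, U)
  have a2 : (ModSite.extSh (O := (Spec Γ(X, U)).sheaf) (F.restrict hU.fromSpec) i).obj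
      (G.restrict hU.fromSpec) ≅
      (ModSite.extSh (O := (Spec Γ(X, U)).sheaf) (tl MF) i).obj (tl MG) :=
    (extShIsoOfIso (O := (Spec Γ(X, U)).sheaf) eF i).app _ ≪≫
      (ModSite.extSh (O := (Spec Γ(X, U)).sheaf) (tl MF) i).mapIso eG
  obtain ⟨P, hP⟩ := Groth.Agent.Helper3.FinFreeRes.exists_finite_free_resolution MF
  obtain ⟨a3⟩ := nonempty_extSh_iso_of_resolution MF MG P hP i
  obtain ⟨b⟩ := Groth.Agent.Helper1.ExtBridgeLin.nonempty_linearEquiv MF MG i
  have e3 : (P.complex.linearYonedaObj Γ(X, U) MG).homology i ≅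
      ModuleCat.of Γ(X, U) (Abelian.Ext.{u} MF MG i) :=
    (P.isoExt i MG).symm ≪≫ b.toModuleIso
  let 𝓔 : X.Modules := (ModSite.extSh (O := X.sheaf) F i).obj G
  have tot : 𝓔.restrict hU.fromSpec ≅
      tilde (R := Γ(X, U)) (ModuleCat.of Γ(X, U) (Abelian.Ext.{u} MF MG i)) :=
    a1.app G ≪≫ a2 ≪≫ a3 ≪≫ (tilde.functor Γ(X, U)).mapIso e3
  have c1 := SecDict.sectionsEquiv hU 𝓔
  have c2 := ((moduleSpecΓFunctor (R := Γ(X, U))).mapIso tot).toLinearEquiv
  have c3 := ((tilde.toTildeΓNatIso (R := Γ(X, U))).app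
    (ModuleCat.of Γ(X, U) (Abelian.Ext.{u} MF MG i))).symm.toLinearEquiv
  exact ⟨c1.trans (c2.trans c3)⟩

end main

end Groth.Agent.Helper1.ExtAff
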