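import Mathlib
import Groth.Prelude.Def_CAlg
import Groth.Agent.Helper2.DepthCM3
import Groth.Agent.Helper2.DepthRees
import Groth.Agent.S5152

/-!
# ExtDepth1: `I`-depth and vanishing of `Extⁱ(N, M)` for `Supp N ⊆ V(I)` (Rees), including the
degenerate case `IM = M`
-/

set_option autoImplicit false
open CategoryTheory Abelian RingTheory.Sequence
universe u

namespace Groth.Agent.Helper1.ExtDepth

open Groth.Agent.Helper2.DepthRees Groth.Agent.Helper2.DepthCM Groth.Agent.Helper2.DepthCM3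

variable {A : Type u} [CommRing A]

/-- an element killing `M` kills `Extⁱ(N, M)` -/
lemma smul_ext_eq_zero_of_right (N M : ModuleCat.{u} A) (r : A) (hr : ∀ m : M, r • m = 0) (i : ℕ)
    (x : Ext.{u} N M i) : r • x = 0 := by
  rw [Ext.smul_eq_comp_mk₀]
  have h0 : r • 𝟙 M = 0 := by
    ext m
    exact hr m
  rw [h0, Ext.mk₀_zero, Ext.comp_zero]

/-- an element killing `N` kills `Extⁱ(N, M)` -/
lemma smul_ext_eq_zero_of_left (N M : ModuleCat.{u} A) (r : A) (hr : ∀ n : N, r • n = 0) (i : ℕ)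
    (x : Ext.{u} N M i) : r • x = 0 := by
  have h0 : r • 𝟙 N = 0 := by
    ext n
    exact hr n
  have h1 : (Ext.mk₀ (r • 𝟙 N)).comp x (zero_add i) = r • x := by
    rw [Ext.mk₀_smul, Ext.smul_comp, Ext.mk₀_id_comp]
  rw [← h1, h0, Ext.mk₀_zero, Ext.zero_comp]

variable [IsNoetherianRing A] (I : Ideal A)

/-- `Supp N ⊆ V(I)` means a power of each element of `I` kills `N` -/
lemma exists_pow_smul_eq_zero (N : Type u) [AddCommGroup N] [Module A N] [Module.Finite A N]
    (hN : Module.support A N ⊆ PrimeSpectrum.zeroLocus I) (a : A) (ha : a ∈ I) :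
    ∃ k : ℕ, ∀ n : N, a ^ k • n = 0 := by
  rw [Module.support_eq_zeroLocus, PrimeSpectrum.zeroLocus_subset_zeroLocus_iff] at hN
  obtain ⟨k, hk⟩ := hN ha
  exact ⟨k, fun n => Module.mem_annihilator.1 hk n⟩

/-- the degenerate case: `IM = M` and `Supp N ⊆ V(I)` force `Extⁱ(N, M) = 0` -/
theorem subsingleton_ext_of_smul_top_eq_top (N M : Type u) [AddCommGroup N] [Module A N]
    [Module.Finite A N] [AddCommGroup M] [Module A M] [Module.Finite A M]
    (hN : Module.support A N ⊆ PrimeSpectrum.zeroLocus I)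
    (hIM : I • (⊤ : Submodule A M) = ⊤) (i : ℕ) :
    Subsingleton (Ext.{u} (ModuleCat.of A N) (ModuleCat.of A M) i) := by
  obtain ⟨r, hr1, hr2⟩ := Submodule.exists_sub_one_mem_and_smul_eq_zero_of_fg_of_le_smul I
    (⊤ : Submodule A M) Module.Finite.fg_top hIM.ge
  obtain ⟨k, hk⟩ := exists_pow_smul_eq_zero I N hN (1 - r) (by
    have : 1 - r = -(r - 1) := by ring
    rw [this]
    exact I.neg_mem hr1)
  refine ⟨fun x y => ?_⟩
  suffices h : ∀ z : Ext.{u} (ModuleCat.of A N) (ModuleCat.of A M) i, z = 0 by rw [h x, h y]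
  intro z
  have h1 : r • z = 0 :=
    smul_ext_eq_zero_of_right (ModuleCat.of A N) (ModuleCat.of A M) r
      (fun m => hr2 m Submodule.mem_top) i z
  have h2 : (1 - r) ^ k • z = 0 :=
    smul_ext_eq_zero_of_left (ModuleCat.of A N) (ModuleCat.of A M) ((1 - r) ^ k) hk i z
  have h3 : ∀ j : ℕ, (1 - r) ^ j • z = z := by
    intro j
    induction j with
    | zero => simp
    | succ j ih =>
      rw [pow_succ, mul_smul, sub_smul, one_smul, h1, sub_zero, ih]
  rw [← h3 k, h2]

variable (N M : Type u) [AddCommGroup N] [Module A N] [Module.Finite A N] [AddCommGroup M]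
  [Module A M] [Module.Finite A M]

/-- **(Rees)** if `n ≤ depth_I M` and `Supp N ⊆ V(I)` then `Extⁱ(N, M) = 0` for `i < n` -/
theorem subsingleton_ext_of_le_idealDepth (n : ℕ) (hn : (n : ℕ∞) ≤ LocCoh.idealDepth I M)
    (hN : Module.support A N ⊆ PrimeSpectrum.zeroLocus I) (i : ℕ) (hi : i < n) :
    Subsingleton (Ext.{u} (ModuleCat.of A N) (ModuleCat.of A M) i) := by
  by_cases hIM : I • (⊤ : Submodule A M) = ⊤
  · exact subsingleton_ext_of_smul_top_eq_top I N M hN hIM i
  · obtain ⟨rs, h1, h2, -, h4⟩ := exists_length_eq_idealDepth I M hIM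
    rw [← h4] at hn
    have hn' : n ≤ rs.length := by exact_mod_cast hn
    have hreg : IsRegular M rs := isRegular_of_isWeaklyRegular hIM h2 h1
    exact ModuleCat.subsingleton_ext_of_exists_isRegular I (ModuleCat.of A N) hN
      (ModuleCat.of A M) (lt_top_iff_ne_top.2 hIM) rs h2 hreg i (lt_of_lt_of_le hi hn')

/-- **(Rees, converse)** if `Supp N = V(I)` and `Extⁱ(N, M) = 0` for `i < n` then `n ≤ depth_I M` -/
theorem le_idealDepth_of_subsingleton_ext (n : ℕ)
    (hN : Module.support A N = PrimeSpectrum.zeroLocus I)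
    (h : ∀ i < n, Subsingleton (Ext.{u} (ModuleCat.of A N) (ModuleCat.of A M) i)) :
    (n : ℕ∞) ≤ LocCoh.idealDepth I M := by
  by_cases hIM : I • (⊤ : Submodule A M) = ⊤
  · unfold LocCoh.idealDepth
    rw [if_pos hIM]
    exact le_top
  · obtain ⟨rs, h1, h2, h3⟩ := ModuleCat.exists_isRegular_of_exists_subsingleton_ext I n
      (ModuleCat.of A M) (lt_top_iff_ne_top.2 hIM) (ModuleCat.of A N) hN h
    rw [← h1]
    exact length_le_idealDepth rs h3.1 h2

/-- `n ≤ depth_I M` iff `n ≤ depth M_p` at all primes containing `I` -/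
theorem le_idealDepth_iff_forall_prime (n : ℕ) :
    (n : ℕ∞) ≤ LocCoh.idealDepth I M ↔ ∀ p : PrimeSpectrum A, I ≤ p.asIdeal →
      (n : ℕ∞) ≤ LocCoh.depth (Localization.AtPrime p.asIdeal)
        (LocalizedModule p.asIdeal.primeCompl M) := by
  rw [Groth.Agent.S5152.result A I M]
  simp only [le_iInf_iff]

end Groth.Agent.Helper1.ExtDepth
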