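import Mathlib
import Groth.Agent.Helper5.SOne2
import Groth.Agent.Helper4.SuppDict
import Groth.Agent.Helper4.FinLocFree5
import Groth.Agent.Helper2.Caten

/-!
# SuppDimSch: dimension of the support of a stalk

* `supportDim_add_dim_quot_le`: `dim N_p + dim B/p ≤ dim N` for any model of the localization;
* `supportDim_sections_le`: `dim Supp Γ(F, U) ≤ dim Supp F` for `U` affine open.
-/

set_option autoImplicit false
set_option linter.style.haveILetI false

universe u

open CategoryTheory AlgebraicGeometry TopologicalSpace Opposite IsLocalRing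

namespace Groth.Agent.Helper1.SuppDimSch

section Alg

variable {B : Type u} [CommRing B] {N : Type u} [AddCommGroup N] [Module B N]
  (p : Ideal B) [hp : p.IsPrime] (A : Type u) [CommRing A] [Algebra B A]
  [IsLocalization.AtPrime A p]
  {NA : Type u} [AddCommGroup NA] [Module B NA] [Module A NA] [IsScalarTower B A NA]
  (g : N →ₗ[B] NA) [IsLocalizedModule p.primeCompl g]

include p g in
theorem supportDim_add_dim_quot_le :
    Module.supportDim A NA + ringKrullDim (B ⧸ p) ≤ Module.supportDim B N := by
  by_cases hnt : Subsingleton NA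
  · rw [Module.supportDim_eq_bot_of_subsingleton, WithBot.bot_add]
    exact bot_le
  rw [not_subsingleton_iff_nontrivial] at hnt
  haveI : IsLocalRing A := IsLocalization.AtPrime.isLocalRing A p
  have hpX : (⟨p, hp⟩ : PrimeSpectrum B) ∈ Module.support B N := by
    rw [Module.mem_support_iff]
    exact (IsLocalizedModule.iso p.primeCompl g).toEquiv.nontrivial_congr.2 hnt
  let P : Module.support B N := ⟨⟨p, hp⟩, hpX⟩
  have h1 : Module.supportDim A NA ≤ ((Order.height P : ℕ∞) : WithBot ℕ∞) := by
    rw [Order.height_eq_krullDim_Iic]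
    unfold Module.supportDim
    refine Order.krullDim_le_of_strictMono
      (fun q => (⟨⟨PrimeSpectrum.comap (algebraMap B A) q.1,
        (Groth.Agent.Helper5.SOne2.mem_support_iff_comap p A g q.1).1 q.2⟩, ?_⟩ : Set.Iic P)) ?_
    · show q.1.asIdeal.comap (algebraMap B A) ≤ p
      have h1 : q.1.asIdeal ≤ maximalIdeal A := le_maximalIdeal q.1.2.ne_top
      have h2 := Ideal.comap_mono (f := algebraMap B A) h1
      have h3 : Ideal.comap (algebraMap B A) (maximalIdeal A) = p :=
        IsLocalization.AtPrime.under_maximalIdeal A p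
      rwa [h3] at h2
    · intro a b hab
      have hab' : a.1.asIdeal < b.1.asIdeal := hab
      show a.1.asIdeal.comap (algebraMap B A) < b.1.asIdeal.comap (algebraMap B A)
      rw [lt_iff_le_not_ge] at hab' ⊢
      constructor
      · exact Ideal.comap_mono hab'.1
      · intro h
        exact hab'.2 ((IsLocalization.under_le_under_iff p.primeCompl A).mp h)
  have h2 : ringKrullDim (B ⧸ p) ≤ ((Order.coheight P : ℕ∞) : WithBot ℕ∞) := by
    rw [Groth.Agent.Helper2.Caten.dimQuot_eq_coheight ⟨p, hp⟩, Order.coheight_eq_krullDim_Ici,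
      Order.coheight_eq_krullDim_Ici]
    exact Order.krullDim_le_of_strictMono
      (fun q => (⟨⟨q.1, Module.mem_support_mono q.2 hpX⟩, q.2⟩ : Set.Ici P)) (fun a b h => h)
  haveI : Nonempty (Module.support B N) := ⟨P⟩
  calc Module.supportDim A NA + ringKrullDim (B ⧸ p)
      ≤ ((Order.height P : ℕ∞) : WithBot ℕ∞) + ((Order.coheight P : ℕ∞) : WithBot ℕ∞) :=
        add_le_add h1 h2
    _ ≤ Module.supportDim B N := by
        unfold Module.supportDim
        rw [Order.krullDim_eq_iSup_height_add_coheight_of_nonempty, ← WithBot.coe_add,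
          WithBot.coe_le_coe]
        exact le_iSup (fun a : Module.support B N => Order.height a + Order.coheight a) P

end Alg

section Sch

variable {X : Scheme.{u}} {U : X.Opens} (hU : IsAffineOpen U) (F : X.Modules)

include hU in
lemma fromSpec_mem (P : PrimeSpectrum Γ(X, U)) : hU.fromSpec P ∈ U := by
  have : hU.fromSpec P ∈ Set.range hU.fromSpec := ⟨P, rfl⟩
  rw [hU.range_fromSpec] at this
  exact this

include hU in
lemma primeIdealOf_fromSpec (P : PrimeSpectrum Γ(X, U)) :
    hU.primeIdealOf ⟨hU.fromSpec P, fromSpec_mem hU P⟩ = P := by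
  apply hU.fromSpec.isOpenEmbedding.injective
  exact hU.fromSpec_primeIdealOf ⟨_, fromSpec_mem hU P⟩

include hU in
lemma fromSpec_specializes_iff (P Q : PrimeSpectrum Γ(X, U)) :
    hU.fromSpec P ⤳ hU.fromSpec Q ↔ P ≤ Q := by
  rw [PrimeSpectrum.le_iff_specializes]
  exact hU.fromSpec.isOpenEmbedding.isInducing.specializes_iff

include hU in
/-- the dimension of the support of the sections over an affine open is at most the dimension
of the support -/
theorem supportDim_sections_le [F.IsQuasicoherent] :
    Module.supportDim Γ(X, U) Γ(F, U) ≤ topologicalKrullDim ↥(CohB1.support F) := by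
  have hmem : ∀ P : Module.support Γ(X, U) Γ(F, U), hU.fromSpec P.1 ∈ CohB1.support F := by
    intro P
    rw [← Groth.Agent.Helper4.SuppDict.mem_support_iff hU F _ (fromSpec_mem hU P.1),
      primeIdealOf_fromSpec hU P.1]
    exact P.2
  unfold Module.supportDim topologicalKrullDim
  rw [← Order.krullDim_orderDual]
  refine Order.krullDim_le_of_strictMono
    (fun P => (⟨closure {(⟨hU.fromSpec (OrderDual.ofDual P).1, hmem (OrderDual.ofDual P)⟩ :
        ↥(CohB1.support F))}, isIrreducible_singleton.closure, isClosed_closure⟩ :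
      IrreducibleCloseds ↥(CohB1.support F))) ?_
  intro a b hab
  have hab' : (OrderDual.ofDual b).1 < (OrderDual.ofDual a).1 := hab
  have hsp : ∀ P Q : Module.support Γ(X, U) Γ(F, U),
      ((⟨hU.fromSpec P.1, hmem P⟩ : ↥(CohB1.support F)) ⤳ ⟨hU.fromSpec Q.1, hmem Q⟩) ↔
        P.1 ≤ Q.1 := by
    intro P Q
    rw [← fromSpec_specializes_iff hU]
    exact (Topology.IsInducing.subtypeVal.specializes_iff).symm
  rw [lt_iff_le_not_ge]
  constructor
  · show closure _ ⊆ closure _
    rw [← specializes_iff_closure_subset, hsp]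
    exact hab'.le
  · intro h
    have h' : closure _ ⊆ closure _ := h
    rw [← specializes_iff_closure_subset, hsp] at h'
    exact absurd hab' (not_lt_of_ge h')

end Sch

end Groth.Agent.Helper1.SuppDimSch
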