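import Mathlib
import Groth.Agent.Helper1.ExtDepth1
import Groth.Agent.Helper1.ExtAff4
import Groth.Agent.Helper1.SuppDimSch
import Groth.Agent.Helper1.Dev1
import Groth.Agent.Helper2.Isch
import Groth.Agent.Helper4.SuppDict

/-!
# ExtDepth2: depth of stalks and vanishing of the Ext sheaves, on a locally Noetherian scheme
-/

set_option autoImplicit false
set_option linter.style.haveILetI false
set_option linter.unusedSectionVars false

universe u

open CategoryTheory CategoryTheory.Limits AlgebraicGeometry Opposite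
open Groth.Agent.Helper4 Groth.Agent.Helper4.StalkDict

namespace Groth.Agent.Helper1.ExtDepth

variable {X : Scheme.{u}} [IsLocallyNoetherian X] {W : X.Opens} (hW : IsAffineOpen W)

include hW in
/-- **depth dictionary**: the depth of the stalk of a coherent module at a point of an affine open is
the depth of the localization of the module of sections -/
theorem depth_stalk_eq (F : X.Modules) (hF : Coh.IsCoh F) (x : X) (hx : x ∈ W) :
    LocCoh.depth (X.presheaf.stalk x) (F.presheaf.stalk x) =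
      LocCoh.depth (Localization.AtPrime (hW.primeIdealOf ⟨x, hx⟩).asIdeal)
        (LocalizedModule (hW.primeIdealOf ⟨x, hx⟩).asIdeal.primeCompl Γ(F, W)) := by
  haveI : IsNoetherianRing Γ(X, W) := IsLocallyNoetherian.component_noetherian ⟨W, hW⟩
  haveI : Module.Finite Γ(X, W) Γ(F, W) := SecDict.finite_sections hW F hF.1 hF.2
  haveI : SheafOfModules.IsQuasicoherent (R := X.ringCatSheaf) F := hF.1
  letI := sectionModStalk F x hx
  haveI := isLocalizedModule_germ hW F x hx
  letI := X.presheaf.algebra_section_stalk ⟨x, hx⟩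
  haveI := hW.isLocalization_stalk ⟨x, hx⟩
  haveI : IsScalarTower Γ(X, W) (X.presheaf.stalk x) (F.presheaf.stalk x) :=
    IsScalarTower.of_algebraMap_smul fun r m => rfl
  exact Groth.Agent.Helper2.Isch.depth_eq_of_isLocalizedModule Γ(X, W)
    (hW.primeIdealOf ⟨x, hx⟩).asIdeal Γ(F, W) (X.presheaf.stalk x) (F.presheaf.stalk x)
    (germLin F x hx)

/-- the ideal of `Γ(X, W)` of the closed subset `W ∖ U` -/
noncomputable def idealOf (U : X.Opens) : Ideal Γ(X, W) :=
  PrimeSpectrum.vanishingIdeal (hW.fromSpec ⁻¹' ((U : Set X)ᶜ))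

lemma idealOf_le_iff (U : X.Opens) (p : PrimeSpectrum Γ(X, W)) :
    idealOf hW U ≤ p.asIdeal ↔ hW.fromSpec p ∉ (U : Set X) := by
  have hcl : IsClosed (hW.fromSpec ⁻¹' ((U : Set X)ᶜ)) :=
    (U.isOpen.isClosed_compl).preimage hW.fromSpec.continuous
  have h1 : p ∈ PrimeSpectrum.zeroLocus (idealOf hW U : Set Γ(X, W)) ↔
      p ∈ hW.fromSpec ⁻¹' ((U : Set X)ᶜ) := by
    unfold idealOf
    rw [PrimeSpectrum.zeroLocus_vanishingIdeal_eq_closure]
    exact Eq.to_iff (congrArg (p ∈ ·) hcl.closure_eq)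
  rw [PrimeSpectrum.mem_zeroLocus] at h1
  exact h1

lemma zeroLocus_idealOf (U : X.Opens) :
    PrimeSpectrum.zeroLocus (idealOf hW U : Set Γ(X, W)) = hW.fromSpec ⁻¹' ((U : Set X)ᶜ) := by
  have hcl : IsClosed (hW.fromSpec ⁻¹' ((U : Set X)ᶜ)) :=
    (U.isOpen.isClosed_compl).preimage hW.fromSpec.continuous
  unfold idealOf
  rw [PrimeSpectrum.zeroLocus_vanishingIdeal_eq_closure]
  exact hcl.closure_eq

/-- depth along `W ∖ U` in terms of the stalks -/
theorem le_idealDepth_iff (U : X.Opens) (F : X.Modules) (hF : Coh.IsCoh F) (n : ℕ) :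
    (n : ℕ∞) ≤ LocCoh.idealDepth (idealOf hW U) Γ(F, W) ↔
      ∀ x : X, x ∈ W → x ∉ (U : Set X) →
        (n : ℕ∞) ≤ LocCoh.depth (X.presheaf.stalk x) (F.presheaf.stalk x) := by
  haveI : IsNoetherianRing Γ(X, W) := IsLocallyNoetherian.component_noetherian ⟨W, hW⟩
  haveI : Module.Finite Γ(X, W) Γ(F, W) := SecDict.finite_sections hW F hF.1 hF.2
  rw [le_idealDepth_iff_forall_prime]
  constructor
  · intro h x hx hxU
    rw [depth_stalk_eq hW F hF x hx]
    apply h
    rw [idealOf_le_iff, hW.fromSpec_primeIdealOf ⟨x, hx⟩]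
    exact hxU
  · intro h p hp
    have hx : hW.fromSpec p ∈ W := Groth.Agent.Helper1.SuppDimSch.fromSpec_mem hW p
    have h1 := h (hW.fromSpec p) hx ((idealOf_le_iff hW U p).1 hp)
    rw [depth_stalk_eq hW F hF _ hx,
      Groth.Agent.Helper1.SuppDimSch.primeIdealOf_fromSpec hW p] at h1
    exact h1

/-- the support of the sections in terms of the support of the module -/
theorem support_sections_subset (U : X.Opens) (G : X.Modules) (hG : Coh.IsCoh G)
    (hsupp : ∀ x ∈ CohB1.support G, x ∉ (U : Set X)) :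
    Module.support Γ(X, W) Γ(G, W) ⊆ PrimeSpectrum.zeroLocus (idealOf hW U : Set Γ(X, W)) := by
  haveI : SheafOfModules.IsQuasicoherent (R := X.ringCatSheaf) G := hG.1
  intro p hp
  rw [zeroLocus_idealOf]
  have hx : hW.fromSpec p ∈ W := Groth.Agent.Helper1.SuppDimSch.fromSpec_mem hW p
  apply hsupp
  rw [← SuppDict.mem_support_iff hW G _ hx,
    Groth.Agent.Helper1.SuppDimSch.primeIdealOf_fromSpec hW p]
  exact hp

theorem support_sections_eq (U : X.Opens) (G : X.Modules) (hG : Coh.IsCoh G)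
    (hsupp : CohB1.support G = (U : Set X)ᶜ) :
    Module.support Γ(X, W) Γ(G, W) = PrimeSpectrum.zeroLocus (idealOf hW U : Set Γ(X, W)) := by
  haveI : SheafOfModules.IsQuasicoherent (R := X.ringCatSheaf) G := hG.1
  apply Set.Subset.antisymm
  · exact support_sections_subset hW U G hG (fun x hx => by rw [hsupp] at hx; exact hx)
  · intro p hp
    rw [zeroLocus_idealOf] at hp
    have hx : hW.fromSpec p ∈ W := Groth.Agent.Helper1.SuppDimSch.fromSpec_mem hW p
    have h1 : hW.fromSpec p ∈ CohB1.support G := by rw [hsupp]; exact hp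
    rw [← SuppDict.mem_support_iff hW G _ hx,
      Groth.Agent.Helper1.SuppDimSch.primeIdealOf_fromSpec hW p] at h1
    exact h1

omit [IsLocallyNoetherian X] in
/-- a module all of whose sections over affine opens vanish is zero -/
theorem isZero_of_forall_affine (E : X.Modules)
    (h : ∀ V : X.Opens, IsAffineOpen V → Subsingleton Γ(E, V)) : IsZero E := by
  apply Groth.Agent.Helper1.Dev.isZero_of_forall_subsingleton
  intro x
  refine ⟨fun a b => ?_⟩
  suffices h0 : ∀ c : E.presheaf.stalk x, c = 0 by rw [h0 a, h0 b]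
  intro c
  obtain ⟨V, hxV, s, rfl⟩ := TopCat.Presheaf.exists_germ_eq E.presheaf c
  obtain ⟨_, ⟨V', hV' : IsAffineOpen V', rfl⟩, hxV', hV'V⟩ :=
    X.isBasis_affineOpens.exists_subset_of_mem_open hxV V.isOpen
  have hle : V' ≤ V := hV'V
  have h1 := TopCat.Presheaf.germ_res_apply E.presheaf (homOfLE hle) x hxV' s
  haveI := h V' hV'
  rw [← h1, Subsingleton.elim (E.presheaf.map (homOfLE hle).op s) 0, map_zero]

omit [IsLocallyNoetherian X] in
/-- sections of a zero module -/
theorem subsingleton_sections_of_isZero (E : X.Modules) (h : IsZero E) (V : X.Opens) :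
    Subsingleton Γ(E, V) := by
  refine ⟨fun a b => ?_⟩
  suffices h0 : ∀ c : Γ(E, V), c = 0 by rw [h0 a, h0 b]
  intro c
  have h1 : (𝟙 E : E ⟶ E) = 0 := h.eq_of_src _ _
  have h2 := congrArg (fun φ : E ⟶ E => φ.app V c) h1
  exact h2

section main

variable (U : X.Opens) (F G : X.Modules) (hF : Coh.IsCoh F) (hG : Coh.IsCoh G) (n : ℕ)
  [ModSite.HasSheafHom (O := X.sheaf) G] [HasInjectiveResolutions (ModSite.Mod X.sheaf)]

include hF hG in
/-- **depth at least `n` along `Y` forces `ℰxtⁱ(G, F) = 0` for `i < n` and `Supp G ⊆ Y`** -/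
theorem isZero_extSh_of_depth
    (hdepth : ∀ x : X, x ∉ (U : Set X) →
      (n : ℕ∞) ≤ LocCoh.depth (X.presheaf.stalk x) (F.presheaf.stalk x))
    (hsupp : ∀ x ∈ CohB1.support G, x ∉ (U : Set X)) (i : ℕ) (hi : i < n) :
    IsZero ((ModSite.extSh (O := X.sheaf) G i).obj F) := by
  apply isZero_of_forall_affine (X := X)
  intro W hW
  haveI : IsNoetherianRing Γ(X, W) := IsLocallyNoetherian.component_noetherian ⟨W, hW⟩
  haveI : Module.Finite Γ(X, W) Γ(F, W) := SecDict.finite_sections hW F hF.1 hF.2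
  haveI : Module.Finite Γ(X, W) Γ(G, W) := SecDict.finite_sections hW G hG.1 hG.2
  obtain ⟨e⟩ := Groth.Agent.Helper1.ExtAff.nonempty_sections_extSh_linearEquiv hW G F hG hF.1 i
  have h1 : (n : ℕ∞) ≤ LocCoh.idealDepth (idealOf hW U) Γ(F, W) :=
    (le_idealDepth_iff hW U F hF n).2 (fun x _ hxU => hdepth x hxU)
  haveI := subsingleton_ext_of_le_idealDepth (idealOf hW U) Γ(G, W) Γ(F, W) n h1
    (support_sections_subset hW U G hG hsupp) i hi
  exact e.toEquiv.subsingleton

include hF hG in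
/-- **`ℰxtⁱ(G, F) = 0` for `i < n` with `Supp G = Y` forces depth at least `n` along `Y`** -/
theorem le_depth_of_isZero_extSh (hsupp : CohB1.support G = (U : Set X)ᶜ)
    (h : ∀ i : ℕ, i < n → IsZero ((ModSite.extSh (O := X.sheaf) G i).obj F))
    (x : X) (hx : x ∉ (U : Set X)) :
    (n : ℕ∞) ≤ LocCoh.depth (X.presheaf.stalk x) (F.presheaf.stalk x) := by
  obtain ⟨_, ⟨W, hW : IsAffineOpen W, rfl⟩, hxW, -⟩ :=
    X.isBasis_affineOpens.exists_subset_of_mem_open (Set.mem_univ x) isOpen_univ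
  haveI : IsNoetherianRing Γ(X, W) := IsLocallyNoetherian.component_noetherian ⟨W, hW⟩
  haveI : Module.Finite Γ(X, W) Γ(F, W) := SecDict.finite_sections hW F hF.1 hF.2
  haveI : Module.Finite Γ(X, W) Γ(G, W) := SecDict.finite_sections hW G hG.1 hG.2
  have h1 : (n : ℕ∞) ≤ LocCoh.idealDepth (idealOf hW U) Γ(F, W) := by
    apply le_idealDepth_of_subsingleton_ext (idealOf hW U) Γ(G, W) Γ(F, W) n
      (support_sections_eq hW U G hG hsupp)
    intro i hi
    obtain ⟨e⟩ := Groth.Agent.Helper1.ExtAff.nonempty_sections_extSh_linearEquiv hW G F hG hF.1 i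
    haveI := subsingleton_sections_of_isZero _ (h i hi) W
    exact e.symm.toEquiv.subsingleton
  exact (le_idealDepth_iff hW U F hF n).1 h1 x hxW hx

end main

end Groth.Agent.Helper1.ExtDepth
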