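import Mathlib
import Groth.Prelude.Def_DerCA
import Groth.Agent.Helper1.ExtCechElem

/-!
# Čech cohomology vanishes when an element of the ideal acts bijectively
-/

set_option autoImplicit false

namespace Groth.Agent.Helper1.ExtCech
open CategoryTheory Limits CochainComplex HomologicalComplex HomComplex DerCA
open Groth.Agent.Helper1 Groth.Agent.Helper1.Koszul

universe u
variable {R : Type u} [CommRing R]

theorem isZero_of_mem_span_bijective (fs : List R) (M : ModuleCat.{u} R) (f : R)
    (hf : f ∈ Ideal.span {a : R | a ∈ fs})
    (hbij : Function.Bijective (fun m : M => f • m)) (q : ℤ) :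
    IsZero (extCechH fs M q) := by
  -- `f` acts as an isomorphism on `M`, hence on cohomology
  have hiso : IsIso (f • 𝟙 M) := by
    rw [ConcreteCategory.isIso_iff_bijective]
    exact hbij
  have hiso2 : IsIso ((Hfun fs q).map (f • 𝟙 M)) := inferInstance
  have hmap : (Hfun fs q).map (f • 𝟙 M) = f • 𝟙 (extCechH fs M q) := by
    change homologyMap (cmap (f • 𝟙 M) fs) q = _
    rw [cmap_smul_id, homologyMap_smul', homologyMap_id]
  rw [hmap] at hiso2
  have hinj : Function.Injective (fun x : extCechH fs M q => f • x) :=
    ((ConcreteCategory.isIso_iff_bijective _).1 hiso2).1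
  rw [ModuleCat.isZero_iff_subsingleton]
  refine ⟨fun x y => ?_⟩
  suffices h : ∀ z : extCechH fs M q, z = 0 by rw [h x, h y]
  intro z
  -- the radical of the annihilator of `z` contains `fs`
  let J : Ideal R := Ideal.radical (LinearMap.ker (LinearMap.toSpanSingleton R (extCechH fs M q) z))
  have hJ : Ideal.span {a : R | a ∈ fs} ≤ J := by
    rw [Ideal.span_le]
    intro a ha
    obtain ⟨k, hk⟩ := exists_pow_smul_eq_zero M fs q z a ha
    refine ⟨k, ?_⟩
    rw [LinearMap.mem_ker, LinearMap.toSpanSingleton_apply]
    exact hk
  obtain ⟨N, hN⟩ := hJ hf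
  rw [LinearMap.mem_ker, LinearMap.toSpanSingleton_apply] at hN
  have hinjN : ∀ N : ℕ, ∀ w : extCechH fs M q, f ^ N • w = 0 → w = 0 := by
    intro N
    induction N with
    | zero => intro w hw; simpa using hw
    | succ N ih =>
      intro w hw
      apply ih
      apply hinj
      change f • (f ^ N • w) = f • 0
      rw [smul_zero, ← mul_smul, ← pow_succ']
      exact hw
  exact hinjN N z hN

end Groth.Agent.Helper1.ExtCech
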