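import Mathlib
open CategoryTheory Limits DerivedCategory Abelian

namespace Groth.Agent.Helper1.ExtEfface
universe w v u
variable {C : Type u} [Category.{v} C] [Abelian C]

/-- In a cochain complex strictly `≤ 0`, quasi-isomorphic via `s` to a single-object complex,
`s.f 0` is an epimorphism. -/
lemma epi_f_zero_of_quasiIso {K : CochainComplex C ℤ} [K.IsStrictlyLE 0] {X : C}
    (s : K ⟶ (HomologicalComplex.single C (ComplexShape.up ℤ) 0).obj X) [QuasiIso s] : Epi (s.f 0) := by
  have hd : K.d 0 1 = 0 := (K.isZero_of_isStrictlyLE 0 1).eq_of_tgt _ _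
  have h1 : IsIso (K.iCycles 0) := K.isIso_iCycles 0 1 (by simp) hd
  let L := (HomologicalComplex.single C (ComplexShape.up ℤ) 0).obj X
  have h2 : IsIso (L.iCycles 0) := L.isIso_iCycles 0 1 (by simp) (by simp [L])
  have h3 : IsIso (L.homologyπ 0) := L.isIso_homologyπ (-1) 0 (by simp) (by simp [L])
  have h4 : IsIso (HomologicalComplex.homologyMap s 0) := inferInstance
  have e1 : HomologicalComplex.cyclesMap s 0 ≫ L.homologyπ 0 =
      K.homologyπ 0 ≫ HomologicalComplex.homologyMap s 0 := (HomologicalComplex.homologyπ_naturality s 0).symm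
  have e2 : HomologicalComplex.cyclesMap s 0 ≫ L.iCycles 0 = K.iCycles 0 ≫ s.f 0 := HomologicalComplex.cyclesMap_i s 0
  have h5 : Epi (HomologicalComplex.cyclesMap s 0) := by
    have : Epi (HomologicalComplex.cyclesMap s 0 ≫ L.homologyπ 0) := by
      rw [e1]; infer_instance
    have e3 : HomologicalComplex.cyclesMap s 0 =
        (HomologicalComplex.cyclesMap s 0 ≫ L.homologyπ 0) ≫ inv (L.homologyπ 0) := by simp
    rw [e3]; infer_instance
  have e4 : s.f 0 = inv (K.iCycles 0) ≫ HomologicalComplex.cyclesMap s 0 ≫ L.iCycles 0 := by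
    rw [e2]; simp
  rw [e4]; infer_instance


local notation "S₀" => HomologicalComplex.single C (ComplexShape.up ℤ) 0

lemma comp_eq_zero_of_comp_inv {D : Type*} [Category D] [HasZeroMorphisms D] {A B E F : D}
    (a : A ⟶ B) (b : B ⟶ E) (i : F ≅ E) (h : a ≫ b ≫ i.inv = 0) : a ≫ b = 0 := by
  have := congrArg (· ≫ i.hom) h
  simpa using this

/-- Core derived-category statement. -/
lemma exists_epi_Q_map_comp_eq_zero [HasDerivedCategory.{w} C] {X Y : C} {n : ℕ} (hn : 1 ≤ n)
    (f : Q.obj ((S₀).obj X) ⟶ Q.obj (((S₀).obj Y)⟦(n : ℤ)⟧)) :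
    ∃ (P : C) (π : P ⟶ X), Epi π ∧ Q.map ((S₀).map π) ≫ f = 0 := by
  obtain ⟨K, hK, s, hs, g, hfac⟩ := right_fac_of_isStrictlyLE f 0
  have hqs : QuasiIso s := (isIso_Q_map_iff_quasiIso (φ := s)).1 hs
  have hd : ∀ k : ℤ, (ComplexShape.up ℤ).Rel 0 k → 𝟙 (K.X 0) ≫ K.d 0 k = 0 := by
    intro k hk
    have : k = 1 := by simpa using hk.symm
    subst this
    exact (K.isZero_of_isStrictlyLE 0 1).eq_of_tgt _ _
  obtain ⟨ι, hι⟩ : ∃ ι : (S₀).obj (K.X 0) ⟶ K,
      ι.f 0 = (HomologicalComplex.singleObjXSelf (ComplexShape.up ℤ) 0 (K.X 0)).hom :=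
    ⟨HomologicalComplex.mkHomFromSingle (𝟙 (K.X 0)) hd, by
      rw [HomologicalComplex.mkHomFromSingle_f, Category.comp_id]⟩
  have hepi : Epi (s.f 0) := epi_f_zero_of_quasiIso s
  have hπ : Epi (s.f 0 ≫ (HomologicalComplex.singleObjXSelf (ComplexShape.up ℤ) 0 X).hom) :=
    epi_comp _ _
  have e1 : ι ≫ s = (S₀).map
      (s.f 0 ≫ (HomologicalComplex.singleObjXSelf (ComplexShape.up ℤ) 0 X).hom) := by
    apply HomologicalComplex.from_single_hom_ext
    rw [HomologicalComplex.comp_f, hι, HomologicalComplex.single_map_f_self]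
    simp only [Category.assoc, Iso.hom_inv_id, Category.comp_id]
  have e2 : ι ≫ g = 0 := by
    apply HomologicalComplex.from_single_hom_ext
    apply IsZero.eq_of_tgt
    exact HomologicalComplex.isZero_single_obj_X (ComplexShape.up ℤ) 0 Y (0 + (n : ℤ)) (by omega)
  refine ⟨K.X 0, s.f 0 ≫ (HomologicalComplex.singleObjXSelf (ComplexShape.up ℤ) 0 X).hom, hπ, ?_⟩
  rw [hfac, ← e1, Functor.map_comp, Category.assoc, IsIso.hom_inv_id_assoc,
      ← Functor.map_comp, e2, Functor.map_zero]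

variable [HasExt.{w} C]

attribute [local instance] HasDerivedCategory.standard in
/-- Effaceability of `Ext` on the source: every class of positive degree is killed by
precomposition with a suitable epimorphism. -/
theorem exists_epi_comp_eq_zero {X Y : C} {n : ℕ} (hn : 1 ≤ n) (x : Ext X Y n) :
    ∃ (X' : C) (π : X' ⟶ X), Epi π ∧ (Ext.mk₀ π).comp x (zero_add n) = 0 := by
  obtain ⟨P, π, hπ, h⟩ := exists_epi_Q_map_comp_eq_zero (X := X) (Y := Y) hn
    (x.hom ≫ ((Q.commShiftIso (n : ℤ)).app ((S₀).obj Y)).inv)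
  refine ⟨P, π, hπ, ?_⟩
  apply Ext.ext
  rw [Ext.comp_hom, Ext.mk₀_hom, ShiftedHom.mk₀_comp, Ext.zero_hom]
  exact comp_eq_zero_of_comp_inv _ _ _ h

end Groth.Agent.Helper1.ExtEfface
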