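import Mathlib
import Groth.Agent.Helper1.ExtEfface
import Groth.Agent.Helper1.DerTrunc

set_option autoImplicit false

open CategoryTheory Limits DerivedCategory Abelian Pretriangulated

namespace Groth.Agent.Helper1.ExtEfface
universe w v u
variable {C : Type u} [Category.{v} C] [Abelian C]

local notation "S₀" => HomologicalComplex.single C (ComplexShape.up ℤ) 0

/-- Core derived-category statement, general target. -/
lemma exists_epi_Q_map_comp_eq_zero' [HasDerivedCategory.{w} C] {X : C}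
    (L : CochainComplex C ℤ) (hL : IsZero (L.X 0))
    (f : Q.obj ((S₀).obj X) ⟶ Q.obj L) :
    ∃ (P : C) (π : P ⟶ X), Epi π ∧ Q.map ((S₀).map π) ≫ f = 0 := by
  obtain ⟨K, hK, s, hs, g, hfac⟩ := right_fac_of_isStrictlyLE f 0
  have hqs : QuasiIso s := (isIso_Q_map_iff_quasiIso (φ := s)).1 hs
  have hd : ∀ k : ℤ, (ComplexShape.up ℤ).Rel 0 k → 𝟙 (K.X 0) ≫ K.d 0 k = 0 := by
    intro k hk
    have : k = 1 := by simpa using hk.symm
    subst this
    exact (K.isZero_of_isStrictlyLE 0 1).eq_of_tgt _ _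
  obtain ⟨ι, hι⟩ : ∃ ι : (S₀).obj (K.X 0) ⟶ K,
      ι.f 0 = (HomologicalComplex.singleObjXSelf (ComplexShape.up ℤ) 0 (K.X 0)).hom :=
    ⟨HomologicalComplex.mkHomFromSingle (𝟙 (K.X 0)) hd, by
      rw [HomologicalComplex.mkHomFromSingle_f, Category.comp_id]⟩
  have hepi : Epi (s.f 0) := epi_f_zero_of_quasiIso s
  have hπ : Epi (s.f 0 ≫ (HomologicalComplex.singleObjXSelf (ComplexShape.up ℤ) 0 X).hom) :=
    epi_comp _ _
  have e1 : ι ≫ s = (S₀).map
      (s.f 0 ≫ (HomologicalComplex.singleObjXSelf (ComplexShape.up ℤ) 0 X).hom) := by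
    apply HomologicalComplex.from_single_hom_ext
    rw [HomologicalComplex.comp_f, hι, HomologicalComplex.single_map_f_self]
    simp only [Category.assoc, Iso.hom_inv_id, Category.comp_id]
  have e2 : ι ≫ g = 0 := by
    apply HomologicalComplex.from_single_hom_ext
    exact hL.eq_of_tgt _ _
  refine ⟨K.X 0, s.f 0 ≫ (HomologicalComplex.singleObjXSelf (ComplexShape.up ℤ) 0 X).hom, hπ, ?_⟩
  rw [hfac, ← e1, Functor.map_comp, Category.assoc, IsIso.hom_inv_id_assoc,
      ← Functor.map_comp, e2, Functor.map_zero]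

variable [HasDerivedCategory.{w} C]

/-- Effaceability: a morphism `N[0] ⟶ Y` with `Y ≤ -1` is killed by some epimorphism `N' ⟶ N`. -/
lemma exists_epi_single_comp_eq_zero (N : C) (Y : DerivedCategory C) [Y.IsLE (-1)]
    (u : (singleFunctor C 0).obj N ⟶ Y) :
    ∃ (N' : C) (π : N' ⟶ N), Epi π ∧ (singleFunctor C 0).map π ≫ u = 0 := by
  obtain ⟨L, hL, ⟨e⟩⟩ := Y.exists_iso_Q_obj_of_isLE (-1)
  let ε := singleFunctorIsoCompQ C 0
  obtain ⟨P, π, hπ, h⟩ := exists_epi_Q_map_comp_eq_zero' (X := N) L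
    (L.isZero_of_isStrictlyLE (-1) 0 (by omega)) (ε.inv.app N ≫ u ≫ e.hom)
  refine ⟨P, π, hπ, ?_⟩
  have hnat := ε.inv.naturality π
  have h' : (CochainComplex.singleFunctor C 0 ⋙ Q).map π ≫ (ε.inv.app N ≫ u ≫ e.hom) = 0 := h
  have h2 : (ε.inv.app P ≫ (singleFunctor C 0).map π) ≫ (u ≫ e.hom) = 0 := by
    rw [← hnat, Category.assoc]; exact h'
  rw [Category.assoc] at h2
  have h3 : (singleFunctor C 0).map π ≫ u ≫ e.hom = 0 := by
    rw [← cancel_epi (ε.inv.app P), comp_zero]; exact h2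
  rw [← cancel_mono e.hom, zero_comp, Category.assoc]; exact h3

open Groth.Agent.Helper1.DerTrunc in
/-- Effaceability in degree `b`: a morphism `N[-b] ⟶ Y` with `Y ≤ b - 1` is killed by some
epimorphism `N' ⟶ N`. -/
lemma exists_epi_single_comp_eq_zero_shift (b : ℤ) (N : C) (Y : DerivedCategory C)
    [Y.IsLE (b - 1)] (u : (singleFunctor C b).obj N ⟶ Y) :
    ∃ (N' : C) (π : N' ⟶ N), Epi π ∧ (singleFunctor C b).map π ≫ u = 0 := by
  let ε := (singleFunctors C).shiftIso b 0 b (add_zero b)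
  have : (Y⟦b⟧).IsLE (-1) := (tD C).isLE_shift Y (b - 1) b (-1)
  obtain ⟨N', π, hπ, h⟩ := exists_epi_single_comp_eq_zero N (Y⟦b⟧) (ε.inv.app N ≫ u⟦b⟧')
  refine ⟨N', π, hπ, ?_⟩
  have hnat := ε.inv.naturality π
  have h2 : (ε.inv.app N' ≫ (singleFunctor C b ⋙ shiftFunctor _ b).map π) ≫ u⟦b⟧' = 0 := by
    rw [← hnat, Category.assoc]; exact h
  rw [Category.assoc] at h2
  have h3 : ((singleFunctor C b).map π)⟦b⟧' ≫ u⟦b⟧' = 0 := by
    rw [← cancel_epi (ε.inv.app N'), comp_zero]; exact h2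
  rw [← Functor.map_comp] at h3
  exact (shiftFunctor (DerivedCategory C) b).map_injective (by rw [h3, Functor.map_zero])

end Groth.Agent.Helper1.ExtEfface
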