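import Mathlib
import Groth.Agent.Helper1.ExtEfface2
import Groth.Agent.Helper1.WayOut2

set_option autoImplicit false

open CategoryTheory Limits DerivedCategory Abelian Pretriangulated

namespace Groth.Agent.Helper1.ExtEfface
universe w v u
variable {C : Type u} [Category.{v} C] [Abelian C] [HasDerivedCategory.{w} C]
open Groth.Agent.Helper1.DerTrunc Groth.Agent.Helper1.WayOut

lemma epi_homologyMap_single_map (b : ℤ) {N' N : C} (π : N' ⟶ N) [Epi π] :
    Epi ((homologyFunctor C b).map ((singleFunctor C b).map π)) := by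
  have h := (singleFunctorCompHomologyFunctorIso C b).hom.naturality π
  have : (homologyFunctor C b).map ((singleFunctor C b).map π) =
      (singleFunctorCompHomologyFunctorIso C b).hom.app N' ≫ π ≫
        (singleFunctorCompHomologyFunctorIso C b).inv.app N := by
    have h' : (homologyFunctor C b).map ((singleFunctor C b).map π) ≫
        (singleFunctorCompHomologyFunctorIso C b).hom.app N =
        (singleFunctorCompHomologyFunctorIso C b).hom.app N' ≫ π := h
    rw [← Category.assoc, ← h', Category.assoc, Iso.hom_inv_id_app]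
    exact (Category.comp_id _).symm
  rw [this]
  infer_instance

theorem exists_negative_map
    (hneg : ∀ X : C, ∃ (N : C) (p : N ⟶ X), Epi p ∧ ∀ f : X ⟶ N, f = 0)
    (X X' : DerivedCategory C) (f : X ⟶ X') (b : ℤ) [X.IsLE b] [X'.IsLE (b - 1)] :
    ∃ (N : C) (g : (singleFunctor C b).obj N ⟶ X),
      Epi ((homologyFunctor C b).map g) ∧
        (∀ φ : (homologyFunctor C b).obj X ⟶ N, φ = 0) ∧ g ≫ f = 0 := by
  have hT := (tD C).triangleLTGE_distinguished b X
  have i1 : (((tD C).truncGE b).obj X).IsGE b := inferInstance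
  have i2 : (((tD C).truncGE b).obj X).IsLE b := inferInstance
  obtain ⟨H', ⟨e⟩⟩ := exists_iso_singleFunctor_obj_of_isGE_of_isLE (((tD C).truncGE b).obj X) b
  have i3 : ((((tD C).truncLT b).obj X)⟦(1 : ℤ)⟧).IsLE (b - 1) := by
    have : (tD C).IsLE ((((tD C).truncLT b).obj X)⟦(1 : ℤ)⟧) (b - 2) :=
      (tD C).isLE_shift _ (b - 1) 1 (b - 2)
    exact (tD C).isLE_of_le _ (b - 2) (b - 1) (by omega)
  obtain ⟨N₁, π₁, hπ₁, h₁⟩ := exists_epi_single_comp_eq_zero_shift b H'
    ((((tD C).truncLT b).obj X)⟦(1 : ℤ)⟧) (e.inv ≫ ((tD C).truncGEδLT b).app X)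
  obtain ⟨g₁, hg₁⟩ : ∃ g₁ : (singleFunctor C b).obj N₁ ⟶ X,
      (singleFunctor C b).map π₁ ≫ e.inv = g₁ ≫ ((tD C).truncGEπ b).app X :=
    Triangle.coyoneda_exact₃ _ hT ((singleFunctor C b).map π₁ ≫ e.inv) (by
      have h₁' : ((singleFunctor C b).map π₁ ≫ e.inv) ≫ ((tD C).truncGEδLT b).app X = 0 := by
        rw [Category.assoc]; exact h₁
      exact h₁')
  have epi₁ : Epi ((homologyFunctor C b).map g₁) := by
    have := isIso_homologyMap_truncGEπ X b b le_rfl
    have := epi_homologyMap_single_map b π₁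
    have h : (homologyFunctor C b).map g₁ =
        ((homologyFunctor C b).map ((singleFunctor C b).map π₁) ≫
          (homologyFunctor C b).map e.inv) ≫
          inv ((homologyFunctor C b).map (((tD C).truncGEπ b).app X)) := by
      rw [IsIso.eq_comp_inv, ← Functor.map_comp, ← Functor.map_comp, hg₁]
    rw [h]
    infer_instance
  obtain ⟨N₂, π₂, hπ₂, h₂⟩ := exists_epi_single_comp_eq_zero_shift b N₁ X' (g₁ ≫ f)
  obtain ⟨N, p, hp, hN⟩ := hneg (N₂ ⊞ (homologyFunctor C b).obj X)
  refine ⟨N, (singleFunctor C b).map (p ≫ biprod.fst) ≫ (singleFunctor C b).map π₂ ≫ g₁,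
    ?_, ?_, ?_⟩
  · have : Epi (p ≫ (biprod.fst : N₂ ⊞ (homologyFunctor C b).obj X ⟶ N₂)) := epi_comp _ _
    have := epi_homologyMap_single_map (C := C) b (p ≫ biprod.fst)
    have := epi_homologyMap_single_map b π₂
    rw [(homologyFunctor C b).map_comp, (homologyFunctor C b).map_comp]
    infer_instance
  · intro φ
    have := hN (biprod.snd ≫ φ)
    rw [← cancel_epi (biprod.snd : N₂ ⊞ (homologyFunctor C b).obj X ⟶ _), this, comp_zero]
  · rw [Category.assoc, Category.assoc, h₂, comp_zero]

end Groth.Agent.Helper1.ExtEfface
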