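import Mathlib

/-!
# ExtFreeTgt: `Extⁱ(X, Y) = 0` when `Y` is a finite "sum" of objects `Y_j` with `Extⁱ(X, Y_j) = 0`;
application to finite free modules
-/

set_option autoImplicit false

universe w v u

open CategoryTheory Abelian

namespace Groth.Agent.Helper1.ExtFreeTgt

section General

variable {C : Type u} [Category.{v} C] [Abelian C] [HasExt.{w} C]

theorem subsingleton_ext_of_sum {X Y : C} {J : Type*} (s : Finset J) (Z : J → C)
    (p : ∀ j, Y ⟶ Z j) (q : ∀ j, Z j ⟶ Y) (h : ∑ j ∈ s, p j ≫ q j = 𝟙 Y) (i : ℕ)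
    (hZ : ∀ j ∈ s, Subsingleton (Ext.{w} X (Z j) i)) : Subsingleton (Ext.{w} X Y i) := by
  refine ⟨fun a b => ?_⟩
  suffices h0 : ∀ x : Ext.{w} X Y i, x = 0 by rw [h0 a, h0 b]
  intro x
  have key : ∀ (t : Finset J), t ⊆ s →
      x.comp (Ext.mk₀ (∑ j ∈ t, p j ≫ q j)) (add_zero i) = 0 := by
    intro t
    classical
    induction t using Finset.induction_on with
    | empty => intro _; rw [Finset.sum_empty, Ext.mk₀_zero, Ext.comp_zero]
    | insert j t hj ih =>
      intro hts
      rw [Finset.sum_insert hj, Ext.mk₀_add, Ext.comp_add, ih (fun a ha => hts (Finset.mem_insert_of_mem ha)),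
        add_zero, ← Ext.mk₀_comp_mk₀, ← Ext.comp_assoc_of_third_deg_zero]
      haveI := hZ j (hts (Finset.mem_insert_self j t))
      rw [Subsingleton.elim (x.comp (Ext.mk₀ (p j)) (add_zero i)) 0, Ext.zero_comp]
  have := key s (Finset.Subset.refl s)
  rw [h, Ext.comp_mk₀_id] at this
  exact this

end General

section Module

variable (A : Type u) [CommRing A] [HasExt.{w} (ModuleCat.{u} A)]

/-- `Extⁱ(M, N) = 0` for `N` finite free as soon as `Extⁱ(M, A) = 0` -/
theorem subsingleton_ext_of_free (M : ModuleCat.{u} A) (N : Type u) [AddCommGroup N] [Module A N]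
    [Module.Free A N] [Module.Finite A N] (i : ℕ)
    (h : Subsingleton (Ext.{w} M (ModuleCat.of A A) i)) :
    Subsingleton (Ext.{w} M (ModuleCat.of A N) i) := by
  classical
  let b := Module.Free.chooseBasis A N
  haveI : Fintype (Module.Free.ChooseBasisIndex A N) := Module.Free.ChooseBasisIndex.fintype A N
  refine subsingleton_ext_of_sum (Finset.univ) (fun _ => ModuleCat.of A A)
    (fun j => ModuleCat.ofHom (b.coord j))
    (fun j => ModuleCat.ofHom (LinearMap.toSpanSingleton A N (b j))) ?_ i (fun _ _ => h)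
  apply ModuleCat.hom_ext
  apply LinearMap.ext
  intro n
  rw [ModuleCat.hom_sum]
  simp only [ModuleCat.hom_comp, ModuleCat.hom_ofHom, ModuleCat.hom_id, LinearMap.id_coe, id_eq]
  rw [LinearMap.sum_apply]
  simp only [LinearMap.comp_apply, LinearMap.toSpanSingleton_apply, Module.Basis.coord_apply]
  exact b.sum_repr n

end Module

end Groth.Agent.Helper1.ExtFreeTgt
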