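import Mathlib
import Groth.Agent.Helper1.HensStrictTransfer
import Groth.Agent.Helper1.EtRed

/-!
# Reducedness of `Hens R Ω`
-/

set_option autoImplicit false
set_option linter.dupNamespace false

universe u

noncomputable section

namespace Groth.Agent.Helper1.Hens

open IsLocalRing TensorProduct Polynomial

variable {R : Type u} [CommRing R] {Ω : Type u} [Field Ω] [Algebra R Ω]

instance Hens.isReduced [IsReduced R] : IsReduced (Hens R Ω) := by
  constructor
  intro x hx
  obtain ⟨C, _, _, _, γ, c, rfl⟩ := Hens.exists_ι_eq x
  obtain ⟨n, hn⟩ := hx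
  rw [← map_pow] at hn
  obtain ⟨D, _, _, _, δ, φ, hφ, h0⟩ := Hens.exists_of_ι_eq_zero γ (c ^ n) hn
  haveI : IsReduced D := EtRed.isReduced_of_etale R D
  have h1 : φ c = 0 := by
    rw [map_pow] at h0
    exact IsReduced.eq_zero _ ⟨n, h0⟩
  rw [← Hens.ι_comp γ δ φ hφ c, h1, map_zero]

theorem isReduced_iff_of_isHenselization (R : Type u) [CommRing R] [IsLocalRing R]
    (S : Type u) [CommRing S] [IsLocalRing S] [Algebra R S]
    [IsLocalHom (algebraMap R S)] [Hensel.IsHenselization R S] :
    IsReduced R ↔ IsReduced S := by
  constructor
  · intro h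
    exact isReduced_of_injective (equivOfIsHenselization (R := R) S).toRingEquiv.toRingHom
      (equivOfIsHenselization (R := R) S).injective
  · intro h
    haveI := faithfullyFlat_of_isHenselization R S
    exact isReduced_of_injective (algebraMap R S) (FaithfulSMul.algebraMap_injective R S)

theorem isReduced_iff_of_isStrictHenselization (R : Type u) [CommRing R] [IsLocalRing R]
    (S : Type u) [CommRing S] [IsLocalRing S] [Algebra R S]
    [IsLocalHom (algebraMap R S)] [Hensel.IsStrictHenselization R S] :
    IsReduced R ↔ IsReduced S := by
  constructor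
  · intro h
    exact isReduced_of_injective (equivOfIsStrictHenselization R S).toRingEquiv.toRingHom
      (equivOfIsStrictHenselization R S).injective
  · intro h
    haveI := faithfullyFlat_of_isStrictHenselization R S
    exact isReduced_of_injective (algebraMap R S) (FaithfulSMul.algebraMap_injective R S)

end Groth.Agent.Helper1.Hens
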