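import Mathlib
import Groth.Agent.Helper1.ExtLG1
import Groth.Agent.Helper1.ExtCodim2
import Groth.Agent.Helper5.VarDim4
import Groth.Agent.Helper5.VarDim7
import Groth.Agent.Helper5.SmRelDim1
import Groth.Agent.Helper5.OverField
import Groth.Agent.Helper4.SmReg
import Groth.Agent.Helper6.DepthPi
import Groth.Agent.Helper9.TensorAdj
import Groth.Agent.S0020

/-!
# ExtLG2: vanishing of the global `Ext^i(F, L)` below the codimension of the support, on a smooth
variety
-/

set_option autoImplicit false
set_option linter.style.haveILetI false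
set_option linter.unusedSectionVars false

universe u

open CategoryTheory CategoryTheory.Limits AlgebraicGeometry Opposite TopologicalSpace

namespace Groth.Agent.Helper1.ExtLG

/-- on a scheme smooth of relative dimension `n` over a field, `dim O_{X,x} + dim closure{x} = n` -/
theorem ringKrullDim_stalk_add_dim_closure (k : Type u) [Field k] (n : ℕ) {X : Scheme.{u}}
    (g : X ⟶ Spec (CommRingCat.of k)) [SmoothOfRelativeDimension n g] (x : X) :
    ringKrullDim (X.presheaf.stalk x) + topologicalKrullDim ↥(closure ({x} : Set X)) =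
      (n : WithBot ℕ∞) := by
  haveI : Smooth g := SmoothOfRelativeDimension.smooth n g
  haveI : LocallyOfFiniteType g := inferInstance
  haveI hsub : Subsingleton ↥(Spec (CommRingCat.of k)) :=
    inferInstanceAs (Subsingleton (PrimeSpectrum k))
  obtain ⟨m, hm1, hm2, -⟩ := Groth.Agent.Helper5.VarDim.localDim_formula k g x
  obtain ⟨m', hm'1, hm'2⟩ := Groth.Agent.Helper5.VarDim.dim_closure_point k g x
  have hmm : m = m' := by
    have := hm1.symm.trans hm'2
    exact_mod_cast this
  have h1 : FlatMor.fibreDimAt g x = (n : WithBot ℕ∞) :=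
    Groth.Agent.Helper5.SmRelDim.s2768 n g x
  rw [Groth.Agent.Helper5.OverField.fibreDimAt_of_subsingleton g x] at h1
  rw [hm'1, ← hmm, ← hm2, h1]

/-- the stalk of a finite locally free module has at least the depth of the local ring -/
theorem depth_le_depth_stalk_of_isFinLocFree {X : Scheme.{u}} [IsLocallyNoetherian X] (L : X.Modules)
    (hL : FlatMod.IsFinLocFree L) (x : X) :
    LocCoh.depth (X.presheaf.stalk x) (X.presheaf.stalk x) ≤
      LocCoh.depth (X.presheaf.stalk x) (L.presheaf.stalk x) := by
  haveI : L.IsQuasicoherent :=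
    Groth.Agent.Helper4.FinLocFree4.isQuasicoherent_of_isFinLocFree L hL
  obtain ⟨V, m, hxV, hV⟩ := hL x
  obtain ⟨b⟩ := Groth.Agent.Helper4.FinLocFree2.nonempty_basis_stalk_of_isFreeAlong L hV x hxV
  have h1 : LocCoh.depth (X.presheaf.stalk x) (L.presheaf.stalk x) =
      LocCoh.depth (X.presheaf.stalk x) (Fin m → X.presheaf.stalk x) :=
    Groth.Agent.Helper2.DepthCM.idealDepth_congr _ b.equivFun
  rw [h1]
  exact Groth.Agent.Helper6.DepthLemma.idealDepth_pi_ge _ _ m

end Groth.Agent.Helper1.ExtLG
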