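import Mathlib
import Groth.Agent.Helper1.ExtLG2
import Groth.Agent.Helper1.ExtRes3

/-!
# ExtLG3: `Ext^i(F, L) = 0` for `i < p` when `dim Supp F + p ≤ n` on a smooth `n`-dimensional variety
-/

set_option autoImplicit false
set_option linter.style.haveILetI false
set_option linter.unusedSectionVars false

universe u

open CategoryTheory CategoryTheory.Limits AlgebraicGeometry Opposite TopologicalSpace

namespace Groth.Agent.Helper1.ExtLG

lemma arith_aux (d : ℕ∞) (c : WithBot ℕ∞) (n p : ℕ)
    (h1 : ((d : ℕ∞) : WithBot ℕ∞) + c = (n : WithBot ℕ∞))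
    (h2 : c + (p : WithBot ℕ∞) ≤ (n : WithBot ℕ∞)) : (p : ℕ∞) ≤ d := by
  induction c using WithBot.recBotCoe with
  | bot =>
    rw [WithBot.add_bot] at h1
    exact absurd h1.symm (WithBot.coe_ne_bot)
  | coe c =>
    have h1' : d + c = (n : ℕ∞) := by exact_mod_cast h1
    have h2' : c + (p : ℕ∞) ≤ (n : ℕ∞) := by exact_mod_cast h2
    have hd : d ≠ ⊤ := by
      rintro rfl
      rw [top_add] at h1'
      exact ENat.top_ne_natCast n h1'
    have hc : c ≠ ⊤ := by
      rintro rfl
      rw [add_top] at h1'
      exact ENat.top_ne_natCast n h1'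
    obtain ⟨d₀, rfl⟩ := ENat.ne_top_iff_exists.1 hd
    obtain ⟨c₀, rfl⟩ := ENat.ne_top_iff_exists.1 hc
    have e1 : d₀ + c₀ = n := by exact_mod_cast h1'
    have e2 : c₀ + p ≤ n := by exact_mod_cast h2'
    have : p ≤ d₀ := by omega
    exact_mod_cast this

/-- **vanishing of `Ext^i(F, L)` below the codimension of the support of `F`** on a scheme smooth
of relative dimension `n` over a field -/
theorem subsingleton_ext_of_smooth (k : Type u) [Field k] (n : ℕ) (X : Scheme.{u})
    (g : X ⟶ Spec (CommRingCat.of k)) [SmoothOfRelativeDimension n g] [HasExt.{u} X.Modules]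
    (F : X.Modules) (hF : Coh.IsCoh F) (L : X.Modules) (hL : FlatMod.IsFinLocFree L) (p : ℕ)
    (hsupp : topologicalKrullDim ↥(CohB1.support F) + p ≤ n) (i : ℕ) (hi : i < p) :
    Subsingleton (Abelian.Ext F L i) := by
  haveI : Smooth g := SmoothOfRelativeDimension.smooth n g
  obtain ⟨hN, hreg⟩ := Groth.Agent.Helper4.SmReg.regular_of_smooth_field k g
  haveI := hN
  haveI : HasInjectiveResolutions (ModSite.Mod X.sheaf) :=
    Groth.Agent.Helper1.ExtRes.hasInjectiveResolutions_mod X
  haveI : ModSite.HasSheafHom (O := X.sheaf) F :=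
    Groth.Agent.Helper9.TensorAdj.hasSheafHom (O := X.sheaf) F
  have hcl : IsClosed (CohB1.support F) := Groth.Agent.S0020.result X F hF.2
  let U : X.Opens := ⟨(CohB1.support F)ᶜ, hcl.isOpen_compl⟩
  have hcohL : Coh.IsCoh L := Groth.Agent.Lead.PerfLib.isCoh_of_isFinLocFree hL
  have hvan : ∀ q : ℕ, q < p → IsZero ((ModSite.extSh (O := X.sheaf) F q).obj L) := by
    intro q hq
    refine Groth.Agent.Helper1.ExtDepth.isZero_extSh_of_depth U L F hcohL hF p ?_ ?_ q hq
    · intro x hx
      have hx' : x ∈ CohB1.support F := by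
        by_contra hcon
        exact hx hcon
      haveI := hreg x
      refine le_trans ?_ (depth_le_depth_stalk_of_isFinLocFree L hL x)
      have h1 := ringKrullDim_stalk_add_dim_closure k n g x
      rw [← Groth.Agent.Helper1.ExtCodim.depth_eq_dim_of_regular] at h1
      have hsub : closure ({x} : Set X) ⊆ CohB1.support F :=
        closure_minimal (Set.singleton_subset_iff.2 hx') hcl
      have h2 : topologicalKrullDim ↥(closure ({x} : Set X)) ≤
          topologicalKrullDim ↥(CohB1.support F) :=
        (Topology.IsEmbedding.inclusion hsub).isInducing.topologicalKrullDim_le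
      exact arith_aux _ _ n p h1 (le_trans (add_le_add_left h2 _) hsupp)
    · intro x hx hxU
      exact hxU hx
  have h : HasExt.{u} X.Modules := inferInstance
  exact @subsingleton_ext_of_isZero_extSh _ _ _ X.sheaf h _ F L _ p hvan i hi

end Groth.Agent.Helper1.ExtLG
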