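import Mathlib

set_option autoImplicit false

/-!
# Applying a functor commutes with the extension of homological complexes
-/

namespace Groth.Agent.Helper1.ExtMap

open CategoryTheory Limits HomologicalComplex

variable {ι ι' : Type*} {c : ComplexShape ι} {c' : ComplexShape ι'} (e : c.Embedding c')
  [e.IsRelIff] {C D : Type*} [Category C] [Category D] [HasZeroMorphisms C] [HasZeroMorphisms D]
  [HasZeroObject C] [HasZeroObject D]
  (G : C ⥤ D) [G.PreservesZeroMorphisms] (K : HomologicalComplex C c)

/-- the restricted comparison morphism -/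
noncomputable def restr :
    ((G.mapHomologicalComplex c').obj (K.extend e)).restriction e ⟶
      (G.mapHomologicalComplex c).obj K where
  f i := G.map (K.extendXIso e rfl).hom
  comm' i j _ := by
    change G.map _ ≫ G.map (K.d i j) = G.map ((K.extend e).d (e.f i) (e.f j)) ≫ G.map _
    rw [K.extend_d_eq e rfl rfl, ← G.map_comp, ← G.map_comp]
    simp

lemma hasLift : e.HasLift (restr e G K) := by
  intro j hj i' hi'
  change G.map ((K.extend e).d i' (e.f j)) ≫ _ = 0
  have : (K.extend e).d i' (e.f j) = 0 :=
    (K.isZero_extend_X e i' (hj.notMem hi')).eq_of_src _ _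
  rw [this, G.map_zero, zero_comp]

/-- the comparison morphism `G(K.extend e) ⟶ (G K).extend e` -/
noncomputable def hom :
    (G.mapHomologicalComplex c').obj (K.extend e) ⟶
      ((G.mapHomologicalComplex c).obj K).extend e :=
  e.liftExtend (restr e G K) (hasLift e G K)

set_option backward.isDefEq.respectTransparency false in
lemma hom_f (i : ι) :
    (hom e G K).f (e.f i) = G.map (K.extendXIso e rfl).hom ≫
      (((G.mapHomologicalComplex c).obj K).extendXIso e rfl).inv := by
  unfold hom
  rw [e.liftExtend_f _ _ rfl]
  have h : (((G.mapHomologicalComplex c').obj (K.extend e)).restrictionXIso e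
      (rfl : e.f i = e.f i)).inv = 𝟙 _ := rfl
  rw [h, Category.id_comp]
  rfl

set_option backward.isDefEq.respectTransparency false in
instance : IsIso (hom e G K) := by
  suffices ∀ i', IsIso ((hom e G K).f i') from HomologicalComplex.Hom.isIso_of_components _
  intro i'
  by_cases hi' : ∃ i, e.f i = i'
  · obtain ⟨i, rfl⟩ := hi'
    rw [hom_f]
    infer_instance
  · have h1 : IsZero (((G.mapHomologicalComplex c').obj (K.extend e)).X i') :=
      G.map_isZero (K.isZero_extend_X e i' (by simpa using hi'))
    have h2 : IsZero ((((G.mapHomologicalComplex c).obj K).extend e).X i') :=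
      isZero_extend_X _ e i' (by simpa using hi')
    exact ⟨⟨0, h1.eq_of_src _ _, h2.eq_of_src _ _⟩⟩

/-- the comparison isomorphism -/
noncomputable def iso :
    (G.mapHomologicalComplex c').obj (K.extend e) ≅
      ((G.mapHomologicalComplex c).obj K).extend e :=
  asIso (hom e G K)

set_option backward.isDefEq.respectTransparency false in
lemma hom_naturality {G G' : C ⥤ D} [G.PreservesZeroMorphisms] [G'.PreservesZeroMorphisms]
    (α : G ⟶ G') :
    (NatTrans.mapHomologicalComplex α c').app (K.extend e) ≫ hom e G' K =
      hom e G K ≫ extendMap ((NatTrans.mapHomologicalComplex α c).app K) e := by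
  ext i'
  by_cases hi' : ∃ i, e.f i = i'
  · obtain ⟨i, rfl⟩ := hi'
    rw [comp_f, comp_f, hom_f, hom_f, extendMap_f _ e rfl]
    simp only [NatTrans.mapHomologicalComplex_app_f, Category.assoc, Iso.inv_hom_id_assoc]
    rw [← α.naturality_assoc]
  · exact IsZero.eq_of_tgt (isZero_extend_X _ e i' (by simpa using hi')) _ _

section homology

variable [CategoryWithHomology D] (j : ι) [K.HasHomology j]

/-- `H_{e j}(G(K.extend e)) ≅ H_j(G K)` -/
noncomputable def homologyIso :
    ((G.mapHomologicalComplex c').obj (K.extend e)).homology (e.f j) ≅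
      ((G.mapHomologicalComplex c).obj K).homology j :=
  homologyMapIso (iso e G K) (e.f j) ≪≫
    extendHomologyIso ((G.mapHomologicalComplex c).obj K) e rfl

set_option backward.isDefEq.respectTransparency false in
lemma homologyIso_naturality {G G' : C ⥤ D} [G.PreservesZeroMorphisms]
    [G'.PreservesZeroMorphisms] (α : G ⟶ G') :
    homologyMap ((NatTrans.mapHomologicalComplex α c').app (K.extend e)) (e.f j) ≫
        (homologyIso e G' K j).hom =
      (homologyIso e G K j).hom ≫ homologyMap ((NatTrans.mapHomologicalComplex α c).app K) j := by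
  unfold homologyIso iso
  change homologyMap _ (e.f j) ≫ (homologyMap (hom e G' K) (e.f j) ≫ _) =
    (homologyMap (hom e G K) (e.f j) ≫ _) ≫ _
  have h := hom_naturality e K α
  have h' := congrArg (fun φ => homologyMap φ (e.f j)) h
  simp only [homologyMap_comp] at h'
  rw [← Category.assoc, h', Category.assoc, extendHomologyIso_hom_naturality, Category.assoc]

end homology

end Groth.Agent.Helper1.ExtMap
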