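import Mathlib
import Groth.Agent.Helper7.ExtBC

/-!
# Helper1: exterior powers of a base change, in `IsBaseChange` form
-/

set_option autoImplicit false
set_option linter.style.haveILetI false
set_option linter.unusedSectionVars false

namespace Groth.Agent.Helper1.ExtPowBC

open TensorProduct exteriorPower

universe u

section multilinear

/-- two multilinear maps agreeing on the tuples from a spanning set are equal -/
theorem multilinear_ext_of_span {R P N : Type*} [CommRing R] [AddCommGroup P] [Module R P]
    [AddCommGroup N] [Module R N] {ι : Type*} [Finite ι]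
    (f g : MultilinearMap R (fun _ : ι => P) N) (s : Set P) (hs : Submodule.span R s = ⊤)
    (h : ∀ v : ι → P, (∀ i, v i ∈ s) → f v = g v) : f = g := by
  classical
  cases nonempty_fintype ι
  have key : ∀ (t : Finset ι) (v : ι → P), (∀ i, i ∉ t → v i ∈ s) → f v = g v := by
    intro t
    induction t using Finset.induction_on with
    | empty => intro v hv; exact h v (fun i => hv i (Finset.notMem_empty i))
    | insert a t' ha ih =>
      intro v hv
      have hx : v a ∈ Submodule.span R s := by rw [hs]; trivial
      have : f (Function.update v a (v a)) = g (Function.update v a (v a)) := by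
        refine Submodule.span_induction
          (p := fun x _ => f (Function.update v a x) = g (Function.update v a x)) ?_ ?_ ?_ ?_ hx
        · intro x hxs
          apply ih
          intro i hi
          by_cases hia : i = a
          · subst hia; rw [Function.update_self]; exact hxs
          · rw [Function.update_of_ne hia]
            exact hv i (by simp [hia, hi])
        · rw [f.map_update_zero, g.map_update_zero]
        · intro x y _ _ hx hy
          rw [f.map_update_add, g.map_update_add, hx, hy]
        · intro c x _ hx
          rw [f.map_update_smul, g.map_update_smul, hx]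
      rwa [Function.update_eq_self] at this
  ext v
  exact key Finset.univ v (fun i hi => absurd (Finset.mem_univ i) hi)

end multilinear

section

variable {B : Type u} [CommRing B] {P P' : Type u} [AddCommGroup P] [Module B P]
  [AddCommGroup P'] [Module B P'] (n : ℕ)

/-- the exterior power of a linear equivalence -/
noncomputable def mapEquiv (e : P ≃ₗ[B] P') : ↥(⋀[B]^n P) ≃ₗ[B] ↥(⋀[B]^n P') :=
  LinearEquiv.ofLinearMap (exteriorPower.map n e.toLinearMap) (exteriorPower.map n e.symm.toLinearMap)
    (by rw [← exteriorPower.map_comp]; simp [exteriorPower.map_id])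
    (by rw [← exteriorPower.map_comp]; simp [exteriorPower.map_id])

theorem mapEquiv_ιMulti (e : P ≃ₗ[B] P') (v : Fin n → P) :
    mapEquiv n e (ιMulti B n v) = ιMulti B n (fun j => e (v j)) :=
  exteriorPower.map_apply_ιMulti _ _

end

section

variable {A B : Type u} [CommRing A] [CommRing B] [Algebra A B]
  {M P Q : Type u} [AddCommGroup M] [Module A M]
  [AddCommGroup P] [Module A P] [Module B P] [IsScalarTower A B P]
  [AddCommGroup Q] [Module A Q] [Module B Q] [IsScalarTower A B Q]
  (n : ℕ) {tM : M →ₗ[A] P} (hM : IsBaseChange B tM) {tΛ : ↥(⋀[A]^n M) →ₗ[A] Q}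
  (hΛ : IsBaseChange B tΛ)

include hM in
theorem span_range_of_isBaseChange : Submodule.span B (Set.range tM) = ⊤ := by
  rw [eq_top_iff]
  rintro p -
  induction p using hM.inductionOn with
  | zero => exact zero_mem _
  | tmul m => exact Submodule.subset_span ⟨m, rfl⟩
  | smul b p hp => exact Submodule.smul_mem _ b hp
  | add p q hp hq => exact add_mem hp hq

/-- the base change of the exterior power is the exterior power of the base change -/
noncomputable def extEquiv : Q ≃ₗ[B] ↥(⋀[B]^n P) :=
  hΛ.equiv.symm ≪≫ₗ
    (LinearEquiv.ofBijective (Groth.Agent.Helper7.ExtBC.beta A B M n)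
      (Groth.Agent.Helper7.ExtBC.beta_bijective A B M n)) ≪≫ₗ mapEquiv n hM.equiv

theorem extEquiv_apply (x : ↥(⋀[A]^n M)) :
    extEquiv n hM hΛ (tΛ x) = mapEquiv n hM.equiv (Groth.Agent.Helper7.ExtBC.incl A B M n x) := by
  unfold extEquiv
  rw [LinearEquiv.trans_apply, LinearEquiv.trans_apply, IsBaseChange.equiv_symm_apply,
    LinearEquiv.ofBijective_apply, Groth.Agent.Helper7.ExtBC.beta_tmul, one_smul]

theorem extEquiv_symm_ιMulti (m : Fin n → M) :
    (extEquiv n hM hΛ).symm (ιMulti B n (fun j => tM (m j))) = tΛ (ιMulti A n m) := by
  rw [LinearEquiv.symm_apply_eq, extEquiv_apply, Groth.Agent.Helper7.ExtBC.incl_ιMulti,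
    mapEquiv_ιMulti]
  congr 1
  funext j
  rw [IsBaseChange.equiv_tmul, one_smul]

end

end Groth.Agent.Helper1.ExtPowBC
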