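import Mathlib
import Groth.Agent.Helper1.DeltaHom
import Groth.Agent.Helper1.DeltaComp
import Groth.Agent.Helper1.ExtLES

set_option autoImplicit false

/-!
# `U ↦ Extⁿ(P U, -)` as a δ-functor with values in presheaves (generic version)
-/

namespace Groth.Agent.Helper1.ExtPre
open CategoryTheory Opposite Limits Abelian Groth.Agent.Helper1.DeltaCmp
open Groth.Agent.Helper1.DeltaFun

universe w v u v' u'
variable {𝒜 : Type u} [Category.{v} 𝒜] [Abelian 𝒜] [HasExt.{w} 𝒜]
  {D : Type u'} [Category.{v'} D] (P : D ⥤ 𝒜)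

/-- `F ↦ (U ↦ Extⁿ(P U, F))` -/
noncomputable def extPre (n : ℕ) : 𝒜 ⥤ (Dᵒᵖ ⥤ AddCommGrpCat.{w}) :=
  (P.op ⋙ extFunctor n).flip

lemma exact_of_evaluation {K : Type*} [Category K] {A : Type*} [Category A] [Abelian A]
    (S : ShortComplex (K ⥤ A))
    (h : ∀ q, (S.map ((evaluation K A).obj q)).Exact) : S.Exact := by
  simp only [ShortComplex.exact_iff_isZero_homology] at h ⊢
  rw [Functor.isZero_iff]
  intro q
  exact IsZero.of_iso (h q) (S.mapHomologyIso ((evaluation K A).obj q)).symm

/-- connecting morphisms -/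
noncomputable def δE {S : ShortComplex 𝒜} (hS : S.ShortExact) (n : ℕ) :
    (extPre P n).obj S.X₃ ⟶ (extPre P (n + 1)).obj S.X₁ where
  app U := AddCommGrpCat.ofHom (hS.extClass.postcomp (P.obj U.unop) rfl)
  naturality U V g := by
    apply AddCommGrpCat.hom_ext
    apply AddMonoidHom.ext
    intro (x : Ext.{w} (P.obj U.unop) S.X₃ n)
    show ((Ext.mk₀ (P.map g.unop)).comp x (zero_add n)).comp hS.extClass rfl =
      (Ext.mk₀ (P.map g.unop)).comp (x.comp hS.extClass rfl) (zero_add (n + 1))
    rw [Ext.comp_assoc]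
    omega

/-- the δ-functor `F ↦ (U ↦ Ext^•(P U, F))` -/
noncomputable def extPreDelta : DeltaFunctor 𝒜 (Dᵒᵖ ⥤ AddCommGrpCat.{w}) where
  T n := extPre P n
  δ S hS n := δE P hS n
  δ_nat {S S'} φ hS hS' n := by
    ext U : 2
    apply AddCommGrpCat.hom_ext
    apply AddMonoidHom.ext
    intro (x : Ext.{w} (P.obj U.unop) S.X₃ n)
    show (x.comp hS.extClass rfl).comp (Ext.mk₀ φ.τ₁) (add_zero _) =
      (x.comp (Ext.mk₀ φ.τ₃) (add_zero _)).comp hS'.extClass rfl
    rw [Ext.comp_assoc_of_third_deg_zero, ShortComplex.ShortExact.extClass_naturality hS hS' φ,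
      Ext.comp_assoc_of_second_deg_zero]
  w₃ S hS n := by
    ext U : 2
    obtain ⟨w, -⟩ := exists_of_exact
      (Ext.covariant_sequence_exact₃' (P.obj U.unop) hS n (n + 1) rfl)
    exact w
  w₁ S hS n := by
    ext U : 2
    obtain ⟨w, -⟩ := exists_of_exact
      (Ext.covariant_sequence_exact₁' (P.obj U.unop) hS n (n + 1) rfl)
    exact w
  exact₃ S hS n := by
    apply exact_of_evaluation
    intro U
    exact Ext.covariant_sequence_exact₃' (P.obj U.unop) hS n (n + 1) rfl
  exact₁ S hS n := by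
    apply exact_of_evaluation
    intro U
    exact Ext.covariant_sequence_exact₁' (P.obj U.unop) hS n (n + 1) rfl

lemma extPreDelta_T (n : ℕ) : (extPreDelta P).T n = extPre P n := rfl

lemma isZero_extPre_of_injective (I : 𝒜) [Injective I] (n : ℕ) :
    IsZero ((extPre P (n + 1)).obj I) := by
  rw [Functor.isZero_iff]
  intro U
  have : Subsingleton (((extPre P (n + 1)).obj I).obj U) :=
    subsingleton_of_forall_eq 0 fun (x : Ext.{w} (P.obj U.unop) I (n + 1)) =>
      Ext.eq_zero_of_injective x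
  exact AddCommGrpCat.isZero_of_subsingleton _

lemma extPreDelta_effaceable : (extPreDelta P).Effaceable :=
  fun I _ n => isZero_extPre_of_injective P I n

end Groth.Agent.Helper1.ExtPre
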