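import Mathlib
import Groth.Agent.Helper1.LocCohCmp
import Groth.Prelude.Def_Wider

set_option autoImplicit false

namespace Groth.Agent.Helper1.ExtTrans
open CategoryTheory Limits Abelian
open Groth.Agent.Helper1.LocCohDelta

universe u

variable {A : Type u} [CommRing A]

/-- the transition map `A/I^m ⟶ A/I^n` -/
noncomputable def qmap (I : Ideal A) {n m : ℕ} (h : n ≤ m) :
    ModuleCat.of A (A ⧸ I ^ m) ⟶ ModuleCat.of A (A ⧸ I ^ n) :=
  ModuleCat.ofHom (Submodule.mapQ (I ^ m) (I ^ n) LinearMap.id (Ideal.pow_le_pow_right h))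

/-- universal classes: every class in `Ext^{k+1}(X, N)` is a pushforward of a single class -/
lemma exists_universal (k : ℕ) : ∀ (X : ModuleCat.{u} A), ∃ (Ω : ModuleCat.{u} A)
    (u : Ext.{u} X Ω (k + 1)), ∀ (N : ModuleCat.{u} A) (ξ : Ext.{u} X N (k + 1)),
      ∃ g : Ω ⟶ N, u.comp (Ext.mk₀ g) (add_zero _) = ξ := by
  induction k with
  | zero =>
    intro X
    let S : ShortComplex (ModuleCat.{u} A) :=
      ShortComplex.mk (kernel.ι (Projective.π X)) (Projective.π X) (kernel.condition _)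
    have hS : S.ShortExact :=
      { exact := ShortComplex.exact_kernel _
        mono_f := inferInstanceAs (Mono (kernel.ι _))
        epi_g := inferInstanceAs (Epi (Projective.π X)) }
    refine ⟨S.X₁, hS.extClass, fun N ξ => ?_⟩
    obtain ⟨x₁, hx₁⟩ := Ext.contravariant_sequence_exact₃ hS N ξ
      (Ext.eq_zero_of_projective (P := Projective.over X) _) (n₀ := 0) rfl
    obtain ⟨g, rfl⟩ := (Ext.mk₀_bijective _ _).2 x₁
    exact ⟨g, hx₁⟩
  | succ k ih =>
    intro X
    let S : ShortComplex (ModuleCat.{u} A) :=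
      ShortComplex.mk (kernel.ι (Projective.π X)) (Projective.π X) (kernel.condition _)
    have hS : S.ShortExact :=
      { exact := ShortComplex.exact_kernel _
        mono_f := inferInstanceAs (Mono (kernel.ι _))
        epi_g := inferInstanceAs (Epi (Projective.π X)) }
    obtain ⟨Ω, u', hu'⟩ := ih S.X₁
    refine ⟨Ω, hS.extClass.comp u' (by omega), fun N ξ => ?_⟩
    obtain ⟨x₁, hx₁⟩ := Ext.contravariant_sequence_exact₃ hS N ξ
      (Ext.eq_zero_of_projective (P := Projective.over X) _) (n₀ := k + 1) (by omega)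
    obtain ⟨g, rfl⟩ := hu' N x₁
    refine ⟨g, ?_⟩
    rw [← hx₁]
    exact Ext.comp_assoc_of_third_deg_zero _ _ _ _

/-- a class in `Ext^{i+1}(A/I^n, N)` dies in `Ext^{i+1}(A/I^m, N)` for some `m > n`
when `R^{i+1}Γ_I(N) = 0` -/
lemma exists_kill (I : Ideal A) (N : ModuleCat.{u} A) (i : ℕ)
    (hz : IsZero (((DRing.gammaI I).rightDerived (i + 1)).obj N)) (n : ℕ)
    (ξ : Ext.{u} (ModuleCat.of A (A ⧸ I ^ n)) N (i + 1)) :
    ∃ (m : ℕ) (hm : n < m), (Ext.mk₀ (qmap I hm.le)).comp ξ (zero_add _) = 0 := by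
  let R : InjectiveResolution N := injectiveResolution N
  obtain ⟨f, hf, rfl⟩ := R.extMk_surjective ξ (i + 2) rfl
  let K := ((DRing.gammaI I).mapHomologicalComplex (ComplexShape.up ℕ)).obj R.cocomplex
  have hK : K.ExactAt (i + 1) := by
    rw [HomologicalComplex.exactAt_iff_isZero_homology]
    exact IsZero.of_iso hz (R.isoRightDerivedObj (DRing.gammaI I) (i + 1)).symm
  rw [HomologicalComplex.exactAt_iff' K i (i + 1) (i + 2) (by simp) (by simp),
    ShortComplex.moduleCat_exact_iff] at hK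
  -- the element `z = f 1`
  let z : R.cocomplex.X (i + 1) := f.hom (Submodule.Quotient.mk 1)
  have hz1 : z ∈ DRing.torsionSub I (R.cocomplex.X (i + 1)) := by
    refine ⟨n, fun a ha => ?_⟩
    show a • f.hom (Submodule.Quotient.mk 1) = 0
    rw [← map_smul, ← Submodule.Quotient.mk_smul, smul_eq_mul, mul_one,
      (Submodule.Quotient.mk_eq_zero _).2 ha, map_zero]
  have hz2 : (R.cocomplex.d (i + 1) (i + 2)).hom z = 0 :=
    congrArg (fun t => t.hom (Submodule.Quotient.mk 1)) hf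
  obtain ⟨⟨y, hy⟩, hyz⟩ := hK ⟨z, hz1⟩ (Subtype.ext hz2)
  have hyz' : (R.cocomplex.d i (i + 1)).hom y = z := congrArg Subtype.val hyz
  obtain ⟨m', hm'⟩ := hy
  refine ⟨max m' (n + 1), lt_of_lt_of_le (Nat.lt_succ_self n) (le_max_right _ _), ?_⟩
  rw [R.mk₀_comp_extMk, R.extMk_eq_zero_iff _ _ _ _ i rfl]
  refine ⟨ModuleCat.ofHom (Submodule.liftQ _ (LinearMap.toSpanSingleton A _ y) ?_), ?_⟩
  · intro a ha
    rw [LinearMap.mem_ker, LinearMap.toSpanSingleton_apply]
    exact hm' a (Ideal.pow_le_pow_right (le_max_left _ _) ha)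
  · apply ModuleCat.hom_ext
    apply Submodule.linearMap_qext
    apply LinearMap.ext_ring
    show (R.cocomplex.d i (i + 1)).hom ((1 : A) • y) = z
    rw [one_smul]
    exact hyz'

lemma qmap_comp (I : Ideal A) {n m l : ℕ} (h : n ≤ m) (h' : m ≤ l) :
    qmap I h' ≫ qmap I h = qmap I (h.trans h') := by
  apply ModuleCat.hom_ext
  apply Submodule.linearMap_qext
  rfl

/-- uniform vanishing of the transition maps above the cohomological dimension -/
theorem uniform [IsNoetherianRing A] (I : Ideal A) (e : ℕ) (he : LocCoh.CdLE A I e) (n : ℕ) :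
    ∃ (m : ℕ) (hm : n < m), ∀ (N : ModuleCat.{u} A) (i : ℕ), e < i →
      ∀ ξ : Ext.{u} (ModuleCat.of A (A ⧸ I ^ n)) N i,
        (Ext.mk₀ (qmap I hm.le)).comp ξ (zero_add _) = 0 := by
  have hcd : ∀ (N : ModuleCat.{u} A) (i : ℕ), e < i →
      IsZero (((DRing.gammaI I).rightDerived i).obj N) := by
    intro N i hi
    have h1 : IsZero ((localCohomology I i).obj N) :=
      ModuleCat.isZero_iff_subsingleton.2 (he N i hi)
    exact IsZero.of_iso h1 ((lcIsoδ I i).app N).symm
  obtain ⟨Ω, u, hu⟩ := exists_universal e (ModuleCat.of A (A ⧸ I ^ n))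
  obtain ⟨m, hm, hmu⟩ := exists_kill I Ω e (hcd Ω (e + 1) (Nat.lt_succ_self e)) n u
  refine ⟨m, hm, ?_⟩
  have key : ∀ (i : ℕ), e + 1 ≤ i → ∀ (N : ModuleCat.{u} A)
      (ξ : Ext.{u} (ModuleCat.of A (A ⧸ I ^ n)) N i),
        (Ext.mk₀ (qmap I hm.le)).comp ξ (zero_add _) = 0 := by
    intro i hi
    induction i, hi using Nat.le_induction with
    | base =>
      intro N ξ
      obtain ⟨g, rfl⟩ := hu N ξ
      rw [← Ext.comp_assoc_of_third_deg_zero, hmu, Ext.zero_comp]
    | succ i hi ih =>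
      intro N ξ
      let S : ShortComplex (ModuleCat.{u} A) :=
        ShortComplex.mk (Injective.ι N) (cokernel.π (Injective.ι N)) (cokernel.condition _)
      have hS : S.ShortExact :=
        { exact := ShortComplex.exact_cokernel _
          mono_f := inferInstanceAs (Mono (Injective.ι N))
          epi_g := inferInstanceAs (Epi (cokernel.π _)) }
      obtain ⟨x₃, hx₃⟩ := Ext.covariant_sequence_exact₁ _ hS ξ
        (Ext.eq_zero_of_injective (I := Injective.under N) _) (n₀ := i) rfl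
      rw [← hx₃, ← Ext.comp_assoc _ _ _ (zero_add i) rfl (by omega), ih, Ext.zero_comp]
  intro N i hi ξ
  exact key i hi N ξ

attribute [local instance] HasDerivedCategory.standard

/-- the derived category form -/
theorem s1744 (A : Type u) [CommRing A] [IsNoetherianRing A] (I : Ideal A) (e : ℕ) (he : LocCoh.CdLE A I e) (n : ℕ) (hn : 1 ≤ n) : ∃ (m : ℕ) (hm : n < m), ∀ (N : Type u) [AddCommGroup N] [Module A N] (i : ℕ), e < i → ∀ φ : Dual.inD A (A ⧸ I ^ n) ⟶ (Dual.inD A N)⟦(i : ℤ)⟧, (DerivedCategory.singleFunctor (ModuleCat.{u} A) 0).map (ModuleCat.ofHom (Submodule.mapQ (I ^ m) (I ^ n) LinearMap.id (Ideal.pow_le_pow_right (Nat.le_of_lt hm)))) ≫ φ = 0 := by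
  obtain ⟨m, hm, h⟩ := uniform I e he n
  refine ⟨m, hm, fun N _ _ i hi φ => ?_⟩
  obtain ⟨ξ, rfl⟩ := (Ext.homEquiv (X := ModuleCat.of A (A ⧸ I ^ n)) (Y := ModuleCat.of A N)
    (n := i)).surjective φ
  have h1 := congrArg Ext.hom (h (ModuleCat.of A N) i hi ξ)
  rw [Ext.comp_hom, Ext.mk₀_hom, Ext.zero_hom, ShiftedHom.mk₀_comp] at h1
  exact h1

end Groth.Agent.Helper1.ExtTrans
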