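import Mathlib
import Groth.Agent.Helper1.FB2

/-!
# Fibres: changing the model of the fibre along an algebra isomorphism; polynomial fibres
-/

set_option autoImplicit false
set_option linter.style.haveILetI false

namespace Groth.Agent.Helper1.FB

open CategoryTheory Limits AlgebraicGeometry TopologicalSpace Opposite
open scoped TensorProduct

universe u

noncomputable section

theorem fibre_iso_trans {W : Scheme.{u}} {K D₁ D₂ : Type u} [CommRing K] [CommRing D₁]
    [CommRing D₂] [Algebra K D₁] [Algebra K D₂] (s : W ⟶ Spec (CommRingCat.of K))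
    (e : W ≅ Spec (CommRingCat.of D₁))
    (he : e.hom ≫ Spec.map (CommRingCat.ofHom (algebraMap K D₁)) = s)
    (Λ : D₁ ≃ₐ[K] D₂) :
    ∃ e' : W ≅ Spec (CommRingCat.of D₂),
      e'.hom ≫ Spec.map (CommRingCat.ofHom (algebraMap K D₂)) = s := by
  refine ⟨e ≪≫ specIso Λ.toRingEquiv, ?_⟩
  rw [Iso.trans_hom, Category.assoc, ← he]
  congr 1
  show Spec.map _ ≫ Spec.map _ = _
  rw [← Spec.map_comp, ← CommRingCat.ofHom_comp]
  congr 2
  ext k
  exact Λ.symm.commutes k

/-- the fibre over a point of the chart when `B ≅ C[X]` -/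
theorem exists_fibre_iso_polynomial {X P : Scheme.{u}} (π : X ⟶ P) (x : P) {C B : Type u}
    [CommRing C] [CommRing B] [Algebra C B]
    (j : Spec (CommRingCat.of C) ⟶ P) [IsOpenImmersion j]
    (c : Spec (CommRingCat.of B) ⟶ X) [IsOpenImmersion c]
    (h1 : c ≫ π = Spec.map (CommRingCat.ofHom (algebraMap C B)) ≫ j)
    (h2 : π ⁻¹ᵁ j.opensRange = c.opensRange) (hx : x ∈ j.opensRange)
    (Θ : B ≃ₐ[C] Polynomial C) :
    ∃ e : pullback π (P.fromSpecResidueField x) ≅
        Spec (CommRingCat.of (Polynomial (P.residueField x))),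
      e.hom ≫ Spec.map (CommRingCat.ofHom (algebraMap (P.residueField x)
        (Polynomial (P.residueField x)))) =
          pullback.snd π (P.fromSpecResidueField x) := by
  obtain ⟨e, he⟩ := exists_fibre_iso_addMonoidAlgebra π x j c h1 h2 hx
    (Θ.trans (Polynomial.toFinsuppIsoAlg C))
  exact fibre_iso_trans _ e he (Polynomial.toFinsuppIsoAlg (P.residueField x)).symm

end

end Groth.Agent.Helper1.FB
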