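import Groth.Agent.Helper1.HMap10
import Groth.Agent.Helper1.FlatCxBC2

set_option autoImplicit false
set_option linter.unusedVariables false
universe u
open CategoryTheory CategoryTheory.Limits MonoidalCategory TensorProduct

/-!
# Chain complexes of finite free modules: projectivity of the homology over the free loci of
two consecutive opcycles, and propagation of the free loci
-/

noncomputable section

namespace Groth.Agent.Helper1.HMap

open Groth.Agent.Helper1.FlatCx Groth.Agent.Helper1.BCFlatCoh Groth.Agent.Helper1

variable {A : Type u} [CommRing A] (K : ChainComplex (ModuleCat.{u} A) ℤ)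
  (hK : ∀ i, Module.Finite A (K.X i) ∧ Module.Free A (K.X i))

lemma next_down (p : ℤ) : (ComplexShape.down ℤ).next p = p - 1 := by simp

lemma prev_down (p : ℤ) : (ComplexShape.down ℤ).prev (p - 1) = p := by simp

lemma prev_down' (p : ℤ) : (ComplexShape.down ℤ).prev p = p + 1 := by simp

include hK in
/-- the locus where `T_p` is right exact: the free locus of `Z'_{p-1}` is open -/
lemma isOpen_freeLocus_opcycles (p : ℤ) : IsOpen (Module.freeLocus A (K.opcycles p)) := by
  haveI := (hK (p + 1)).1
  haveI := (hK p).1
  haveI := (hK p).2
  haveI := finitePresentation_opcycles K (p + 1) p (prev_down' p)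
  exact Module.isOpen_freeLocus

include hK in
/-- over the free loci of `Z'_p` and `Z'_{p-1}`, the homology of every base change is finite
projective -/
theorem finite_projective_homology_bcCx (p : ℤ) (a : A)
    (hsub₁ : (PrimeSpectrum.basicOpen a : Set (PrimeSpectrum A)) ⊆
      Module.freeLocus A (K.opcycles p))
    (hsub₂ : (PrimeSpectrum.basicOpen a : Set (PrimeSpectrum A)) ⊆
      Module.freeLocus A (K.opcycles (p - 1)))
    (B : Type u) [CommRing B] [Algebra A B] (hB : IsUnit (algebraMap A B a)) :
    Module.Finite B ((CohIII.bcCx (algebraMap A B) K).homology p) ∧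
      Module.Projective B ((CohIII.bcCx (algebraMap A B) K).homology p) := by
  haveI := (hK (p + 1)).1
  haveI := (hK p).1
  haveI := (hK p).2
  haveI := (hK (p - 1)).1
  haveI := (hK (p - 1)).2
  haveI : Module.Projective B ((CohIII.bcCx (algebraMap A B) K).X (p - 1)) :=
    projective_bcCx_X K B (p - 1)
  haveI : Module.Finite B ((CohIII.bcCx (algebraMap A B) K).X p) := finite_bcCx_X K B p
  haveI : Module.Projective B ((CohIII.bcCx (algebraMap A B) K).opcycles (p - 1)) :=
    projective_opcycles_bcCx K p (p - 1) a (prev_down p) hsub₂ B hB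
  haveI : Module.Projective B ((CohIII.bcCx (algebraMap A B) K).opcycles p) :=
    projective_opcycles_bcCx K (p + 1) p a (prev_down' p) hsub₁ B hB
  exact ⟨finite_homology_of_projective_opcycles _ p (p - 1) (next_down p) (prev_down p),
    projective_homology_of_projective_opcycles _ p (p - 1) (next_down p) (prev_down p)⟩

include hK in
/-- propagation: at a point of the free locus of `Z'_{p-1}`, if `H_p` is flat then the point
lies in the free locus of `Z'_p` -/
theorem mem_freeLocus_opcycles_of_flat_homology (p : ℤ) (x : PrimeSpectrum A)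
    (hx : x ∈ Module.freeLocus A (K.opcycles (p - 1)))
    (hfl : Module.Flat A (K.homology p)) :
    x ∈ Module.freeLocus A (K.opcycles p) := by
  haveI := (hK (p + 1)).1
  haveI := (hK p).1
  haveI := (hK p).2
  haveI := (hK (p - 1)).1
  haveI := (hK (p - 1)).2
  obtain ⟨_, ⟨a, rfl⟩, hxa, hsub⟩ :=
    PrimeSpectrum.isTopologicalBasis_basic_opens.exists_subset_of_mem_open hx
      (isOpen_freeLocus_opcycles K hK (p - 1))
  let B := Localization.AtPrime x.asIdeal
  have hB : IsUnit (algebraMap A B a) :=
    IsLocalization.map_units B (⟨a, hxa⟩ : x.asIdeal.primeCompl)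
  obtain ⟨eL, -⟩ := exists_equiv_of_basicOpen K p (p - 1) a (next_down p) (prev_down p) hsub B hB
  haveI : Module.Flat B (B ⊗[A] K.homology p) := inferInstance
  haveI : Module.Flat B ((CohIII.bcCx (algebraMap A B) K).homology p) :=
    Module.Flat.of_linearEquiv eL.symm
  haveI : Module.Projective B ((CohIII.bcCx (algebraMap A B) K).X (p - 1)) :=
    projective_bcCx_X K B (p - 1)
  haveI : Module.Projective B ((CohIII.bcCx (algebraMap A B) K).opcycles (p - 1)) :=
    projective_opcycles_bcCx K p (p - 1) a (prev_down p) hsub B hB
  have h1 : Module.Flat B ((CohIII.bcCx (algebraMap A B) K).opcycles p) :=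
    flat_opcycles_of_flat_homology _ p (p - 1) (next_down p) (prev_down p)
  haveI := finitePresentation_opcycles K (p + 1) p (prev_down' p)
  haveI : Module.Flat B (B ⊗[A] K.opcycles p) :=
    Module.Flat.of_linearEquiv (bcOpcyclesEquiv K B p).symm
  haveI : Module.FinitePresentation B (B ⊗[A] K.opcycles p) := inferInstance
  rw [Module.mem_freeLocus_iff_tensor x B]
  exact Module.free_of_flat_of_isLocalRing

end Groth.Agent.Helper1.HMap

end
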