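import Groth.Agent.Helper1.GBC9
import Groth.Agent.Helper1.BCFlatCoh2
import Groth.Agent.Helper1.HMap11

set_option autoImplicit false
set_option linter.unusedVariables false
set_option linter.style.haveILetI false
universe u
open CategoryTheory CategoryTheory.Limits AlgebraicGeometry TopologicalSpace Opposite TensorProduct

/-!
# Base change for cohomology when all `H^p(X, F)` are flat: the canonical map
-/

noncomputable section

namespace Groth.Agent.Helper1.FBC

open Groth.Agent.Helper1.Cech Groth.Agent.Helper1.TensSec Groth.Agent.Helper1.NatCech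
open Groth.Agent.Helper1.ACech Groth.Agent.Helper1.CechBC Groth.Agent.Lead.BCMap
open Groth.Agent.Helper1.HMap Groth.Agent.Helper1.FlatCx Groth.Agent.Helper4
open Groth.Agent.Helper1.Bridge Groth.Agent.Helper1.GBC Groth.Agent.Helper1.BCFlatCoh

/-- **base change for cohomology when all `H^p(X, F)` are flat**: the pullback of cohomology
classes is a base change map -/
theorem exists_equiv_pullMod_of_flat (A A' : Type u) [CommRing A] [CommRing A'] [Algebra A A']
    (X X' : Scheme.{u}) [X.Over (Spec (CommRingCat.of A))] [X'.Over (Spec (CommRingCat.of A'))]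
    [QuasiCompact (X ↘ Spec (CommRingCat.of A))] [IsSeparated (X ↘ Spec (CommRingCat.of A))]
    (g' : X' ⟶ X)
    (hsq : IsPullback g' (X' ↘ Spec (CommRingCat.of A')) (X ↘ Spec (CommRingCat.of A))
      (Spec.map (CommRingCat.ofHom (algebraMap A A'))))
    (F : X.Modules) [F.IsQuasicoherent]
    (hfl : FlatMod.IsFlatOver (X ↘ Spec (CommRingCat.of A)) F)
    (hH : ∀ p : ℕ, Module.Flat A (Coh.HH X F p)) (n : ℕ) :
    ∃ eL : A' ⊗[A] Coh.HH X F n ≃ₗ[A'] Coh.HH X' ((Scheme.Modules.pullback g').obj F) n,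
      ∀ x, eL (1 ⊗ₜ x) = CohPull.pullMod g' F n x := by
  classical
  obtain ⟨t, U, hU, hcov⟩ := exists_cover A (X := X)
  have hd := affine_inf A (X := X)
  obtain ⟨e₁, e₁', he₁⟩ := exists_gc A A' g' hsq U hU hd hcov F n
  have hCA : GCAt A A' g' F (CA A (Uc U) F) n n := ⟨e₁, e₁', he₁⟩
  have hPZ : GCAt A A' g' F (PZ A U F) (-(n : ℤ)) n := hCA.extend embNeg
  obtain ⟨e, e', he⟩ := hPZ
  have hflat := flat_PZ A U hU hd F hfl
  have hex := exact_PZ A U hU hd hcov F hfl hH (-(n : ℤ))
  have hO : Module.Flat A ((PZ A U F).opcycles (-(n : ℤ) - 1)) :=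
    (chain_preservesEpi_iff (PZ A U F) hflat (-(n : ℤ)) (-(n : ℤ) - 1) (by ring)).mp hex.2
  have hbc : BCExact A' (PZ A U F) (-(n : ℤ)) (-(n : ℤ) - 1) :=
    bc_exact A' (PZ A U F) (-(n : ℤ)) (-(n : ℤ) - 1) (next_down _) (prev_down _) (hflat _) hO
  obtain ⟨eL, heL⟩ := hbc.exists_equiv (next_down _)
  refine ⟨(TensorProduct.AlgebraTensorModule.congr (LinearEquiv.refl A' A') e.symm) ≪≫ₗ
    eL ≪≫ₗ e', ?_⟩
  intro x
  show e' (eL ((TensorProduct.AlgebraTensorModule.congr (LinearEquiv.refl A' A') e.symm)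
    (1 ⊗ₜ x))) = _
  rw [TensorProduct.AlgebraTensorModule.congr_tmul, LinearEquiv.refl_apply, heL, he,
    LinearEquiv.apply_symm_apply]

end Groth.Agent.Helper1.FBC
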