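import Groth.Agent.Helper1.SCV17

set_option autoImplicit false
set_option linter.style.haveILetI false
set_option linter.unusedSectionVars false
set_option linter.unusedVariables false

/-!
# Base change isomorphisms over the locus where `T^p` is right exact
-/

namespace Groth.Agent.Helper1.SCV

open CategoryTheory Opposite TopologicalSpace AlgebraicGeometry TensorProduct
  AlgebraicGeometry.Scheme.Modules Topology
open Groth.Agent.Helper1.BaseChart Groth.Agent.Helper1.GBC Groth.Agent.Helper1.HMap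
open Groth.Agent.Lead.BCMap

universe u

variable {X S : Scheme.{u}} (f : X ⟶ S)

/-- the point `s` lies in the locus of some chart where `T^p` is right exact -/
def GoodAt (F : X.Modules) (p : ℕ) (s : S) : Prop :=
  ∃ (W : S.Opens) (hWa : IsAffine (W : Scheme.{u})) (hs : s ∈ W)
    (K : ChainComplex (ModuleCat.{u} (AV W)) ℤ),
    Master f W F K ∧ chartPt W s hs ∈ OLoc W K p

variable {f}

/-- the locus where `T^p` is right exact is open -/
theorem GoodAt.exists_nhd {F : X.Modules} {p : ℕ} {s : S} (hg : GoodAt f F p s) :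
    ∃ U : S.Opens, s ∈ U ∧ ∀ w ∈ U, GoodAt f F p w := by
  obtain ⟨W, hWa, hs, K, M, hx⟩ := hg
  haveI := hWa
  have hopen : IsOpen (OLoc W K p) := isOpen_freeLocus_opcycles K M.hK _
  obtain ⟨W₁, hsW₁, hW₁W, hW₁⟩ := exists_open_of_nhds W s hs (OLoc W K p) (hopen.mem_nhds hx)
  exact ⟨W₁, hsW₁, fun w hw => ⟨W, hWa, hW₁W hw, K, M, hW₁ w (hW₁W hw) hw⟩⟩

section bc

variable {X' S' : Scheme.{u}} {g : S' ⟶ S} {f' : X' ⟶ S'} {g' : X' ⟶ X}
  (h : IsPullback g' f' f g)
  [HasInjectiveResolutions X.Modules] [HasInjectiveResolutions X'.Modules]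
  {Δ : RDer.DerivedLES (pushforward f)} {Δ' : RDer.DerivedLES (pushforward f')}
  {E : CohCmp.SectCmp f Δ} {E' : CohCmp.SectCmp f' Δ'} (B : CohCmp.GenBC f g f' g' h.w E E')
  [QuasiCompact f] [QuasiSeparated f]
  (F : X.Modules) [Coh.IsQCoh F] (p : ℕ)

set_option maxHeartbeats 1600000 in
/-- **base change**: over the locus where `T^p` is right exact, the base change map in degree
`p` is an isomorphism -/
theorem isIso_bc_of_goodAt (hgood : ∀ z : S', GoodAt f F p (g z)) : IsIso (B.bc p F) := by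
  haveI : F.IsQuasicoherent := inferInstance
  have qN0 : Coh.IsQCoh ((Coh.Rpush f p).obj F) := Groth.Agent.S0030.result f F p
  haveI qN : ((Coh.Rpush f p).obj F).IsQuasicoherent := qN0
  haveI : QuasiCompact f' := MorphismProperty.of_isPullback (P := @QuasiCompact) h inferInstance
  haveI : QuasiSeparated f' :=
    MorphismProperty.of_isPullback (P := @QuasiSeparated) h inferInstance
  haveI qG : ((Scheme.Modules.pullback g').obj F).IsQuasicoherent :=
    Groth.Agent.Lead.StalkPull.isQuasicoherent_pullbackObj g' F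
  haveI : Coh.IsQCoh ((Scheme.Modules.pullback g').obj F) := qG
  have qN0' : Coh.IsQCoh ((Coh.Rpush f' p).obj ((Scheme.Modules.pullback g').obj F)) :=
    Groth.Agent.S0030.result f' _ p
  haveI qN' : ((Coh.Rpush f' p).obj ((Scheme.Modules.pullback g').obj F)).IsQuasicoherent := qN0'
  haveI qS : ((Scheme.Modules.pullback g).obj ((Coh.Rpush f p).obj F)).IsQuasicoherent :=
    Groth.Agent.Lead.StalkPull.isQuasicoherent_pullbackObj g _
  apply Groth.Agent.Helper4.QcohLocal.isIso_of_app_bijective_of_affine_cover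
  intro z
  obtain ⟨W, hWa, hs, K, M, hx⟩ := hgood z
  haveI := hWa
  haveI := (M.hK (-(p : ℤ))).1
  haveI := (M.hK (-(p : ℤ) - 1)).1
  haveI := (M.hK (-(p : ℤ) - 1)).2
  obtain ⟨_, ⟨a, rfl⟩, hxa, hsub⟩ :=
    PrimeSpectrum.isTopologicalBasis_basic_opens.exists_subset_of_mem_open hx
      (isOpen_freeLocus_opcycles K M.hK (-(p : ℤ) - 1))
  obtain ⟨W₁, hsW₁, hW₁W, hW₁⟩ := exists_open_of_nhds W (g z) hs
    (PrimeSpectrum.basicOpen a : Set (PrimeSpectrum (AV W)))
    ((PrimeSpectrum.basicOpen a).isOpen.mem_nhds hxa)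
  obtain ⟨V', hV', hzV', hV'W₁⟩ :=
    exists_isAffineOpen_mem_and_subset (x := z) (U := g ⁻¹ᵁ W₁) hsW₁
  haveI : IsAffine (V' : Scheme.{u}) := hV'
  have e : V' ≤ g ⁻¹ᵁ W := fun y hy => hW₁W (hV'W₁ hy)
  letI := chartsAlgebra g W V' e
  have hB : IsUnit (algebraMap (AV W) (AV V') a) := by
    by_contra hnu
    obtain ⟨M', hM', haM'⟩ := exists_max_ideal_of_mem_nonunits hnu
    obtain ⟨w, hw, hwy⟩ := exists_eq_chartPt V' (⟨M', hM'.isPrime⟩ : PrimeSpectrum (AV V'))
    have h2 : chartPt W (g w) (e hw) ∈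
        (PrimeSpectrum.basicOpen a : Set (PrimeSpectrum (AV W))) :=
      hW₁ (g w) (e hw) (hV'W₁ hw)
    rw [← chartPt_comap g W V' e w hw, hwy] at h2
    exact h2 haM'
  letI oW := chartOver f W
  letI oV' := chartOver f' V'
  have hGC := M.gc p (AV V') (XV f' V') (gRes f g f' g' W V' e h.w)
    (isPullback_charts f g f' g' W V' e h)
  have main := bc_app_main h B F p W V' e (resCompat h F p W V' e) K (-(p : ℤ)) hGC
  refine ⟨V', hV', hzV', main.2 ?_⟩
  exact exists_equiv_of_basicOpen K (-(p : ℤ)) (-(p : ℤ) - 1) a (next_down _) (prev_down _) hsub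
    (AV V') hB

end bc

end Groth.Agent.Helper1.SCV
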