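import Groth.Agent.Helper1.FBC2
import Groth.Agent.Helper1.SCV18

set_option autoImplicit false
set_option linter.unusedVariables false
set_option linter.unusedSectionVars false
set_option linter.style.haveILetI false
universe u
open CategoryTheory CategoryTheory.Limits AlgebraicGeometry TopologicalSpace Opposite TensorProduct
open AlgebraicGeometry.Scheme.Modules

/-!
# The base change map over an affine open when the higher direct images are flat over a base
-/

noncomputable section

namespace Groth.Agent.Helper1.FBC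

open Groth.Agent.Helper1.BaseChart Groth.Agent.Helper1.GBC Groth.Agent.Helper1.HMap
open Groth.Agent.Lead.BCMap Groth.Agent.Helper1.SCV

variable {X Y X' Y' : Scheme.{u}} {f : X ⟶ Y} {gY : Y' ⟶ Y} {f' : X' ⟶ Y'} {gX : X' ⟶ X}
  (hX : IsPullback gX f' f gY)
  (V : Y.Opens) (V' : Y'.Opens) [IsAffine (V : Scheme.{u})] [IsAffine (V' : Scheme.{u})]
  (e : V' ≤ gY ⁻¹ᵁ V)
  (R R' : Type u) [CommRing R] [CommRing R'] [Algebra R R']
  (σ : R →+* Γ(Y, V)) (σ' : R' →+* Γ(Y', V'))

/-- the structure map to the ring of the chart -/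
def psi : R →+* AV V := (V.topIso.inv.hom).comp σ

lemma tau_psi (r : R) : tau V (psi V R σ r) = σ r := by
  show V.topIso.hom.hom (V.topIso.inv.hom (σ r)) = σ r
  rw [← CommRingCat.comp_apply, Iso.inv_hom_id]
  rfl

variable (hpo : IsPushout (CommRingCat.ofHom σ) (CommRingCat.ofHom (algebraMap R R'))
    (gY.appLE V V' e) (CommRingCat.ofHom σ'))

include hpo in
/-- the pushout square of the rings of the charts -/
lemma isPushout_psi :
    letI := chartsAlgebra gY V V' e
    IsPushout (CommRingCat.ofHom (psi V R σ)) (CommRingCat.ofHom (algebraMap R R'))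
      (CommRingCat.ofHom (algebraMap (AV V) (AV V'))) (CommRingCat.ofHom (psi V' R' σ')) := by
  letI := chartsAlgebra gY V V' e
  refine IsPushout.of_iso hpo (Iso.refl _) V.topIso.symm (Iso.refl _) V'.topIso.symm ?_ ?_ ?_ ?_
  · rfl
  · rfl
  · have h1 : (gY.resLE V V' e).appTop = V.topIso.hom ≫ gY.appLE V V' e ≫ V'.topIso.inv :=
      Scheme.Hom.resLE_app_top gY e
    show gY.appLE V V' e ≫ V'.topIso.inv = V.topIso.inv ≫ (gY.resLE V V' e).appTop
    rw [h1, Iso.inv_hom_id_assoc]
  · rfl

include hpo in
/-- the cartesian square of the charts over the spectra of `R` and `R'` -/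
theorem isPullback_charts_over :
    IsPullback (gRes f gY f' gX V V' e hX.w)
      (chartHom f' V' ≫ Spec.map (CommRingCat.ofHom (psi V' R' σ')))
      (chartHom f V ≫ Spec.map (CommRingCat.ofHom (psi V R σ)))
      (Spec.map (CommRingCat.ofHom (algebraMap R R'))) := by
  letI := chartsAlgebra gY V V' e
  have h1 := isPullback_charts f gY f' gX V V' e hX
  have h2 := isPullback_SpecMap_of_isPushout _ _ _ _ (isPushout_psi V V' e R R' σ σ' hpo)
  exact h1.paste_vert h2

variable [HasInjectiveResolutions X.Modules] [HasInjectiveResolutions X'.Modules]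
  {Δ : RDer.DerivedLES (pushforward f)} {Δ' : RDer.DerivedLES (pushforward f')}
  {E : CohCmp.SectCmp f Δ} {E' : CohCmp.SectCmp f' Δ'} (B : CohCmp.GenBC f gY f' gX hX.w E E')
  [QuasiCompact f] [IsSeparated f] (F : X.Modules) [Coh.IsQCoh F] (n : ℕ)

/-- the comparison map of an affine chart as a linear equivalence over a ring mapping to the
functions on the chart -/
def epsEquiv (hV : IsAffineOpen V) (p : ℕ) :
    letI : (XV f V).Over (Spec (CommRingCat.of R)) :=
      ⟨chartHom f V ≫ Spec.map (CommRingCat.ofHom (psi V R σ))⟩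
    letI : Module R Γ((Coh.Rpush f p).obj F, V) := Module.compHom _ σ
    Coh.HH (XV f V) (FV f V F) p ≃ₗ[R] Γ((Coh.Rpush f p).obj F, V) :=
  letI : (XV f V).Over (Spec (CommRingCat.of R)) :=
    ⟨chartHom f V ≫ Spec.map (CommRingCat.ofHom (psi V R σ))⟩
  letI : Module R Γ((Coh.Rpush f p).obj F, V) := Module.compHom _ σ
  { AddEquiv.ofBijective (E.ε V F p) (ε_bijective_of_isAffineOpen f V E hV F p) with
    map_smul' := by
      intro r x
      show E.ε V F p (r • x) = (σ r : Γ(Y, V)) • E.ε V F p x
      rw [← ε_smul]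
      congr 1
      show Sheaf.H.map (Coh.smulAb _ (Coh.toGlobal
        (chartHom f V ≫ Spec.map (CommRingCat.ofHom (psi V R σ))) r)) p x = _
      rw [toGlobal_comp_specMap, toGlobal_chart, tau_psi]
      rfl }

end Groth.Agent.Helper1.FBC
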