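import Groth.Agent.Helper1.FBC3

set_option autoImplicit false
set_option linter.unusedVariables false
set_option linter.unusedSectionVars false
set_option linter.style.haveILetI false
universe u
open CategoryTheory CategoryTheory.Limits AlgebraicGeometry TopologicalSpace Opposite TensorProduct
open AlgebraicGeometry.Scheme.Modules

/-!
# The base change map over an affine open when the higher direct images are flat over a base (II)
-/

noncomputable section

namespace Groth.Agent.Helper1.FBC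

open Groth.Agent.Helper1.BaseChart Groth.Agent.Helper1.GBC Groth.Agent.Helper1.HMap
open Groth.Agent.Lead.BCMap Groth.Agent.Helper1.SCV

variable {X Y X' Y' : Scheme.{u}} {f : X ⟶ Y} {gY : Y' ⟶ Y} {f' : X' ⟶ Y'} {gX : X' ⟶ X}
  (hX : IsPullback gX f' f gY)
  (V : Y.Opens) (V' : Y'.Opens) [IsAffine (V : Scheme.{u})] [IsAffine (V' : Scheme.{u})]
  (e : V' ≤ gY ⁻¹ᵁ V)
  (R R' : Type u) [CommRing R] [CommRing R'] [Algebra R R']
  (σ : R →+* Γ(Y, V)) (σ' : R' →+* Γ(Y', V'))
  (hpo : IsPushout (CommRingCat.ofHom σ) (CommRingCat.ofHom (algebraMap R R'))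
    (gY.appLE V V' e) (CommRingCat.ofHom σ'))
  [HasInjectiveResolutions X.Modules] [HasInjectiveResolutions X'.Modules]
  {Δ : RDer.DerivedLES (pushforward f)} {Δ' : RDer.DerivedLES (pushforward f')}
  {E : CohCmp.SectCmp f Δ} {E' : CohCmp.SectCmp f' Δ'} (B : CohCmp.GenBC f gY f' gX hX.w E E')
  [QuasiCompact f] [IsSeparated f] (F : X.Modules) [Coh.IsQCoh F] (n : ℕ)

include hpo E in
set_option maxHeartbeats 1600000 in
/-- the pullback of classes between the charts is a base change map along `R → R'` -/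
theorem exists_equiv_pullMod_chart
    (hfl : FlatMod.IsFlatOver (chartHom f V ≫ Spec.map (CommRingCat.ofHom (psi V R σ)))
      (FV f V F))
    (hN : ∀ p : ℕ, @Module.Flat R Γ((Coh.Rpush f p).obj F, V) _ _ (Module.compHom _ σ)) :
    letI : (XV f V).Over (Spec (CommRingCat.of R)) :=
      ⟨chartHom f V ≫ Spec.map (CommRingCat.ofHom (psi V R σ))⟩
    letI : (XV f' V').Over (Spec (CommRingCat.of R')) :=
      ⟨chartHom f' V' ≫ Spec.map (CommRingCat.ofHom (psi V' R' σ'))⟩
    ∃ eL : R' ⊗[R] Coh.HH (XV f V) (FV f V F) n ≃ₗ[R']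
        Coh.HH (XV f' V') ((Scheme.Modules.pullback (gRes f gY f' gX V V' e hX.w)).obj
          (FV f V F)) n,
      ∀ x, eL (1 ⊗ₜ x) = CohPull.pullMod (gRes f gY f' gX V V' e hX.w) (FV f V F) n x := by
  letI oX : (XV f V).Over (Spec (CommRingCat.of R)) :=
    ⟨chartHom f V ≫ Spec.map (CommRingCat.ofHom (psi V R σ))⟩
  letI oX' : (XV f' V').Over (Spec (CommRingCat.of R')) :=
    ⟨chartHom f' V' ≫ Spec.map (CommRingCat.ofHom (psi V' R' σ'))⟩
  have hV : IsAffineOpen V := ‹IsAffine (V : Scheme.{u})›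
  have hsq := isPullback_charts_over hX V V' e R R' σ σ' hpo
  haveI : QuasiCompact (chartHom f V) := by
    unfold chartHom
    infer_instance
  haveI : IsSeparated (chartHom f V) := by
    unfold chartHom
    infer_instance
  haveI : QuasiCompact (XV f V ↘ Spec (CommRingCat.of R)) := by
    show QuasiCompact (chartHom f V ≫ Spec.map (CommRingCat.ofHom (psi V R σ)))
    infer_instance
  haveI : IsSeparated (XV f V ↘ Spec (CommRingCat.of R)) := by
    show IsSeparated (chartHom f V ≫ Spec.map (CommRingCat.ofHom (psi V R σ)))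
    infer_instance
  haveI : F.IsQuasicoherent := inferInstance
  haveI : (FV f V F).IsQuasicoherent := inferInstance
  have hH : ∀ p : ℕ, Module.Flat R (Coh.HH (XV f V) (FV f V F) p) := by
    intro p
    letI : Module R Γ((Coh.Rpush f p).obj F, V) := Module.compHom _ σ
    haveI : Module.Flat R Γ((Coh.Rpush f p).obj F, V) := hN p
    exact Module.Flat.of_linearEquiv (epsEquiv V R σ (E := E) F hV p)
  exact exists_equiv_pullMod_of_flat R R' (XV f V) (XV f' V')
    (gRes f gY f' gX V V' e hX.w) hsq (FV f V F) hfl hH n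

include hpo in
set_option maxHeartbeats 3200000 in
/-- **the base change map over an affine open is bijective** when the module and its higher
direct images are flat over a base `R` and the ring of the open `V'` is the pushout -/
theorem bc_app_bijective_of_flat
    (hfl : FlatMod.IsFlatOver (chartHom f V ≫ Spec.map (CommRingCat.ofHom (psi V R σ)))
      (FV f V F))
    (hN : ∀ p : ℕ, @Module.Flat R Γ((Coh.Rpush f p).obj F, V) _ _ (Module.compHom _ σ)) :
    Function.Bijective ((B.bc n F).app V') := by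
  letI oX : (XV f V).Over (Spec (CommRingCat.of R)) :=
    ⟨chartHom f V ≫ Spec.map (CommRingCat.ofHom (psi V R σ))⟩
  letI oX' : (XV f' V').Over (Spec (CommRingCat.of R')) :=
    ⟨chartHom f' V' ≫ Spec.map (CommRingCat.ofHom (psi V' R' σ'))⟩
  obtain ⟨eL, heL⟩ := exists_equiv_pullMod_chart hX V V' e R R' σ σ' hpo (E := E) F n hfl hN
  have hV : IsAffineOpen V := ‹IsAffine (V : Scheme.{u})›
  have hV' : IsAffineOpen V' := ‹IsAffine (V' : Scheme.{u})›
  haveI : QuasiSeparated f := inferInstance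
  haveI : F.IsQuasicoherent := inferInstance
  have qN0 : Coh.IsQCoh ((Coh.Rpush f n).obj F) := Groth.Agent.S0030.result f F n
  haveI qN : ((Coh.Rpush f n).obj F).IsQuasicoherent := qN0
  haveI : QuasiCompact f' := MorphismProperty.of_isPullback (P := @QuasiCompact) hX inferInstance
  haveI : QuasiSeparated f' :=
    MorphismProperty.of_isPullback (P := @QuasiSeparated) hX inferInstance
  haveI : IsSeparated f' :=
    MorphismProperty.of_isPullback (P := @IsSeparated) hX inferInstance
  haveI qG : ((Scheme.Modules.pullback gX).obj F).IsQuasicoherent :=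
    Groth.Agent.Lead.StalkPull.isQuasicoherent_pullbackObj gX F
  haveI : Coh.IsQCoh ((Scheme.Modules.pullback gX).obj F) := qG
  -- rings
  letI aRA : Algebra R Γ(Y, V) := σ.toAlgebra
  letI aAA' : Algebra Γ(Y, V) Γ(Y', V') := (gY.appLE V V' e).hom.toAlgebra
  letI aR'A' : Algebra R' Γ(Y', V') := σ'.toAlgebra
  letI aRA' : Algebra R Γ(Y', V') := (σ'.comp (algebraMap R R')).toAlgebra
  haveI tRR'A' : IsScalarTower R R' Γ(Y', V') := IsScalarTower.of_algebraMap_eq (fun r => rfl)
  haveI tRAA' : IsScalarTower R Γ(Y, V) Γ(Y', V') := IsScalarTower.of_algebraMap_eq (fun r => by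
    show σ' (algebraMap R R' r) = (gY.appLE V V' e).hom (σ r)
    have := congrArg (fun φ => φ.hom r) hpo.w
    exact this.symm)
  haveI hpush : Algebra.IsPushout R R' Γ(Y, V) Γ(Y', V') :=
    CommRingCat.isPushout_iff_isPushout.mp hpo.flip
  -- modules
  letI mRM : Module R Γ((Coh.Rpush f n).obj F, V) := Module.compHom _ σ
  haveI tM : IsScalarTower R Γ(Y, V) Γ((Coh.Rpush f n).obj F, V) :=
    IsScalarTower.of_compHom _ _ _
  letI mAN₂ : Module Γ(Y, V) Γ((Scheme.Modules.pullback gY).obj ((Coh.Rpush f n).obj F), V') :=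
    Module.compHom _ (gY.appLE V V' e).hom
  haveI tN₂ : IsScalarTower Γ(Y, V) Γ(Y', V')
      Γ((Scheme.Modules.pullback gY).obj ((Coh.Rpush f n).obj F), V') :=
    IsScalarTower.of_compHom _ _ _
  letI mR'N₂ : Module R' Γ((Scheme.Modules.pullback gY).obj ((Coh.Rpush f n).obj F), V') :=
    Module.compHom _ σ'
  haveI tN₂' : IsScalarTower R' Γ(Y', V')
      Γ((Scheme.Modules.pullback gY).obj ((Coh.Rpush f n).obj F), V') :=
    IsScalarTower.of_compHom _ _ _
  letI mR'N₁ : Module R' Γ((Coh.Rpush f' n).obj ((Scheme.Modules.pullback gX).obj F), V') :=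
    Module.compHom _ σ'
  letI mRN₁ : Module R Γ((Coh.Rpush f' n).obj ((Scheme.Modules.pullback gX).obj F), V') :=
    Module.compHom _ (algebraMap R R')
  haveI tN₁ : IsScalarTower R R'
      Γ((Coh.Rpush f' n).obj ((Scheme.Modules.pullback gX).obj F), V') :=
    IsScalarTower.of_compHom _ _ _
  obtain ⟨ρ₂, hρ₂, h₂⟩ := exists_isBaseChange_pbSec gY ((Coh.Rpush f n).obj F) hV hV' e
  let β : Γ((Scheme.Modules.pullback gY).obj ((Coh.Rpush f n).obj F), V') →ₗ[R']
      Γ((Coh.Rpush f' n).obj ((Scheme.Modules.pullback gX).obj F), V') :=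
    { toFun := (B.bc n F).app V'
      map_add' := fun a b => map_add _ a b
      map_smul' := fun r m => Hom.app_smul (B.bc n F) (σ' r) m }
  let iso := CohPull.pullOnIso gX (f ⁻¹ᵁ V) (f' ⁻¹ᵁ V') (preimage_le f gY f' gX V V' e hX.w) F
  let a₂ : Coh.HH (XV f' V') ((Scheme.Modules.pullback (gRes f gY f' gX V V' e hX.w)).obj
      (FV f V F)) n ≃ₗ[R'] Γ((Coh.Rpush f' n).obj ((Scheme.Modules.pullback gX).obj F), V') :=
    (Groth.Agent.Helper1.ProjTop.HHlinEquiv R' iso n) ≪≫ₗ
      (epsEquiv V' R' σ' (E := E') ((Scheme.Modules.pullback gX).obj F) hV' n)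
  let eM := epsEquiv V R σ (E := E) F hV n
  let Ê : R' ⊗[R] Γ((Coh.Rpush f n).obj F, V) ≃ₗ[R']
      Γ((Coh.Rpush f' n).obj ((Scheme.Modules.pullback gX).obj F), V') :=
    (TensorProduct.AlgebraTensorModule.congr (LinearEquiv.refl R' R') eM.symm) ≪≫ₗ eL ≪≫ₗ a₂
  let ρ₁ : Γ((Coh.Rpush f n).obj F, V) →ₗ[R]
      Γ((Coh.Rpush f' n).obj ((Scheme.Modules.pullback gX).obj F), V') :=
    (Ê.toLinearMap.restrictScalars R).comp (TensorProduct.mk R R' _ 1)
  have h₁ : IsBaseChange R' ρ₁ := IsBaseChange.of_equiv Ê (fun m => rfl)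
  have hβ : ∀ m, β (ρ₂ m) = ρ₁ m := by
    intro m
    obtain ⟨x, rfl⟩ := eM.surjective m
    have hL : β (ρ₂ (eM x)) = E'.ε V' ((Scheme.Modules.pullback gX).obj F) n
        (CohPull.pullOn gX (f ⁻¹ᵁ V) (f' ⁻¹ᵁ V') (preimage_le f gY f' gX V V' e hX.w) F n x) := by
      show (B.bc n F).app V' (ρ₂ (E.ε V F n x)) = _
      rw [hρ₂]
      exact bc_pbSec_ε hX B F n V V' e (resCompat hX F n V V' e) x
    have hR : ρ₁ (eM x) = a₂ (eL (1 ⊗ₜ x)) := by
      show a₂ (eL ((TensorProduct.AlgebraTensorModule.congr (LinearEquiv.refl R' R') eM.symm)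
        (1 ⊗ₜ eM x))) = _
      rw [TensorProduct.AlgebraTensorModule.congr_tmul, LinearEquiv.refl_apply,
        LinearEquiv.symm_apply_apply]
    rw [hL, hR, heL]
    rfl
  exact bijective_of_isBaseChange_of_isPushout' ρ₁ h₁ ρ₂ h₂ β hβ

end Groth.Agent.Helper1.FBC
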