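import Groth.Agent.Helper1.FBC4
import Groth.Agent.Helper9.RPL3
import Groth.Agent.Helper2.GenStalk4

set_option autoImplicit false
set_option linter.unusedVariables false
set_option linter.unusedSectionVars false
set_option linter.style.haveILetI false
universe u
open CategoryTheory CategoryTheory.Limits AlgebraicGeometry TopologicalSpace Opposite TensorProduct
open AlgebraicGeometry.Scheme.Modules

/-!
# Flatness of the chart over an affine open of a base
-/

noncomputable section

namespace Groth.Agent.Helper1.FBC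

open Groth.Agent.Helper1.BaseChart Groth.Agent.Helper1.GBC Groth.Agent.Helper1.HMap
open Groth.Agent.Lead.BCMap Groth.Agent.Helper1.SCV

variable {X Y S : Scheme.{u}} (a : X ⟶ S) (b : Y ⟶ S) (f : X ⟶ Y) (hf : f ≫ b = a)
  (S₀ : S.Opens) (hS₀ : IsAffineOpen S₀) (V : Y.Opens) [IsAffine (V : Scheme.{u})]
  (eV : V ≤ b ⁻¹ᵁ S₀)

include hf in
/-- the chart over the spectrum of the functions on an affine open of the base -/
theorem chart_over_fromSpec :
    (chartHom f V ≫ Spec.map (CommRingCat.ofHom (psi V Γ(S, S₀) (b.appLE S₀ V eV).hom))) ≫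
      hS₀.fromSpec = (f ⁻¹ᵁ V).ι ≫ a := by
  have hV : IsAffineOpen V := ‹IsAffine (V : Scheme.{u})›
  have h1 : Spec.map (b.appLE S₀ V eV) ≫ hS₀.fromSpec = hV.fromSpec ≫ b :=
    IsAffineOpen.SpecMap_appLE_fromSpec b hS₀ hV eV
  have h2 : CommRingCat.ofHom (psi V Γ(S, S₀) (b.appLE S₀ V eV).hom) =
      b.appLE S₀ V eV ≫ V.topIso.inv := rfl
  have h3 : (V : Scheme.{u}).isoSpec.hom ≫ Spec.map V.topIso.inv = hV.isoSpec.hom := by
    rfl
  have h4 : hV.isoSpec.hom ≫ hV.fromSpec = V.ι := by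
    rw [IsAffineOpen.fromSpec, ← Category.assoc, Iso.hom_inv_id, Category.id_comp]
  calc (chartHom f V ≫ Spec.map (CommRingCat.ofHom (psi V Γ(S, S₀) (b.appLE S₀ V eV).hom))) ≫
        hS₀.fromSpec
      = (f ∣_ V) ≫ ((V : Scheme.{u}).isoSpec.hom ≫ Spec.map V.topIso.inv) ≫
          Spec.map (b.appLE S₀ V eV) ≫ hS₀.fromSpec := by
        unfold chartHom
        rw [h2, Spec.map_comp]
        simp only [Category.assoc]
    _ = (f ∣_ V) ≫ hV.isoSpec.hom ≫ hV.fromSpec ≫ b := by rw [h3, h1]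
    _ = (f ∣_ V) ≫ V.ι ≫ b := by rw [← Category.assoc hV.isoSpec.hom, h4]
    _ = (f ⁻¹ᵁ V).ι ≫ a := by rw [← Category.assoc, morphismRestrict_ι, Category.assoc, hf]

include hf hS₀ in
/-- **flatness of the chart over the affine open of the base** -/
theorem isFlatOver_chart_over (F : X.Modules) (hF : FlatMod.IsFlatOver a F) :
    FlatMod.IsFlatOver
      (chartHom f V ≫ Spec.map (CommRingCat.ofHom (psi V Γ(S, S₀) (b.appLE S₀ V eV).hom)))
      (FV f V F) := by
  intro x
  rw [← Groth.Agent.Helper9.RPL3.isFlatOverAt_target_iff _ hS₀.fromSpec]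
  have key := chart_over_fromSpec a b f hf S₀ hS₀ V eV
  refine Groth.Agent.Helper2.GenStalk.isFlatOverAt_congr key.symm _ x ?_
  exact (Groth.Agent.Helper9.RPL3.isFlatOverAt_restrict_iff a (f ⁻¹ᵁ V).ι F x).mpr (hF _)

end Groth.Agent.Helper1.FBC
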