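import Mathlib
import Groth.Prelude.Def_FinCov
import Groth.Agent.Helper4.FinLocFree7
import Groth.Agent.Helper4.QCAlgGen
import Groth.Agent.Helper4.TwistExt

/-!
# FC1: basics for the trace of a finite locally free quasi-coherent algebra
-/

set_option autoImplicit false
open CategoryTheory Limits AlgebraicGeometry TopologicalSpace Opposite
universe u

namespace Groth.Agent.Helper1.FC
open Groth.Agent.Helper4 Groth.Agent.Helper4.FinLocFree Groth.Agent.Helper4.FinLocFree2

variable {X : Scheme.{u}}

/-- the algebra structure on the sections of a quasi-coherent algebra -/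
@[reducible] noncomputable def algSect (A : RelSpec.QCAlg X) (U : X.Opens) :
    Algebra Γ(X, U) (A.presheaf.obj (op U)) := (A.str.app (op U)).hom.toAlgebra

theorem nsmul_app {M N : X.Modules} (n : ℕ) (f : M ⟶ N) (U : X.Opens) (a : Γ(M, U)) :
    ((n • f).val.app (op U)).hom a = n • (f.val.app (op U)).hom a := by
  induction n with
  | zero => rw [zero_nsmul, zero_nsmul]; rfl
  | succ k ih =>
    rw [succ_nsmul, succ_nsmul, ← ih]
    rfl

/-- small affine opens with a basis of the sections of `A`. -/
theorem exists_affine_basis_le (A : RelSpec.QCAlg X) {V : X.Opens} {n : ℕ}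
    (hV : IsFreeAlong A.toModule V.ι n) (W : X.Opens) (x : X) (hxV : x ∈ V) (hxW : x ∈ W) :
    ∃ (U : X.Opens) (_ : IsAffineOpen U), x ∈ U ∧ U ≤ V ∧ U ≤ W ∧
      letI := algSect A U
      Nonempty (Module.Basis (Fin n) Γ(X, U) (A.presheaf.obj (op U))) := by
  have hV' : IsFreeAlong A.toModule (V ⊓ W).ι n := IsFreeAlong.of_le inf_le_left hV
  obtain ⟨U, hU, hxU, hUV, ⟨b⟩⟩ :=
    exists_affine_basis_of_isFreeAlong A.toModule hV' x ⟨hxV, hxW⟩
  exact ⟨U, hU, hxU, hUV.trans inf_le_left, hUV.trans inf_le_right, ⟨b⟩⟩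

end Groth.Agent.Helper1.FC
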