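import Mathlib

/-!
# FC10: the commutative ring `R ⊕ M` attached to a symmetric associative pairing `M × M → R`
-/

set_option autoImplicit false
universe u v

namespace Groth.Agent.Helper1.FC

/-- a pairing on a module with values in the ring, making `R ⊕ M` a commutative ring -/
structure DblData (R : Type u) (M : Type v) [CommRing R] [AddCommGroup M] [Module R M] where
  β : M → M → R
  add_left : ∀ a a' b, β (a + a') b = β a b + β a' b
  smul_left : ∀ (r : R) a b, β (r • a) b = r * β a b
  symm : ∀ a b, β a b = β b a
  assoc : ∀ a b c, β a b • c = β b c • a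

namespace DblData

variable {R : Type u} {M : Type v} [CommRing R] [AddCommGroup M] [Module R M] (D : DblData R M)

theorem add_right (a b b' : M) : D.β a (b + b') = D.β a b + D.β a b' := by
  rw [D.symm, D.add_left, D.symm b, D.symm b']

theorem smul_right (r : R) (a b : M) : D.β a (r • b) = r * D.β a b := by
  rw [D.symm, D.smul_left, D.symm]

theorem zero_left (b : M) : D.β 0 b = 0 := by
  have := D.smul_left 0 0 b
  rwa [zero_smul, zero_mul] at this

theorem zero_right (a : M) : D.β a 0 = 0 := by rw [D.symm, D.zero_left]

end DblData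

/-- the underlying type of the ring `R ⊕ M` -/
@[ext] structure Dbl {R : Type u} {M : Type v} [CommRing R] [AddCommGroup M] [Module R M]
    (D : DblData R M) where
  fst : R
  snd : M

namespace Dbl

variable {R : Type u} {M : Type v} [CommRing R] [AddCommGroup M] [Module R M] {D : DblData R M}

/-- the equivalence with the product -/
def equivProd : Dbl D ≃ R × M where
  toFun a := (a.fst, a.snd)
  invFun p := ⟨p.1, p.2⟩
  left_inv _ := rfl
  right_inv _ := rfl

instance : AddCommGroup (Dbl D) := equivProd.addCommGroup

@[simp] theorem add_fst (a b : Dbl D) : (a + b).fst = a.fst + b.fst := rfl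
@[simp] theorem add_snd (a b : Dbl D) : (a + b).snd = a.snd + b.snd := rfl
@[simp] theorem zero_fst : (0 : Dbl D).fst = 0 := rfl
@[simp] theorem zero_snd : (0 : Dbl D).snd = 0 := rfl
@[simp] theorem neg_fst (a : Dbl D) : (-a).fst = -a.fst := rfl
@[simp] theorem neg_snd (a : Dbl D) : (-a).snd = -a.snd := rfl
@[simp] theorem sub_fst (a b : Dbl D) : (a - b).fst = a.fst - b.fst := rfl
@[simp] theorem sub_snd (a b : Dbl D) : (a - b).snd = a.snd - b.snd := rfl

instance : Mul (Dbl D) :=
  ⟨fun a b => ⟨a.fst * b.fst + D.β a.snd b.snd, a.fst • b.snd + b.fst • a.snd⟩⟩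

instance : One (Dbl D) := ⟨⟨1, 0⟩⟩

@[simp] theorem mul_fst (a b : Dbl D) : (a * b).fst = a.fst * b.fst + D.β a.snd b.snd := rfl
@[simp] theorem mul_snd (a b : Dbl D) : (a * b).snd = a.fst • b.snd + b.fst • a.snd := rfl
@[simp] theorem one_fst : (1 : Dbl D).fst = 1 := rfl
@[simp] theorem one_snd : (1 : Dbl D).snd = 0 := rfl

instance : CommRing (Dbl D) :=
  { (inferInstance : AddCommGroup (Dbl D)) with
    mul := (· * ·)
    one := 1
    mul_assoc := fun a b c => by
      ext
      · simp only [mul_fst, mul_snd, D.add_left, D.add_right, D.smul_left, D.smul_right]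
        ring
      · simp only [mul_fst, mul_snd]
        have h := D.assoc a.snd b.snd c.snd
        rw [add_smul, h]
        module
    one_mul := fun a => by
      ext
      · simp [D.zero_left]
      · simp
    mul_one := fun a => by
      ext
      · simp [D.zero_right]
      · simp
    left_distrib := fun a b c => by
      ext
      · simp only [mul_fst, add_fst, add_snd, D.add_right]
        ring
      · simp only [mul_snd, add_fst, add_snd, smul_add, add_smul]
        abel
    right_distrib := fun a b c => by
      ext
      · simp only [mul_fst, add_fst, add_snd, D.add_left]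
        ring
      · simp only [mul_snd, add_fst, add_snd, smul_add, add_smul]
        abel
    zero_mul := fun a => by
      ext
      · simp [D.zero_left]
      · simp
    mul_zero := fun a => by
      ext
      · simp [D.zero_right]
      · simp
    mul_comm := fun a b => by
      ext
      · simp only [mul_fst, D.symm a.snd b.snd, mul_comm]
      · simp only [mul_snd, add_comm] }

/-- the structure map `R → R ⊕ M` -/
def inl (D : DblData R M) : R →+* Dbl D where
  toFun r := ⟨r, 0⟩
  map_one' := rfl
  map_mul' a b := by ext <;> simp [D.zero_left]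
  map_zero' := rfl
  map_add' a b := by ext <;> simp

@[simp] theorem inl_fst (r : R) : (inl D r).fst = r := rfl
@[simp] theorem inl_snd (r : R) : (inl D r).snd = 0 := rfl

/-- the inclusion `M → R ⊕ M` -/
def inr (D : DblData R M) : M →+ Dbl D where
  toFun m := ⟨0, m⟩
  map_zero' := rfl
  map_add' a b := by ext <;> simp

@[simp] theorem inr_fst (m : M) : (inr D m).fst = 0 := rfl
@[simp] theorem inr_snd (m : M) : (inr D m).snd = m := rfl

theorem inl_mul_inr (r : R) (m : M) : inl D r * inr D m = inr D (r • m) := by
  ext <;> simp [D.zero_left]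

theorem inl_mul (c : R) (a : Dbl D) : inl D c * a = ⟨c * a.fst, c • a.snd⟩ := by
  ext <;> simp [D.zero_left]

theorem inl_pow_mul (c : R) (n : ℕ) (a : Dbl D) :
    (inl D c) ^ n * a = ⟨c ^ n * a.fst, c ^ n • a.snd⟩ := by
  rw [← map_pow, inl_mul]

theorem inr_mul_inr (a b : M) : inr D a * inr D b = inl D (D.β a b) := by
  ext <;> simp

theorem eq_inl_add_inr (a : Dbl D) : a = inl D a.fst + inr D a.snd := by
  ext <;> simp

variable {R' : Type u} {M' : Type v} [CommRing R'] [AddCommGroup M'] [Module R' M']
  {D' : DblData R' M'}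

/-- functoriality of `R ⊕ M` -/
def map (f : R →+* R') (g : M →+ M') (hg : ∀ r m, g (r • m) = f r • g m)
    (hβ : ∀ a b, D'.β (g a) (g b) = f (D.β a b)) : Dbl D →+* Dbl D' where
  toFun a := ⟨f a.fst, g a.snd⟩
  map_one' := by ext <;> simp
  map_mul' a b := by ext <;> simp [hg, hβ]
  map_zero' := by ext <;> simp
  map_add' a b := by ext <;> simp

@[simp] theorem map_fst (f : R →+* R') (g : M →+ M') (hg : ∀ r m, g (r • m) = f r • g m)
    (hβ : ∀ a b, D'.β (g a) (g b) = f (D.β a b)) (a : Dbl D) :
    (map f g hg hβ a).fst = f a.fst := rfl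

@[simp] theorem map_snd (f : R →+* R') (g : M →+ M') (hg : ∀ r m, g (r • m) = f r • g m)
    (hβ : ∀ a b, D'.β (g a) (g b) = f (D.β a b)) (a : Dbl D) :
    (map f g hg hβ a).snd = g a.snd := rfl

end Dbl

end Groth.Agent.Helper1.FC
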