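import Mathlib
import Groth.Agent.Helper1.FC1
import Groth.Agent.Helper1.BasisHom
import Groth.Agent.Helper4.StalkExact

/-!
# FC2: the trace on sections commutes with restriction; existence and uniqueness of the trace
-/

set_option autoImplicit false
open CategoryTheory Limits AlgebraicGeometry TopologicalSpace Opposite
universe u

namespace Groth.Agent.Helper1.FC
open Groth.Agent.Helper4 Groth.Agent.Helper4.FinLocFree Groth.Agent.Helper4.FinLocFree2

variable {X : Scheme.{u}} (A : RelSpec.QCAlg X)

/-- the trace of the sections over `U`, as an additive map -/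
noncomputable def trSect (U : X.Opens) : A.presheaf.obj (op U) →+ Γ(X, U) :=
  letI := algSect A U
  (Algebra.trace Γ(X, U) (A.presheaf.obj (op U))).toAddMonoidHom

theorem trSect_apply (U : X.Opens) (a : A.presheaf.obj (op U)) :
    letI := algSect A U
    trSect A U a = Algebra.trace Γ(X, U) (A.presheaf.obj (op U)) a := rfl

/-- affine opens over which `A` is finite free -/
def Good (U : X.Opens) : Prop :=
  IsAffineOpen U ∧
    (letI := algSect A U
     Module.Free Γ(X, U) (A.presheaf.obj (op U)) ∧ Module.Finite Γ(X, U) (A.presheaf.obj (op U)))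

theorem str_res {U V : X.Opens} (h : V ≤ U) (r : Γ(X, U)) :
    (A.str.app (op V)).hom (X.presheaf.map (homOfLE h).op r) =
      A.presheaf.map (homOfLE h).op ((A.str.app (op U)).hom r) :=
  congr($(A.str.naturality (homOfLE h).op) r)

set_option backward.isDefEq.respectTransparency false in
theorem trSect_res_basicOpen {U : X.Opens} (hU : Good A U) (f : Γ(X, U)) (W : X.Opens)
    (hW : W = X.basicOpen f) (hWU : W ≤ U) (a : A.presheaf.obj (op U)) :
    X.presheaf.map (homOfLE hWU).op (trSect A U a) =
      trSect A W (A.presheaf.map (homOfLE hWU).op a) := by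
  subst hW
  obtain ⟨hU, hfree, hfin⟩ := hU
  letI i1 := algSect A U
  letI i2 := algSect A (X.basicOpen f)
  letI i3 : Algebra (A.presheaf.obj (op U)) (A.presheaf.obj (op (X.basicOpen f))) :=
    (A.presheaf.map (homOfLE (X.basicOpen_le f)).op).hom.toAlgebra
  letI i4 : Algebra Γ(X, U) (A.presheaf.obj (op (X.basicOpen f))) :=
    ((algebraMap (A.presheaf.obj (op U)) (A.presheaf.obj (op (X.basicOpen f)))).comp
      (algebraMap Γ(X, U) (A.presheaf.obj (op U)))).toAlgebra
  haveI : IsScalarTower Γ(X, U) (A.presheaf.obj (op U)) (A.presheaf.obj (op (X.basicOpen f))) :=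
    IsScalarTower.of_algebraMap_eq (fun x => rfl)
  haveI : IsScalarTower Γ(X, U) Γ(X, X.basicOpen f) (A.presheaf.obj (op (X.basicOpen f))) :=
    IsScalarTower.of_algebraMap_eq (fun x => (str_res A (X.basicOpen_le f) x).symm)
  haveI : IsLocalization (Submonoid.powers f) Γ(X, X.basicOpen f) := hU.isLocalization_basicOpen f
  haveI : IsLocalization (Algebra.algebraMapSubmonoid (A.presheaf.obj (op U)) (Submonoid.powers f))
      (A.presheaf.obj (op (X.basicOpen f))) := by
    rw [Algebra.algebraMapSubmonoid_powers]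
    exact A.isQC U hU f
  exact (Algebra.trace_localization Γ(X, U) (Submonoid.powers f)
    (Rₘ := Γ(X, X.basicOpen f)) (Sₘ := A.presheaf.obj (op (X.basicOpen f))) a).symm

/-- functions agreeing locally are equal -/
theorem fun_eq_of_cover (V : X.Opens) (a b : Γ(X, V))
    (h : ∀ y ∈ V, ∃ (D : X.Opens) (hD : D ≤ V), y ∈ D ∧
      X.presheaf.map (homOfLE hD).op a = X.presheaf.map (homOfLE hD).op b) : a = b :=
  TwistExt.eq_of_cover (Coh.structureModule X) V a b h

theorem res_res {U V W : X.Opens} (h : V ≤ U) (h' : W ≤ V) (a : A.presheaf.obj (op U)) :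
    A.presheaf.map (homOfLE h').op (A.presheaf.map (homOfLE h).op a) =
      A.presheaf.map (homOfLE (h'.trans h)).op a := by
  rw [← CommRingCat.comp_apply, ← A.presheaf.map_comp]
  rfl

theorem fun_res_res {U V W : X.Opens} (h : V ≤ U) (h' : W ≤ V) (a : Γ(X, U)) :
    X.presheaf.map (homOfLE h').op (X.presheaf.map (homOfLE h).op a) =
      X.presheaf.map (homOfLE (h'.trans h)).op a := by
  rw [← CommRingCat.comp_apply, ← X.presheaf.map_comp]
  rfl

/-- the trace commutes with restriction between good opens -/
theorem trSect_res {U V : X.Opens} (hU : Good A U) (hV : Good A V) (h : V ≤ U)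
    (a : A.presheaf.obj (op U)) :
    X.presheaf.map (homOfLE h).op (trSect A U a) = trSect A V (A.presheaf.map (homOfLE h).op a) := by
  apply fun_eq_of_cover
  intro y hy
  obtain ⟨f, g, hfg, hyf⟩ := exists_basicOpen_le_affine_inter hU.1 hV.1 y ⟨h hy, hy⟩
  have hDV : X.basicOpen f ≤ V := hfg ▸ X.basicOpen_le g
  refine ⟨X.basicOpen f, hDV, hyf, ?_⟩
  rw [fun_res_res, trSect_res_basicOpen A hU f _ rfl (hDV.trans h),
    trSect_res_basicOpen A hV g _ hfg hDV, res_res]

end Groth.Agent.Helper1.FC
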