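import Mathlib
import Groth.Agent.Helper1.FC2

/-!
# FC3: existence and uniqueness of the trace of a finite locally free quasi-coherent algebra
-/

set_option autoImplicit false
open CategoryTheory Limits AlgebraicGeometry TopologicalSpace Opposite
universe u

namespace Groth.Agent.Helper1.FC
open Groth.Agent.Helper4 Groth.Agent.Helper4.FinLocFree Groth.Agent.Helper4.FinLocFree2

variable {X : Scheme.{u}} (A : RelSpec.QCAlg X)

/-- good opens form a basis when `A` is finite locally free -/
theorem isBasis_good (hA : FlatMod.IsFinLocFree A.toModule) :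
    Opens.IsBasis (Set.range (fun i : {U : X.Opens // Good A U} => i.1)) := by
  rw [Opens.isBasis_iff_nbhd]
  intro W x hx
  obtain ⟨V, n, hxV, hV⟩ := hA x
  obtain ⟨U, hU, hxU, -, hUW, ⟨b⟩⟩ := exists_affine_basis_le A hV W x hxV hx
  letI := algSect A U
  exact ⟨U, ⟨⟨U, hU, Module.Free.of_basis b, Module.Finite.of_basis b⟩, rfl⟩, hxU, hUW⟩

theorem exists_good_le (hA : FlatMod.IsFinLocFree A.toModule) (W : X.Opens) (x : X) (hx : x ∈ W) :
    ∃ U : X.Opens, Good A U ∧ x ∈ U ∧ U ≤ W := by
  obtain ⟨V, n, hxV, hV⟩ := hA x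
  obtain ⟨U, hU, hxU, -, hUW, ⟨b⟩⟩ := exists_affine_basis_le A hV W x hxV hx
  letI := algSect A U
  exact ⟨U, ⟨hU, Module.Free.of_basis b, Module.Finite.of_basis b⟩, hxU, hUW⟩

theorem trSect_smul (U : X.Opens) (r : Γ(X, U)) (s : Γ(A.toModule, U)) :
    trSect A U (r • s) = r • trSect A U s := by
  letI := algSect A U
  exact (Algebra.trace Γ(X, U) (A.presheaf.obj (op U))).map_smul r s

/-- the trace of a finite locally free quasi-coherent algebra -/
noncomputable def traceHom (hA : FlatMod.IsFinLocFree A.toModule) :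
    A.toModule ⟶ Coh.structureModule X :=
  BasisHom.homOfBasis (fun i : {U : X.Opens // Good A U} => i.1) (isBasis_good A hA)
    A.toModule (Coh.structureModule X)
    (fun i => trSect A i.1) (fun i j h s => trSect_res A i.2 j.2 h s)
    (fun i r s => trSect_smul A i.1 r s)

theorem isTrace_traceHom (hA : FlatMod.IsFinLocFree A.toModule) :
    FinCov.IsTrace A (traceHom A hA) := by
  intro U hU hfree hfin a
  exact BasisHom.homOfBasis_app (fun i : {U : X.Opens // Good A U} => i.1) (isBasis_good A hA)
    A.toModule (Coh.structureModule X) (fun i => trSect A i.1)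
    (fun i j h s => trSect_res A i.2 j.2 h s) (fun i r s => trSect_smul A i.1 r s)
    ⟨U, hU, hfree, hfin⟩ a

/-- a trace is determined on good opens -/
theorem isTrace_good {τ : A.toModule ⟶ Coh.structureModule X} (hτ : FinCov.IsTrace A τ)
    {U : X.Opens} (hU : Good A U) (a : A.presheaf.obj (op U)) :
    (τ.val.app (op U)).hom a = trSect A U a :=
  hτ U hU.1 hU.2.1 hU.2.2 a

theorem trace_unique (hA : FlatMod.IsFinLocFree A.toModule)
    {τ τ' : A.toModule ⟶ Coh.structureModule X} (hτ : FinCov.IsTrace A τ)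
    (hτ' : FinCov.IsTrace A τ') : τ = τ' := by
  apply Scheme.Modules.hom_ext
  intro U
  ext (s : Γ(A.toModule, U))
  apply TwistExt.eq_of_cover (Coh.structureModule X) U
  intro y hy
  obtain ⟨D, hD, hyD, hDU⟩ := exists_good_le A hA U y hy
  refine ⟨D, hDU, hyD, ?_⟩
  refine (StalkExact.app_res τ (homOfLE hDU) s).symm.trans
    (Eq.trans ?_ (StalkExact.app_res τ' (homOfLE hDU) s))
  exact (isTrace_good A hτ hD _).trans (isTrace_good A hτ' hD _).symm

theorem existsUnique_trace (hA : FlatMod.IsFinLocFree A.toModule) :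
    ∃! τ : A.toModule ⟶ Coh.structureModule X, FinCov.IsTrace A τ :=
  ⟨traceHom A hA, isTrace_traceHom A hA, fun _ h => trace_unique A hA h (isTrace_traceHom A hA)⟩

end Groth.Agent.Helper1.FC
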