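import Mathlib
import Groth.Agent.Helper1.FC3
import Groth.Agent.Helper1.PL2

/-!
# FC4: the algebra `O ⊕ L` attached to a pairing is locally free of rank two
-/

set_option autoImplicit false
open CategoryTheory Limits AlgebraicGeometry TopologicalSpace Opposite
universe u

namespace Groth.Agent.Helper1.FC
open Groth.Agent.Helper4 Groth.Agent.Helper4.FinLocFree Groth.Agent.Helper4.FinLocFree2

variable {X : Scheme.{u}} {L : X.Modules} {m : CohB1.tensorMod L L ⟶ Coh.structureModule X}
  {A : RelSpec.QCAlg X} {j : L ⟶ A.toModule}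

/-- a ring element of `A(V)` as a section of the module `A` -/
abbrev ofSec (A : RelSpec.QCAlg X) {V : X.Opens} (a : A.presheaf.obj (op V)) :
    Γ(A.toModule, V) := a

/-- a section of a module over `V` (to guide elaboration) -/
abbrev secOf (M : X.Modules) {V : X.Opens} (a : M.val.obj (op V)) : Γ(M, V) := a

/-- the map `(c₀, c₁) ↦ c₀·1 + c₁·j(e)` -/
noncomputable def dblMap (j : L ⟶ A.toModule) (V : X.Opens) (e : Γ(L, V)) :
    (Fin 2 → Γ(X, V)) →ₗ[Γ(X, V)] Γ(A.toModule, V) where
  toFun c := c 0 • ofSec A (1 : A.presheaf.obj (op V)) +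
    c 1 • secOf A.toModule ((j.val.app (op V)).hom e)
  map_add' c c' := by
    simp only [Pi.add_apply, add_smul]
    abel
  map_smul' r c := by
    simp only [Pi.smul_apply, smul_eq_mul, mul_smul, RingHom.id_apply, smul_add]

theorem dblMap_apply (V : X.Opens) (e : Γ(L, V)) (c : Fin 2 → Γ(X, V)) :
    dblMap j V e c = ofSec A ((A.str.app (op V)).hom (c 0) +
      FinCov.toSec A ((j.val.app (op V)).hom (c 1 • e))) := by
  have h1 : (j.val.app (op V)).hom (c 1 • e) = c 1 • (j.val.app (op V)).hom e :=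
    (j.val.app (op V)).hom.map_smul _ _
  have h2 : c 0 • ofSec A (1 : A.presheaf.obj (op V)) = ofSec A ((A.str.app (op V)).hom (c 0)) :=
    mul_one ((A.str.app (op V)).hom (c 0))
  change c 0 • ofSec A (1 : A.presheaf.obj (op V)) +
    c 1 • secOf A.toModule ((j.val.app (op V)).hom e) = _
  rw [h2]
  exact congrArg (fun t => ofSec A ((A.str.app (op V)).hom (c 0)) + t) h1.symm

theorem dblMap_bijective (h : FinCov.IsDblAlg L m A j) (V : X.Opens) (e : Γ(L, V))
    (he : Function.Bijective (fun r : Γ(X, V) => r • e)) :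
    Function.Bijective (dblMap j V e) := by
  have hG : Function.Bijective (fun c : Fin 2 → Γ(X, V) => ((c 0, c 1 • e) : Γ(X, V) × Γ(L, V))) := by
    constructor
    · intro c c' hcc
      simp only [Prod.mk.injEq] at hcc
      funext i
      fin_cases i
      · exact hcc.1
      · exact he.1 hcc.2
    · rintro ⟨s, l⟩
      obtain ⟨r, hr⟩ := he.2 l
      exact ⟨![s, r], by simp [← hr]⟩
  have := (h.1 V).comp hG
  have heq : (dblMap j V e : (Fin 2 → Γ(X, V)) → Γ(A.toModule, V)) =
      ((fun p : Γ(X, V) × L.val.obj (op V) =>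
        (A.str.app (op V)).hom p.1 + FinCov.toSec A ((j.val.app (op V)).hom p.2)) ∘
      fun c : Fin 2 → Γ(X, V) => ((c 0, c 1 • e) : Γ(X, V) × Γ(L, V))) := by
    funext c
    exact dblMap_apply V e c
  rw [heq]
  exact this

/-- the basis `(1, j(e))` of `A(V)` -/
noncomputable def dblBasis (h : FinCov.IsDblAlg L m A j) (V : X.Opens) (e : Γ(L, V))
    (he : Function.Bijective (fun r : Γ(X, V) => r • e)) :
    Module.Basis (Fin 2) Γ(X, V) Γ(A.toModule, V) :=
  Module.Basis.ofEquivFun (LinearEquiv.ofBijective (dblMap j V e) (dblMap_bijective h V e he)).symm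

theorem dblBasis_apply (h : FinCov.IsDblAlg L m A j) (V : X.Opens) (e : Γ(L, V))
    (he : Function.Bijective (fun r : Γ(X, V) => r • e)) (i : Fin 2) :
    dblBasis h V e he i = dblMap j V e (Pi.single i 1) := by
  classical
  unfold dblBasis
  rw [Module.Basis.coe_ofEquivFun]
  simp only [LinearEquiv.symm_symm, LinearEquiv.ofBijective_apply]

theorem isFinLocFreeOfRank_two (hL : PicF.IsInvertible L) (h : FinCov.IsDblAlg L m A j) :
    FlatMod.IsFinLocFreeOfRank 2 A.toModule := by
  intro x
  obtain ⟨V, hV, e, hxV, he⟩ := PL.exists_affine_generator L hL x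
  exact ⟨V, hxV, (isFreeAlong_ι_iff_basis hV A.toModule).mpr ⟨dblBasis h V e he⟩⟩

end Groth.Agent.Helper1.FC
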