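import Mathlib
import Groth.Agent.Helper1.FC4

/-!
# FC5: structure map followed by trace; the trace of `O ⊕ L` kills `L`
-/

set_option autoImplicit false
open CategoryTheory Limits AlgebraicGeometry TopologicalSpace Opposite
universe u

namespace Groth.Agent.Helper1.FC
open Groth.Agent.Helper4 Groth.Agent.Helper4.FinLocFree Groth.Agent.Helper4.FinLocFree2
open Groth.Agent.Helper4.GenLoc Groth.Agent.Helper4.TensorGen

variable {X : Scheme.{u}}

/-- structure map followed by the trace is multiplication by the rank -/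
theorem strMod_comp_trace (A : RelSpec.QCAlg X) (d : ℕ)
    (hA : FlatMod.IsFinLocFreeOfRank d A.toModule)
    (τ : A.toModule ⟶ Coh.structureModule X) (hτ : FinCov.IsTrace A τ) :
    FinCov.strMod A ≫ τ = d • 𝟙 (Coh.structureModule X) := by
  classical
  apply Scheme.Modules.hom_ext
  intro U
  ext (s : Γ(X, U))
  apply TwistExt.eq_of_cover (Coh.structureModule X) U
  intro y hy
  obtain ⟨V, hyV, hV⟩ := hA y
  obtain ⟨D, hD, hyD, -, hDU, ⟨b⟩⟩ := exists_affine_basis_le A hV U y hyV hy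
  refine ⟨D, hDU, hyD, ?_⟩
  letI := algSect A D
  have h1 := hτ D hD (Module.Free.of_basis b) (Module.Finite.of_basis b)
    ((A.str.app (op D)).hom (X.presheaf.map (homOfLE hDU).op s))
  have h2 : Algebra.trace Γ(X, D) (A.presheaf.obj (op D))
      ((A.str.app (op D)).hom (X.presheaf.map (homOfLE hDU).op s)) =
      d • (X.presheaf.map (homOfLE hDU).op s) := by
    have := Algebra.trace_algebraMap_of_basis b (X.presheaf.map (homOfLE hDU).op s)
    rw [Fintype.card_fin] at this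
    exact this
  rw [h2] at h1
  refine (StalkExact.app_res (FinCov.strMod A ≫ τ) (homOfLE hDU) s).symm.trans
    (Eq.trans ?_ (StalkExact.app_res (d • 𝟙 (Coh.structureModule X)) (homOfLE hDU) s))
  refine Eq.trans ?_ (h1.trans ?_)
  · rfl
  · exact (nsmul_app d (𝟙 (Coh.structureModule X)) D _).symm

theorem trace_str (A : RelSpec.QCAlg X) (d : ℕ)
    (hA : FlatMod.IsFinLocFreeOfRank d A.toModule)
    (τ : A.toModule ⟶ Coh.structureModule X) (hτ : FinCov.IsTrace A τ) (U : X.Opens)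
    (s : Γ(X, U)) :
    (τ.val.app (op U)).hom ((A.str.app (op U)).hom s) = d • s := by
  have h := strMod_comp_trace A d hA τ hτ
  have h1 : ((FinCov.strMod A ≫ τ).val.app (op U)).hom s =
      ((d • 𝟙 (Coh.structureModule X)).val.app (op U)).hom s := by rw [h]
  rw [nsmul_app] at h1
  exact h1

/-- an invertible module has generators over small affine opens -/
theorem exists_affine_generator_le (L : X.Modules) (hL : PicF.IsInvertible L) (U₀ : X.Opens)
    (x : X) (hx : x ∈ U₀) :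
    ∃ (V : X.Opens) (_ : IsAffineOpen V) (e : Γ(L, V)), x ∈ V ∧ V ≤ U₀ ∧
      Function.Bijective (fun r : Γ(X, V) => r • e) := by
  obtain ⟨U, hxU, hU⟩ := hL x
  obtain ⟨W, hW, hxW, hWU⟩ :=
    exists_isAffineOpen_mem_and_subset (X := X) (x := x) (U := U ⊓ U₀) ⟨hxU, hx⟩
  obtain ⟨ε⟩ := TensorInv.IsTrivAlong.of_le (hWU.trans inf_le_left) hU
  have hT : W.ι ''ᵁ ⊤ = W := Scheme.Opens.ι_image_top W
  refine ⟨W.ι ''ᵁ ⊤, by rw [hT]; exact hW,
    (show Γ(L, W.ι ''ᵁ ⊤) from ε.inv.app ⊤ (one (W : Scheme.{u}) ⊤)), by rw [hT]; exact hxW,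
    by rw [hT]; exact hWU.trans inf_le_right, ?_, ?_⟩
  · intro r r' h
    have h' : (r - r') • (show Γ(L, W.ι ''ᵁ ⊤) from ε.inv.app ⊤ (one (W : Scheme.{u}) ⊤)) = 0 := by
      rw [sub_smul]; exact sub_eq_zero.mpr h
    set d := r - r' with hd
    let c : Γ((W : Scheme.{u}), ⊤) := (W.ι.appIso ⊤).hom d
    have hc : (W.ι.appIso ⊤).inv c = d := by
      change ((W.ι.appIso ⊤).hom ≫ (W.ι.appIso ⊤).inv) d = d
      rw [Iso.hom_inv_id]; rfl
    have h1 : ε.inv.app ⊤ (c • one (W : Scheme.{u}) ⊤) = 0 := by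
      rw [Scheme.Modules.Hom.app_smul]
      rw [← hc] at h'
      exact h'
    have h2 := congrArg (ε.hom.app ⊤) h1
    rw [iso_hom_inv_app, map_zero] at h2
    have h3 : c = 0 := by
      rw [← smul_one ⊤ c, h2]; rfl
    have h4 : d = 0 := by rw [← hc, h3, map_zero]
    exact sub_eq_zero.mp h4
  · intro m
    let m' : Γ(L.restrict W.ι, ⊤) := m
    let c : Γ((W : Scheme.{u}), ⊤) := toFn (ε.hom.app ⊤ m')
    refine ⟨(W.ι.appIso ⊤).inv c, ?_⟩
    have h1 : ε.hom.app ⊤ m' = c • one (W : Scheme.{u}) ⊤ := (mul_one c).symm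
    have h2 : m' = ε.inv.app ⊤ (ε.hom.app ⊤ m') := (iso_inv_hom_app ε ⊤ m').symm
    rw [h1, Scheme.Modules.Hom.app_smul] at h2
    exact h2.symm

end Groth.Agent.Helper1.FC
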