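import Mathlib
import Groth.Agent.Helper1.FC5

/-!
# FC6: the kernel of the trace of `O ⊕ L` is `L` (2 invertible)
-/

set_option autoImplicit false
open CategoryTheory Limits AlgebraicGeometry TopologicalSpace Opposite
universe u

namespace Groth.Agent.Helper1.FC
open Groth.Agent.Helper4 Groth.Agent.Helper4.FinLocFree Groth.Agent.Helper4.FinLocFree2

variable {X : Scheme.{u}} {L : X.Modules} {m : CohB1.tensorMod L L ⟶ Coh.structureModule X}
  {A : RelSpec.QCAlg X} {j : L ⟶ A.toModule}

theorem dblBasis_zero (h : FinCov.IsDblAlg L m A j) (V : X.Opens) (e : Γ(L, V))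
    (he : Function.Bijective (fun r : Γ(X, V) => r • e)) :
    dblBasis h V e he 0 = ofSec A (1 : A.presheaf.obj (op V)) := by
  rw [dblBasis_apply, dblMap_apply]
  have h0 : (Pi.single (0 : Fin 2) (1 : Γ(X, V)) : Fin 2 → Γ(X, V)) 1 = 0 := by
    simp
  have h1 : (Pi.single (0 : Fin 2) (1 : Γ(X, V)) : Fin 2 → Γ(X, V)) 0 = 1 := by
    simp
  rw [h0, h1, zero_smul]
  have hj0 : FinCov.toSec A ((j.val.app (op V)).hom 0) = (0 : A.presheaf.obj (op V)) :=
    (j.val.app (op V)).hom.map_zero
  have hs1 : (A.str.app (op V)).hom 1 = (1 : A.presheaf.obj (op V)) := map_one _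
  change ((A.str.app (op V)).hom 1 + FinCov.toSec A ((j.val.app (op V)).hom 0) :
    A.presheaf.obj (op V)) = 1
  rw [hj0, hs1, add_zero]

theorem dblBasis_one (h : FinCov.IsDblAlg L m A j) (V : X.Opens) (e : Γ(L, V))
    (he : Function.Bijective (fun r : Γ(X, V) => r • e)) :
    dblBasis h V e he 1 = secOf A.toModule ((j.val.app (op V)).hom e) := by
  rw [dblBasis_apply, dblMap_apply]
  have h0 : (Pi.single (1 : Fin 2) (1 : Γ(X, V)) : Fin 2 → Γ(X, V)) 1 = 1 := by
    simp
  have h1 : (Pi.single (1 : Fin 2) (1 : Γ(X, V)) : Fin 2 → Γ(X, V)) 0 = 0 := by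
    simp
  rw [h0, h1, one_smul]
  have hs0 : (A.str.app (op V)).hom 0 = (0 : A.presheaf.obj (op V)) := map_zero _
  change ((A.str.app (op V)).hom 0 + FinCov.toSec A ((j.val.app (op V)).hom e) :
    A.presheaf.obj (op V)) = FinCov.toSec A ((j.val.app (op V)).hom e)
  rw [hs0, zero_add]

/-- the trace of `j(e)` vanishes -/
theorem trSect_j_generator (h : FinCov.IsDblAlg L m A j) (V : X.Opens) (e : Γ(L, V))
    (he : Function.Bijective (fun r : Γ(X, V) => r • e)) :
    trSect A V (FinCov.toSec A ((j.val.app (op V)).hom e)) = 0 := by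
  classical
  letI := algSect A V
  let b : Module.Basis (Fin 2) Γ(X, V) (A.presheaf.obj (op V)) := dblBasis h V e he
  have hb0 : b 0 = 1 := dblBasis_zero h V e he
  have hb1 : b 1 = FinCov.toSec A ((j.val.app (op V)).hom e) := dblBasis_one h V e he
  obtain ⟨c, hsq⟩ : ∃ c : Γ(X, V), b 1 * b 1 = (A.str.app (op V)).hom c :=
    ⟨(m.val.app (op V)).hom (SecTwist.tmul L L V e e), by rw [hb1]; exact h.2 V e e⟩
  rw [trSect_apply, ← hb1, Algebra.trace_eq_matrix_trace b, Matrix.trace_fin_two,
    Algebra.leftMulMatrix_eq_repr_mul, Algebra.leftMulMatrix_eq_repr_mul]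
  have t1 : b.repr (b 1 * b 0) 0 = 0 := by
    rw [hb0, mul_one, b.repr_self]
    simp
  have t2 : b.repr (b 1 * b 1) 1 = 0 := by
    rw [hsq]
    have : (A.str.app (op V)).hom c = c • b 0 := by
      rw [hb0]
      exact (mul_one _).symm
    rw [this, map_smul, b.repr_self]
    simp
  rw [t1, t2, add_zero]

theorem good_of_generator (h : FinCov.IsDblAlg L m A j) (V : X.Opens) (hV : IsAffineOpen V)
    (e : Γ(L, V)) (he : Function.Bijective (fun r : Γ(X, V) => r • e)) : Good A V := by
  letI := algSect A V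
  let b : Module.Basis (Fin 2) Γ(X, V) (A.presheaf.obj (op V)) := dblBasis h V e he
  exact ⟨hV, Module.Free.of_basis b, Module.Finite.of_basis b⟩

theorem app_res' {F G : X.Modules} (φ : F ⟶ G) {V W : X.Opens} (i : W ≤ V) (s : Γ(F, V)) :
    G.presheaf.map (homOfLE i).op ((φ.val.app (op V)).hom s) =
      (φ.val.app (op W)).hom (F.presheaf.map (homOfLE i).op s) :=
  (StalkExact.app_res φ (homOfLE i) s).symm

/-- the trace kills `j(L)` -/
theorem trace_j (hL : PicF.IsInvertible L) (h : FinCov.IsDblAlg L m A j)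
    (τ : A.toModule ⟶ Coh.structureModule X) (hτ : FinCov.IsTrace A τ) (U : X.Opens)
    (l : Γ(L, U)) : (τ.val.app (op U)).hom ((j.val.app (op U)).hom l) = 0 := by
  apply TwistExt.eq_of_cover (Coh.structureModule X) U
  intro y hy
  obtain ⟨V, hV, e, hyV, hVU, he⟩ := exists_affine_generator_le L hL U y hy
  refine ⟨V, hVU, hyV, ?_⟩
  have hz : (Coh.structureModule X).presheaf.map (homOfLE hVU).op
      (0 : Γ(Coh.structureModule X, U)) = 0 := map_zero _
  refine Eq.trans ?_ hz.symm
  refine (app_res' τ hVU _).trans ?_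
  have h1 := app_res' j hVU l
  refine (congrArg (τ.val.app (op V)).hom h1).trans ?_
  obtain ⟨r, hr⟩ := he.2 (L.presheaf.map (homOfLE hVU).op l)
  have h2 : (j.val.app (op V)).hom (L.presheaf.map (homOfLE hVU).op l) =
      r • (j.val.app (op V)).hom e := by
    rw [← hr]; exact (j.val.app (op V)).hom.map_smul r e
  refine (congrArg (τ.val.app (op V)).hom h2).trans ?_
  refine ((τ.val.app (op V)).hom.map_smul r _).trans ?_
  have h3 := isTrace_good A hτ (good_of_generator h V hV e he)
    (FinCov.toSec A ((j.val.app (op V)).hom e))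
  rw [trSect_j_generator h V e he] at h3
  refine (congrArg (fun t => r • t) h3).trans ?_
  exact mul_zero r

theorem isUnit_two_res (h2 : IsUnit (2 : Γ(X, ⊤))) (U : X.Opens) : IsUnit (2 : Γ(X, U)) := by
  have := h2.map (X.presheaf.map (homOfLE (le_top : U ≤ ⊤)).op).hom
  rwa [map_ofNat] at this

/-- the trace of `s·1 + j(l)` is `2s` -/
theorem trace_dbl (hL : PicF.IsInvertible L) (h : FinCov.IsDblAlg L m A j)
    (τ : A.toModule ⟶ Coh.structureModule X) (hτ : FinCov.IsTrace A τ) (U : X.Opens)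
    (s : Γ(X, U)) (l : Γ(L, U)) :
    (τ.val.app (op U)).hom (ofSec A ((A.str.app (op U)).hom s +
      FinCov.toSec A ((j.val.app (op U)).hom l))) = 2 * s := by
  have h1 := trace_str A 2 (isFinLocFreeOfRank_two hL h) τ hτ U s
  have h3 := trace_j hL h τ hτ U l
  refine ((τ.val.app (op U)).hom.map_add (ofSec A ((A.str.app (op U)).hom s))
    (secOf A.toModule ((j.val.app (op U)).hom l))).trans ?_
  refine (congrArg₂ (· + ·) h1 h3).trans ?_
  have h4 : (2 • s + 0 : Γ(X, U)) = 2 * s := by rw [add_zero, two_nsmul, two_mul]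
  exact h4

theorem trace_eq_zero_iff (hL : PicF.IsInvertible L) (h : FinCov.IsDblAlg L m A j)
    (h2 : IsUnit (2 : Γ(X, ⊤)))
    (τ : A.toModule ⟶ Coh.structureModule X) (hτ : FinCov.IsTrace A τ) (U : X.Opens)
    (a : A.toModule.val.obj (op U)) :
    (τ.val.app (op U)).hom a = 0 ↔ a ∈ Set.range (j.val.app (op U)).hom := by
  constructor
  · intro ha
    obtain ⟨⟨s, l⟩, hsl⟩ := (h.1 U).2 (FinCov.toSec A a)
    have hsl' : ofSec A ((A.str.app (op U)).hom s +
      FinCov.toSec A ((j.val.app (op U)).hom l)) = a := hsl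
    have h1 := trace_dbl hL h τ hτ U s l
    rw [hsl', ha] at h1
    have hs : s = 0 := by
      have hu := isUnit_two_res h2 U
      exact (hu.mul_right_eq_zero).mp h1.symm
    refine ⟨l, ?_⟩
    rw [← hsl']
    have hs0 : (A.str.app (op U)).hom s = (0 : A.presheaf.obj (op U)) := by rw [hs, map_zero]
    change FinCov.toSec A ((j.val.app (op U)).hom l) = ((A.str.app (op U)).hom s +
      FinCov.toSec A ((j.val.app (op U)).hom l) : A.presheaf.obj (op U))
    rw [hs0, zero_add]
  · rintro ⟨l, rfl⟩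
    exact trace_j hL h τ hτ U l

end Groth.Agent.Helper1.FC
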