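import Mathlib
import Groth.Agent.Helper1.FC6
import Groth.Agent.Helper1.FC10
import Groth.Agent.Helper4.TensorLift

/-!
# FC11: the pairing on sections of an invertible module given by `m : L ⊗ L ⟶ O`
-/

set_option autoImplicit false
open CategoryTheory Limits AlgebraicGeometry TopologicalSpace Opposite
universe u

namespace Groth.Agent.Helper1.FC
open Groth.Agent.Helper4

variable {X : Scheme.{u}} (L : X.Modules) (m : CohB1.tensorMod L L ⟶ Coh.structureModule X)

/-- the pairing on sections -/
noncomputable def pair (U : X.Opens) (l l' : Γ(L, U)) : Γ(X, U) :=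
  (m.val.app (op U)).hom (SecTwist.tmul L L U l l')

theorem pair_add_left (U : X.Opens) (a a' b : Γ(L, U)) :
    pair L m U (a + a') b = pair L m U a b + pair L m U a' b := by
  unfold pair
  rw [TensorLift.tmul_add_left]
  exact map_add (m.val.app (op U)).hom _ _

theorem pair_add_right (U : X.Opens) (a b b' : Γ(L, U)) :
    pair L m U a (b + b') = pair L m U a b + pair L m U a b' := by
  unfold pair
  rw [TensorLift.tmul_add_right]
  exact map_add (m.val.app (op U)).hom _ _

theorem pair_smul_left (U : X.Opens) (r : Γ(X, U)) (a b : Γ(L, U)) :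
    pair L m U (r • a) b = r * pair L m U a b := by
  unfold pair
  rw [TensorLift.tmul_smul_left]
  exact (m.val.app (op U)).hom.map_smul r _

theorem pair_smul_right (U : X.Opens) (r : Γ(X, U)) (a b : Γ(L, U)) :
    pair L m U a (r • b) = r * pair L m U a b := by
  unfold pair
  rw [TensorLift.tmul_smul_right]
  exact (m.val.app (op U)).hom.map_smul r _

theorem pair_res {U V : X.Opens} (h : V ≤ U) (a b : Γ(L, U)) :
    X.presheaf.map (homOfLE h).op (pair L m U a b) =
      pair L m V (L.presheaf.map (homOfLE h).op a) (L.presheaf.map (homOfLE h).op b) := by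
  unfold pair
  rw [← TwistExt.tmul_res L L h a b]
  exact app_res' m h _

theorem pair_map {U V : X.Opens} (i : V ⟶ U) (a b : Γ(L, U)) :
    X.presheaf.map i.op (pair L m U a b) =
      pair L m V (L.presheaf.map i.op a) (L.presheaf.map i.op b) := by
  unfold pair
  have h1 : SecTwist.tmul L L V (L.presheaf.map i.op a) (L.presheaf.map i.op b) =
      (CohB1.tensorMod L L).presheaf.map i.op (SecTwist.tmul L L U a b) :=
    (SecTwist.map_tmul L L i a b).symm
  rw [h1]
  exact (StalkExact.app_res m i _).symm

variable {L}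

theorem pair_symm (hL : PicF.IsInvertible L) (U : X.Opens) (a b : Γ(L, U)) :
    pair L m U a b = pair L m U b a := by
  apply fun_eq_of_cover
  intro y hy
  obtain ⟨V, hV, e, hyV, hVU, he⟩ := exists_affine_generator_le L hL U y hy
  refine ⟨V, hVU, hyV, ?_⟩
  rw [pair_res, pair_res]
  obtain ⟨r, hr⟩ := he.2 (L.presheaf.map (homOfLE hVU).op a)
  obtain ⟨r', hr'⟩ := he.2 (L.presheaf.map (homOfLE hVU).op b)
  simp only at hr hr'
  rw [← hr, ← hr', pair_smul_left, pair_smul_right, pair_smul_left, pair_smul_right]
  ring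

theorem pair_assoc (hL : PicF.IsInvertible L) (U : X.Opens) (a b c : Γ(L, U)) :
    pair L m U a b • c = pair L m U b c • a := by
  apply TwistExt.eq_of_cover L U
  intro y hy
  obtain ⟨V, hV, e, hyV, hVU, he⟩ := exists_affine_generator_le L hL U y hy
  refine ⟨V, hVU, hyV, ?_⟩
  rw [Scheme.Modules.map_smul, Scheme.Modules.map_smul]
  erw [pair_res, pair_res]
  obtain ⟨r, hr⟩ := he.2 (L.presheaf.map (homOfLE hVU).op a)
  obtain ⟨r', hr'⟩ := he.2 (L.presheaf.map (homOfLE hVU).op b)
  obtain ⟨r'', hr''⟩ := he.2 (L.presheaf.map (homOfLE hVU).op c)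
  simp only at hr hr' hr''
  rw [← hr, ← hr', ← hr'', pair_smul_left, pair_smul_right, pair_smul_left, pair_smul_right,
    smul_smul, smul_smul]
  congr 1
  ring

/-- the data making `O(U) ⊕ L(U)` a ring -/
noncomputable def dblData (hL : PicF.IsInvertible L) (U : X.Opens) : DblData Γ(X, U) Γ(L, U) where
  β := pair L m U
  add_left := pair_add_left L m U
  smul_left := pair_smul_left L m U
  symm := pair_symm m hL U
  assoc := pair_assoc m hL U

end Groth.Agent.Helper1.FC
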