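import Mathlib
import Groth.Agent.Helper1.FC11

/-!
# FC12: the presheaf of rings `O ⊕ L`
-/

set_option autoImplicit false
open CategoryTheory Limits AlgebraicGeometry TopologicalSpace Opposite
universe u

namespace Groth.Agent.Helper1.FC
open Groth.Agent.Helper4

variable {X : Scheme.{u}} {L : X.Modules} (m : CohB1.tensorMod L L ⟶ Coh.structureModule X)
  (hL : PicF.IsInvertible L)

/-- the restriction maps of `O ⊕ L` -/
noncomputable def dblRes {U V : X.Opens} (i : V ⟶ U) :
    Dbl (dblData m hL U) →+* Dbl (dblData m hL V) :=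
  Dbl.map (X.presheaf.map i.op).hom (L.presheaf.map i.op).hom
    (fun r l => Scheme.Modules.map_smul L i r l)
    (fun a b => (pair_map L m i a b).symm)

@[simp] theorem dblRes_fst {U V : X.Opens} (i : V ⟶ U) (a : Dbl (dblData m hL U)) :
    (dblRes m hL i a).fst = X.presheaf.map i.op a.fst := rfl

@[simp] theorem dblRes_snd {U V : X.Opens} (i : V ⟶ U) (a : Dbl (dblData m hL U)) :
    (dblRes m hL i a).snd = L.presheaf.map i.op a.snd := rfl

/-- the presheaf of rings `O ⊕ L` -/
noncomputable def dblPresheaf : TopCat.Presheaf CommRingCat.{u} X.carrier where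
  obj U := CommRingCat.of (Dbl (dblData m hL U.unop))
  map {U V} i := CommRingCat.ofHom (dblRes m hL i.unop)
  map_id U := by
    ext a
    · change X.presheaf.map (𝟙 U) a.fst = a.fst
      rw [X.presheaf.map_id]; rfl
    · change L.presheaf.map (𝟙 U) a.snd = a.snd
      rw [L.presheaf.map_id]; rfl
  map_comp {U V W} i j := by
    ext a
    · change X.presheaf.map (i ≫ j) a.fst = X.presheaf.map j (X.presheaf.map i a.fst)
      rw [X.presheaf.map_comp]; rfl
    · change L.presheaf.map (i ≫ j) a.snd = L.presheaf.map j (L.presheaf.map i a.snd)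
      rw [L.presheaf.map_comp]; rfl

/-- the structure map -/
noncomputable def dblStr : X.presheaf ⟶ dblPresheaf m hL where
  app U := CommRingCat.ofHom (Dbl.inl (dblData m hL U.unop))
  naturality U V i := by
    ext r
    refine Dbl.ext (x := Dbl.inl (dblData m hL V.unop) (X.presheaf.map i r))
      (y := dblRes m hL i.unop (Dbl.inl (dblData m hL U.unop) r)) ?_ ?_
    · rfl
    · change (0 : Γ(L, V.unop)) = L.presheaf.map i (0 : Γ(L, U.unop))
      rw [map_zero]

end Groth.Agent.Helper1.FC
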