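import Mathlib
import Groth.Agent.Helper1.FC12

/-!
# FC13: `O ⊕ L` is a sheaf of rings
-/

set_option autoImplicit false
open CategoryTheory Limits AlgebraicGeometry TopologicalSpace Opposite
universe u

namespace Groth.Agent.Helper1.FC
open Groth.Agent.Helper4

variable {X : Scheme.{u}} {L : X.Modules} (m : CohB1.tensorMod L L ⟶ Coh.structureModule X)
  (hL : PicF.IsInvertible L)

/-- a section of the presheaf `O ⊕ L` as a pair -/
abbrev toDbl {U : X.Opens} (a : (dblPresheaf m hL).obj (op U)) : Dbl (dblData m hL U) := a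

theorem isSheaf_dblPresheaf : (dblPresheaf m hL).IsSheaf := by
  rw [TopCat.Presheaf.isSheaf_iff_isSheafUniqueGluing]
  intro ι U sf hsf
  have h1 : TopCat.Presheaf.IsCompatible X.presheaf U (fun i => (toDbl m hL (sf i)).fst) :=
    fun i j => congrArg Dbl.fst (hsf i j)
  have h2 : TopCat.Presheaf.IsCompatible L.presheaf U (fun i => (toDbl m hL (sf i)).snd) :=
    fun i j => congrArg Dbl.snd (hsf i j)
  obtain ⟨s, hs, hs'⟩ := X.sheaf.existsUnique_gluing U _ h1
  obtain ⟨l, hl, hl'⟩ := TopCat.Sheaf.existsUnique_gluing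
    (⟨L.presheaf, L.isSheaf⟩ : TopCat.Sheaf Ab X) U _ h2
  refine ⟨(⟨s, l⟩ : Dbl (dblData m hL (iSup U))), fun i => Dbl.ext (hs i) (hl i), fun t ht => ?_⟩
  exact Dbl.ext (hs' (toDbl m hL t).fst (fun i => congrArg Dbl.fst (ht i)))
    (hl' (toDbl m hL t).snd fun i => congrArg Dbl.snd (ht i))

end Groth.Agent.Helper1.FC
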