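import Mathlib
import Groth.Agent.Helper1.FC13
import Groth.Agent.Helper4.QcqsMod
import Groth.Agent.Helper4.QAffSec

/-!
# FC14: `O ⊕ L` is a quasi-coherent algebra
-/

set_option autoImplicit false
open CategoryTheory Limits AlgebraicGeometry TopologicalSpace Opposite
universe u

namespace Groth.Agent.Helper1.FC
open Groth.Agent.Helper4

variable {X : Scheme.{u}} {L : X.Modules} (m : CohB1.tensorMod L L ⟶ Coh.structureModule X)
  (hL : PicF.IsInvertible L)

set_option backward.isDefEq.respectTransparency false in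
theorem isQC_dbl : RelSpec.IsQC (dblPresheaf m hL) (dblStr m hL) := by
  haveI : L.IsQuasicoherent := QAffSec.isQuasicoherent_of_isInvertible L hL
  haveI : (Coh.structureModule X).IsQuasicoherent :=
    FinLocFree4.isQuasicoherent_of_isFinLocFree _ FinLocFree6.isFinLocFree_unit
  intro U hU r
  letI := ((dblPresheaf m hL).map (homOfLE (X.basicOpen_le r)).op).hom.toAlgebra
  have hlocL := QcqsMod.isLocalizingOn_of_isAffineOpen L hU
  have hlocO := QcqsMod.isLocalizingOn_of_isAffineOpen (Coh.structureModule X) hU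
  set ρ : Dbl (dblData m hL U) →+* Dbl (dblData m hL (X.basicOpen r)) :=
    dblRes m hL (homOfLE (X.basicOpen_le r)) with hρ
  have hρx : ∀ n : ℕ, ρ ((Dbl.inl (dblData m hL U) r) ^ n) =
      (Dbl.inl (dblData m hL (X.basicOpen r))
        (X.presheaf.map (homOfLE (X.basicOpen_le r)).op r)) ^ n := by
    intro n
    rw [map_pow]
    congr 1
    apply Dbl.ext
    · rfl
    · exact map_zero (L.presheaf.map (homOfLE (X.basicOpen_le r)).op).hom
  have hunit : IsUnit (X.presheaf.map (homOfLE (X.basicOpen_le r)).op r) :=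
    RingedSpace.isUnit_res_basicOpen X.toRingedSpace r
  rw [IsLocalization.Away, isLocalization_iff]
  refine ⟨?_, ?_, ?_⟩
  · rintro ⟨_, n, rfl⟩
    change IsUnit (ρ ((Dbl.inl (dblData m hL U) r) ^ n))
    rw [hρx]
    exact (hunit.map (Dbl.inl (dblData m hL (X.basicOpen r)))).pow n
  · intro z
    obtain ⟨n₁, (a₁ : Γ(X, U)), h₁⟩ := hlocO.surj r (toDbl m hL z).fst
    obtain ⟨n₂, l₂, h₂⟩ := hlocL.surj r (toDbl m hL z).snd
    refine ⟨⟨(⟨r ^ n₂ * a₁, r ^ n₁ • l₂⟩ : Dbl (dblData m hL U)), ⟨_, n₁ + n₂, rfl⟩⟩, ?_⟩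
    change toDbl m hL z * ρ ((Dbl.inl (dblData m hL U) r) ^ (n₁ + n₂)) = ρ ⟨r ^ n₂ * a₁, r ^ n₁ • l₂⟩
    rw [hρx, mul_comm, Dbl.inl_pow_mul]
    apply Dbl.ext
    · change (X.presheaf.map (homOfLE (X.basicOpen_le r)).op r) ^ (n₁ + n₂) * (toDbl m hL z).fst =
        X.presheaf.map (homOfLE (X.basicOpen_le r)).op (r ^ n₂ * a₁)
      have h₁' : X.presheaf.map (homOfLE (X.basicOpen_le r)).op (r ^ n₁) * (toDbl m hL z).fst =
          X.presheaf.map (homOfLE (X.basicOpen_le r)).op a₁ := h₁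
      rw [map_mul, ← h₁', map_pow, map_pow, pow_add]
      ring
    · change (X.presheaf.map (homOfLE (X.basicOpen_le r)).op r) ^ (n₁ + n₂) • (toDbl m hL z).snd =
        L.presheaf.map (homOfLE (X.basicOpen_le r)).op (r ^ n₁ • l₂)
      rw [Scheme.Modules.map_smul, ← h₂, map_pow, map_pow, smul_smul, pow_add]
  · intro (a : Dbl (dblData m hL U)) (b : Dbl (dblData m hL U)) hab
    have hab' : ρ (a - b) = 0 := by rw [map_sub, sub_eq_zero]; exact hab
    obtain ⟨n₁, h₁⟩ := hlocO.zero r (a - b).fst (congrArg Dbl.fst hab')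
    obtain ⟨n₂, h₂⟩ := hlocL.zero r (a - b).snd (congrArg Dbl.snd hab')
    refine ⟨⟨_, n₁ + n₂, rfl⟩, ?_⟩
    change (Dbl.inl (dblData m hL U) r) ^ (n₁ + n₂) * a = (Dbl.inl (dblData m hL U) r) ^ (n₁ + n₂) * b
    rw [← sub_eq_zero, ← mul_sub, Dbl.inl_pow_mul]
    apply Dbl.ext
    · change r ^ (n₁ + n₂) * (a - b).fst = 0
      have h₁' : r ^ n₁ * (a - b).fst = 0 := h₁
      rw [pow_add, mul_comm (r ^ n₁), mul_assoc, h₁', mul_zero]
    · change r ^ (n₁ + n₂) • (a - b).snd = 0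
      rw [pow_add, mul_smul, h₂, smul_zero]

end Groth.Agent.Helper1.FC
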