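import Mathlib
import Groth.Agent.Helper1.FC14

/-!
# FC15: the algebra `O ⊕ L` with product given by a pairing, for `L` invertible
-/

set_option autoImplicit false
open CategoryTheory Limits AlgebraicGeometry TopologicalSpace Opposite
universe u

namespace Groth.Agent.Helper1.FC
open Groth.Agent.Helper4

variable {X : Scheme.{u}} {L : X.Modules} (m : CohB1.tensorMod L L ⟶ Coh.structureModule X)
  (hL : PicF.IsInvertible L)

/-- the quasi-coherent algebra `O ⊕ L` -/
noncomputable def dblAlg : RelSpec.QCAlg X :=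
  ⟨dblPresheaf m hL, isSheaf_dblPresheaf m hL, dblStr m hL, isQC_dbl m hL⟩

/-- the inclusion of `L` -/
noncomputable def dblJ : L ⟶ (dblAlg m hL).toModule :=
  ⟨letI := (dblAlg m hL).moduleSect
   PresheafOfModules.homMk
    { app := fun U => AddCommGrpCat.ofHom (Dbl.inr (dblData m hL U.unop))
      naturality := fun U V i => by
        ext l
        refine Dbl.ext (x := Dbl.inr (dblData m hL V.unop) (L.presheaf.map i l))
          (y := dblRes m hL i.unop (Dbl.inr (dblData m hL U.unop) l)) ?_ rfl
        exact (map_zero (X.presheaf.map i).hom).symm }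
    (fun U r l => (Dbl.inl_mul_inr (D := dblData m hL U.unop) r l).symm)⟩

theorem isDblAlg_dblAlg : FinCov.IsDblAlg L m (dblAlg m hL) (dblJ m hL) := by
  refine ⟨fun U => ?_, fun U l l' => ?_⟩
  · constructor
    · rintro ⟨s, l⟩ ⟨s', l'⟩ h
      have h' : Dbl.inl (dblData m hL U) s + Dbl.inr (dblData m hL U) l =
          Dbl.inl (dblData m hL U) s' + Dbl.inr (dblData m hL U) l' := h
      have h1 := congrArg Dbl.fst h'
      have h2 := congrArg Dbl.snd h'
      simp only [Dbl.add_fst, Dbl.inl_fst, Dbl.inr_fst, add_zero, Dbl.add_snd, Dbl.inl_snd,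
        Dbl.inr_snd, zero_add] at h1 h2
      rw [h1, h2]
    · intro a
      exact ⟨((toDbl m hL a).fst, (toDbl m hL a).snd), (Dbl.eq_inl_add_inr (toDbl m hL a)).symm⟩
  · exact Dbl.inr_mul_inr (D := dblData m hL U) l l'

include hL in
theorem exists_dblAlg :
    ∃ (A : RelSpec.QCAlg X) (j : L ⟶ A.toModule), FinCov.IsDblAlg L m A j :=
  ⟨dblAlg m hL, dblJ m hL, isDblAlg_dblAlg m hL⟩

end Groth.Agent.Helper1.FC
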