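import Mathlib

/-!
# FC16: in a free algebra of rank two, the product of two trace-zero elements is a scalar
-/

set_option autoImplicit false
universe u v

namespace Groth.Agent.Helper1.FC

theorem matrix_two_anticomm {R : Type u} [CommRing R] (M N : Matrix (Fin 2) (Fin 2) R)
    (hM : M.trace = 0) (hN : N.trace = 0) :
    M * N + N * M = (M * N).trace • (1 : Matrix (Fin 2) (Fin 2) R) := by
  rw [Matrix.trace_fin_two] at hM hN
  have hM' : M 1 1 = - M 0 0 := by linear_combination hM
  have hN' : N 1 1 = - N 0 0 := by linear_combination hN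
  ext i j
  fin_cases i <;> fin_cases j <;>
    simp [Matrix.mul_apply, Fin.sum_univ_two, Matrix.trace_fin_two, hM', hN'] <;> ring

theorem two_mul_eq_trace {R : Type u} {S : Type v} [CommRing R] [CommRing S] [Algebra R S]
    (b : Module.Basis (Fin 2) R S) (a a' : S) (ha : Algebra.trace R S a = 0)
    (ha' : Algebra.trace R S a' = 0) :
    2 * (a * a') = algebraMap R S (Algebra.trace R S (a * a')) := by
  apply Algebra.leftMulMatrix_injective b
  rw [Algebra.trace_eq_matrix_trace b] at ha ha'
  have h := matrix_two_anticomm (Algebra.leftMulMatrix b a) (Algebra.leftMulMatrix b a') ha ha'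
  rw [← map_mul, ← map_mul, mul_comm a' a, ← two_mul] at h
  rw [map_mul, map_ofNat, h, Algebra.trace_eq_matrix_trace b, AlgHom.commutes,
    Algebra.algebraMap_eq_smul_one]

theorem mul_eq_half_trace {R : Type u} {S : Type v} [CommRing R] [CommRing S] [Algebra R S]
    (b : Module.Basis (Fin 2) R S) (u : R) (hu : 2 * u = 1) (a a' : S)
    (ha : Algebra.trace R S a = 0) (ha' : Algebra.trace R S a' = 0) :
    a * a' = algebraMap R S (u * Algebra.trace R S (a * a')) := by
  have h := two_mul_eq_trace b a a' ha ha'
  rw [map_mul, ← h]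
  have : algebraMap R S u * (2 * (a * a')) = algebraMap R S (2 * u) * (a * a') := by
    rw [map_mul, map_ofNat]; ring
  rw [this, hu, map_one, one_mul]

end Groth.Agent.Helper1.FC
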