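import Mathlib
import Groth.Agent.Helper1.FC5
import Groth.Agent.Helper4.SemiLocal
import Groth.Agent.Helper4.AffineDict
import Groth.Agent.Helper4.QcohLimits

/-!
# FC7: when the rank is invertible the trace is a split epimorphism with locally free kernel
-/

set_option autoImplicit false
open CategoryTheory Limits AlgebraicGeometry TopologicalSpace Opposite
universe u

namespace Groth.Agent.Helper1.FC
open Groth.Agent.Helper4 Groth.Agent.Helper4.FinLocFree Groth.Agent.Helper4.FinLocFree2

section Alg

variable {R : Type u} [CommRing R] {N M : Type u} [AddCommGroup N] [Module R N] [AddCommGroup M]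
  [Module R M]

/-- the splitting `M × R ≃ N` of a split surjection `τ : N → R` with kernel `M` -/
noncomputable def splitEquiv (ι : M →ₗ[R] N) (τ : N →ₗ[R] R) (σ : R →ₗ[R] N)
    (hι : Function.Injective ι) (hex : ∀ a, τ a = 0 ↔ a ∈ Set.range ι)
    (hσ : ∀ r, τ (σ r) = r) : (M × R) ≃ₗ[R] N :=
  LinearEquiv.ofBijective (ι.coprod σ) (by
    have hτι : ∀ k, τ (ι k) = 0 := fun k => (hex _).mpr ⟨k, rfl⟩
    constructor
    · rw [← LinearMap.ker_eq_bot, LinearMap.ker_eq_bot']
      rintro ⟨k, r⟩ hkr
      rw [LinearMap.coprod_apply] at hkr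
      have h1 := congrArg τ hkr
      rw [map_add, hτι, hσ, zero_add, map_zero] at h1
      subst h1
      rw [map_zero, add_zero] at hkr
      have : k = 0 := hι (hkr.trans (map_zero ι).symm)
      rw [this]; rfl
    · intro a
      have h1 : τ (a - σ (τ a)) = 0 := by rw [map_sub, hσ, sub_self]
      obtain ⟨k, hk⟩ := (hex _).mp h1
      exact ⟨(k, τ a), by rw [LinearMap.coprod_apply, hk]; abel⟩)

theorem exists_free_away_of_split {d : ℕ} (b : Module.Basis (Fin d) R N)
    (ι : M →ₗ[R] N) (τ : N →ₗ[R] R) (σ : R →ₗ[R] N)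
    (hι : Function.Injective ι) (hex : ∀ a, τ a = 0 ↔ a ∈ Set.range ι)
    (hσ : ∀ r, τ (σ r) = r) (p : PrimeSpectrum R) :
    ∃ g : R, g ∉ p.asIdeal ∧ Nonempty (LocalizedModule.Away g M ≃ₗ[Localization.Away g]
      (Fin (d - 1) →₀ Localization.Away g)) := by
  classical
  let e := splitEquiv ι τ σ hι hex hσ
  haveI : Module.Free R N := Module.Free.of_basis b
  haveI : Module.Finite R N := Module.Finite.of_basis b
  have hsplit : (LinearMap.fst R M R ∘ₗ e.symm.toLinearMap) ∘ₗ ι = LinearMap.id := by
    ext k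
    have : e (k, 0) = ι k := by
      change (ι.coprod σ) (k, 0) = ι k
      rw [LinearMap.coprod_apply, map_zero, add_zero]
    simp [← this]
  haveI : Module.Projective R M :=
    Module.Projective.of_split ι (LinearMap.fst R M R ∘ₗ e.symm.toLinearMap) hsplit
  haveI : Module.Finite R M :=
    Module.Finite.of_surjective (LinearMap.fst R M R ∘ₗ e.symm.toLinearMap) (by
      intro k
      exact ⟨e (k, 0), by simp⟩)
  haveI : Module.FinitePresentation R M := Module.finitePresentation_of_projective R M
  have hr : ∀ q : PrimeSpectrum R, Module.rankAtStalk M q = d - 1 := by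
    intro q
    haveI : Nontrivial R := q.nontrivial
    have h1 := Module.rankAtStalk_eq_of_equiv e
    rw [Module.rankAtStalk_prod, Module.rankAtStalk_self,
      Module.rankAtStalk_eq_finrank_of_free (R := R) (M := N),
      Module.finrank_eq_card_basis b, Fintype.card_fin] at h1
    have h2 := congrFun h1 q
    simp only [Pi.add_apply, Pi.one_apply, Pi.natCast_apply, Nat.cast_id] at h2
    omega
  obtain ⟨g, hg, he⟩ := SemiLocal.exists_free_away M (d - 1) hr {p}
  exact ⟨g, hg p (Finset.mem_singleton_self p), he⟩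

end Alg

variable {X : Scheme.{u}}

/-- multiplication by a global function, as an endomorphism of the structure sheaf -/
noncomputable def mulHom (f : Γ(X, ⊤)) : Coh.structureModule X ⟶ Coh.structureModule X :=
  (SheafOfModules.unitHomEquiv _).symm
    (PresheafOfModules.sectionsMk (M := (Coh.structureModule X).val)
      (fun V => (show (Coh.structureModule X).val.obj V from
        X.presheaf.map (homOfLE (le_top : V.unop ≤ ⊤)).op f))
      (by
        intro V W g
        show X.presheaf.map g (X.presheaf.map (homOfLE (le_top : V.unop ≤ ⊤)).op f) = _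
        rw [← ConcreteCategory.comp_apply, ← X.presheaf.map_comp]
        rfl))

theorem mulHom_app (f : Γ(X, ⊤)) (V : X.Opens) (a : Γ(X, V)) :
    ((mulHom f).val.app (op V)).hom a = a * X.presheaf.map (homOfLE (le_top : V ≤ ⊤)).op f := rfl

/-- when the rank is invertible, the trace has a section -/
theorem exists_section_trace (A : RelSpec.QCAlg X) (d : ℕ)
    (hA : FlatMod.IsFinLocFreeOfRank d A.toModule)
    (τ : A.toModule ⟶ Coh.structureModule X) (hτ : FinCov.IsTrace A τ)
    (hd : IsUnit ((d : Γ(X, ⊤)))) :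
    ∃ σ : Coh.structureModule X ⟶ A.toModule, σ ≫ τ = 𝟙 _ := by
  obtain ⟨u, hu⟩ := hd.exists_right_inv
  refine ⟨mulHom u ≫ FinCov.strMod A, ?_⟩
  rw [Category.assoc, strMod_comp_trace A d hA τ hτ]
  apply Scheme.Modules.hom_ext
  intro V
  ext (a : Γ(X, V))
  change ((d • 𝟙 (Coh.structureModule X)).val.app (op V)).hom
    (((mulHom u).val.app (op V)).hom a) = a
  rw [nsmul_app]
  change d • (a * X.presheaf.map (homOfLE (le_top : V ≤ ⊤)).op u) = a
  have h1 : X.presheaf.map (homOfLE (le_top : V ≤ ⊤)).op ((d : Γ(X, ⊤)) * u) = 1 := by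
    rw [hu, map_one]
  rw [map_mul, map_natCast] at h1
  rw [nsmul_eq_mul, mul_comm a, ← mul_assoc, h1, one_mul]

set_option backward.isDefEq.respectTransparency false in
/-- when the rank is invertible, the kernel of the trace is locally free of rank `d - 1` -/
theorem isFinLocFreeOfRank_kernel_trace (A : RelSpec.QCAlg X) (d : ℕ)
    (hA : FlatMod.IsFinLocFreeOfRank d A.toModule)
    (τ : A.toModule ⟶ Coh.structureModule X) (hτ : FinCov.IsTrace A τ)
    (hd : IsUnit ((d : Γ(X, ⊤)))) :
    FlatMod.IsFinLocFreeOfRank (d - 1) (kernel τ) := by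
  obtain ⟨σ, hσ⟩ := exists_section_trace A d hA τ hτ hd
  haveI : (Coh.structureModule X).IsQuasicoherent :=
    FinLocFree4.isQuasicoherent_of_isFinLocFree _ FinLocFree6.isFinLocFree_unit
  haveI : (kernel τ).IsQuasicoherent := QcohLimits.isQuasicoherent_kernel τ
  intro x
  obtain ⟨V₀, hxV₀, hV₀⟩ := hA x
  obtain ⟨V, hV, hxV, -, -, ⟨b⟩⟩ := exists_affine_basis_le A hV₀ ⊤ x hxV₀ trivial
  let S : ShortComplex X.Modules := ShortComplex.mk (kernel.ι τ) τ (kernel.condition τ)
  have hS : S.Exact := ShortComplex.exact_of_f_is_kernel S (kernelIsKernel τ)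
  haveI : Mono S.f := inferInstanceAs (Mono (kernel.ι τ))
  have hex := StalkExact.app_exact S hS V
  have hι := AffineDict.app_injective_of_mono (kernel.ι τ) V
  have hσV : ∀ r : Γ(X, V), (τ.val.app (op V)).hom ((σ.val.app (op V)).hom r) = r := by
    intro r
    have : ((σ ≫ τ).val.app (op V)).hom r = r := by rw [hσ]; rfl
    exact this
  obtain ⟨g, hg, ⟨e⟩⟩ := exists_free_away_of_split (R := Γ(X, V)) (N := Γ(A.toModule, V))
    (M := Γ(kernel τ, V)) b ((kernel.ι τ).val.app (op V)).hom (τ.val.app (op V)).hom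
    (σ.val.app (op V)).hom hι hex hσV (hV.primeIdealOf ⟨x, hxV⟩)
  refine ⟨X.basicOpen g, (StalkDict.mem_basicOpen_iff_notMem_primeIdealOf hV x hxV g).mpr hg, ?_⟩
  exact FinLocFree7.isFreeAlong_basicOpen_of_free_away (kernel τ) hV g (d - 1) e

end Groth.Agent.Helper1.FC
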