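import Mathlib
import Groth.Agent.Helper1.FC7
import Groth.Agent.Helper1.FC6
import Groth.Agent.Helper1.FC16
import Groth.Agent.Helper4.TensorLift

/-!
# FC17: the pairing on the kernel of the trace of an algebra of rank two
-/

set_option autoImplicit false
open CategoryTheory Limits AlgebraicGeometry TopologicalSpace Opposite
universe u

namespace Groth.Agent.Helper1.FC
open Groth.Agent.Helper4

variable {X : Scheme.{u}} (A : RelSpec.QCAlg X) (τ : A.toModule ⟶ Coh.structureModule X)

/-- a section of the kernel of the trace, as an element of the ring `A(V)` -/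
noncomputable def kι (V : X.Opens) (l : Γ(kernel τ, V)) : A.presheaf.obj (op V) :=
  FinCov.toSec A (((kernel.ι τ).val.app (op V)).hom l)

theorem kι_add (V : X.Opens) (l l' : Γ(kernel τ, V)) :
    kι A τ V (l + l') = kι A τ V l + kι A τ V l' :=
  map_add ((kernel.ι τ).val.app (op V)).hom l l'

theorem kι_smul (V : X.Opens) (r : Γ(X, V)) (l : Γ(kernel τ, V)) :
    kι A τ V (r • l) = (A.str.app (op V)).hom r * kι A τ V l :=
  ((kernel.ι τ).val.app (op V)).hom.map_smul r l

theorem kι_map {V V' : X.Opens} (i : V' ⟶ V) (l : Γ(kernel τ, V)) :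
    A.presheaf.map i.op (kι A τ V l) = kι A τ V' ((kernel τ).presheaf.map i.op l) :=
  (StalkExact.app_res (kernel.ι τ) i l).symm

/-- the trace on ring elements -/
noncomputable def trc (V : X.Opens) (a : A.presheaf.obj (op V)) : Γ(X, V) :=
  (τ.val.app (op V)).hom a

theorem trc_add (V : X.Opens) (a a' : A.presheaf.obj (op V)) :
    trc A τ V (a + a') = trc A τ V a + trc A τ V a' :=
  map_add (τ.val.app (op V)).hom (ofSec A a) (ofSec A a')

theorem trc_smul (V : X.Opens) (r : Γ(X, V)) (a : A.presheaf.obj (op V)) :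
    trc A τ V ((A.str.app (op V)).hom r * a) = r * trc A τ V a :=
  (τ.val.app (op V)).hom.map_smul r (ofSec A a)

theorem trc_map {V V' : X.Opens} (i : V' ⟶ V) (a : A.presheaf.obj (op V)) :
    X.presheaf.map i.op (trc A τ V a) = trc A τ V' (A.presheaf.map i.op a) :=
  (StalkExact.app_res τ i (ofSec A a)).symm

theorem trc_kι (V : X.Opens) (l : Γ(kernel τ, V)) : trc A τ V (kι A τ V l) = 0 := by
  have h : ((kernel.ι τ ≫ τ).val.app (op V)).hom l = 0 := by rw [kernel.condition]; rfl
  exact h

/-- restriction of a global function -/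
noncomputable def resTop (u : Γ(X, ⊤)) (V : X.Opens) : Γ(X, V) :=
  X.presheaf.map (homOfLE (le_top : V ≤ ⊤)).op u

theorem resTop_map (u : Γ(X, ⊤)) {V V' : X.Opens} (i : V' ⟶ V) :
    X.presheaf.map i.op (resTop u V) = resTop u V' := by
  unfold resTop
  rw [← CommRingCat.comp_apply, ← X.presheaf.map_comp]
  rfl

/-- the bilinear family `(l, l') ↦ u · tr(l l')` -/
noncomputable def kerBil (u : Γ(X, ⊤)) :
    TensorLift.Bil (kernel τ) (kernel τ) (Coh.structureModule X) where
  f V l l' := resTop u V * trc A τ V (kι A τ V l * kι A τ V l')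
  add_left V l l' n := by
    rw [kι_add, add_mul, trc_add, mul_add]
    rfl
  add_right V l n n' := by
    rw [kι_add, mul_add, trc_add, mul_add]
    rfl
  smul_left V r l n := by
    rw [kι_smul, mul_assoc, trc_smul]
    change _ = r * _
    ring
  smul_right V r l n := by
    rw [kι_smul, ← mul_assoc, mul_comm (kι A τ V l), mul_assoc, trc_smul]
    change _ = r * _
    ring
  map {V V'} i l n := by
    change X.presheaf.map i.op (resTop u V * trc A τ V (kι A τ V l * kι A τ V n)) = _
    rw [map_mul, resTop_map, trc_map, map_mul, kι_map, kι_map]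

/-- the pairing `ker τ ⊗ ker τ ⟶ O` -/
noncomputable def kerPair (u : Γ(X, ⊤)) :
    CohB1.tensorMod (kernel τ) (kernel τ) ⟶ Coh.structureModule X :=
  (kerBil A τ u).lift

theorem kerPair_tmul (u : Γ(X, ⊤)) (V : X.Opens) (l l' : Γ(kernel τ, V)) :
    ((kerPair A τ u).val.app (op V)).hom (SecTwist.tmul (kernel τ) (kernel τ) V l l') =
      resTop u V * trc A τ V (kι A τ V l * kι A τ V l') :=
  (kerBil A τ u).lift_tmul V l l'

end Groth.Agent.Helper1.FC
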