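import Mathlib
import Groth.Agent.Helper1.FC17

/-!
# FC18: an algebra of rank two with 2 invertible is `O ⊕ ker(trace)`
-/

set_option autoImplicit false
open CategoryTheory Limits AlgebraicGeometry TopologicalSpace Opposite
universe u

namespace Groth.Agent.Helper1.FC
open Groth.Agent.Helper4 Groth.Agent.Helper4.FinLocFree Groth.Agent.Helper4.FinLocFree2

variable {X : Scheme.{u}} (A : RelSpec.QCAlg X) (τ : A.toModule ⟶ Coh.structureModule X)

theorem resTop_two_mul (u : Γ(X, ⊤)) (hu : 2 * u = 1) (V : X.Opens) : 2 * resTop u V = 1 := by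
  have := congrArg (X.presheaf.map (homOfLE (le_top : V ≤ ⊤)).op).hom hu
  rw [map_mul, map_ofNat, map_one] at this
  exact this

theorem trc_eq_trace (hτ : FinCov.IsTrace A τ) {V : X.Opens} (hV : IsAffineOpen V)
    (b : letI := algSect A V; Module.Basis (Fin 2) Γ(X, V) (A.presheaf.obj (op V)))
    (a : A.presheaf.obj (op V)) :
    letI := algSect A V
    trc A τ V a = Algebra.trace Γ(X, V) (A.presheaf.obj (op V)) a := by
  letI := algSect A V
  exact hτ V hV (Module.Free.of_basis b) (Module.Finite.of_basis b) a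

theorem kι_mul_kι (hA : FlatMod.IsFinLocFreeOfRank 2 A.toModule) (hτ : FinCov.IsTrace A τ)
    (u : Γ(X, ⊤)) (hu : 2 * u = 1) (U : X.Opens) (l l' : Γ(kernel τ, U)) :
    kι A τ U l * kι A τ U l' =
      (A.str.app (op U)).hom (resTop u U * trc A τ U (kι A τ U l * kι A τ U l')) := by
  apply TwistExt.eq_of_cover A.toModule U (ofSec A _) (ofSec A _)
  intro y hy
  obtain ⟨V₀, hyV₀, hV₀⟩ := hA y
  obtain ⟨V, hV, hyV, -, hVU, ⟨b⟩⟩ := exists_affine_basis_le A hV₀ U y hyV₀ hy
  refine ⟨V, hVU, hyV, ?_⟩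
  change A.presheaf.map (homOfLE hVU).op (kι A τ U l * kι A τ U l') =
    A.presheaf.map (homOfLE hVU).op
      ((A.str.app (op U)).hom (resTop u U * trc A τ U (kι A τ U l * kι A τ U l')))
  letI := algSect A V
  set a := kι A τ V ((kernel τ).presheaf.map (homOfLE hVU).op l) with ha
  set a' := kι A τ V ((kernel τ).presheaf.map (homOfLE hVU).op l') with ha'
  have e1 : A.presheaf.map (homOfLE hVU).op (kι A τ U l * kι A τ U l') = a * a' := by
    rw [map_mul, kι_map, kι_map]
  have e2 : X.presheaf.map (homOfLE hVU).op (resTop u U * trc A τ U (kι A τ U l * kι A τ U l')) =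
      resTop u V * trc A τ V (a * a') := by
    rw [map_mul, resTop_map, trc_map, e1]
  rw [e1, ← str_res A hVU, e2]
  have h1 : Algebra.trace Γ(X, V) (A.presheaf.obj (op V)) a = 0 := by
    rw [← trc_eq_trace A τ hτ hV b, ha, trc_kι]
  have h2 : Algebra.trace Γ(X, V) (A.presheaf.obj (op V)) a' = 0 := by
    rw [← trc_eq_trace A τ hτ hV b, ha', trc_kι]
  rw [trc_eq_trace A τ hτ hV b]
  exact mul_eq_half_trace b (resTop u V) (resTop_two_mul u hu V) a a' h1 h2

theorem trc_str (hA : FlatMod.IsFinLocFreeOfRank 2 A.toModule) (hτ : FinCov.IsTrace A τ)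
    (U : X.Opens) (s : Γ(X, U)) : trc A τ U ((A.str.app (op U)).hom s) = 2 * s := by
  have h := trace_str A 2 hA τ hτ U s
  rw [two_nsmul, ← two_mul] at h
  exact h

theorem trc_sub (V : X.Opens) (a a' : A.presheaf.obj (op V)) :
    trc A τ V (a - a') = trc A τ V a - trc A τ V a' :=
  map_sub (τ.val.app (op V)).hom (ofSec A a) (ofSec A a')

theorem exists_isDblAlg_kernel (hA : FlatMod.IsFinLocFreeOfRank 2 A.toModule)
    (hτ : FinCov.IsTrace A τ) (h2 : IsUnit (2 : Γ(X, ⊤))) :
    ∃ m : CohB1.tensorMod (kernel τ) (kernel τ) ⟶ Coh.structureModule X,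
      FinCov.IsDblAlg (kernel τ) m A (kernel.ι τ) := by
  obtain ⟨u, hu⟩ := h2.exists_right_inv
  refine ⟨kerPair A τ u, fun U => ⟨?_, ?_⟩, fun U l l' => ?_⟩
  · rintro ⟨s, l⟩ ⟨s', l'⟩ h
    have h' : (A.str.app (op U)).hom s + kι A τ U l =
        (A.str.app (op U)).hom s' + kι A τ U l' := h
    have ht := congrArg (trc A τ U) h'
    rw [trc_add, trc_add, trc_kι, trc_kι, add_zero, add_zero, trc_str A τ hA hτ,
      trc_str A τ hA hτ] at ht
    have hs : s = s' := (isUnit_two_res h2 U).mul_right_injective ht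
    subst hs
    have hl : kι A τ U l = kι A τ U l' := add_left_cancel h'
    have : l = l' := AffineDict.app_injective_of_mono (kernel.ι τ) U hl
    rw [this]
  · intro a
    let S : ShortComplex X.Modules := ShortComplex.mk (kernel.ι τ) τ (kernel.condition τ)
    have hS : S.Exact := ShortComplex.exact_of_f_is_kernel S (kernelIsKernel τ)
    haveI : Mono S.f := inferInstanceAs (Mono (kernel.ι τ))
    have hex := StalkExact.app_exact S hS U
    set s : Γ(X, U) := resTop u U * trc A τ U (FinCov.toSec A a) with hs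
    have h0 : trc A τ U (FinCov.toSec A a - (A.str.app (op U)).hom s) = 0 := by
      rw [trc_sub, trc_str A τ hA hτ, hs, ← mul_assoc, resTop_two_mul u hu U, one_mul, sub_self]
    obtain ⟨l, hl⟩ := (hex (ofSec A (FinCov.toSec A a - (A.str.app (op U)).hom s))).mp h0
    refine ⟨(s, l), ?_⟩
    change (A.str.app (op U)).hom s + kι A τ U l = FinCov.toSec A a
    have hl' : kι A τ U l = FinCov.toSec A a - (A.str.app (op U)).hom s := hl
    rw [hl']
    ring
  · change kι A τ U l * kι A τ U l' = (A.str.app (op U)).hom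
      (((kerPair A τ u).val.app (op U)).hom (SecTwist.tmul (kernel τ) (kernel τ) U l l'))
    rw [kerPair_tmul]
    exact kι_mul_kι A τ hA hτ u hu U l l'

end Groth.Agent.Helper1.FC
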