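import Mathlib
import Groth.Prelude.Def_FinCov
import Groth.Agent.Helper4.FinLocFree6
import Groth.Agent.Helper4.FinLocFree7

/-!
# FC8: the rank of a finite flat morphism at a point, through sections over an affine open
-/

set_option autoImplicit false
open CategoryTheory Limits AlgebraicGeometry TopologicalSpace Opposite
universe u

namespace Groth.Agent.Helper1.FC
open Groth.Agent.Helper4 Groth.Agent.Helper4.FinLocFree Groth.Agent.Helper4.FinLocFree2

variable {X Y : Scheme.{u}}

/-- the square of affine charts over an affine open of the base is cartesian -/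
theorem isPullback_fromSpec (f : X ⟶ Y) {U : Y.Opens} (hU : IsAffineOpen U)
    (hfU : IsAffineOpen (f ⁻¹ᵁ U)) :
    IsPullback hfU.fromSpec (Spec.map (f.app U)) f hU.fromSpec := by
  haveI : IsAffine U := hU
  haveI : IsAffine (f ⁻¹ᵁ U) := hfU
  have hcomm : Spec.map (f.app U) ≫ hU.fromSpec = hfU.fromSpec ≫ f := by
    have := IsAffineOpen.SpecMap_appLE_fromSpec f hU hfU le_rfl
    rwa [Scheme.Hom.appLE, show (homOfLE (le_refl (f ⁻¹ᵁ U))).op = 𝟙 _ from rfl,
      CategoryTheory.Functor.map_id, Category.comp_id] at this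
  have hsq : IsPullback hfU.isoSpec.inv (Spec.map (f.app U)) (f ∣_ U) hU.isoSpec.inv := by
    refine IsPullback.of_horiz_isIso ⟨?_⟩
    rw [← cancel_mono U.ι, Category.assoc, Category.assoc, morphismRestrict_ι]
    exact hcomm.symm
  exact hsq.paste_horiz (isPullback_morphismRestrict f U).flip

/-- the rank of a finite flat morphism at a point of an affine open `U` is the rank at the
corresponding prime of `Γ(X, f⁻¹U)` over `Γ(Y, U)` -/
theorem finrank_eq_rankAtStalk (f : X ⟶ Y) [IsFinite f] [Flat f] {U : Y.Opens}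
    (hU : IsAffineOpen U) (y : Y) (hy : y ∈ U) :
    letI := (f.app U).hom.toAlgebra
    f.finrank y = Module.rankAtStalk (R := Γ(Y, U)) Γ(X, f ⁻¹ᵁ U) (hU.primeIdealOf ⟨y, hy⟩) := by
  have hfU : IsAffineOpen (f ⁻¹ᵁ U) := hU.preimage f
  have h := Scheme.Hom.finrank_of_isPullback _ _ _ _ (isPullback_fromSpec f hU hfU)
    (hU.primeIdealOf ⟨y, hy⟩)
  rw [hU.fromSpec_primeIdealOf ⟨y, hy⟩] at h
  have hfin : (f.app U).hom.Finite := f.finite_app U hU
  have hflat : (f.app U).hom.Flat :=
    (FinLocFree6.affineHom_iff_app @Flat RingHom.Flat f).mp inferInstance U hU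
  rw [← h, Scheme.Hom.finrank_SpecMap_eq_finrank hfin hflat]
  rfl

/-- if `f_* O_X` has a basis of `n` elements over an affine open `U`, the rank of `f` on `U`
is `n` -/
theorem finrank_of_basis (f : X ⟶ Y) [IsFinite f] [Flat f] {U : Y.Opens}
    (hU : IsAffineOpen U) {n : ℕ}
    (b : Module.Basis (Fin n) Γ(Y, U)
      Γ((Scheme.Modules.pushforward f).obj (Coh.structureModule X), U)) (y : Y) (hy : y ∈ U) :
    f.finrank y = n := by
  rw [finrank_eq_rankAtStalk f hU y hy]
  letI := (f.app U).hom.toAlgebra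
  let b' : Module.Basis (Fin n) Γ(Y, U) Γ(X, f ⁻¹ᵁ U) := b.map (FinLocFree6.pushUnitEquiv f U)
  haveI : Module.Free Γ(Y, U) Γ(X, f ⁻¹ᵁ U) := Module.Free.of_basis b'
  haveI : Nontrivial Γ(Y, U) := (hU.primeIdealOf ⟨y, hy⟩).nontrivial
  rw [Module.rankAtStalk_eq_finrank_of_free, Module.finrank_eq_card_basis b', Fintype.card_fin]
  rfl

theorem isCover_of_push (f : X ⟶ Y) [IsAffineHom f] (d : ℕ)
    (h : FlatMod.IsFinLocFreeOfRank d
      ((Scheme.Modules.pushforward f).obj (Coh.structureModule X))) : FinCov.IsCover f d := by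
  have h' := FinLocFree7.isFinLocFree_of_rank _ h
  obtain ⟨h1, h2, h3⟩ := FinLocFree6.finite_flat_lfp_of_isFinLocFree_push f h'
  refine ⟨⟨h1, h2, h3⟩, fun y => ?_⟩
  haveI := FinLocFree4.isQuasicoherent_of_isFinLocFree _ h'
  obtain ⟨V, hyV, hV⟩ := h y
  obtain ⟨U, hU, hyU, -, ⟨b⟩⟩ := exists_affine_basis_of_isFreeAlong _ hV y hyV
  exact finrank_of_basis f hU b y hyU

theorem push_of_isCover (f : X ⟶ Y) (d : ℕ) (h : FinCov.IsCover f d) :
    IsAffineHom f ∧ FlatMod.IsFinLocFreeOfRank d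
      ((Scheme.Modules.pushforward f).obj (Coh.structureModule X)) := by
  obtain ⟨⟨h1, h2, h3⟩, hr⟩ := h
  refine ⟨inferInstance, fun y => ?_⟩
  have hG := FinLocFree6.isFinLocFree_push_of_finite_flat_lfp f
  haveI := FinLocFree4.isQuasicoherent_of_isFinLocFree _ hG
  obtain ⟨V, n, hyV, hV⟩ := hG y
  obtain ⟨U, hU, hyU, -, ⟨b⟩⟩ := exists_affine_basis_of_isFreeAlong _ hV y hyV
  have : n = d := (finrank_of_basis f hU b y hyU).symm.trans (hr y)
  subst this
  exact ⟨V, hyV, hV⟩

theorem isCover_iff (f : X ⟶ Y) (d : ℕ) :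
    FinCov.IsCover f d ↔
      IsAffineHom f ∧ FlatMod.IsFinLocFreeOfRank d
        ((Scheme.Modules.pushforward f).obj (Coh.structureModule X)) :=
  ⟨push_of_isCover f d, fun h => haveI := h.1; isCover_of_push f d h.2⟩

end Groth.Agent.Helper1.FC
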