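import Mathlib
import Groth.Agent.Helper1.FC8
import Groth.Agent.Helper1.FC1
import Groth.Agent.Helper4.RelSpecIso
import Groth.Agent.Helper4.QcohGlue

/-!
# FC9: the relative spectrum of a locally free algebra of rank `d` is a cover of degree `d`
-/

set_option autoImplicit false
open CategoryTheory Limits AlgebraicGeometry TopologicalSpace Opposite
universe u

namespace Groth.Agent.Helper1.FC
open Groth.Agent.Helper4 Groth.Agent.Helper4.FinLocFree Groth.Agent.Helper4.FinLocFree2

variable {X : Scheme.{u}} (A : RelSpec.QCAlg X)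

/-- over an affine open, the functions of `Spec A` on the preimage are `A(U)`, linearly -/
noncomputable def gammaLin (U : X.Opens) (hU : IsAffineOpen U) :
    Γ((Scheme.Modules.pushforward A.π).obj (Coh.structureModule A.spec), U) ≃ₗ[Γ(X, U)]
      Γ(A.toModule, U) :=
  haveI := RelSpecIso.isIso_gammaAff A U hU
  LinearEquiv.ofBijective
    (M := Γ((Scheme.Modules.pushforward A.π).obj (Coh.structureModule A.spec), U))
    (M₂ := Γ(A.toModule, U))
    { toFun := fun s => (A.gammaAff U hU).hom s
      map_add' := fun s t => map_add (A.gammaAff U hU).hom s t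
      map_smul' := fun r s => by
        have h1 : (A.gammaAff U hU).hom ((A.π.app U).hom r) = (A.str.app (op U)).hom r :=
          congr($(A.π_app_gammaAff U hU) r)
        change (A.gammaAff U hU).hom ((A.π.app U).hom r * (show Γ(A.spec, A.π ⁻¹ᵁ U) from s)) =
          (A.str.app (op U)).hom r * (A.gammaAff U hU).hom (show Γ(A.spec, A.π ⁻¹ᵁ U) from s)
        rw [map_mul, h1] }
    ((ConcreteCategory.isIso_iff_bijective (A.gammaAff U hU)).mp inferInstance)

theorem isFinLocFreeOfRank_push (d : ℕ) (hA : FlatMod.IsFinLocFreeOfRank d A.toModule) :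
    FlatMod.IsFinLocFreeOfRank d
      ((Scheme.Modules.pushforward A.π).obj (Coh.structureModule A.spec)) := by
  haveI : (Coh.structureModule A.spec).IsQuasicoherent :=
    FinLocFree4.isQuasicoherent_of_isFinLocFree _ FinLocFree6.isFinLocFree_unit
  haveI := QcohGlue.isQuasicoherent_pushforward A.π (Coh.structureModule A.spec)
  intro x
  obtain ⟨V, hxV, hV⟩ := hA x
  obtain ⟨U, hU, hxU, -, ⟨b⟩⟩ := exists_affine_basis_of_isFreeAlong A.toModule hV x hxV
  exact ⟨U, hxU, (isFreeAlong_ι_iff_basis hU _).mpr ⟨b.map (gammaLin A U hU).symm⟩⟩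

theorem isCover_π (d : ℕ) (hA : FlatMod.IsFinLocFreeOfRank d A.toModule) :
    FinCov.IsCover A.π d :=
  isCover_of_push A.π d (isFinLocFreeOfRank_push A d hA)

end Groth.Agent.Helper1.FC
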