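import Mathlib
import Groth.Agent.Helper1.FL2
import Groth.Agent.Helper1.HB4
import Groth.Agent.Helper4.SN189

/-!
# Flag Quot schemes, part 3: flag Hilbert schemes (flags of length two)
-/

set_option autoImplicit false
set_option linter.style.haveILetI false
set_option linter.unusedSectionVars false
set_option maxHeartbeats 400000

universe u
open CategoryTheory CategoryTheory.Limits AlgebraicGeometry Opposite TopologicalSpace

namespace Groth.Agent.Helper1.FL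

open Groth.Agent.Helper1.QV Groth.Agent.Helper1.HB

section Order

variable {Y : Scheme.{u}} {A : Y.Modules} (u : A ≅ Coh.structureModule Y)

/-- the dictionary between ideal sheaves and subobjects preserves and reflects the order -/
theorem isub_le_iff (I I' : Y.IdealSheafData) : isub u I ≤ isub u I' ↔ I ≤ I' := by
  rw [isub_eq_mk, isub_eq_mk]
  constructor
  · intro hJ U g hg
    obtain ⟨t, ht⟩ := (Groth.Agent.Lead.IdealModDict.exists_section_iff I U g).2 hg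
    apply (Groth.Agent.Lead.IdealModDict.exists_section_iff I' U g).1
    have he : Subobject.ofMkLEMk _ _ hJ ≫ ClSub.idealModι I' = ClSub.idealModι I := by
      rw [← cancel_mono u.inv, Category.assoc]
      exact Subobject.ofMkLEMk_comp hJ
    refine ⟨(Subobject.ofMkLEMk _ _ hJ).app U.1 t, ?_⟩
    rw [← ht]
    exact congrArg (fun φ => (Scheme.Modules.Hom.app φ U.1) t) he
  · intro h
    refine Subobject.mk_le_mk_of_comm (Groth.Agent.Helper4.SN.idealModLE h) ?_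
    rw [← Category.assoc, Groth.Agent.Helper4.SN.idealModLE_ι]

end Order

variable {X S : Scheme.{u}} (f : X ⟶ S)

theorem hsub_le_iff (T : Over S) (I I' : (PicF.XT f T).IdealSheafData) :
    hsub f T I ≤ hsub f T I' ↔ I ≤ I' :=
  isub_le_iff (uT f T) I I'

/-- the element of the Quot set attached to an element of the Hilbert set -/
noncomputable def hsubSet (T : Over S) (Y : FGA.HilbSet f T) :
    FGA.QuotSet f (Coh.structureModule X) T :=
  ⟨hsub f T Y.1, isCoh_cokernel_hsub f T Y.1, (isFlatOver_cokernel_hsub_iff f T Y.1).2 Y.2.2⟩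

/-- **flag Hilbert schemes from flag Quot schemes** -/
theorem exists_flagHilb_of_flagQuot [IsProper f] (Fl : Over S)
    (K₁ K₂ : FGA.QuotSet f (Coh.structureModule X) Fl) (hle : K₂.1 ≤ K₁.1)
    (hFl : ∀ (T : Over S) [IsLocallyNoetherian T.left]
      (K₁' K₂' : FGA.QuotSet f (Coh.structureModule X) T), K₂'.1 ≤ K₁'.1 →
      ∃! g : T ⟶ Fl, FGA.quotPull f (Coh.structureModule X) g K₁.1 = K₁'.1 ∧
        FGA.quotPull f (Coh.structureModule X) g K₂.1 = K₂'.1) :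
    ∃ W₁ W₂ : FGA.HilbSet f Fl, W₂.1 ≤ W₁.1 ∧
      ∀ (T : Over S) [IsLocallyNoetherian T.left] (Y₁ Y₂ : FGA.HilbSet f T), Y₂.1 ≤ Y₁.1 →
        ∃! g : T ⟶ Fl, FGA.hilbPull f g W₁.1 = Y₁.1 ∧ FGA.hilbPull f g W₂.1 = Y₂.1 := by
  haveI : IsProper (PicF.XTproj f Fl) := MorphismProperty.pullback_snd _ _ inferInstance
  obtain ⟨I₁, hI₁⟩ := exists_hsub_eq f Fl K₁
  obtain ⟨I₂, hI₂⟩ := exists_hsub_eq f Fl K₂
  have hfl₁ : Flat (I₁.subschemeι ≫ PicF.XTproj f Fl) := by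
    rw [← isFlatOver_cokernel_hsub_iff, hI₁]
    exact K₁.2.2
  have hfl₂ : Flat (I₂.subschemeι ≫ PicF.XTproj f Fl) := by
    rw [← isFlatOver_cokernel_hsub_iff, hI₂]
    exact K₂.2.2
  refine ⟨⟨I₁, inferInstance, hfl₁⟩, ⟨I₂, inferInstance, hfl₂⟩, ?_, ?_⟩
  · show I₂ ≤ I₁
    rw [← hsub_le_iff f Fl, hI₁, hI₂]
    exact hle
  · intro T _ Y₁ Y₂ hY
    obtain ⟨g, ⟨hg₁, hg₂⟩, huniq⟩ := hFl T (hsubSet f T Y₁) (hsubSet f T Y₂)
      ((hsub_le_iff f T Y₂.1 Y₁.1).2 hY)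
    have hg₁' : FGA.quotPull f (Coh.structureModule X) g K₁.1 = hsub f T Y₁.1 := hg₁
    have hg₂' : FGA.quotPull f (Coh.structureModule X) g K₂.1 = hsub f T Y₂.1 := hg₂
    refine ⟨g, ⟨?_, ?_⟩, ?_⟩
    · apply hsub_injective f T
      rw [← quotPull_hsub, hI₁]
      exact hg₁'
    · apply hsub_injective f T
      rw [← quotPull_hsub, hI₂]
      exact hg₂'
    · rintro g' ⟨h1, h2⟩
      have h1' : FGA.hilbPull f g' I₁ = Y₁.1 := h1
      have h2' : FGA.hilbPull f g' I₂ = Y₂.1 := h2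
      apply huniq
      constructor
      · show FGA.quotPull f (Coh.structureModule X) g' K₁.1 = hsub f T Y₁.1
        rw [← hI₁, quotPull_hsub, h1']
      · show FGA.quotPull f (Coh.structureModule X) g' K₂.1 = hsub f T Y₂.1
        rw [← hI₂, quotPull_hsub, h2']

/-- **flag Hilbert schemes (length two) of a closed subscheme of `P^n_S`** -/
theorem exists_flagHilb {X S : Scheme.{u}} [IsNoetherian S] (n : ℕ)
    (i : X ⟶ CohB1.ProjSpaceOver n S) [IsClosedImmersion i] :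
    ∃ (H : Over S) (W₁ W₂ : FGA.HilbSet (i ≫ CohB1.ProjSpaceOver.toBase n S) H),
      W₂.1 ≤ W₁.1 ∧ IsLocallyNoetherian H.left ∧
      (∀ (T : Over S) [IsLocallyNoetherian T.left]
        (Y₁ Y₂ : FGA.HilbSet (i ≫ CohB1.ProjSpaceOver.toBase n S) T), Y₂.1 ≤ Y₁.1 →
        ∃! g : T ⟶ H, FGA.hilbPull (i ≫ CohB1.ProjSpaceOver.toBase n S) g W₁.1 = Y₁.1 ∧
          FGA.hilbPull (i ≫ CohB1.ProjSpaceOver.toBase n S) g W₂.1 = Y₂.1) ∧
      HasProjPieces H := by
  obtain ⟨ρ, hρ⟩ := exists_epi_twist_zero n i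
  haveI := hρ
  obtain ⟨Q, K, hQ, hP⟩ := exists_quot_of_epi_twist n i
    (Coh.structureModule X) (Groth.Agent.Lead.HomShH.isCoh_unit X) 1 0 ρ
  haveI := Groth.Agent.Helper6.HProj.isProper_toBase n S
  have hL : RelAmple.IsRelAmple (i ≫ CohB1.ProjSpaceOver.toBase n S)
      ((Scheme.Modules.pullback i).obj (Twist.twistOver n S 1)) :=
    Groth.Agent.Helper1.VA.isRelAmple_of_immersion i
  obtain ⟨Fl, K₁, K₂, hle, hN, hFl, hPF⟩ := exists_flag (i ≫ CohB1.ProjSpaceOver.toBase n S) hL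
    (Groth.Agent.Lead.HomShH.isCoh_unit X) Q K hQ hP
  obtain ⟨W₁, W₂, hW, hU⟩ := exists_flagHilb_of_flagQuot (i ≫ CohB1.ProjSpaceOver.toBase n S)
    Fl K₁ K₂ hle hFl
  exact ⟨Fl, W₁, W₂, hW, hN, hU, hPF⟩

/-- the same, for a structure morphism given up to equality -/
theorem exists_flagHilb' {X S : Scheme.{u}} [IsNoetherian S] (n : ℕ)
    (i : X ⟶ CohB1.ProjSpaceOver n S) [IsClosedImmersion i] (f : X ⟶ S)
    (hf : i ≫ CohB1.ProjSpaceOver.toBase n S = f) :
    ∃ (H : Over S) (W₁ W₂ : FGA.HilbSet f H),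
      W₂.1 ≤ W₁.1 ∧ IsLocallyNoetherian H.left ∧
      (∀ (T : Over S) [IsLocallyNoetherian T.left]
        (Y₁ Y₂ : FGA.HilbSet f T), Y₂.1 ≤ Y₁.1 →
        ∃! g : T ⟶ H, FGA.hilbPull f g W₁.1 = Y₁.1 ∧ FGA.hilbPull f g W₂.1 = Y₂.1) ∧
      HasProjPieces H := by
  subst hf
  exact exists_flagHilb n i

end Groth.Agent.Helper1.FL
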