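import Mathlib
import Groth.Prelude.Def_RefHull
import Groth.Agent.Helper4.StalkDict
import Groth.Agent.Helper4.QcqsMod
import Groth.Agent.Lead.HomShA
import Groth.Agent.Lead.HomShC

/-!
# Morphisms of `O_X`-modules from global sections of the hand-rolled sheaf Hom

* `homOfSection t : F ⟶ G` for `t : Γ(RefHull.homSh F G, ⊤)`, with its stalk maps;
* `hom_ext_stalk`: morphisms are determined by their stalk maps;
* `scalarHom F g : F ⟶ F`, multiplication by a global function;
* `unitHom F s : O_X ⟶ F` for a global section `s`.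
-/

set_option autoImplicit false
set_option linter.style.haveILetI false
set_option linter.unusedSectionVars false
set_option linter.unusedVariables false

universe u

open CategoryTheory CategoryTheory.Limits AlgebraicGeometry TopologicalSpace Opposite

namespace Groth.Agent.Helper1.FLFAnn

open Groth.Agent.Helper4.StalkDict Groth.Agent.Helper4.QcqsMod Groth.Agent.Lead

variable {X : Scheme.{u}} (F G : X.Modules)

/-- morphisms of modules are determined by their stalk maps -/
theorem hom_ext_stalk {F G : X.Modules} (φ ψ : F ⟶ G)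
    (h : ∀ x : X, RefHull.stalkMapₗ φ x = RefHull.stalkMapₗ ψ x) : φ = ψ := by
  apply Scheme.Modules.hom_ext
  intro U
  ext m
  apply section_ext
  intro x hx
  have h1 := RefHull.stalkMapₗ_germ φ x hx m
  have h2 := RefHull.stalkMapₗ_germ ψ x hx m
  rw [h x] at h1
  exact h1.symm.trans h2

/-- restriction of a global section of the sheaf Hom -/
noncomputable def resSec (t : Γ(RefHull.homSh F G, ⊤)) (U : X.Opens) : Γ(RefHull.homSh F G, U) :=
  (RefHull.homSh F G).presheaf.map (homOfLE (le_top : U ≤ ⊤)).op t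

theorem resSec_apply (t : Γ(RefHull.homSh F G, ⊤)) (U : X.Opens) (y : U) :
    (resSec F G t U).1 y = t.1 ⟨y.1, trivial⟩ := rfl



/-- the additive map on sections over `U` defined by a global section of the sheaf Hom -/
noncomputable def secMap (t : Γ(RefHull.homSh F G, ⊤)) (U : X.Opens) : Γ(F, U) →+ Γ(G, U) :=
  (HomShC.toLin F G (resSec F G t U)).toAddMonoidHom

theorem germ_secMap (t : Γ(RefHull.homSh F G, ⊤)) (U : X.Opens) (m : Γ(F, U)) (y : X) (hy : y ∈ U) :
    G.presheaf.germ U y hy (secMap F G t U m) = t.1 ⟨y, trivial⟩ (F.presheaf.germ U y hy m) :=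
  HomShC.germ_toLin F G (resSec F G t U) m y hy

theorem secMap_smul (t : Γ(RefHull.homSh F G, ⊤)) (U : X.Opens) (r : Γ(X, U)) (m : Γ(F, U)) :
    secMap F G t U (r • m) = r • secMap F G t U m :=
  (HomShC.toLin F G (resSec F G t U)).map_smul r m

theorem secMap_res (t : Γ(RefHull.homSh F G, ⊤)) {U V : X.Opens} (i : V ⟶ U) (s : Γ(F, U)) :
    secMap F G t V (F.presheaf.map i.op s) = G.presheaf.map i.op (secMap F G t U s) := by
  apply section_ext
  intro y hy
  have h1 := germ_secMap F G t V (F.presheaf.map i.op s) y hy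
  have h2 := TopCat.Presheaf.germ_res_apply F.presheaf i y hy s
  have h3 := TopCat.Presheaf.germ_res_apply G.presheaf i y hy (secMap F G t U s)
  have h4 := germ_secMap F G t U s y (i.le hy)
  rw [h1, h2, h3, h4]

/-- the morphism defined by a global section of the sheaf Hom -/
noncomputable def homOfSection (t : Γ(RefHull.homSh F G, ⊤)) : F ⟶ G :=
  ⟨PresheafOfModules.homMk
    { app := fun U => AddCommGrpCat.ofHom (secMap F G t U.unop)
      naturality := fun {U V} i => by
        ext s
        exact secMap_res F G t i.unop s }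
    (fun U r s => secMap_smul F G t U.unop r s)⟩

theorem homOfSection_app (t : Γ(RefHull.homSh F G, ⊤)) (U : X.Opens) (m : Γ(F, U)) :
    (homOfSection F G t).app U m = secMap F G t U m := rfl

theorem stalkMapₗ_homOfSection (t : Γ(RefHull.homSh F G, ⊤)) (x : X) :
    RefHull.stalkMapₗ (homOfSection F G t) x = t.1 ⟨x, trivial⟩ := by
  ext v
  obtain ⟨U, hx, m, rfl⟩ := TopCat.Presheaf.exists_germ_eq F.presheaf v
  rw [RefHull.stalkMapₗ_germ, homOfSection_app, germ_secMap]



/-- restriction of a global function -/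
noncomputable abbrev resG (g : Γ(X, ⊤)) (U : X.Opens) : Γ(X, U) :=
  X.presheaf.map (homOfLE (le_top : U ≤ ⊤)).op g

theorem resG_res (g : Γ(X, ⊤)) {U V : X.Opens} (i : V ⟶ U) :
    X.presheaf.map i.op (resG g U) = resG g V := by
  change (X.presheaf.map _ ≫ X.presheaf.map _) g = _
  rw [← Functor.map_comp]
  rfl

theorem germ_resG (g : Γ(X, ⊤)) (U : X.Opens) (y : X) (hy : y ∈ U) :
    X.presheaf.germ U y hy (resG g U) = X.presheaf.germ ⊤ y trivial g :=
  TopCat.Presheaf.germ_res_apply X.presheaf (homOfLE (le_top : U ≤ ⊤)) y hy g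

noncomputable def scalarMap (g : Γ(X, ⊤)) (U : X.Opens) : Γ(F, U) →+ Γ(F, U) :=
  DistribSMul.toAddMonoidHom Γ(F, U) (resG g U)

theorem scalarMap_apply (g : Γ(X, ⊤)) (U : X.Opens) (m : Γ(F, U)) :
    scalarMap F g U m = resG g U • m := rfl

theorem scalarMap_res (g : Γ(X, ⊤)) {U V : X.Opens} (i : V ⟶ U) (s : Γ(F, U)) :
    scalarMap F g V (F.presheaf.map i.op s) = F.presheaf.map i.op (scalarMap F g U s) := by
  rw [scalarMap_apply, scalarMap_apply, Scheme.Modules.map_smul, resG_res]

theorem scalarMap_smul (g : Γ(X, ⊤)) (U : X.Opens) (r : Γ(X, U)) (m : Γ(F, U)) :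
    scalarMap F g U (r • m) = r • scalarMap F g U m := by
  rw [scalarMap_apply, scalarMap_apply]
  exact smul_comm _ _ _

/-- multiplication by a global function, as an endomorphism of a module -/
noncomputable def scalarHom (g : Γ(X, ⊤)) : F ⟶ F :=
  ⟨PresheafOfModules.homMk
    { app := fun U => AddCommGrpCat.ofHom (scalarMap F g U.unop)
      naturality := fun {U V} i => by
        ext s
        exact scalarMap_res F g i.unop s }
    (fun U r s => scalarMap_smul F g U.unop r s)⟩

theorem scalarHom_app (g : Γ(X, ⊤)) (U : X.Opens) (m : Γ(F, U)) :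
    (scalarHom F g).app U m = resG g U • m := rfl

theorem stalkMapₗ_scalarHom (g : Γ(X, ⊤)) (x : X) (v : F.presheaf.stalk x) :
    RefHull.stalkMapₗ (scalarHom F g) x v = X.presheaf.germ ⊤ x trivial g • v := by
  obtain ⟨U, hx, m, rfl⟩ := TopCat.Presheaf.exists_germ_eq F.presheaf v
  rw [RefHull.stalkMapₗ_germ, scalarHom_app, germ_smul, germ_resG]



/-- sections of the structure module are functions -/
def toFn {U : X.Opens} (r : Γ(Coh.structureModule X, U)) : Γ(X, U) := r
def ofFn {U : X.Opens} (r : Γ(X, U)) : Γ(Coh.structureModule X, U) := r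

theorem toFn_smul {U : X.Opens} (a : Γ(X, U)) (r : Γ(Coh.structureModule X, U)) :
    toFn (a • r) = a * toFn r := rfl

theorem toFn_res {U V : X.Opens} (i : V ⟶ U) (r : Γ(Coh.structureModule X, U)) :
    toFn ((Coh.structureModule X).presheaf.map i.op r) = X.presheaf.map i.op (toFn r) := rfl

noncomputable def resS (s : Γ(F, ⊤)) (U : X.Opens) : Γ(F, U) :=
  F.presheaf.map (homOfLE (le_top : U ≤ ⊤)).op s

theorem resS_res (s : Γ(F, ⊤)) {U V : X.Opens} (i : V ⟶ U) :
    F.presheaf.map i.op (resS F s U) = resS F s V := by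
  change (F.presheaf.map _ ≫ F.presheaf.map _) s = _
  rw [← Functor.map_comp]
  rfl

theorem germ_resS (s : Γ(F, ⊤)) (U : X.Opens) (y : X) (hy : y ∈ U) :
    F.presheaf.germ U y hy (resS F s U) = F.presheaf.germ ⊤ y trivial s :=
  TopCat.Presheaf.germ_res_apply F.presheaf (homOfLE (le_top : U ≤ ⊤)) y hy s

noncomputable def unitMap (s : Γ(F, ⊤)) (U : X.Opens) : Γ(Coh.structureModule X, U) →+ Γ(F, U) where
  toFun r := toFn r • resS F s U
  map_zero' := zero_smul _ _
  map_add' a b := add_smul _ _ _

theorem unitMap_apply (s : Γ(F, ⊤)) (U : X.Opens) (r : Γ(Coh.structureModule X, U)) :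
    unitMap F s U r = toFn r • resS F s U := rfl

theorem unitMap_res (s : Γ(F, ⊤)) {U V : X.Opens} (i : V ⟶ U) (r : Γ(Coh.structureModule X, U)) :
    unitMap F s V ((Coh.structureModule X).presheaf.map i.op r) =
      F.presheaf.map i.op (unitMap F s U r) := by
  rw [unitMap_apply, unitMap_apply, Scheme.Modules.map_smul, resS_res, toFn_res]

theorem unitMap_smul (s : Γ(F, ⊤)) (U : X.Opens) (a : Γ(X, U)) (r : Γ(Coh.structureModule X, U)) :
    unitMap F s U (a • r) = a • unitMap F s U r := by
  rw [unitMap_apply, unitMap_apply, toFn_smul, mul_smul]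

/-- the morphism `O_X ⟶ F` defined by a global section -/
noncomputable def unitHom (s : Γ(F, ⊤)) : Coh.structureModule X ⟶ F :=
  ⟨PresheafOfModules.homMk
    { app := fun U => AddCommGrpCat.ofHom (unitMap F s U.unop)
      naturality := fun {U V} i => by
        ext r
        exact unitMap_res F s i.unop r }
    (fun U a r => unitMap_smul F s U.unop a r)⟩

theorem unitHom_app (s : Γ(F, ⊤)) (U : X.Opens) (r : Γ(Coh.structureModule X, U)) :
    (unitHom F s).app U r = toFn r • resS F s U := rfl

end Groth.Agent.Helper1.FLFAnn
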