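import Mathlib
import Groth.Prelude.Def_Coh
import Groth.Agent.Helper1.FLFAnn1

/-!
# Maps on cohomology induced by morphisms of modules; the annihilation lemma

`annihilate`: if `g^N` (up to a further power of `g`) factors through a finite free module on `F`,
and `c` kills `H^p(X, O_X)`, then `c * g^(k+N)` kills `H^p(X, F)`.
-/

set_option autoImplicit false
set_option linter.style.haveILetI false
set_option linter.unusedSectionVars false
set_option linter.unusedVariables false

universe u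

open CategoryTheory CategoryTheory.Limits AlgebraicGeometry TopologicalSpace Opposite

namespace Groth.Agent.Helper1.FLFAnn

variable {X : Scheme.{u}}

/-- the map on cohomology induced by a morphism of modules -/
noncomputable def HHmap {F G : X.Modules} (φ : F ⟶ G) (p : ℕ) : Coh.HH X F p →+ Coh.HH X G p :=
  Sheaf.H.map ((SheafOfModules.toSheaf X.ringCatSheaf).map φ) p

theorem HHmap_comp {F G H : X.Modules} (φ : F ⟶ G) (ψ : G ⟶ H) (p : ℕ) (x : Coh.HH X F p) :
    HHmap (φ ≫ ψ) p x = HHmap ψ p (HHmap φ p x) := by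
  have h : (SheafOfModules.toSheaf X.ringCatSheaf).map (φ ≫ ψ) =
      (SheafOfModules.toSheaf X.ringCatSheaf).map φ ≫ (SheafOfModules.toSheaf X.ringCatSheaf).map ψ :=
    Functor.map_comp _ _ _
  exact (congrArg (fun f => Sheaf.H.map f p x) h).trans (Sheaf.H.map_comp_apply _ _ x)

theorem HHmap_add {F G : X.Modules} (φ ψ : F ⟶ G) (p : ℕ) (x : Coh.HH X F p) :
    HHmap (φ + ψ) p x = HHmap φ p x + HHmap ψ p x := by
  have h : (SheafOfModules.toSheaf X.ringCatSheaf).map (φ + ψ) =
      (SheafOfModules.toSheaf X.ringCatSheaf).map φ + (SheafOfModules.toSheaf X.ringCatSheaf).map ψ :=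
    Functor.map_add _
  exact (congrArg (fun f => Sheaf.H.map f p x) h).trans (Sheaf.H.map_add_apply _ _ x)

theorem HHmap_zero {F G : X.Modules} (p : ℕ) (x : Coh.HH X F p) :
    HHmap (0 : F ⟶ G) p x = 0 := by
  have h := HHmap_add (0 : F ⟶ G) 0 p x
  rw [add_zero] at h
  exact left_eq_add.mp h

theorem HHmap_sum {F G : X.Modules} {ι : Type*} (s : Finset ι) (φ : ι → (F ⟶ G)) (p : ℕ)
    (x : Coh.HH X F p) :
    HHmap (∑ j ∈ s, φ j) p x = ∑ j ∈ s, HHmap (φ j) p x := by
  classical
  induction s using Finset.induction_on with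
  | empty => simp [HHmap_zero]
  | insert a s ha ih => rw [Finset.sum_insert ha, Finset.sum_insert ha, HHmap_add, ih]

theorem toSheaf_scalarHom (F : X.Modules) (g : Γ(X, ⊤)) :
    (SheafOfModules.toSheaf X.ringCatSheaf).map (scalarHom F g) = Coh.smulAb F g := by
  ext U m
  rfl

theorem HHmap_scalarHom (F : X.Modules) (g : Coh.Γtop X) (p : ℕ) (x : Coh.HH X F p) :
    HHmap (scalarHom F g) p x = g • x :=
  congrArg (fun f => Sheaf.H.map f p x) (toSheaf_scalarHom F g)

theorem scalarHom_comm {F G : X.Modules} (φ : F ⟶ G) (g : Γ(X, ⊤)) :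
    scalarHom F g ≫ φ = φ ≫ scalarHom G g := by
  apply Scheme.Modules.hom_ext
  intro U
  ext m
  change φ.app U ((scalarHom F g).app U m) = (scalarHom G g).app U (φ.app U m)
  rw [scalarHom_app, scalarHom_app, Scheme.Modules.Hom.app_smul]

theorem HHmap_smul {F G : X.Modules} (φ : F ⟶ G) (p : ℕ) (r : Coh.Γtop X) (x : Coh.HH X F p) :
    HHmap φ p (r • x) = r • HHmap φ p x := by
  have h1 := HHmap_scalarHom F r p x
  have h2 := HHmap_scalarHom G r p (HHmap φ p x)
  have h3 := HHmap_comp (scalarHom F r) φ p x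
  have h4 := HHmap_comp φ (scalarHom G r) p x
  have h5 : HHmap (scalarHom F r ≫ φ) p x = HHmap (φ ≫ scalarHom G r) p x :=
    congrArg (fun f => HHmap f p x) (scalarHom_comm φ r)
  rw [← h1, ← h2, ← h3, ← h4]
  exact h5


theorem annihilate {F : X.Modules} {r : ℕ} (a : Fin r → (Coh.structureModule X ⟶ F))
    (b : Fin r → (F ⟶ Coh.structureModule X)) (g : Coh.Γtop X) (N k : ℕ)
    (h : (∑ j, b j ≫ a j) ≫ scalarHom F (g ^ k) = scalarHom F (g ^ N) ≫ scalarHom F (g ^ k))
    (p : ℕ) (c : Coh.Γtop X) (hc : ∀ z : Coh.HH X (Coh.structureModule X) p, c • z = 0)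
    (x : Coh.HH X F p) : (c * g ^ (k + N)) • x = 0 := by
  have e1 : HHmap ((∑ j, b j ≫ a j) ≫ scalarHom F (g ^ k)) p x =
      HHmap (scalarHom F (g ^ N) ≫ scalarHom F (g ^ k)) p x :=
    congrArg (fun f => HHmap f p x) h
  rw [HHmap_comp, HHmap_comp, HHmap_scalarHom F (g ^ N), HHmap_sum] at e1
  have e2 : (c * g ^ (k + N)) • x = c • HHmap (scalarHom F (g ^ k)) p (g ^ N • x) := by
    rw [HHmap_scalarHom, smul_smul, smul_smul, pow_add, mul_assoc]
  rw [e2, ← e1, ← HHmap_smul, Finset.smul_sum]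
  have e3 : ∀ j : Fin r, c • HHmap (b j ≫ a j) p x = 0 := by
    intro j
    rw [HHmap_comp, ← HHmap_smul, hc, map_zero]
  rw [Finset.sum_eq_zero (fun j _ => e3 j), map_zero]

end Groth.Agent.Helper1.FLFAnn
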