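import Mathlib
import Groth.Prelude.Def_Coh
import Groth.Agent.Helper1.FLFAnn2
import Groth.Agent.Lead.HomShD
import Groth.Agent.Lead.WeakAss
import Groth.Agent.Helper4.FinLocFree4
import Groth.Agent.Helper4.FinLocFree6

/-!
# Local factorization of a power of a global function through a free module

`exists_factor`: on a qcqs scheme, if `F` (finitely presented) has a basis over an affine open `V`
and `g` is a global function with `D(g) ⊆ V`, then there are maps `a_j : O ⟶ F`, `b_j : F ⟶ O`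
with `(∑ b_j ≫ a_j) ≫ g^k = g^N ≫ g^k` as endomorphisms of `F`.
-/

set_option autoImplicit false
set_option linter.style.haveILetI false
set_option linter.unusedSectionVars false
set_option linter.unusedVariables false

universe u

open CategoryTheory CategoryTheory.Limits AlgebraicGeometry TopologicalSpace Opposite

namespace Groth.Agent.Helper1.FLFAnn

open Groth.Agent.Helper4.StalkDict Groth.Agent.Helper4.QcqsMod Groth.Agent.Lead

variable {X : Scheme.{u}}

theorem stalkMapₗ_comp' {F G H : X.Modules} (φ : F ⟶ G) (ψ : G ⟶ H) (x : X)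
    (v : F.presheaf.stalk x) :
    RefHull.stalkMapₗ (φ ≫ ψ) x v = RefHull.stalkMapₗ ψ x (RefHull.stalkMapₗ φ x v) := by
  obtain ⟨U, hx, m, rfl⟩ := TopCat.Presheaf.exists_germ_eq F.presheaf v
  rw [RefHull.stalkMapₗ_germ, RefHull.stalkMapₗ_germ, RefHull.stalkMapₗ_germ]
  rfl

theorem stalkMapₗ_add {F G : X.Modules} (φ ψ : F ⟶ G) (x : X) :
    RefHull.stalkMapₗ (φ + ψ) x = RefHull.stalkMapₗ φ x + RefHull.stalkMapₗ ψ x := by
  ext v
  obtain ⟨U, hx, m, rfl⟩ := TopCat.Presheaf.exists_germ_eq F.presheaf v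
  rw [LinearMap.add_apply, RefHull.stalkMapₗ_germ, RefHull.stalkMapₗ_germ, RefHull.stalkMapₗ_germ,
    ← map_add]
  rfl

theorem stalkMapₗ_zero {F G : X.Modules} (x : X) :
    RefHull.stalkMapₗ (0 : F ⟶ G) x = 0 := by
  have h := stalkMapₗ_add (0 : F ⟶ G) 0 x
  rw [add_zero] at h
  exact left_eq_add.mp h

theorem stalkMapₗ_neg {F G : X.Modules} (φ : F ⟶ G) (x : X) :
    RefHull.stalkMapₗ (-φ) x = - RefHull.stalkMapₗ φ x := by
  have h := stalkMapₗ_add φ (-φ) x
  rw [add_neg_cancel, stalkMapₗ_zero] at h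
  exact (neg_eq_of_add_eq_zero_right h.symm).symm

theorem stalkMapₗ_sub {F G : X.Modules} (φ ψ : F ⟶ G) (x : X) :
    RefHull.stalkMapₗ (φ - ψ) x = RefHull.stalkMapₗ φ x - RefHull.stalkMapₗ ψ x := by
  rw [sub_eq_add_neg, stalkMapₗ_add, stalkMapₗ_neg, sub_eq_add_neg]

theorem stalkMapₗ_sum {F G : X.Modules} {ι : Type*} (s : Finset ι) (φ : ι → (F ⟶ G)) (x : X) :
    RefHull.stalkMapₗ (∑ j ∈ s, φ j) x = ∑ j ∈ s, RefHull.stalkMapₗ (φ j) x := by
  classical
  induction s using Finset.induction_on with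
  | empty => simp [stalkMapₗ_zero]
  | insert a s ha ih => rw [Finset.sum_insert ha, Finset.sum_insert ha, stalkMapₗ_add, ih]

theorem exists_unif_ext (G : X.Modules) [G.IsQuasicoherent] [CompactSpace X]
    [QuasiSeparatedSpace X] (g : Γ(X, ⊤)) {r : ℕ} (s : Fin r → Γ(G, X.basicOpen g)) :
    ∃ (N : ℕ) (t : Fin r → Γ(G, ⊤)), ∀ j,
      (X.presheaf.map (homOfLE (X.basicOpen_le g)).op (g ^ N)) • s j =
        G.presheaf.map (homOfLE (X.basicOpen_le g)).op (t j) := by
  have hc : IsCompact ((⊤ : X.Opens) : Set X) := isCompact_univ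
  have hq : IsQuasiSeparated ((⊤ : X.Opens) : Set X) := isQuasiSeparated_univ
  have h := fun j => exists_pow_smul_eq_res_of_qcqs G hc hq g (s j)
  choose n t ht using h
  refine ⟨∑ j, n j, fun j => g ^ ((∑ i, n i) - n j) • t j, fun j => ?_⟩
  have hle : n j ≤ ∑ i, n i := Finset.single_le_sum (f := n) (fun _ _ => Nat.zero_le _) (Finset.mem_univ j)
  rw [Scheme.Modules.map_smul, ← ht j, smul_smul, ← map_mul, ← pow_add, Nat.sub_add_cancel hle]

theorem term_eq (F : X.Modules) (g : Γ(X, ⊤)) {V : X.Opens} (hgV : X.basicOpen g ≤ V)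
    (t : Γ(F, ⊤)) (ej : Γ(F, V)) (N1 : ℕ)
    (ht : (X.presheaf.map (homOfLE (X.basicOpen_le g)).op (g ^ N1)) •
        F.presheaf.map (homOfLE hgV).op ej = F.presheaf.map (homOfLE (X.basicOpen_le g)).op t)
    (β : Γ(RefHull.homSh F (Coh.structureModule X), ⊤))
    (ε : Γ(RefHull.homSh F (Coh.structureModule X), X.basicOpen g)) (N2 : ℕ)
    (hβ : (X.presheaf.map (homOfLE (X.basicOpen_le g)).op (g ^ N2)) • ε =
      (RefHull.homSh F (Coh.structureModule X)).presheaf.map (homOfLE (X.basicOpen_le g)).op β)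
    (cm : Γ(X, V)) (m : Γ(F, V))
    (hε : ∀ y : X.basicOpen g, ε.1 y (F.presheaf.germ V y.1 (hgV y.2) m) =
      (Coh.structureModule X).presheaf.germ (X.basicOpen g) y.1 y.2
        (WeakAss.toF (X.basicOpen g) (X.presheaf.map (homOfLE hgV).op cm)))
    (y : X) (hy : y ∈ X.basicOpen g) :
    RefHull.stalkMapₗ (homOfSection F (Coh.structureModule X) β ≫ unitHom F t) y
        (F.presheaf.germ V y (hgV hy) m) =
      X.presheaf.germ ⊤ y trivial (g ^ (N2 + N1)) • F.presheaf.germ V y (hgV hy) (cm • ej) := by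
  rw [stalkMapₗ_comp', stalkMapₗ_homOfSection]
  have h1 : β.1 ⟨y, trivial⟩ = X.presheaf.germ (X.basicOpen g) y hy
      (X.presheaf.map (homOfLE (X.basicOpen_le g)).op (g ^ N2)) • ε.1 ⟨y, hy⟩ := by
    have := congrArg (fun s : Γ(RefHull.homSh F (Coh.structureModule X), X.basicOpen g) => s.1 ⟨y, hy⟩) hβ
    exact this.symm
  rw [h1, LinearMap.smul_apply, hε ⟨y, hy⟩, ← germ_smul, RefHull.stalkMapₗ_germ, unitHom_app]
  have h2 : toFn ((X.presheaf.map (homOfLE (X.basicOpen_le g)).op (g ^ N2)) •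
      WeakAss.toF (X.basicOpen g) (X.presheaf.map (homOfLE hgV).op cm)) =
      X.presheaf.map (homOfLE (X.basicOpen_le g)).op (g ^ N2) *
        X.presheaf.map (homOfLE hgV).op cm := rfl
  have h3 : resS F t (X.basicOpen g) = F.presheaf.map (homOfLE (X.basicOpen_le g)).op t := rfl
  rw [h2, h3, ← ht, smul_smul, germ_smul, germ_smul, map_mul, map_mul, germ_resO, germ_resO, germ_resO,
    germ_res, pow_add, map_mul, smul_smul]
  congr 1
  ring


theorem isQuasicoherent_unit (X : Scheme.{u}) : (Coh.structureModule X).IsQuasicoherent :=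
  Groth.Agent.Helper4.FinLocFree4.isQuasicoherent_of_isFinLocFree _
    (Groth.Agent.Helper4.FinLocFree6.isFinLocFree_unit (X := X))

theorem exists_factor (F : X.Modules) [F.IsQuasicoherent] [CompactSpace X] [QuasiSeparatedSpace X]
    (hfp : SheafOfModules.IsFinitePresentation (R := X.ringCatSheaf) F)
    {V : X.Opens} (hV : IsAffineOpen V) {r : ℕ} (e : Module.Basis (Fin r) Γ(X, V) Γ(F, V))
    (g : Γ(X, ⊤)) (hgV : X.basicOpen g ≤ V) :
    ∃ (N k : ℕ) (a : Fin r → (Coh.structureModule X ⟶ F))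
      (b : Fin r → (F ⟶ Coh.structureModule X)),
      (∑ j, b j ≫ a j) ≫ scalarHom F (g ^ k) = scalarHom F (g ^ N) ≫ scalarHom F (g ^ k) := by
  classical
  haveI := isQuasicoherent_unit X
  haveI hqH : (RefHull.homSh F (Coh.structureModule X)).IsQuasicoherent :=
    HomShD.isQuasicoherent_homSh F (Coh.structureModule X) hfp
  haveI hqE : (RefHull.homSh F F).IsQuasicoherent := HomShD.isQuasicoherent_homSh F F hfp
  obtain ⟨N1, t, ht⟩ := exists_unif_ext F g (fun j => F.presheaf.map (homOfLE hgV).op (e j))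
  let l : Fin r → (Γ(F, V) →+ Γ(Coh.structureModule X, X.basicOpen g)) := fun j =>
    { toFun := fun m => WeakAss.toF (X.basicOpen g) (X.presheaf.map (homOfLE hgV).op (e.coord j m))
      map_zero' := by rw [map_zero, map_zero]; rfl
      map_add' := fun m m' => by rw [map_add, map_add]; rfl }
  have hl : ∀ (j : Fin r) (c : Γ(X, V)) (m : Γ(F, V)),
      l j (c • m) = X.presheaf.map (homOfLE hgV).op c • l j m := by
    intro j c m
    change WeakAss.toF (X.basicOpen g) (X.presheaf.map (homOfLE hgV).op (e.coord j (c • m))) = _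
    rw [map_smul, smul_eq_mul, map_mul]
    rfl
  let ε : Fin r → Γ(RefHull.homSh F (Coh.structureModule X), X.basicOpen g) := fun j =>
    HomShA.ofLin hV F (Coh.structureModule X) hgV (l j) (hl j)
  obtain ⟨N2, β, hβ⟩ := exists_unif_ext (RefHull.homSh F (Coh.structureModule X)) g ε
  let a : Fin r → (Coh.structureModule X ⟶ F) := fun j => unitHom F (t j)
  let b : Fin r → (F ⟶ Coh.structureModule X) := fun j =>
    homOfSection F (Coh.structureModule X) (β j)
  have key : ∀ (y : X) (hy : y ∈ X.basicOpen g),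
      RefHull.stalkMapₗ (∑ j, b j ≫ a j) y =
        RefHull.stalkMapₗ (scalarHom F (g ^ (N2 + N1))) y := by
    intro y hy
    apply HomShC.stalkHom_ext F F hV y (hgV hy)
    intro m
    rw [stalkMapₗ_sum, LinearMap.sum_apply, stalkMapₗ_scalarHom]
    have hterm : ∀ j : Fin r, RefHull.stalkMapₗ (b j ≫ a j) y (F.presheaf.germ V y (hgV hy) m) =
        X.presheaf.germ ⊤ y trivial (g ^ (N2 + N1)) •
          F.presheaf.germ V y (hgV hy) (e.coord j m • e j) := by
      intro j
      exact term_eq F g hgV (t j) (e j) N1 (ht j) (β j) (ε j) N2 (hβ j) (e.coord j m) m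
        (fun z => HomShA.ofLin_apply_germ hV F (Coh.structureModule X) hgV (l j) (hl j) z m) y hy
    rw [Finset.sum_congr rfl (fun j _ => hterm j), ← Finset.smul_sum, ← map_sum]
    congr 2
    exact e.sum_repr m
  set D := (∑ j, b j ≫ a j) - scalarHom F (g ^ (N2 + N1)) with hD
  have hD0 : (RefHull.homSh F F).presheaf.map (homOfLE (X.basicOpen_le g)).op
      (RefHull.ofHom D ⊤) = 0 := by
    refine Subtype.ext (funext fun y => ?_)
    change RefHull.stalkMapₗ D y.1 = 0
    rw [hD, stalkMapₗ_sub, key y.1 y.2, sub_self]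
  obtain ⟨k, hk⟩ := exists_pow_smul_eq_zero_of_isCompact (RefHull.homSh F F) (U := ⊤)
    isCompact_univ g (RefHull.ofHom D ⊤) hD0
  have hk' : ∀ y : X, X.presheaf.germ ⊤ y trivial (g ^ k) • RefHull.stalkMapₗ D y = 0 := by
    intro y
    have := congrArg (fun s : Γ(RefHull.homSh F F, ⊤) => s.1 ⟨y, trivial⟩) hk
    exact this
  have hzero : D ≫ scalarHom F (g ^ k) = 0 := by
    apply hom_ext_stalk
    intro y
    ext v
    rw [stalkMapₗ_comp', stalkMapₗ_scalarHom, stalkMapₗ_zero, LinearMap.zero_apply]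
    have := congrArg (fun φ => φ v) (hk' y)
    exact this
  refine ⟨N2 + N1, k, a, b, ?_⟩
  rw [← sub_eq_zero, ← Preadditive.sub_comp]
  exact hzero

end Groth.Agent.Helper1.FLFAnn
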