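import Mathlib
import Groth.Prelude.Def_Coh
import Groth.Prelude.Def_Wider
import Groth.Prelude.Def_FlatMod2
import Groth.Agent.Helper1.FLFAnn3
import Groth.Agent.Helper4.FinLocFree2

/-!
# Annihilation of the cohomology of finite locally free modules on quasi-compact opens of `Spec A`

`main`: for a quasi-compact open `U ⊆ Spec A` and a finitely generated ideal `J` contained in every
prime outside `U`: if a power of `J` kills `H^p(U, O_U)`, then for every finite locally free `F` a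
power of `J` kills `H^p(U, F)`.
-/

set_option autoImplicit false
set_option linter.style.haveILetI false
set_option linter.unusedSectionVars false
set_option linter.unusedVariables false

universe u

open CategoryTheory CategoryTheory.Limits AlgebraicGeometry TopologicalSpace Opposite

namespace Groth.Agent.Helper1.FLFAnn

open Groth.Agent.Helper4.StalkDict Groth.Agent.Helper4.QcqsMod Groth.Agent.Lead

variable {X : Scheme.{u}}

theorem exists_nhd_annihilate (F : X.Modules) [CompactSpace X] [QuasiSeparatedSpace X]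
    (hF : FlatMod.IsFinLocFree F) (x : X) :
    ∃ V : X.Opens, x ∈ V ∧ ∀ g : Γ(X, ⊤), X.basicOpen g ≤ V → ∃ M : ℕ,
      ∀ (p : ℕ) (c : Coh.Γtop X), (∀ z : Coh.HH X (Coh.structureModule X) p, c • z = 0) →
        ∀ y : Coh.HH X F p, (c * (show Coh.Γtop X from g) ^ M) • y = 0 := by
  haveI : F.IsQuasicoherent := Groth.Agent.Helper4.FinLocFree4.isQuasicoherent_of_isFinLocFree F hF
  have hfp := Groth.Agent.Helper4.FinLocFree2.isFinitePresentation_of_isFinLocFree F hF
  obtain ⟨V, hV, r, hxV, ⟨e⟩⟩ := Groth.Agent.Helper4.FinLocFree2.exists_affine_basis F hF x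
  refine ⟨V, hxV, fun g hgV => ?_⟩
  obtain ⟨N, k, a, b, hab⟩ := exists_factor F hfp hV e g hgV
  exact ⟨k + N, fun p c hc y => annihilate a b g N k hab p c hc y⟩

section punct
variable (A : Type u) [CommRing A] (U : (Spec (CommRingCat.of A)).Opens)

theorem smul_eq_toGlobal (M : (U : Scheme.{u}).Modules) (p : ℕ) (a : A) (y : Coh.HH (↑U) M p) :
    a • y = Coh.toGlobal ((U : Scheme.{u}) ↘ Spec (CommRingCat.of A)) a • y := rfl

theorem over_eq : ((U : Scheme.{u}) ↘ Spec (CommRingCat.of A)) = U.ι := rfl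

/-- the image of `a` in the global functions -/
noncomputable def gl (a : A) : Γ((U : Scheme.{u}), ⊤) :=
  U.ι.appTop ((Scheme.ΓSpecIso (CommRingCat.of A)).inv a)

theorem gl_eq (a : A) : (show Coh.Γtop (U : Scheme.{u}) from gl A U a) = Coh.toGlobal U.ι a := rfl

theorem basicOpen_gl (a : A) :
    (U : Scheme.{u}).basicOpen (gl A U a) = U.ι ⁻¹ᵁ (PrimeSpectrum.basicOpen a) := by
  unfold gl
  rw [← Scheme.preimage_basicOpen_top, basicOpen_eq_of_affine]

theorem exists_basicOpen_le (x : (U : Scheme.{u})) (V : (U : Scheme.{u}).Opens) (hx : x ∈ V) :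
    ∃ a : A, x ∈ (U : Scheme.{u}).basicOpen (gl A U a) ∧
      (U : Scheme.{u}).basicOpen (gl A U a) ≤ V := by
  have hx' : U.ι x ∈ ((U.ι ''ᵁ V : (Spec (CommRingCat.of A)).Opens) : Set (Spec (CommRingCat.of A))) :=
    ⟨x, hx, rfl⟩
  obtain ⟨_, ⟨a, rfl⟩, hxa, haV⟩ :=
    PrimeSpectrum.isTopologicalBasis_basic_opens.exists_subset_of_mem_open
    hx' (U.ι ''ᵁ V).isOpen
  refine ⟨a, ?_, ?_⟩
  · rw [basicOpen_gl]
    exact hxa
  · rw [basicOpen_gl]
    intro z hz
    obtain ⟨w, hw, hwz⟩ := haV hz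
    have : w = z := U.ι.isOpenEmbedding.injective hwz
    rwa [← this]


theorem main [CompactSpace (U : Scheme.{u})] (J : Ideal A) (hJ : J.FG)
    (hJU : ∀ P : PrimeSpectrum A, P ∉ U → J ≤ P.asIdeal) (p n : ℕ)
    (hO : ∀ a ∈ J ^ n, ∀ x : Coh.HH (↑U) (Coh.structureModule (↑U)) p, a • x = 0)
    (F : (U : Scheme.{u}).Modules) (hF : FlatMod.IsFinLocFree F) :
    ∃ m : ℕ, ∀ a ∈ J ^ m, ∀ x : Coh.HH (↑U) F p, a • x = 0 := by
  classical
  haveI : QuasiSeparatedSpace (U : Scheme.{u}) := U.ι.isOpenEmbedding.quasiSeparatedSpace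
  have hpt : ∀ x : (U : Scheme.{u}), ∃ (a : A) (M : ℕ),
      x ∈ (U : Scheme.{u}).basicOpen (gl A U a) ∧
        ∀ c ∈ J ^ n, c * a ^ M ∈ Module.annihilator A (Coh.HH (↑U) F p) := by
    intro x
    obtain ⟨V, hxV, hV⟩ := exists_nhd_annihilate F hF x
    obtain ⟨a, hxa, haV⟩ := exists_basicOpen_le A U x V hxV
    obtain ⟨M, hM⟩ := hV (gl A U a) haV
    refine ⟨a, M, hxa, fun c hc => ?_⟩
    rw [Module.mem_annihilator]
    intro y
    have := hM p (Coh.toGlobal U.ι c) (fun z => hO c hc z) y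
    rw [smul_eq_toGlobal, over_eq, map_mul, map_pow]
    exact this
  choose a M hxa hM using hpt
  let 𝔟 : Ideal A := Ideal.span (Set.range fun x => a x ^ M x)
  have h1 : J ≤ 𝔟.radical := by
    rw [Ideal.radical_eq_sInf]
    intro c hc
    rw [Ideal.mem_sInf]
    rintro P ⟨hbP, hP⟩
    by_contra hcP
    have hPU : (⟨P, hP⟩ : PrimeSpectrum A) ∈ U := by
      by_contra h
      exact hcP (hJU ⟨P, hP⟩ h hc)
    let x : (U : Scheme.{u}) := ⟨⟨P, hP⟩, hPU⟩
    have h2 : a x ^ M x ∈ P := hbP (Ideal.subset_span ⟨x, rfl⟩)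
    have h3 : a x ∈ P := hP.mem_of_pow_mem _ h2
    have hx := hxa x
    rw [basicOpen_gl] at hx
    exact hx h3
  obtain ⟨k, hk⟩ := Ideal.exists_pow_le_of_le_radical_of_fg h1 hJ
  have h2 : 𝔟 * J ^ n ≤ Module.annihilator A (Coh.HH (↑U) F p) := by
    rw [Ideal.mul_le]
    intro r hr s hs
    induction hr using Submodule.span_induction with
    | mem r hr =>
      obtain ⟨x, rfl⟩ := hr
      rw [mul_comm]
      exact hM x s hs
    | zero => rw [zero_mul]; exact Ideal.zero_mem _
    | add r r' _ _ ih ih' => rw [add_mul]; exact Ideal.add_mem _ ih ih'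
    | smul t r _ ih => rw [smul_eq_mul, mul_assoc]; exact Ideal.mul_mem_left _ _ ih
  refine ⟨k + n, fun c hc y => ?_⟩
  rw [pow_add] at hc
  exact Module.mem_annihilator.mp (h2 (Ideal.mul_mono_left hk hc)) y

end punct

end Groth.Agent.Helper1.FLFAnn
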