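import Mathlib
import Groth.Prelude.Def_FSRel

set_option autoImplicit false
universe u
open scoped TensorProduct

namespace Groth.Agent.Helper1.FSRel

section forward

variable (A B C : Type u) [CommRing A] [CommRing B] [CommRing C] [Algebra A B] [Algebra B C]
  [Algebra A C] [IsScalarTower A B C]

theorem rel_of_leftInverse
    (l : Ω[C⁄A] →ₗ[C] C ⊗[B] Ω[B⁄A])
    (hl : l ∘ₗ KaehlerDifferential.mapBaseChange A B C = LinearMap.id) :
    EGA41.IsFormallySmoothRel A B C := by
  intro C' _ _ _ _ J hJ u₀ ⟨u, hu⟩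
  letI algCC' : Algebra C C' := u.toRingHom.toAlgebra
  have tACC' : IsScalarTower A C C' :=
    IsScalarTower.of_algebraMap_eq (fun a => (u.commutes a).symm)
  have halg : ∀ c : C, algebraMap C C' c = u c := fun c => rfl
  have hsq : ∀ x y : C', x ∈ J → y ∈ J → x * y = 0 := by
    intro x y hx hy
    have : x * y ∈ J ^ 2 := by rw [pow_two]; exact Ideal.mul_mem_mul hx hy
    rw [hJ] at this
    exact this
  let f : B →ₐ[A] C' := u.comp (IsScalarTower.toAlgHom A B C)
  have e : (Ideal.Quotient.mkₐ A J).comp f = IsScalarTower.toAlgHom A B (C' ⧸ J) := by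
    apply AlgHom.ext
    intro b
    have h1 := congrArg (fun g => g (algebraMap B C b)) hu
    simp only [AlgHom.comp_apply, AlgHom.restrictScalars_apply] at h1
    show (Ideal.Quotient.mkₐ A J) (u (algebraMap B C b)) = algebraMap B (C' ⧸ J) b
    rw [h1, u₀.commutes]
  let δ : Derivation A B J := derivationToSquareZeroOfLift J hJ f e
  have hδ : ∀ b : B, ((δ b : J) : C') = u (algebraMap B C b) - algebraMap B C' b := fun b => rfl
  have tBCJ : IsScalarTower B C J := by
    refine ⟨fun b c x => Subtype.ext ?_⟩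
    have e1 : (((b • c) • x : J) : C') = algebraMap C C' (b • c) * (x : C') := by
      rw [Submodule.coe_smul_of_tower, Algebra.smul_def]
    have e2 : ((b • c • x : J) : C') = algebraMap B C' b * (algebraMap C C' c * (x : C')) := by
      rw [Submodule.coe_smul_of_tower, Submodule.coe_smul_of_tower, Algebra.smul_def,
        Algebra.smul_def]
    rw [e1, e2, halg, halg, Algebra.smul_def, map_mul]
    have h0 : (u (algebraMap B C b) - algebraMap B C' b) * (u c * (x : C')) = 0 := by
      apply hsq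
      · rw [← hδ]; exact (δ b).2
      · exact Ideal.mul_mem_left _ _ x.2
    rw [sub_mul, sub_eq_zero] at h0
    rw [mul_assoc, h0]
  let δ' : Ω[B⁄A] →ₗ[B] J := δ.liftKaehlerDifferential
  let Φ : C ⊗[B] Ω[B⁄A] →ₗ[C] J := LinearMap.liftBaseChange C δ'
  let D' : Ω[C⁄A] →ₗ[C] J := Φ ∘ₗ l
  let D : Derivation A C J := D'.compDer (KaehlerDifferential.D A C)
  have hDb : ∀ b : B, D (algebraMap B C b) = δ b := by
    intro b
    show Φ (l (KaehlerDifferential.D A C (algebraMap B C b))) = δ b
    have h1 : KaehlerDifferential.D A C (algebraMap B C b) =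
        KaehlerDifferential.mapBaseChange A B C ((1 : C) ⊗ₜ[B] KaehlerDifferential.D A B b) := by
      rw [KaehlerDifferential.mapBaseChange_tmul, one_smul, KaehlerDifferential.map_D]
    have h2 := congrArg (fun g => g ((1 : C) ⊗ₜ[B] KaehlerDifferential.D A B b)) hl
    simp only [LinearMap.comp_apply, LinearMap.id_apply] at h2
    rw [h1, h2]
    show LinearMap.liftBaseChange C δ' ((1 : C) ⊗ₜ[B] KaehlerDifferential.D A B b) = δ b
    rw [LinearMap.liftBaseChange_tmul, one_smul]
    exact Derivation.liftKaehlerDifferential_comp_D δ b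
  let v0 : C →ₐ[A] C' := liftOfDerivationToSquareZero J hJ (-D)
  have hv0 : ∀ c : C, v0 c = u c - (D c : C') := by
    intro c
    show ((-D) c : C') + algebraMap C C' c = _
    rw [halg]
    simp only [Derivation.neg_apply, Submodule.coe_neg]
    ring
  refine ⟨{ v0 with commutes' := ?_ }, ?_⟩
  · intro b
    show v0 (algebraMap B C b) = algebraMap B C' b
    rw [hv0, hDb, hδ]
    ring
  · apply AlgHom.ext
    intro c
    show (Ideal.Quotient.mk J) (v0 c) = u₀ c
    rw [hv0, map_sub, Ideal.Quotient.eq_zero_iff_mem.2 (D c).2, sub_zero]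
    have h1 := congrArg (fun g => g c) hu
    exact h1

end forward

section converse

variable (A B C : Type u) [CommRing A] [CommRing B] [CommRing C] [Algebra A B] [Algebra B C]
  [Algebra A C] [IsScalarTower A B C]

/-- trivial square-zero extension of `C` by `C ⊗[B] Ω[B⁄A]`, as a type synonym that
will carry a twisted `B`-algebra structure -/
def Tw : Type u := TrivSqZeroExt C (C ⊗[B] Ω[B⁄A])

noncomputable instance : CommRing (Tw A B C) :=
  inferInstanceAs (CommRing (TrivSqZeroExt C (C ⊗[B] Ω[B⁄A])))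

noncomputable instance : Algebra A (Tw A B C) :=
  inferInstanceAs (Algebra A (TrivSqZeroExt C (C ⊗[B] Ω[B⁄A])))

variable {A B C}

def Tw.fst (x : Tw A B C) : C := TrivSqZeroExt.fst (show TrivSqZeroExt C (C ⊗[B] Ω[B⁄A]) from x)
def Tw.snd (x : Tw A B C) : C ⊗[B] Ω[B⁄A] :=
  TrivSqZeroExt.snd (show TrivSqZeroExt C (C ⊗[B] Ω[B⁄A]) from x)
def Tw.mk (c : C) (m : C ⊗[B] Ω[B⁄A]) : Tw A B C :=
  (show TrivSqZeroExt C (C ⊗[B] Ω[B⁄A]) from (c, m))

@[ext] lemma Tw.ext {x y : Tw A B C} (h1 : x.fst = y.fst) (h2 : x.snd = y.snd) : x = y :=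
  TrivSqZeroExt.ext h1 h2

@[simp] lemma Tw.fst_mk (c : C) (m : C ⊗[B] Ω[B⁄A]) : (Tw.mk c m : Tw A B C).fst = c := rfl
@[simp] lemma Tw.snd_mk (c : C) (m : C ⊗[B] Ω[B⁄A]) : (Tw.mk c m : Tw A B C).snd = m := rfl
@[simp] lemma Tw.fst_add (x y : Tw A B C) : (x + y).fst = x.fst + y.fst := rfl
@[simp] lemma Tw.snd_add (x y : Tw A B C) : (x + y).snd = x.snd + y.snd := rfl
@[simp] lemma Tw.fst_sub (x y : Tw A B C) : (x - y).fst = x.fst - y.fst := rfl
@[simp] lemma Tw.snd_sub (x y : Tw A B C) : (x - y).snd = x.snd - y.snd := rfl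
@[simp] lemma Tw.fst_zero : (0 : Tw A B C).fst = 0 := rfl
@[simp] lemma Tw.snd_zero : (0 : Tw A B C).snd = 0 := rfl
@[simp] lemma Tw.fst_one : (1 : Tw A B C).fst = 1 := rfl
@[simp] lemma Tw.snd_one : (1 : Tw A B C).snd = 0 := rfl
@[simp] lemma Tw.fst_mul (x y : Tw A B C) : (x * y).fst = x.fst * y.fst := rfl
@[simp] lemma Tw.snd_mul (x y : Tw A B C) : (x * y).snd = x.fst • y.snd + y.fst • x.snd := by
  show TrivSqZeroExt.snd ((show TrivSqZeroExt C (C ⊗[B] Ω[B⁄A]) from x) *
    (show TrivSqZeroExt C (C ⊗[B] Ω[B⁄A]) from y)) = _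
  rw [TrivSqZeroExt.snd_mul, op_smul_eq_smul]
  rfl

lemma Tw.algebraMap_A (a : A) : algebraMap A (Tw A B C) a = Tw.mk (algebraMap A C a) 0 := rfl

variable (A B C)

/-- twisted structure map -/
noncomputable def twMap : B →+* Tw A B C where
  toFun b := Tw.mk (algebraMap B C b) ((1 : C) ⊗ₜ[B] KaehlerDifferential.D A B b)
  map_one' := by
    ext
    · simp
    · simp
  map_mul' b b' := by
    ext
    · simp
    · simp only [Tw.snd_mk, Tw.snd_mul, Tw.fst_mk, Derivation.leibniz, TensorProduct.tmul_add,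
        TensorProduct.tmul_smul]
      rw [algebraMap_smul, algebraMap_smul]
  map_zero' := by
    ext
    · simp
    · simp
  map_add' b b' := by
    ext
    · simp
    · simp [TensorProduct.tmul_add]

noncomputable instance twAlgebra : Algebra B (Tw A B C) := (twMap A B C).toAlgebra

lemma Tw.algebraMap_B (b : B) : algebraMap B (Tw A B C) b =
    Tw.mk (algebraMap B C b) ((1 : C) ⊗ₜ[B] KaehlerDifferential.D A B b) := rfl

instance : IsScalarTower A B (Tw A B C) := by
  apply IsScalarTower.of_algebraMap_eq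
  intro a
  rw [Tw.algebraMap_A, Tw.algebraMap_B]
  ext
  · simp [← IsScalarTower.algebraMap_apply]
  · simp

theorem leftInverse_of_rel (h : EGA41.IsFormallySmoothRel A B C) :
    ∃ l : Ω[C⁄A] →ₗ[C] C ⊗[B] Ω[B⁄A],
      l ∘ₗ KaehlerDifferential.mapBaseChange A B C = LinearMap.id := by
  let fstHom : Tw A B C →+* C :=
    { toFun := Tw.fst, map_one' := rfl, map_mul' := fun _ _ => rfl, map_zero' := rfl,
      map_add' := fun _ _ => rfl }
  let J : Ideal (Tw A B C) := RingHom.ker fstHom
  have hJmem : ∀ x : Tw A B C, x ∈ J ↔ x.fst = 0 := fun x => Iff.rfl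
  have hJ : J ^ 2 = ⊥ := by
    rw [pow_two, eq_bot_iff, Ideal.mul_le]
    intro x hx y hy
    rw [Ideal.mem_bot]
    have hx0 : x.fst = 0 := hx
    have hy0 : y.fst = 0 := hy
    ext <;> simp [hx0, hy0]
  let u : C →ₐ[A] Tw A B C :=
    { toFun := fun c => Tw.mk c 0
      map_one' := rfl
      map_mul' := fun c c' => by ext <;> simp
      map_zero' := rfl
      map_add' := fun c c' => by ext <;> simp
      commutes' := fun a => rfl }
  let u₀ : C →ₐ[B] Tw A B C ⧸ J :=
    { (Ideal.Quotient.mk J).comp u.toRingHom with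
      commutes' := fun b => by
        show Ideal.Quotient.mk J (Tw.mk (algebraMap B C b) 0) =
          Ideal.Quotient.mk J (algebraMap B (Tw A B C) b)
        rw [Ideal.Quotient.eq, hJmem, Tw.algebraMap_B]
        simp }
  have hu : (Ideal.Quotient.mkₐ A J).comp u = u₀.restrictScalars A := by
    apply AlgHom.ext
    intro c
    rfl
  obtain ⟨v, hv⟩ := h (Tw A B C) J hJ u₀ ⟨u, hu⟩
  have hvfst : ∀ c, (v c).fst = c := by
    intro c
    have h1 : Ideal.Quotient.mk J (v c) = Ideal.Quotient.mk J (Tw.mk c 0) :=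
      congrArg (fun g => g c) hv
    have h2 : v c - Tw.mk c 0 ∈ J := Ideal.Quotient.eq.1 h1
    rw [hJmem] at h2
    simpa [sub_eq_zero] using h2
  have hsmulA : ∀ (a : A) (x : Tw A B C), (a • x).snd = a • x.snd := by
    intro a x
    rw [Algebra.smul_def, Tw.algebraMap_A, Tw.snd_mul]
    simp
  let Dv : Derivation A C (C ⊗[B] Ω[B⁄A]) :=
    { toLinearMap :=
        { toFun := fun c => (v c).snd
          map_add' := fun c c' => by rw [map_add, Tw.snd_add]
          map_smul' := fun a c => by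
            have : v (a • c) = a • v c := map_smul (v.restrictScalars A) a c
            rw [this, hsmulA]
            rfl }
      map_one_eq_zero' := by
        show (v 1).snd = 0
        rw [map_one]; rfl
      leibniz' := fun c c' => by
        show (v (c * c')).snd = c • (v c').snd + c' • (v c).snd
        rw [map_mul, Tw.snd_mul, hvfst, hvfst] }
  have hDv : ∀ b : B, Dv (algebraMap B C b) = (1 : C) ⊗ₜ[B] KaehlerDifferential.D A B b := by
    intro b
    show (v (algebraMap B C b)).snd = _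
    rw [v.commutes, Tw.algebraMap_B, Tw.snd_mk]
  refine ⟨Dv.liftKaehlerDifferential, ?_⟩
  apply TensorProduct.AlgebraTensorModule.ext
  intro c ω
  have hc : (c ⊗ₜ[B] ω : C ⊗[B] Ω[B⁄A]) = c • ((1 : C) ⊗ₜ[B] ω) := by
    rw [TensorProduct.smul_tmul', smul_eq_mul, mul_one]
  simp only [LinearMap.comp_apply, LinearMap.id_apply]
  rw [hc, map_smul, map_smul]
  congr 1
  -- now a statement about ω, B-linear
  let F1 : Ω[B⁄A] →ₗ[B] C ⊗[B] Ω[B⁄A] :=
    (Dv.liftKaehlerDifferential.restrictScalars B) ∘ₗ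
      ((KaehlerDifferential.mapBaseChange A B C).restrictScalars B) ∘ₗ
        (TensorProduct.mk B C (Ω[B⁄A]) 1)
  let F2 : Ω[B⁄A] →ₗ[B] C ⊗[B] Ω[B⁄A] := TensorProduct.mk B C (Ω[B⁄A]) 1
  have hF : F1 = F2 := by
    apply Derivation.liftKaehlerDifferential_unique
    apply Derivation.ext
    intro b
    show Dv.liftKaehlerDifferential (KaehlerDifferential.mapBaseChange A B C
      ((1 : C) ⊗ₜ[B] KaehlerDifferential.D A B b)) = (1 : C) ⊗ₜ[B] KaehlerDifferential.D A B b
    rw [KaehlerDifferential.mapBaseChange_tmul, one_smul, KaehlerDifferential.map_D,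
      Derivation.liftKaehlerDifferential_comp_D, hDv]
  exact congrArg (fun g => g ω) hF

end converse

end Groth.Agent.Helper1.FSRel
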