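import Mathlib
import Groth.Agent.Helper4.QCAlgGen

/-!
# FT1: the subalgebra of a quasi-coherent algebra generated by a quasi-coherent submodule:
sections that are locally in the generated subring
-/

set_option autoImplicit false
universe u
open CategoryTheory CategoryTheory.Limits AlgebraicGeometry TopologicalSpace Opposite

namespace Groth.Agent.Helper1.FT
open Groth.Agent.Helper4 Groth.Agent.Helper4.QCAlgGen Groth.Agent.Helper4.StalkDict
  Groth.Agent.Helper4.QcqsMod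

variable {X : Scheme.{u}} (B : RelSpec.QCAlg X) {E : X.Modules} (j : E ⟶ B.toModule)

theorem res_res {U V W : X.Opens} (h : V ≤ U) (h' : W ≤ V) (a : B.presheaf.obj (op U)) :
    (B.presheaf.map (homOfLE h').op).hom ((B.presheaf.map (homOfLE h).op).hom a) =
      (B.presheaf.map (homOfLE (h'.trans h)).op).hom a := by
  rw [← CommRingCat.comp_apply, ← B.presheaf.map_comp]
  rfl

/-- sections which are locally in the subring generated by the functions and `E` -/
noncomputable def LocGen (W : X.Opens) : Subring (B.presheaf.obj (op W)) where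
  carrier := {b | ∀ x ∈ W, ∃ (T : X.Opens) (h : T ≤ W), x ∈ T ∧
    (B.presheaf.map (homOfLE h).op).hom b ∈ Gen B j T}
  mul_mem' := by
    intro a b ha hb x hx
    obtain ⟨T₁, h₁, hx₁, ha₁⟩ := ha x hx
    obtain ⟨T₂, h₂, hx₂, hb₂⟩ := hb x hx
    refine ⟨T₁ ⊓ T₂, inf_le_left.trans h₁, ⟨hx₁, hx₂⟩, ?_⟩
    rw [map_mul]
    refine Subring.mul_mem _ ?_ ?_
    · have := res_mem_Gen B j (homOfLE (inf_le_left : T₁ ⊓ T₂ ≤ T₁)).op _ ha₁
      rwa [res_res] at this
    · have := res_mem_Gen B j (homOfLE (inf_le_right : T₁ ⊓ T₂ ≤ T₂)).op _ hb₂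
      rwa [res_res] at this
  one_mem' := by
    intro x hx
    exact ⟨W, le_rfl, hx, by rw [map_one]; exact Subring.one_mem _⟩
  add_mem' := by
    intro a b ha hb x hx
    obtain ⟨T₁, h₁, hx₁, ha₁⟩ := ha x hx
    obtain ⟨T₂, h₂, hx₂, hb₂⟩ := hb x hx
    refine ⟨T₁ ⊓ T₂, inf_le_left.trans h₁, ⟨hx₁, hx₂⟩, ?_⟩
    rw [map_add]
    refine Subring.add_mem _ ?_ ?_
    · have := res_mem_Gen B j (homOfLE (inf_le_left : T₁ ⊓ T₂ ≤ T₁)).op _ ha₁
      rwa [res_res] at this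
    · have := res_mem_Gen B j (homOfLE (inf_le_right : T₁ ⊓ T₂ ≤ T₂)).op _ hb₂
      rwa [res_res] at this
  zero_mem' := by
    intro x hx
    exact ⟨W, le_rfl, hx, by rw [map_zero]; exact Subring.zero_mem _⟩
  neg_mem' := by
    intro a ha x hx
    obtain ⟨T₁, h₁, hx₁, ha₁⟩ := ha x hx
    exact ⟨T₁, h₁, hx₁, by rw [map_neg]; exact Subring.neg_mem _ ha₁⟩

theorem mem_LocGen {W : X.Opens} (b : B.presheaf.obj (op W)) :
    b ∈ LocGen B j W ↔ ∀ x ∈ W, ∃ (T : X.Opens) (h : T ≤ W), x ∈ T ∧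
      (B.presheaf.map (homOfLE h).op).hom b ∈ Gen B j T := Iff.rfl

theorem Gen_le_LocGen (W : X.Opens) : Gen B j W ≤ LocGen B j W := by
  intro b hb x hx
  refine ⟨W, le_rfl, hx, ?_⟩
  have : (B.presheaf.map (homOfLE (le_refl W)).op) = 𝟙 _ := B.presheaf.map_id _
  rw [this]
  exact hb

theorem res_mem_LocGen {W W' : X.Opens} (h : W' ≤ W) (b : B.presheaf.obj (op W))
    (hb : b ∈ LocGen B j W) : (B.presheaf.map (homOfLE h).op).hom b ∈ LocGen B j W' := by
  intro x hx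
  obtain ⟨T, hT, hxT, hbT⟩ := hb x (h hx)
  refine ⟨T ⊓ W', inf_le_right, ⟨hxT, hx⟩, ?_⟩
  rw [res_res]
  have := res_mem_Gen B j (homOfLE (inf_le_left : T ⊓ W' ≤ T)).op _ hbT
  rwa [res_res] at this

/-- membership in `LocGen` is local -/
theorem mem_LocGen_of_local {W : X.Opens} (b : B.presheaf.obj (op W))
    (h : ∀ x ∈ W, ∃ (T : X.Opens) (hT : T ≤ W), x ∈ T ∧
      (B.presheaf.map (homOfLE hT).op).hom b ∈ LocGen B j T) : b ∈ LocGen B j W := by
  intro x hx
  obtain ⟨T, hT, hxT, hbT⟩ := h x hx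
  obtain ⟨T', hT', hxT', hbT'⟩ := hbT x hxT
  refine ⟨T', hT'.trans hT, hxT', ?_⟩
  rwa [res_res] at hbT'

end Groth.Agent.Helper1.FT
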