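import Mathlib
import Groth.Agent.Helper1.FT1

/-!
# FT2: on affine opens, sections locally in the generated subring are in the generated subring
-/

set_option autoImplicit false
universe u
open CategoryTheory CategoryTheory.Limits AlgebraicGeometry TopologicalSpace Opposite

namespace Groth.Agent.Helper1.FT
open Groth.Agent.Helper4 Groth.Agent.Helper4.QCAlgGen Groth.Agent.Helper4.StalkDict
  Groth.Agent.Helper4.QcqsMod

variable {X : Scheme.{u}} (B : RelSpec.QCAlg X) {E : X.Modules} (j : E ⟶ B.toModule)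

set_option maxHeartbeats 800000 in
/-- an element of the subring generated over a basic open is, up to a power of `f`, the
restriction of an element of the subring generated over the affine open
(from `Helper4.QCAlgGen.exists_pow_mul_mem_Gen`) -/
theorem exists_pow_mul_eq_res [E.IsQuasicoherent] {U : X.Opens} (hU : IsAffineOpen U)
    (f : Γ(X, U)) (z : B.presheaf.obj (op (X.basicOpen f))) (hz : z ∈ Gen B j (X.basicOpen f)) :
    ∃ n : ℕ, ∃ s ∈ Gen B j U,
      (B.presheaf.map (homOfLE (X.basicOpen_le f)).op).hom ((B.str.app (op U)).hom f) ^ n * z =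
        (B.presheaf.map (homOfLE (X.basicOpen_le f)).op).hom s := by
  let D := X.basicOpen f
  let i : op U ⟶ op D := (homOfLE (X.basicOpen_le f)).op
  let res : B.presheaf.obj (op U) →+* B.presheaf.obj (op D) := (B.presheaf.map i).hom
  let sf : B.presheaf.obj (op U) := (B.str.app (op U)).hom f
  let φ : B.presheaf.obj (op D) := res sf
  have hφ : φ = (B.str.app (op D)).hom ((X.presheaf.map i).hom f) := str_res B i f
  change ∃ n : ℕ, ∃ s ∈ Gen B j U, φ ^ n * z = res s
  induction hz using Subring.closure_induction with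
  | mem x hx =>
    rcases hx with ⟨c, rfl⟩ | ⟨e, rfl⟩
    · letI := (X.presheaf.map i).hom.toAlgebra
      haveI : IsLocalization.Away f Γ(X, D) := hU.isLocalization_basicOpen f
      obtain ⟨⟨γ, ⟨_, n, rfl⟩⟩, hγ⟩ := IsLocalization.surj (Submonoid.powers f) c
      refine ⟨n, (B.str.app (op U)).hom γ, str_mem_Gen B j U γ, ?_⟩
      have h1 : res ((B.str.app (op U)).hom γ) =
          (B.str.app (op D)).hom ((X.presheaf.map i).hom γ) := str_res B i γ
      rw [h1, hφ, ← map_pow, ← map_mul]
      congr 1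
      have h2 : c * (X.presheaf.map i).hom (f ^ n) = (X.presheaf.map i).hom γ := hγ
      rw [← h2, map_pow, mul_comm]
    · obtain ⟨n, m, hm⟩ := (isLocalizingOn_of_isAffineOpen E hU).surj f e
      refine ⟨n, jB B j U m, jB_mem_Gen B j U m, ?_⟩
      have h1 : res (jB B j U m) = jB B j D (E.val.map i m) := jB_res B j i m
      have h2 : jB B j D (E.val.map i m) =
          (B.str.app (op D)).hom ((X.presheaf.map i).hom (f ^ n)) * jB B j D e := by
        rw [← jB_smul]
        exact congrArg (jB B j D) hm.symm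
      rw [h1, h2, hφ, map_pow, map_pow]
  | zero => exact ⟨0, 0, Subring.zero_mem _, by simp⟩
  | one => exact ⟨0, 1, Subring.one_mem _, by simp⟩
  | add x y hx hy ihx ihy =>
    obtain ⟨n₁, s₁, hs₁, h₁⟩ := ihx
    obtain ⟨n₂, s₂, hs₂, h₂⟩ := ihy
    refine ⟨n₁ + n₂, sf ^ n₂ * s₁ + sf ^ n₁ * s₂, ?_, ?_⟩
    · exact Subring.add_mem _
        (Subring.mul_mem _ (Subring.pow_mem _ (str_mem_Gen B j U f) _) hs₁)
        (Subring.mul_mem _ (Subring.pow_mem _ (str_mem_Gen B j U f) _) hs₂)
    · rw [map_add, map_mul, map_mul, map_pow, map_pow, ← h₁, ← h₂]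
      ring
  | neg x hx ihx =>
    obtain ⟨n, s, hs, h⟩ := ihx
    exact ⟨n, -s, Subring.neg_mem _ hs, by rw [map_neg, ← h]; ring⟩
  | mul x y hx hy ihx ihy =>
    obtain ⟨n₁, s₁, hs₁, h₁⟩ := ihx
    obtain ⟨n₂, s₂, hs₂, h₂⟩ := ihy
    refine ⟨n₁ + n₂, s₁ * s₂, Subring.mul_mem _ hs₁ hs₂, ?_⟩
    rw [map_mul, ← h₁, ← h₂]
    ring

/-- if `b|_{D(f)}` is in the generated subring then `f^n b` is in the generated subring -/
theorem exists_pow_mul_mem_Gen' [E.IsQuasicoherent] {U : X.Opens} (hU : IsAffineOpen U)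
    (f : Γ(X, U)) (b : B.presheaf.obj (op U))
    (hb : (B.presheaf.map (homOfLE (X.basicOpen_le f)).op).hom b ∈ Gen B j (X.basicOpen f)) :
    ∃ n : ℕ, (B.str.app (op U)).hom f ^ n * b ∈ Gen B j U := by
  let D := X.basicOpen f
  let res : B.presheaf.obj (op U) →+* B.presheaf.obj (op D) :=
    (B.presheaf.map (homOfLE (X.basicOpen_le f)).op).hom
  let sf : B.presheaf.obj (op U) := (B.str.app (op U)).hom f
  obtain ⟨n, s, hs, hns⟩ := exists_pow_mul_eq_res B j hU f _ hb
  letI := res.toAlgebra
  haveI : IsLocalization.Away sf (B.presheaf.obj (op D)) := B.isQC U hU f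
  have h0 : algebraMap (B.presheaf.obj (op U)) (B.presheaf.obj (op D)) (sf ^ n * b - s) = 0 := by
    change res (sf ^ n * b - s) = 0
    rw [map_sub, map_mul, map_pow]
    exact sub_eq_zero.mpr hns
  obtain ⟨⟨c, m, rfl⟩, hc⟩ := (IsLocalization.map_eq_zero_iff (Submonoid.powers sf) _ _).mp h0
  refine ⟨m + n, ?_⟩
  have h1 : sf ^ (m + n) * b = sf ^ m * s := by
    have : sf ^ m * (sf ^ n * b - s) = 0 := hc
    rw [pow_add, mul_assoc]
    linear_combination this
  change sf ^ (m + n) * b ∈ Gen B j U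
  rw [h1]
  exact Subring.mul_mem _ (Subring.pow_mem _ (str_mem_Gen B j U f) _) hs

/-- on an affine open, `LocGen = Gen` -/
theorem LocGen_eq_Gen [E.IsQuasicoherent] {U : X.Opens} (hU : IsAffineOpen U) :
    LocGen B j U = Gen B j U := by
  apply le_antisymm _ (Gen_le_LocGen B j U)
  intro b hb
  let I : Ideal Γ(X, U) :=
    { carrier := {r | (B.str.app (op U)).hom r * b ∈ Gen B j U}
      add_mem' := by
        intro r r' hr hr'
        change (B.str.app (op U)).hom (r + r') * b ∈ Gen B j U
        rw [map_add, add_mul]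
        exact Subring.add_mem _ hr hr'
      zero_mem' := by
        change (B.str.app (op U)).hom 0 * b ∈ Gen B j U
        rw [map_zero, zero_mul]
        exact Subring.zero_mem _
      smul_mem' := by
        intro c r hr
        change (B.str.app (op U)).hom (c * r) * b ∈ Gen B j U
        rw [map_mul, mul_assoc]
        exact Subring.mul_mem _ (str_mem_Gen B j U c) hr }
  have hI : I = ⊤ := by
    by_contra hne
    obtain ⟨m, hm, hIm⟩ := Ideal.exists_le_maximal I hne
    obtain ⟨y, hy, hyP⟩ := FinLocFree5.exists_point_of_prime hU ⟨m, hm.isPrime⟩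
    obtain ⟨T, hT, hyT, hbT⟩ := hb y hy
    obtain ⟨f, hfT, hyf⟩ := hU.exists_basicOpen_le ⟨y, hyT⟩ hy
    have hbf : (B.presheaf.map (homOfLE (X.basicOpen_le f)).op).hom b ∈
        Gen B j (X.basicOpen f) := by
      have := res_mem_Gen B j (homOfLE hfT).op _ hbT
      rwa [res_res] at this
    obtain ⟨n, hn⟩ := exists_pow_mul_mem_Gen' B j hU f b hbf
    have hfn : f ^ n ∈ I := by
      change (B.str.app (op U)).hom (f ^ n) * b ∈ Gen B j U
      rw [map_pow]
      exact hn
    have hfm : f ∈ m := hm.isPrime.mem_of_pow_mem n (hIm hfn)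
    have := (mem_basicOpen_iff_notMem_primeIdealOf hU y hy f).mp hyf
    rw [hyP] at this
    exact this hfm
  have h1 : (1 : Γ(X, U)) ∈ I := by rw [hI]; trivial
  have h2 : (B.str.app (op U)).hom 1 * b ∈ Gen B j U := h1
  rwa [map_one, one_mul] at h2

end Groth.Agent.Helper1.FT
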