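import Mathlib
import Groth.Agent.Helper1.FT2

/-!
# FT3: the quasi-coherent subalgebra generated by a quasi-coherent submodule
-/

set_option autoImplicit false
universe u
open CategoryTheory CategoryTheory.Limits AlgebraicGeometry TopologicalSpace Opposite

namespace Groth.Agent.Helper1.FT
open Groth.Agent.Helper4 Groth.Agent.Helper4.QCAlgGen Groth.Agent.Helper4.StalkDict
  Groth.Agent.Helper4.QcqsMod

variable {X : Scheme.{u}} (B : RelSpec.QCAlg X) {E : X.Modules} (j : E ⟶ B.toModule)

/-- restriction maps of the generated subalgebra -/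
noncomputable def subRes {W W' : X.Opens} (i : W' ⟶ W) : LocGen B j W →+* LocGen B j W' :=
  ((B.presheaf.map i.op).hom.comp (LocGen B j W).subtype).codRestrict (LocGen B j W')
    (fun b => res_mem_LocGen B j (leOfHom i) b.1 b.2)

@[simp] theorem subRes_coe {W W' : X.Opens} (i : W' ⟶ W) (b : LocGen B j W) :
    (subRes B j i b : B.presheaf.obj (op W')) = (B.presheaf.map i.op).hom b.1 := rfl

/-- the presheaf of rings of the generated subalgebra -/
noncomputable def subPresheaf : TopCat.Presheaf CommRingCat.{u} X.carrier where
  obj W := CommRingCat.of (LocGen B j W.unop)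
  map i := CommRingCat.ofHom (subRes B j i.unop)
  map_id W := by
    ext b
    change (B.presheaf.map (𝟙 W)).hom b.1 = b.1
    rw [B.presheaf.map_id]; rfl
  map_comp {U V W} f g := by
    ext b
    change (B.presheaf.map (f ≫ g)).hom b.1 = (B.presheaf.map g).hom ((B.presheaf.map f).hom b.1)
    rw [B.presheaf.map_comp]; rfl

/-- a section of the generated subalgebra, as an element of the subring -/
abbrev toLG {W : X.Opens} (b : (subPresheaf B j).obj (op W)) : LocGen B j W := b

/-- the inclusion into `B` -/
noncomputable def subIncl : subPresheaf B j ⟶ B.presheaf where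
  app W := CommRingCat.ofHom (LocGen B j W.unop).subtype
  naturality U V i := by
    ext b
    rfl

theorem isSheaf_subPresheaf : (subPresheaf B j).IsSheaf := by
  rw [TopCat.Presheaf.isSheaf_iff_isSheafUniqueGluing]
  intro ι U sf hsf
  have h1 : TopCat.Presheaf.IsCompatible B.presheaf U (fun i => (toLG B j (sf i)).1) :=
    fun i k => congrArg Subtype.val (hsf i k)
  obtain ⟨b, hb, hb'⟩ := TopCat.Sheaf.existsUnique_gluing
    (⟨B.presheaf, B.isSheaf⟩ : TopCat.Sheaf CommRingCat X.carrier) U _ h1
  have hmem : b ∈ LocGen B j (iSup U) := by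
    apply mem_LocGen_of_local
    intro x hx
    obtain ⟨i, hxi⟩ := Opens.mem_iSup.mp hx
    refine ⟨U i, le_iSup U i, hxi, ?_⟩
    have := hb i
    change (B.presheaf.map (Opens.leSupr U i).op).hom b = (toLG B j (sf i)).1 at this
    change (B.presheaf.map (Opens.leSupr U i).op).hom b ∈ LocGen B j (U i)
    rw [this]
    exact (toLG B j (sf i)).2
  refine ⟨(⟨b, hmem⟩ : LocGen B j (iSup U)), fun i => Subtype.ext (hb i), fun t ht => ?_⟩
  exact Subtype.ext (hb' (toLG B j t).1 (fun i => congrArg Subtype.val (ht i)))

/-- the structure map of the generated subalgebra -/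
noncomputable def subStr : X.presheaf ⟶ subPresheaf B j where
  app W := CommRingCat.ofHom
    ((B.str.app W).hom.codRestrict (LocGen B j W.unop)
      (fun r => Gen_le_LocGen B j W.unop (str_mem_Gen B j W.unop r)))
  naturality U V i := by
    ext r
    apply Subtype.ext
    exact congr($(B.str.naturality i) r)

theorem subStr_coe (W : X.Opens) (r : Γ(X, W)) :
    (toLG B j (((subStr B j).app (op W)).hom r)).1 = (B.str.app (op W)).hom r := rfl

end Groth.Agent.Helper1.FT
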