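import Mathlib
import Groth.Agent.Helper1.FT3

/-!
# FT4: the generated subalgebra is a quasi-coherent algebra
-/

set_option autoImplicit false
universe u
open CategoryTheory CategoryTheory.Limits AlgebraicGeometry TopologicalSpace Opposite

namespace Groth.Agent.Helper1.FT
open Groth.Agent.Helper4 Groth.Agent.Helper4.QCAlgGen Groth.Agent.Helper4.StalkDict
  Groth.Agent.Helper4.QcqsMod

variable {X : Scheme.{u}} (B : RelSpec.QCAlg X) {E : X.Modules} (j : E ⟶ B.toModule)

set_option backward.isDefEq.respectTransparency false in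
theorem isQC_sub [E.IsQuasicoherent] : RelSpec.IsQC (subPresheaf B j) (subStr B j) := by
  intro U hU r
  letI := ((subPresheaf B j).map (homOfLE (X.basicOpen_le r)).op).hom.toAlgebra
  set ρ : LocGen B j U →+* LocGen B j (X.basicOpen r) :=
    subRes B j (homOfLE (X.basicOpen_le r)) with hρ
  set x : LocGen B j U := toLG B j (((subStr B j).app (op U)).hom r) with hx
  have hx1 : x.1 = (B.str.app (op U)).hom r := rfl
  have hunit : IsUnit (X.presheaf.map (homOfLE (X.basicOpen_le r)).op r) :=
    RingedSpace.isUnit_res_basicOpen X.toRingedSpace r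
  have hρx : ρ x = toLG B j (((subStr B j).app (op (X.basicOpen r))).hom
      (X.presheaf.map (homOfLE (X.basicOpen_le r)).op r)) := by
    apply Subtype.ext
    exact (str_res B (homOfLE (X.basicOpen_le r)).op r)
  rw [IsLocalization.Away, isLocalization_iff]
  refine ⟨?_, ?_, ?_⟩
  · rintro ⟨_, n, rfl⟩
    change IsUnit (ρ (x ^ n))
    rw [map_pow, hρx]
    exact (hunit.map ((subStr B j).app (op (X.basicOpen r))).hom).pow n
  · intro z
    have hz : (toLG B j z).1 ∈ Gen B j (X.basicOpen r) := by
      rw [← LocGen_eq_Gen B j (hU.basicOpen r)]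
      exact (toLG B j z).2
    obtain ⟨n, s, hs, hns⟩ := exists_pow_mul_eq_res B j hU r _ hz
    refine ⟨⟨(⟨s, Gen_le_LocGen B j U hs⟩ : LocGen B j U), ⟨_, n, rfl⟩⟩, ?_⟩
    change toLG B j z * ρ (x ^ n) = ρ ⟨s, Gen_le_LocGen B j U hs⟩
    apply Subtype.ext
    change (toLG B j z).1 * (ρ (x ^ n)).1 = (B.presheaf.map (homOfLE (X.basicOpen_le r)).op).hom s
    rw [← hns, mul_comm, map_pow]
    rfl
  · intro (a : LocGen B j U) (b : LocGen B j U) hab
    letI := (B.presheaf.map (homOfLE (X.basicOpen_le r)).op).hom.toAlgebra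
    haveI : IsLocalization.Away ((B.str.app (op U)).hom r)
        (B.presheaf.obj (op (X.basicOpen r))) := B.isQC U hU r
    have hab' : algebraMap (B.presheaf.obj (op U)) (B.presheaf.obj (op (X.basicOpen r))) a.1 =
        algebraMap (B.presheaf.obj (op U)) (B.presheaf.obj (op (X.basicOpen r))) b.1 :=
      congrArg Subtype.val hab
    obtain ⟨⟨c, n, rfl⟩, hc⟩ := (IsLocalization.eq_iff_exists
      (Submonoid.powers ((B.str.app (op U)).hom r)) _).mp hab'
    refine ⟨⟨_, n, rfl⟩, ?_⟩
    apply Subtype.ext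
    change (x ^ n).1 * a.1 = (x ^ n).1 * b.1
    have : (x ^ n).1 = ((B.str.app (op U)).hom r) ^ n := by
      rw [← hx1]; rfl
    rw [this]
    exact hc

/-- the quasi-coherent subalgebra generated by `E` -/
noncomputable def subAlg [E.IsQuasicoherent] : RelSpec.QCAlg X :=
  ⟨subPresheaf B j, isSheaf_subPresheaf B j, subStr B j, isQC_sub B j⟩

/-- the inclusion of the generated subalgebra -/
noncomputable def subHom [E.IsQuasicoherent] : subAlg B j ⟶ B :=
  ⟨subIncl B j, by ext W r; rfl⟩

theorem subHom_injective [E.IsQuasicoherent] (V : X.Opens) :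
    Function.Injective ((subHom B j).hom.app (op V)).hom := by
  intro a b h
  exact Subtype.ext h

theorem mem_range_subHom [E.IsQuasicoherent] (V : X.Opens) (e : E.val.obj (op V)) :
    jB B j V e ∈ Set.range ((subHom B j).hom.app (op V)).hom :=
  ⟨(⟨jB B j V e, Gen_le_LocGen B j V (jB_mem_Gen B j V e)⟩ : LocGen B j V), rfl⟩

end Groth.Agent.Helper1.FT
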