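import Mathlib
import Groth.Agent.Helper1.FT4
import Groth.Agent.Helper4.SecDict

/-!
# FT5: the subalgebra generated by a finite type quasi-coherent submodule is of finite type
-/

set_option autoImplicit false
universe u
open CategoryTheory CategoryTheory.Limits AlgebraicGeometry TopologicalSpace Opposite

namespace Groth.Agent.Helper1.FT
open Groth.Agent.Helper4 Groth.Agent.Helper4.QCAlgGen Groth.Agent.Helper4.StalkDict
  Groth.Agent.Helper4.QcqsMod

variable {X : Scheme.{u}} (B : RelSpec.QCAlg X) {E : X.Modules} (j : E ⟶ B.toModule)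

/-- the section `j e`, as a section of the generated subalgebra -/
noncomputable def jLG (V : X.Opens) (e : E.val.obj (op V)) : LocGen B j V :=
  ⟨jB B j V e, Gen_le_LocGen B j V (jB_mem_Gen B j V e)⟩

/-- an identity coercion -/
abbrev ofLG {W : X.Opens} (b : LocGen B j W) : (subPresheaf B j).obj (op W) := b

set_option backward.isDefEq.respectTransparency false in
theorem finiteType_sub [E.IsQuasicoherent]
    (hft : SheafOfModules.IsFiniteType (R := X.ringCatSheaf) E) {V : X.Opens}
    (hV : IsAffineOpen V) :
    ((subAlg B j).str.app (op V)).hom.FiniteType := by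
  classical
  haveI : Module.Finite Γ(X, V) Γ(E, V) := SecDict.finite_sections hV E inferInstance hft
  obtain ⟨t, ht⟩ := (Module.finite_def.mp this)
  letI alg : Algebra Γ(X, V) ((subPresheaf B j).obj (op V)) :=
    ((subStr B j).app (op V)).hom.toAlgebra
  change Algebra.FiniteType Γ(X, V) ((subPresheaf B j).obj (op V))
  refine ⟨⟨t.image (fun e => ofLG B j (jLG B j V e)), ?_⟩⟩
  rw [eq_top_iff]
  intro b _
  set S : Subalgebra Γ(X, V) ((subPresheaf B j).obj (op V)) :=
    Algebra.adjoin Γ(X, V) (↑(t.image (fun e => ofLG B j (jLG B j V e))) : Set _) with hS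
  -- every `jLG e` is in `S`
  have hj : ∀ e : Γ(E, V), ofLG B j (jLG B j V e) ∈ S := by
    intro e
    have he : e ∈ Submodule.span Γ(X, V) (↑t : Set Γ(E, V)) := by rw [ht]; trivial
    induction he using Submodule.span_induction with
    | mem x hx =>
      apply Algebra.subset_adjoin
      exact Finset.mem_coe.mpr (Finset.mem_image_of_mem _ hx)
    | zero =>
      have : ofLG B j (jLG B j V 0) = 0 := by
        apply Subtype.ext
        exact map_zero (j.val.app (op V)).hom
      rw [this]; exact Subalgebra.zero_mem _
    | add x y _ _ hx hy =>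
      have : ofLG B j (jLG B j V (x + y)) = ofLG B j (jLG B j V x) + ofLG B j (jLG B j V y) := by
        apply Subtype.ext
        exact map_add (j.val.app (op V)).hom x y
      rw [this]; exact Subalgebra.add_mem _ hx hy
    | smul r x _ hx =>
      have : ofLG B j (jLG B j V (r • x)) = r • ofLG B j (jLG B j V x) := by
        apply Subtype.ext
        exact jB_smul B j V r x
      rw [this]; exact Subalgebra.smul_mem _ hx r
  -- induction on the generated subring
  have key : ∀ (c : B.presheaf.obj (op V)) (hc : c ∈ Gen B j V),
      ∀ hc' : c ∈ LocGen B j V, ofLG B j ⟨c, hc'⟩ ∈ S := by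
    intro c hc
    induction hc using Subring.closure_induction with
    | mem x hx =>
      intro hc'
      rcases hx with ⟨r, rfl⟩ | ⟨e, rfl⟩
      · exact Subalgebra.algebraMap_mem S r
      · exact hj e
    | zero => intro _; exact Subalgebra.zero_mem S
    | one => intro _; exact Subalgebra.one_mem S
    | add x y hx hy ihx ihy =>
      intro _
      exact Subalgebra.add_mem S (ihx (Gen_le_LocGen B j V hx)) (ihy (Gen_le_LocGen B j V hy))
    | neg x hx ihx =>
      intro _
      exact Subalgebra.neg_mem S (ihx (Gen_le_LocGen B j V hx))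
    | mul x y hx hy ihx ihy =>
      intro _
      exact Subalgebra.mul_mem S (ihx (Gen_le_LocGen B j V hx)) (ihy (Gen_le_LocGen B j V hy))
  have hb : (toLG B j b).1 ∈ Gen B j V := by
    rw [← LocGen_eq_Gen B j hV]
    exact (toLG B j b).2
  exact key _ hb (toLG B j b).2

end Groth.Agent.Helper1.FT
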