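import Mathlib

/-!
# Linear algebra for factoring a map through a free module
-/

set_option autoImplicit false

namespace Groth.Agent.Helper1.FactorFree

open TensorProduct

universe u

variable {R : Type u} [CommRing R] {n m : ℕ}

/-- The "transpose" of the matrix `a`. -/
noncomputable def rho (a : Fin m → Fin n → R) : (Fin n → R) →ₗ[R] (Fin m → R) :=
  LinearMap.pi fun j => ∑ i, a j i • LinearMap.proj i

lemma rho_apply (a : Fin m → Fin n → R) (v : Fin n → R) (j : Fin m) :
    rho a v j = ∑ i, a j i * v i := by
  simp [rho]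

variable (K' : Type u) [AddCommGroup K'] [Module R K']

lemma piScalarRight_lTensor_rho (a : Fin m → Fin n → R) (y : K' ⊗[R] (Fin n → R)) (j : Fin m) :
    TensorProduct.piScalarRight R R K' (Fin m) (LinearMap.lTensor K' (rho a) y) j =
      ∑ i, a j i • TensorProduct.piScalarRight R R K' (Fin n) y i := by
  induction y using TensorProduct.induction_on with
  | zero => simp
  | add x y hx hy =>
    simp only [map_add, Pi.add_apply, hx, hy, smul_add, Finset.sum_add_distrib]
  | tmul x v =>
    rw [LinearMap.lTensor_tmul, TensorProduct.piScalarRight_apply,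
      TensorProduct.piScalarRightHom_tmul, TensorProduct.piScalarRight_apply,
      TensorProduct.piScalarRightHom_tmul]
    show rho a v j • x = ∑ i, a j i • (v i • x)
    rw [rho_apply, Finset.sum_smul]
    refine Finset.sum_congr rfl fun i _ => ?_
    rw [smul_smul]

/-- The key linear algebra lemma. -/
theorem exists_of_sum_tmul_eq_zero (a : Fin m → Fin n → R) (c : Fin m → K')
    (h : ∑ j, c j ⊗ₜ[R] ((LinearMap.range (rho a)).mkQ (Pi.single j 1)) = 0) :
    ∃ x : Fin n → K', ∀ j, c j = ∑ i, a j i • x i := by
  classical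
  set z₀ : K' ⊗[R] (Fin m → R) := ∑ j, c j ⊗ₜ[R] (Pi.single j (1 : R)) with hz₀
  have hex := lTensor_exact K' (LinearMap.exact_map_mkQ_range (rho a))
    (Submodule.mkQ_surjective _)
  have h0 : LinearMap.lTensor K' (LinearMap.range (rho a)).mkQ z₀ = 0 := by
    rw [hz₀, map_sum]
    simpa using h
  obtain ⟨y, hy⟩ := (hex z₀).mp h0
  refine ⟨TensorProduct.piScalarRight R R K' (Fin n) y, fun j => ?_⟩
  rw [← piScalarRight_lTensor_rho, hy, hz₀, map_sum, Finset.sum_apply]
  have : ∀ j', TensorProduct.piScalarRight R R K' (Fin m) (c j' ⊗ₜ[R] Pi.single j' (1 : R)) j =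
      if j' = j then c j' else 0 := by
    intro j'
    rw [TensorProduct.piScalarRight_apply, TensorProduct.piScalarRightHom_tmul]
    by_cases hj : j' = j
    · subst hj; simp
    · simp [hj, Ne.symm hj]
  simp [this]

end Groth.Agent.Helper1.FactorFree
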