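import Mathlib
import Groth.Agent.Helper1.TorLES2

/-!
# Naturality of the balancing isomorphism in the second complex; symmetry of `Tor` as a bifunctor
-/

set_option autoImplicit false

namespace Groth.Agent.Helper1.TorLib

open CategoryTheory CategoryTheory.Limits MonoidalCategory Groth.Agent.Helper1.FlatCx

universe u

variable {A : Type u} [CommRing A]

section DeltaNatS

variable {ι : Type} {c : ComplexShape ι} (P : HomologicalComplex (ModuleCat.{u} A) c)
  (hP : ∀ i, Module.Flat A (P.X i)) {S S' : ShortComplex (ModuleCat.{u} A)}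
  (hS : S.ShortExact) (hS' : S'.ShortExact) (φ : S ⟶ S')

/-- The connecting homomorphism is natural in the short exact sequence. -/
@[reassoc]
lemma δ_natS (i j : ι) (hij : c.Rel i j) :
    δ P hP hS i j hij ≫ (CohIII.TFun P j).map φ.τ₁ =
      (CohIII.TFun P i).map φ.τ₃ ≫ δ P hP hS' i j hij :=
  HomologicalComplex.HomologySequence.δ_naturality ((tensorFunctor P).mapShortComplex.map φ)
    (shortExact_map_tensorFunctor P hP hS) (shortExact_map_tensorFunctor P hP hS') i j hij

end DeltaNatS

section OpcyclesSCMap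

variable {ι : Type} {c : ComplexShape ι} {Q Q' : HomologicalComplex (ModuleCat.{u} A) c}
  (ψ : Q ⟶ Q')

/-- The morphism of short complexes `(Z'_i → X_j → Z'_j)` induced by a chain map. -/
noncomputable def opcyclesSCMap (i j : ι) : opcyclesSC Q i j ⟶ opcyclesSC Q' i j where
  τ₁ := HomologicalComplex.opcyclesMap ψ i
  τ₂ := ψ.f j
  τ₃ := HomologicalComplex.opcyclesMap ψ j
  comm₁₂ := fromOpcycles_naturality ψ i j
  comm₂₃ := (HomologicalComplex.p_opcyclesMap ψ j).symm

end OpcyclesSCMap

section NatQ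

variable (P : ChainComplex (ModuleCat.{u} A) ℕ) {Q Q' : ChainComplex (ModuleCat.{u} A) ℕ}
  (hP : ∀ i, Module.Flat A (P.X i)) (hQex : ∀ n, Q.ExactAt (n + 1))
  (hQ'ex : ∀ n, Q'.ExactAt (n + 1)) (ψ : Q ⟶ Q')

@[reassoc]
lemma δZ_natQ (k d : ℕ) :
    δZ P Q hP hQex k d ≫ (CohIII.TFun P d).map (HomologicalComplex.opcyclesMap ψ (k + 1)) =
      (CohIII.TFun P (d + 1)).map (HomologicalComplex.opcyclesMap ψ k) ≫
        δZ P Q' hP hQ'ex k d :=
  δ_natS P hP _ _ (opcyclesSCMap ψ (k + 1) k) (d + 1) d _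

lemma TFun_map_eqToHom {d d' : ℕ} (h : d = d') {M N : ModuleCat.{u} A} (g : M ⟶ N) :
    (CohIII.TFun P d).map g ≫ eqToHom (by rw [h]) =
      eqToHom (by rw [h]) ≫ (CohIII.TFun P d').map g := by
  subst h
  simp

lemma shiftHom_natQ : ∀ (k d d' : ℕ) (h : d = d' + k),
    (CohIII.TFun P d).map (HomologicalComplex.opcyclesMap ψ 0) ≫
        shiftHom P Q' hP hQ'ex k d d' h =
      shiftHom P Q hP hQex k d d' h ≫
        (CohIII.TFun P d').map (HomologicalComplex.opcyclesMap ψ k) := by
  intro k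
  induction k with
  | zero =>
    intro d d' h
    unfold shiftHom
    exact TFun_map_eqToHom P h _
  | succ k ih =>
    intro d d' h
    unfold shiftHom
    rw [reassoc_of% (ih d (d' + 1) (by omega)), Category.assoc, δZ_natQ]

lemma opcyclesIso_inv_natP {ι : Type} {c : ComplexShape ι}
    {K K' : HomologicalComplex (ModuleCat.{u} A) c} (φ : K ⟶ K') (p : ι) (M : ModuleCat.{u} A) :
    HomologicalComplex.opcyclesMap φ p ▷ M ≫ (opcyclesIso K' p M).inv =
      (opcyclesIso K p M).inv ≫ HomologicalComplex.opcyclesMap (tL φ M) p := by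
  rw [Iso.eq_inv_comp, ← Category.assoc, Iso.comp_inv_eq, opcyclesIso_hom_natP]

lemma κ_natQ (n : ℕ) :
    (CohIII.TFun P 1).map (HomologicalComplex.opcyclesMap ψ n) ≫ κ P Q' hP hQ'ex n =
      κ P Q hP hQex n ≫ HomologicalComplex.opcyclesMap (tL ψ (P.opcycles 0)) (n + 1) := by
  unfold κ
  rw [← δZ_natQ_assoc P hP hQex hQ'ex ψ n 0, reassoc_of% (T0IsoSwap_naturality P), Category.assoc,
    Category.assoc, opcyclesIso_inv_natP]

lemma TOneHom_natQ (n : ℕ) :
    (CohIII.TFun P 1).map (HomologicalComplex.opcyclesMap ψ n) ≫ TOneHom P Q' hP hQ'ex n =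
      TOneHom P Q hP hQex n ≫ TmapL ψ (n + 1) (P.opcycles 0) := by
  refine (cancel_mono ((CohIII.tensorObj Q' (P.opcycles 0)).homologyι (n + 1))).mp ?_
  refine Eq.trans (Category.assoc _ _ _) (Eq.trans ?_ (Category.assoc _ _ _).symm)
  refine Eq.trans (congrArg (_ ≫ ·) (TOneHom_homologyι P Q' hP hQ'ex n)) ?_
  refine Eq.trans (κ_natQ P hP hQex hQ'ex ψ n) ?_
  refine Eq.trans ?_ (congrArg (_ ≫ ·)
    (HomologicalComplex.homologyι_naturality (tL ψ (P.opcycles 0)) (n + 1)).symm)
  refine Eq.trans ?_ (Category.assoc _ _ _)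
  exact congrArg (· ≫ _) (TOneHom_homologyι P Q hP hQex n).symm

lemma T0Iso_inv_natP {K K' : ChainComplex (ModuleCat.{u} A) ℕ} (φ : K ⟶ K')
    (M : ModuleCat.{u} A) :
    HomologicalComplex.opcyclesMap φ 0 ▷ M ≫ (T0Iso K' M).inv =
      (T0Iso K M).inv ≫ TmapL φ 0 M := by
  rw [Iso.eq_inv_comp, ← Category.assoc, Iso.comp_inv_eq, T0Iso_natP]

lemma balanceHom_natQ (n : ℕ) :
    (CohIII.TFun P n).map (HomologicalComplex.opcyclesMap ψ 0) ≫ balanceHom P Q' hP hQ'ex n =
      balanceHom P Q hP hQex n ≫ TmapL ψ n (P.opcycles 0) := by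
  cases n with
  | zero =>
    unfold balanceHom
    rw [reassoc_of% (T0IsoSwap_naturality P), Category.assoc, T0Iso_inv_natP]
  | succ n =>
    unfold balanceHom
    rw [reassoc_of% (shiftHom_natQ P hP hQex hQ'ex ψ n (n + 1) 1 (by omega)), Category.assoc,
      TOneHom_natQ]

end NatQ

section TorBalanceNatM

variable {M M' : ModuleCat.{u} A} (F : FlatResolution M) (F' : FlatResolution M') (g : M ⟶ M')
  (ψ : F.complex ⟶ F'.complex)

/-- The balancing morphism is natural in the first variable. -/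
lemma torBalanceHom_natM
    (comm : HomologicalComplex.opcyclesMap ψ 0 ≫ F'.iso.hom = F.iso.hom ≫ g)
    (n : ℕ) (N : ModuleCat.{u} A) :
    ((Tor (ModuleCat.{u} A) n).map g).app N ≫ torBalanceHom F' n N =
      torBalanceHom F n N ≫ TmapL ψ n N := by
  have comm' : g ≫ F'.iso.inv = F.iso.inv ≫ HomologicalComplex.opcyclesMap ψ 0 := by
    rw [Iso.eq_inv_comp, ← Category.assoc, Iso.comp_inv_eq, comm]
  unfold torBalanceHom
  rw [torIsoT_naturality_assoc, ← Functor.map_comp_assoc, comm', Functor.map_comp_assoc,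
    reassoc_of% (balanceHom_natQ (ProjectiveResolution.of N).complex
      (flat_of_projectiveResolution _) F.exact F'.exact ψ n), TFun_map_tL]
  simp only [Category.assoc]

end TorBalanceNatM

section Flip

/-- **Symmetry of `Tor` as a bifunctor.** -/
noncomputable def torFlipIso (n : ℕ) :
    Tor (ModuleCat.{u} A) n ≅ (Tor (ModuleCat.{u} A) n).flip :=
  NatIso.ofComponents
    (fun M => torBalanceIso (stdFlatRes M) n ≪≫
      (torFlipNatIso (ProjectiveResolution.of M) n).symm)
    (by
      intro M M' g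
      ext N : 2
      have comm := ProjectiveResolution.lift_commutes_zero g (ProjectiveResolution.of M)
        (ProjectiveResolution.of M')
      have h1 := torBalanceHom_natM (stdFlatRes M) (stdFlatRes M') g
        (ProjectiveResolution.lift g (ProjectiveResolution.of M) (ProjectiveResolution.of M'))
        (opcyclesZeroIso_nat g _ _ _ comm) n N
      have h2 := torIsoT_inv_natN g _ _ _ comm n N
      show ((Tor (ModuleCat.{u} A) n).map g).app N ≫
          (torBalanceHom (stdFlatRes M') n N ≫ (torIsoT (ProjectiveResolution.of M') n N).inv) =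
        (torBalanceHom (stdFlatRes M) n N ≫ (torIsoT (ProjectiveResolution.of M) n N).inv) ≫
          ((Tor (ModuleCat.{u} A) n).obj N).map g
      exact Eq.trans (Category.assoc _ _ _).symm (Eq.trans (congrArg (· ≫ _) h1)
        (Eq.trans (Category.assoc _ _ _) (Eq.trans (congrArg (_ ≫ ·) h2.symm)
          (Category.assoc _ _ _).symm))))

end Flip

end Groth.Agent.Helper1.TorLib
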