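import Mathlib
import Groth.Agent.Helper1.TorNatural
import Groth.Agent.Helper1.TorReg
import Groth.Agent.Helper1.TorBalanceNat2

/-!
# `Tor_0(L, N) ≅ L ⊗ N` is natural in `N`; the embedding `Tor_1(M, X) ↪ K ⊗ X`
-/

set_option autoImplicit false

namespace Groth.Agent.Helper1.TorLib

open CategoryTheory CategoryTheory.Limits MonoidalCategory Groth.Agent.Helper1.FlatCx

universe u

variable {A : Type u} [CommRing A]

lemma torZeroNatIso_hom_app (N L : ModuleCat.{u} A) :
    (torZeroNatIso N).hom.app L =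
      (torIsoT (ProjectiveResolution.of N) 0 L).hom ≫
        (T0Iso (ProjectiveResolution.of N).complex L).hom ≫
        (opcyclesZeroIso (ProjectiveResolution.of N)).hom ▷ L ≫ (β_ N L).hom := rfl

/-- `torZeroNatIso` is natural in the second variable. -/
@[reassoc]
lemma torZeroNatIso_natN {N N' : ModuleCat.{u} A} (g : N ⟶ N') (L : ModuleCat.{u} A) :
    ((Tor (ModuleCat.{u} A) 0).obj L).map g ≫ (torZeroNatIso N').hom.app L =
      (torZeroNatIso N).hom.app L ≫ L ◁ g := by
  have comm := ProjectiveResolution.lift_commutes_zero g (ProjectiveResolution.of N)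
    (ProjectiveResolution.of N')
  have h3 : HomologicalComplex.opcyclesMap (ProjectiveResolution.lift g (ProjectiveResolution.of N)
        (ProjectiveResolution.of N')) 0 ▷ L ≫
      (opcyclesZeroIso (ProjectiveResolution.of N')).hom ▷ L =
      (opcyclesZeroIso (ProjectiveResolution.of N)).hom ▷ L ≫ g ▷ L := by
    rw [← comp_whiskerRight, ← comp_whiskerRight, opcyclesZeroIso_nat g _ _ _ comm]
  rw [torZeroNatIso_hom_app, torZeroNatIso_hom_app, torIsoT_natN_assoc g _ _ _ comm,
    T0Iso_natP_assoc, reassoc_of% h3, BraidedCategory.braiding_naturality_left]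
  simp only [Category.assoc]

section Embedding

variable {S : ShortComplex (ModuleCat.{u} A)} (hS : S.ShortExact)

/-- The map `Tor_1(M'', X) ⟶ M' ⊗ X` for a short exact sequence `0 → M' → M → M'' → 0`. -/
noncomputable def torOneToTensor (X : ModuleCat.{u} A) :
    ((Tor (ModuleCat.{u} A) 1).obj S.X₃).obj X ⟶ S.X₁ ⊗ X :=
  torδ X hS 0 ≫ (torZeroNatIso X).hom.app S.X₁

lemma torOneToTensor_comp (X : ModuleCat.{u} A) :
    torOneToTensor hS X ≫ S.f ▷ X = 0 := by
  unfold torOneToTensor
  rw [Category.assoc, ← torZero_naturality X S.f, reassoc_of% (torδ_comp X hS 0), zero_comp]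

lemma torOneToTensor_naturality {X X' : ModuleCat.{u} A} (g : X ⟶ X') :
    ((Tor (ModuleCat.{u} A) 1).obj S.X₃).map g ≫ torOneToTensor hS X' =
      torOneToTensor hS X ≫ S.X₁ ◁ g := by
  unfold torOneToTensor
  rw [← reassoc_of% (torδ_natN hS 0 g), torZeroNatIso_natN, Category.assoc]

lemma mono_torOneToTensor [Module.Flat A S.X₂] (X : ModuleCat.{u} A) :
    Mono (torOneToTensor hS X) := by
  haveI := mono_torδ_zero X hS
  refine (mono_iff_of_comm (torOneToTensor hS X) (torδ X hS 0) (Iso.refl _)
    ((torZeroNatIso X).app S.X₁).symm ?_).mpr inferInstance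
  unfold torOneToTensor
  rw [Category.assoc, Iso.symm_hom, Iso.app_inv, Iso.hom_inv_id_app, Iso.refl_hom,
    Category.id_comp]
  exact Category.comp_id _

lemma torOneToTensor_exact (X : ModuleCat.{u} A) :
    (ShortComplex.mk (torOneToTensor hS X) (S.f ▷ X) (torOneToTensor_comp hS X)).Exact := by
  refine (ShortComplex.exact_iff_of_iso ?_).mp (tor_exact₁ X hS 0)
  refine ShortComplex.isoMk (Iso.refl _) ((torZeroNatIso X).app S.X₁)
    ((torZeroNatIso X).app S.X₂) ?_ ?_
  · exact Category.id_comp _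
  · exact (torZero_naturality X S.f).symm

end Embedding

section NatS

variable {S S' : ShortComplex (ModuleCat.{u} A)} (hS : S.ShortExact) (hS' : S'.ShortExact)
  (φ : S ⟶ S')

/-- `torδ` is natural in the short exact sequence. -/
@[reassoc]
lemma torδ_natS (N : ModuleCat.{u} A) (n : ℕ) :
    torδ N hS n ≫ ((Tor (ModuleCat.{u} A) n).map φ.τ₁).app N =
      ((Tor (ModuleCat.{u} A) (n + 1)).map φ.τ₃).app N ≫ torδ N hS' n := by
  have h1 : (torIsoT (ProjectiveResolution.of N) n S.X₁).inv ≫
      ((Tor (ModuleCat.{u} A) n).map φ.τ₁).app N =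
      (CohIII.TFun (ProjectiveResolution.of N).complex n).map φ.τ₁ ≫
        (torIsoT (ProjectiveResolution.of N) n S'.X₁).inv := by
    rw [Iso.inv_comp_eq, ← Category.assoc, Iso.eq_comp_inv, torIsoT_naturality]
  unfold torδ
  rw [Category.assoc, Category.assoc, h1, torIsoT_naturality_assoc,
    δ_natS_assoc (ProjectiveResolution.of N).complex (flat_of_projectiveResolution _) hS hS' φ]

lemma torOneToTensor_natS (X : ModuleCat.{u} A) :
    torOneToTensor hS X ≫ φ.τ₁ ▷ X =
      ((Tor (ModuleCat.{u} A) 1).map φ.τ₃).app X ≫ torOneToTensor hS' X := by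
  unfold torOneToTensor
  rw [Category.assoc, ← torZero_naturality X φ.τ₁, torδ_natS_assoc hS hS' φ X 0]

end NatS

end Groth.Agent.Helper1.TorLib
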