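import Mathlib
import Groth.Agent.Helper1.FactorFree
import Groth.Agent.Helper1.TorZeroNat

/-!
# A map from a finitely presented module which kills `Tor_1` factors through a free module
-/

set_option autoImplicit false

namespace Groth.Agent.Helper1.FactorFree

open TensorProduct CategoryTheory CategoryTheory.MonoidalCategory Groth.Agent.Helper1.TorLib

universe u

variable {R : Type u} [CommRing R]

/-- `∑_j g(e_j) ⊗ \bar e_j = 0` in `F ⊗ N₀`. -/
lemma sum_tmul_mkQ_eq_zero {n m : ℕ} (a : Fin m → Fin n → R) :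
    ∑ j, (a j) ⊗ₜ[R] ((LinearMap.range (rho a)).mkQ (Pi.single j 1)) = 0 := by
  classical
  have h1 : ∀ j, (a j) ⊗ₜ[R] ((LinearMap.range (rho a)).mkQ (Pi.single j 1)) =
      ∑ i, (Pi.single i (1 : R) : Fin n → R) ⊗ₜ[R]
        ((LinearMap.range (rho a)).mkQ (a j i • Pi.single j 1)) := by
    intro j
    conv_lhs => rw [pi_eq_sum_univ' (a j), TensorProduct.sum_tmul]
    refine Finset.sum_congr rfl fun i _ => ?_
    rw [map_smul, TensorProduct.smul_tmul]
  simp_rw [h1]
  rw [Finset.sum_comm]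
  refine Finset.sum_eq_zero fun i _ => ?_
  rw [← TensorProduct.tmul_sum, ← map_sum]
  have h2 : ∑ j, a j i • (Pi.single j (1 : R) : Fin m → R) = rho a (Pi.single i 1) := by
    ext j
    rw [rho_apply, Finset.sum_apply]
    simp [Pi.single_apply]
  rw [h2]
  have h3 : (LinearMap.range (rho a)).mkQ (rho a (Pi.single i 1)) = 0 := by
    rw [Submodule.mkQ_apply, Submodule.Quotient.mk_eq_zero]
    exact LinearMap.mem_range_self _ _
  rw [h3, TensorProduct.tmul_zero]

theorem factor_through_free (M M' : Type u) [AddCommGroup M] [Module R M]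
    [Module.FinitePresentation R M] [AddCommGroup M'] [Module R M'] (α : M →ₗ[R] M')
    (h : ∀ (N : Type u) [AddCommGroup N] [Module R N],
      ((Tor (ModuleCat.{u} R) 1).map (ModuleCat.ofHom α)).app (ModuleCat.of R N) = 0) :
    ∃ (ι : Type u) (g : M →ₗ[R] (ι →₀ R)) (h : (ι →₀ R) →ₗ[R] M'), α = h ∘ₗ g := by
  classical
  obtain ⟨n, m, π, g, hπ, hgπ⟩ := Module.FinitePresentation.exists_fin' R M
  let K : Submodule R (Fin n → R) := LinearMap.ker π
  have hK : LinearMap.range g = K := (LinearMap.exact_iff.mp hgπ).symm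
  let π' : (M' →₀ R) →ₗ[R] M' := Finsupp.linearCombination R id
  have hπ' : Function.Surjective π' := Finsupp.linearCombination_id_surjective R M'
  let K' : Submodule R (M' →₀ R) := LinearMap.ker π'
  obtain ⟨β, hβ⟩ := Module.projective_lifting_property π' (α ∘ₗ π) hπ'
  have hβ' : ∀ v, π' (β v) = α (π v) := fun v => LinearMap.congr_fun hβ v
  have hβK : ∀ x ∈ K, β x ∈ K' := by
    intro x hx
    rw [LinearMap.mem_ker, hβ', LinearMap.mem_ker.mp hx, map_zero]
  let γ : K →ₗ[R] K' := β.restrict hβK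
  have hS := scOfLinear_shortExact (N₁ := K) (N₂ := (Fin n → R)) (N₃ := M) K.subtype π
    K.injective_subtype hπ (LinearMap.exact_subtype_ker_map π)
  have hS' := scOfLinear_shortExact (N₁ := K') (N₂ := (M' →₀ R)) (N₃ := M') K'.subtype π'
    K'.injective_subtype hπ' (LinearMap.exact_subtype_ker_map π')
  let φ : scOfLinear (N₁ := K) (N₂ := (Fin n → R)) (N₃ := M) K.subtype π
        (LinearMap.exact_subtype_ker_map π) ⟶
      scOfLinear (N₁ := K') (N₂ := (M' →₀ R)) (N₃ := M') K'.subtype π'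
        (LinearMap.exact_subtype_ker_map π') :=
    { τ₁ := ModuleCat.ofHom γ
      τ₂ := ModuleCat.ofHom β
      τ₃ := ModuleCat.ofHom α
      comm₁₂ := by
        ext x
        rfl
      comm₂₃ := by
        ext x
        exact hβ' x }
  -- the matrix and generators
  let a : Fin m → Fin n → R := fun j => g (Pi.single j 1)
  have hak : ∀ j, a j ∈ K := fun j => hK ▸ LinearMap.mem_range_self g _
  let k : Fin m → K := fun j => ⟨a j, hak j⟩
  let N₀ := (Fin m → R) ⧸ LinearMap.range (rho a)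
  let ω : K ⊗[R] N₀ := ∑ j, k j ⊗ₜ[R] ((LinearMap.range (rho a)).mkQ (Pi.single j 1))
  have hω : LinearMap.rTensor N₀ K.subtype ω = 0 := by
    show LinearMap.rTensor N₀ K.subtype
      (∑ j, k j ⊗ₜ[R] ((LinearMap.range (rho a)).mkQ (Pi.single j 1))) = 0
    rw [map_sum]
    simp only [LinearMap.rTensor_tmul]
    exact sum_tmul_mkQ_eq_zero a
  -- lift to `Tor_1`
  have hexact := (ShortComplex.ShortExact.moduleCat_exact_iff_function_exact _).mp
    (torOneToTensor_exact hS (ModuleCat.of R N₀))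
  obtain ⟨z, hz⟩ := (hexact ω).mp hω
  have hnat := torOneToTensor_natS hS hS' φ (ModuleCat.of R N₀)
  have hγω : LinearMap.rTensor N₀ γ ω = 0 := by
    have h1 := LinearMap.congr_fun (congrArg ModuleCat.Hom.hom hnat) z
    have h2 : (((Tor (ModuleCat.{u} R) 1).map φ.τ₃).app (ModuleCat.of R N₀)) = 0 := h N₀
    rw [h2, Limits.zero_comp] at h1
    have h3 : (LinearMap.rTensor N₀ γ) ((torOneToTensor hS (ModuleCat.of R N₀)).hom z) = 0 := h1
    rw [← hz]
    exact h3
  have hsum : ∑ j, (γ (k j)) ⊗ₜ[R] ((LinearMap.range (rho a)).mkQ (Pi.single j 1)) = 0 := by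
    have : LinearMap.rTensor N₀ γ ω =
        ∑ j, (γ (k j)) ⊗ₜ[R] ((LinearMap.range (rho a)).mkQ (Pi.single j 1)) := by
      show LinearMap.rTensor N₀ γ
        (∑ j, k j ⊗ₜ[R] ((LinearMap.range (rho a)).mkQ (Pi.single j 1))) = _
      rw [map_sum]
      simp only [LinearMap.rTensor_tmul]
    rw [← this, hγω]
  obtain ⟨x, hx⟩ := exists_of_sum_tmul_eq_zero K' a (fun j => γ (k j)) hsum
  -- the map `F → K'`
  let hh : (Fin n → R) →ₗ[R] K' := Fintype.linearCombination R x
  have hhv : ∀ v, hh v = ∑ i, v i • x i := fun v => Fintype.linearCombination_apply R x v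
  have hgen : ∀ j, hh (a j) = γ (k j) := fun j => by rw [hhv, hx j]
  have hall : ∀ y : K, hh y = γ y := by
    intro y
    obtain ⟨v, hv⟩ : (y : Fin n → R) ∈ LinearMap.range g := by
      rw [hK]
      exact y.2
    have hy : (y : Fin n → R) = ∑ j, v j • a j := by
      rw [← hv]
      conv_lhs => rw [pi_eq_sum_univ' v, map_sum]
      refine Finset.sum_congr rfl fun j _ => ?_
      rw [map_smul]
    have hy' : y = ∑ j, v j • k j := by
      apply Subtype.ext
      rw [hy, AddSubmonoidClass.coe_finset_sum]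
      rfl
    calc hh y = ∑ j, v j • hh (a j) := by
          rw [hy, map_sum]
          simp_rw [map_smul]
      _ = ∑ j, v j • γ (k j) := by simp_rw [hgen]
      _ = γ y := by
          rw [hy', map_sum]
          simp_rw [map_smul]
  let β₁ : (Fin n → R) →ₗ[R] (M' →₀ R) := β - K'.subtype ∘ₗ hh
  have hβ₁K : K ≤ LinearMap.ker β₁ := by
    intro y hy
    rw [LinearMap.mem_ker]
    show β y - (hh y : M' →₀ R) = 0
    have := hall ⟨y, hy⟩
    rw [sub_eq_zero]
    have h2 : hh y = γ ⟨y, hy⟩ := this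
    rw [h2]
    rfl
  let αbar : M →ₗ[R] (M' →₀ R) :=
    (K.liftQ β₁ hβ₁K) ∘ₗ (LinearMap.quotKerEquivOfSurjective π hπ).symm.toLinearMap
  have hαbar : ∀ v, αbar (π v) = β₁ v := by
    intro v
    show (K.liftQ β₁ hβ₁K) ((LinearMap.quotKerEquivOfSurjective π hπ).symm (π v)) = β₁ v
    rw [LinearMap.quotKerEquivOfSurjective_symm_apply]
    rfl
  refine ⟨M', αbar, π', ?_⟩
  ext y
  obtain ⟨v, rfl⟩ := hπ y
  rw [LinearMap.comp_apply, hαbar]
  show α (π v) = π' (β v - (hh v : M' →₀ R))
  rw [map_sub, hβ']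
  have : π' (hh v : M' →₀ R) = 0 := LinearMap.mem_ker.mp (hh v).2
  rw [this, sub_zero]

end Groth.Agent.Helper1.FactorFree
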