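import Mathlib
import Groth.Agent.Helper1.LocCohBase

set_option autoImplicit false

/-!
# Flat base change for local cohomology
-/

namespace Groth.Agent.Helper1.FlatBC
open CategoryTheory Limits Opposite TensorProduct
open Groth.Agent.Helper1.DeltaFun Groth.Agent.Helper1.LocCohDelta Groth.Agent.Helper1.LocFun

universe u

section algebra

variable {R : Type u} [CommRing R] (R' : Type u) [CommRing R'] [Algebra R R']
  (I : Ideal R) (M : Type u) [AddCommGroup M] [Module R M]

lemma lTensor_mem_torsionSub (y : R' ⊗[R] DRing.torsionSub I M) :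
    LinearMap.lTensor R' (DRing.torsionSub I M).subtype y ∈ DRing.torsionSub I (R' ⊗[R] M) := by
  induction y using TensorProduct.induction_on with
  | zero =>
    rw [map_zero]
    exact Submodule.zero_mem _
  | tmul r e =>
    obtain ⟨e, m, hm⟩ := e
    refine ⟨m, fun c hc => ?_⟩
    show c • (r ⊗ₜ[R] e) = 0
    rw [TensorProduct.smul_tmul', TensorProduct.smul_tmul, hm c hc, TensorProduct.tmul_zero]
  | add y z hy hz =>
    rw [map_add]
    exact Submodule.add_mem _ hy hz

variable [IsNoetherianRing R] [Module.Flat R R']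

theorem mem_torsionSub_tensor_iff (x : R' ⊗[R] M) :
    x ∈ DRing.torsionSub I (R' ⊗[R] M) ↔
      x ∈ LinearMap.range (LinearMap.lTensor R' (DRing.torsionSub I M).subtype) := by
  classical
  constructor
  · rintro ⟨m, hm⟩
    obtain ⟨s, hs⟩ : (I ^ m).FG := IsNoetherian.noetherian _
    let φ : M →ₗ[R] (s → M) := LinearMap.pi (fun c => (c : R) • LinearMap.id)
    let K : Submodule R M := LinearMap.ker φ
    have hK : K ≤ DRing.torsionSub I M := by
      intro e he
      refine ⟨m, fun c hc => ?_⟩
      have he' : ∀ c : s, (c : R) • e = 0 := fun c => congrFun he c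
      rw [← hs] at hc
      induction hc using Submodule.span_induction with
      | mem c hc => exact he' ⟨c, hc⟩
      | zero => rw [zero_smul]
      | add c d _ _ hc hd => rw [add_smul, hc, hd, add_zero]
      | smul r c _ hc => rw [smul_eq_mul, mul_smul, hc, smul_zero]
    have hex : Function.Exact K.subtype φ := LinearMap.exact_subtype_ker_map φ
    have hex' := Module.Flat.lTensor_exact R' hex
    have h1 : (TensorProduct.piRight R R R' (fun _ : s => M)).toLinearMap ∘ₗ LinearMap.lTensor R' φ =
        (LinearMap.pi (fun c : s => (c : R) • LinearMap.id) :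
          (R' ⊗[R] M) →ₗ[R] (s → R' ⊗[R] M)) := by
      apply TensorProduct.ext'
      intro r e
      ext c
      show (TensorProduct.piRight R R R' (fun _ : s => M)) (r ⊗ₜ[R] φ e) c = (c : R) • (r ⊗ₜ[R] e)
      rw [TensorProduct.piRight_apply, TensorProduct.piRightHom_tmul]
      show r ⊗ₜ[R] ((c : R) • e) = _
      rw [TensorProduct.tmul_smul]
    have h2 : LinearMap.lTensor R' φ x = 0 := by
      apply (TensorProduct.piRight R R R' (fun _ : s => M)).injective
      have := LinearMap.congr_fun h1 x
      rw [LinearMap.comp_apply, LinearEquiv.coe_coe] at this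
      rw [this, map_zero]
      ext c
      exact hm c (hs ▸ Submodule.subset_span c.2)
    obtain ⟨y, hy⟩ := (hex' x).1 h2
    refine ⟨LinearMap.lTensor R' (Submodule.inclusion hK) y, ?_⟩
    rw [← LinearMap.comp_apply, ← LinearMap.lTensor_comp, ← hy]
    rfl
  · rintro ⟨y, rfl⟩
    exact lTensor_mem_torsionSub R' I M y

end algebra

section loc

variable {R : Type u} [CommRing R] (R' : Type u) [CommRing R'] [Algebra R R']
  (b : R) (E : Type u) [AddCommGroup E] [Module R E]

instance isLocalizedModule_lTensor :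
    IsLocalizedModule (Submonoid.powers b)
      (LinearMap.lTensor R' (LocalizedModule.mkLinearMap (Submonoid.powers b) E)) := by
  have h0 : IsLocalizedModule (Submonoid.powers b)
      (TensorProduct.AlgebraTensorModule.rTensor R R'
        (LocalizedModule.mkLinearMap (Submonoid.powers b) E)) := inferInstance
  have h1 : LinearMap.lTensor R' (LocalizedModule.mkLinearMap (Submonoid.powers b) E) =
      ((TensorProduct.comm R (LocalizedModule (Submonoid.powers b) E) R').toLinearMap ∘ₗ
        (TensorProduct.AlgebraTensorModule.rTensor R R'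
          (LocalizedModule.mkLinearMap (Submonoid.powers b) E))) ∘ₗ
        (TensorProduct.comm R R' E).toLinearMap := by
    apply TensorProduct.ext'
    intro r e
    rfl
  rw [h1]
  infer_instance

/-- `(R' ⊗ E)_b ≃ R' ⊗ E_b` -/
noncomputable def locTensorEquiv :
    LocalizedModule (Submonoid.powers b) (R' ⊗[R] E) ≃ₗ[R]
      R' ⊗[R] LocalizedModule (Submonoid.powers b) E :=
  IsLocalizedModule.iso (Submonoid.powers b)
    (LinearMap.lTensor R' (LocalizedModule.mkLinearMap (Submonoid.powers b) E))

end loc

section div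

variable {R : Type u} [CommRing R] [IsNoetherianRing R] (R' : Type u) [CommRing R'] [Algebra R R']
  [Module.Flat R R']

lemma hdiv_aux (b : R) (N : Type u) [AddCommGroup N] [Module R N] [Module.Injective R N] (n : ℕ)
    (y : R' ⊗[R] N) : ∃ (z : R' ⊗[R] N) (l : ℕ), b ^ (l + n) • z = b ^ l • y := by
  induction y using TensorProduct.induction_on with
  | zero => exact ⟨0, 0, by rw [smul_zero, smul_zero]⟩
  | tmul r e =>
    obtain ⟨y, l, hl⟩ := LocCohRestr.exists_pow_smul_eq b N e n
    refine ⟨r ⊗ₜ[R] y, l, ?_⟩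
    rw [TensorProduct.smul_tmul', TensorProduct.smul_tmul, hl, ← TensorProduct.smul_tmul,
      ← TensorProduct.smul_tmul']
  | add y₁ y₂ h₁ h₂ =>
    obtain ⟨z₁, l₁, h₁⟩ := h₁
    obtain ⟨z₂, l₂, h₂⟩ := h₂
    refine ⟨z₁ + z₂, l₁ + l₂, ?_⟩
    have e1 : b ^ (l₁ + l₂ + n) = b ^ l₂ * b ^ (l₁ + n) := by ring
    have e2 : b ^ (l₁ + l₂ + n) = b ^ l₁ * b ^ (l₂ + n) := by ring
    rw [smul_add, smul_add]
    congr 1
    · rw [e1, mul_smul, h₁, smul_smul, ← pow_add, add_comm]
    · rw [e2, mul_smul, h₂, smul_smul, ← pow_add]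

lemma hdiv_tensor (a : Ideal R) (b : R) (E : Type u) [AddCommGroup E] [Module R E]
    [Module.Injective R E] (x : R' ⊗[R] E) (hx : x ∈ DRing.torsionSub a (R' ⊗[R] E)) (n : ℕ) :
    ∃ y ∈ DRing.torsionSub a (R' ⊗[R] E), ∃ l : ℕ, b ^ (l + n) • y = b ^ l • x := by
  obtain ⟨y', rfl⟩ := (mem_torsionSub_tensor_iff R' a E x).1 hx
  have hN : Module.Injective R (DRing.torsionSub a E) :=
    GammaInj.injective_torsionSub (R := R) (E := E) a
  obtain ⟨z, l, hl⟩ := hdiv_aux R' b (DRing.torsionSub a E) n y'
  refine ⟨_, lTensor_mem_torsionSub R' a E z, l, ?_⟩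
  rw [← map_smul, hl, map_smul]

end div

section acyc

open Groth.Agent.Helper1.LocCohLES Groth.Agent.Helper1.LocCohRestr

variable {R : Type u} [CommRing R] [IsNoetherianRing R] (R' : Type u) [CommRing R'] [Algebra R R']
  [Module.Flat R R']

theorem isZero_lc_tensor (s : Finset R) :
    ∀ (E : Type u) [AddCommGroup E] [Module R E] [Module.Injective R E] (n : ℕ),
      IsZero ((localCohomology (Ideal.span (s : Set R)) (n + 1)).obj
        (ModuleCat.of R (R' ⊗[R] E))) := by
  classical
  induction s using Finset.induction_on with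
  | empty =>
    intro E _ _ _ n
    rw [Finset.coe_empty, Ideal.span_empty]
    exact ModuleCat.isZero_iff_subsingleton.2 (LocCohCd.cdLE_bot (R' ⊗[R] E) (n + 1) (by omega))
  | insert b s hb ih =>
    rw [Finset.coe_insert, Ideal.span_insert, sup_comm]
    intro E _ _ _ n
    set a : Ideal R := Ideal.span (s : Set R) with ha
    let M : ModuleCat.{u} R := ModuleCat.of R (R' ⊗[R] E)
    obtain ⟨w1, e1⟩ := exact₁ a b n M
    have h3 : IsZero ((localCohomology a (n + 1)).obj M) := ih E n
    cases n with
    | zero =>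
      obtain ⟨w3, -⟩ := exact₃ a b 0 M
      have hepi := epi_lc_zero_map_η a b M
        (β_surjective_of_div a b M (fun x hx n => hdiv_tensor R' a b E x hx n))
      have h0 : conn a b 0 M = 0 := by
        rw [← cancel_epi ((localCohomology a 0).map ((η b).app M)), w3, comp_zero]
      exact e1.isZero_of_both_zeros h0 (h3.eq_of_tgt _ _)
    | succ m =>
      have hinj : Module.Injective R (LocalizedModule (Submonoid.powers b) E) :=
        injective_localizedModule _ E
      have h1 : IsZero ((localCohomology a (m + 1)).obj ((L b).obj M)) :=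
        IsZero.of_iso (ih (LocalizedModule (Submonoid.powers b) E) m)
          ((localCohomology a (m + 1)).mapIso (locTensorEquiv R' b E).toModuleIso)
      exact e1.isZero_of_both_isZero h1 h3

theorem isZero_lc_tensor' (I : Ideal R) (E : Type u) [AddCommGroup E] [Module R E]
    [Module.Injective R E] (n : ℕ) :
    IsZero ((localCohomology I (n + 1)).obj (ModuleCat.of R (R' ⊗[R] E))) := by
  obtain ⟨s, rfl⟩ : I.FG := IsNoetherian.noetherian I
  exact isZero_lc_tensor R' s E n

end acyc

section functor

variable {R : Type u} [CommRing R] (R' : Type u) [CommRing R'] [Algebra R R']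

/-- base change `M ↦ R' ⊗[R] M` (with the `Algebra.toModule` structure on `R'`) -/
noncomputable def BC : ModuleCat.{u} R ⥤ ModuleCat.{u} R' where
  obj M := ModuleCat.of R' (R' ⊗[R] M)
  map f := ModuleCat.ofHom (f.hom.baseChange R')
  map_id M := by
    ext : 1
    exact LinearMap.baseChange_id
  map_comp f g := by
    ext : 1
    exact LinearMap.baseChange_comp _ _

lemma BC_map_apply {M N : ModuleCat.{u} R} (f : M ⟶ N) (x : R' ⊗[R] M) :
    ((BC R').map f).hom x = LinearMap.lTensor R' f.hom x := rfl

instance : (BC (R := R) R').Additive where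
  map_add {M N f g} := by
    ext : 1
    exact LinearMap.baseChange_add _ _

variable [Module.Flat R R']

lemma BC_shortExact (T : ShortComplex (ModuleCat.{u} R)) (hT : T.ShortExact) :
    (T.map (BC R')).ShortExact where
  exact := by
    rw [ShortComplex.ShortExact.moduleCat_exact_iff_function_exact]
    have h := (ShortComplex.ShortExact.moduleCat_exact_iff_function_exact T).1 hT.exact
    exact Module.Flat.lTensor_exact R' h
  mono_f := by
    have := hT.mono_f
    exact (ModuleCat.mono_iff_injective ((BC R').map T.f)).2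
      (Module.Flat.lTensor_preserves_injective_linearMap T.f.hom
        ((ModuleCat.mono_iff_injective T.f).1 inferInstance))
  epi_g := by
    have := hT.epi_g
    exact (ModuleCat.epi_iff_surjective ((BC R').map T.g)).2
      (LinearMap.lTensor_surjective R' ((ModuleCat.epi_iff_surjective T.g).1 inferInstance))

instance : PreservesFiniteLimits (BC (R := R) R') := by
  rw [Functor.preservesFiniteLimits_iff_forall_exact_map_and_mono]
  intro T hT
  have h := BC_shortExact R' T hT
  exact ⟨h.exact, h.mono_f⟩

instance : PreservesFiniteColimits (BC (R := R) R') := by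
  rw [Functor.preservesFiniteColimits_iff_forall_exact_map_and_epi]
  intro T hT
  have h := BC_shortExact R' T hT
  exact ⟨h.exact, h.epi_g⟩

end functor

section theta

variable {R : Type u} [CommRing R] (R' : Type u) [CommRing R'] [Algebra R R'] (I : Ideal R)

lemma BC_map_ι_mem (M : ModuleCat.{u} R) (z : (BC R').obj ((DRing.gammaI I).obj M)) :
    ((BC R').map ((DRing.gammaIι I).app M)).hom z ∈
      DRing.torsionSub (I.map (algebraMap R R')) (R' ⊗[R] M) :=
  (LocCohRestr.mem_torsionSub_map_iff I (R' ⊗[R] M) _).2 (lTensor_mem_torsionSub R' I M z)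

/-- the comparison `R' ⊗ Γ_I(M) ⟶ Γ_{IR'}(R' ⊗ M)` -/
noncomputable def θapp (M : ModuleCat.{u} R) :
    (DRing.gammaI I ⋙ BC R').obj M ⟶ (BC R' ⋙ DRing.gammaI (I.map (algebraMap R R'))).obj M :=
  ModuleCat.ofHom (LinearMap.codRestrict (DRing.torsionSub (I.map (algebraMap R R')) (R' ⊗[R] M))
    ((BC R').map ((DRing.gammaIι I).app M)).hom (BC_map_ι_mem R' I M))

lemma θapp_val (M : ModuleCat.{u} R) (z : (BC R').obj ((DRing.gammaI I).obj M)) :
    @Subtype.val (R' ⊗[R] M) (fun w => w ∈ DRing.torsionSub (I.map (algebraMap R R')) (R' ⊗[R] M))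
      ((θapp R' I M).hom z) = ((BC R').map ((DRing.gammaIι I).app M)).hom z := rfl

/-- the natural transformation `R' ⊗ Γ_I(-) ⟶ Γ_{IR'}(R' ⊗ -)` -/
noncomputable def θ : DRing.gammaI I ⋙ BC R' ⟶ BC R' ⋙ DRing.gammaI (I.map (algebraMap R R')) where
  app M := θapp R' I M
  naturality M N f := by
    ext z
    apply Subtype.ext
    have h1 : ((BC R').map ((DRing.gammaI I).map f) ≫
        (BC R').map ((DRing.gammaIι I).app N)) =
        (BC R').map ((DRing.gammaIι I).app M) ≫ (BC R').map f := by
      rw [← Functor.map_comp, ← Functor.map_comp]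
      congr 1
    exact congrArg (fun t => t.hom z) h1

variable [IsNoetherianRing R] [Module.Flat R R']

lemma θapp_bijective (M : ModuleCat.{u} R) :
    Function.Bijective (θapp R' I M).hom := by
  constructor
  · intro z₁ z₂ h
    have h1 := congrArg Subtype.val h
    rw [θapp_val, θapp_val] at h1
    exact Module.Flat.lTensor_preserves_injective_linearMap (M := R')
      (DRing.torsionSub I M).subtype (Submodule.injective_subtype _) h1
  · rintro ⟨z, hz⟩
    have hz' : (z : R' ⊗[R] M) ∈ DRing.torsionSub (I.map (algebraMap R R')) (R' ⊗[R] M) := hz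
    have hz'' : (z : R' ⊗[R] M) ∈ DRing.torsionSub I (R' ⊗[R] M) :=
      (LocCohRestr.mem_torsionSub_map_iff I (R' ⊗[R] M) z).1 hz'
    obtain ⟨y, hy⟩ := (mem_torsionSub_tensor_iff R' I M z).1 hz''
    exact ⟨y, Subtype.ext hy⟩

instance (M : ModuleCat.{u} R) : IsIso ((θ R' I).app M) :=
  (ConcreteCategory.isIso_iff_bijective _).2 (θapp_bijective R' I M)

instance : IsIso (θ R' I) := NatIso.isIso_of_isIso_app _

end theta

end Groth.Agent.Helper1.FlatBC

namespace Groth.Agent.Helper1.FlatBC
open CategoryTheory Limits Opposite TensorProduct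
open Groth.Agent.Helper1.DeltaFun Groth.Agent.Helper1.LocCohDelta Groth.Agent.Helper1.LocFun

universe u

variable {R : Type u} [CommRing R] [IsNoetherianRing R] (R' : Type u) [CommRing R']
  [IsNoetherianRing R'] [Algebra R R'] [Module.Flat R R'] (I : Ideal R)

/-- `R' ⊗ H^•_I(-)` -/
noncomputable abbrev T₁ : DeltaFunctor (ModuleCat.{u} R) (ModuleCat.{u} R') :=
  (lcDelta I).postcomp (BC R')

/-- `H^•_{IR'}(R' ⊗ -)` -/
noncomputable abbrev T₂ : DeltaFunctor (ModuleCat.{u} R) (ModuleCat.{u} R') :=
  (lcDelta (I.map (algebraMap R R'))).precomp (BC R') (fun T hT => BC_shortExact R' T hT)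

lemma T₁_effaceable : (T₁ R' I).Effaceable := fun E _ n =>
  Functor.map_isZero (BC R') (lcDelta_effaceable _ E n)

lemma T₂_effaceable : (T₂ R' I).Effaceable := by
  intro E _ n
  have hE : Module.Injective R E := Module.injective_module_of_injective_object R E
  have h := isZero_lc_tensor' R' I E n
  have h' : IsZero ((LocCohBase.Res R R' ⋙ localCohomology I (n + 1)).obj ((BC R').obj E)) :=
    IsZero.of_iso h ((localCohomology I (n + 1)).mapIso (LocCohBase.resObjIso (R' ⊗[R] E)))
  have h'' := IsZero.of_iso h' ((LocCohBase.baseIso (R' := R') I (n + 1)).app ((BC R').obj E))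
  rw [ModuleCat.isZero_iff_subsingleton] at h'' ⊢
  exact h''

/-- the degree `0` comparison -/
noncomputable def e₀ : (T₁ R' I).T 0 ≅ (T₂ R' I).T 0 :=
  Functor.isoWhiskerRight (lcZeroIso I) (BC R') ≪≫ asIso (θ R' I) ≪≫
    (Functor.isoWhiskerLeft (BC R') (lcZeroIso (I.map (algebraMap R R')))).symm

/-- flat base change for local cohomology -/
noncomputable def bcIso (n : ℕ) :
    localCohomology I n ⋙ BC R' ≅ BC R' ⋙ localCohomology (I.map (algebraMap R R')) n :=
  isoOfEffaceable (T := T₁ R' I) (T' := T₂ R' I) (T₁_effaceable R' I) (T₂_effaceable R' I)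
    (e₀ R' I) n

theorem nonempty_linearEquiv (M : Type u) [AddCommGroup M] [Module R M] (i : ℕ) :
    Nonempty (R' ⊗[R] ((localCohomology I i).obj (ModuleCat.of R M)) ≃ₗ[R']
      (localCohomology (I.map (algebraMap R R')) i).obj (ModuleCat.of R' (R' ⊗[R] M))) :=
  ⟨((bcIso R' I i).app (ModuleCat.of R M)).toLinearEquiv⟩

end Groth.Agent.Helper1.FlatBC
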