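import Mathlib
import Groth.Prelude.Def_CAlg
import Groth.Agent.Helper3.Chevalley
import Groth.Agent.Helper6.Bass5
import Groth.Agent.Helper2.Depth
import Groth.Agent.Helper1.ExtBridgeLin

set_option autoImplicit false
set_option linter.style.haveILetI false

/-!
# Hartshorne–Lichtenbaum vanishing: the Gorenstein case

For a complete Gorenstein local domain `B` of dimension `d` and a prime `q` with `dim B/q = 1`
we show `H^d_q(B) = 0`, using Chevalley's lemma (symbolic powers are cofinal with ordinary powers)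
and the vanishing `Ext^d(N, B) = 0` for finite modules `N` of positive depth.
-/

namespace Groth.Agent.Helper1.HLVT
open CategoryTheory Limits Opposite IsLocalRing

universe u

section cat
variable {J : Type*} [Category J] {C : Type*} [Category C] [HasZeroMorphisms C]

lemma isZero_colimit_of_eventually_zero (F : J ⥤ C) [HasColimit F]
    (h : ∀ j, ∃ (j' : J) (f : j ⟶ j'), F.map f = 0) : IsZero (colimit F) := by
  rw [IsZero.iff_id_eq_zero]
  apply colimit.hom_ext
  intro j
  obtain ⟨j', f, hf⟩ := h j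
  rw [Category.comp_id, comp_zero, ← colimit.w F f, hf, zero_comp]

end cat

variable {B : Type u} [CommRing B]

/-- criterion: local cohomology vanishes if each power `q^k` contains an ideal `a ⊇ q^k'`
with `Ext^d(B/a, M) = 0` -/
theorem isZero_lc_of_cofinal (q : Ideal B) (d : ℕ) (M : ModuleCat.{u} B)
    (h : ∀ k : ℕ, ∃ (k' : ℕ) (a : Ideal B), k ≤ k' ∧ q ^ k' ≤ a ∧ a ≤ q ^ k ∧
      Subsingleton (Abelian.Ext (ModuleCat.of B (B ⧸ a)) M d)) :
    IsZero ((localCohomology q d).obj M) := by
  have e := colimitObjIsoColimitCompEvaluation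
    (localCohomology.diagram (localCohomology.idealPowersDiagram q) d) M
  refine IsZero.of_iso ?_ e
  apply isZero_colimit_of_eventually_zero
  intro j
  obtain ⟨k', a, hkk', h1, h2, hsub⟩ := h j.unop.unop
  refine ⟨op (op k'), (homOfLE hkk').op.op, ?_⟩
  let g₁ : ModuleCat.of B (B ⧸ q ^ k') ⟶ ModuleCat.of B (B ⧸ a) :=
    ModuleCat.ofHom (Submodule.mapQ (q ^ k') a LinearMap.id h1)
  let g₂ : ModuleCat.of B (B ⧸ a) ⟶ ModuleCat.of B (B ⧸ q ^ j.unop.unop) :=
    ModuleCat.ofHom (Submodule.mapQ a (q ^ j.unop.unop) LinearMap.id h2)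
  have hZ : IsZero (((Ext B (ModuleCat.{u} B) d).obj (op (ModuleCat.of B (B ⧸ a)))).obj M) := by
    obtain ⟨e'⟩ := Groth.Agent.Helper1.ExtBridgeLin.nonempty_linearEquiv (ModuleCat.of B (B ⧸ a)) M d
    exact ModuleCat.isZero_iff_subsingleton.2 e'.toEquiv.subsingleton
  have hg : g₁ ≫ g₂ = (localCohomology.ringModIdeals (localCohomology.idealPowersDiagram q)).map
      ((homOfLE hkk').op : op k' ⟶ j.unop) := by
    apply ModuleCat.hom_ext
    apply LinearMap.ext
    intro x
    obtain ⟨x, rfl⟩ := Submodule.Quotient.mk_surjective _ x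
    rfl
  have hfac : ((localCohomology.diagram (localCohomology.idealPowersDiagram q) d) ⋙
      (evaluation _ _).obj M).map ((homOfLE hkk').op.op : j ⟶ op (op k')) =
      ((Ext B (ModuleCat.{u} B) d).map g₂.op).app M ≫ ((Ext B (ModuleCat.{u} B) d).map g₁.op).app M := by
    rw [← NatTrans.comp_app, ← Functor.map_comp, ← op_comp, hg]
    rfl
  rw [hfac, hZ.eq_of_tgt (((Ext B (ModuleCat.{u} B) d).map g₂.op).app M) 0]
  exact zero_comp


section gor

open Groth.Agent.Helper3.Chevalley

variable [IsDomain B] [LocCoh.IsGorensteinLocalRing B]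

/-- the symbolic powers (of positive exponent) are proper ideals -/
lemma S_ne_top (q : Ideal B) [q.IsPrime] (m : ℕ) (hm : 1 ≤ m) : S q m ≠ ⊤ := by
  intro h
  have h1 : (1 : B) ∈ S q m := h ▸ Submodule.mem_top
  have h2 : algebraMap B (Localization.AtPrime q) 1 ∈
      (q.map (algebraMap B (Localization.AtPrime q))) ^ m := h1
  have h3 : (q.map (algebraMap B (Localization.AtPrime q))) ^ m ≤
      q.map (algebraMap B (Localization.AtPrime q)) := Ideal.pow_le_self (by omega)
  have h4 := h3 h2
  rw [map_one, Localization.AtPrime.map_eq_maximalIdeal] at h4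
  exact (Ideal.ne_top_iff_one _).1 (Ideal.IsPrime.ne_top inferInstance) h4

/-- elements outside `q` are regular on `B ⧸ q^(m)` -/
lemma isSMulRegular_quotient_S (q : Ideal B) [q.IsPrime] (m : ℕ) (s : B) (hs : s ∉ q) :
    IsSMulRegular (B ⧸ S q m) s := by
  intro x y hxy
  obtain ⟨x, rfl⟩ := Ideal.Quotient.mk_surjective x
  obtain ⟨y, rfl⟩ := Ideal.Quotient.mk_surjective y
  have h1 : Ideal.Quotient.mk (S q m) (s * x) = Ideal.Quotient.mk (S q m) (s * y) := by
    simpa [Algebra.smul_def] using hxy
  rw [Ideal.Quotient.eq] at h1 ⊢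
  have h2 : algebraMap B (Localization.AtPrime q) (s * x - s * y) ∈
      (q.map (algebraMap B (Localization.AtPrime q))) ^ m := h1
  have hu : IsUnit (algebraMap B (Localization.AtPrime q) s) :=
    IsLocalization.map_units (Localization.AtPrime q) (⟨s, hs⟩ : q.primeCompl)
  have h3 : algebraMap B (Localization.AtPrime q) (x - y) ∈
      (q.map (algebraMap B (Localization.AtPrime q))) ^ m := by
    rw [← mul_sub, map_mul] at h2
    exact (Ideal.unit_mul_mem_iff_mem _ hu).1 h2
  exact h3

theorem gorenstein_case [IsAdicComplete (maximalIdeal B) B] (d : ℕ) (hd : ringKrullDim B = d)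
    (q : Ideal B) [q.IsPrime] (hq : ringKrullDim (B ⧸ q) = 1) :
    IsZero ((localCohomology q d).obj (ModuleCat.of B B)) := by
  -- an element of the maximal ideal outside `q`
  have hqm : q ≠ maximalIdeal B := by
    intro h
    have : ringKrullDim (B ⧸ q) = 0 := by
      rw [h]
      exact ringKrullDim_eq_zero_of_isField (Ideal.Quotient.maximal_ideal_iff_isField_quotient _ |>.1
        (maximalIdeal.isMaximal B))
    rw [hq] at this
    exact one_ne_zero this
  obtain ⟨s, hsm, hsq⟩ : ∃ s ∈ maximalIdeal B, s ∉ q := by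
    by_contra hcon
    push Not at hcon
    exact hqm (le_antisymm (le_maximalIdeal (Ideal.IsPrime.ne_top inferInstance)) hcon)
  apply isZero_lc_of_cofinal
  intro k
  obtain ⟨m, hkm, hS⟩ := main q hq k
  refine ⟨max m 1, S q (max m 1), hkm.trans (le_max_left _ _), pow_le_S q _,
    (S_antitone q (le_max_left m 1)).trans hS, ?_⟩
  haveI : Nontrivial (B ⧸ S q (max m 1)) :=
    Ideal.Quotient.nontrivial_iff.2 (S_ne_top q _ (le_max_right _ _))
  rw [← Groth.Agent.Helper6.Bass.depth_pos_iff d hd (B ⧸ S q (max m 1))]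
  rw [pos_iff_ne_zero, Ne, Groth.Agent.Helper2.Depth.depth_eq_zero_iff]
  intro hall
  exact hall s hsm (isSMulRegular_quotient_S q _ s hsq)

end gor

end Groth.Agent.Helper1.HLVT
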