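import Mathlib
import Groth.Prelude.Def_CAlg
import Groth.Agent.Helper5.IntegralDim
import Groth.Agent.Helper3.GorField2
import Groth.Agent.Helper7.SegGorD
import Groth.Agent.Helper8.AdicProj

set_option autoImplicit false
set_option linter.style.haveILetI false
set_option linter.unusedSectionVars false

/-!
# Hartshorne–Lichtenbaum vanishing: auxiliary ring theory

Local rings under integral extensions, adic completeness and the topology, monogenic
extensions of Gorenstein complete local rings.
-/

namespace Groth.Agent.Helper1.HLVT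
open Polynomial IsLocalRing

universe u

section intloc
variable {S T : Type*} [CommRing S] [CommRing T] [Algebra S T] [Algebra.IsIntegral S T]
  [FaithfulSMul S T]

/-- a ring over which a local ring is integral (and faithful) is local -/
theorem isLocalRing_of_isIntegral [IsLocalRing T] : IsLocalRing S := by
  haveI : Nontrivial S := RingHom.domain_nontrivial (algebraMap S T)
  refine IsLocalRing.of_unique_max_ideal ⟨(maximalIdeal T).comap (algebraMap S T),
    Ideal.isMaximal_comap_of_isIntegral_of_isMaximal _, ?_⟩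
  intro 𝔫 h𝔫
  haveI := h𝔫
  obtain ⟨Q, hQ, hQ'⟩ := Ideal.exists_ideal_over_maximal_of_isIntegral (S := T) 𝔫 (by
    simp [(RingHom.injective_iff_ker_eq_bot _).mp (FaithfulSMul.algebraMap_injective S T)])
  rw [← hQ', IsLocalRing.eq_maximalIdeal hQ]

omit [FaithfulSMul S T] in
theorem comap_maximalIdeal_of_isIntegral [IsLocalRing T] [IsLocalRing S] :
    (maximalIdeal T).comap (algebraMap S T) = maximalIdeal S :=
  IsLocalRing.eq_maximalIdeal (Ideal.isMaximal_comap_of_isIntegral_of_isMaximal _)

omit [FaithfulSMul S T] in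
theorem isLocalHom_of_isIntegral [IsLocalRing T] [IsLocalRing S] : IsLocalHom (algebraMap S T) := by
  refine ⟨fun x hx => ?_⟩
  by_contra hnu
  have h1 : x ∈ maximalIdeal S := (mem_maximalIdeal x).2 hnu
  rw [← comap_maximalIdeal_of_isIntegral (T := T), Ideal.mem_comap, mem_maximalIdeal] at h1
  exact h1 hx

omit [FaithfulSMul S T] in
/-- the maximal ideal of `T` is the radical of the extension of the maximal ideal of `S` -/
theorem maximalIdeal_le_radical_map [IsLocalRing T] [IsLocalRing S] :
    maximalIdeal T ≤ ((maximalIdeal S).map (algebraMap S T)).radical := by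
  rw [Ideal.radical_eq_sInf]
  refine le_sInf ?_
  rintro Q ⟨hQ1, hQ2⟩
  haveI := hQ2
  have h1 : maximalIdeal S ≤ Q.comap (algebraMap S T) := Ideal.map_le_iff_le_comap.1 hQ1
  have h2 : Q.comap (algebraMap S T) = maximalIdeal S :=
    ((maximalIdeal.isMaximal S).eq_of_le (Ideal.comap_ne_top _ hQ2.ne_top) h1).symm
  have h3 : Q.IsMaximal := Ideal.isMaximal_of_isIntegral_of_isMaximal_comap (R := S) Q
    (h2 ▸ maximalIdeal.isMaximal S)
  rw [IsLocalRing.eq_maximalIdeal h3]

end intloc

section top
variable {R : Type*} [CommRing R] {M : Type*} [AddCommGroup M] [Module R M]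

lemma smodEq_mono {N N' : Submodule R M} (h : N ≤ N') {x y : M} (hxy : x ≡ y [SMOD N]) :
    x ≡ y [SMOD N'] := by
  rw [SModEq.sub_mem] at hxy ⊢
  exact h hxy

/-- adic completeness only depends on the topology -/
theorem isAdicComplete_of_le_of_pow_le (I J : Ideal R) (r : ℕ) (h1 : I ≤ J) (h2 : J ^ r ≤ I)
    [IsAdicComplete I M] : IsAdicComplete J M := by
  have h2' : J ^ (r + 1) ≤ I := (Ideal.pow_le_pow_right (Nat.le_succ r)).trans h2
  have hpow : ∀ n : ℕ, (J ^ ((r + 1) * n) • ⊤ : Submodule R M) ≤ I ^ n • ⊤ := by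
    intro n
    rw [pow_mul]
    exact Submodule.smul_mono (Ideal.pow_right_mono h2' n) le_rfl
  have hIJ : ∀ n : ℕ, (I ^ n • ⊤ : Submodule R M) ≤ J ^ n • ⊤ := fun n =>
    Submodule.smul_mono (Ideal.pow_right_mono h1 n) le_rfl
  refine { haus' := ?_, prec' := ?_ }
  · intro x hx
    apply IsHausdorff.haus' (I := I) x
    intro n
    exact smodEq_mono (hpow n) (hx _)
  · intro f hf
    obtain ⟨L, hL⟩ := IsPrecomplete.prec' (I := I) (fun n => f ((r + 1) * n)) (by
      intro m n hmn
      exact smodEq_mono (hpow m) (hf (Nat.mul_le_mul_left _ hmn)))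
    refine ⟨L, fun n => ?_⟩
    have h3 : f n ≡ f ((r + 1) * n) [SMOD (J ^ n • ⊤ : Submodule R M)] :=
      hf (Nat.le_mul_of_pos_left n (Nat.succ_pos r))
    exact h3.trans (smodEq_mono (hIJ n) (hL n))

end top

section complete

variable (A B : Type*) [CommRing A] [IsLocalRing A] [CommRing B] [IsLocalRing B]
  [IsNoetherianRing B] [Algebra A B] [Module.Finite A B] [Module.Projective A B]

/-- a local ring which is finite projective over a complete local ring is complete -/
theorem isAdicComplete_of_finite_projective [IsAdicComplete (maximalIdeal A) A] :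
    IsAdicComplete (maximalIdeal B) B := by
  haveI : Algebra.IsIntegral A B := Algebra.IsIntegral.of_finite A B
  haveI h1 : IsAdicComplete (maximalIdeal A) B :=
    Groth.Agent.Helper8.AdicProj.isAdicComplete_of_finite_projective (maximalIdeal A) B
  haveI h2 : IsAdicComplete ((maximalIdeal A).map (algebraMap A B)) B :=
    (IsAdicComplete.map_algebraMap_iff _ _).mpr h1
  haveI := isLocalHom_of_isIntegral (S := A) (T := B)
  obtain ⟨r, hr⟩ := Ideal.exists_pow_le_of_le_radical_of_fg
    (maximalIdeal_le_radical_map (S := A) (T := B)) (IsNoetherian.noetherian _)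
  exact isAdicComplete_of_le_of_pow_le ((maximalIdeal A).map (algebraMap A B)) (maximalIdeal B) r
    (IsLocalRing.map_maximalIdeal_le _) hr

end complete

section gor

/-- a local monogenic extension `A[X]/(g)`, `g` monic, of a Gorenstein local ring is Gorenstein -/
theorem gorLocal_adjoinRoot (A : Type u) [CommRing A] [hA : LocCoh.IsGorensteinLocalRing A]
    (g : A[X]) (hg : g.Monic) [IsLocalRing (AdjoinRoot g)] :
    LocCoh.IsGorensteinLocalRing (AdjoinRoot g) := by
  haveI : LocCoh.IsGorensteinRing A := Groth.Agent.Helper3.GorField2.gorenstein_of_gorLocal A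
  haveI : LocCoh.IsGorensteinRing (AdjoinRoot g) :=
    Groth.Agent.Helper3.GorField.gorenstein_adjoinRoot A g hg
  have h := LocCoh.IsGorensteinRing.isGorensteinLocalRing_localization
    (A := AdjoinRoot g) (maximalIdeal (AdjoinRoot g))
  have e : AdjoinRoot g ≃ₐ[AdjoinRoot g] Localization.AtPrime (maximalIdeal (AdjoinRoot g)) :=
    IsLocalization.atUnits _ (maximalIdeal (AdjoinRoot g)).primeCompl (fun x hx => by
      have : x ∉ maximalIdeal (AdjoinRoot g) := hx
      rw [mem_maximalIdeal, mem_nonunits_iff, not_not] at this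
      exact this)
  exact Groth.Agent.Helper7.SegGor.gorLocal_of_ringEquiv e.symm.toRingEquiv h

end gor

end Groth.Agent.Helper1.HLVT
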