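import Mathlib
import Groth.Agent.Helper1.HLVT1
import Groth.Agent.Helper1.HLVT2
import Groth.Agent.Helper1.LocCohBase
import Groth.Agent.Helper1.LocCohRing
import Groth.Agent.Helper1.LocCohVanish

set_option autoImplicit false
set_option linter.style.haveILetI false

/-!
# Hartshorne–Lichtenbaum vanishing: reduction to a Gorenstein hypersurface

A local domain `T` finite over a complete normal Gorenstein local domain `A`: for a prime `P` of
dimension one we choose `b ∈ P` avoiding the other primes over `P ∩ A`; then `B = A[b]` is a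
complete Gorenstein local domain and `P = √((P ∩ B) T)`.
-/

namespace Groth.Agent.Helper1.HLVT
open Polynomial IsLocalRing CategoryTheory Limits

universe u

/-- prime avoidance among the primes over a given prime of a finite extension -/
theorem exists_mem_notMem_primesOver {A T : Type*} [CommRing A] [CommRing T] [Algebra A T]
    [Module.Finite A T] (P : Ideal T) [P.IsPrime] :
    ∃ b ∈ P, ∀ Q : Ideal T, Q.IsPrime → Q.comap (algebraMap A T) = P.comap (algebraMap A T) →
      Q ≠ P → b ∉ Q := by
  classical
  haveI : Algebra.IsIntegral A T := Algebra.IsIntegral.of_finite A T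
  set q := P.comap (algebraMap A T) with hq
  have hfin : (q.primesOver T).Finite := Algebra.QuasiFinite.finite_primesOver q
  let s : Finset (Ideal T) := hfin.toFinset.erase P
  have hs : ∀ Q ∈ s, Q.IsPrime ∧ Q.comap (algebraMap A T) = q ∧ Q ≠ P := by
    intro Q hQ
    rw [Finset.mem_erase, Set.Finite.mem_toFinset] at hQ
    exact ⟨hQ.2.1, (hQ.2.2.over).symm, hQ.1⟩
  have hnot : ¬ ((P : Set T) ⊆ ⋃ Q ∈ (↑s : Set (Ideal T)), (Q : Set T)) := by
    rw [Ideal.subset_union_prime (f := fun Q : Ideal T => Q) P P (fun Q hQ _ _ => (hs Q hQ).1)]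
    rintro ⟨Q, hQ, hPQ⟩
    obtain ⟨hQp, hQq, hQP⟩ := hs Q hQ
    haveI := hQp
    rcases lt_or_eq_of_le hPQ with hlt | heq
    · have := Ideal.IsIntegral.comap_lt_comap (R := A) hlt
      rw [hQq] at this
      exact lt_irrefl _ this
    · exact hQP heq.symm
  rw [Set.not_subset] at hnot
  obtain ⟨b, hbP, hb⟩ := hnot
  refine ⟨b, hbP, fun Q hQp hQq hQP hbQ => hb ?_⟩
  simp only [Set.mem_iUnion]
  refine ⟨Q, ?_, hbQ⟩
  rw [Finset.mem_coe, Finset.mem_erase, Set.Finite.mem_toFinset]
  exact ⟨hQP, hQp, ⟨hQq.symm⟩⟩

/-- the radical of the extension of the contraction -/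
theorem radical_map_comap {A B T : Type*} [CommRing A] [CommRing B] [CommRing T] [Algebra A B]
    [Algebra B T] [Algebra A T] [IsScalarTower A B T] [Algebra.IsIntegral B T]
    [IsDomain B] [IsLocalRing B] [IsNoetherianRing B] [IsLocalRing T]
    (P : Ideal T) [P.IsPrime] (hdim : ringKrullDim (B ⧸ P.comap (algebraMap B T)) = 1)
    (b' : B) (hb' : algebraMap B T b' ∈ P)
    (hb : ∀ Q : Ideal T, Q.IsPrime → Q.comap (algebraMap A T) = P.comap (algebraMap A T) →
      Q ≠ P → algebraMap B T b' ∉ Q) :
    ((P.comap (algebraMap B T)).map (algebraMap B T)).radical = P := by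
  set q' := P.comap (algebraMap B T) with hq'
  haveI : q'.IsPrime := Ideal.comap_isPrime _ _
  apply le_antisymm
  · rw [← Ideal.IsPrime.radical (I := P) inferInstance]
    exact Ideal.radical_mono Ideal.map_comap_le
  · rw [Ideal.radical_eq_sInf]
    refine le_sInf ?_
    rintro Q ⟨hQ1, hQ2⟩
    haveI := hQ2
    have h1 : q' ≤ Q.comap (algebraMap B T) := Ideal.map_le_iff_le_comap.1 hQ1
    haveI : (Q.comap (algebraMap B T)).IsPrime := Ideal.comap_isPrime _ _
    by_cases hle : Q.comap (algebraMap B T) ≤ q'
    · have heq : Q.comap (algebraMap B T) = q' := le_antisymm hle h1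
      have hA : Q.comap (algebraMap A T) = P.comap (algebraMap A T) := by
        rw [IsScalarTower.algebraMap_eq A B T, ← Ideal.comap_comap, ← Ideal.comap_comap, heq]
      by_contra hPQ
      have hne : Q ≠ P := fun h => hPQ (h ▸ le_rfl)
      apply hb Q hQ2 hA hne
      apply hQ1
      exact Ideal.mem_map_of_mem _ hb'
    · have hmax := Groth.Agent.Helper3.Chevalley.prime_eq_max q' hdim _ h1 hle
      have h3 : Q.IsMaximal := Ideal.isMaximal_of_isIntegral_of_isMaximal_comap (R := B) Q
        (hmax ▸ maximalIdeal.isMaximal B)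
      rw [IsLocalRing.eq_maximalIdeal h3]
      exact le_maximalIdeal (Ideal.IsPrime.ne_top inferInstance)

/-- the vanishing passes to a finite extension in which the prime is (set-theoretically) extended -/
theorem vanish_of_radical {B T : Type u} [CommRing B] [CommRing T] [IsNoetherianRing B]
    [IsNoetherianRing T] [Algebra B T] (d : ℕ) (hd : ringKrullDim B ≤ d) (hd1 : 1 ≤ d)
    (q' : Ideal B)
    (hvan : IsZero ((localCohomology q' d).obj (ModuleCat.of B B)))
    (P : Ideal T) (hrad : (q'.map (algebraMap B T)).radical = P.radical) :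
    IsZero ((localCohomology P d).obj (ModuleCat.of T T)) := by
  obtain ⟨e, rfl⟩ : ∃ e, d = e + 1 := ⟨d - 1, by omega⟩
  have hcd : LocCoh.CdLE B q' e := by
    apply Groth.Agent.Helper1.LocCohRing.cdLE_of_ring
    intro i hi
    rcases Nat.eq_or_lt_of_le (Nat.succ_le_of_lt hi) with h | h
    · subst h
      exact ModuleCat.isZero_iff_subsingleton.1 hvan
    · refine ModuleCat.isZero_iff_subsingleton.1
        (Groth.Agent.Helper1.LocCohVanish.isZero_lc_of_supportDim_lt q' B i ?_)
      rw [Module.supportDim_self_eq_ringKrullDim]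
      refine lt_of_le_of_lt hd ?_
      exact_mod_cast h
  have h1 : Subsingleton ((localCohomology q' (e + 1)).obj (ModuleCat.of B T)) :=
    hcd T (e + 1) (Nat.lt_succ_self e)
  obtain ⟨φ, -⟩ := Groth.Agent.Helper1.LocCohBase.exists_addEquiv (R := B) (R' := T) q' T (e + 1)
  have h2 : IsZero ((localCohomology (q'.map (algebraMap B T)) (e + 1)).obj (ModuleCat.of T T)) :=
    ModuleCat.isZero_iff_subsingleton.2 φ.toEquiv.subsingleton
  exact IsZero.of_iso h2 ((localCohomology.isoOfSameRadical hrad (e + 1)).symm.app _)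

/-- **Hartshorne–Lichtenbaum vanishing for a local domain finite over a complete normal
Gorenstein local domain**, for primes of dimension one. -/
theorem finite_case (A T : Type u) [CommRing A] [IsDomain A] [IsIntegrallyClosed A]
    [LocCoh.IsGorensteinLocalRing A] [IsAdicComplete (maximalIdeal A) A]
    [CommRing T] [IsDomain T] [IsLocalRing T] [IsNoetherianRing T] [Algebra A T]
    [Module.Finite A T] [FaithfulSMul A T] (d : ℕ) (hd : ringKrullDim T = d)
    (P : Ideal T) [P.IsPrime] (hP : ringKrullDim (T ⧸ P) = 1) :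
    IsZero ((localCohomology P d).obj (ModuleCat.of T T)) := by
  classical
  haveI : Algebra.IsIntegral A T := Algebra.IsIntegral.of_finite A T
  obtain ⟨b, hbP, hb⟩ := exists_mem_notMem_primesOver (A := A) P
  have hint : IsIntegral A b := Algebra.IsIntegral.isIntegral b
  have hg : (minpoly A b).Monic := minpoly.monic hint
  haveI : Module.IsTorsionFree A T := by infer_instance
  let φ : AdjoinRoot (minpoly A b) →ₐ[A] T :=
    (Algebra.adjoin A {b}).val.comp (AdjoinRoot.Minpoly.toAdjoin A b)
  have hφinj : Function.Injective φ :=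
    Subtype.val_injective.comp (minpoly.ToAdjoin.injective hint)
  have hφroot : φ (AdjoinRoot.root (minpoly A b)) = b := by
    change ((AdjoinRoot.Minpoly.toAdjoin A b) (AdjoinRoot.root (minpoly A b)) : T) = b
    rw [← AdjoinRoot.mk_X, AdjoinRoot.Minpoly.coe_toAdjoin_mk_X]
  letI : Algebra (AdjoinRoot (minpoly A b)) T := φ.toRingHom.toAlgebra
  haveI : IsScalarTower A (AdjoinRoot (minpoly A b)) T :=
    IsScalarTower.of_algebraMap_eq (fun a => (φ.commutes a).symm)
  haveI : FaithfulSMul (AdjoinRoot (minpoly A b)) T :=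
    (faithfulSMul_iff_algebraMap_injective _ T).2 hφinj
  haveI : Module.Finite (AdjoinRoot (minpoly A b)) T :=
    Module.Finite.of_restrictScalars_finite A _ T
  haveI : Algebra.IsIntegral (AdjoinRoot (minpoly A b)) T := Algebra.IsIntegral.of_finite _ T
  haveI : IsDomain (AdjoinRoot (minpoly A b)) := hφinj.isDomain φ.toRingHom
  haveI : Module.Finite A (AdjoinRoot (minpoly A b)) := hg.finite_adjoinRoot
  haveI : Module.Free A (AdjoinRoot (minpoly A b)) := hg.free_adjoinRoot
  haveI : IsNoetherianRing (AdjoinRoot (minpoly A b)) := IsNoetherianRing.of_finite A _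
  haveI : IsLocalRing (AdjoinRoot (minpoly A b)) :=
    isLocalRing_of_isIntegral (S := AdjoinRoot (minpoly A b)) (T := T)
  haveI : LocCoh.IsGorensteinLocalRing (AdjoinRoot (minpoly A b)) :=
    gorLocal_adjoinRoot A (minpoly A b) hg
  haveI : IsAdicComplete (maximalIdeal (AdjoinRoot (minpoly A b))) (AdjoinRoot (minpoly A b)) :=
    isAdicComplete_of_finite_projective A _
  have hdimB : ringKrullDim (AdjoinRoot (minpoly A b)) = d := by
    rw [← hd]
    exact (Groth.Agent.Helper5.IntegralDim.ringKrullDim_eq_of_isIntegral_of_injective hφinj).symm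
  have hq'dim : ringKrullDim (AdjoinRoot (minpoly A b) ⧸
      P.comap (algebraMap (AdjoinRoot (minpoly A b)) T)) = 1 := by
    rw [← hP]
    exact (Groth.Agent.Helper5.IntegralDim.ringKrullDim_eq_of_isIntegral_of_injective
      Ideal.algebraMap_quotient_injective).symm
  haveI : (P.comap (algebraMap (AdjoinRoot (minpoly A b)) T)).IsPrime := Ideal.comap_isPrime _ _
  have hroot : algebraMap (AdjoinRoot (minpoly A b)) T (AdjoinRoot.root (minpoly A b)) = b :=
    hφroot
  have hrad := radical_map_comap (A := A) (B := AdjoinRoot (minpoly A b)) P hq'dim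
    (AdjoinRoot.root (minpoly A b)) (by rw [hroot]; exact hbP) (by rw [hroot]; exact hb)
  have hvanB := gorenstein_case d hdimB (P.comap (algebraMap (AdjoinRoot (minpoly A b)) T)) hq'dim
  have hd1 : 1 ≤ d := by
    have h1 : ringKrullDim (T ⧸ P) ≤ ringKrullDim T := ringKrullDim_quotient_le P
    rw [hP, hd] at h1
    exact_mod_cast h1
  refine vanish_of_radical d hdimB.le hd1 _ hvanB P ?_
  rw [hrad, Ideal.IsPrime.radical inferInstance]

end Groth.Agent.Helper1.HLVT
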