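import Mathlib
import Groth.Agent.Helper1.HLVT3
import Groth.Agent.Helper7.CohenM
import Groth.Agent.Helper7.CohenT1
import Groth.Agent.Helper7.CohenT2
import Groth.Agent.Helper4.RegNormal
import Groth.Agent.S0342

set_option autoImplicit false
set_option linter.style.haveILetI false

namespace Groth.Agent.Helper1.HLVT
open IsLocalRing CategoryTheory Limits

universe u

/-- **Hartshorne–Lichtenbaum vanishing for complete local domains and primes of dimension one** -/
theorem complete_domain_case (T : Type u) [CommRing T] [IsDomain T] [IsLocalRing T]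
    [IsNoetherianRing T] [IsAdicComplete (maximalIdeal T) T] (d : ℕ) (hd : ringKrullDim T = d)
    (P : Ideal T) [P.IsPrime] (hP : ringKrullDim (T ⧸ P) = 1) :
    IsZero ((localCohomology P d).obj (ModuleCat.of T T)) := by
  obtain ⟨Λ, _, n, f, hΛ, hinj, hfin, -⟩ := Groth.Agent.Helper7.Cohen.s0581 T
  letI : Algebra (MvPowerSeries (Fin n) Λ) T := f.toAlgebra
  haveI : Module.Finite (MvPowerSeries (Fin n) Λ) T := hfin
  haveI : FaithfulSMul (MvPowerSeries (Fin n) Λ) T :=
    (faithfulSMul_iff_algebraMap_injective _ T).2 hinj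
  haveI : IsDomain (MvPowerSeries (Fin n) Λ) := hinj.isDomain f
  rcases hΛ with hfield | ⟨hdom, hdvr, hcompl, q, hqp, hmax⟩
  · letI : Field Λ := hfield.toField
    haveI : IsRegularLocalRing (MvPowerSeries (Fin n) Λ) :=
      Groth.Agent.Helper7.Cohen.isRegularLocalRing_mvPowerSeries Λ n
    haveI : IsIntegrallyClosed (MvPowerSeries (Fin n) Λ) :=
      Groth.Agent.Helper4.RegNormal.isIntegrallyClosed_of_isRegularLocalRing _
    haveI : LocCoh.IsGorensteinLocalRing (MvPowerSeries (Fin n) Λ) := Groth.Agent.S0342.result _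
    have hm : maximalIdeal Λ = Ideal.span {(0 : Λ)} := by
      rw [IsLocalRing.maximalIdeal_eq_bot]
      simp
    haveI : IsAdicComplete (maximalIdeal Λ) Λ := by
      rw [IsLocalRing.maximalIdeal_eq_bot]
      infer_instance
    haveI : IsAdicComplete (maximalIdeal (MvPowerSeries (Fin n) Λ)) (MvPowerSeries (Fin n) Λ) :=
      Groth.Agent.Helper7.Cohen.isAdicComplete_mvPowerSeries (0 : Λ) hm n
    exact finite_case (MvPowerSeries (Fin n) Λ) T d hd P hP
  · haveI := hdom
    haveI := hdvr
    haveI := hcompl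
    haveI : IsRegularLocalRing (MvPowerSeries (Fin n) Λ) :=
      Groth.Agent.Helper7.Cohen.isRegularLocalRing_mvPowerSeries Λ n
    haveI : IsIntegrallyClosed (MvPowerSeries (Fin n) Λ) :=
      Groth.Agent.Helper4.RegNormal.isIntegrallyClosed_of_isRegularLocalRing _
    haveI : LocCoh.IsGorensteinLocalRing (MvPowerSeries (Fin n) Λ) := Groth.Agent.S0342.result _
    haveI : IsAdicComplete (maximalIdeal (MvPowerSeries (Fin n) Λ)) (MvPowerSeries (Fin n) Λ) :=
      Groth.Agent.Helper7.Cohen.isAdicComplete_mvPowerSeries (q : Λ) hmax n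
    exact finite_case (MvPowerSeries (Fin n) Λ) T d hd P hP

end Groth.Agent.Helper1.HLVT
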