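import Mathlib
import Groth.Agent.Helper1.LocCohVanish
import Groth.Agent.Helper1.LocCohLES
import Groth.Agent.Helper1.LocCohBase

set_option autoImplicit false

/-!
# Top vanishing passes to smaller ideals inside the Jacobson radical
-/

namespace Groth.Agent.Helper1.LocCohJac
open CategoryTheory Limits Opposite
open Groth.Agent.Helper1.DeltaFun Groth.Agent.Helper1.LocCohDelta

universe u

section dim

variable {A : Type u} [CommRing A]

/-- inverting an element of the Jacobson radical drops the dimension -/
lemma ringKrullDim_localization_lt (d : ℕ) (hd : ringKrullDim A ≤ d) (x : A)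
    (hx : x ∈ (⊥ : Ideal A).jacobson) :
    ringKrullDim (Localization (Submonoid.powers x)) < d := by
  rw [ringKrullDim, Order.krullDim_lt_coe_iff]
  intro l
  let f : PrimeSpectrum (Localization (Submonoid.powers x)) → PrimeSpectrum A :=
    PrimeSpectrum.comap (algebraMap A (Localization (Submonoid.powers x)))
  have hf : StrictMono f := by
    apply Monotone.strictMono_of_injective
    · intro p q hpq
      exact Ideal.comap_mono hpq
    · exact PrimeSpectrum.localization_comap_injective _ (Submonoid.powers x)
  let l' : LTSeries (PrimeSpectrum A) := l.map f hf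
  have hxl : x ∉ l'.last.asIdeal := by
    intro hmem
    have h1 : algebraMap A (Localization (Submonoid.powers x)) x ∈ l.last.asIdeal := by
      have : l'.last = f l.last := LTSeries.last_map l f hf
      rw [this] at hmem
      exact hmem
    have h2 : IsUnit (algebraMap A (Localization (Submonoid.powers x)) x) :=
      IsLocalization.map_units _ (⟨x, Submonoid.mem_powers x⟩ : Submonoid.powers x)
    exact l.last.2.ne_top (Ideal.eq_top_of_isUnit_mem _ h1 h2)
  obtain ⟨m, hm, hle⟩ := Ideal.exists_le_maximal l'.last.asIdeal l'.last.2.ne_top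
  have hxm : x ∈ m := by
    rw [Ideal.jacobson, Ideal.mem_sInf] at hx
    exact hx ⟨bot_le, hm⟩
  let pm : PrimeSpectrum A := ⟨m, hm.isPrime⟩
  have hlt : l'.last < pm := by
    refine lt_of_le_of_ne hle ?_
    intro heq
    apply hxl
    rw [heq]
    exact hxm
  have h1 : ((l'.snoc pm hlt).length : WithBot ℕ∞) ≤ ringKrullDim A :=
    Order.LTSeries.length_le_krullDim _
  have h2 : (l'.snoc pm hlt).length = l.length + 1 := by simp [l']
  rw [h2] at h1
  have h3 : ((l.length + 1 : ℕ) : WithBot ℕ∞) ≤ d := h1.trans hd
  have h4 : l.length + 1 ≤ d := by exact_mod_cast h3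
  omega

end dim

section step

variable {A : Type u} [CommRing A] [IsNoetherianRing A]

open Groth.Agent.Helper1.LocCohLES in
/-- `H^d_I(M_x) = 0` for `x` in the Jacobson radical and `d ≥ dim A` -/
lemma isZero_lc_loc (d : ℕ) (hd : ringKrullDim A ≤ d) (I : Ideal A) (x : A)
    (hx : x ∈ (⊥ : Ideal A).jacobson) (M : ModuleCat.{u} A) :
    IsZero ((localCohomology I d).obj ((L x).obj M)) := by
  obtain ⟨φ, -⟩ := LocCohBase.exists_addEquiv (R' := Localization (Submonoid.powers x)) I
    (LocalizedModule (Submonoid.powers x) M) d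
  have h1 : IsZero ((localCohomology
      (I.map (algebraMap A (Localization (Submonoid.powers x)))) d).obj
      (ModuleCat.of (Localization (Submonoid.powers x))
        (LocalizedModule (Submonoid.powers x) M))) := by
    apply LocCohVanish.isZero_lc_of_supportDim_lt
    exact (Module.supportDim_le_ringKrullDim _ _).trans_lt
      (ringKrullDim_localization_lt d hd x hx)
  have h2 := ModuleCat.isZero_iff_subsingleton.1 h1
  have h3 : Subsingleton ((localCohomology I d).obj
      (ModuleCat.of A (LocalizedModule (Submonoid.powers x) M))) :=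
    φ.symm.toEquiv.subsingleton
  exact ModuleCat.isZero_iff_subsingleton.2 h3

open Groth.Agent.Helper1.LocCohLES in
/-- `H^d_{I+(x)}(M) → H^d_I(M)` is an epimorphism for `x` in the Jacobson radical, `d ≥ dim A` -/
lemma epi_hmap (d : ℕ) (hd : ringKrullDim A ≤ d) (I : Ideal A) (x : A)
    (hx : x ∈ (⊥ : Ideal A).jacobson) (M : ModuleCat.{u} A) :
    Epi ((Dual2.HmapOfLE (le_sup_left : I ≤ I ⊔ Ideal.span {x}) d).app M) := by
  obtain ⟨w, hex⟩ := LocCohLES.exact₂ I x d M
  exact hex.epi_f ((isZero_lc_loc d hd I x hx M).eq_of_tgt _ _)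

open Groth.Agent.Helper1.LocCohLES in
lemma step (d : ℕ) (hd : ringKrullDim A ≤ d) (I : Ideal A) (x : A)
    (hx : x ∈ (⊥ : Ideal A).jacobson)
    (h : ∀ M : ModuleCat.{u} A, IsZero ((localCohomology (I ⊔ Ideal.span {x}) d).obj M))
    (M : ModuleCat.{u} A) : IsZero ((localCohomology I d).obj M) := by
  obtain ⟨w, hex⟩ := LocCohLES.exact₂ I x d M
  have hmono : Mono ((localCohomology I d).map ((η x).app M)) :=
    hex.mono_g ((h M).eq_of_src _ _)
  exact IsZero.of_mono ((localCohomology I d).map ((η x).app M)) (isZero_lc_loc d hd I x hx M)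

lemma vanish_of_finset (d : ℕ) (hd : ringKrullDim A ≤ d) (s : Finset A) :
    ∀ I : Ideal A, (∀ x ∈ s, x ∈ (⊥ : Ideal A).jacobson) →
      (∀ M : ModuleCat.{u} A,
        IsZero ((localCohomology (I ⊔ Ideal.span (s : Set A)) d).obj M)) →
      ∀ M : ModuleCat.{u} A, IsZero ((localCohomology I d).obj M) := by
  classical
  induction s using Finset.induction_on with
  | empty =>
    intro I _ h M
    have := h M
    rw [Finset.coe_empty, Ideal.span_empty, sup_bot_eq] at this
    exact this
  | insert x s _ ih =>
    intro I hs h M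
    apply step d hd I x (hs x (Finset.mem_insert_self _ _))
    apply ih (I ⊔ Ideal.span {x}) (fun y hy => hs y (Finset.mem_insert_of_mem hy))
    intro M
    have := h M
    rw [Finset.coe_insert, Ideal.span_insert, ← sup_assoc] at this
    exact this

theorem main (d : ℕ) (hd : ringKrullDim A ≤ d) (I I' : Ideal A) (hII' : I ≤ I')
    (hJ : I' ≤ (⊥ : Ideal A).jacobson)
    (h : ∀ M : ModuleCat.{u} A, IsZero ((localCohomology I' d).obj M))
    (M : ModuleCat.{u} A) : IsZero ((localCohomology I d).obj M) := by
  obtain ⟨s, hs⟩ : I'.FG := IsNoetherian.noetherian I'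
  apply vanish_of_finset d hd s I
  · intro x hx
    exact hJ (hs ▸ Ideal.subset_span hx)
  · intro M
    rw [hs, sup_eq_right.2 hII']
    exact h M

end step

end Groth.Agent.Helper1.LocCohJac
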