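import Mathlib
import Groth.Agent.Helper1.LocCohNonvanish
import Groth.Agent.Helper1.LocCohBase
import Groth.Agent.Helper1.FlatBC
import Groth.Agent.Helper1.LocCohDepth
import Groth.Agent.Helper1.LocCohJac

set_option autoImplicit false

/-!
# Consequences of the non-vanishing theorem
-/

namespace Groth.Agent.Helper1.LocCohNonvanish
open CategoryTheory Limits Opposite IsLocalRing
open Groth.Agent.Helper1.DeltaFun Groth.Agent.Helper1.LocCohDelta

universe u

section quot

variable {R : Type u} [CommRing R] [IsNoetherianRing R] [IsLocalRing R]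

/-- if `√(p + I) = 𝔪` then `H^d_I(R/p) ≠ 0` for `d = dim R/p` -/
theorem nontrivial_lc_quotient_prime (I : Ideal R) (p : Ideal R) [p.IsPrime]
    (hpI : (p ⊔ I).radical = maximalIdeal R) (d : ℕ) (hd : ringKrullDim (R ⧸ p) = d) :
    Nontrivial ((localCohomology I d).obj (ModuleCat.of R (R ⧸ p))) := by
  let D := R ⧸ p
  haveI : IsLocalRing D := IsLocalRing.of_surjective' (Ideal.Quotient.mk p)
    Ideal.Quotient.mk_surjective
  let ID : Ideal D := I.map (algebraMap R D)
  have hle : p ⊔ I ≤ maximalIdeal R := by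
    rw [← hpI]
    exact Ideal.le_radical
  have hIDne : ID ≠ ⊤ := by
    intro htop
    have h1 : (1 : D) ∈ ID := by rw [htop]; exact Submodule.mem_top
    obtain ⟨a, ha, ha1⟩ := (Ideal.mem_map_iff_of_surjective (algebraMap R D)
      Ideal.Quotient.mk_surjective).1 h1
    have h2 : (1 : R) - a ∈ p := by
      rw [← Ideal.Quotient.eq_zero_iff_mem, map_sub, map_one]
      have : (Ideal.Quotient.mk p) a = 1 := ha1
      rw [this, sub_self]
    have h3 : (1 : R) ∈ p ⊔ I := by
      have : (1 : R) = (1 - a) + a := by ring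
      rw [this]
      exact Submodule.add_mem_sup h2 ha
    exact (Ideal.ne_top_iff_one _).1 (IsLocalRing.maximalIdeal.isMaximal R).ne_top (hle h3)
  have hrad : ID.radical = (maximalIdeal D).radical := by
    apply le_antisymm
    · exact Ideal.radical_mono (IsLocalRing.le_maximalIdeal hIDne)
    · rw [Ideal.radical_le_radical_iff]
      intro z hz
      obtain ⟨x, rfl⟩ := Ideal.Quotient.mk_surjective z
      have hxm : x ∈ maximalIdeal R := by
        rw [IsLocalRing.mem_maximalIdeal, mem_nonunits_iff] at hz ⊢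
        intro hu
        exact hz (hu.map (Ideal.Quotient.mk p))
      rw [← hpI] at hxm
      obtain ⟨k, hk⟩ := hxm
      obtain ⟨a, ha, b, hb, hab⟩ := Submodule.mem_sup.1 hk
      refine ⟨k, ?_⟩
      rw [← map_pow, ← hab, map_add, Ideal.Quotient.eq_zero_iff_mem.2 ha, zero_add]
      exact Ideal.mem_map_of_mem _ hb
  have hnv := nonvanishing d D (by rw [Module.supportDim_self_eq_ringKrullDim]; exact hd)
  have hnv' : ¬ IsZero ((localCohomology ID d).obj (ModuleCat.of D D)) := fun hz =>
    hnv (IsZero.of_iso hz ((localCohomology.isoOfSameRadical hrad d).app _).symm)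
  rw [ModuleCat.isZero_iff_subsingleton, not_subsingleton_iff_nontrivial] at hnv'
  obtain ⟨φ, -⟩ := LocCohBase.exists_addEquiv (R' := D) I D d
  exact φ.symm.toEquiv.nontrivial

end quot

section height

variable {R : Type u} [CommRing R] [IsNoetherianRing R]

open TensorProduct in
/-- `H^h_I(R) ≠ 0` for `h = ht I` -/
theorem nontrivial_lc_height (I : Ideal R) (h : ℕ) (hh : I.height = h) :
    Nontrivial ((localCohomology I h).obj (ModuleCat.of R R)) := by
  obtain ⟨p, hp, hIp, hph⟩ := Ideal.exists_isPrime_height_eq hh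
  have hpmin : p ∈ I.minimalPrimes :=
    Ideal.mem_minimalPrimes_of_height_le hIp (by rw [hph, hh])
  let Rp := Localization.AtPrime p
  let Ip : Ideal Rp := I.map (algebraMap R Rp)
  have hdim : ringKrullDim Rp = h := by
    rw [IsLocalization.AtPrime.ringKrullDim_eq_height p Rp, hph]
    rfl
  have hmax : maximalIdeal Rp = p.map (algebraMap R Rp) :=
    (Localization.AtPrime.map_eq_maximalIdeal).symm
  have hrad : Ip.radical = (maximalIdeal Rp).radical := by
    apply le_antisymm
    · apply Ideal.radical_mono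
      rw [hmax]
      exact Ideal.map_mono hIp
    · rw [Ideal.radical_le_radical_iff, hmax, Ideal.radical_eq_sInf, le_sInf_iff]
      rintro q ⟨hq', hq⟩
      obtain ⟨h₁, h₂⟩ := ((IsLocalization.AtPrime.orderIsoOfPrime _ p) ⟨q, hq⟩).2
      rw [Ideal.map_le_iff_le_comap] at hq' ⊢
      exact hpmin.2 ⟨h₁, hq'⟩ h₂
  have hnv := nonvanishing h Rp (by rw [Module.supportDim_self_eq_ringKrullDim]; exact hdim)
  have hnv' : ¬ IsZero ((localCohomology Ip h).obj (ModuleCat.of Rp Rp)) := fun hz =>
    hnv (IsZero.of_iso hz ((localCohomology.isoOfSameRadical hrad h).app _).symm)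
  by_contra hcon
  rw [not_nontrivial_iff_subsingleton] at hcon
  apply hnv'
  obtain ⟨e⟩ := FlatBC.nonempty_linearEquiv Rp I R h
  have h1 : Subsingleton (Rp ⊗[R] ((localCohomology I h).obj (ModuleCat.of R R))) := by
    refine ⟨fun x y => ?_⟩
    suffices h0 : ∀ z : Rp ⊗[R] ((localCohomology I h).obj (ModuleCat.of R R)), z = 0 by
      rw [h0 x, h0 y]
    intro z
    induction z using TensorProduct.induction_on with
    | zero => rfl
    | tmul a b => rw [Subsingleton.elim b 0, TensorProduct.tmul_zero]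
    | add a b ha hb => rw [ha, hb, add_zero]
  have h2 : IsZero ((localCohomology Ip h).obj (ModuleCat.of Rp (Rp ⊗[R] R))) :=
    ModuleCat.isZero_iff_subsingleton.2 e.symm.toEquiv.subsingleton
  exact IsZero.of_iso h2 ((localCohomology Ip h).mapIso
    (TensorProduct.AlgebraTensorModule.rid R Rp Rp).toModuleIso.symm)

end height

section cm

variable {R : Type u} [CommRing R] [IsNoetherianRing R] [IsLocalRing R]

/-- the dimension of the support of a nonzero finite module is a natural number -/
lemma exists_supportDim_eq (M : Type u) [AddCommGroup M] [Module R M] [Nontrivial M] :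
    ∃ d : ℕ, Module.supportDim R M = d := by
  have h0 := (Module.supportDim_ne_bot_iff_nontrivial R M).2 inferInstance
  have h1 : Module.supportDim R M < ⊤ :=
    (Module.supportDim_le_ringKrullDim R M).trans_lt ringKrullDim_lt_top
  obtain ⟨x, hx⟩ := WithBot.ne_bot_iff_exists.1 h0
  rw [← hx] at h1 ⊢
  have h2 : x ≠ ⊤ := by
    rintro rfl
    exact lt_irrefl _ h1
  obtain ⟨d, rfl⟩ := ENat.ne_top_iff_exists.1 h2
  exact ⟨d, rfl⟩

/-- `depth M ≤ dim M`, and the local cohomological description of both -/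
theorem exists_depth_dim (M : Type u) [AddCommGroup M] [Module R M] [Module.Finite R M]
    [Nontrivial M] : ∃ t d : ℕ, t ≤ d ∧ LocCoh.depth R M = t ∧ Module.supportDim R M = d ∧
      (∀ i : ℕ, i < t → Subsingleton (LocCoh.H (maximalIdeal R) i M)) ∧
      Nontrivial (LocCoh.H (maximalIdeal R) t M) ∧
      Nontrivial (LocCoh.H (maximalIdeal R) d M) ∧
      (∀ i : ℕ, d < i → Subsingleton (LocCoh.H (maximalIdeal R) i M)) := by
  obtain ⟨d, hd⟩ := exists_supportDim_eq (R := R) M
  have hnv := nonvanishing d M hd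
  rw [ModuleCat.isZero_iff_subsingleton, not_subsingleton_iff_nontrivial] at hnv
  have hIM : maximalIdeal R • (⊤ : Submodule R M) ≠ ⊤ :=
    (Submodule.top_ne_ideal_smul_of_le_jacobson_annihilator
      (maximalIdeal_le_jacobson _)).symm
  have hle : LocCoh.depth R M ≤ (d : ℕ∞) := by
    by_contra hcon
    rw [not_le] at hcon
    have h1 : ((d + 1 : ℕ) : ℕ∞) ≤ LocCoh.idealDepth (maximalIdeal R) M := by
      have := Order.add_one_le_of_lt hcon
      exact_mod_cast this
    have := (LocCohDepth.le_idealDepth_iff_lc (maximalIdeal R) M hIM (d + 1)).1 h1 d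
      (Nat.lt_succ_self d)
    exact not_subsingleton _ this
  obtain ⟨t, ht⟩ := ENat.ne_top_iff_exists.1 (ne_top_of_le_ne_top (ENat.coe_ne_top d) hle)
  have htd : t ≤ d := by
    rw [← ht] at hle
    exact_mod_cast hle
  obtain ⟨h1, h2⟩ := (LocCohDepth.idealDepth_eq_iff (maximalIdeal R) M hIM t).1 ht.symm
  refine ⟨t, d, htd, ht.symm, hd, h1, h2, hnv, fun i hi => ?_⟩
  refine ModuleCat.isZero_iff_subsingleton.1
    (LocCohVanish.isZero_lc_of_supportDim_lt (maximalIdeal R) M i ?_)
  rw [hd]
  exact_mod_cast hi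

end cm

section dimone

variable {R : Type u} [CommRing R] [IsNoetherianRing R] [IsLocalRing R]

/-- if `H^d_p(R) = 0` for all primes with `dim R/p = 1` then `H^d_p = 0` for all primes with
`dim R/p ≥ 1` -/
lemma top_vanish_prime (d : ℕ) (hd : ringKrullDim R = d)
    (h2 : ∀ (p : Ideal R) [p.IsPrime], ringKrullDim (R ⧸ p) = 1 →
      IsZero ((localCohomology p d).obj (ModuleCat.of R R))) (e : ℕ) :
    ∀ p : PrimeSpectrum R, ringKrullDim (R ⧸ p.asIdeal) = ((e + 1 : ℕ) : WithBot ℕ∞) →
      ∀ N : ModuleCat.{u} R, IsZero ((localCohomology p.asIdeal d).obj N) := by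
  induction e with
  | zero =>
    intro p hp N
    haveI := p.2
    have hvan := h2 p.asIdeal (by rw [hp]; rfl)
    refine LocCohTop.isZero_top p.asIdeal d hd R ?_ hvan N
    intro q _ _ hq
    rw [Module.support_eq_zeroLocus, Module.annihilator_eq_bot.2 inferInstance]
    simp
  | succ e ih =>
    intro p hp N
    obtain ⟨q, hpq, hq⟩ := (infinite_primes p e hp).nonempty
    refine LocCohJac.main d hd.le p.asIdeal q.asIdeal hpq ?_ (ih q hq) N
    rw [IsLocalRing.jacobson_eq_maximalIdeal ⊥ bot_ne_top]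
    exact le_maximalIdeal q.2.ne_top

theorem top_vanish_of_dim_one (d : ℕ) (hd : ringKrullDim R = d)
    (h2 : ∀ (p : Ideal R) [p.IsPrime], ringKrullDim (R ⧸ p) = 1 →
      IsZero ((localCohomology p d).obj (ModuleCat.of R R)))
    (I : Ideal R) (hI : 0 < ringKrullDim (R ⧸ I)) (N : ModuleCat.{u} R) :
    IsZero ((localCohomology I d).obj N) := by
  have hnt : Nontrivial (R ⧸ I) := by
    by_contra hsub
    rw [not_nontrivial_iff_subsingleton] at hsub
    rw [ringKrullDim_eq_bot_of_subsingleton] at hI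
    exact not_lt_bot hI
  obtain ⟨e', he'⟩ := exists_supportDim_eq (R := R) (R ⧸ I)
  obtain ⟨P₀, hP₀, hP₀d⟩ := LocCohTopMod.exists_mem_support_dim_eq e' he'
  rw [Module.supportDim_quotient_eq_ringKrullDim] at he'
  rw [he'] at hI
  have he1 : 1 ≤ e' := by exact_mod_cast hI
  obtain ⟨e, rfl⟩ : ∃ e, e' = e + 1 := ⟨e' - 1, by omega⟩
  have hIP : I ≤ P₀.asIdeal := by
    rw [Module.support_eq_zeroLocus, Ideal.annihilator_quotient,
      PrimeSpectrum.mem_zeroLocus] at hP₀
    exact hP₀
  refine LocCohJac.main d hd.le I P₀.asIdeal hIP ?_ (top_vanish_prime d hd h2 e P₀ hP₀d) N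
  rw [IsLocalRing.jacobson_eq_maximalIdeal ⊥ bot_ne_top]
  exact le_maximalIdeal P₀.2.ne_top

end dimone

section maximal

variable {R : Type u} [CommRing R] [IsNoetherianRing R] [IsLocalRing R]

omit [IsNoetherianRing R] [IsLocalRing R] in
lemma ringKrullDim_quotient_anti {a b : Ideal R} (h : a ≤ b) :
    ringKrullDim (R ⧸ b) ≤ ringKrullDim (R ⧸ a) :=
  ringKrullDim_le_of_surjective (Ideal.Quotient.factor h) (Ideal.Quotient.factor_surjective h)

theorem prime_dim_one_of_maximal (n : ℕ) (hn : ringKrullDim R = n) (p : Ideal R)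
    (hp : Nontrivial ((localCohomology p n).obj (ModuleCat.of R R)))
    (hp' : 0 < ringKrullDim (R ⧸ p))
    (hmax : ∀ b : Ideal R, p < b → Nontrivial ((localCohomology b n).obj (ModuleCat.of R R)) →
      ¬ 0 < ringKrullDim (R ⧸ b)) :
    p.IsPrime ∧ ringKrullDim (R ⧸ p) = 1 := by
  have hjac : maximalIdeal R = (⊥ : Ideal R).jacobson :=
    (IsLocalRing.jacobson_eq_maximalIdeal ⊥ bot_ne_top).symm
  have key : ∀ x ∈ maximalIdeal R, x ∉ p → ¬ 0 < ringKrullDim (R ⧸ (p ⊔ Ideal.span {x})) := by
    intro x hxm hxp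
    apply hmax
    · refine lt_of_le_of_ne le_sup_left ?_
      intro heq
      apply hxp
      rw [heq]
      exact Ideal.mem_sup_right (Ideal.subset_span rfl)
    · have hepi := LocCohJac.epi_hmap n hn.le p x (hjac ▸ hxm) (ModuleCat.of R R)
      have hsurj := (ModuleCat.epi_iff_surjective _).1 hepi
      exact hsurj.nontrivial
  have key' : ∀ q : Ideal R, q ≠ ⊤ → p < q → ¬ 0 < ringKrullDim (R ⧸ q) := by
    intro q hq hpq h0
    obtain ⟨x, hxq, hxp⟩ := SetLike.exists_of_lt hpq
    apply key x (le_maximalIdeal hq hxq) hxp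
    refine lt_of_lt_of_le h0 (ringKrullDim_quotient_anti ?_)
    exact sup_le hpq.le ((Ideal.span_singleton_le_iff_mem _).2 hxq)
  have hnt : Nontrivial (R ⧸ p) := by
    by_contra hsub
    rw [not_nontrivial_iff_subsingleton] at hsub
    rw [ringKrullDim_eq_bot_of_subsingleton] at hp'
    exact not_lt_bot hp'
  obtain ⟨e', he'⟩ := exists_supportDim_eq (R := R) (R ⧸ p)
  obtain ⟨P, hP, hPd⟩ := LocCohTopMod.exists_mem_support_dim_eq e' he'
  rw [Module.supportDim_quotient_eq_ringKrullDim] at he'
  have hpP : p ≤ P.asIdeal := by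
    rw [Module.support_eq_zeroLocus, Ideal.annihilator_quotient,
      PrimeSpectrum.mem_zeroLocus] at hP
    exact hP
  have hPp : P.asIdeal = p := by
    by_contra hne
    exact key' P.asIdeal P.2.ne_top (lt_of_le_of_ne hpP (Ne.symm hne)) (by rw [hPd, ← he']; exact hp')
  have hprime : p.IsPrime := hPp ▸ P.2
  refine ⟨hprime, ?_⟩
  rw [he'] at hp' ⊢
  have he1 : 1 ≤ e' := by exact_mod_cast hp'
  by_contra hne1
  have he2 : 2 ≤ e' := by
    rcases Nat.lt_or_ge e' 2 with h | h
    · exfalso
      apply hne1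
      have : e' = 1 := by omega
      rw [this]
      rfl
    · exact h
  obtain ⟨e, rfl⟩ : ∃ e, e' = e + 2 := ⟨e' - 2, by omega⟩
  obtain ⟨q, hpq, hq⟩ := (infinite_primes P e hPd).nonempty
  have hpq' : p < q.asIdeal := by
    rw [← hPp]
    refine lt_of_le_of_ne hpq ?_
    intro heq
    rw [heq, hq] at hPd
    have : e + 1 = e + 2 := by exact_mod_cast hPd
    omega
  apply key' q.asIdeal q.2.ne_top hpq'
  rw [hq]
  exact_mod_cast Nat.succ_pos e

end maximal

end Groth.Agent.Helper1.LocCohNonvanish
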