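import Mathlib
import Groth.Agent.Helper1.FieldSmooth7

/-!
# Changing the base ring of Kähler differentials along a surjection
-/

set_option autoImplicit false
universe u

namespace Groth.Agent.Helper1.FieldSmooth

open scoped TensorProduct

section

variable (R R' : Type*) [CommRing R] [CommRing R'] [Algebra R R']
  (A : Type*) [CommRing A] [Algebra R A] [Algebra R' A] [IsScalarTower R R' A]

theorem map_bijective_of_surjective (hR : Function.Surjective (algebraMap R R')) :
    Function.Bijective (KaehlerDifferential.map R R' A A) := by
  refine ⟨?_, KaehlerDifferential.map_surjective R R' A⟩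
  haveI : Subsingleton (Ω[R'⁄R]) := KaehlerDifferential.subsingleton_of_surjective R R' hR
  rw [injective_iff_map_eq_zero]
  intro x hx
  obtain ⟨y, hy⟩ := (KaehlerDifferential.exact_mapBaseChange_map R R' A x).mp hx
  have : y = 0 := Subsingleton.elim _ _
  rw [← hy, this, map_zero]

variable (B : Type*) [CommRing B] [Algebra A B] [Algebra R B] [Algebra R' B] [IsScalarTower R A B]
  [IsScalarTower R' A B] [IsScalarTower R R' B]

theorem mapBaseChange_comm (x : B ⊗[A] Ω[A⁄R]) :
    KaehlerDifferential.mapBaseChange R' A B
      ((KaehlerDifferential.map R R' A A).lTensor B x) =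
    KaehlerDifferential.map R R' B B (KaehlerDifferential.mapBaseChange R A B x) := by
  induction x using TensorProduct.induction_on with
  | zero => simp
  | add x y hx hy => simp only [map_add, hx, hy]
  | tmul c ω =>
    rw [LinearMap.lTensor_tmul, KaehlerDifferential.mapBaseChange_tmul,
      KaehlerDifferential.mapBaseChange_tmul, map_smul]
    congr 1
    have hω : ω ∈ Submodule.span A (Set.range (KaehlerDifferential.D R A)) := by
      rw [KaehlerDifferential.span_range_derivation]; trivial
    induction hω using Submodule.span_induction with
    | mem ω h =>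
      obtain ⟨a, rfl⟩ := h
      simp only [KaehlerDifferential.map_D]
      rfl
    | zero => simp
    | add x y _ _ hx hy => simp only [map_add, hx, hy]
    | smul a x _ hx =>
      simp only [map_smul, hx]
      rw [← algebraMap_smul B a ((KaehlerDifferential.map R R A B) x),
        ← algebraMap_smul B a ((KaehlerDifferential.map R R' B B) ((KaehlerDifferential.map R R A B) x)),
        map_smul]

theorem injective_mapBaseChange_iff (hR : Function.Surjective (algebraMap R R')) :
    Function.Injective (KaehlerDifferential.mapBaseChange R A B) ↔
      Function.Injective (KaehlerDifferential.mapBaseChange R' A B) := by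
  have hA := map_bijective_of_surjective R R' A hR
  have hB := map_bijective_of_surjective R R' B hR
  let eA : Ω[A⁄R] ≃ₗ[A] Ω[A⁄R'] := LinearEquiv.ofBijective _ hA
  have hl : Function.Bijective ((KaehlerDifferential.map R R' A A).lTensor B) := by
    have : (KaehlerDifferential.map R R' A A).lTensor B = (eA.lTensor B).toLinearMap := rfl
    rw [this]
    exact (eA.lTensor B).bijective
  constructor
  · intro h x y hxy
    obtain ⟨x', rfl⟩ := hl.2 x
    obtain ⟨y', rfl⟩ := hl.2 y
    rw [mapBaseChange_comm, mapBaseChange_comm] at hxy
    rw [h (hB.1 hxy)]
  · intro h x y hxy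
    apply hl.1
    apply h
    rw [mapBaseChange_comm, mapBaseChange_comm, hxy]

end

end Groth.Agent.Helper1.FieldSmooth
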