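import Mathlib
import Groth.Agent.Helper1.HLVT4
import Groth.Agent.Helper1.LocCohNonvanish2
import Groth.Agent.Helper1.LocCohTopMod
import Groth.Agent.Helper7.CohenV1
import Groth.Agent.Helper6.ComplDim
import Groth.Agent.Helper1.FlatBC

set_option autoImplicit false
set_option linter.style.haveILetI false

/-!
# The Hartshorne–Lichtenbaum vanishing theorem

Assembly: complete local rings via a prime filtration, then descent from the completion.
-/

namespace Groth.Agent.Helper1.HLVT
open IsLocalRing CategoryTheory Limits TensorProduct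

universe u

section complete

variable (S : Type u) [CommRing S] [IsLocalRing S] [IsNoetherianRing S]
  [IsAdicComplete (maximalIdeal S) S] (d : ℕ) (hd : ringKrullDim S = d) (J : Ideal S)
  (h : ∀ p ∈ minimalPrimes S, ringKrullDim (S ⧸ p) = d → 1 ≤ ringKrullDim (S ⧸ (J ⊔ p)))

include hd h in
theorem isZero_lc_quotient_prime (p : PrimeSpectrum S) :
    IsZero ((localCohomology J d).obj (ModuleCat.of S (S ⧸ p.asIdeal))) := by
  by_cases hlt : ringKrullDim (S ⧸ p.asIdeal) < d
  · apply Groth.Agent.Helper1.LocCohVanish.isZero_lc_of_supportDim_lt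
    rw [Module.supportDim_quotient_eq_ringKrullDim]
    exact hlt
  · have hle : ringKrullDim (S ⧸ p.asIdeal) ≤ d := hd ▸ ringKrullDim_quotient_le p.asIdeal
    have hpd : ringKrullDim (S ⧸ p.asIdeal) = d := le_antisymm hle (not_lt.1 hlt)
    have hmin : p.asIdeal ∈ minimalPrimes S := by
      refine ⟨⟨p.2, bot_le⟩, ?_⟩
      rintro q ⟨hq, -⟩ hqp
      have h1 : ringKrullDim (S ⧸ q) = d := by
        apply le_antisymm (hd ▸ ringKrullDim_quotient_le q)
        rw [← hpd]
        exact Groth.Agent.Helper1.LocCohNonvanish.ringKrullDim_quotient_anti hqp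
      have := Groth.Agent.Helper1.LocCohTopMod.eq_of_le_of_dim_eq (⟨q, hq⟩ : PrimeSpectrum S) p hqp d
        h1 hpd
      rw [← this]
    have h1 := h p.asIdeal hmin hpd
    haveI := p.2
    haveI : IsDomain (S ⧸ p.asIdeal) := Ideal.Quotient.isDomain _
    haveI : IsLocalRing (S ⧸ p.asIdeal) := IsLocalRing.of_surjective' (Ideal.Quotient.mk p.asIdeal)
      Ideal.Quotient.mk_surjective
    haveI : IsAdicComplete (maximalIdeal (S ⧸ p.asIdeal)) (S ⧸ p.asIdeal) :=
      Groth.Agent.Helper7.Cohen.isAdicComplete_quotient p.asIdeal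
    have hpos : 0 < ringKrullDim ((S ⧸ p.asIdeal) ⧸ J.map (algebraMap S (S ⧸ p.asIdeal))) := by
      have e := DoubleQuot.quotQuotEquivQuotSup p.asIdeal J
      have : ringKrullDim ((S ⧸ p.asIdeal) ⧸ J.map (algebraMap S (S ⧸ p.asIdeal))) =
          ringKrullDim (S ⧸ (J ⊔ p.asIdeal)) := by
        rw [sup_comm]
        exact ringKrullDim_eq_of_ringEquiv e
      rw [this]
      exact lt_of_lt_of_le zero_lt_one h1
    have hz := Groth.Agent.Helper1.LocCohNonvanish.top_vanish_of_dim_one (R := S ⧸ p.asIdeal) d hpd
      (fun P _ hP => complete_domain_case (S ⧸ p.asIdeal) d hpd P hP)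
      (J.map (algebraMap S (S ⧸ p.asIdeal))) hpos (ModuleCat.of (S ⧸ p.asIdeal) (S ⧸ p.asIdeal))
    obtain ⟨φ, -⟩ := Groth.Agent.Helper1.LocCohBase.exists_addEquiv (R := S) (R' := S ⧸ p.asIdeal) J
      (S ⧸ p.asIdeal) d
    exact ModuleCat.isZero_iff_subsingleton.2
      (@Equiv.subsingleton _ _ φ.symm.toEquiv (ModuleCat.isZero_iff_subsingleton.1 hz))

include hd h in
/-- **Hartshorne–Lichtenbaum vanishing, complete case** -/
theorem complete_case : IsZero ((localCohomology J d).obj (ModuleCat.of S S)) := by
  have key : ∀ (M : Type u) [AddCommGroup M] [Module S M] (_ : Module.Finite S M),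
      IsZero ((localCohomology J d).obj (ModuleCat.of S M)) := by
    intro M _ _ hM
    induction hM using IsNoetherianRing.induction_on_isQuotientEquivQuotientPrime S with
    | subsingleton N => exact Groth.Agent.Helper1.LocCohVanish.isZero_lc_of_subsingleton J N d
    | quotient N p e =>
      exact IsZero.of_iso (isZero_lc_quotient_prime S d hd J h p)
        ((localCohomology J d).mapIso e.toModuleIso)
    | exact N₁ N₂ N₃ f g hf hg hfg h1 h3 =>
      let T : ShortComplex (ModuleCat.{u} S) :=
        ShortComplex.mk (ModuleCat.ofHom f) (ModuleCat.ofHom g) (by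
          ext x
          exact hfg.apply_apply_eq_zero x)
      have hT : T.ShortExact :=
        { exact := (ShortComplex.ShortExact.moduleCat_exact_iff_function_exact T).2 hfg
          mono_f := (ModuleCat.mono_iff_injective _).2 hf
          epi_g := (ModuleCat.epi_iff_surjective _).2 hg }
      exact (Groth.Agent.Helper1.LocCohVanish.lc_exact₂ J T hT d).isZero_of_both_isZero h1 h3
  exact key S inferInstance

end complete

/-- **The Hartshorne–Lichtenbaum vanishing theorem** -/
theorem hlvt (R : Type u) [CommRing R] [IsLocalRing R] [IsNoetherianRing R] (I : Ideal R) (d : ℕ)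
    (hd : ringKrullDim R = d)
    (h : ∀ p ∈ minimalPrimes (AdicCompletion (maximalIdeal R) R),
      ringKrullDim (AdicCompletion (maximalIdeal R) R ⧸ p) = d →
      1 ≤ ringKrullDim (AdicCompletion (maximalIdeal R) R ⧸
        (I.map (algebraMap R (AdicCompletion (maximalIdeal R) R)) ⊔ p)))
    (M : Type u) [AddCommGroup M] [Module R M] (i : ℕ) (hi : d ≤ i) :
    Subsingleton (LocCoh.H I i M) := by
  have hne : maximalIdeal R ≠ ⊤ := Ideal.IsPrime.ne_top inferInstance
  have hdS : ringKrullDim (AdicCompletion (maximalIdeal R) R) = d :=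
    (Groth.Agent.Helper6.ComplDim.main_S19474 R _ hne).1.trans hd
  -- `d ≥ 1`
  have hd1 : 1 ≤ d := by
    by_contra hcon
    have hd0 : d = 0 := by omega
    subst hd0
    obtain ⟨p, hp⟩ := Ideal.nonempty_minimalPrimes
      (I := (⊥ : Ideal (AdicCompletion (maximalIdeal R) R))) bot_ne_top
    haveI := hp.1.1
    have h1 : ringKrullDim (AdicCompletion (maximalIdeal R) R ⧸ p) ≤ 0 := by
      have := ringKrullDim_quotient_le p
      rw [hdS] at this
      exact this
    have h2 : ringKrullDim (AdicCompletion (maximalIdeal R) R ⧸ p) = ((0 : ℕ) : WithBot ℕ∞) :=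
      le_antisymm h1 ringKrullDim_nonneg_of_nontrivial
    have h3 := h p hp h2
    have h4 : ringKrullDim (AdicCompletion (maximalIdeal R) R ⧸
        (I.map (algebraMap R (AdicCompletion (maximalIdeal R) R)) ⊔ p)) ≤
        ringKrullDim (AdicCompletion (maximalIdeal R) R ⧸ p) :=
      Groth.Agent.Helper1.LocCohNonvanish.ringKrullDim_quotient_anti le_sup_right
    have := (h3.trans h4).trans h1
    exact absurd this (by norm_num)
  have hS := complete_case (AdicCompletion (maximalIdeal R) R) d hdS
    (I.map (algebraMap R (AdicCompletion (maximalIdeal R) R))) h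
  -- descend along the faithfully flat map to the completion
  haveI : Module.FaithfullyFlat R (AdicCompletion (maximalIdeal R) R) :=
    Module.FaithfullyFlat.of_flat_of_isLocalHom
  obtain ⟨e⟩ := Groth.Agent.Helper1.FlatBC.nonempty_linearEquiv
    (AdicCompletion (maximalIdeal R) R) I R d
  have h2 : IsZero ((localCohomology (I.map (algebraMap R (AdicCompletion (maximalIdeal R) R))) d).obj
      (ModuleCat.of (AdicCompletion (maximalIdeal R) R)
        ((AdicCompletion (maximalIdeal R) R) ⊗[R] R))) :=
    IsZero.of_iso hS ((localCohomology _ d).mapIso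
      (TensorProduct.AlgebraTensorModule.rid R (AdicCompletion (maximalIdeal R) R)
        (AdicCompletion (maximalIdeal R) R)).toModuleIso)
  haveI h3 : Subsingleton ((AdicCompletion (maximalIdeal R) R) ⊗[R]
      ((localCohomology I d).obj (ModuleCat.of R R))) :=
    @Equiv.subsingleton _ _ e.toEquiv (ModuleCat.isZero_iff_subsingleton.1 h2)
  have h4 : Subsingleton ((localCohomology I d).obj (ModuleCat.of R R)) :=
    Module.FaithfullyFlat.lTensor_reflects_triviality R (AdicCompletion (maximalIdeal R) R) _
  -- cohomological dimension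
  obtain ⟨e', rfl⟩ : ∃ e', d = e' + 1 := ⟨d - 1, by omega⟩
  have hcd : LocCoh.CdLE R I e' := by
    apply Groth.Agent.Helper1.LocCohRing.cdLE_of_ring
    intro j hj
    rcases Nat.eq_or_lt_of_le (Nat.succ_le_of_lt hj) with hj' | hj'
    · subst hj'
      exact h4
    · refine ModuleCat.isZero_iff_subsingleton.1
        (Groth.Agent.Helper1.LocCohVanish.isZero_lc_of_supportDim_lt I R j ?_)
      rw [Module.supportDim_self_eq_ringKrullDim, hd]
      exact_mod_cast hj'
  exact hcd M i (Nat.lt_of_succ_le hi)

end Groth.Agent.Helper1.HLVT
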