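import Mathlib

set_option autoImplicit false

namespace Groth.Agent.Helper1.MVLC

universe u w

theorem abstract_mv {R : Type u} [CommRing R]
    {A B C D A' B' C' D' G' : ℕ → Type w}
    [∀ n, AddCommGroup (A n)] [∀ n, Module R (A n)]
    [∀ n, AddCommGroup (B n)] [∀ n, Module R (B n)]
    [∀ n, AddCommGroup (C n)] [∀ n, Module R (C n)]
    [∀ n, AddCommGroup (D n)] [∀ n, Module R (D n)]
    [∀ n, AddCommGroup (A' n)] [∀ n, Module R (A' n)]
    [∀ n, AddCommGroup (B' n)] [∀ n, Module R (B' n)]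
    [∀ n, AddCommGroup (C' n)] [∀ n, Module R (C' n)]
    [∀ n, AddCommGroup (D' n)] [∀ n, Module R (D' n)]
    [∀ n, AddCommGroup (G' n)] [∀ n, Module R (G' n)]
    (eA : ∀ n, A n ≃ₗ[R] A' n) (eB : ∀ n, B n ≃ₗ[R] B' n) (eC : ∀ n, C n ≃ₗ[R] C' n)
    (eD : ∀ n, D n ≃ₗ[R] D' n)
    (f1 : ∀ n, A n →ₗ[R] B n) (f2 : ∀ n, A n →ₗ[R] C n)
    (g1 : ∀ n, B n →ₗ[R] D n) (g2 : ∀ n, C n →ₗ[R] D n)
    (f1' : ∀ n, A' n →ₗ[R] B' n) (f2' : ∀ n, A' n →ₗ[R] C' n)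
    (g1' : ∀ n, B' n →ₗ[R] D' n) (g2' : ∀ n, C' n →ₗ[R] D' n)
    (hf1 : ∀ n x, eB n (f1 n x) = f1' n (eA n x))
    (hf2 : ∀ n x, eC n (f2 n x) = f2' n (eA n x))
    (hg1 : ∀ n x, eD n (g1 n x) = g1' n (eB n x))
    (hg2 : ∀ n x, eD n (g2 n x) = g2' n (eC n x))
    (u : ∀ n, A' n →ₗ[R] G' n) (v : ∀ n, G' n →ₗ[R] D' n) (d : ∀ n, D' n →ₗ[R] A' (n + 1))
    (π1 : ∀ n, G' n →ₗ[R] B' n) (π2 : ∀ n, G' n →ₗ[R] C' n)
    (ι1 : ∀ n, B' n →ₗ[R] G' n) (ι2 : ∀ n, C' n →ₗ[R] G' n)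
    (hπι : ∀ n x, ι1 n (π1 n x) + ι2 n (π2 n x) = x)
    (h11 : ∀ n x, π1 n (ι1 n x) = x) (h12 : ∀ n x, π2 n (ι1 n x) = 0)
    (h21 : ∀ n x, π1 n (ι2 n x) = 0) (h22 : ∀ n x, π2 n (ι2 n x) = x)
    (huπ1 : ∀ n x, π1 n (u n x) = f1' n x) (huπ2 : ∀ n x, π2 n (u n x) = f2' n x)
    (hv : ∀ n x, v n x = g1' n (π1 n x) - g2' n (π2 n x))
    (hu0 : Function.Injective (u 0))
    (ex1 : ∀ n x, u (n + 1) x = 0 ↔ ∃ y, d n y = x)
    (ex2 : ∀ n x, v n x = 0 ↔ ∃ y, u n y = x)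
    (ex3 : ∀ n x, d n x = 0 ↔ ∃ y, v n y = x) :
    ∃ δ : ∀ i : ℕ, D i →ₗ[R] A (i + 1),
      Function.Injective (LinearMap.prod (f1 0) (f2 0)) ∧
      (∀ i : ℕ, LinearMap.ker (LinearMap.prod (f1 (i + 1)) (f2 (i + 1))) = LinearMap.range (δ i)) ∧
      (∀ i : ℕ, LinearMap.ker (g1 i ∘ₗ LinearMap.fst R (B i) (C i) -
          g2 i ∘ₗ LinearMap.snd R (B i) (C i)) = LinearMap.range (LinearMap.prod (f1 i) (f2 i))) ∧
      (∀ i : ℕ, LinearMap.ker (δ i) = LinearMap.range (g1 i ∘ₗ LinearMap.fst R (B i) (C i) -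
          g2 i ∘ₗ LinearMap.snd R (B i) (C i))) := by
  have hπ_inj : ∀ n (x : G' n), π1 n x = 0 → π2 n x = 0 → x = 0 := by
    intro n x h1 h2
    rw [← hπι n x, h1, h2, map_zero, map_zero, add_zero]
  have hu_iff : ∀ n (x : A n), u n (eA n x) = 0 ↔ f1 n x = 0 ∧ f2 n x = 0 := by
    intro n x
    constructor
    · intro h
      constructor
      · apply (eB n).injective
        rw [hf1, ← huπ1, h, map_zero, map_zero]
      · apply (eC n).injective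
        rw [hf2, ← huπ2, h, map_zero, map_zero]
    · rintro ⟨h1, h2⟩
      apply hπ_inj
      · rw [huπ1, ← hf1, h1, map_zero]
      · rw [huπ2, ← hf2, h2, map_zero]
  have hv_eq : ∀ n (b : B n) (c : C n), v n (ι1 n (eB n b) + ι2 n (eC n c)) =
      eD n (g1 n b - g2 n c) := by
    intro n b c
    simp only [hv, map_add, h11, h21, h12, h22, add_zero, zero_add, map_sub, hg1, hg2]
  refine ⟨fun i => ((eA (i + 1)).symm : A' (i + 1) →ₗ[R] A (i + 1)) ∘ₗ d i ∘ₗ (eD i : D i →ₗ[R] D' i),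
    ?_, ?_, ?_, ?_⟩
  · rw [← LinearMap.ker_eq_bot, LinearMap.ker_eq_bot']
    intro x hx
    have hx' : (f1 0 x, f2 0 x) = 0 := hx
    rw [Prod.mk_eq_zero] at hx'
    have := (hu_iff 0 x).2 hx'
    have h0 : u 0 (eA 0 x) = u 0 0 := by rw [this, map_zero]
    have := hu0 h0
    exact (eA 0).map_eq_zero_iff.1 this
  · intro i
    ext x
    rw [LinearMap.mem_ker, LinearMap.mem_range]
    change (f1 (i + 1) x, f2 (i + 1) x) = 0 ↔ _
    rw [Prod.mk_eq_zero, ← hu_iff, ex1]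
    constructor
    · rintro ⟨y, hy⟩
      refine ⟨(eD i).symm y, ?_⟩
      simp only [LinearMap.coe_comp, LinearEquiv.coe_coe, Function.comp_apply,
        LinearEquiv.apply_symm_apply, hy, LinearEquiv.symm_apply_apply]
    · rintro ⟨y, hy⟩
      refine ⟨eD i y, ?_⟩
      rw [← hy]
      simp only [LinearMap.coe_comp, LinearEquiv.coe_coe, Function.comp_apply,
        LinearEquiv.apply_symm_apply]
  · intro i
    ext ⟨b, c⟩
    rw [LinearMap.mem_ker, LinearMap.mem_range]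
    change g1 i b - g2 i c = 0 ↔ _
    rw [← (eD i).map_eq_zero_iff, ← hv_eq, ex2]
    constructor
    · rintro ⟨y, hy⟩
      refine ⟨(eA i).symm y, ?_⟩
      change (f1 i _, f2 i _) = (b, c)
      refine Prod.ext ?_ ?_
      · apply (eB i).injective
        show eB i (f1 i _) = eB i b
        rw [hf1, LinearEquiv.apply_symm_apply, ← huπ1, hy, map_add, h11, h21, add_zero]
      · apply (eC i).injective
        show eC i (f2 i _) = eC i c
        rw [hf2, LinearEquiv.apply_symm_apply, ← huπ2, hy, map_add, h12, h22, zero_add]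
    · rintro ⟨y, hy⟩
      have hy' : (f1 i y, f2 i y) = (b, c) := hy
      rw [Prod.mk.injEq] at hy'
      refine ⟨eA i y, ?_⟩
      rw [← hπι i (u i (eA i y)), huπ1, huπ2, ← hf1, ← hf2, hy'.1, hy'.2]
  · intro i
    ext z
    rw [LinearMap.mem_ker, LinearMap.mem_range]
    change (eA (i + 1)).symm (d i (eD i z)) = 0 ↔ _
    rw [(eA (i + 1)).symm.map_eq_zero_iff, ex3]
    constructor
    · rintro ⟨y, hy⟩
      refine ⟨((eB i).symm (π1 i y), (eC i).symm (π2 i y)), ?_⟩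
      apply (eD i).injective
      change eD i (g1 i ((eB i).symm (π1 i y)) - g2 i ((eC i).symm (π2 i y))) = _
      rw [← hv_eq, LinearEquiv.apply_symm_apply, LinearEquiv.apply_symm_apply, hπι, hy]
    · rintro ⟨⟨b, c⟩, hy⟩
      refine ⟨ι1 i (eB i b) + ι2 i (eC i c), ?_⟩
      rw [hv_eq, ← hy]
      rfl

end Groth.Agent.Helper1.MVLC
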