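import Mathlib
import Groth.Agent.Helper1.LocCohCmp

set_option autoImplicit false

/-!
# Mayer–Vietoris for `Γ_I`: the sequence `0 → Γ_{I+J} → Γ_I ⊕ Γ_J → Γ_{I∩J} → 0` of functors,
short exact on injective modules over a Noetherian ring
-/

namespace Groth.Agent.Helper1.MVLC
open CategoryTheory Limits
open Groth.Agent.Helper1.LocCohDelta



universe u v u' v'

section additivity
variable {A : Type u} [Category.{v} A] [Abelian A] {B : Type u'} [Category.{v'} B] [Abelian B]
  [HasInjectiveResolutions A]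
variable {F G : A ⥤ B} [F.Additive] [G.Additive]

lemma rightDerived_add (a b : F ⟶ G) (n : ℕ) :
    NatTrans.rightDerived (a + b) n = NatTrans.rightDerived a n + NatTrans.rightDerived b n := by
  ext X
  let I := injectiveResolution X
  rw [NatTrans.app_add, I.rightDerived_app_eq (a + b) n, I.rightDerived_app_eq a n,
    I.rightDerived_app_eq b n]
  have : (NatTrans.mapHomologicalComplex (a + b) (ComplexShape.up ℕ)).app I.cocomplex =
      (NatTrans.mapHomologicalComplex a (ComplexShape.up ℕ)).app I.cocomplex +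
      (NatTrans.mapHomologicalComplex b (ComplexShape.up ℕ)).app I.cocomplex := by
    ext i
    rfl
  rw [this, Functor.map_add, Preadditive.add_comp, Preadditive.comp_add]

lemma rightDerived_zero (n : ℕ) :
    NatTrans.rightDerived (0 : F ⟶ G) n = 0 := by
  have := rightDerived_add (0 : F ⟶ G) 0 n
  rw [add_zero] at this
  exact left_eq_add.mp this |>.symm ▸ rfl

lemma rightDerived_neg (a : F ⟶ G) (n : ℕ) :
    NatTrans.rightDerived (-a) n = - NatTrans.rightDerived a n := by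
  rw [eq_neg_iff_add_eq_zero, ← rightDerived_add, neg_add_cancel, rightDerived_zero]

lemma rightDerived_sub (a b : F ⟶ G) (n : ℕ) :
    NatTrans.rightDerived (a - b) n = NatTrans.rightDerived a n - NatTrans.rightDerived b n := by
  rw [sub_eq_add_neg, rightDerived_add, rightDerived_neg, ← sub_eq_add_neg]

end additivity


section


variable {R : Type u} [CommRing R] (I J : Ideal R)

lemma exists_pow_inf_le [IsNoetherianRing R] (n : ℕ) : ∃ a, I ^ a ⊓ J ^ a ≤ (I ⊓ J) ^ n := by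
  obtain ⟨k, hk⟩ := Ideal.exists_pow_inf_eq_pow_smul I (J ^ n : Submodule R R)
  refine ⟨n + k, ?_⟩
  have h1 := hk (n + k) (Nat.le_add_left _ _)
  rw [Nat.add_sub_cancel] at h1
  have h2 : I ^ (n + k) ⊓ J ^ (n + k) ≤ I ^ (n + k) • (⊤ : Submodule R R) ⊓ (J ^ n : Submodule R R) := by
    refine le_inf ?_ (inf_le_right.trans (Ideal.pow_le_pow_right (Nat.le_add_right _ _)))
    intro x hx
    simpa using hx.1
  refine h2.trans ?_
  rw [h1]
  have h3 : I ^ n • (I ^ k • (⊤ : Submodule R R) ⊓ (J ^ n : Submodule R R)) ≤ I ^ n • (J ^ n : Submodule R R) :=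
    Submodule.smul_mono le_rfl inf_le_right
  refine h3.trans ?_
  rw [smul_eq_mul, ← mul_pow]
  exact Ideal.pow_right_mono Ideal.mul_le_inf n

variable {I J}

lemma decomp [IsNoetherianRing R] (E : Type u) [AddCommGroup E] [Module R E] [Module.Injective R E]
    (z : E) (hz : z ∈ DRing.torsionSub (I ⊓ J) E) :
    ∃ x ∈ DRing.torsionSub I E, ∃ y ∈ DRing.torsionSub J E, z = x + y := by
  obtain ⟨n, hn⟩ := hz
  obtain ⟨a, ha⟩ := exists_pow_inf_le I J n
  set K : Ideal R := I ^ a ⊓ J ^ a with hK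
  let g : (R ⧸ K) →ₗ[R] E := Submodule.liftQ K (LinearMap.toSpanSingleton R E z) (by
    intro r hr
    simpa using hn r (ha hr))
  let f : (R ⧸ K) →ₗ[R] (R ⧸ I ^ a) × (R ⧸ J ^ a) :=
    Submodule.liftQ K (LinearMap.prod (Submodule.mkQ (I ^ a)) (Submodule.mkQ (J ^ a))) (by
      intro r hr
      rw [LinearMap.mem_ker]
      change ((Submodule.Quotient.mk r : R ⧸ I ^ a), (Submodule.Quotient.mk r : R ⧸ J ^ a)) = 0
      rw [Prod.mk_eq_zero, Submodule.Quotient.mk_eq_zero, Submodule.Quotient.mk_eq_zero]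
      exact ⟨hr.1, hr.2⟩)
  have hf : Function.Injective f := by
    rw [← LinearMap.ker_eq_bot]
    refine Submodule.ker_liftQ_eq_bot _ _ _ ?_
    intro r hr
    rw [LinearMap.mem_ker] at hr
    change ((Submodule.Quotient.mk r : R ⧸ I ^ a), (Submodule.Quotient.mk r : R ⧸ J ^ a)) = 0 at hr
    rw [Prod.mk_eq_zero, Submodule.Quotient.mk_eq_zero, Submodule.Quotient.mk_eq_zero] at hr
    exact ⟨hr.1, hr.2⟩
  obtain ⟨h, hh⟩ := Module.Injective.extension_property R E _ _ f hf g
  refine ⟨h (Submodule.Quotient.mk 1, 0), ⟨a, fun r hr => ?_⟩, h (0, Submodule.Quotient.mk 1),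
    ⟨a, fun r hr => ?_⟩, ?_⟩
  · rw [← map_smul, Prod.smul_mk, smul_zero, ← Submodule.Quotient.mk_smul, smul_eq_mul, mul_one,
      (Submodule.Quotient.mk_eq_zero _).2 hr]
    exact map_zero h
  · rw [← map_smul, Prod.smul_mk, smul_zero, ← Submodule.Quotient.mk_smul, smul_eq_mul, mul_one,
      (Submodule.Quotient.mk_eq_zero _).2 hr]
    exact map_zero h
  · rw [← map_add, Prod.mk_add_mk, add_zero, zero_add]
    have := LinearMap.congr_fun hh (Submodule.Quotient.mk 1)
    simp only [LinearMap.coe_comp, Function.comp_apply] at this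
    have h2 : g (Submodule.Quotient.mk 1) = z := by
      show (LinearMap.toSpanSingleton R E z) 1 = z
      simp
    rw [← h2, ← this]
    rfl



variable (I J)

/-- the functor `Γ_I ⊕ Γ_J` -/
def G : ModuleCat.{u} R ⥤ ModuleCat.{u} R where
  obj M := ModuleCat.of R (DRing.torsionSub I M × DRing.torsionSub J M)
  map f := ModuleCat.ofHom
    (LinearMap.prodMap ((DRing.gammaI I).map f).hom ((DRing.gammaI J).map f).hom)

instance : (G I J).Additive where
  map_add := by intros; rfl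

def p₁ : G I J ⟶ DRing.gammaI I where
  app M := ModuleCat.ofHom (LinearMap.fst R _ _)
  naturality _ _ _ := rfl

def p₂ : G I J ⟶ DRing.gammaI J where
  app M := ModuleCat.ofHom (LinearMap.snd R _ _)
  naturality _ _ _ := rfl

def i₁ : DRing.gammaI I ⟶ G I J where
  app M := ModuleCat.ofHom (LinearMap.inl R _ _)
  naturality _ _ f := by
    apply ModuleCat.hom_ext; apply LinearMap.ext; intro x
    refine Prod.ext rfl ?_
    exact (map_zero ((DRing.gammaI J).map f).hom).symm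

def i₂ : DRing.gammaI J ⟶ G I J where
  app M := ModuleCat.ofHom (LinearMap.inr R _ _)
  naturality _ _ f := by
    apply ModuleCat.hom_ext; apply LinearMap.ext; intro x
    refine Prod.ext ?_ rfl
    exact (map_zero ((DRing.gammaI I).map f).hom).symm

lemma i₁_p₁ : i₁ I J ≫ p₁ I J = 𝟙 _ := rfl
lemma i₂_p₂ : i₂ I J ≫ p₂ I J = 𝟙 _ := rfl
lemma i₁_p₂ : i₁ I J ≫ p₂ I J = 0 := rfl
lemma i₂_p₁ : i₂ I J ≫ p₁ I J = 0 := rfl
lemma p_i : p₁ I J ≫ i₁ I J + p₂ I J ≫ i₂ I J = 𝟙 _ := by
  ext M : 2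
  apply ModuleCat.hom_ext; apply LinearMap.ext; intro x
  refine Prod.ext ?_ ?_
  · exact add_zero _
  · exact zero_add _

/-- `Γ_{I+J} ⟶ Γ_I ⊕ Γ_J` -/
def α : DRing.gammaI (I ⊔ J) ⟶ G I J :=
  gammaLE (le_sup_left : I ≤ I ⊔ J) ≫ i₁ I J + gammaLE (le_sup_right : J ≤ I ⊔ J) ≫ i₂ I J

/-- `Γ_I ⊕ Γ_J ⟶ Γ_{I ∩ J}` -/
def β : G I J ⟶ DRing.gammaI (I ⊓ J) :=
  p₁ I J ≫ gammaLE (inf_le_left : I ⊓ J ≤ I) - p₂ I J ≫ gammaLE (inf_le_right : I ⊓ J ≤ J)

lemma α_p₁ : α I J ≫ p₁ I J = gammaLE (le_sup_left : I ≤ I ⊔ J) := by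
  ext M : 2
  apply ModuleCat.hom_ext; apply LinearMap.ext; intro x
  exact add_zero _

lemma α_p₂ : α I J ≫ p₂ I J = gammaLE (le_sup_right : J ≤ I ⊔ J) := by
  ext M : 2
  apply ModuleCat.hom_ext; apply LinearMap.ext; intro x
  exact zero_add _

lemma α_β : α I J ≫ β I J = 0 := by
  ext M : 2
  apply ModuleCat.hom_ext; apply LinearMap.ext; intro x
  apply Subtype.ext
  obtain ⟨x, hx⟩ := x
  show (x + 0) - (0 + x) = 0
  simp


lemma mem_sup_torsion {M : Type u} [AddCommGroup M] [Module R M] (x : M)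
    (h1 : x ∈ DRing.torsionSub I M) (h2 : x ∈ DRing.torsionSub J M) :
    x ∈ DRing.torsionSub (I ⊔ J) M := by
  obtain ⟨n, hn⟩ := h1
  obtain ⟨m, hm⟩ := h2
  refine ⟨n + m, fun a ha => ?_⟩
  obtain ⟨b, hb, c, hc, rfl⟩ := Submodule.mem_sup.1 (Ideal.sup_pow_add_le_pow_sup_pow ha)
  rw [add_smul, hn b hb, hm c hc, add_zero]

lemma shortExact_of_injective [IsNoetherianRing R] (E : ModuleCat.{u} R) [Injective E] :
    (FunLES.sc (α I J) (β I J) (α_β I J) E).ShortExact := by
  haveI : Module.Injective R E := Module.injective_module_of_injective_object R E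
  have hex : (FunLES.sc (α I J) (β I J) (α_β I J) E).Exact := by
    rw [ShortComplex.moduleCat_exact_iff]
    rintro ⟨⟨x, hx⟩, ⟨y, hy⟩⟩ hxy
    have hxy' : x - y = 0 := congrArg Subtype.val hxy
    have e : x = y := sub_eq_zero.1 hxy'
    subst e
    refine ⟨⟨x, mem_sup_torsion I J x hx hy⟩, ?_⟩
    refine Prod.ext (Subtype.ext ?_) (Subtype.ext ?_)
    · exact add_zero x
    · exact zero_add x
  have hmono : Mono (FunLES.sc (α I J) (β I J) (α_β I J) E).f := by
    rw [ModuleCat.mono_iff_injective]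
    rintro ⟨x, hx⟩ ⟨y, hy⟩ hxy
    apply Subtype.ext
    have := congrArg (fun t => (t.1 : E)) hxy
    have h' : x + 0 = y + 0 := this
    simpa using h'
  have hepi : Epi (FunLES.sc (α I J) (β I J) (α_β I J) E).g := by
    rw [ModuleCat.epi_iff_surjective]
    rintro ⟨z, hz⟩
    obtain ⟨x, hx, y, hy, rfl⟩ := decomp (I := I) (J := J) E z hz
    refine ⟨(⟨x, hx⟩, ⟨-y, Submodule.neg_mem _ hy⟩), ?_⟩
    apply Subtype.ext
    show x - (-y) = x + y
    rw [sub_neg_eq_add]
  exact ShortComplex.ShortExact.mk' hex hmono hepi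

end

end Groth.Agent.Helper1.MVLC
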