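import Mathlib
import Groth.Agent.Helper1.MVLocCoh
import Groth.Agent.Helper1.MVAbstract

set_option autoImplicit false

namespace Groth.Agent.Helper1.MVLC
open CategoryTheory Limits
open Groth.Agent.Helper1.LocCohDelta

universe u

variable {R : Type u} [CommRing R]

lemma exact_iff_aux {X Y Z : ModuleCat.{u} R} (f : X ⟶ Y) (g : Y ⟶ Z)
    (h : ∃ w : f ≫ g = 0, (ShortComplex.mk f g w).Exact) (x : Y) :
    g.hom x = 0 ↔ ∃ y, f.hom y = x := by
  obtain ⟨w, hex⟩ := h
  constructor
  · intro hx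
    exact (ShortComplex.moduleCat_exact_iff _).1 hex x hx
  · rintro ⟨y, rfl⟩
    have := congrArg (fun t => t.hom y) w
    exact this

lemma nat_apply {F G H : ModuleCat.{u} R ⥤ ModuleCat.{u} R} {a : F ⟶ G} {b : G ⟶ H} {c : F ⟶ H}
    (h : a ≫ b = c) (X : ModuleCat.{u} R) (x : F.obj X) :
    (b.app X).hom ((a.app X).hom x) = (c.app X).hom x := by
  subst h
  rfl

variable [IsNoetherianRing R] (I J : Ideal R)

theorem mv (M : Type u) [AddCommGroup M] [Module R M] :
    ∃ δ : ∀ i : ℕ, LocCoh.H (I ⊓ J) i M →ₗ[R] LocCoh.H (I ⊔ J) (i + 1) M, Function.Injective (LinearMap.prod ((Dual2.HmapOfLE (le_sup_left : I ≤ I ⊔ J) 0).app (ModuleCat.of R M)).hom ((Dual2.HmapOfLE (le_sup_right : J ≤ I ⊔ J) 0).app (ModuleCat.of R M)).hom) ∧ (∀ i : ℕ, LinearMap.ker (LinearMap.prod ((Dual2.HmapOfLE (le_sup_left : I ≤ I ⊔ J) (i + 1)).app (ModuleCat.of R M)).hom ((Dual2.HmapOfLE (le_sup_right : J ≤ I ⊔ J) (i + 1)).app (ModuleCat.of R M)).hom) = LinearMap.range (δ i)) ∧ (∀ i : ℕ,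 LinearMap.ker (((Dual2.HmapOfLE (inf_le_left : I ⊓ J ≤ I) i).app (ModuleCat.of R M)).hom ∘ₗ LinearMap.fst R (LocCoh.H I i M) (LocCoh.H J i M) - ((Dual2.HmapOfLE (inf_le_right : I ⊓ J ≤ J) i).app (ModuleCat.of R M)).hom ∘ₗ LinearMap.snd R (LocCoh.H I i M) (LocCoh.H J i M)) = LinearMap.range (LinearMap.prod ((Dual2.HmapOfLE (le_sup_left : I ≤ I ⊔ J) i).app (ModuleCat.of R M)).hom ((Dual2.HmapOfLE (le_sup_right : J ≤ I ⊔ J) i).app (ModuleCat.of R M)).hom)) ∧ (∀ i : ℕ, LinearMap.ker (δ i) = LinearMap.range (((Dual2.HmapOfLE (inf_le_left : I ⊓ J ≤ I) i).app (ModuleCat.of R M)).hom ∘ₗ LinearMap.fst R (LocCoh.H I i M) (LocCoh.H J i M) - ((Dual2.HmapOfLE (inf_le_right : I ⊓ J ≤ J) i).app (ModuleCat.of R M)).hom ∘ₗ LinearMap.snd R (LocCoh.H I i M) (LocCoh.H J i M))) := by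
  let X : ModuleCat.{u} R := ModuleCat.of R M
  have hinj : ∀ (E : ModuleCat.{u} R) [Injective E],
      (FunLES.sc (α I J) (β I J) (α_β I J) E).ShortExact :=
    fun E _ => shortExact_of_injective I J E
  have hcmp : ∀ {K K' : Ideal R} (h : K ≤ K') (n : ℕ) (x : (localCohomology K' n).obj X),
      ((lcIsoδ K n).app X).toLinearEquiv (((Dual2.HmapOfLE h n).app X).hom x) =
        ((NatTrans.rightDerived (gammaLE h) n).app X).hom
          (((lcIsoδ K' n).app X).toLinearEquiv x) := by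
    intro K K' h n x
    exact congrArg (fun t => (t.app X).hom x) (hmap_lcIsoδ h n)
  have hder : ∀ {F₁ F₂ F₃ : ModuleCat.{u} R ⥤ ModuleCat.{u} R} [F₁.Additive] [F₂.Additive]
      [F₃.Additive] {a : F₁ ⟶ F₂} {b : F₂ ⟶ F₃} {c : F₁ ⟶ F₃} (h : a ≫ b = c) (n : ℕ)
      (x : (F₁.rightDerived n).obj X),
      ((NatTrans.rightDerived b n).app X).hom (((NatTrans.rightDerived a n).app X).hom x) =
        ((NatTrans.rightDerived c n).app X).hom x := by
    intro F₁ F₂ F₃ _ _ _ a b c h n x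
    refine nat_apply ?_ X x
    rw [← NatTrans.rightDerived_comp, h]
  refine abstract_mv (R := R)
    (A := fun n => (localCohomology (I ⊔ J) n).obj X)
    (B := fun n => (localCohomology I n).obj X)
    (C := fun n => (localCohomology J n).obj X)
    (D := fun n => (localCohomology (I ⊓ J) n).obj X)
    (A' := fun n => ((DRing.gammaI (I ⊔ J)).rightDerived n).obj X)
    (B' := fun n => ((DRing.gammaI I).rightDerived n).obj X)
    (C' := fun n => ((DRing.gammaI J).rightDerived n).obj X)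
    (D' := fun n => ((DRing.gammaI (I ⊓ J)).rightDerived n).obj X)
    (G' := fun n => ((G I J).rightDerived n).obj X)
    (fun n => ((lcIsoδ (I ⊔ J) n).app X).toLinearEquiv)
    (fun n => ((lcIsoδ I n).app X).toLinearEquiv)
    (fun n => ((lcIsoδ J n).app X).toLinearEquiv)
    (fun n => ((lcIsoδ (I ⊓ J) n).app X).toLinearEquiv)
    (fun n => ((Dual2.HmapOfLE (le_sup_left : I ≤ I ⊔ J) n).app X).hom)
    (fun n => ((Dual2.HmapOfLE (le_sup_right : J ≤ I ⊔ J) n).app X).hom)
    (fun n => ((Dual2.HmapOfLE (inf_le_left : I ⊓ J ≤ I) n).app X).hom)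
    (fun n => ((Dual2.HmapOfLE (inf_le_right : I ⊓ J ≤ J) n).app X).hom)
    (fun n => ((NatTrans.rightDerived (gammaLE (le_sup_left : I ≤ I ⊔ J)) n).app X).hom)
    (fun n => ((NatTrans.rightDerived (gammaLE (le_sup_right : J ≤ I ⊔ J)) n).app X).hom)
    (fun n => ((NatTrans.rightDerived (gammaLE (inf_le_left : I ⊓ J ≤ I)) n).app X).hom)
    (fun n => ((NatTrans.rightDerived (gammaLE (inf_le_right : I ⊓ J ≤ J)) n).app X).hom)
    (fun n x => hcmp _ n x) (fun n x => hcmp _ n x) (fun n x => hcmp _ n x) (fun n x => hcmp _ n x)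
    (fun n => ((NatTrans.rightDerived (α I J) n).app X).hom)
    (fun n => ((NatTrans.rightDerived (β I J) n).app X).hom)
    (fun n => ((FunLES.δ (α I J) (β I J) (α_β I J) hinj n).app X).hom)
    (fun n => ((NatTrans.rightDerived (p₁ I J) n).app X).hom)
    (fun n => ((NatTrans.rightDerived (p₂ I J) n).app X).hom)
    (fun n => ((NatTrans.rightDerived (i₁ I J) n).app X).hom)
    (fun n => ((NatTrans.rightDerived (i₂ I J) n).app X).hom)
    ?_ ?_ ?_ ?_ ?_ ?_ ?_ ?_ ?_ ?_ ?_ ?_
  · -- hπι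
    intro n x
    have h := congrArg (fun t : G I J ⟶ G I J => ((NatTrans.rightDerived t n).app X).hom x) (p_i I J)
    simp only [rightDerived_add, NatTrans.rightDerived_comp, NatTrans.rightDerived_id] at h
    exact h
  · intro n x
    have h := hder (i₁_p₁ I J) n x
    rw [NatTrans.rightDerived_id] at h
    exact h
  · intro n x
    have h := hder (i₁_p₂ I J) n x
    rw [rightDerived_zero] at h
    exact h
  · intro n x
    have h := hder (i₂_p₁ I J) n x
    rw [rightDerived_zero] at h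
    exact h
  · intro n x
    have h := hder (i₂_p₂ I J) n x
    rw [NatTrans.rightDerived_id] at h
    exact h
  · intro n x
    exact hder (α_p₁ I J) n x
  · intro n x
    exact hder (α_p₂ I J) n x
  · intro n x
    have h : NatTrans.rightDerived (β I J) n =
        NatTrans.rightDerived (p₁ I J) n ≫ NatTrans.rightDerived (gammaLE inf_le_left) n -
          NatTrans.rightDerived (p₂ I J) n ≫ NatTrans.rightDerived (gammaLE inf_le_right) n := by
      rw [← NatTrans.rightDerived_comp, ← NatTrans.rightDerived_comp, ← rightDerived_sub]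
      rfl
    exact congrArg (fun t => (t.app X).hom x) h
  · have := FunLES.mono₀ (α I J) (β I J) (α_β I J) hinj X
    exact (ModuleCat.mono_iff_injective _).1 this
  · intro n x
    exact exact_iff_aux _ _ (FunLES.les₁ (α I J) (β I J) (α_β I J) hinj n X) x
  · intro n x
    exact exact_iff_aux _ _ (FunLES.les₂ (α I J) (β I J) (α_β I J) hinj n X) x
  · intro n x
    exact exact_iff_aux _ _ (FunLES.les₃ (α I J) (β I J) (α_β I J) hinj n X) x

end Groth.Agent.Helper1.MVLC
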