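import Mathlib
import Groth.Agent.Helper1.HLVT5
import Groth.Agent.Helper1.MVLocCoh2
import Groth.Agent.Helper1.LocCohCd
import Groth.Agent.Helper1.SupportDim
import Groth.Agent.Helper1.LocCohNonvanish2

set_option autoImplicit false
set_option linter.style.haveILetI false

/-!
# Faltings' connectedness lemma (complete local domain case)
-/

namespace Groth.Agent.Helper1.FaltConn
open IsLocalRing CategoryTheory Limits

universe u

lemma add_one_le_of_lt' (y : WithBot ℕ∞) (d : ℕ) (h : (d : WithBot ℕ∞) < y) :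
    (d : WithBot ℕ∞) + 1 ≤ y := by
  induction y using WithBot.recBotCoe with
  | bot => exact absurd h (by simp)
  | coe e =>
    induction e using ENat.recTopCoe with
    | top => exact le_top
    | coe m =>
      have : d < m := by exact_mod_cast h
      have h2 : d + 1 ≤ m := this
      exact_mod_cast h2

lemma lt_of_add_one_lt_add_one' (y : WithBot ℕ∞) (d : ℕ) (h : (d : WithBot ℕ∞) + 1 < y + 1) :
    (d : WithBot ℕ∞) < y := by
  induction y using WithBot.recBotCoe with
  | bot => exact absurd h (by simp)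
  | coe e =>
    induction e using ENat.recTopCoe with
    | top => exact WithBot.coe_lt_coe.2 (ENat.natCast_lt_top d)
    | coe m =>
      have : d + 1 < m + 1 := by exact_mod_cast h
      have h2 : d < m := by omega
      exact_mod_cast h2

lemma radical_inf_sup_span {R : Type*} [CommRing R] (a b : Ideal R) (x : R) :
    ((a ⊓ b) ⊔ Ideal.span {x}).radical =
      ((a ⊔ Ideal.span {x}) ⊓ (b ⊔ Ideal.span {x})).radical := by
  refine le_antisymm (Ideal.radical_mono
    (le_inf (sup_le_sup_right inf_le_left _) (sup_le_sup_right inf_le_right _))) ?_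
  rw [Ideal.radical_le_radical_iff]
  intro y hy
  obtain ⟨hya, hyb⟩ := hy
  obtain ⟨a₁, ha₁, s₁, hs₁, h1⟩ := Submodule.mem_sup.1 hya
  obtain ⟨b₁, hb₁, s₂, hs₂, h2⟩ := Submodule.mem_sup.1 hyb
  refine ⟨2, ?_⟩
  have : y ^ 2 = a₁ * b₁ + (a₁ * s₂ + s₁ * y) := by
    rw [pow_two]
    calc y * y = (a₁ + s₁) * y := by rw [h1]
      _ = a₁ * y + s₁ * y := add_mul _ _ _
      _ = a₁ * (b₁ + s₂) + s₁ * y := by rw [h2]
      _ = _ := by ring
  rw [this]
  refine Submodule.add_mem_sup ?_ ?_
  · exact ⟨Ideal.mul_mem_right _ _ ha₁, Ideal.mul_mem_left _ _ hb₁⟩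
  · exact add_mem (Ideal.mul_mem_left _ _ hs₂) (Ideal.mul_mem_right _ _ hs₁)

section general

variable {R : Type u} [CommRing R] [IsNoetherianRing R]

lemma cdLE_of_radical_eq {I J : Ideal R} (h : I.radical = J.radical) (k : ℕ)
    (hI : LocCoh.CdLE R I k) : LocCoh.CdLE R J k := by
  intro M _ _ i hi
  have e := (localCohomology.isoOfSameRadical h i).app (ModuleCat.of R M)
  haveI := hI M i hi
  exact e.symm.toLinearEquiv.toEquiv.subsingleton

lemma supportDim_quotSMulTop_quotient (c : Ideal R) (x : R) :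
    Module.supportDim R (QuotSMulTop x (R ⧸ c)) = ringKrullDim (R ⧸ (c ⊔ Ideal.span {x})) := by
  rw [← Module.supportDim_quotient_eq_ringKrullDim]
  unfold Module.supportDim
  have : Module.support R (QuotSMulTop x (R ⧸ c)) = Module.support R (R ⧸ (c ⊔ Ideal.span {x})) := by
    rw [Module.support_quotSMulTop, Module.support_eq_zeroLocus, Module.support_eq_zeroLocus,
      Ideal.annihilator_quotient, Ideal.annihilator_quotient]
    ext p
    simp [PrimeSpectrum.mem_zeroLocus, Ideal.span_le]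
  rw [this]

variable [IsLocalRing R]

lemma dim_le_dim_sup_span_succ (c : Ideal R) (x : R) (hx : x ∈ maximalIdeal R) :
    ringKrullDim (R ⧸ c) ≤ ringKrullDim (R ⧸ (c ⊔ Ideal.span {x})) + 1 := by
  rw [← supportDim_quotSMulTop_quotient, ← Module.supportDim_quotient_eq_ringKrullDim]
  exact Module.supportDim_le_supportDim_quotSMulTop_succ hx

lemma exists_dim_sup_span_le (c : Ideal R) (d : ℕ) (h : ringKrullDim (R ⧸ c) ≤ d + 1) :
    ∃ x ∈ maximalIdeal R, ringKrullDim (R ⧸ (c ⊔ Ideal.span {x})) ≤ d := by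
  haveI : Finite (MaximalSpectrum R) := inferInstance
  obtain ⟨x, hx, hxp⟩ := Groth.Agent.Helper1.SupportDim.exists_mem_jacobson_notMem c
  refine ⟨x, ?_, ?_⟩
  · rwa [IsLocalRing.ringJacobson_eq_maximalIdeal] at hx
  · rw [← supportDim_quotSMulTop_quotient]
    refine Groth.Agent.Helper1.SupportDim.supportDim_quotSMulTop_le ?_ d ?_
    · rw [Ideal.annihilator_quotient]
      exact hxp
    · rw [Module.supportDim_quotient_eq_ringKrullDim]
      exact h

lemma radical_eq_maximalIdeal_of_dim_le_zero (c : Ideal R) (hc : c ≠ ⊤)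
    (h : ringKrullDim (R ⧸ c) ≤ 0) : c.radical = maximalIdeal R := by
  refine le_antisymm ?_ ?_
  · exact (Ideal.radical_mono (le_maximalIdeal hc)).trans
      (Ideal.IsPrime.radical (inferInstance : (maximalIdeal R).IsPrime)).le
  · rw [Ideal.radical_eq_sInf]
    refine le_sInf fun p ⟨hcp, hp⟩ => ?_
    haveI := hp
    have : Ring.KrullDimLE 0 (R ⧸ c) := (Ring.krullDimLE_iff (n := 0)).2 (by simpa using h)
    have hmax : (p.map (Ideal.Quotient.mk c)).IsMaximal := by
      haveI : (p.map (Ideal.Quotient.mk c)).IsPrime :=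
        Ideal.map_isPrime_of_surjective Ideal.Quotient.mk_surjective (by simpa using hcp)
      exact Ideal.IsPrime.isMaximal' inferInstance
    have hpmax : p.IsMaximal := by
      have := Ideal.comap_isMaximal_of_surjective (Ideal.Quotient.mk c)
        Ideal.Quotient.mk_surjective (K := p.map (Ideal.Quotient.mk c))
      rwa [Ideal.comap_map_of_surjective _ Ideal.Quotient.mk_surjective, ← RingHom.ker_eq_comap_bot,
        Ideal.mk_ker, sup_eq_left.2 hcp] at this
    rw [IsLocalRing.eq_maximalIdeal hpmax]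

end general

section domain

variable (R : Type u) [CommRing R] [IsDomain R] [IsNoetherianRing R] [IsLocalRing R]
  [IsAdicComplete (maximalIdeal R) R]

/-- base case: `a + b` is `𝔪`-primary -/
theorem base (n : ℕ) (hn : ringKrullDim R = n) (a b : Ideal R)
    (ha0 : 0 < ringKrullDim (R ⧸ a)) (hb0 : 0 < ringKrullDim (R ⧸ b))
    (hab : (a ⊔ b).radical = maximalIdeal R) (k : ℕ) (hk : LocCoh.CdLE R (a ⊓ b) k) :
    n ≤ k + 1 := by
  by_contra hcon
  push Not at hcon
  obtain ⟨i, rfl⟩ : ∃ i, n = i + 1 := ⟨n - 1, by omega⟩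
  have hki : k < i := by omega
  obtain ⟨δ, -, h2, -, -⟩ := Groth.Agent.Helper1.MVLC.mv a b R
  have hz : ∀ c : Ideal R, 0 < ringKrullDim (R ⧸ c) →
      Subsingleton (LocCoh.H c (i + 1) R) := fun c hc =>
    ModuleCat.isZero_iff_subsingleton.1
      (Groth.Agent.Helper1.LocCohNonvanish.top_vanish_of_dim_one (R := R) (i + 1) hn
        (fun P _ hP => Groth.Agent.Helper1.HLVT.complete_domain_case R (i + 1) hn P hP) c hc
        (ModuleCat.of R R))
  haveI := hz a ha0
  haveI := hz b hb0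
  haveI : Subsingleton (LocCoh.H (a ⊓ b) i R) := hk R i hki
  have hker := h2 i
  have hrange : LinearMap.range (δ i) = ⊥ := by
    rw [LinearMap.range_eq_bot]
    exact Subsingleton.elim _ _
  rw [hrange, LinearMap.ker_eq_bot] at hker
  haveI : Subsingleton (LocCoh.H (a ⊔ b) (i + 1) R) := hker.subsingleton
  have hrad : (a ⊔ b).radical = (maximalIdeal R).radical := by
    rw [hab, (Ideal.IsPrime.radical (inferInstance : (maximalIdeal R).IsPrime))]
  have e := (localCohomology.isoOfSameRadical hrad (i + 1)).app (ModuleCat.of R R)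
  have hsd : Module.supportDim R R = ((i + 1 : ℕ) : WithBot ℕ∞) := by
    rw [Module.supportDim_self_eq_ringKrullDim, hn]
  refine Groth.Agent.Helper1.LocCohNonvanish.nonvanishing (R := R) (i + 1) R hsd ?_
  exact IsZero.of_iso (ModuleCat.isZero_iff_subsingleton.2 ‹_›) e.symm

theorem main_aux (n : ℕ) (hn : ringKrullDim R = n) (d : ℕ) : ∀ (a b : Ideal R) (_ : a ≠ ⊤)
    (_ : b ≠ ⊤) (_ : ringKrullDim (R ⧸ (a ⊔ b)) ≤ d)
    (_ : ringKrullDim (R ⧸ (a ⊔ b)) < min (ringKrullDim (R ⧸ a)) (ringKrullDim (R ⧸ b)))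
    (k : ℕ) (_ : LocCoh.CdLE R (a ⊓ b) k), n ≤ k + d + 1 := by
  induction d with
  | zero =>
    intro a b ha hb hd hab k hk
    have hsup : a ⊔ b ≠ ⊤ := fun h => by
      have : a ⊔ b ≤ maximalIdeal R := sup_le (le_maximalIdeal ha) (le_maximalIdeal hb)
      rw [h] at this
      exact (Ideal.IsPrime.ne_top inferInstance) (top_le_iff.1 this)
    have h0 : (0 : WithBot ℕ∞) ≤ ringKrullDim (R ⧸ (a ⊔ b)) := by
      haveI : Nontrivial (R ⧸ (a ⊔ b)) := Ideal.Quotient.nontrivial_iff.2 hsup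
      exact ringKrullDim_nonneg_of_nontrivial
    have hrad := radical_eq_maximalIdeal_of_dim_le_zero (a ⊔ b) hsup (by simpa using hd)
    have := base R n hn a b (lt_of_le_of_lt h0 (lt_of_lt_of_le hab (min_le_left _ _)))
      (lt_of_le_of_lt h0 (lt_of_lt_of_le hab (min_le_right _ _))) hrad k hk
    omega
  | succ d ih =>
    intro a b ha hb hd hab k hk
    by_cases hle : ringKrullDim (R ⧸ (a ⊔ b)) ≤ d
    · have := ih a b ha hb hle hab k hk
      omega
    · push Not at hle
      have hd' : ringKrullDim (R ⧸ (a ⊔ b)) ≤ (d : WithBot ℕ∞) + 1 := by exact_mod_cast hd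
      obtain ⟨x, hxm, hx⟩ := exists_dim_sup_span_le (a ⊔ b) d hd'
      have ha' : a ⊔ Ideal.span {x} ≠ ⊤ := fun h => by
        have : a ⊔ Ideal.span {x} ≤ maximalIdeal R :=
          sup_le (le_maximalIdeal ha) ((Ideal.span_singleton_le_iff_mem _).2 hxm)
        rw [h] at this
        exact (Ideal.IsPrime.ne_top inferInstance) (top_le_iff.1 this)
      have hb' : b ⊔ Ideal.span {x} ≠ ⊤ := fun h => by
        have : b ⊔ Ideal.span {x} ≤ maximalIdeal R :=
          sup_le (le_maximalIdeal hb) ((Ideal.span_singleton_le_iff_mem _).2 hxm)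
        rw [h] at this
        exact (Ideal.IsPrime.ne_top inferInstance) (top_le_iff.1 this)
      have hsupeq : (a ⊔ Ideal.span {x}) ⊔ (b ⊔ Ideal.span {x}) = (a ⊔ b) ⊔ Ideal.span {x} := by
        rw [sup_sup_sup_comm, sup_idem]
      have hdle : ringKrullDim (R ⧸ ((a ⊔ Ideal.span {x}) ⊔ (b ⊔ Ideal.span {x}))) ≤ d := by
        rw [hsupeq]; exact hx
      have key : ∀ c : Ideal R, ringKrullDim (R ⧸ (a ⊔ b)) < ringKrullDim (R ⧸ c) →
          ringKrullDim (R ⧸ ((a ⊔ Ideal.span {x}) ⊔ (b ⊔ Ideal.span {x}))) <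
            ringKrullDim (R ⧸ (c ⊔ Ideal.span {x})) := by
        intro c hc
        have h1 := dim_le_dim_sup_span_succ c x hxm
        have h2 : (d : WithBot ℕ∞) + 1 < ringKrullDim (R ⧸ (c ⊔ Ideal.span {x})) + 1 := by
          refine lt_of_le_of_lt ?_ (lt_of_lt_of_le hc h1)
          exact add_one_le_of_lt' _ d hle
        have h3 : (d : WithBot ℕ∞) < ringKrullDim (R ⧸ (c ⊔ Ideal.span {x})) :=
          lt_of_add_one_lt_add_one' _ d h2
        exact lt_of_le_of_lt hdle h3
      have hab' : ringKrullDim (R ⧸ ((a ⊔ Ideal.span {x}) ⊔ (b ⊔ Ideal.span {x}))) <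
          min (ringKrullDim (R ⧸ (a ⊔ Ideal.span {x}))) (ringKrullDim (R ⧸ (b ⊔ Ideal.span {x}))) :=
        lt_min (key a (lt_of_lt_of_le hab (min_le_left _ _)))
          (key b (lt_of_lt_of_le hab (min_le_right _ _)))
      have hrad := radical_inf_sup_span a b x
      have hk' : LocCoh.CdLE R ((a ⊔ Ideal.span {x}) ⊓ (b ⊔ Ideal.span {x})) (k + 1) :=
        cdLE_of_radical_eq hrad (k + 1)
          (Groth.Agent.Helper1.LocCohCd.cdLE_sup_span_singleton (a ⊓ b) x k hk)
      have := ih _ _ ha' hb' hdle hab' (k + 1) hk'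
      omega

/-- **Faltings' connectedness lemma** (complete local domain case) -/
theorem main (n : ℕ) (hn : ringKrullDim R = n) (a b : Ideal R) (ha : a ≠ ⊤) (hb : b ≠ ⊤)
    (hab : ringKrullDim (R ⧸ (a ⊔ b)) < min (ringKrullDim (R ⧸ a)) (ringKrullDim (R ⧸ b)))
    (k : ℕ) (hk : LocCoh.CdLE R (a ⊓ b) k) :
    (n : WithBot ℕ∞) ≤ (k : WithBot ℕ∞) + ringKrullDim (R ⧸ (a ⊔ b)) + 1 := by
  have hsup : a ⊔ b ≠ ⊤ := fun h => by
    have : a ⊔ b ≤ maximalIdeal R := sup_le (le_maximalIdeal ha) (le_maximalIdeal hb)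
    rw [h] at this
    exact (Ideal.IsPrime.ne_top inferInstance) (top_le_iff.1 this)
  have h0 : (0 : WithBot ℕ∞) ≤ ringKrullDim (R ⧸ (a ⊔ b)) := by
    haveI : Nontrivial (R ⧸ (a ⊔ b)) := Ideal.Quotient.nontrivial_iff.2 hsup
    exact ringKrullDim_nonneg_of_nontrivial
  have hle : ringKrullDim (R ⧸ (a ⊔ b)) ≤ n := by
    rw [← hn]
    exact ringKrullDim_le_of_surjective _ Ideal.Quotient.mk_surjective
  obtain ⟨d, hd⟩ : ∃ d : ℕ, ringKrullDim (R ⧸ (a ⊔ b)) = d := by
    haveI : Nontrivial (R ⧸ (a ⊔ b)) := Ideal.Quotient.nontrivial_iff.2 hsup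
    obtain ⟨e', he'⟩ := Groth.Agent.Helper1.LocCohNonvanish.exists_supportDim_eq (R := R)
      (R ⧸ (a ⊔ b))
    rw [Module.supportDim_quotient_eq_ringKrullDim] at he'
    exact ⟨e', he'⟩
  have := main_aux R n hn d a b ha hb hd.le hab k hk
  rw [hd]
  exact_mod_cast this

end domain

end Groth.Agent.Helper1.FaltConn
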