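import Mathlib
import Groth.Agent.Helper1.FaltConn1

set_option autoImplicit false
set_option linter.style.haveILetI false

/-!
# Connectedness of the punctured spectrum of `R/I` for `ara I ≤ dim R - 2`
-/

namespace Groth.Agent.Helper1.FaltConn
open IsLocalRing CategoryTheory Limits

universe u

section

variable {R : Type u} [CommRing R] [IsNoetherianRing R] [IsLocalRing R]

omit [IsNoetherianRing R] in
lemma sup_ne_top {a b : Ideal R} (ha : a ≠ ⊤) (hb : b ≠ ⊤) : a ⊔ b ≠ ⊤ := fun h => by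
  have : a ⊔ b ≤ maximalIdeal R := sup_le (le_maximalIdeal ha) (le_maximalIdeal hb)
  rw [h] at this
  exact (Ideal.IsPrime.ne_top inferInstance) (top_le_iff.1 this)

omit [IsNoetherianRing R] in
/-- if `m` is the only prime containing `c` then `dim R/c ≤ 0` -/
lemma dim_quotient_le_zero (c : Ideal R)
    (h : ∀ p : PrimeSpectrum R, c ≤ p.asIdeal → p.asIdeal = maximalIdeal R) :
    ringKrullDim (R ⧸ c) ≤ 0 := by
  rw [ringKrullDim_quotient]
  haveI : Subsingleton (PrimeSpectrum.zeroLocus (R := R) c) := by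
    refine ⟨fun p q => ?_⟩
    apply Subtype.ext
    apply PrimeSpectrum.ext
    have hp := p.2
    have hq := q.2
    rw [PrimeSpectrum.mem_zeroLocus] at hp hq
    rw [h p.1 hp, h q.1 hq]
  exact Order.krullDim_nonpos_of_subsingleton

omit [IsNoetherianRing R] in
/-- if a non-maximal prime contains `c` then `dim R/c > 0` -/
lemma dim_quotient_pos (c : Ideal R) (p : PrimeSpectrum R) (hcp : c ≤ p.asIdeal)
    (hp : p.asIdeal ≠ maximalIdeal R) : 0 < ringKrullDim (R ⧸ c) := by
  rw [ringKrullDim_quotient, Order.krullDim_pos_iff]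
  refine ⟨⟨p, by rwa [PrimeSpectrum.mem_zeroLocus]⟩, ⟨closedPoint R, ?_⟩, ?_⟩
  · rw [PrimeSpectrum.mem_zeroLocus]
    exact hcp.trans (le_maximalIdeal p.2.ne_top)
  · show p < closedPoint R
    exact lt_of_le_of_ne (le_maximalIdeal p.2.ne_top) (fun h => hp (congrArg (·.asIdeal) h))

lemma cdLE_of_radical_eq_span_range {t : ℕ} (f : Fin t → R) (I : Ideal R)
    (hI : I.radical = (Ideal.span (Set.range f)).radical) : LocCoh.CdLE R I t := by
  classical
  have h1 := Groth.Agent.Helper1.LocCohCd.cdLE_span_finset (Finset.image f Finset.univ)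
  rw [Finset.coe_image, Finset.coe_univ, Set.image_univ] at h1
  have h2 : LocCoh.CdLE R (Ideal.span (Set.range f)) t := fun M _ _ i hi =>
    h1 M i (lt_of_le_of_lt (Finset.card_image_le.trans (by simp)) hi)
  exact cdLE_of_radical_eq hI.symm t h2

end

section domain

variable (R : Type u) [CommRing R] [IsDomain R] [IsNoetherianRing R] [IsLocalRing R]
  [IsAdicComplete (maximalIdeal R) R]

/-- punctured spectrum of `R/I` is connected if `cd I ≤ dim R - 2`. -/
theorem punctured_connected (d : ℕ) (hd : ringKrullDim R = d) (t : ℕ) (ht : t + 2 ≤ d)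
    (I : Ideal R) (hItop : I ≠ ⊤) (hcd : LocCoh.CdLE R I t) :
    _root_.IsConnected {x : PrimeSpectrum R | I ≤ x.asIdeal ∧ x.asIdeal ≠ maximalIdeal R} := by
  constructor
  · by_contra hne
    rw [Set.not_nonempty_iff_eq_empty] at hne
    have hrad : I.radical = (maximalIdeal R).radical := by
      rw [Ideal.IsPrime.radical (inferInstance : (maximalIdeal R).IsPrime)]
      refine radical_eq_maximalIdeal_of_dim_le_zero I hItop (dim_quotient_le_zero I fun p hp => ?_)
      by_contra hpm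
      have : p ∈ ({x : PrimeSpectrum R | I ≤ x.asIdeal ∧ x.asIdeal ≠ maximalIdeal R}) := ⟨hp, hpm⟩
      rw [hne] at this
      exact this
    have e := (localCohomology.isoOfSameRadical hrad d).app (ModuleCat.of R R)
    have hsd : Module.supportDim R R = (d : WithBot ℕ∞) := by
      rw [Module.supportDim_self_eq_ringKrullDim, hd]
    refine Groth.Agent.Helper1.LocCohNonvanish.nonvanishing (R := R) d R hsd ?_
    haveI := hcd R d (by omega)
    exact IsZero.of_iso (ModuleCat.isZero_iff_subsingleton.2 ‹_›) e.symm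
  · rw [isPreconnected_closed_iff]
    intro T T' hT hT' hcov hne1 hne2
    by_contra hcon
    rw [Set.not_nonempty_iff_eq_empty] at hcon
    obtain ⟨a₀, rfl⟩ := (PrimeSpectrum.isClosed_iff_zeroLocus_ideal T).1 hT
    obtain ⟨b₀, rfl⟩ := (PrimeSpectrum.isClosed_iff_zeroLocus_ideal T').1 hT'
    obtain ⟨p, ⟨hpI, hpm⟩, hpa⟩ := hne1
    obtain ⟨q, ⟨hqI, hqm⟩, hqb⟩ := hne2
    rw [PrimeSpectrum.mem_zeroLocus, SetLike.coe_subset_coe] at hpa hqb
    have ha : a₀ ⊔ I ≠ ⊤ := fun h => p.2.ne_top (top_le_iff.1 (h ▸ sup_le hpa hpI))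
    have hb : b₀ ⊔ I ≠ ⊤ := fun h => q.2.ne_top (top_le_iff.1 (h ▸ sup_le hqb hqI))
    have hab0 : ringKrullDim (R ⧸ ((a₀ ⊔ I) ⊔ (b₀ ⊔ I))) ≤ 0 := by
      refine dim_quotient_le_zero _ fun r hr => ?_
      by_contra hrm
      have hr1 : a₀ ≤ r.asIdeal := le_trans (le_sup_left.trans le_sup_left) hr
      have hr2 : b₀ ≤ r.asIdeal := le_trans (le_sup_left.trans le_sup_right) hr
      have hr3 : I ≤ r.asIdeal := le_trans (le_sup_right.trans le_sup_left) hr
      have : r ∈ {x : PrimeSpectrum R | I ≤ x.asIdeal ∧ x.asIdeal ≠ maximalIdeal R} ∩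
          (PrimeSpectrum.zeroLocus (a₀ : Set R) ∩ PrimeSpectrum.zeroLocus (b₀ : Set R)) :=
        ⟨⟨hr3, hrm⟩, by rwa [PrimeSpectrum.mem_zeroLocus, SetLike.coe_subset_coe],
          by rwa [PrimeSpectrum.mem_zeroLocus, SetLike.coe_subset_coe]⟩
      rw [hcon] at this
      exact this
    have hapos : 0 < ringKrullDim (R ⧸ (a₀ ⊔ I)) := dim_quotient_pos _ p (sup_le hpa hpI) hpm
    have hbpos : 0 < ringKrullDim (R ⧸ (b₀ ⊔ I)) := dim_quotient_pos _ q (sup_le hqb hqI) hqm
    have hab : ringKrullDim (R ⧸ ((a₀ ⊔ I) ⊔ (b₀ ⊔ I))) <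
        min (ringKrullDim (R ⧸ (a₀ ⊔ I))) (ringKrullDim (R ⧸ (b₀ ⊔ I))) :=
      lt_min (lt_of_le_of_lt hab0 hapos) (lt_of_le_of_lt hab0 hbpos)
    have hrad : I.radical = ((a₀ ⊔ I) ⊓ (b₀ ⊔ I)).radical := by
      refine le_antisymm (Ideal.radical_mono (le_inf le_sup_right le_sup_right)) ?_
      rw [Ideal.radical_eq_sInf I]
      refine le_sInf fun r ⟨hIr, hr⟩ => ?_
      haveI := hr
      rw [Ideal.IsPrime.radical_le_iff hr]
      by_cases hrm : r = maximalIdeal R
      · rw [hrm]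
        exact inf_le_left.trans (le_maximalIdeal ha)
      · have hmem : (⟨r, hr⟩ : PrimeSpectrum R) ∈
            {x : PrimeSpectrum R | I ≤ x.asIdeal ∧ x.asIdeal ≠ maximalIdeal R} := ⟨hIr, hrm⟩
        rcases hcov hmem with h | h
        · rw [PrimeSpectrum.mem_zeroLocus, SetLike.coe_subset_coe] at h
          exact inf_le_left.trans (sup_le h hIr)
        · rw [PrimeSpectrum.mem_zeroLocus, SetLike.coe_subset_coe] at h
          exact inf_le_right.trans (sup_le h hIr)
    have hk := cdLE_of_radical_eq hrad t hcd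
    have hmain := main R d hd (a₀ ⊔ I) (b₀ ⊔ I) ha hb hab t hk
    have h0 : (0 : WithBot ℕ∞) ≤ ringKrullDim (R ⧸ ((a₀ ⊔ I) ⊔ (b₀ ⊔ I))) := by
      haveI : Nontrivial (R ⧸ ((a₀ ⊔ I) ⊔ (b₀ ⊔ I))) :=
        Ideal.Quotient.nontrivial_iff.2 (sup_ne_top ha hb)
      exact ringKrullDim_nonneg_of_nontrivial
    rw [le_antisymm hab0 h0, add_zero] at hmain
    have : d ≤ t + 1 := by exact_mod_cast hmain
    omega

theorem s17758 (d : ℕ) (hd : ringKrullDim R = d) (t : ℕ) (ht : t + 2 ≤ d) (f : Fin t → R)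
    (I : Ideal R) (hItop : I ≠ ⊤) (hI : I.radical = (Ideal.span (Set.range f)).radical) :
    _root_.IsConnected {x : PrimeSpectrum R | I ≤ x.asIdeal ∧ x.asIdeal ≠ maximalIdeal R} :=
  punctured_connected R d hd t ht I hItop (cdLE_of_radical_eq_span_range f I hI)

end domain

end Groth.Agent.Helper1.FaltConn
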