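import Mathlib
import Groth.Agent.Helper1.FaltConn2
import Groth.Agent.Helper1.LocCohBase
import Groth.Agent.Helper7.CohenV1

set_option autoImplicit false
set_option linter.style.haveILetI false

/-!
# Faltings' connectedness lemma relative to a prime of a complete local ring
-/

namespace Groth.Agent.Helper1.FaltConn
open IsLocalRing CategoryTheory Limits

universe u

section base

variable {R : Type u} [CommRing R] [IsNoetherianRing R] {R' : Type u} [CommRing R'] [Algebra R R']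
  [IsNoetherianRing R']

lemma cdLE_map (J : Ideal R) (k : ℕ) (h : LocCoh.CdLE R J k) :
    LocCoh.CdLE R' (J.map (algebraMap R R')) k := by
  intro M _ _ i hi
  letI : Module R M := Module.compHom M (algebraMap R R')
  haveI : IsScalarTower R R' M := IsScalarTower.of_algebraMap_smul (fun _ _ => rfl)
  obtain ⟨φ, -⟩ := Groth.Agent.Helper1.LocCohBase.exists_addEquiv (R := R) (R' := R') J M i
  haveI := h M i hi
  exact φ.toEquiv.subsingleton

omit [IsNoetherianRing R] [IsNoetherianRing R'] in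
lemma radical_map_inf (a b : Ideal R) (f : R →+* R') :
    ((a ⊓ b).map f).radical = (a.map f ⊓ b.map f).radical := by
  refine le_antisymm (Ideal.radical_mono
    (le_inf (Ideal.map_mono inf_le_left) (Ideal.map_mono inf_le_right))) ?_
  rw [Ideal.radical_le_radical_iff]
  intro y hy
  refine ⟨2, ?_⟩
  rw [pow_two]
  have h1 : y * y ∈ a.map f * b.map f := Ideal.mul_mem_mul hy.1 hy.2
  rw [← Ideal.map_mul] at h1
  exact Ideal.map_mono Ideal.mul_le_inf h1

end base

section complete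

variable (R : Type u) [CommRing R] [IsNoetherianRing R] [IsLocalRing R]
  [IsAdicComplete (maximalIdeal R) R]

/-- **Faltings' connectedness lemma**, relative to a prime of a complete local ring -/
theorem main_prime (p : Ideal R) [p.IsPrime] (a b : Ideal R) (ha : a ≠ ⊤) (hb : b ≠ ⊤)
    (hab : ringKrullDim (R ⧸ (p ⊔ (a ⊔ b))) <
      min (ringKrullDim (R ⧸ (p ⊔ a))) (ringKrullDim (R ⧸ (p ⊔ b))))
    (k : ℕ) (hk : LocCoh.CdLE R (a ⊓ b) k) :
    ringKrullDim (R ⧸ p) ≤ (k : WithBot ℕ∞) + ringKrullDim (R ⧸ (p ⊔ (a ⊔ b))) + 1 := by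
  haveI : IsLocalRing (R ⧸ p) :=
    IsLocalRing.of_surjective' (Ideal.Quotient.mk p) Ideal.Quotient.mk_surjective
  haveI : IsAdicComplete (maximalIdeal (R ⧸ p)) (R ⧸ p) :=
    Groth.Agent.Helper7.Cohen.isAdicComplete_quotient p
  have hpne : p ≠ ⊤ := Ideal.IsPrime.ne_top inferInstance
  have hdimeq : ∀ c : Ideal R, ringKrullDim ((R ⧸ p) ⧸ c.map (Ideal.Quotient.mk p)) =
      ringKrullDim (R ⧸ (p ⊔ c)) := fun c =>
    ringKrullDim_eq_of_ringEquiv (DoubleQuot.quotQuotEquivQuotSup p c)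
  have hne : ∀ c : Ideal R, c ≠ ⊤ → c.map (Ideal.Quotient.mk p) ≠ ⊤ := by
    intro c hc h
    have h1 : (c.map (Ideal.Quotient.mk p)).comap (Ideal.Quotient.mk p) = ⊤ := by
      rw [h, Ideal.comap_top]
    rw [Ideal.comap_map_of_surjective _ Ideal.Quotient.mk_surjective, ← RingHom.ker_eq_comap_bot,
      Ideal.mk_ker] at h1
    exact sup_ne_top hc hpne h1
  obtain ⟨n, hn⟩ : ∃ n : ℕ, ringKrullDim (R ⧸ p) = n := by
    obtain ⟨e', he'⟩ := Groth.Agent.Helper1.LocCohNonvanish.exists_supportDim_eq (R := R) (R ⧸ p)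
    rw [Module.supportDim_quotient_eq_ringKrullDim] at he'
    exact ⟨e', he'⟩
  have hk' : LocCoh.CdLE (R ⧸ p)
      (a.map (Ideal.Quotient.mk p) ⊓ b.map (Ideal.Quotient.mk p)) k :=
    cdLE_of_radical_eq (radical_map_inf a b (Ideal.Quotient.mk p)) k
      (cdLE_map (R' := R ⧸ p) (a ⊓ b) k hk)
  have hab' : ringKrullDim ((R ⧸ p) ⧸ (a.map (Ideal.Quotient.mk p) ⊔ b.map (Ideal.Quotient.mk p))) <
      min (ringKrullDim ((R ⧸ p) ⧸ a.map (Ideal.Quotient.mk p)))
        (ringKrullDim ((R ⧸ p) ⧸ b.map (Ideal.Quotient.mk p))) := by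
    rw [← Ideal.map_sup, hdimeq, hdimeq, hdimeq]
    exact hab
  have := main (R ⧸ p) n hn _ _ (hne a ha) (hne b hb) hab' k hk'
  rw [← Ideal.map_sup, hdimeq, ← hn] at this
  exact this

end complete

end Groth.Agent.Helper1.FaltConn
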