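import Mathlib
import Groth.Agent.Helper1.FaltConn3
import Groth.Agent.Helper6.Ratliff1
import Groth.Agent.Helper2.Caten2
import Groth.Agent.Helper5.ConnDim2
import Groth.Agent.Helper5.NormLocus
import Groth.Agent.Helper1.LocCohTopMod

set_option autoImplicit false
set_option linter.style.haveILetI false
set_option linter.unusedSectionVars false

/-!
# Connectedness dimension bound (Brodmann–Sharp 19.2.9 with `cd` in place of `ara`)
-/

namespace Groth.Agent.Helper1.FaltConn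
open IsLocalRing CategoryTheory Limits

universe u


section domain

variable (D : Type u) [CommRing D] [IsDomain D] [IsNoetherianRing D] [IsLocalRing D]
  [IsAdicComplete (maximalIdeal D) D]

lemma isEquidim_of_isDomain : EGA4.IsEquidim D := by
  intro p hp
  rw [IsDomain.minimalPrimes_eq_singleton_bot, Set.mem_singleton_iff] at hp
  rw [hp]
  exact ringKrullDim_eq_of_ringEquiv (RingEquiv.quotientBot D)

/-- a prime of small height containing an ideal of small cohomological dimension -/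
theorem exists_prime_dim_le (J : Ideal D) (hJ : J ≠ ⊤) (k : ℕ) (hk : LocCoh.CdLE D J k) :
    ∃ P : Ideal D, P.IsPrime ∧ J ≤ P ∧ ringKrullDim D ≤ ringKrullDim (D ⧸ P) + k := by
  obtain ⟨h, hh⟩ : ∃ h : ℕ, J.height = h := ENat.ne_top_iff_exists.1 (Ideal.height_ne_top hJ) |>.imp
    fun h hh => hh.symm
  obtain ⟨P, hP, hJP, hPh⟩ := Ideal.exists_isPrime_height_eq hh
  have hnt := Groth.Agent.Helper1.LocCohNonvanish.nontrivial_lc_height J h hh
  have hhk : h ≤ k := by
    by_contra hcon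
    push Not at hcon
    haveI := hk D h hcon
    exact not_subsingleton _ ‹_›
  refine ⟨P, hP, hJP, ?_⟩
  have hcat : CAlg.IsCatenary D := (Groth.Agent.Helper6.Ratliff.QReg.of_complete D).isCatenary
  have := Groth.Agent.Helper2.Caten2.height_add_coheight_eq hcat (isEquidim_of_isDomain D) ⟨P, hP⟩
  rw [← this, Groth.Agent.Helper2.Caten.dimQuot_eq_coheight ⟨P, hP⟩]
  have h1 : Order.height (⟨P, hP⟩ : PrimeSpectrum D) = h := by
    rw [← hPh]
    exact (PrimeSpectrum.height_eq_orderHeight ⟨P, hP⟩).symm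
  rw [h1, add_comm]
  push_cast
  gcongr

end domain

section complete

variable (R : Type u) [CommRing R] [IsNoetherianRing R] [IsLocalRing R]
  [IsAdicComplete (maximalIdeal R) R]

theorem exists_prime_dim_le' (Q : Ideal R) [Q.IsPrime] (J : Ideal R) (hJ : J ≠ ⊤) (k : ℕ)
    (hk : LocCoh.CdLE R J k) :
    ∃ P : Ideal R, P.IsPrime ∧ Q ≤ P ∧ J ≤ P ∧
      ringKrullDim (R ⧸ Q) ≤ ringKrullDim (R ⧸ P) + k := by
  haveI : IsLocalRing (R ⧸ Q) :=
    IsLocalRing.of_surjective' (Ideal.Quotient.mk Q) Ideal.Quotient.mk_surjective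
  haveI : IsAdicComplete (maximalIdeal (R ⧸ Q)) (R ⧸ Q) :=
    Groth.Agent.Helper7.Cohen.isAdicComplete_quotient Q
  have hQne : Q ≠ ⊤ := Ideal.IsPrime.ne_top inferInstance
  have hJ' : J.map (Ideal.Quotient.mk Q) ≠ ⊤ := by
    intro h
    have h1 : (J.map (Ideal.Quotient.mk Q)).comap (Ideal.Quotient.mk Q) = ⊤ := by
      rw [h, Ideal.comap_top]
    rw [Ideal.comap_map_of_surjective _ Ideal.Quotient.mk_surjective, ← RingHom.ker_eq_comap_bot,
      Ideal.mk_ker] at h1
    exact sup_ne_top hJ hQne h1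
  obtain ⟨P', hP', hJP', hdim⟩ := exists_prime_dim_le (R ⧸ Q) _ hJ' k
    (cdLE_map (R' := R ⧸ Q) J k hk)
  haveI := hP'
  refine ⟨P'.comap (Ideal.Quotient.mk Q), Ideal.comap_isPrime _ _, ?_, ?_, ?_⟩
  · have : Q = RingHom.ker (Ideal.Quotient.mk Q) := Ideal.mk_ker.symm
    conv_lhs => rw [this]
    rw [RingHom.ker_eq_comap_bot]
    exact Ideal.comap_mono bot_le
  · exact Ideal.map_le_iff_le_comap.1 hJP'
  · have hQP : Q ≤ P'.comap (Ideal.Quotient.mk Q) := by
      have : Q = RingHom.ker (Ideal.Quotient.mk Q) := Ideal.mk_ker.symm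
      conv_lhs => rw [this]
      rw [RingHom.ker_eq_comap_bot]
      exact Ideal.comap_mono bot_le
    have e := DoubleQuot.quotQuotEquivQuotSup Q (P'.comap (Ideal.Quotient.mk Q))
    rw [Ideal.map_comap_of_surjective _ Ideal.Quotient.mk_surjective, sup_eq_right.2 hQP] at e
    rw [← ringKrullDim_eq_of_ringEquiv e]
    exact hdim

end complete

section top
variable {R : Type u} [CommRing R]

/-- bounding the dimension of a closed subset of Spec R -/
lemma topDim_le_of_forall {S : Set (PrimeSpectrum R)} (hS : IsClosed S) (d : WithBot ℕ∞)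
    (h : ∀ P ∈ S, ringKrullDim (R ⧸ P.asIdeal) ≤ d) : topologicalKrullDim S ≤ d := by
  obtain ⟨I, rfl⟩ := (PrimeSpectrum.isClosed_iff_zeroLocus_ideal S).1 hS
  rw [Groth.Agent.Helper5.NormLocus.topologicalKrullDim_zeroLocus, ringKrullDim_quotient]
  refine iSup_le fun s => ?_
  let s' : LTSeries (PrimeSpectrum R) := s.map Subtype.val (fun _ _ h => h)
  have h1 : (s'.length : ℕ∞) ≤ Order.coheight s'.head := Order.length_le_coheight_head
  have h2 := Groth.Agent.Helper2.Caten.dimQuot_eq_coheight s'.head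
  have h3 : s'.head ∈ PrimeSpectrum.zeroLocus (I : Set R) := by
    have : s'.head = (s.head).1 := rfl
    rw [this]
    exact s.head.2
  have h4 := h _ h3
  rw [h2] at h4
  refine le_trans ?_ h4
  have : s.length = s'.length := rfl
  rw [this]
  exact_mod_cast h1

lemma zeroLocus_mem_irreducibleComponents {p : Ideal R} (hp : p ∈ minimalPrimes R) :
    PrimeSpectrum.zeroLocus (p : Set R) ∈ irreducibleComponents (PrimeSpectrum R) := by
  rw [← PrimeSpectrum.zeroLocus_minimalPrimes]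
  exact ⟨p, hp, rfl⟩

variable [IsNoetherianRing R] [IsLocalRing R]

/-- a minimal prime `p` of `R` with `dim R/(p+c) = dim R/c` -/
lemma exists_minimalPrimes_dim (c : Ideal R) (hc : c ≠ ⊤) :
    ∃ p ∈ minimalPrimes R, ringKrullDim (R ⧸ c) ≤ ringKrullDim (R ⧸ (p ⊔ c)) := by
  haveI : Nontrivial (R ⧸ c) := Ideal.Quotient.nontrivial_iff.2 hc
  obtain ⟨e, he⟩ := Groth.Agent.Helper1.LocCohNonvanish.exists_supportDim_eq (R := R) (R ⧸ c)
  obtain ⟨P, hP, hPd⟩ := Groth.Agent.Helper1.LocCohTopMod.exists_mem_support_dim_eq e he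
  rw [Module.supportDim_quotient_eq_ringKrullDim] at he
  have hcP : c ≤ P.asIdeal := by
    rw [Module.support_eq_zeroLocus, Ideal.annihilator_quotient,
      PrimeSpectrum.mem_zeroLocus] at hP
    exact hP
  obtain ⟨p, hp, hpP⟩ := Ideal.exists_minimalPrimes_le (I := ⊥) (J := P.asIdeal) bot_le
  refine ⟨p, hp, ?_⟩
  rw [he, ← hPd]
  exact Groth.Agent.Helper1.LocCohNonvanish.ringKrullDim_quotient_anti (sup_le hpP hcP)

end top

section final

variable (R : Type u) [CommRing R] [IsNoetherianRing R] [IsLocalRing R]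
  [IsAdicComplete (maximalIdeal R) R]

theorem s11669 (a b : Ideal R) (ha : a ≠ ⊤) (hb : b ≠ ⊤)
    (hab : ringKrullDim (R ⧸ (a ⊔ b)) < min (ringKrullDim (R ⧸ a)) (ringKrullDim (R ⧸ b)))
    (k : ℕ) (hk : LocCoh.CdLE R (a ⊓ b) k) :
    min (LocCoh.connDim (PrimeSpectrum R) + 1) (LocCoh.subdim (PrimeSpectrum R)) ≤
      ringKrullDim (R ⧸ (a ⊔ b)) + (k : WithBot ℕ∞) + 1 := by
  set δ := ringKrullDim (R ⧸ (a ⊔ b)) with hδ
  by_cases hcase : ∃ p ∈ minimalPrimes R, δ < ringKrullDim (R ⧸ (p ⊔ a)) ∧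
      δ < ringKrullDim (R ⧸ (p ⊔ b))
  · -- case 1
    obtain ⟨p, hp, hpa, hpb⟩ := hcase
    haveI : p.IsPrime := hp.1.1
    have hle : ringKrullDim (R ⧸ (p ⊔ (a ⊔ b))) ≤ δ :=
      Groth.Agent.Helper1.LocCohNonvanish.ringKrullDim_quotient_anti le_sup_right
    have hab' : ringKrullDim (R ⧸ (p ⊔ (a ⊔ b))) <
        min (ringKrullDim (R ⧸ (p ⊔ a))) (ringKrullDim (R ⧸ (p ⊔ b))) :=
      lt_min (lt_of_le_of_lt hle hpa) (lt_of_le_of_lt hle hpb)
    have h1 := main_prime R p a b ha hb hab' k hk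
    refine (min_le_right _ _).trans ?_
    have h2 : LocCoh.subdim (PrimeSpectrum R) ≤ ringKrullDim (R ⧸ p) := by
      rw [← Groth.Agent.Helper5.NormLocus.topologicalKrullDim_zeroLocus]
      exact iInf₂_le _ (zeroLocus_mem_irreducibleComponents hp)
    refine h2.trans (h1.trans ?_)
    rw [add_comm (k : WithBot ℕ∞)]
    gcongr
  · -- case 2
    push Not at hcase
    refine (min_le_left _ _).trans ?_
    gcongr
    let A : Set (Set (PrimeSpectrum R)) :=
      {Z | ∃ p ∈ minimalPrimes R, ringKrullDim (R ⧸ (p ⊔ b)) ≤ δ ∧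
        Z = PrimeSpectrum.zeroLocus (p : Set R)}
    let B : Set (Set (PrimeSpectrum R)) :=
      {Z | ∃ p ∈ minimalPrimes R, δ < ringKrullDim (R ⧸ (p ⊔ b)) ∧
        Z = PrimeSpectrum.zeroLocus (p : Set R)}
    have hA : A ⊆ irreducibleComponents (PrimeSpectrum R) := by
      rintro Z ⟨p, hp, -, rfl⟩
      exact zeroLocus_mem_irreducibleComponents hp
    have hB : B ⊆ irreducibleComponents (PrimeSpectrum R) := by
      rintro Z ⟨p, hp, -, rfl⟩
      exact zeroLocus_mem_irreducibleComponents hp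
    have hAB : A ∪ B = irreducibleComponents (PrimeSpectrum R) := by
      refine Set.Subset.antisymm (Set.union_subset hA hB) ?_
      intro Z hZ
      rw [← PrimeSpectrum.zeroLocus_minimalPrimes] at hZ
      obtain ⟨p, hp, rfl⟩ := hZ
      by_cases h : ringKrullDim (R ⧸ (p ⊔ b)) ≤ δ
      · exact Or.inl ⟨p, hp, h, rfl⟩
      · exact Or.inr ⟨p, hp, not_le.1 h, rfl⟩
    have hBne : B.Nonempty := by
      obtain ⟨p, hp, hpd⟩ := exists_minimalPrimes_dim b hb
      exact ⟨_, p, hp, lt_of_lt_of_le (lt_of_lt_of_le hab (min_le_right _ _)) hpd, rfl⟩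
    have hAne : A.Nonempty := by
      obtain ⟨p, hp, hpd⟩ := exists_minimalPrimes_dim a ha
      have h1 : δ < ringKrullDim (R ⧸ (p ⊔ a)) :=
        lt_of_lt_of_le (lt_of_lt_of_le hab (min_le_left _ _)) hpd
      exact ⟨_, p, hp, not_lt.1 (fun h => absurd (hcase p hp h1) (not_le.2 h)), rfl⟩
    refine (Groth.Agent.Helper5.ConnDim.connDim_le_inter hA hB hAne hBne hAB).trans ?_
    have hcl : IsClosed (⋃₀ A ∩ ⋃₀ B) :=
      (Groth.Agent.Helper5.ConnDim.isClosed_sUnion_components hA).inter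
        (Groth.Agent.Helper5.ConnDim.isClosed_sUnion_components hB)
    refine topDim_le_of_forall hcl _ ?_
    rintro P ⟨⟨_, ⟨p₀, hp₀, hp₀d, rfl⟩, hPp₀⟩, ⟨_, ⟨q₀, hq₀, hq₀d, rfl⟩, hPq₀⟩⟩
    rw [PrimeSpectrum.mem_zeroLocus, SetLike.coe_subset_coe] at hPp₀ hPq₀
    have hne : a ⊓ b ≠ ⊤ := fun h => ha (top_le_iff.1 (h ▸ inf_le_left))
    obtain ⟨P₂, hP₂, hPP₂, hJP₂, hdim⟩ := exists_prime_dim_le' R P.asIdeal (a ⊓ b) hne k hk
    refine hdim.trans ?_
    gcongr
    rcases (Ideal.IsPrime.inf_le hP₂).1 hJP₂ with h | h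
    · -- `a ≤ P₂`
      have h1 : ringKrullDim (R ⧸ (q₀ ⊔ a)) ≤ δ := by
        by_contra hcon
        exact absurd (hcase q₀ hq₀ (not_le.1 hcon)) (not_le.2 hq₀d)
      exact (Groth.Agent.Helper1.LocCohNonvanish.ringKrullDim_quotient_anti
        (sup_le (hPq₀.trans hPP₂) h)).trans h1
    · exact (Groth.Agent.Helper1.LocCohNonvanish.ringKrullDim_quotient_anti
        (sup_le (hPp₀.trans hPP₂) h)).trans hp₀d

end final

end Groth.Agent.Helper1.FaltConn
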