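import Mathlib
import Groth.Agent.Helper1.FaltConn4

set_option autoImplicit false
set_option linter.style.haveILetI false
set_option linter.unusedSectionVars false

/-!
# Connectedness bound for complete local rings (Brodmann–Sharp 19.2.10)
-/

namespace Groth.Agent.Helper1.FaltConn
open IsLocalRing CategoryTheory Limits

universe u

section height

variable {R : Type u} [CommRing R] [IsNoetherianRing R]

open TensorProduct Groth.Agent.Helper1.LocCohNonvanish in
/-- `H^h_I(R) ≠ 0` for `h = ht p`, `p` a minimal prime of `I` -/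
theorem nontrivial_lc_of_mem_minimalPrimes (I p : Ideal R) (hpmin : p ∈ I.minimalPrimes) (h : ℕ)
    (hph : p.height = h) : Nontrivial ((localCohomology I h).obj (ModuleCat.of R R)) := by
  haveI hp : p.IsPrime := hpmin.1.1
  have hIp : I ≤ p := hpmin.1.2
  let Rp := Localization.AtPrime p
  let Ip : Ideal Rp := I.map (algebraMap R Rp)
  have hdim : ringKrullDim Rp = h := by
    rw [IsLocalization.AtPrime.ringKrullDim_eq_height p Rp, hph]
    rfl
  have hmax : maximalIdeal Rp = p.map (algebraMap R Rp) :=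
    (Localization.AtPrime.map_eq_maximalIdeal).symm
  have hrad : Ip.radical = (maximalIdeal Rp).radical := by
    apply le_antisymm
    · apply Ideal.radical_mono
      rw [hmax]
      exact Ideal.map_mono hIp
    · rw [Ideal.radical_le_radical_iff, hmax, Ideal.radical_eq_sInf, le_sInf_iff]
      rintro q ⟨hq', hq⟩
      obtain ⟨h₁, h₂⟩ := ((IsLocalization.AtPrime.orderIsoOfPrime _ p) ⟨q, hq⟩).2
      rw [Ideal.map_le_iff_le_comap] at hq' ⊢
      exact hpmin.2 ⟨h₁, hq'⟩ h₂
  have hnv := nonvanishing h Rp (by rw [Module.supportDim_self_eq_ringKrullDim]; exact hdim)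
  have hnv' : ¬ IsZero ((localCohomology Ip h).obj (ModuleCat.of Rp Rp)) := fun hz =>
    hnv (IsZero.of_iso hz ((localCohomology.isoOfSameRadical hrad h).app _).symm)
  by_contra hcon
  rw [not_nontrivial_iff_subsingleton] at hcon
  apply hnv'
  obtain ⟨e⟩ := FlatBC.nonempty_linearEquiv Rp I R h
  have h1 : Subsingleton (Rp ⊗[R] ((localCohomology I h).obj (ModuleCat.of R R))) := by
    refine ⟨fun x y => ?_⟩
    suffices h0 : ∀ z : Rp ⊗[R] ((localCohomology I h).obj (ModuleCat.of R R)), z = 0 by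
      rw [h0 x, h0 y]
    intro z
    induction z using TensorProduct.induction_on with
    | zero => rfl
    | tmul a b => rw [Subsingleton.elim b 0, TensorProduct.tmul_zero]
    | add a b ha hb => rw [ha, hb, add_zero]
  have h2 : IsZero ((localCohomology Ip h).obj (ModuleCat.of Rp (Rp ⊗[R] R))) :=
    ModuleCat.isZero_iff_subsingleton.2 e.symm.toEquiv.subsingleton
  exact IsZero.of_iso h2 ((localCohomology Ip h).mapIso
    (TensorProduct.AlgebraTensorModule.rid R Rp Rp).toModuleIso.symm)

/-- the height of a minimal prime of `I` is at most the cohomological dimension of `I` -/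
theorem height_le_of_cdLE (I p : Ideal R) (hpmin : p ∈ I.minimalPrimes) (k : ℕ)
    (hk : LocCoh.CdLE R I k) : p.height ≤ k := by
  haveI hp : p.IsPrime := hpmin.1.1
  obtain ⟨h, hh⟩ : ∃ h : ℕ, p.height = h :=
    (ENat.ne_top_iff_exists.1 (Ideal.height_ne_top hp.ne_top)).imp fun h hh => hh.symm
  have hnt := nontrivial_lc_of_mem_minimalPrimes I p hpmin h hh
  rw [hh]
  by_contra hcon
  push Not at hcon
  haveI := hk R h (by exact_mod_cast hcon)
  exact not_subsingleton _ ‹_›

end height

section domain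

variable (D : Type u) [CommRing D] [IsDomain D] [IsNoetherianRing D] [IsLocalRing D]
  [IsAdicComplete (maximalIdeal D) D]

theorem dim_le_of_mem_minimalPrimes (J P : Ideal D) (hP : P ∈ J.minimalPrimes) (k : ℕ)
    (hk : LocCoh.CdLE D J k) : ringKrullDim D ≤ ringKrullDim (D ⧸ P) + k := by
  haveI hPp : P.IsPrime := hP.1.1
  have hht := height_le_of_cdLE J P hP k hk
  have hcat : CAlg.IsCatenary D := (Groth.Agent.Helper6.Ratliff.QReg.of_complete D).isCatenary
  have := Groth.Agent.Helper2.Caten2.height_add_coheight_eq hcat (isEquidim_of_isDomain D) ⟨P, hPp⟩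
  rw [← this, Groth.Agent.Helper2.Caten.dimQuot_eq_coheight ⟨P, hPp⟩]
  have h1 : Order.height (⟨P, hPp⟩ : PrimeSpectrum D) = P.height :=
    (PrimeSpectrum.height_eq_orderHeight ⟨P, hPp⟩).symm
  rw [h1, add_comm]
  push_cast
  gcongr
  exact_mod_cast hht

end domain

section complete

variable (R : Type u) [CommRing R] [IsNoetherianRing R] [IsLocalRing R]
  [IsAdicComplete (maximalIdeal R) R]

theorem dim_le_of_mem_minimalPrimes' (Q : Ideal R) [Q.IsPrime] (J P : Ideal R)
    (hP : P ∈ (J ⊔ Q).minimalPrimes) (k : ℕ) (hk : LocCoh.CdLE R J k) :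
    ringKrullDim (R ⧸ Q) ≤ ringKrullDim (R ⧸ P) + k := by
  haveI : IsLocalRing (R ⧸ Q) :=
    IsLocalRing.of_surjective' (Ideal.Quotient.mk Q) Ideal.Quotient.mk_surjective
  haveI : IsAdicComplete (maximalIdeal (R ⧸ Q)) (R ⧸ Q) :=
    Groth.Agent.Helper7.Cohen.isAdicComplete_quotient Q
  have hcomap : (J.map (Ideal.Quotient.mk Q)).comap (Ideal.Quotient.mk Q) = J ⊔ Q := by
    rw [Ideal.comap_map_of_surjective _ Ideal.Quotient.mk_surjective, ← RingHom.ker_eq_comap_bot,
      Ideal.mk_ker]
  rw [← hcomap, Ideal.comap_minimalPrimes_eq_of_surjective Ideal.Quotient.mk_surjective] at hP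
  obtain ⟨P', hP', rfl⟩ := hP
  have hdim := dim_le_of_mem_minimalPrimes (R ⧸ Q) _ P' hP' k (cdLE_map (R' := R ⧸ Q) J k hk)
  have hQP : Q ≤ P'.comap (Ideal.Quotient.mk Q) := by
    have : Q = RingHom.ker (Ideal.Quotient.mk Q) := Ideal.mk_ker.symm
    conv_lhs => rw [this]
    rw [RingHom.ker_eq_comap_bot]
    exact Ideal.comap_mono bot_le
  have e := DoubleQuot.quotQuotEquivQuotSup Q (P'.comap (Ideal.Quotient.mk Q))
  rw [Ideal.map_comap_of_surjective _ Ideal.Quotient.mk_surjective, sup_eq_right.2 hQP] at e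
  rw [← ringKrullDim_eq_of_ringEquiv e]
  exact hdim

/-- `sdim R ≤ dim R/P + cd a` for a minimal prime `P` of `a` -/
theorem subdim_le_of_mem_minimalPrimes (a P : Ideal R) (hP : P ∈ a.minimalPrimes) (k : ℕ)
    (hk : LocCoh.CdLE R a k) :
    LocCoh.subdim (PrimeSpectrum R) ≤ ringKrullDim (R ⧸ P) + k := by
  haveI hPp : P.IsPrime := hP.1.1
  obtain ⟨q, hq, hqP⟩ := Ideal.exists_minimalPrimes_le (I := ⊥) (J := P) bot_le
  haveI : q.IsPrime := hq.1.1
  have hP' : P ∈ (a ⊔ q).minimalPrimes := by
    refine ⟨⟨hPp, sup_le hP.1.2 hqP⟩, fun K hK hKP => ?_⟩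
    exact hP.2 ⟨hK.1, le_sup_left.trans hK.2⟩ hKP
  have h1 := dim_le_of_mem_minimalPrimes' R q a P hP' k hk
  refine le_trans ?_ h1
  rw [← Groth.Agent.Helper5.NormLocus.topologicalKrullDim_zeroLocus]
  exact iInf₂_le _ (zeroLocus_mem_irreducibleComponents hq)

end complete

end Groth.Agent.Helper1.FaltConn
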