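import Mathlib
import Groth.Agent.Helper1.FaltConn5
import Groth.Agent.Helper8.ConnDim

set_option autoImplicit false
set_option linter.style.haveILetI false
set_option linter.unusedSectionVars false

/-!
# Connectedness bound for complete local rings (Brodmann–Sharp 19.2.10, 19.2.11)
-/

namespace Groth.Agent.Helper1.FaltConn
open IsLocalRing CategoryTheory Limits

universe u

section quot

variable {R : Type u} [CommRing R] (a : Ideal R)

/-- dimension of a closed subset of `Spec R/a` via the pulled back ideal -/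
lemma topDim_zeroLocus_quot (K' : Ideal (R ⧸ a)) :
    topologicalKrullDim (PrimeSpectrum.zeroLocus (K' : Set (R ⧸ a))) =
      ringKrullDim (R ⧸ K'.comap (Ideal.Quotient.mk a)) := by
  rw [Groth.Agent.Helper5.NormLocus.topologicalKrullDim_zeroLocus]
  have hsurj : Function.Surjective ((Ideal.Quotient.mk K').comp (Ideal.Quotient.mk a)) :=
    Ideal.Quotient.mk_surjective.comp Ideal.Quotient.mk_surjective
  have e := RingHom.quotientKerEquivOfSurjective hsurj
  have hker : RingHom.ker ((Ideal.Quotient.mk K').comp (Ideal.Quotient.mk a)) =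
      K'.comap (Ideal.Quotient.mk a) := by
    rw [← RingHom.comap_ker, Ideal.mk_ker]
  rw [← ringKrullDim_eq_of_ringEquiv e,
    ringKrullDim_eq_of_ringEquiv (Ideal.quotEquivOfEq hker)]

lemma comap_sup_mk (K' L' : Ideal (R ⧸ a)) :
    (K' ⊔ L').comap (Ideal.Quotient.mk a) =
      K'.comap (Ideal.Quotient.mk a) ⊔ L'.comap (Ideal.Quotient.mk a) := by
  have hs : Function.Surjective (Ideal.Quotient.mk a) := Ideal.Quotient.mk_surjective
  refine le_antisymm ?_ (sup_le (Ideal.comap_mono le_sup_left) (Ideal.comap_mono le_sup_right))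
  conv_lhs => rw [← Ideal.map_comap_of_surjective _ hs K', ← Ideal.map_comap_of_surjective _ hs L',
    ← Ideal.map_sup, Ideal.comap_map_of_surjective _ hs]
  refine sup_le le_rfl ?_
  exact (Ideal.comap_mono bot_le).trans le_sup_left

lemma le_comap_mk (K' : Ideal (R ⧸ a)) : a ≤ K'.comap (Ideal.Quotient.mk a) := by
  have : a = RingHom.ker (Ideal.Quotient.mk a) := Ideal.mk_ker.symm
  conv_lhs => rw [this]
  rw [RingHom.ker_eq_comap_bot]
  exact Ideal.comap_mono bot_le

end quot

section final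

variable (R : Type u) [CommRing R] [IsNoetherianRing R] [IsLocalRing R]
  [IsAdicComplete (maximalIdeal R) R]

/-- sets of components of `Spec R/a` have dimension `≥ sdim R - cd a` -/
lemma subdim_le_topDim_sUnion (a : Ideal R) (k : ℕ) (hk : LocCoh.CdLE R a k)
    (A : Set (Set (PrimeSpectrum (R ⧸ a)))) (hA : A ⊆ irreducibleComponents (PrimeSpectrum (R ⧸ a)))
    (hAne : A.Nonempty) :
    LocCoh.subdim (PrimeSpectrum R) ≤ topologicalKrullDim (⋃₀ A) + k := by
  obtain ⟨C, hC⟩ := hAne
  have hCc := hA hC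
  rw [← PrimeSpectrum.zeroLocus_minimalPrimes] at hCc
  obtain ⟨p', hp', rfl⟩ := hCc
  have hP : p'.comap (Ideal.Quotient.mk a) ∈ a.minimalPrimes := by
    have := Ideal.minimalPrimes_comap_of_surjective (f := Ideal.Quotient.mk a)
      Ideal.Quotient.mk_surjective hp'
    rwa [← RingHom.ker_eq_comap_bot, Ideal.mk_ker] at this
  refine (subdim_le_of_mem_minimalPrimes R a _ hP k hk).trans ?_
  gcongr
  rw [← topDim_zeroLocus_quot]
  exact Groth.Agent.Helper5.ConnDim.dim_mono (Set.subset_sUnion_of_mem hC)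

theorem s11670_cd (a : Ideal R) (ha : a ≠ ⊤) (k : ℕ) (hk : LocCoh.CdLE R a k) :
    min (LocCoh.connDim (PrimeSpectrum R) + 1) (LocCoh.subdim (PrimeSpectrum R)) ≤
      LocCoh.connDim (PrimeSpectrum (R ⧸ a)) + (k : WithBot ℕ∞) + 1 := by
  haveI : Nontrivial (R ⧸ a) := Ideal.Quotient.nontrivial_iff.2 ha
  -- a candidate attaining the connectedness dimension
  obtain ⟨Z, hZcl, hZcon, hZ⟩ : ∃ Z : Set (PrimeSpectrum (R ⧸ a)), IsClosed Z ∧ ¬ IsConnected Zᶜ ∧
      topologicalKrullDim Z = LocCoh.connDim (PrimeSpectrum (R ⧸ a)) := by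
    unfold LocCoh.connDim
    rw [iInf_subtype']
    haveI : Nonempty {Z : Set (PrimeSpectrum (R ⧸ a)) // IsClosed Z ∧ ¬ IsConnected Zᶜ} :=
      ⟨⟨Set.univ, isClosed_univ, by
        rw [Set.compl_univ]; exact fun h => h.nonempty.ne_empty rfl⟩⟩
    obtain ⟨⟨Z, hZ1, hZ2⟩, hZ3⟩ := ciInf_mem
      (fun Z : {Z : Set (PrimeSpectrum (R ⧸ a)) // IsClosed Z ∧ ¬ IsConnected Zᶜ} =>
        topologicalKrullDim (Z : Set (PrimeSpectrum (R ⧸ a))))
    exact ⟨Z, hZ1, hZ2, hZ3⟩
  obtain ⟨A, B, ⟨hA, hB, hAne, hBne, hAB⟩, hle⟩ :=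
    Groth.Agent.Helper5.ConnDim.exists_le_dim hZcl hZcon
  rw [← hZ]
  suffices hsuff : min (LocCoh.connDim (PrimeSpectrum R) + 1) (LocCoh.subdim (PrimeSpectrum R)) ≤
      topologicalKrullDim ↥(⋃₀ A ∩ ⋃₀ B) + (k : WithBot ℕ∞) + 1 by
    refine hsuff.trans ?_
    gcongr
  have hAcl := Groth.Agent.Helper5.ConnDim.isClosed_sUnion_components hA
  have hBcl := Groth.Agent.Helper5.ConnDim.isClosed_sUnion_components hB
  by_cases hcase : topologicalKrullDim ↥(⋃₀ A ∩ ⋃₀ B) <
      min (topologicalKrullDim ↥(⋃₀ A)) (topologicalKrullDim ↥(⋃₀ B))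
  · -- apply the bound for two ideals
    set K' := PrimeSpectrum.vanishingIdeal (⋃₀ A) with hK'
    set L' := PrimeSpectrum.vanishingIdeal (⋃₀ B) with hL'
    have hzK : PrimeSpectrum.zeroLocus (K' : Set (R ⧸ a)) = ⋃₀ A := by
      rw [hK', PrimeSpectrum.zeroLocus_vanishingIdeal_eq_closure, hAcl.closure_eq]
    have hzL : PrimeSpectrum.zeroLocus (L' : Set (R ⧸ a)) = ⋃₀ B := by
      rw [hL', PrimeSpectrum.zeroLocus_vanishingIdeal_eq_closure, hBcl.closure_eq]
    have hzKL : PrimeSpectrum.zeroLocus ((K' ⊔ L' : Ideal (R ⧸ a)) : Set (R ⧸ a)) =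
        ⋃₀ A ∩ ⋃₀ B := by
      rw [PrimeSpectrum.zeroLocus_sup, hzK, hzL]
    set K := K'.comap (Ideal.Quotient.mk a) with hK
    set L := L'.comap (Ideal.Quotient.mk a) with hL
    have hdK : topologicalKrullDim ↥(⋃₀ A) = ringKrullDim (R ⧸ K) := by
      rw [← hzK, topDim_zeroLocus_quot]
    have hdL : topologicalKrullDim ↥(⋃₀ B) = ringKrullDim (R ⧸ L) := by
      rw [← hzL, topDim_zeroLocus_quot]
    have hdKL : topologicalKrullDim ↥(⋃₀ A ∩ ⋃₀ B) = ringKrullDim (R ⧸ (K ⊔ L)) := by
      rw [← hzKL, topDim_zeroLocus_quot, comap_sup_mk]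
    have hne : ∀ (S : Set (Set (PrimeSpectrum (R ⧸ a)))),
        S ⊆ irreducibleComponents (PrimeSpectrum (R ⧸ a)) → S.Nonempty →
        (PrimeSpectrum.vanishingIdeal (⋃₀ S)).comap (Ideal.Quotient.mk a) ≠ ⊤ := by
      intro S hS hSne h
      rw [Ideal.comap_eq_top_iff, PrimeSpectrum.vanishingIdeal_eq_top_iff] at h
      obtain ⟨C, hC⟩ := hSne
      obtain ⟨x, hx⟩ := (hS hC).1.nonempty
      have : x ∈ ⋃₀ S := Set.mem_sUnion.2 ⟨C, hC, hx⟩
      rw [h] at this
      exact this
    have hKne : K ≠ ⊤ := hne A hA hAne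
    have hLne : L ≠ ⊤ := hne B hB hBne
    have hrad : a.radical = (K ⊓ L).radical := by
      refine le_antisymm (Ideal.radical_mono (le_inf (le_comap_mk a K') (le_comap_mk a L'))) ?_
      rw [Ideal.radical_le_radical_iff]
      intro x hx
      have hx' : Ideal.Quotient.mk a x ∈ K' ⊓ L' := ⟨hx.1, hx.2⟩
      rw [hK', hL', ← PrimeSpectrum.vanishingIdeal_union, ← Set.sUnion_union, hAB,
        sUnion_irreducibleComponents, PrimeSpectrum.vanishingIdeal_univ] at hx'
      obtain ⟨n, hn⟩ := hx'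
      refine ⟨n, ?_⟩
      rw [← map_pow, Ideal.zero_eq_bot, Ideal.mem_bot, Ideal.Quotient.eq_zero_iff_mem] at hn
      exact hn
    have hk' := cdLE_of_radical_eq hrad k hk
    rw [hdK, hdL, hdKL] at hcase
    rw [hdKL]
    exact s11669 R K L hKne hLne hcase k hk'
  · -- one of the two unions has dimension `≤ dim (⋃₀ A ∩ ⋃₀ B)`
    rw [not_lt, min_le_iff] at hcase
    refine (min_le_right _ _).trans ?_
    refine le_trans ?_ (le_add_of_nonneg_right zero_le_one)
    rcases hcase with h | h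
    · exact (subdim_le_topDim_sUnion R a k hk A hA hAne).trans (by gcongr)
    · exact (subdim_le_topDim_sUnion R a k hk B hB hBne).trans (by gcongr)

end final


section statements

variable (R : Type u) [CommRing R] [IsNoetherianRing R] [IsLocalRing R]
  [IsAdicComplete (maximalIdeal R) R]

theorem s11670 (a : Ideal R) (ha : a ≠ ⊤) (s : Finset R)
    (hs : (Ideal.span (s : Set R)).radical = a.radical) :
    min (LocCoh.connDim (PrimeSpectrum R) + 1) (LocCoh.subdim (PrimeSpectrum R)) ≤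
      LocCoh.connDim (PrimeSpectrum (R ⧸ a)) + (s.card : WithBot ℕ∞) + 1 :=
  s11670_cd R a ha s.card
    (cdLE_of_radical_eq hs s.card (Groth.Agent.Helper1.LocCohCd.cdLE_span_finset s))

omit [IsAdicComplete (maximalIdeal R) R] in
lemma connDim_nonneg : 0 ≤ LocCoh.connDim (PrimeSpectrum R) :=
  Groth.Agent.Helper5.ConnDim.le_connDim fun Z _ hcon =>
    Groth.Agent.Helper8.ConnDim.dim_nonneg_of_nonempty Z
      (Groth.Agent.Helper8.ConnDim.nonempty_of_candidate R hcon)

omit [IsAdicComplete (maximalIdeal R) R] in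
lemma topDim_lt_top : topologicalKrullDim (PrimeSpectrum R) < ⊤ := by
  rw [PrimeSpectrum.topologicalKrullDim_eq_ringKrullDim]
  obtain ⟨e, he⟩ := Groth.Agent.Helper1.LocCohNonvanish.exists_supportDim_eq (R := R) R
  rw [Module.supportDim_self_eq_ringKrullDim] at he
  rw [he]
  exact WithBot.coe_lt_coe.2 (ENat.natCast_lt_top e)

omit [IsAdicComplete (maximalIdeal R) R] in
lemma connDim_lt_add_one :
    LocCoh.connDim (PrimeSpectrum R) < LocCoh.connDim (PrimeSpectrum R) + 1 := by
  have h0 := connDim_nonneg R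
  have h1 : LocCoh.connDim (PrimeSpectrum R) < ⊤ :=
    lt_of_le_of_lt Groth.Agent.Helper5.ConnDim.connDim_le_dim (topDim_lt_top R)
  generalize LocCoh.connDim (PrimeSpectrum R) = y at h0 h1
  induction y using WithBot.recBotCoe with
  | bot => exact absurd h0 (by simp)
  | coe e =>
    induction e using ENat.recTopCoe with
    | top => exact absurd h1 (lt_irrefl _)
    | coe m =>
      have : m < m + 1 := Nat.lt_succ_self m
      exact_mod_cast this

theorem s11676 (a : Ideal R) (ha : a ≠ ⊤) (s : Finset R)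
    (hs : (Ideal.span (s : Set R)).radical = a.radical) :
    LocCoh.connDim (PrimeSpectrum R) ≤
        LocCoh.connDim (PrimeSpectrum (R ⧸ a)) + (s.card : WithBot ℕ∞) + 1 ∧
      ((minimalPrimes R).Nontrivial → LocCoh.connDim (PrimeSpectrum R) <
        LocCoh.connDim (PrimeSpectrum (R ⧸ a)) + (s.card : WithBot ℕ∞) + 1) := by
  have hmain := s11670 R a ha s hs
  refine ⟨le_trans (le_min (connDim_lt_add_one R).le
    Groth.Agent.Helper5.ConnDim.connDim_le_subdim) hmain, fun hnt => ?_⟩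
  refine lt_of_lt_of_le (lt_min (connDim_lt_add_one R) ?_) hmain
  refine lt_of_le_of_ne Groth.Agent.Helper5.ConnDim.connDim_le_subdim fun heq => ?_
  have hirr := (Groth.Agent.Helper5.ConnDim.s11667 (T := PrimeSpectrum R) (topDim_lt_top R)).2.1 heq
  have h1 : irreducibleComponents (PrimeSpectrum R) = {Set.univ} :=
    irreducibleComponents_eq_singleton
  have h2 := PrimeSpectrum.vanishingIdeal_irreducibleComponents R
  rw [h1, Set.image_singleton] at h2
  rw [← h2] at hnt
  exact Set.not_nontrivial_singleton hnt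

end statements

end Groth.Agent.Helper1.FaltConn
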