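import Mathlib
import Groth.Agent.Helper1.FaltConn6

set_option autoImplicit false
set_option linter.style.haveILetI false
set_option linter.unusedSectionVars false

/-!
# Faltings' connectedness theorem (Stacks-style formulation)
-/

namespace Groth.Agent.Helper1.FaltConn
open IsLocalRing CategoryTheory Limits

universe u

lemma add_one_lt_add_one' (x y : WithBot ℕ∞) (h : x < y) : x + 1 < y + 1 := by
  induction x using WithBot.recBotCoe with
  | bot =>
    induction y using WithBot.recBotCoe with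
    | bot => exact absurd h (lt_irrefl _)
    | coe e =>
      rw [WithBot.bot_add]
      exact WithBot.bot_lt_coe _
  | coe d =>
    induction y using WithBot.recBotCoe with
    | bot => exact absurd h (by simp)
    | coe e =>
      have h' : d < e := WithBot.coe_lt_coe.1 h
      induction d using ENat.recTopCoe with
      | top => exact absurd h' (by simp)
      | coe n =>
        induction e using ENat.recTopCoe with
        | top => exact WithBot.coe_lt_coe.2 (by simp)
        | coe m =>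
          have : n < m := by exact_mod_cast h'
          have h2 : n + 1 < m + 1 := by omega
          exact_mod_cast h2

section final

variable (A : Type u) [CommRing A] [IsNoetherianRing A] [IsLocalRing A]
  [IsAdicComplete (maximalIdeal A) A]

/-- the subdimension is attained -/
lemma exists_minimalPrimes_subdim :
    ∃ q ∈ minimalPrimes A, LocCoh.subdim (PrimeSpectrum A) = ringKrullDim (A ⧸ q) := by
  unfold LocCoh.subdim
  rw [iInf_subtype']
  haveI : Nonempty {C : Set (PrimeSpectrum A) // C ∈ irreducibleComponents (PrimeSpectrum A)} :=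
    ⟨⟨_, irreducibleComponent_mem_irreducibleComponents (closedPoint A)⟩⟩
  obtain ⟨⟨C, hC⟩, hC2⟩ := ciInf_mem
    (fun C : {C : Set (PrimeSpectrum A) // C ∈ irreducibleComponents (PrimeSpectrum A)} =>
      topologicalKrullDim (C : Set (PrimeSpectrum A)))
  rw [← PrimeSpectrum.zeroLocus_minimalPrimes] at hC
  obtain ⟨q, hq, rfl⟩ := hC
  refine ⟨q, hq, ?_⟩
  rw [← hC2]
  exact Groth.Agent.Helper5.NormLocus.topologicalKrullDim_zeroLocus q

/-- the connectedness dimension is attained -/
lemma exists_candidate_connDim (T : Type u) [TopologicalSpace T] :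
    ∃ Z : Set T, IsClosed Z ∧ ¬ IsConnected Zᶜ ∧ topologicalKrullDim Z = LocCoh.connDim T := by
  unfold LocCoh.connDim
  rw [iInf_subtype']
  haveI : Nonempty {Z : Set T // IsClosed Z ∧ ¬ IsConnected Zᶜ} :=
    ⟨⟨Set.univ, isClosed_univ, by
      rw [Set.compl_univ]; exact fun h => h.nonempty.ne_empty rfl⟩⟩
  obtain ⟨⟨Z, hZ1, hZ2⟩, hZ3⟩ := ciInf_mem
    (fun Z : {Z : Set T // IsClosed Z ∧ ¬ IsConnected Zᶜ} => topologicalKrullDim (Z : Set T))
  exact ⟨Z, hZ1, hZ2, hZ3⟩

theorem s0815 (I : Ideal A) (hI : I ≠ ⊤) (e : ℕ) (he : LocCoh.CdLE A I e)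
    (Z : Set (PrimeSpectrum A)) (hZ : IsClosed Z) (hZI : Z ⊆ PrimeSpectrum.zeroLocus (I : Set A))
    (hdim : ∀ p ∈ minimalPrimes A,
      topologicalKrullDim Z + ((e + 1 : ℕ) : WithBot ℕ∞) < ringKrullDim (A ⧸ p))
    (hc : ∀ Z' : Set (PrimeSpectrum A), IsClosed Z' → ¬ _root_.IsConnected Z'ᶜ →
      topologicalKrullDim Z + ((e : ℕ) : WithBot ℕ∞) < topologicalKrullDim Z') :
    _root_.IsConnected (PrimeSpectrum.zeroLocus (I : Set A) \ Z) := by
  obtain ⟨q, hq, hqs⟩ := exists_minimalPrimes_subdim A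
  obtain ⟨Z', hZ'cl, hZ'con, hZ'⟩ := exists_candidate_connDim (PrimeSpectrum A)
  have hs : topologicalKrullDim Z + (e : WithBot ℕ∞) + 1 < LocCoh.subdim (PrimeSpectrum A) := by
    rw [hqs]
    have := hdim q hq
    push_cast at this
    rwa [← add_assoc] at this
  have hcd : topologicalKrullDim Z + (e : WithBot ℕ∞) + 1 <
      LocCoh.connDim (PrimeSpectrum A) + 1 := by
    rw [← hZ']
    exact add_one_lt_add_one' _ _ (hc Z' hZ'cl hZ'con)
  obtain ⟨c₀, rfl⟩ := (PrimeSpectrum.isClosed_iff_zeroLocus_ideal Z).1 hZ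
  -- minimal primes of `I` are not in `Z`
  have hmin : ∀ P ∈ I.minimalPrimes, ¬ c₀ ≤ P := by
    intro P hP hcP
    haveI : P.IsPrime := hP.1.1
    have h1 := subdim_le_of_mem_minimalPrimes A I P hP e he
    have h2 : ringKrullDim (A ⧸ P) ≤
        topologicalKrullDim (PrimeSpectrum.zeroLocus (c₀ : Set A)) := by
      rw [Groth.Agent.Helper5.NormLocus.topologicalKrullDim_zeroLocus]
      exact Groth.Agent.Helper1.LocCohNonvanish.ringKrullDim_quotient_anti hcP
    have h3 : LocCoh.subdim (PrimeSpectrum A) ≤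
        topologicalKrullDim (PrimeSpectrum.zeroLocus (c₀ : Set A)) + (e : WithBot ℕ∞) + 1 :=
      (h1.trans (by gcongr)).trans (le_add_of_nonneg_right zero_le_one)
    exact absurd h3 (not_le.2 hs)
  constructor
  · -- nonempty
    obtain ⟨P, hP, -⟩ := Ideal.exists_minimalPrimes_le (le_maximalIdeal hI)
    haveI : P.IsPrime := hP.1.1
    refine ⟨⟨P, inferInstance⟩, ?_, ?_⟩
    · rw [PrimeSpectrum.mem_zeroLocus, SetLike.coe_subset_coe]
      exact hP.1.2
    · rw [PrimeSpectrum.mem_zeroLocus, SetLike.coe_subset_coe]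
      exact hmin P hP
  · rw [isPreconnected_closed_iff]
    intro T T' hT hT' hcov hne1 hne2
    by_contra hcon
    rw [Set.not_nonempty_iff_eq_empty] at hcon
    obtain ⟨a₀, rfl⟩ := (PrimeSpectrum.isClosed_iff_zeroLocus_ideal T).1 hT
    obtain ⟨b₀, rfl⟩ := (PrimeSpectrum.isClosed_iff_zeroLocus_ideal T').1 hT'
    obtain ⟨x, ⟨hxI, hxZ⟩, hxa⟩ := hne1
    obtain ⟨y, ⟨hyI, hyZ⟩, hyb⟩ := hne2
    rw [PrimeSpectrum.mem_zeroLocus, SetLike.coe_subset_coe] at hxI hxZ hxa hyI hyZ hyb
    -- membership in `W`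
    have hW : ∀ P : PrimeSpectrum A, I ≤ P.asIdeal → ¬ c₀ ≤ P.asIdeal →
        a₀ ≤ P.asIdeal ∨ b₀ ≤ P.asIdeal := by
      intro P h1 h2
      have : P ∈ PrimeSpectrum.zeroLocus (I : Set A) \ PrimeSpectrum.zeroLocus (c₀ : Set A) :=
        ⟨by rwa [PrimeSpectrum.mem_zeroLocus, SetLike.coe_subset_coe],
          by rwa [PrimeSpectrum.mem_zeroLocus, SetLike.coe_subset_coe]⟩
      rcases hcov this with h | h
      · left; rwa [PrimeSpectrum.mem_zeroLocus, SetLike.coe_subset_coe] at h
      · right; rwa [PrimeSpectrum.mem_zeroLocus, SetLike.coe_subset_coe] at h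
    have hW2 : ∀ P : PrimeSpectrum A, I ≤ P.asIdeal → ¬ c₀ ≤ P.asIdeal →
        a₀ ≤ P.asIdeal → b₀ ≤ P.asIdeal → False := by
      intro P h1 h2 h3 h4
      have : P ∈ (PrimeSpectrum.zeroLocus (I : Set A) \ PrimeSpectrum.zeroLocus (c₀ : Set A)) ∩
          (PrimeSpectrum.zeroLocus (a₀ : Set A) ∩ PrimeSpectrum.zeroLocus (b₀ : Set A)) :=
        ⟨⟨by rwa [PrimeSpectrum.mem_zeroLocus, SetLike.coe_subset_coe],
          by rwa [PrimeSpectrum.mem_zeroLocus, SetLike.coe_subset_coe]⟩,
          by rwa [PrimeSpectrum.mem_zeroLocus, SetLike.coe_subset_coe],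
          by rwa [PrimeSpectrum.mem_zeroLocus, SetLike.coe_subset_coe]⟩
      rw [hcon] at this
      exact this
    set a := a₀ ⊔ I with ha_def
    set b := (b₀ ⊓ c₀) ⊔ I with hb_def
    have ha : a ≠ ⊤ := fun h => x.2.ne_top (top_le_iff.1 (h ▸ sup_le hxa hxI))
    have hb : b ≠ ⊤ := fun h =>
      y.2.ne_top (top_le_iff.1 (h ▸ sup_le (inf_le_left.trans hyb) hyI))
    -- the components through `x` and `y`
    obtain ⟨P, hP, hPx⟩ := Ideal.exists_minimalPrimes_le hxI
    obtain ⟨P', hP', hP'y⟩ := Ideal.exists_minimalPrimes_le hyI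
    haveI : P.IsPrime := hP.1.1
    haveI : P'.IsPrime := hP'.1.1
    have haP : a ≤ P := by
      refine sup_le ?_ hP.1.2
      rcases hW ⟨P, inferInstance⟩ hP.1.2 (hmin P hP) with h | h
      · exact h
      · exact absurd (hW2 x hxI hxZ hxa (h.trans hPx)) id
    have hbP' : b ≤ P' := by
      refine sup_le (inf_le_left.trans ?_) hP'.1.2
      rcases hW ⟨P', inferInstance⟩ hP'.1.2 (hmin P' hP') with h | h
      · exact absurd (hW2 y hyI hyZ (h.trans hP'y) hyb) id
      · exact h
    -- dimension of the intersection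
    have hdab : ringKrullDim (A ⧸ (a ⊔ b)) ≤
        topologicalKrullDim (PrimeSpectrum.zeroLocus (c₀ : Set A)) := by
      rw [← Groth.Agent.Helper5.NormLocus.topologicalKrullDim_zeroLocus]
      refine Groth.Agent.Helper5.ConnDim.dim_mono ?_
      intro Q hQ
      rw [PrimeSpectrum.mem_zeroLocus, SetLike.coe_subset_coe] at hQ ⊢
      by_contra hcQ
      have h1 : a₀ ≤ Q.asIdeal := (le_sup_left.trans le_sup_left).trans hQ
      have h2 : I ≤ Q.asIdeal := (le_sup_right.trans le_sup_left).trans hQ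
      have h3 : b₀ ⊓ c₀ ≤ Q.asIdeal := (le_sup_left.trans le_sup_right).trans hQ
      rcases (Ideal.IsPrime.inf_le Q.2).1 h3 with h | h
      · exact hW2 Q h2 hcQ h1 h
      · exact hcQ h
    have hbig : ∀ (c P : Ideal A), P ∈ I.minimalPrimes → c ≤ P →
        ringKrullDim (A ⧸ (a ⊔ b)) < ringKrullDim (A ⧸ c) := by
      intro c P hP hcP
      by_contra hcon'
      rw [not_lt] at hcon'
      have h1 := subdim_le_of_mem_minimalPrimes A I P hP e he
      have h2 : ringKrullDim (A ⧸ P) ≤ ringKrullDim (A ⧸ c) :=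
        Groth.Agent.Helper1.LocCohNonvanish.ringKrullDim_quotient_anti hcP
      have h3 : LocCoh.subdim (PrimeSpectrum A) ≤
          topologicalKrullDim (PrimeSpectrum.zeroLocus (c₀ : Set A)) + (e : WithBot ℕ∞) + 1 :=
        (h1.trans (by gcongr; exact (h2.trans hcon').trans hdab)).trans
          (le_add_of_nonneg_right zero_le_one)
      exact absurd h3 (not_le.2 hs)
    have hab : ringKrullDim (A ⧸ (a ⊔ b)) < min (ringKrullDim (A ⧸ a)) (ringKrullDim (A ⧸ b)) :=
      lt_min (hbig a P hP haP) (hbig b P' hP' hbP')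
    have hrad : I.radical = (a ⊓ b).radical := by
      refine le_antisymm (Ideal.radical_mono (le_inf le_sup_right le_sup_right)) ?_
      rw [Ideal.radical_eq_sInf I]
      refine le_sInf fun Q ⟨hIQ, hQ⟩ => ?_
      rw [Ideal.IsPrime.radical_le_iff hQ]
      by_cases hcQ : c₀ ≤ Q
      · by_cases hbQ : b₀ ≤ Q
        · exact inf_le_right.trans (sup_le (inf_le_left.trans hbQ) hIQ)
        · exact inf_le_right.trans (sup_le (inf_le_right.trans hcQ) hIQ)
      · rcases hW ⟨Q, hQ⟩ hIQ hcQ with h | h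
        · exact inf_le_left.trans (sup_le h hIQ)
        · exact inf_le_right.trans (sup_le (inf_le_left.trans h) hIQ)
    have hk := cdLE_of_radical_eq hrad e he
    have hfin := s11669 A a b ha hb hab e hk
    have hfin' : min (LocCoh.connDim (PrimeSpectrum A) + 1) (LocCoh.subdim (PrimeSpectrum A)) ≤
        topologicalKrullDim (PrimeSpectrum.zeroLocus (c₀ : Set A)) + (e : WithBot ℕ∞) + 1 :=
      hfin.trans (by gcongr)
    exact absurd hfin' (not_le.2 (lt_min hcd hs))

end final
end Groth.Agent.Helper1.FaltConn
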