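import Mathlib

set_option autoImplicit false

/-!
# Heights of irreducible closed subsets contained in the range of a closed embedding
-/

namespace Groth.Agent.Helper1.FibDimVan

open TopologicalSpace Topology

variable {W X : Type*} [TopologicalSpace W] [TopologicalSpace X] {j : W → X}

lemma isPreirreducible_preimage_of_subset_range (hj : IsInducing j) {S : Set X}
    (hS : IsPreirreducible S) (hSr : S ⊆ Set.range j) : IsPreirreducible (j ⁻¹' S) := by
  rintro U V hU hV ⟨a, haS, haU⟩ ⟨b, hbS, hbV⟩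
  obtain ⟨U', hU', rfl⟩ := hj.isOpen_iff.mp hU
  obtain ⟨V', hV', rfl⟩ := hj.isOpen_iff.mp hV
  obtain ⟨s, hsS, hsU, hsV⟩ := hS U' V' hU' hV' ⟨j a, haS, haU⟩ ⟨j b, hbS, hbV⟩
  obtain ⟨w, rfl⟩ := hSr hsS
  exact ⟨w, hsS, hsU, hsV⟩

/-- the preimage of an irreducible closed subset of the range -/
def pre (hj : IsClosedEmbedding j) (T : IrreducibleCloseds X)
    (hT : (T : Set X) ⊆ Set.range j) : IrreducibleCloseds W where
  carrier := j ⁻¹' (T : Set X)
  isIrreducible' := by
    refine ⟨?_, isPreirreducible_preimage_of_subset_range hj.isInducing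
      T.isIrreducible.isPreirreducible hT⟩
    obtain ⟨x, hx⟩ := T.isIrreducible.nonempty
    obtain ⟨w, rfl⟩ := hT hx
    exact ⟨w, hx⟩
  isClosed' := T.isClosed.preimage hj.continuous

theorem height_lt_of_isClosedEmbedding (hj : IsClosedEmbedding j) (d : ℕ)
    (hd : topologicalKrullDim W ≤ d) (T : IrreducibleCloseds X)
    (hT : (T : Set X) ⊆ Set.range j) : Order.height T < ((d + 1 : ℕ) : ℕ∞) := by
  let f : Set.Iic T → IrreducibleCloseds W := fun S =>
    pre hj S.1 (fun x hx => hT (S.2 hx))
  have hmono : Monotone f := fun a b hab x hx => hab hx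
  have hinj : Function.Injective f := by
    intro a b hab
    apply Subtype.ext
    apply IrreducibleCloseds.ext
    have h1 : j ⁻¹' (a.1 : Set X) = j ⁻¹' (b.1 : Set X) :=
      congrArg (fun S : IrreducibleCloseds W => (S : Set W)) hab
    have ha : (a.1 : Set X) ⊆ Set.range j := fun x hx => hT (a.2 hx)
    have hb : (b.1 : Set X) ⊆ Set.range j := fun x hx => hT (b.2 hx)
    rw [← Set.image_preimage_eq_of_subset ha, ← Set.image_preimage_eq_of_subset hb, h1]
  have hs : StrictMono f := hmono.strictMono_of_injective hinj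
  have h1 : Order.krullDim (Set.Iic T) ≤ Order.krullDim (IrreducibleCloseds W) :=
    Order.krullDim_le_of_strictMono f hs
  have h2 : ((Order.height T : ℕ∞) : WithBot ℕ∞) ≤ ((d : ℕ∞) : WithBot ℕ∞) := by
    rw [Order.height_eq_krullDim_Iic]
    exact h1.trans hd
  have h3 : Order.height T ≤ (d : ℕ∞) := WithBot.coe_le_coe.mp h2
  refine lt_of_le_of_lt h3 ?_
  exact_mod_cast Nat.lt_succ_self d

end Groth.Agent.Helper1.FibDimVan
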