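import Groth.Agent.Helper1.FibFree1
import Groth.Agent.Helper1.IsoCrit1
import Groth.Agent.Helper1.BaseChart5

set_option autoImplicit false
set_option linter.style.haveILetI false
set_option linter.unusedSectionVars false
set_option linter.unusedVariables false

/-!
# Modules which are free on the fibres: the fibre rank in degree zero and its local constancy
-/

namespace Groth.Agent.Helper1.FibFree

open CategoryTheory Limits AlgebraicGeometry TopologicalSpace Opposite
open Groth.Agent.Helper4 Groth.Agent.Helper4.FinLocFree Scheme.Modules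

universe u

variable {X S : Scheme.{u}} (f : X ⟶ S)

/-- `h⁰(X_s, E_s) = r` when `E_s` is free of rank `r` and `Γ(X_s, O) = κ(s)` -/
theorem fiberRank_eq_of_free (E : X.Modules) (s : S) (r : ℕ)
    (e : CohIII.fiberMod f E s ≅ FlatMod.freeMod (f.fiber s) r)
    (h0 : Function.Bijective ((f.fiberToSpecResidueField s).appTop)) :
    CohIII.fiberRank f E 0 s = r := by
  letI : (f.fiber s).Over (Spec (CommRingCat.of (S.residueField s))) :=
    ⟨f.fiberToSpecResidueField s⟩
  have h2 := Groth.Agent.Helper1.BaseChart.finrank_HH_congr (K := (S.residueField s)) e 0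
  have hbij : Function.Bijective
      (Coh.toGlobal ((f.fiber s) ↘ Spec (CommRingCat.of (S.residueField s)))) := by
    show Function.Bijective ((f.fiberToSpecResidueField s).appTop.hom.comp
      (Scheme.ΓSpecIso (CommRingCat.of (S.residueField s))).inv.hom)
    rw [RingHom.coe_comp]
    refine Function.Bijective.comp h0 ?_
    exact ConcreteCategory.bijective_of_isIso (Scheme.ΓSpecIso (S.residueField s)).inv
  have h3 := finrank_HH_zero_freeMod (Z := f.fiber s) (K := S.residueField s) hbij r
  exact h2.trans h3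

/-- the fibres are nonempty when their global functions are the constants -/
theorem nonempty_fiber_of_bijective (s : S)
    (h0 : Function.Bijective ((f.fiberToSpecResidueField s).appTop)) : Nonempty (f.fiber s) := by
  by_contra hne
  rw [not_nonempty_iff] at hne
  haveI : Subsingleton Γ(f.fiber s, ⊤) := by
    haveI : IsEmpty ((⊤ : (f.fiber s).Opens) : Type u) := ⟨fun x => hne.false x.1⟩
    infer_instance
  haveI : Nontrivial Γ(Spec (S.residueField s), ⊤) :=
    (Scheme.ΓSpecIso (S.residueField s)).commRingCatIsoToRingEquiv.toMulEquiv.isField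
      (Field.toIsField (S.residueField s)) |>.nontrivial
  haveI : Nontrivial Γ(f.fiber s, ⊤) := h0.injective.nontrivial
  exact false_of_nontrivial_of_subsingleton Γ(f.fiber s, ⊤)

/-- **local constancy of the rank**: for `f` open, a finite locally free module which is free
on every fibre, of rank `r s` on the fibre at `s`, has `r` locally constant -/
theorem isLocallyConstant_rank (hopen : IsOpenMap f) (E : X.Modules)
    (hE : FlatMod.IsFinLocFree E) (r : S → ℕ)
    (e : ∀ s : S, Nonempty (CohIII.fiberMod f E s ≅ FlatMod.freeMod (f.fiber s) (r s)))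
    (hne : ∀ s : S, Nonempty (f.fiber s)) : IsLocallyConstant r := by
  haveI : E.IsQuasicoherent := FinLocFree4.isQuasicoherent_of_isFinLocFree E hE
  -- the rank near a point of `X` computes `r`
  have key : ∀ (x : X) (V : X.Opens) (n : ℕ), x ∈ V → IsFreeAlong E V.ι n → r (f x) = n := by
    intro x V n hxV hV
    obtain ⟨e'⟩ := e (f x)
    have hx : x ∈ Set.range (f.fiberι (f x)) := by
      rw [Scheme.Hom.range_fiberι]
      rfl
    obtain ⟨x₁, hx₁⟩ := hx
    have h1 : IsFreeAlong (CohIII.fiberMod f E (f x)) ((f.fiberι (f x)) ⁻¹ᵁ V).ι n :=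
      Groth.Agent.Helper2.FinLocFreeLim.isFreeAlong_pullback _ hV
    have h2 : IsFreeAlong (CohIII.fiberMod f E (f x)) ((f.fiberι (f x)) ⁻¹ᵁ V).ι (r (f x)) :=
      IsFreeAlong.of_iso e'.symm _ ⟨restrictFreeIso _ _⟩
    haveI : (CohIII.fiberMod f E (f x)).IsQuasicoherent :=
      Groth.Agent.Lead.StalkPull.isQuasicoherent_pullbackObj _ E
    have hx₁V : x₁ ∈ (f.fiberι (f x)) ⁻¹ᵁ V := by
      show f.fiberι (f x) x₁ ∈ V
      rw [hx₁]; exact hxV
    exact Groth.Agent.Helper1.IsoCrit.rank_unique _ h2 h1 x₁ hx₁V hx₁V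
  rw [IsLocallyConstant.iff_exists_open]
  intro s
  obtain ⟨x₀⟩ := hne s
  set x := f.fiberι s x₀ with hx
  have hfx : f x = s := by
    have : x ∈ f ⁻¹' {s} := by
      rw [← Scheme.Hom.range_fiberι]
      exact ⟨x₀, rfl⟩
    exact this
  obtain ⟨V, n, hxV, hV⟩ := hE x
  refine ⟨f '' (V : Set X), hopen _ V.isOpen, ⟨x, hxV, hfx⟩, ?_⟩
  rintro s' ⟨x', hx'V, rfl⟩
  rw [key x' V n hx'V hV, ← hfx, key x V n hxV hV]

end Groth.Agent.Helper1.FibFree
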