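import Groth.Agent.Helper1.SCV13
import Groth.Agent.Helper1.FlatCxDRank
import Groth.Agent.Helper1.FibreDim2

set_option autoImplicit false
set_option linter.unusedVariables false
universe u
open CategoryTheory CategoryTheory.Limits MonoidalCategory TensorProduct Topology

/-!
# Chain complexes of finite free modules over a reduced ring with locally constant ranks of the
fibres: the opcycles are projective
-/

noncomputable section

namespace Groth.Agent.Helper1.HMap

open Groth.Agent.Helper1.FlatCx Groth.Agent.Helper1.BCFlatCoh Groth.Agent.Helper1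
  Groth.Agent.Helper1.FibreDim

variable {A : Type u} [CommRing A] (K : ChainComplex (ModuleCat.{u} A) ℤ)
  (hK : ∀ i, Module.Finite A (K.X i) ∧ Module.Free A (K.X i))

include hK in
lemma finite_opcycles' (j : ℤ) : Module.Finite A (K.opcycles j) := by
  haveI := (hK j).1
  exact Module.Finite.of_surjective (K.pOpcycles j).hom
    ((ModuleCat.epi_iff_surjective _).mp inferInstance)

include hK in
lemma eventually_eq_fibreDim_opcycles (p : ℤ) (x : PrimeSpectrum A)
    (h : ∀ᶠ y in 𝓝 x, CohIII.dRank K p y = CohIII.dRank K p x) :
    ∀ᶠ y in 𝓝 x, fibreDim (K.opcycles p) y = fibreDim (K.opcycles p) x ∧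
      fibreDim (K.opcycles (p - 1)) y = fibreDim (K.opcycles (p - 1)) x := by
  haveI := (hK p).1
  haveI := (hK (p - 1)).1
  haveI := (hK (p - 1)).2
  haveI := finite_opcycles' K hK p
  haveI := finite_opcycles' K hK (p - 1)
  haveI : Module.FinitePresentation A (K.X (p - 1)) := Module.finitePresentation_of_projective A _
  filter_upwards [h, fibreDim_eventually_le (K.opcycles p) x,
    fibreDim_eventually_le (K.opcycles (p - 1)) x,
    fibreDim_eventually_eq (K.X (p - 1)) x] with y h3 h4 h5 h6
  have f1 := dRank_add K p (p - 1) (next_down p) (prev_down p) y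
  have f2 := dRank_add K p (p - 1) (next_down p) (prev_down p) x
  omega

include hK in
/-- **Grauert's criterion**: over a reduced ring, if the ranks of the fibres in degree `p` are
locally constant, then `Z'_p` and `Z'_{p-1}` are projective -/
theorem freeLocus_opcycles_eq_univ_of_isLocallyConstant [IsReduced A] (p : ℤ)
    (hconst : IsLocallyConstant (CohIII.dRank K p)) :
    Module.freeLocus A (K.opcycles p) = Set.univ ∧
      Module.freeLocus A (K.opcycles (p - 1)) = Set.univ := by
  rw [IsLocallyConstant.iff_eventually_eq] at hconst
  haveI := (hK (p + 1)).1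
  haveI := (hK p).1
  haveI := (hK p).2
  haveI := (hK (p - 1)).1
  haveI := (hK (p - 1)).2
  haveI := finite_opcycles' K hK p
  haveI := finite_opcycles' K hK (p - 1)
  haveI h1 := finitePresentation_opcycles K (p + 1) p (prev_down' p)
  haveI h2 := finitePresentation_opcycles K p (p - 1) (prev_down p)
  haveI hflat1 : Module.Flat A (K.opcycles p) := by
    apply flat_of_fibreDim_eventually_eq
    intro x
    exact (eventually_eq_fibreDim_opcycles K hK p x (hconst x)).mono fun y hy => hy.1
  haveI hflat2 : Module.Flat A (K.opcycles (p - 1)) := by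
    apply flat_of_fibreDim_eventually_eq
    intro x
    exact (eventually_eq_fibreDim_opcycles K hK p x (hconst x)).mono fun y hy => hy.2
  exact ⟨Module.freeLocus_eq_univ, Module.freeLocus_eq_univ⟩

end Groth.Agent.Helper1.HMap

end
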