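import Groth.Agent.Helper1.SCV18
import Groth.Agent.Helper1.SCV19
import Groth.Agent.Helper1.BaseChart15

set_option autoImplicit false
set_option linter.style.haveILetI false
set_option linter.unusedSectionVars false
set_option linter.unusedVariables false

/-!
# More consequences of the universal complex of a chart: vanishing of Betti numbers, Grauert
-/

namespace Groth.Agent.Helper1.SCV

open CategoryTheory Opposite TopologicalSpace AlgebraicGeometry TensorProduct
  AlgebraicGeometry.Scheme.Modules Topology
open Groth.Agent.Helper1.BaseChart Groth.Agent.Helper1.GBC Groth.Agent.Helper1.HMap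
open Groth.Agent.Lead.BCMap Groth.Agent.Helper1.FlatCx

universe u

variable {X S : Scheme.{u}} {f : X ⟶ S} {W : S.Opens} [IsAffine (W : Scheme.{u})]
  {F : X.Modules} {K : ChainComplex (ModuleCat.{u} (AV W)) ℤ}

/-- vanishing of the Betti number of the fibre gives right exactness -/
theorem Master.mem_OLoc_of_betti (M : Master f W F K) (m : ℕ) (s : S) (hs : s ∈ W)
    (h : PerfAux.betti f F s m = 0) : chartPt W s hs ∈ OLoc W K m := by
  apply mem_freeLocus_opcycles_of_dRank_zero K M.hK
  rw [← M.betti s hs m]
  exact h

/-- vanishing of the Betti numbers of the fibres over the chart gives flatness (vanishing) of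
the homology -/
theorem Master.flat_of_betti (M : Master f W F K) (m : ℕ)
    (h : ∀ s ∈ W, PerfAux.betti f F s m = 0) :
    Module.Flat (AV W) (K.homology (-(m : ℤ))) := by
  have h0 : Limits.IsZero (K.homology (-(m : ℤ))) := M.vanish m h
  haveI : Subsingleton (K.homology (-(m : ℤ))) := ModuleCat.subsingleton_of_isZero h0
  infer_instance

/-- the cohomology of the fibre vanishes when its dimension is zero -/
theorem Master.subsingleton_fiberH_of_betti (M : Master f W F K) (i : ℕ) (s : S) (hs : s ∈ W)
    (h : PerfAux.betti f F s i = 0) : Subsingleton (CohIII.fiberH f F s i) := by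
  letI := chartOver f W
  letI := chartAlgebra W s hs
  letI : (f.fiber s).Over (Spec (CommRingCat.of (S.residueField s))) :=
    ⟨f.fiberToSpecResidueField s⟩
  obtain ⟨-, e', -⟩ := M.gc i (S.residueField s) (f.fiber s) (gLift f W s hs)
    (isPullback_chart f W s hs)
  let x' : PrimeSpectrum (S.residueField s) := ⟨⊥, Ideal.isPrime_bot⟩
  have h1 := finrank_bcCx_field (K := S.residueField s) K (-(i : ℤ)) x'
  rw [comap_chartAlgebra W s hs x', ← M.betti s hs i, h] at h1
  haveI := (M.hK (-(i : ℤ))).1
  haveI : Module.Finite (S.residueField s)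
      ((CohIII.bcCx (algebraMap (AV W) (S.residueField s)) K).X (-(i : ℤ))) :=
    finite_bcCx_X K (S.residueField s) (-(i : ℤ))
  haveI : Module.Finite (S.residueField s)
      ((CohIII.bcCx (algebraMap (AV W) (S.residueField s)) K).homology (-(i : ℤ))) :=
    finite_homology _ _
  haveI hsub : Subsingleton
      ((CohIII.bcCx (algebraMap (AV W) (S.residueField s)) K).homology (-(i : ℤ))) :=
    Module.finrank_zero_iff.mp h1
  have hs2 : Subsingleton (Coh.HH (f.fiber s)
      ((Scheme.Modules.pullback (gLift f W s hs)).obj (FV f W F)) i) :=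
    e'.symm.toEquiv.subsingleton
  haveI : Subsingleton ((CohIII.HAb (f.fiber s) i).obj
      ((Scheme.Modules.pullback (gLift f W s hs)).obj (FV f W F))) := hs2
  exact ((CohIII.HAb (f.fiber s) i).mapIso
    (fiberModIso f W s hs F)).addCommGroupIsoToAddEquiv.symm.toEquiv.subsingleton

/-- **Grauert**: over a reduced base, if the dimension of the cohomology of the fibres in degree
`i` is locally constant, then `T^i` and `T^{i-1}` are right exact over the chart -/
theorem Master.freeLocus_eq_univ_of_isLocallyConstant [IsReduced S] (M : Master f W F K) (i : ℕ)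
    (hlc : IsLocallyConstant (CohIII.fiberRank f F i)) :
    Module.freeLocus (AV W) (K.opcycles (-(i : ℤ))) = Set.univ ∧
      Module.freeLocus (AV W) (K.opcycles (-(i : ℤ) - 1)) = Set.univ := by
  haveI : IsReduced (AV W) := inferInstance
  apply freeLocus_opcycles_eq_univ_of_isLocallyConstant K M.hK
  exact isLocallyConstant_chart W (CohIII.fiberRank f F i) (CohIII.dRank K (-(i : ℤ)))
    (fun y hy => (M.betti y hy i).symm) hlc

end Groth.Agent.Helper1.SCV
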