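import Groth.Agent.Helper1.FibFree2
import Groth.Agent.Helper1.SCV20
import Groth.Agent.Helper1.SCV24
import Groth.Agent.Helper1.Canon5
import Groth.Agent.Lead.PullFFB
import Groth.Agent.Lead.PerfLib11
import Groth.Agent.Lead.LocLift6
import Groth.Agent.S19466

set_option autoImplicit false
set_option linter.style.haveILetI false
set_option linter.unusedSectionVars false
set_option linter.unusedVariables false

/-!
# A finite locally free module which is free on the fibres of a proper flat morphism with
`Γ(X_s, O) = κ(s)` over a reduced base is pulled back from the base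
-/

namespace Groth.Agent.Helper1.FibFree

open CategoryTheory AlgebraicGeometry TopologicalSpace Opposite
open Groth.Agent.Helper4 Groth.Agent.Helper4.FinLocFree Scheme.Modules
open Groth.Agent.Helper1.BaseChart Groth.Agent.Helper1.SCV

universe u

variable {X S : Scheme.{u}} (f : X ⟶ S)

/-- **Grauert in degree zero**: over a reduced base, if `h⁰` of the fibres is locally constant
then the degree zero base change map to every fibre is an epimorphism -/
theorem epi_bc0_of_isLocallyConstant [IsProper f] [LocallyOfFinitePresentation f] [IsReduced S]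
    (F : X.Modules) (hF : CohB1.IsFP F) (hfl : FlatMod.IsFlatOver f F)
    (hlc : IsLocallyConstant (CohIII.fiberRank f F 0)) (s : S) :
    Epi (CohBC.bc0 f (S.fromSpecResidueField s) (f.fiberToSpecResidueField s) (f.fiberι s)
      (f.fiber_fac s) F) := by
  haveI := hF
  haveI : Coh.IsQCoh F := inferInstance
  obtain ⟨W, hW, hsW, -⟩ :=
    AlgebraicGeometry.exists_isAffineOpen_mem_and_subset (x := s) (U := ⊤) trivial
  haveI : IsAffine (W : Scheme.{u}) := hW
  obtain ⟨K, M⟩ := exists_master f W F hF hfl
  rw [M.bc0_epi_iff s hsW]
  have h := (M.freeLocus_eq_univ_of_isLocallyConstant 0 hlc).2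
  show chartPt W s hsW ∈ Module.freeLocus (AV W) (K.opcycles (-((0 : ℕ) : ℤ) - 1))
  rw [h]
  trivial

section mate

variable {X' S' : Scheme.{u}} (g : S' ⟶ S) (f' : X' ⟶ S') (g' : X' ⟶ X)

/-- the pullback of the evaluation map is an isomorphism when the base change map in degree
zero and the evaluation map of the pulled back module are -/
theorem isIso_pullback_counit (w : g' ≫ f = f' ≫ g) (F : X.Modules)
    (h1 : IsIso (CohBC.bc0 f g f' g' w F))
    (h2 : IsIso ((pullbackPushforwardAdjunction f').counit.app ((pullback g').obj F))) :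
    IsIso ((pullback g').map ((pullbackPushforwardAdjunction f).counit.app F)) := by
  have key := Groth.Agent.Helper1.Canon.homEquiv_counit_form_eq_bc0 f g f' g' w F
  set α := (pullbackComp f' g).hom.app ((pushforward f).obj F) ≫
        (pullbackCongr w).inv.app ((pushforward f).obj F) ≫
        (pullbackComp g' f).inv.app ((pushforward f).obj F) ≫
        (pullback g').map ((pullbackPushforwardAdjunction f).counit.app F) with hα
  have hα' : α = (pullback f').map (CohBC.bc0 f g f' g' w F) ≫
      (pullbackPushforwardAdjunction f').counit.app ((pullback g').obj F) := by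
    have h5 := ((pullbackPushforwardAdjunction f').homEquiv
      ((pullback g).obj ((pushforward f).obj F)) ((pullback g').obj F)).symm_apply_apply α
    have key' : ((pullbackPushforwardAdjunction f').homEquiv
      ((pullback g).obj ((pushforward f).obj F)) ((pullback g').obj F)) α =
        CohBC.bc0 f g f' g' w F := key
    rw [key', Adjunction.homEquiv_counit] at h5
    exact h5.symm
  haveI : IsIso α := by
    rw [hα']
    infer_instance
  have h3 : (pullback g').map ((pullbackPushforwardAdjunction f).counit.app F) =
      (pullbackComp g' f).hom.app ((pushforward f).obj F) ≫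
        (pullbackCongr w).hom.app ((pushforward f).obj F) ≫
        (pullbackComp f' g).inv.app ((pushforward f).obj F) ≫ α := by
    rw [hα]
    simp only [← Category.assoc]
    simp only [Category.assoc, Iso.inv_hom_id_app_assoc, Iso.hom_inv_id_app_assoc]
  rw [h3]
  infer_instance

end mate

/-- **the main statement**: `f` flat proper of finite presentation over a reduced base with
`Γ(X_s, O) = κ(s)`, `E` finite locally free and free on every fibre: `f_* E` is finite locally free
and `f^* f_* E ⟶ E` is an isomorphism -/
theorem main [Flat f] [IsProper f] [LocallyOfFinitePresentation f] [IsReduced S]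
    (h0 : ∀ (s : S) (U : (Spec (S.residueField s)).Opens),
      Function.Bijective ((f.fiberToSpecResidueField s).app U))
    (E : X.Modules) (hE : FlatMod.IsFinLocFree E)
    (hfib : ∀ s : S, ∃ r : ℕ,
      Nonempty (CohIII.fiberMod f E s ≅ FlatMod.freeMod (f.fiber s) r)) :
    FlatMod.IsFinLocFree ((pushforward f).obj E) ∧
      IsIso ((pullbackPushforwardAdjunction f).counit.app E) := by
  haveI : E.IsQuasicoherent := FinLocFree4.isQuasicoherent_of_isFinLocFree E hE
  have hFP : CohB1.IsFP E := FinLocFree2.isFinitePresentation_of_isFinLocFree E hE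
  have hfl : FlatMod.IsFlatOver f E := Groth.Agent.Lead.PerfLib.isFlatOver_of_isFinLocFree f hE
  have h0' : ∀ s : S, Function.Bijective ((f.fiberToSpecResidueField s).appTop) :=
    fun s => h0 s ⊤
  choose r hr using hfib
  have hne : ∀ s : S, Nonempty (f.fiber s) := fun s => nonempty_fiber_of_bijective f s (h0' s)
  have hrank : ∀ s : S, CohIII.fiberRank f E 0 s = r s := fun s => by
    obtain ⟨e⟩ := hr s
    exact fiberRank_eq_of_free f E s (r s) e (h0' s)
  have hlc : IsLocallyConstant (CohIII.fiberRank f E 0) := by
    have h1 : CohIII.fiberRank f E 0 = r := funext hrank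
    rw [h1]
    exact isLocallyConstant_rank f f.isOpenMap E hE r hr hne
  have hepi := epi_bc0_of_isLocallyConstant f E hFP hfl hlc
  -- the base change isomorphisms and the local freeness of the direct image
  have hloc : ∀ s : S, ∃ U : S.Opens, s ∈ U ∧
      FlatMod.IsFinLocFree (((pushforward f).obj E).restrict U.ι) ∧
      IsIso (CohBC.bc0 f (S.fromSpecResidueField s) (f.fiberToSpecResidueField s) (f.fiberι s)
        (f.fiber_fac s) E) := by
    intro s
    obtain ⟨U, hsU, hlf, hbc⟩ := Groth.Agent.S19466.result f E hFP hfl s (hepi s)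
    refine ⟨U, hsU, hlf, ?_⟩
    apply hbc _ _ _ _ _ (IsPullback.of_hasPullback f (S.fromSpecResidueField s))
    rintro _ ⟨z, rfl⟩
    have : (S.fromSpecResidueField s) z = s := Scheme.fromSpecResidueField_apply s z
    show (S.fromSpecResidueField s) z ∈ U
    rw [this]
    exact hsU
  have hN : FlatMod.IsFinLocFree ((pushforward f).obj E) := by
    apply isFinLocFree_of_local_restrict
    intro s
    obtain ⟨U, hsU, hlf, -⟩ := hloc s
    exact ⟨U, hsU, hlf⟩
  refine ⟨hN, ?_⟩
  apply Groth.Agent.Helper1.IsoCrit.isIso_of_pullback_family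
    (Groth.Agent.Lead.LocLift.isFinLocFree_pullback f hN) hE
  intro x
  have hx : x ∈ Set.range (f.fiberι (f x)) := by
    rw [Scheme.Hom.range_fiberι]
    rfl
  obtain ⟨x₁, hx₁⟩ := hx
  refine ⟨f.fiber (f x), f.fiberι (f x), x₁, hx₁, ?_⟩
  obtain ⟨-, -, -, hbc⟩ := hloc (f x)
  obtain ⟨e⟩ := hr (f x)
  apply isIso_pullback_counit f (S.fromSpecResidueField (f x)) (f.fiberToSpecResidueField (f x))
    (f.fiberι (f x)) (f.fiber_fac (f x)) E hbc
  -- the evaluation map on the fibre
  have e' : CohIII.fiberMod f E (f x) ≅
      (pullback (f.fiberToSpecResidueField (f x))).obj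
        (FlatMod.freeMod (Spec (S.residueField (f x))) (r (f x))) :=
    e ≪≫ (Groth.Agent.Helper8.TildeBC.pullbackFreeIso (f.fiberToSpecResidueField (f x))
      (r (f x))).symm
  exact ((Groth.Agent.Lead.PullFF.main_iff (f.fiberToSpecResidueField (f x)) (h0 (f x))
    (CohIII.fiberMod f E (f x))).mp
      ⟨_, FinLocFree2.isFinLocFree_freeMod _, ⟨e'⟩⟩).2

end Groth.Agent.Helper1.FibFree
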