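import Groth.Agent.Helper1.BaseChart8

set_option autoImplicit false

/-!
# Cohomology of the base change of a flat proper family to a field-valued point

For `f : X ⟶ Y` proper over a locally Noetherian base, `F` coherent and flat over `Y`, a field `K`,
a `K`-point `t : Spec K ⟶ Y` and a cartesian square `Z = X ×_Y Spec K`, the dimension of
`Hᵖ(Z, F|_Z)` is the `p`-th fibre rank of `F` at the image point of `t`.
-/

namespace Groth.Agent.Helper1.FieldPt

open CategoryTheory Limits AlgebraicGeometry Opposite TopologicalSpace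
open Groth.Agent.Helper1.BaseChart

universe u

variable {X Y : Scheme.{u}} (f : X ⟶ Y) (V : Y.Opens)
  {K : Type u} [Field K] (t : Spec (CommRingCat.of K) ⟶ Y) (ht : ∀ x, t x ∈ V)
  {Z : Scheme.{u}} [Z.Over (Spec (CommRingCat.of K))] (q : Z ⟶ X)
  (hsq : IsPullback q (Z ↘ Spec (CommRingCat.of K)) f t)

/-- the point `Spec K ⟶ V` -/
noncomputable def tLift : Spec (CommRingCat.of K) ⟶ (V : Scheme.{u}) :=
  IsOpenImmersion.lift V.ι t (by
    rw [Scheme.Opens.range_ι]
    rintro _ ⟨x, rfl⟩
    exact ht x)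

@[reassoc]
lemma tLift_ι : tLift V t ht ≫ V.ι = t :=
  IsOpenImmersion.lift_fac _ _ _

include ht hsq in
lemma q_mem (z : Z) : q z ∈ f ⁻¹ᵁ V := by
  show f (q z) ∈ V
  have h := congrArg (fun φ : Z ⟶ Y => φ z) hsq.w
  simp only [Scheme.Hom.comp_apply] at h
  rw [h]
  exact ht _

/-- the inclusion of `Z` into the chart -/
noncomputable def qLift : Z ⟶ XV f V :=
  IsOpenImmersion.lift (f ⁻¹ᵁ V).ι q (by
    rw [Scheme.Opens.range_ι]
    rintro _ ⟨z, rfl⟩
    exact q_mem f V t ht q hsq z)

@[reassoc]
lemma qLift_ι : qLift f V t ht q hsq ≫ (f ⁻¹ᵁ V).ι = q :=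
  IsOpenImmersion.lift_fac _ _ _

lemma qLift_comm :
    qLift f V t ht q hsq ≫ (f ∣_ V) = (Z ↘ Spec (CommRingCat.of K)) ≫ tLift V t ht := by
  rw [← cancel_mono V.ι, Category.assoc, Category.assoc, morphismRestrict_ι, tLift_ι,
    qLift_ι_assoc]
  exact hsq.w

lemma isPullback_top :
    IsPullback (qLift f V t ht q hsq) (Z ↘ Spec (CommRingCat.of K)) (f ∣_ V) (tLift V t ht) := by
  have h0 : IsPullback (qLift f V t ht q hsq ≫ (f ⁻¹ᵁ V).ι) (Z ↘ Spec (CommRingCat.of K)) f
      (tLift V t ht ≫ V.ι) := by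
    rw [qLift_ι, tLift_ι]
    exact hsq
  exact IsPullback.of_right h0 (qLift_comm f V t ht q hsq) (isPullback_morphismRestrict f V).flip

variable [IsAffine (V : Scheme.{u})]

/-- the `Γ(V, O)`-algebra structure of the field -/
@[reducible] noncomputable def fieldAlgebra : Algebra (AV V) K :=
  (Spec.preimage (tLift V t ht ≫ (V : Scheme.{u}).isoSpec.hom)).hom.toAlgebra

lemma specMap_fieldAlgebra :
    letI := fieldAlgebra V t ht
    Spec.map (CommRingCat.ofHom (algebraMap (AV V) K)) =
      tLift V t ht ≫ (V : Scheme.{u}).isoSpec.hom := by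
  letI := fieldAlgebra V t ht
  exact Spec.map_preimage _

/-- the cartesian square of the chart -/
theorem isPullback_field :
    letI := fieldAlgebra V t ht
    IsPullback (qLift f V t ht q hsq) (Z ↘ Spec (CommRingCat.of K)) (chartHom f V)
      (Spec.map (CommRingCat.ofHom (algebraMap (AV V) K))) := by
  letI := fieldAlgebra V t ht
  refine IsPullback.of_iso (isPullback_top f V t ht q hsq) (Iso.refl _) (Iso.refl _) (Iso.refl _)
    (V : Scheme.{u}).isoSpec (by simp) (by simp) (by simp [chartHom]) ?_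
  rw [Iso.refl_hom, Category.id_comp]
  exact (specMap_fieldAlgebra V t ht).symm

omit [IsAffine (V : Scheme.{u})] in
/-- the pullback of the restriction to the chart is the pullback to `Z` -/
noncomputable def modIso (F : X.Modules) :
    (Scheme.Modules.pullback (qLift f V t ht q hsq)).obj (FV f V F) ≅
      (Scheme.Modules.pullback q).obj F :=
  (Scheme.Modules.pullback (qLift f V t ht q hsq)).mapIso
      ((Scheme.Modules.restrictFunctorIsoPullback (f ⁻¹ᵁ V).ι).app F) ≪≫
    (Scheme.Modules.pullbackComp (qLift f V t ht q hsq) (f ⁻¹ᵁ V).ι).app F ≪≫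
    (Scheme.Modules.pullbackCongr (qLift_ι f V t ht q hsq)).app F

omit [IsAffine (V : Scheme.{u})] in
lemma tLift_apply (x' : Spec (CommRingCat.of K)) : tLift V t ht x' = ⟨t x', ht x'⟩ := by
  apply Subtype.ext
  have h := congrArg (fun φ : Spec (CommRingCat.of K) ⟶ Y => φ x') (tLift_ι V t ht)
  simp only [Scheme.Hom.comp_apply] at h
  exact h

lemma comap_fieldAlgebra (x' : PrimeSpectrum K) :
    letI := fieldAlgebra V t ht
    PrimeSpectrum.comap (algebraMap (AV V) K) x' = chartPt V (t x') (ht x') := by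
  letI := fieldAlgebra V t ht
  have h := congrArg (fun φ : Spec (CommRingCat.of K) ⟶ Spec (CommRingCat.of (AV V)) => φ x')
    (specMap_fieldAlgebra V t ht)
  simp only [Scheme.Hom.comp_apply] at h
  rw [tLift_apply] at h
  exact h

include hsq in
/-- the dimension of the cohomology of `Z` is the rank of the chart complex -/
theorem finrank_eq_dRank (F : X.Modules) (L : ChainComplex (ModuleCat.{u} (AV V)) ℤ)
    (hL : HasBC f V F L) (p : ℕ) (x' : PrimeSpectrum K) :
    Module.finrank K (Coh.HH Z ((Scheme.Modules.pullback q).obj F) p) =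
      CohIII.dRank L (-(p : ℤ)) (chartPt V (t x') (ht x')) := by
  letI := chartOver f V
  letI := fieldAlgebra V t ht
  obtain ⟨e⟩ := hL K Z (qLift f V t ht q hsq) (isPullback_field f V t ht q hsq) p
  have h1 := e.finrank_eq
  have h2 := finrank_HH_congr (K := K) (modIso f V t ht q hsq F) p
  have h3 := finrank_bcCx_field L (-(p : ℤ)) x'
  rw [comap_fieldAlgebra] at h3
  rw [← h3, h1, h2]

end Groth.Agent.Helper1.FieldPt
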