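import Groth.Agent.Helper1.FieldPt
import Groth.Prelude.Def_PerfAux

set_option autoImplicit false

/-!
# Betti numbers of the fibres are invariant under arbitrary base change
-/

namespace Groth.Agent.Helper1.FieldPt

open CategoryTheory Limits AlgebraicGeometry Opposite TopologicalSpace
open Groth.Agent.Helper1.BaseChart

universe u

/-- the dimension of the cohomology of the base change to a field-valued point -/
theorem finrank_HH_fieldPt {X Y : Scheme.{u}} (f : X ⟶ Y) [IsProper f] [IsLocallyNoetherian Y]
    (F : X.Modules) (hF : Coh.IsCoh F) (hfl : FlatMod.IsFlatOver f F)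
    {K : Type u} [Field K] (t : Spec (CommRingCat.of K) ⟶ Y)
    {Z : Scheme.{u}} [Z.Over (Spec (CommRingCat.of K))] (q : Z ⟶ X)
    (hsq : IsPullback q (Z ↘ Spec (CommRingCat.of K)) f t) (p : ℕ) (x' : PrimeSpectrum K) :
    Module.finrank K (Coh.HH Z ((Scheme.Modules.pullback q).obj F) p) =
      CohIII.fiberRank f F p (t x') := by
  obtain ⟨V, hV, hyV, -⟩ := exists_isAffineOpen_mem_and_subset (x := t x')
    (U := (⊤ : Y.Opens)) trivial
  haveI : IsAffine (V : Scheme.{u}) := hV
  have ht : ∀ x, t x ∈ V := by
    intro x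
    have : x = x' := Subsingleton.elim (α := PrimeSpectrum K) x x'
    rw [this]
    exact hyV
  obtain ⟨L, -, -, -, hrank, hBC, -⟩ := exists_chart_complex f V F hF hfl
  rw [finrank_eq_dRank f V t ht q hsq F L hBC p x']
  exact hrank p (t x') (ht x')

/-- **Betti numbers of the fibres are invariant under arbitrary base change.** -/
theorem betti_baseChange {X Y X' Y' : Scheme.{u}} (f : X ⟶ Y) [IsProper f] [IsLocallyNoetherian Y]
    (F : X.Modules) (hF : Coh.IsCoh F) (hfl : FlatMod.IsFlatOver f F)
    (g : Y' ⟶ Y) (g' : X' ⟶ X) (f' : X' ⟶ Y') (h : IsPullback g' f' f g) (y' : Y') (p : ℕ) :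
    PerfAux.betti f' ((Scheme.Modules.pullback g').obj F) y' p = PerfAux.betti f F (g y') p := by
  letI : (f'.fiber y').Over (Spec (CommRingCat.of (Y'.residueField y'))) :=
    ⟨f'.fiberToSpecResidueField y'⟩
  have h0 : IsPullback (f'.fiberι y') (f'.fiberToSpecResidueField y') f'
      (Y'.fromSpecResidueField y') := IsPullback.of_hasPullback _ _
  have hsq := h0.paste_horiz h
  let x' : PrimeSpectrum (Y'.residueField y') := ⟨⊥, Ideal.isPrime_bot⟩
  have key := finrank_HH_fieldPt f F hF hfl (K := Y'.residueField y')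
    (Y'.fromSpecResidueField y' ≫ g) (f'.fiberι y' ≫ g') hsq p x'
  have hpt : (Y'.fromSpecResidueField y' ≫ g) x' = g y' := by
    rw [Scheme.Hom.comp_apply, Scheme.fromSpecResidueField_apply]
  rw [hpt] at key
  have h2 := finrank_HH_congr (K := Y'.residueField y')
    ((Scheme.Modules.pullbackComp (f'.fiberι y') g').app F) p
  change Module.finrank (Y'.residueField y')
    (Coh.HH (f'.fiber y') ((Scheme.Modules.pullback (f'.fiberι y')).obj
      ((Scheme.Modules.pullback g').obj F)) p) = _
  exact h2.trans key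

end Groth.Agent.Helper1.FieldPt
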