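import Mathlib
import Groth.Prelude.Def_FilD

set_option autoImplicit false
set_option linter.unusedSectionVars false

/-! Basic lemmas on finite filtered objects of an abelian category (`FilD`). -/

namespace Groth.Agent.Helper1.FilBasic
open CategoryTheory Limits Opposite FilD

universe v u
variable {A : Type u} [Category.{v} A] [Abelian A]

/-- Factoring through the image subobject, up to refinements. -/
lemma factors_imageSubobject_iff {X Y W : A} (f : X ⟶ Y) (t : W ⟶ Y) :
    (imageSubobject f).Factors t ↔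
      ∃ (W' : A) (π : W' ⟶ W) (_ : Epi π) (x : W' ⟶ X), π ≫ t = x ≫ f := by
  constructor
  · intro h
    obtain ⟨W', π, hπ, x, hx⟩ := surjective_up_to_refinements_of_epi (factorThruImageSubobject f)
      ((imageSubobject f).factorThru t h)
    refine ⟨W', π, hπ, x, ?_⟩
    have := congrArg (· ≫ (imageSubobject f).arrow) hx
    simpa using this
  · rintro ⟨W', π, hπ, x, hx⟩
    have h0 : t ≫ cokernel.π (imageSubobject f).arrow = 0 := by
      rw [← cancel_epi π, ← Category.assoc, hx, comp_zero, Category.assoc]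
      have : f ≫ cokernel.π (imageSubobject f).arrow = 0 := by
        have e : f ≫ cokernel.π (imageSubobject f).arrow =
            (factorThruImageSubobject f ≫ (imageSubobject f).arrow) ≫
              cokernel.π (imageSubobject f).arrow := by
          rw [imageSubobject_arrow_comp]
        rw [e, Category.assoc, cokernel.condition, comp_zero]
      rw [this, comp_zero]
    have hex : (ShortComplex.mk (imageSubobject f).arrow (cokernel.π (imageSubobject f).arrow)
      (cokernel.condition _)).Exact := ShortComplex.exact_cokernel _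
    have : Mono (ShortComplex.mk (imageSubobject f).arrow (cokernel.π (imageSubobject f).arrow)
      (cokernel.condition _)).f := by dsimp; infer_instance
    rw [Subobject.factors_iff]
    exact ⟨hex.lift t h0, hex.lift_f t h0⟩

lemma subobject_le_of_factors {B : A} {S T : Subobject B}
    (h : ∀ (W : A) (t : W ⟶ B), S.Factors t → T.Factors t) : S ≤ T := by
  have := h _ S.arrow S.factors_self
  exact Subobject.le_of_comm (T.factorThru _ this) (by simp)

/-- Downward induction on integers from a bound above which the property holds. -/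
lemma int_down_induction {P : ℤ → Prop} (b : ℤ) (hb : ∀ p, b ≤ p → P p)
    (hstep : ∀ p, P (p + 1) → P p) : ∀ p, P p := by
  have : ∀ (k : ℕ) (p : ℤ), b ≤ p + k → P p := by
    intro k
    induction k with
    | zero => intro p hp; exact hb p (by simpa using hp)
    | succ k ih => intro p hp; exact hstep p (ih (p + 1) (by push_cast at hp; omega))
  intro p
  exact this (b - p).toNat p (by omega)

/-- Strictness in terms of refinements. -/
def StrictR {F G : ℤᵒᵖ ⥤ A} (φ : F ⟶ G) : Prop :=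
  ∀ (p q : ℤ) (h : p ≤ q) (W : A) (x : W ⟶ F.obj (op p)) (y : W ⟶ G.obj (op q)),
    x ≫ φ.app (op p) = y ≫ G.map (homOfLE h).op →
    ∃ (W' : A) (π : W' ⟶ W) (_ : Epi π) (x' : W' ⟶ F.obj (op q)), π ≫ y = x' ≫ φ.app (op q)

/-- Strictness for consecutive steps, in terms of refinements. -/
def StrictStep {F G : ℤᵒᵖ ⥤ A} (φ : F ⟶ G) : Prop :=
  ∀ (p : ℤ) (W : A) (x : W ⟶ F.obj (op p)) (y : W ⟶ G.obj (op (p + 1))),
    x ≫ φ.app (op p) = y ≫ G.map (stepHom p) →
    ∃ (W' : A) (π : W' ⟶ W) (_ : Epi π) (x' : W' ⟶ F.obj (op (p + 1))),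
      π ≫ y = x' ≫ φ.app (op (p + 1))

lemma StrictR.step {F G : ℤᵒᵖ ⥤ A} {φ : F ⟶ G} (h : StrictR φ) : StrictStep φ :=
  fun p W x y hxy => h p (p + 1) _ W x y hxy

lemma map_comp_of_le (G : ℤᵒᵖ ⥤ A) {p q r : ℤ} (h₁ : p ≤ q) (h₂ : q ≤ r) :
    G.map (homOfLE h₂).op ≫ G.map (homOfLE h₁).op = G.map (homOfLE (h₁.trans h₂)).op := by
  rw [← G.map_comp]
  rfl

lemma map_self (G : ℤᵒᵖ ⥤ A) (p : ℤ) (h : p ≤ p) : G.map (homOfLE h).op = 𝟙 _ := by
  have : (homOfLE h).op = 𝟙 (op p) := rfl
  rw [this, G.map_id]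

lemma StrictStep.strictR {F G : ℤᵒᵖ ⥤ A} {φ : F ⟶ G} (h : StrictStep φ) : StrictR φ := by
  intro p q hpq
  induction q, hpq using Int.leInduction with
  | base =>
    intro W x y hxy
    refine ⟨W, 𝟙 W, inferInstance, x, ?_⟩
    rw [map_self, Category.comp_id] at hxy
    rw [Category.id_comp, hxy]
  | succ q hpq ih =>
    intro W x y hxy
    have e : G.map (homOfLE (hpq.trans (Int.le_add_one le_rfl))).op =
        G.map (stepHom q) ≫ G.map (homOfLE hpq).op := by
      rw [← G.map_comp]; rfl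
    rw [e, ← Category.assoc] at hxy
    obtain ⟨W₁, π₁, hπ₁, x₁, hx₁⟩ := ih W x (y ≫ G.map (stepHom q)) hxy
    obtain ⟨W₂, π₂, hπ₂, x₂, hx₂⟩ := h q W₁ x₁ (π₁ ≫ y) (by rw [← hx₁, Category.assoc])
    exact ⟨W₂, π₂ ≫ π₁, epi_comp _ _, x₂, by rw [Category.assoc, hx₂]⟩

lemma isStrict_iff {X Y : FilF A} (φ : X ⟶ Y) : IsStrict φ ↔ StrictR φ.hom := by
  constructor
  · intro hφ p q h W x y hxy
    have hm : Mono (Y.obj.map (homOfLE h).op) := Y.property.1 _
    have h1 : (imageSubobject (φ.hom.app (op p))).Factors (y ≫ Y.obj.map (homOfLE h).op) := by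
      rw [factors_imageSubobject_iff]
      exact ⟨W, 𝟙 W, inferInstance, x, by rw [Category.id_comp, hxy]⟩
    have h2 : (Subobject.mk (Y.obj.map (homOfLE h).op)).Factors (y ≫ Y.obj.map (homOfLE h).op) :=
      ⟨y, rfl⟩
    have h3 := (Subobject.inf_factors _).2 ⟨h1, h2⟩
    rw [← hφ p q h, factors_imageSubobject_iff] at h3
    obtain ⟨W', π, hπ, x', hx'⟩ := h3
    refine ⟨W', π, hπ, x', ?_⟩
    rw [← cancel_mono (Y.obj.map (homOfLE h).op), Category.assoc, hx', Category.assoc]
  · intro hφ p q h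
    have hm : Mono (Y.obj.map (homOfLE h).op) := Y.property.1 _
    apply le_antisymm
    · apply le_inf
      · have : φ.hom.app (op q) ≫ Y.obj.map (homOfLE h).op =
            X.obj.map (homOfLE h).op ≫ φ.hom.app (op p) := (φ.hom.naturality _).symm
        simp only [this]
        exact imageSubobject_comp_le _ _
      · exact imageSubobject_le_mk _ _ (φ.hom.app (op q)) rfl
    · apply subobject_le_of_factors
      intro W t ht
      rw [Subobject.inf_factors] at ht
      obtain ⟨h1, hy'⟩ := ht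
      obtain ⟨y, hy⟩ : ∃ y : W ⟶ Y.obj.obj (op q), y ≫ Y.obj.map (homOfLE h).op = t := hy'
      rw [factors_imageSubobject_iff] at h1 ⊢
      obtain ⟨W₁, π₁, hπ₁, x₁, hx₁⟩ := h1
      obtain ⟨W₂, π₂, hπ₂, x₂, hx₂⟩ := hφ p q h W₁ x₁ (π₁ ≫ y) (by
        rw [← hx₁, Category.assoc]; exact congrArg (π₁ ≫ ·) hy.symm)
      refine ⟨W₂, π₂ ≫ π₁, epi_comp _ _, x₂, ?_⟩
      rw [← hy, Category.assoc, ← Category.assoc π₁, ← Category.assoc π₂, hx₂, Category.assoc]

lemma isStrict_of_step {X Y : FilF A} (φ : X ⟶ Y) (h : StrictStep φ.hom) : IsStrict φ :=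
  (isStrict_iff φ).2 h.strictR

lemma IsStrict.step {X Y : FilF A} {φ : X ⟶ Y} (h : IsStrict φ) : StrictStep φ.hom :=
  ((isStrict_iff φ).1 h).step

/-! ### Graded pieces -/

/-- The projection onto the graded piece. -/
noncomputable def grπ (F : ℤᵒᵖ ⥤ A) (p : ℤ) : F.obj (op p) ⟶ (gr A p).obj F :=
  cokernel.π (F.map (stepHom p))

instance (F : ℤᵒᵖ ⥤ A) (p : ℤ) : Epi (grπ F p) :=
  inferInstanceAs (Epi (cokernel.π (F.map (stepHom p))))

@[reassoc (attr := simp)]
lemma step_grπ (F : ℤᵒᵖ ⥤ A) (p : ℤ) : F.map (stepHom p) ≫ grπ F p = 0 :=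
  cokernel.condition _

@[reassoc (attr := simp)]
lemma grπ_naturality {F G : ℤᵒᵖ ⥤ A} (φ : F ⟶ G) (p : ℤ) :
    grπ F p ≫ (gr A p).map φ = φ.app (op p) ≫ grπ G p := by
  simp [grπ, gr]

lemma exists_lift_of_comp_grπ_eq_zero (F : ℤᵒᵖ ⥤ A) (p : ℤ) [Mono (F.map (stepHom p))] {W : A}
    (x : W ⟶ F.obj (op p)) (hx : x ≫ grπ F p = 0) :
    ∃ x' : W ⟶ F.obj (op (p + 1)), x' ≫ F.map (stepHom p) = x := by
  have hex : (ShortComplex.mk (F.map (stepHom p)) (cokernel.π (F.map (stepHom p)))
      (cokernel.condition _)).Exact := ShortComplex.exact_cokernel _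
  have : Mono (ShortComplex.mk (F.map (stepHom p)) (cokernel.π (F.map (stepHom p)))
      (cokernel.condition _)).f := by dsimp; infer_instance
  exact ⟨hex.lift x hx, hex.lift_f x hx⟩

instance step_mono (X : FilF A) (p : ℤ) : Mono (X.obj.map (stepHom p)) := X.property.1 _

instance map_mono (X : FilF A) {p q : ℤᵒᵖ} (f : p ⟶ q) : Mono (X.obj.map f) := X.property.1 _

/-! ### Levelwise kernels -/

lemma exists_lift_kernel {F G : ℤᵒᵖ ⥤ A} (φ : F ⟶ G) (p : ℤ) {W : A} (x : W ⟶ F.obj (op p))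
    (hx : x ≫ φ.app (op p) = 0) :
    ∃ l : W ⟶ (kernel φ).obj (op p), l ≫ (kernel.ι φ).app (op p) = x := by
  have hex := (ShortComplex.exact_kernel φ).map ((evaluation ℤᵒᵖ A).obj (op p))
  have : Mono ((ShortComplex.mk (kernel.ι φ) φ (kernel.condition φ)).map
      ((evaluation ℤᵒᵖ A).obj (op p))).f := by
    change Mono ((kernel.ι φ).app (op p)); infer_instance
  exact ⟨hex.lift x hx, hex.lift_f x hx⟩

@[reassoc (attr := simp)]
lemma kernel_ι_app_comp {F G : ℤᵒᵖ ⥤ A} (φ : F ⟶ G) (p : ℤ) :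
    (kernel.ι φ).app (op p) ≫ φ.app (op p) = 0 := by
  rw [← NatTrans.comp_app, kernel.condition]; rfl

end Groth.Agent.Helper1.FilBasic
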