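import Mathlib
import Groth.Prelude.Def_FilD
import Groth.Agent.Helper1.FilBasic

set_option autoImplicit false
set_option linter.unusedSectionVars false

/-! A quasi-isomorphism (in the functor category) between complexes of functors with monomorphic
transition maps induces quasi-isomorphisms on graded pieces. -/

namespace Groth.Agent.Helper1.FilQis
open CategoryTheory Limits Opposite FilD HomologicalComplex Groth.Agent.Helper1.FilBasic

universe v u
variable {A : Type u} [Category.{v} A] [Abelian A]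

/-- The natural transformation `ev_{p+1} ⟶ ev_p`. -/
noncomputable def stepNat (p : ℤ) : (evaluation ℤᵒᵖ A).obj (op (p + 1)) ⟶ (evaluation ℤᵒᵖ A).obj (op p) :=
  (evaluation ℤᵒᵖ A).map (stepHom p)

/-- The natural transformation `ev_p ⟶ gr_p`. -/
noncomputable def grπNat (p : ℤ) : (evaluation ℤᵒᵖ A).obj (op p) ⟶ gr A p where
  app F := grπ F p
  naturality _ _ φ := (grπ_naturality φ p).symm

/-- The short complex `ev_{p+1} M ⟶ ev_p M ⟶ gr_p M` of complexes. -/
noncomputable def sc (M : CochainComplex (ℤᵒᵖ ⥤ A) ℤ) (p : ℤ) :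
    ShortComplex (CochainComplex A ℤ) :=
  ShortComplex.mk ((NatTrans.mapHomologicalComplex (stepNat p) (ComplexShape.up ℤ)).app M)
    ((NatTrans.mapHomologicalComplex (grπNat p) (ComplexShape.up ℤ)).app M) (by
      ext n
      exact step_grπ (M.X n) p)

lemma sc_shortExact (M : CochainComplex (ℤᵒᵖ ⥤ A) ℤ) (p : ℤ)
    (hM : ∀ n, Mono ((M.X n).map (stepHom p))) : (sc M p).ShortExact := by
  apply shortExact_of_degreewise_shortExact
  intro n
  have := hM n
  exact
    { exact := ShortComplex.exact_cokernel ((M.X n).map (stepHom p))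
      mono_f := inferInstanceAs (Mono ((M.X n).map (stepHom p)))
      epi_g := inferInstanceAs (Epi (grπ (M.X n) p)) }

/-- The morphism of short complexes induced by a morphism of complexes. -/
noncomputable def scMap {M N : CochainComplex (ℤᵒᵖ ⥤ A) ℤ} (φ : M ⟶ N) (p : ℤ) :
    sc M p ⟶ sc N p where
  τ₁ := (((evaluation ℤᵒᵖ A).obj (op (p + 1))).mapHomologicalComplex _).map φ
  τ₂ := (((evaluation ℤᵒᵖ A).obj (op p)).mapHomologicalComplex _).map φ
  τ₃ := ((gr A p).mapHomologicalComplex _).map φ
  comm₁₂ := (NatTrans.mapHomologicalComplex (stepNat p) (ComplexShape.up ℤ)).naturality φ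
  comm₂₃ := (NatTrans.mapHomologicalComplex (grπNat p) (ComplexShape.up ℤ)).naturality φ

theorem quasiIso_gr {M N : CochainComplex (ℤᵒᵖ ⥤ A) ℤ} (φ : M ⟶ N) [QuasiIso φ] (p : ℤ)
    (hM : ∀ n, Mono ((M.X n).map (stepHom p))) (hN : ∀ n, Mono ((N.X n).map (stepHom p))) :
    QuasiIso (((gr A p).mapHomologicalComplex (ComplexShape.up ℤ)).map φ) :=
  HomologySequence.quasiIso_τ₃ (scMap φ p) (sc_shortExact M p hM) (sc_shortExact N p hN)
    (inferInstanceAs (QuasiIso ((((evaluation ℤᵒᵖ A).obj (op (p + 1))).mapHomologicalComplex _).map φ)))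
    (inferInstanceAs (QuasiIso ((((evaluation ℤᵒᵖ A).obj (op p)).mapHomologicalComplex _).map φ)))

end Groth.Agent.Helper1.FilQis
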