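import Mathlib
import Groth.Prelude.Def_FilD
import Groth.Agent.Helper1.FilBasic
import Groth.Agent.Helper1.FilQis

set_option autoImplicit false
set_option linter.unusedSectionVars false

/-! Lifting complexes of functors with finite filtered terms to complexes of finite filtered
objects. -/

namespace Groth.Agent.Helper1.FilCx
open CategoryTheory Limits Opposite FilD HomologicalComplex Groth.Agent.Helper1.FilBasic

universe v u
variable {A : Type u} [Category.{v} A] [Abelian A]

/-- The underlying complex of functors. -/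
noncomputable abbrev und (K : CochainComplex (FilF A) ℤ) : CochainComplex (ℤᵒᵖ ⥤ A) ℤ :=
  ((IsFinFil A).ι.mapHomologicalComplex (ComplexShape.up ℤ)).obj K

/-- Lifting a complex of functors whose terms are finite filtered. -/
def liftCx (M : CochainComplex (ℤᵒᵖ ⥤ A) ℤ) (h : ∀ n, IsFinFil A (M.X n)) :
    CochainComplex (FilF A) ℤ where
  X n := ⟨M.X n, h n⟩
  d i j := ObjectProperty.homMk (M.d i j)
  shape i j hij := by
    ext : 1
    exact M.shape i j hij
  d_comp_d' i j k _ _ := by
    ext : 1
    exact M.d_comp_d i j k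

/-- Lifting a morphism to the lifted complex. -/
def liftHom {K : CochainComplex (FilF A) ℤ} {M : CochainComplex (ℤᵒᵖ ⥤ A) ℤ}
    (h : ∀ n, IsFinFil A (M.X n)) (φ : und K ⟶ M) : K ⟶ liftCx M h where
  f n := ObjectProperty.homMk (φ.f n)
  comm' i j hij := by
    ext : 1
    exact φ.comm' i j hij

/-- Lifting a morphism from the lifted complex. -/
def liftHom' {K : CochainComplex (FilF A) ℤ} {M : CochainComplex (ℤᵒᵖ ⥤ A) ℤ}
    (h : ∀ n, IsFinFil A (M.X n)) (φ : M ⟶ und K) : liftCx M h ⟶ K where
  f n := ObjectProperty.homMk (φ.f n)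
  comm' i j hij := by
    ext : 1
    exact φ.comm' i j hij

lemma isFilteredQuasiIso_liftHom {K : CochainComplex (FilF A) ℤ}
    {M : CochainComplex (ℤᵒᵖ ⥤ A) ℤ} (h : ∀ n, IsFinFil A (M.X n)) (φ : und K ⟶ M)
    [QuasiIso φ] : IsFilteredQuasiIso (liftHom h φ) := by
  intro p
  exact FilQis.quasiIso_gr φ p (fun n => (K.X n).property.1 _) (fun n => (h n).1 _)

lemma isFilteredQuasiIso_liftHom' {K : CochainComplex (FilF A) ℤ}
    {M : CochainComplex (ℤᵒᵖ ⥤ A) ℤ} (h : ∀ n, IsFinFil A (M.X n)) (φ : M ⟶ und K)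
    [QuasiIso φ] : IsFilteredQuasiIso (liftHom' h φ) := by
  intro p
  exact FilQis.quasiIso_gr φ p (fun n => (h n).1 _) (fun n => (K.X n).property.1 _)

end Groth.Agent.Helper1.FilCx
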