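import Mathlib
import Groth.Prelude.Def_FilD
import Groth.Agent.Helper1.FilBasic

set_option autoImplicit false
set_option linter.unusedSectionVars false

/-! Exactness of graded pieces implies levelwise exactness and strictness. -/

namespace Groth.Agent.Helper1.FilExact
open CategoryTheory Limits Opposite FilD Groth.Agent.Helper1.FilBasic

universe v u
variable {A : Type u} [Category.{v} A] [Abelian A]

section
variable {F G H : ℤᵒᵖ ⥤ A} (f : F ⟶ G) (g : G ⟶ H) (w : f ≫ g = 0)

/-- gr-exactness at `p`, in terms of refinements. -/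
def GrExactAt (p : ℤ) : Prop :=
  ∀ (W : A) (yb : W ⟶ (gr A p).obj G), yb ≫ (gr A p).map g = 0 →
    ∃ (W' : A) (π : W' ⟶ W) (_ : Epi π) (xb : W' ⟶ (gr A p).obj F), π ≫ yb = xb ≫ (gr A p).map f

/-- Levelwise exactness at `p`, in terms of refinements. -/
def LvExactAt (p : ℤ) : Prop :=
  ∀ (W : A) (y : W ⟶ G.obj (op p)), y ≫ g.app (op p) = 0 →
    ∃ (W' : A) (π : W' ⟶ W) (_ : Epi π) (x : W' ⟶ F.obj (op p)), π ≫ y = x ≫ f.app (op p)

variable {f g}

lemma key (p : ℤ) [Mono (G.map (stepHom p))] (hp : GrExactAt f g p) {W : A} (y : W ⟶ G.obj (op p))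
    (hy : (y ≫ grπ G p) ≫ (gr A p).map g = 0) :
    ∃ (W' : A) (π : W' ⟶ W) (_ : Epi π) (x : W' ⟶ F.obj (op p)) (y' : W' ⟶ G.obj (op (p + 1))),
      π ≫ y = x ≫ f.app (op p) + y' ≫ G.map (stepHom p) := by
  obtain ⟨W₁, π₁, hπ₁, xb, hxb⟩ := hp W _ hy
  obtain ⟨W₂, π₂, hπ₂, x, hx⟩ := surjective_up_to_refinements_of_epi (grπ F p) xb
  have h0 : (π₂ ≫ π₁ ≫ y - x ≫ f.app (op p)) ≫ grπ G p = 0 := by
    rw [Preadditive.sub_comp, Category.assoc, Category.assoc, Category.assoc, hxb,
      ← grπ_naturality, ← Category.assoc π₂, hx, Category.assoc, sub_self]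
  obtain ⟨y', hy'⟩ := exists_lift_of_comp_grπ_eq_zero G p _ h0
  refine ⟨W₂, π₂ ≫ π₁, epi_comp _ _, x, y', ?_⟩
  rw [hy', Category.assoc]
  abel

include w in
lemma lvExactAt_of_succ (p : ℤ) [Mono (G.map (stepHom p))] [Mono (H.map (stepHom p))]
    (hp : GrExactAt f g p) (h : LvExactAt f g (p + 1)) : LvExactAt f g p := by
  intro W y hy
  have hy0 : (y ≫ grπ G p) ≫ (gr A p).map g = 0 := by
    rw [Category.assoc, grπ_naturality, ← Category.assoc, hy, zero_comp]
  obtain ⟨W₁, π₁, hπ₁, x, y', e⟩ := key p hp y hy0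
  have wp : f.app (op p) ≫ g.app (op p) = 0 := by
    rw [← NatTrans.comp_app, w]; rfl
  have h1 : y' ≫ g.app (op (p + 1)) = 0 := by
    rw [← cancel_mono (H.map (stepHom p)), Category.assoc, ← g.naturality, zero_comp]
    have := congrArg (· ≫ g.app (op p)) e
    simp only [Category.assoc, hy, comp_zero, Preadditive.add_comp, wp, zero_add] at this
    exact this.symm
  obtain ⟨W₂, π₂, hπ₂, x', hx'⟩ := h W₁ y' h1
  refine ⟨W₂, π₂ ≫ π₁, epi_comp _ _, π₂ ≫ x + x' ≫ F.map (stepHom p), ?_⟩
  rw [Category.assoc, e, Preadditive.comp_add, Preadditive.add_comp, Category.assoc,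
    Category.assoc, f.naturality, ← Category.assoc π₂ y', hx', Category.assoc]

include w in
lemma strictStep_left (hH : ∀ p, Mono (H.map (stepHom p)))
    (h : ∀ p, LvExactAt f g p) : StrictStep f := by
  intro p W x y hxy
  have wp : f.app (op p) ≫ g.app (op p) = 0 := by
    rw [← NatTrans.comp_app, w]; rfl
  have := hH p
  have h1 : y ≫ g.app (op (p + 1)) = 0 := by
    rw [← cancel_mono (H.map (stepHom p)), Category.assoc, ← g.naturality, zero_comp,
      ← Category.assoc, ← hxy, Category.assoc, wp, comp_zero]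
  exact h (p + 1) W y h1

include w in
lemma strictStep_right (hG : ∀ p, Mono (G.map (stepHom p))) (hH : ∀ p, Mono (H.map (stepHom p)))
    (h : ∀ p, GrExactAt f g p) : StrictStep g := by
  intro p W y z hyz
  have := hG p
  have := hH p
  have hy0 : (y ≫ grπ G p) ≫ (gr A p).map g = 0 := by
    rw [Category.assoc, grπ_naturality, ← Category.assoc, hyz, Category.assoc, step_grπ,
      comp_zero]
  obtain ⟨W₁, π₁, hπ₁, x, y', e⟩ := key p (h p) y hy0
  have wp : f.app (op p) ≫ g.app (op p) = 0 := by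
    rw [← NatTrans.comp_app, w]; rfl
  refine ⟨W₁, π₁, hπ₁, y', ?_⟩
  rw [← cancel_mono (H.map (stepHom p)), Category.assoc, Category.assoc, ← g.naturality, ← hyz]
  have := congrArg (· ≫ g.app (op p)) e
  simp only [Category.assoc, Preadditive.add_comp, wp, comp_zero, zero_add] at this
  exact this

end

section
variable {X Y Z : FilF A} (f : X ⟶ Y) (g : Y ⟶ Z) (w : f ≫ g = 0)
  (h : ∀ p, GrExactAt f.hom g.hom p)

include w h in
lemma lvExact_of_grExact : ∀ p, LvExactAt f.hom g.hom p := by
  have w' : f.hom ≫ g.hom = 0 := by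
    rw [← ObjectProperty.FullSubcategory.comp_hom, w]; rfl
  obtain ⟨b, hb⟩ := Y.property.2.1
  refine int_down_induction (P := fun p => LvExactAt f.hom g.hom p) b ?_ ?_
  · intro p hp W y hy
    exact ⟨W, 𝟙 W, inferInstance, 0, (hb p hp).eq_of_tgt _ _⟩
  · intro p hp
    exact lvExactAt_of_succ w' p (h p) hp

include w h in
lemma isStrict_left_of_grExact : IsStrict f := by
  have w' : f.hom ≫ g.hom = 0 := by
    rw [← ObjectProperty.FullSubcategory.comp_hom, w]; rfl
  exact isStrict_of_step _ (strictStep_left w' (fun p => inferInstance)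
    (lvExact_of_grExact f g w h))

include w h in
lemma isStrict_right_of_grExact : IsStrict g := by
  have w' : f.hom ≫ g.hom = 0 := by
    rw [← ObjectProperty.FullSubcategory.comp_hom, w]; rfl
  exact isStrict_of_step _ (strictStep_right w' (fun p => inferInstance) (fun p => inferInstance) h)

end

lemma mono_app_of_gr_mono {X Y : FilF A} (f : X ⟶ Y) (h : ∀ p, Mono ((gr A p).map f.hom)) :
    ∀ p : ℤ, Mono (f.hom.app (op p)) := by
  obtain ⟨b, hb⟩ := X.property.2.1
  refine int_down_induction (P := fun p => Mono (f.hom.app (op p))) b ?_ ?_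
  · intro p hp
    apply Preadditive.mono_of_cancel_zero
    intro W g _
    exact (hb p hp).eq_of_tgt _ _
  · intro p hp
    apply Preadditive.mono_of_cancel_zero
    intro W x hx
    have := h p
    have h1 : (x ≫ grπ X.obj p) ≫ (gr A p).map f.hom = 0 := by
      rw [Category.assoc, grπ_naturality, ← Category.assoc, hx, zero_comp]
    have h2 : x ≫ grπ X.obj p = 0 := by
      rw [← cancel_mono ((gr A p).map f.hom), h1, zero_comp]
    obtain ⟨x', hx'⟩ := exists_lift_of_comp_grπ_eq_zero X.obj p x h2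
    have h3 : x' ≫ f.hom.app (op (p + 1)) = 0 := by
      rw [← cancel_mono (Y.obj.map (stepHom p)), Category.assoc, ← f.hom.naturality,
        ← Category.assoc, hx', hx, zero_comp]
    have h4 : x' = 0 := by
      rw [← cancel_mono (f.hom.app (op (p + 1))), h3, zero_comp]
    rw [← hx', h4, zero_comp]

theorem main (S : ShortComplex (FilF A)) (hS : ∀ p : ℤ, (S.map (grF A p)).Exact) :
    (∀ p : ℤ, (S.map ((IsFinFil A).ι ⋙ (evaluation ℤᵒᵖ A).obj (op p))).Exact) ∧
      IsStrict S.f ∧ IsStrict S.g := by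
  have w : S.f.hom ≫ S.g.hom = 0 := by
    rw [← ObjectProperty.FullSubcategory.comp_hom, S.zero]; rfl
  have hgr : ∀ p, GrExactAt S.f.hom S.g.hom p := by
    intro p W yb hyb
    have := hS p
    rw [ShortComplex.exact_iff_exact_up_to_refinements] at this
    exact this yb hyb
  have hlv : ∀ p, LvExactAt S.f.hom S.g.hom p := by
    obtain ⟨b, hb⟩ := S.X₂.property.2.1
    refine int_down_induction (P := fun p => LvExactAt S.f.hom S.g.hom p) b ?_ ?_
    · intro p hp W y hy
      exact ⟨W, 𝟙 W, inferInstance, 0, (hb p hp).eq_of_tgt _ _⟩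
    · intro p h
      exact lvExactAt_of_succ w p (hgr p) h
  refine ⟨?_, ?_, ?_⟩
  · intro p
    rw [ShortComplex.exact_iff_exact_up_to_refinements]
    intro W y hy
    exact hlv p W y hy
  · exact isStrict_of_step _ (strictStep_left w (fun p => inferInstance) hlv)
  · exact isStrict_of_step _ (strictStep_right w (fun p => inferInstance) (fun p => inferInstance) hgr)

end Groth.Agent.Helper1.FilExact
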