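import Mathlib
import Groth.Prelude.Def_FilD
import Groth.Agent.Helper1.FilBasic

set_option autoImplicit false
set_option linter.unusedSectionVars false

/-! Kernels of morphisms of finite filtered objects, and the lifting property of filtered
injective objects along strict monomorphisms. -/

namespace Groth.Agent.Helper1.FilLift
open CategoryTheory Limits Opposite FilD Groth.Agent.Helper1.FilBasic

universe v u
variable {A : Type u} [Category.{v} A] [Abelian A]

/-! ### Kernels -/

lemma exists_lift_kernel' {F G : ℤᵒᵖ ⥤ A} (φ : F ⟶ G) (q : ℤᵒᵖ) {W : A} (x : W ⟶ F.obj q)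
    (hx : x ≫ φ.app q = 0) :
    ∃ l : W ⟶ (kernel φ).obj q, l ≫ (kernel.ι φ).app q = x :=
  exists_lift_kernel φ q.unop x hx

lemma kernel_isFinFil {X Y : FilF A} (φ : X ⟶ Y) : IsFinFil A (kernel φ.hom) := by
  have hmono : ∀ ⦃p q : ℤᵒᵖ⦄ (f : p ⟶ q), Mono ((kernel φ.hom).map f) := by
    intro p q f
    have e : (kernel φ.hom).map f ≫ (kernel.ι φ.hom).app q =
        (kernel.ι φ.hom).app p ≫ X.obj.map f := (kernel.ι φ.hom).naturality f
    have : Mono ((kernel φ.hom).map f ≫ (kernel.ι φ.hom).app q) := by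
      rw [e]; infer_instance
    exact mono_of_mono _ ((kernel.ι φ.hom).app q)
  refine ⟨hmono, ?_, ?_⟩
  · obtain ⟨b, hb⟩ := X.property.2.1
    exact ⟨b, fun p hp => IsZero.of_mono ((kernel.ι φ.hom).app (op p)) (hb p hp)⟩
  · obtain ⟨a, ha⟩ := X.property.2.2
    refine ⟨a, fun p q f hp => ?_⟩
    have := ha f hp
    have := hmono f
    have hk : ((kernel.ι φ.hom).app q ≫ inv (X.obj.map f)) ≫ φ.hom.app p = 0 := by
      rw [← cancel_mono (Y.obj.map f), Category.assoc, Category.assoc, ← φ.hom.naturality,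
        IsIso.inv_hom_id_assoc, zero_comp]
      rw [← NatTrans.comp_app, kernel.condition]; rfl
    obtain ⟨l, hl⟩ := exists_lift_kernel' φ.hom p _ hk
    have hs : l ≫ (kernel φ.hom).map f = 𝟙 _ := by
      rw [← cancel_mono ((kernel.ι φ.hom).app q), Category.assoc, (kernel.ι φ.hom).naturality,
        ← Category.assoc, hl, Category.assoc, IsIso.inv_hom_id, Category.comp_id, Category.id_comp]
    have : IsSplitEpi ((kernel φ.hom).map f) := ⟨⟨l, hs⟩⟩
    exact isIso_of_mono_of_isSplitEpi _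

/-- The kernel of a morphism of finite filtered objects. -/
noncomputable def kerF {X Y : FilF A} (φ : X ⟶ Y) : FilF A := ⟨kernel φ.hom, kernel_isFinFil φ⟩

/-- The inclusion of the kernel. -/
noncomputable def kerι {X Y : FilF A} (φ : X ⟶ Y) : kerF φ ⟶ X :=
  ObjectProperty.homMk (kernel.ι φ.hom)

lemma kerι_comp {X Y : FilF A} (φ : X ⟶ Y) : kerι φ ≫ φ = 0 := by
  ext : 1
  exact kernel.condition φ.hom

lemma mono_app_of_mono {X Y : FilF A} (u : X ⟶ Y) [Mono u] (p : ℤ) : Mono (u.hom.app (op p)) := by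
  have h0 : kerι u = 0 := by
    rw [← cancel_mono u, kerι_comp, zero_comp]
  have h1 : kernel.ι u.hom = 0 := congrArg (fun t => t.hom) h0
  apply Preadditive.mono_of_cancel_zero
  intro W g hg
  obtain ⟨l, hl⟩ := exists_lift_kernel u.hom p g hg
  rw [← hl, h1]
  simp

lemma mono_of_mono_app {X Y : FilF A} (u : X ⟶ Y) (h : ∀ p : ℤ, Mono (u.hom.app (op p))) :
    Mono u := by
  constructor
  intro Z g₁ g₂ hg
  ext : 1
  apply NatTrans.ext
  funext q
  have := h q.unop
  rw [← cancel_mono (u.hom.app (op q.unop))]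
  have := congrArg (fun t => t.hom.app q) hg
  exact this

/-! ### Levels of a filtered injective object are injective -/

lemma shortExact_step (X : FilF A) (p : ℤ) :
    (ShortComplex.mk (X.obj.map (stepHom p)) (grπ X.obj p) (step_grπ X.obj p)).ShortExact where
  exact := ShortComplex.exact_cokernel _
  mono_f := inferInstanceAs (Mono (X.obj.map (stepHom p)))
  epi_g := inferInstanceAs (Epi (grπ X.obj p))

lemma injective_level {I : FilF A} (hI : IsFilteredInjective I) (p : ℤ) :
    Injective (I.obj.obj (op p)) := by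
  obtain ⟨b, hb⟩ := I.property.2.1
  refine int_down_induction (P := fun p => Injective (I.obj.obj (op p))) b ?_ ?_ p
  · intro p hp
    exact (hb p hp).injective
  · intro p hp
    have : Injective (ShortComplex.mk (I.obj.map (stepHom p)) (grπ I.obj p)
        (step_grπ I.obj p)).X₁ := hp
    have s := (shortExact_step I p).splittingOfInjective
    have : Injective ((gr A p).obj I.obj) := hI p
    exact Injective.of_iso s.isoBinaryBiproduct.symm inferInstance

/-! ### The extension step -/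

lemma ext_step {Xp Xq Yp Yq J : A} (iX : Xq ⟶ Xp) (iY : Yq ⟶ Yp) (up : Xp ⟶ Yp) (uq : Xq ⟶ Yq)
    (comm : iX ≫ up = uq ≫ iY) [Mono up] [Injective J]
    (strict : ∀ (W : A) (x : W ⟶ Xp) (y : W ⟶ Yq), x ≫ up = y ≫ iY →
      ∃ (W' : A) (π : W' ⟶ W) (_ : Epi π) (x' : W' ⟶ Xq), π ≫ y = x' ≫ uq)
    (α : Xp ⟶ J) (β : Yq ⟶ J) (hαβ : iX ≫ α = uq ≫ β) :
    ∃ γ : Yp ⟶ J, up ≫ γ = α ∧ iY ≫ γ = β := by
  let Ψ : Xp ⊞ Yq ⟶ Yp := biprod.desc up iY
  let Φ : Xp ⊞ Yq ⟶ J := biprod.desc α β
  have hk : kernel.ι Ψ ≫ Φ = 0 := by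
    obtain ⟨x, hx⟩ : ∃ x, x = kernel.ι Ψ ≫ biprod.fst := ⟨_, rfl⟩
    obtain ⟨y, hy⟩ : ∃ y, y = kernel.ι Ψ ≫ biprod.snd := ⟨_, rfl⟩
    have e1 : kernel.ι Ψ ≫ Ψ = x ≫ up + y ≫ iY := by
      rw [hx, hy, Category.assoc, Category.assoc, ← Preadditive.comp_add]
      congr 1
      ext <;> simp [Ψ]
    have e2 : kernel.ι Ψ ≫ Φ = x ≫ α + y ≫ β := by
      rw [hx, hy, Category.assoc, Category.assoc, ← Preadditive.comp_add]
      congr 1
      ext <;> simp [Φ]
    have h1 : x ≫ up = (-y) ≫ iY := by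
      rw [kernel.condition] at e1
      rw [Preadditive.neg_comp]
      exact eq_neg_of_add_eq_zero_left e1.symm
    obtain ⟨W', π, hπ, x', hx'⟩ := strict _ x (-y) h1
    have h2 : π ≫ x = x' ≫ iX := by
      rw [← cancel_mono up, Category.assoc, h1, ← Category.assoc, hx', Category.assoc,
        Category.assoc, comm]
    have h3 : π ≫ y = -(x' ≫ uq) := by
      rw [← hx', Preadditive.comp_neg, neg_neg]
    rw [← cancel_epi π, comp_zero, e2, Preadditive.comp_add, ← Category.assoc, h2,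
      ← Category.assoc, h3, Category.assoc, hαβ, Preadditive.neg_comp, Category.assoc,
      add_neg_cancel]
  let Φ' : Abelian.coimage Ψ ⟶ J := cokernel.desc (kernel.ι Ψ) Φ hk
  have hΦ' : Abelian.coimage.π Ψ ≫ Φ' = Φ := cokernel.π_desc _ _ _
  obtain ⟨γ, hγ⟩ : ∃ γ : Yp ⟶ J, Abelian.factorThruCoimage Ψ ≫ γ = Φ' :=
    ⟨Injective.factorThru Φ' (Abelian.factorThruCoimage Ψ), Injective.comp_factorThru _ _⟩
  have hΨγ : Ψ ≫ γ = Φ := by
    calc Ψ ≫ γ = (Abelian.coimage.π Ψ ≫ Abelian.factorThruCoimage Ψ) ≫ γ := by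
          rw [Abelian.coimage.fac]
      _ = Φ := by rw [Category.assoc, hγ, hΦ']
  refine ⟨γ, ?_, ?_⟩
  · have : up = biprod.inl ≫ Ψ := by simp [Ψ]
    rw [this, Category.assoc, hΨγ]
    simp [Φ]
  · have : iY = biprod.inr ≫ Ψ := by simp [Ψ]
    rw [this, Category.assoc, hΨγ]
    simp [Φ]

/-! ### The lifting property -/

section
variable {X Y I : FilF A} (u : X ⟶ Y) (f : X ⟶ I)

/-- Partial extensions, defined above `n`. -/
def Good (n : ℤ) (G : ∀ p : ℤ, Y.obj.obj (op p) ⟶ I.obj.obj (op p)) : Prop :=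
  (∀ p, n ≤ p → u.hom.app (op p) ≫ G p = f.hom.app (op p)) ∧
  (∀ p, n ≤ p → Y.obj.map (stepHom p) ≫ G p = G (p + 1) ≫ I.obj.map (stepHom p))

variable [Mono u] (hu : IsStrict u) (hI : IsFilteredInjective I)

include hu hI in
lemma exists_good (n : ℤ) : ∃ G, Good u f n G := by
  obtain ⟨b, hb⟩ := X.property.2.1
  refine int_down_induction (P := fun n => ∃ G, Good u f n G) b ?_ ?_ n
  · intro n hn
    refine ⟨fun p => 0, ?_, ?_⟩
    · intro p hp
      exact (hb p (hn.trans hp)).eq_of_src _ _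
    · intro p hp
      simp
  · rintro n ⟨G, hG1, hG2⟩
    have := mono_app_of_mono u n
    have := injective_level hI n
    obtain ⟨γ, hγ1, hγ2⟩ := ext_step (X.obj.map (stepHom n)) (Y.obj.map (stepHom n))
      (u.hom.app (op n)) (u.hom.app (op (n + 1))) (u.hom.naturality (stepHom n))
      ((IsStrict.step hu) n) (f.hom.app (op n)) (G (n + 1) ≫ I.obj.map (stepHom n)) (by
        rw [← Category.assoc, hG1 (n + 1) le_rfl]
        exact f.hom.naturality (stepHom n))
    refine ⟨Function.update G n γ, ?_, ?_⟩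
    · intro p hp
      by_cases h : p = n
      · subst h
        rw [Function.update_self, hγ1]
      · rw [Function.update_of_ne h]
        exact hG1 p (by omega)
    · intro p hp
      by_cases h : p = n
      · subst h
        rw [Function.update_self, Function.update_of_ne (by omega), hγ2]
      · rw [Function.update_of_ne h, Function.update_of_ne (by omega)]
        exact hG2 p (by omega)

omit [Mono u] in
lemma nat_above {a : ℤ} (G : ∀ p : ℤ, Y.obj.obj (op p) ⟶ I.obj.obj (op p))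
    (hG : ∀ p, a ≤ p → Y.obj.map (stepHom p) ≫ G p = G (p + 1) ≫ I.obj.map (stepHom p))
    (p q : ℤ) (h : p ≤ q) (hp : a ≤ p) :
    Y.obj.map (homOfLE h).op ≫ G p = G q ≫ I.obj.map (homOfLE h).op := by
  induction q, h using Int.leInduction with
  | base => rw [map_self, map_self, Category.id_comp, Category.comp_id]
  | succ q hpq ih =>
    have eY : Y.obj.map (homOfLE (hpq.trans (Int.le_add_one le_rfl))).op =
        Y.obj.map (stepHom q) ≫ Y.obj.map (homOfLE hpq).op := by
      rw [← Y.obj.map_comp]; rfl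
    have eI : I.obj.map (homOfLE (hpq.trans (Int.le_add_one le_rfl))).op =
        I.obj.map (stepHom q) ≫ I.obj.map (homOfLE hpq).op := by
      rw [← I.obj.map_comp]; rfl
    rw [eY, eI, Category.assoc, ih, ← Category.assoc, hG q (hp.trans hpq), Category.assoc]

lemma isIso_tr (Y : FilF A) {a : ℤ}
    (ha : ∀ ⦃p q : ℤᵒᵖ⦄ (f : p ⟶ q), p.unop ≤ a → IsIso (Y.obj.map f)) (p : ℤ) :
    IsIso (Y.obj.map (homOfLE (le_max_left p a)).op) := by
  by_cases h : p ≤ a
  · apply ha
    simp [h]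
  · have : IsIso (homOfLE (le_max_left p a)) :=
      ⟨homOfLE (by simp; omega), Subsingleton.elim _ _, Subsingleton.elim _ _⟩
    infer_instance

lemma exists_common_bound (X Y I : FilF A) :
    ∃ a : ℤ, (∀ ⦃p q : ℤᵒᵖ⦄ (f : p ⟶ q), p.unop ≤ a → IsIso (X.obj.map f)) ∧
      (∀ ⦃p q : ℤᵒᵖ⦄ (f : p ⟶ q), p.unop ≤ a → IsIso (Y.obj.map f)) ∧
      (∀ ⦃p q : ℤᵒᵖ⦄ (f : p ⟶ q), p.unop ≤ a → IsIso (I.obj.map f)) := by
  obtain ⟨a₁, h₁⟩ := X.property.2.2
  obtain ⟨a₂, h₂⟩ := Y.property.2.2
  obtain ⟨a₃, h₃⟩ := I.property.2.2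
  refine ⟨min a₁ (min a₂ a₃), fun p q f hp => h₁ f ?_, fun p q f hp => h₂ f ?_,
    fun p q f hp => h₃ f ?_⟩
  · exact hp.trans (min_le_left _ _)
  · exact hp.trans ((min_le_right _ _).trans (min_le_left _ _))
  · exact hp.trans ((min_le_right _ _).trans (min_le_right _ _))

include hu hI in
/-- Filtered injective objects are injective with respect to strict monomorphisms. -/
theorem exists_desc : ∃ g : Y ⟶ I, u ≫ g = f := by
  obtain ⟨a, haX, haY, haI⟩ := exists_common_bound X Y I
  obtain ⟨G, hG1, hG2⟩ := exists_good u f hu hI a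
  have hnat := nat_above G hG2
  have isoY := isIso_tr Y haY
  have isoX := isIso_tr X haX
  obtain ⟨g', hg'⟩ : ∃ g' : ∀ p : ℤ, Y.obj.obj (op p) ⟶ I.obj.obj (op p),
      ∀ p, Y.obj.map (homOfLE (le_max_left p a)).op ≫ g' p =
        G (max p a) ≫ I.obj.map (homOfLE (le_max_left p a)).op :=
    ⟨fun p => inv (Y.obj.map (homOfLE (le_max_left p a)).op) ≫ G (max p a) ≫
      I.obj.map (homOfLE (le_max_left p a)).op, fun p => by rw [IsIso.hom_inv_id_assoc]⟩
  have hnat' : ∀ (p q : ℤ) (h : p ≤ q),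
      Y.obj.map (homOfLE h).op ≫ g' p = g' q ≫ I.obj.map (homOfLE h).op := by
    intro p q h
    have hm : max p a ≤ max q a := max_le_max_right a h
    have e1 : Y.obj.map (homOfLE (le_max_left q a)).op ≫ Y.obj.map (homOfLE h).op =
        Y.obj.map (homOfLE hm).op ≫ Y.obj.map (homOfLE (le_max_left p a)).op := by
      rw [map_comp_of_le, map_comp_of_le]
    have e2 : I.obj.map (homOfLE hm).op ≫ I.obj.map (homOfLE (le_max_left p a)).op =
        I.obj.map (homOfLE (le_max_left q a)).op ≫ I.obj.map (homOfLE h).op := by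
      rw [map_comp_of_le, map_comp_of_le]
    rw [← cancel_epi (Y.obj.map (homOfLE (le_max_left q a)).op), ← Category.assoc, e1,
      Category.assoc, hg' p, ← Category.assoc, hnat _ _ hm (le_max_right p a), Category.assoc,
      e2, ← Category.assoc, ← hg' q, Category.assoc]
  let g : Y ⟶ I := ObjectProperty.homMk
    { app := fun q => g' q.unop
      naturality := by
        intro q q' t
        have e : t = (homOfLE (leOfHom t.unop)).op := Quiver.Hom.unop_inj (Subsingleton.elim _ _)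
        rw [e]
        exact hnat' q'.unop q.unop (leOfHom t.unop) }
  refine ⟨g, ?_⟩
  ext : 1
  apply NatTrans.ext
  funext q
  obtain ⟨p, rfl⟩ : ∃ p : ℤ, q = op p := ⟨q.unop, rfl⟩
  change u.hom.app (op p) ≫ g' p = f.hom.app (op p)
  rw [← cancel_epi (X.obj.map (homOfLE (le_max_left p a)).op), ← Category.assoc,
    u.hom.naturality, Category.assoc, hg' p, ← Category.assoc, hG1 _ (le_max_right p a),
    f.hom.naturality]

end

end Groth.Agent.Helper1.FilLift
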