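import Mathlib
import Groth.Prelude.Def_FilD
import Groth.Agent.Helper1.FilBasic
import Groth.Agent.Helper1.FilLift
import Groth.Agent.Helper1.FilExact

set_option autoImplicit false
set_option linter.unusedSectionVars false

/-! Cokernels and images of strict morphisms of finite filtered objects, and extension of maps
into filtered injective objects along strict morphisms. -/

namespace Groth.Agent.Helper1.FilStrict
open CategoryTheory Limits Opposite FilD Groth.Agent.Helper1.FilBasic Groth.Agent.Helper1.FilLift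
  Groth.Agent.Helper1.FilExact

universe v u
variable {A : Type u} [Category.{v} A] [Abelian A]

/-! ### Levelwise cokernels -/

lemma epi_cokernel_π_app {F G : ℤᵒᵖ ⥤ A} (φ : F ⟶ G) (q : ℤᵒᵖ) :
    Epi ((cokernel.π φ).app q) := inferInstance

lemma cokernel_exact_app {F G : ℤᵒᵖ ⥤ A} (φ : F ⟶ G) (q : ℤᵒᵖ) {W : A} (y : W ⟶ G.obj q)
    (hy : y ≫ (cokernel.π φ).app q = 0) :
    ∃ (W' : A) (π : W' ⟶ W) (_ : Epi π) (x : W' ⟶ F.obj q), π ≫ y = x ≫ φ.app q := by
  have hex := (ShortComplex.exact_cokernel φ).map ((evaluation ℤᵒᵖ A).obj q)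
  rw [ShortComplex.exact_iff_exact_up_to_refinements] at hex
  exact hex y hy

@[reassoc (attr := simp)]
lemma app_cokernel_π {F G : ℤᵒᵖ ⥤ A} (φ : F ⟶ G) (q : ℤᵒᵖ) :
    φ.app q ≫ (cokernel.π φ).app q = 0 := by
  rw [← NatTrans.comp_app, cokernel.condition]; rfl

lemma cokernel_isFinFil {X Y : FilF A} (φ : X ⟶ Y) (hφ : StrictR φ.hom) :
    IsFinFil A (cokernel φ.hom) := by
  have hmono : ∀ ⦃p q : ℤᵒᵖ⦄ (f : p ⟶ q), Mono ((cokernel φ.hom).map f) := by
    intro p q f
    apply Preadditive.mono_of_cancel_zero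
    intro W c hc
    obtain ⟨W₁, π₁, hπ₁, y, hy⟩ :=
      surjective_up_to_refinements_of_epi ((cokernel.π φ.hom).app p) c
    have h1 : (y ≫ Y.obj.map f) ≫ (cokernel.π φ.hom).app q = 0 := by
      rw [Category.assoc, (cokernel.π φ.hom).naturality, ← Category.assoc, ← hy,
        Category.assoc, hc, comp_zero]
    obtain ⟨W₂, π₂, hπ₂, x, hx⟩ := cokernel_exact_app φ.hom q _ h1
    have hle : q.unop ≤ p.unop := leOfHom f.unop
    have ef : f = (homOfLE hle).op := Quiver.Hom.unop_inj (Subsingleton.elim _ _)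
    obtain ⟨W₃, π₃, hπ₃, x', hx'⟩ := hφ q.unop p.unop hle W₂ x (π₂ ≫ y) (by
      rw [← hx, Category.assoc, ef])
    rw [← cancel_epi π₁, ← cancel_epi π₂, ← cancel_epi π₃, comp_zero, comp_zero, comp_zero, hy,
      ← Category.assoc π₂, ← Category.assoc π₃, hx', Category.assoc]
    exact (congrArg (x' ≫ ·) (app_cokernel_π φ.hom p)).trans comp_zero
  refine ⟨hmono, ?_, ?_⟩
  · obtain ⟨b, hb⟩ := Y.property.2.1
    exact ⟨b, fun p hp => IsZero.of_epi ((cokernel.π φ.hom).app (op p)) (hb p hp)⟩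
  · obtain ⟨a, ha⟩ := Y.property.2.2
    refine ⟨a, fun p q f hp => ?_⟩
    have := ha f hp
    have := hmono f
    have : Epi ((cokernel φ.hom).map f) := by
      have e : (cokernel.π φ.hom).app p ≫ (cokernel φ.hom).map f =
          Y.obj.map f ≫ (cokernel.π φ.hom).app q := ((cokernel.π φ.hom).naturality f).symm
      have : Epi ((cokernel.π φ.hom).app p ≫ (cokernel φ.hom).map f) := by
        rw [e]; infer_instance
      exact epi_of_epi ((cokernel.π φ.hom).app p) _
    exact isIso_of_mono_of_epi _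

/-- The cokernel of a strict morphism of finite filtered objects. -/
noncomputable def cokF {X Y : FilF A} (φ : X ⟶ Y) (hφ : IsStrict φ) : FilF A :=
  ⟨cokernel φ.hom, cokernel_isFinFil φ ((isStrict_iff φ).1 hφ)⟩

/-- The projection to the cokernel. -/
noncomputable def cokπ {X Y : FilF A} (φ : X ⟶ Y) (hφ : IsStrict φ) : Y ⟶ cokF φ hφ :=
  ObjectProperty.homMk (cokernel.π φ.hom)

lemma comp_cokπ {X Y : FilF A} (φ : X ⟶ Y) (hφ : IsStrict φ) : φ ≫ cokπ φ hφ = 0 := by
  ext : 1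
  exact cokernel.condition φ.hom

/-- Descending to the cokernel. -/
noncomputable def cokDesc {X Y Z : FilF A} (φ : X ⟶ Y) (hφ : IsStrict φ) (g : Y ⟶ Z)
    (w : φ ≫ g = 0) : cokF φ hφ ⟶ Z :=
  ObjectProperty.homMk (cokernel.desc φ.hom g.hom (congrArg (fun t => t.hom) w))

lemma cokπ_desc {X Y Z : FilF A} (φ : X ⟶ Y) (hφ : IsStrict φ) (g : Y ⟶ Z)
    (w : φ ≫ g = 0) : cokπ φ hφ ≫ cokDesc φ hφ g w = g := by
  ext : 1
  exact cokernel.π_desc _ _ _

/-! ### Images of strict morphisms -/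

lemma strictR_kernel_ι {X Y : FilF A} (φ : X ⟶ Y) : StrictR (kernel.ι φ.hom) := by
  intro p q h W k x hkx
  have h0 : x ≫ φ.hom.app (op q) = 0 := by
    rw [← cancel_mono (Y.obj.map (homOfLE h).op), Category.assoc, ← φ.hom.naturality,
      ← Category.assoc, ← hkx, Category.assoc, kernel_ι_app_comp, comp_zero, zero_comp]
  obtain ⟨l, hl⟩ := exists_lift_kernel φ.hom q x h0
  exact ⟨W, 𝟙 W, inferInstance, l, by rw [Category.id_comp, hl]⟩

lemma isStrict_kerι {X Y : FilF A} (φ : X ⟶ Y) : IsStrict (kerι φ) :=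
  (isStrict_iff _).2 (strictR_kernel_ι φ)

/-- The (co)image of a morphism of finite filtered objects. -/
noncomputable def imF {X Y : FilF A} (φ : X ⟶ Y) : FilF A := cokF (kerι φ) (isStrict_kerι φ)

/-- The projection onto the image. -/
noncomputable def imπ {X Y : FilF A} (φ : X ⟶ Y) : X ⟶ imF φ := cokπ (kerι φ) (isStrict_kerι φ)

/-- The inclusion of the image. -/
noncomputable def imι {X Y : FilF A} (φ : X ⟶ Y) : imF φ ⟶ Y :=
  ObjectProperty.homMk (Abelian.factorThruCoimage φ.hom)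

lemma imπ_ι {X Y : FilF A} (φ : X ⟶ Y) : imπ φ ≫ imι φ = φ := by
  ext : 1
  exact Abelian.coimage.fac φ.hom

instance epi_imπ_app {X Y : FilF A} (φ : X ⟶ Y) (p : ℤ) : Epi ((imπ φ).hom.app (op p)) :=
  inferInstanceAs (Epi ((cokernel.π (kernel.ι φ.hom)).app (op p)))

instance mono_imι_app {X Y : FilF A} (φ : X ⟶ Y) (p : ℤ) : Mono ((imι φ).hom.app (op p)) :=
  inferInstanceAs (Mono ((Abelian.factorThruCoimage φ.hom).app (op p)))

instance mono_imι {X Y : FilF A} (φ : X ⟶ Y) : Mono (imι φ) :=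
  mono_of_mono_app _ (fun p => inferInstance)

lemma isStrict_imι {X Y : FilF A} (φ : X ⟶ Y) (hφ : IsStrict φ) : IsStrict (imι φ) := by
  apply isStrict_of_step
  intro p W x y hxy
  obtain ⟨W₁, π₁, hπ₁, x₁, hx₁⟩ :=
    surjective_up_to_refinements_of_epi ((imπ φ).hom.app (op p)) x
  have e : ∀ q : ℤ, φ.hom.app (op q) = (imπ φ).hom.app (op q) ≫ (imι φ).hom.app (op q) := by
    intro q
    rw [← NatTrans.comp_app, ← ObjectProperty.FullSubcategory.comp_hom, imπ_ι]
  obtain ⟨W₂, π₂, hπ₂, x₂, hx₂⟩ := (IsStrict.step hφ) p W₁ x₁ (π₁ ≫ y) (by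
    rw [e p, ← Category.assoc, ← hx₁, Category.assoc, hxy, Category.assoc])
  refine ⟨W₂, π₂ ≫ π₁, epi_comp _ _, x₂ ≫ (imπ φ).hom.app (op (p + 1)), ?_⟩
  rw [Category.assoc, hx₂, e (p + 1), Category.assoc]

/-- Maps into filtered injective objects extend along strict morphisms, provided they kill the
kernel. -/
theorem exists_desc_strict {X Y J : FilF A} (φ : X ⟶ Y) (hφ : IsStrict φ)
    (hJ : IsFilteredInjective J) (h : X ⟶ J) (w : kerι φ ≫ h = 0) :
    ∃ g : Y ⟶ J, φ ≫ g = h := by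
  obtain ⟨g, hg⟩ := exists_desc (imι φ) (cokDesc (kerι φ) (isStrict_kerι φ) h w)
    (isStrict_imι φ hφ) hJ
  refine ⟨g, ?_⟩
  rw [← imπ_ι φ, Category.assoc, hg]
  exact cokπ_desc _ _ _ _

end Groth.Agent.Helper1.FilStrict
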