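import Mathlib
import Groth.Prelude.Def_FilD
import Groth.Agent.Helper1.FilBasic
import Groth.Agent.Helper1.FilLift
import Groth.Agent.Helper1.FilExact
import Groth.Agent.Helper1.FilStrict
import Groth.Agent.Helper1.FilQis
import Groth.Agent.Helper1.FilCx

set_option autoImplicit false
set_option linter.unusedSectionVars false

/-! Truncations of complexes of finite filtered objects. -/

namespace Groth.Agent.Helper1.FilTrunc
open CategoryTheory Limits Opposite FilD HomologicalComplex Groth.Agent.Helper1.FilBasic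
  Groth.Agent.Helper1.FilLift Groth.Agent.Helper1.FilExact Groth.Agent.Helper1.FilStrict
  Groth.Agent.Helper1.FilCx

universe v u
variable {A : Type u} [Category.{v} A] [Abelian A]

instance : (IsFinFil A).IsClosedUnderIsomorphisms where
  of_iso {F G} e hF := by
    have hmap : ∀ ⦃p q : ℤᵒᵖ⦄ (f : p ⟶ q), G.map f = e.inv.app p ≫ F.map f ≫ e.hom.app q := by
      intro p q f
      rw [e.hom.naturality, ← Category.assoc, ← NatTrans.comp_app, e.inv_hom_id]
      simp
    refine ⟨fun p q f => ?_, ?_, ?_⟩
    · have := hF.1 f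
      rw [hmap]
      infer_instance
    · obtain ⟨b, hb⟩ := hF.2.1
      exact ⟨b, fun p hp => IsZero.of_iso (hb p hp) (e.app (op p)).symm⟩
    · obtain ⟨a, ha⟩ := hF.2.2
      refine ⟨a, fun p q f hp => ?_⟩
      have := ha f hp
      rw [hmap]
      infer_instance

lemma isFinFil_of_isZero {F : ℤᵒᵖ ⥤ A} (hF : IsZero F) : IsFinFil A F :=
  (IsFinFil A).prop_of_isZero hF

lemma isZero_of_isZero_obj (X : FilF A) (h : IsZero X.obj) : IsZero X := by
  rw [IsZero.iff_id_eq_zero]
  ext : 1
  exact h.eq_of_src _ _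

lemma exact_of_evaluation (S : ShortComplex (ℤᵒᵖ ⥤ A))
    (h : ∀ q, (S.map ((evaluation ℤᵒᵖ A).obj q)).Exact) : S.Exact := by
  simp only [ShortComplex.exact_iff_isZero_homology] at h ⊢
  rw [Functor.isZero_iff]
  intro q
  exact IsZero.of_iso (h q) (S.mapHomologyIso ((evaluation ℤᵒᵖ A).obj q)).symm

lemma exactAt_und (K : CochainComplex (FilF A) ℤ) (i j k : ℤ) (hij : i + 1 = j) (hjk : j + 1 = k)
    (h : ∀ p, LvExactAt (K.d i j).hom (K.d j k).hom p) : (und K).ExactAt j := by
  rw [exactAt_iff' (und K) i j k (by simp; omega) (by simp; omega)]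
  apply exact_of_evaluation
  intro q
  rw [ShortComplex.exact_iff_exact_up_to_refinements]
  intro W y hy
  exact h q.unop W y hy

lemma grExact_of_exactAt (K : CochainComplex (FilF A) ℤ) (p : ℤ) (i j k : ℤ) (hij : i + 1 = j)
    (hjk : j + 1 = k) (h : ((grCx p).obj K).ExactAt j) :
    GrExactAt (K.d i j).hom (K.d j k).hom p := by
  intro W yb hyb
  rw [exactAt_iff_exact_up_to_refinements ((grCx p).obj K) i j k (by simp; omega)
    (by simp; omega)] at h
  exact h yb hyb

theorem exists_truncGE (K : CochainComplex (FilF A) ℤ) (a : ℤ)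
    (hK : ∀ (p n : ℤ), n < a → IsZero (((grCx p).obj K).homology n)) :
    ∃ (L : CochainComplex (FilF A) ℤ) (φ : K ⟶ L), L.IsStrictlyGE a ∧ IsFilteredQuasiIso φ := by
  have hgr : ∀ (n : ℤ), n < a → ∀ p, GrExactAt (K.d (n - 1) n).hom (K.d n (n + 1)).hom p :=
    fun n hn p => grExact_of_exactAt K p (n - 1) n (n + 1) (by omega) rfl
      ((exactAt_iff_isZero_homology _ _).2 (hK p n hn))
  have hge : (und K).IsGE a := by
    rw [CochainComplex.isGE_iff]
    intro i hi
    exact exactAt_und K (i - 1) i (i + 1) (by omega) rfl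
      (lvExact_of_grExact _ _ (K.d_comp_d _ _ _) (hgr i hi))
  have hstrict : IsStrict (K.d (a - 1) a) := by
    have := isStrict_right_of_grExact (K.d (a - 1 - 1) (a - 1)) (K.d (a - 1) (a - 1 + 1))
      (K.d_comp_d _ _ _) (hgr (a - 1) (by omega))
    have e : a - 1 + 1 = a := by omega
    rwa [e] at this
  have hterm : ∀ n, IsFinFil A (((und K).truncGE a).X n) := by
    intro n
    rcases lt_trichotomy n a with hn | rfl | hn
    · exact isFinFil_of_isZero (((und K).truncGE a).isZero_of_isStrictlyGE a n hn)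
    · have e1 := (und K).truncGEXIsoOpcycles n
      have e2 : (und K).opcycles n ≅ cokernel ((und K).d (n - 1) n) :=
        IsColimit.coconePointUniqueUpToIso ((und K).opcyclesIsCokernel (n - 1) n (by simp))
          (colimit.isColimit _)
      exact (IsFinFil A).prop_of_iso (e1 ≪≫ e2).symm
        (cokernel_isFinFil (K.d (n - 1) n) ((isStrict_iff _).1 hstrict))
    · exact (IsFinFil A).prop_of_iso ((und K).truncGEXIso a n hn).symm (K.X n).property
  refine ⟨liftCx _ hterm, liftHom hterm ((und K).πTruncGE a), ?_,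
    isFilteredQuasiIso_liftHom hterm _⟩
  rw [CochainComplex.isStrictlyGE_iff]
  intro i hi
  exact isZero_of_isZero_obj _ (((und K).truncGE a).isZero_of_isStrictlyGE a i hi)

theorem exists_truncLE (K : CochainComplex (FilF A) ℤ) (b : ℤ)
    (hK : ∀ (p n : ℤ), b < n → IsZero (((grCx p).obj K).homology n)) :
    ∃ (M : CochainComplex (FilF A) ℤ) (φ : M ⟶ K), M.IsStrictlyLE b ∧ IsFilteredQuasiIso φ := by
  have hgr : ∀ (n : ℤ), b < n → ∀ p, GrExactAt (K.d (n - 1) n).hom (K.d n (n + 1)).hom p :=
    fun n hn p => grExact_of_exactAt K p (n - 1) n (n + 1) (by omega) rfl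
      ((exactAt_iff_isZero_homology _ _).2 (hK p n hn))
  have hle : (und K).IsLE b := by
    rw [CochainComplex.isLE_iff]
    intro i hi
    exact exactAt_und K (i - 1) i (i + 1) (by omega) rfl
      (lvExact_of_grExact _ _ (K.d_comp_d _ _ _) (hgr i hi))
  have hterm : ∀ n, IsFinFil A (((und K).truncLE b).X n) := by
    intro n
    rcases lt_trichotomy n b with hn | rfl | hn
    · exact (IsFinFil A).prop_of_iso ((und K).truncLEXIso b n hn).symm (K.X n).property
    · have e1 := (und K).truncLEXIsoCycles n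
      have e2 : (und K).cycles n ≅ kernel ((und K).d n (n + 1)) :=
        IsLimit.conePointUniqueUpToIso ((und K).cyclesIsKernel n (n + 1) (by simp))
          (limit.isLimit _)
      exact (IsFinFil A).prop_of_iso (e1 ≪≫ e2).symm (kernel_isFinFil (K.d n (n + 1)))
    · exact isFinFil_of_isZero (((und K).truncLE b).isZero_of_isStrictlyLE b n hn)
  refine ⟨liftCx _ hterm, liftHom' hterm ((und K).ιTruncLE b), ?_,
    isFilteredQuasiIso_liftHom' hterm _⟩
  rw [CochainComplex.isStrictlyLE_iff]
  intro i hi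
  exact isZero_of_isZero_obj _ (((und K).truncLE b).isZero_of_isStrictlyLE b i hi)

end Groth.Agent.Helper1.FilTrunc
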