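import Mathlib
import Groth.Prelude.Def_FilD
import Groth.Agent.Helper1.FilBasic
import Groth.Agent.Helper1.FilTrunc

set_option autoImplicit false
set_option linter.unusedSectionVars false

/-! Finite filtered objects are closed under extensions and finite products; `FilF A` has finite
biproducts. -/

namespace Groth.Agent.Helper1.FilBiprod
open CategoryTheory Limits Opposite FilD Groth.Agent.Helper1.FilBasic

universe v u
variable {A : Type u} [Category.{v} A] [Abelian A]

/-- Closure under extensions. -/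
lemma isFinFil_of_shortExact (S : ShortComplex (ℤᵒᵖ ⥤ A)) (hS : S.ShortExact)
    (h₁ : IsFinFil A S.X₁) (h₃ : IsFinFil A S.X₃) : IsFinFil A S.X₂ := by
  have hmf : ∀ q : ℤᵒᵖ, Mono (S.f.app q) := fun q => by
    have := hS.mono_f
    infer_instance
  have heg : ∀ q : ℤᵒᵖ, Epi (S.g.app q) := fun q => by
    have := hS.epi_g
    infer_instance
  have hex : ∀ (q : ℤᵒᵖ) {W : A} (y : W ⟶ S.X₂.obj q), y ≫ S.g.app q = 0 →
      ∃ x : W ⟶ S.X₁.obj q, x ≫ S.f.app q = y := by
    intro q W y hy
    have h := hS.exact.map ((evaluation ℤᵒᵖ A).obj q)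
    have : Mono (S.map ((evaluation ℤᵒᵖ A).obj q)).f := hmf q
    exact ⟨h.lift y hy, h.lift_f y hy⟩
  have hmono : ∀ ⦃p q : ℤᵒᵖ⦄ (f : p ⟶ q), Mono (S.X₂.map f) := by
    intro p q f
    have := h₁.1 f
    have := h₃.1 f
    apply Preadditive.mono_of_cancel_zero
    intro W x hx
    have h1 : x ≫ S.g.app p = 0 := by
      rw [← cancel_mono (S.X₃.map f), Category.assoc, ← S.g.naturality, ← Category.assoc, hx,
        zero_comp, zero_comp]
    obtain ⟨x₁, hx₁⟩ := hex p x h1
    have := hmf q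
    have h2 : x₁ ≫ S.X₁.map f = 0 := by
      rw [← cancel_mono (S.f.app q), Category.assoc, S.f.naturality, ← Category.assoc, hx₁, hx,
        zero_comp]
    have h3 : x₁ = 0 := by
      rw [← cancel_mono (S.X₁.map f), h2, zero_comp]
    rw [← hx₁, h3, zero_comp]
  refine ⟨hmono, ?_, ?_⟩
  · obtain ⟨b₁, hb₁⟩ := h₁.2.1
    obtain ⟨b₃, hb₃⟩ := h₃.2.1
    refine ⟨max b₁ b₃, fun p hp => ?_⟩
    rw [IsZero.iff_id_eq_zero]
    obtain ⟨x₁, hx₁⟩ := hex (op p) (𝟙 _) ((hb₃ p ((le_max_right _ _).trans hp)).eq_of_tgt _ _)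
    rw [← hx₁, (hb₁ p ((le_max_left _ _).trans hp)).eq_of_tgt x₁ 0, zero_comp]
  · obtain ⟨a₁, ha₁⟩ := h₁.2.2
    obtain ⟨a₃, ha₃⟩ := h₃.2.2
    refine ⟨min a₁ a₃, fun p q f hp => ?_⟩
    have := ha₁ f (hp.trans (min_le_left _ _))
    have := ha₃ f (hp.trans (min_le_right _ _))
    have := hmono f
    have : Epi (S.X₂.map f) := by
      rw [epi_iff_surjective_up_to_refinements]
      intro W y
      have := heg p
      obtain ⟨W', π, hπ, y', hy'⟩ := surjective_up_to_refinements_of_epi (S.g.app p)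
        (y ≫ S.g.app q ≫ inv (S.X₃.map f))
      have h1 : (π ≫ y - y' ≫ S.X₂.map f) ≫ S.g.app q = 0 := by
        rw [Preadditive.sub_comp, Category.assoc, Category.assoc, S.g.naturality,
          ← Category.assoc y', ← hy']
        simp
      obtain ⟨x₁, hx₁⟩ := hex q _ h1
      refine ⟨W', π, hπ, y' + x₁ ≫ inv (S.X₁.map f) ≫ S.f.app p, ?_⟩
      rw [Preadditive.add_comp, Category.assoc, Category.assoc, ← S.f.naturality,
        IsIso.inv_hom_id_assoc, hx₁]
      abel
    exact isIso_of_mono_of_epi _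

instance : (IsFinFil A).IsClosedUnderBinaryProducts := by
  apply ObjectProperty.IsClosedUnderLimitsOfShape.mk'
  rintro _ ⟨F, hF⟩
  have e : limit F ≅ F.obj ⟨WalkingPair.left⟩ ⊞ F.obj ⟨WalkingPair.right⟩ :=
    HasLimit.isoOfNatIso (diagramIsoPair F) ≪≫ (biprod.isoProd _ _).symm
  refine (IsFinFil A).prop_of_iso e.symm ?_
  exact isFinFil_of_shortExact _
    (ShortComplex.Splitting.ofHasBinaryBiproduct (F.obj ⟨WalkingPair.left⟩)
      (F.obj ⟨WalkingPair.right⟩)).shortExact (hF _) (hF _)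

instance : (IsFinFil A).IsClosedUnderFiniteProducts :=
  ObjectProperty.IsClosedUnderFiniteProducts.mk'

noncomputable instance : HasFiniteProducts (FilF A) := inferInstance

noncomputable instance : HasFiniteBiproducts (FilF A) :=
  HasFiniteBiproducts.of_hasFiniteProducts

noncomputable instance : HasBinaryBiproducts (FilF A) :=
  hasBinaryBiproducts_of_finite_biproducts _

end Groth.Agent.Helper1.FilBiprod
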