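import Mathlib
import Groth.Prelude.Def_FilD
import Groth.Agent.Helper1.FilBasic
import Groth.Agent.Helper1.FilLift
import Groth.Agent.Helper1.FilExact
import Groth.Agent.Helper1.FilStrict

set_option autoImplicit false
set_option linter.unusedSectionVars false

/-! Consequences of `X[0] ⟶ I` being a filtered quasi-isomorphism. -/

namespace Groth.Agent.Helper1.FilResFacts
open CategoryTheory Limits Opposite FilD HomologicalComplex Groth.Agent.Helper1.FilBasic
  Groth.Agent.Helper1.FilLift Groth.Agent.Helper1.FilExact Groth.Agent.Helper1.FilStrict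

universe v u
variable {A : Type u} [Category.{v} A] [Abelian A]

section
variable {X : FilF A} {I : CochainComplex (FilF A) ℤ}
  (a : (single (FilF A) (ComplexShape.up ℤ) 0).obj X ⟶ I)

/-- The augmentation `X ⟶ I⁰`. -/
noncomputable def aug : X ⟶ I.X 0 := (singleObjXSelf (ComplexShape.up ℤ) 0 X).inv ≫ a.f 0

lemma a_f_zero : a.f 0 = (singleObjXSelf (ComplexShape.up ℤ) 0 X).hom ≫ aug a := by
  simp [aug]

lemma aug_d : aug a ≫ I.d 0 1 = 0 := by
  unfold aug
  rw [Category.assoc, a.comm 0 1]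
  have : ((single (FilF A) (ComplexShape.up ℤ) 0).obj X).d 0 1 = 0 := by
    apply (isZero_single_obj_X (ComplexShape.up ℤ) 0 X 1 (by omega)).eq_of_tgt
  rw [this, zero_comp, comp_zero]

variable [I.IsStrictlyGE 0] (ha : IsFilteredQuasiIso a)

lemma isZero_gr_single (p j : ℤ) (hj : j ≠ 0) :
    IsZero (((grCx p).obj ((single (FilF A) (ComplexShape.up ℤ) 0).obj X)).X j) :=
  Functor.map_isZero (grF A p) (isZero_single_obj_X (ComplexShape.up ℤ) 0 X j hj)

lemma isZero_gr_neg (p j : ℤ) (hj : j < 0) : IsZero (((grCx p).obj I).X j) :=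
  Functor.map_isZero (grF A p) (I.isZero_of_isStrictlyGE 0 j hj)

lemma grCx_map_f_zero (p : ℤ) : ((grCx p).map a).f 0 =
    (grF A p).map (singleObjXSelf (ComplexShape.up ℤ) 0 X).hom ≫ (grF A p).map (aug a) := by
  change (grF A p).map (a.f 0) = _
  rw [← Functor.map_comp, ← a_f_zero]

include ha in
lemma gr_exact_succ (p : ℤ) (n : ℤ) (hn : 0 ≤ n) :
    GrExactAt (I.d n (n + 1)).hom (I.d (n + 1) (n + 2)).hom p := by
  intro W yb hyb
  have hq := (ha p).quasiIsoAt (n + 1)
  rw [quasiIsoAt_iff_isIso_homologyMap] at hq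
  have he : Epi (homologyMap ((grCx p).map a) (n + 1)) := inferInstance
  rw [epi_homologyMap_iff_up_to_refinements ((grCx p).map a) n (n + 1) (n + 2) (by simp)
    (by simp; ring)] at he
  obtain ⟨W', π, hπ, x₂, _, y₁, e⟩ := he yb hyb
  have hx₂ : x₂ = 0 := (isZero_gr_single p (n + 1) (by omega)).eq_of_tgt x₂ 0
  rw [hx₂, zero_comp, zero_add] at e
  exact ⟨W', π, hπ, y₁, e⟩

lemma sx_inv_comp (p : ℤ) :
    (grF A p).map (singleObjXSelf (ComplexShape.up ℤ) 0 X).inv ≫ ((grCx p).map a).f 0 =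
      (grF A p).map (aug a) := by
  change (grF A p).map _ ≫ (grF A p).map (a.f 0) = _
  rw [← Functor.map_comp]
  rfl

include ha in
lemma gr_exact_zero (p : ℤ) : GrExactAt (aug a).hom (I.d 0 1).hom p := by
  intro W yb hyb
  have hq := (ha p).quasiIsoAt 0
  rw [quasiIsoAt_iff_isIso_homologyMap] at hq
  have he : Epi (homologyMap ((grCx p).map a) 0) := inferInstance
  rw [epi_homologyMap_iff_up_to_refinements ((grCx p).map a) (-1) 0 1 (by simp)
    (by simp)] at he
  obtain ⟨W', π, hπ, x₂, _, y₁, e⟩ := he yb hyb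
  have hy₁ : y₁ = 0 := (isZero_gr_neg p (-1) (by omega)).eq_of_tgt y₁ 0
  rw [hy₁, zero_comp, add_zero, grCx_map_f_zero] at e
  exact ⟨W', π, hπ, x₂ ≫ (grF A p).map (singleObjXSelf (ComplexShape.up ℤ) 0 X).hom,
    e.trans (Category.assoc _ _ _).symm⟩

include ha in
lemma gr_mono (p : ℤ) : Mono ((gr A p).map (aug a).hom) := by
  have hq := (ha p).quasiIsoAt 0
  rw [quasiIsoAt_iff_isIso_homologyMap] at hq
  have hm : Mono (homologyMap ((grCx p).map a) 0) := inferInstance
  rw [mono_homologyMap_iff_up_to_refinements ((grCx p).map a) (-1) 0 1 (by simp)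
    (by simp)] at hm
  apply Preadditive.mono_of_cancel_zero
  intro W x₀ hx
  obtain ⟨x, rfl⟩ : ∃ x : W ⟶ (grF A p).obj X, x = x₀ := ⟨x₀, rfl⟩
  have hx' : x ≫ (grF A p).map (aug a) = 0 := hx
  have h4 : (x ≫ (grF A p).map (singleObjXSelf (ComplexShape.up ℤ) 0 X).inv) ≫
      ((grCx p).map a).f 0 = 0 :=
    (Category.assoc _ _ _).trans ((congrArg (x ≫ ·) (sx_inv_comp a p)).trans hx')
  obtain ⟨W', π, hπ, x₁, e⟩ := hm (x ≫ (grF A p).map (singleObjXSelf (ComplexShape.up ℤ) 0 X).inv)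
    ((isZero_gr_single p 1 (by omega)).eq_of_tgt _ _) 0 (h4.trans zero_comp.symm)
  have hx₁ : x₁ = 0 := (isZero_gr_single p (-1) (by omega)).eq_of_tgt x₁ 0
  rw [hx₁, zero_comp] at e
  have e3 : (grF A p).map (singleObjXSelf (ComplexShape.up ℤ) 0 X).inv ≫
      (grF A p).map (singleObjXSelf (ComplexShape.up ℤ) 0 X).hom = 𝟙 _ := by
    rw [← Functor.map_comp, Iso.inv_hom_id, CategoryTheory.Functor.map_id]
  have h2 : π ≫ x = 0 := by
    have h5 := congrArg (· ≫ (grF A p).map (singleObjXSelf (ComplexShape.up ℤ) 0 X).hom) e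
    have h6 : (π ≫ x ≫ (grF A p).map (singleObjXSelf (ComplexShape.up ℤ) 0 X).inv) ≫
        (grF A p).map (singleObjXSelf (ComplexShape.up ℤ) 0 X).hom = π ≫ x := by
      rw [Category.assoc, Category.assoc, e3, Category.comp_id]
    exact h6.symm.trans (h5.trans zero_comp)
  exact (cancel_epi π).1 (h2.trans comp_zero.symm)

include ha in
lemma mono_aug : Mono (aug a) :=
  mono_of_mono_app _ (mono_app_of_gr_mono _ (gr_mono a ha))

include ha in
lemma strict_aug : IsStrict (aug a) :=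
  isStrict_left_of_grExact _ _ (aug_d a) (gr_exact_zero a ha)

include ha in
lemma strict_d (n : ℤ) (hn : 0 ≤ n) : IsStrict (I.d n (n + 1)) :=
  isStrict_left_of_grExact (I.d n (n + 1)) (I.d (n + 1) (n + 2)) (I.d_comp_d _ _ _)
    (fun p => gr_exact_succ a ha p n hn)

include ha in
lemma lv_exact_zero : ∀ p, LvExactAt (aug a).hom (I.d 0 1).hom p :=
  lvExact_of_grExact _ _ (aug_d a) (gr_exact_zero a ha)

include ha in
lemma lv_exact_succ (n : ℤ) (hn : 0 ≤ n) :
    ∀ p, LvExactAt (I.d n (n + 1)).hom (I.d (n + 1) (n + 2)).hom p :=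
  lvExact_of_grExact _ _ (I.d_comp_d _ _ _) (fun p => gr_exact_succ a ha p n hn)

end

/-- If `f ≫ h = 0` and `(f, g)` is levelwise exact, then `h` kills the kernel of `g`. -/
lemma kerι_comp_eq_zero {X Y Z J : FilF A} (f : X ⟶ Y) (g : Y ⟶ Z)
    (hex : ∀ p, LvExactAt f.hom g.hom p) (h : Y ⟶ J) (hfh : f ≫ h = 0) : kerι g ≫ h = 0 := by
  ext : 1
  apply NatTrans.ext
  funext q
  obtain ⟨p, rfl⟩ : ∃ p : ℤ, q = op p := ⟨q.unop, rfl⟩
  change (kernel.ι g.hom).app (op p) ≫ h.hom.app (op p) = 0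
  obtain ⟨W', π, hπ, x, hx⟩ := hex p _ ((kernel.ι g.hom).app (op p)) (kernel_ι_app_comp g.hom p)
  rw [← cancel_epi π, comp_zero, ← Category.assoc, hx, Category.assoc]
  have : f.hom.app (op p) ≫ h.hom.app (op p) = 0 := by
    rw [← NatTrans.comp_app, ← ObjectProperty.FullSubcategory.comp_hom, hfh]; rfl
  rw [this, comp_zero]

end Groth.Agent.Helper1.FilResFacts
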