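import Mathlib

set_option autoImplicit false

/-! Dependent choice along the integers, upwards from a base index. -/

namespace Groth.Agent.Helper1.IntRec

universe w

variable {M : ℤ → Type w} (a : ℤ) (Rel : ∀ n : ℤ, M n → M (n + 1) → Prop)
  (Inv : ∀ n : ℤ, M n → Prop)

/-- the stages of the construction -/
abbrev T (k : ℕ) : Type w :=
  {H : ∀ n, M n // (∀ n, n < a + k → Rel n (H n) (H (n + 1))) ∧ Inv (a + k) (H (a + k))}

variable {a Rel Inv}
variable (step : ∀ n, a ≤ n → ∀ m : M n, Inv n m → ∃ m' : M (n + 1), Rel n m m' ∧ Inv (n + 1) m')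

open Classical in
/-- the next stage -/
noncomputable def next (k : ℕ) (t : T a Rel Inv k) : T a Rel Inv (k + 1) :=
  ⟨Function.update t.1 (a + k + 1) (step (a + k) (by omega) (t.1 (a + k)) t.2.2).choose, by
    have hc := (step (a + k) (by omega) (t.1 (a + k)) t.2.2).choose_spec
    refine ⟨?_, ?_⟩
    · intro n hn
      push_cast at hn
      by_cases h : n = a + k
      · subst h
        rw [Function.update_self, Function.update_of_ne (by omega)]
        exact hc.1
      · rw [Function.update_of_ne (by omega), Function.update_of_ne (by omega)]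
        exact t.2.1 n (by omega)
    · have e : a + ((k + 1 : ℕ) : ℤ) = a + k + 1 := by push_cast; ring
      rw [e, Function.update_self]
      exact hc.2⟩

lemma next_apply (k : ℕ) (t : T a Rel Inv k) (n : ℤ) (hn : n ≤ a + k) :
    (next step k t).1 n = t.1 n := by
  unfold next
  exact Function.update_of_ne (by omega) _ _

variable (H₀ : ∀ n, M n) (hrel : ∀ n, n < a → Rel n (H₀ n) (H₀ (n + 1))) (hinv : Inv a (H₀ a))

/-- all the stages -/
noncomputable def stage : ∀ k : ℕ, T a Rel Inv k
  | 0 => ⟨H₀, fun n hn => hrel n (by simpa using hn), by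
      have e : a + ((0 : ℕ) : ℤ) = a := by simp
      rw [e]
      exact hinv⟩
  | k + 1 => next step k (stage k)

lemma stage_stable (k j : ℕ) (n : ℤ) (hn : n ≤ a + k) :
    (stage step H₀ hrel hinv (k + j)).1 n = (stage step H₀ hrel hinv k).1 n := by
  induction j with
  | zero => rfl
  | succ j ih =>
    have : stage step H₀ hrel hinv (k + (j + 1)) =
        next step (k + j) (stage step H₀ hrel hinv (k + j)) := rfl
    rw [this, next_apply step _ _ n (by push_cast; omega), ih]

include step hrel hinv in
theorem exists_family : ∃ H : ∀ n, M n, (∀ n, n ≤ a → H n = H₀ n) ∧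
    ∀ n, Rel n (H n) (H (n + 1)) := by
  refine ⟨fun n => (stage step H₀ hrel hinv (n - a).toNat).1 n, ?_, ?_⟩
  · intro n hn
    have : (n - a).toNat = 0 := by omega
    dsimp only
    rw [this]
    rfl
  · intro n
    have hk : (n + 1 - a).toNat = (n - a).toNat + ((n + 1 - a).toNat - (n - a).toNat) := by omega
    have e : (stage step H₀ hrel hinv (n + 1 - a).toNat).1 n =
        (stage step H₀ hrel hinv (n - a).toNat).1 n := by
      rw [hk]
      exact stage_stable step H₀ hrel hinv _ _ n (by omega)
    change Rel n ((stage step H₀ hrel hinv (n - a).toNat).1 n)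
      ((stage step H₀ hrel hinv (n + 1 - a).toNat).1 (n + 1))
    rw [← e]
    by_cases h : n < a
    · have h0 : (n + 1 - a).toNat = 0 := by omega
      rw [h0]
      exact hrel n h
    · exact (stage step H₀ hrel hinv (n + 1 - a).toNat).2.1 n (by omega)

end Groth.Agent.Helper1.IntRec
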