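import Mathlib
import Groth.Prelude.Def_FilD
import Groth.Agent.Helper1.FilBasic
import Groth.Agent.Helper1.FilLift
import Groth.Agent.Helper1.FilExact
import Groth.Agent.Helper1.FilStrict
import Groth.Agent.Helper1.FilResFacts
import Groth.Agent.Helper1.IntRec

set_option autoImplicit false
set_option linter.unusedSectionVars false

/-! Maps from filtered acyclic complexes to bounded below complexes of filtered injectives are
null-homotopic. -/

namespace Groth.Agent.Helper1.FilHtpy
open CategoryTheory Limits Opposite FilD HomologicalComplex Groth.Agent.Helper1.FilBasic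
  Groth.Agent.Helper1.FilLift Groth.Agent.Helper1.FilExact Groth.Agent.Helper1.FilStrict
  Groth.Agent.Helper1.FilResFacts

universe v u
variable {A : Type u} [Category.{v} A] [Abelian A]

section
variable (K : CochainComplex (FilF A) ℤ) (hK : IsFilteredAcyclic K)

include hK in
lemma grExact (p n : ℤ) : GrExactAt (K.d n (n + 1)).hom (K.d (n + 1) (n + 1 + 1)).hom p := by
  intro W yb hyb
  have h := hK p (n + 1)
  rw [exactAt_iff_exact_up_to_refinements ((grCx p).obj K) n (n + 1) (n + 1 + 1) (by simp)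
    (by simp)] at h
  exact h yb hyb

include hK in
lemma strict_d (n : ℤ) : IsStrict (K.d n (n + 1)) :=
  isStrict_left_of_grExact (K.d n (n + 1)) (K.d (n + 1) (n + 1 + 1)) (K.d_comp_d _ _ _)
    (fun p => grExact K hK p n)

include hK in
lemma lvExact (n : ℤ) : ∀ p, LvExactAt (K.d n (n + 1)).hom (K.d (n + 1) (n + 1 + 1)).hom p :=
  lvExact_of_grExact _ _ (K.d_comp_d _ _ _) (fun p => grExact K hK p n)

variable (I : CochainComplex (FilF A) ℤ) (a : ℤ) [I.IsStrictlyGE a]
  (hI : ∀ n, IsFilteredInjective (I.X n)) (φ : K ⟶ I)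

/-- The relation between consecutive components of the homotopy. -/
def Rel (j : ℤ) (H : K.X (j + 1) ⟶ I.X j) (H' : K.X (j + 1 + 1) ⟶ I.X (j + 1)) : Prop :=
  φ.f (j + 1) = K.d (j + 1) (j + 1 + 1) ≫ H' + H ≫ I.d j (j + 1)

/-- The invariant. -/
def Inv (j : ℤ) (H : K.X (j + 1) ⟶ I.X j) : Prop :=
  K.d j (j + 1) ≫ (φ.f (j + 1) - H ≫ I.d j (j + 1)) = 0

include hK hI in
lemma step (n : ℤ) (H : K.X (n + 1) ⟶ I.X n) (hH : Inv K I φ n H) :
    ∃ H' : K.X (n + 1 + 1) ⟶ I.X (n + 1), Rel K I φ n H H' ∧ Inv K I φ (n + 1) H' := by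
  obtain ⟨H', hH'⟩ := exists_desc_strict (K.d (n + 1) (n + 1 + 1)) (strict_d K hK (n + 1))
    (hI (n + 1)) (φ.f (n + 1) - H ≫ I.d n (n + 1))
    (kerι_comp_eq_zero (K.d n (n + 1)) _ (lvExact K hK n) _ hH)
  refine ⟨H', ?_, ?_⟩
  · unfold Rel
    rw [hH']
    abel
  · unfold Inv
    rw [Preadditive.comp_sub, ← Category.assoc, hH', Preadditive.sub_comp, Category.assoc,
      I.d_comp_d, comp_zero, sub_zero, φ.comm, sub_self]

include hK hI a in
theorem exists_homotopy : Nonempty (Homotopy φ 0) := by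
  obtain ⟨H, -, hH⟩ := IntRec.exists_family (M := fun j => K.X (j + 1) ⟶ I.X j) (a := a - 1)
    (Rel := Rel K I φ) (Inv := Inv K I φ)
    (fun n _ m hm => step K hK I hI φ n m hm) (fun _ => 0)
    (fun n hn => by
      unfold Rel
      rw [comp_zero, zero_comp, add_zero]
      exact (I.isZero_of_isStrictlyGE a (n + 1) (by omega)).eq_of_tgt _ _)
    (by
      unfold Inv
      rw [zero_comp, sub_zero, ← φ.comm]
      exact (congrArg (φ.f (a - 1) ≫ ·)
        ((I.isZero_of_isStrictlyGE a (a - 1) (by omega)).eq_of_src _ 0)).trans comp_zero)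
  refine ⟨{ hom := fun i j => if h : j + 1 = i then eqToHom (by rw [h]) ≫ H j else 0
            zero := fun i j hij => dif_neg (fun h => hij h)
            comm := fun i => ?_ }⟩
  obtain ⟨j, rfl⟩ : ∃ j, i = j + 1 := ⟨i - 1, by ring⟩
  rw [dNext_eq _ (show (ComplexShape.up ℤ).Rel (j + 1) (j + 1 + 1) from rfl),
    prevD_eq _ (show (ComplexShape.up ℤ).Rel j (j + 1) from rfl), dif_pos rfl, dif_pos rfl]
  simp only [eqToHom_refl, Category.id_comp, zero_f, add_zero]
  exact hH j

end
end Groth.Agent.Helper1.FilHtpy
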