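import Mathlib
import Groth.Prelude.Def_FilD
import Groth.Agent.Helper1.FilBiprod
import Groth.Agent.Helper1.FilHtpy
import Groth.Agent.Helper1.Leray

set_option autoImplicit false
set_option linter.unusedSectionVars false

/-! Precomposition with a filtered quasi-isomorphism is bijective on homotopy classes of maps into a
bounded below complex of filtered injectives. -/

namespace Groth.Agent.Helper1.FilBij
open CategoryTheory Limits Opposite FilD Groth.Agent.Helper1.FilBiprod

universe v u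
variable {A : Type u} [Category.{v} A] [Abelian A]

lemma isFilteredAcyclic_mappingCone {K L : CochainComplex (FilF A) ℤ} (α : K ⟶ L)
    (hα : IsFilteredQuasiIso α) : IsFilteredAcyclic (CochainComplex.mappingCone α) := by
  intro p n
  have := hα p
  have h := (Leray.quasiIso_iff_acyclic_mappingCone ((grCx p).map α)).1 inferInstance
  exact (h n).of_iso (CochainComplex.mappingCone.mapHomologicalComplexIso α (grF A p)).symm

local notation "Q" => HomotopyCategory.quotient (FilF A) (ComplexShape.up ℤ)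

lemma hom_eq_zero (C I : CochainComplex (FilF A) ℤ) (hC : IsFilteredAcyclic C) (a : ℤ)
    [I.IsStrictlyGE a] (hI : ∀ n, IsFilteredInjective (I.X n))
    (β : (Q).obj C ⟶ (Q).obj I) : β = 0 := by
  obtain ⟨f, rfl⟩ := (Q).map_surjective β
  obtain ⟨h⟩ := FilHtpy.exists_homotopy C hC I a hI f
  rw [HomotopyCategory.eq_of_homotopy _ _ h, Functor.map_zero]

lemma hom_shift_eq_zero (C I : CochainComplex (FilF A) ℤ) (hC : IsFilteredAcyclic C) (a : ℤ)
    [I.IsStrictlyGE a] (hI : ∀ n, IsFilteredInjective (I.X n))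
    (β : ((Q).obj C)⟦(-1 : ℤ)⟧ ⟶ (Q).obj I) : β = 0 := by
  apply (shiftFunctor (HomotopyCategory (FilF A) (ComplexShape.up ℤ)) (1 : ℤ)).map_injective
  rw [Functor.map_zero]
  have : (I⟦(1 : ℤ)⟧).IsStrictlyGE (a - 1) := I.isStrictlyGE_shift a 1 (a - 1) (by omega)
  have e1 : (Q).obj C ≅ (((Q).obj C)⟦(-1 : ℤ)⟧)⟦(1 : ℤ)⟧ :=
    ((shiftEquiv (HomotopyCategory (FilF A) (ComplexShape.up ℤ)) (1 : ℤ)).counitIso.app _).symm
  have e2 : ((Q).obj I)⟦(1 : ℤ)⟧ ≅ (Q).obj (I⟦(1 : ℤ)⟧) := (((Q).commShiftIso (1 : ℤ)).app I).symm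
  have h := hom_eq_zero C (I⟦(1 : ℤ)⟧) hC (a - 1) (fun n => hI (n + 1))
    (e1.hom ≫ β⟦(1 : ℤ)⟧' ≫ e2.hom)
  rw [← cancel_epi e1.hom, ← cancel_mono e2.hom, Category.assoc, h, comp_zero, zero_comp]

theorem bijective (I : CochainComplex (FilF A) ℤ)
    (a : ℤ) [I.IsStrictlyGE a] (hI : ∀ n, IsFilteredInjective (I.X n))
    {K L : CochainComplex (FilF A) ℤ} (α : K ⟶ L) (hα : IsFilteredQuasiIso α) :
    Function.Bijective (fun β : (Q).obj L ⟶ (Q).obj I => (Q).map α ≫ β) := by
  have hC := isFilteredAcyclic_mappingCone α hα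
  have hT := HomotopyCategory.mappingCone_triangleh_distinguished α
  constructor
  · intro β β' h
    have h' : (Q).map α ≫ (β - β') = 0 := by
      rw [Preadditive.comp_sub]
      exact sub_eq_zero.2 h
    obtain ⟨g, hg⟩ := Pretriangulated.Triangle.yoneda_exact₂ _ hT (β - β') h'
    have hg0 : g = 0 := hom_eq_zero _ I hC a hI g
    exact sub_eq_zero.1 (hg.trans ((congrArg
      ((CochainComplex.mappingCone.triangleh α).mor₂ ≫ ·) hg0).trans comp_zero))
  · intro γ
    have hT' := Pretriangulated.inv_rot_of_distTriang _ hT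
    obtain ⟨g, hg⟩ := Pretriangulated.Triangle.yoneda_exact₂ _ hT' γ
      (hom_shift_eq_zero _ I hC a hI _)
    exact ⟨g, hg.symm⟩

end Groth.Agent.Helper1.FilBij
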