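import Mathlib
import Groth.Prelude.Def_FilD
import Groth.Agent.Helper1.FilBasic
import Groth.Agent.Helper1.FilLift

set_option autoImplicit false
set_option linter.unusedSectionVars false

/-! Every finite filtered object admits a strict monomorphism into a filtered injective object. -/

namespace Groth.Agent.Helper1.FilEmb
open CategoryTheory Limits Opposite FilD Groth.Agent.Helper1.FilBasic Groth.Agent.Helper1.FilLift

universe v u
variable {A : Type u} [Category.{v} A] [Abelian A]

attribute [local instance] Abelian.hasFiniteBiproducts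

lemma injective_biproduct {J : Type} [Finite J] (c : J → A) (h : ∀ j, Injective (c j)) :
    Injective (⨁ c) where
  factors g f _ := ⟨biproduct.lift (fun j => Injective.factorThru (g ≫ biproduct.π c j) f), by
    apply biproduct.hom_ext
    intro j
    simp⟩

/-! ### The filtered object built from a family of objects -/

section
variable (lo hi : ℤ) (J : ℤ → A)

/-- The index type: integers in `[lo, hi]`. -/
abbrev S : Type := {n : ℤ // n ∈ Finset.Icc lo hi}

/-- The indices `≥ p`. -/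
abbrev Idx (p : ℤ) : Type := {s : S lo hi // p ≤ s.1}

/-- The `p`-th level of the filtered object `⨁_{n ≥ p} J n`. -/
noncomputable abbrev lvl (p : ℤ) : A := ⨁ (fun s : Idx lo hi p => J s.1.1)

/-- Transition maps. -/
noncomputable def tmap {p q : ℤ} (_ : p ≤ q) : lvl lo hi J q ⟶ lvl lo hi J p :=
  biproduct.lift (fun s : Idx lo hi p =>
    if h : q ≤ s.1.1 then biproduct.π (fun s : Idx lo hi q => J s.1.1) ⟨s.1, h⟩ else 0)

lemma tmap_π {p q : ℤ} (h : p ≤ q) (s : Idx lo hi p) (hs : q ≤ s.1.1) :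
    tmap lo hi J h ≫ biproduct.π _ s =
      biproduct.π (fun s : Idx lo hi q => J s.1.1) ⟨s.1, hs⟩ := by
  simp [tmap, hs]

lemma tmap_π_of_not {p q : ℤ} (h : p ≤ q) (s : Idx lo hi p) (hs : ¬ q ≤ s.1.1) :
    tmap lo hi J h ≫ biproduct.π _ s = 0 := by
  simp [tmap, hs]

/-- The projection in the other direction. -/
noncomputable def proj {p q : ℤ} (h : p ≤ q) : lvl lo hi J p ⟶ lvl lo hi J q :=
  biproduct.lift (fun s : Idx lo hi q =>
    biproduct.π (fun s : Idx lo hi p => J s.1.1) ⟨s.1, h.trans s.2⟩)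

lemma tmap_proj {p q : ℤ} (h : p ≤ q) : tmap lo hi J h ≫ proj lo hi J h = 𝟙 _ := by
  apply biproduct.hom_ext
  intro s
  rw [Category.assoc, proj, biproduct.lift_π, Category.id_comp]
  exact tmap_π lo hi J h ⟨s.1, h.trans s.2⟩ s.2

lemma proj_tmap {p q : ℤ} (h : p ≤ q) (hq : q ≤ lo) : proj lo hi J h ≫ tmap lo hi J h = 𝟙 _ := by
  apply biproduct.hom_ext
  intro s
  have hs : q ≤ s.1.1 := hq.trans (Finset.mem_Icc.1 s.1.2).1
  rw [Category.assoc, tmap_π _ _ _ _ _ hs, proj, biproduct.lift_π, Category.id_comp]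

lemma tmap_self (p : ℤ) (h : p ≤ p) : tmap lo hi J h = 𝟙 _ := by
  apply biproduct.hom_ext
  intro s
  rw [tmap_π _ _ _ _ _ s.2, Category.id_comp]

lemma tmap_tmap {p q r : ℤ} (h₁ : p ≤ q) (h₂ : q ≤ r) :
    tmap lo hi J h₂ ≫ tmap lo hi J h₁ = tmap lo hi J (h₁.trans h₂) := by
  apply biproduct.hom_ext
  intro s
  by_cases hs : r ≤ s.1.1
  · rw [Category.assoc, tmap_π _ _ _ _ _ (h₂.trans hs), tmap_π _ _ _ _ ⟨s.1, h₂.trans hs⟩ hs,
      tmap_π _ _ _ _ _ hs]
  · rw [tmap_π_of_not _ _ _ _ _ hs, Category.assoc]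
    by_cases hs' : q ≤ s.1.1
    · rw [tmap_π _ _ _ _ _ hs', tmap_π_of_not _ _ _ _ ⟨s.1, hs'⟩ hs]
    · rw [tmap_π_of_not _ _ _ _ _ hs', comp_zero]

/-- The functor `p ↦ ⨁_{n ≥ p} J n`. -/
noncomputable def fobj : ℤᵒᵖ ⥤ A where
  obj q := lvl lo hi J q.unop
  map f := tmap lo hi J (leOfHom f.unop)
  map_id q := tmap_self lo hi J _ _
  map_comp f g := (tmap_tmap lo hi J _ _).symm

lemma fobj_map_eq {p q : ℤ} (h : p ≤ q) :
    (fobj lo hi J).map (homOfLE h).op = tmap lo hi J h := rfl

lemma fobj_isFinFil : IsFinFil A (fobj lo hi J) := by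
  refine ⟨?_, ⟨hi + 1, ?_⟩, ⟨lo, ?_⟩⟩
  · intro p q f
    have : IsSplitMono (tmap lo hi J (leOfHom f.unop)) := ⟨⟨_, tmap_proj lo hi J _⟩⟩
    exact inferInstanceAs (Mono (tmap lo hi J (leOfHom f.unop)))
  · intro p hp
    rw [IsZero.iff_id_eq_zero]
    apply biproduct.hom_ext
    intro s
    exfalso
    have h1 := (Finset.mem_Icc.1 s.1.2).2
    have h2 : p ≤ s.1.1 := s.2
    omega
  · intro p q f hp
    exact ⟨proj lo hi J (leOfHom f.unop), tmap_proj lo hi J _, proj_tmap lo hi J _ hp⟩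

/-- The filtered object `p ↦ ⨁_{n ≥ p} J n`. -/
noncomputable def fil : FilF A := ⟨fobj lo hi J, fobj_isFinFil lo hi J⟩

lemma fil_isFilteredInjective (hJ : ∀ n, Injective (J n)) : IsFilteredInjective (fil lo hi J) := by
  intro p
  have h1 : Injective ((fil lo hi J).obj.obj (op (p + 1))) :=
    injective_biproduct _ (fun s => hJ _)
  have h2 : Injective ((fil lo hi J).obj.obj (op p)) :=
    injective_biproduct _ (fun s => hJ _)
  have : Injective (ShortComplex.mk ((fil lo hi J).obj.map (stepHom p)) (grπ (fil lo hi J).obj p)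
      (step_grπ (fil lo hi J).obj p)).X₁ := h1
  have s := (shortExact_step (fil lo hi J) p).splittingOfInjective
  exact Retract.injective (Y := (fil lo hi J).obj.obj (op p)) ⟨s.s, grπ _ p, s.s_g⟩

end

/-! ### The embedding -/

section
variable (X : FilF A) (lo hi : ℤ)
  (hlo : ∀ ⦃p q : ℤᵒᵖ⦄ (f : p ⟶ q), p.unop ≤ lo → IsIso (X.obj.map f))

/-- The map to the "total object" `X_lo`. -/
noncomputable def toTot (p : ℤ) : X.obj.obj (op p) ⟶ X.obj.obj (op lo) :=
  haveI := isIso_tr X hlo p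
  inv (X.obj.map (homOfLE (le_max_left p lo)).op) ≫ X.obj.map (homOfLE (le_max_right p lo)).op

lemma tr_toTot (p : ℤ) : X.obj.map (homOfLE (le_max_left p lo)).op ≫ toTot X lo hlo p =
    X.obj.map (homOfLE (le_max_right p lo)).op := by
  have := isIso_tr X hlo p
  simp [toTot]

lemma map_toTot {p q : ℤ} (h : p ≤ q) :
    X.obj.map (homOfLE h).op ≫ toTot X lo hlo p = toTot X lo hlo q := by
  have := isIso_tr X hlo q
  have hm : max p lo ≤ max q lo := max_le_max_right lo h
  have e1 : X.obj.map (homOfLE (le_max_left q lo)).op ≫ X.obj.map (homOfLE h).op =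
      X.obj.map (homOfLE hm).op ≫ X.obj.map (homOfLE (le_max_left p lo)).op := by
    rw [map_comp_of_le, map_comp_of_le]
  rw [← cancel_epi (X.obj.map (homOfLE (le_max_left q lo)).op), ← Category.assoc, e1,
    Category.assoc, tr_toTot, tr_toTot, map_comp_of_le]

instance (p : ℤ) : Mono (toTot X lo hlo p) := by
  have := isIso_tr X hlo p
  unfold toTot
  infer_instance

variable [EnoughInjectives A]

/-- The injective objects. -/
noncomputable abbrev JJ (n : ℤ) : A := Injective.under (cokernel (toTot X lo hlo (n + 1)))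

/-- The components of the embedding. -/
noncomputable def cc (n p : ℤ) : X.obj.obj (op p) ⟶ JJ X lo hlo n :=
  toTot X lo hlo p ≫ cokernel.π (toTot X lo hlo (n + 1)) ≫ Injective.ι _

lemma map_cc (n : ℤ) {p q : ℤ} (h : p ≤ q) :
    X.obj.map (homOfLE h).op ≫ cc X lo hlo n p = cc X lo hlo n q := by
  unfold cc
  rw [← Category.assoc, map_toTot]

lemma cc_eq_zero (n p : ℤ) (h : n < p) : cc X lo hlo n p = 0 := by
  have h' : n + 1 ≤ p := h
  unfold cc
  rw [← map_toTot X lo hlo h', Category.assoc, cokernel.condition_assoc, zero_comp, comp_zero]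

/-- The embedding, levelwise. -/
noncomputable def emb (p : ℤ) : X.obj.obj (op p) ⟶ lvl lo hi (JJ X lo hlo) p :=
  biproduct.lift (fun s => cc X lo hlo s.1.1 p)

lemma emb_naturality {p q : ℤ} (h : p ≤ q) :
    X.obj.map (homOfLE h).op ≫ emb X lo hi hlo p =
      emb X lo hi hlo q ≫ tmap lo hi (JJ X lo hlo) h := by
  apply biproduct.hom_ext
  intro s
  rw [Category.assoc, Category.assoc, emb, biproduct.lift_π, map_cc]
  by_cases hs : q ≤ s.1.1
  · rw [tmap_π _ _ _ _ _ hs, emb, biproduct.lift_π]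
  · rw [tmap_π_of_not _ _ _ _ _ hs, comp_zero]
    exact cc_eq_zero X lo hlo _ _ (by omega)

/-- The embedding into a filtered injective object. -/
noncomputable def embHom : X ⟶ fil lo hi (JJ X lo hlo) :=
  ObjectProperty.homMk
    { app := fun q => emb X lo hi hlo q.unop
      naturality := by
        intro q q' t
        exact emb_naturality X lo hi hlo (leOfHom t.unop) }

variable (hhi : ∀ p, hi < p → IsZero (X.obj.obj (op p))) (hlh : lo ≤ hi)

include hhi in
lemma mono_cokernel_π_top : Mono (cokernel.π (toTot X lo hlo (hi + 1))) := by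
  apply Preadditive.mono_of_cancel_zero
  intro W g hg
  have hex : (ShortComplex.mk (toTot X lo hlo (hi + 1)) (cokernel.π (toTot X lo hlo (hi + 1)))
      (cokernel.condition _)).Exact := ShortComplex.exact_cokernel _
  have : Mono (ShortComplex.mk (toTot X lo hlo (hi + 1)) (cokernel.π (toTot X lo hlo (hi + 1)))
      (cokernel.condition _)).f := by dsimp; infer_instance
  have e := hex.lift_f g hg
  dsimp at e
  rw [← e, (hhi (hi + 1) (by omega)).eq_of_tgt (hex.lift g hg) 0, zero_comp]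

include hhi hlh in
lemma mono_emb (p : ℤ) : Mono (emb X lo hi hlo p) := by
  by_cases hp : p ≤ hi
  · let s : Idx lo hi p := ⟨⟨hi, Finset.mem_Icc.2 ⟨hlh, le_rfl⟩⟩, hp⟩
    have e : emb X lo hi hlo p ≫ biproduct.π _ s = cc X lo hlo hi p := by
      rw [emb, biproduct.lift_π]
    have := mono_cokernel_π_top X lo hi hlo hhi
    have : Mono (cc X lo hlo hi p) := by unfold cc; infer_instance
    rw [← e] at this
    exact mono_of_mono _ (biproduct.π _ s)
  · apply Preadditive.mono_of_cancel_zero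
    intro W g _
    exact (hhi p (by omega)).eq_of_tgt _ _

include hhi in
lemma exists_lift_step (p : ℤ) {W : A} (x : W ⟶ X.obj.obj (op p))
    (y : W ⟶ lvl lo hi (JJ X lo hlo) (p + 1))
    (hxy : x ≫ emb X lo hi hlo p = y ≫ tmap lo hi (JJ X lo hlo) (Int.le_add_one le_rfl)) :
    ∃ x' : W ⟶ X.obj.obj (op (p + 1)), x' ≫ X.obj.map (stepHom p) = x := by
  by_cases h1 : p < lo
  · have : IsIso (X.obj.map (stepHom p)) := hlo _ (by change p + 1 ≤ lo; omega)
    exact ⟨x ≫ inv (X.obj.map (stepHom p)), by simp⟩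
  by_cases h2 : hi < p
  · exact ⟨0, (hhi p h2).eq_of_tgt _ _⟩
  let s : Idx lo hi p := ⟨⟨p, Finset.mem_Icc.2 ⟨by omega, by omega⟩⟩, le_rfl⟩
  have e := congrArg (· ≫ biproduct.π _ s) hxy
  simp only [Category.assoc] at e
  rw [tmap_π_of_not _ _ _ _ s (by change ¬ p + 1 ≤ p; omega), comp_zero, emb,
    biproduct.lift_π] at e
  have e' : (x ≫ toTot X lo hlo p) ≫ cokernel.π (toTot X lo hlo (p + 1)) = 0 := by
    change x ≫ cc X lo hlo p p = 0 at e
    unfold cc at e
    rw [← cancel_mono (Injective.ι (cokernel (toTot X lo hlo (p + 1)))), zero_comp]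
    simpa only [Category.assoc] using e
  have hex : (ShortComplex.mk (toTot X lo hlo (p + 1)) (cokernel.π (toTot X lo hlo (p + 1)))
      (cokernel.condition _)).Exact := ShortComplex.exact_cokernel _
  have : Mono (ShortComplex.mk (toTot X lo hlo (p + 1)) (cokernel.π (toTot X lo hlo (p + 1)))
      (cokernel.condition _)).f := by dsimp; infer_instance
  refine ⟨hex.lift _ e', ?_⟩
  have e2 := hex.lift_f _ e'
  dsimp at e2
  rw [← cancel_mono (toTot X lo hlo p), Category.assoc]
  have : X.obj.map (stepHom p) ≫ toTot X lo hlo p = toTot X lo hlo (p + 1) :=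
    map_toTot X lo hlo (Int.le_add_one le_rfl)
  rw [this, e2]

include hhi in
lemma strictStep_embHom : StrictStep (embHom X lo hi hlo).hom := by
  intro p W x y hxy
  obtain ⟨x', hx'⟩ := exists_lift_step X lo hi hlo hhi p x y hxy
  refine ⟨W, 𝟙 W, inferInstance, x', ?_⟩
  have : IsSplitMono (tmap lo hi (JJ X lo hlo) (Int.le_add_one (le_refl p))) :=
    ⟨⟨_, tmap_proj lo hi _ _⟩⟩
  rw [Category.id_comp]
  obtain ⟨y', rfl⟩ : ∃ y' : W ⟶ lvl lo hi (JJ X lo hlo) (p + 1), y' = y := ⟨_, rfl⟩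
  change y' = x' ≫ emb X lo hi hlo (p + 1)
  rw [← cancel_mono (tmap lo hi (JJ X lo hlo) (Int.le_add_one (le_refl p))), Category.assoc,
    ← emb_naturality, ← Category.assoc]
  change _ = (x' ≫ X.obj.map (stepHom p)) ≫ _
  rw [hx']
  exact hxy.symm

end

theorem exists_emb [EnoughInjectives A] (X : FilF A) :
    ∃ (I : FilF A) (u : X ⟶ I), IsFilteredInjective I ∧ Mono u ∧ IsStrict u := by
  obtain ⟨b, hb⟩ := X.property.2.1
  obtain ⟨a, ha⟩ := X.property.2.2
  have hlo : ∀ ⦃p q : ℤᵒᵖ⦄ (f : p ⟶ q), p.unop ≤ min a b → IsIso (X.obj.map f) :=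
    fun p q f hp => ha f (hp.trans (min_le_left _ _))
  have hhi : ∀ p, b < p → IsZero (X.obj.obj (op p)) := fun p hp => hb p hp.le
  refine ⟨fil (min a b) b (JJ X (min a b) hlo), embHom X (min a b) b hlo,
    fil_isFilteredInjective _ _ _ (fun n => inferInstance), ?_, ?_⟩
  · apply mono_of_mono_app
    intro p
    exact mono_emb X (min a b) b hlo hhi (min_le_right _ _) p
  · exact isStrict_of_step _ (strictStep_embHom X (min a b) b hlo hhi)

end Groth.Agent.Helper1.FilEmb
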