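import Mathlib
import Groth.Prelude.Def_FilD
import Groth.Agent.Helper1.FilBiprod
import Groth.Agent.Helper1.FilResFacts
import Groth.Agent.Helper1.IntRec

set_option autoImplicit false
set_option linter.unusedSectionVars false

/-! The horseshoe lemma for filtered injective resolutions. -/

namespace Groth.Agent.Helper1.FilHorse
open CategoryTheory Limits Opposite FilD HomologicalComplex Groth.Agent.Helper1.FilBasic
  Groth.Agent.Helper1.FilLift Groth.Agent.Helper1.FilExact Groth.Agent.Helper1.FilStrict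
  Groth.Agent.Helper1.FilBiprod Groth.Agent.Helper1.FilResFacts

universe v u
variable {A : Type u} [Category.{v} A] [Abelian A]

section ses
variable (S : ShortComplex (FilF A))
  (hS : ∀ p : ℤ, (S.map ((IsFinFil A).ι ⋙ (evaluation ℤᵒᵖ A).obj (op p))).ShortExact)

include hS in
lemma lvExact : ∀ p, LvExactAt S.f.hom S.g.hom p := by
  intro p W y hy
  have h := (hS p).exact
  rw [ShortComplex.exact_iff_exact_up_to_refinements] at h
  exact h y hy

include hS in
lemma mono_f : Mono S.f := mono_of_mono_app _ (fun p => (hS p).mono_f)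

include hS in
lemma strict_f : IsStrict S.f := by
  have w' : S.f.hom ≫ S.g.hom = 0 := by
    rw [← ObjectProperty.FullSubcategory.comp_hom, S.zero]; rfl
  exact isStrict_of_step _ (strictStep_left w' (fun p => inferInstance) (lvExact S hS))

include hS in
lemma exists_desc_g {T : FilF A} (h : S.X₂ ⟶ T) (w : S.f ≫ h = 0) : ∃ t : S.X₃ ⟶ T, S.g ≫ t = h := by
  let T' : ShortComplex (ℤᵒᵖ ⥤ A) := S.map (IsFinFil A).ι
  have hT : T'.Exact := FilTrunc.exact_of_evaluation T' (fun q => (hS q.unop).exact)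
  have : ∀ q : ℤᵒᵖ, Epi (T'.g.app q) := fun q => (hS q.unop).epi_g
  have : Epi T'.g := NatTrans.epi_of_epi_app _
  refine ⟨ObjectProperty.homMk (hT.desc h.hom (congrArg (fun t => t.hom) w)), ?_⟩
  ext : 1
  exact hT.g_desc _ _

include hS in
lemma epi_g : Epi S.g := by
  have : ∀ q : ℤᵒᵖ, Epi (((IsFinFil A).ι.map S.g).app q) := fun q => (hS q.unop).epi_g
  have : Epi ((IsFinFil A).ι.map S.g) := NatTrans.epi_of_epi_app _
  exact Functor.epi_of_epi_map (IsFinFil A).ι this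

end ses

section theta
variable {Z : FilF A} (I J : CochainComplex (FilF A) ℤ) [I.IsStrictlyGE 0] [J.IsStrictlyGE 0]
  (hI : ∀ n, IsFilteredInjective (I.X n))
  (c : (single (FilF A) (ComplexShape.up ℤ) 0).obj Z ⟶ J) (hc : IsFilteredQuasiIso c)

/-- the relation between consecutive twisting maps -/
def Rel (n : ℤ) (m : J.X n ⟶ I.X (n + 1)) (m' : J.X (n + 1) ⟶ I.X (n + 1 + 1)) : Prop :=
  m ≫ I.d (n + 1) (n + 1 + 1) + J.d n (n + 1) ≫ m' = 0

/-- the invariant making the next step possible -/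
def Inv (n : ℤ) (m : J.X n ⟶ I.X (n + 1)) : Prop :=
  kerι (J.d n (n + 1)) ≫ m ≫ I.d (n + 1) (n + 1 + 1) = 0

include hc in
lemma strict_d' (n j : ℤ) (hn : 0 ≤ n) (hj : n + 1 = j) : IsStrict (J.d n j) := by
  subst hj
  exact strict_d c hc n hn

include hc in
lemma lv_exact' (n j k : ℤ) (hn : 0 ≤ n) (hj : n + 1 = j) (hk : j + 1 = k) :
    ∀ p, LvExactAt (J.d n j).hom (J.d j k).hom p := by
  subst hj
  obtain rfl : k = n + 2 := by omega
  exact lv_exact_succ c hc n hn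

include hI hc in
lemma step (n : ℤ) (hn : 0 ≤ n) (m : J.X n ⟶ I.X (n + 1)) (hm : Inv I J n m) :
    ∃ m' : J.X (n + 1) ⟶ I.X (n + 1 + 1), Rel I J n m m' ∧ Inv I J (n + 1) m' := by
  obtain ⟨m', hm'⟩ := exists_desc_strict (J.d n (n + 1)) (strict_d' J c hc n _ hn rfl)
    (hI (n + 1 + 1)) (-(m ≫ I.d (n + 1) (n + 1 + 1))) (by
      rw [Preadditive.comp_neg, hm, neg_zero])
  refine ⟨m', ?_, ?_⟩
  · unfold Rel
    rw [hm', add_neg_cancel]
  · unfold Inv
    apply kerι_comp_eq_zero (J.d n (n + 1)) (J.d (n + 1) (n + 1 + 1))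
      (lv_exact' J c hc n _ _ hn rfl rfl)
    rw [← Category.assoc, hm', Preadditive.neg_comp, Category.assoc, I.d_comp_d, comp_zero,
      neg_zero]

include hI hc in
/-- The twisting maps, with prescribed value on the augmentation. -/
lemma exists_theta (t : Z ⟶ I.X (0 + 1)) (ht : t ≫ I.d (0 + 1) (0 + 1 + 1) = 0) :
    ∃ θ : ∀ n, J.X n ⟶ I.X (n + 1), aug c ≫ θ 0 = t ∧
      ∀ n, θ n ≫ I.d (n + 1) (n + 1 + 1) + J.d n (n + 1) ≫ θ (n + 1) = 0 := by
  have : Mono (aug c) := mono_aug c hc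
  obtain ⟨θ₀, hθ₀⟩ := exists_desc (aug c) t (strict_aug c hc) (hI (0 + 1))
  obtain ⟨H, hH0, hH⟩ := IntRec.exists_family (M := fun n => J.X n ⟶ I.X (n + 1)) (a := 0)
    (Rel := Rel I J) (Inv := Inv I J)
    (fun n hn m hm => step I J hI c hc n hn m hm)
    (Function.update (fun n => (0 : J.X n ⟶ I.X (n + 1))) 0 θ₀)
    (fun n hn => by
      unfold Rel
      rw [Function.update_of_ne (by omega), zero_comp, zero_add]
      exact (congrArg (· ≫ _) ((J.isZero_of_isStrictlyGE 0 n hn).eq_of_src (J.d n (n + 1)) 0)).trans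
        zero_comp)
    (by
      unfold Inv
      rw [Function.update_self]
      apply kerι_comp_eq_zero (aug c) (J.d 0 (0 + 1))
        (show ∀ p, LvExactAt (aug c).hom (J.d 0 (0 + 1)).hom p from lv_exact_zero c hc)
      rw [← Category.assoc, hθ₀, ht])
  refine ⟨H, ?_, hH⟩
  rw [hH0 0 le_rfl, Function.update_self]
  exact hθ₀

end theta

section cx
variable (I J : CochainComplex (FilF A) ℤ) (θ : ∀ n, J.X n ⟶ I.X (n + 1))
  (hθ : ∀ n, θ n ≫ I.d (n + 1) (n + 1 + 1) + J.d n (n + 1) ≫ θ (n + 1) = 0)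

/-- the twisted differential -/
noncomputable def D (n : ℤ) : I.X n ⊞ J.X n ⟶ I.X (n + 1) ⊞ J.X (n + 1) :=
  biprod.fst ≫ I.d n (n + 1) ≫ biprod.inl +
    biprod.snd ≫ (θ n ≫ biprod.inl + J.d n (n + 1) ≫ biprod.inr)

lemma inl_D (n : ℤ) : biprod.inl ≫ D I J θ n = I.d n (n + 1) ≫ biprod.inl := by
  simp [D]

lemma inr_D (n : ℤ) : biprod.inr ≫ D I J θ n = θ n ≫ biprod.inl + J.d n (n + 1) ≫ biprod.inr := by
  simp [D]

lemma D_snd (n : ℤ) : D I J θ n ≫ biprod.snd = biprod.snd ≫ J.d n (n + 1) := by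
  simp [D]

include hθ in
lemma D_D (n : ℤ) : D I J θ n ≫ D I J θ (n + 1) = 0 := by
  apply biprod.hom_ext'
  · rw [← Category.assoc, inl_D, Category.assoc, inl_D, ← Category.assoc, I.d_comp_d, zero_comp,
      comp_zero]
  · rw [← Category.assoc, inr_D, Preadditive.add_comp, Category.assoc, inl_D, Category.assoc,
      inr_D, Preadditive.comp_add, ← Category.assoc (J.d n (n + 1)) (J.d _ _), J.d_comp_d,
      zero_comp, add_zero, ← Category.assoc, ← Category.assoc, ← Preadditive.add_comp, hθ,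
      zero_comp, comp_zero]

/-- the twisted direct sum complex -/
noncomputable def M : CochainComplex (FilF A) ℤ :=
  CochainComplex.of (fun n => I.X n ⊞ J.X n) (D I J θ) (D_D I J θ hθ)

lemma M_d (n : ℤ) : (M I J θ hθ).d n (n + 1) = D I J θ n := by
  change CochainComplex.of.d (fun n => I.X n ⊞ J.X n) (D I J θ) n (n + 1) = _
  exact CochainComplex.of_d _ _ _

/-- inclusion -/
noncomputable def α : I ⟶ M I J θ hθ where
  f n := biprod.inl
  comm' i j hij := by
    obtain rfl : i + 1 = j := hij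
    rw [M_d]
    exact (inl_D I J θ i).trans rfl

/-- projection -/
noncomputable def β : M I J θ hθ ⟶ J where
  f n := biprod.snd
  comm' i j hij := by
    obtain rfl : i + 1 = j := hij
    rw [M_d]
    exact (D_snd I J θ i).symm

end cx

theorem main (S : ShortComplex (FilF A))
    (hS : ∀ p : ℤ, (S.map ((IsFinFil A).ι ⋙ (evaluation ℤᵒᵖ A).obj (op p))).ShortExact)
    (I : CochainComplex (FilF A) ℤ) [I.IsStrictlyGE 0] (hI : ∀ n, IsFilteredInjective (I.X n))
    (a : (single (FilF A) (ComplexShape.up ℤ) 0).obj S.X₁ ⟶ I)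
    (J : CochainComplex (FilF A) ℤ) [J.IsStrictlyGE 0]
    (c : (single (FilF A) (ComplexShape.up ℤ) 0).obj S.X₃ ⟶ J) (hc : IsFilteredQuasiIso c) :
    ∃ (M : CochainComplex (FilF A) ℤ) (α : I ⟶ M) (β : M ⟶ J)
      (b : (single (FilF A) (ComplexShape.up ℤ) 0).obj S.X₂ ⟶ M),
      (∀ n, ∃ (r : M.X n ⟶ I.X n) (s : J.X n ⟶ M.X n), α.f n ≫ r = 𝟙 _ ∧ s ≫ β.f n = 𝟙 _ ∧
        α.f n ≫ β.f n = 0 ∧ r ≫ α.f n + β.f n ≫ s = 𝟙 _) ∧
      a ≫ α = (single (FilF A) (ComplexShape.up ℤ) 0).map S.f ≫ b ∧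
      b ≫ β = (single (FilF A) (ComplexShape.up ℤ) 0).map S.g ≫ c := by
  have := mono_f S hS
  have := epi_g S hS
  obtain ⟨b₁, hb₁⟩ := exists_desc S.f (aug a) (strict_f S hS) (hI 0)
  have ad : aug a ≫ I.d 0 (0 + 1) = 0 := aug_d a
  have cd : aug c ≫ J.d 0 (0 + 1) = 0 := aug_d c
  obtain ⟨t, ht⟩ := exists_desc_g S hS (b₁ ≫ I.d 0 (0 + 1)) (by
    rw [← Category.assoc, hb₁, ad])
  have ht0 : (-t) ≫ I.d (0 + 1) (0 + 1 + 1) = 0 := by
    rw [Preadditive.neg_comp, neg_eq_zero, ← cancel_epi S.g, ← Category.assoc, ht, Category.assoc,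
      I.d_comp_d, comp_zero, comp_zero]
  obtain ⟨θ, hθ0, hθ⟩ := exists_theta I J hI c hc (-t) ht0
  obtain ⟨b₀, hb₀def⟩ : ∃ b₀ : S.X₂ ⟶ I.X 0 ⊞ J.X 0,
      b₀ = b₁ ≫ biprod.inl + (S.g ≫ aug c) ≫ biprod.inr := ⟨_, rfl⟩
  have hb₀ : b₀ ≫ D I J θ 0 = 0 := by
    rw [hb₀def, Preadditive.add_comp, Category.assoc, inl_D, Category.assoc, inr_D,
      Preadditive.comp_add]
    simp only [Category.assoc]
    rw [reassoc_of% cd, reassoc_of% hθ0, zero_comp, comp_zero, add_zero, Preadditive.neg_comp,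
      Preadditive.comp_neg, ← Category.assoc S.g t, ht, Category.assoc, add_neg_cancel]
  have hb₀snd : b₀ ≫ biprod.snd = S.g ≫ aug c := by
    rw [hb₀def]
    simp
  have hb₀f : S.f ≫ b₀ = aug a ≫ biprod.inl := by
    rw [hb₀def, Preadditive.comp_add, ← Category.assoc, hb₁, ← Category.assoc,
      ← Category.assoc S.f S.g, S.zero, zero_comp, zero_comp, add_zero]
  obtain ⟨b, hbf⟩ : ∃ b : (single (FilF A) (ComplexShape.up ℤ) 0).obj S.X₂ ⟶ M I J θ hθ,
      b.f 0 = (singleObjXSelf (ComplexShape.up ℤ) 0 S.X₂).hom ≫ b₀ :=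
    ⟨mkHomFromSingle (K := M I J θ hθ) b₀ (by
      intro k hk
      obtain rfl : 0 + 1 = k := hk
      exact (congrArg (b₀ ≫ ·) (M_d I J θ hθ 0)).trans hb₀), mkHomFromSingle_f _ _⟩
  refine ⟨M I J θ hθ, α I J θ hθ, β I J θ hθ, b, ?_, ?_, ?_⟩
  · intro n
    exact ⟨biprod.fst, biprod.inr, biprod.inl_fst, biprod.inr_snd, biprod.inl_snd, biprod.total⟩
  · apply from_single_hom_ext
    rw [comp_f, comp_f, hbf, single_map_f_self, a_f_zero]
    have e : (singleObjXSelf (ComplexShape.up ℤ) 0 S.X₁).hom ≫ S.f ≫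
        (singleObjXSelf (ComplexShape.up ℤ) 0 S.X₂).inv ≫
        (singleObjXSelf (ComplexShape.up ℤ) 0 S.X₂).hom ≫ b₀ =
        (singleObjXSelf (ComplexShape.up ℤ) 0 S.X₁).hom ≫ aug a ≫ biprod.inl := by
      rw [Iso.inv_hom_id_assoc, hb₀f]
    exact (Category.assoc _ _ _).trans (e.symm.trans (by simp only [Category.assoc]; rfl))
  · apply from_single_hom_ext
    rw [comp_f, comp_f, hbf, single_map_f_self]
    have e : (singleObjXSelf (ComplexShape.up ℤ) 0 S.X₂).hom ≫ b₀ ≫ biprod.snd =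
        (singleObjXSelf (ComplexShape.up ℤ) 0 S.X₂).hom ≫ S.g ≫
        (singleObjXSelf (ComplexShape.up ℤ) 0 S.X₃).inv ≫ c.f 0 := by
      rw [hb₀snd]
      rfl
    exact (Category.assoc _ _ _).trans (e.trans (by simp only [Category.assoc]))

end Groth.Agent.Helper1.FilHorse
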