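import Mathlib
import Groth.Prelude.Def_FilD
import Groth.Agent.Helper1.FilBasic
import Groth.Agent.Helper1.FilLift
import Groth.Agent.Helper1.FilExact
import Groth.Agent.Helper1.FilStrict
import Groth.Agent.Helper1.FilResFacts

set_option autoImplicit false
set_option linter.unusedSectionVars false

/-! Morphisms between filtered injective resolutions. -/

namespace Groth.Agent.Helper1.FilMaps
open CategoryTheory Limits Opposite FilD HomologicalComplex Groth.Agent.Helper1.FilBasic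
  Groth.Agent.Helper1.FilLift Groth.Agent.Helper1.FilExact Groth.Agent.Helper1.FilStrict
  Groth.Agent.Helper1.FilResFacts

universe v u
variable {A : Type u} [Category.{v} A] [Abelian A]

/-- Dependent sequences from a step function. -/
lemma exists_seq {M : ℕ → Type*} (R : ∀ n, M n → M (n + 1) → Prop) (m0 : M 0)
    (step : ∀ n (m : M n), ∃ m', R n m m') :
    ∃ s : ∀ n, M n, s 0 = m0 ∧ ∀ n, R n (s n) (s (n + 1)) :=
  ⟨fun n => Nat.rec m0 (fun n m => (step n m).choose) n, rfl,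
    fun n => (step n _).choose_spec⟩

section
variable {X Y : FilF A} (f : X ⟶ Y) (I J : CochainComplex (FilF A) ℤ)
  [I.IsStrictlyGE 0] [J.IsStrictlyGE 0] (hJ : ∀ n, IsFilteredInjective (J.X n))
  (a : (single (FilF A) (ComplexShape.up ℤ) 0).obj X ⟶ I) (ha : IsFilteredQuasiIso a)
  (b : (single (FilF A) (ComplexShape.up ℤ) 0).obj Y ⟶ J)

/-- The invariant of the construction. -/
def Inv (k : ℕ) (φ : I.X (Int.ofNat k) ⟶ J.X (Int.ofNat k)) : Prop :=
  kerι (I.d (Int.ofNat k) (Int.ofNat (k + 1))) ≫ φ ≫ J.d (Int.ofNat k) (Int.ofNat (k + 1)) = 0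

include hJ ha in
lemma exists_zero : ∃ φ : I.X (Int.ofNat 0) ⟶ J.X (Int.ofNat 0),
    aug a ≫ φ = f ≫ aug b ∧ Inv I J 0 φ := by
  have := mono_aug a ha
  obtain ⟨φ, hφ⟩ := exists_desc (aug a) (f ≫ aug b) (strict_aug a ha) (hJ 0)
  refine ⟨φ, hφ, ?_⟩
  apply kerι_comp_eq_zero (aug a) (I.d 0 1) (lv_exact_zero a ha)
  rw [← Category.assoc, hφ, Category.assoc]
  have := aug_d b
  exact (congrArg (f ≫ ·) this).trans comp_zero

include hJ ha in
lemma exists_succ (k : ℕ) (φ : I.X (Int.ofNat k) ⟶ J.X (Int.ofNat k)) (hφ : Inv I J k φ) :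
    ∃ ψ : I.X (Int.ofNat (k + 1)) ⟶ J.X (Int.ofNat (k + 1)),
      I.d (Int.ofNat k) (Int.ofNat (k + 1)) ≫ ψ = φ ≫ J.d (Int.ofNat k) (Int.ofNat (k + 1)) ∧
        Inv I J (k + 1) ψ := by
  have hs : IsStrict (I.d (Int.ofNat k) (Int.ofNat (k + 1))) :=
    strict_d a ha (Int.ofNat k) (Int.natCast_nonneg k)
  obtain ⟨ψ, hψ⟩ := exists_desc_strict (I.d (Int.ofNat k) (Int.ofNat (k + 1))) hs
    (hJ (Int.ofNat (k + 1))) (φ ≫ J.d (Int.ofNat k) (Int.ofNat (k + 1))) hφ
  refine ⟨ψ, hψ, ?_⟩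
  have hex : ∀ p, LvExactAt (I.d (Int.ofNat k) (Int.ofNat (k + 1))).hom
      (I.d (Int.ofNat (k + 1)) (Int.ofNat (k + 1 + 1))).hom p :=
    lv_exact_succ a ha (Int.ofNat k) (Int.natCast_nonneg k)
  apply kerι_comp_eq_zero _ _ hex
  rw [← Category.assoc, hψ, Category.assoc, J.d_comp_d, comp_zero]

include hJ ha in
theorem exists_map : ∃ φ : I ⟶ J,
    a ≫ φ = (single (FilF A) (ComplexShape.up ℤ) 0).map f ≫ b := by
  obtain ⟨φ₀, h₀, hi₀⟩ := exists_zero f I J hJ a ha b
  obtain ⟨s, hs0, hs⟩ := exists_seq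
    (M := fun k => {φ : I.X (Int.ofNat k) ⟶ J.X (Int.ofNat k) // Inv I J k φ})
    (fun k φ ψ => I.d (Int.ofNat k) (Int.ofNat (k + 1)) ≫ ψ.1 =
      φ.1 ≫ J.d (Int.ofNat k) (Int.ofNat (k + 1)))
    ⟨φ₀, hi₀⟩
    (fun k φ => by
      obtain ⟨ψ, h1, h2⟩ := exists_succ I J hJ a ha k φ.1 φ.2
      exact ⟨⟨ψ, h2⟩, h1⟩)
  let F : ∀ i : ℤ, I.X i ⟶ J.X i
    | Int.ofNat k => (s k).1
    | Int.negSucc _ => 0
  let φ : I ⟶ J :=
    { f := F
      comm' := by
        intro i j hij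
        rcases i with p | p <;> rcases j with q | q
        · have hpq : p + 1 = q := by
            have : Int.ofNat p + 1 = Int.ofNat q := hij
            exact Int.ofNat.inj this
          subst hpq
          exact (hs p).symm
        · exfalso
          have : Int.ofNat p + 1 = Int.negSucc q := hij
          simp only [Int.ofNat_eq_natCast, Int.negSucc_eq] at this
          omega
        · apply (I.isZero_of_isStrictlyGE 0 (Int.negSucc p) (by simp [Int.negSucc_eq]; omega)).eq_of_src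
        · apply (I.isZero_of_isStrictlyGE 0 (Int.negSucc p) (by simp [Int.negSucc_eq]; omega)).eq_of_src }
  refine ⟨φ, ?_⟩
  apply from_single_hom_ext
  rw [comp_f, comp_f, a_f_zero a, a_f_zero b, single_map_f_self]
  have e : φ.f 0 = φ₀ := by
    change (s 0).1 = φ₀
    rw [hs0]
  rw [e, Category.assoc, h₀]
  simp

end
end Groth.Agent.Helper1.FilMaps
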