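import Mathlib
import Groth.Agent.Helper1.ResCore

set_option autoImplicit false

/-! A second inductive construction of a right resolution `K ⟶ L` of a sequence (Bühler's
construction): only pushouts along the chosen monomorphisms `ιE` are used, so that the
construction makes sense in exact-category-like situations. -/

namespace Groth.Agent.Helper1.ResB
open CategoryTheory Limits Category Groth.Agent.Helper1.ResCore

universe v u

variable {A : Type u} [Category.{v} A] [Abelian A]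

section pushout
variable {X Y Z : A} (f : X ⟶ Y) (g : X ⟶ Z)

lemma pushout_key {T : A} (c : T ⟶ Y) (k : T ⟶ Z)
    (h : c ≫ pushout.inl f g = k ≫ pushout.inr f g) :
    ∃ (T' : A) (π : T' ⟶ T) (_ : Epi π) (w : T' ⟶ X), w ≫ f = π ≫ c ∧ w ≫ g = π ≫ k := by
  have hpo := IsPushout.of_hasPushout f g
  have hz : biprod.lift c (-k) ≫ hpo.cokernelCofork.π = 0 := by
    dsimp
    simp [h]
  obtain ⟨T', π, hπ, x, hx⟩ :=
    (CokernelCofork.IsColimit.comp_π_eq_zero_iff_up_to_refinements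
      hpo.isColimitCokernelCofork (biprod.lift c (-k))).1 hz
  refine ⟨T', π, hπ, x, ?_, ?_⟩
  · have := hx =≫ biprod.fst
    simpa using this.symm
  · have := hx =≫ biprod.snd
    simpa using this.symm

lemma pushout_cover {T : A} (w : T ⟶ pushout f g) :
    ∃ (T' : A) (π : T' ⟶ T) (_ : Epi π) (l : T' ⟶ Y) (k : T' ⟶ Z),
      π ≫ w = l ≫ pushout.inl f g + k ≫ pushout.inr f g := by
  have hpo := IsPushout.of_hasPushout f g
  have : Epi hpo.cokernelCofork.π := epi_of_isColimit_cofork hpo.isColimitCokernelCofork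
  obtain ⟨T', π, hπ, x, hx⟩ := surjective_up_to_refinements_of_epi hpo.cokernelCofork.π w
  refine ⟨T', π, hπ, x ≫ biprod.fst, x ≫ biprod.snd, ?_⟩
  rw [hx]
  dsimp
  rw [assoc, assoc, ← Preadditive.comp_add]
  congr 1
  apply biprod.hom_ext' <;> simp

end pushout

variable (K : Seq A) (E : ℕ → A → A) (ιE : ∀ n Y, Y ⟶ E n Y) [hE : ∀ n Y, Mono (ιE n Y)]

/-- the data at stage `n` -/
structure Stage (n : ℕ) where
  B : A
  j : K.X n ⟶ B
  δ : B ⟶ K.X (n + 1)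
  hj : j ≫ δ = K.d n
  hδ : δ ≫ K.d (n + 1) = 0
  mono_j : Mono j
  gen : ∀ {T : A} (w : T ⟶ B), ∃ (T' : A) (π : T' ⟶ T) (_ : Epi π) (x : T' ⟶ K.X n),
    π ≫ w ≫ δ = x ≫ K.d n

/-- the initial stage -/
def stage0 : Stage K 0 where
  B := K.X 0
  j := 𝟙 _
  δ := K.d 0
  hj := id_comp _
  hδ := K.sq 0
  mono_j := inferInstance
  gen w := ⟨_, 𝟙 _, inferInstance, w, by rw [id_comp]⟩

namespace Stage
variable {K} {n : ℕ} (s : Stage K n)

/-- the `n`-th term of the resolution -/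
abbrev L : A := E n s.B
/-- the chosen embedding -/
abbrev ι : s.B ⟶ s.L E := ιE n s.B
/-- the next `B` -/
noncomputable abbrev B' : A := pushout (s.ι E ιE) s.δ
/-- the next `j` -/
noncomputable abbrev j' : K.X (n + 1) ⟶ s.B' E ιE := pushout.inr _ _
/-- the next `δ` -/
noncomputable def δ' : s.B' E ιE ⟶ K.X (n + 1 + 1) :=
  pushout.desc 0 (K.d (n + 1)) (by rw [comp_zero, s.hδ])

@[reassoc (attr := simp)]
lemma inl_δ' : pushout.inl _ _ ≫ s.δ' E ιE = 0 := pushout.inl_desc _ _ _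

@[reassoc (attr := simp)]
lemma inr_δ' : pushout.inr _ _ ≫ s.δ' E ιE = K.d (n + 1) := pushout.inr_desc _ _ _

/-- the component of the resolution map -/
def a : K.X n ⟶ s.L E := s.j ≫ s.ι E ιE

include hE in
lemma mono_a : Mono (s.a E ιE) := by
  have := s.mono_j
  exact mono_comp _ _

/-- the next stage -/
noncomputable abbrev next : Stage K (n + 1) where
  B := s.B' E ιE
  j := s.j' E ιE
  δ := s.δ' E ιE
  hj := s.inr_δ' E ιE
  hδ := by
    apply pushout.hom_ext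
    · rw [inl_δ'_assoc, zero_comp, comp_zero]
    · rw [inr_δ'_assoc, K.sq, comp_zero]
  mono_j := inferInstance
  gen w := by
    obtain ⟨T', π, hπ, l, k, h⟩ := pushout_cover (s.ι E ιE) s.δ w
    refine ⟨T', π, hπ, k, ?_⟩
    rw [← assoc, h, Preadditive.add_comp, assoc, assoc, inl_δ', inr_δ', comp_zero, zero_add]

/-- the differential of the resolution -/
noncomputable def dnext : s.L E ⟶ (s.next E ιE).L E := pushout.inl _ _ ≫ (s.next E ιE).ι E ιE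

lemma d_a' : K.d n ≫ (s.next E ιE).a E ιE = s.a E ιE ≫ s.dnext E ιE := by
  change K.d n ≫ pushout.inr _ _ ≫ _ = (s.j ≫ s.ι E ιE) ≫ pushout.inl _ _ ≫ _
  rw [assoc, pushout.condition_assoc, ← assoc s.j, s.hj]

lemma dnext_dnext : s.dnext E ιE ≫ (s.next E ιE).dnext E ιE = 0 := by
  change (pushout.inl _ _ ≫ (s.next E ιE).ι E ιE) ≫ pushout.inl _ _ ≫ _ = 0
  rw [assoc, pushout.condition_assoc]
  change pushout.inl _ _ ≫ s.δ' E ιE ≫ _ = 0
  rw [inl_δ'_assoc, zero_comp]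

include hE in
/-- mono on `H^{n+1}` -/
lemma M {T : A} (x₂ : T ⟶ K.X (n + 1)) (y₁ : T ⟶ s.L E)
    (h : x₂ ≫ (s.next E ιE).a E ιE = y₁ ≫ s.dnext E ιE) :
    ∃ (T' : A) (π : T' ⟶ T) (_ : Epi π) (x₁ : T' ⟶ K.X n), π ≫ x₂ = x₁ ≫ K.d n := by
  have h' : y₁ ≫ pushout.inl (s.ι E ιE) s.δ = x₂ ≫ pushout.inr (s.ι E ιE) s.δ := by
    rw [← cancel_mono ((s.next E ιE).ι E ιE), assoc, assoc]
    exact h.symm
  obtain ⟨T₁, π₁, _, w, -, hw⟩ := pushout_key _ _ y₁ x₂ h'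
  obtain ⟨T₂, π₂, _, x₁, hx₁⟩ := s.gen w
  refine ⟨T₂, π₂ ≫ π₁, inferInstance, x₁, ?_⟩
  rw [assoc, ← hw, hx₁]

include hE in
/-- the cycles of the resolution -/
lemma Z_aux {T : A} (y₂ : T ⟶ s.L E) (h : y₂ ≫ s.dnext E ιE = 0) :
    ∃ (T' : A) (π : T' ⟶ T) (_ : Epi π) (w : T' ⟶ s.B), w ≫ s.ι E ιE = π ≫ y₂ ∧ w ≫ s.δ = 0 := by
  have h' : y₂ ≫ pushout.inl (s.ι E ιE) s.δ = 0 ≫ pushout.inr (s.ι E ιE) s.δ := by
    rw [← cancel_mono ((s.next E ιE).ι E ιE), assoc, zero_comp, zero_comp]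
    exact h
  obtain ⟨T₁, π₁, hπ₁, w, hw₁, hw₂⟩ := pushout_key _ _ y₂ 0 h'
  exact ⟨T₁, π₁, hπ₁, w, hw₁, by rw [hw₂, comp_zero]⟩

include hE in
/-- epi on `H^{n+1}` -/
lemma E_succ {T : A} (y₂ : T ⟶ (s.next E ιE).L E)
    (h : y₂ ≫ (s.next E ιE).dnext E ιE = 0) :
    ∃ (T' : A) (π : T' ⟶ T) (_ : Epi π) (x₂ : T' ⟶ K.X (n + 1)) (y₁ : T' ⟶ s.L E),
      x₂ ≫ K.d (n + 1) = 0 ∧ π ≫ y₂ = x₂ ≫ (s.next E ιE).a E ιE + y₁ ≫ s.dnext E ιE := by
  obtain ⟨T₁, π₁, _, w, hw₁, hw₂⟩ := (s.next E ιE).Z_aux E ιE y₂ h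
  obtain ⟨T₂, π₂, _, l, k, hlk⟩ := pushout_cover (s.ι E ιE) s.δ w
  refine ⟨T₂, π₂ ≫ π₁, inferInstance, k, l, ?_, ?_⟩
  · have h0 : (π₂ ≫ w) ≫ s.δ' E ιE = 0 := by
      rw [assoc]
      exact (congrArg (π₂ ≫ ·) hw₂).trans comp_zero
    rw [hlk, Preadditive.add_comp, assoc, assoc, inl_δ', inr_δ', comp_zero, zero_add] at h0
    exact h0
  · have h1 : (π₂ ≫ π₁) ≫ y₂ = (π₂ ≫ w) ≫ (s.next E ιE).ι E ιE := by
      rw [assoc, assoc]
      exact (congrArg (π₂ ≫ ·) hw₁).symm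
    rw [h1, hlk, Preadditive.add_comp, assoc, assoc]
    exact add_comm _ _

end Stage

include hE in
/-- epi on `H^0` -/
lemma E_zero {T : A} (y₂ : T ⟶ (stage0 K).L E) (h : y₂ ≫ (stage0 K).dnext E ιE = 0) :
    ∃ (T' : A) (π : T' ⟶ T) (_ : Epi π) (x₂ : T' ⟶ K.X 0),
      x₂ ≫ K.d 0 = 0 ∧ π ≫ y₂ = x₂ ≫ (stage0 K).a E ιE := by
  obtain ⟨T₁, π₁, hπ₁, w, hw₁, hw₂⟩ := (stage0 K).Z_aux E ιE y₂ h
  refine ⟨T₁, π₁, hπ₁, w, hw₂, ?_⟩
  rw [← hw₁]
  exact (congrArg (w ≫ ·) (id_comp _)).symm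

/-- all the stages -/
noncomputable def stage : ∀ n, Stage K n
  | 0 => stage0 K
  | n + 1 => (stage n).next E ιE

include hE in
/-- existence of the resolution -/
noncomputable def res (P : ℕ → A → Prop) (hP : ∀ n, P n ((stage K E ιE n).L E)) : Res K P where
  L :=
    { X := fun n => (stage K E ιE n).L E
      d := fun n => (stage K E ιE n).dnext E ιE
      sq := fun n => (stage K E ιE n).dnext_dnext E ιE }
  a := fun n => (stage K E ιE n).a E ιE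
  comm := fun n => (stage K E ιE n).d_a' E ιE
  hP := hP
  mono := fun n => (stage K E ιE n).mono_a E ιE
  M := fun n _ x₂ y₁ h => (stage K E ιE n).M E ιE x₂ y₁ h
  E0 := fun y₂ h => E_zero K E ιE y₂ h
  E := fun n _ y₂ h => (stage K E ιE n).E_succ E ιE y₂ h

end Groth.Agent.Helper1.ResB
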