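import Mathlib
import Groth.Prelude.Def_FilD
import Groth.Agent.Helper1.FilBiprod
import Groth.Agent.Helper1.FilEmb
import Groth.Agent.Helper1.FilTrunc
import Groth.Agent.Helper1.ResB
import Groth.Agent.Helper1.ResCx

set_option autoImplicit false
set_option linter.unusedSectionVars false

/-! Filtered injective resolutions of bounded below complexes of finite filtered objects. -/

namespace Groth.Agent.Helper1.FilRes
open CategoryTheory Limits Opposite FilD HomologicalComplex Groth.Agent.Helper1.FilBasic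
  Groth.Agent.Helper1.FilLift Groth.Agent.Helper1.FilExact Groth.Agent.Helper1.FilStrict
  Groth.Agent.Helper1.FilCx Groth.Agent.Helper1.FilTrunc Groth.Agent.Helper1.FilBiprod
  Groth.Agent.Helper1.ResCore Groth.Agent.Helper1.ResB Groth.Agent.Helper1.ResCx

universe v u
variable {A : Type u} [Category.{v} A] [Abelian A]

section strictR

lemma strictR_id (F : ℤᵒᵖ ⥤ A) : StrictR (𝟙 F) := by
  intro p q h W x y hxy
  refine ⟨W, 𝟙 W, inferInstance, y, ?_⟩
  rw [Category.id_comp, NatTrans.id_app, Category.comp_id]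

lemma StrictR.comp {F G H : ℤᵒᵖ ⥤ A} {φ : F ⟶ G} {ψ : G ⟶ H} (hφ : StrictR φ) (hψ : StrictR ψ)
    (hmono : ∀ p : ℤ, Mono (ψ.app (op p))) : StrictR (φ ≫ ψ) := by
  intro p q h W x y hxy
  rw [NatTrans.comp_app, ← Category.assoc] at hxy
  obtain ⟨W₁, π₁, hπ₁, x₁, hx₁⟩ := hψ p q h W (x ≫ φ.app (op p)) y hxy
  have h2 : (π₁ ≫ x) ≫ φ.app (op p) = x₁ ≫ G.map (homOfLE h).op := by
    have := hmono p
    rw [← cancel_mono (ψ.app (op p)), Category.assoc, Category.assoc, Category.assoc,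
      ψ.naturality, ← Category.assoc x₁, ← hx₁, Category.assoc, ← hxy, Category.assoc]
  obtain ⟨W₂, π₂, hπ₂, x₂, hx₂⟩ := hφ p q h W₁ (π₁ ≫ x) x₁ h2
  refine ⟨W₂, π₂ ≫ π₁, epi_comp _ _, x₂, ?_⟩
  rw [Category.assoc, hx₁, ← Category.assoc, hx₂, Category.assoc, NatTrans.comp_app]

lemma StrictR.iso_comp {F G H : ℤᵒᵖ ⥤ A} (e : F ⟶ G) [IsIso e] {φ : G ⟶ H} (hφ : StrictR φ) :
    StrictR (e ≫ φ) := by
  intro p q h W x y hxy
  rw [NatTrans.comp_app, ← Category.assoc] at hxy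
  obtain ⟨W₁, π₁, hπ₁, x₁, hx₁⟩ := hφ p q h W (x ≫ e.app (op p)) y hxy
  refine ⟨W₁, π₁, hπ₁, x₁ ≫ (inv e).app (op q), ?_⟩
  rw [hx₁, NatTrans.comp_app, Category.assoc, ← Category.assoc ((inv e).app _),
    ← NatTrans.comp_app, IsIso.inv_hom_id, NatTrans.id_app, Category.id_comp]

lemma strictR_of_isZero {F G : ℤᵒᵖ ⥤ A} (φ : F ⟶ G) (hG : IsZero G) : StrictR φ := by
  intro p q h W x y hxy
  refine ⟨W, 𝟙 W, inferInstance, 0, ?_⟩
  exact ((Functor.isZero_iff G).1 hG (op q)).eq_of_tgt _ _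

lemma lvExactAt_of_exact (S : ShortComplex (ℤᵒᵖ ⥤ A)) (hS : S.Exact) (p : ℤ) :
    LvExactAt S.f S.g p := by
  intro W y hy
  have h := hS.map ((evaluation ℤᵒᵖ A).obj (op p))
  rw [ShortComplex.exact_iff_exact_up_to_refinements] at h
  exact h y hy

end strictR

section po
variable {C : Type u} [Category.{v} C] [Abelian C] {X Y Z : C} (f : X ⟶ Y) (g : X ⟶ Z)

/-- the map `pushout f g ⟶ cokernel f` -/
noncomputable def poG : pushout f g ⟶ cokernel f :=
  pushout.desc (cokernel.π f) 0 (by rw [cokernel.condition, comp_zero])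

lemma inl_poG : pushout.inl f g ≫ poG f g = cokernel.π f := pushout.inl_desc _ _ _

lemma inr_poG : pushout.inr f g ≫ poG f g = 0 := pushout.inr_desc _ _ _

lemma poG_exact {T : C} (y : T ⟶ pushout f g) (hy : y ≫ poG f g = 0) :
    ∃ (T' : C) (π : T' ⟶ T) (_ : Epi π) (x : T' ⟶ Z), π ≫ y = x ≫ pushout.inr f g := by
  obtain ⟨T₁, π₁, _, l, k, h⟩ := pushout_cover f g y
  have h1 : l ≫ cokernel.π f = 0 := by
    have h0 : (π₁ ≫ y) ≫ poG f g = 0 := by rw [Category.assoc, hy, comp_zero]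
    rw [h, Preadditive.add_comp, Category.assoc, Category.assoc, inl_poG, inr_poG, comp_zero,
      add_zero] at h0
    exact h0
  obtain ⟨T₂, π₂, _, b, hb⟩ :=
    (CokernelCofork.IsColimit.comp_π_eq_zero_iff_up_to_refinements
      (cokernelIsCokernel f) l).1 h1
  refine ⟨T₂, π₂ ≫ π₁, inferInstance, b ≫ g + π₂ ≫ k, ?_⟩
  rw [Category.assoc, h, Preadditive.comp_add, ← Category.assoc, hb, Category.assoc,
    pushout.condition, Preadditive.add_comp, Category.assoc, Category.assoc]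

/-- the short complex `Z ⟶ pushout f g ⟶ cokernel f` -/
noncomputable abbrev poSC : ShortComplex C :=
  ShortComplex.mk (pushout.inr f g) (poG f g) (inr_poG f g)

lemma poSC_shortExact [Mono f] : (poSC f g).ShortExact := by
  have : Mono (poSC f g).f := inferInstanceAs (Mono (pushout.inr f g))
  have : Epi (poG f g) := by
    have : Epi (pushout.inl f g ≫ poG f g) := by
      rw [inl_poG]
      infer_instance
    exact epi_of_epi (pushout.inl f g) (poG f g)
  have : Epi (poSC f g).g := this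
  refine ShortComplex.ShortExact.mk ?_
  rw [ShortComplex.exact_iff_exact_up_to_refinements]
  intro T y hy
  exact poG_exact f g y hy

end po

section emb
variable [EnoughInjectives A]

open Classical in
/-- a total choice of embeddings: strict monomorphisms into filtered injectives on finite filtered
objects, identities elsewhere -/
noncomputable def embData (Y : ℤᵒᵖ ⥤ A) : Σ' (Y' : ℤᵒᵖ ⥤ A), (Y ⟶ Y') :=
  if h : IsFinFil A Y then
    ⟨(FilEmb.exists_emb (⟨Y, h⟩ : FilF A)).choose.obj,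
      (FilEmb.exists_emb (⟨Y, h⟩ : FilF A)).choose_spec.choose.hom⟩
  else ⟨Y, 𝟙 Y⟩

/-- the target of the chosen embedding -/
noncomputable def FE (Y : ℤᵒᵖ ⥤ A) : ℤᵒᵖ ⥤ A := (embData Y).1

/-- the chosen embedding -/
noncomputable def ιFE (Y : ℤᵒᵖ ⥤ A) : Y ⟶ FE Y := (embData Y).2

/-- finite filtered with injective graded pieces -/
def PP (Y : ℤᵒᵖ ⥤ A) : Prop := IsFinFil A Y ∧ ∀ p : ℤ, Injective ((gr A p).obj Y)

omit [EnoughInjectives A] in
lemma spec_aux (Y : ℤᵒᵖ ⥤ A) (h : IsFinFil A Y) (d : Σ' (Y' : ℤᵒᵖ ⥤ A), (Y ⟶ Y'))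
    (I : FilF A) (u : (⟨Y, h⟩ : FilF A) ⟶ I) (hd : d = ⟨I.obj, u.hom⟩)
    (hI : IsFilteredInjective I) (hu : Mono u) (hs : IsStrict u) :
    PP d.1 ∧ (∀ p : ℤ, Mono (d.2.app (op p))) ∧ StrictR d.2 := by
  subst hd
  exact ⟨⟨I.property, hI⟩, fun p => mono_app_of_mono u p, (isStrict_iff u).1 hs⟩

lemma spec (Y : ℤᵒᵖ ⥤ A) (h : IsFinFil A Y) :
    PP (FE Y) ∧ (∀ p : ℤ, Mono ((ιFE Y).app (op p))) ∧ StrictR (ιFE Y) := by
  have hc := (FilEmb.exists_emb (⟨Y, h⟩ : FilF A)).choose_spec.choose_spec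
  exact spec_aux Y h (embData Y) _ _ (dif_pos h) hc.1 hc.2.1 hc.2.2

omit [EnoughInjectives A] in
lemma mono_aux (Y : ℤᵒᵖ ⥤ A) (d : Σ' (Y' : ℤᵒᵖ ⥤ A), (Y ⟶ Y')) (hd : d = ⟨Y, 𝟙 Y⟩) :
    Mono d.2 := by
  subst hd
  exact inferInstanceAs (Mono (𝟙 Y))

instance mono_ιFE (Y : ℤᵒᵖ ⥤ A) : Mono (ιFE Y) := by
  by_cases h : IsFinFil A Y
  · have h1 := (spec Y h).2.1
    have : ∀ q : ℤᵒᵖ, Mono ((ιFE Y).app q) := fun q => h1 q.unop
    exact NatTrans.mono_of_mono_app _
  · exact mono_aux Y (embData Y) (dif_neg h)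

end emb

section good
variable [EnoughInjectives A] (K : Seq (ℤᵒᵖ ⥤ A)) (hK : ∀ n, IsFinFil A (K.X n))

/-- the embedding data, constant in `n` -/
noncomputable abbrev E' : ℕ → (ℤᵒᵖ ⥤ A) → (ℤᵒᵖ ⥤ A) := fun _ => FE
/-- the embedding data, constant in `n` -/
noncomputable abbrev ιE' : ∀ (n : ℕ) (Y : ℤᵒᵖ ⥤ A), Y ⟶ E' n Y := fun _ => ιFE

/-- the invariant of the construction -/
def Good {n : ℕ} (s : Stage K n) : Prop := IsFinFil A s.B ∧ StrictR s.j

include hK in
lemma good0 : Good K (stage0 K) := ⟨hK 0, strictR_id _⟩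

include hK in
lemma good_next {n : ℕ} (s : Stage K n) (hs : Good K s) : Good K (s.next E' ιE') := by
  obtain ⟨hPP, hmono, hstr⟩ := spec s.B hs.1
  have hcok : IsFinFil A (cokernel (s.ι E' ιE')) :=
    cokernel_isFinFil (X := ⟨s.B, hs.1⟩) (Y := ⟨FE s.B, hPP.1⟩) (ObjectProperty.homMk (ιFE s.B)) hstr
  have hse := poSC_shortExact (s.ι E' ιE') s.δ
  have hB' : IsFinFil A (s.B' E' ιE') := isFinFil_of_shortExact _ hse (hK (n + 1)) hcok
  refine ⟨hB', ?_⟩
  exact (strictStep_left (poSC (s.ι E' ιE') s.δ).zero (fun p => hcok.1 _)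
    (fun p => lvExactAt_of_exact _ hse.exact p)).strictR

include hK in
lemma good_stage : ∀ n, Good K (stage K E' ιE' n)
  | 0 => good0 K hK
  | n + 1 => good_next K hK _ (good_stage n)

include hK in
lemma hP (n : ℕ) : PP ((stage K E' ιE' n).L E') := (spec _ (good_stage K hK n).1).1

include hK in
lemma strictR_a (n : ℕ) : StrictR ((stage K E' ιE' n).a E' ιE') :=
  StrictR.comp (good_stage K hK n).2 (spec _ (good_stage K hK n).1).2.2
    (spec _ (good_stage K hK n).1).2.1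

end good

section main
variable [EnoughInjectives A]

/-- version in the functor category, degrees `≥ 0` -/
theorem exists_res_zero (M : CochainComplex (ℤᵒᵖ ⥤ A) ℤ) [M.IsStrictlyGE 0]
    (hM : ∀ n, IsFinFil A (M.X n)) :
    ∃ (L : CochainComplex (ℤᵒᵖ ⥤ A) ℤ) (α : M ⟶ L), L.IsStrictlyGE 0 ∧ (∀ n, PP (L.X n)) ∧
      (∀ n, Mono (α.f n) ∧ StrictR (α.f n)) ∧ QuasiIso α := by
  have hK : ∀ n, IsFinFil A ((seqOfInt M).X n) := fun n => hM _
  let R : Res (seqOfInt M) (fun _ => PP) :=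
    ResB.res (seqOfInt M) E' ιE' (fun _ => PP) (hP (seqOfInt M) hK)
  obtain ⟨Z, hZ⟩ : ∃ Z : ℤᵒᵖ ⥤ A, IsZero Z := HasZeroObject.zero
  have hPZ : PP Z := ⟨isFinFil_of_isZero hZ, fun p => (Functor.map_isZero (gr A p) hZ).injective⟩
  refine ⟨Lint R Z, αint R Z, isStrictlyGE_Lint R hZ, ?_, ?_, quasiIso_αint R hZ⟩
  · intro n
    rcases n with n | m
    · exact R.hP n
    · exact hPZ
  · intro n
    rcases n with n | m
    · exact ⟨R.mono n, strictR_a (seqOfInt M) hK n⟩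
    · exact ⟨⟨fun g h _ => (isZero_K_negSucc m).eq_of_tgt g h⟩, strictR_of_isZero _ hZ⟩

/-- version in the functor category -/
theorem exists_res_und (M : CochainComplex (ℤᵒᵖ ⥤ A) ℤ) (a : ℤ) [M.IsStrictlyGE a]
    (hM : ∀ n, IsFinFil A (M.X n)) :
    ∃ (L : CochainComplex (ℤᵒᵖ ⥤ A) ℤ) (α : M ⟶ L), L.IsStrictlyGE a ∧ (∀ n, PP (L.X n)) ∧
      (∀ n, Mono (α.f n) ∧ StrictR (α.f n)) ∧ QuasiIso α := by
  have : (M⟦a⟧).IsStrictlyGE 0 := M.isStrictlyGE_shift a a 0 (by simp)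
  obtain ⟨L', α', hL', h1, h3, h4⟩ := exists_res_zero (M⟦a⟧) (fun n => hM _)
  let e := (shiftFunctorCompIsoId (CochainComplex (ℤᵒᵖ ⥤ A) ℤ) a (-a) (add_neg_cancel a)).symm.app M
  refine ⟨L'⟦-a⟧, e.hom ≫ α'⟦-a⟧', L'.isStrictlyGE_shift 0 (-a) a (by simp),
    fun n => h1 _, fun n => ?_, ?_⟩
  · have : Mono ((α'⟦-a⟧').f n) := (h3 _).1
    have : IsIso (e.hom.f n) :=
      inferInstanceAs (IsIso ((HomologicalComplex.eval _ _ n).map e.hom))
    rw [HomologicalComplex.comp_f]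
    exact ⟨inferInstance, StrictR.iso_comp _ (h3 _).2⟩
  · have : QuasiIso (α'⟦-a⟧') := (CochainComplex.quasiIso_shift_iff α' (-a)).2 h4
    infer_instance

/-- Every bounded below complex of finite filtered objects has a filtered injective resolution
with strict monomorphisms as components. -/
theorem exists_res (K : CochainComplex (FilF A) ℤ) (a : ℤ) [K.IsStrictlyGE a] :
    ∃ (I : CochainComplex (FilF A) ℤ) (φ : K ⟶ I), I.IsStrictlyGE a ∧
      (∀ n, IsFilteredInjective (I.X n)) ∧ IsFilteredQuasiIso φ ∧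
      ∀ n, Mono (φ.f n) ∧ IsStrict (φ.f n) := by
  have : (und K).IsStrictlyGE a :=
    (CochainComplex.isStrictlyGE_mapHomologicalComplex_obj_iff K (IsFinFil A).ι a).2 inferInstance
  obtain ⟨L, α, hL, h1, h2, h3⟩ := exists_res_und (und K) a (fun n => (K.X n).property)
  have hterm : ∀ n, IsFinFil A (L.X n) := fun n => (h1 n).1
  refine ⟨liftCx L hterm, liftHom hterm α, ?_, fun n => (h1 n).2, isFilteredQuasiIso_liftHom hterm α,
    fun n => ⟨?_, ?_⟩⟩
  · rw [CochainComplex.isStrictlyGE_iff]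
    intro i hi
    exact isZero_of_isZero_obj _ (L.isZero_of_isStrictlyGE a i hi)
  · have := (h2 n).1
    have : ∀ p : ℤ, Mono (((liftHom hterm α).f n).hom.app (op p)) := fun p =>
      inferInstanceAs (Mono ((α.f n).app (op p)))
    exact mono_of_mono_app _ this
  · exact (isStrict_iff _).2 (h2 n).2

end main

end Groth.Agent.Helper1.FilRes
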