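import Groth.Agent.Helper1.Loc3
import Groth.Agent.Helper1.HHonHU
import Mathlib

/-!
# Cohomology over opens of an open subspace is intrinsic
-/

set_option autoImplicit false

namespace Groth.Agent.Helper1.Fin

open CategoryTheory Limits Opposite TopologicalSpace Abelian
open Groth.Agent.Lead.CohTopB
open Groth.Agent.Helper1.DeltaCmp
open Groth.Agent.Helper1.CechTop
open Groth.Agent.Helper1.CohTopExt
open Groth.Agent.Helper1.CohTopFun

universe u

variable {X : TopCat.{u}} (U : Opens X) (V : Opens (TopCat.of U))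

/-- the derived functors of `F ↦ Γ(V, F|_U)` -/
noncomputable abbrev HrVSeq (n : ℕ) : CohTop.Ab X ⥤ AddCommGrpCat.{u} :=
  extSeq (CohTop.restrFunctor U) (freeU V) n

/-- `H⁰(V, F|_U) ≅ F(j V)`, naturally in `F` -/
noncomputable def hrV0Iso : HrVSeq U V 0 ≅ sectionsFunctor (jObj U V) :=
  Functor.isoWhiskerLeft (CohTop.restrFunctor U) (ext0Iso V) ≪≫
    NatIso.ofComponents (fun F => Iso.refl _) (by intros; rfl)

lemma isZero_HrVSeq_of_injective (I : CohTop.Ab X) [Injective I] (n : ℕ) :
    IsZero ((HrVSeq U V (n + 1)).obj I) := by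
  have : TopCat.Sheaf.IsFlasque I := isFlasque_of_injective I
  exact Groth.Agent.Helper1.Loc.isZero_HUSeq_of_isFlasque V (CohTop.restr I U) n

theorem nonempty_iso_HU_restrV (n : ℕ) (F : CohTop.Ab X) :
    Nonempty ((HUSeq (jObj U V) n).obj F ≅ (HrVSeq U V n).obj F) := by
  have e : HUSeq (jObj U V) 0 ≅ HrVSeq U V 0 := ext0Iso (jObj U V) ≪≫ (hrV0Iso U V).symm
  have key : ∀ F : CohTop.Ab X, True →
      Nonempty (Effacement (fun n => HUSeq (jObj U V) n) (fun n => HrVSeq U V n)
        (fun _ => True) F) := by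
    intro F _
    obtain ⟨S, hS, hI, rfl⟩ : ∃ (S : ShortComplex (CohTop.Ab X)) (_ : S.ShortExact)
        (_ : Injective S.X₂), S.X₁ = F := ⟨injSC F, injSC_shortExact F, inferInstance, rfl⟩
    have l1 : HasLES (fun n => HUSeq (jObj U V) n) S :=
      hasLES_extSeq (𝟭 (CohTop.Ab X)) (freeU (jObj U V)) S hS
    have l2 : HasLES (fun n => HrVSeq U V n) S :=
      hasLES_extSeq (CohTop.restrFunctor U) (freeU V) S hS
    exact ⟨{
      S := S
      iso := rfl
      mem := trivial
      zero := fun n => isZero_HUSeq_of_injective _ _ n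
      zero' := fun n => isZero_HrVSeq_of_injective U V _ n
      les := l1
      les' := l2 }⟩
  exact nonempty_iso (fun _ => True) e key n F trivial

end Groth.Agent.Helper1.Fin

namespace Groth.Agent.Helper1.Fin

open CategoryTheory AlgebraicGeometry TopologicalSpace Opposite

universe u

/-- cohomology of the restriction `M|_U` over an open `V` of `U` is the cohomology of `M` over
the image of `V` in `X`.  Stated for variables so that the (expensive) definitional unfolding is
checked by the kernel only once. -/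
theorem nonempty_HU_restrict (X : Scheme.{u}) (M : X.Modules) (U : X.Opens)
    (V : U.toScheme.Opens) (p : ℕ) :
    Nonempty (CohTop.HU (Coh.toAb (M.restrict U.ι)) p V ≃+
      CohTop.HU (Coh.toAb M) p (U.ι ''ᵁ V)) := by
  obtain ⟨e1⟩ := nonempty_iso_HU_restrV (X := X.carrier) U V p (Coh.toAb M)
  exact ⟨e1.symm.addCommGroupIsoToAddEquiv⟩

end Groth.Agent.Helper1.Fin
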