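import Groth.Agent.Helper1.Fin1
import Mathlib

/-!
# Vanishing of cohomology localizes, relative form
-/

set_option autoImplicit false

namespace Groth.Agent.Helper1.Fin

open CategoryTheory Limits Opposite TopologicalSpace AlgebraicGeometry

universe u

variable {X : Scheme.{u}}

/-- if `H^{q+1}(U, M) = 0` for a quasi-coherent module `M` and a quasi-compact open `U` with affine
diagonal, then `H^{q+1}(U_β, M) = 0` for `β ∈ Γ(U, O)`. -/
theorem subsingleton_HU_basicOpen (U : X.Opens) [CompactSpace U.toScheme]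
    [QuasiSeparatedSpace U.toScheme]
    (hd : ∀ V W : U.toScheme.Opens, IsAffineOpen V → IsAffineOpen W → IsAffineOpen (V ⊓ W))
    (M : X.Modules) [M.IsQuasicoherent] (q : ℕ)
    (h : Subsingleton (CohTop.HU (Coh.toAb M) (q + 1) U)) (β : Γ(X, U)) :
    Subsingleton (CohTop.HU (Coh.toAb M) (q + 1) (X.basicOpen β)) := by
  haveI : (M.restrict U.ι).IsQuasicoherent := inferInstance
  obtain ⟨e1⟩ := nonempty_HU_restrict X M U ⊤ (q + 1)
  have h1 : Subsingleton (CohTop.HU (Coh.toAb (M.restrict U.ι)) (q + 1) ⊤) := by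
    have h2 : Subsingleton (CohTop.HU (Coh.toAb M) (q + 1) (U.ι ''ᵁ ⊤)) := by
      rw [Scheme.Opens.ι_image_top]
      exact h
    exact e1.toEquiv.subsingleton
  have h3 := Groth.Agent.Helper1.Loc.subsingleton_HU_basicOpen hd q (M.restrict U.ι) h1
    (U.topIso.inv β)
  obtain ⟨e2⟩ := nonempty_HU_restrict X M U (U.toScheme.basicOpen (U.topIso.inv β)) (q + 1)
  have h4 := e2.symm.toEquiv.subsingleton
  rwa [Scheme.Opens.ι_image_basicOpen_topIso_inv] at h4

end Groth.Agent.Helper1.Fin
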