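import Groth.Agent.Helper1.ProjBC8
import Groth.Agent.Helper6.HProj
import Mathlib

/-!
# Local projective structure: over an affine open `V = Spec B` of `Z`, a `Z`-scheme `Z'` closed in
`P^N_A` becomes closed in `P^N_B`
-/

set_option autoImplicit false
set_option linter.style.haveILetI false

namespace Groth.Agent.Helper1.Fin

open CategoryTheory Limits AlgebraicGeometry TopologicalSpace Opposite
open Groth.Agent.Helper1.ProjBC

universe u

variable {A : Type u} [CommRing A] (N : ℕ) {Z' Z : Scheme.{u}} (π : Z' ⟶ Z)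
  (fZ : Z ⟶ Spec (CommRingCat.of A)) (c : Z' ⟶ CohB1.ProjSpace N A)
  (hc : c ≫ CohB1.ProjSpace.toSpec N A = π ≫ fZ) {V : Z.Opens} (hV : IsAffineOpen V)

/-- the ring map `A → Γ(Z, V)` -/
noncomputable def φV : A →+* Γ(Z, V) := (Spec.preimage (hV.fromSpec ≫ fZ)).hom

theorem specMap_φV : Spec.map (CommRingCat.ofHom (φV fZ hV)) = hV.fromSpec ≫ fZ :=
  Spec.map_preimage _

include hc in
theorem wV_cond : ((π ⁻¹ᵁ V).ι ≫ c) ≫ CohB1.ProjSpace.toSpec N A =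
    ((π ∣_ V) ≫ hV.isoSpec.hom) ≫ Spec.map (CommRingCat.ofHom (φV fZ hV)) := by
  rw [specMap_φV, Category.assoc, hc]
  simp only [IsAffineOpen.fromSpec, Category.assoc, Iso.hom_inv_id_assoc, morphismRestrict_ι_assoc]

/-- `π⁻¹V ⟶ P^N_A ×_A Spec B` -/
noncomputable def wV : (π ⁻¹ᵁ V).toScheme ⟶ QQ (φV fZ hV) N :=
  pullback.lift ((π ⁻¹ᵁ V).ι ≫ c) ((π ∣_ V) ≫ hV.isoSpec.hom) (wV_cond N π fZ c hc hV)

theorem wV_q₁ : wV N π fZ c hc hV ≫ q₁ (φV fZ hV) N = (π ⁻¹ᵁ V).ι ≫ c :=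
  pullback.lift_fst _ _ _

theorem wV_q₂ : wV N π fZ c hc hV ≫ q₂ (φV fZ hV) N = (π ∣_ V) ≫ hV.isoSpec.hom :=
  pullback.lift_snd _ _ _

instance isSeparated_q₂ : IsSeparated (q₂ (φV fZ hV) N) := by
  unfold q₂
  haveI : IsProper (CohB1.ProjSpace.toSpec N A) := Groth.Agent.Helper6.HProj.isProper_toSpec N A
  infer_instance

theorem isClosedImmersion_wV [IsClosedImmersion c] [IsProper π] :
    IsClosedImmersion (wV N π fZ c hc hV) := by
  haveI : IsImmersion (wV N π fZ c hc hV ≫ q₁ (φV fZ hV) N) := by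
    rw [wV_q₁]
    have h1 : IsImmersion c := inferInstance
    exact @IsImmersion.comp _ _ _ (π ⁻¹ᵁ V).ι c inferInstance h1
  haveI : IsImmersion (wV N π fZ c hc hV) := IsImmersion.of_comp _ (q₁ (φV fZ hV) N)
  haveI : IsProper (wV N π fZ c hc hV ≫ q₂ (φV fZ hV) N) := by
    rw [wV_q₂]
    infer_instance
  haveI : IsProper (wV N π fZ c hc hV) := IsProper.of_comp _ (q₂ (φV fZ hV) N)
  exact IsClosedImmersion.of_isPreimmersion _ (wV N π fZ c hc hV).isClosedMap.isClosed_range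

/-- the closed immersion `π⁻¹V ⟶ P^N_B` -/
noncomputable def cV : (π ⁻¹ᵁ V).toScheme ⟶ CohB1.ProjSpace N Γ(Z, V) :=
  wV N π fZ c hc hV ≫ ββ (φV fZ hV) N

theorem isClosedImmersion_cV [IsClosedImmersion c] [IsProper π] :
    IsClosedImmersion (cV N π fZ c hc hV) := by
  haveI := isClosedImmersion_wV N π fZ c hc hV
  haveI := isClosedImmersion_ββ (φV fZ hV) N
  exact IsClosedImmersion.comp (wV N π fZ c hc hV) (ββ (φV fZ hV) N)

theorem cV_γγ : cV N π fZ c hc hV ≫ γγ (φV fZ hV) N = (π ⁻¹ᵁ V).ι ≫ c :=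
  calc cV N π fZ c hc hV ≫ γγ (φV fZ hV) N
      = wV N π fZ c hc hV ≫ (ββ (φV fZ hV) N ≫ γγ (φV fZ hV) N) := Category.assoc _ _ _
    _ = wV N π fZ c hc hV ≫ q₁ (φV fZ hV) N := congrArg _ (ββ_γγ (φV fZ hV) N)
    _ = _ := wV_q₁ N π fZ c hc hV

theorem cV_toSpec : cV N π fZ c hc hV ≫ CohB1.ProjSpace.toSpec N Γ(Z, V) =
    (π ∣_ V) ≫ hV.isoSpec.hom :=
  calc cV N π fZ c hc hV ≫ CohB1.ProjSpace.toSpec N Γ(Z, V)
      = wV N π fZ c hc hV ≫ (ββ (φV fZ hV) N ≫ Proj.toSpecZero (CohB1.polyGrading N Γ(Z, V)) ≫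
          Spec.map (CommRingCat.ofHom (algebraMap Γ(Z, V) (CohB1.polyGrading N Γ(Z, V) 0)))) :=
        Category.assoc _ _ _
    _ = wV N π fZ c hc hV ≫ q₂ (φV fZ hV) N := congrArg _ (ββ_toSpec (φV fZ hV) N)
    _ = _ := wV_q₂ N π fZ c hc hV

end Groth.Agent.Helper1.Fin
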