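import Groth.Agent.Helper1.Fin6
import Groth.Agent.Helper1.KzLin2
import Groth.Agent.Helper4.FTGlue
import Groth.Agent.Helper4.QcohGlue
import Groth.Agent.Lead.PerfLib5
import Mathlib

/-!
# Coherence of `π_* c^* O(d)`
-/

set_option autoImplicit false
set_option linter.style.haveILetI false

namespace Groth.Agent.Helper1.Fin

open CategoryTheory Limits AlgebraicGeometry TopologicalSpace Opposite
open Groth.Agent.Helper1.ProjBC Groth.Agent.Helper1.Serre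

universe u

section Span

variable (B : Type u) [CommRing B] {X : Scheme.{u}} [X.Over (Spec (CommRingCat.of B))]

/-- if `H⁰(X, M)` is a finite module over the base ring, finitely many global sections span all
global sections over the base ring -/
theorem exists_span_toGlobal (M : X.Modules) [Module.Finite B (Coh.HH X M 0)] :
    ∃ (b : ℕ) (σ : Fin b → Γ(M, ⊤)), ∀ t : Γ(M, ⊤), ∃ a : Fin b → B,
      t = ∑ j, @HSMul.hSMul Γ(X, ⊤) Γ(M, ⊤) Γ(M, ⊤) _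
        (Coh.toGlobal (X ↘ Spec (CommRingCat.of B)) (a j)) (σ j) := by
  obtain ⟨b, s, hs⟩ := Module.Finite.exists_fin (R := B) (M := Coh.HH X M 0)
  let e := Sheaf.H.equiv₀ ((SheafOfModules.toSheaf X.ringCatSheaf).obj M) isTerminalTop
  refine ⟨b, fun j => e (s j), fun t => ?_⟩
  have h1 : e.symm t ∈ Submodule.span B (Set.range s) := by rw [hs]; trivial
  obtain ⟨a, ha⟩ := (Submodule.mem_span_range_iff_exists_fun B).1 h1
  refine ⟨a, ?_⟩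
  have h2 : t = e (∑ j, a j • s j) := by rw [ha, AddEquiv.apply_symm_apply]
  rw [h2, map_sum]
  refine Finset.sum_congr rfl (fun j _ => ?_)
  exact Groth.Agent.Helper1.KzLin.equiv₀_smul M
    (Coh.toGlobal (X ↘ Spec (CommRingCat.of B)) (a j)) (s j)

end Span


section Over

variable {Z' Z : Scheme.{u}} (π : Z' ⟶ Z) {V : Z.Opens} (hV : IsAffineOpen V)

theorem toGlobal_overV (b : Γ(Z, V)) :
    Coh.toGlobal ((π ∣_ V) ≫ hV.isoSpec.hom) b = (π ∣_ V).appTop (V.topIso.inv b) := by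
  have h1 : Coh.toGlobal ((π ∣_ V) ≫ hV.isoSpec.hom) b =
      ((π ∣_ V) ≫ hV.isoSpec.hom).appTop ((Scheme.ΓSpecIso Γ(Z, V)).inv b) := rfl
  rw [h1, Scheme.Hom.comp_appTop, IsAffineOpen.isoSpec_hom_appTop]
  simp only [CommRingCat.comp_apply, Category.assoc]
  congr 2
  exact Iso.inv_hom_id_apply (Scheme.ΓSpecIso Γ(Z, V)) b

theorem res_toGlobal_overV_hom :
    V.topIso.inv ≫ (π ∣_ V).appTop ≫ (π ⁻¹ᵁ V).topIso.hom = π.app V := by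
  have h1 : (π ∣_ V).appTop = V.topIso.hom ≫ π.appLE V (π ⁻¹ᵁ V) le_rfl ≫
      (π ⁻¹ᵁ V).topIso.inv := by
    rw [← Scheme.Hom.resLE_app_top, Scheme.Hom.resLE_eq_morphismRestrict]
  rw [h1]
  simp only [Category.assoc, Iso.inv_hom_id, Category.comp_id, Iso.inv_hom_id_assoc]
  exact Scheme.Hom.appLE_eq_app _

theorem res_toGlobal_overV (b : Γ(Z, V)) :
    (π ⁻¹ᵁ V).topIso.hom (Coh.toGlobal ((π ∣_ V) ≫ hV.isoSpec.hom) b) = π.app V b := by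
  rw [toGlobal_overV]
  have := congrArg (fun φ => φ.hom b) (res_toGlobal_overV_hom π (V := V))
  simp only [CommRingCat.comp_apply] at this
  exact this

end Over

section Sections

variable {Z' Z : Scheme.{u}} (π : Z' ⟶ Z) {V : Z.Opens} (hV : IsAffineOpen V) (G : Z'.Modules)

/-- finitely many sections spanning `Γ(π⁻¹V, G)` over `Γ(V, O_Z)` -/
theorem finite_sections_push_of_span (b : ℕ) (σ : Fin b → Γ(G.restrict (π ⁻¹ᵁ V).ι, ⊤))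
    (h : ∀ t : Γ(G.restrict (π ⁻¹ᵁ V).ι, ⊤), ∃ a : Fin b → Γ(Z, V),
      t = ∑ j, @HSMul.hSMul Γ((π ⁻¹ᵁ V).toScheme, ⊤) Γ(G.restrict (π ⁻¹ᵁ V).ι, ⊤)
        Γ(G.restrict (π ⁻¹ᵁ V).ι, ⊤) _
        (Coh.toGlobal ((π ∣_ V) ≫ hV.isoSpec.hom) (a j)) (σ j)) :
    Module.Finite Γ(Z, V) Γ((Scheme.Modules.pushforward π).obj G, V) := by
  -- the restriction map `Γ(G, ι(⊤)) → Γ(G, π⁻¹V)`
  let i : (π ⁻¹ᵁ V) ⟶ (π ⁻¹ᵁ V).ι ''ᵁ ⊤ := eqToHom (π ⁻¹ᵁ V).ι_image_top.symm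
  let i' : (π ⁻¹ᵁ V).ι ''ᵁ ⊤ ⟶ (π ⁻¹ᵁ V) := eqToHom (π ⁻¹ᵁ V).ι_image_top
  let ρ : Γ(G, (π ⁻¹ᵁ V).ι ''ᵁ ⊤) →+ Γ(G, π ⁻¹ᵁ V) := (G.presheaf.map i.op).hom
  let ρ' : Γ(G, π ⁻¹ᵁ V) → Γ(G, (π ⁻¹ᵁ V).ι ''ᵁ ⊤) := fun m => G.presheaf.map i'.op m
  have hρ : ∀ m, ρ (ρ' m) = m := by
    intro m
    show G.presheaf.map i.op (G.presheaf.map i'.op m) = m
    rw [← ConcreteCategory.comp_apply, ← Functor.map_comp]
    have : i'.op ≫ i.op = 𝟙 _ := Subsingleton.elim _ _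
    rw [this, CategoryTheory.Functor.map_id]
    rfl
  let τ : Fin b → Γ((Scheme.Modules.pushforward π).obj G, V) := fun j => ρ (σ j)
  refine ⟨(Submodule.fg_iff_exists_fin_generating_family).2 ⟨b, τ, ?_⟩⟩
  rw [eq_top_iff]
  intro t' _
  obtain ⟨a, ha⟩ := h (ρ' t')
  have h1 : t' = ρ (ρ' t') := (hρ t').symm
  have key : ∀ (r : Γ((π ⁻¹ᵁ V).toScheme, ⊤)) (m : Γ(G.restrict (π ⁻¹ᵁ V).ι, ⊤)),
      ρ (@HSMul.hSMul Γ((π ⁻¹ᵁ V).toScheme, ⊤) Γ(G.restrict (π ⁻¹ᵁ V).ι, ⊤)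
        Γ(G.restrict (π ⁻¹ᵁ V).ι, ⊤) _ r m) =
      @HSMul.hSMul Γ(Z', π ⁻¹ᵁ V) Γ(G, π ⁻¹ᵁ V) Γ(G, π ⁻¹ᵁ V) _
        ((π ⁻¹ᵁ V).topIso.hom r) (ρ m) := by
    intro r m
    have h3 : @HSMul.hSMul Γ((π ⁻¹ᵁ V).toScheme, ⊤) Γ(G.restrict (π ⁻¹ᵁ V).ι, ⊤)
        Γ(G.restrict (π ⁻¹ᵁ V).ι, ⊤) _ r m =
        @HSMul.hSMul Γ(Z', (π ⁻¹ᵁ V).ι ''ᵁ ⊤) Γ(G, (π ⁻¹ᵁ V).ι ''ᵁ ⊤) Γ(G, (π ⁻¹ᵁ V).ι ''ᵁ ⊤) _
          (((π ⁻¹ᵁ V).ι.appIso ⊤).inv r) m := rfl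
    rw [h3]
    show G.presheaf.map i.op _ = _
    rw [Scheme.Modules.map_smul]
    congr 1
    rw [Scheme.Opens.ι_appIso, Scheme.Opens.topIso_hom]
    rfl
  have h2 : t' = ∑ j, a j • τ j := by
    rw [h1, ha]
    refine (map_sum ρ _ _).trans ?_
    refine Finset.sum_congr rfl (fun j _ => ?_)
    refine (key _ (σ j)).trans ?_
    rw [res_toGlobal_overV]
    rfl
  rw [h2]
  exact Submodule.sum_mem _ (fun j _ => Submodule.smul_mem _ _ (Submodule.subset_span ⟨j, rfl⟩))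

end Sections

section Main

variable {A : Type u} [CommRing A] (N : ℕ) {Z' Z : Scheme.{u}} (π : Z' ⟶ Z)
  (fZ : Z ⟶ Spec (CommRingCat.of A)) (c : Z' ⟶ CohB1.ProjSpace N A)
  (hc : c ≫ CohB1.ProjSpace.toSpec N A = π ≫ fZ)

include fZ hc in
theorem finite_sections_push_GG [IsClosedImmersion c] [IsProper π] {V : Z.Opens}
    (hV : IsAffineOpen V) [IsNoetherianRing Γ(Z, V)] (d : ℕ) :
    Module.Finite Γ(Z, V) Γ((Scheme.Modules.pushforward π).obj (GG N c d), V) := by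
  letI : (π ⁻¹ᵁ V).toScheme.Over (Spec (CommRingCat.of Γ(Z, V))) :=
    ⟨(π ∣_ V) ≫ hV.isoSpec.hom⟩
  haveI := isClosedImmersion_cV N π fZ c hc hV
  have hF : Coh.IsCoh ((GG N c d).restrict (π ⁻¹ᵁ V).ι) :=
    Groth.Agent.Lead.PerfLib.isCoh_of_iso
      ((Scheme.Modules.restrictFunctorIsoPullback (π ⁻¹ᵁ V).ι).app (GG N c d)).symm
      (Groth.Agent.Helper1.Dev.isCoh_pullback _ _ (isCoh_GG N c d))
  haveI : Module.Finite Γ(Z, V) (Coh.HH (π ⁻¹ᵁ V).toScheme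
      ((GG N c d).restrict (π ⁻¹ᵁ V).ι) 0) :=
    Groth.Agent.Helper1.ClTr.finite_HH_push N Γ(Z, V) (cV N π fZ c hc hV)
      (cV_toSpec N π fZ c hc hV) _ hF 0
  obtain ⟨b, σ, h⟩ := exists_span_toGlobal Γ(Z, V) ((GG N c d).restrict (π ⁻¹ᵁ V).ι)
  exact finite_sections_push_of_span π hV (GG N c d) b σ h

include fZ hc in
/-- **`π_* c^* O(d)` is coherent** -/
theorem isCoh_push_GG [IsNoetherian Z] [IsClosedImmersion c] [IsProper π] (d : ℕ) :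
    Coh.IsCoh ((Scheme.Modules.pushforward π).obj (GG N c d)) := by
  haveI : (GG N c d).IsQuasicoherent := (isCoh_GG N c d).1
  haveI hq : ((Scheme.Modules.pushforward π).obj (GG N c d)).IsQuasicoherent :=
    Groth.Agent.Helper4.QcohGlue.isQuasicoherent_pushforward π _
  refine ⟨hq, Groth.Agent.Helper4.FTGlue.isFiniteType_of_finite_sections _ ?_⟩
  intro x
  obtain ⟨_, ⟨V, hV : IsAffineOpen V, rfl⟩, hxV, -⟩ :=
    Z.isBasis_affineOpens.exists_subset_of_mem_open (Set.mem_univ x) isOpen_univ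
  haveI : IsNoetherianRing Γ(Z, V) := IsLocallyNoetherian.component_noetherian ⟨V, hV⟩
  exact ⟨V, hV, hxV, finite_sections_push_GG N π fZ c hc hV d⟩

end Main

end Groth.Agent.Helper1.Fin
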