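import Groth.Agent.Helper1.Fin7
import Groth.Agent.Helper4.GenLocIso
import Groth.Agent.Helper4.PullSec
import Groth.Agent.Lead.PushStalk
import Mathlib

/-!
# The stalk of `g_* G'` at the image of a point where a global section generates `G'`
-/

set_option autoImplicit false
set_option linter.style.haveILetI false

namespace Groth.Agent.Helper1.Fin

open CategoryTheory Limits AlgebraicGeometry TopologicalSpace Opposite
open Groth.Agent.Lead.PushStalk

universe u

variable {Z' X : Scheme.{u}}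

theorem not_subsingleton_stalk_push (g : Z' ⟶ X) (G' : Z'.Modules)
    (σ : Coh.structureModule Z' ⟶ G') (z' : Z') (hz : z' ∈ CohB1.genLocus G' σ) :
    ¬ Subsingleton (((Scheme.Modules.pushforward g).obj G').presheaf.stalk (g z')) := by
  intro hcon
  let s : Γ(G', ⊤) := σ.app ⊤ (1 : Γ(Z', ⊤))
  have h1 : psHom g G' z'
      ((((Scheme.Modules.pushforward g).obj G').presheaf.germ ⊤ (g z') trivial)
        (show Γ((Scheme.Modules.pushforward g).obj G', ⊤) from s)) = psHom g G' z' 0 :=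
    congrArg _ (Subsingleton.elim _ _)
  rw [psHom_germ, map_zero] at h1
  have h2 : G'.presheaf.germ (g ⁻¹ᵁ ⊤) z' trivial s =
      G'.presheaf.germ (g ⁻¹ᵁ ⊤) z' trivial 0 := by
    rw [map_zero]; exact h1
  obtain ⟨W, hzW, iU, iV, hW⟩ := TopCat.Presheaf.germ_eq G'.presheaf (U := g ⁻¹ᵁ ⊤)
    (V := g ⁻¹ᵁ ⊤) z' (show z' ∈ g ⁻¹ᵁ ⊤ from trivial) (show z' ∈ g ⁻¹ᵁ ⊤ from trivial) _ _ h2
  rw [map_zero] at hW
  -- shrink into the generating locus
  set W' : Z'.Opens := W ⊓ CohB1.genLocus G' σ with hW'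
  have hzW' : z' ∈ W' := ⟨hzW, hz⟩
  have hbij : Function.Bijective (σ.app W') :=
    (Groth.Agent.Helper4.GenLoc.isIso_restrict_iff σ _).mp
      (Groth.Agent.Helper4.GenLocIso.isIso_restrict_genLocus G' σ) W' inf_le_right
  have h3 : σ.app W' (1 : Γ(Z', W')) = 0 := by
    have h4 : (Coh.structureModule Z').presheaf.map (homOfLE (le_top : W' ≤ ⊤)).op
        (1 : Γ(Z', ⊤)) = (1 : Γ(Z', W')) :=
      map_one (Z'.presheaf.map (homOfLE (le_top : W' ≤ ⊤)).op).hom
    rw [← h4, Groth.Agent.Helper4.StalkExact.app_res]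
    have h5 : G'.presheaf.map (homOfLE (inf_le_left : W' ≤ W)).op
        (G'.presheaf.map iU.op s) = 0 := by rw [hW, map_zero]
    rw [← ConcreteCategory.comp_apply, ← Functor.map_comp] at h5
    exact h5
  have h7 : (1 : Γ(Z', W')) = 0 := hbij.1 (h3.trans (map_zero _).symm)
  have h8 : W' = ⊥ := by
    have : Subsingleton Γ(Z', W') := subsingleton_of_zero_eq_one h7.symm
    rw [← Scheme.basicOpen_zero (X := Z') W']
    rw [← h7, Scheme.basicOpen_of_isUnit _ isUnit_one]
  rw [h8] at hzW'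
  exact hzW'

end Groth.Agent.Helper1.Fin
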