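import Groth.Agent.Helper1.Fin8
import Mathlib

/-!
# Sections of `c^* O(d)` generating at a given point, and the support of `g_* c^* O(d)`
-/

set_option autoImplicit false
set_option linter.style.haveILetI false

namespace Groth.Agent.Helper1.Fin

open CategoryTheory Limits AlgebraicGeometry TopologicalSpace Opposite
open Groth.Agent.Helper1.ProjBC

universe u

variable {A : Type u} [CommRing A] (N : ℕ) {Z' X : Scheme.{u}} (c : Z' ⟶ CohB1.ProjSpace N A)

theorem exists_section_GG (d : ℕ) (z' : Z') :
    ∃ σ : Coh.structureModule Z' ⟶ GG N c d, z' ∈ CohB1.genLocus (GG N c d) σ := by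
  obtain ⟨b, hb, hxb⟩ := hloc_poly A N d (c z')
  refine ⟨Groth.Agent.Helper4.PullSec.pullSec c (tsec (CohB1.polyGrading N A) d b hb), ?_⟩
  apply Groth.Agent.Helper4.PullSec.preimage_genLocus_le c
  show c z' ∈ CohB1.genLocus _ (tsec (CohB1.polyGrading N A) d b hb)
  rw [genLocus_tsec (CohB1.polyGrading N A) d (hloc_poly A N d) b hb]
  exact hxb

/-- the stalk of `g_* c^* O(d)` at every point of the image of `g` is nonzero -/
theorem mem_support_push_GG (g : Z' ⟶ X) (d : ℕ) (z' : Z') :
    g z' ∈ CohB1.support ((Scheme.Modules.pushforward g).obj (GG N c d)) := by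
  obtain ⟨σ, hσ⟩ := exists_section_GG N c d z'
  exact not_subsingleton_stalk_push g (GG N c d) σ z' hσ

end Groth.Agent.Helper1.Fin
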