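import Mathlib
import Groth.Prelude.Def_GrMod3
import Groth.Agent.Helper1.GM1
import Groth.Agent.Helper1.GM3
import Groth.Agent.Helper1.GM4
import Groth.Agent.Helper1.GM7

/-!
# Flatness of `Γ(D₊(f), M(n)~)` over a base ring when the graded pieces `M_d`, `d ≫ 0`, are flat

`Γ(D₊(f), M(n)~)` is the filtered colimit of the `M_{n + k e}` along multiplication by `f`; we run
the equational criterion of flatness by hand.
-/

set_option autoImplicit false
set_option linter.unusedSectionVars false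
set_option linter.style.haveILetI false

namespace Groth.Agent.Helper1.GMFl

open CategoryTheory AlgebraicGeometry TopologicalSpace Opposite
open scoped HomogeneousIdeal

universe u

variable {A σ : Type u} [CommRing A] [SetLike σ A] [AddSubgroupClass σ A] (𝒜 : ℕ → σ) [GradedRing 𝒜]
variable {M τ : Type u} [AddCommGroup M] [Module A M] [SetLike τ M] [AddSubgroupClass τ M]
  (ℳ : ℕ → τ) [DirectSum.Decomposition ℳ] [SetLike.GradedSMul 𝒜 ℳ]
variable {R : Type u} [CommRing R] (ρ : R →+* A)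

/-- the degree-`d` piece of `M` is flat over `R` (acting through `ρ`), in equational form -/
def FlatDeg (d : ℕ) : Prop :=
  ∀ (l : ℕ) (r : Fin l → R) (x : Fin l → M), (∀ i, x i ∈ ℳ d) → ∑ i, ρ (r i) • x i = 0 →
    ∃ (k : ℕ) (a : Fin l → Fin k → R) (y : Fin k → M), (∀ j, y j ∈ ℳ d) ∧
      (∀ i, x i = ∑ j, ρ (a i j) • y j) ∧ ∀ j, ∑ i, r i * a i j = 0

variable {𝒜}

lemma pow_mem' {f : A} {e : ℕ} (hf : f ∈ 𝒜 e) (k : ℕ) : f ^ k ∈ 𝒜 (k * e) := by
  have := SetLike.pow_mem_graded k hf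
  rwa [smul_eq_mul] at this

lemma pow_notMem {f : A} {y : ProjectiveSpectrum 𝒜} (hy : f ∉ y.asHomogeneousIdeal) (k : ℕ) :
    f ^ k ∉ y.asHomogeneousIdeal := fun h =>
  hy (y.isPrime.mem_of_pow_mem k h)

/-- **flatness of the sections of `M(n)~` over `D₊(f)`** -/
theorem flat_sections (hρ : ∀ r, ρ r ∈ 𝒜 0) {f : A} {e : ℕ} (he : 0 < e) (hf : f ∈ 𝒜 e) (n : ℤ)
    (d₀ : ℕ) (hfl : ∀ d, d₀ ≤ d → FlatDeg ℳ ρ d)
    (κ : R →+* Γ(Proj 𝒜, Proj.basicOpen 𝒜 f))
    (hκ : ∀ (r : R) (y : (Proj.basicOpen 𝒜 f : (Proj 𝒜).Opens)),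
      ((show GrTwist.O (𝒜 := 𝒜) (op (Proj.basicOpen 𝒜 f)) from κ r).1 y).val =
        Localization.mk (ρ r) 1) :
    @Module.Flat R Γ(GrMod.tilde 𝒜 ℳ n, Proj.basicOpen 𝒜 f) _ _ (Module.compHom _ κ) := by
  letI modR : Module R Γ(GrMod.tilde 𝒜 ℳ n, Proj.basicOpen 𝒜 f) := Module.compHom _ κ
  -- values of scalar multiples
  have hsmul : ∀ (r : R) (s : Γ(GrMod.tilde 𝒜 ℳ n, Proj.basicOpen 𝒜 f))
      (y : (Proj.basicOpen 𝒜 f : (Proj 𝒜).Opens)),
      GrMod.val (r • s) y = ρ r • GrMod.val s y := by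
    intro r s y
    change GrMod.val (κ r • s) y = _
    rw [GM.val_smul, hκ]
    induction' (GrMod.val s y) using LocalizedModule.induction_on with m t
    rw [LocalizedModule.mk_smul_mk, one_mul, LocalizedModule.smul'_mk]
  have hsum : ∀ (l : ℕ) (r : Fin l → R) (s : Fin l → Γ(GrMod.tilde 𝒜 ℳ n, Proj.basicOpen 𝒜 f))
      (y : (Proj.basicOpen 𝒜 f : (Proj 𝒜).Opens)),
      GrMod.val (∑ i, r i • s i) y = ∑ i, ρ (r i) • GrMod.val (s i) y := by
    intro l r s y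
    have h1 : GrMod.val (∑ i, r i • s i) y = ∑ i, GrMod.val (r i • s i) y :=
      map_sum (GMH.valHom ℳ n y) _ _
    rw [h1]
    exact Finset.sum_congr rfl fun i _ => hsmul _ _ _
  apply Module.Flat.of_forall_isTrivialRelation
  intro l r s hrel
  -- common denominators
  have h1 : ∀ i, ∃ (k d : ℕ) (m : M), m ∈ ℳ d ∧ (d : ℤ) = k * e + n ∧
      ∀ (y : ProjectiveSpectrum.top 𝒜) (hy : y ∈ ProjectiveSpectrum.basicOpen 𝒜 f),
        f ^ k • GMS.val (s i) y hy = GMS.ι₁ y m := fun i =>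
    GMS.exists_global_frac 𝒜 ℳ n he f hf (s i)
  choose k d m hm hd hval using h1
  set K : ℕ := (∑ i, k i) + d₀ + n.natAbs with hK
  have hkK : ∀ i, k i ≤ K := fun i => by
    have : k i ≤ ∑ i, k i := Finset.single_le_sum (f := k) (fun _ _ => Nat.zero_le _)
      (Finset.mem_univ i)
    omega
  set D : ℕ := ((K : ℤ) * e + n).toNat with hD
  have hKe : (K : ℤ) ≤ (K : ℤ) * e := by
    have : (1 : ℤ) ≤ e := by exact_mod_cast he
    nlinarith [Int.natCast_nonneg K]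
  have hDge : (d₀ : ℤ) ≤ (K : ℤ) * e + n := by
    have h2 : (K : ℤ) = (∑ i, k i : ℕ) + d₀ + n.natAbs := by rw [hK]; push_cast; ring
    have h3 : -(n.natAbs : ℤ) ≤ n := by
      have := neg_abs_le n
      rwa [Int.abs_eq_natAbs] at this
    have h4 : (0 : ℤ) ≤ (∑ i, k i : ℕ) := Int.natCast_nonneg _
    linarith
  have hDcast : (D : ℤ) = (K : ℤ) * e + n := by
    rw [hD, Int.toNat_of_nonneg (le_trans (Int.natCast_nonneg d₀) hDge)]
  have hDd₀ : d₀ ≤ D := by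
    have : (d₀ : ℤ) ≤ D := by rw [hDcast]; exact hDge
    exact_mod_cast this
  set m' : Fin l → M := fun i => f ^ (K - k i) • m i with hm'
  have hm'mem : ∀ i, m' i ∈ ℳ D := by
    intro i
    have h2 : f ^ (K - k i) • m i ∈ ℳ ((K - k i) * e + d i) :=
      SetLike.GradedSMul.smul_mem (pow_mem' hf _) (hm i)
    have h3 : (K - k i) * e + d i = D := by
      have h4 : ((K - k i : ℕ) : ℤ) = (K : ℤ) - k i := Int.ofNat_sub (hkK i)
      have h5 : (((K - k i) * e + d i : ℕ) : ℤ) = D := by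
        rw [hDcast]
        push_cast
        rw [h4, hd i]
        ring
      exact_mod_cast h5
    rw [← h3]
    exact h2
  have hval' : ∀ i (y : (Proj.basicOpen 𝒜 f : (Proj 𝒜).Opens)),
      f ^ K • GrMod.val (s i) y = GMS.ι₁ y.1 (m' i) := by
    intro i y
    have h2 := hval i y.1 y.2
    change f ^ k i • GrMod.val (s i) y = GMS.ι₁ y.1 (m i) at h2
    rw [hm', GMS.ι₁_smul, ← h2, ← mul_smul, ← pow_add, Nat.sub_add_cancel (hkK i)]
  -- the relation holds after multiplying by a power of `f`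
  set z : M := ∑ i, ρ (r i) • m' i with hz
  have hρmem : ∀ (t : R) {x : M} {j : ℕ}, x ∈ ℳ j → ρ t • x ∈ ℳ j := by
    intro t x j hx
    have := SetLike.GradedSMul.smul_mem (hρ t) hx
    rwa [vadd_eq_add, zero_add] at this
  have hzmem : z ∈ ℳ D := sum_mem fun i _ => hρmem _ (hm'mem i)
  have hz0 : ∀ x : ProjectiveSpectrum 𝒜, f ∉ x.asHomogeneousIdeal → GMS.ι₁ x z = 0 := by
    intro x hx
    have hxD : x ∈ Proj.basicOpen 𝒜 f := (ProjectiveSpectrum.mem_basicOpen 𝒜 f x).2 hx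
    let y : (Proj.basicOpen 𝒜 f : (Proj 𝒜).Opens) := ⟨x, hxD⟩
    rw [hz, GMS.ι₁_sum]
    have h2 : ∀ i, GMS.ι₁ x (ρ (r i) • m' i) = f ^ K • (ρ (r i) • GrMod.val (s i) y) := by
      intro i
      rw [GMS.ι₁_smul, ← hval' i y, smul_comm]
    rw [Finset.sum_congr rfl fun i _ => h2 i, ← Finset.smul_sum, ← hsum, hrel]
    exact smul_zero _
  obtain ⟨N, hN⟩ := GMS.exists_pow_smul_eq_zero 𝒜 ℳ he f hf z hzmem hz0
  set x : Fin l → M := fun i => f ^ N • m' i with hx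
  have hxmem : ∀ i, x i ∈ ℳ (N * e + D) := fun i =>
    SetLike.GradedSMul.smul_mem (pow_mem' hf N) (hm'mem i)
  have hxrel : ∑ i, ρ (r i) • x i = 0 := by
    have : ∑ i, ρ (r i) • x i = f ^ N • z := by
      rw [hz, Finset.smul_sum]
      exact Finset.sum_congr rfl fun i _ => smul_comm _ _ _
    rw [this, hN]
  obtain ⟨k', a, y, hymem, hxy, hra⟩ := hfl (N * e + D) (by omega) l r x hxmem hxrel
  have hdeg : ((N * e + D : ℕ) : ℤ) = ((K + N) * e : ℕ) + n := by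
    push_cast
    rw [hDcast]
    ring
  have hW : ∀ z : ProjectiveSpectrum.top 𝒜, z ∈ Proj.basicOpen 𝒜 f →
      f ^ (K + N) ∉ z.asHomogeneousIdeal := fun z hz =>
    pow_notMem ((ProjectiveSpectrum.mem_basicOpen 𝒜 f z).1 hz) _
  let t : Fin k' → Γ(GrMod.tilde 𝒜 ℳ n, Proj.basicOpen 𝒜 f) := fun j =>
    GM.fracSect n (y j) (hymem j) (f ^ (K + N)) (pow_mem' hf (K + N)) hdeg (Proj.basicOpen 𝒜 f) hW
  refine ⟨k', a, t, ?_, hra⟩
  intro i
  apply GM.sect_ext
  intro w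
  rw [hsum]
  apply GMS.smul_injective w.1 (hW w.1 w.2)
  change f ^ (K + N) • GrMod.val (s i) w = f ^ (K + N) • ∑ j, ρ (a i j) • GrMod.val (t j) w
  rw [Finset.smul_sum]
  have h3 : ∀ j, f ^ (K + N) • (ρ (a i j) • GrMod.val (t j) w) =
      ρ (a i j) • GMS.ι₁ w.1 (y j) := by
    intro j
    rw [smul_comm]
    congr 1
    exact (GMS.eq_mk_iff w.1 _ (y j) (hW w.1 w.2)).1 rfl
  rw [Finset.sum_congr rfl fun j _ => h3 j]
  rw [pow_add, mul_comm, mul_smul, hval' i w, ← GMS.ι₁_smul]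
  change GMS.ι₁ w.1 (x i) = _
  rw [hxy i, GMS.ι₁_sum]
  exact Finset.sum_congr rfl fun j _ => GMS.ι₁_smul _ _ _

end Groth.Agent.Helper1.GMFl
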