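import Mathlib
import Groth.Prelude.Def_RelProj4
import Groth.Agent.Helper1.Fl1
import Groth.Agent.Helper1.Fl2
import Groth.Agent.Helper1.TR0
import Groth.Agent.Helper1.TR5
import Groth.Agent.Helper1.TR25
import Groth.Agent.Helper1.TR27

/-!
# Flatness of the sections of `O_P(n)` over a standard chart of a relative Proj
-/

set_option autoImplicit false
set_option linter.unusedSectionVars false
set_option linter.style.haveILetI false

namespace Groth.Agent.Helper1.GMFl

open CategoryTheory CategoryTheory.Limits AlgebraicGeometry TopologicalSpace Opposite RelProj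
open Groth.Agent.Helper1.RP Groth.Agent.Helper1.TRM
open scoped HomogeneousIdeal

universe u

/-- restriction along an equality of opens is bijective -/
lemma bijective_map_of_eq {X : Scheme.{u}} (M : X.Modules) {O O' : X.Opens} (h : O = O') :
    Function.Bijective (M.presheaf.map (homOfLE h.le).op) := by
  subst h
  have h1 : (homOfLE (le_refl O)).op = 𝟙 (op O) := rfl
  rw [h1, M.presheaf.map_id]
  exact Function.bijective_id

variable {Y P : Scheme.{u}} {𝒮 : QCGrAlg Y} {p : P ⟶ Y}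
  {chart : ∀ (U : Y.Opens) (hU : IsAffineOpen U),
    (((p ⁻¹ᵁ U : P.Opens) : Scheme.{u}) ≅ Proj (𝒮.deg U hU))}

/-- the flatness hypothesis on the graded pieces, in equational form -/
theorem flatDeg_of_flat (U : Y.Opens) (hU : IsAffineOpen U) (d : ℕ)
    (h : letI := (𝒮.str.app (op U)).hom.toAlgebra
      Module.Flat Γ(Y, U)
        ↥(Submodule.span Γ(Y, U) (𝒮.deg U hU d : Set (𝒮.presheaf.obj (op U))))) :
    FlatDeg (𝒮.deg U hU) (𝒮.str.app (op U)).hom d := by
  letI := (𝒮.str.app (op U)).hom.toAlgebra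
  have hle : ∀ x ∈ Submodule.span Γ(Y, U) (𝒮.deg U hU d : Set (𝒮.presheaf.obj (op U))),
      x ∈ 𝒮.deg U hU d := by
    intro x hx
    induction hx using Submodule.span_induction with
    | mem x hx => exact hx
    | zero => exact zero_mem _
    | add x y _ _ hx hy => exact add_mem hx hy
    | smul r x _ hx =>
      have h1 : r • x = (𝒮.str.app (op U)).hom r * x := rfl
      rw [h1]
      have := SetLike.mul_mem_graded (𝒮.str_mem U hU r) hx
      rwa [zero_add] at this
  intro l r x hx hrel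
  let x' : Fin l → ↥(Submodule.span Γ(Y, U) (𝒮.deg U hU d : Set (𝒮.presheaf.obj (op U)))) :=
    fun i => ⟨x i, Submodule.subset_span (hx i)⟩
  have hrel' : ∑ i, r i • x' i = 0 := by
    apply Subtype.ext
    rw [Submodule.coe_sum]
    exact hrel
  obtain ⟨k, a, y', hxy, hra⟩ := Module.Flat.isTrivialRelation_of_sum_smul_eq_zero hrel'
  refine ⟨k, a, fun j => (y' j : 𝒮.presheaf.obj (op U)), fun j => hle _ (y' j).2, ?_, hra⟩
  intro i
  have h2 := congrArg Subtype.val (hxy i)
  rw [Submodule.coe_sum] at h2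
  exact h2

variable {n : ℤ} {L : P.Modules}
  {lam : ∀ (U : Y.Opens) (hU : IsAffineOpen U),
    L ⟶ (Scheme.Modules.pushforward (emb p chart U hU)).obj (GrTwist.twist (𝒮.deg U hU) n)}

/-- **flatness of `Γ(W, O_P(n))`** over `Γ(U, O_Y)` for `W` the standard chart `D₊(f)` -/
theorem flat_sections_relTwist (hP : IsRelProj 𝒮 p chart) (hL : IsRelTwist 𝒮 p chart n L lam)
    (U : Y.Opens) (hU : IsAffineOpen U) {e : ℕ} (he : 0 < e) (f : 𝒮.presheaf.obj (op U))
    (hf : f ∈ 𝒮.deg U hU e) (d₀ : ℕ)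
    (hfl : ∀ d, d₀ ≤ d → FlatDeg (𝒮.deg U hU) (𝒮.str.app (op U)).hom d)
    (W : P.Opens) (hW : W ≤ p ⁻¹ᵁ U)
    (hWD : emb p chart U hU ⁻¹ᵁ W = Proj.basicOpen (𝒮.deg U hU) f) :
    @Module.Flat Γ(Y, U) Γ(L, W) _ _ (Module.compHom _ (p.appLE U W hW).hom) := by
  set D := Proj.basicOpen (𝒮.deg U hU) f with hD
  let κ : Γ(Y, U) →+* Γ(Proj (𝒮.deg U hU), D) :=
    ((emb p chart U hU ≫ p).appLE U D (le_preimage_emb_p U hU _)).hom
  letI m1 : Module Γ(Y, U) Γ(L, W) := Module.compHom _ (p.appLE U W hW).hom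
  letI m2 : Module Γ(Y, U) Γ(GrMod.tilde (𝒮.deg U hU) (𝒮.deg U hU) n, D) := Module.compHom _ κ
  haveI hflat : Module.Flat Γ(Y, U) Γ(GrMod.tilde (𝒮.deg U hU) (𝒮.deg U hU) n, D) :=
    flat_sections (𝒮.deg U hU) (𝒮.str.app (op U)).hom (𝒮.str_mem U hU) he hf n d₀ hfl κ
      (fun r y => val_appLE_emb_p hP U hU he f hf r y)
  -- the comparison map
  let Φ : Γ(L, W) → Γ(GrMod.tilde (𝒮.deg U hU) (𝒮.deg U hU) n, D) := fun s =>
    (TR0.fwd (𝒮.deg U hU) n).app D
      ((GrTwist.twist (𝒮.deg U hU) n).presheaf.map (homOfLE hWD.ge).op (rd lam U hU W s))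
  have hΦadd : ∀ s t, Φ (s + t) = Φ s + Φ t := by
    intro s t
    change (TR0.fwd (𝒮.deg U hU) n).app D
      ((GrTwist.twist (𝒮.deg U hU) n).presheaf.map (homOfLE hWD.ge).op (rd lam U hU W (s + t))) = _
    rw [rd_add, map_add, map_add]
  have hscal : ∀ r : Γ(Y, U),
      (Proj (𝒮.deg U hU)).presheaf.map (homOfLE hWD.ge).op
        ((emb p chart U hU).app W ((p.appLE U W hW).hom r)) = κ r := by
    intro r
    have h1 : p.appLE U W hW ≫ (emb p chart U hU).appLE W D hWD.ge =
        (emb p chart U hU ≫ p).appLE U D (le_preimage_emb_p U hU _) :=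
      Scheme.Hom.appLE_comp_appLE _ _ _ _ _ _ _
    have h2 := congrArg (fun φ => φ.hom r) h1
    exact h2
  have hΦsmul : ∀ (r : Γ(Y, U)) (s : Γ(L, W)), Φ (r • s) = r • Φ s := by
    intro r s
    change (TR0.fwd (𝒮.deg U hU) n).app D
      ((GrTwist.twist (𝒮.deg U hU) n).presheaf.map (homOfLE hWD.ge).op
        (rd lam U hU W ((p.appLE U W hW).hom r • s))) = κ r • Φ s
    rw [rd_smul, Scheme.Modules.map_smul, Scheme.Modules.Hom.app_smul, hscal]
  have hΦbij : Function.Bijective Φ := by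
    have h1 : Function.Bijective (rd lam U hU W) := hL.bijective U hU W hW
    have h2 : Function.Bijective
        ((GrTwist.twist (𝒮.deg U hU) n).presheaf.map (homOfLE hWD.ge).op) :=
      bijective_map_of_eq _ hWD.symm
    have h3 : Function.Bijective ((TR0.fwd (𝒮.deg U hU) n).app D) := by
      refine Function.bijective_iff_has_inverse.2 ⟨(TR0.bwd (𝒮.deg U hU) n).app D, ?_, ?_⟩
      · intro t; rfl
      · intro t; rfl
    exact h3.comp (h2.comp h1)
  let Φl : Γ(L, W) →ₗ[Γ(Y, U)] Γ(GrMod.tilde (𝒮.deg U hU) (𝒮.deg U hU) n, D) :=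
    { toFun := Φ, map_add' := hΦadd, map_smul' := hΦsmul }
  exact Module.Flat.of_linearEquiv (LinearEquiv.ofBijective Φl hΦbij)

end Groth.Agent.Helper1.GMFl
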