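import Mathlib

/-!
# FlatConv1: algebra for the converse of the equational criterion of flatness
-/

set_option autoImplicit false
set_option linter.unusedSectionVars false
open TensorProduct

namespace Groth.Agent.Helper1.FlatConv

variable {A : Type*} [CommRing A]

/-- the data witnessing the vanishing of a sum of pure tensors -/
theorem vanish_data {M N : Type*} [AddCommGroup M] [Module A M] [AddCommGroup N] [Module A N]
    {K : ℕ} (m : Fin K → M) (n : Fin K → N) (h : ∑ k, m k ⊗ₜ[A] n k = 0) :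
    ∃ (r : ℕ) (m' : Fin r → M) (κ : ℕ) (y : Fin κ → N) (a : Fin K → Fin κ → A)
      (b : Fin r → Fin κ → A), (∀ k, n k = ∑ j, a k j • y j) ∧ (∀ i, ∑ j, b i j • y j = 0) ∧
        ∀ j, ∑ k, a k j • m k + ∑ i, b i j • m' i = 0 := by
  classical
  set M₀ : Submodule A M := Submodule.span A (Set.range m) with hM₀
  have hM₀fg : M₀.FG := Submodule.fg_span (Set.finite_range m)
  have hm₀ : ∀ k, m k ∈ M₀ := fun k => Submodule.subset_span ⟨k, rfl⟩
  let x₀ : M₀ ⊗[A] N := ∑ k, (⟨m k, hm₀ k⟩ : M₀) ⊗ₜ[A] n k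
  have hx₀ : M₀.subtype.rTensor N x₀ = M₀.subtype.rTensor N 0 := by
    simp only [x₀, map_sum, LinearMap.rTensor_tmul, Submodule.subtype_apply, map_zero]
    exact h
  obtain ⟨M₁, hM₁fg, hle, heq⟩ := hM₀fg.exists_rTensor_fg_inclusion_eq hx₀
  obtain ⟨r, m', hm'⟩ := Submodule.fg_iff_exists_fin_generating_family.1 hM₁fg
  have hm'₁ : ∀ i, m' i ∈ M₁ := fun i => hm' ▸ Submodule.subset_span ⟨i, rfl⟩
  let μ : Fin K ⊕ Fin r → M₁ := Sum.elim (fun k => ⟨m k, hle (hm₀ k)⟩) (fun i => ⟨m' i, hm'₁ i⟩)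
  let ν : Fin K ⊕ Fin r → N := Sum.elim n (fun _ => 0)
  have hspan : Submodule.span A (Set.range μ) = ⊤ := by
    apply Submodule.map_injective_of_injective M₁.injective_subtype
    rw [Submodule.map_span, Submodule.map_top, Submodule.range_subtype, ← Set.range_comp]
    apply le_antisymm
    · rw [Submodule.span_le]
      rintro _ ⟨i, rfl⟩
      exact (μ i).2
    · refine le_trans (le_of_eq hm'.symm) ?_
      apply Submodule.span_mono
      rintro _ ⟨i, rfl⟩
      exact ⟨Sum.inr i, rfl⟩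
  have hsum : ∑ i, μ i ⊗ₜ[A] ν i = 0 := by
    rw [Fintype.sum_sum_type]
    simp only [μ, ν, Sum.elim_inl, Sum.elim_inr, tmul_zero, Finset.sum_const_zero, add_zero]
    have := heq
    simp only [x₀, map_sum, LinearMap.rTensor_tmul, map_zero] at this
    exact this
  obtain ⟨κ, a', y, h1, h2⟩ := TensorProduct.vanishesTrivially_of_sum_tmul_eq_zero A hspan hsum
  refine ⟨r, m', κ, y, fun k j => a' (Sum.inl k) j, fun i j => a' (Sum.inr i) j, fun k => ?_,
    fun i => ?_, fun j => ?_⟩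
  · exact h1 (Sum.inl k)
  · exact (h1 (Sum.inr i)).symm
  · have h3 := congrArg M₁.subtype (h2 j)
    rw [Fintype.sum_sum_type, map_add, map_sum, map_sum, map_zero] at h3
    simpa [μ] using h3

variable {A : Type*} [CommRing A] {N : Type*} [AddCommGroup N] [Module A N]
  {ι κ π : Type*} [Fintype ι] [Fintype κ] [Fintype π]

theorem compose_factor (a : ι → κ → A) (e : κ → π → A) (t : κ → N) (u : π → N)
    (ht : ∀ k, t k = ∑ p, e k p • u p) (j : ι) :
    ∑ k, a j k • t k = ∑ p, (∑ k, a j k * e k p) • u p := by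
  simp_rw [ht, Finset.smul_sum, smul_smul, Finset.sum_smul]
  rw [Finset.sum_comm]

theorem compose_rel_old (a : ι → κ → A) (e : κ → π → A) (ρ : ι → A)
    (hold : ∀ k, ∑ j, a j k * ρ j = 0) (p : π) : ∑ j, (∑ k, a j k * e k p) * ρ j = 0 := by
  simp_rw [Finset.sum_mul]
  rw [Finset.sum_comm]
  refine Finset.sum_eq_zero (fun k _ => ?_)
  have : ∀ j, a j k * e k p * ρ j = e k p * (a j k * ρ j) := fun j => by ring
  simp_rw [this]
  rw [← Finset.mul_sum, hold k, mul_zero]

theorem compose_rel_new (a : ι → κ → A) (e : κ → π → A) (ρ : ι → A)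
    (hnew : ∀ p, ∑ k, e k p * (∑ j, a j k * ρ j) = 0) (p : π) :
    ∑ j, (∑ k, a j k * e k p) * ρ j = 0 := by
  rw [← hnew p]
  simp_rw [Finset.sum_mul, Finset.mul_sum]
  rw [Finset.sum_comm]
  refine Finset.sum_congr rfl (fun k _ => Finset.sum_congr rfl (fun j _ => ?_))
  ring

theorem relation_transfer (a : ι → κ → A) (ρ : ι → A) (s : ι → N) (t : κ → N)
    (hs : ∀ j, s j = ∑ k, a j k • t k) (hrel : ∑ j, ρ j • s j = 0) :
    ∑ k, (∑ j, a j k * ρ j) • t k = 0 := by
  rw [← hrel]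
  simp_rw [hs, Finset.smul_sum, smul_smul, Finset.sum_smul]
  rw [Finset.sum_comm]
  refine Finset.sum_congr rfl (fun j _ => Finset.sum_congr rfl (fun k _ => ?_))
  rw [mul_comm]

end Groth.Agent.Helper1.FlatConv
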