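import Mathlib
import Groth.Prelude.Def_ModSite
import Groth.Agent.Helper1.FlatConv1

/-!
# FlatConv2: from single relations to finitely many relations (equational criterion)
-/

set_option autoImplicit false
set_option linter.unusedSectionVars false
set_option backward.isDefEq.respectTransparency false
universe u
open CategoryTheory CategoryTheory.Limits Opposite

namespace Groth.Agent.Helper1.FlatConv

variable {C : Type u} [SmallCategory C] {J : GrothendieckTopology C} {O : Sheaf J CommRingCat.{u}}
  (F : ModSite.Mod O)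

/-- the relations `r` between the sections `s` over `V` are trivial -/
def Triv (V : C) {m n : ℕ} (r : Fin m → Fin n → O.obj.obj (op V)) (s : Fin n → ModSite.sect F V) :
    Prop :=
  ∃ (l : ℕ) (t : Fin l → ModSite.sect F V) (a : Fin n → Fin l → O.obj.obj (op V)),
    (∀ j, s j = ∑ k, a j k • t k) ∧ ∀ i k, ∑ j, a j k * r i j = 0

/-- the equational condition (single relations are locally trivial) -/
def EqCrit : Prop :=
  ∀ (U : C) (n : ℕ) (f : Fin n → O.obj.obj (op U)) (s : Fin n → ModSite.sect F U),
    ∑ j, f j • s j = 0 →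
    ∃ S ∈ J U, ∀ ⦃V : C⦄ (g : V ⟶ U), S g →
      ∃ (l : ℕ) (t : Fin l → ModSite.sect F V) (a : Fin n → Fin l → O.obj.obj (op V)),
        (∀ j, (F.val.map g.op).hom (s j) = ∑ k, a j k • t k) ∧
        (∀ k, ∑ j, a j k * (O.obj.map g.op).hom (f j) = 0)

theorem res_sum_smul {U V : C} (g : V ⟶ U) {ι : Type*} (s : Finset ι) (c : ι → O.obj.obj (op U))
    (x : ι → ModSite.sect F U) :
    (F.val.map g.op).hom (∑ i ∈ s, c i • x i) =
      ∑ i ∈ s, (O.obj.map g.op).hom (c i) • (F.val.map g.op).hom (x i) := by
  rw [map_sum]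
  exact Finset.sum_congr rfl (fun i _ => F.val.map_smul g.op (c i) (x i))

theorem res_comp {U V W : C} (g : V ⟶ U) (h : W ⟶ V) (x : ModSite.sect F U) :
    (F.val.map (h ≫ g).op).hom x = (F.val.map h.op).hom ((F.val.map g.op).hom x) := by
  rw [op_comp, F.val.map_comp]
  rfl

theorem resR_comp {U V W : C} (g : V ⟶ U) (h : W ⟶ V) (c : O.obj.obj (op U)) :
    (O.obj.map (h ≫ g).op).hom c = (O.obj.map h.op).hom ((O.obj.map g.op).hom c) := by
  rw [op_comp, O.obj.map_comp]
  rfl

/-- finitely many relations are locally trivial -/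
theorem multi (hE : EqCrit F) : ∀ (m : ℕ) (U : C) (n : ℕ) (r : Fin m → Fin n → O.obj.obj (op U))
    (s : Fin n → ModSite.sect F U), (∀ i, ∑ j, r i j • s j = 0) →
    ∃ S ∈ J U, ∀ ⦃V : C⦄ (g : V ⟶ U), S g →
      Triv F V (fun i j => (O.obj.map g.op).hom (r i j)) (fun j => (F.val.map g.op).hom (s j)) := by
  intro m
  induction m with
  | zero =>
    intro U n r s _
    refine ⟨⊤, J.top_mem U, fun V g _ => ?_⟩
    classical
    refine ⟨n, fun j => (F.val.map g.op).hom (s j), fun j k => if j = k then 1 else 0,
      fun j => ?_, fun i => Fin.elim0 i⟩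
    simp [ite_smul]
  | succ m ih =>
    intro U n r s hrel
    obtain ⟨S₁, hS₁, h₁⟩ := ih U n (fun i => r i.castSucc) s (fun i => hrel i.castSucc)
    have key : ∀ ⦃V : C⦄ (g : V ⟶ U), S₁ g → ∃ S₂ ∈ J V, ∀ ⦃W : C⦄ (h : W ⟶ V), S₂ h →
        Triv F W (fun i j => (O.obj.map (h ≫ g).op).hom (r i j))
          (fun j => (F.val.map (h ≫ g).op).hom (s j)) := by
      intro V g hg
      obtain ⟨l, t, a, hs0, hr0⟩ := h₁ g hg
      have hs : ∀ j, (F.val.map g.op).hom (s j) = ∑ k, a j k • t k := hs0
      have hr : ∀ (i : Fin m) (k : Fin l),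
          ∑ j, a j k * (O.obj.map g.op).hom (r i.castSucc j) = 0 := hr0
      -- the last relation, in terms of `t`
      have hlast : ∑ k, (∑ j, a j k * (O.obj.map g.op).hom (r (Fin.last m) j)) • t k = 0 := by
        refine relation_transfer a _ _ t hs ?_
        have e := congrArg (F.val.map g.op).hom (hrel (Fin.last m))
        rw [res_sum_smul, map_zero] at e
        exact e
      obtain ⟨S₂, hS₂, h₂⟩ := hE V l _ t hlast
      refine ⟨S₂, hS₂, fun W h hh => ?_⟩
      obtain ⟨l', u, e, ht, he⟩ := h₂ h hh
      refine ⟨l', u, fun j p => ∑ k, (O.obj.map h.op).hom (a j k) * e k p, fun j => ?_,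
        fun i p => ?_⟩
      · show (F.val.map (h ≫ g).op).hom (s j) =
          ∑ p, (∑ k, (O.obj.map h.op).hom (a j k) * e k p) • u p
        rw [res_comp, hs j, res_sum_smul]
        exact compose_factor (fun j k => (O.obj.map h.op).hom (a j k)) e
          (fun k => (F.val.map h.op).hom (t k)) u ht j
      · show ∑ j, (∑ k, (O.obj.map h.op).hom (a j k) * e k p) *
          (O.obj.map (h ≫ g).op).hom (r i j) = 0
        induction i using Fin.lastCases with
        | last =>
          refine compose_rel_new (fun j k => (O.obj.map h.op).hom (a j k)) e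
            (fun j => (O.obj.map (h ≫ g).op).hom (r (Fin.last m) j)) (fun p => ?_) p
          refine Eq.trans ?_ (he p)
          refine Finset.sum_congr rfl (fun k _ => ?_)
          congr 1
          rw [map_sum]
          refine Finset.sum_congr rfl (fun j _ => ?_)
          rw [map_mul, resR_comp]
        | cast i =>
          refine compose_rel_old (fun j k => (O.obj.map h.op).hom (a j k)) e
            (fun j => (O.obj.map (h ≫ g).op).hom (r i.castSucc j)) (fun k => ?_) p
          have e1 := congrArg (O.obj.map h.op).hom (hr i k)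
          rw [map_sum, map_zero] at e1
          refine Eq.trans ?_ e1
          refine Finset.sum_congr rfl (fun j _ => ?_)
          rw [map_mul, resR_comp]
    choose S₂ hS₂ h₂ using key
    refine ⟨Sieve.bind S₁ S₂, J.bind_covering hS₁ (fun V g hg => hS₂ g hg), ?_⟩
    intro W f hf
    obtain ⟨V, h, g, hg, hh, rfl⟩ := hf
    exact h₂ g hg h hh

end Groth.Agent.Helper1.FlatConv
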