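import Mathlib
import Groth.Agent.Helper3.SheafModLib

/-!
# LG1: epimorphisms of sheaves of modules on a small site are the locally surjective morphisms
-/

set_option autoImplicit false
universe u
open CategoryTheory CategoryTheory.Limits Opposite

namespace Groth.Agent.Helper1.LG

variable {C : Type u} [SmallCategory C] {J : GrothendieckTopology C} {R : Sheaf J RingCat.{u}}

theorem epi_iff_epi_toSheaf {M N : SheafOfModules.{u} R} (f : M ⟶ N) :
    Epi f ↔ Epi ((SheafOfModules.toSheaf R).map f) := by
  constructor
  · intro hf
    haveI : PreservesColimitsOfSize.{u, u} (SheafOfModules.toSheaf R) :=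
      Groth.Agent.Helper3.SheafModLib.toSheaf_preservesColimits R
    haveI : PreservesColimitsOfSize.{0, 0} (SheafOfModules.toSheaf R) :=
      preservesColimitsOfSize_shrink _
    infer_instance
  · intro hf
    exact (SheafOfModules.toSheaf R).epi_of_epi_map hf

/-- an epimorphism of sheaves of modules is locally surjective -/
theorem isLocallySurjective_iff_epi {M N : SheafOfModules.{u} R} (f : M ⟶ N) :
    Presheaf.IsLocallySurjective J ((PresheafOfModules.toPresheaf R.obj).map f.val) ↔ Epi f := by
  rw [epi_iff_epi_toSheaf]
  exact Sheaf.isLocallySurjective_iff_epi' (A := AddCommGrpCat.{u}) (φ := (SheafOfModules.toSheaf R).map f)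

end Groth.Agent.Helper1.LG
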