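import Mathlib
import Groth.Agent.Helper1.LG1

/-!
# LG2: finitely many generating sections of a sheaf of modules on a small site, elementwise
-/

set_option autoImplicit false
universe u
open CategoryTheory CategoryTheory.Limits Opposite

namespace Groth.Agent.Helper1.LG

variable {C : Type u} [SmallCategory C] {J : GrothendieckTopology C} {R : Sheaf J RingCat.{u}}

/-- the value of a morphism of sheaves of modules on sections over an object, as a linear map -/
noncomputable def appLin {M N : SheafOfModules.{u} R} (f : M ⟶ N) (X : C) :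
    M.val.obj (op X) →ₗ[R.obj.obj (op X)] N.val.obj (op X) := (f.val.app (op X)).hom

theorem appLin_comp {M N P : SheafOfModules.{u} R} (f : M ⟶ N) (g : N ⟶ P) (X : C)
    (m : M.val.obj (op X)) : appLin (f ≫ g) X m = appLin g X (appLin f X m) := rfl

theorem appLin_sum {M N : SheafOfModules.{u} R} {I : Type*} (s : Finset I) (f : I → (M ⟶ N))
    (X : C) (m : M.val.obj (op X)) : appLin (∑ i ∈ s, f i) X m = ∑ i ∈ s, appLin (f i) X m := by
  classical
  induction s using Finset.induction_on with
  | empty => simp only [Finset.sum_empty]; rfl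
  | insert a s ha ih =>
    rw [Finset.sum_insert ha, Finset.sum_insert ha, ← ih]
    rfl

theorem appLin_id {M : SheafOfModules.{u} R} (X : C) (m : M.val.obj (op X)) :
    appLin (𝟙 M) X m = m := rfl

/-- the value of a section over an object -/
def secAt {N : SheafOfModules.{u} R} (s : N.sections) (X : C) : N.val.obj (op X) := s.val (op X)

theorem secAt_map {N : SheafOfModules.{u} R} (s : N.sections) {X Y : C} (g : Y ⟶ X) :
    N.val.map g.op (secAt s X) = secAt s Y := s.property g.op

theorem secAt_sectionsMap {M N : SheafOfModules.{u} R} (f : M ⟶ N) (s : M.sections) (X : C) :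
    secAt (SheafOfModules.sectionsMap f s) X = appLin f X (secAt s X) := rfl

/-- the value of the morphism `unit ⟶ N` attached to a section -/
theorem appLin_unitHomEquiv_symm (N : SheafOfModules.{u} R) (s : N.sections) (X : C)
    (a : R.obj.obj (op X)) :
    appLin (N.unitHomEquiv.symm s) X (show (SheafOfModules.unit R).val.obj (op X) from a) =
      a • secAt s X := by
  have h1 : (N.unitHomEquiv (N.unitHomEquiv.symm s)).val (op X) = s.val (op X) := by
    rw [Equiv.apply_symm_apply]
  rw [SheafOfModules.unitHomEquiv_apply_coe] at h1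
  have h1' : appLin (N.unitHomEquiv.symm s) X
      (show (SheafOfModules.unit R).val.obj (op X) from (1 : R.obj.obj (op X))) = secAt s X := h1
  have h2 : (show (SheafOfModules.unit R).val.obj (op X) from a) =
      a • (show (SheafOfModules.unit R).val.obj (op X) from (1 : R.obj.obj (op X))) := by
    change a = a * 1
    rw [mul_one]
  calc appLin (N.unitHomEquiv.symm s) X (show (SheafOfModules.unit R).val.obj (op X) from a)
      = appLin (N.unitHomEquiv.symm s) X
          (a • (show (SheafOfModules.unit R).val.obj (op X) from (1 : R.obj.obj (op X)))) :=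
        congrArg _ h2
    _ = a • appLin (N.unitHomEquiv.symm s) X
          (show (SheafOfModules.unit R).val.obj (op X) from (1 : R.obj.obj (op X))) :=
        map_smul _ _ _
    _ = a • secAt s X := by rw [h1']

theorem sigma_total {D : Type*} [Category D] [Preadditive D] {I : Type*} [Fintype I]
    [DecidableEq I] (A : D) [HasCoproduct (fun _ : I => A)] :
    ∑ i, Sigma.desc (fun j : I => if j = i then 𝟙 A else 0) ≫ Sigma.ι (fun _ : I => A) i =
      𝟙 (∐ fun _ : I => A) := by
  apply Sigma.hom_ext
  intro j
  rw [Preadditive.comp_sum, Category.comp_id, Finset.sum_eq_single j]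
  · rw [Sigma.ι_desc_assoc, if_pos rfl, Category.id_comp]
  · intro i _ hij
    rw [Sigma.ι_desc_assoc, if_neg (Ne.symm hij), zero_comp]
  · intro h; exact absurd (Finset.mem_univ j) h

/-- elementwise form of finitely many generating sections -/
theorem exists_cover_combination (N : SheafOfModules.{u} R) (σ : N.GeneratingSections)
    [Fintype σ.I] (X : C) (t : N.val.obj (op X)) :
    ∃ S ∈ J X, ∀ ⦃Y : C⦄ (g : Y ⟶ X), S g → ∃ a : σ.I → R.obj.obj (op Y),
      N.val.map g.op t = ∑ i, a i • secAt (σ.s i) Y := by
  classical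
  haveI : Epi σ.π := σ.epi
  have hls := (isLocallySurjective_iff_epi σ.π).2 inferInstance
  refine ⟨_, hls.imageSieve_mem t, fun Y g hg => ?_⟩
  obtain ⟨z, hz⟩ : ∃ z : (SheafOfModules.free (R := R) σ.I).val.obj (op Y),
      appLin σ.π Y z = N.val.map g.op t := hg
  let p : σ.I → ((SheafOfModules.free (R := R) σ.I) ⟶ SheafOfModules.unit R) := fun i =>
    Sigma.desc (fun j : σ.I => if j = i then 𝟙 (SheafOfModules.unit R) else 0)
  have htot : ∑ i, p i ≫ SheafOfModules.ιFree (R := R) i = 𝟙 _ :=
    sigma_total (SheafOfModules.unit R)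
  have h1 : z = ∑ i, appLin (SheafOfModules.ιFree (R := R) i) Y (appLin (p i) Y z) := by
    have h2 := appLin_sum Finset.univ (fun i => p i ≫ SheafOfModules.ιFree (R := R) i) Y z
    rw [htot] at h2
    exact h2
  have h3 : ∀ i, SheafOfModules.ιFree (R := R) i ≫ σ.π = N.unitHomEquiv.symm (σ.s i) := by
    intro i
    rw [← SheafOfModules.unitHomEquiv_symm_freeHomEquiv_apply]
    congr 1
    change N.freeHomEquiv (N.freeHomEquiv.symm σ.s) i = σ.s i
    rw [Equiv.apply_symm_apply]
  refine ⟨fun i => (show R.obj.obj (op Y) from appLin (p i) Y z), ?_⟩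
  rw [← hz]
  conv_lhs => rw [h1]
  rw [map_sum]
  refine Finset.sum_congr rfl (fun i _ => ?_)
  rw [← appLin_comp, h3]
  exact appLin_unitHomEquiv_symm N (σ.s i) Y _

/-- sections which generate locally give an epimorphism from the free module -/
theorem epi_of_cover_combination (N : SheafOfModules.{u} R) {I : Type u} [Fintype I]
    (s : I → N.sections)
    (h : ∀ (X : C) (t : N.val.obj (op X)), ∃ S ∈ J X, ∀ ⦃Y : C⦄ (g : Y ⟶ X), S g →
      ∃ a : I → R.obj.obj (op Y), N.val.map g.op t = ∑ i, a i • secAt (s i) Y) :
    Epi (N.freeHomEquiv.symm s) := by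
  rw [← isLocallySurjective_iff_epi]
  constructor
  intro X t
  obtain ⟨S, hS, hSt⟩ := h X t
  refine J.superset_covering ?_ hS
  intro Y g hg
  obtain ⟨a, ha⟩ := hSt g hg
  obtain ⟨z, hz⟩ : ∃ z : (SheafOfModules.free (R := R) I).val.obj (op Y),
      z = ∑ i, a i • secAt (SheafOfModules.freeSection (R := R) i) Y := ⟨_, rfl⟩
  refine ⟨z, ?_⟩
  change appLin (N.freeHomEquiv.symm s) Y z = N.val.map g.op t
  rw [ha, hz, map_sum]
  refine Finset.sum_congr rfl (fun i _ => ?_)
  rw [map_smul, ← secAt_sectionsMap, SheafOfModules.sectionsMap_freeHomEquiv_symm_freeSection]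

end Groth.Agent.Helper1.LG
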