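import Mathlib
import Groth.Prelude.Def_ModSite
import Groth.Agent.Helper1.LG2

/-!
# FlatEq1: sections over a terminal object, coordinates on finite free sheaves of modules
-/

set_option autoImplicit false
set_option linter.unusedSectionVars false
universe u
open CategoryTheory CategoryTheory.Limits Opposite

namespace Groth.Agent.Helper1.FlatEq

open Groth.Agent.Helper1.LG

variable {D : Type u} [SmallCategory D] {K : GrothendieckTopology D} {R : Sheaf K RingCat.{u}}

section Terminal

variable {T : D} (hT : IsTerminal T)

/-- global sections are sections over a terminal object -/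
noncomputable def secT (M : SheafOfModules.{u} R) : M.sections ≃ M.val.obj (op T) where
  toFun s := secAt s T
  invFun x := PresheafOfModules.sectionsMk (M := M.val)
    (fun Y => M.val.map (hT.from Y.unop).op x) (by
      intro Y Y' g
      have hw : g.unop ≫ hT.from Y.unop = hT.from Y'.unop := hT.hom_ext _ _
      have key : M.val.presheaf.map (hT.from Y.unop).op ≫ M.val.presheaf.map g =
          M.val.presheaf.map (hT.from Y'.unop).op := by
        rw [← Functor.map_comp, ← hw]
        rfl
      exact ConcreteCategory.congr_hom key x)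
  left_inv s := by
    ext Y
    exact s.property (hT.from Y.unop).op
  right_inv x := by
    have h1 : hT.from T = 𝟙 T := hT.hom_ext _ _
    show M.val.presheaf.map (hT.from T).op x = x
    rw [h1, op_id, M.val.presheaf.map_id]
    rfl

theorem secAt_secT_symm (M : SheafOfModules.{u} R) (x : M.val.obj (op T)) (Y : D) :
    secAt ((secT hT M).symm x) Y = M.val.map (hT.from Y).op x := rfl

/-- morphisms out of the unit are sections over the terminal object -/
noncomputable def homT (M : SheafOfModules.{u} R) :
    (SheafOfModules.unit R ⟶ M) ≃ M.val.obj (op T) :=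
  M.unitHomEquiv.trans (secT hT M)

theorem homT_comp {M N : SheafOfModules.{u} R} (f : SheafOfModules.unit R ⟶ M) (g : M ⟶ N) :
    homT hT N (f ≫ g) = appLin g T (homT hT M f) := rfl

theorem appLin_homT_symm (M : SheafOfModules.{u} R) (x : M.val.obj (op T)) (Y : D)
    (c : R.obj.obj (op Y)) :
    appLin ((homT hT M).symm x) Y (show (SheafOfModules.unit R).val.obj (op Y) from c) =
      c • M.val.map (hT.from Y).op x :=
  appLin_unitHomEquiv_symm M ((secT hT M).symm x) Y c

theorem homT_zero (M : SheafOfModules.{u} R) : homT hT M 0 = 0 := rfl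

end Terminal

section Coord

variable {I : Type u} [Fintype I] [DecidableEq I]

/-- the coordinate projections of a finite free module -/
noncomputable def pr (i : I) : SheafOfModules.free (R := R) I ⟶ SheafOfModules.unit R :=
  Sigma.desc (fun j : I => if j = i then 𝟙 (SheafOfModules.unit R) else 0)

theorem ι_pr (i j : I) :
    SheafOfModules.ιFree (R := R) j ≫ pr i = if j = i then 𝟙 (SheafOfModules.unit R) else 0 :=
  Sigma.ι_desc _ _

theorem pr_total : ∑ i : I, pr (R := R) i ≫ SheafOfModules.ιFree (R := R) i = 𝟙 _ :=
  sigma_total (SheafOfModules.unit R)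

/-- the basis sections -/
noncomputable def eb (i : I) (Y : D) : (SheafOfModules.free (R := R) I).val.obj (op Y) :=
  secAt (SheafOfModules.freeSection (R := R) i) Y

theorem ιFree_eq (i : I) : SheafOfModules.ιFree (R := R) i =
    (SheafOfModules.free (R := R) I).unitHomEquiv.symm (SheafOfModules.freeSection i) := by
  have h := SheafOfModules.unitHomEquiv_symm_freeHomEquiv_apply
    (𝟙 (SheafOfModules.free (R := R) I)) i
  rw [Category.comp_id] at h
  exact h.symm

theorem appLin_ιFree (i : I) (Y : D) (c : R.obj.obj (op Y)) :
    appLin (SheafOfModules.ιFree (R := R) i) Y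
      (show (SheafOfModules.unit R).val.obj (op Y) from c) = c • eb i Y := by
  rw [ιFree_eq]
  exact appLin_unitHomEquiv_symm _ _ Y c

theorem decomp (Y : D) (z : (SheafOfModules.free (R := R) I).val.obj (op Y)) :
    z = ∑ i, appLin (SheafOfModules.ιFree (R := R) i) Y (appLin (pr i) Y z) := by
  have h2 := appLin_sum Finset.univ (fun i => pr (R := R) i ≫ SheafOfModules.ιFree (R := R) i) Y z
  rw [pr_total] at h2
  exact h2

theorem appLin_free {M : SheafOfModules.{u} R} (f : SheafOfModules.free (R := R) I ⟶ M) (Y : D)
    (z : (SheafOfModules.free (R := R) I).val.obj (op Y)) :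
    appLin f Y z = ∑ i, (show R.obj.obj (op Y) from appLin (pr i) Y z) •
      secAt (M.freeHomEquiv f i) Y := by
  conv_lhs => rw [decomp Y z]
  rw [map_sum]
  refine Finset.sum_congr rfl (fun i _ => ?_)
  rw [← appLin_comp, ← SheafOfModules.unitHomEquiv_symm_freeHomEquiv_apply]
  exact appLin_unitHomEquiv_symm M _ Y _

theorem eb_eq (i : I) (Y : D) : eb (R := R) i Y =
    appLin (SheafOfModules.ιFree (R := R) i) Y
      (show (SheafOfModules.unit R).val.obj (op Y) from (1 : R.obj.obj (op Y))) := by
  rw [appLin_ιFree, one_smul]

theorem pr_eb (i j : I) (Y : D) : appLin (pr (R := R) i) Y (eb j Y) =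
    if j = i then (show (SheafOfModules.unit R).val.obj (op Y) from (1 : R.obj.obj (op Y)))
    else 0 := by
  rw [eb_eq, ← appLin_comp, ι_pr]
  split_ifs
  · rfl
  · rfl

theorem eb_map (i : I) {Y V : D} (g : V ⟶ Y) :
    (SheafOfModules.free (R := R) I).val.map g.op (eb i Y) = eb i V :=
  secAt_map _ g

theorem appLin_map {M N : SheafOfModules.{u} R} (f : M ⟶ N) {Y V : D} (g : V ⟶ Y)
    (m : M.val.obj (op Y)) :
    appLin f V (M.val.map g.op m) = N.val.map g.op (appLin f Y m) :=
  PresheafOfModules.naturality_apply f.val g.op m

end Coord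

section Rel

variable {T : D} (hT : IsTerminal T) {I I' : Type u} [Fintype I] [DecidableEq I]
  [Fintype I'] [DecidableEq I']

/-- a relation, as a morphism `free I ⟶ unit` -/
noncomputable def relHom (ρ : I → (SheafOfModules.unit R).val.obj (op T)) :
    SheafOfModules.free (R := R) I ⟶ SheafOfModules.unit R :=
  ((SheafOfModules.unit R).freeHomEquiv).symm (fun j => (secT hT _).symm (ρ j))

theorem appLin_relHom (ρ : I → (SheafOfModules.unit R).val.obj (op T)) (Y : D)
    (z : (SheafOfModules.free (R := R) I).val.obj (op Y)) :
    appLin (relHom hT ρ) Y z = ∑ j, (show R.obj.obj (op Y) from appLin (pr j) Y z) •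
      (SheafOfModules.unit R).val.map (hT.from Y).op (ρ j) := by
  rw [appLin_free]
  refine Finset.sum_congr rfl (fun j _ => ?_)
  unfold relHom
  rw [Equiv.apply_symm_apply]
  rfl

theorem relHom_eb (ρ : I → (SheafOfModules.unit R).val.obj (op T)) (j : I) :
    appLin (relHom hT ρ) T (eb j T) = ρ j := by
  have h := SheafOfModules.sectionsMap_freeHomEquiv_symm_freeSection
    (M := SheafOfModules.unit R) (fun j => (secT hT _).symm (ρ j)) j
  have h2 := congrArg (fun s => secT hT _ s) h
  simp only [Equiv.apply_symm_apply] at h2
  exact h2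

/-- a finite family of relations, as a morphism `free I ⟶ free I'` -/
noncomputable def relMap (r : I' → I → (SheafOfModules.unit R).val.obj (op T)) :
    SheafOfModules.free (R := R) I ⟶ SheafOfModules.free (R := R) I' :=
  ∑ i, relHom hT (r i) ≫ SheafOfModules.ιFree (R := R) i

theorem relMap_pr (r : I' → I → (SheafOfModules.unit R).val.obj (op T)) (i : I') :
    relMap hT r ≫ pr i = relHom hT (r i) := by
  unfold relMap
  rw [Preadditive.sum_comp, Finset.sum_eq_single i]
  · rw [Category.assoc, ι_pr, if_pos rfl, Category.comp_id]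
  · intro i' _ hi'
    rw [Category.assoc, ι_pr, if_neg hi', comp_zero]
  · intro h; exact absurd (Finset.mem_univ i) h

end Rel

end Groth.Agent.Helper1.FlatEq
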