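import Mathlib
import Groth.Prelude.Def_ModSite
import Groth.Agent.Helper1.FlatEq1
import Groth.Agent.Helper9.TensorFlat

/-!
# FlatEq2: the equational criterion of flatness on a ringed site with a terminal object
-/

set_option autoImplicit false
set_option linter.unusedSectionVars false
set_option backward.isDefEq.respectTransparency false
universe u
open CategoryTheory CategoryTheory.Limits Opposite MonoidalCategory TensorProduct

namespace Groth.Agent.Helper1.FlatEq

open Groth.Agent.Helper1.LG Groth.Agent.Helper9.TensorLoc Groth.Agent.Helper9.TensorSh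
  Groth.Agent.Helper9.TensorAdj Groth.Agent.Helper9.TensorFlat

variable {D : Type u} [SmallCategory D] {K : GrothendieckTopology D} {O : Sheaf K CommRingCat.{u}}
  (H : ModSite.Mod O)

/-- finite-sum representation of a tensor -/
theorem exists_fin_tmul {A : Type*} [CommRing A] {M N : Type*} [AddCommGroup M] [Module A M]
    [AddCommGroup N] [Module A N] (x : M ⊗[A] N) :
    ∃ (l : ℕ) (y : Fin l → M) (t : Fin l → N), x = ∑ k, y k ⊗ₜ[A] t k := by
  induction x using TensorProduct.induction_on with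
  | zero => exact ⟨0, Fin.elim0, Fin.elim0, by simp⟩
  | tmul m n => exact ⟨1, fun _ => m, fun _ => n, by simp⟩
  | add x x' hx hx' =>
    obtain ⟨l, y, t, rfl⟩ := hx
    obtain ⟨l', y', t', rfl⟩ := hx'
    refine ⟨l + l', Fin.append y y', Fin.append t t', ?_⟩
    rw [Fin.sum_univ_add]
    simp only [Fin.append_left, Fin.append_right]

/-- the presheaf tensor product, on sections -/
abbrev PT (M : ModSite.Mod O) (Y : D) : Type u := ((ι O).obj M ⊗ (ι O).obj H).obj (op Y)

/-- pure tensors -/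
noncomputable def tm (M : ModSite.Mod O) (Y : D) (m : M.val.obj (op Y)) (h : H.val.obj (op Y)) :
    PT H M Y :=
  (show ((ι O).obj M).obj (op Y) from m) ⊗ₜ[(O.obj ⋙ forget₂ CommRingCat RingCat).obj (op Y)]
    (show ((ι O).obj H).obj (op Y) from h)

theorem tm_smul (M : ModSite.Mod O) (Y : D) (c : O.obj.obj (op Y))
    (m : M.val.obj (op Y)) (h : H.val.obj (op Y)) :
    tm H M Y (c • m) h = tm H M Y m (c • h) :=
  TensorProduct.smul_tmul (R := (O.obj ⋙ forget₂ CommRingCat RingCat).obj (op Y))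
    (R' := (O.obj ⋙ forget₂ CommRingCat RingCat).obj (op Y)) c _ _

theorem tm_zero (M : ModSite.Mod O) (Y : D) (m : M.val.obj (op Y)) : tm H M Y m 0 = 0 :=
  TensorProduct.tmul_zero _ _

theorem tm_sum {ι' : Type*} (s : Finset ι') (M : ModSite.Mod O) (Y : D) (m : M.val.obj (op Y))
    (h : ι' → H.val.obj (op Y)) :
    tm H M Y m (∑ i ∈ s, h i) = ∑ i ∈ s, tm H M Y m (h i) :=
  TensorProduct.tmul_sum _ _ _

theorem exists_fin_tm (M : ModSite.Mod O) (Y : D) (x : PT H M Y) :
    ∃ (l : ℕ) (y : Fin l → M.val.obj (op Y)) (t : Fin l → H.val.obj (op Y)),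
      x = ∑ k, tm H M Y (y k) (t k) :=
  exists_fin_tmul (A := (O.obj ⋙ forget₂ CommRingCat RingCat).obj (op Y))
    (M := ((ι O).obj M).obj (op Y)) (N := ((ι O).obj H).obj (op Y)) x

theorem whisker_tm {M M' : ModSite.Mod O} (f : M ⟶ M') (Y : D) (m : M.val.obj (op Y))
    (h : H.val.obj (op Y)) :
    ((ι O).map f ▷ (ι O).obj H).app (op Y) (tm H M Y m h) = tm H M' Y (appLin f Y m) h := rfl

theorem res_tm (M : ModSite.Mod O) {Y V : D} (g : V ⟶ Y) (m : M.val.obj (op Y))
    (h : H.val.obj (op Y)) :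
    res ((ι O).obj M ⊗ (ι O).obj H) g.op (tm H M Y m h) =
      tm H M V (M.val.map g.op m) (H.val.map g.op h) := rfl

/-- the canonical map from the presheaf tensor product to the sheaf tensor product, on sections -/
noncomputable def tη (M : ModSite.Mod O) (Y : D) :
    PT H M Y → ((TN H).obj M).val.obj (op Y) :=
  fun w => (η O ((ι O).obj M ⊗ (ι O).obj H)).app (op Y) w

theorem tη_add (M : ModSite.Mod O) (Y : D) (w w' : PT H M Y) :
    tη H M Y (w + w') = tη H M Y w + tη H M Y w' := map_add _ _ _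

theorem tη_zero (M : ModSite.Mod O) (Y : D) : tη H M Y 0 = 0 := map_zero _

theorem tη_sub (M : ModSite.Mod O) (Y : D) (w w' : PT H M Y) :
    tη H M Y (w - w') = tη H M Y w - tη H M Y w' := map_sub _ _ _

theorem tη_map {M M' : ModSite.Mod O} (f : M ⟶ M') (Y : D) (w : PT H M Y) :
    appLin ((TN H).map f) Y (tη H M Y w) =
      tη H M' Y (((ι O).map f ▷ (ι O).obj H).app (op Y) w) := by
  have h : η O ((ι O).obj M ⊗ (ι O).obj H) ≫ (ι O).map ((TN H).map f) =
      ((ι O).map f ▷ (ι O).obj H) ≫ η O ((ι O).obj M' ⊗ (ι O).obj H) :=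
    ((adj O).unit.naturality ((ι O).map f ▷ (ι O).obj H)).symm
  have h2 := congrArg (fun φ => (φ.app (op Y)) w) h
  exact h2

theorem tη_res (M : ModSite.Mod O) {Y V : D} (g : V ⟶ Y) (w : PT H M Y) :
    ((TN H).obj M).val.map g.op (tη H M Y w) =
      tη H M V (res ((ι O).obj M ⊗ (ι O).obj H) g.op w) :=
  (PresheafOfModules.naturality_apply (η O ((ι O).obj M ⊗ (ι O).obj H)) g.op w).symm

variable {T : D} (hT : IsTerminal T) {I I' : Type u} [Fintype I] [DecidableEq I]
  [Fintype I'] [DecidableEq I']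

/-- the section `∑ e_j ⊗ s_j` of the presheaf tensor product -/
noncomputable def σw (Y : D) (s : I → H.val.obj (op Y)) :
    PT H (SheafOfModules.free (R := ModSite.ringSh O) I) Y :=
  ∑ j, tm H _ Y (eb (R := ModSite.ringSh O) j Y) (s j)

theorem whisker_σw {M' : ModSite.Mod O} (f : SheafOfModules.free (R := ModSite.ringSh O) I ⟶ M')
    (Y : D) (s : I → H.val.obj (op Y)) :
    ((ι O).map f ▷ (ι O).obj H).app (op Y) (σw H Y s) =
      ∑ j, tm H M' Y (appLin f Y (eb (R := ModSite.ringSh O) j Y)) (s j) := by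
  unfold σw
  rw [map_sum]
  rfl

theorem res_σw {Y V : D} (g : V ⟶ Y) (s : I → H.val.obj (op Y)) :
    res ((ι O).obj (SheafOfModules.free (R := ModSite.ringSh O) I) ⊗ (ι O).obj H) g.op (σw H Y s) =
      σw H V (fun j => H.val.map g.op (s j)) := by
  unfold σw
  rw [map_sum]
  refine Finset.sum_congr rfl (fun j _ => ?_)
  rw [res_tm, eb_map]

/-- a family of ring sections, as sections of the unit module -/
abbrev toU (Y : D) (c : O.obj.obj (op Y)) : (ModSite.unit O).val.obj (op Y) := c

theorem whisker_relHom_σw (ρ : I → O.obj.obj (op T)) (s : I → H.val.obj (op T))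
    (hrel : ∑ j, ρ j • s j = 0) :
    ((ι O).map (relHom hT (fun j => toU T (ρ j))) ▷ (ι O).obj H).app (op T) (σw H T s) = 0 := by
  rw [whisker_σw]
  have h1 : ∀ j : I, tm H (ModSite.unit O) T
      (appLin (relHom hT (fun j => toU T (ρ j))) T (eb (R := ModSite.ringSh O) j T)) (s j) =
      tm H (ModSite.unit O) T (toU T 1) (ρ j • s j) := by
    intro j
    rw [relHom_eb, ← tm_smul]
    congr 1
    change ρ j = ρ j * 1
    rw [mul_one]
  rw [Finset.sum_congr rfl (fun j _ => h1 j), ← tm_sum, hrel, tm_zero]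


/-- the left unitor on sections -/
noncomputable def lu (Y : D) : PT H (ModSite.unit O) Y → H.val.obj (op Y) :=
  fun w => (λ_ ((ι O).obj H)).hom.app (op Y) w

theorem lu_tm (Y : D) (c : O.obj.obj (op Y)) (h : H.val.obj (op Y)) :
    lu H Y (tm H (ModSite.unit O) Y (toU Y c) h) = c • h := rfl

theorem lu_add (Y : D) (w w' : PT H (ModSite.unit O) Y) : lu H Y (w + w') = lu H Y w + lu H Y w' :=
  map_add _ _ _

theorem lu_sum {ι' : Type*} (s : Finset ι') (Y : D) (w : ι' → PT H (ModSite.unit O) Y) :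
    lu H Y (∑ i ∈ s, w i) = ∑ i ∈ s, lu H Y (w i) :=
  map_sum ((λ_ ((ι O).obj H)).hom.app (op Y)).hom _ _

/-- extraction of the `j`-th coordinate -/
noncomputable def ex (j : I) (Y : D) :
    PT H (SheafOfModules.free (R := ModSite.ringSh O) I) Y → H.val.obj (op Y) :=
  fun w => lu H Y (((ι O).map (pr (R := ModSite.ringSh O) j) ▷ (ι O).obj H).app (op Y) w)

theorem ex_sum_tm (j : I) (Y : D) {l : ℕ}
    (z : Fin l → (SheafOfModules.free (R := ModSite.ringSh O) I).val.obj (op Y))
    (t : Fin l → H.val.obj (op Y)) :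
    ex H j Y (∑ k, tm H _ Y (z k) (t k)) =
      ∑ k, (show O.obj.obj (op Y) from appLin (pr (R := ModSite.ringSh O) j) Y (z k)) • t k := by
  unfold ex
  rw [map_sum, lu_sum]
  rfl

theorem ex_σw (j : I) (Y : D) (s : I → H.val.obj (op Y)) : ex H j Y (σw H Y s) = s j := by
  unfold ex
  rw [whisker_σw, lu_sum, Finset.sum_eq_single j]
  · rw [pr_eb, if_pos rfl]
    exact one_smul _ _
  · intro j' _ hj'
    rw [pr_eb, if_neg hj']
    exact zero_smul _ _
  · intro h; exact absurd (Finset.mem_univ j) h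


section Main

variable (r : I' → I → O.obj.obj (op T))

/-- the morphism of relations -/
noncomputable abbrev rM : SheafOfModules.free (R := ModSite.ringSh O) I ⟶
    SheafOfModules.free (R := ModSite.ringSh O) I' :=
  relMap hT (fun i j => toU T (r i j))

include hT in
theorem exists_lift (hH : ModSite.IsFlat H)
    (σ : ModSite.unit O ⟶ (TN H).obj (SheafOfModules.free (R := ModSite.ringSh O) I))
    (hσ : ∀ i, σ ≫ (TN H).map (relHom hT (fun j => toU T (r i j))) = 0) :
    ∃ τ : ModSite.unit O ⟶ (TN H).obj (kernel (rM hT r)),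
      τ ≫ (TN H).map (kernel.ι (rM hT r)) = σ := by
  have h0 : σ ≫ (TN H).map (rM hT r) = 0 := by
    unfold rM relMap
    rw [Functor.map_sum, Preadditive.comp_sum]
    refine Finset.sum_eq_zero (fun i _ => ?_)
    rw [Functor.map_comp, ← Category.assoc, hσ i, zero_comp]
  have : PreservesFiniteLimits (TN H) := hH.1
  refine ⟨kernel.lift ((TN H).map (rM hT r)) σ h0 ≫ (PreservesKernel.iso (TN H) (rM hT r)).inv, ?_⟩
  rw [Category.assoc, PreservesKernel.iso_inv_ι, kernel.lift_ι]

theorem rel_ker (i : I') (Y : D) (y : (kernel (rM hT r)).val.obj (op Y)) :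
    ∑ j, (O.obj.map (hT.from Y).op).hom (r i j) *
      (show O.obj.obj (op Y) from appLin (pr (R := ModSite.ringSh O) j) Y
        (appLin (kernel.ι (rM hT r)) Y y)) = 0 := by
  have h1 : kernel.ι (rM hT r) ≫ relHom hT (fun j => toU T (r i j)) = 0 := by
    rw [← relMap_pr hT (fun i j => toU T (r i j)) i, ← Category.assoc]
    show (kernel.ι (rM hT r) ≫ rM hT r) ≫ _ = 0
    rw [kernel.condition, zero_comp]
  have h2 : appLin (relHom hT (fun j => toU T (r i j))) Y (appLin (kernel.ι (rM hT r)) Y y) = 0 := by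
    rw [← appLin_comp, h1]
    rfl
  rw [appLin_relHom] at h2
  refine Eq.trans (Finset.sum_congr rfl (fun j _ => ?_)) h2
  exact mul_comm _ _


include hT in
/-- the equational criterion of flatness for finitely many relations, over a terminal object -/
theorem flat_relations_terminal (hH : ModSite.IsFlat H) (s : I → H.val.obj (op T))
    (hrel : ∀ i, ∑ j, r i j • s j = 0) :
    ∃ S ∈ K T, ∀ ⦃W : D⦄ (f : W ⟶ T), S f →
      ∃ (l : ℕ) (t : Fin l → H.val.obj (op W)) (a : I → Fin l → O.obj.obj (op W)),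
        (∀ j, H.val.map f.op (s j) = ∑ k, a j k • t k) ∧
        ∀ i k, ∑ j, (O.obj.map f.op).hom (r i j) * a j k = 0 := by
  -- the section `σ`
  let σ : ModSite.unit O ⟶ (TN H).obj (SheafOfModules.free (R := ModSite.ringSh O) I) :=
    (homT hT _).symm (tη H _ T (σw H T s))
  have hσT : homT hT _ σ = tη H _ T (σw H T s) := Equiv.apply_symm_apply _ _
  have hσ : ∀ i, σ ≫ (TN H).map (relHom hT (fun j => toU T (r i j))) = 0 := by
    intro i
    apply (homT hT _).injective
    rw [homT_comp, hσT, tη_map, whisker_relHom_σw H hT (r i) s (hrel i), tη_zero]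
    rfl
  obtain ⟨τ, hτ⟩ := exists_lift H hT r hH σ hσ
  -- local representation of `τ`
  obtain ⟨S₁, hS₁, h₁⟩ := locSurj_η (O := O) ((ι O).obj (kernel (rM hT r)) ⊗ (ι O).obj H) T
    (homT hT _ τ)
  have key : ∀ ⦃V : D⦄ (g : V ⟶ T), S₁ g → ∃ S₂ ∈ K V, ∀ ⦃W : D⦄ (h : W ⟶ V), S₂ h →
      ∃ (l : ℕ) (t : Fin l → H.val.obj (op W)) (a : I → Fin l → O.obj.obj (op W)),
        (∀ j, H.val.map (h ≫ g).op (s j) = ∑ k, a j k • t k) ∧
        ∀ i k, ∑ j, (O.obj.map (h ≫ g).op).hom (r i j) * a j k = 0 := by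
    intro V g hg
    obtain ⟨w, hw⟩ := h₁ g hg
    obtain ⟨l, y, t, rfl⟩ := exists_fin_tm H (kernel (rM hT r)) V w
    have hw' : tη H (kernel (rM hT r)) V (∑ k, tm H _ V (y k) (t k)) =
        ((TN H).obj (kernel (rM hT r))).val.map g.op (homT hT _ τ) := hw
    -- the difference vanishes in the sheaf tensor product
    have hd : tη H _ V (((ι O).map (kernel.ι (rM hT r)) ▷ (ι O).obj H).app (op V)
        (∑ k, tm H _ V (y k) (t k)) - σw H V (fun j => H.val.map g.op (s j))) = 0 := by
      rw [tη_sub, ← tη_map, hw', appLin_map, ← homT_comp, hτ, hσT, tη_res, res_σw, sub_self]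
    obtain ⟨S₂, hS₂, h₂⟩ := locInj_η (O := O)
      ((ι O).obj (SheafOfModules.free (R := ModSite.ringSh O) I) ⊗ (ι O).obj H) V _ hd
    refine ⟨S₂, hS₂, fun W h hh => ?_⟩
    have e := h₂ h hh
    rw [map_sub, sub_eq_zero, res_σw, map_sum, map_sum] at e
    have e' : ∑ k, tm H _ W ((SheafOfModules.free (R := ModSite.ringSh O) I).val.map h.op
        (appLin (kernel.ι (rM hT r)) V (y k))) (H.val.map h.op (t k)) =
        σw H W (fun j => H.val.map h.op (H.val.map g.op (s j))) := e
    refine ⟨l, fun k => H.val.map h.op (t k), fun j k => (show O.obj.obj (op W) from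
      appLin (pr (R := ModSite.ringSh O) j) W
        (appLin (kernel.ι (rM hT r)) W ((kernel (rM hT r)).val.map h.op (y k)))), ?_, ?_⟩
    · intro j
      have e2 := congrArg (ex H j W) e'
      rw [ex_sum_tm, ex_σw] at e2
      have e3 : H.val.map (h ≫ g).op (s j) = H.val.map h.op (H.val.map g.op (s j)) := by
        rw [op_comp, H.val.map_comp]
        rfl
      rw [e3, ← e2]
      refine Finset.sum_congr rfl (fun k _ => ?_)
      have e6 := appLin_map (kernel.ι (rM hT r)) h (y k)
      exact congrArg (fun z => (show O.obj.obj (op W) from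
        appLin (pr (R := ModSite.ringSh O) j) W z) • H.val.map h.op (t k)) e6.symm
    · intro i k
      have e4 := rel_ker hT r i W ((kernel (rM hT r)).val.map h.op (y k))
      have e5 : hT.from W = h ≫ g := hT.hom_ext _ _
      rw [e5] at e4
      exact e4
  choose S₂ hS₂ h₂ using key
  refine ⟨Sieve.bind S₁ S₂, K.bind_covering hS₁ (fun V g hg => hS₂ g hg), ?_⟩
  intro W f hf
  obtain ⟨V, h, g, hg, hh, rfl⟩ := hf
  exact h₂ g hg h hh

end Main

end Groth.Agent.Helper1.FlatEq
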