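import Mathlib
import Groth.Agent.Helper1.LG2

/-!
# LG9: sections of finite free sheaves of modules on a small site
-/

set_option autoImplicit false
universe u
open CategoryTheory CategoryTheory.Limits Opposite

namespace Groth.Agent.Helper1.LG

variable {C : Type u} [SmallCategory C] {J : GrothendieckTopology C} {R : Sheaf J RingCat.{u}}

theorem appLin_ιFree {I : Type u} (i : I) (Y : C) (a : R.obj.obj (op Y)) :
    appLin (SheafOfModules.ιFree (R := R) i) Y
      (show (SheafOfModules.unit R).val.obj (op Y) from a) =
      a • secAt (SheafOfModules.freeSection (R := R) i) Y := by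
  have h : SheafOfModules.ιFree (R := R) i =
      (SheafOfModules.free (R := R) I).unitHomEquiv.symm (SheafOfModules.freeSection i) := by
    have := SheafOfModules.unitHomEquiv_symm_freeHomEquiv_apply
      (𝟙 (SheafOfModules.free (R := R) I)) i
    rw [Category.comp_id] at this
    exact this.symm
  rw [h]
  exact appLin_unitHomEquiv_symm _ _ Y a

/-- the coordinate projections of a finite free module -/
noncomputable def proj {I : Type u} [DecidableEq I] (i : I) :
    SheafOfModules.free (R := R) I ⟶ SheafOfModules.unit R :=
  Sigma.desc (fun j : I => if j = i then 𝟙 (SheafOfModules.unit R) else 0)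

/-- the coordinates of a section of a finite free module -/
noncomputable def coord {I : Type u} [DecidableEq I] (i : I) (Y : C)
    (z : (SheafOfModules.free (R := R) I).val.obj (op Y)) : R.obj.obj (op Y) :=
  (show R.obj.obj (op Y) from appLin (proj (R := R) i) Y z)

theorem free_decomp {I : Type u} [Fintype I] [DecidableEq I] (Y : C)
    (z : (SheafOfModules.free (R := R) I).val.obj (op Y)) :
    z = ∑ i, coord i Y z • secAt (SheafOfModules.freeSection (R := R) i) Y := by
  have htot : ∑ i : I, proj (R := R) i ≫ SheafOfModules.ιFree (R := R) i = 𝟙 _ :=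
    sigma_total (I := I) (SheafOfModules.unit R)
  have h2 := appLin_sum Finset.univ
    (fun i => proj (R := R) i ≫ SheafOfModules.ιFree (R := R) i) Y z
  rw [htot] at h2
  have h3 : z = ∑ i, appLin (SheafOfModules.ιFree (R := R) i) Y (appLin (proj (R := R) i) Y z) :=
    h2
  conv_lhs => rw [h3]
  refine Finset.sum_congr rfl (fun i _ => ?_)
  exact appLin_ιFree i Y _

theorem finite_free_sections {I : Type u} [Fintype I] (Y : C) :
    Module.Finite (R.obj.obj (op Y)) ((SheafOfModules.free (R := R) I).val.obj (op Y)) := by
  classical
  refine ⟨⟨Finset.univ.image (fun i => secAt (SheafOfModules.freeSection (R := R) i) Y), ?_⟩⟩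
  rw [eq_top_iff]
  intro z _
  rw [free_decomp Y z]
  refine Submodule.sum_mem _ (fun i _ => Submodule.smul_mem _ _ (Submodule.subset_span ?_))
  simp

/-- a monomorphism of sheaves of modules is injective on sections -/
theorem appLin_injective_of_mono {M N : SheafOfModules.{u} R} (f : M ⟶ N) [Mono f] (Y : C) :
    Function.Injective (appLin f Y) := by
  haveI : Mono ((SheafOfModules.evaluation R (op Y)).map f) := inferInstance
  exact (ModuleCat.mono_iff_injective _).1 this

end Groth.Agent.Helper1.LG
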