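import Mathlib
import Groth.Agent.Helper1.LG9

/-!
# LG10: coordinates of sections of finite free sheaves of modules, kernels on sections
-/

set_option autoImplicit false
universe u
open CategoryTheory CategoryTheory.Limits Opposite

namespace Groth.Agent.Helper1.LG

variable {C : Type u} [SmallCategory C] {J : GrothendieckTopology C} {R : Sheaf J RingCat.{u}}

/-- sections killed by a morphism come from the kernel -/
theorem exists_of_kernel {M N : SheafOfModules.{u} R} (f : M ⟶ N) (Y : C)
    (z : M.val.obj (op Y)) (hz : appLin f Y z = 0) :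
    ∃ z' : (kernel f).val.obj (op Y), appLin (kernel.ι f) Y z' = z := by
  let S : ShortComplex (SheafOfModules.{u} R) := ShortComplex.mk (kernel.ι f) f (kernel.condition f)
  have hS : S.Exact := ShortComplex.exact_of_f_is_kernel S (kernelIsKernel f)
  haveI : Mono S.f := inferInstanceAs (Mono (kernel.ι f))
  haveI : (SheafOfModules.evaluation R (op Y)).PreservesZeroMorphisms := ⟨fun _ _ => rfl⟩
  have h := hS.map_of_mono_of_preservesKernel (SheafOfModules.evaluation R (op Y))
    inferInstance inferInstance
  rw [ShortComplex.moduleCat_exact_iff] at h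
  exact h z hz

theorem appLin_kernel_ι {M N : SheafOfModules.{u} R} (f : M ⟶ N) (Y : C)
    (z' : (kernel f).val.obj (op Y)) : appLin f Y (appLin (kernel.ι f) Y z') = 0 := by
  rw [← appLin_comp, kernel.condition]
  rfl

theorem appLin_map {M N : SheafOfModules.{u} R} (f : M ⟶ N) {Y Z : C} (g : Z ⟶ Y)
    (m : M.val.obj (op Y)) : appLin f Z (M.val.map g.op m) = N.val.map g.op (appLin f Y m) := by
  have := f.val.naturality g.op
  exact congrArg (fun k => k.hom m) this

theorem appLin_sum_smul {M N : SheafOfModules.{u} R} (f : M ⟶ N) (Y : C) {K : Type*}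
    (t : Finset K) (d : K → R.obj.obj (op Y)) (m : K → M.val.obj (op Y)) :
    appLin f Y (∑ k ∈ t, d k • m k) = ∑ k ∈ t, d k • appLin f Y (m k) := by
  rw [map_sum]
  exact Finset.sum_congr rfl (fun k _ => map_smul _ _ _)

variable {I : Type u} [DecidableEq I]

theorem coord_add (i : I) (Y : C) (z z' : (SheafOfModules.free (R := R) I).val.obj (op Y)) :
    coord i Y (z + z') = coord i Y z + coord i Y z' := map_add (appLin (proj (R := R) i) Y) z z'

theorem coord_smul (i : I) (Y : C) (a : R.obj.obj (op Y))
    (z : (SheafOfModules.free (R := R) I).val.obj (op Y)) :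
    coord i Y (a • z) = a * coord i Y z := map_smul (appLin (proj (R := R) i) Y) a z

theorem coord_sum (i : I) (Y : C) {K : Type*} (s : Finset K)
    (z : K → (SheafOfModules.free (R := R) I).val.obj (op Y)) :
    coord i Y (∑ k ∈ s, z k) = ∑ k ∈ s, coord i Y (z k) :=
  map_sum (appLin (proj (R := R) i) Y) z s

theorem coord_sum_smul (i : I) (Y : C) {K : Type*} (t : Finset K) (d : K → R.obj.obj (op Y))
    (z : K → (SheafOfModules.free (R := R) I).val.obj (op Y)) :
    coord i Y (∑ k ∈ t, d k • z k) = ∑ k ∈ t, d k * coord i Y (z k) := by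
  rw [coord_sum]
  exact Finset.sum_congr rfl (fun k _ => coord_smul i Y _ _)

theorem coord_map (i : I) {Y Z : C} (g : Z ⟶ Y)
    (z : (SheafOfModules.free (R := R) I).val.obj (op Y)) :
    coord i Z ((SheafOfModules.free (R := R) I).val.map g.op z) =
      (R.obj.map g.op).hom (coord i Y z) :=
  appLin_map (proj (R := R) i) g z

theorem coord_freeSection (i j : I) (Y : C) :
    coord i Y (secAt (SheafOfModules.freeSection (R := R) j) Y) = if j = i then 1 else 0 := by
  have h1 := appLin_ιFree (R := R) j Y (1 : R.obj.obj (op Y))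
  rw [one_smul] at h1
  have h2 : SheafOfModules.ιFree (R := R) j ≫ proj (R := R) i =
      if j = i then 𝟙 (SheafOfModules.unit R) else 0 :=
    Sigma.ι_desc (fun j : I => if j = i then 𝟙 (SheafOfModules.unit R) else 0) j
  unfold coord
  rw [← h1, ← appLin_comp, h2]
  split_ifs
  · rfl
  · rfl


theorem appLin_freeHomEquiv_symm_freeSection (N : SheafOfModules.{u} R) (s : I → N.sections)
    (i : I) (Y : C) :
    appLin (N.freeHomEquiv.symm s) Y (secAt (SheafOfModules.freeSection (R := R) i) Y) =
      secAt (s i) Y := by
  rw [← secAt_sectionsMap, SheafOfModules.sectionsMap_freeHomEquiv_symm_freeSection]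

variable [Fintype I]

theorem appLin_freeHomEquiv_symm (N : SheafOfModules.{u} R) (s : I → N.sections) (Y : C)
    (z : (SheafOfModules.free (R := R) I).val.obj (op Y)) :
    appLin (N.freeHomEquiv.symm s) Y z = ∑ i, coord i Y z • secAt (s i) Y := by
  conv_lhs => rw [free_decomp Y z]
  rw [map_sum]
  refine Finset.sum_congr rfl (fun i _ => ?_)
  rw [map_smul, appLin_freeHomEquiv_symm_freeSection]

theorem free_ext (Y : C) (z z' : (SheafOfModules.free (R := R) I).val.obj (op Y))
    (h : ∀ i, coord i Y z = coord i Y z') : z = z' := by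
  rw [free_decomp Y z, free_decomp Y z']
  exact Finset.sum_congr rfl (fun i _ => by rw [h i])

/-- the section of a finite free module with given coordinates -/
noncomputable def ofCoord (Y : C) (c : I → R.obj.obj (op Y)) :
    (SheafOfModules.free (R := R) I).val.obj (op Y) :=
  ∑ i, c i • secAt (SheafOfModules.freeSection (R := R) i) Y

theorem coord_ofCoord (Y : C) (c : I → R.obj.obj (op Y)) (i : I) :
    coord i Y (ofCoord Y c) = c i := by
  unfold ofCoord
  rw [coord_sum, Finset.sum_eq_single i]
  · rw [coord_smul, coord_freeSection, if_pos rfl, mul_one]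
  · intro j _ hj
    rw [coord_smul, coord_freeSection, if_neg hj, mul_zero]
  · intro h; exact absurd (Finset.mem_univ i) h

theorem appLin_ofCoord (N : SheafOfModules.{u} R) (s : I → N.sections) (Y : C)
    (c : I → R.obj.obj (op Y)) :
    appLin (N.freeHomEquiv.symm s) Y (ofCoord Y c) = ∑ i, c i • secAt (s i) Y := by
  rw [appLin_freeHomEquiv_symm]
  exact Finset.sum_congr rfl (fun i _ => by rw [coord_ofCoord])

end Groth.Agent.Helper1.LG
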