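import Mathlib
import Groth.Prelude.Def_ModSite
import Groth.Agent.Helper1.FlatEq1
import Groth.Agent.Helper1.LG10

/-!
# FlatFP1: generic lemmas on morphisms of sheaves of modules, via sections
-/

set_option autoImplicit false
set_option linter.unusedSectionVars false
universe u
open CategoryTheory CategoryTheory.Limits Opposite

namespace Groth.Agent.Helper1.FlatEq

open Groth.Agent.Helper1.LG

variable {D : Type u} [SmallCategory D] {K : GrothendieckTopology D} {R : Sheaf K RingCat.{u}}

/-- morphisms of sheaves of modules are determined by their values on sections -/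
theorem hom_ext_appLin {M N : SheafOfModules.{u} R} (f g : M ⟶ N)
    (h : ∀ (Y : D) (m : M.val.obj (op Y)), appLin f Y m = appLin g Y m) : f = g := by
  apply SheafOfModules.Hom.ext
  apply PresheafOfModules.Hom.ext
  funext V
  induction V using Opposite.rec with | _ V
  apply ModuleCat.hom_ext
  apply LinearMap.ext
  intro s
  exact h V s

/-- a section of a sheaf of modules which vanishes on a covering sieve vanishes -/
theorem eq_zero_of_cover (N : SheafOfModules.{u} R) (Y : D) (n : N.val.obj (op Y))
    (S : Sieve Y) (hS : S ∈ K Y) (h : ∀ ⦃Z : D⦄ (g : Z ⟶ Y), S g → N.val.map g.op n = 0) :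
    n = 0 := by
  have hsh : Presieve.IsSheaf K (N.val.presheaf ⋙ forget AddCommGrpCat) :=
    (isSheaf_iff_isSheaf_of_type K _).1
      ((Presheaf.isSheaf_iff_isSheaf_forget K N.val.presheaf (forget AddCommGrpCat)).1 N.isSheaf)
  refine (hsh.isSeparated _ hS).ext ?_
  intro W k hk
  show N.val.presheaf.map k.op n = N.val.presheaf.map k.op 0
  rw [map_zero]
  exact h k hk

variable {T : D} (hT : IsTerminal T) {I : Type u} [Fintype I] [DecidableEq I]

include hT in
/-- morphisms out of a finite free module are determined by the images of the basis sections over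
a terminal object -/
theorem free_hom_ext_terminal {N : SheafOfModules.{u} R}
    (f g : SheafOfModules.free (R := R) I ⟶ N)
    (h : ∀ j, appLin f T (eb j T) = appLin g T (eb j T)) : f = g := by
  apply (N.freeHomEquiv).injective
  funext j
  apply (secT hT N).injective
  exact h j

/-- the morphism out of a finite free module with prescribed values on the basis sections over a
terminal object -/
noncomputable def freeDesc (N : SheafOfModules.{u} R) (x : I → N.val.obj (op T)) :
    SheafOfModules.free (R := R) I ⟶ N :=
  N.freeHomEquiv.symm (fun j => (secT hT N).symm (x j))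

theorem appLin_freeDesc (N : SheafOfModules.{u} R) (x : I → N.val.obj (op T)) (Y : D)
    (z : (SheafOfModules.free (R := R) I).val.obj (op Y)) :
    appLin (freeDesc hT N x) Y z = ∑ j, coord j Y z • N.val.map (hT.from Y).op (x j) := by
  unfold freeDesc
  rw [appLin_freeHomEquiv_symm]
  rfl

theorem freeDesc_eb (N : SheafOfModules.{u} R) (x : I → N.val.obj (op T)) (j : I) :
    appLin (freeDesc hT N x) T (eb j T) = x j := by
  have h := SheafOfModules.sectionsMap_freeHomEquiv_symm_freeSection
    (M := N) (fun j => (secT hT N).symm (x j)) j
  have h2 := congrArg (fun s => secT hT N s) h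
  simp only [Equiv.apply_symm_apply] at h2
  exact h2

end Groth.Agent.Helper1.FlatEq
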