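import Mathlib
import Groth.Prelude.Def_ModSite
import Groth.Agent.Helper1.FlatEq2
import Groth.Agent.Helper1.FlatConv2
import Groth.Agent.Helper1.LG9
import Groth.Agent.Helper1.FlatFP1

/-!
# FlatConv3: the converse of the equational criterion of flatness on a ringed site
-/

set_option autoImplicit false
set_option linter.unusedSectionVars false
set_option backward.isDefEq.respectTransparency false
universe u
open CategoryTheory CategoryTheory.Limits Opposite MonoidalCategory TensorProduct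

namespace Groth.Agent.Helper1.FlatConv

open Groth.Agent.Helper1.LG Groth.Agent.Helper1.FlatEq Groth.Agent.Helper9.TensorLoc
  Groth.Agent.Helper9.TensorSh Groth.Agent.Helper9.TensorAdj Groth.Agent.Helper9.TensorFlat

section Alg

variable {A : Type*} [CommRing A] {N : Type*} [AddCommGroup N] [Module A N]
  {ι' κ π ρ : Type*} [Fintype ι'] [Fintype κ] [Fintype π] [Fintype ρ]

theorem alg_core (v : ι' → N) (m' : ρ → N) (a : ι' → κ → A) (b : ρ → κ → A) (c : κ → π → A)
    (h3 : ∀ j, ∑ k, a k j • v k + ∑ i, b i j • m' i = 0)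
    (h5 : ∀ i l, ∑ j, c j l * b i j = 0) (l : π) :
    ∑ k, (∑ j, a k j * c j l) • v k = 0 := by
  have e1 : ∑ k, (∑ j, a k j * c j l) • v k = ∑ j, c j l • ∑ k, a k j • v k := by
    simp_rw [Finset.sum_smul, Finset.smul_sum, smul_smul]
    rw [Finset.sum_comm]
    refine Finset.sum_congr rfl (fun j _ => Finset.sum_congr rfl (fun k _ => ?_))
    rw [mul_comm]
  have e2 : ∀ j, ∑ k, a k j • v k = - ∑ i, b i j • m' i := fun j =>
    eq_neg_of_add_eq_zero_left (h3 j)
  rw [e1]
  simp_rw [e2, smul_neg, Finset.smul_sum, smul_smul]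
  rw [Finset.sum_neg_distrib, neg_eq_zero, Finset.sum_comm]
  refine Finset.sum_eq_zero (fun i _ => ?_)
  rw [← Finset.sum_smul, h5 i l, zero_smul]

end Alg

variable {C : Type u} [SmallCategory C] {J : GrothendieckTopology C} {O : Sheaf J CommRingCat.{u}}
  (F : ModSite.Mod O)

theorem tm_sum_left {ι' : Type*} (s : Finset ι') (M : ModSite.Mod O) (Y : C)
    (m : ι' → M.val.obj (op Y)) (h : F.val.obj (op Y)) :
    tm F M Y (∑ i ∈ s, m i) h = ∑ i ∈ s, tm F M Y (m i) h :=
  TensorProduct.sum_tmul _ _ _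

theorem tm_zero_left (M : ModSite.Mod O) (Y : C) (h : F.val.obj (op Y)) : tm F M Y 0 h = 0 :=
  TensorProduct.zero_tmul _ _

theorem vanish_data_tm (M : ModSite.Mod O) (Y : C) {K : ℕ} (m : Fin K → M.val.obj (op Y))
    (n : Fin K → F.val.obj (op Y)) (h : ∑ k, tm F M Y (m k) (n k) = 0) :
    ∃ (r : ℕ) (m' : Fin r → M.val.obj (op Y)) (κ : ℕ) (y : Fin κ → F.val.obj (op Y))
      (a : Fin K → Fin κ → O.obj.obj (op Y)) (b : Fin r → Fin κ → O.obj.obj (op Y)),
      (∀ k, n k = ∑ j, a k j • y j) ∧ (∀ i, ∑ j, b i j • y j = 0) ∧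
        ∀ j, ∑ k, a k j • m k + ∑ i, b i j • m' i = 0 :=
  vanish_data (A := (O.obj ⋙ forget₂ CommRingCat RingCat).obj (op Y))
    (M := ((ι O).obj M).obj (op Y)) (N := ((ι O).obj F).obj (op Y)) m n h

/-- the core computation: a sum of pure tensors vanishes in the presheaf tensor product -/
theorem core_vanish {G' G : ModSite.Mod O} (f : G' ⟶ G) [Mono f] (Y : C) {K κ r l : ℕ}
    (g' : Fin K → G'.val.obj (op Y)) (t : Fin K → F.val.obj (op Y))
    (m' : Fin r → G.val.obj (op Y)) (y : Fin κ → F.val.obj (op Y)) (u : Fin l → F.val.obj (op Y))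
    (a : Fin K → Fin κ → O.obj.obj (op Y)) (b : Fin r → Fin κ → O.obj.obj (op Y))
    (c : Fin κ → Fin l → O.obj.obj (op Y))
    (h1 : ∀ k, t k = ∑ j, a k j • y j)
    (h3 : ∀ j, ∑ k, a k j • appLin f Y (g' k) + ∑ i, b i j • m' i = 0)
    (h4 : ∀ j, y j = ∑ p, c j p • u p)
    (h5 : ∀ i p, ∑ j, c j p * b i j = 0) :
    ∑ k, tm F G' Y (g' k) (t k) = 0 := by
  -- `t k = ∑ p, d k p • u p`
  have ht : ∀ k, t k = ∑ p, (∑ j, a k j * c j p) • u p := fun k =>
    (h1 k).trans (compose_factor a c y u h4 k)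
  -- the combinations `∑ k, d k p • g' k` vanish
  have hz : ∀ p, ∑ k, (∑ j, a k j * c j p) • g' k = 0 := by
    intro p
    apply appLin_injective_of_mono f Y
    rw [map_sum, map_zero]
    refine Eq.trans (Finset.sum_congr rfl (fun k _ => map_smul (appLin f Y) _ _)) ?_
    exact alg_core (fun k => appLin f Y (g' k)) m' a b c h3 h5 p
  calc ∑ k, tm F G' Y (g' k) (t k)
      = ∑ k, ∑ p, tm F G' Y ((∑ j, a k j * c j p) • g' k) (u p) := by
        refine Finset.sum_congr rfl (fun k _ => ?_)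
        rw [ht k, tm_sum]
        refine Finset.sum_congr rfl (fun p _ => ?_)
        rw [tm_smul]
    _ = ∑ p, tm F G' Y (∑ k, (∑ j, a k j * c j p) • g' k) (u p) := by
        rw [Finset.sum_comm]
        refine Finset.sum_congr rfl (fun p _ => ?_)
        rw [tm_sum_left]
    _ = 0 := by
        refine Finset.sum_eq_zero (fun p _ => ?_)
        rw [hz p, tm_zero_left]


theorem res_sum_tm (M : ModSite.Mod O) {Y V : C} (g : V ⟶ Y) {K : ℕ}
    (m : Fin K → M.val.obj (op Y)) (t : Fin K → F.val.obj (op Y)) :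
    res ((ι O).obj M ⊗ (ι O).obj F) g.op (∑ k, tm F M Y (m k) (t k)) =
      ∑ k, tm F M V (M.val.map g.op (m k)) (F.val.map g.op (t k)) := by
  rw [map_sum]
  exact Finset.sum_congr rfl (fun k _ => res_tm F M g (m k) (t k))

theorem whisker_sum_tm {M M' : ModSite.Mod O} (f : M ⟶ M') (Y : C) {K : ℕ}
    (m : Fin K → M.val.obj (op Y)) (t : Fin K → F.val.obj (op Y)) :
    ((ι O).map f ▷ (ι O).obj F).app (op Y) (∑ k, tm F M Y (m k) (t k)) =
      ∑ k, tm F M' Y (appLin f Y (m k)) (t k) := by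
  rw [map_sum]
  exact Finset.sum_congr rfl (fun k _ => whisker_tm F f Y (m k) (t k))

set_option maxHeartbeats 1600000 in
/-- if single relations in `F` are locally trivial, then `- ⊗ F` is locally injective on sections
for a monomorphism -/
theorem local_inj (hE : EqCrit F) {G' G : ModSite.Mod O} (f : G' ⟶ G) [Mono f] (U : C)
    (w : ((TN F).obj G').val.obj (op U)) (hw : appLin ((TN F).map f) U w = 0) :
    ∃ S ∈ J U, ∀ ⦃V : C⦄ (g : V ⟶ U), S g → ((TN F).obj G').val.map g.op w = 0 := by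
  obtain ⟨S₁, hS₁, h₁⟩ := locSurj_η (O := O) ((ι O).obj G' ⊗ (ι O).obj F) U w
  have key1 : ∀ ⦃V : C⦄ (g : V ⟶ U), S₁ g → ∃ S₂ ∈ J V, ∀ ⦃W : C⦄ (h : W ⟶ V), S₂ h →
      ((TN F).obj G').val.map (h ≫ g).op w = 0 := by
    intro V g hg
    obtain ⟨x, hx⟩ := h₁ g hg
    obtain ⟨K, g', t, rfl⟩ := exists_fin_tm F G' V x
    have hx' : tη F G' V (∑ k, tm F G' V (g' k) (t k)) = ((TN F).obj G').val.map g.op w := hx
    have hd : tη F G V (((ι O).map f ▷ (ι O).obj F).app (op V)
        (∑ k, tm F G' V (g' k) (t k))) = 0 := by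
      rw [← tη_map, hx', FlatEq.appLin_map, hw, map_zero]
    obtain ⟨S₂, hS₂, h₂⟩ := locInj_η (O := O) ((ι O).obj G ⊗ (ι O).obj F) V _ hd
    have key2 : ∀ ⦃W : C⦄ (h : W ⟶ V), S₂ h → ∃ S₃ ∈ J W, ∀ ⦃W' : C⦄ (k' : W' ⟶ W), S₃ k' →
        ((TN F).obj G').val.map (k' ≫ h ≫ g).op w = 0 := by
      intro W h hh
      have e := h₂ h hh
      rw [whisker_sum_tm, res_sum_tm] at e
      obtain ⟨r, m', κ, y, a, b, h1, h2, h3⟩ := vanish_data_tm F G W _ _ e
      obtain ⟨S₃, hS₃, h₃⟩ := multi F hE r W κ b y h2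
      refine ⟨S₃, hS₃, fun W' k' hk' => ?_⟩
      obtain ⟨l, u, c, h4, h5⟩ := h₃ k' hk'
      have e1 : ((TN F).obj G').val.map (k' ≫ h ≫ g).op w =
          tη F G' W' (∑ k, tm F G' W' (G'.val.map k'.op (G'.val.map h.op (g' k)))
            (F.val.map k'.op (F.val.map h.op (t k)))) := by
        rw [← res_sum_tm, ← res_sum_tm, ← tη_res, ← tη_res, hx']
        refine Eq.trans (res_comp ((TN F).obj G') (h ≫ g) k' w) ?_
        exact congrArg (((TN F).obj G').val.map k'.op).hom (res_comp ((TN F).obj G') g h w)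
      rw [e1]
      have e2 : ∑ k, tm F G' W' (G'.val.map k'.op (G'.val.map h.op (g' k)))
            (F.val.map k'.op (F.val.map h.op (t k))) = 0 := by
        refine core_vanish F f W' _ _ (fun i => G.val.map k'.op (m' i))
          (fun j => F.val.map k'.op (y j)) u (fun k j => (O.obj.map k'.op).hom (a k j))
          (fun i j => (O.obj.map k'.op).hom (b i j)) c ?_ ?_ h4 h5
        · intro k
          have := congrArg (F.val.map k'.op).hom (h1 k)
          rw [res_sum_smul] at this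
          exact this
        · intro j
          have := congrArg (G.val.map k'.op).hom (h3 j)
          rw [map_add, res_sum_smul, res_sum_smul, map_zero] at this
          refine Eq.trans ?_ this
          congr 1
          refine Finset.sum_congr rfl (fun k _ => ?_)
          congr 1
          rw [FlatEq.appLin_map, FlatEq.appLin_map]
      rw [e2, tη_zero]
    choose S₃ hS₃ h₃ using key2
    refine ⟨Sieve.bind S₂ S₃, J.bind_covering hS₂ (fun W h hh => hS₃ h hh), ?_⟩
    intro W' q hq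
    obtain ⟨W, k', h, hh, hk', rfl⟩ := hq
    have := h₃ h hh k' hk'
    rw [Category.assoc]
    exact this
  choose S₂ hS₂ h₂ using key1
  refine ⟨Sieve.bind S₁ S₂, J.bind_covering hS₁ (fun V g hg => hS₂ g hg), ?_⟩
  intro W q hq
  obtain ⟨V, h, g, hg, hh, rfl⟩ := hq
  exact h₂ g hg h hh


/-- a morphism of sheaves of modules which is injective on sections is a monomorphism -/
theorem mono_of_appLin_injective {R : Sheaf J RingCat.{u}} {M N : SheafOfModules.{u} R}
    (ψ : M ⟶ N) (h : ∀ Y : C, Function.Injective (appLin ψ Y)) : Mono ψ := by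
  refine Preadditive.mono_of_cancel_zero ψ (fun {Z} g hg => ?_)
  apply hom_ext_appLin
  intro Y z
  apply h Y
  rw [← appLin_comp, hg]
  exact (map_zero (appLin ψ Y)).symm

theorem mono_TN_map (hE : EqCrit F) {G' G : ModSite.Mod O} (f : G' ⟶ G) [Mono f] :
    Mono ((TN F).map f) := by
  apply mono_of_appLin_injective
  intro Y
  rw [injective_iff_map_eq_zero]
  intro w hw
  obtain ⟨S, hS, h⟩ := local_inj F hE f Y w hw
  exact eq_zero_of_cover _ Y w S hS h

/-- the converse of the equational criterion of flatness -/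
theorem isFlat_of_eqCrit (hE : EqCrit F) : ModSite.IsFlat F :=
  isFlat_of_mono F (fun f hf => @mono_TN_map _ _ _ _ F hE _ _ f hf)

end Groth.Agent.Helper1.FlatConv
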