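import Mathlib
import Groth.Agent.Helper1.FlatCxBC2
import Groth.Agent.Helper1.FlatCxLocus

/-!
# Generic exactness over a domain (EGA III 7.6-type statement)
-/

set_option autoImplicit false

namespace Groth.Agent.Helper1.FlatCx

open CategoryTheory CategoryTheory.Limits TensorProduct

universe u

variable {A : Type u} [CommRing A]

/-- For flat `B`, `T_q^{P_B}(B) ≃ B ⊗ H_q(P)`. -/
theorem nonempty_TB_equiv (P : ChainComplex (ModuleCat.{u} A) ℤ) (B : Type u) [CommRing B]
    [Algebra A B] [Module.Flat A B] (q : ℤ) :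
    Nonempty ((CohIII.TFun (CohIII.bcCx (algebraMap A B) P) q).obj (ModuleCat.of B B) ≃ₗ[B]
      B ⊗[A] P.homology q) := by
  have hg : (algebraMap A B).Flat := RingHom.flat_algebraMap_iff.mpr inferInstance
  exact ⟨(TAIso' (CohIII.bcCx (algebraMap A B) P) q).toLinearEquiv ≪≫ₗ
    (bcHomologyIso (algebraMap A B) hg P q).toLinearEquiv ≪≫ₗ extendScalarsEquiv _⟩

theorem exists_localization_away_exact_upTo [IsDomain A]
    (P : ChainComplex (ModuleCat.{u} A) ℤ) (hP : ∀ i, Module.Flat A (P.X i)) (i₀ : ℤ)
    (hb : ∀ i < i₀, IsZero (P.X i))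
    (hfp : ∀ n : ℤ, Module.FinitePresentation A (P.homology n)) (N : ℤ) :
    ∃ f : A, f ≠ 0 ∧ ∀ p ≤ N,
      (CohIII.TFun (CohIII.bcCx (algebraMap A (Localization.Away f)) P) p).PreservesMonomorphisms ∧
        (CohIII.TFun (CohIII.bcCx (algebraMap A (Localization.Away f)) P)
          p).PreservesEpimorphisms := by
  classical
  set ξ : PrimeSpectrum A := ⟨⊥, Ideal.isPrime_bot⟩ with hξ
  -- the generic point lies in every free locus
  have hfr : IsFractionRing A (Localization.AtPrime (⊥ : Ideal A)) := by
    simpa [Ideal.primeCompl_bot] using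
      Localization.isLocalization (M := (⊥ : Ideal A).primeCompl)
  letI : Field (Localization.AtPrime (⊥ : Ideal A)) := IsFractionRing.toField A
  have hfree : ∀ (C : Type u) [AddCommGroup C] [Module A C], ξ ∈ Module.freeLocus A C := by
    intro C _ _
    rw [Module.mem_freeLocus_iff_tensor _ (Localization.AtPrime (⊥ : Ideal A))]
    infer_instance
  set U : Set (PrimeSpectrum A) := ⋂ q ∈ Finset.Icc i₀ N, Module.freeLocus A (P.homology q)
    with hU
  have hUopen : IsOpen U := isOpen_biInter_finset fun q _ => Module.isOpen_freeLocus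
  have hξU : ξ ∈ U := by
    simp only [hU, Set.mem_iInter]
    intro q _
    exact hfree _
  obtain ⟨V, ⟨f, rfl⟩, hξf, hfU⟩ :=
    PrimeSpectrum.isTopologicalBasis_basic_opens.exists_subset_of_mem_open hξU hUopen
  have hf0 : f ≠ 0 := by
    rintro rfl
    have : (0 : A) ∉ ξ.asIdeal := hξf
    exact this (Ideal.zero_mem _)
  refine ⟨f, hf0, ?_⟩
  set B := Localization.Away f
  set PB := CohIII.bcCx (algebraMap A B) P
  have hPB : ∀ i, Module.Flat B (PB.X i) := flat_bcCx_X B P hP
  have hbB : ∀ i < i₀, IsZero (PB.X i) := fun i hi =>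
    Functor.map_isZero (ModuleCat.extendScalars (algebraMap A B)) (hb i hi)
  rw [exact_upTo_iff PB hPB i₀ hbB N]
  intro q hq
  obtain ⟨e⟩ := nonempty_TB_equiv P B q
  suffices Module.Flat B (B ⊗[A] P.homology q) from Module.Flat.of_linearEquiv e
  by_cases hq0 : q < i₀
  · haveI : Subsingleton (P.homology q) :=
      ModuleCat.subsingleton_of_isZero (isZero_homology_of_isZero_X P q (hb q hq0))
    infer_instance
  · have hsub : (PrimeSpectrum.basicOpen f : Set (PrimeSpectrum A)) ⊆
        Module.freeLocus A (P.homology q) := by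
      intro y hy
      have := hfU hy
      simp only [hU, Set.mem_iInter] at this
      exact this q (Finset.mem_Icc.mpr ⟨by omega, hq⟩)
    have hproj : Module.Projective (Localization.Away f) (LocalizedModule.Away f (P.homology q)) :=
      Module.basicOpen_subset_freeLocus_iff.mp hsub
    haveI : Module.Flat B (LocalizedModule (Submonoid.powers f) (P.homology q)) :=
      Module.Flat.of_projective
    exact Module.Flat.of_linearEquiv
      (LocalizedModule.equivTensorProduct (Submonoid.powers f) (P.homology q)).symm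

end Groth.Agent.Helper1.FlatCx
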