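import Mathlib
import Groth.Prelude.Def_ModSite
import Groth.Agent.Helper1.FlatEq2
import Groth.Agent.Helper9.ShriekFlat

/-!
# FlatEq3: the equational criterion of flatness on a ringed site (finitely many relations)
-/

set_option autoImplicit false
set_option linter.unusedSectionVars false
set_option backward.isDefEq.respectTransparency false
universe u
open CategoryTheory CategoryTheory.Limits Opposite

namespace Groth.Agent.Helper1.FlatEq

variable {C : Type u} [SmallCategory C] {J : GrothendieckTopology C} (O : Sheaf J CommRingCat.{u})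

/-- a flat module on a ringed site: finitely many relations `∑ r_ij s_j = 0` between sections
over `U` are locally trivial -/
theorem flat_relations (H : ModSite.Mod O) (hH : ModSite.IsFlat H) (U : C)
    {I I' : Type u} [Fintype I] [Fintype I']
    (r : I' → I → O.obj.obj (op U)) (s : I → H.val.obj (op U))
    (hrel : ∀ i, ∑ j, r i j • s j = 0) :
    ∃ S ∈ J U, ∀ ⦃V : C⦄ (g : V ⟶ U), S g →
      ∃ (l : ℕ) (t : Fin l → H.val.obj (op V)) (a : I → Fin l → O.obj.obj (op V)),
        (∀ j, H.val.map g.op (s j) = ∑ k, a j k • t k) ∧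
        ∀ i k, ∑ j, (O.obj.map g.op).hom (r i j) * a j k = 0 := by
  classical
  have hH' := Groth.Agent.Helper9.ShriekFlat.isFlat_restr O U H hH
  obtain ⟨S', hS', h'⟩ := flat_relations_terminal (O := O.over U) ((ModSite.restr O U).obj H)
    (T := Over.mk (𝟙 U)) Over.mkIdTerminal r hH' s hrel
  refine ⟨Sieve.overEquiv _ S', (J.mem_over_iff S').1 hS', ?_⟩
  intro V g hg
  have hg' := (Sieve.overEquiv_iff S' g).1 hg
  obtain ⟨l, t, a, h1, h2⟩ := h' _ hg'
  exact ⟨l, t, a, h1, h2⟩

end Groth.Agent.Helper1.FlatEq
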