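import Mathlib
import Groth.Prelude.Def_ModSite2
import Groth.Agent.Helper1.FlatEq3

/-!
# FlatEq4: stalks of a flat module at points of a ringed site are flat
-/

set_option autoImplicit false
set_option linter.unusedSectionVars false
set_option backward.isDefEq.respectTransparency false
universe u
open CategoryTheory CategoryTheory.Limits Opposite

namespace Groth.Agent.Helper1.FlatEq

variable {C : Type u} [SmallCategory C] {J : GrothendieckTopology C}
  (p : GrothendieckTopology.Point.{u} J) {O : Sheaf J CommRingCat.{u}}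

theorem germ_map (F : ModSite.Mod O) {X Y : C} (g : Y ⟶ X) (y : p.fiber.obj Y)
    (s : ModSite.sect F X) :
    ModSite.germ p F Y y ((F.val.map g.op).hom s) = ModSite.germ p F X (p.fiber.map g y) s :=
  p.toPresheafFiber_w_apply g y (ModSite.toAb F).obj s

theorem germRing_map {X Y : C} (g : Y ⟶ X) (y : p.fiber.obj Y) (r : O.obj.obj (op X)) :
    ModSite.germRing p Y y ((O.obj.map g.op).hom r) = ModSite.germRing p X (p.fiber.map g y) r :=
  p.toPresheafFiber_w_apply g y O.obj r

theorem germ_sum (F : ModSite.Mod O) (X : C) (x : p.fiber.obj X) {ι : Type*} (s : Finset ι)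
    (m : ι → ModSite.sect F X) :
    ModSite.germ p F X x (∑ i ∈ s, m i) = ∑ i ∈ s, ModSite.germ p F X x (m i) :=
  map_sum (p.toPresheafFiber X x (ModSite.toAb F).obj).hom _ _

theorem germRing_sum (X : C) (x : p.fiber.obj X) {ι : Type*} (s : Finset ι)
    (m : ι → O.obj.obj (op X)) :
    ModSite.germRing p X x (∑ i ∈ s, m i) = ∑ i ∈ s, ModSite.germRing p X x (m i) :=
  map_sum (p.toPresheafFiber X x O.obj).hom _ _

theorem germRing_mul (X : C) (x : p.fiber.obj X) (a b : O.obj.obj (op X)) :
    ModSite.germRing p X x (a * b) = ModSite.germRing p X x a * ModSite.germRing p X x b :=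
  map_mul (p.toPresheafFiber X x O.obj).hom _ _

theorem germ_zero (F : ModSite.Mod O) (X : C) (x : p.fiber.obj X) :
    ModSite.germ p F X x 0 = 0 :=
  map_zero (p.toPresheafFiber X x (ModSite.toAb F).obj).hom

theorem germRing_zero (X : C) (x : p.fiber.obj X) :
    ModSite.germRing p X x (0 : O.obj.obj (op X)) = 0 :=
  map_zero (p.toPresheafFiber X x O.obj).hom

/-- finitely many germs of functions and of sections live on a common neighbourhood -/
theorem exists_rep (F : ModSite.Mod O) {l : ℕ} (f : Fin l → ModSite.stalkRing p O)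
    (x : Fin l → ModSite.stalkAb p F) :
    ∃ (X : C) (z : p.fiber.obj X) (f0 : Fin l → O.obj.obj (op X)) (s0 : Fin l → ModSite.sect F X),
      (∀ i, ModSite.germRing p X z (f0 i) = f i) ∧ ∀ i, ModSite.germ p F X z (s0 i) = x i := by
  classical
  choose X1 x1 r1 hr1 using fun i => p.toPresheafFiber_jointly_surjective (P := O.obj) (f i)
  choose X2 x2 m2 hm2 using fun i =>
    p.toPresheafFiber_jointly_surjective (P := (ModSite.toAb F).obj) (x i)
  obtain ⟨S, hS⟩ := IsCofiltered.inf_objs_exists (C := p.fiber.Elements)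
    ((Finset.univ.image (fun i : Fin l => (⟨X1 i, x1 i⟩ : p.fiber.Elements))) ∪
      (Finset.univ.image (fun i : Fin l => (⟨X2 i, x2 i⟩ : p.fiber.Elements))))
  have h1 : ∀ i, Nonempty (S ⟶ (⟨X1 i, x1 i⟩ : p.fiber.Elements)) := fun i =>
    hS (Finset.mem_union_left _ (Finset.mem_image_of_mem _ (Finset.mem_univ i)))
  have h2 : ∀ i, Nonempty (S ⟶ (⟨X2 i, x2 i⟩ : p.fiber.Elements)) := fun i =>
    hS (Finset.mem_union_right _ (Finset.mem_image_of_mem _ (Finset.mem_univ i)))
  refine ⟨S.1, S.2, fun i => (O.obj.map (h1 i).some.1.op).hom (r1 i),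
    fun i => (F.val.map (h2 i).some.1.op).hom (m2 i), fun i => ?_, fun i => ?_⟩
  · rw [germRing_map]
    have e : p.fiber.map (h1 i).some.1 S.2 = x1 i := (h1 i).some.2
    rw [e]
    exact hr1 i
  · have e : p.fiber.map (h2 i).some.1 S.2 = x2 i := (h2 i).some.2
    refine (germ_map p F (h2 i).some.1 S.2 (m2 i)).trans ?_
    rw [e]
    exact hm2 i


/-- the stalk of a flat module at a point of the site is flat -/
theorem flat_stalkMod (F : ModSite.Mod O) (hF : ModSite.IsFlat F) :
    Module.Flat (ModSite.stalkRing p O) (ModSite.stalkMod p F) := by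
  classical
  apply Module.Flat.of_forall_isTrivialRelation
  intro l f x hfx
  obtain ⟨X, z, f0, s0, hf0, hs0⟩ := exists_rep p F f x
  -- the relation holds on a smaller neighbourhood
  have h1 : ModSite.germ p F X z (∑ i, f0 i • s0 i) = ModSite.germ p F X z 0 := by
    rw [germ_sum, germ_zero, ← hfx]
    refine Finset.sum_congr rfl (fun i _ => ?_)
    rw [ModSite.germ_smul, hf0, hs0]
  obtain ⟨Y, g, y, hy, hg⟩ := (p.toPresheafFiber_eq_iff' (P := (ModSite.toAb F).obj) X z _ _).1 h1
  have hrel : ∀ _ : PUnit.{u+1}, ∑ j : ULift.{u} (Fin l),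
      (fun (_ : PUnit.{u+1}) (j : ULift.{u} (Fin l)) => (O.obj.map g.op).hom (f0 j.down))
        PUnit.unit j • (fun j : ULift.{u} (Fin l) => (F.val.map g.op).hom (s0 j.down)) j = 0 := by
    intro _
    have e1 : (F.val.map g.op).hom (∑ i, f0 i • s0 i) = 0 := by
      refine Eq.trans hg ?_
      exact map_zero _
    rw [map_sum] at e1
    refine Eq.trans ?_ e1
    refine Eq.trans (Equiv.sum_comp Equiv.ulift
      (fun i => (O.obj.map g.op).hom (f0 i) • (F.val.map g.op).hom (s0 i))) ?_
    refine Finset.sum_congr rfl (fun i _ => ?_)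
    exact (F.val.map_smul g.op (f0 i) (s0 i)).symm
  obtain ⟨S, hS, h⟩ := flat_relations O F hF Y
    (fun (_ : PUnit.{u+1}) (j : ULift.{u} (Fin l)) => (O.obj.map g.op).hom (f0 j.down))
    (fun j : ULift.{u} (Fin l) => (F.val.map g.op).hom (s0 j.down)) hrel
  obtain ⟨V, k, hk, v, hv⟩ := p.jointly_surjective S hS y
  obtain ⟨n, t, a, ha1, ha2⟩ := h k hk
  have hvz : p.fiber.map g (p.fiber.map k v) = z := by rw [hv, hy]
  refine ⟨n, fun i j => ModSite.germRing p V v (a ⟨i⟩ j), fun j => ModSite.germ p F V v (t j),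
    fun i => ?_, fun j => ?_⟩
  · have e2 := congrArg (ModSite.germ p F V v) (ha1 ⟨i⟩)
    have e2' : ModSite.germ p F V v ((F.val.map k.op).hom ((F.val.map g.op).hom (s0 i))) =
        ModSite.germ p F V v (∑ k, a ⟨i⟩ k • t k) := e2
    rw [germ_map, germ_map, hvz, hs0, germ_sum] at e2'
    rw [e2']
    refine Finset.sum_congr rfl (fun j _ => ?_)
    exact ModSite.germ_smul p F V v _ _
  · have e3 := congrArg (ModSite.germRing p V v) (ha2 PUnit.unit j)
    rw [germRing_zero, germRing_sum] at e3
    refine Eq.trans ?_ e3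
    refine Eq.trans ?_ (Equiv.sum_comp Equiv.ulift
      (fun i => ModSite.germRing p V v ((O.obj.map k.op).hom ((O.obj.map g.op).hom (f0 i)) *
        a ⟨i⟩ j))).symm
    refine Finset.sum_congr rfl (fun i _ => ?_)
    rw [germRing_mul, germRing_map, germRing_map, hvz, hf0]

end Groth.Agent.Helper1.FlatEq
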