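import Mathlib
import Groth.Prelude.Def_ModSite
import Groth.Agent.Helper1.FlatFP1

/-!
# FlatFP2: restricting a presentation of a sheaf of modules to slices, elementwise
-/

set_option autoImplicit false
set_option linter.unusedSectionVars false
set_option backward.isDefEq.respectTransparency false
universe u
open CategoryTheory CategoryTheory.Limits Opposite

namespace Groth.Agent.Helper1.FlatEq

open Groth.Agent.Helper1.LG

variable {C : Type u} [SmallCategory C] {J : GrothendieckTopology C} {R : Sheaf J RingCat.{u}}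
  (M : SheafOfModules.{u} R)

/-- the terminal object of the slice -/
abbrev tO (V : C) : Over V := Over.mk (𝟙 V)

/-- it is terminal -/
noncomputable abbrev tOT (V : C) : IsTerminal (tO V) := Over.mkIdTerminal

theorem tOT_from_left {V : C} (Z : Over V) : ((tOT V).from Z).left = Z.hom := by
  have h : (tOT V).from Z = Over.homMk Z.hom := (tOT V).hom_ext _ _
  rw [h]
  rfl

theorem over_map_from {V : C} (Z : Over V) (x : M.val.obj (op V)) :
    (M.over V).val.map ((tOT V).from Z).op (show (M.over V).val.obj (op (tO V)) from x) =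
      (show (M.over V).val.obj (op Z) from M.val.map Z.hom.op x) := by
  have h : (tOT V).from Z = Over.homMk Z.hom := (tOT V).hom_ext _ _
  rw [h]
  rfl

/-- transfer of covering sieves between slices -/
theorem transfer_sieve {V X' : C} (h' : V ⟶ X') (Z : Over V)
    (S' : Sieve (Over.mk (Z.hom ≫ h'))) (hS' : S' ∈ (J.over X') (Over.mk (Z.hom ≫ h'))) :
    ∃ S ∈ (J.over V) Z, ∀ ⦃Z'' : Over V⦄ (g : Z'' ⟶ Z), S g →
      S' (Over.homMk g.left : Over.mk (g.left ≫ (Over.mk (Z.hom ≫ h')).hom) ⟶
        Over.mk (Z.hom ≫ h')) := by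
  refine ⟨(Sieve.overEquiv Z).symm (Sieve.overEquiv (Over.mk (Z.hom ≫ h')) S'),
    J.overEquiv_symm_mem_over Z _ ((J.mem_over_iff S').1 hS'), ?_⟩
  intro Z'' g hg
  have h1 := (Sieve.overEquiv_symm_iff _ g).1 hg
  exact (Sieve.overEquiv_iff S' g.left).1 h1


theorem secAt_over {X' : C} (s : (M.over X').sections) (Y' : Over X') :
    secAt s Y' = (show (M.over X').val.obj (op Y') from
      M.val.map Y'.hom.op (show M.val.obj (op X') from secAt s (tO X'))) := by
  rw [← secAt_map s ((tOT X').from Y')]
  exact over_map_from M Y' _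

section Pres

variable {X' : C} (P : (M.over X').Presentation) [Fintype P.generators.I]
  [DecidableEq P.generators.I] [Fintype P.relations.I]

/-- the generators, as sections over `X'` -/
noncomputable def gx (j : P.generators.I) : M.val.obj (op X') := secAt (P.generators.s j) (tO X')

/-- the relations, as sections of the free module over `X'` -/
noncomputable def rr (k : P.relations.I) :
    (SheafOfModules.free (R := R.over X') P.generators.I).val.obj (op (tO X')) :=
  appLin (kernel.ι P.generators.π) (tO X') (secAt (P.relations.s k) (tO X'))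

/-- the coefficients of the relations -/
noncomputable def rc (k : P.relations.I) (j : P.generators.I) : R.obj.obj (op X') :=
  coord j (tO X') (rr M P k)

theorem rel_gx (k : P.relations.I) : ∑ j, rc M P k j • gx M P j = 0 := by
  have h := appLin_kernel_ι P.generators.π (tO X') (secAt (P.relations.s k) (tO X'))
  have h2 : appLin ((M.over X').freeHomEquiv.symm P.generators.s) (tO X') (rr M P k) = 0 := h
  rw [appLin_freeHomEquiv_symm] at h2
  exact h2

/-- the generators restricted along `h' : V ⟶ X'`, as a morphism on the slice over `V` -/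
noncomputable def genV {V : C} (h' : V ⟶ X') :
    SheafOfModules.free (R := R.over V) P.generators.I ⟶ M.over V :=
  freeDesc (tOT V) (M.over V) (fun j => M.val.map h'.op (gx M P j))

theorem appLin_genV {V : C} (h' : V ⟶ X') (Z : Over V)
    (z : (SheafOfModules.free (R := R.over V) P.generators.I).val.obj (op Z)) :
    appLin (genV M P h') Z z = ∑ j, coord j Z z •
      (show (M.over V).val.obj (op Z) from M.val.map (Z.hom ≫ h').op (gx M P j)) := by
  unfold genV
  rw [appLin_freeDesc]
  refine Finset.sum_congr rfl (fun j _ => ?_)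
  congr 1
  rw [over_map_from]
  show (M.val.map Z.hom.op) ((M.val.map h'.op) (gx M P j)) = _
  rw [op_comp, M.val.map_comp]
  rfl

theorem epi_genV {V : C} (h' : V ⟶ X') : Epi (genV M P h') := by
  unfold genV freeDesc
  apply epi_of_cover_combination
  intro Z t
  obtain ⟨S', hS', hc⟩ := exists_cover_combination (M.over X') P.generators
    (Over.mk (Z.hom ≫ h')) (show (M.over X').val.obj (op (Over.mk (Z.hom ≫ h'))) from t)
  obtain ⟨S, hS, hSS'⟩ := transfer_sieve h' Z S' hS'
  refine ⟨S, hS, fun Z'' g hg => ?_⟩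
  obtain ⟨a, ha⟩ := hc _ (hSS' g hg)
  refine ⟨a, ?_⟩
  have hw : g.left ≫ Z.hom = Z''.hom := Over.w g
  have e1 : ∀ i, secAt (P.generators.s i) (Over.mk (g.left ≫ (Over.mk (Z.hom ≫ h')).hom)) =
      (show (M.over X').val.obj (op (Over.mk (g.left ≫ (Over.mk (Z.hom ≫ h')).hom))) from
        M.val.map (Z''.hom ≫ h').op (gx M P i)) := by
    intro i
    rw [secAt_over]
    show M.val.map (g.left ≫ Z.hom ≫ h').op _ = _
    rw [← Category.assoc, hw]
    rfl
  have e2 : ∀ i, secAt ((secT (tOT V) (M.over V)).symm (M.val.map h'.op (gx M P i))) Z'' =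
      (show (M.over V).val.obj (op Z'') from M.val.map (Z''.hom ≫ h').op (gx M P i)) := by
    intro i
    rw [secAt_secT_symm, over_map_from]
    show (M.val.map Z''.hom.op) ((M.val.map h'.op) (gx M P i)) = _
    rw [op_comp, M.val.map_comp]
    rfl
  refine Eq.trans (show (M.over V).val.map g.op t = _ from ha) ?_
  refine Finset.sum_congr rfl (fun i _ => ?_)
  rw [e1, e2]

set_option maxHeartbeats 1600000 in
theorem ker_genV {V : C} (h' : V ⟶ X') (Z : Over V)
    (z : (SheafOfModules.free (R := R.over V) P.generators.I).val.obj (op Z))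
    (hz : appLin (genV M P h') Z z = 0) :
    ∃ S ∈ (J.over V) Z, ∀ ⦃Z'' : Over V⦄ (g : Z'' ⟶ Z), S g →
      ∃ c : P.relations.I → R.obj.obj (op Z''.left), ∀ j,
        coord j Z'' ((SheafOfModules.free (R := R.over V) P.generators.I).val.map g.op z) =
          ∑ k, c k * (R.obj.map (Z''.hom ≫ h').op).hom (rc M P k j) := by
  -- the section of the free module over `X'` with the same coordinates
  let ζ : (SheafOfModules.free (R := R.over X') P.generators.I).val.obj
      (op (Over.mk (Z.hom ≫ h'))) :=
    ofCoord (Over.mk (Z.hom ≫ h')) (fun j => (show (R.over X').obj.obj (op (Over.mk (Z.hom ≫ h')))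
      from coord j Z z))
  have hζ : appLin P.generators.π (Over.mk (Z.hom ≫ h')) ζ = 0 := by
    have h1 : appLin ((M.over X').freeHomEquiv.symm P.generators.s) (Over.mk (Z.hom ≫ h')) ζ =
        ∑ i, (show (R.over X').obj.obj (op (Over.mk (Z.hom ≫ h'))) from coord i Z z) •
          secAt (P.generators.s i) (Over.mk (Z.hom ≫ h')) := appLin_ofCoord _ _ _ _
    refine h1.trans ?_
    rw [appLin_genV] at hz
    refine Eq.trans ?_ hz
    refine Finset.sum_congr rfl (fun i _ => ?_)
    rw [secAt_over]
    rfl
  obtain ⟨ζ', hζ'⟩ := exists_of_kernel P.generators.π (Over.mk (Z.hom ≫ h')) ζ hζ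
  obtain ⟨S', hS', hc⟩ := exists_cover_combination (kernel P.generators.π) P.relations
    (Over.mk (Z.hom ≫ h')) ζ'
  obtain ⟨S, hS, hSS'⟩ := transfer_sieve h' Z S' hS'
  refine ⟨S, hS, fun Z'' g hg => ?_⟩
  obtain ⟨c, hc'⟩ := hc _ (hSS' g hg)
  refine ⟨c, fun j => ?_⟩
  have hw : g.left ≫ Z.hom = Z''.hom := Over.w g
  -- apply `ι` and the `j`-th coordinate to `hc'`
  have e1 := congrArg (fun y => coord j (Over.mk (g.left ≫ (Over.mk (Z.hom ≫ h')).hom))
    (appLin (kernel.ι P.generators.π) _ y)) hc'
  simp only at e1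
  rw [appLin_map, hζ', coord_map, coord_ofCoord, appLin_sum_smul, coord_sum_smul] at e1
  rw [coord_map]
  refine Eq.trans e1 ?_
  refine Finset.sum_congr rfl (fun k _ => ?_)
  congr 1
  rw [← secAt_map (P.relations.s k)
    ((tOT X').from (Over.mk (g.left ≫ (Over.mk (Z.hom ≫ h')).hom))), appLin_map, coord_map]
  show (R.obj.map ((tOT X').from (Over.mk (g.left ≫ (Over.mk (Z.hom ≫ h')).hom))).left.op).hom
    (rc M P k j) = _
  rw [tOT_from_left]
  show (R.obj.map (g.left ≫ Z.hom ≫ h').op).hom (rc M P k j) = _
  rw [← Category.assoc, hw]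

end Pres

end Groth.Agent.Helper1.FlatEq
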