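import Mathlib
import Groth.Prelude.Def_ModSite
import Groth.Agent.Helper1.FlatFP2
import Groth.Agent.Helper1.FlatEq3

/-!
# FlatFP3: a morphism from a finitely presented module to a flat module factors locally through a
finite free module (ringed sites)
-/

set_option autoImplicit false
set_option linter.unusedSectionVars false
set_option backward.isDefEq.respectTransparency false
universe u
open CategoryTheory CategoryTheory.Limits Opposite

namespace Groth.Agent.Helper1.FlatEq

open Groth.Agent.Helper1.LG

variable {C : Type u} [SmallCategory C] {J : GrothendieckTopology C} (O : Sheaf J CommRingCat.{u})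
  (F H : ModSite.Mod O) (φ : F ⟶ H)

section Core

variable {X' V : C} (P : (F.over X').Presentation) [Fintype P.generators.I]
  [DecidableEq P.generators.I] [Fintype P.relations.I] (h' : V ⟶ X') {l : ℕ}
  (t : Fin l → H.val.obj (op V)) (a0 : P.generators.I → Fin l → O.obj.obj (op V))

/-- the images of the basis sections under the first map of the factorisation -/
noncomputable def Aj (j : P.generators.I) :
    (SheafOfModules.free (R := (ModSite.ringSh O).over V) (ULift.{u} (Fin l))).val.obj
      (op (tO V)) :=
  ofCoord (tO V) (fun m : ULift.{u} (Fin l) =>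
    (show ((ModSite.ringSh O).over V).obj.obj (op (tO V)) from a0 j m.down))

/-- the first map of the factorisation, on the free module -/
noncomputable def aFree : SheafOfModules.free (R := (ModSite.ringSh O).over V) P.generators.I ⟶
    SheafOfModules.free (R := (ModSite.ringSh O).over V) (ULift.{u} (Fin l)) :=
  freeDesc (tOT V) _ (Aj O F P a0)

/-- the second map of the factorisation -/
noncomputable def bFree : SheafOfModules.free (R := (ModSite.ringSh O).over V) (ULift.{u} (Fin l)) ⟶
    H.over V :=
  freeDesc (tOT V) (H.over V) (fun m : ULift.{u} (Fin l) => t m.down)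

theorem coord_aFree (Z : Over V)
    (z : (SheafOfModules.free (R := (ModSite.ringSh O).over V) P.generators.I).val.obj (op Z))
    (m : ULift.{u} (Fin l)) :
    coord m Z (appLin (aFree O F P a0) Z z) =
      ∑ j, coord j Z z * (show ((ModSite.ringSh O).over V).obj.obj (op Z) from
        (O.obj.map Z.hom.op).hom (a0 j m.down)) := by
  unfold aFree
  rw [appLin_freeDesc, coord_sum_smul]
  refine Finset.sum_congr rfl (fun j _ => ?_)
  congr 1
  rw [coord_map]
  unfold Aj
  rw [coord_ofCoord]
  show (O.obj.map ((tOT V).from Z).left.op).hom (a0 j m.down) = _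
  rw [tOT_from_left]
  rfl

theorem alg1 {A : Type*} [CommRing A] {ι κ : Type*} [Fintype ι] [Fintype κ] (c : κ → A)
    (ρ : κ → ι → A) (α : ι → A) (h : ∀ k, ∑ j, ρ k j * α j = 0) :
    ∑ j, (∑ k, c k * ρ k j) * α j = 0 := by
  simp_rw [Finset.sum_mul]
  rw [Finset.sum_comm]
  refine Finset.sum_eq_zero (fun k _ => ?_)
  simp_rw [mul_assoc]
  rw [← Finset.mul_sum, h k, mul_zero]

set_option maxHeartbeats 1600000 in
theorem ker_aFree
    (h2 : ∀ k (m : Fin l), ∑ j, (O.obj.map h'.op).hom
      (show O.obj.obj (op X') from rc F P k j) * a0 j m = 0) :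
    kernel.ι (genV F P h') ≫ aFree O F P a0 = 0 := by
  apply hom_ext_appLin
  intro Z z'
  rw [appLin_comp]
  show appLin (aFree O F P a0) Z (appLin (kernel.ι (genV F P h')) Z z') = 0
  have hz : appLin (genV F P h') Z (appLin (kernel.ι (genV F P h')) Z z') = 0 :=
    appLin_kernel_ι _ Z z'
  obtain ⟨S, hS, hc⟩ := ker_genV F P h' Z _ hz
  refine eq_zero_of_cover _ Z _ S hS (fun Z'' g hg => ?_)
  obtain ⟨c, hc'⟩ := hc g hg
  rw [← appLin_map]
  apply free_ext
  intro m
  rw [coord_aFree]
  have hz0 : coord m Z'' (0 : (SheafOfModules.free (R := (ModSite.ringSh O).over V)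
      (ULift.{u} (Fin l))).val.obj (op Z'')) = 0 := map_zero _
  rw [hz0]
  rw [Finset.sum_congr rfl (fun j _ => by rw [hc' j])]
  refine alg1 (A := O.obj.obj (op Z''.left)) c _ _ (fun k => ?_)
  have e1 := congrArg (O.obj.map Z''.hom.op).hom (h2 k m.down)
  rw [map_sum, map_zero] at e1
  refine Eq.trans ?_ e1
  refine Finset.sum_congr rfl (fun j _ => ?_)
  rw [map_mul]
  congr 1
  show ((ModSite.ringSh O).obj.map (Z''.hom ≫ h').op).hom (rc F P k j) = _
  rw [op_comp, Functor.map_comp]
  rfl

set_option maxHeartbeats 1600000 in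
theorem exists_factor
    (h1 : ∀ j, H.val.map h'.op (appLin φ X' (gx F P j)) = ∑ m, a0 j m • t m)
    (h2 : ∀ k (m : Fin l), ∑ j, (O.obj.map h'.op).hom
      (show O.obj.obj (op X') from rc F P k j) * a0 j m = 0) :
    ∃ a : F.over V ⟶ SheafOfModules.free (R := (ModSite.ringSh O).over V) (ULift.{u} (Fin l)),
      a ≫ bFree O H t = (ModSite.restr O V).map φ := by
  haveI := epi_genV F P h'
  refine ⟨Abelian.epiDesc (genV F P h') (aFree O F P a0) (ker_aFree O F P h' a0 h2), ?_⟩
  rw [← cancel_epi (genV F P h'), ← Category.assoc, Abelian.comp_epiDesc]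
  apply free_hom_ext_terminal (tOT V)
  intro j
  rw [appLin_comp, appLin_comp]
  have e1 : appLin (aFree O F P a0) (tO V) (eb j (tO V)) = Aj O F P a0 j := freeDesc_eb _ _ _ _
  have e2 : appLin (genV F P h') (tO V) (eb j (tO V)) =
      (show (F.over V).val.obj (op (tO V)) from F.val.map h'.op (gx F P j)) := freeDesc_eb _ _ _ _
  rw [e1, e2]
  have e3 : appLin ((ModSite.restr O V).map φ) (tO V)
      (show (F.over V).val.obj (op (tO V)) from F.val.map h'.op (gx F P j)) =
      (show (H.over V).val.obj (op (tO V)) from H.val.map h'.op (appLin φ X' (gx F P j))) :=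
    appLin_map φ h' (gx F P j)
  rw [e3, h1 j]
  unfold bFree
  rw [appLin_freeDesc]
  refine Eq.trans ?_ (Equiv.sum_comp Equiv.ulift (fun m : Fin l => a0 j m • t m))
  refine Finset.sum_congr rfl (fun m _ => ?_)
  unfold Aj
  rw [coord_ofCoord]
  have e5 : (H.over V).val.map ((tOT V).from (tO V)).op
      (show (H.over V).val.obj (op (tO V)) from t m.down) =
      (show (H.over V).val.obj (op (tO V)) from t m.down) := by
    rw [over_map_from]
    show H.val.map (𝟙 V).op (t m.down) = t m.down
    rw [op_id, H.val.map_id]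
    rfl
  rw [e5]
  rfl

end Core

/-- a morphism from a module with a finite presentation over `X'` to a flat module factors through
a finite free module locally on `X'` -/
theorem local_factor (hH : ModSite.IsFlat H) {X' : C} (P : (F.over X').Presentation)
    [Finite P.generators.I] [Finite P.relations.I] :
    ∃ S ∈ J X', ∀ ⦃V : C⦄ (h' : V ⟶ X'), S h' →
      ∃ (n : ℕ) (a : (ModSite.restr O V).obj F ⟶ SheafOfModules.free (ULift.{u} (Fin n)))
        (b : SheafOfModules.free (ULift.{u} (Fin n)) ⟶ (ModSite.restr O V).obj H),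
        a ≫ b = (ModSite.restr O V).map φ := by
  classical
  haveI : Fintype P.generators.I := Fintype.ofFinite _
  haveI : Fintype P.relations.I := Fintype.ofFinite _
  have hrel : ∀ k, ∑ j, (show O.obj.obj (op X') from rc F P k j) • appLin φ X' (gx F P j) = 0 := by
    intro k
    have h := congrArg (appLin φ X') (rel_gx F P k)
    rw [map_sum, map_zero] at h
    refine Eq.trans ?_ h
    refine Finset.sum_congr rfl (fun j _ => ?_)
    exact (map_smul (appLin φ X') _ _).symm
  obtain ⟨S, hS, hdata⟩ := flat_relations O H hH X'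
    (fun k j => (show O.obj.obj (op X') from rc F P k j)) (fun j => appLin φ X' (gx F P j)) hrel
  refine ⟨S, hS, fun V h' hh' => ?_⟩
  obtain ⟨l, t, a0, h1, h2⟩ := hdata h' hh'
  obtain ⟨a, ha⟩ := exists_factor O F H φ P h' t a0 h1 h2
  exact ⟨l, a, bFree O H t, ha⟩

end Groth.Agent.Helper1.FlatEq
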