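import Mathlib
import Groth.Prelude.Def_ModSite2
import Groth.Agent.Helper1.FlatEq4
import Groth.Agent.Helper1.FlatConv3

/-!
# FlatStalk1: lifting finitely many germ equations to a neighbourhood of a point of a site
-/

set_option autoImplicit false
set_option linter.unusedSectionVars false
set_option backward.isDefEq.respectTransparency false
universe u u' v' w'
open CategoryTheory CategoryTheory.Limits Opposite

namespace Groth.Agent.Helper1.FlatStalk

variable {C : Type u} [SmallCategory C] {J : GrothendieckTopology C}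
  (p : GrothendieckTopology.Point.{u} J)

section generic

variable {A : Type u'} [Category.{v'} A] [HasColimitsOfSize.{u, u} A]
  {FC : A → A → Type*} {CC : A → Type u}
  [∀ (X Y : A), FunLike (FC X Y) (CC X) (CC Y)]
  [ConcreteCategory.{u} A FC] [PreservesFilteredColimitsOfSize.{u, u} (forget A)]
  (P : Cᵒᵖ ⥤ A)

/-- finitely many equalities of germs hold on a common smaller neighbourhood -/
theorem exists_eq_fin : ∀ (m : ℕ) (X : C) (z : p.fiber.obj X)
    (a b : Fin m → ToType (P.obj (op X))),
    (∀ i, p.toPresheafFiber X z P (a i) = p.toPresheafFiber X z P (b i)) →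
    ∃ (Y : C) (g : Y ⟶ X) (y : p.fiber.obj Y), p.fiber.map g y = z ∧
      ∀ i, P.map g.op (a i) = P.map g.op (b i) := by
  intro m
  induction m with
  | zero =>
    intro X z a b _
    exact ⟨X, 𝟙 X, z, by simp, fun i => Fin.elim0 i⟩
  | succ m ih =>
    intro X z a b h
    obtain ⟨Y, g, y, hy, hg⟩ := ih X z (fun i => a i.castSucc) (fun i => b i.castSucc)
      (fun i => h i.castSucc)
    have h1 : p.toPresheafFiber Y y P (P.map g.op (a (Fin.last m))) =
        p.toPresheafFiber Y y P (P.map g.op (b (Fin.last m))) := by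
      rw [p.toPresheafFiber_w_apply, p.toPresheafFiber_w_apply, hy]
      exact h (Fin.last m)
    obtain ⟨Y', g', y', hy', hg'⟩ := (p.toPresheafFiber_eq_iff' (P := P) Y y _ _).1 h1
    refine ⟨Y', g' ≫ g, y', ?_, fun i => ?_⟩
    · rw [Functor.map_comp]
      show p.fiber.map g (p.fiber.map g' y') = z
      rw [hy', hy]
    · have hc : ∀ t : ToType (P.obj (op X)), P.map (g' ≫ g).op t = P.map g'.op (P.map g.op t) := by
        intro t
        rw [op_comp, P.map_comp]
        exact ConcreteCategory.comp_apply _ _ _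
      rw [hc, hc]
      induction i using Fin.lastCases with
      | last => exact hg'
      | cast i => exact congrArg _ (hg i)

end generic

variable {O : Sheaf J CommRingCat.{u}}

theorem exists_eq_fin_mod (F : ModSite.Mod O) {m : ℕ} (X : C) (z : p.fiber.obj X)
    (a b : Fin m → ModSite.sect F X)
    (h : ∀ i, ModSite.germ p F X z (a i) = ModSite.germ p F X z (b i)) :
    ∃ (Y : C) (g : Y ⟶ X) (y : p.fiber.obj Y), p.fiber.map g y = z ∧
      ∀ i, (F.val.map g.op).hom (a i) = (F.val.map g.op).hom (b i) :=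
  exists_eq_fin p (ModSite.toAb F).obj m X z a b h

theorem exists_eq_fin_ring {m : ℕ} (X : C) (z : p.fiber.obj X)
    (a b : Fin m → O.obj.obj (op X))
    (h : ∀ i, ModSite.germRing p X z (a i) = ModSite.germRing p X z (b i)) :
    ∃ (Y : C) (g : Y ⟶ X) (y : p.fiber.obj Y), p.fiber.map g y = z ∧
      ∀ i, (O.obj.map g.op).hom (a i) = (O.obj.map g.op).hom (b i) :=
  exists_eq_fin p O.obj m X z a b h

/-- finitely many germs of functions and of sections live on a common neighbourhood below a
given one -/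
theorem exists_rep_below (F : ModSite.Mod O) {ι κ : Type} [Fintype ι] [Fintype κ]
    (U : C) (x : p.fiber.obj U) (f : ι → ModSite.stalkRing p O)
    (y : κ → ModSite.stalkAb p F) :
    ∃ (X : C) (g : X ⟶ U) (z : p.fiber.obj X), p.fiber.map g z = x ∧
      ∃ (f0 : ι → O.obj.obj (op X)) (s0 : κ → ModSite.sect F X),
      (∀ i, ModSite.germRing p X z (f0 i) = f i) ∧ ∀ i, ModSite.germ p F X z (s0 i) = y i := by
  classical
  choose X1 x1 r1 hr1 using fun i => p.toPresheafFiber_jointly_surjective (P := O.obj) (f i)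
  choose X2 x2 m2 hm2 using fun i =>
    p.toPresheafFiber_jointly_surjective (P := (ModSite.toAb F).obj) (y i)
  obtain ⟨S, hS⟩ := IsCofiltered.inf_objs_exists (C := p.fiber.Elements)
    (insert (⟨U, x⟩ : p.fiber.Elements)
    ((Finset.univ.image (fun i : ι => (⟨X1 i, x1 i⟩ : p.fiber.Elements))) ∪
      (Finset.univ.image (fun i : κ => (⟨X2 i, x2 i⟩ : p.fiber.Elements)))))
  have h0 : Nonempty (S ⟶ (⟨U, x⟩ : p.fiber.Elements)) := hS (Finset.mem_insert_self _ _)
  have h1 : ∀ i, Nonempty (S ⟶ (⟨X1 i, x1 i⟩ : p.fiber.Elements)) := fun i =>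
    hS (Finset.mem_insert_of_mem
      (Finset.mem_union_left _ (Finset.mem_image_of_mem _ (Finset.mem_univ i))))
  have h2 : ∀ i, Nonempty (S ⟶ (⟨X2 i, x2 i⟩ : p.fiber.Elements)) := fun i =>
    hS (Finset.mem_insert_of_mem
      (Finset.mem_union_right _ (Finset.mem_image_of_mem _ (Finset.mem_univ i))))
  refine ⟨S.1, h0.some.1, S.2, h0.some.2, fun i => (O.obj.map (h1 i).some.1.op).hom (r1 i),
    fun i => (F.val.map (h2 i).some.1.op).hom (m2 i), fun i => ?_, fun i => ?_⟩
  · rw [FlatEq.germRing_map]
    have e : p.fiber.map (h1 i).some.1 S.2 = x1 i := (h1 i).some.2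
    rw [e]
    exact hr1 i
  · have e : p.fiber.map (h2 i).some.1 S.2 = x2 i := (h2 i).some.2
    refine (FlatEq.germ_map p F (h2 i).some.1 S.2 (m2 i)).trans ?_
    rw [e]
    exact hm2 i

end Groth.Agent.Helper1.FlatStalk
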