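import Mathlib
import Groth.Prelude.Def_ModSite2
import Groth.Agent.Helper1.FlatStalk1

/-!
# FlatStalk2: flat stalks at a conservative family of points ⇒ flat
-/

set_option autoImplicit false
set_option linter.unusedSectionVars false
set_option backward.isDefEq.respectTransparency false
universe u
open CategoryTheory CategoryTheory.Limits Opposite

namespace Groth.Agent.Helper1.FlatStalk

variable {C : Type u} [SmallCategory C] {J : GrothendieckTopology C}
  {O : Sheaf J CommRingCat.{u}}

open FlatConv FlatEq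

/-- the sieve of arrows along which a relation becomes trivial -/
def trivSieve (F : ModSite.Mod O) (U : C) {n : ℕ} (f : Fin n → O.obj.obj (op U))
    (s : Fin n → ModSite.sect F U) : Sieve U where
  arrows V g := ∃ (l : ℕ) (t : Fin l → ModSite.sect F V) (a : Fin n → Fin l → O.obj.obj (op V)),
        (∀ j, (F.val.map g.op).hom (s j) = ∑ k, a j k • t k) ∧
        (∀ k, ∑ j, a j k * (O.obj.map g.op).hom (f j) = 0)
  downward_closed := by
    rintro V W g ⟨l, t, a, h1, h2⟩ h
    refine ⟨l, fun k => (F.val.map h.op).hom (t k), fun j k => (O.obj.map h.op).hom (a j k),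
      fun j => ?_, fun k => ?_⟩
    · rw [res_comp, h1 j, res_sum_smul]
    · have e := congrArg (O.obj.map h.op).hom (h2 k)
      rw [map_sum, map_zero] at e
      refine Eq.trans ?_ e
      refine Finset.sum_congr rfl (fun j _ => ?_)
      rw [map_mul, resR_comp]

/-- the pointwise criterion at one point -/
theorem exists_trivSieve_point (p : GrothendieckTopology.Point.{u} J) (F : ModSite.Mod O)
    (hflat : Module.Flat (ModSite.stalkRing p O) (ModSite.stalkMod p F))
    (U : C) {n : ℕ} (f : Fin n → O.obj.obj (op U)) (s : Fin n → ModSite.sect F U)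
    (hrel : ∑ j, f j • s j = 0) (x : p.fiber.obj U) :
    ∃ (V : C) (g : V ⟶ U), (trivSieve F U f s).arrows g ∧ ∃ y : p.fiber.obj V,
      p.fiber.map g y = x := by
  classical
  have h0 : ∑ j, ModSite.germRing p U x (f j) • ModSite.germ p F U x (s j) = 0 := by
    have e := congrArg (ModSite.germ p F U x) hrel
    rw [germ_sum, germ_zero] at e
    refine Eq.trans ?_ e
    refine Finset.sum_congr rfl (fun j _ => ?_)
    exact (ModSite.germ_smul p F U x _ _).symm
  obtain ⟨l, a', y', hx, ha⟩ := Module.Flat.isTrivialRelation_of_sum_smul_eq_zero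
    (R := ModSite.stalkRing p O) (M := ModSite.stalkMod p F) h0
  obtain ⟨X, g, z, hz, a0, t0, ha0, ht0⟩ := exists_rep_below p F U x
    (fun jk : Fin n × Fin l => a' jk.1 jk.2) y'
  -- the module equations hold in the stalk
  have e1 : ∀ j, ModSite.germ p F X z ((F.val.map g.op).hom (s j)) =
      ModSite.germ p F X z (∑ k, a0 (j, k) • t0 k) := by
    intro j
    rw [germ_map, hz, germ_sum]
    refine (hx j).trans ?_
    refine Finset.sum_congr rfl (fun k _ => ?_)
    rw [ModSite.germ_smul, ha0, ht0]
  obtain ⟨Y, g1, y1, hy1, hg1⟩ := exists_eq_fin_mod p F X z _ _ e1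
  -- the ring equations hold in the stalk
  have e2 : ∀ k, ModSite.germRing p Y y1
      (∑ j, (O.obj.map g1.op).hom (a0 (j, k)) * (O.obj.map (g1 ≫ g).op).hom (f j)) =
      ModSite.germRing p Y y1 0 := by
    intro k
    rw [germRing_sum, germRing_zero]
    refine Eq.trans ?_ (ha k)
    refine Finset.sum_congr rfl (fun j _ => ?_)
    rw [germRing_mul, germRing_map, germRing_map, hy1, ha0, mul_comm]
    congr 1
    rw [Functor.map_comp]
    show ModSite.germRing p U (p.fiber.map g (p.fiber.map g1 y1)) (f j) = _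
    rw [hy1, hz]
  obtain ⟨Y', g2, y2, hy2, hg2⟩ := exists_eq_fin_ring p Y y1 _ _ e2
  refine ⟨Y', g2 ≫ g1 ≫ g, ⟨l, fun k => (F.val.map (g2 ≫ g1).op).hom (t0 k),
    fun j k => (O.obj.map (g2 ≫ g1).op).hom (a0 (j, k)), fun j => ?_, fun k => ?_⟩, y2, ?_⟩
  · have e3 := congrArg (F.val.map g2.op).hom (hg1 j)
    rw [← Category.assoc, res_comp]
    refine Eq.trans ?_ (res_sum_smul F (g2 ≫ g1) Finset.univ (fun k => a0 (j, k)) t0)
    rw [res_comp, res_comp]
    exact e3
  · have e4 : (O.obj.map g2.op).hom (∑ j, (O.obj.map g1.op).hom (a0 (j, k)) *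
        (O.obj.map (g1 ≫ g).op).hom (f j)) = (O.obj.map g2.op).hom 0 := hg2 k
    rw [map_sum, map_zero] at e4
    refine Eq.trans ?_ e4
    refine Finset.sum_congr rfl (fun j _ => ?_)
    rw [map_mul, ← resR_comp, ← resR_comp]
  · rw [Functor.map_comp, Functor.map_comp]
    show p.fiber.map g (p.fiber.map g1 (p.fiber.map g2 y2)) = x
    rw [hy2, hy1, hz]

/-- flat stalks at a conservative family of points ⇒ the equational criterion -/
theorem eqCrit_of_flat_stalks (P : ObjectProperty (GrothendieckTopology.Point.{u} J))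
    (hP : P.IsConservativeFamilyOfPoints) (F : ModSite.Mod O)
    (h : ∀ p : GrothendieckTopology.Point.{u} J, P p →
      Module.Flat (ModSite.stalkRing p O) (ModSite.stalkMod p F)) : EqCrit F := by
  intro U n f s hrel
  refine ⟨trivSieve F U f s, ?_, fun V g hg => hg⟩
  let ι := Σ V : C, {g : V ⟶ U // (trivSieve F U f s).arrows g}
  refine J.superset_covering (S := Sieve.ofArrows (fun i : ι => i.1) (fun i => i.2.1)) ?_ ?_
  · rw [Sieve.generate_le_iff, Presieve.ofArrows_le_iff]
    exact fun i => i.2.2
  · rw [hP.jointly_reflect_ofArrows_mem]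
    intro Φ x
    obtain ⟨V, g, hg, y, hy⟩ :=
      exists_trivSieve_point Φ.obj F (h Φ.obj Φ.property) U f s hrel x
    exact ⟨⟨V, g, hg⟩, y, hy⟩

/-- flat stalks at a conservative family of points ⇒ flat -/
theorem isFlat_of_flat_stalks (P : ObjectProperty (GrothendieckTopology.Point.{u} J))
    (hP : P.IsConservativeFamilyOfPoints) (F : ModSite.Mod O)
    (h : ∀ p : GrothendieckTopology.Point.{u} J, P p →
      Module.Flat (ModSite.stalkRing p O) (ModSite.stalkMod p F)) : ModSite.IsFlat F :=
  isFlat_of_eqCrit F (eqCrit_of_flat_stalks P hP F h)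

end Groth.Agent.Helper1.FlatStalk
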