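import Mathlib

/-!
# Grauert's criterion, algebra 1: Taylor coefficients and membership in `𝔭[X]`
-/

set_option autoImplicit false

namespace Groth.Agent.Helper1.GA

open Polynomial

theorem coeff_sum_C_mul_X_pow {B : Type*} [CommRing B] (c : ℕ → B) (n k : ℕ) :
    (∑ j ∈ Finset.range (n + 1), C (c j) * X ^ j : B[X]).coeff k = if k ≤ n then c k else 0 := by
  rw [Polynomial.finset_sum_coeff]
  simp only [Polynomial.coeff_C_mul_X_pow]
  split_ifs with h
  · rw [Finset.sum_eq_single k]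
    · simp
    · intro j _ hj; rw [if_neg (fun e => hj e.symm)]
    · intro hk; exact absurd (Finset.mem_range.mpr (by omega)) hk
  · apply Finset.sum_eq_zero
    intro j hj
    rw [Finset.mem_range] at hj
    rw [if_neg (by omega)]

/-- a fraction `F / G^m` with `G(0) ∉ 𝔭` vanishes modulo `𝔭` iff all its Taylor coefficients
lie in `𝔭` -/
theorem mem_map_C_iff_taylor {B : Type*} [CommRing B] (𝔭 : Ideal B) [𝔭.IsPrime]
    (F G : B[X]) (m : ℕ) (c : ℕ → B) (hG : G.coeff 0 ∉ 𝔭)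
    (hc : ∀ n, X ^ (n + 1) ∣ F - G ^ m * ∑ k ∈ Finset.range (n + 1), C (c k) * X ^ k) :
    F ∈ Ideal.map C 𝔭 ↔ ∀ n, c n ∈ 𝔭 := by
  set φ := Polynomial.mapRingHom (Ideal.Quotient.mk 𝔭) with hφ
  have hker : ∀ P : B[X], P ∈ Ideal.map C 𝔭 ↔ φ P = 0 := by
    intro P
    rw [Ideal.mem_map_C_iff]
    constructor
    · intro h
      ext k
      rw [hφ, Polynomial.coe_mapRingHom, Polynomial.coeff_map, Polynomial.coeff_zero]
      exact Ideal.Quotient.eq_zero_iff_mem.mpr (h k)
    · intro h k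
      have := congrArg (fun Q => Polynomial.coeff Q k) h
      simp only [hφ, Polynomial.coe_mapRingHom, Polynomial.coeff_map, Polynomial.coeff_zero] at this
      exact Ideal.Quotient.eq_zero_iff_mem.mp this
  have hS : ∀ n, φ (∑ k ∈ Finset.range (n + 1), C (c k) * X ^ k) =
      ∑ k ∈ Finset.range (n + 1), C (Ideal.Quotient.mk 𝔭 (c k)) * X ^ k := by
    intro n
    rw [map_sum]
    apply Finset.sum_congr rfl
    intro k _
    rw [map_mul, map_pow, hφ, Polynomial.coe_mapRingHom, Polynomial.map_C, Polynomial.map_X]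
  have hc' : ∀ n, (X : (B ⧸ 𝔭)[X]) ^ (n + 1) ∣ φ F - (φ G) ^ m *
      ∑ k ∈ Finset.range (n + 1), C (Ideal.Quotient.mk 𝔭 (c k)) * X ^ k := by
    intro n
    have := map_dvd φ (hc n)
    rw [map_pow, map_sub, map_mul, map_pow, hS] at this
    have hX : φ X = X := by rw [hφ, Polynomial.coe_mapRingHom, Polynomial.map_X]
    rwa [hX] at this
  rw [hker]
  constructor
  · intro hF n
    have h1 := hc' n
    rw [hF, zero_sub, dvd_neg] at h1
    have hnd : ¬ (X : (B ⧸ 𝔭)[X]) ∣ (φ G) ^ m := by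
      intro h
      have h2 := (Polynomial.prime_X (R := B ⧸ 𝔭)).dvd_of_dvd_pow h
      rw [Polynomial.X_dvd_iff, hφ, Polynomial.coe_mapRingHom, Polynomial.coeff_map] at h2
      exact hG (Ideal.Quotient.eq_zero_iff_mem.mp h2)
    have h3 := (Polynomial.prime_X (R := B ⧸ 𝔭)).pow_dvd_of_dvd_mul_left (n + 1) hnd h1
    rw [Polynomial.X_pow_dvd_iff] at h3
    have h4 := h3 n (Nat.lt_succ_self n)
    rw [coeff_sum_C_mul_X_pow, if_pos le_rfl] at h4
    exact Ideal.Quotient.eq_zero_iff_mem.mp h4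
  · intro hcp
    ext n
    have h1 := hc' n
    have h0 : (∑ k ∈ Finset.range (n + 1), C (Ideal.Quotient.mk 𝔭 (c k)) * X ^ k : (B ⧸ 𝔭)[X]) = 0 := by
      apply Finset.sum_eq_zero
      intro k _
      rw [Ideal.Quotient.eq_zero_iff_mem.mpr (hcp k), map_zero, zero_mul]
    rw [h0, mul_zero, sub_zero, Polynomial.X_pow_dvd_iff] at h1
    rw [h1 n (Nat.lt_succ_self n), Polynomial.coeff_zero]

end Groth.Agent.Helper1.GA
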