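import Mathlib
import Groth.Agent.Helper1.PC1

/-!
# Grauert's criterion, algebra 2: truncations `R / R_{>n}` of a graded ring
-/

set_option autoImplicit false

namespace Groth.Agent.Helper1.GA

open DirectSum Groth.Agent.Helper1.PC
open scoped HomogeneousIdeal

universe u

variable {R σ : Type u} [CommRing R] [SetLike σ R] [AddSubgroupClass σ R] (𝒜 : ℕ → σ)
  [GradedRing 𝒜]

/-- the ideal `R_{>n}` of elements whose components of degree `≤ n` vanish -/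
def Jn (n : ℕ) : Ideal R where
  carrier := {x | ∀ k ≤ n, GradedRing.proj 𝒜 k x = 0}
  add_mem' := by
    intro a b ha hb k hk
    rw [map_add, ha k hk, hb k hk, add_zero]
  zero_mem' := by
    intro k _
    exact map_zero _
  smul_mem' := by
    intro r x hx k hk
    classical
    rw [smul_eq_mul, ← DirectSum.sum_support_decompose 𝒜 x, Finset.mul_sum, map_sum]
    apply Finset.sum_eq_zero
    intro i _
    by_cases hi : i ≤ n
    · have : (DirectSum.decompose 𝒜 x i : R) = 0 := hx i hi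
      rw [this, mul_zero, map_zero]
    · rw [GradedRing.proj_apply]
      exact DirectSum.coe_decompose_mul_of_right_mem_of_not_le 𝒜 (SetLike.coe_mem _) (by omega)

theorem mem_Jn {n : ℕ} {x : R} : x ∈ Jn 𝒜 n ↔ ∀ k ≤ n, GradedRing.proj 𝒜 k x = 0 := Iff.rfl

theorem mem_Jn_of_mem {n k : ℕ} (hk : n < k) {x : R} (hx : x ∈ 𝒜 k) : x ∈ Jn 𝒜 n := by
  intro j hj
  rw [proj_of_mem hx, if_neg (by omega)]

theorem Jn_anti {n m : ℕ} (h : m ≤ n) : Jn 𝒜 n ≤ Jn 𝒜 m := fun _ hx k hk => hx k (hk.trans h)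

/-- a prime containing `R_{>n}` contains the irrelevant ideal -/
theorem irrelevant_le_of_Jn_le {n : ℕ} (𝔮 : Ideal R) [𝔮.IsPrime] (h : Jn 𝒜 n ≤ 𝔮) :
    (𝒜₊).toIdeal ≤ 𝔮 := by
  intro x hx
  classical
  rw [← DirectSum.sum_support_decompose 𝒜 x]
  apply Ideal.sum_mem
  intro i _
  by_cases hi : i = 0
  · subst hi
    have : (DirectSum.decompose 𝒜 x 0 : R) = 0 := hx
    rw [this]; exact zero_mem _
  · have h1 : (DirectSum.decompose 𝒜 x i : R) ^ (n + 1) ∈ 𝒜 ((n + 1) • i) :=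
      SetLike.pow_mem_graded (n + 1) (SetLike.coe_mem _)
    have h2 : (DirectSum.decompose 𝒜 x i : R) ^ (n + 1) ∈ Jn 𝒜 n := by
      apply mem_Jn_of_mem 𝒜 _ h1
      rw [smul_eq_mul]
      have : 1 ≤ i := Nat.one_le_iff_ne_zero.mpr hi
      nlinarith
    exact Ideal.IsPrime.mem_of_pow_mem inferInstance _ (h h2)

/-- the degree-`m` component of a class modulo `R_{>n}` -/
noncomputable def coef (n m : ℕ) (q : R ⧸ Jn 𝒜 n) : R :=
  GradedRing.proj 𝒜 m (Quotient.out q)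

theorem coef_mem (n m : ℕ) (q : R ⧸ Jn 𝒜 n) : coef 𝒜 n m q ∈ 𝒜 m := by
  unfold coef
  rw [GradedRing.proj_apply]
  exact SetLike.coe_mem _

theorem coef_mk {n m : ℕ} (hm : m ≤ n) (r : R) :
    coef 𝒜 n m (Ideal.Quotient.mk (Jn 𝒜 n) r) = GradedRing.proj 𝒜 m r := by
  unfold coef
  have h1 : Ideal.Quotient.mk (Jn 𝒜 n) (Quotient.out (Ideal.Quotient.mk (Jn 𝒜 n) r)) =
      Ideal.Quotient.mk (Jn 𝒜 n) r := Ideal.Quotient.mk_out _
  rw [Ideal.Quotient.eq] at h1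
  have h2 := h1 m hm
  rw [map_sub, sub_eq_zero] at h2
  exact h2

theorem mk_sum_coef (n : ℕ) (q : R ⧸ Jn 𝒜 n) :
    Ideal.Quotient.mk (Jn 𝒜 n) (∑ m ∈ Finset.range (n + 1), coef 𝒜 n m q) = q := by
  obtain ⟨r, rfl⟩ := Ideal.Quotient.mk_surjective q
  rw [Ideal.Quotient.eq]
  intro k hk
  rw [map_sub, map_sum, sub_eq_zero]
  rw [Finset.sum_eq_single k]
  · rw [coef_mk 𝒜 hk, proj_of_mem (by rw [GradedRing.proj_apply]; exact SetLike.coe_mem _),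
      if_pos rfl]
  · intro m hm hmk
    rw [Finset.mem_range] at hm
    rw [coef_mk 𝒜 (by omega), proj_of_mem (by rw [GradedRing.proj_apply]; exact SetLike.coe_mem _),
      if_neg hmk]
  · intro h
    exact absurd (Finset.mem_range.mpr (by omega)) h

section natural

variable {R' σ' : Type u} [CommRing R'] [SetLike σ' R'] [AddSubgroupClass σ' R'] (ℬ : ℕ → σ')
  [GradedRing ℬ]

theorem map_proj (r : 𝒜 →+*ᵍ ℬ) (k : ℕ) (x : R) :
    r (GradedRing.proj 𝒜 k x) = GradedRing.proj ℬ k (r x) := by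
  rw [GradedRing.proj_apply, GradedRing.proj_apply]
  exact GradedRingHom.map_directSumDecompose 𝒜 ℬ r

theorem map_mem_Jn (r : 𝒜 →+*ᵍ ℬ) {n : ℕ} {x : R} (hx : x ∈ Jn 𝒜 n) : r x ∈ Jn ℬ n := by
  intro k hk
  rw [← map_proj, hx k hk, map_zero]

theorem Jn_le_comap (r : 𝒜 →+*ᵍ ℬ) (n : ℕ) :
    Jn 𝒜 n ≤ (Jn ℬ n).comap (r : R →+* R') := fun _ hx => map_mem_Jn 𝒜 ℬ r hx

/-- the induced map on truncations -/
noncomputable def truncMap (r : 𝒜 →+*ᵍ ℬ) (n : ℕ) : R ⧸ Jn 𝒜 n →+* R' ⧸ Jn ℬ n :=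
  Ideal.quotientMap (Jn ℬ n) (r : R →+* R') (Jn_le_comap 𝒜 ℬ r n)

theorem truncMap_mk (r : 𝒜 →+*ᵍ ℬ) (n : ℕ) (x : R) :
    truncMap 𝒜 ℬ r n (Ideal.Quotient.mk _ x) = Ideal.Quotient.mk _ (r x) := rfl

theorem coef_truncMap (r : 𝒜 →+*ᵍ ℬ) {n m : ℕ} (hm : m ≤ n) (q : R ⧸ Jn 𝒜 n) :
    coef ℬ n m (truncMap 𝒜 ℬ r n q) = r (coef 𝒜 n m q) := by
  obtain ⟨x, rfl⟩ := Ideal.Quotient.mk_surjective q
  rw [truncMap_mk, coef_mk ℬ hm, coef_mk 𝒜 hm, map_proj]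

end natural

/-- lowering the truncation level -/
noncomputable def truncLower {n m : ℕ} (h : m ≤ n) : R ⧸ Jn 𝒜 n →+* R ⧸ Jn 𝒜 m :=
  Ideal.Quotient.factor (Jn_anti 𝒜 h)

theorem truncLower_mk {n m : ℕ} (h : m ≤ n) (x : R) :
    truncLower 𝒜 h (Ideal.Quotient.mk _ x) = Ideal.Quotient.mk _ x := rfl

theorem coef_truncLower {n m k : ℕ} (h : m ≤ n) (hk : k ≤ m) (q : R ⧸ Jn 𝒜 n) :
    coef 𝒜 m k (truncLower 𝒜 h q) = coef 𝒜 n k q := by
  obtain ⟨x, rfl⟩ := Ideal.Quotient.mk_surjective q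
  rw [truncLower_mk, coef_mk 𝒜 hk, coef_mk 𝒜 (hk.trans h)]

end Groth.Agent.Helper1.GA
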