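import Mathlib

/-!
# Grauert's criterion, 3: evaluating sections over an open along morphisms from affine schemes
-/

set_option autoImplicit false

namespace Groth.Agent.Helper1.GA

open CategoryTheory AlgebraicGeometry TopologicalSpace Opposite

universe u

noncomputable section

variable {V : Scheme.{u}}

/-- evaluation of the sections over `N` along `k : Spec Q ⟶ V` landing in `N` -/
def ev (N : V.Opens) {Q : CommRingCat.{u}} (k : Spec Q ⟶ V) (hk : ⊤ ≤ k ⁻¹ᵁ N) : Γ(V, N) ⟶ Q :=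
  k.appLE N ⊤ hk ≫ (Scheme.ΓSpecIso Q).hom

theorem specMap_appLE_top {Q Q' : CommRingCat.{u}} (φ : Q ⟶ Q') (e : ⊤ ≤ Spec.map φ ⁻¹ᵁ ⊤) :
    (Spec.map φ).appLE ⊤ ⊤ e ≫ (Scheme.ΓSpecIso Q').hom = (Scheme.ΓSpecIso Q).hom ≫ φ := by
  rw [← Scheme.ΓSpecIso_naturality]
  congr 1

theorem ev_specMap_comp (N : V.Opens) {Q Q' : CommRingCat.{u}} (φ : Q ⟶ Q') (k : Spec Q ⟶ V)
    (hk : ⊤ ≤ k ⁻¹ᵁ N) (hk' : ⊤ ≤ (Spec.map φ ≫ k) ⁻¹ᵁ N) :
    ev N (Spec.map φ ≫ k) hk' = ev N k hk ≫ φ := by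
  unfold ev
  rw [Category.assoc, ← specMap_appLE_top φ le_top, ← Category.assoc,
    Scheme.Hom.appLE_comp_appLE]

theorem map_ev {N N' : V.Opens} (h : N' ≤ N) {Q : CommRingCat.{u}} (k : Spec Q ⟶ V)
    (hk' : ⊤ ≤ k ⁻¹ᵁ N') (hk : ⊤ ≤ k ⁻¹ᵁ N) :
    V.presheaf.map (homOfLE h).op ≫ ev N' k hk' = ev N k hk := by
  unfold ev
  rw [← Category.assoc, Scheme.Hom.map_appLE]

theorem ev_comp {V' : Scheme.{u}} (j : V' ⟶ V) (N : V.Opens) (N' : V'.Opens) (hN : N' ≤ j ⁻¹ᵁ N)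
    {Q : CommRingCat.{u}} (k : Spec Q ⟶ V') (hk' : ⊤ ≤ k ⁻¹ᵁ N') (hk : ⊤ ≤ (k ≫ j) ⁻¹ᵁ N) :
    ev N (k ≫ j) hk = j.appLE N N' hN ≫ ev N' k hk' := by
  unfold ev
  rw [← Category.assoc, Scheme.Hom.appLE_comp_appLE]

/-- the section over `U` of an element of the ring -/
def toOpen (R : CommRingCat.{u}) (U : (Spec R).Opens) : R ⟶ Γ(Spec R, U) :=
  (Scheme.ΓSpecIso R).inv ≫ (Spec R).presheaf.map (homOfLE (le_top : U ≤ ⊤)).op

theorem toOpen_ev {R Q : CommRingCat.{u}} (U : (Spec R).Opens) (ψ : R ⟶ Q)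
    (hk : ⊤ ≤ Spec.map ψ ⁻¹ᵁ U) : toOpen R U ≫ ev U (Spec.map ψ) hk = ψ := by
  unfold toOpen
  rw [Category.assoc, map_ev le_top (Spec.map ψ) hk le_top]
  unfold ev
  rw [specMap_appLE_top, Iso.inv_hom_id_assoc]

theorem basicOpen_toOpen {R : CommRingCat.{u}} (U : (Spec R).Opens) (r : R) :
    (Spec R).basicOpen ((toOpen R U).hom r) = U ⊓ PrimeSpectrum.basicOpen r := by
  unfold toOpen
  rw [CommRingCat.comp_apply, Scheme.basicOpen_res, basicOpen_eq_of_affine]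

theorem exists_fraction_aux {R : CommRingCat.{u}} (g : Γ(Spec R, ⊤)) (D : (Spec R).Opens)
    (hD : (Spec R).basicOpen g = D) (f' : Γ(Spec R, D)) :
    ∃ (F' : Γ(Spec R, ⊤)) (m : ℕ),
      f' * ((Spec R).presheaf.map (homOfLE (le_top : D ≤ ⊤)).op).hom g ^ m =
        ((Spec R).presheaf.map (homOfLE (le_top : D ≤ ⊤)).op).hom F' := by
  subst hD
  have hloc := (isAffineOpen_top (Spec R)).isLocalization_basicOpen g
  obtain ⟨m, a, ha⟩ := IsLocalization.Away.surj g f'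
  exact ⟨a, m, ha⟩

/-- sections over a basic open are fractions -/
theorem exists_fraction {R : CommRingCat.{u}} (G : R)
    (f' : Γ(Spec R, (PrimeSpectrum.basicOpen G : (Spec R).Opens))) :
    ∃ (F : R) (m : ℕ),
      f' * (toOpen R (PrimeSpectrum.basicOpen G)).hom G ^ (m + 1) =
        (toOpen R (PrimeSpectrum.basicOpen G)).hom F := by
  obtain ⟨F', m, hF'⟩ := exists_fraction_aux ((Scheme.ΓSpecIso R).inv G)
    (PrimeSpectrum.basicOpen G) (basicOpen_eq_of_affine G) f'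
  refine ⟨(Scheme.ΓSpecIso R).hom F' * G, m, ?_⟩
  unfold toOpen
  simp only [CommRingCat.comp_apply, map_mul]
  rw [pow_succ, ← mul_assoc, hF']
  congr 2
  exact (Iso.hom_inv_id_apply (Scheme.ΓSpecIso R) F').symm

/-- evaluating a fraction -/
theorem ev_fraction {R Q : CommRingCat.{u}} (G F : R) (m : ℕ)
    (f' : Γ(Spec R, (PrimeSpectrum.basicOpen G : (Spec R).Opens)))
    (hf : f' * (toOpen R (PrimeSpectrum.basicOpen G)).hom G ^ (m + 1) =
      (toOpen R (PrimeSpectrum.basicOpen G)).hom F)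
    (ψ : R ⟶ Q) (hk : ⊤ ≤ Spec.map ψ ⁻¹ᵁ (PrimeSpectrum.basicOpen G : (Spec R).Opens)) :
    (ev _ (Spec.map ψ) hk).hom f' * ψ.hom G ^ (m + 1) = ψ.hom F := by
  have h1 := congrArg (ev _ (Spec.map ψ) hk).hom hf
  rw [map_mul, map_pow] at h1
  have h2 : ∀ r : R, (ev _ (Spec.map ψ) hk).hom ((toOpen R (PrimeSpectrum.basicOpen G)).hom r) =
      ψ.hom r := fun r => by
    rw [← CommRingCat.comp_apply, toOpen_ev]
  rwa [h2, h2] at h1

/-- the non-vanishing locus of a fraction -/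
theorem mem_basicOpen_fraction {R : CommRingCat.{u}} (G F : R) (m : ℕ)
    (f' : Γ(Spec R, (PrimeSpectrum.basicOpen G : (Spec R).Opens)))
    (hf : f' * (toOpen R (PrimeSpectrum.basicOpen G)).hom G ^ (m + 1) =
      (toOpen R (PrimeSpectrum.basicOpen G)).hom F)
    (x : Spec R) (hx : G ∉ x.asIdeal) :
    x ∈ (Spec R).basicOpen f' ↔ F ∉ x.asIdeal := by
  have h1 := congrArg (fun s => (Spec R).basicOpen s) hf
  simp only [Scheme.basicOpen_mul, Scheme.basicOpen_pow _ _ (Nat.succ_pos m),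
    basicOpen_toOpen] at h1
  change (Spec R).basicOpen f' ⊓ ((PrimeSpectrum.basicOpen G : (Spec R).Opens) ⊓
      (PrimeSpectrum.basicOpen G : (Spec R).Opens)) =
    (PrimeSpectrum.basicOpen G : (Spec R).Opens) ⊓
      (PrimeSpectrum.basicOpen F : (Spec R).Opens) at h1
  have hxG : x ∈ (PrimeSpectrum.basicOpen G : (Spec R).Opens) := hx
  constructor
  · intro h
    have : x ∈ (Spec R).basicOpen f' ⊓
        ((PrimeSpectrum.basicOpen G : (Spec R).Opens) ⊓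
          (PrimeSpectrum.basicOpen G : (Spec R).Opens)) := ⟨h, hxG, hxG⟩
    rw [h1] at this
    exact this.2
  · intro h
    have : x ∈ (PrimeSpectrum.basicOpen G : (Spec R).Opens) ⊓
        (PrimeSpectrum.basicOpen F : (Spec R).Opens) := ⟨hxG, h⟩
    rw [← h1] at this
    exact this.1

end

end Groth.Agent.Helper1.GA
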