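import Mathlib
import Groth.Prelude.Def_RelSpec2
import Groth.Agent.Helper1.RP1
import Groth.Agent.Helper1.AC1

/-!
# Vertex section of the affine cone: existence/uniqueness by gluing
-/

set_option autoImplicit false

namespace Groth.Agent.Helper1.VX

open CategoryTheory Limits AlgebraicGeometry TopologicalSpace Opposite

universe u

theorem isoSpec_hom_fromSpec {Y : Scheme.{u}} {U : Y.Opens} (hU : IsAffineOpen U) :
    hU.isoSpec.hom ≫ hU.fromSpec = U.ι := by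
  rw [← hU.isoSpec_inv_ι, Iso.hom_inv_id_assoc]

theorem isoSpec_natural {Y : Scheme.{u}} {U V : Y.Opens} (hU : IsAffineOpen U) (hV : IsAffineOpen V)
    (hVU : V ≤ U) :
    Y.homOfLE hVU ≫ hU.isoSpec.hom =
      hV.isoSpec.hom ≫ Spec.map (Y.presheaf.map (homOfLE hVU).op) := by
  rw [← cancel_mono hU.fromSpec, Category.assoc, Category.assoc, isoSpec_hom_fromSpec,
    hU.map_fromSpec hV, isoSpec_hom_fromSpec, Scheme.homOfLE_ι]


section sect

variable {Y : Scheme.{u}} (A : RelSpec.QCAlg Y) (aug : A ⟶ RelSpec.QCAlg.unit Y)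

theorem ι_res_le {U W : Y.Opens} (hU : IsAffineOpen U) (s : Γ(Y, U))
    (hW : IsAffineOpen W) (e : Y.basicOpen s = W) (i : W ≤ U) :
    Spec.map (A.presheaf.map (homOfLE i).op) ≫ A.ι U hU = A.ι W hW :=
  A.ι_res (U := (⟨U, hU⟩ : Y.AffineZariskiSite)) (V := (⟨W, hW⟩ : Y.AffineZariskiSite))
    (homOfLE ⟨s, e⟩)

/-- the local pieces of the section defined by a homomorphism `A ⟶ O_Y` -/
noncomputable def secOn (U : Y.Opens) (hU : IsAffineOpen U) :
    (((𝟙 Y) ⁻¹ᵁ U : Y.Opens) : Scheme.{u}) ⟶ A.spec :=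
  hU.isoSpec.hom ≫ Spec.map (aug.hom.app (op U)) ≫ A.ι U hU

theorem secOn_res (U : Y.Opens) (hU : IsAffineOpen U) (r : Γ(Y, U)) :
    Y.homOfLE (Scheme.Hom.preimage_mono (𝟙 Y) (Y.basicOpen_le r)) ≫ secOn A aug U hU =
      secOn A aug (Y.basicOpen r) (hU.basicOpen r) := by
  unfold secOn
  have h1 := isoSpec_natural hU (hU.basicOpen r) (Y.basicOpen_le r)
  have h2 := ι_res_le A hU r (hU.basicOpen r) rfl (Y.basicOpen_le r)
  have h3 : aug.hom.app (op U) ≫ Y.presheaf.map (homOfLE (Y.basicOpen_le r)).op =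
      A.presheaf.map (homOfLE (Y.basicOpen_le r)).op ≫ aug.hom.app (op (Y.basicOpen r)) :=
    (aug.hom.naturality (homOfLE (Y.basicOpen_le r)).op).symm
  rw [← h2]
  erw [reassoc_of% h1]
  rw [← Spec.map_comp_assoc, ← Spec.map_comp_assoc]
  congr 2
  exact congrArg Spec.map h3

/-- **the section of `Spec(A) ⟶ Y` defined by a homomorphism `A ⟶ O_Y`** -/
theorem existsUnique_section :
    ∃! ε : Y ⟶ A.spec, ∀ (U : Y.Opens) (hU : IsAffineOpen U),
      hU.fromSpec ≫ ε = Spec.map (aug.hom.app (op U)) ≫ A.ι U hU := by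
  obtain ⟨ε, hε, huniq⟩ := RP.existsUnique_glue (𝟙 Y) (secOn A aug) (secOn_res A aug)
  have key : ∀ (ε' : Y ⟶ A.spec) (U : Y.Opens) (hU : IsAffineOpen U),
      (((𝟙 Y) ⁻¹ᵁ U).ι ≫ ε' = secOn A aug U hU ↔
        hU.fromSpec ≫ ε' = Spec.map (aug.hom.app (op U)) ≫ A.ι U hU) := by
    intro ε' U hU
    change U.ι ≫ ε' = hU.isoSpec.hom ≫ Spec.map (aug.hom.app (op U)) ≫ A.ι U hU ↔ _
    rw [← isoSpec_hom_fromSpec hU, Category.assoc, cancel_epi]
    exact Iff.rfl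
  refine ⟨ε, fun U hU => (key ε U hU).1 (hε U hU), ?_⟩
  intro ε' hε'
  exact huniq ε' (fun U hU => (key ε' U hU).2 (hε' U hU))

theorem section_comp_π (ε : Y ⟶ A.spec)
    (hε : ∀ (U : Y.Opens) (hU : IsAffineOpen U),
      hU.fromSpec ≫ ε = Spec.map (aug.hom.app (op U)) ≫ A.ι U hU) : ε ≫ A.π = 𝟙 Y := by
  apply RP.hom_ext (𝟙 Y)
  intro U hU
  change U.ι ≫ ε ≫ A.π = U.ι ≫ 𝟙 Y
  have h0 : A.str.app (op U) ≫ aug.hom.app (op U) = 𝟙 _ := by
    rw [← NatTrans.comp_app, aug.comm]; rfl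
  have h1 : hU.fromSpec ≫ ε ≫ A.π = hU.fromSpec := by
    have hε' : hU.fromSpec ≫ ε = (Spec.map (aug.hom.app (op U)) :
        Spec Γ(Y, U) ⟶ Spec (A.presheaf.obj (op U))) ≫ A.ι U hU := hε U hU
    rw [← Category.assoc, hε', Category.assoc, A.ι_π, ← Spec.map_comp_assoc]
    exact (congrArg (fun t => Spec.map t ≫ hU.fromSpec) h0).trans
      ((congrArg (fun t => t ≫ hU.fromSpec) (Spec.map_id Γ(Y, U))).trans (Category.id_comp _))
  rw [← isoSpec_hom_fromSpec hU, Category.assoc, h1, Category.comp_id]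

end sect

end Groth.Agent.Helper1.VX
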