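import Mathlib
import Groth.Agent.Helper1.AC2
import Groth.Agent.Helper1.VX1
import Groth.Agent.Helper1.GA2
import Groth.Agent.Helper1.GA3

/-!
# Grauert's criterion, 4: charts of the relative spectrum, general restriction; gluing sections
given on all affine opens
-/

set_option autoImplicit false
set_option linter.style.haveILetI false

namespace Groth.Agent.Helper1.GA

open CategoryTheory Limits AlgebraicGeometry TopologicalSpace Opposite RelProj RelCone
  Groth.Agent.Helper1.RP Groth.Agent.Helper1.PC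

universe u

noncomputable section

section ιres

variable {Y : Scheme.{u}} (A : RelSpec.QCAlg Y)

/-- the charts of the relative spectrum are compatible with every inclusion of affine opens -/
theorem ι_res_of_le {U V : Y.Opens} (hU : IsAffineOpen U) (hV : IsAffineOpen V) (i : V ≤ U) :
    Spec.map (A.presheaf.map (homOfLE i).op) ≫ A.ι U hU = A.ι V hV := by
  apply hom_ext_of_charts
  intro x
  have hyV : A.π ((A.ι V hV) x) ∈ V := ι_mem A V hV x
  obtain ⟨s, t, hst, hys⟩ := exists_basicOpen_le_affine_inter hV hU _ ⟨hyV, i hyV⟩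
  have hW : IsAffineOpen (Y.basicOpen s) := hV.basicOpen s
  have iWU : Y.basicOpen s ≤ U := hst ▸ Y.basicOpen_le t
  obtain ⟨v₂, hv₂⟩ := exists_ι_of_mem A _ (Y.basicOpen s) hW hys
  have e1 := VX.ι_res_le A hV s hW rfl (Y.basicOpen_le s)
  have e2 := VX.ι_res_le A hU t hW hst.symm iWU
  haveI : IsOpenImmersion (Spec.map (A.presheaf.map (homOfLE (Y.basicOpen_le s)).op)) := by
    haveI : IsOpenImmersion (Spec.map (A.presheaf.map (homOfLE (Y.basicOpen_le s)).op) ≫
        A.ι V hV) := by rw [e1]; infer_instance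
    exact IsOpenImmersion.of_comp _ (A.ι V hV)
  refine ⟨_, Spec.map (A.presheaf.map (homOfLE (Y.basicOpen_le s)).op), inferInstance,
    ⟨v₂, ?_⟩, ?_⟩
  · apply (A.ι V hV).injective
    rw [← hv₂, ← e1]
    rfl
  · rw [e1, ← Category.assoc, ← Spec.map_comp, ← Functor.map_comp]
    exact e2

end ιres

section glue

variable {X : Scheme.{u}} (F : TopCat.Presheaf CommRingCat.{u} X.carrier) (hF : F.IsSheaf)

include hF in
/-- sections over all affine opens inside `W`, compatible with restriction, glue -/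
theorem exists_glue_affine (W : X.Opens)
    (s : ∀ (V : X.Opens), IsAffineOpen V → V ≤ W → F.obj (op V))
    (hs : ∀ (V V' : X.Opens) (hV : IsAffineOpen V) (hV' : IsAffineOpen V') (i : V' ≤ V)
      (hW : V ≤ W), (F.map (homOfLE i).op).hom (s V hV hW) = s V' hV' (i.trans hW)) :
    ∃ σ : F.obj (op W), ∀ (V : X.Opens) (hV : IsAffineOpen V) (hW : V ≤ W),
      (F.map (homOfLE hW).op).hom σ = s V hV hW := by
  let Fs : TopCat.Sheaf CommRingCat.{u} X.carrier := ⟨F, hF⟩
  let I := {V : X.affineOpens // V.1 ≤ W}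
  let cov : I → X.Opens := fun V => V.1.1
  have hcover : W ≤ ⨆ V : I, cov V := by
    intro x hx
    obtain ⟨_, ⟨V, hV : IsAffineOpen V, rfl⟩, hxV, hle⟩ :=
      X.isBasis_affineOpens.exists_subset_of_mem_open hx W.isOpen
    exact Opens.mem_iSup.mpr ⟨⟨⟨V, hV⟩, hle⟩, hxV⟩
  let sf : ∀ V : I, Fs.1.obj (op (cov V)) := fun V => s V.1.1 V.1.2 V.2
  have hcompat : TopCat.Presheaf.IsCompatible Fs.1 cov sf := by
    intro V V'
    apply TopCat.Sheaf.eq_of_locally_eq' Fs
      (fun z : {Z : X.affineOpens // Z.1 ≤ V.1.1 ⊓ V'.1.1} => z.1.1) (V.1.1 ⊓ V'.1.1)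
      (fun z => homOfLE z.2)
    · intro x hx
      obtain ⟨_, ⟨Z, hZ : IsAffineOpen Z, rfl⟩, hxZ, hle⟩ :=
        X.isBasis_affineOpens.exists_subset_of_mem_open hx (V.1.1 ⊓ V'.1.1).isOpen
      exact Opens.mem_iSup.mpr ⟨⟨⟨Z, hZ⟩, hle⟩, hxZ⟩
    · intro z
      have h1 := hs V.1.1 z.1.1 V.1.2 z.1.2 (z.2.trans inf_le_left) V.2
      have h2 := hs V'.1.1 z.1.1 V'.1.2 z.1.2 (z.2.trans inf_le_right) V'.2
      have e1 : (F.map (homOfLE z.2).op).hom
          ((F.map (Opens.infLELeft V.1.1 V'.1.1).op).hom (sf V)) =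
          (F.map (homOfLE (z.2.trans inf_le_left)).op).hom (sf V) := by
        rw [← CommRingCat.comp_apply, ← F.map_comp]
        rfl
      have e2 : (F.map (homOfLE z.2).op).hom
          ((F.map (Opens.infLERight V.1.1 V'.1.1).op).hom (sf V')) =
          (F.map (homOfLE (z.2.trans inf_le_right)).op).hom (sf V') := by
        rw [← CommRingCat.comp_apply, ← F.map_comp]
        rfl
      exact e1.trans (h1.trans (h2.symm.trans e2.symm))
  obtain ⟨σ, hσ, -⟩ := TopCat.Sheaf.existsUnique_gluing' Fs cov W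
    (fun V => homOfLE V.2) hcover sf hcompat
  exact ⟨σ, fun V hV hW => hσ ⟨⟨V, hV⟩, hW⟩⟩

end glue

end

end Groth.Agent.Helper1.GA
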