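import Mathlib
import Groth.Agent.Helper1.PL3
import Groth.Agent.Helper4.TensorInv

/-!
# Frames of an invertible module
-/

set_option autoImplicit false
set_option linter.style.haveILetI false

namespace Groth.Agent.Helper1.PL

open CategoryTheory Limits AlgebraicGeometry TopologicalSpace Opposite RelSpec RelProj
open Groth.Agent.Helper4.GenLoc Groth.Agent.Helper4.TensorGen Groth.Agent.Helper4.TensorInv

universe u

noncomputable section

variable {X : Scheme.{u}}

/-- a generator of `L` over the open `V` -/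
structure Frame (L : X.Modules) (V : X.Opens) where
  e : Γ(L, V)
  bij : Function.Bijective (fun r : Γ(X, V) => r • e)

theorem nonempty_frame_image_top (L : X.Modules) (W : X.Opens)
    (ε : L.restrict W.ι ≅ Coh.structureModule (W : Scheme.{u})) :
    Nonempty (Frame L (W.ι ''ᵁ ⊤)) := by
  refine ⟨⟨(show Γ(L, W.ι ''ᵁ ⊤) from ε.inv.app ⊤ (one (W : Scheme.{u}) ⊤)), ?_, ?_⟩⟩
  · intro r r' h
    have h' : (r - r') • (show Γ(L, W.ι ''ᵁ ⊤) from ε.inv.app ⊤ (one (W : Scheme.{u}) ⊤)) = 0 := by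
      rw [sub_smul]; exact sub_eq_zero.mpr h
    set d := r - r' with hd
    let c : Γ((W : Scheme.{u}), ⊤) := (W.ι.appIso ⊤).hom d
    have hc : (W.ι.appIso ⊤).inv c = d := by
      change ((W.ι.appIso ⊤).hom ≫ (W.ι.appIso ⊤).inv) d = d
      rw [Iso.hom_inv_id]; rfl
    have h1 : ε.inv.app ⊤ (c • one (W : Scheme.{u}) ⊤) = 0 := by
      rw [Scheme.Modules.Hom.app_smul]
      rw [← hc] at h'
      exact h'
    have h2 := congrArg (ε.hom.app ⊤) h1
    rw [iso_hom_inv_app, map_zero] at h2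
    have h3 : c = 0 := by
      rw [← smul_one ⊤ c, h2]; rfl
    have h4 : d = 0 := by rw [← hc, h3, map_zero]
    exact sub_eq_zero.mp h4
  · intro m
    let m' : Γ(L.restrict W.ι, ⊤) := m
    let c : Γ((W : Scheme.{u}), ⊤) := toFn (ε.hom.app ⊤ m')
    refine ⟨(W.ι.appIso ⊤).inv c, ?_⟩
    have h1 : ε.hom.app ⊤ m' = c • one (W : Scheme.{u}) ⊤ := (mul_one c).symm
    have h2 : m' = ε.inv.app ⊤ (ε.hom.app ⊤ m') := (iso_inv_hom_app ε ⊤ m').symm
    rw [h1, Scheme.Modules.Hom.app_smul] at h2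
    exact h2.symm

theorem nonempty_frame_of_eq (L : X.Modules) {V V' : X.Opens} (h : V = V')
    (H : Nonempty (Frame L V)) : Nonempty (Frame L V') := by
  subst h; exact H

/-- a trivialisation over `W` gives a frame over `W` -/
theorem nonempty_frame_of_isTrivAlong (L : X.Modules) (W : X.Opens) (h : IsTrivAlong L W.ι) :
    Nonempty (Frame L W) := by
  obtain ⟨ε⟩ := h
  exact nonempty_frame_of_eq L (Scheme.Opens.ι_image_top W) (nonempty_frame_image_top L W ε)

/-- around every point of an affine open `V` there is a basic open of `V` with a frame -/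
theorem exists_frame_basicOpen (L : X.Modules) (hL : PicF.IsInvertible L) {V : X.Opens}
    (hV : IsAffineOpen V) (x : X) (hx : x ∈ V) :
    ∃ g : Γ(X, V), x ∈ X.basicOpen g ∧ Nonempty (Frame L (X.basicOpen g)) := by
  obtain ⟨W, hxW, hW⟩ := hL x
  obtain ⟨g, hg, hxg⟩ := hV.exists_basicOpen_le (V := W) ⟨x, hxW⟩ hx
  exact ⟨g, hxg, nonempty_frame_of_isTrivAlong L _ (IsTrivAlong.of_le hg hW)⟩

end

end Groth.Agent.Helper1.PL
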