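import Mathlib
import Groth.Agent.Helper1.PL4
import Groth.Agent.Helper1.RP16

/-!
# The graded symmetric algebra of an invertible module in a frame
-/

set_option autoImplicit false
set_option linter.style.haveILetI false

namespace Groth.Agent.Helper1.PL

open CategoryTheory Limits AlgebraicGeometry TopologicalSpace Opposite RelSpec RelProj
  HomogeneousLocalization
open Groth.Agent.Helper1.RP
open scoped HomogeneousIdeal

universe u

noncomputable section

variable {X : Scheme.{u}} {L : X.Modules} [L.IsQuasicoherent] {𝒮L : QCGrAlg X}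
  {j : L ⟶ 𝒮L.toModule} (hj : IsGrSymAlg L 𝒮L j) {V : X.Opens} (hV : IsAffineOpen V)
  (F : Frame L V)

/-- the degree-one generator of `𝒮L(V)` attached to a frame -/
def Frame.t (F : Frame L V) (j : L ⟶ 𝒮L.toModule) : 𝒮L.presheaf.obj (op V) := j.app V F.e

include hj in
theorem Frame.t_mem : F.t j ∈ 𝒮L.deg V hV 1 := hj.2 V hV F.e

include hj hV in
theorem Frame.eval₂_bij :
    Function.Bijective (Polynomial.eval₂RingHom (𝒮L.str.app (op V)).hom (F.t j)) :=
  eval₂_bijective hj.1 V hV F.e F.bij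

include hj in
theorem Frame.exists_eq {n : ℕ} {w : 𝒮L.presheaf.obj (op V)} (hw : w ∈ 𝒮L.deg V hV n) :
    ∃ a : Γ(X, V), w = (𝒮L.str.app (op V)).hom a * (F.t j) ^ n :=
  exists_eq_of_mem (𝒜 := 𝒮L.deg V hV) (𝒮L.str.app (op V)).hom (𝒮L.str_mem V hV) (F.t j)
    (F.t_mem hj hV) (F.eval₂_bij hj hV).2 hw

include hj hV in
theorem Frame.eq_of_eq {n : ℕ} {a b : Γ(X, V)}
    (h : (𝒮L.str.app (op V)).hom a * (F.t j) ^ n = (𝒮L.str.app (op V)).hom b * (F.t j) ^ n) :
    a = b := by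
  have h2 : Polynomial.eval₂RingHom (𝒮L.str.app (op V)).hom (F.t j)
      (Polynomial.C a * Polynomial.X ^ n) =
      Polynomial.eval₂RingHom (𝒮L.str.app (op V)).hom (F.t j)
      (Polynomial.C b * Polynomial.X ^ n) := by
    simp only [map_mul, map_pow, Polynomial.coe_eval₂RingHom, Polynomial.eval₂_C,
      Polynomial.eval₂_X]
    exact h
  have h3 := (F.eval₂_bij hj hV).1 h2
  have h4 := congrArg (fun p => Polynomial.coeff p n) h3
  simpa using h4

include hj in
theorem Frame.basicOpen_t : Proj.basicOpen (𝒮L.deg V hV) (F.t j) = ⊤ :=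
  basicOpen_eq_top (𝒜 := 𝒮L.deg V hV) (𝒮L.str.app (op V)).hom (𝒮L.str_mem V hV) (F.t j)
    (F.t_mem hj hV) (F.eval₂_bij hj hV).2

include hj in
theorem Frame.term_mem (a : Γ(X, V)) (n : ℕ) :
    (𝒮L.str.app (op V)).hom a * (F.t j) ^ n ∈ 𝒮L.deg V hV n :=
  _root_.Groth.Agent.Helper1.PL.term_mem (𝒜 := 𝒮L.deg V hV) (𝒮L.str.app (op V)).hom
    (𝒮L.str_mem V hV) (F.t j) (F.t_mem hj hV) a n

variable {PL : Scheme.{u}} {pL : PL ⟶ X}
  {chartL : ∀ (U : X.Opens) (hU : IsAffineOpen U),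
    (((pL ⁻¹ᵁ U : PL.Opens) : Scheme.{u}) ≅ Proj (𝒮L.deg U hU))}

include hj in
/-- in a frame, `D_+(a tⁿ)` is the preimage of `D(a)` -/
theorem Frame.mem_basicOpen_iff (hPL : IsRelProj 𝒮L pL chartL) {n : ℕ} (hn : 0 < n) (a : Γ(X, V))
    (y : Proj (𝒮L.deg V hV)) :
    y ∈ Proj.basicOpen (𝒮L.deg V hV) ((𝒮L.str.app (op V)).hom a * (F.t j) ^ n) ↔
      pL (emb pL chartL V hV y) ∈ X.basicOpen a := by
  have ht := F.t_mem hj hV
  have hg := F.term_mem hj hV a n
  obtain ⟨w, rfl⟩ : ∃ w, (Proj.awayι (𝒮L.deg V hV) (F.t j) ht one_pos) w = y := by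
    have : y ∈ (Proj.awayι (𝒮L.deg V hV) (F.t j) ht one_pos).opensRange := by
      rw [Proj.opensRange_awayι, F.basicOpen_t hj hV]; trivial
    exact this
  have h1 := Proj.awayι_preimage_basicOpen (𝒮L.deg V hV) ht one_pos hg hn
  have e1 : (Proj.awayι (𝒮L.deg V hV) (F.t j) ht one_pos) w ∈
        Proj.basicOpen (𝒮L.deg V hV) ((𝒮L.str.app (op V)).hom a * (F.t j) ^ n) ↔
      w ∈ (PrimeSpectrum.basicOpen (Away.isLocalizationElem ht hg) :
          (Spec (.of (Away (𝒮L.deg V hV) (F.t j)))).Opens) := by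
    rw [← h1]; rfl
  rw [e1]
  have h2 : (Proj.awayι (𝒮L.deg V hV) (F.t j) ht one_pos ≫ emb pL chartL V hV) ≫ pL =
      Spec.map (𝒮L.strZero V hV ≫ CommRingCat.ofHom (fromZeroRingHom (𝒮L.deg V hV)
        (Submonoid.powers (F.t j)))) ≫ hV.fromSpec := by
    rw [Category.assoc, emb_p hPL V hV]
    unfold str
    rw [Proj.awayι_toSpecZero_assoc, ← Spec.map_comp_assoc]
  have h3 : pL (emb pL chartL V hV ((Proj.awayι (𝒮L.deg V hV) (F.t j) ht one_pos) w)) =
      hV.fromSpec ((Spec.map (𝒮L.strZero V hV ≫ CommRingCat.ofHom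
        (fromZeroRingHom (𝒮L.deg V hV) (Submonoid.powers (F.t j))))) w) := by
    have := congrArg (fun φ : Spec (.of (Away (𝒮L.deg V hV) (F.t j))) ⟶ X => φ w) h2
    simpa only [Scheme.Hom.comp_apply] using this
  rw [h3]
  have e2 : hV.fromSpec ((Spec.map (𝒮L.strZero V hV ≫ CommRingCat.ofHom
        (fromZeroRingHom (𝒮L.deg V hV) (Submonoid.powers (F.t j))))) w) ∈ X.basicOpen a ↔
      (Spec.map (𝒮L.strZero V hV ≫ CommRingCat.ofHom
        (fromZeroRingHom (𝒮L.deg V hV) (Submonoid.powers (F.t j))))) w ∈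
        (PrimeSpectrum.basicOpen a : (Spec Γ(X, V)).Opens) := by
    rw [← hV.fromSpec_preimage_basicOpen]; rfl
  rw [e2, spec_map_mem_basicOpen]
  have h4 : Away.isLocalizationElem ht hg =
      (𝒮L.strZero V hV ≫ CommRingCat.ofHom (fromZeroRingHom (𝒮L.deg V hV)
        (Submonoid.powers (F.t j)))).hom a := by
    apply val_injective
    unfold Away.isLocalizationElem
    rw [Away.val_mk]
    change _ = Localization.mk ((𝒮L.str.app (op V)).hom a) 1
    rw [Localization.mk_eq_mk_iff, Localization.r_iff_exists]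
    refine ⟨1, ?_⟩
    simp only [OneMemClass.coe_one, one_mul, pow_one, mul_comm]
  rw [h4]
  rfl

end

end Groth.Agent.Helper1.PL
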