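import Mathlib
import Groth.Agent.Helper1.RP18

/-!
# Non-vanishing loci of compatible families of homogeneous sections on a relative Proj
-/

set_option autoImplicit false
set_option linter.style.haveILetI false

namespace Groth.Agent.Helper1.PL

open CategoryTheory Limits AlgebraicGeometry TopologicalSpace Opposite RelSpec RelProj
  HomogeneousLocalization
open Groth.Agent.Helper1.RP
open scoped HomogeneousIdeal

universe u

noncomputable section

variable {X : Scheme.{u}}

/-- a compatible family of homogeneous sections of degree `n` over the affine opens -/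
structure Fam (𝒮L : QCGrAlg X) (n : ℕ) where
  w : ∀ (V : X.Opens) (_ : IsAffineOpen V), 𝒮L.presheaf.obj (op V)
  mem : ∀ (V : X.Opens) (hV : IsAffineOpen V), w V hV ∈ 𝒮L.deg V hV n
  res : ∀ {V V' : X.Opens} (hV : IsAffineOpen V) (hV' : IsAffineOpen V') (i : V' ≤ V),
    (𝒮L.presheaf.map (homOfLE i).op).hom (w V hV) = w V' hV'

variable {𝒮L : QCGrAlg X} {n : ℕ} (w : Fam 𝒮L n) {PL : Scheme.{u}} (pL : PL ⟶ X)
  (chartL : ∀ (U : X.Opens) (hU : IsAffineOpen U),
    (((pL ⁻¹ᵁ U : PL.Opens) : Scheme.{u}) ≅ Proj (𝒮L.deg U hU)))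

/-- the non-vanishing locus of the family over `V`, as an open of the relative Proj -/
def piece (V : X.Opens) (hV : IsAffineOpen V) : PL.Opens :=
  (emb pL chartL V hV) ''ᵁ Proj.basicOpen (𝒮L.deg V hV) (w.w V hV)

theorem piece_congr {V V' : X.Opens} (h : V = V') (hV : IsAffineOpen V) (hV' : IsAffineOpen V') :
    piece w pL chartL V hV = piece w pL chartL V' hV' := by
  subst h; rfl

theorem piece_le_preimage (V : X.Opens) (hV : IsAffineOpen V) :
    piece w pL chartL V hV ≤ pL ⁻¹ᵁ V := by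
  rintro _ ⟨z, -, rfl⟩
  exact emb_mem pL chartL V hV z

/-- the non-vanishing locus of the family -/
def locus : PL.Opens := ⨆ V : X.affineOpens, piece w pL chartL V.1 V.2

theorem piece_le_locus (V : X.Opens) (hV : IsAffineOpen V) :
    piece w pL chartL V hV ≤ locus w pL chartL :=
  le_iSup (fun V : X.affineOpens => piece w pL chartL V.1 V.2) ⟨V, hV⟩

variable {pL chartL}

theorem mem_piece_iff (V : X.Opens) (hV : IsAffineOpen V) (z : PL) (hz : z ∈ pL ⁻¹ᵁ V) :
    z ∈ piece w pL chartL V hV ↔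
      w.w V hV ∉ ((chartL V hV).hom ⟨z, hz⟩).asHomogeneousIdeal := by
  constructor
  · rintro ⟨y, hy, hyz⟩
    have h1 : (emb pL chartL V hV) ((chartL V hV).hom ⟨z, hz⟩) = (emb pL chartL V hV) y := by
      rw [emb_chart_hom]; exact hyz.symm
    rw [(emb pL chartL V hV).injective h1]
    exact hy
  · intro h
    exact ⟨(chartL V hV).hom ⟨z, hz⟩, h, emb_chart_hom pL chartL V hV z hz⟩

/-- shrinking to a basic open -/
theorem piece_inf_le (hPL : IsRelProj 𝒮L pL chartL) (V : X.Opens) (hV : IsAffineOpen V)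
    (a : Γ(X, V)) :
    piece w pL chartL V hV ⊓ pL ⁻¹ᵁ X.basicOpen a ≤
      piece w pL chartL (X.basicOpen a) (hV.basicOpen a) := by
  rintro x ⟨⟨z, hz, rfl⟩, hx⟩
  have hx' : (emb pL chartL V hV) z ∈ pL ⁻¹ᵁ X.basicOpen a := hx
  set y := (chartL (X.basicOpen a) (hV.basicOpen a)).hom ⟨_, hx'⟩ with hy
  have h1 : (emb pL chartL (X.basicOpen a) (hV.basicOpen a)) y = (emb pL chartL V hV) z :=
    emb_chart_hom pL chartL _ _ _ hx'
  have h2 := map_res_emb hPL V hV a
  have h3 : (emb pL chartL V hV) ((Proj.map (𝒮L.res hV (hV.basicOpen a)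
      (X.basicOpen_le a)) (𝒮L.irrelevant_le_map V hV a)) y) = (emb pL chartL V hV) z := by
    rw [← Scheme.Hom.comp_apply, h2]
    exact h1
  have h4 := (emb pL chartL V hV).injective h3
  refine ⟨y, ?_, h1⟩
  show w.w (X.basicOpen a) (hV.basicOpen a) ∉ y.asHomogeneousIdeal
  rw [← w.res hV (hV.basicOpen a) (X.basicOpen_le a)]
  intro hmem
  apply hz
  show w.w V hV ∈ z.asHomogeneousIdeal
  rw [← h4]
  exact hmem

/-- enlarging from a basic open -/
theorem piece_basicOpen_le (hPL : IsRelProj 𝒮L pL chartL) (V : X.Opens) (hV : IsAffineOpen V)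
    (a : Γ(X, V)) :
    piece w pL chartL (X.basicOpen a) (hV.basicOpen a) ≤ piece w pL chartL V hV := by
  rintro x ⟨y, hy, rfl⟩
  have h2 := map_res_emb hPL V hV a
  refine ⟨(Proj.map (𝒮L.res hV (hV.basicOpen a) (X.basicOpen_le a))
    (𝒮L.irrelevant_le_map V hV a)) y, ?_, ?_⟩
  · show w.w V hV ∉ _
    rw [mem_map_iff]
    show (𝒮L.presheaf.map (homOfLE (X.basicOpen_le a)).op).hom (w.w V hV) ∉ _
    rw [w.res hV (hV.basicOpen a) (X.basicOpen_le a)]
    exact hy
  · exact congrArg (fun φ : Proj (𝒮L.deg (X.basicOpen a) (hV.basicOpen a)) ⟶ PL => φ y) h2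

theorem piece_basicOpen (hPL : IsRelProj 𝒮L pL chartL) (V : X.Opens) (hV : IsAffineOpen V)
    (a : Γ(X, V)) :
    piece w pL chartL (X.basicOpen a) (hV.basicOpen a) =
      piece w pL chartL V hV ⊓ pL ⁻¹ᵁ X.basicOpen a :=
  le_antisymm (le_inf (piece_basicOpen_le w hPL V hV a) (piece_le_preimage w pL chartL _ _))
    (piece_inf_le w hPL V hV a)

/-- the locus over an affine open is the piece of that open -/
theorem locus_inf_preimage (hPL : IsRelProj 𝒮L pL chartL) (V : X.Opens) (hV : IsAffineOpen V) :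
    locus w pL chartL ⊓ pL ⁻¹ᵁ V = piece w pL chartL V hV := by
  apply le_antisymm
  · rintro x ⟨hx, hxV⟩
    obtain ⟨V', hV'⟩ := Opens.mem_iSup.mp hx
    have hxV' : pL x ∈ V'.1 := piece_le_preimage w pL chartL V'.1 V'.2 hV'
    obtain ⟨f, g, hfg, hxf, -⟩ := exists_basicOpen_le_affine_inter_le hV V'.2 ⊤ (pL x)
      hxV hxV' trivial
    have h1 : x ∈ piece w pL chartL (X.basicOpen g) (V'.2.basicOpen g) :=
      piece_inf_le w hPL V'.1 V'.2 g ⟨hV', by rw [← hfg]; exact hxf⟩
    rw [piece_congr w pL chartL hfg.symm (V'.2.basicOpen g) (hV.basicOpen f)] at h1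
    exact piece_basicOpen_le w hPL V hV f h1
  · exact le_inf (piece_le_locus w pL chartL V hV) (piece_le_preimage w pL chartL V hV)

end

end Groth.Agent.Helper1.PL
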