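import Mathlib
import Groth.Agent.Helper1.PL7
import Groth.Agent.Helper1.RP18

/-!
# `G(ψ)` for `r_{L,ψ}` over an affine base
-/

set_option autoImplicit false
set_option linter.style.haveILetI false

namespace Groth.Agent.Helper1.PL

open CategoryTheory Limits AlgebraicGeometry TopologicalSpace Opposite RelSpec RelProj
  HomogeneousLocalization
open Groth.Agent.Helper1.RP
open scoped HomogeneousIdeal

universe u

noncomputable section

variable {X Y : Scheme.{u}} {q : X ⟶ Y} {𝒮 : QCGrAlg Y} {𝒮L : QCGrAlg X}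
  (u : QGrHom q 𝒮 𝒮L) (hY : IsAffineOpen (⊤ : Y.Opens))

theorem le_preimage_top (V : X.Opens) : V ≤ q ⁻¹ᵁ (⊤ : Y.Opens) :=
  le_top.trans (Scheme.Hom.preimage_top q).ge

/-- the family of sections of `𝒮L` attached to a global homogeneous section of `𝒮` -/
def famOf {n : ℕ} (s : 𝒮.presheaf.obj (op ⊤)) (hs : s ∈ 𝒮.deg ⊤ hY n) : Fam 𝒮L n where
  w V _ := (u.appLE ⊤ V (le_preimage_top V)).hom s
  mem V hV := u.map_mem ⊤ hY V hV (le_preimage_top V) hs
  res {V V'} _ _ i := by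
    have h := u.toQHom.appLE_map (le_preimage_top (q := q) V) i
    exact congrArg (fun t => t.hom s) h

variable {PL : Scheme.{u}} {pL : PL ⟶ X}
  {chartL : ∀ (U : X.Opens) (hU : IsAffineOpen U),
    (((pL ⁻¹ᵁ U : PL.Opens) : Scheme.{u}) ≅ Proj (𝒮L.deg U hU))}

theorem piece_famOf_le_domPiece {n : ℕ} (hn : 0 < n) (s : 𝒮.presheaf.obj (op ⊤))
    (hs : s ∈ 𝒮.deg ⊤ hY n) (V : X.Opens) (hV : IsAffineOpen V) :
    piece (famOf u hY s hs) pL chartL V hV ≤
      domPiece u pL chartL ⊤ hY V hV (le_preimage_top V) := by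
  rintro _ ⟨y, hy, rfl⟩
  refine ⟨y, ?_, rfl⟩
  show y ∈ RelCone.domOpen (u.gradedAt ⊤ hY V hV (le_preimage_top V))
  rw [mem_domOpen_iff_homog]
  exact ⟨n, hn, s, hs, hy⟩

/-- a point of `Proj 𝒮L` is in `G(ψ)` iff some global homogeneous section of positive degree
does not vanish there -/
theorem mem_domQ_iff_locus (hPL : IsRelProj 𝒮L pL chartL) (z : PL) :
    z ∈ domQ u pL chartL ↔ ∃ (n : ℕ) (_ : 0 < n) (s : 𝒮.presheaf.obj (op ⊤))
      (hs : s ∈ 𝒮.deg ⊤ hY n), z ∈ locus (famOf u hY s hs) pL chartL := by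
  constructor
  · intro hz
    obtain ⟨_, ⟨V, hV, rfl⟩, hzV, -⟩ :=
      X.isBasis_affineOpens.exists_subset_of_mem_open (Set.mem_univ (pL z)) isOpen_univ
    have h1 : z ∈ domPiece u pL chartL ⊤ hY V hV (le_preimage_top V) := by
      rw [← domQ_inf_preimage hPL ⊤ hY V hV (le_preimage_top V)]; exact ⟨hz, hzV⟩
    obtain ⟨y, hy, rfl⟩ := h1
    have hy' : y ∈ RelCone.domOpen (u.gradedAt ⊤ hY V hV (le_preimage_top V)) := hy
    rw [mem_domOpen_iff_homog] at hy'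
    obtain ⟨n, hn, s, hs, hys⟩ := hy'
    exact ⟨n, hn, s, hs, piece_le_locus _ pL chartL V hV ⟨y, hys, rfl⟩⟩
  · rintro ⟨n, hn, s, hs, hz⟩
    obtain ⟨V, hV⟩ := Opens.mem_iSup.mp hz
    exact domPiece_le_domQ u pL chartL ⊤ hY V.1 V.2 (le_preimage_top V.1)
      (piece_famOf_le_domPiece u hY hn s hs V.1 V.2 hV)

end

end Groth.Agent.Helper1.PL
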