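import Mathlib
import Groth.Agent.Helper1.PL8
import Groth.Agent.Helper1.RP23

/-!
# `r_{L,ψ}⁻¹(D_+(f)) = X_{ψ♭ f}`
-/

set_option autoImplicit false
set_option linter.style.haveILetI false

namespace Groth.Agent.Helper1.PL

open CategoryTheory Limits AlgebraicGeometry TopologicalSpace Opposite RelSpec RelProj
  HomogeneousLocalization
open Groth.Agent.Helper1.RP
open scoped HomogeneousIdeal

universe u

noncomputable section

variable {X Y : Scheme.{u}} {q : X ⟶ Y} {𝒮 : QCGrAlg Y} {𝒮L : QCGrAlg X}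
  (u : QGrHom q 𝒮 𝒮L) (hY : IsAffineOpen (⊤ : Y.Opens))
  {P : Scheme.{u}} {p : P ⟶ Y}
  {chart : ∀ (U : Y.Opens) (hU : IsAffineOpen U),
    (((p ⁻¹ᵁ U : P.Opens) : Scheme.{u}) ≅ Proj (𝒮.deg U hU))}
  {PL : Scheme.{u}} {pL : PL ⟶ X}
  {chartL : ∀ (U : X.Opens) (hU : IsAffineOpen U),
    (((pL ⁻¹ᵁ U : PL.Opens) : Scheme.{u}) ≅ Proj (𝒮L.deg U hU))}

/-- the preimage of `D_+(f)` under `Proj(u)`, as an open of `Proj 𝒮L`, is the non-vanishing
locus of `u f` -/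
theorem image_preimage_basicOpen (hPL : IsRelProj 𝒮L pL chartL)
    {r : ((domQ u pL chartL : PL.Opens) : Scheme.{u}) ⟶ P}
    (hr : IsProjQMapOn u p chart pL chartL (domQ u pL chartL) r)
    {d : ℕ} (hd : 0 < d) (f : 𝒮.presheaf.obj (op ⊤)) (hf : f ∈ 𝒮.deg ⊤ hY d) :
    (domQ u pL chartL).ι ''ᵁ (r ⁻¹ᵁ ((emb p chart ⊤ hY) ''ᵁ Proj.basicOpen (𝒮.deg ⊤ hY) f)) =
      locus (famOf u hY f hf) pL chartL := by
  ext z
  obtain ⟨_, ⟨V, hV, rfl⟩, hzV, -⟩ :=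
    X.isBasis_affineOpens.exists_subset_of_mem_open (Set.mem_univ (pL z)) isOpen_univ
  replace hV : IsAffineOpen V := hV
  have hpre := projQMapOn_preimage hPL hr ⊤ hY V hV (le_preimage_top V) hd f hf
  have hrange : (Proj.awayι (𝒮.deg ⊤ hY) f hf hd ≫ emb p chart ⊤ hY).opensRange =
      emb p chart ⊤ hY ''ᵁ Proj.basicOpen (𝒮.deg ⊤ hY) f := by
    rw [Scheme.Hom.opensRange_comp, Proj.opensRange_awayι]
  constructor
  · rintro ⟨x, hx, rfl⟩
    have hx' : x ∈ r ⁻¹ᵁ (Proj.awayι (𝒮.deg ⊤ hY) f hf hd ≫ emb p chart ⊤ hY).opensRange ⊓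
        (domQ u pL chartL).ι ⁻¹ᵁ (pL ⁻¹ᵁ V) := ⟨by rw [hrange]; exact hx, hzV⟩
    rw [hpre] at hx'
    obtain ⟨y, rfl⟩ := hx'
    have hι := liftEmb_apply_ι (u := u) (p' := pL) (chart' := chartL) ⊤ hY V hV (le_preimage_top V) hd f hf y
    refine piece_le_locus _ pL chartL V hV ⟨_, ?_, hι.symm⟩
    show _ ∈ Proj.basicOpen (𝒮L.deg V hV) (u.gradedAt ⊤ hY V hV (le_preimage_top V) f)
    have h5 : (Proj.awayι (𝒮L.deg V hV) (u.gradedAt ⊤ hY V hV (le_preimage_top V) f)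
        ((u.gradedAt ⊤ hY V hV (le_preimage_top V)).map_mem hf) hd) y ∈
        (Proj.awayι (𝒮L.deg V hV) (u.gradedAt ⊤ hY V hV (le_preimage_top V) f)
        ((u.gradedAt ⊤ hY V hV (le_preimage_top V)).map_mem hf) hd).opensRange := ⟨y, rfl⟩
    rw [Proj.opensRange_awayι] at h5
    exact h5
  · intro hz
    have h1 : z ∈ piece (famOf u hY f hf) pL chartL V hV := by
      rw [← locus_inf_preimage _ hPL V hV]; exact ⟨hz, hzV⟩
    obtain ⟨y', hy', rfl⟩ := h1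
    have hy'' : y' ∈ (Proj.awayι (𝒮L.deg V hV) (u.gradedAt ⊤ hY V hV (le_preimage_top V) f)
        ((u.gradedAt ⊤ hY V hV (le_preimage_top V)).map_mem hf) hd).opensRange := by
      rw [Proj.opensRange_awayι]; exact hy'
    obtain ⟨y, rfl⟩ := hy''
    refine ⟨liftEmb u pL chartL ⊤ hY V hV (le_preimage_top V) hd f hf y, ?_,
      liftEmb_apply_ι (u := u) (p' := pL) (chart' := chartL) ⊤ hY V hV (le_preimage_top V) hd f hf y⟩
    have h2 : liftEmb u pL chartL ⊤ hY V hV (le_preimage_top V) hd f hf y ∈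
        (liftEmb u pL chartL ⊤ hY V hV (le_preimage_top V) hd f hf).opensRange := ⟨y, rfl⟩
    rw [← hpre] at h2
    have h3 := h2.1
    rw [hrange] at h3
    exact h3

end

end Groth.Agent.Helper1.PL
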