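import Mathlib
import Groth.Agent.Helper1.RP8

/-!
# Relative Proj toolkit, part 14: a graded ring with integral `Proj` is a domain
(under "essentially reduced" + degree zero hypotheses)
-/

set_option autoImplicit false
set_option linter.style.haveILetI false

namespace Groth.Agent.Helper1.RP

open CategoryTheory Limits AlgebraicGeometry TopologicalSpace HomogeneousIdeal
  HomogeneousLocalization

universe u

variable {A σ : Type u} [CommRing A] [SetLike σ A] [AddSubgroupClass σ A]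
  (𝒜 : ℕ → σ) [GradedRing 𝒜]

/-- a non-nilpotent element of the irrelevant ideal is nonzero at some point of `Proj`. -/
theorem exists_mem_basicOpen (c : A) (hc : c ∈ (𝒜₊).toIdeal) (hn : ¬ IsNilpotent c) :
    ∃ z : Proj 𝒜, z ∈ Proj.basicOpen 𝒜 c := by
  rw [nilpotent_iff_mem_prime] at hn
  push Not at hn
  obtain ⟨J, hJ, hcJ⟩ := hn
  have hprime : (J.homogeneousCore 𝒜).toIdeal.IsPrime := hJ.homogeneousCore
  have hc' : c ∉ (J.homogeneousCore 𝒜).toIdeal :=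
    fun h => hcJ (Ideal.toIdeal_homogeneousCore_le 𝒜 J h)
  have hnot : ¬ 𝒜₊ ≤ J.homogeneousCore 𝒜 := fun hle => hc' (hle hc)
  exact ⟨(⟨J.homogeneousCore 𝒜, hprime, hnot⟩ : ProjectiveSpectrum 𝒜), hc'⟩

/-- `D(a) ∩ D_+(b) = ∅` when `a` has degree zero, `b` positive degree and `a b = 0`. -/
theorem preimage_inf_basicOpen_eq_bot (a : 𝒜 0) {b : A} {n : ℕ} (hb : b ∈ 𝒜 n) (hn : 0 < n)
    (hab : (a : A) * b = 0) :
    Proj.toSpecZero 𝒜 ⁻¹ᵁ (PrimeSpectrum.basicOpen a) ⊓ Proj.basicOpen 𝒜 b = ⊥ := by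
  rw [_root_.eq_bot_iff]
  rintro z ⟨hz1, hz2⟩
  rw [← Proj.opensRange_awayι 𝒜 b hb hn] at hz2
  obtain ⟨y, rfl⟩ := hz2
  have h1 : (Proj.toSpecZero 𝒜) ((Proj.awayι 𝒜 b hb hn) y) ∈
      (PrimeSpectrum.basicOpen a : (Spec (.of (𝒜 0))).Opens) := hz1
  rw [← Scheme.Hom.comp_apply, Proj.awayι_toSpecZero] at h1
  replace h1 := (spec_map_mem_basicOpen
    (CommRingCat.ofHom (fromZeroRingHom 𝒜 (Submonoid.powers b))) a y).1 h1
  apply h1
  have h0 : fromZeroRingHom 𝒜 (Submonoid.powers b) a = 0 := by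
    apply val_injective
    rw [val_zero]
    show algebraMap A (Localization (Submonoid.powers b)) (a : A) = 0
    rw [IsLocalization.map_eq_zero_iff (Submonoid.powers b)]
    exact ⟨⟨b, Submonoid.mem_powers b⟩, by rw [mul_comm]; exact hab⟩
  show (fromZeroRingHom 𝒜 (Submonoid.powers b)) a ∈ y.asIdeal
  rw [h0]
  exact zero_mem _

/-- If `Proj 𝒜` is integral, `𝒜₊` has no nonzero nilpotents, `𝒜 0` has no zero-divisors and
every nonzero degree zero element is invertible somewhere on `Proj 𝒜`, then `A` is a domain. -/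
theorem isDomain_of_isIntegral_proj [IsIntegral (Proj 𝒜)]
    (hred : ∀ x ∈ (𝒜₊).toIdeal, IsNilpotent x → x = 0)
    (h00 : ∀ a b : 𝒜 0, a * b = 0 → a = 0 ∨ b = 0)
    (h0 : ∀ a : 𝒜 0, a ≠ 0 →
      ∃ z : Proj 𝒜, z ∈ Proj.toSpecZero 𝒜 ⁻¹ᵁ (PrimeSpectrum.basicOpen a)) :
    IsDomain A := by
  classical
  haveI : IrreducibleSpace (Proj 𝒜) := inferInstance
  -- positive degree nonzero elements have nonempty basic open
  have hpos : ∀ {n : ℕ} {b : A}, 0 < n → b ∈ 𝒜 n → b ≠ 0 →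
      ((Proj.basicOpen 𝒜 b : (Proj 𝒜).Opens) : Set (Proj 𝒜)).Nonempty := by
    intro n b hn hb hb0
    have hbirr : b ∈ (𝒜₊).toIdeal := HomogeneousIdeal.mem_irrelevant_of_mem 𝒜 hn hb
    obtain ⟨z, hz⟩ := exists_mem_basicOpen 𝒜 b hbirr (fun h => hb0 (hred b hbirr h))
    exact ⟨z, hz⟩
  have hnontriv : Nontrivial A := by
    obtain ⟨z⟩ : Nonempty (Proj 𝒜) := inferInstance
    let y : ProjectiveSpectrum 𝒜 := z
    haveI := y.isPrime
    by_contra h
    rw [not_nontrivial_iff_subsingleton] at h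
    exact (Ideal.IsPrime.ne_top (I := y.asHomogeneousIdeal.toIdeal) inferInstance)
      (Subsingleton.elim _ _)
  have hbot : (⊥ : Ideal A).IsPrime := by
    refine Ideal.IsHomogeneous.isPrime_of_homogeneous_mem_or_mem (𝒜 := 𝒜)
      (Ideal.IsHomogeneous.bot 𝒜) (by exact bot_ne_top) ?_
    rintro a b ⟨m, ha⟩ ⟨n, hb⟩ hab
    rw [Ideal.mem_bot] at hab
    simp only [Ideal.mem_bot]
    by_contra hcon
    push Not at hcon
    obtain ⟨ha0, hb0⟩ := hcon
    rcases Nat.eq_zero_or_pos m with rfl | hm <;> rcases Nat.eq_zero_or_pos n with rfl | hn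
    · -- both degree zero
      have := h00 ⟨a, ha⟩ ⟨b, hb⟩ (Subtype.ext hab)
      rcases this with h | h
      · exact ha0 (congrArg Subtype.val h)
      · exact hb0 (congrArg Subtype.val h)
    · -- a degree zero, b positive
      obtain ⟨z1, hz1⟩ := h0 ⟨a, ha⟩ (fun h => ha0 (congrArg Subtype.val h))
      obtain ⟨z, hzf, hzg⟩ := nonempty_preirreducible_inter
        (Proj.toSpecZero 𝒜 ⁻¹ᵁ (PrimeSpectrum.basicOpen (⟨a, ha⟩ : 𝒜 0))).2
        (Proj.basicOpen 𝒜 b).2 ⟨z1, hz1⟩ (hpos hn hb hb0)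
      have := preimage_inf_basicOpen_eq_bot 𝒜 ⟨a, ha⟩ hb hn hab
      have hz : z ∈ Proj.toSpecZero 𝒜 ⁻¹ᵁ (PrimeSpectrum.basicOpen (⟨a, ha⟩ : 𝒜 0)) ⊓
          Proj.basicOpen 𝒜 b := ⟨hzf, hzg⟩
      rw [this] at hz
      exact hz
    · -- b degree zero, a positive
      obtain ⟨z1, hz1⟩ := h0 ⟨b, hb⟩ (fun h => hb0 (congrArg Subtype.val h))
      obtain ⟨z, hzf, hzg⟩ := nonempty_preirreducible_inter
        (Proj.toSpecZero 𝒜 ⁻¹ᵁ (PrimeSpectrum.basicOpen (⟨b, hb⟩ : 𝒜 0))).2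
        (Proj.basicOpen 𝒜 a).2 ⟨z1, hz1⟩ (hpos hm ha ha0)
      have := preimage_inf_basicOpen_eq_bot 𝒜 ⟨b, hb⟩ ha hm (by rw [mul_comm]; exact hab)
      have hz : z ∈ Proj.toSpecZero 𝒜 ⁻¹ᵁ (PrimeSpectrum.basicOpen (⟨b, hb⟩ : 𝒜 0)) ⊓
          Proj.basicOpen 𝒜 a := ⟨hzf, hzg⟩
      rw [this] at hz
      exact hz
    · -- both positive
      obtain ⟨z, hzf, hzg⟩ := nonempty_preirreducible_inter
        (Proj.basicOpen 𝒜 a).2 (Proj.basicOpen 𝒜 b).2 (hpos hm ha ha0) (hpos hn hb hb0)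
      have hz : z ∈ Proj.basicOpen 𝒜 (a * b) := by
        rw [Proj.basicOpen_mul]; exact ⟨hzf, hzg⟩
      rw [hab, Proj.basicOpen_zero] at hz
      exact hz
  exact IsDomain.of_bot_isPrime A

end Groth.Agent.Helper1.RP
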