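import Mathlib
import Groth.Agent.Helper1.PL9
import Groth.Agent.Helper1.RP14

/-!
# Dominance of `r_{L,ψ}`
-/

set_option autoImplicit false
set_option linter.style.haveILetI false

namespace Groth.Agent.Helper1.PL

open CategoryTheory Limits AlgebraicGeometry TopologicalSpace Opposite RelSpec RelProj
  HomogeneousLocalization
open Groth.Agent.Helper1.RP
open scoped HomogeneousIdeal

universe u

noncomputable section

section ring

variable {A σ : Type u} [CommRing A] [SetLike σ A] [AddSubgroupClass σ A]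
  (𝒜 : ℕ → σ) [GradedRing 𝒜]

/-- the opens `D_+(f)`, `f` homogeneous of positive degree, form a basis of `Proj` -/
theorem exists_homog_basicOpen_le (W : (Proj 𝒜).Opens) (x : Proj 𝒜) (hx : x ∈ W) :
    ∃ (d : ℕ) (_ : 0 < d) (f : A) (_ : f ∈ 𝒜 d), x ∈ Proj.basicOpen 𝒜 f ∧
      Proj.basicOpen 𝒜 f ≤ W := by
  obtain ⟨_, ⟨_, ⟨a, rfl⟩, rfl⟩, hxa, haW⟩ :=
    (Proj.isBasis_basicOpen 𝒜).exists_subset_of_mem_open hx W.2
  have hxa' : x ∈ ProjectiveSpectrum.basicOpen 𝒜 a := hxa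
  rw [ProjectiveSpectrum.basicOpen_eq_union_of_projection] at hxa'
  obtain ⟨i, hi⟩ := Opens.mem_iSup.mp hxa'
  obtain ⟨e, he, b, hb, hbx⟩ := exists_homog_notMem x
  refine ⟨i + e, by omega, GradedRing.proj 𝒜 i a * b,
    SetLike.mul_mem_graded (SetLike.coe_mem _) hb, ?_, ?_⟩
  · rw [Proj.basicOpen_mul]
    exact ⟨hi, hbx⟩
  · rw [Proj.basicOpen_mul]
    intro y hy
    apply haW
    show y ∈ ProjectiveSpectrum.basicOpen 𝒜 a
    rw [ProjectiveSpectrum.basicOpen_eq_union_of_projection]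
    exact Opens.mem_iSup.mpr ⟨i, hy.1⟩

theorem not_isNilpotent_of_mem_basicOpen {f : A} (x : Proj 𝒜) (hx : x ∈ Proj.basicOpen 𝒜 f) :
    ¬ IsNilpotent f := by
  rintro ⟨k, hk⟩
  apply hx
  have : f ^ k ∈ x.asHomogeneousIdeal.toIdeal := by rw [hk]; exact zero_mem _
  exact x.isPrime.mem_of_pow_mem k this

end ring

theorem exists_mem_basicOpen_of_not_isNilpotent {X : Scheme.{u}} {V : X.Opens}
    (hV : IsAffineOpen V) (a : Γ(X, V)) (ha : ¬ IsNilpotent a) : ∃ x : X, x ∈ X.basicOpen a := by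
  rw [nilpotent_iff_mem_prime] at ha
  push Not at ha
  obtain ⟨J, hJ, haJ⟩ := ha
  let w : Spec Γ(X, V) := ⟨J, hJ⟩
  have hw : w ∈ (PrimeSpectrum.basicOpen a : (Spec Γ(X, V)).Opens) := haJ
  rw [← hV.fromSpec_preimage_basicOpen] at hw
  exact ⟨hV.fromSpec w, hw⟩

end

end Groth.Agent.Helper1.PL
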