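import Mathlib
import Groth.Agent.Helper1.PL5
import Groth.Agent.Helper1.PL10
import Groth.Agent.Helper1.PT6

/-!
# The non-vanishing locus of a homogeneous section of `Sym L` over an open `T`, `L` invertible
-/

set_option autoImplicit false
set_option linter.style.haveILetI false

namespace Groth.Agent.Helper1.PT

open CategoryTheory Limits AlgebraicGeometry TopologicalSpace Opposite RelSpec RelProj
  HomogeneousLocalization
open Groth.Agent.Helper1.RP Groth.Agent.Helper1.PL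
open scoped HomogeneousIdeal

universe u

noncomputable section

variable {X : Scheme.{u}} {𝒮L : QCGrAlg X} {T : X.Opens} {n : ℕ}

/-- the family generates the degree-`n` part over `V` -/
def IsGenAt (w : Fam 𝒮L T n) (V : X.Opens) (hV : IsAffineOpen V) (hT : V ≤ T) : Prop :=
  ∀ b ∈ 𝒮L.deg V hV n, b ∈ Ideal.span {w.w V hV hT}

/-- the open of `X` where the family generates -/
def Xw (w : Fam 𝒮L T n) : X.Opens :=
  ⨆ V : {V : {V : X.affineOpens // V.1 ≤ T} // IsGenAt w V.1.1 V.1.2 V.2}, (V.1.1.1 : X.Opens)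

variable (w : Fam 𝒮L T n)

theorem Xw_le : Xw w ≤ T := by
  apply iSup_le
  intro V
  exact V.1.2

theorem isGenAt_basicOpen {V : X.Opens} (hV : IsAffineOpen V) (hT : V ≤ T)
    (h : IsGenAt w V hV hT) (a : Γ(X, V)) :
    IsGenAt w (X.basicOpen a) (hV.basicOpen a) ((X.basicOpen_le a).trans hT) := by
  intro b hb
  have hloc := isLocAway_res 𝒮L V hV a
  obtain ⟨b₀, hb₀, k, hk⟩ := hloc.surj_homog (𝒮L.str_mem V hV a) hb
  obtain ⟨v, hv⟩ := hloc.unit.exists_right_inv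
  obtain ⟨x, hx⟩ := Ideal.mem_span_singleton'.mp (h b₀ hb₀)
  have h1 : b = b * ((𝒮L.res hV (hV.basicOpen a) (X.basicOpen_le a))
      ((𝒮L.str.app (op V)).hom a)) ^ k * v ^ k := by
    rw [mul_assoc, ← mul_pow, hv, one_pow, mul_one]
  rw [h1, hk, ← hx, map_mul]
  have h2 : (𝒮L.res hV (hV.basicOpen a) (X.basicOpen_le a)) (w.w V hV hT) =
      w.w (X.basicOpen a) (hV.basicOpen a) ((X.basicOpen_le a).trans hT) :=
    w.res hV (hV.basicOpen a) (X.basicOpen_le a) hT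
  rw [h2]
  refine Ideal.mem_span_singleton'.mpr
    ⟨(𝒮L.res hV (hV.basicOpen a) (X.basicOpen_le a)) x * v ^ k, ?_⟩
  ring

variable {L : X.Modules} [L.IsQuasicoherent] {j : L ⟶ 𝒮L.toModule} (hj : IsGrSymAlg L 𝒮L j)

include hj in
theorem isGenAt_basicOpen_of_frame {V : X.Opens} (hV : IsAffineOpen V) (hT : V ≤ T)
    (F : Frame L V)
    (a : Γ(X, V)) (ha : w.w V hV hT = (𝒮L.str.app (op V)).hom a * (F.t j) ^ n) :
    IsGenAt w (X.basicOpen a) (hV.basicOpen a) ((X.basicOpen_le a).trans hT) := by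
  intro b hb
  have hloc := isLocAway_res 𝒮L V hV a
  obtain ⟨b₀, hb₀, k, hk⟩ := hloc.surj_homog (𝒮L.str_mem V hV a) hb
  obtain ⟨v, hv⟩ := hloc.unit.exists_right_inv
  obtain ⟨x, hx⟩ := F.exists_eq hj hV hb₀
  set ψ := 𝒮L.res hV (hV.basicOpen a) (X.basicOpen_le a) with hψ
  have h1 : b = b * (ψ ((𝒮L.str.app (op V)).hom a)) ^ k * v ^ k := by
    rw [mul_assoc, ← mul_pow, hv, one_pow, mul_one]
  have h2 : ψ (w.w V hV hT) = w.w (X.basicOpen a) (hV.basicOpen a) ((X.basicOpen_le a).trans hT) :=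
    w.res hV (hV.basicOpen a) (X.basicOpen_le a) hT
  rw [h1, hk, hx, ← h2, ha, map_mul, map_mul, map_pow]
  refine Ideal.mem_span_singleton'.mpr
    ⟨ψ ((𝒮L.str.app (op V)).hom x) * v ^ (k + 1), ?_⟩
  have h3 : ψ ((𝒮L.str.app (op V)).hom a) * v = 1 := hv
  calc ψ ((𝒮L.str.app (op V)).hom x) * v ^ (k + 1) *
        (ψ ((𝒮L.str.app (op V)).hom a) * ψ (F.t j) ^ n)
      = ψ ((𝒮L.str.app (op V)).hom x) * ψ (F.t j) ^ n * v ^ k *
        (ψ ((𝒮L.str.app (op V)).hom a) * v) := by ring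
    _ = ψ ((𝒮L.str.app (op V)).hom x) * ψ (F.t j) ^ n * v ^ k := by rw [h3, mul_one]

include hj in
theorem isUnit_of_isGenAt {V : X.Opens} (hV : IsAffineOpen V) (hT : V ≤ T) (F : Frame L V)
    (h : IsGenAt w V hV hT)
    (a : Γ(X, V)) (ha : w.w V hV hT = (𝒮L.str.app (op V)).hom a * (F.t j) ^ n) : IsUnit a := by
  have ht : (F.t j) ^ n ∈ 𝒮L.deg V hV n := by
    have := F.term_mem hj hV 1 n
    rwa [map_one, one_mul] at this
  obtain ⟨x, hx⟩ := Ideal.mem_span_singleton'.mp (h _ ht)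
  obtain ⟨p, hp⟩ := (F.eval₂_bij hj hV).2 x
  have h1 : Polynomial.eval₂RingHom (𝒮L.str.app (op V)).hom (F.t j)
      (p * (Polynomial.C a * Polynomial.X ^ n)) =
      Polynomial.eval₂RingHom (𝒮L.str.app (op V)).hom (F.t j) (Polynomial.X ^ n) := by
    rw [map_mul, hp]
    simp only [map_mul, map_pow, Polynomial.coe_eval₂RingHom, Polynomial.eval₂_C,
      Polynomial.eval₂_X]
    rw [← ha]
    exact hx
  have h2 := (F.eval₂_bij hj hV).1 h1
  have h3 := congrArg (fun q => Polynomial.coeff q n) h2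
  simp only [Polynomial.coeff_X_pow, if_pos] at h3
  rw [← mul_assoc, Polynomial.coeff_mul_X_pow', if_pos le_rfl, Nat.sub_self,
    Polynomial.coeff_mul_C] at h3
  exact IsUnit.of_mul_eq_one _ (by rw [mul_comm]; exact h3)

variable {PL : Scheme.{u}} {pL : PL ⟶ X}
  {chartL : ∀ (U : X.Opens) (hU : IsAffineOpen U),
    (((pL ⁻¹ᵁ U : PL.Opens) : Scheme.{u}) ≅ Proj (𝒮L.deg U hU))}

include hj in
/-- the non-vanishing locus on `Proj(Sym L)` is the preimage of the open `X_w` -/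
theorem locus_eq_preimage (hL : PicF.IsInvertible L) (hPL : IsRelProj 𝒮L pL chartL) (hn : 0 < n) :
    locus w pL chartL = pL ⁻¹ᵁ (Xw w) := by
  ext z
  constructor
  · intro hz
    have hzT : pL z ∈ T := locus_le_preimage w pL chartL hz
    obtain ⟨_, ⟨V, hV, rfl⟩, hzV, hVT⟩ :=
      X.isBasis_affineOpens.exists_subset_of_mem_open hzT T.2
    replace hV : IsAffineOpen V := hV
    have hVT' : V ≤ T := hVT
    obtain ⟨g, hzg, ⟨F⟩⟩ := exists_frame_basicOpen L hL hV (pL z) hzV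
    have h1 : z ∈ piece w pL chartL V hV hVT' := by
      rw [← locus_inf_preimage w hPL V hV hVT']; exact ⟨hz, hzV⟩
    have h2 : z ∈ piece w pL chartL (X.basicOpen g) (hV.basicOpen g)
        ((X.basicOpen_le g).trans hVT') := by
      rw [piece_basicOpen w hPL V hV hVT' g]; exact ⟨h1, hzg⟩
    obtain ⟨a, ha⟩ := F.exists_eq hj (hV.basicOpen g) (w.mem _ (hV.basicOpen g)
      ((X.basicOpen_le g).trans hVT'))
    obtain ⟨y, hy, rfl⟩ := h2
    have hy' : y ∈ Proj.basicOpen (𝒮L.deg _ (hV.basicOpen g))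
        ((𝒮L.str.app (op (X.basicOpen g))).hom a * (F.t j) ^ n) := by
      rw [← ha]; exact hy
    have h3 := (F.mem_basicOpen_iff hj (hV.basicOpen g) hPL hn a y).mp hy'
    exact Opens.mem_iSup.mpr ⟨⟨⟨⟨X.basicOpen a, (hV.basicOpen g).basicOpen a⟩,
      (X.basicOpen_le a).trans ((X.basicOpen_le g).trans hVT')⟩,
      isGenAt_basicOpen_of_frame w hj (hV.basicOpen g) _ F a ha⟩, h3⟩
  · intro hz
    obtain ⟨V, hzV⟩ := Opens.mem_iSup.mp hz
    obtain ⟨g, hzg, ⟨F⟩⟩ := exists_frame_basicOpen L hL V.1.1.2 (pL z) hzV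
    have hgen := isGenAt_basicOpen w V.1.1.2 V.1.2 V.2 g
    obtain ⟨a, ha⟩ := F.exists_eq hj (V.1.1.2.basicOpen g) (w.mem _ (V.1.1.2.basicOpen g)
      ((X.basicOpen_le g).trans V.1.2))
    have hu := isUnit_of_isGenAt w hj (V.1.1.2.basicOpen g) _ F hgen a ha
    have hzg' : z ∈ pL ⁻¹ᵁ X.basicOpen g := hzg
    apply piece_le_locus w pL chartL (X.basicOpen g) (V.1.1.2.basicOpen g)
      ((X.basicOpen_le g).trans V.1.2)
    rw [mem_piece_iff w _ _ _ z hzg']
    show (chartL _ (V.1.1.2.basicOpen g)).hom ⟨z, hzg'⟩ ∈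
      Proj.basicOpen (𝒮L.deg _ (V.1.1.2.basicOpen g)) (w.w _ (V.1.1.2.basicOpen g) _)
    rw [ha, F.mem_basicOpen_iff hj (V.1.1.2.basicOpen g) hPL hn a, emb_chart_hom,
      Scheme.basicOpen_of_isUnit _ hu]
    exact hzg

/-- on the non-vanishing locus the family is nowhere nilpotent -/
theorem not_isNilpotent_of_mem_locus (hPL : IsRelProj 𝒮L pL chartL) (z : PL)
    (hz : z ∈ locus w pL chartL) (V : X.Opens) (hV : IsAffineOpen V) (hT : V ≤ T)
    (hzV : pL z ∈ V) :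
    ¬ IsNilpotent (w.w V hV hT) := by
  have h1 : z ∈ piece w pL chartL V hV hT := by
    rw [← locus_inf_preimage w hPL V hV hT]; exact ⟨hz, hzV⟩
  obtain ⟨y, hy, -⟩ := h1
  exact not_isNilpotent_of_mem_basicOpen (𝒮L.deg V hV) y hy

include hj in
/-- a family which is not nilpotent near a point has a non-empty non-vanishing locus -/
theorem exists_mem_locus (hL : PicF.IsInvertible L) (hPL : IsRelProj 𝒮L pL chartL) (hn : 0 < n)
    (hsurj : Function.Surjective pL) (x₀ : X) (hx₀T : x₀ ∈ T)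
    (hx₀ : ∀ (V : X.Opens) (hV : IsAffineOpen V) (hT : V ≤ T), x₀ ∈ V →
      ¬ IsNilpotent (w.w V hV hT)) :
    ∃ z : PL, z ∈ locus w pL chartL := by
  obtain ⟨_, ⟨V, hV, rfl⟩, hxV, hVT⟩ :=
    X.isBasis_affineOpens.exists_subset_of_mem_open hx₀T T.2
  replace hV : IsAffineOpen V := hV
  have hVT' : V ≤ T := hVT
  obtain ⟨g, hxg, ⟨F⟩⟩ := exists_frame_basicOpen L hL hV x₀ hxV
  obtain ⟨a, ha⟩ := F.exists_eq hj (hV.basicOpen g) (w.mem _ (hV.basicOpen g)
    ((X.basicOpen_le g).trans hVT'))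
  have hnil : ¬ IsNilpotent a := by
    rintro ⟨k, hk⟩
    apply hx₀ _ (hV.basicOpen g) ((X.basicOpen_le g).trans hVT') hxg
    refine ⟨k, ?_⟩
    rw [ha, mul_pow, ← map_pow, hk, map_zero, zero_mul]
  obtain ⟨x₁, hx₁⟩ := exists_mem_basicOpen_of_not_isNilpotent (hV.basicOpen g) a hnil
  obtain ⟨z, rfl⟩ := hsurj x₁
  refine ⟨z, ?_⟩
  rw [locus_eq_preimage w hj hL hPL hn]
  exact Opens.mem_iSup.mpr ⟨⟨⟨⟨X.basicOpen a, (hV.basicOpen g).basicOpen a⟩,
      (X.basicOpen_le a).trans ((X.basicOpen_le g).trans hVT')⟩,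
    isGenAt_basicOpen_of_frame w hj (hV.basicOpen g) _ F a ha⟩, hx₁⟩

end

end Groth.Agent.Helper1.PT
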