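import Mathlib
import Groth.Agent.Helper1.GA4
import Groth.Agent.Helper1.PT7

/-!
# Grauert's criterion, 5: Taylor coefficients, along the zero section, of a function defined on a
neighbourhood of the zero section of a cone
-/

set_option autoImplicit false
set_option linter.style.haveILetI false

namespace Groth.Agent.Helper1.GA

open CategoryTheory Limits AlgebraicGeometry TopologicalSpace Opposite RelProj RelCone
  Groth.Agent.Helper1.RP Groth.Agent.Helper1.PC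
open scoped HomogeneousIdeal

universe u

noncomputable section

variable {X : Scheme.{u}} {𝒜 : QCGrAlg X}

/-- the `n`-th infinitesimal neighbourhood of the zero section over the affine open `U` -/
def κ (𝒜 : QCGrAlg X) (U : X.Opens) (hU : IsAffineOpen U) (n : ℕ) :
    Spec (CommRingCat.of ((𝒜.presheaf.obj (op U)) ⧸ Jn (𝒜.deg U hU) n)) ⟶ 𝒜.toQCAlg.spec :=
  Spec.map (CommRingCat.ofHom (Ideal.Quotient.mk (Jn (𝒜.deg U hU) n))) ≫ 𝒜.toQCAlg.ι U hU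

theorem κ_lower (U : X.Opens) (hU : IsAffineOpen U) {n m : ℕ} (h : m ≤ n) :
    Spec.map (CommRingCat.ofHom (truncLower (𝒜.deg U hU) h)) ≫ κ 𝒜 U hU n = κ 𝒜 U hU m := by
  unfold κ
  rw [← Category.assoc, ← Spec.map_comp]
  rfl

theorem κ_res {U V : X.Opens} (hU : IsAffineOpen U) (hV : IsAffineOpen V) (i : V ≤ U) (n : ℕ) :
    Spec.map (CommRingCat.ofHom (truncMap (𝒜.deg U hU) (𝒜.deg V hV) (𝒜.res hU hV i) n)) ≫
      κ 𝒜 U hU n = κ 𝒜 V hV n := by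
  unfold κ
  rw [← ι_res_of_le 𝒜.toQCAlg hU hV i, ← Category.assoc, ← Spec.map_comp, ← Category.assoc,
    ← Spec.map_comp]
  rfl

variable (h0 : StrZeroBij 𝒜) {aug : 𝒜.toQCAlg ⟶ RelSpec.QCAlg.unit X}
  (haug : IsAugmentation 𝒜 aug) {j0 : X ⟶ 𝒜.toQCAlg.spec} (hj0 : IsVertex 𝒜 aug j0)

include h0 haug hj0 in
/-- a prime containing the irrelevant ideal gives a point of the zero section -/
theorem ι_eq_vertex_of_irrelevant_le (U : X.Opens) (hU : IsAffineOpen U)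
    (v : Spec (𝒜.presheaf.obj (op U))) (h : ((𝒜.deg U hU)₊).toIdeal ≤ v.asIdeal) :
    ∃ x ∈ U, j0 x = (𝒜.toQCAlg.ι U hU) v := by
  have h1 : v ∉ vertexCompl (𝒜.deg U hU) := by
    rw [AC.mem_vertexCompl_iff]
    rintro ⟨f, hf, hfv⟩
    exact hfv (h hf)
  obtain ⟨x, hx⟩ := (AC.ι_mem_range_vertex_iff h0 aug haug j0 hj0 U hU v).mpr h1
  refine ⟨x, ?_, hx⟩
  have h2 : 𝒜.toQCAlg.π (j0 x) = x := congrArg (fun t : X ⟶ X => t x) hj0.comp_π
  rw [← h2, hx]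
  exact ι_mem 𝒜.toQCAlg U hU v

include h0 haug hj0 in
theorem κ_mem (N : 𝒜.toQCAlg.spec.Opens) (W : X.Opens) (hN : ∀ x ∈ W, j0 x ∈ N)
    (U : X.Opens) (hU : IsAffineOpen U) (hUW : U ≤ W) (n : ℕ) :
    ⊤ ≤ κ 𝒜 U hU n ⁻¹ᵁ N := by
  intro z _
  change (κ 𝒜 U hU n) z ∈ N
  unfold κ
  rw [Scheme.Hom.comp_apply]
  set v := (Spec.map (CommRingCat.ofHom (Ideal.Quotient.mk (Jn (𝒜.deg U hU) n)))) z with hv
  have h1 : Jn (𝒜.deg U hU) n ≤ v.asIdeal := by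
    intro a ha
    change (Ideal.Quotient.mk (Jn (𝒜.deg U hU) n)) a ∈ z.asIdeal
    rw [Ideal.Quotient.eq_zero_iff_mem.mpr ha]
    exact zero_mem _
  obtain ⟨x, hxU, hx⟩ := ι_eq_vertex_of_irrelevant_le h0 haug hj0 U hU v
    (irrelevant_le_of_Jn_le (𝒜.deg U hU) v.asIdeal h1)
  rw [← hx]
  exact hN x (hUW hxU)

/-- the Taylor data of `f ∈ Γ(V, N)` -/
structure TData (𝒜 : QCGrAlg X) (j0 : X ⟶ 𝒜.toQCAlg.spec) where
  N : 𝒜.toQCAlg.spec.Opens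
  W : X.Opens
  hN : ∀ x ∈ W, j0 x ∈ N
  f : Γ(𝒜.toQCAlg.spec, N)

variable (D : TData 𝒜 j0)

/-- the `n`-th Taylor polynomial of `f` over `U` -/
def Tn (U : X.Opens) (hU : IsAffineOpen U) (hUW : U ≤ D.W) (n : ℕ) :
    (𝒜.presheaf.obj (op U)) ⧸ Jn (𝒜.deg U hU) n :=
  (ev D.N (κ 𝒜 U hU n) (κ_mem h0 haug hj0 D.N D.W D.hN U hU hUW n)).hom D.f

/-- the `n`-th Taylor coefficient of `f` over `U` -/
def cf (U : X.Opens) (hU : IsAffineOpen U) (hUW : U ≤ D.W) (n : ℕ) : 𝒜.presheaf.obj (op U) :=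
  coef (𝒜.deg U hU) n n (Tn h0 haug hj0 D U hU hUW n)

theorem cf_mem (U : X.Opens) (hU : IsAffineOpen U) (hUW : U ≤ D.W) (n : ℕ) :
    cf h0 haug hj0 D U hU hUW n ∈ 𝒜.deg U hU n :=
  coef_mem _ _ _ _

theorem Tn_lower (U : X.Opens) (hU : IsAffineOpen U) (hUW : U ≤ D.W) {n m : ℕ} (h : m ≤ n) :
    truncLower (𝒜.deg U hU) h (Tn h0 haug hj0 D U hU hUW n) = Tn h0 haug hj0 D U hU hUW m := by
  unfold Tn
  have e := ev_specMap_comp D.N (CommRingCat.ofHom (truncLower (𝒜.deg U hU) h)) (κ 𝒜 U hU n)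
    (κ_mem h0 haug hj0 D.N D.W D.hN U hU hUW n)
    (by rw [κ_lower]; exact κ_mem h0 haug hj0 D.N D.W D.hN U hU hUW m)
  have e2 : ev D.N (Spec.map (CommRingCat.ofHom (truncLower (𝒜.deg U hU) h)) ≫ κ 𝒜 U hU n)
      (by rw [κ_lower]; exact κ_mem h0 haug hj0 D.N D.W D.hN U hU hUW m) =
      ev D.N (κ 𝒜 U hU m) (κ_mem h0 haug hj0 D.N D.W D.hN U hU hUW m) := by
    congr 1
    exact κ_lower U hU h
  rw [← e2, e]
  rfl

theorem Tn_res {U V : X.Opens} (hU : IsAffineOpen U) (hV : IsAffineOpen V) (i : V ≤ U)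
    (hUW : U ≤ D.W) (n : ℕ) :
    truncMap (𝒜.deg U hU) (𝒜.deg V hV) (𝒜.res hU hV i) n (Tn h0 haug hj0 D U hU hUW n) =
      Tn h0 haug hj0 D V hV (i.trans hUW) n := by
  unfold Tn
  have e := ev_specMap_comp D.N
    (CommRingCat.ofHom (truncMap (𝒜.deg U hU) (𝒜.deg V hV) (𝒜.res hU hV i) n)) (κ 𝒜 U hU n)
    (κ_mem h0 haug hj0 D.N D.W D.hN U hU hUW n)
    (by rw [κ_res]; exact κ_mem h0 haug hj0 D.N D.W D.hN V hV (i.trans hUW) n)
  have e2 : ev D.N (Spec.map (CommRingCat.ofHom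
        (truncMap (𝒜.deg U hU) (𝒜.deg V hV) (𝒜.res hU hV i) n)) ≫ κ 𝒜 U hU n)
      (by rw [κ_res]; exact κ_mem h0 haug hj0 D.N D.W D.hN V hV (i.trans hUW) n) =
      ev D.N (κ 𝒜 V hV n) (κ_mem h0 haug hj0 D.N D.W D.hN V hV (i.trans hUW) n) := by
    congr 1
    exact κ_res hU hV i n
  rw [← e2, e]
  rfl

theorem cf_res {U V : X.Opens} (hU : IsAffineOpen U) (hV : IsAffineOpen V) (i : V ≤ U)
    (hUW : U ≤ D.W) (n : ℕ) :
    (𝒜.presheaf.map (homOfLE i).op).hom (cf h0 haug hj0 D U hU hUW n) =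
      cf h0 haug hj0 D V hV (i.trans hUW) n := by
  unfold cf
  rw [← Tn_res h0 haug hj0 D hU hV i hUW n, coef_truncMap _ _ _ le_rfl]
  rfl

theorem coef_Tn (U : X.Opens) (hU : IsAffineOpen U) (hUW : U ≤ D.W) {n k : ℕ} (hk : k ≤ n) :
    coef (𝒜.deg U hU) n k (Tn h0 haug hj0 D U hU hUW n) = cf h0 haug hj0 D U hU hUW k := by
  unfold cf
  rw [← Tn_lower h0 haug hj0 D U hU hUW hk, coef_truncLower _ hk le_rfl]

theorem Tn_eq_sum (U : X.Opens) (hU : IsAffineOpen U) (hUW : U ≤ D.W) (n : ℕ) :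
    Tn h0 haug hj0 D U hU hUW n = Ideal.Quotient.mk (Jn (𝒜.deg U hU) n)
      (∑ k ∈ Finset.range (n + 1), cf h0 haug hj0 D U hU hUW k) := by
  rw [← mk_sum_coef (𝒜.deg U hU) n (Tn h0 haug hj0 D U hU hUW n)]
  congr 1
  apply Finset.sum_congr rfl
  intro k hk
  rw [Finset.mem_range] at hk
  exact coef_Tn h0 haug hj0 D U hU hUW (by omega)

/-- the family of the `n`-th Taylor coefficients -/
def tfam (n : ℕ) : PT.Fam 𝒜 D.W n where
  w V hV hT := cf h0 haug hj0 D V hV hT n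
  mem V hV hT := cf_mem h0 haug hj0 D V hV hT n
  res hV hV' i hT := cf_res h0 haug hj0 D hV hV' i hT n

/-- the Taylor coefficients glue to a section over `W` -/
theorem exists_tsec (n : ℕ) : ∃ σ : 𝒜.presheaf.obj (op D.W),
    ∀ (V : X.Opens) (hV : IsAffineOpen V) (hT : V ≤ D.W),
      (tfam h0 haug hj0 D n).w V hV hT = (𝒜.presheaf.map (homOfLE hT).op).hom σ := by
  obtain ⟨σ, hσ⟩ := exists_glue_affine 𝒜.presheaf 𝒜.isSheaf D.W
    (fun V hV hT => cf h0 haug hj0 D V hV hT n)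
    (fun V V' hV hV' i hW => cf_res h0 haug hj0 D hV hV' i hW n)
  exact ⟨σ, fun V hV hT => (hσ V hV hT).symm⟩

end

end Groth.Agent.Helper1.GA
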