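import Mathlib
import Groth.Agent.Helper1.GA1
import Groth.Agent.Helper1.GA2

/-!
# Grauert's criterion, 6 (algebra): a graded ring which is a polynomial ring `B[t]`; truncations
and Taylor expansions of fractions
-/

set_option autoImplicit false

namespace Groth.Agent.Helper1.GA

open Polynomial Groth.Agent.Helper1.PC

universe u

noncomputable section

variable {B R : Type u} [CommRing B] [CommRing R] (𝒢 : ℕ → AddSubgroup R) [GradedRing 𝒢]
  (s : B →+* R) (t : R) (hst : ∀ (b : B) (k : ℕ), s b * t ^ k ∈ 𝒢 k)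
  (hbij : Function.Bijective (Polynomial.eval₂RingHom s t))

/-- the identification `B[X] ≃ R` -/
def φe : B[X] ≃+* R := RingEquiv.ofBijective (Polynomial.eval₂RingHom s t) hbij

theorem φe_apply (P : B[X]) : φe s t hbij P = Polynomial.eval₂ s t P := rfl

theorem φe_C_mul_X_pow (b : B) (k : ℕ) : φe s t hbij (C b * X ^ k) = s b * t ^ k := by
  rw [φe_apply, Polynomial.eval₂_mul, Polynomial.eval₂_C, Polynomial.eval₂_pow,
    Polynomial.eval₂_X]

theorem φe_symm_term (b : B) (k : ℕ) : (φe s t hbij).symm (s b * t ^ k) = C b * X ^ k := by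
  rw [RingEquiv.symm_apply_eq, φe_C_mul_X_pow]

include hst in
theorem proj_φe (P : B[X]) (k : ℕ) :
    GradedRing.proj 𝒢 k (φe s t hbij P) = s (P.coeff k) * t ^ k := by
  rw [φe_apply, Polynomial.eval₂_eq_sum, Polynomial.sum_def, map_sum]
  have h : ∀ i ∈ P.support, GradedRing.proj 𝒢 k (s (P.coeff i) * t ^ i) =
      if i = k then s (P.coeff i) * t ^ i else 0 := fun i _ => proj_of_mem (hst _ i) k
  rw [Finset.sum_congr rfl h, Finset.sum_ite_eq' P.support k]
  split_ifs with hk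
  · rfl
  · rw [Polynomial.notMem_support_iff.mp hk, map_zero, zero_mul]

include hst in
theorem coeff_eq_zero_of_mem_Jn {n : ℕ} (P : B[X]) (hP : φe s t hbij P ∈ Jn 𝒢 n) {k : ℕ}
    (hk : k ≤ n) : P.coeff k = 0 := by
  have h1 := hP k hk
  rw [proj_φe 𝒢 s t hst hbij, ← φe_C_mul_X_pow s t hbij] at h1
  have h2 : C (P.coeff k) * X ^ k = 0 := by
    apply (φe s t hbij).injective
    rw [h1, map_zero]
  have h3 := congrArg (fun Q => Polynomial.coeff Q k) h2
  simpa using h3

variable {K : Type u} [Field K] (χ : B →+* K)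

/-- `R ≃ B[X] → K[X] → K[X]/(X^{n+1})` -/
def Ψ (n : ℕ) : R →+* K[X] ⧸ Ideal.span {(X : K[X]) ^ (n + 1)} :=
  (Ideal.Quotient.mk _).comp ((Polynomial.mapRingHom χ).comp (φe s t hbij).symm.toRingHom)

theorem Ψ_apply (n : ℕ) (x : R) :
    Ψ s t hbij χ n x = Ideal.Quotient.mk _ (((φe s t hbij).symm x).map χ) := rfl

include hst in
theorem Jn_le_ker_Ψ (n : ℕ) : ∀ x ∈ Jn 𝒢 n, Ψ s t hbij χ n x = 0 := by
  intro x hx
  rw [Ψ_apply, Ideal.Quotient.eq_zero_iff_mem, Ideal.mem_span_singleton,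
    Polynomial.X_pow_dvd_iff]
  intro d hd
  rw [Polynomial.coeff_map]
  obtain ⟨P, rfl⟩ := (φe s t hbij).surjective x
  rw [RingEquiv.symm_apply_apply, coeff_eq_zero_of_mem_Jn 𝒢 s t hst hbij P hx (by omega),
    map_zero]

/-- the induced map on truncations -/
def θ (n : ℕ) : R ⧸ Jn 𝒢 n →+* K[X] ⧸ Ideal.span {(X : K[X]) ^ (n + 1)} :=
  Ideal.Quotient.lift (Jn 𝒢 n) (Ψ s t hbij χ n) (Jn_le_ker_Ψ 𝒢 s t hst hbij χ n)

theorem θ_mk (n : ℕ) (x : R) :
    θ 𝒢 s t hst hbij χ n (Ideal.Quotient.mk _ x) = Ψ s t hbij χ n x := rfl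

/-- **the algebraic Taylor lemma** -/
theorem taylor_main (𝔭 : Ideal B) (hχ : ∀ b, χ b = 0 ↔ b ∈ 𝔭) (F G : R) (m : ℕ) (c : ℕ → B)
    (hG : χ (((φe s t hbij).symm G).coeff 0) ≠ 0)
    (hc : ∀ n, Ψ s t hbij χ n (∑ k ∈ Finset.range (n + 1), s (c k) * t ^ k) *
      Ψ s t hbij χ n G ^ (m + 1) = Ψ s t hbij χ n F) :
    ((φe s t hbij).symm F ∈ Ideal.map C 𝔭 ↔ ∀ n, c n ∈ 𝔭) ∧
      (χ (((φe s t hbij).symm F).coeff 0) = 0 ↔ c 0 ∈ 𝔭) := by
  set FK := ((φe s t hbij).symm F).map χ with hFK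
  set GK := ((φe s t hbij).symm G).map χ with hGK
  have hdiv : ∀ n, (X : K[X]) ^ (n + 1) ∣
      FK - GK ^ (m + 1) * ∑ k ∈ Finset.range (n + 1), C (χ (c k)) * X ^ k := by
    intro n
    have h1 := hc n
    rw [Ψ_apply, Ψ_apply, Ψ_apply, ← map_pow, ← map_mul, eq_comm, Ideal.Quotient.eq,
      Ideal.mem_span_singleton] at h1
    convert h1 using 2
    rw [mul_comm]
    congr 1
    rw [map_sum, Polynomial.map_sum]
    apply Finset.sum_congr rfl
    intro k _
    rw [φe_symm_term, Polynomial.map_mul, Polynomial.map_C, Polynomial.map_pow,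
      Polynomial.map_X]
  have hG0 : GK.coeff 0 ∉ (⊥ : Ideal K) := by
    rw [hGK, Polynomial.coeff_map, Ideal.mem_bot]
    exact hG
  haveI : (⊥ : Ideal K).IsPrime := Ideal.isPrime_bot
  have key := mem_map_C_iff_taylor (⊥ : Ideal K) FK GK (m + 1) (fun k => χ (c k)) hG0 hdiv
  rw [Ideal.map_bot, Ideal.mem_bot] at key
  have hF0 : FK = 0 ↔ (φe s t hbij).symm F ∈ Ideal.map C 𝔭 := by
    rw [Ideal.mem_map_C_iff]
    constructor
    · intro h k
      have := congrArg (fun Q => Polynomial.coeff Q k) h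
      simp only [hFK, Polynomial.coeff_map, Polynomial.coeff_zero] at this
      exact (hχ _).mp this
    · intro h
      ext k
      rw [hFK, Polynomial.coeff_map, Polynomial.coeff_zero]
      exact (hχ _).mpr (h k)
  refine ⟨?_, ?_⟩
  · rw [← hF0, key]
    exact forall_congr' (fun n => by rw [Ideal.mem_bot]; exact hχ _)
  · have h1 := hdiv 0
    rw [zero_add, pow_one, Polynomial.X_dvd_iff] at h1
    simp only [Finset.range_one, Finset.sum_singleton, pow_zero, mul_one, Polynomial.coeff_sub,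
      Polynomial.coeff_mul_C] at h1
    have h2 : FK.coeff 0 = χ (((φe s t hbij).symm F).coeff 0) := by
      rw [hFK, Polynomial.coeff_map]
    have h3 : (GK ^ (m + 1)).coeff 0 = χ (((φe s t hbij).symm G).coeff 0) ^ (m + 1) := by
      rw [Polynomial.coeff_zero_eq_eval_zero, Polynomial.eval_pow,
        ← Polynomial.coeff_zero_eq_eval_zero, hGK, Polynomial.coeff_map]
    rw [h2, h3, sub_eq_zero] at h1
    rw [h1, ← hχ]
    constructor
    · intro h
      rcases mul_eq_zero.mp h with h | h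
      · exact absurd (pow_eq_zero_iff (Nat.succ_ne_zero m) |>.mp h) hG
      · exact h
    · intro h
      rw [h, mul_zero]

end

end Groth.Agent.Helper1.GA
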