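import Mathlib
import Groth.Agent.Helper1.GA5
import Groth.Agent.Helper1.GA6
import Groth.Agent.Helper1.PL5

/-!
# Grauert's criterion, 7: the generic point of a fibre of a line bundle over a framed affine open
-/

set_option autoImplicit false
set_option linter.style.haveILetI false

namespace Groth.Agent.Helper1.GA

open CategoryTheory Limits AlgebraicGeometry TopologicalSpace Opposite RelProj RelCone
  Groth.Agent.Helper1.RP Groth.Agent.Helper1.PC Groth.Agent.Helper1.PL Polynomial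
open scoped HomogeneousIdeal

universe u

noncomputable section

section alg

variable {B R : Type u} [CommRing B] [CommRing R] (s : B →+* R) (t : R)
  (hbij : Function.Bijective (Polynomial.eval₂RingHom s t))
  {K : Type u} [Field K] (χ : B →+* K)

theorem isUnit_Ψ (n : ℕ) (G : R) (hG : χ (((φe s t hbij).symm G).coeff 0) ≠ 0) :
    IsUnit (Ψ s t hbij χ n G) := by
  rw [Ψ_apply]
  set P := ((φe s t hbij).symm G).map χ with hP
  have hc : P.coeff 0 ≠ 0 := by rwa [hP, Polynomial.coeff_map]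
  rw [← Polynomial.divX_mul_X_add P, map_add]
  apply IsNilpotent.isUnit_add_right_of_commute
  · refine ⟨n + 1, ?_⟩
    rw [← map_pow, mul_pow, Ideal.Quotient.eq_zero_iff_mem, Ideal.mem_span_singleton]
    exact Dvd.intro_left _ rfl
  · exact (Polynomial.isUnit_C.mpr (isUnit_iff_ne_zero.mpr hc)).map _
  · exact Commute.all _ _

/-- a retraction of `s` killing `t` is the constant coefficient -/
theorem retr_eq_coeff (α : R →+* B) (h1 : ∀ b, α (s b) = b) (h2 : α t = 0) (x : R) :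
    α x = ((φe s t hbij).symm x).coeff 0 := by
  have h : α.comp (φe s t hbij).toRingHom = (Polynomial.constantCoeff : B[X] →+* B) := by
    apply Polynomial.ringHom_ext
    · intro b
      change α (φe s t hbij (C b)) = _
      rw [φe_apply, Polynomial.eval₂_C, h1]
      simp
    · change α (φe s t hbij X) = _
      rw [φe_apply, Polynomial.eval₂_X, h2]
      simp
  obtain ⟨P, rfl⟩ := (φe s t hbij).surjective x
  rw [RingEquiv.symm_apply_apply]
  exact RingHom.congr_fun h P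

end alg

variable {X : Scheme.{u}} {L : X.Modules} [L.IsQuasicoherent] {𝒜 : QCGrAlg X}
  {jL : L ⟶ 𝒜.toModule} (hA : IsGrSymAlg L 𝒜 jL) {T : X.Opens} (hT : IsAffineOpen T)
  (F : Frame L T)

/-- the identification `O(T)[X] ≃ 𝒜(T)` attached to a frame -/
def eqv : (Γ(X, T))[X] ≃+* 𝒜.presheaf.obj (op T) :=
  φe (𝒜.str.app (op T)).hom (F.t jL) (F.eval₂_bij hA hT)

/-- the generic point of the fibre over `y₀` -/
def ηpt (y₀ : Spec Γ(X, T)) : Spec (𝒜.presheaf.obj (op T)) :=
  (show PrimeSpectrum (𝒜.presheaf.obj (op T)) from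
    ⟨Ideal.comap (eqv hA hT F).symm.toRingHom (Ideal.map C y₀.asIdeal),
      haveI := (Ideal.isPrime_map_C_iff_isPrime y₀.asIdeal).mpr y₀.isPrime
      Ideal.comap_isPrime _ _⟩)

theorem mem_ηpt (y₀ : Spec Γ(X, T)) (x : 𝒜.presheaf.obj (op T)) :
    x ∈ (ηpt hA hT F y₀).asIdeal ↔ (eqv hA hT F).symm x ∈ Ideal.map C y₀.asIdeal := Iff.rfl

theorem eqv_symm_str (b : Γ(X, T)) : (eqv hA hT F).symm ((𝒜.str.app (op T)).hom b) = C b := by
  rw [RingEquiv.symm_apply_eq]
  unfold eqv
  rw [φe_apply, Polynomial.eval₂_C]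

theorem eqv_symm_t : (eqv hA hT F).symm (F.t jL) = Polynomial.X := by
  rw [RingEquiv.symm_apply_eq]
  unfold eqv
  rw [φe_apply, Polynomial.eval₂_X]

/-- the generic point of the fibre lies over `y₀` -/
theorem specMap_str_ηpt (y₀ : Spec Γ(X, T)) :
    (Spec.map (𝒜.str.app (op T))) (ηpt hA hT F y₀) = y₀ := by
  apply PrimeSpectrum.ext
  ext b
  change (𝒜.str.app (op T)).hom b ∈ (ηpt hA hT F y₀).asIdeal ↔ b ∈ y₀.asIdeal
  rw [mem_ηpt, eqv_symm_str, Ideal.mem_map_C_iff]
  constructor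
  · intro h
    simpa using h 0
  · intro h k
    rw [Polynomial.coeff_C]
    split_ifs
    · exact h
    · exact zero_mem _

theorem π_ι_ηpt (y₀ : Spec Γ(X, T)) :
    𝒜.toQCAlg.π ((𝒜.toQCAlg.ι T hT) (ηpt hA hT F y₀)) = hT.fromSpec y₀ := by
  rw [← Scheme.Hom.comp_apply, 𝒜.toQCAlg.ι_π, Scheme.Hom.comp_apply, specMap_str_ηpt]

/-- the generic point of the fibre is off the zero section -/
theorem ι_ηpt_mem_pointedCone (y₀ : Spec Γ(X, T)) :
    (𝒜.toQCAlg.ι T hT) (ηpt hA hT F y₀) ∈ pointedCone 𝒜 := by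
  rw [AC.ι_mem_pointedCone_iff, AC.mem_vertexCompl_iff_homog]
  refine ⟨1, Nat.one_pos, F.t jL, F.t_mem hA hT, ?_⟩
  rw [mem_ηpt, eqv_symm_t, Ideal.mem_map_C_iff]
  intro h
  have h1 := h 1
  rw [Polynomial.coeff_X_one] at h1
  exact y₀.isPrime.ne_top ((Ideal.eq_top_iff_one _).mpr h1)

variable {aug : 𝒜.toQCAlg ⟶ RelSpec.QCAlg.unit X} (haug : IsAugmentation 𝒜 aug)

theorem aug_str (b : Γ(X, T)) : (aug.hom.app (op T)).hom ((𝒜.str.app (op T)).hom b) = b := by
  have h := NatTrans.congr_app aug.comm (op T)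
  exact congrArg (fun ψ => ψ.hom b) h

include haug in
theorem aug_eq_coeff (x : 𝒜.presheaf.obj (op T)) :
    (aug.hom.app (op T)).hom x = ((eqv hA hT F).symm x).coeff 0 :=
  retr_eq_coeff (𝒜.str.app (op T)).hom (F.t jL) (F.eval₂_bij hA hT) (aug.hom.app (op T)).hom
    (aug_str (aug := aug)) (haug T hT 0 _ (F.t_mem hA hT)) x

include haug in
/-- the generic point of the fibre specializes to the origin -/
theorem ηpt_specializes (y₀ : Spec Γ(X, T)) :
    ηpt hA hT F y₀ ⤳ (Spec.map (aug.hom.app (op T))) y₀ := by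
  refine (PrimeSpectrum.le_iff_specializes (R := 𝒜.presheaf.obj (op T)) _ _).mp ?_
  change (ηpt hA hT F y₀).asIdeal ≤ ((Spec.map (aug.hom.app (op T))) y₀).asIdeal
  intro x hx
  change (aug.hom.app (op T)).hom x ∈ y₀.asIdeal
  rw [aug_eq_coeff hA hT F haug]
  rw [mem_ηpt, Ideal.mem_map_C_iff] at hx
  exact hx 0

variable {j0 : X ⟶ 𝒜.toQCAlg.spec} (hj0 : IsVertex 𝒜 aug j0)

include haug hj0 in
/-- the generic point of the fibre lies in every open neighbourhood of the origin -/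
theorem ι_ηpt_mem_of_vertex_mem (y₀ : Spec Γ(X, T)) (N : 𝒜.toQCAlg.spec.Opens)
    (hN : j0 (hT.fromSpec y₀) ∈ N) : (𝒜.toQCAlg.ι T hT) (ηpt hA hT F y₀) ∈ N := by
  rw [AC.vertex_apply aug j0 hj0 T hT y₀] at hN
  have h := (ηpt_specializes hA hT F haug y₀).map (𝒜.toQCAlg.ι T hT).continuous
  exact h.mem_open N.isOpen hN

end

end Groth.Agent.Helper1.GA
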