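import Mathlib
import Groth.Agent.Helper1.GA7

/-!
# Grauert's criterion, 8: the Taylor lemma, geometric form
-/

set_option autoImplicit false
set_option linter.style.haveILetI false

namespace Groth.Agent.Helper1.GA

open CategoryTheory Limits AlgebraicGeometry TopologicalSpace Opposite RelProj RelCone
  Groth.Agent.Helper1.RP Groth.Agent.Helper1.PC Groth.Agent.Helper1.PL
open scoped HomogeneousIdeal

universe u

noncomputable section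

variable {X : Scheme.{u}} {L : X.Modules} [L.IsQuasicoherent] {𝒜 : QCGrAlg X}
  {jL : L ⟶ 𝒜.toModule} (hA : IsGrSymAlg L 𝒜 jL) (h0 : StrZeroBij 𝒜)
  {aug : 𝒜.toQCAlg ⟶ RelSpec.QCAlg.unit X} (haug : IsAugmentation 𝒜 aug)
  {j0 : X ⟶ 𝒜.toQCAlg.spec} (hj0 : IsVertex 𝒜 aug j0) (D : TData 𝒜 j0)
  {T : X.Opens} (hT : IsAffineOpen T) (hTW : T ≤ D.W) (F : Frame L T)

theorem fromSpec_mem (y₀ : Spec Γ(X, T)) : hT.fromSpec y₀ ∈ T := by
  have h : hT.fromSpec y₀ ∈ Set.range hT.fromSpec := ⟨y₀, rfl⟩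
  rw [hT.range_fromSpec] at h
  exact h

include hA in
/-- **the Taylor lemma**: non-vanishing of `f` at the generic point of the fibre over `y₀`, and
at the origin of this fibre, in terms of the Taylor coefficients of `f` -/
theorem taylor_geom (y₀ : Spec Γ(X, T)) (a : ℕ → Γ(X, T))
    (ha : ∀ k, cf h0 haug hj0 D T hT hTW k = (𝒜.str.app (op T)).hom (a k) * (F.t jL) ^ k) :
    ((𝒜.toQCAlg.ι T hT) (ηpt hA hT F y₀) ∈ 𝒜.toQCAlg.spec.basicOpen D.f ↔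
        ∃ n, a n ∉ y₀.asIdeal) ∧
      (j0 (hT.fromSpec y₀) ∈ 𝒜.toQCAlg.spec.basicOpen D.f ↔ a 0 ∉ y₀.asIdeal) := by
  have hx0 : hT.fromSpec y₀ ∈ D.W := hTW (fromSpec_mem hT y₀)
  have hv := AC.vertex_apply aug j0 hj0 T hT y₀
  have h𝔔N : (𝒜.toQCAlg.ι T hT) ((Spec.map (aug.hom.app (op T))) y₀) ∈ D.N := by
    rw [← hv]; exact D.hN _ hx0
  have hηN : (𝒜.toQCAlg.ι T hT) (ηpt hA hT F y₀) ∈ D.N :=
    ι_ηpt_mem_of_vertex_mem hA hT F haug hj0 y₀ D.N (D.hN _ hx0)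
  obtain ⟨_, ⟨G, rfl⟩, h𝔔G, hGN⟩ :=
    PrimeSpectrum.isTopologicalBasis_basic_opens.exists_subset_of_mem_open
      (show (Spec.map (aug.hom.app (op T))) y₀ ∈
        (((𝒜.toQCAlg.ι T hT) ⁻¹ᵁ D.N : (Spec (𝒜.presheaf.obj (op T))).Opens) :
          Set (Spec (𝒜.presheaf.obj (op T)))) from h𝔔N)
      ((𝒜.toQCAlg.ι T hT) ⁻¹ᵁ D.N).isOpen
  set DG : (Spec (𝒜.presheaf.obj (op T))).Opens := PrimeSpectrum.basicOpen G with hDG
  have hle : DG ≤ (𝒜.toQCAlg.ι T hT) ⁻¹ᵁ D.N := hGN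
  set f' := ((𝒜.toQCAlg.ι T hT).appLE D.N DG hle).hom D.f with hf'
  obtain ⟨Fr, m, hfr⟩ := exists_fraction G f'
  -- the residue field
  let K := y₀.asIdeal.ResidueField
  let χ : Γ(X, T) →+* K := algebraMap Γ(X, T) K
  have hχ : ∀ b, χ b = 0 ↔ b ∈ y₀.asIdeal := fun b => Ideal.algebraMap_residueField_eq_zero
  have hst : ∀ (b : Γ(X, T)) (k : ℕ),
      (𝒜.str.app (op T)).hom b * (F.t jL) ^ k ∈ 𝒜.deg T hT k := fun b k => F.term_mem hA hT b k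
  have hbij := F.eval₂_bij hA hT
  have hG0 : χ (((eqv hA hT F).symm G).coeff 0) ≠ 0 := by
    rw [← aug_eq_coeff hA hT F haug, Ne, hχ]
    exact h𝔔G
  let ψ : ∀ n : ℕ, 𝒜.presheaf.obj (op T) ⟶
      CommRingCat.of (Polynomial K ⧸ Ideal.span {(Polynomial.X : Polynomial K) ^ (n + 1)}) :=
    fun n => CommRingCat.ofHom (Ψ (𝒜.str.app (op T)).hom (F.t jL) hbij χ n)
  have hk : ∀ n, ⊤ ≤ Spec.map (ψ n) ⁻¹ᵁ DG := by
    intro n z _
    change ¬ ((Ψ (𝒜.str.app (op T)).hom (F.t jL) hbij χ n) G ∈ z.asIdeal)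
    intro hmem
    exact z.isPrime.ne_top (Ideal.eq_top_of_isUnit_mem _ hmem
      (isUnit_Ψ (𝒜.str.app (op T)).hom (F.t jL) hbij χ n G hG0))
  have e1 := fun n => ev_fraction G Fr m f' hfr (ψ n) (hk n)
  have e2 : ∀ n, (ev DG (Spec.map (ψ n)) (hk n)).hom f' =
      Ψ (𝒜.str.app (op T)).hom (F.t jL) hbij χ n
        (∑ k ∈ Finset.range (n + 1), (𝒜.str.app (op T)).hom (a k) * (F.t jL) ^ k) := by
    intro n
    have hk'' : ⊤ ≤ (Spec.map (ψ n) ≫ 𝒜.toQCAlg.ι T hT) ⁻¹ᵁ D.N := by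
      rw [Scheme.Hom.comp_preimage]
      exact (hk n).trans ((Spec.map (ψ n)).preimage_mono hle)
    have c1 := ev_comp (𝒜.toQCAlg.ι T hT) D.N DG hle (Spec.map (ψ n)) (hk n) hk''
    have c2 : Spec.map (ψ n) ≫ 𝒜.toQCAlg.ι T hT =
        Spec.map (CommRingCat.ofHom
          (θ (𝒜.deg T hT) (𝒜.str.app (op T)).hom (F.t jL) hst hbij χ n)) ≫ κ 𝒜 T hT n := by
      unfold κ
      rw [← Category.assoc, ← Spec.map_comp]
      rfl
    have hκ := κ_mem h0 haug hj0 D.N D.W D.hN T hT hTW n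
    have hk3 : ⊤ ≤ (Spec.map (CommRingCat.ofHom
          (θ (𝒜.deg T hT) (𝒜.str.app (op T)).hom (F.t jL) hst hbij χ n)) ≫ κ 𝒜 T hT n) ⁻¹ᵁ D.N := by
      rw [← c2]; exact hk''
    have c3 := ev_specMap_comp D.N (CommRingCat.ofHom
      (θ (𝒜.deg T hT) (𝒜.str.app (op T)).hom (F.t jL) hst hbij χ n)) (κ 𝒜 T hT n) hκ hk3
    have c4 : ev D.N (Spec.map (ψ n) ≫ 𝒜.toQCAlg.ι T hT) hk'' =
        ev D.N (Spec.map (CommRingCat.ofHom
          (θ (𝒜.deg T hT) (𝒜.str.app (op T)).hom (F.t jL) hst hbij χ n)) ≫ κ 𝒜 T hT n) hk3 := by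
      congr 1
    have c5 : (ev DG (Spec.map (ψ n)) (hk n)).hom f' =
        (ev D.N (Spec.map (ψ n) ≫ 𝒜.toQCAlg.ι T hT) hk'').hom D.f := by
      rw [c1]; rfl
    rw [c5, c4, c3]
    change θ (𝒜.deg T hT) (𝒜.str.app (op T)).hom (F.t jL) hst hbij χ n
      (Tn h0 haug hj0 D T hT hTW n) = _
    rw [Tn_eq_sum, θ_mk]
    congr 1
    exact Finset.sum_congr rfl (fun k _ => ha k)
  have hc : ∀ n, Ψ (𝒜.str.app (op T)).hom (F.t jL) hbij χ n
      (∑ k ∈ Finset.range (n + 1), (𝒜.str.app (op T)).hom (a k) * (F.t jL) ^ k) *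
      Ψ (𝒜.str.app (op T)).hom (F.t jL) hbij χ n G ^ (m + 1) =
      Ψ (𝒜.str.app (op T)).hom (F.t jL) hbij χ n Fr := by
    intro n
    rw [← e2 n]
    exact e1 n
  obtain ⟨t1, t2⟩ := taylor_main (𝒜.str.app (op T)).hom (F.t jL) hbij χ y₀.asIdeal hχ Fr G m a
    hG0 hc
  -- membership in basic opens
  have hbo : ∀ v : Spec (𝒜.presheaf.obj (op T)), G ∉ v.asIdeal →
      ((𝒜.toQCAlg.ι T hT) v ∈ 𝒜.toQCAlg.spec.basicOpen D.f ↔ Fr ∉ v.asIdeal) := by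
    intro v hvG
    rw [← mem_basicOpen_fraction G Fr m f' hfr v hvG, hf', Scheme.basicOpen_appLE]
    constructor
    · intro h
      exact ⟨hvG, h⟩
    · intro h
      exact h.2
  have hηG : G ∉ (ηpt hA hT F y₀).asIdeal := by
    intro h
    rw [mem_ηpt, Ideal.mem_map_C_iff] at h
    exact hG0 ((hχ _).mpr (h 0))
  refine ⟨?_, ?_⟩
  · rw [hbo _ hηG, mem_ηpt]
    exact (not_congr t1).trans not_forall
  · rw [hv, hbo _ h𝔔G]
    change ¬ ((aug.hom.app (op T)).hom Fr ∈ y₀.asIdeal) ↔ _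
    rw [aug_eq_coeff hA hT F haug]
    exact not_congr ((hχ _).symm.trans t2)

end

end Groth.Agent.Helper1.GA
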