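import Mathlib
import Groth.Agent.Helper1.RP9

/-!
# Local-to-global arguments on an affine open for a quasi-coherent graded algebra
-/

set_option autoImplicit false
set_option linter.style.haveILetI false

namespace Groth.Agent.Helper1.IM

open CategoryTheory Limits AlgebraicGeometry TopologicalSpace Opposite RelSpec RelProj
open Groth.Agent.Helper1.RP
open scoped HomogeneousIdeal

universe u

noncomputable section

variable {X : Scheme.{u}} (𝒮L : QCGrAlg X) {V : X.Opens} (hV : IsAffineOpen V)

/-- membership in a subgroup of `𝒮L(V)` stable under functions on `V` can be checked on a cover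
of `V` by basic opens, up to powers of the functions -/
theorem mem_of_cover (s : Set Γ(X, V)) (hs : V ≤ ⨆ g : s, X.basicOpen g.1)
    (N : AddSubgroup (𝒮L.presheaf.obj (op V)))
    (hN : ∀ (r : Γ(X, V)) (x : 𝒮L.presheaf.obj (op V)), x ∈ N →
      (𝒮L.str.app (op V)).hom r * x ∈ N)
    (b : 𝒮L.presheaf.obj (op V))
    (H : ∀ g ∈ s, ∃ c ∈ N, ∃ m : ℕ,
      𝒮L.res hV (hV.basicOpen g) (X.basicOpen_le g) ((𝒮L.str.app (op V)).hom g ^ m * b) =
        𝒮L.res hV (hV.basicOpen g) (X.basicOpen_le g) c) : b ∈ N := by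
  letI alg : Algebra Γ(X, V) (𝒮L.presheaf.obj (op V)) := (𝒮L.str.app (op V)).hom.toAlgebra
  let N' : Submodule Γ(X, V) (𝒮L.presheaf.obj (op V)) :=
    { carrier := N
      add_mem' := fun ha hb => N.add_mem ha hb
      zero_mem' := N.zero_mem
      smul_mem' := fun r x hx => hN r x hx }
  have hspan : Ideal.span s = ⊤ := hV.self_le_iSup_basicOpen_iff.mp hs
  have key : b ∈ N' := by
    apply Submodule.mem_of_span_eq_top_of_smul_pow_mem N' s hspan b
    rintro ⟨g, hg⟩
    obtain ⟨c, hc, m, hm⟩ := H g hg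
    have hloc := isLocAway_res 𝒮L V hV g
    have h0 : 𝒮L.res hV (hV.basicOpen g) (X.basicOpen_le g)
        ((𝒮L.str.app (op V)).hom g ^ m * b - c) = 0 := by
      rw [map_sub, hm, sub_self]
    obtain ⟨k, hk⟩ := hloc.ker _ h0
    refine ⟨k + m, ?_⟩
    show (𝒮L.str.app (op V)).hom (g ^ (k + m)) * b ∈ N
    have h1 : (𝒮L.str.app (op V)).hom (g ^ (k + m)) * b =
        (𝒮L.str.app (op V)).hom (g ^ k) * c := by
      rw [map_pow, map_pow, pow_add, mul_assoc]
      have := sub_eq_zero.mp (by rw [← mul_sub]; exact hk :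
        (𝒮L.str.app (op V)).hom g ^ k * ((𝒮L.str.app (op V)).hom g ^ m * b) -
          (𝒮L.str.app (op V)).hom g ^ k * c = 0)
      exact this
    rw [h1]
    exact hN _ _ hc
  exact key

end

end Groth.Agent.Helper1.IM
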