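import Mathlib
import Groth.Agent.Helper1.IM1
import Groth.Agent.Helper1.PT7

/-!
# Generation of `Sym L` by a section on an affine open: gluing
-/

set_option autoImplicit false
set_option linter.style.haveILetI false

namespace Groth.Agent.Helper1.IM

open CategoryTheory Limits AlgebraicGeometry TopologicalSpace Opposite RelSpec RelProj
open Groth.Agent.Helper1.RP Groth.Agent.Helper1.PL Groth.Agent.Helper1.PT
open scoped HomogeneousIdeal

universe u

noncomputable section

variable {X : Scheme.{u}} {𝒮L : QCGrAlg X} {T : X.Opens} {n : ℕ} (w : PT.Fam 𝒮L T n)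

theorem isGenAt_congr {V V' : X.Opens} (h : V = V') (hV : IsAffineOpen V) (hV' : IsAffineOpen V')
    (hT : V ≤ T) (hT' : V' ≤ T) (hg : PT.IsGenAt w V hV hT) : PT.IsGenAt w V' hV' hT' := by
  subst h; exact hg

theorem str_res {V V' : X.Opens} (i : V' ≤ V) (r : Γ(X, V)) :
    (𝒮L.presheaf.map (homOfLE i).op).hom ((𝒮L.str.app (op V)).hom r) =
      (𝒮L.str.app (op V')).hom ((X.presheaf.map (homOfLE i).op).hom r) := by
  have := congrArg (fun t => t.hom r) (𝒮L.str.naturality (homOfLE i).op)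
  exact this.symm

/-- generation can be checked locally: an affine open inside `X_w` is generated by `w` -/
theorem isGenAt_of_le_Xw {V : X.Opens} (hV : IsAffineOpen V) (hT : V ≤ T)
    (h : V ≤ PT.Xw w) : PT.IsGenAt w V hV hT := by
  intro b hb
  let s : Set Γ(X, V) := {g | PT.IsGenAt w (X.basicOpen g) (hV.basicOpen g)
    ((X.basicOpen_le g).trans hT)}
  have hs : V ≤ ⨆ g : s, X.basicOpen g.1 := by
    intro x hx
    obtain ⟨V', hxV'⟩ := Opens.mem_iSup.mp (h hx)
    obtain ⟨f, g', hfg, hxf, -⟩ := exists_basicOpen_le_affine_inter_le hV V'.1.1.2 ⊤ x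
      hx hxV' trivial
    have h1 := PT.isGenAt_basicOpen w V'.1.1.2 V'.1.2 V'.2 g'
    have h2 : f ∈ s := isGenAt_congr w hfg.symm _ (hV.basicOpen f) _
      ((X.basicOpen_le f).trans hT) h1
    exact Opens.mem_iSup.mpr ⟨⟨f, h2⟩, hxf⟩
  have key := mem_of_cover 𝒮L hV s hs (Ideal.span {w.w V hV hT}).toAddSubgroup
    (fun r x hx => Ideal.mul_mem_left _ _ hx) b ?_
  · exact key
  · intro g hg
    have hloc := isLocAway_res 𝒮L V hV g
    have hb' : 𝒮L.res hV (hV.basicOpen g) (X.basicOpen_le g) b ∈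
        𝒮L.deg _ (hV.basicOpen g) n := (𝒮L.res hV (hV.basicOpen g) (X.basicOpen_le g)).map_mem hb
    obtain ⟨β, hβ⟩ := Ideal.mem_span_singleton'.mp (hg _ hb')
    obtain ⟨c, m, hc⟩ := hloc.surj β
    have hw : 𝒮L.res hV (hV.basicOpen g) (X.basicOpen_le g) (w.w V hV hT) =
        w.w _ (hV.basicOpen g) ((X.basicOpen_le g).trans hT) :=
      w.res hV (hV.basicOpen g) (X.basicOpen_le g) hT
    refine ⟨c * w.w V hV hT, Ideal.mul_mem_left _ _ (Ideal.subset_span rfl), m, ?_⟩
    rw [map_mul, map_mul, map_pow, hw, ← hβ, ← hc]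
    ring

variable {L : X.Modules} [L.IsQuasicoherent] {j : L ⟶ 𝒮L.toModule} (hj : IsGrSymAlg L 𝒮L j)

include hj in
/-- if `w` generates degree `n` over the affine open `V`, every section of degree `k n` is a
function times `w ^ k` -/
theorem exists_eq_mul_pow (hL : PicF.IsInvertible L) {V : X.Opens} (hV : IsAffineOpen V)
    (hT : V ≤ T) (hgen : PT.IsGenAt w V hV hT) (k : ℕ) (b : 𝒮L.presheaf.obj (op V))
    (hb : b ∈ 𝒮L.deg V hV (k • n)) :
    ∃ t : Γ(X, V), b = (𝒮L.str.app (op V)).hom t * (w.w V hV hT) ^ k := by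
  let s : Set Γ(X, V) := {g | Nonempty (Frame L (X.basicOpen g))}
  have hs : V ≤ ⨆ g : s, X.basicOpen g.1 := by
    intro x hx
    obtain ⟨g, hxg, hF⟩ := exists_frame_basicOpen L hL hV x hx
    exact Opens.mem_iSup.mpr ⟨⟨g, hF⟩, hxg⟩
  let μ : Γ(X, V) →+ 𝒮L.presheaf.obj (op V) :=
    (AddMonoidHom.mulRight ((w.w V hV hT) ^ k)).comp
      ((𝒮L.str.app (op V)).hom : Γ(X, V) →+* 𝒮L.presheaf.obj (op V)).toAddMonoidHom
  have key := mem_of_cover 𝒮L hV s hs μ.range ?_ b ?_
  · obtain ⟨t, ht⟩ := key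
    exact ⟨t, ht.symm⟩
  · rintro r _ ⟨t, rfl⟩
    refine ⟨r * t, ?_⟩
    show (𝒮L.str.app (op V)).hom (r * t) * (w.w V hV hT) ^ k =
      (𝒮L.str.app (op V)).hom r * ((𝒮L.str.app (op V)).hom t * (w.w V hV hT) ^ k)
    rw [map_mul, mul_assoc]
  · rintro g ⟨F⟩
    set ψ := 𝒮L.res hV (hV.basicOpen g) (X.basicOpen_le g) with hψ
    have hT' : X.basicOpen g ≤ T := (X.basicOpen_le g).trans hT
    have hgen' := PT.isGenAt_basicOpen w hV hT hgen g
    have hw : ψ (w.w V hV hT) = w.w _ (hV.basicOpen g) hT' :=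
      w.res hV (hV.basicOpen g) (X.basicOpen_le g) hT
    obtain ⟨a, ha⟩ := F.exists_eq hj (hV.basicOpen g) (w.mem _ (hV.basicOpen g) hT')
    have hu := PT.isUnit_of_isGenAt w hj (hV.basicOpen g) hT' F hgen' a ha
    obtain ⟨a', ha'⟩ := hu.exists_right_inv
    have hb' : ψ b ∈ 𝒮L.deg _ (hV.basicOpen g) (k • n) := ψ.map_mem hb
    obtain ⟨c, hc⟩ := F.exists_eq hj (hV.basicOpen g) hb'
    -- clear the denominator of the function `c * a' ^ k`
    haveI := hV.isLocalization_basicOpen g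
    obtain ⟨⟨t, ⟨_, m, rfl⟩⟩, ht⟩ := IsLocalization.surj (Submonoid.powers g) (c * a' ^ k)
    have ht' : c * a' ^ k * (X.presheaf.map (homOfLE (X.basicOpen_le g)).op).hom (g ^ m) =
        (X.presheaf.map (homOfLE (X.basicOpen_le g)).op).hom t := ht
    refine ⟨μ t, ⟨t, rfl⟩, m, ?_⟩
    show ψ ((𝒮L.str.app (op V)).hom g ^ m * b) =
      ψ ((𝒮L.str.app (op V)).hom t * (w.w V hV hT) ^ k)
    have e1 : ψ ((𝒮L.str.app (op V)).hom (g ^ m)) =
        (𝒮L.str.app (op (X.basicOpen g))).hom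
          ((X.presheaf.map (homOfLE (X.basicOpen_le g)).op).hom (g ^ m)) :=
      str_res (X.basicOpen_le g) (g ^ m)
    have e2 : ψ ((𝒮L.str.app (op V)).hom t) =
        (𝒮L.str.app (op (X.basicOpen g))).hom
          ((X.presheaf.map (homOfLE (X.basicOpen_le g)).op).hom t) :=
      str_res (X.basicOpen_le g) t
    rw [map_mul, map_mul, map_pow ψ (w.w V hV hT), hw, ha, ← map_pow, e1, e2, ← ht', hc]
    have e3 : (F.t j) ^ (k • n) = ((F.t j) ^ n) ^ k := by
      rw [smul_eq_mul, mul_comm, pow_mul]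
    rw [e3]
    simp only [map_mul, map_pow]
    have e4 : (𝒮L.str.app (op (X.basicOpen g))).hom a *
        (𝒮L.str.app (op (X.basicOpen g))).hom a' = 1 := by
      rw [← map_mul, ha', map_one]
    calc (𝒮L.str.app (op (X.basicOpen g))).hom
            ((X.presheaf.map (homOfLE (X.basicOpen_le g)).op).hom g) ^ m *
          ((𝒮L.str.app (op (X.basicOpen g))).hom c * ((F.t j) ^ n) ^ k)
        = (𝒮L.str.app (op (X.basicOpen g))).hom c *
          (𝒮L.str.app (op (X.basicOpen g))).hom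
            ((X.presheaf.map (homOfLE (X.basicOpen_le g)).op).hom g) ^ m *
          ((F.t j) ^ n) ^ k *
          ((𝒮L.str.app (op (X.basicOpen g))).hom a *
            (𝒮L.str.app (op (X.basicOpen g))).hom a') ^ k := by
          rw [e4, one_pow, mul_one]; ring
      _ = _ := by ring

end

end Groth.Agent.Helper1.IM
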