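import Mathlib

/-!
# Surjectivity and injectivity of `A_(f) → B_(θ f)` when `θ f` generates
-/

set_option autoImplicit false
set_option linter.style.haveILetI false

namespace Groth.Agent.Helper1.IM

open HomogeneousLocalization

section

variable {A B R : Type*} [CommRing A] [CommRing B] [CommRing R]
  (𝒜 : ℕ → AddSubgroup A) (ℬ : ℕ → AddSubgroup B) [GradedRing 𝒜] [GradedRing ℬ]
  (θ : 𝒜 →+*ᵍ ℬ) (σ : R →+* B)

theorem away_mk_eq_iff {d : ℕ} {g : B} (hg : g ∈ ℬ d) (k m : ℕ) (b c : B)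
    (hb : b ∈ ℬ (k • d)) (hc : c ∈ ℬ (m • d)) :
    Away.mk ℬ hg k b hb = Away.mk ℬ hg m c hc ↔ ∃ l : ℕ, g ^ l * (g ^ m * b) = g ^ l * (g ^ k * c) := by
  rw [← (HomogeneousLocalization.val_injective (Submonoid.powers g)).eq_iff, Away.val_mk, Away.val_mk,
    Localization.mk_eq_mk_iff, Localization.r_iff_exists]
  constructor
  · rintro ⟨⟨_, l, rfl⟩, h⟩
    exact ⟨l, h⟩
  · rintro ⟨l, h⟩
    exact ⟨⟨g ^ l, l, rfl⟩, h⟩

theorem away_mk_eq_zero_iff {d : ℕ} {g : B} (hg : g ∈ ℬ d) (m : ℕ) (c : B) (hc : c ∈ ℬ (m • d)) :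
    Away.mk ℬ hg m c hc = 0 ↔ ∃ l : ℕ, g ^ l * c = 0 := by
  have h0 : (0 : B) ∈ ℬ (0 • d) := zero_mem _
  have e : (0 : Away ℬ g) = Away.mk ℬ hg 0 0 h0 := by
    apply HomogeneousLocalization.val_injective
    rw [Away.val_mk, HomogeneousLocalization.val_zero, Localization.mk_zero]
  rw [e, away_mk_eq_iff ℬ hg m 0 c 0 hc h0]
  constructor
  · rintro ⟨l, hl⟩
    refine ⟨l, ?_⟩
    rw [pow_zero, one_mul, mul_zero, mul_zero] at hl
    exact hl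
  · rintro ⟨l, hl⟩
    refine ⟨l, ?_⟩
    rw [pow_zero, one_mul, mul_zero, mul_zero]
    exact hl

theorem away_map_surjective_iff (hσ : ∀ t, σ t ∈ ℬ 0) {d : ℕ} (f : A) (hf : f ∈ 𝒜 d)
    (hgen : ∀ (k : ℕ) (b : B), b ∈ ℬ (k • d) → ∃ t : R, b = σ t * (θ f) ^ k) :
    Function.Surjective (Away.map θ f) ↔
      ∀ t : R, ∃ (m : ℕ) (_ : 0 < m) (s' : A) (_ : s' ∈ 𝒜 (m * d)), σ t * (θ f) ^ m = θ s' := by
  have hθf : θ f ∈ ℬ d := θ.map_mem hf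
  constructor
  · intro hsurj t
    have h0 : σ t ∈ ℬ (0 • d) := by rw [zero_smul]; exact hσ t
    obtain ⟨y, hy⟩ := hsurj (Away.mk ℬ hθf 0 (σ t) h0)
    obtain ⟨m', a, ha, rfl⟩ := Away.mk_surjective 𝒜 hf y
    rw [Away.map_mk] at hy
    obtain ⟨l, hl⟩ := (away_mk_eq_iff ℬ hθf m' 0 (θ a) (σ t) (θ.map_mem ha) h0).mp hy
    refine ⟨m' + l + 1, Nat.succ_pos _, a * f ^ (l + 1), ?_, ?_⟩
    · have h1 : f ^ (l + 1) ∈ 𝒜 ((l + 1) • d) := SetLike.pow_mem_graded _ hf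
      have h2 := SetLike.mul_mem_graded ha h1
      have e : m' • d + (l + 1) • d = (m' + l + 1) * d := by
        simp only [smul_eq_mul]; ring
      rw [e] at h2
      exact h2
    · rw [map_mul, map_pow]
      have e1 : σ t * (θ f) ^ (m' + l + 1) = (θ f) ^ l * ((θ f) ^ m' * σ t) * θ f := by ring
      have e2 : θ a * (θ f) ^ (l + 1) = (θ f) ^ l * ((θ f) ^ 0 * θ a) * θ f := by ring
      rw [e1, e2, hl]
  · intro h x
    obtain ⟨k, b, hb, rfl⟩ := Away.mk_surjective ℬ hθf x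
    obtain ⟨t, rfl⟩ := hgen k b hb
    obtain ⟨m, -, s', hs', hm⟩ := h t
    have hs'' : s' ∈ 𝒜 (m • d) := by rw [smul_eq_mul]; exact hs'
    refine ⟨Away.mk 𝒜 hf m s' hs'', ?_⟩
    rw [Away.map_mk]
    rw [away_mk_eq_iff ℬ hθf m k (θ s') _ (θ.map_mem hs'') hb]
    refine ⟨0, ?_⟩
    rw [← hm]
    ring

theorem away_map_injective_iff {d : ℕ} (f : A) (hf : f ∈ 𝒜 d) :
    Function.Injective (Away.map θ f) ↔
      ∀ (m : ℕ) (s' : A), s' ∈ 𝒜 (m * d) → (∃ l : ℕ, (θ f) ^ l * θ s' = 0) →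
        ∃ k : ℕ, f ^ k * s' = 0 := by
  have hθf : θ f ∈ ℬ d := θ.map_mem hf
  rw [injective_iff_map_eq_zero]
  constructor
  · intro h m s' hs' hl
    have hs'' : s' ∈ 𝒜 (m • d) := by rw [smul_eq_mul]; exact hs'
    have h1 : Away.map θ f (Away.mk 𝒜 hf m s' hs'') = 0 := by
      rw [Away.map_mk, away_mk_eq_zero_iff ℬ hθf m (θ s') (θ.map_mem hs'')]
      exact hl
    exact (away_mk_eq_zero_iff 𝒜 hf m s' hs'').mp (h _ h1)
  · intro h x hx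
    obtain ⟨m, a, ha, rfl⟩ := Away.mk_surjective 𝒜 hf x
    rw [Away.map_mk, away_mk_eq_zero_iff ℬ hθf m (θ a) (θ.map_mem ha)] at hx
    rw [away_mk_eq_zero_iff 𝒜 hf m a ha]
    have ha' : a ∈ 𝒜 (m * d) := by rw [← smul_eq_mul]; exact ha
    exact h m a ha' hx

end

end Groth.Agent.Helper1.IM
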