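import Mathlib
import Groth.Agent.Helper1.PT7
import Groth.Agent.Helper1.RP23

/-!
# `G(ψ)`, preimages of `D_+(f)` and dominance for `r_{L,ψ}` over a general base
-/

set_option autoImplicit false
set_option linter.style.haveILetI false

namespace Groth.Agent.Helper1.PT

open CategoryTheory Limits AlgebraicGeometry TopologicalSpace Opposite RelSpec RelProj
  HomogeneousLocalization
open Groth.Agent.Helper1.RP Groth.Agent.Helper1.PL
open scoped HomogeneousIdeal

universe u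

noncomputable section

variable {X Y : Scheme.{u}} {q : X ⟶ Y} {𝒮 : QCGrAlg Y} {𝒮L : QCGrAlg X}
  (u : QGrHom q 𝒮 𝒮L)

/-- the family of sections of `𝒮L` over `q⁻¹ U` attached to a homogeneous section of `𝒮` over
the affine open `U` -/
def famOf (U : Y.Opens) (hU : IsAffineOpen U) {n : ℕ} (s : 𝒮.presheaf.obj (op U))
    (hs : s ∈ 𝒮.deg U hU n) : Fam 𝒮L (q ⁻¹ᵁ U) n where
  w V _ hT := (u.appLE U V hT).hom s
  mem V hV hT := u.map_mem U hU V hV hT hs
  res {V V'} _ _ i hT := by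
    have h := u.toQHom.appLE_map hT i
    exact congrArg (fun t => t.hom s) h

variable {P : Scheme.{u}} {p : P ⟶ Y}
  {chart : ∀ (U : Y.Opens) (hU : IsAffineOpen U),
    (((p ⁻¹ᵁ U : P.Opens) : Scheme.{u}) ≅ Proj (𝒮.deg U hU))}
  {PL : Scheme.{u}} {pL : PL ⟶ X}
  {chartL : ∀ (U : X.Opens) (hU : IsAffineOpen U),
    (((pL ⁻¹ᵁ U : PL.Opens) : Scheme.{u}) ≅ Proj (𝒮L.deg U hU))}

theorem piece_famOf_le_domPiece (U : Y.Opens) (hU : IsAffineOpen U) {n : ℕ} (hn : 0 < n)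
    (s : 𝒮.presheaf.obj (op U)) (hs : s ∈ 𝒮.deg U hU n) (V : X.Opens) (hV : IsAffineOpen V)
    (hT : V ≤ q ⁻¹ᵁ U) :
    piece (famOf u U hU s hs) pL chartL V hV hT ≤ domPiece u pL chartL U hU V hV hT := by
  rintro _ ⟨y, hy, rfl⟩
  refine ⟨y, ?_, rfl⟩
  show y ∈ RelCone.domOpen (u.gradedAt U hU V hV hT)
  rw [mem_domOpen_iff_homog]
  exact ⟨n, hn, s, hs, hy⟩

theorem locus_famOf_le_domQ (U : Y.Opens) (hU : IsAffineOpen U) {n : ℕ} (hn : 0 < n)
    (s : 𝒮.presheaf.obj (op U)) (hs : s ∈ 𝒮.deg U hU n) :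
    locus (famOf u U hU s hs) pL chartL ≤ domQ u pL chartL := by
  apply iSup_le
  intro V
  exact (piece_famOf_le_domPiece u U hU hn s hs V.1.1 V.1.2 V.2).trans
    (domPiece_le_domQ u pL chartL U hU V.1.1 V.1.2 V.2)

/-- a point of `Proj 𝒮L` is in `G(ψ)` iff some local homogeneous section of positive degree
does not vanish there -/
theorem mem_domQ_iff_locus (z : PL) :
    z ∈ domQ u pL chartL ↔ ∃ (U : Y.Opens) (hU : IsAffineOpen U) (n : ℕ) (_ : 0 < n)
      (s : 𝒮.presheaf.obj (op U)) (hs : s ∈ 𝒮.deg U hU n),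
      z ∈ locus (famOf u U hU s hs) pL chartL := by
  constructor
  · intro hz
    obtain ⟨U, hU, V, hV, hle, h1⟩ := (mem_domQ_iff u pL chartL z).1 hz
    obtain ⟨y, hy, rfl⟩ := h1
    have hy' : y ∈ RelCone.domOpen (u.gradedAt U hU V hV hle) := hy
    rw [mem_domOpen_iff_homog] at hy'
    obtain ⟨n, hn, s, hs, hys⟩ := hy'
    exact ⟨U, hU, n, hn, s, hs, piece_le_locus _ pL chartL V hV hle ⟨y, hys, rfl⟩⟩
  · rintro ⟨U, hU, n, hn, s, hs, hz⟩
    exact locus_famOf_le_domQ u U hU hn s hs hz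

/-- the preimage of `D_+(f)` under `Proj(u)`, as an open of `Proj 𝒮L`, is the non-vanishing
locus of `u f` -/
theorem image_preimage_basicOpen (hP : IsRelProj 𝒮 p chart) (hPL : IsRelProj 𝒮L pL chartL)
    {r : ((domQ u pL chartL : PL.Opens) : Scheme.{u}) ⟶ P}
    (hr : IsProjQMapOn u p chart pL chartL (domQ u pL chartL) r)
    (U : Y.Opens) (hU : IsAffineOpen U)
    {d : ℕ} (hd : 0 < d) (f : 𝒮.presheaf.obj (op U)) (hf : f ∈ 𝒮.deg U hU d) :
    (domQ u pL chartL).ι ''ᵁ (r ⁻¹ᵁ ((emb p chart U hU) ''ᵁ Proj.basicOpen (𝒮.deg U hU) f)) =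
      locus (famOf u U hU f hf) pL chartL := by
  have hrange : (Proj.awayι (𝒮.deg U hU) f hf hd ≫ emb p chart U hU).opensRange =
      emb p chart U hU ''ᵁ Proj.basicOpen (𝒮.deg U hU) f := by
    rw [Scheme.Hom.opensRange_comp, Proj.opensRange_awayι]
  have key : ∀ (z : PL) (V : X.Opens) (hV : IsAffineOpen V) (hT : V ≤ q ⁻¹ᵁ U), pL z ∈ V →
      (z ∈ (domQ u pL chartL).ι ''ᵁ
          (r ⁻¹ᵁ ((emb p chart U hU) ''ᵁ Proj.basicOpen (𝒮.deg U hU) f)) ↔
        z ∈ locus (famOf u U hU f hf) pL chartL) := by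
    intro z V hV hT hzV
    have hpre := projQMapOn_preimage hPL hr U hU V hV hT hd f hf
    constructor
    · rintro ⟨x, hx, rfl⟩
      have hx' : x ∈ r ⁻¹ᵁ (Proj.awayι (𝒮.deg U hU) f hf hd ≫ emb p chart U hU).opensRange ⊓
          (domQ u pL chartL).ι ⁻¹ᵁ (pL ⁻¹ᵁ V) := ⟨by rw [hrange]; exact hx, hzV⟩
      rw [hpre] at hx'
      obtain ⟨y, rfl⟩ := hx'
      have hι := liftEmb_apply_ι (u := u) (p' := pL) (chart' := chartL) U hU V hV hT hd f hf y
      refine piece_le_locus _ pL chartL V hV hT ⟨_, ?_, hι.symm⟩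
      show _ ∈ Proj.basicOpen (𝒮L.deg V hV) (u.gradedAt U hU V hV hT f)
      have h5 : (Proj.awayι (𝒮L.deg V hV) (u.gradedAt U hU V hV hT f)
          ((u.gradedAt U hU V hV hT).map_mem hf) hd) y ∈
          (Proj.awayι (𝒮L.deg V hV) (u.gradedAt U hU V hV hT f)
          ((u.gradedAt U hU V hV hT).map_mem hf) hd).opensRange := ⟨y, rfl⟩
      rw [Proj.opensRange_awayι] at h5
      exact h5
    · intro hz
      have h1 : z ∈ piece (famOf u U hU f hf) pL chartL V hV hT := by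
        rw [← locus_inf_preimage _ hPL V hV hT]; exact ⟨hz, hzV⟩
      obtain ⟨y', hy', rfl⟩ := h1
      have hy'' : y' ∈ (Proj.awayι (𝒮L.deg V hV) (u.gradedAt U hU V hV hT f)
          ((u.gradedAt U hU V hV hT).map_mem hf) hd).opensRange := by
        rw [Proj.opensRange_awayι]; exact hy'
      obtain ⟨y, rfl⟩ := hy''
      refine ⟨liftEmb u pL chartL U hU V hV hT hd f hf y, ?_,
        liftEmb_apply_ι (u := u) (p' := pL) (chart' := chartL) U hU V hV hT hd f hf y⟩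
      have h2 : liftEmb u pL chartL U hU V hV hT hd f hf y ∈
          (liftEmb u pL chartL U hU V hV hT hd f hf).opensRange := ⟨y, rfl⟩
      rw [← hpre] at h2
      have h3 := h2.1
      rw [hrange] at h3
      exact h3
  ext z
  constructor
  · intro hz
    have hzT : pL z ∈ q ⁻¹ᵁ U := by
      obtain ⟨x, hx, rfl⟩ := hz
      obtain ⟨y, -, hy⟩ := hx
      have h1 : p (r x) ∈ U := by
        have : (emb p chart U hU) y = r x := hy
        rw [← this]
        exact emb_mem p chart U hU y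
      have h2 := congrArg (fun φ : ((domQ u pL chartL : PL.Opens) : Scheme.{u}) ⟶ Y => φ x)
        (projQMapOn_comm hP hPL hr)
      simp only [Scheme.Hom.comp_apply] at h2
      show q (pL ((domQ u pL chartL).ι x)) ∈ U
      rw [← h2]
      exact h1
    obtain ⟨_, ⟨V, hV, rfl⟩, hzV, hVT⟩ :=
      X.isBasis_affineOpens.exists_subset_of_mem_open hzT (q ⁻¹ᵁ U).2
    exact (key z V hV hVT hzV).mp hz
  · intro hz
    obtain ⟨V, hV⟩ := Opens.mem_iSup.mp hz
    exact (key z V.1.1 V.1.2 V.2 (piece_le_preimage _ pL chartL V.1.1 V.1.2 V.2 hV)).mpr hz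

/-- `r_{L,ψ}` is dominant iff every non-empty `D_+(f)` has non-empty preimage -/
theorem isDominant_iff_locus (hP : IsRelProj 𝒮 p chart) (hPL : IsRelProj 𝒮L pL chartL)
    {r : ((domQ u pL chartL : PL.Opens) : Scheme.{u}) ⟶ P}
    (hr : IsProjQMapOn u p chart pL chartL (domQ u pL chartL) r) :
    IsDominant r ↔ ∀ (U : Y.Opens) (hU : IsAffineOpen U) (d : ℕ) (_ : 0 < d)
      (f : 𝒮.presheaf.obj (op U)) (hf : f ∈ 𝒮.deg U hU d),
      (∃ y : Proj (𝒮.deg U hU), y ∈ Proj.basicOpen (𝒮.deg U hU) f) →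
        ∃ z : PL, z ∈ locus (famOf u U hU f hf) pL chartL := by
  constructor
  · intro hdom U hU d hd f hf ⟨y, hy⟩
    have hdense : DenseRange r := hdom.denseRange
    have hW : ((emb p chart U hU ''ᵁ Proj.basicOpen (𝒮.deg U hU) f : P.Opens) : Set P).Nonempty :=
      ⟨emb p chart U hU y, y, hy, rfl⟩
    obtain ⟨_, hxW, x, rfl⟩ := hdense.inter_open_nonempty _
      (emb p chart U hU ''ᵁ Proj.basicOpen (𝒮.deg U hU) f).2 hW
    refine ⟨(domQ u pL chartL).ι x, ?_⟩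
    rw [← image_preimage_basicOpen u hP hPL hr U hU hd f hf]
    exact ⟨x, hxW, rfl⟩
  · intro h
    refine ⟨?_⟩
    rw [DenseRange, dense_iff_inter_open]
    intro W hW ⟨pt, hpt⟩
    obtain ⟨_, ⟨U, hU, rfl⟩, hptU, -⟩ :=
      Y.isBasis_affineOpens.exists_subset_of_mem_open (Set.mem_univ (p pt)) isOpen_univ
    replace hU : IsAffineOpen U := hU
    have hpt' : pt ∈ (emb p chart U hU).opensRange := by
      rw [opensRange_emb]; exact hptU
    obtain ⟨y₀, rfl⟩ := hpt'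
    let W' : (Proj (𝒮.deg U hU)).Opens := emb p chart U hU ⁻¹ᵁ ⟨W, hW⟩
    obtain ⟨d, hd, f, hf, hy₀f, hfW⟩ := exists_homog_basicOpen_le (𝒮.deg U hU) W' y₀ hpt
    obtain ⟨z, hz⟩ := h U hU d hd f hf ⟨y₀, hy₀f⟩
    rw [← image_preimage_basicOpen u hP hPL hr U hU hd f hf] at hz
    obtain ⟨x, hx, -⟩ := hz
    obtain ⟨y, hy, hyx⟩ := hx
    refine ⟨r x, ?_, x, rfl⟩
    have hyx' : (emb p chart U hU) y = r x := hyx
    rw [← hyx']
    exact hfW hy

end

end Groth.Agent.Helper1.PT
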