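import Mathlib
import Groth.Agent.Helper1.IM2
import Groth.Agent.Helper1.IM3
import Groth.Agent.Helper1.IM4
import Groth.Agent.Helper1.PT8
import Groth.Agent.Helper1.PL3

/-!
# Chart squares of `r_{L,ψ}` over the opens `X_f`
-/

set_option autoImplicit false
set_option linter.style.haveILetI false

namespace Groth.Agent.Helper1.IM

open CategoryTheory Limits AlgebraicGeometry TopologicalSpace Opposite RelSpec RelProj
  HomogeneousLocalization
open Groth.Agent.Helper1.RP Groth.Agent.Helper1.PL Groth.Agent.Helper1.PT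
open scoped HomogeneousIdeal

universe u

theorem isClosedImmersion_specMap_iff {R S : CommRingCat.{u}} (φ : R ⟶ S) :
    IsClosedImmersion (Spec.map φ) ↔ Function.Surjective φ.hom := by
  constructor
  · intro h
    have h1 := ((HasAffineProperty.iff_of_isAffine (P := @IsClosedImmersion)).mp h).2
    have h2 := Scheme.ΓSpecIso_naturality φ
    have h3 : φ = (Scheme.ΓSpecIso R).inv ≫ (Spec.map φ).appTop ≫ (Scheme.ΓSpecIso S).hom := by
      rw [h2, Iso.inv_hom_id_assoc]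
    rw [h3]
    intro s
    obtain ⟨t, ht⟩ := h1 ((Scheme.ΓSpecIso S).inv.hom s)
    refine ⟨(Scheme.ΓSpecIso R).hom.hom t, ?_⟩
    simp only [CommRingCat.hom_comp, RingHom.coe_comp, Function.comp_apply]
    have e1 : (Scheme.ΓSpecIso R).inv.hom ((Scheme.ΓSpecIso R).hom.hom t) = t := by
      have := congrArg (fun ψ => ψ.hom t) (Scheme.ΓSpecIso R).hom_inv_id
      exact this
    rw [e1, ht]
    have := congrArg (fun ψ => ψ.hom s) (Scheme.ΓSpecIso S).inv_hom_id
    exact this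
  · intro h
    exact IsClosedImmersion.spec_of_surjective φ h

noncomputable section

variable {X Y : Scheme.{u}} {q : X ⟶ Y} {𝒮 : QCGrAlg Y} {𝒮L : QCGrAlg X}
  (u : QGrHom q 𝒮 𝒮L)

/-- the statement form of `X_f` over an affine base -/
theorem Xw_famOf_top (hY : IsAffineOpen (⊤ : Y.Opens)) {n : ℕ} (s : 𝒮.presheaf.obj (op ⊤))
    (hs : s ∈ 𝒮.deg ⊤ hY n) :
    PT.Xw (PT.famOf u ⊤ hY s hs) =
      (⨆ V : {V : X.affineOpens //
          ((𝒮L.deg V.1 V.2 n : AddSubgroup (𝒮L.presheaf.obj (op (V.1 : X.Opens)))) :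
            Set (𝒮L.presheaf.obj (op (V.1 : X.Opens)))) ⊆
            (Ideal.span {(u.appLE ⊤ (V.1 : X.Opens)
              (le_top.trans (Scheme.Hom.preimage_top q).ge)).hom s} :
              Set (𝒮L.presheaf.obj (op (V.1 : X.Opens))))},
          (V.1.1 : X.Opens)) := by
  apply le_antisymm
  · apply iSup_le
    intro V
    exact le_iSup_of_le ⟨V.1.1, fun b hb => V.2 b hb⟩ le_rfl
  · apply iSup_le
    intro V
    exact le_iSup_of_le ⟨⟨V.1, le_top.trans (Scheme.Hom.preimage_top q).ge⟩,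
      fun b hb => V.2 hb⟩ le_rfl

variable {P : Scheme.{u}} {p : P ⟶ Y}
  {chart : ∀ (U : Y.Opens) (hU : IsAffineOpen U),
    (((p ⁻¹ᵁ U : P.Opens) : Scheme.{u}) ≅ Proj (𝒮.deg U hU))}
  {PL : Scheme.{u}} {pL : PL ⟶ X}
  {chartL : ∀ (U : X.Opens) (hU : IsAffineOpen U),
    (((pL ⁻¹ᵁ U : PL.Opens) : Scheme.{u}) ≅ Proj (𝒮L.deg U hU))}
  {L : X.Modules} [L.IsQuasicoherent] {j : L ⟶ 𝒮L.toModule} (hj : IsGrSymAlg L 𝒮L j)

theorem opensRange_chartP (U : Y.Opens) (hU : IsAffineOpen U) {d : ℕ} (hd : 0 < d)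
    (f : 𝒮.presheaf.obj (op U)) (hf : f ∈ 𝒮.deg U hU d) :
    (Proj.awayι (𝒮.deg U hU) f hf hd ≫ emb p chart U hU).opensRange =
      emb p chart U hU ''ᵁ Proj.basicOpen (𝒮.deg U hU) f := by
  rw [Scheme.Hom.opensRange_comp, Proj.opensRange_awayι]

include hj in
/-- the inverse image of the chart `D_+(f)` is the chart of `G(ψ)` over `X_f`, when the latter
is affine -/
theorem preimage_chart (hL : PicF.IsInvertible L) (hP : IsRelProj 𝒮 p chart)
    (hPL : IsRelProj 𝒮L pL chartL)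
    {r : ((domQ u pL chartL : PL.Opens) : Scheme.{u}) ⟶ P}
    (hr : IsProjQMapOn u p chart pL chartL (domQ u pL chartL) r)
    (U : Y.Opens) (hU : IsAffineOpen U) {d : ℕ} (hd : 0 < d)
    (f : 𝒮.presheaf.obj (op U)) (hf : f ∈ 𝒮.deg U hU d)
    (V : X.Opens) (hV : IsAffineOpen V) (hT : V ≤ q ⁻¹ᵁ U)
    (hXw : PT.Xw (PT.famOf u U hU f hf) = V) :
    r ⁻¹ᵁ (Proj.awayι (𝒮.deg U hU) f hf hd ≫ emb p chart U hU).opensRange =
      (liftEmb u pL chartL U hU V hV hT hd f hf).opensRange := by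
  rw [← projQMapOn_preimage hPL hr U hU V hV hT hd f hf]
  refine (inf_eq_left.mpr ?_).symm
  intro x hx
  have h1 : (domQ u pL chartL).ι x ∈ (domQ u pL chartL).ι ''ᵁ
      (r ⁻¹ᵁ ((emb p chart U hU) ''ᵁ Proj.basicOpen (𝒮.deg U hU) f)) := by
    refine ⟨x, ?_, rfl⟩
    rw [← opensRange_chartP U hU hd f hf]
    exact hx
  rw [PT.image_preimage_basicOpen u hP hPL hr U hU hd f hf,
    PT.locus_eq_preimage _ hj hL hPL hd, hXw] at h1
  exact h1

include hj in
/-- `X_f` is affine as soon as the inverse image of `D_+(f)` is -/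
theorem isAffineOpen_Xw (hL : PicF.IsInvertible L) (hP : IsRelProj 𝒮 p chart)
    (hPL : IsRelProj 𝒮L pL chartL)
    {r : ((domQ u pL chartL : PL.Opens) : Scheme.{u}) ⟶ P}
    (hr : IsProjQMapOn u p chart pL chartL (domQ u pL chartL) r)
    (U : Y.Opens) (hU : IsAffineOpen U) {d : ℕ} (hd : 0 < d)
    (f : 𝒮.presheaf.obj (op U)) (hf : f ∈ 𝒮.deg U hU d)
    (haff : IsAffineOpen
      (r ⁻¹ᵁ (Proj.awayι (𝒮.deg U hU) f hf hd ≫ emb p chart U hU).opensRange)) :
    IsAffineOpen (PT.Xw (PT.famOf u U hU f hf)) := by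
  haveI : IsIso pL := isIso_relProj_of_isInvertible hL hj pL chartL hPL
  rw [opensRange_chartP U hU hd f hf] at haff
  have h1 := haff.image_of_isOpenImmersion (domQ u pL chartL).ι
  rw [PT.image_preimage_basicOpen u hP hPL hr U hU hd f hf,
    PT.locus_eq_preimage _ hj hL hPL hd] at h1
  have h2 := h1.image_of_isOpenImmersion pL
  rw [pL.image_preimage_eq_opensRange_inf] at h2
  have h3 : pL.opensRange = ⊤ := by
    ext x
    simp only [Opens.coe_top, Set.mem_univ, iff_true]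
    exact ⟨(inv pL) x, by rw [← Scheme.Hom.comp_apply, IsIso.inv_hom_id]; rfl⟩
  rwa [h3, top_inf_eq] at h2

include hj in
/-- the surjectivity criterion on the chart over `X_f` -/
theorem away_surjective_iff (hL : PicF.IsInvertible L)
    (U : Y.Opens) (hU : IsAffineOpen U) {d : ℕ}
    (f : 𝒮.presheaf.obj (op U)) (hf : f ∈ 𝒮.deg U hU d)
    (V : X.Opens) (hV : IsAffineOpen V) (hT : V ≤ q ⁻¹ᵁ U)
    (hgen : PT.IsGenAt (PT.famOf u U hU f hf) V hV hT) :
    Function.Surjective (Away.map (u.gradedAt U hU V hV hT) f) ↔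
      ∀ t : Γ(X, V), ∃ (m : ℕ) (_ : 0 < m) (s' : 𝒮.presheaf.obj (op U))
        (_ : s' ∈ 𝒮.deg U hU (m * d)),
        (𝒮L.str.app (op V)).hom t * ((u.appLE U V hT).hom f) ^ m = (u.appLE U V hT).hom s' := by
  exact away_map_surjective_iff (𝒮.deg U hU) (𝒮L.deg V hV) (u.gradedAt U hU V hV hT)
    (𝒮L.str.app (op V)).hom (𝒮L.str_mem V hV) f hf
    (fun k b hb => exists_eq_mul_pow (PT.famOf u U hU f hf) hj hL hV hT hgen k b hb)

end

end Groth.Agent.Helper1.IM
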