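import Mathlib
import Groth.Agent.Helper1.IM5

/-!
# `G(ψ) = X` and covering families
-/

set_option autoImplicit false
set_option linter.style.haveILetI false

namespace Groth.Agent.Helper1.IM

open CategoryTheory Limits AlgebraicGeometry TopologicalSpace Opposite RelSpec RelProj
  HomogeneousLocalization
open Groth.Agent.Helper1.RP Groth.Agent.Helper1.PL Groth.Agent.Helper1.PT
open scoped HomogeneousIdeal

universe u

noncomputable section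

variable {X Y : Scheme.{u}} {q : X ⟶ Y} {𝒮 : QCGrAlg Y} {𝒮L : QCGrAlg X}
  (u : QGrHom q 𝒮 𝒮L)
  {P : Scheme.{u}} {p : P ⟶ Y}
  {chart : ∀ (U : Y.Opens) (hU : IsAffineOpen U),
    (((p ⁻¹ᵁ U : P.Opens) : Scheme.{u}) ≅ Proj (𝒮.deg U hU))}
  {PL : Scheme.{u}} {pL : PL ⟶ X}
  {chartL : ∀ (U : X.Opens) (hU : IsAffineOpen U),
    (((pL ⁻¹ᵁ U : PL.Opens) : Scheme.{u}) ≅ Proj (𝒮L.deg U hU))}
  {L : X.Modules} [L.IsQuasicoherent] {j : L ⟶ 𝒮L.toModule} (hj : IsGrSymAlg L 𝒮L j)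

include hj in
/-- if the opens `X_f` cover `X` then `r_{L,ψ}` is everywhere defined -/
theorem domQ_eq_top_of_cover (hL : PicF.IsInvertible L) (hPL : IsRelProj 𝒮L pL chartL)
    (h : ∀ x : X, ∃ (U : Y.Opens) (hU : IsAffineOpen U) (n : ℕ) (_ : 0 < n)
      (s : 𝒮.presheaf.obj (op U)) (hs : s ∈ 𝒮.deg U hU n), x ∈ PT.Xw (PT.famOf u U hU s hs)) :
    domQ u pL chartL = ⊤ := by
  apply top_le_iff.mp
  intro z _
  obtain ⟨U, hU, n, hn, s, hs, hx⟩ := h (pL z)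
  apply PT.locus_famOf_le_domQ u U hU hn s hs
  rw [PT.locus_eq_preimage _ hj hL hPL hn]
  exact hx

include hj in
/-- if `r_{L,ψ}` is everywhere defined with image in the open `C`, the `X_f` with
`D_+(f) ⊆ C` cover `X` (affine base) -/
theorem exists_mem_Xw (hL : PicF.IsInvertible L) (hP : IsRelProj 𝒮 p chart)
    (hPL : IsRelProj 𝒮L pL chartL)
    {r : ((domQ u pL chartL : PL.Opens) : Scheme.{u}) ⟶ P}
    (hr : IsProjQMapOn u p chart pL chartL (domQ u pL chartL) r)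
    (hdom : domQ u pL chartL = ⊤) (hY : IsAffineOpen (⊤ : Y.Opens)) (C : P.Opens)
    (hC : ∀ z, r z ∈ C) (x : X) :
    ∃ (n : ℕ) (_ : 0 < n) (s : 𝒮.presheaf.obj (op ⊤)) (hs : s ∈ 𝒮.deg ⊤ hY n),
      emb p chart ⊤ hY ''ᵁ Proj.basicOpen (𝒮.deg ⊤ hY) s ≤ C ∧
        x ∈ PT.Xw (PT.famOf u ⊤ hY s hs) := by
  haveI : IsIso pL := isIso_relProj_of_isInvertible hL hj pL chartL hPL
  let z₀ : PL := (inv pL) x
  have hz₀x : pL z₀ = x := by
    show pL ((inv pL) x) = x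
    rw [← Scheme.Hom.comp_apply, IsIso.inv_hom_id]
    rfl
  have hz₀ : z₀ ∈ domQ u pL chartL := by rw [hdom]; trivial
  let z : ((domQ u pL chartL : PL.Opens) : Scheme.{u}) := ⟨z₀, hz₀⟩
  have hrz : r z ∈ (emb p chart ⊤ hY).opensRange := by
    rw [opensRange_emb]; trivial
  obtain ⟨y, hy⟩ := hrz
  let W' : (Proj (𝒮.deg ⊤ hY)).Opens := emb p chart ⊤ hY ⁻¹ᵁ C
  have hyW : y ∈ W' := by
    show (emb p chart ⊤ hY) y ∈ C
    rw [hy]; exact hC z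
  obtain ⟨d, hd, f, hf, hyf, hfW⟩ := exists_homog_basicOpen_le (𝒮.deg ⊤ hY) W' y hyW
  refine ⟨d, hd, f, hf, ?_, ?_⟩
  · rintro _ ⟨y', hy', rfl⟩
    exact hfW hy'
  · have h1 : (domQ u pL chartL).ι z ∈ (domQ u pL chartL).ι ''ᵁ
        (r ⁻¹ᵁ ((emb p chart ⊤ hY) ''ᵁ Proj.basicOpen (𝒮.deg ⊤ hY) f)) :=
      ⟨z, ⟨y, hyf, hy⟩, rfl⟩
    rw [PT.image_preimage_basicOpen u hP hPL hr ⊤ hY hd f hf,
      PT.locus_eq_preimage _ hj hL hPL hd] at h1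
    have h2 : pL z₀ ∈ PT.Xw (PT.famOf u ⊤ hY f hf) := h1
    rw [hz₀x] at h2
    exact h2

end

end Groth.Agent.Helper1.IM
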