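import Mathlib
import Groth.Agent.Helper1.IM6

/-!
# Points of the chart of `G(ψ)` over `X_f`
-/

set_option autoImplicit false
set_option linter.style.haveILetI false

namespace Groth.Agent.Helper1.IM

open CategoryTheory Limits AlgebraicGeometry TopologicalSpace Opposite RelSpec RelProj
  HomogeneousLocalization
open Groth.Agent.Helper1.RP Groth.Agent.Helper1.PL Groth.Agent.Helper1.PT
open scoped HomogeneousIdeal

universe u

noncomputable section

variable {X Y : Scheme.{u}} {q : X ⟶ Y} {𝒮 : QCGrAlg Y} {𝒮L : QCGrAlg X}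
  (u : QGrHom q 𝒮 𝒮L)
  {P : Scheme.{u}} {p : P ⟶ Y}
  {chart : ∀ (U : Y.Opens) (hU : IsAffineOpen U),
    (((p ⁻¹ᵁ U : P.Opens) : Scheme.{u}) ≅ Proj (𝒮.deg U hU))}
  {PL : Scheme.{u}} {pL : PL ⟶ X}
  {chartL : ∀ (U : X.Opens) (hU : IsAffineOpen U),
    (((pL ⁻¹ᵁ U : PL.Opens) : Scheme.{u}) ≅ Proj (𝒮L.deg U hU))}
  {L : X.Modules} [L.IsQuasicoherent] {j : L ⟶ 𝒮L.toModule} (hj : IsGrSymAlg L 𝒮L j)

include hj in
theorem mem_opensRange_liftEmb (hL : PicF.IsInvertible L) (hP : IsRelProj 𝒮 p chart)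
    (hPL : IsRelProj 𝒮L pL chartL)
    {r : ((domQ u pL chartL : PL.Opens) : Scheme.{u}) ⟶ P}
    (hr : IsProjQMapOn u p chart pL chartL (domQ u pL chartL) r)
    (U : Y.Opens) (hU : IsAffineOpen U) {d : ℕ} (hd : 0 < d)
    (f : 𝒮.presheaf.obj (op U)) (hf : f ∈ 𝒮.deg U hU d)
    (V : X.Opens) (hV : IsAffineOpen V) (hT : V ≤ q ⁻¹ᵁ U)
    (hXw : PT.Xw (PT.famOf u U hU f hf) = V)
    (x : ((domQ u pL chartL : PL.Opens) : Scheme.{u})) (hx : pL ((domQ u pL chartL).ι x) ∈ V) :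
    x ∈ (liftEmb u pL chartL U hU V hV hT hd f hf).opensRange := by
  rw [← preimage_chart u hj hL hP hPL hr U hU hd f hf V hV hT hXw]
  have h1 : (domQ u pL chartL).ι x ∈ PT.locus (PT.famOf u U hU f hf) pL chartL := by
    rw [PT.locus_eq_preimage _ hj hL hPL hd, hXw]; exact hx
  rw [← PT.image_preimage_basicOpen u hP hPL hr U hU hd f hf] at h1
  obtain ⟨x', hx', e⟩ := h1
  have e' : x' = x := (domQ u pL chartL).ι.injective e
  subst e'
  rw [opensRange_chartP U hU hd f hf]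
  exact hx'

end

end Groth.Agent.Helper1.IM
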