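import Mathlib
import Groth.Agent.Helper1.PT8

/-!
# Composition of `r_{L,ψ}` with a graded homomorphism `v : 𝒯 → 𝒮`
-/

set_option autoImplicit false
set_option linter.style.haveILetI false

namespace Groth.Agent.Helper1.PT

open CategoryTheory Limits AlgebraicGeometry TopologicalSpace Opposite RelSpec RelProj
  HomogeneousLocalization
open Groth.Agent.Helper1.RP Groth.Agent.Helper1.PL
open scoped HomogeneousIdeal

universe u

noncomputable section

variable {X : Scheme.{u}} {𝒮L : QCGrAlg X} {T : X.Opens}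
  {PL : Scheme.{u}} (pL : PL ⟶ X)
  (chartL : ∀ (U : X.Opens) (hU : IsAffineOpen U),
    (((pL ⁻¹ᵁ U : PL.Opens) : Scheme.{u}) ≅ Proj (𝒮L.deg U hU)))

/-- a family and a positive power of it have the same non-vanishing locus -/
theorem locus_eq_of_pow {n n' : ℕ} (w : Fam 𝒮L T n) (w' : Fam 𝒮L T n') (k : ℕ) (hk : 0 < k)
    (h : ∀ (V : X.Opens) (hV : IsAffineOpen V) (hT : V ≤ T), w'.w V hV hT = (w.w V hV hT) ^ k) :
    locus w' pL chartL = locus w pL chartL := by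
  unfold locus
  congr 1
  funext V
  unfold piece
  rw [h V.1.1 V.1.2 V.2, Proj.basicOpen_pow _ _ k hk]

variable {Y : Scheme.{u}} {q : X ⟶ Y} {𝒮 𝒯 : QCGrAlg Y} {𝒮L : QCGrAlg X}
  (u : QGrHom q 𝒮 𝒮L) (v : 𝒯.toQCAlg ⟶ 𝒮.toQCAlg)
  (u' : QGrHom q 𝒯 𝒮L) (hu' : ∀ U : Y.Opens, u'.app U = v.hom.app (op U) ≫ u.app U)
  {PL : Scheme.{u}} (pL : PL ⟶ X)
  (chartL : ∀ (U : X.Opens) (hU : IsAffineOpen U),
    (((pL ⁻¹ᵁ U : PL.Opens) : Scheme.{u}) ≅ Proj (𝒮L.deg U hU)))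

include hu' in
theorem appLE_comp (U : Y.Opens) (V : X.Opens) (hT : V ≤ q ⁻¹ᵁ U) (g : 𝒯.presheaf.obj (op U)) :
    (u'.appLE U V hT).hom g = (u.appLE U V hT).hom ((v.hom.app (op U)).hom g) := by
  unfold QHom.appLE
  rw [hu' U]
  rfl

include hu' in
/-- the locus of `u' g` is the locus of `u f` when `v g = f ^ k` -/
theorem locus_famOf_comp (U : Y.Opens) (hU : IsAffineOpen U) {d m : ℕ}
    (f : 𝒮.presheaf.obj (op U)) (hf : f ∈ 𝒮.deg U hU d)
    (g : 𝒯.presheaf.obj (op U)) (hg : g ∈ 𝒯.deg U hU m) (k : ℕ) (hk : 0 < k)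
    (hgf : (v.hom.app (op U)).hom g = f ^ k) :
    locus (famOf u' U hU g hg) pL chartL = locus (famOf u U hU f hf) pL chartL := by
  apply locus_eq_of_pow pL chartL _ _ k hk
  intro V hV hT
  show (u'.appLE U V hT).hom g = ((u.appLE U V hT).hom f) ^ k
  rw [appLE_comp u v u' hu' U V hT g, hgf, map_pow]

end

end Groth.Agent.Helper1.PT
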