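import Mathlib
import Groth.Agent.Helper1.PT9

/-!
# Monotonicity of `G(ψ)` and filtered colimits
-/

set_option autoImplicit false
set_option linter.style.haveILetI false

namespace Groth.Agent.Helper1.PT

open CategoryTheory Limits AlgebraicGeometry TopologicalSpace Opposite RelSpec RelProj
  HomogeneousLocalization
open Groth.Agent.Helper1.RP Groth.Agent.Helper1.PL
open scoped HomogeneousIdeal

universe u

noncomputable section

variable {X Y : Scheme.{u}} {q : X ⟶ Y} {𝒮 𝒯 : QCGrAlg Y} {𝒮L : QCGrAlg X}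
  (u : QGrHom q 𝒮 𝒮L) (v : 𝒯.toQCAlg ⟶ 𝒮.toQCAlg) (hv : IsGradedHom v)
  (u' : QGrHom q 𝒯 𝒮L) (hu' : ∀ U : Y.Opens, u'.app U = v.hom.app (op U) ≫ u.app U)
  {PL : Scheme.{u}} (pL : PL ⟶ X)
  (chartL : ∀ (U : X.Opens) (hU : IsAffineOpen U),
    (((pL ⁻¹ᵁ U : PL.Opens) : Scheme.{u}) ≅ Proj (𝒮L.deg U hU)))

include hv hu' in
/-- `G(ψ ∘ v) ⊆ G(ψ)` -/
theorem domQ_comp_le : domQ u' pL chartL ≤ domQ u pL chartL := by
  intro z hz
  obtain ⟨U, hU, n, hn, g, hg, hzl⟩ := (mem_domQ_iff_locus u' z).mp hz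
  have hf : (v.hom.app (op U)).hom g ∈ 𝒮.deg U hU n := hv U hU n g hg
  rw [locus_famOf_comp u v u' hu' pL chartL U hU _ hf g hg 1 one_pos (pow_one _).symm] at hzl
  exact locus_famOf_le_domQ u U hU hn _ hf hzl

include hv hu' in
/-- a point of `G(ψ)` detected by a section in the image of `v` lies in `G(ψ ∘ v)` -/
theorem mem_domQ_comp_of_locus (U : Y.Opens) (hU : IsAffineOpen U) {n : ℕ} (hn : 0 < n)
    (g : 𝒯.presheaf.obj (op U)) (hg : g ∈ 𝒯.deg U hU n)
    (z : PL) (hz : z ∈ locus (famOf u U hU ((v.hom.app (op U)).hom g) (hv U hU n g hg)) pL chartL) :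
    z ∈ domQ u' pL chartL := by
  rw [← locus_famOf_comp u v u' hu' pL chartL U hU _ (hv U hU n g hg) g hg 1 one_pos
    (pow_one _).symm] at hz
  exact locus_famOf_le_domQ u' U hU hn g hg hz

include hv in
/-- the homogeneous component of a preimage is a preimage of a homogeneous element -/
theorem exists_homog_preimage (U : Y.Opens) (hU : IsAffineOpen U) {n : ℕ}
    (s : 𝒮.presheaf.obj (op U)) (hs : s ∈ 𝒮.deg U hU n) (y : 𝒯.presheaf.obj (op U))
    (hy : (v.hom.app (op U)).hom y = s) :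
    ∃ g ∈ 𝒯.deg U hU n, (v.hom.app (op U)).hom g = s := by
  classical
  refine ⟨DirectSum.decompose (𝒯.deg U hU) y n, SetLike.coe_mem _, ?_⟩
  have h1 := (gradedHomAt v hv U hU).map_directSumDecompose (x := y) (i := n)
  have h2 : (gradedHomAt v hv U hU) y = s := hy
  rw [h2, DirectSum.decompose_of_mem_same _ hs] at h1
  exact h1

end

end Groth.Agent.Helper1.PT
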