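import Mathlib
import Groth.Agent.Helper1.IM8
import Groth.Agent.Helper1.PT10

/-!
# Transfer of chart properties along a graded homomorphism `v : 𝒯 → 𝒮`
-/

set_option autoImplicit false
set_option linter.style.haveILetI false

namespace Groth.Agent.Helper1.IM

open CategoryTheory Limits AlgebraicGeometry TopologicalSpace Opposite RelSpec RelProj
  HomogeneousLocalization
open Groth.Agent.Helper1.RP Groth.Agent.Helper1.PL Groth.Agent.Helper1.PT
open scoped HomogeneousIdeal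

universe u

noncomputable section

variable {X Y : Scheme.{u}} {q : X ⟶ Y} {𝒮 𝒯 : QCGrAlg Y} {𝒮L : QCGrAlg X}
  (u : QGrHom q 𝒮 𝒮L) (v : 𝒯.toQCAlg ⟶ 𝒮.toQCAlg) (hv : IsGradedHom v)
  (u' : QGrHom q 𝒯 𝒮L) (hu' : ∀ U : Y.Opens, u'.app U = v.hom.app (op U) ≫ u.app U)
  {L : X.Modules} [L.IsQuasicoherent] {j : L ⟶ 𝒮L.toModule} (hj : IsGrSymAlg L 𝒮L j)

include hj hv hu' in
/-- surjectivity on the chart passes from `ψ ∘ v` to `ψ` -/
theorem comp_surjective (hL : PicF.IsInvertible L)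
    (U : Y.Opens) (hU : IsAffineOpen U) {d : ℕ}
    (t : 𝒯.presheaf.obj (op U)) (ht : t ∈ 𝒯.deg U hU d)
    (hvt : (v.hom.app (op U)).hom t ∈ 𝒮.deg U hU d)
    (V : X.Opens) (hV : IsAffineOpen V) (hT : V ≤ q ⁻¹ᵁ U)
    (hgen' : PT.IsGenAt (PT.famOf u' U hU t ht) V hV hT)
    (h : Function.Surjective (Away.map (u'.gradedAt U hU V hV hT) t)) :
    Function.Surjective (Away.map (u.gradedAt U hU V hV hT) ((v.hom.app (op U)).hom t)) := by
  have hgen : PT.IsGenAt (PT.famOf u U hU ((v.hom.app (op U)).hom t) hvt) V hV hT := by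
    rw [← famOf_comp u v u' hu' U hU t ht hvt]; exact hgen'
  rw [away_surjective_iff u hj hL U hU _ hvt V hV hT hgen]
  rw [away_surjective_iff u' hj hL U hU t ht V hV hT hgen'] at h
  intro τ
  obtain ⟨m, hm, t', ht', e⟩ := h τ
  refine ⟨m, hm, (v.hom.app (op U)).hom t', hv U hU _ t' ht', ?_⟩
  rw [← PT.appLE_comp u v u' hu' U V hT t, ← PT.appLE_comp u v u' hu' U V hT t']
  exact e

include hv hu' in
/-- injectivity on the chart passes from `ψ ∘ v` to `ψ` when `v` is (TN)-surjective -/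
theorem comp_injective
    (hTN : ∃ n : ℕ, ∀ k, n ≤ k → ∀ (U : Y.Opens) (hU : IsAffineOpen U), ∀ y ∈ 𝒮.deg U hU k,
      ∃ x ∈ 𝒯.deg U hU k, (v.hom.app (op U)).hom x = y)
    (U : Y.Opens) (hU : IsAffineOpen U) {d : ℕ} (hd : 0 < d)
    (t : 𝒯.presheaf.obj (op U)) (ht : t ∈ 𝒯.deg U hU d)
    (V : X.Opens) (hV : IsAffineOpen V) (hT : V ≤ q ⁻¹ᵁ U)
    (h : Function.Injective (Away.map (u'.gradedAt U hU V hV hT) t)) :
    Function.Injective (Away.map (u.gradedAt U hU V hV hT) ((v.hom.app (op U)).hom t)) := by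
  have hvt : (v.hom.app (op U)).hom t ∈ 𝒮.deg U hU d := hv U hU d t ht
  rw [away_map_injective_iff (𝒮.deg U hU) (𝒮L.deg V hV) (u.gradedAt U hU V hV hT) _ hvt]
  rw [away_map_injective_iff (𝒯.deg U hU) (𝒮L.deg V hV) (u'.gradedAt U hU V hV hT) t ht] at h
  obtain ⟨N, hN⟩ := hTN
  rintro m s' hs' ⟨l, hl⟩
  have hmem : s' * ((v.hom.app (op U)).hom t) ^ N ∈ 𝒮.deg U hU ((m + N) * d) := by
    have h2 : ((v.hom.app (op U)).hom t) ^ N ∈ 𝒮.deg U hU (N • d) := SetLike.pow_mem_graded _ hvt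
    have h3 := SetLike.mul_mem_graded hs' h2
    have e : m * d + N • d = (m + N) * d := by
      simp only [smul_eq_mul]; ring
    rw [e] at h3
    exact h3
  have hle : N ≤ (m + N) * d := by
    calc N ≤ m + N := Nat.le_add_left N m
      _ = (m + N) * 1 := (Nat.mul_one _).symm
      _ ≤ (m + N) * d := Nat.mul_le_mul_left _ hd
  obtain ⟨y', hy', hvy'⟩ := hN _ hle U hU _ hmem
  have hl' : ((u.appLE U V hT).hom ((v.hom.app (op U)).hom t)) ^ l * (u.appLE U V hT).hom s' = 0 :=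
    hl
  obtain ⟨k, hk⟩ := h (m + N) y' hy' ⟨l, by
    show ((u'.appLE U V hT).hom t) ^ l * (u'.appLE U V hT).hom y' = 0
    rw [PT.appLE_comp u v u' hu' U V hT t, PT.appLE_comp u v u' hu' U V hT y', hvy', map_mul,
      ← mul_assoc, hl', zero_mul]⟩
  refine ⟨k + N, ?_⟩
  have h4 := congrArg (v.hom.app (op U)).hom hk
  rw [map_mul, map_pow, hvy', map_zero] at h4
  rw [pow_add]
  calc (v.hom.app (op U)).hom t ^ k * (v.hom.app (op U)).hom t ^ N * s'
      = (v.hom.app (op U)).hom t ^ k * (s' * (v.hom.app (op U)).hom t ^ N) := by ring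
    _ = 0 := h4

variable {P : Scheme.{u}} {p : P ⟶ Y}
  {chart : ∀ (U : Y.Opens) (hU : IsAffineOpen U),
    (((p ⁻¹ᵁ U : P.Opens) : Scheme.{u}) ≅ Proj (𝒮.deg U hU))}

/-- when `v` is (TN)-surjective, the charts `D_+(v t)` cover `Proj 𝒮` -/
theorem exists_chart_comp
    (hTN : ∃ n : ℕ, ∀ k, n ≤ k → ∀ (U : Y.Opens) (hU : IsAffineOpen U), ∀ y ∈ 𝒮.deg U hU k,
      ∃ x ∈ 𝒯.deg U hU k, (v.hom.app (op U)).hom x = y) (x : P) :
    ∃ (U : Y.Opens) (hU : IsAffineOpen U) (d : ℕ) (_ : 0 < d)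
      (t : 𝒯.presheaf.obj (op U)) (_ : t ∈ 𝒯.deg U hU d)
      (hvt : (v.hom.app (op U)).hom t ∈ 𝒮.deg U hU d),
      x ∈ emb p chart U hU ''ᵁ Proj.basicOpen (𝒮.deg U hU) ((v.hom.app (op U)).hom t) := by
  obtain ⟨U, hU, d, hd, f, hf, y, hy⟩ := exists_chart_PA (chartA := chart) x
  obtain ⟨N, hN⟩ := hTN
  have hk : 0 < N + 1 := Nat.succ_pos N
  have hfk : f ^ (N + 1) ∈ 𝒮.deg U hU ((N + 1) • d) := SetLike.pow_mem_graded (N + 1) hf
  have hle : N ≤ (N + 1) • d := by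
    rw [smul_eq_mul]
    calc N ≤ N + 1 := Nat.le_succ N
      _ = (N + 1) * 1 := (Nat.mul_one _).symm
      _ ≤ (N + 1) * d := Nat.mul_le_mul_left _ hd
  obtain ⟨g, hg, hgf⟩ := hN _ hle U hU _ hfk
  have hpos : 0 < (N + 1) • d := by
    rw [smul_eq_mul]; exact Nat.mul_pos hk hd
  refine ⟨U, hU, _, hpos, g, hg, by rw [hgf]; exact hfk, ?_⟩
  rw [hgf, Proj.basicOpen_pow _ _ _ hk]
  have h1 : (Proj.awayι (𝒮.deg U hU) f hf hd) y ∈
      (Proj.awayι (𝒮.deg U hU) f hf hd).opensRange := ⟨y, rfl⟩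
  rw [Proj.opensRange_awayι] at h1
  exact ⟨_, h1, hy⟩

end

end Groth.Agent.Helper1.IM
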