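import Mathlib
import Groth.Agent.Helper1.IM9

/-!
# Chart data of `r_{L,ψ}` deduced from `r_{L,ψ∘v}`
-/

set_option autoImplicit false
set_option linter.style.haveILetI false

namespace Groth.Agent.Helper1.IM

open CategoryTheory Limits AlgebraicGeometry TopologicalSpace Opposite RelSpec RelProj
  HomogeneousLocalization
open Groth.Agent.Helper1.RP Groth.Agent.Helper1.PL Groth.Agent.Helper1.PT
open scoped HomogeneousIdeal

universe u

noncomputable section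

variable {X Y : Scheme.{u}} {q : X ⟶ Y} {𝒮 𝒯 : QCGrAlg Y} {𝒮L : QCGrAlg X}
  (u : QGrHom q 𝒮 𝒮L) (v : 𝒯.toQCAlg ⟶ 𝒮.toQCAlg) (hv : IsGradedHom v)
  (u' : QGrHom q 𝒯 𝒮L) (hu' : ∀ U : Y.Opens, u'.app U = v.hom.app (op U) ≫ u.app U)
  {L : X.Modules} [L.IsQuasicoherent] {j : L ⟶ 𝒮L.toModule} (hj : IsGrSymAlg L 𝒮L j)
  {P' : Scheme.{u}} {p' : P' ⟶ Y}
  {chart' : ∀ (U : Y.Opens) (hU : IsAffineOpen U),
    (((p' ⁻¹ᵁ U : P'.Opens) : Scheme.{u}) ≅ Proj (𝒯.deg U hU))}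
  {PL : Scheme.{u}} {pL : PL ⟶ X}
  {chartL : ∀ (U : X.Opens) (hU : IsAffineOpen U),
    (((pL ⁻¹ᵁ U : PL.Opens) : Scheme.{u}) ≅ Proj (𝒮L.deg U hU))}

include hj hv hu' in
/-- immersion case -/
theorem comp_chart_closed (hL : PicF.IsInvertible L) (hP' : IsRelProj 𝒯 p' chart')
    (hPL : IsRelProj 𝒮L pL chartL)
    {r' : ((domQ u' pL chartL : PL.Opens) : Scheme.{u}) ⟶ P'}
    (hr' : IsProjQMapOn u' p' chart' pL chartL (domQ u' pL chartL) r') [IsImmersion r']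
    (U : Y.Opens) (hU : IsAffineOpen U) {d : ℕ} (hd : 0 < d)
    (t : 𝒯.presheaf.obj (op U)) (ht : t ∈ 𝒯.deg U hU d)
    (hle : emb p' chart' U hU ''ᵁ Proj.basicOpen (𝒯.deg U hU) t ≤ r'.coborderRange) :
    ∃ (hV : IsAffineOpen (PT.Xw (PT.famOf u' U hU t ht))),
      PT.Xw (PT.famOf u U hU ((v.hom.app (op U)).hom t) (hv U hU d t ht)) =
        PT.Xw (PT.famOf u' U hU t ht) ∧
      Function.Surjective (Away.map (u.gradedAt U hU _ hV (PT.Xw_le _))
        ((v.hom.app (op U)).hom t)) := by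
  have hle' : (Proj.awayι (𝒯.deg U hU) t ht hd ≫ emb p' chart' U hU).opensRange ≤
      r'.coborderRange := by
    rw [opensRange_chartP U hU hd t ht]; exact hle
  have hV : IsAffineOpen (PT.Xw (PT.famOf u' U hU t ht)) :=
    isAffineOpen_Xw u' hj hL hP' hPL hr' U hU hd t ht
      (isAffineOpen_preimage_of_isImmersion r' (isAffineOpen_opensRange _) hle')
  refine ⟨hV, by rw [← famOf_comp u v u' hu' U hU t ht (hv U hU d t ht)], ?_⟩
  have hcl : IsClosedImmersion (Spec.map (CommRingCat.ofHom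
      (Away.map (u'.gradedAt U hU _ hV (PT.Xw_le _)) t))) :=
    isClosedImmersion_chart_of_isImmersion r' _ _ _
      (liftEmb_r hr' U hU _ hV (PT.Xw_le _) hd t ht)
      (preimage_chart u' hj hL hP' hPL hr' U hU hd t ht _ hV (PT.Xw_le _) rfl) hle'
  rw [isClosedImmersion_specMap_iff] at hcl
  exact comp_surjective u v hv u' hu' hj hL U hU t ht (hv U hU d t ht) _ hV (PT.Xw_le _)
    (isGenAt_of_le_Xw _ hV (PT.Xw_le _) le_rfl) hcl

include hj hv hu' in
/-- open immersion case -/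
theorem comp_chart_iso (hL : PicF.IsInvertible L) (hP' : IsRelProj 𝒯 p' chart')
    (hPL : IsRelProj 𝒮L pL chartL)
    {r' : ((domQ u' pL chartL : PL.Opens) : Scheme.{u}) ⟶ P'}
    (hr' : IsProjQMapOn u' p' chart' pL chartL (domQ u' pL chartL) r') [IsOpenImmersion r']
    (hTN : ∃ n : ℕ, ∀ k, n ≤ k → ∀ (U : Y.Opens) (hU : IsAffineOpen U), ∀ y ∈ 𝒮.deg U hU k,
      ∃ x ∈ 𝒯.deg U hU k, (v.hom.app (op U)).hom x = y)
    (U : Y.Opens) (hU : IsAffineOpen U) {d : ℕ} (hd : 0 < d)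
    (t : 𝒯.presheaf.obj (op U)) (ht : t ∈ 𝒯.deg U hU d)
    (hle : emb p' chart' U hU ''ᵁ Proj.basicOpen (𝒯.deg U hU) t ≤ r'.opensRange) :
    ∃ (hV : IsAffineOpen (PT.Xw (PT.famOf u' U hU t ht))),
      PT.Xw (PT.famOf u U hU ((v.hom.app (op U)).hom t) (hv U hU d t ht)) =
        PT.Xw (PT.famOf u' U hU t ht) ∧
      Function.Bijective (Away.map (u.gradedAt U hU _ hV (PT.Xw_le _))
        ((v.hom.app (op U)).hom t)) := by
  have hle' : (Proj.awayι (𝒯.deg U hU) t ht hd ≫ emb p' chart' U hU).opensRange ≤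
      r'.opensRange := by
    rw [opensRange_chartP U hU hd t ht]; exact hle
  have hV : IsAffineOpen (PT.Xw (PT.famOf u' U hU t ht)) :=
    isAffineOpen_Xw u' hj hL hP' hPL hr' U hU hd t ht
      ((isAffineOpen_opensRange _).preimage_of_isOpenImmersion r' hle')
  refine ⟨hV, by rw [← famOf_comp u v u' hu' U hU t ht (hv U hU d t ht)], ?_⟩
  have hiso : IsIso (Spec.map (CommRingCat.ofHom
      (Away.map (u'.gradedAt U hU _ hV (PT.Xw_le _)) t))) :=
    isIso_chart_of_isOpenImmersion r' _ _ _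
      (liftEmb_r hr' U hU _ hV (PT.Xw_le _) hd t ht)
      (preimage_chart u' hj hL hP' hPL hr' U hU hd t ht _ hV (PT.Xw_le _) rfl) hle'
  have hbij : Function.Bijective (Away.map (u'.gradedAt U hU _ hV (PT.Xw_le _)) t) :=
    isIso_SpecMap_iff.mp hiso
  exact ⟨comp_injective u v hv u' hu' hTN U hU hd t ht _ hV (PT.Xw_le _) hbij.1,
    comp_surjective u v hv u' hu' hj hL U hU t ht (hv U hU d t ht) _ hV (PT.Xw_le _)
      (isGenAt_of_le_Xw _ hV (PT.Xw_le _) le_rfl) hbij.2⟩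

end

end Groth.Agent.Helper1.IM
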