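import Mathlib
import Groth.Agent.Helper1.IM10

/-!
# Condition (iii) as a subalgebra, and finite families in a filtered colimit
-/

set_option autoImplicit false
set_option linter.style.haveILetI false

namespace Groth.Agent.Helper1.IM

open CategoryTheory Limits AlgebraicGeometry TopologicalSpace Opposite RelSpec RelProj
  HomogeneousLocalization
open Groth.Agent.Helper1.RP Groth.Agent.Helper1.PL Groth.Agent.Helper1.PT
open scoped HomogeneousIdeal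

universe u

theorem exists_common_index {Λ : Type*} [Preorder Λ] [IsDirected Λ (· ≤ ·)] [Nonempty Λ]
    {κ : Type*} [Finite κ] (Q : κ → Λ → Prop) (hmono : ∀ k i j, i ≤ j → Q k i → Q k j)
    (hex : ∀ k, ∃ i, Q k i) : ∃ i, ∀ k, Q k i := by
  choose f hf using hex
  obtain ⟨M, hM⟩ := Finite.exists_le f
  exact ⟨M, fun k => hmono k _ _ (hM k) (hf k)⟩

noncomputable section

variable {X Y : Scheme.{u}} {q : X ⟶ Y} {𝒮 : QCGrAlg Y} {𝒮L : QCGrAlg X}
  (u : QGrHom q 𝒮 𝒮L)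

/-- the function `τ` on `V` is of the form `ψ(s') / ψ(s)^m` -/
def IsFrac (U : Y.Opens) (hU : IsAffineOpen U) (n : ℕ) (s : 𝒮.presheaf.obj (op U))
    (V : X.Opens) (hT : V ≤ q ⁻¹ᵁ U) (τ : Γ(X, V)) : Prop :=
  ∃ (m : ℕ) (_ : 0 < m) (s' : 𝒮.presheaf.obj (op U)) (_ : s' ∈ 𝒮.deg U hU (m * n)),
    (𝒮L.str.app (op V)).hom τ * ((u.appLE U V hT).hom s) ^ m = (u.appLE U V hT).hom s'

variable (U : Y.Opens) (hU : IsAffineOpen U) {n : ℕ} (s : 𝒮.presheaf.obj (op U))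
  (hs : s ∈ 𝒮.deg U hU n) (V : X.Opens) (hT : V ≤ q ⁻¹ᵁ U)

include hs in
theorem isFrac_add {τ₁ τ₂ : Γ(X, V)} (h₁ : IsFrac u U hU n s V hT τ₁)
    (h₂ : IsFrac u U hU n s V hT τ₂) : IsFrac u U hU n s V hT (τ₁ + τ₂) := by
  obtain ⟨m₁, hm₁, s₁, hs₁, e₁⟩ := h₁
  obtain ⟨m₂, hm₂, s₂, hs₂, e₂⟩ := h₂
  refine ⟨m₁ + m₂, Nat.add_pos_left hm₁ _, s₁ * s ^ m₂ + s₂ * s ^ m₁, ?_, ?_⟩
  · apply add_mem
    · have h2 : s ^ m₂ ∈ 𝒮.deg U hU (m₂ • n) := SetLike.pow_mem_graded _ hs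
      have h3 := SetLike.mul_mem_graded hs₁ h2
      have e : m₁ * n + m₂ • n = (m₁ + m₂) * n := by simp only [smul_eq_mul]; ring
      rw [e] at h3; exact h3
    · have h2 : s ^ m₁ ∈ 𝒮.deg U hU (m₁ • n) := SetLike.pow_mem_graded _ hs
      have h3 := SetLike.mul_mem_graded hs₂ h2
      have e : m₂ * n + m₁ • n = (m₁ + m₂) * n := by simp only [smul_eq_mul]; ring
      rw [e] at h3; exact h3
  · rw [map_add, map_add, map_mul, map_mul, map_pow, map_pow, ← e₁, ← e₂, pow_add]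
    ring

theorem isFrac_mul {τ₁ τ₂ : Γ(X, V)} (h₁ : IsFrac u U hU n s V hT τ₁)
    (h₂ : IsFrac u U hU n s V hT τ₂) : IsFrac u U hU n s V hT (τ₁ * τ₂) := by
  obtain ⟨m₁, hm₁, s₁, hs₁, e₁⟩ := h₁
  obtain ⟨m₂, hm₂, s₂, hs₂, e₂⟩ := h₂
  refine ⟨m₁ + m₂, Nat.add_pos_left hm₁ _, s₁ * s₂, ?_, ?_⟩
  · have h3 := SetLike.mul_mem_graded hs₁ hs₂
    have e : m₁ * n + m₂ * n = (m₁ + m₂) * n := by ring
    rw [e] at h3; exact h3
  · rw [map_mul, map_mul, ← e₁, ← e₂, pow_add]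
    ring

include hs in
theorem isFrac_algebraMap (c : Γ(Y, U)) :
    IsFrac u U hU n s V hT ((q.appLE U V hT).hom c) := by
  refine ⟨1, one_pos, (𝒮.str.app (op U)).hom c * s, ?_, ?_⟩
  · have h3 := SetLike.mul_mem_graded (𝒮.str_mem U hU c) hs
    rw [zero_add] at h3
    rw [one_mul]; exact h3
  · have h1 := congrArg (fun t => t.hom c) (u.toQHom.str_appLE U V hT)
    have h2 : (u.appLE U V hT).hom ((𝒮.str.app (op U)).hom c) =
        (𝒮L.str.app (op V)).hom ((q.appLE U V hT).hom c) := h1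
    rw [map_mul, h2, pow_one]

include hs in
/-- condition (iii) can be checked on algebra generators -/
theorem isFrac_of_adjoin (G : Set Γ(X, V))
    (hG : letI := (q.appLE U V hT).hom.toAlgebra; Algebra.adjoin Γ(Y, U) G = ⊤)
    (h : ∀ τ ∈ G, IsFrac u U hU n s V hT τ) (τ : Γ(X, V)) : IsFrac u U hU n s V hT τ := by
  letI := (q.appLE U V hT).hom.toAlgebra
  have hτ : τ ∈ Algebra.adjoin Γ(Y, U) G := by rw [hG]; trivial
  induction hτ using Algebra.adjoin_induction with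
  | mem x hx => exact h x hx
  | algebraMap c => exact isFrac_algebraMap u U hU s hs V hT c
  | add x y _ _ hx hy => exact isFrac_add u U hU s hs V hT hx hy
  | mul x y _ _ hx hy => exact isFrac_mul u U hU s V hT hx hy

section comp

variable {𝒯 : QCGrAlg Y} (v : 𝒯.toQCAlg ⟶ 𝒮.toQCAlg)
  (u' : QGrHom q 𝒯 𝒮L) (hu' : ∀ U : Y.Opens, u'.app U = v.hom.app (op U) ≫ u.app U)

include hu' in
theorem Xw_famOf_comp_eq (t : 𝒯.presheaf.obj (op U)) (ht : t ∈ 𝒯.deg U hU n)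
    (h : (v.hom.app (op U)).hom t = s) :
    PT.Xw (PT.famOf u' U hU t ht) = PT.Xw (PT.famOf u U hU s hs) := by
  subst h
  rw [famOf_comp u v u' hu' U hU t ht hs]

include hu' in
theorem isFrac_comp (t : 𝒯.presheaf.obj (op U)) (τ : Γ(X, V))
    (h : ∃ (m : ℕ) (_ : 0 < m) (t' : 𝒯.presheaf.obj (op U)) (_ : t' ∈ 𝒯.deg U hU (m * n)),
      (𝒮L.str.app (op V)).hom τ * ((u.appLE U V hT).hom ((v.hom.app (op U)).hom t)) ^ m =
        (u.appLE U V hT).hom ((v.hom.app (op U)).hom t')) :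
    IsFrac u' U hU n t V hT τ := by
  obtain ⟨m, hm, t', ht', e⟩ := h
  refine ⟨m, hm, t', ht', ?_⟩
  rw [PT.appLE_comp u v u' hu' U V hT t, PT.appLE_comp u v u' hu' U V hT t']
  exact e

end comp

end

end Groth.Agent.Helper1.IM
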