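import Mathlib
import Groth.Agent.Helper1.IM11

/-!
# Lifting finitely many homogeneous sections to a common stage of a filtered colimit
-/

set_option autoImplicit false
set_option linter.style.haveILetI false

namespace Groth.Agent.Helper1.IM

open CategoryTheory Limits AlgebraicGeometry TopologicalSpace Opposite RelSpec RelProj
open Groth.Agent.Helper1.RP Groth.Agent.Helper1.PL Groth.Agent.Helper1.PT

universe u

section

variable {Y : Scheme.{u}} {𝒮 : QCGrAlg Y}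
  {Λ : Type u} [Preorder Λ] [IsDirected Λ (· ≤ ·)] [Nonempty Λ]
  (𝒮i : Λ → QCGrAlg Y) (φ : ∀ i, (𝒮i i).toQCAlg ⟶ 𝒮.toQCAlg) (hφ : ∀ i, IsGradedHom (φ i))
  (t : ∀ i j, i ≤ j → ((𝒮i i).toQCAlg ⟶ (𝒮i j).toQCAlg))
  (ht : ∀ i j (h : i ≤ j), IsGradedHom (t i j h))
  (hφt : ∀ i j (h : i ≤ j), t i j h ≫ φ j = φ i)
  (hsurj : ∀ (U : Y.Opens), IsAffineOpen U → ∀ x : 𝒮.presheaf.obj (op U),
    ∃ (i : Λ) (y : (𝒮i i).presheaf.obj (op U)), ((φ i).hom.app (op U)).hom y = x)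

include hφ ht hφt hsurj in
theorem exists_common_lift {κ : Type*} [Finite κ] (U : κ → Y.Opens)
    (hU : ∀ k, IsAffineOpen (U k)) (d : κ → ℕ) (x : ∀ k, 𝒮.presheaf.obj (op (U k)))
    (hx : ∀ k, x k ∈ 𝒮.deg (U k) (hU k) (d k)) :
    ∃ i, ∀ k, ∃ y ∈ (𝒮i i).deg (U k) (hU k) (d k), ((φ i).hom.app (op (U k))).hom y = x k := by
  apply exists_common_index
    (fun k i => ∃ y ∈ (𝒮i i).deg (U k) (hU k) (d k), ((φ i).hom.app (op (U k))).hom y = x k)
  · rintro k i j h ⟨y, hy, hyx⟩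
    refine ⟨((t i j h).hom.app (op (U k))).hom y, ht i j h (U k) (hU k) (d k) y hy, ?_⟩
    have := congrArg (fun ψ : (𝒮i i).toQCAlg ⟶ 𝒮.toQCAlg => (ψ.hom.app (op (U k))).hom y)
      (hφt i j h)
    exact this.trans hyx
  · intro k
    obtain ⟨i, y, hy⟩ := hsurj (U k) (hU k) (x k)
    obtain ⟨g, hg, hgs⟩ := PT.exists_homog_preimage (φ i) (hφ i) (U k) (hU k) (x k) (hx k) y hy
    exact ⟨i, g, hg, hgs⟩

end

end Groth.Agent.Helper1.IM
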