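import Mathlib
import Groth.Agent.Helper1.IM12

/-!
# The immersion criterion for `r_{L,ψ}` over a general base, with finite families
-/

set_option autoImplicit false
set_option linter.style.haveILetI false

namespace Groth.Agent.Helper1.IM

open CategoryTheory Limits AlgebraicGeometry TopologicalSpace Opposite RelSpec RelProj
  HomogeneousLocalization
open Groth.Agent.Helper1.RP Groth.Agent.Helper1.PL Groth.Agent.Helper1.PT
open scoped HomogeneousIdeal

universe u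

noncomputable section

variable {X Y : Scheme.{u}} {q : X ⟶ Y} {𝒮 : QCGrAlg Y} {𝒮L : QCGrAlg X}
  (u : QGrHom q 𝒮 𝒮L)
  {P : Scheme.{u}} {p : P ⟶ Y}
  {chart : ∀ (U : Y.Opens) (hU : IsAffineOpen U),
    (((p ⁻¹ᵁ U : P.Opens) : Scheme.{u}) ≅ Proj (𝒮.deg U hU))}
  {PL : Scheme.{u}} {pL : PL ⟶ X}
  {chartL : ∀ (U : X.Opens) (hU : IsAffineOpen U),
    (((pL ⁻¹ᵁ U : PL.Opens) : Scheme.{u}) ≅ Proj (𝒮L.deg U hU))}
  {L : X.Modules} [L.IsQuasicoherent] {j : L ⟶ 𝒮L.toModule} (hj : IsGrSymAlg L 𝒮L j)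

include hj in
/-- sufficiency of the criterion, general base -/
theorem isImmersion_of_family (hL : PicF.IsInvertible L) (hP : IsRelProj 𝒮 p chart)
    (hPL : IsRelProj 𝒮L pL chartL)
    {r : ((domQ u pL chartL : PL.Opens) : Scheme.{u}) ⟶ P}
    (hr : IsProjQMapOn u p chart pL chartL (domQ u pL chartL) r)
    {κ : Type u} (U : κ → Y.Opens) (hU : ∀ k, IsAffineOpen (U k)) (n : κ → ℕ)
    (hn : ∀ k, 0 < n k) (s : ∀ k, 𝒮.presheaf.obj (op (U k)))
    (hs : ∀ k, s k ∈ 𝒮.deg (U k) (hU k) (n k))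
    (hcov : ∀ x : X, ∃ k, x ∈ PT.Xw (PT.famOf u (U k) (hU k) (s k) (hs k)))
    (hV : ∀ k, IsAffineOpen (PT.Xw (PT.famOf u (U k) (hU k) (s k) (hs k))))
    (hfrac : ∀ k τ, IsFrac u (U k) (hU k) (n k) (s k)
      (PT.Xw (PT.famOf u (U k) (hU k) (s k) (hs k))) (PT.Xw_le _) τ) :
    domQ u pL chartL = ⊤ ∧ IsImmersion r := by
  have hdom : domQ u pL chartL = ⊤ := by
    apply domQ_eq_top_of_cover u hj hL hPL
    intro x
    obtain ⟨k, hk⟩ := hcov x
    exact ⟨U k, hU k, n k, hn k, s k, hs k, hk⟩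
  refine ⟨hdom, ?_⟩
  apply isImmersion_of_charts r
    (fun k : κ => Spec.map (CommRingCat.ofHom
      (Away.map (u.gradedAt (U k) (hU k) _ (hV k) (PT.Xw_le _)) (s k))))
    (fun k : κ => liftEmb u pL chartL (U k) (hU k) _ (hV k) (PT.Xw_le _) (hn k) (s k) (hs k))
    (fun k : κ => Proj.awayι (𝒮.deg (U k) (hU k)) (s k) (hs k) (hn k) ≫ emb p chart (U k) (hU k))
  · intro k
    exact liftEmb_r hr (U k) (hU k) _ (hV k) _ (hn k) _ _
  · intro k
    exact preimage_chart u hj hL hP hPL hr (U k) (hU k) (hn k) (s k) (hs k) _ (hV k) _ rfl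
  · intro x
    obtain ⟨k, hk⟩ := hcov (pL ((domQ u pL chartL).ι x))
    exact ⟨k, mem_opensRange_liftEmb u hj hL hP hPL hr (U k) (hU k) (hn k) (s k) (hs k) _ (hV k) _
      rfl x hk⟩
  · intro k
    apply IsClosedImmersion.spec_of_surjective
    exact (away_surjective_iff u hj hL (U k) (hU k) (s k) (hs k) _ (hV k) (PT.Xw_le _)
      (isGenAt_of_le_Xw _ (hV k) (PT.Xw_le _) le_rfl)).mpr (hfrac k)

include hj in
/-- necessity of the criterion with a finite family, for `X` quasi-compact and `q` locally of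
finite type -/
theorem exists_finite_family (hL : PicF.IsInvertible L) (hP : IsRelProj 𝒮 p chart)
    (hPL : IsRelProj 𝒮L pL chartL)
    {r : ((domQ u pL chartL : PL.Opens) : Scheme.{u}) ⟶ P}
    (hr : IsProjQMapOn u p chart pL chartL (domQ u pL chartL) r)
    [CompactSpace X] [LocallyOfFiniteType q]
    (hdom : domQ u pL chartL = ⊤) [IsImmersion r] :
    ∃ (κ : Type u) (_ : Finite κ) (U : κ → Y.Opens) (hU : ∀ k, IsAffineOpen (U k)) (n : κ → ℕ)
      (_ : ∀ k, 0 < n k) (s : ∀ k, 𝒮.presheaf.obj (op (U k)))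
      (hs : ∀ k, s k ∈ 𝒮.deg (U k) (hU k) (n k)),
      (∀ x : X, ∃ k, x ∈ PT.Xw (PT.famOf u (U k) (hU k) (s k) (hs k))) ∧
      (∀ k, IsAffineOpen (PT.Xw (PT.famOf u (U k) (hU k) (s k) (hs k)))) ∧
      ∀ k, ∃ G : Finset Γ(X, PT.Xw (PT.famOf u (U k) (hU k) (s k) (hs k))),
        (letI := (q.appLE (U k) _ (PT.Xw_le (PT.famOf u (U k) (hU k) (s k) (hs k)))).hom.toAlgebra;
          Algebra.adjoin Γ(Y, U k) (G : Set Γ(X, PT.Xw (PT.famOf u (U k) (hU k) (s k) (hs k)))) =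
            ⊤) ∧
        ∀ τ ∈ G, IsFrac u (U k) (hU k) (n k) (s k) _ (PT.Xw_le _) τ := by
  have hcover := fun x => exists_mem_Xw' u hj hL hP hPL hr hdom r.coborderRange
      (fun z => subset_coborder ⟨z, rfl⟩) x
  choose U hU n hn s hs hC hx using hcover
  obtain ⟨F, hF⟩ := isCompact_univ.elim_finite_subcover
    (fun x : X => ((PT.Xw (PT.famOf u (U x) (hU x) (s x) (hs x)) : X.Opens) : Set X))
    (fun x => (PT.Xw (PT.famOf u (U x) (hU x) (s x) (hs x))).2)
    (fun x _ => Set.mem_iUnion.mpr ⟨x, hx x⟩)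
  have hle : ∀ x : X, (Proj.awayι (𝒮.deg (U x) (hU x)) (s x) (hs x) (hn x) ≫
      emb p chart (U x) (hU x)).opensRange ≤ r.coborderRange := by
    intro x
    rw [opensRange_chartP (U x) (hU x) (hn x) (s x) (hs x)]
    exact hC x
  have hV : ∀ x : X, IsAffineOpen (PT.Xw (PT.famOf u (U x) (hU x) (s x) (hs x))) := by
    intro x
    exact isAffineOpen_Xw u hj hL hP hPL hr (U x) (hU x) (hn x) (s x) (hs x)
      (isAffineOpen_preimage_of_isImmersion r (isAffineOpen_opensRange _) (hle x))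
  refine ⟨F, inferInstance, fun k => U k.1, fun k => hU k.1, fun k => n k.1, fun k => hn k.1,
    fun k => s k.1, fun k => hs k.1, ?_, fun k => hV k.1, ?_⟩
  · intro x
    have hx' := hF (Set.mem_univ x)
    simp only [Set.mem_iUnion] at hx'
    obtain ⟨y, hyF, hxy⟩ := hx'
    exact ⟨⟨y, hyF⟩, hxy⟩
  · intro k
    have hft := LocallyOfFiniteType.finiteType_appLE q (hU k.1) (hV k.1)
      (PT.Xw_le (PT.famOf u (U k.1) (hU k.1) (s k.1) (hs k.1)))
    obtain ⟨G, hG⟩ := hft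
    refine ⟨G, hG, ?_⟩
    intro τ _
    have hcl : IsClosedImmersion (Spec.map (CommRingCat.ofHom
        (Away.map (u.gradedAt (U k.1) (hU k.1) _ (hV k.1) (PT.Xw_le _)) (s k.1)))) :=
      isClosedImmersion_chart_of_isImmersion r _ _ _
        (liftEmb_r hr (U k.1) (hU k.1) _ (hV k.1) (PT.Xw_le _) (hn k.1) (s k.1) (hs k.1))
        (preimage_chart u hj hL hP hPL hr (U k.1) (hU k.1) (hn k.1) (s k.1) (hs k.1) _ (hV k.1)
          (PT.Xw_le _) rfl) (hle k.1)
    rw [isClosedImmersion_specMap_iff] at hcl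
    exact (away_surjective_iff u hj hL (U k.1) (hU k.1) (s k.1) (hs k.1) _ (hV k.1) (PT.Xw_le _)
      (isGenAt_of_le_Xw _ (hV k.1) (PT.Xw_le _) le_rfl)).mp hcl τ

end

end Groth.Agent.Helper1.IM
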