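import Mathlib
import Groth.Prelude.Def_RelProj2
import Groth.Agent.Helper1.QH5
import Groth.Agent.Helper4.QCAlgGen
import Groth.Agent.Helper4.QcohLimits
import Groth.Agent.Helper4.StalkExact
import Groth.Agent.Helper4.AffineDict

/-!
# The degree-`d` part of a quasi-coherent graded algebra, as a quasi-coherent module
-/

set_option autoImplicit false
set_option linter.style.haveILetI false

namespace Groth.Agent.Helper1.SG

open CategoryTheory Limits AlgebraicGeometry TopologicalSpace Opposite RelSpec RelProj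
  Groth.Agent.Helper1.QH
open scoped HomogeneousIdeal

universe u

noncomputable section

variable {S : Scheme.{u}} (𝒮 : QCGrAlg S) (d : ℕ)

/-- the projection onto the degree-`d` part over an affine open -/
def projAt (U : S.Opens) (hU : IsAffineOpen U) : 𝒮.presheaf.obj (op U) →+ 𝒮.presheaf.obj (op U) :=
  GradedRing.proj (𝒮.deg U hU) d

theorem projAt_res {U V : S.Opens} (hU : IsAffineOpen U) (hV : IsAffineOpen V) (i : V ≤ U)
    (x : 𝒮.presheaf.obj (op U)) :
    projAt 𝒮 d V hV ((𝒮.presheaf.map (homOfLE i).op).hom x) =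
      (𝒮.presheaf.map (homOfLE i).op).hom (projAt 𝒮 d U hU x) := by
  have := GradedRingHom.map_directSumDecompose (𝒮.deg U hU) (𝒮.deg V hV) (𝒮.res hU hV i)
    (x := x) (i := d)
  exact this.symm

theorem projAt_str_mul (U : S.Opens) (hU : IsAffineOpen U) (a : Γ(S, U))
    (x : 𝒮.presheaf.obj (op U)) :
    projAt 𝒮 d U hU ((𝒮.str.app (op U)).hom a * x) =
      (𝒮.str.app (op U)).hom a * projAt 𝒮 d U hU x :=
  DirectSum.coe_decompose_mul_of_left_mem_zero (𝒮.deg U hU) (𝒮.str_mem U hU a)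

theorem projAt_mem (U : S.Opens) (hU : IsAffineOpen U) (x : 𝒮.presheaf.obj (op U)) :
    projAt 𝒮 d U hU x ∈ 𝒮.deg U hU d := SetLike.coe_mem _

theorem projAt_of_mem (U : S.Opens) (hU : IsAffineOpen U) {x : 𝒮.presheaf.obj (op U)}
    (hx : x ∈ 𝒮.deg U hU d) : projAt 𝒮 d U hU x = x :=
  DirectSum.decompose_of_mem_same _ hx

/-- the affine-local data of the projector -/
def projAff : AffModHom 𝒮.toModule 𝒮.toModule where
  app U hU := AddCommGrpCat.ofHom (projAt 𝒮 d U hU)
  naturality U hU r := by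
    ext m
    exact projAt_res 𝒮 d hU (hU.basicOpen r) (S.basicOpen_le r) m
  smul U hU a m := projAt_str_mul 𝒮 d U hU a m

/-- the projector onto degree `d`, as an endomorphism of the module `𝒮` -/
def projHom : 𝒮.toModule ⟶ 𝒮.toModule := (projAff 𝒮 d).toHom

theorem projHom_app (U : S.Opens) (hU : IsAffineOpen U) (x : 𝒮.presheaf.obj (op U)) :
    (projHom 𝒮 d).app U x = projAt 𝒮 d U hU x := by
  rw [projHom, AffModHom.toHom_app _ U hU]
  rfl

/-- the degree-`d` part of `𝒮`, as a module -/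
def degMod : S.Modules := kernel (𝟙 𝒮.toModule - projHom 𝒮 d)

/-- the inclusion of the degree-`d` part -/
def degι : degMod 𝒮 d ⟶ 𝒮.toModule := kernel.ι _

instance mono_degι : Mono (degι 𝒮 d) :=
  inferInstanceAs (Mono (equalizer.ι (𝟙 𝒮.toModule - projHom 𝒮 d) 0))

instance isQuasicoherent_degMod : (degMod 𝒮 d).IsQuasicoherent := by
  unfold degMod
  exact Groth.Agent.Helper4.QcohLimits.isQuasicoherent_kernel _

theorem degι_comp : degι 𝒮 d ≫ (𝟙 𝒮.toModule - projHom 𝒮 d) = 0 := kernel.condition _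

theorem degι_mem (U : S.Opens) (hU : IsAffineOpen U) (x : Γ(degMod 𝒮 d, U)) :
    (show 𝒮.presheaf.obj (op U) from (degι 𝒮 d).app U x) ∈ 𝒮.deg U hU d := by
  have h1 : (degι 𝒮 d ≫ (𝟙 𝒮.toModule - projHom 𝒮 d)).app U x = 0 := by
    rw [degι_comp]; rfl
  have h2 : (show 𝒮.presheaf.obj (op U) from (degι 𝒮 d).app U x) -
      projAt 𝒮 d U hU ((degι 𝒮 d).app U x) = 0 := by
    rw [← projHom_app 𝒮 d U hU]
    exact h1
  rw [sub_eq_zero] at h2
  rw [h2]
  exact projAt_mem 𝒮 d U hU _

theorem degι_app_injective (U : S.Opens) : Function.Injective ((degι 𝒮 d).app U) :=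
  Groth.Agent.Helper4.AffineDict.app_injective_of_mono (degι 𝒮 d) U

theorem exists_of_mem_deg' (U : S.Opens) (hU : IsAffineOpen U) {y : 𝒮.presheaf.obj (op U)}
    (hy : y ∈ 𝒮.deg U hU d) : ∃ x : Γ(degMod 𝒮 d, U), (degι 𝒮 d).app U x = y := by
  let K : ShortComplex S.Modules :=
    ShortComplex.mk (degι 𝒮 d) (𝟙 𝒮.toModule - projHom 𝒮 d) (degι_comp 𝒮 d)
  have hK : K.Exact := ShortComplex.exact_of_f_is_kernel _ (kernelIsKernel _)
  haveI : Mono K.f := mono_degι 𝒮 d
  have h1 : (𝟙 𝒮.toModule - projHom 𝒮 d).app U y = 0 := by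
    change (show 𝒮.presheaf.obj (op U) from y) -
      (show 𝒮.presheaf.obj (op U) from (projHom 𝒮 d).app U y) = 0
    rw [projHom_app 𝒮 d U hU, projAt_of_mem 𝒮 d U hU hy, sub_self]
  exact (Groth.Agent.Helper4.StalkExact.app_exact K hK U y).1 h1

end

end Groth.Agent.Helper1.SG
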