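import Mathlib
import Groth.Prelude.Def_RelProj2
import Groth.Agent.Helper1.SG6
import Groth.Agent.Helper1.TR24

/-!
# Maps of graded symmetric algebras induced by maps of modules
-/

set_option autoImplicit false
set_option linter.style.haveILetI false

namespace Groth.Agent.Helper1.SG

open CategoryTheory Limits AlgebraicGeometry TopologicalSpace Opposite RelSpec RelProj
  Groth.Agent.Helper1.SY
open scoped HomogeneousIdeal

universe u

noncomputable section

variable {S : Scheme.{u}} {E F : S.Modules} [E.IsQuasicoherent] [F.IsQuasicoherent]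
  {𝒮E 𝒮F : QCGrAlg S} {jE : E ⟶ 𝒮E.toModule} {jF : F ⟶ 𝒮F.toModule}
  (hjE : IsGrSymAlg E 𝒮E jE) (hjF : IsGrSymAlg F 𝒮F jF) (u : E ⟶ F)

include hjE in
/-- existence of the algebra map induced by a module map -/
theorem exists_symHom : ∃ ψ : 𝒮E.toQCAlg ⟶ 𝒮F.toQCAlg,
    jE ≫ QCAlg.Hom.toModuleMap ψ = u ≫ jF := by
  obtain ⟨ψ, hψ, -⟩ := hjE.1 𝒮F.toQCAlg (u ≫ jF)
  exact ⟨ψ, hψ⟩

variable (ψ : 𝒮E.toQCAlg ⟶ 𝒮F.toQCAlg) (hψ : jE ≫ QCAlg.Hom.toModuleMap ψ = u ≫ jF)

include hjE hjF hψ in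
/-- the induced algebra map is graded -/
theorem isGradedHom_symHom : IsGradedHom ψ := by
  intro U hU d x hx
  obtain ⟨a, ha, rfl⟩ := exists_of_mem_deg hjE U hU hx
  have h1 := congrArg (fun k => k a) (hom_comp_symLift u ψ hψ U)
  simp only [RingHom.comp_apply] at h1
  rw [h1]
  exact symLift_mem_deg hjF U hU (symMap_mem_symPow _ _ _ ha)

include hjF hψ in
theorem symHom_app_surjective [Epi u] (U : S.Opens) (hU : IsAffineOpen U) :
    Function.Surjective (ψ.hom.app (op U)).hom :=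
  hom_app_surjective_of_epi hjF.1 u ψ hψ U hU

include hjE hjF hψ in
/-- the irrelevant-ideal hypothesis of `Proj.map` holds for the map induced by an epimorphism -/
theorem irrelevant_le_map_symHom [Epi u] (hg : IsGradedHom ψ) (U : S.Opens) (hU : IsAffineOpen U) :
    (𝒮F.deg U hU)₊ ≤ ((𝒮E.deg U hU)₊).map (gradedHomAt ψ hg U hU) := by
  intro b hb
  change b ∈ ((𝒮E.deg U hU)₊).toIdeal.map (gradedHomAt ψ hg U hU)
  have h1 := irrelevant_le_span_range_j hjF U hU hb
  refine (Ideal.span_le.2 ?_) h1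
  rintro _ ⟨f, rfl⟩
  obtain ⟨e, rfl⟩ := Groth.Agent.Helper4.QcohEpi.app_surjective_of_epi u hU f
  have h2 : jR (A := 𝒮F.toQCAlg) jF U ((u.app U) e) =
      (ψ.hom.app (op U)).hom (jR (A := 𝒮E.toQCAlg) jE U e) := by
    have := congrArg (fun k : E ⟶ 𝒮F.toModule => k.app U e) hψ
    exact this.symm
  rw [SetLike.mem_coe, h2]
  refine Ideal.mem_map_of_mem (gradedHomAt ψ hg U hU) ?_
  exact HomogeneousIdeal.mem_irrelevant_of_mem _ Nat.one_pos (hjE.2 U hU e)

end

end Groth.Agent.Helper1.SG
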