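import Mathlib
import Groth.Prelude.Def_RelProj2
import Groth.Agent.Helper1.SG7
import Groth.Agent.Helper1.RP3
import Groth.Agent.Helper1.LinEmb1
import Groth.Agent.Helper1.TR23

/-!
# The closed immersion `P(F) ⟶ P(E)` attached to an epimorphism `E ⟶ F`
-/

set_option autoImplicit false
set_option linter.style.haveILetI false

namespace Groth.Agent.Helper1.SG

open CategoryTheory Limits AlgebraicGeometry TopologicalSpace Opposite RelSpec RelProj
  Groth.Agent.Helper1.SY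
open scoped HomogeneousIdeal

universe u

variable {S : Scheme.{u}} {E F : S.Modules} [E.IsQuasicoherent] [F.IsQuasicoherent]
  {𝒮E 𝒮F : QCGrAlg S} {jE : E ⟶ 𝒮E.toModule} {jF : F ⟶ 𝒮F.toModule}
  (hjE : IsGrSymAlg E 𝒮E jE) (hjF : IsGrSymAlg F 𝒮F jF) (u : E ⟶ F) [Epi u]
  {PE PF : Scheme.{u}} {pE : PE ⟶ S} {pF : PF ⟶ S}
  {chartE : ∀ (U : S.Opens) (hU : IsAffineOpen U),
    (((pE ⁻¹ᵁ U : PE.Opens) : Scheme.{u}) ≅ Proj (𝒮E.deg U hU))}
  {chartF : ∀ (U : S.Opens) (hU : IsAffineOpen U),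
    (((pF ⁻¹ᵁ U : PF.Opens) : Scheme.{u}) ≅ Proj (𝒮F.deg U hU))}
  (hPE : IsRelProj 𝒮E pE chartE) (hPF : IsRelProj 𝒮F pF chartF)

include hjE hjF hPE hPF u in
/-- the closed immersion `P(F) ⟶ P(E)` over the base, pulling `O(1)` back to `O(1)` -/
theorem exists_closedImmersion_of_epi :
    ∃ h : PF ⟶ PE, IsClosedImmersion h ∧ h ≫ pE = pF ∧
      ∀ (OE : PE.Modules)
        (lamE : ∀ (U : S.Opens) (hU : IsAffineOpen U),
          OE ⟶ (Scheme.Modules.pushforward (emb pE chartE U hU)).obj (GrTwist.twist (𝒮E.deg U hU) 1))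
        (OF : PF.Modules)
        (lamF : ∀ (U : S.Opens) (hU : IsAffineOpen U),
          OF ⟶ (Scheme.Modules.pushforward (emb pF chartF U hU)).obj (GrTwist.twist (𝒮F.deg U hU) 1)),
        IsRelTwist 𝒮E pE chartE 1 OE lamE → IsRelTwist 𝒮F pF chartF 1 OF lamF →
          Nonempty ((Scheme.Modules.pullback h).obj OE ≅ OF) := by
  obtain ⟨ψ, hψ⟩ := exists_symHom hjE (jF := jF) u
  have hg : IsGradedHom ψ := isGradedHom_symHom hjE hjF u ψ hψ
  have hirr := irrelevant_le_map_symHom hjE hjF u ψ hψ hg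
  obtain ⟨h, hh, -⟩ := Groth.Agent.Helper1.RP.existsUnique_relProjMap ψ hg hirr hPE hPF
  refine ⟨h, ?_, Groth.Agent.Helper1.RP.relProjMap_comm ψ hg hirr hPE hPF h hh, ?_⟩
  · exact Groth.Agent.Helper1.RP.relProjMap_of_chartwise ψ hg hirr @IsClosedImmersion hPE hPF h hh
      (fun U hU => Groth.Agent.Helper1.LinEmb.isClosedImmersion_map (gradedHomAt ψ hg U hU)
        (symHom_app_surjective hjF u ψ hψ U hU))
  · intro OE lamE OF lamF hOE hOF
    obtain ⟨θ, hθ, -⟩ := Groth.Agent.Helper1.TRC.existsUnique_comap ψ hg hirr hh hPE hPF hOE hOF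
    haveI := Groth.Agent.Helper1.TRC.isIso_adjoint ψ hg hirr hh hOE hOF (isGenDegOne hjE) θ hθ
    exact ⟨asIso (((Scheme.Modules.pullbackPushforwardAdjunction h).homEquiv OE OF).symm θ)⟩

end Groth.Agent.Helper1.SG
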