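import Mathlib
import Groth.Prelude.Def_RelProj2
import Groth.Agent.Helper1.SG9
import Groth.Agent.Helper1.SG8
import Groth.Agent.Helper1.RPP1
import Groth.Agent.Helper1.RP11

/-!
# A relative Proj generated in degree one is a closed subscheme of the projective bundle of its
# degree-one part
-/

set_option autoImplicit false
set_option linter.style.haveILetI false

namespace Groth.Agent.Helper1.SG

open CategoryTheory Limits AlgebraicGeometry TopologicalSpace Opposite RelSpec RelProj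
  Groth.Agent.Helper1.SY
open scoped HomogeneousIdeal

universe u

variable {S : Scheme.{u}} {𝒮 : QCGrAlg S}

section lift

variable {E : S.Modules} [E.IsQuasicoherent] (φ : E ⟶ 𝒮.toModule)
  (hφ1 : ∀ (U : S.Opens) (hU : IsAffineOpen U) (x : Γ(E, U)),
    (show 𝒮.presheaf.obj (op U) from (φ.app U) x) ∈ 𝒮.deg U hU 1)

include hφ1 in
/-- symmetric powers land in the graded pieces, for a module map landing in degree one -/
theorem symLift_mem_deg' (U : S.Opens) (hU : IsAffineOpen U) {n : ℕ}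
    {x : SymmetricAlgebra Γ(S, U) Γ(E, U)} (hx : x ∈ symPow Γ(S, U) Γ(E, U) n) :
    symLift 𝒮.toQCAlg φ U x ∈ 𝒮.deg U hU n := by
  unfold symPow at hx
  induction hx using Submodule.pow_induction_on_left' with
  | algebraMap c =>
    rw [symLift_algebraMap]
    exact 𝒮.str_mem U hU c
  | add x y i hx hy ihx ihy =>
    rw [map_add]
    exact add_mem ihx ihy
  | mem_mul m hm i x hx ih =>
    obtain ⟨m, rfl⟩ := hm
    rw [map_mul, symLift_ι]
    have h2 := SetLike.mul_mem_graded (hφ1 U hU m) ih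
    rwa [add_comm] at h2

end lift

variable (h𝒮 : 𝒮.IsGenDegOne) {𝒯 : QCGrAlg S} {jT : degMod 𝒮 1 ⟶ 𝒯.toModule}
  (hjT : IsGrSymAlg (degMod 𝒮 1) 𝒯 jT)
  (ψ : 𝒯.toQCAlg ⟶ 𝒮.toQCAlg) (hψ : jT ≫ QCAlg.Hom.toModuleMap ψ = degι 𝒮 1)

include hjT hψ in
theorem isGradedHom_degOne : IsGradedHom ψ := by
  intro U hU d x hx
  obtain ⟨a, ha, rfl⟩ := exists_of_mem_deg hjT U hU hx
  have hψ' : jT ≫ QCAlg.Hom.toModuleMap ψ = 𝟙 _ ≫ degι 𝒮 1 := by rw [hψ, Category.id_comp]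
  have h1 := congrArg (fun k => k a) (hom_comp_symLift (𝟙 (degMod 𝒮 1)) ψ hψ' U)
  simp only [RingHom.comp_apply] at h1
  rw [h1]
  exact symLift_mem_deg' (degι 𝒮 1) (degι_mem 𝒮 1) U hU (symMap_mem_symPow _ _ _ ha)

include hψ in
theorem ψ_jT (U : S.Opens) (x : Γ(degMod 𝒮 1, U)) :
    (ψ.hom.app (op U)).hom (jR (A := 𝒯.toQCAlg) jT U x) = (degι 𝒮 1).app U x := by
  have := congrArg (fun k : degMod 𝒮 1 ⟶ 𝒮.toModule => k.app U x) hψ
  exact this

include h𝒮 hjT hψ in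
/-- surjectivity in positive degrees -/
theorem degOne_surj_pos (U : S.Opens) (hU : IsAffineOpen U) (d : ℕ) (hd : 0 < d) :
    ∀ b ∈ 𝒮.deg U hU d, ∃ a ∈ 𝒯.deg U hU d, (ψ.hom.app (op U)).hom a = b := by
  induction d, (show 1 ≤ d from hd) using Nat.le_induction with
  | base =>
    intro b hb
    obtain ⟨x, rfl⟩ := exists_of_mem_deg' 𝒮 1 U hU hb
    exact ⟨jR (A := 𝒯.toQCAlg) jT U x, hjT.2 U hU x, ψ_jT ψ hψ U x⟩
  | succ k hk ih =>
    intro b hb
    have hbI : b ∈ Ideal.span (𝒮.deg U hU 1 : Set (𝒮.presheaf.obj (op U))) :=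
      Groth.Agent.Helper1.RP.irrelevant_le_span_one (h𝒮 U hU)
        (HomogeneousIdeal.mem_irrelevant_of_mem _ (Nat.succ_pos k) hb)
    obtain ⟨n, a, g, hsum⟩ := Submodule.mem_span_set'.1 hbI
    have hb' : b = ∑ i, ((DirectSum.decompose (𝒮.deg U hU) (a i)) k : 𝒮.presheaf.obj (op U)) *
        (g i : 𝒮.presheaf.obj (op U)) := by
      have h2 : ((DirectSum.decompose (𝒮.deg U hU) b) (k + 1) : 𝒮.presheaf.obj (op U)) = b :=
        DirectSum.decompose_of_mem_same _ hb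
      rw [← h2, ← hsum, DirectSum.decompose_sum, DFinsupp.finsetSum_apply,
        AddSubmonoidClass.coe_finsetSum]
      refine Finset.sum_congr rfl fun i _ => ?_
      rw [smul_eq_mul]
      exact DirectSum.coe_decompose_mul_add_of_right_mem (𝒮.deg U hU) (g i).2
    have hk' : 0 < k := hk
    choose α hα hαe using fun i => ih hk' _
      (SetLike.coe_mem ((DirectSum.decompose (𝒮.deg U hU) (a i)) k))
    choose γ hγe using fun i => exists_of_mem_deg' 𝒮 1 U hU (g i).2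
    refine ⟨∑ i, α i * jR (A := 𝒯.toQCAlg) jT U (γ i), ?_, ?_⟩
    · refine sum_mem fun i _ => ?_
      exact SetLike.mul_mem_graded (hα i) (hjT.2 U hU (γ i))
    · rw [map_sum, hb']
      refine Finset.sum_congr rfl fun i _ => ?_
      rw [map_mul, hαe, ψ_jT ψ hψ U (γ i), hγe]

include h𝒮 hjT hψ in
theorem degOne_irrelevant_le (hg : IsGradedHom ψ) (U : S.Opens) (hU : IsAffineOpen U) :
    (𝒮.deg U hU)₊ ≤ ((𝒯.deg U hU)₊).map (gradedHomAt ψ hg U hU) := by
  intro b hb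
  change b ∈ ((𝒯.deg U hU)₊).toIdeal.map (gradedHomAt ψ hg U hU)
  have h1 := Groth.Agent.Helper1.RP.irrelevant_le_span_one (h𝒮 U hU) hb
  refine (Ideal.span_le.2 ?_) h1
  intro g hg1
  obtain ⟨x, rfl⟩ := exists_of_mem_deg' 𝒮 1 U hU hg1
  rw [SetLike.mem_coe, ← ψ_jT ψ hψ U x]
  refine Ideal.mem_map_of_mem (gradedHomAt ψ hg U hU) ?_
  exact HomogeneousIdeal.mem_irrelevant_of_mem _ Nat.one_pos (hjT.2 U hU x)

variable {P PT : Scheme.{u}} {p : P ⟶ S} {pT : PT ⟶ S}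
  {chart : ∀ (U : S.Opens) (hU : IsAffineOpen U),
    (((p ⁻¹ᵁ U : P.Opens) : Scheme.{u}) ≅ Proj (𝒮.deg U hU))}
  {chartT : ∀ (U : S.Opens) (hU : IsAffineOpen U),
    (((pT ⁻¹ᵁ U : PT.Opens) : Scheme.{u}) ≅ Proj (𝒯.deg U hU))}
  (hP : IsRelProj 𝒮 p chart) (hPT : IsRelProj 𝒯 pT chartT)

include h𝒮 hjT hP hPT in
/-- `Proj 𝒮 ⟶ P(𝒮₁)` is a closed immersion over the base pulling `O(1)` back to `O(1)` -/
theorem exists_closedImmersion_degOne :
    ∃ h : P ⟶ PT, IsClosedImmersion h ∧ h ≫ pT = p ∧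
      ∀ (OT : PT.Modules)
        (lamT : ∀ (U : S.Opens) (hU : IsAffineOpen U),
          OT ⟶ (Scheme.Modules.pushforward (emb pT chartT U hU)).obj (GrTwist.twist (𝒯.deg U hU) 1))
        (O1 : P.Modules)
        (lam : ∀ (U : S.Opens) (hU : IsAffineOpen U),
          O1 ⟶ (Scheme.Modules.pushforward (emb p chart U hU)).obj (GrTwist.twist (𝒮.deg U hU) 1)),
        IsRelTwist 𝒯 pT chartT 1 OT lamT → IsRelTwist 𝒮 p chart 1 O1 lam →
          Nonempty ((Scheme.Modules.pullback h).obj OT ≅ O1) := by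
  obtain ⟨ψ, hψ, -⟩ := hjT.1 𝒮.toQCAlg (degι 𝒮 1)
  have hg : IsGradedHom ψ := isGradedHom_degOne hjT ψ hψ
  have hirr := degOne_irrelevant_le h𝒮 hjT ψ hψ hg
  obtain ⟨h, hh, -⟩ := Groth.Agent.Helper1.RP.existsUnique_relProjMap ψ hg hirr hPT hP
  refine ⟨h, ?_, Groth.Agent.Helper1.RP.relProjMap_comm ψ hg hirr hPT hP h hh, ?_⟩
  · exact Groth.Agent.Helper1.RP.relProjMap_of_chartwise ψ hg hirr @IsClosedImmersion hPT hP h hh
      (fun U hU => Groth.Agent.Helper1.RPP.isClosedImmersion_map (gradedHomAt ψ hg U hU)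
        (degOne_surj_pos h𝒮 hjT ψ hψ U hU) (hirr U hU))
  · intro OT lamT O1 lam hOT hO1
    obtain ⟨θ, hθ, -⟩ := Groth.Agent.Helper1.TRC.existsUnique_comap ψ hg hirr hh hPT hP hOT hO1
    haveI := Groth.Agent.Helper1.TRC.isIso_adjoint ψ hg hirr hh hOT hO1 (isGenDegOne hjT) θ hθ
    exact ⟨asIso (((Scheme.Modules.pullbackPushforwardAdjunction h).homEquiv OT O1).symm θ)⟩

end Groth.Agent.Helper1.SG
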