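import Mathlib
import Groth.Agent.Helper1.GA8
import Groth.Agent.Helper1.IM2
import Groth.Agent.Helper4.SN354
import Groth.Agent.Helper4.SN350

/-!
# Grauert's criterion, 9: the criterion implies ampleness (local form)
-/

set_option autoImplicit false
set_option linter.style.haveILetI false

namespace Groth.Agent.Helper1.GA

open CategoryTheory Limits AlgebraicGeometry TopologicalSpace Opposite RelProj RelCone
  Groth.Agent.Helper1.RP Groth.Agent.Helper1.PC Groth.Agent.Helper1.PL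
  Groth.Agent.Helper4.TwistExt Groth.Agent.Helper4.SN346 Groth.Agent.Helper4.SN348
  Groth.Agent.Helper4.SN353 Groth.Agent.Helper4.SN354 Groth.Agent.Helper1.SY
open scoped HomogeneousIdeal

universe u

noncomputable section

variable {X : Scheme.{u}} {L : X.Modules} [L.IsQuasicoherent] {𝒜 : QCGrAlg X}
  {jL : L ⟶ 𝒜.toModule} (hA : IsGrSymAlg L 𝒜 jL)

theorem frameOf_t_res {T : X.Opens} {e : Γ(L, T)} (he : IsFrame L T e) {V : X.Opens}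
    (hVT : V ≤ T) :
    (𝒜.presheaf.map (homOfLE hVT).op).hom ((frameOf he T le_rfl).t jL) =
      (frameOf he V hVT).t jL := by
  rw [frameOf_t, frameOf_t]
  have h := rs_jR (j := jL) hVT (L.presheaf.map (homOfLE (le_refl T)).op e)
  rw [Groth.Agent.Helper4.QAffSec.res_self] at h ⊢
  exact h

include hA in
/-- on a framed affine open, `X_w` is a basic open -/
theorem Xw_inf_eq' {T : X.Opens} {e : Γ(L, T)} (he : IsFrame L T e) (hT : IsAffineOpen T)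
    {W : X.Opens} (hTW : T ≤ W) {n : ℕ} (w : PT.Fam 𝒜 W n) (a : Γ(X, T))
    (hw : w.w T hT hTW = (𝒜.str.app (op T)).hom a * ((frameOf he T le_rfl).t jL) ^ n) :
    PT.Xw w ⊓ T = X.basicOpen a := by
  apply le_antisymm
  · rintro x ⟨hxw, hxT⟩
    obtain ⟨_, ⟨V, hV, rfl⟩, hxV, hVle⟩ :=
      X.isBasis_affineOpens.exists_subset_of_mem_open
        (show x ∈ ((PT.Xw w ⊓ T : X.Opens) : Set X) from ⟨hxw, hxT⟩) (PT.Xw w ⊓ T).2
    replace hV : IsAffineOpen V := hV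
    have hVX : V ≤ PT.Xw w := fun z hz => (hVle hz).1
    have hVT : V ≤ T := fun z hz => (hVle hz).2
    have hgen := IM.isGenAt_of_le_Xw w hV (hVT.trans hTW) hVX
    have hwV : w.w V hV (hVT.trans hTW) =
        (𝒜.str.app (op V)).hom ((X.presheaf.map (homOfLE hVT).op).hom a) *
          ((frameOf he V hVT).t jL) ^ n := by
      rw [← w.res hT hV hVT hTW, hw, map_mul, map_pow, IM.str_res, frameOf_t_res he hVT]
    have hu := PT.isUnit_of_isGenAt w hA hV (hVT.trans hTW) (frameOf he V hVT) hgen _ hwV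
    have h1 := Scheme.basicOpen_of_isUnit X hu
    rw [Scheme.basicOpen_res] at h1
    have h2 : x ∈ V ⊓ X.basicOpen a := by rw [h1]; exact hxV
    exact h2.2
  · apply le_inf
    · have hgen := PT.isGenAt_basicOpen_of_frame w hA hT hTW (frameOf he T le_rfl) a hw
      exact le_iSup (fun V : {V : {V : X.affineOpens // V.1 ≤ W} //
        PT.IsGenAt w V.1.1 V.1.2 V.2} => (V.1.1.1 : X.Opens))
        ⟨⟨⟨X.basicOpen a, hT.basicOpen a⟩, (X.basicOpen_le a).trans hTW⟩, hgen⟩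
    · exact X.basicOpen_le a

theorem exists_fromSpec_eq {T : X.Opens} (hT : IsAffineOpen T) (x : X) (hx : x ∈ T) :
    ∃ y₀ : Spec Γ(X, T), hT.fromSpec y₀ = x := by
  have h : x ∈ Set.range hT.fromSpec := by rw [hT.range_fromSpec]; exact hx
  exact h

theorem fromSpec_mem_basicOpen_iff {T : X.Opens} (hT : IsAffineOpen T) (y₀ : Spec Γ(X, T))
    (a : Γ(X, T)) : hT.fromSpec y₀ ∈ X.basicOpen a ↔ a ∉ y₀.asIdeal := by
  have h : y₀ ∈ hT.fromSpec ⁻¹ᵁ X.basicOpen a ↔ hT.fromSpec y₀ ∈ X.basicOpen a := Iff.rfl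
  rw [← h, hT.fromSpec_preimage_basicOpen]
  exact Iff.rfl

variable {Y : Scheme.{u}} (p : X ⟶ Y) [QuasiCompact p] (hL : PicF.IsInvertible L)
  (h0 : StrZeroBij 𝒜) {aug : 𝒜.toQCAlg ⟶ RelSpec.QCAlg.unit X} (haug : IsAugmentation 𝒜 aug)
  {j0 : X ⟶ 𝒜.toQCAlg.spec} (hj0 : IsVertex 𝒜 aug j0)

include hA hL h0 haug hj0 in
/-- **Grauert's criterion, sufficiency, local form** -/
theorem isAmple_of_grauert_local (V0 : 𝒜.toQCAlg.spec.Opens) (hV0 : V0 = pointedCone 𝒜)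
    {C : Scheme.{u}} (ε : Y ⟶ C) (q : 𝒜.toQCAlg.spec ⟶ C)
    (h3 : j0 ≫ q = p ≫ ε) (h4 : IsOpenImmersion (V0.ι ≫ q))
    (h6 : Set.range (V0.ι ≫ q).base ∩ Set.range ε.base = ∅)
    (WC : C.Opens) (hWC : IsAffineOpen WC) (U' : Y.Opens) (hU' : IsCompact (U' : Set Y))
    (hle : U' ≤ ε ⁻¹ᵁ WC) :
    CohB1.IsAmple (L.restrict (p ⁻¹ᵁ U').ι) := by
  haveI := h4
  have hWc : IsCompact ((p ⁻¹ᵁ U' : X.Opens) : Set X) :=
    QuasiCompact.isCompact_preimage (f := p) _ U'.isOpen hU'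
  apply Groth.Agent.Helper4.SN350.isAmple_restrict_of_family hA hL (p ⁻¹ᵁ U') hWc
  intro x hxW
  have hN : ∀ x ∈ (p ⁻¹ᵁ U' : X.Opens),
      j0 x ∈ (q ⁻¹ᵁ WC ⊓ 𝒜.toQCAlg.π ⁻¹ᵁ (p ⁻¹ᵁ U') : 𝒜.toQCAlg.spec.Opens) := by
    intro x hx
    refine ⟨?_, ?_⟩
    · change q (j0 x) ∈ WC
      rw [← Scheme.Hom.comp_apply, h3, Scheme.Hom.comp_apply]
      exact hle hx
    · change 𝒜.toQCAlg.π (j0 x) ∈ p ⁻¹ᵁ U'
      have : 𝒜.toQCAlg.π (j0 x) = x := congrArg (fun t : X ⟶ X => t x) hj0.comp_π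
      rw [this]; exact hx
  obtain ⟨T, e, hxT, hTW, hT, he, -⟩ := exists_frames L hL (p ⁻¹ᵁ U') x hxW
  obtain ⟨y₀, hy₀⟩ := exists_fromSpec_eq hT x hxT
  have hηN := ι_ηpt_mem_of_vertex_mem hA hT (frameOf he T le_rfl) haug hj0 y₀ _
    (by rw [hy₀]; exact hN x hxW)
  have hηV0 : (𝒜.toQCAlg.ι T hT) (ηpt hA hT (frameOf he T le_rfl) y₀) ∈ V0 := by
    rw [hV0]; exact ι_ηpt_mem_pointedCone hA hT (frameOf he T le_rfl) y₀
  have hηπ : 𝒜.toQCAlg.π ((𝒜.toQCAlg.ι T hT) (ηpt hA hT (frameOf he T le_rfl) y₀)) = x := by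
    rw [← hy₀]; exact π_ι_ηpt hA hT (frameOf he T le_rfl) y₀
  -- the open `O = q(V0 ∩ π⁻¹ T)`
  have hqη : q ((𝒜.toQCAlg.ι T hT) (ηpt hA hT (frameOf he T le_rfl) y₀)) ∈
      ((V0.ι ≫ q) ''ᵁ (V0.ι ⁻¹ᵁ (𝒜.toQCAlg.π ⁻¹ᵁ T)) ⊓ WC : C.Opens) := by
    have hπT : 𝒜.toQCAlg.π ((𝒜.toQCAlg.ι T hT) (ηpt hA hT (frameOf he T le_rfl) y₀)) ∈ T := by
      rw [hηπ]; exact hxT
    exact ⟨⟨⟨_, hηV0⟩, hπT, rfl⟩, hηN.1⟩
  obtain ⟨h, hhle, hqh⟩ := hWC.exists_basicOpen_le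
    (V := ((V0.ι ≫ q) ''ᵁ (V0.ι ⁻¹ᵁ (𝒜.toQCAlg.π ⁻¹ᵁ T)) ⊓ WC : C.Opens)) ⟨_, hqη⟩ hηN.1
  let D : TData 𝒜 j0 := ⟨_, p ⁻¹ᵁ U', hN, (q.appLE WC _ inf_le_left).hom h⟩
  have hbo : 𝒜.toQCAlg.spec.basicOpen D.f = D.N ⊓ q ⁻¹ᵁ (C.basicOpen h) :=
    Scheme.basicOpen_appLE q _ WC inf_le_left h
  have hDh : ∀ c ∈ C.basicOpen h, ∃ v : 𝒜.toQCAlg.spec, ∃ hv : v ∈ V0, 𝒜.toQCAlg.π v ∈ T ∧
      (V0.ι ≫ q) ⟨v, hv⟩ = c := by
    intro c hc
    obtain ⟨v', hv', rfl⟩ := (hhle hc).1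
    exact ⟨v'.1, v'.2, hv', rfl⟩
  choose a ha using fun k => (frameOf he T le_rfl).exists_eq hA hT
    (cf_mem h0 haug hj0 D T hT hTW k)
  obtain ⟨tg1, tg2⟩ := taylor_geom hA h0 haug hj0 D hT hTW (frameOf he T le_rfl) y₀ a ha
  have hη : (𝒜.toQCAlg.ι T hT) (ηpt hA hT (frameOf he T le_rfl) y₀) ∈
      𝒜.toQCAlg.spec.basicOpen D.f := by
    rw [hbo]; exact ⟨hηN, hqh⟩
  obtain ⟨n, hn⟩ := tg1.mp hη
  have ha0 : a 0 ∈ y₀.asIdeal := by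
    by_contra hcon
    have h1 := tg2.mpr hcon
    rw [hbo] at h1
    obtain ⟨v, hv0, -, hqv⟩ := hDh _ h1.2
    have h2 : q (j0 (hT.fromSpec y₀)) ∈ Set.range (V0.ι ≫ q).base ∩ Set.range ε.base := by
      refine ⟨⟨⟨v, hv0⟩, hqv⟩, ⟨p (hT.fromSpec y₀), ?_⟩⟩
      change (p ≫ ε) (hT.fromSpec y₀) = _
      rw [← h3]
      rfl
    rw [h6] at h2
    exact h2
  obtain ⟨m, rfl⟩ : ∃ m, n = m + 1 := by
    rcases n with _ | m
    · exact absurd ha0 hn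
    · exact ⟨m, rfl⟩
  obtain ⟨σ, hσ⟩ := exists_tsec h0 haug hj0 D (m + 1)
  have hXT : PT.Xw (tfam h0 haug hj0 D (m + 1)) ≤ T := by
    intro x' hx'
    obtain ⟨V', hxV'⟩ := Opens.mem_iSup.mp hx'
    obtain ⟨T', e', hxT', hT'V', hT', he', -⟩ := exists_frames L hL V'.1.1.1 x' hxV'
    have hT'W : T' ≤ p ⁻¹ᵁ U' := hT'V'.trans V'.1.2
    have hT'X : T' ≤ PT.Xw (tfam h0 haug hj0 D (m + 1)) :=
      hT'V'.trans (le_iSup (fun V : {V : {V : X.affineOpens // V.1 ≤ p ⁻¹ᵁ U'} //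
        PT.IsGenAt (tfam h0 haug hj0 D (m + 1)) V.1.1 V.1.2 V.2} => (V.1.1.1 : X.Opens)) V')
    have hgen := IM.isGenAt_of_le_Xw (tfam h0 haug hj0 D (m + 1)) hT' hT'W hT'X
    obtain ⟨y₀', hy₀'⟩ := exists_fromSpec_eq hT' x' hxT'
    choose a' ha' using fun k => (frameOf he' T' le_rfl).exists_eq hA hT'
      (cf_mem h0 haug hj0 D T' hT' hT'W k)
    have hu : IsUnit (a' (m + 1)) :=
      PT.isUnit_of_isGenAt (tfam h0 haug hj0 D (m + 1)) hA hT' hT'W (frameOf he' T' le_rfl) hgen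
        (a' (m + 1)) (ha' (m + 1))
    have hnot : a' (m + 1) ∉ y₀'.asIdeal := fun hmem =>
      y₀'.isPrime.ne_top (Ideal.eq_top_of_isUnit_mem _ hmem hu)
    obtain ⟨tg1', -⟩ := taylor_geom hA h0 haug hj0 D hT' hT'W (frameOf he' T' le_rfl) y₀' a' ha'
    have hη' := tg1'.mpr ⟨m + 1, hnot⟩
    rw [hbo] at hη'
    obtain ⟨v, hv0, hvT, hqv⟩ := hDh _ hη'.2
    have hη'V0 : (𝒜.toQCAlg.ι T' hT') (ηpt hA hT' (frameOf he' T' le_rfl) y₀') ∈ V0 := by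
      rw [hV0]; exact ι_ηpt_mem_pointedCone hA hT' (frameOf he' T' le_rfl) y₀'
    have hinj : (⟨v, hv0⟩ : V0) = ⟨_, hη'V0⟩ := (V0.ι ≫ q).injective hqv
    have hveq : v = (𝒜.toQCAlg.ι T' hT') (ηpt hA hT' (frameOf he' T' le_rfl) y₀') :=
      congrArg Subtype.val hinj
    rw [← hy₀', ← π_ι_ηpt hA hT' (frameOf he' T' le_rfl) y₀', ← hveq]
    exact hvT
  have hXe : PT.Xw (tfam h0 haug hj0 D (m + 1)) = X.basicOpen (a (m + 1)) := by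
    rw [← Xw_inf_eq' hA he hT hTW (tfam h0 haug hj0 D (m + 1)) (a (m + 1)) (ha (m + 1))]
    exact (inf_eq_left.mpr hXT).symm
  refine ⟨m, tfam h0 haug hj0 D (m + 1), σ, hσ, ?_, ?_⟩
  · rw [hXe, ← hy₀, fromSpec_mem_basicOpen_iff]
    exact hn
  · rw [hXe]
    exact hT.basicOpen _

end

end Groth.Agent.Helper1.GA
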