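import Mathlib
import Groth.Agent.Helper1.GA9
import Groth.Agent.Helper4.AmpleLocal

/-!
# Grauert's criterion, 10: the criterion implies relative ampleness
-/

set_option autoImplicit false
set_option linter.style.haveILetI false

namespace Groth.Agent.Helper1.GA

open CategoryTheory Limits AlgebraicGeometry TopologicalSpace Opposite RelProj RelCone

universe u

variable {X Y : Scheme.{u}} {L : X.Modules} [L.IsQuasicoherent] {𝒜 : QCGrAlg X}
  {jL : L ⟶ 𝒜.toModule} (hA : IsGrSymAlg L 𝒜 jL)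
  (p : X ⟶ Y) [QuasiCompact p] (hL : PicF.IsInvertible L)
  (h0 : StrZeroBij 𝒜) {aug : 𝒜.toQCAlg ⟶ RelSpec.QCAlg.unit X} (haug : IsAugmentation 𝒜 aug)
  {j0 : X ⟶ 𝒜.toQCAlg.spec} (hj0 : IsVertex 𝒜 aug j0)

include h0 haug hj0 in
theorem eq_pointedCone (V0 : 𝒜.toQCAlg.spec.Opens)
    (hV0 : (V0 : Set 𝒜.toQCAlg.spec) = (Set.range j0.base)ᶜ) : V0 = pointedCone 𝒜 := by
  apply SetLike.coe_injective
  rw [hV0]
  exact (Groth.Agent.Helper1.AC.pointedCone_eq_compl h0 aug haug j0 hj0).symm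

include hA hL h0 haug hj0 in
/-- **Grauert's criterion, sufficiency** -/
theorem isRelAmple_of_grauert (V0 : 𝒜.toQCAlg.spec.Opens)
    (hV0 : (V0 : Set 𝒜.toQCAlg.spec) = (Set.range j0.base)ᶜ)
    {C : Scheme.{u}} (ε : Y ⟶ C) (q : 𝒜.toQCAlg.spec ⟶ C)
    (h3 : j0 ≫ q = p ≫ ε) (h4 : IsOpenImmersion (V0.ι ≫ q))
    (h6 : Set.range (V0.ι ≫ q).base ∩ Set.range ε.base = ∅) :
    RelAmple.IsRelAmple p L := by
  have hV0' := eq_pointedCone h0 haug hj0 V0 hV0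
  refine ⟨inferInstance, fun U => ?_⟩
  have key : ∀ y : U.1, ∃ a : Γ(Y, U.1), y.1 ∈ Y.basicOpen a ∧
      CohB1.IsAmple (L.restrict (p ⁻¹ᵁ Y.basicOpen a).ι) := by
    intro y
    obtain ⟨WC, hWC, hεy, -⟩ := exists_isAffineOpen_mem_and_subset (X := C) (x := ε y.1)
      (U := ⊤) trivial
    obtain ⟨a, ha, hya⟩ := U.2.exists_basicOpen_le (V := ε ⁻¹ᵁ WC ⊓ U.1) ⟨y.1, hεy, y.2⟩ y.2
    refine ⟨a, hya, ?_⟩
    exact isAmple_of_grauert_local hA p hL h0 haug hj0 V0 hV0' ε q h3 h4 h6 WC hWC _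
      (U.2.basicOpen a).isCompact (fun z hz => (ha hz).1)
  choose a hya ha using key
  exact Groth.Agent.Helper4.AmpleLocal.isAmple_restrict_preimage_of_basicOpen_cover p L U.1 U.2 a
    (fun y hy => ⟨⟨y, hy⟩, hya ⟨y, hy⟩⟩) ha

end Groth.Agent.Helper1.GA
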