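import Mathlib

/-!
# Fibre products of presheaves of commutative rings on a space, sectionwise; the sheaf condition
-/

set_option autoImplicit false

namespace Groth.Agent.Helper1.GB

open CategoryTheory TopologicalSpace Opposite TopCat

universe u

noncomputable section

variable {Y : TopCat.{u}} {P Q S : TopCat.Presheaf CommRingCat.{u} Y} (α : P ⟶ S) (β : Q ⟶ S)

/-- the fibre product of the rings of sections -/
def fibObj (U : (Opens Y)ᵒᵖ) : Subring (P.obj U × Q.obj U) :=
  RingHom.eqLocus ((α.app U).hom.comp (RingHom.fst _ _)) ((β.app U).hom.comp (RingHom.snd _ _))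

theorem mem_fibObj {U : (Opens Y)ᵒᵖ} (z : P.obj U × Q.obj U) :
    z ∈ fibObj α β U ↔ (α.app U).hom z.1 = (β.app U).hom z.2 := Iff.rfl

theorem map_mem {U V : (Opens Y)ᵒᵖ} (i : U ⟶ V) (z : fibObj α β U) :
    (RingHom.prodMap (P.map i).hom (Q.map i).hom) z.1 ∈ fibObj α β V := by
  rw [mem_fibObj]
  have h1 := congrArg (fun k => k.hom z.1.1) (α.naturality i)
  have h2 := congrArg (fun k => k.hom z.1.2) (β.naturality i)
  simp only [CommRingCat.hom_comp, RingHom.comp_apply] at h1 h2
  change (α.app V).hom ((P.map i).hom z.1.1) = (β.app V).hom ((Q.map i).hom z.1.2)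
  rw [h1, h2]
  exact congrArg (S.map i).hom z.2

/-- the restriction maps of the fibre product -/
def fibMap {U V : (Opens Y)ᵒᵖ} (i : U ⟶ V) : fibObj α β U →+* fibObj α β V :=
  RingHom.codRestrict ((RingHom.prodMap (P.map i).hom (Q.map i).hom).comp (fibObj α β U).subtype)
    (fibObj α β V) (fun z => map_mem α β i z)

theorem fibMap_fst {U V : (Opens Y)ᵒᵖ} (i : U ⟶ V) (z : fibObj α β U) :
    (fibMap α β i z).1.1 = (P.map i).hom z.1.1 := rfl

theorem fibMap_snd {U V : (Opens Y)ᵒᵖ} (i : U ⟶ V) (z : fibObj α β U) :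
    (fibMap α β i z).1.2 = (Q.map i).hom z.1.2 := rfl

/-- the sectionwise fibre product -/
def fib : TopCat.Presheaf CommRingCat.{u} Y where
  obj U := CommRingCat.of (fibObj α β U)
  map i := CommRingCat.ofHom (fibMap α β i)
  map_id U := by
    ext z
    · change (P.map (𝟙 U)).hom z.1.1 = z.1.1
      rw [P.map_id]; rfl
    · change (Q.map (𝟙 U)).hom z.1.2 = z.1.2
      rw [Q.map_id]; rfl
  map_comp i k := by
    ext z
    · change (P.map (i ≫ k)).hom z.1.1 = (P.map k).hom ((P.map i).hom z.1.1)
      rw [P.map_comp]; rfl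
    · change (Q.map (i ≫ k)).hom z.1.2 = (Q.map k).hom ((Q.map i).hom z.1.2)
      rw [Q.map_comp]; rfl

/-- the first projection -/
def fst : fib α β ⟶ P where
  app U := CommRingCat.ofHom ((RingHom.fst _ _).comp (fibObj α β U).subtype)
  naturality U V i := by
    ext z
    rfl

/-- the second projection -/
def snd : fib α β ⟶ Q where
  app U := CommRingCat.ofHom ((RingHom.snd _ _).comp (fibObj α β U).subtype)
  naturality U V i := by
    ext z
    rfl

theorem fst_app_apply (U : (Opens Y)ᵒᵖ) (z : fibObj α β U) :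
    ((fst α β).app U).hom z = z.1.1 := rfl

theorem snd_app_apply (U : (Opens Y)ᵒᵖ) (z : fibObj α β U) :
    ((snd α β).app U).hom z = z.1.2 := rfl

theorem condition : fst α β ≫ α = snd α β ≫ β := by
  ext U z
  exact z.2

/-- the map into the fibre product -/
def lift {F : TopCat.Presheaf CommRingCat.{u} Y} (a : F ⟶ P) (b : F ⟶ Q) (h : a ≫ α = b ≫ β) :
    F ⟶ fib α β where
  app U := CommRingCat.ofHom (RingHom.codRestrict (RingHom.prod (a.app U).hom (b.app U).hom)
    (fibObj α β U) (fun x => by
      rw [mem_fibObj]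
      have := congrArg (fun k => (k.app U).hom x) h
      exact this))
  naturality U V i := by
    ext x
    apply Subtype.ext
    apply Prod.ext
    · have := congrArg (fun k => k.hom x) (a.naturality i)
      exact this
    · have := congrArg (fun k => k.hom x) (b.naturality i)
      exact this

theorem lift_fst {F : TopCat.Presheaf CommRingCat.{u} Y} (a : F ⟶ P) (b : F ⟶ Q)
    (h : a ≫ α = b ≫ β) : lift α β a b h ≫ fst α β = a := by
  ext U x
  rfl

theorem lift_snd {F : TopCat.Presheaf CommRingCat.{u} Y} (a : F ⟶ P) (b : F ⟶ Q)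
    (h : a ≫ α = b ≫ β) : lift α β a b h ≫ snd α β = b := by
  ext U x
  rfl

theorem fib_ext {U : (Opens Y)ᵒᵖ} (z z' : (fib α β).obj U)
    (h1 : ((fst α β).app U).hom z = ((fst α β).app U).hom z')
    (h2 : ((snd α β).app U).hom z = ((snd α β).app U).hom z') : z = z' :=
  Subtype.ext (Prod.ext h1 h2)

/-- the fibre product of sheaves over a sheaf is a sheaf -/
theorem isSheaf_fib (hP : P.IsSheaf) (hQ : Q.IsSheaf) (hS : S.IsSheaf) : (fib α β).IsSheaf := by
  rw [TopCat.Presheaf.isSheaf_iff_isSheafUniqueGluing]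
  intro ι U sf hsf
  have hPg := (TopCat.Presheaf.isSheaf_iff_isSheafUniqueGluing P).mp hP U
    (fun i => ((fst α β).app (op (U i))).hom (sf i)) (by
      intro i j
      have := congrArg (fun z => ((fst α β).app _).hom z) (hsf i j)
      exact this)
  have hQg := (TopCat.Presheaf.isSheaf_iff_isSheafUniqueGluing Q).mp hQ U
    (fun i => ((snd α β).app (op (U i))).hom (sf i)) (by
      intro i j
      have := congrArg (fun z => ((snd α β).app _).hom z) (hsf i j)
      exact this)
  obtain ⟨sP, hsP, hsP'⟩ := hPg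
  obtain ⟨sQ, hsQ, hsQ'⟩ := hQg
  have hmem : ((sP, sQ) : P.obj (op (iSup U)) × Q.obj (op (iSup U))) ∈ fibObj α β (op (iSup U)) := by
    rw [mem_fibObj]
    apply TopCat.Sheaf.eq_of_locally_eq' (⟨S, hS⟩ : TopCat.Sheaf CommRingCat.{u} Y) U (iSup U)
      (fun i => Opens.leSupr U i) le_rfl
    intro i
    have h1 := congrArg (fun k => k.hom sP) (α.naturality (Opens.leSupr U i).op)
    have h2 := congrArg (fun k => k.hom sQ) (β.naturality (Opens.leSupr U i).op)
    simp only [CommRingCat.hom_comp, RingHom.comp_apply] at h1 h2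
    change (S.map (Opens.leSupr U i).op).hom ((α.app _).hom sP) =
      (S.map (Opens.leSupr U i).op).hom ((β.app _).hom sQ)
    rw [← h1, ← h2]
    have e1 : (P.map (Opens.leSupr U i).op).hom sP = _ := hsP i
    have e2 : (Q.map (Opens.leSupr U i).op).hom sQ = _ := hsQ i
    rw [e1, e2]
    exact (sf i).2
  refine ⟨⟨(sP, sQ), hmem⟩, ?_, ?_⟩
  · intro i
    apply fib_ext
    · exact hsP i
    · exact hsQ i
  · intro z hz
    apply fib_ext
    · apply hsP'
      intro i
      have := congrArg (fun z => ((fst α β).app _).hom z) (hz i)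
      exact this
    · apply hsQ'
      intro i
      have := congrArg (fun z => ((snd α β).app _).hom z) (hz i)
      exact this

end

end Groth.Agent.Helper1.GB
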