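import Mathlib

/-!
# Localizations of fibre products of rings
-/

set_option autoImplicit false

namespace Groth.Agent.Helper1.GB

universe u

/-- `f : A → B` exhibits `B` as the localization of `A` away from `r` -/
def AwayProp {A B : Type*} [CommRing A] [CommRing B] (f : A →+* B) (r : A) : Prop :=
  IsUnit (f r) ∧ (∀ s : B, ∃ (n : ℕ) (a : A), s * f r ^ n = f a) ∧
    ∀ a b : A, f a = f b → ∃ n : ℕ, r ^ n * a = r ^ n * b

theorem awayProp_of_isLocalization {A B : Type*} [CommRing A] [CommRing B] (f : A →+* B) (r : A)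
    (h : letI := f.toAlgebra; IsLocalization.Away r B) : AwayProp f r := by
  letI := f.toAlgebra
  exact ⟨IsLocalization.Away.algebraMap_isUnit r, fun s => IsLocalization.Away.surj r s,
    fun a b hab => IsLocalization.Away.exists_of_eq r hab⟩

theorem isLocalization_of_awayProp {A B : Type*} [CommRing A] [CommRing B] (f : A →+* B) (r : A)
    (h : AwayProp f r) : letI := f.toAlgebra; IsLocalization.Away r B := by
  letI := f.toAlgebra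
  exact IsLocalization.Away.mk r h.1 h.2.1 h.2.2

section fib

variable {P Q S P' Q' S' : Type*} [CommRing P] [CommRing Q] [CommRing S] [CommRing P']
  [CommRing Q'] [CommRing S']
  (α : P →+* S) (β : Q →+* S) (α' : P' →+* S') (β' : Q' →+* S')

/-- the fibre product of rings -/
abbrev E : Subring (P × Q) :=
  RingHom.eqLocus (α.comp (RingHom.fst _ _)) (β.comp (RingHom.snd _ _))

theorem mem_E (z : P × Q) : z ∈ E α β ↔ α z.1 = β z.2 := Iff.rfl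

variable (ρP : P →+* P') (ρQ : Q →+* Q') (ρS : S →+* S')

/-- **the localization of a fibre product is the fibre product of the localizations** -/
theorem awayProp_fib (hα : ∀ x, ρS (α x) = α' (ρP x)) (hβ : ∀ y, ρS (β y) = β' (ρQ y))
    (r : P) (rQ : Q) (hr : α r = β rQ)
    (hP : AwayProp ρP r) (hQ : AwayProp ρQ rQ) (hS : AwayProp ρS (α r))
    (ρ : E α β →+* E α' β') (hρ1 : ∀ z, (ρ z).1.1 = ρP z.1.1) (hρ2 : ∀ z, (ρ z).1.2 = ρQ z.1.2) :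
    AwayProp ρ ⟨(r, rQ), hr⟩ := by
  refine ⟨?_, ?_, ?_⟩
  · obtain ⟨u, hu⟩ := hP.1.exists_right_inv
    obtain ⟨v, hv⟩ := hQ.1.exists_right_inv
    have huv : α' u = β' v := by
      have h1 : ρS (α r) * α' u = 1 := by rw [hα, ← map_mul, hu, map_one]
      have h2 : ρS (α r) * β' v = 1 := by rw [hr, hβ, ← map_mul, hv, map_one]
      calc α' u = α' u * (ρS (α r) * β' v) := by rw [h2, mul_one]
        _ = (ρS (α r) * α' u) * β' v := by ring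
        _ = β' v := by rw [h1, one_mul]
    refine IsUnit.of_mul_eq_one (⟨(u, v), huv⟩ : E α' β') ?_
    apply Subtype.ext
    apply Prod.ext
    · change (ρ ⟨(r, rQ), hr⟩).1.1 * u = 1
      rw [hρ1]; exact hu
    · change (ρ ⟨(r, rQ), hr⟩).1.2 * v = 1
      rw [hρ2]; exact hv
  · intro z'
    have hz' : α' z'.1.1 = β' z'.1.2 := z'.2
    obtain ⟨n₁, a₁, h1⟩ := hP.2.1 z'.1.1
    obtain ⟨n₂, b₂, h2⟩ := hQ.2.1 z'.1.2
    have ha : z'.1.1 * ρP r ^ (n₁ + n₂) = ρP (r ^ n₂ * a₁) := by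
      rw [map_mul, map_pow, ← h1, pow_add]; ring
    have hb : z'.1.2 * ρQ rQ ^ (n₁ + n₂) = ρQ (rQ ^ n₁ * b₂) := by
      rw [map_mul, map_pow, ← h2, pow_add]; ring
    have hS' : ρS (α (r ^ n₂ * a₁)) = ρS (β (rQ ^ n₁ * b₂)) := by
      rw [hα, hβ, ← ha, ← hb, map_mul, map_mul, map_pow, map_pow, hz', ← hα, ← hβ, hr]
    obtain ⟨k, hk⟩ := hS.2.2 _ _ hS'
    have hmem : ((r ^ k * (r ^ n₂ * a₁), rQ ^ k * (rQ ^ n₁ * b₂)) : P × Q) ∈ E α β := by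
      rw [mem_E]
      change α (r ^ k * (r ^ n₂ * a₁)) = β (rQ ^ k * (rQ ^ n₁ * b₂))
      calc α (r ^ k * (r ^ n₂ * a₁)) = α r ^ k * α (r ^ n₂ * a₁) := by rw [map_mul, map_pow]
        _ = α r ^ k * β (rQ ^ n₁ * b₂) := hk
        _ = β (rQ ^ k * (rQ ^ n₁ * b₂)) := by rw [hr, ← map_pow, ← map_mul]
    refine ⟨n₁ + n₂ + k, ⟨_, hmem⟩, ?_⟩
    apply Subtype.ext
    apply Prod.ext
    · change z'.1.1 * ((ρ ⟨(r, rQ), hr⟩) ^ (n₁ + n₂ + k)).1.1 = (ρ ⟨_, hmem⟩).1.1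
      rw [hρ1]
      have : ((ρ ⟨(r, rQ), hr⟩) ^ (n₁ + n₂ + k)).1.1 = (ρ ⟨(r, rQ), hr⟩).1.1 ^ (n₁ + n₂ + k) := rfl
      rw [this, hρ1]
      change z'.1.1 * ρP r ^ (n₁ + n₂ + k) = ρP (r ^ k * (r ^ n₂ * a₁))
      rw [pow_add, ← mul_assoc, ha, map_mul ρP (r ^ k), map_pow]; ring
    · change z'.1.2 * ((ρ ⟨(r, rQ), hr⟩) ^ (n₁ + n₂ + k)).1.2 = (ρ ⟨_, hmem⟩).1.2
      rw [hρ2]
      have : ((ρ ⟨(r, rQ), hr⟩) ^ (n₁ + n₂ + k)).1.2 = (ρ ⟨(r, rQ), hr⟩).1.2 ^ (n₁ + n₂ + k) := rfl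
      rw [this, hρ2]
      change z'.1.2 * ρQ rQ ^ (n₁ + n₂ + k) = ρQ (rQ ^ k * (rQ ^ n₁ * b₂))
      rw [pow_add, ← mul_assoc, hb, map_mul ρQ (rQ ^ k), map_pow]; ring
  · intro z w hzw
    have e1 : ρP z.1.1 = ρP w.1.1 := by rw [← hρ1, ← hρ1, hzw]
    have e2 : ρQ z.1.2 = ρQ w.1.2 := by rw [← hρ2, ← hρ2, hzw]
    obtain ⟨n₁, h1⟩ := hP.2.2 _ _ e1
    obtain ⟨n₂, h2⟩ := hQ.2.2 _ _ e2
    refine ⟨n₁ + n₂, ?_⟩
    apply Subtype.ext
    apply Prod.ext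
    · change r ^ (n₁ + n₂) * z.1.1 = r ^ (n₁ + n₂) * w.1.1
      rw [pow_add, mul_comm (r ^ n₁), mul_assoc, h1, mul_assoc]
    · change rQ ^ (n₁ + n₂) * z.1.2 = rQ ^ (n₁ + n₂) * w.1.2
      rw [pow_add, mul_assoc, h2, mul_assoc]

/-- localizing a fibre product at an element `(0, ρ₀)` -/
theorem awayProp_snd (ρ₀ : Q) (h0 : β ρ₀ = 0) {M : Type*} [CommRing M] (lam : Q →+* M)
    (hM : AwayProp lam ρ₀) :
    AwayProp (lam.comp ((RingHom.snd P Q).comp (E α β).subtype))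
      ⟨(0, ρ₀), by rw [mem_E]; change α 0 = β ρ₀; rw [h0, map_zero]⟩ := by
  refine ⟨hM.1, ?_, ?_⟩
  · intro s
    obtain ⟨n, a, h⟩ := hM.2.1 s
    have hmem : ((0, ρ₀ * a) : P × Q) ∈ E α β := by
      rw [mem_E]
      change α 0 = β (ρ₀ * a)
      rw [map_mul, h0, zero_mul, map_zero]
    refine ⟨n + 1, ⟨_, hmem⟩, ?_⟩
    change s * lam ρ₀ ^ (n + 1) = lam (ρ₀ * a)
    rw [pow_succ, ← mul_assoc, h, map_mul]; ring
  · intro z w hzw
    have e : lam z.1.2 = lam w.1.2 := hzw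
    obtain ⟨n, hn⟩ := hM.2.2 _ _ e
    refine ⟨n + 1, ?_⟩
    apply Subtype.ext
    apply Prod.ext
    · change (0 : P) ^ (n + 1) * z.1.1 = (0 : P) ^ (n + 1) * w.1.1
      rw [zero_pow (Nat.succ_ne_zero n), zero_mul, zero_mul]
    · change ρ₀ ^ (n + 1) * z.1.2 = ρ₀ ^ (n + 1) * w.1.2
      rw [pow_succ, mul_comm (ρ₀ ^ n), mul_assoc, hn, mul_assoc]

end fib

end Groth.Agent.Helper1.GB
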