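import Mathlib
import Groth.Prelude.Def_RelSpec
import Groth.Prelude.Def_AffAlg
import Groth.Agent.Helper1.GB1
import Groth.Agent.Helper1.GB2
import Groth.Agent.Helper1.DP2
import Groth.Agent.Helper4.AffUP

/-!
# The affine pushout over a base: `Spec_Y (f₁_* O ×_{f₀_* O} f₂_* O)`
-/

set_option autoImplicit false
set_option linter.style.haveILetI false

namespace Groth.Agent.Helper1.GB

open CategoryTheory Limits AlgebraicGeometry TopologicalSpace Opposite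
open Groth.Agent.Helper4

universe u

noncomputable section

section qc

variable {Ys : Scheme.{u}} {P Q S : TopCat.Presheaf CommRingCat.{u} Ys.carrier}
  (α : P ⟶ S) (β : Q ⟶ S) (a : Ys.presheaf ⟶ P) (b : Ys.presheaf ⟶ Q) (h : a ≫ α = b ≫ β)

theorem isQC_fib (hP : RelSpec.IsQC P a) (hQ : RelSpec.IsQC Q b) (hS : RelSpec.IsQC S (a ≫ α)) :
    RelSpec.IsQC (fib α β) (lift α β a b h) := by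
  intro U hU r
  apply isLocalization_of_awayProp
  have hr : (α.app (op U)).hom ((a.app (op U)).hom r) = (β.app (op U)).hom ((b.app (op U)).hom r) :=
    congrArg (fun k => (k.app (op U)).hom r) h
  have hα : ∀ x, (S.map (homOfLE (Ys.basicOpen_le r)).op).hom ((α.app (op U)).hom x) =
      (α.app (op (Ys.basicOpen r))).hom ((P.map (homOfLE (Ys.basicOpen_le r)).op).hom x) := by
    intro x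
    have := congrArg (fun k => k.hom x) (α.naturality (homOfLE (Ys.basicOpen_le r)).op)
    exact this.symm
  have hβ : ∀ x, (S.map (homOfLE (Ys.basicOpen_le r)).op).hom ((β.app (op U)).hom x) =
      (β.app (op (Ys.basicOpen r))).hom ((Q.map (homOfLE (Ys.basicOpen_le r)).op).hom x) := by
    intro x
    have := congrArg (fun k => k.hom x) (β.naturality (homOfLE (Ys.basicOpen_le r)).op)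
    exact this.symm
  exact awayProp_fib (α.app (op U)).hom (β.app (op U)).hom (α.app (op (Ys.basicOpen r))).hom
    (β.app (op (Ys.basicOpen r))).hom (P.map (homOfLE (Ys.basicOpen_le r)).op).hom
    (Q.map (homOfLE (Ys.basicOpen_le r)).op).hom (S.map (homOfLE (Ys.basicOpen_le r)).op).hom
    hα hβ ((a.app (op U)).hom r) ((b.app (op U)).hom r) hr
    (awayProp_of_isLocalization _ _ (hP U hU r)) (awayProp_of_isLocalization _ _ (hQ U hU r))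
    (awayProp_of_isLocalization _ _ (hS U hU r))
    (fibMap α β (homOfLE (Ys.basicOpen_le r)).op) (fun _ => rfl) (fun _ => rfl)

end qc

variable {Y Z₀ Z₁ Z₂ : Scheme.{u}} (f₀ : Z₀ ⟶ Y) (f₁ : Z₁ ⟶ Y) (f₂ : Z₂ ⟶ Y)
  [QuasiCompact f₀] [QuasiSeparated f₀] [QuasiCompact f₁] [QuasiSeparated f₁]
  [QuasiCompact f₂] [QuasiSeparated f₂]
  (h₁ : Z₀ ⟶ Z₁) (h₂ : Z₀ ⟶ Z₂) (w₁ : h₁ ≫ f₁ = f₀) (w₂ : h₂ ≫ f₂ = f₀)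

theorem push_h : f₁.c ≫ AffAlg.algHom f₁ f₀ h₁ w₁ = f₂.c ≫ AffAlg.algHom f₂ f₀ h₂ w₂ := by
  rw [AffAlg.algHom_comm, AffAlg.algHom_comm]

/-- the algebra of the affine pushout of `Z₁ ← Z₀ → Z₂` over `Y` -/
def pushAlg : RelSpec.QCAlg Y where
  presheaf := fib (AffAlg.algHom f₁ f₀ h₁ w₁) (AffAlg.algHom f₂ f₀ h₂ w₂)
  isSheaf := isSheaf_fib _ _ (TopCat.Sheaf.pushforward_sheaf_of_sheaf _ Z₁.sheaf.property)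
    (TopCat.Sheaf.pushforward_sheaf_of_sheaf _ Z₂.sheaf.property)
    (TopCat.Sheaf.pushforward_sheaf_of_sheaf _ Z₀.sheaf.property)
  str := lift _ _ f₁.c f₂.c (push_h f₀ f₁ f₂ h₁ h₂ w₁ w₂)
  isQC := isQC_fib _ _ _ _ _ (RelSpec.QCAlg.isQC_pushforward f₁)
    (RelSpec.QCAlg.isQC_pushforward f₂)
    (by rw [AffAlg.algHom_comm]; exact RelSpec.QCAlg.isQC_pushforward f₀)

/-- the algebra map of the first inclusion -/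
def ω₁ : AffAlg.alg (pushAlg f₀ f₁ f₂ h₁ h₂ w₁ w₂).π ⟶ AffAlg.alg f₁ :=
  (pushAlg f₀ f₁ f₂ h₁ h₂ w₁ w₂).gammaMap ≫
    fst (AffAlg.algHom f₁ f₀ h₁ w₁) (AffAlg.algHom f₂ f₀ h₂ w₂)

/-- the algebra map of the second inclusion -/
def ω₂ : AffAlg.alg (pushAlg f₀ f₁ f₂ h₁ h₂ w₁ w₂).π ⟶ AffAlg.alg f₂ :=
  (pushAlg f₀ f₁ f₂ h₁ h₂ w₁ w₂).gammaMap ≫
    snd (AffAlg.algHom f₁ f₀ h₁ w₁) (AffAlg.algHom f₂ f₀ h₂ w₂)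

theorem ω₁_comm : (pushAlg f₀ f₁ f₂ h₁ h₂ w₁ w₂).π.c ≫ ω₁ f₀ f₁ f₂ h₁ h₂ w₁ w₂ = f₁.c := by
  unfold ω₁
  rw [← Category.assoc, (pushAlg f₀ f₁ f₂ h₁ h₂ w₁ w₂).π_c_gammaMap]
  exact lift_fst _ _ _ _ (push_h f₀ f₁ f₂ h₁ h₂ w₁ w₂)

theorem ω₂_comm : (pushAlg f₀ f₁ f₂ h₁ h₂ w₁ w₂).π.c ≫ ω₂ f₀ f₁ f₂ h₁ h₂ w₁ w₂ = f₂.c := by
  unfold ω₂
  rw [← Category.assoc, (pushAlg f₀ f₁ f₂ h₁ h₂ w₁ w₂).π_c_gammaMap]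
  exact lift_snd _ _ _ _ (push_h f₀ f₁ f₂ h₁ h₂ w₁ w₂)

/-- `Z₁ ⟶` the affine pushout -/
def inl : Z₁ ⟶ (pushAlg f₀ f₁ f₂ h₁ h₂ w₁ w₂).spec :=
  AffUP.ofAlgHom (pushAlg f₀ f₁ f₂ h₁ h₂ w₁ w₂).π f₁ (ω₁ f₀ f₁ f₂ h₁ h₂ w₁ w₂)

/-- `Z₂ ⟶` the affine pushout -/
def inr : Z₂ ⟶ (pushAlg f₀ f₁ f₂ h₁ h₂ w₁ w₂).spec :=
  AffUP.ofAlgHom (pushAlg f₀ f₁ f₂ h₁ h₂ w₁ w₂).π f₂ (ω₂ f₀ f₁ f₂ h₁ h₂ w₁ w₂)

theorem inl_π : inl f₀ f₁ f₂ h₁ h₂ w₁ w₂ ≫ (pushAlg f₀ f₁ f₂ h₁ h₂ w₁ w₂).π = f₁ :=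
  AffUP.ofAlgHom_comp _ _ _ (ω₁_comm f₀ f₁ f₂ h₁ h₂ w₁ w₂)

theorem inr_π : inr f₀ f₁ f₂ h₁ h₂ w₁ w₂ ≫ (pushAlg f₀ f₁ f₂ h₁ h₂ w₁ w₂).π = f₂ :=
  AffUP.ofAlgHom_comp _ _ _ (ω₂_comm f₀ f₁ f₂ h₁ h₂ w₁ w₂)

theorem algHom_inl :
    AffAlg.algHom (pushAlg f₀ f₁ f₂ h₁ h₂ w₁ w₂).π f₁ (inl f₀ f₁ f₂ h₁ h₂ w₁ w₂)
      (inl_π f₀ f₁ f₂ h₁ h₂ w₁ w₂) = ω₁ f₀ f₁ f₂ h₁ h₂ w₁ w₂ :=
  AffUP.algHom_ofAlgHom _ _ _ (ω₁_comm f₀ f₁ f₂ h₁ h₂ w₁ w₂)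

theorem algHom_inr :
    AffAlg.algHom (pushAlg f₀ f₁ f₂ h₁ h₂ w₁ w₂).π f₂ (inr f₀ f₁ f₂ h₁ h₂ w₁ w₂)
      (inr_π f₀ f₁ f₂ h₁ h₂ w₁ w₂) = ω₂ f₀ f₁ f₂ h₁ h₂ w₁ w₂ :=
  AffUP.algHom_ofAlgHom _ _ _ (ω₂_comm f₀ f₁ f₂ h₁ h₂ w₁ w₂)

/-- the square of the affine pushout commutes -/
theorem push_condition :
    h₁ ≫ inl f₀ f₁ f₂ h₁ h₂ w₁ w₂ = h₂ ≫ inr f₀ f₁ f₂ h₁ h₂ w₁ w₂ := by
  have e1 : (h₁ ≫ inl f₀ f₁ f₂ h₁ h₂ w₁ w₂) ≫ (pushAlg f₀ f₁ f₂ h₁ h₂ w₁ w₂).π = f₀ := by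
    rw [Category.assoc, inl_π, w₁]
  have e2 : (h₂ ≫ inr f₀ f₁ f₂ h₁ h₂ w₁ w₂) ≫ (pushAlg f₀ f₁ f₂ h₁ h₂ w₁ w₂).π = f₀ := by
    rw [Category.assoc, inr_π, w₂]
  apply AffUP.hom_ext (pushAlg f₀ f₁ f₂ h₁ h₂ w₁ w₂).π f₀ _ _ e1 e2
  rw [← DP.algHom_comp (pushAlg f₀ f₁ f₂ h₁ h₂ w₁ w₂).π f₁ f₀ (inl f₀ f₁ f₂ h₁ h₂ w₁ w₂)
      (inl_π f₀ f₁ f₂ h₁ h₂ w₁ w₂) h₁ w₁ e1,
    ← DP.algHom_comp (pushAlg f₀ f₁ f₂ h₁ h₂ w₁ w₂).π f₂ f₀ (inr f₀ f₁ f₂ h₁ h₂ w₁ w₂)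
      (inr_π f₀ f₁ f₂ h₁ h₂ w₁ w₂) h₂ w₂ e2,
    algHom_inl, algHom_inr]
  unfold ω₁ ω₂
  rw [Category.assoc, Category.assoc]
  congr 1
  exact condition _ _

end

end Groth.Agent.Helper1.GB
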