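import Mathlib
import Groth.Prelude.Def_RelSpec
import Groth.Prelude.Def_AffAlg
import Groth.Agent.Helper1.GB2
import Groth.Agent.Helper1.PC7
import Groth.Agent.Helper4.AffUP

/-!
# Morphisms into a relative spectrum: local form, preimages of basic opens of charts, and a
criterion for being an open immersion on a basic open
-/

set_option autoImplicit false
set_option linter.style.haveILetI false

namespace Groth.Agent.Helper1.GB

open CategoryTheory Limits AlgebraicGeometry TopologicalSpace Opposite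
open Groth.Agent.Helper4

universe u

noncomputable section

variable {Y : Scheme.{u}} (A : RelSpec.QCAlg Y)

theorem specMap_gammaAff_fromSpec (U : Y.Opens) (hU : IsAffineOpen U)
    (hπ : IsAffineOpen (A.π ⁻¹ᵁ U)) :
    Spec.map (A.gammaAff U hU) ≫ hπ.fromSpec = A.ι U hU := by
  unfold RelSpec.QCAlg.gammaAff
  rw [Spec.map_comp, Category.assoc,
    IsAffineOpen.SpecMap_appLE_fromSpec (A.ι U hU) hπ (isAffineOpen_top _) (A.top_le_preimage U hU),
    IsAffineOpen.fromSpec_top, Scheme.isoSpec_Spec_inv, ← Category.assoc, ← Spec.map_comp,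
    Iso.inv_hom_id, Spec.map_id, Category.id_comp]

variable {Z : Scheme.{u}} (f : Z ⟶ Y) (ω' : A.presheaf ⟶ AffAlg.alg f)

/-- the morphism to the relative spectrum attached to an algebra map `A ⟶ f_* O_Z` -/
def toSpec : Z ⟶ A.spec := AffUP.ofAlgHom A.π f (A.gammaMap ≫ ω')

/-- the local form of `toSpec` -/
theorem ι_toSpec (U : Y.Opens) (hU : IsAffineOpen U) :
    (f ⁻¹ᵁ U).ι ≫ toSpec A f ω' =
      (f ⁻¹ᵁ U).toSpecΓ ≫ Spec.map (ω'.app (op U)) ≫ A.ι U hU := by
  unfold toSpec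
  rw [AffUP.ι_ofAlgHom A.π f (A.gammaMap ≫ ω') ⟨U, hU⟩]
  unfold AffUP.piece
  rw [NatTrans.comp_app, A.gammaMap_app U hU, Spec.map_comp, Category.assoc,
    specMap_gammaAff_fromSpec]

variable (hω : A.str ≫ ω' = f.c)

include hω in
theorem toSpec_π : toSpec A f ω' ≫ A.π = f := by
  unfold toSpec
  apply AffUP.ofAlgHom_comp
  rw [← Category.assoc, A.π_c_gammaMap, hω]

include hω in
/-- the preimage of a basic open of a chart -/
theorem toSpec_preimage (U : Y.Opens) (hU : IsAffineOpen U) (s : A.presheaf.obj (op U)) :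
    toSpec A f ω' ⁻¹ᵁ ((A.ι U hU) ''ᵁ (PrimeSpectrum.basicOpen s :
      (Spec (A.presheaf.obj (op U))).Opens)) = Z.basicOpen ((ω'.app (op U)).hom s) := by
  ext z
  have key : ∀ z' : (f ⁻¹ᵁ U : Z.Opens),
      (toSpec A f ω' ((f ⁻¹ᵁ U).ι z') ∈ ((A.ι U hU) ''ᵁ (PrimeSpectrum.basicOpen s :
        (Spec (A.presheaf.obj (op U))).Opens)) ↔
      (f ⁻¹ᵁ U).ι z' ∈ Z.basicOpen ((ω'.app (op U)).hom s)) := by
    intro z'
    have h1 : toSpec A f ω' ((f ⁻¹ᵁ U).ι z') =
        (A.ι U hU) ((Spec.map (ω'.app (op U))) ((f ⁻¹ᵁ U).toSpecΓ z')) := by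
      rw [← Scheme.Hom.comp_apply, ι_toSpec A f ω' U hU]
      rfl
    rw [h1]
    have h2 : z' ∈ (f ⁻¹ᵁ U).toSpecΓ ⁻¹ᵁ (PrimeSpectrum.basicOpen ((ω'.app (op U)).hom s) :
        (Spec Γ(Z, f ⁻¹ᵁ U)).Opens) ↔ (f ⁻¹ᵁ U).ι z' ∈ Z.basicOpen ((ω'.app (op U)).hom s) := by
      rw [Scheme.Opens.toSpecΓ_preimage_basicOpen]
      exact Iff.rfl
    rw [← h2]
    constructor
    · rintro ⟨v, hv, hv'⟩
      have := (A.ι U hU).injective hv'
      rw [this] at hv
      exact hv
    · intro h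
      exact ⟨_, h, rfl⟩
  constructor
  · intro hz
    have hzU : z ∈ f ⁻¹ᵁ U := by
      obtain ⟨v, -, hv⟩ := hz
      have h1 : A.π (toSpec A f ω' z) ∈ U := by
        rw [← hv]; exact PC.ι_mem A U hU v
      rw [← Scheme.Hom.comp_apply, toSpec_π A f ω' hω] at h1
      exact h1
    exact (key ⟨z, hzU⟩).mp hz
  · intro hz
    have hzU : z ∈ f ⁻¹ᵁ U := Z.basicOpen_le _ hz
    exact (key ⟨z, hzU⟩).mpr hz

/-- on an affine basic open over which `A(U)_s → Γ(Z_r)` is an isomorphism, `toSpec` is an open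
immersion -/
theorem isOpenImmersion_toSpec (U : Y.Opens) (hU : IsAffineOpen U) (s : A.presheaf.obj (op U))
    (haff : IsAffineOpen (Z.basicOpen ((ω'.app (op U)).hom s)))
    (hloc : AwayProp (ω'.app (op U) ≫
      Z.presheaf.map (homOfLE (Z.basicOpen_le ((ω'.app (op U)).hom s))).op).hom s) :
    IsOpenImmersion ((Z.basicOpen ((ω'.app (op U)).hom s)).ι ≫ toSpec A f ω') := by
  have h1 : (Z.basicOpen ((ω'.app (op U)).hom s)).ι ≫ toSpec A f ω' =
      (Z.basicOpen ((ω'.app (op U)).hom s)).toSpecΓ ≫ Spec.map (ω'.app (op U) ≫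
        Z.presheaf.map (homOfLE (Z.basicOpen_le ((ω'.app (op U)).hom s))).op) ≫ A.ι U hU := by
    rw [← Scheme.homOfLE_ι Z (Z.basicOpen_le ((ω'.app (op U)).hom s)), Category.assoc,
      ι_toSpec A f ω' U hU, ← Scheme.Opens.toSpecΓ_SpecMap_presheaf_map_assoc, Spec.map_comp,
      Category.assoc]
  rw [h1]
  haveI : IsIso (Z.basicOpen ((ω'.app (op U)).hom s)).toSpecΓ := by
    rw [← haff.isoSpec_hom]; infer_instance
  letI := (ω'.app (op U) ≫
      Z.presheaf.map (homOfLE (Z.basicOpen_le ((ω'.app (op U)).hom s))).op).hom.toAlgebra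
  haveI := isLocalization_of_awayProp _ _ hloc
  haveI : IsOpenImmersion (Spec.map (ω'.app (op U) ≫
      Z.presheaf.map (homOfLE (Z.basicOpen_le ((ω'.app (op U)).hom s))).op)) :=
    IsOpenImmersion.of_isLocalization (R := A.presheaf.obj (op U))
      (S := Γ(Z, Z.basicOpen ((ω'.app (op U)).hom s))) s
  infer_instance

end

end Groth.Agent.Helper1.GB
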