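import Mathlib
import Groth.Prelude.Def_RelSpec2
import Groth.Agent.Helper1.GA3

/-!
# The comorphism of the vertex section of a cone is the augmentation
-/

set_option autoImplicit false
set_option linter.style.haveILetI false

namespace Groth.Agent.Helper1.GB

open CategoryTheory Limits AlgebraicGeometry TopologicalSpace Opposite RelProj RelCone

universe u

noncomputable section

theorem fromSpec_appLE_top {X : Scheme.{u}} {U : X.Opens} (hU : IsAffineOpen U)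
    (e : ⊤ ≤ hU.fromSpec ⁻¹ᵁ U) :
    hU.fromSpec.appLE U ⊤ e ≫ (Scheme.ΓSpecIso Γ(X, U)).hom = 𝟙 _ := by
  rw [Scheme.Hom.appLE, hU.fromSpec_app_self, Category.assoc, Category.assoc,
    ← Category.assoc ((Spec Γ(X, U)).presheaf.map _), ← Functor.map_comp]
  have : ((eqToHom hU.fromSpec_preimage_self).op ≫ (homOfLE e).op) = 𝟙 _ :=
    Subsingleton.elim _ _
  rw [this, CategoryTheory.Functor.map_id, Category.id_comp, Iso.inv_hom_id]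

variable {X : Scheme.{u}} {𝒜 : QCGrAlg X} {aug : 𝒜.toQCAlg ⟶ RelSpec.QCAlg.unit X}
  {j0 : X ⟶ 𝒜.toQCAlg.spec} (hj0 : IsVertex 𝒜 aug j0)

include hj0 in
/-- on functions over an affine open, the vertex section is the augmentation -/
theorem vertex_appLE (U : X.Opens) (hU : IsAffineOpen U)
    (e : U ≤ j0 ⁻¹ᵁ (𝒜.toQCAlg.π ⁻¹ᵁ U)) :
    j0.appLE (𝒜.toQCAlg.π ⁻¹ᵁ U) U e = 𝒜.toQCAlg.gammaAff U hU ≫ aug.hom.app (op U) := by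
  have e1 : ⊤ ≤ hU.fromSpec ⁻¹ᵁ U := by rw [hU.fromSpec_preimage_self]
  have e2 : ⊤ ≤ (hU.fromSpec ≫ j0) ⁻¹ᵁ (𝒜.toQCAlg.π ⁻¹ᵁ U) := by
    rw [Scheme.Hom.comp_preimage]
    exact e1.trans (hU.fromSpec.preimage_mono e)
  have e3 : ⊤ ≤ (Spec.map (aug.hom.app (op U)) ≫ 𝒜.toQCAlg.ι U hU) ⁻¹ᵁ (𝒜.toQCAlg.π ⁻¹ᵁ U) := by
    rw [← hj0.chart U hU]; exact e2
  have h1 : (hU.fromSpec ≫ j0).appLE (𝒜.toQCAlg.π ⁻¹ᵁ U) ⊤ e2 =
      (Spec.map (aug.hom.app (op U)) ≫ 𝒜.toQCAlg.ι U hU).appLE (𝒜.toQCAlg.π ⁻¹ᵁ U) ⊤ e3 := by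
    congr 1
    exact hj0.chart U hU
  rw [← Scheme.Hom.appLE_comp_appLE hU.fromSpec j0 (𝒜.toQCAlg.π ⁻¹ᵁ U) U ⊤ e e1,
    ← Scheme.Hom.appLE_comp_appLE (Spec.map (aug.hom.app (op U))) (𝒜.toQCAlg.ι U hU)
      (𝒜.toQCAlg.π ⁻¹ᵁ U) ⊤ ⊤ (𝒜.toQCAlg.top_le_preimage U hU) le_top] at h1
  have h2 := congrArg (fun k => k ≫ (Scheme.ΓSpecIso Γ(X, U)).hom) h1
  have h3 : (Spec.map (aug.hom.app (op U))).appLE ⊤ ⊤ le_top ≫ (Scheme.ΓSpecIso Γ(X, U)).hom =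
      (Scheme.ΓSpecIso (𝒜.presheaf.obj (op U))).hom ≫ aug.hom.app (op U) :=
    GA.specMap_appLE_top (aug.hom.app (op U)) le_top
  have h4 : j0.appLE (𝒜.toQCAlg.π ⁻¹ᵁ U) U e =
      (𝒜.toQCAlg.ι U hU).appLE (𝒜.toQCAlg.π ⁻¹ᵁ U) ⊤ (𝒜.toQCAlg.top_le_preimage U hU) ≫
        (Spec.map (aug.hom.app (op U))).appLE ⊤ ⊤ le_top ≫ (Scheme.ΓSpecIso Γ(X, U)).hom := by
    have h5 : (j0.appLE (𝒜.toQCAlg.π ⁻¹ᵁ U) U e ≫ hU.fromSpec.appLE U ⊤ e1) ≫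
        (Scheme.ΓSpecIso Γ(X, U)).hom = j0.appLE (𝒜.toQCAlg.π ⁻¹ᵁ U) U e := by
      rw [Category.assoc, fromSpec_appLE_top hU e1, Category.comp_id]
    rw [← h5]
    exact h2.trans (Category.assoc _ _ _)
  rw [h4, h3]
  unfold RelSpec.QCAlg.gammaAff
  rw [Category.assoc]
  rfl

end

end Groth.Agent.Helper1.GB
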