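import Mathlib
import Groth.Agent.Helper1.GA9
import Groth.Agent.Helper1.GB5
import Groth.Agent.Helper4.RelSpecIso

/-!
# Homogeneous sections of `Sym L` as functions on the line bundle: non-vanishing loci
-/

set_option autoImplicit false
set_option linter.style.haveILetI false

namespace Groth.Agent.Helper1.GB

open CategoryTheory Limits AlgebraicGeometry TopologicalSpace Opposite RelProj RelCone
  Groth.Agent.Helper1.RP Groth.Agent.Helper1.PC Groth.Agent.Helper1.PL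
  Groth.Agent.Helper4.TwistExt Groth.Agent.Helper4.SN346 Groth.Agent.Helper4.SN348
open scoped HomogeneousIdeal

universe u

noncomputable section

variable {X : Scheme.{u}} {𝒜 : QCGrAlg X} {W : X.Opens}
  (ρ : Γ(𝒜.toQCAlg.spec, 𝒜.toQCAlg.π ⁻¹ᵁ W)) (σ : 𝒜.presheaf.obj (op W))
  (hρ : (𝒜.toQCAlg.gammaMap.app (op W)).hom ρ = σ)

include hρ in
theorem gammaAff_res {T : X.Opens} (hT : IsAffineOpen T) (hTW : T ≤ W) :
    (𝒜.toQCAlg.gammaAff T hT).hom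
      ((𝒜.toQCAlg.spec.presheaf.map (homOfLE (𝒜.toQCAlg.π.preimage_mono hTW)).op).hom ρ) =
      (𝒜.presheaf.map (homOfLE hTW).op).hom σ := by
  rw [← hρ, ← 𝒜.toQCAlg.gammaMap_app T hT]
  have h := congrArg (fun k => k.hom ρ) (𝒜.toQCAlg.gammaMap.naturality (homOfLE hTW).op)
  exact h

include hρ in
/-- the non-vanishing locus of `ρ`, chart by chart -/
theorem ι_mem_basicOpen_iff {T : X.Opens} (hT : IsAffineOpen T) (hTW : T ≤ W)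
    (v : Spec (𝒜.presheaf.obj (op T))) :
    (𝒜.toQCAlg.ι T hT) v ∈ 𝒜.toQCAlg.spec.basicOpen ρ ↔
      (𝒜.presheaf.map (homOfLE hTW).op).hom σ ∉ v.asIdeal := by
  rw [← gammaAff_res ρ σ hρ hT hTW]
  set ρT := (𝒜.toQCAlg.spec.presheaf.map (homOfLE (𝒜.toQCAlg.π.preimage_mono hTW)).op).hom ρ
    with hρT
  have h1 : 𝒜.toQCAlg.spec.basicOpen ρT = 𝒜.toQCAlg.π ⁻¹ᵁ T ⊓ 𝒜.toQCAlg.spec.basicOpen ρ :=
    Scheme.basicOpen_res _ _ _
  have hvT : (𝒜.toQCAlg.ι T hT) v ∈ 𝒜.toQCAlg.π ⁻¹ᵁ T := ι_mem 𝒜.toQCAlg T hT v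
  have h2 : (𝒜.toQCAlg.ι T hT) v ∈ 𝒜.toQCAlg.spec.basicOpen ρ ↔
      (𝒜.toQCAlg.ι T hT) v ∈ 𝒜.toQCAlg.spec.basicOpen ρT := by
    rw [h1]
    exact ⟨fun h => ⟨hvT, h⟩, fun h => h.2⟩
  rw [h2]
  have h3 := Scheme.basicOpen_appLE (𝒜.toQCAlg.ι T hT) ⊤ (𝒜.toQCAlg.π ⁻¹ᵁ T)
    (𝒜.toQCAlg.top_le_preimage T hT) ρT
  rw [basicOpen_eq_of_affine'] at h3
  have h4 : v ∈ (PrimeSpectrum.basicOpen ((Scheme.ΓSpecIso (𝒜.presheaf.obj (op T))).hom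
      (((𝒜.toQCAlg.ι T hT).appLE (𝒜.toQCAlg.π ⁻¹ᵁ T) ⊤ (𝒜.toQCAlg.top_le_preimage T hT)).hom ρT)) :
      (Spec (𝒜.presheaf.obj (op T))).Opens) ↔
      (𝒜.toQCAlg.ι T hT) v ∈ 𝒜.toQCAlg.spec.basicOpen ρT := by
    rw [h3]
    exact ⟨fun h => h.2, fun h => ⟨trivial, h⟩⟩
  rw [← h4]
  exact Iff.rfl

variable {aug : 𝒜.toQCAlg ⟶ RelSpec.QCAlg.unit X} {j0 : X ⟶ 𝒜.toQCAlg.spec}
  (hj0 : IsVertex 𝒜 aug j0)

include hρ hj0 in
/-- a function on the line bundle whose restrictions to the zero section vanish -/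
theorem vertex_appLE_eq_zero (e : W ≤ j0 ⁻¹ᵁ (𝒜.toQCAlg.π ⁻¹ᵁ W))
    (h : ∀ (T : X.Opens) (hT : IsAffineOpen T) (hTW : T ≤ W),
      (aug.hom.app (op T)).hom ((𝒜.presheaf.map (homOfLE hTW).op).hom σ) = 0) :
    (j0.appLE (𝒜.toQCAlg.π ⁻¹ᵁ W) W e).hom ρ = 0 := by
  apply TopCat.Sheaf.eq_of_locally_eq' X.sheaf
    (fun T : {T : X.affineOpens // T.1 ≤ W} => T.1.1) W (fun T => homOfLE T.2)
  · intro x hx
    obtain ⟨_, ⟨T, hT : IsAffineOpen T, rfl⟩, hxT, hle⟩ :=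
      X.isBasis_affineOpens.exists_subset_of_mem_open hx W.isOpen
    exact Opens.mem_iSup.mpr ⟨⟨⟨T, hT⟩, hle⟩, hxT⟩
  · intro T
    refine Eq.trans ?_ (map_zero (X.presheaf.map (homOfLE T.2).op).hom).symm
    have e' : T.1.1 ≤ j0 ⁻¹ᵁ (𝒜.toQCAlg.π ⁻¹ᵁ T.1.1) := by
      intro x hx
      change 𝒜.toQCAlg.π (j0 x) ∈ T.1.1
      have : 𝒜.toQCAlg.π (j0 x) = x := congrArg (fun t : X ⟶ X => t x) hj0.comp_π
      rw [this]; exact hx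
    have h1 : j0.appLE (𝒜.toQCAlg.π ⁻¹ᵁ W) W e ≫ X.presheaf.map (homOfLE T.2).op =
        𝒜.toQCAlg.spec.presheaf.map (homOfLE (𝒜.toQCAlg.π.preimage_mono T.2)).op ≫
          j0.appLE (𝒜.toQCAlg.π ⁻¹ᵁ T.1.1) T.1.1 e' := by
      rw [Scheme.Hom.appLE_map, Scheme.Hom.map_appLE]
    have h2 := congrArg (fun k => k.hom ρ) h1
    simp only [CommRingCat.hom_comp, RingHom.comp_apply] at h2
    change (X.presheaf.map (homOfLE T.2).op).hom ((j0.appLE (𝒜.toQCAlg.π ⁻¹ᵁ W) W e).hom ρ) = 0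
    rw [h2, vertex_appLE hj0 T.1.1 T.1.2 e']
    change (aug.hom.app (op T.1.1)).hom ((𝒜.toQCAlg.gammaAff T.1.1 T.1.2).hom
      ((𝒜.toQCAlg.spec.presheaf.map (homOfLE (𝒜.toQCAlg.π.preimage_mono T.2)).op).hom ρ)) = 0
    rw [gammaAff_res ρ σ hρ T.1.2 T.2]
    exact h T.1.1 T.1.2 T.2

variable {L : X.Modules} [L.IsQuasicoherent] {jL : L ⟶ 𝒜.toModule} (hA : IsGrSymAlg L 𝒜 jL)
  (hL : PicF.IsInvertible L) {n : ℕ} (w : PT.Fam 𝒜 W n)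
  (hσ : ∀ (V : X.Opens) (hV : IsAffineOpen V) (hT : V ≤ W),
    w.w V hV hT = (𝒜.presheaf.map (homOfLE hT).op).hom σ)

theorem π_ι_apply {T : X.Opens} (hT : IsAffineOpen T) (v : Spec (𝒜.presheaf.obj (op T))) :
    𝒜.toQCAlg.π ((𝒜.toQCAlg.ι T hT) v) = hT.fromSpec ((Spec.map (𝒜.str.app (op T))) v) := by
  rw [← Scheme.Hom.comp_apply, 𝒜.toQCAlg.ι_π, Scheme.Hom.comp_apply]

include hρ hA hL hσ in
/-- the non-vanishing locus of a homogeneous section lies over `X_σ` -/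
theorem basicOpen_le_preimage_Xw :
    𝒜.toQCAlg.spec.basicOpen ρ ≤ 𝒜.toQCAlg.π ⁻¹ᵁ (PT.Xw w) := by
  intro v hv
  have hvW : 𝒜.toQCAlg.π v ∈ W := 𝒜.toQCAlg.spec.basicOpen_le ρ hv
  obtain ⟨T, e, hxT, hTW, hT, he, -⟩ := exists_frames L hL W _ hvW
  obtain ⟨𝔮, rfl⟩ := exists_ι_of_mem 𝒜.toQCAlg v T hT hxT
  rw [ι_mem_basicOpen_iff ρ σ hρ hT hTW, ← hσ T hT hTW] at hv
  obtain ⟨a, ha⟩ := (frameOf he T le_rfl).exists_eq hA hT (w.mem T hT hTW)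
  have hXw := GA.Xw_inf_eq' hA he hT hTW w a ha
  have hstr : (𝒜.str.app (op T)).hom a ∉ 𝔮.asIdeal := by
    intro hmem
    apply hv
    rw [ha]
    exact Ideal.mul_mem_right _ _ hmem
  have hmem : 𝒜.toQCAlg.π ((𝒜.toQCAlg.ι T hT) 𝔮) ∈ X.basicOpen a := by
    rw [π_ι_apply, GA.fromSpec_mem_basicOpen_iff]
    exact hstr
  rw [← hXw] at hmem
  exact hmem.1

include hρ hA hL hσ in
/-- the non-vanishing locus of a homogeneous section with affine `X_σ` is affine -/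
theorem isAffineOpen_basicOpen (haff : IsAffineOpen (PT.Xw w)) :
    IsAffineOpen (𝒜.toQCAlg.spec.basicOpen ρ) := by
  have hπ : IsAffineOpen (𝒜.toQCAlg.π ⁻¹ᵁ (PT.Xw w)) :=
    IsAffineHom.isAffine_preimage _ haff
  have hle := basicOpen_le_preimage_Xw ρ σ hρ hA hL w hσ
  have h1 : 𝒜.toQCAlg.spec.basicOpen
      ((𝒜.toQCAlg.spec.presheaf.map
        (homOfLE (𝒜.toQCAlg.π.preimage_mono (PT.Xw_le w))).op).hom ρ) =
      𝒜.toQCAlg.spec.basicOpen ρ := by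
    rw [Scheme.basicOpen_res]
    exact inf_eq_right.mpr hle
  rw [← h1]
  exact hπ.basicOpen _

include hρ hA hL hσ in
/-- points off the zero section lying over `X_σ` are in the non-vanishing locus -/
theorem mem_basicOpen_of_mem_pointedCone (v : 𝒜.toQCAlg.spec) (hv : v ∈ pointedCone 𝒜)
    (hvX : 𝒜.toQCAlg.π v ∈ PT.Xw w) : v ∈ 𝒜.toQCAlg.spec.basicOpen ρ := by
  have hvW : 𝒜.toQCAlg.π v ∈ W := PT.Xw_le w hvX
  obtain ⟨T, e, hxT, hTW, hT, he, -⟩ := exists_frames L hL W _ hvW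
  obtain ⟨𝔮, rfl⟩ := exists_ι_of_mem 𝒜.toQCAlg v T hT hxT
  rw [ι_mem_basicOpen_iff ρ σ hρ hT hTW, ← hσ T hT hTW]
  obtain ⟨a, ha⟩ := (frameOf he T le_rfl).exists_eq hA hT (w.mem T hT hTW)
  have hXw := GA.Xw_inf_eq' hA he hT hTW w a ha
  have hmem : 𝒜.toQCAlg.π ((𝒜.toQCAlg.ι T hT) 𝔮) ∈ X.basicOpen a := by
    rw [← hXw]; exact ⟨hvX, hxT⟩
  rw [π_ι_apply, GA.fromSpec_mem_basicOpen_iff] at hmem
  have hstr : (𝒜.str.app (op T)).hom a ∉ 𝔮.asIdeal := hmem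
  rw [AC.ι_mem_pointedCone_iff, AC.mem_vertexCompl_iff_homog] at hv
  obtain ⟨d, hd, f, hf, hf𝔮⟩ := hv
  obtain ⟨b, hb⟩ := (frameOf he T le_rfl).exists_eq hA hT hf
  have ht : (frameOf he T le_rfl).t jL ∉ 𝔮.asIdeal := by
    intro hmem'
    apply hf𝔮
    rw [hb]
    exact Ideal.mul_mem_left _ _ (Ideal.pow_mem_of_mem _ hmem' d hd)
  rw [ha]
  intro hcon
  rcases 𝔮.isPrime.mem_or_mem hcon with h1 | h1
  · exact hstr h1
  · exact ht (𝔮.isPrime.mem_of_pow_mem n h1)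

end

end Groth.Agent.Helper1.GB
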