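import Mathlib
import Groth.Agent.Helper1.GB3
import Groth.Agent.Helper1.GB4
import Groth.Agent.Helper1.CZ4

/-!
# The affine pushout: charts, open immersions
-/

set_option autoImplicit false
set_option linter.style.haveILetI false
set_option linter.unusedSectionVars false

namespace Groth.Agent.Helper1.GB

open CategoryTheory Limits AlgebraicGeometry TopologicalSpace Opposite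
open Groth.Agent.Helper4

universe u

noncomputable section

variable {Y Z₀ Z₁ Z₂ : Scheme.{u}} (f₀ : Z₀ ⟶ Y) (f₁ : Z₁ ⟶ Y) (f₂ : Z₂ ⟶ Y)
  [QuasiCompact f₀] [QuasiSeparated f₀] [QuasiCompact f₁] [QuasiSeparated f₁]
  [QuasiCompact f₂] [QuasiSeparated f₂]
  (h₁ : Z₀ ⟶ Z₁) (h₂ : Z₀ ⟶ Z₂) (w₁ : h₁ ≫ f₁ = f₀) (w₂ : h₂ ≫ f₂ = f₀)

theorem inl_eq_toSpec : inl f₀ f₁ f₂ h₁ h₂ w₁ w₂ =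
    toSpec (pushAlg f₀ f₁ f₂ h₁ h₂ w₁ w₂) f₁
      (fst (AffAlg.algHom f₁ f₀ h₁ w₁) (AffAlg.algHom f₂ f₀ h₂ w₂)) := rfl

theorem inr_eq_toSpec : inr f₀ f₁ f₂ h₁ h₂ w₁ w₂ =
    toSpec (pushAlg f₀ f₁ f₂ h₁ h₂ w₁ w₂) f₂
      (snd (AffAlg.algHom f₁ f₀ h₁ w₁) (AffAlg.algHom f₂ f₀ h₂ w₂)) := rfl

variable (U : Y.Opens) (hU : IsAffineOpen U) (ρ₀ : Γ(Z₂, f₂ ⁻¹ᵁ U))
  (hρ₀ : ((AffAlg.algHom f₂ f₀ h₂ w₂).app (op U)).hom ρ₀ = 0)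

/-- the element `(0, ρ₀)` of the fibre product -/
def chartElt : (pushAlg f₀ f₁ f₂ h₁ h₂ w₁ w₂).presheaf.obj (op U) :=
  (show fibObj (AffAlg.algHom f₁ f₀ h₁ w₁) (AffAlg.algHom f₂ f₀ h₂ w₂) (op U) from
    ⟨(0, ρ₀), by
      rw [mem_fibObj]
      change ((AffAlg.algHom f₁ f₀ h₁ w₁).app (op U)).hom 0 = _
      rw [hρ₀, map_zero]⟩)

/-- the open of the affine pushout attached to `ρ₀` -/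
def chartOpen : (pushAlg f₀ f₁ f₂ h₁ h₂ w₁ w₂).spec.Opens :=
  ((pushAlg f₀ f₁ f₂ h₁ h₂ w₁ w₂).ι U hU) ''ᵁ
    (PrimeSpectrum.basicOpen (chartElt f₀ f₁ f₂ h₁ h₂ w₁ w₂ U ρ₀ hρ₀) :
      (Spec ((pushAlg f₀ f₁ f₂ h₁ h₂ w₁ w₂).presheaf.obj (op U))).Opens)

theorem inr_preimage_chartOpen :
    inr f₀ f₁ f₂ h₁ h₂ w₁ w₂ ⁻¹ᵁ chartOpen f₀ f₁ f₂ h₁ h₂ w₁ w₂ U hU ρ₀ hρ₀ =
      Z₂.basicOpen ρ₀ :=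
  toSpec_preimage (pushAlg f₀ f₁ f₂ h₁ h₂ w₁ w₂) f₂ _
    (lift_snd _ _ _ _ (push_h f₀ f₁ f₂ h₁ h₂ w₁ w₂)) U hU _

theorem inl_preimage_chartOpen :
    inl f₀ f₁ f₂ h₁ h₂ w₁ w₂ ⁻¹ᵁ chartOpen f₀ f₁ f₂ h₁ h₂ w₁ w₂ U hU ρ₀ hρ₀ = ⊥ := by
  have h := toSpec_preimage (pushAlg f₀ f₁ f₂ h₁ h₂ w₁ w₂) f₁ _
    (lift_fst _ _ _ _ (push_h f₀ f₁ f₂ h₁ h₂ w₁ w₂)) U hU
    (chartElt f₀ f₁ f₂ h₁ h₂ w₁ w₂ U ρ₀ hρ₀)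
  have h0 : ((fst (AffAlg.algHom f₁ f₀ h₁ w₁) (AffAlg.algHom f₂ f₀ h₂ w₂)).app (op U)).hom
      (chartElt f₀ f₁ f₂ h₁ h₂ w₁ w₂ U ρ₀ hρ₀) = 0 := rfl
  exact h.trans ((congrArg (fun r => Z₁.basicOpen r) h0).trans (Scheme.basicOpen_zero Z₁ _))

include hU hρ₀ in
theorem isOpenImmersion_inr (haff : IsAffineOpen (Z₂.basicOpen ρ₀)) :
    IsOpenImmersion ((Z₂.basicOpen ρ₀).ι ≫ inr f₀ f₁ f₂ h₁ h₂ w₁ w₂) := by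
  refine isOpenImmersion_toSpec (pushAlg f₀ f₁ f₂ h₁ h₂ w₁ w₂) f₂
    (snd (AffAlg.algHom f₁ f₀ h₁ w₁) (AffAlg.algHom f₂ f₀ h₂ w₂)) U hU
    (chartElt f₀ f₁ f₂ h₁ h₂ w₁ w₂ U ρ₀ hρ₀) haff ?_
  have hM : AwayProp (Z₂.presheaf.map (homOfLE (Z₂.basicOpen_le ρ₀)).op).hom ρ₀ :=
    awayProp_of_isLocalization _ _
      (isLocalization_basicOpen_of_qcqs (f₂.isCompact_preimage hU.isCompact)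
        (f₂.isQuasiSeparated_preimage hU.isQuasiSeparated) ρ₀)
  exact awayProp_snd ((AffAlg.algHom f₁ f₀ h₁ w₁).app (op U)).hom
    ((AffAlg.algHom f₂ f₀ h₂ w₂).app (op U)).hom ρ₀ hρ₀ _ hM

/-- **the open immersion criterion for the affine pushout** -/
theorem isOpenImmersion_of_charts (V0 : Z₂.Opens)
    (hcov : ∀ v ∈ V0, ∃ (U : Y.Opens) (_ : IsAffineOpen U) (ρ₀ : Γ(Z₂, f₂ ⁻¹ᵁ U)),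
      ((AffAlg.algHom f₂ f₀ h₂ w₂).app (op U)).hom ρ₀ = 0 ∧ IsAffineOpen (Z₂.basicOpen ρ₀) ∧
        v ∈ Z₂.basicOpen ρ₀ ∧ Z₂.basicOpen ρ₀ ≤ V0) :
    IsOpenImmersion (V0.ι ≫ inr f₀ f₁ f₂ h₁ h₂ w₁ w₂) ∧
      Set.range (V0.ι ≫ inr f₀ f₁ f₂ h₁ h₂ w₁ w₂).base ∩
        Set.range (inl f₀ f₁ f₂ h₁ h₂ w₁ w₂).base = ∅ := by
  refine ⟨?_, ?_⟩
  · apply CZ.isOpenImmersion_of_charts
    · intro v v' hvv'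
      obtain ⟨U, hU, ρ₀, hρ₀, haff, hv, hle⟩ := hcov v.1 v.2
      have hq : inr f₀ f₁ f₂ h₁ h₂ w₁ w₂ v.1 = inr f₀ f₁ f₂ h₁ h₂ w₁ w₂ v'.1 := hvv'
      have hv' : v'.1 ∈ Z₂.basicOpen ρ₀ := by
        rw [← inr_preimage_chartOpen f₀ f₁ f₂ h₁ h₂ w₁ w₂ U hU ρ₀ hρ₀] at hv ⊢
        change inr f₀ f₁ f₂ h₁ h₂ w₁ w₂ v'.1 ∈ chartOpen f₀ f₁ f₂ h₁ h₂ w₁ w₂ U hU ρ₀ hρ₀
        rw [← hq]
        exact hv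
      haveI := isOpenImmersion_inr f₀ f₁ f₂ h₁ h₂ w₁ w₂ U hU ρ₀ hρ₀ haff
      have hinj := ((Z₂.basicOpen ρ₀).ι ≫ inr f₀ f₁ f₂ h₁ h₂ w₁ w₂).injective
      have h3 : (⟨v.1, hv⟩ : Z₂.basicOpen ρ₀) = ⟨v'.1, hv'⟩ := hinj hq
      have h4 := Subtype.ext_iff.mp h3
      exact Subtype.ext h4
    · intro v
      obtain ⟨U, hU, ρ₀, hρ₀, haff, hv, hle⟩ := hcov v.1 v.2
      refine ⟨_, Z₂.homOfLE hle, inferInstance, ⟨⟨v.1, hv⟩, ?_⟩, ?_⟩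
      · exact Scheme.homOfLE_apply' hle v.1 hv
      · rw [← Category.assoc, Scheme.homOfLE_ι]
        exact isOpenImmersion_inr f₀ f₁ f₂ h₁ h₂ w₁ w₂ U hU ρ₀ hρ₀ haff
  · rw [Set.eq_empty_iff_forall_notMem]
    rintro c ⟨⟨v, hv⟩, ⟨y, hy⟩⟩
    obtain ⟨U, hU, ρ₀, hρ₀, haff, hvρ, hle⟩ := hcov v.1 v.2
    have h1 : inr f₀ f₁ f₂ h₁ h₂ w₁ w₂ v.1 ∈ chartOpen f₀ f₁ f₂ h₁ h₂ w₁ w₂ U hU ρ₀ hρ₀ := by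
      rw [← inr_preimage_chartOpen f₀ f₁ f₂ h₁ h₂ w₁ w₂ U hU ρ₀ hρ₀] at hvρ
      exact hvρ
    have h2 : y ∈ inl f₀ f₁ f₂ h₁ h₂ w₁ w₂ ⁻¹ᵁ chartOpen f₀ f₁ f₂ h₁ h₂ w₁ w₂ U hU ρ₀ hρ₀ := by
      change inl f₀ f₁ f₂ h₁ h₂ w₁ w₂ y ∈ chartOpen f₀ f₁ f₂ h₁ h₂ w₁ w₂ U hU ρ₀ hρ₀
      have e : inl f₀ f₁ f₂ h₁ h₂ w₁ w₂ y = inr f₀ f₁ f₂ h₁ h₂ w₁ w₂ v.1 := hy.trans hv.symm
      rw [e]
      exact h1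
    rw [inl_preimage_chartOpen] at h2
    exact h2

end

end Groth.Agent.Helper1.GB
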