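import Mathlib
import Groth.Agent.Helper1.GB6
import Groth.Agent.Helper1.GB7
import Groth.Agent.Helper4.SN357

/-!
# Grauert's criterion, necessity: the contraction of the zero section of an ample line bundle
-/

set_option autoImplicit false
set_option linter.style.haveILetI false
set_option linter.unusedSectionVars false

namespace Groth.Agent.Helper1.GB

open CategoryTheory Limits AlgebraicGeometry TopologicalSpace Opposite RelProj RelCone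
  Groth.Agent.Helper1.RP Groth.Agent.Helper1.PC Groth.Agent.Helper1.PL
  Groth.Agent.Helper4.SN349 Groth.Agent.Helper4.SN353
open Groth.Agent.Helper4
open scoped HomogeneousIdeal

universe u

noncomputable section

variable {X Y : Scheme.{u}} (p : X ⟶ Y) [IsSeparated p] [QuasiCompact p]
  {L : X.Modules} [L.IsQuasicoherent] {𝒜 : QCGrAlg X} {jL : L ⟶ 𝒜.toModule}
  (hA : IsGrSymAlg L 𝒜 jL) (hL : PicF.IsInvertible L) (h0 : StrZeroBij 𝒜)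
  {aug : 𝒜.toQCAlg ⟶ RelSpec.QCAlg.unit X} (haug : IsAugmentation 𝒜 aug)
  {j0 : X ⟶ 𝒜.toQCAlg.spec} (hj0 : IsVertex 𝒜 aug j0)

include hj0 in
theorem w₂ : j0 ≫ 𝒜.toQCAlg.π ≫ p = p := by
  rw [← Category.assoc, hj0.comp_π, Category.id_comp]

include hj0 in
theorem π_vertex (x : X) : 𝒜.toQCAlg.π (j0 x) = x :=
  congrArg (fun t : X ⟶ X => t x) hj0.comp_π

include h0 haug hj0 in
/-- a function on the line bundle vanishing on the zero section has its non-vanishing locus off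
the zero section -/
theorem basicOpen_le_pointedCone {W : X.Opens} (ρ : Γ(𝒜.toQCAlg.spec, 𝒜.toQCAlg.π ⁻¹ᵁ W))
    (e : W ≤ j0 ⁻¹ᵁ (𝒜.toQCAlg.π ⁻¹ᵁ W))
    (hρ : (j0.appLE (𝒜.toQCAlg.π ⁻¹ᵁ W) W e).hom ρ = 0) :
    𝒜.toQCAlg.spec.basicOpen ρ ≤ pointedCone 𝒜 := by
  intro v hv
  by_contra hcon
  have h1 : v ∈ Set.range j0 := by
    have h2 := AC.pointedCone_eq_compl h0 aug haug j0 hj0
    have h3 : v ∉ ((pointedCone 𝒜 : 𝒜.toQCAlg.spec.Opens) : Set 𝒜.toQCAlg.spec) := hcon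
    rw [h2, Set.mem_compl_iff, not_not] at h3
    exact h3
  obtain ⟨x, rfl⟩ := h1
  have hxW : x ∈ W := by
    have := 𝒜.toQCAlg.spec.basicOpen_le ρ hv
    change 𝒜.toQCAlg.π (j0 x) ∈ W at this
    rwa [π_vertex hj0] at this
  have h4 := Scheme.basicOpen_appLE j0 W (𝒜.toQCAlg.π ⁻¹ᵁ W) e ρ
  have h5 : x ∈ (W ⊓ j0 ⁻¹ᵁ (𝒜.toQCAlg.spec.basicOpen ρ) : X.Opens) := ⟨hxW, hv⟩
  rw [← h4] at h5
  have h6 : X.basicOpen ((j0.appLE (𝒜.toQCAlg.π ⁻¹ᵁ W) W e).hom ρ) = ⊥ := by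
    rw [hρ]; exact Scheme.basicOpen_zero X W
  rw [h6] at h5
  exact h5

include hA hL h0 haug hj0 in
/-- around every point of `X` over an affine open `U` of `Y` there is a chart -/
theorem exists_chart_over (hamp : RelAmple.IsRelAmple p L) (U : Y.Opens) (hU : IsAffineOpen U)
    (x : X) (hx : x ∈ p ⁻¹ᵁ U) :
    ∃ (ρ₀ : Γ(𝒜.toQCAlg.spec, (𝒜.toQCAlg.π ≫ p) ⁻¹ᵁ U)) (O : X.Opens), x ∈ O ∧
      ((AffAlg.algHom (𝒜.toQCAlg.π ≫ p) p j0 (w₂ p hj0)).app (op U)).hom ρ₀ = 0 ∧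
      IsAffineOpen (𝒜.toQCAlg.spec.basicOpen ρ₀) ∧
      𝒜.toQCAlg.spec.basicOpen ρ₀ ≤ pointedCone 𝒜 ∧
      ∀ v ∈ pointedCone 𝒜, 𝒜.toQCAlg.π v ∈ O → v ∈ 𝒜.toQCAlg.spec.basicOpen ρ₀ := by
  obtain ⟨m, t, hxt, haff⟩ := SN357.exists_sec_of_isAmple hA hL (p ⁻¹ᵁ U) (hamp.2 ⟨U, hU⟩) x hx
  haveI := RelSpecIso.isIso_gammaMap 𝒜.toQCAlg
  let σ₀ : 𝒜.presheaf.obj (op (p ⁻¹ᵁ U)) := σ (j := jL) (m + 1) (p ⁻¹ᵁ U) t
  let ρ : Γ(𝒜.toQCAlg.spec, 𝒜.toQCAlg.π ⁻¹ᵁ (p ⁻¹ᵁ U)) :=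
    (inv (𝒜.toQCAlg.gammaMap.app (op (p ⁻¹ᵁ U)))).hom σ₀
  have hρ : (𝒜.toQCAlg.gammaMap.app (op (p ⁻¹ᵁ U))).hom ρ = σ₀ :=
    congrArg (fun k => k.hom σ₀) (IsIso.inv_hom_id (𝒜.toQCAlg.gammaMap.app (op (p ⁻¹ᵁ U))))
  have hσ : ∀ (V : X.Opens) (hV : IsAffineOpen V) (hT : V ≤ p ⁻¹ᵁ U),
      (secFam hA hL (m + 1) (p ⁻¹ᵁ U) t).w V hV hT = (𝒜.presheaf.map (homOfLE hT).op).hom σ₀ :=
    fun _ _ _ => rfl
  have e : p ⁻¹ᵁ U ≤ j0 ⁻¹ᵁ (𝒜.toQCAlg.π ⁻¹ᵁ (p ⁻¹ᵁ U)) := by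
    intro z hz
    change 𝒜.toQCAlg.π (j0 z) ∈ p ⁻¹ᵁ U
    rw [π_vertex hj0]; exact hz
  have hvan : (j0.appLE (𝒜.toQCAlg.π ⁻¹ᵁ (p ⁻¹ᵁ U)) (p ⁻¹ᵁ U) e).hom ρ = 0 :=
    vertex_appLE_eq_zero ρ σ₀ hρ hj0 e (fun T hT hTW => by
      rw [← hσ T hT hTW]
      exact haug T hT m _ ((secFam hA hL (m + 1) (p ⁻¹ᵁ U) t).mem T hT hTW))
  refine ⟨ρ, PT.Xw (secFam hA hL (m + 1) (p ⁻¹ᵁ U) t), hxt, ?_,
    isAffineOpen_basicOpen ρ σ₀ hρ hA hL _ hσ haff,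
    basicOpen_le_pointedCone h0 haug hj0 ρ e hvan,
    fun v hv hvX => mem_basicOpen_of_mem_pointedCone ρ σ₀ hρ hA hL _ hσ v hv hvX⟩
  rw [DP.algHom_app (𝒜.toQCAlg.π ≫ p) p j0 (w₂ p hj0) U]
  exact hvan

include hA hL h0 haug hj0 in
/-- **Grauert's criterion, necessity** -/
theorem grauert_necessity (hamp : RelAmple.IsRelAmple p L) (V0 : 𝒜.toQCAlg.spec.Opens)
    (hV0 : V0 = pointedCone 𝒜) :
    ∃ (C : Scheme.{u}) (g : C ⟶ Y) (ε : Y ⟶ C) (q : 𝒜.toQCAlg.spec ⟶ C),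
      ε ≫ g = 𝟙 Y ∧ q ≫ g = 𝒜.toQCAlg.π ≫ p ∧ j0 ≫ q = p ≫ ε ∧
        IsOpenImmersion (V0.ι ≫ q) ∧ QuasiCompact (V0.ι ≫ q) ∧
          Set.range (V0.ι ≫ q).base ∩ Set.range ε.base = ∅ ∧ IsAffineHom g := by
  subst hV0
  have hcov : ∀ v ∈ pointedCone 𝒜, ∃ (U : Y.Opens) (_ : IsAffineOpen U)
      (ρ₀ : Γ(𝒜.toQCAlg.spec, (𝒜.toQCAlg.π ≫ p) ⁻¹ᵁ U)),
      ((AffAlg.algHom (𝒜.toQCAlg.π ≫ p) p j0 (w₂ p hj0)).app (op U)).hom ρ₀ = 0 ∧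
        IsAffineOpen (𝒜.toQCAlg.spec.basicOpen ρ₀) ∧
        v ∈ 𝒜.toQCAlg.spec.basicOpen ρ₀ ∧ 𝒜.toQCAlg.spec.basicOpen ρ₀ ≤ pointedCone 𝒜 := by
    intro v hv
    obtain ⟨_, ⟨U, hU : IsAffineOpen U, rfl⟩, hyU, -⟩ :=
      Y.isBasis_affineOpens.exists_subset_of_mem_open
        (Set.mem_univ (p (𝒜.toQCAlg.π v))) isOpen_univ
    obtain ⟨ρ₀, O, hxO, hvan, haff, hle, hmem⟩ :=
      exists_chart_over p hA hL h0 haug hj0 hamp U hU (𝒜.toQCAlg.π v) hyU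
    exact ⟨U, hU, ρ₀, hvan, haff, hmem v hv hxO, hle⟩
  obtain ⟨hoi, hdisj⟩ := isOpenImmersion_of_charts p (𝟙 Y) (𝒜.toQCAlg.π ≫ p) p j0
    (Category.comp_id p) (w₂ p hj0) (pointedCone 𝒜) hcov
  refine ⟨_, (pushAlg p (𝟙 Y) (𝒜.toQCAlg.π ≫ p) p j0 (Category.comp_id p) (w₂ p hj0)).π,
    inl p (𝟙 Y) (𝒜.toQCAlg.π ≫ p) p j0 (Category.comp_id p) (w₂ p hj0),
    inr p (𝟙 Y) (𝒜.toQCAlg.π ≫ p) p j0 (Category.comp_id p) (w₂ p hj0),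
    inl_π _ _ _ _ _ _ _, inr_π _ _ _ _ _ _ _, (push_condition _ _ _ _ _ _ _).symm, hoi, ?_, hdisj,
    inferInstance⟩
  -- quasi-compactness
  haveI : QuasiCompact (((pointedCone 𝒜).ι ≫
      inr p (𝟙 Y) (𝒜.toQCAlg.π ≫ p) p j0 (Category.comp_id p) (w₂ p hj0)) ≫
      (pushAlg p (𝟙 Y) (𝒜.toQCAlg.π ≫ p) p j0 (Category.comp_id p) (w₂ p hj0)).π) := by
    rw [Category.assoc, inr_π]
    rw [quasiCompact_iff_forall_isAffineOpen]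
    intro U hU
    have hWc : IsCompact ((p ⁻¹ᵁ U : X.Opens) : Set X) :=
      QuasiCompact.isCompact_preimage (f := p) _ U.isOpen hU.isCompact
    choose ρ₀ O hxO hvan haff hle hmem using fun x : (p ⁻¹ᵁ U : X.Opens) =>
      exists_chart_over p hA hL h0 haug hj0 hamp U hU x.1 x.2
    obtain ⟨t, ht⟩ := hWc.elim_finite_subcover (fun x : (p ⁻¹ᵁ U : X.Opens) => (O x : Set X))
      (fun x => (O x).isOpen) (fun z hz => Set.mem_iUnion.mpr ⟨⟨z, hz⟩, hxO ⟨z, hz⟩⟩)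
    rw [(pointedCone 𝒜).ι.isOpenEmbedding.isEmbedding.isCompact_iff]
    have hK : (pointedCone 𝒜).ι '' (((pointedCone 𝒜).ι ≫ 𝒜.toQCAlg.π ≫ p) ⁻¹ᵁ U : Set _) =
        ⋃ x ∈ t, (𝒜.toQCAlg.spec.basicOpen (ρ₀ x) : Set 𝒜.toQCAlg.spec) := by
      ext v
      constructor
      · rintro ⟨v', hv', rfl⟩
        have hπ : 𝒜.toQCAlg.π v'.1 ∈ p ⁻¹ᵁ U := hv'
        obtain ⟨x, hx⟩ := Set.mem_iUnion.mp (ht hπ)
        obtain ⟨hxt, hxO'⟩ := Set.mem_iUnion.mp hx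
        exact Set.mem_iUnion₂.mpr ⟨x, hxt, hmem x v'.1 v'.2 hxO'⟩
      · intro hv
        obtain ⟨x, hxt, hvx⟩ := Set.mem_iUnion₂.mp hv
        refine ⟨⟨v, hle x hvx⟩, ?_, rfl⟩
        exact 𝒜.toQCAlg.spec.basicOpen_le (ρ₀ x) hvx
    rw [hK]
    exact t.finite_toSet.isCompact_biUnion (fun x _ => (haff x).isCompact)
  exact QuasiCompact.of_comp _
    (pushAlg p (𝟙 Y) (𝒜.toQCAlg.π ≫ p) p j0 (Category.comp_id p) (w₂ p hj0)).π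

end

end Groth.Agent.Helper1.GB
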