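import Groth.Agent.Helper6.PushEdge2

set_option autoImplicit false
set_option linter.unusedVariables false
universe u
open CategoryTheory CategoryTheory.Limits AlgebraicGeometry TopologicalSpace Opposite

/-!
# The pullback on cohomology as the edge map after the unit
-/

noncomputable section

namespace Groth.Agent.Helper1.GBC

open Groth.Agent.Helper6

variable {X Y : Scheme.{u}} (g : X ⟶ Y)

/-- `theta` is `g⁻¹` of the unit followed by the counit of `g⁻¹ ⊣ g_*` -/
lemma theta_eq (F : Y.Modules) :
    CohPull.theta g F =
      (CohPull.inv g.base).map ((SheafOfModules.toSheaf Y.ringCatSheaf).map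
        ((Scheme.Modules.pullbackPushforwardAdjunction g).unit.app F)) ≫
      PushEdge1.cou g.base (Coh.toAb ((Scheme.Modules.pullback g).obj F)) :=
  (CohPull.invPushAdj g.base).homEquiv_counit _ _ _

/-- the pullback of cohomology classes is the map induced by the unit `F ⟶ g_* g^* F` followed by
the edge map -/
theorem pullMod_eq_pushEdge (F : Y.Modules) (p : ℕ) (x : Coh.HH Y F p) :
    CohPull.pullMod g F p x =
      CohPull.pushEdge g ((Scheme.Modules.pullback g).obj F) p
        (CohPull.mapH ((Scheme.Modules.pullbackPushforwardAdjunction g).unit.app F) p x) := by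
  rw [PushEdge2.pushEdge_apply, PushEdge1.edge_apply]
  have h1 := PushEdge1.pullAb_natural g.base
    ((SheafOfModules.toSheaf Y.ringCatSheaf).map
      ((Scheme.Modules.pullbackPushforwardAdjunction g).unit.app F)) p x
  refine Eq.trans ?_ (congrArg (fun y => Sheaf.H.map (PushEdge1.cou g.base
    (Coh.toAb ((Scheme.Modules.pullback g).obj F))) p y) h1.symm)
  show CohPull.pullMod g F p x = Sheaf.H.map (PushEdge1.cou g.base
    (Coh.toAb ((Scheme.Modules.pullback g).obj F))) p
      (Sheaf.H.map ((CohPull.inv g.base).map ((SheafOfModules.toSheaf Y.ringCatSheaf).map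
        ((Scheme.Modules.pullbackPushforwardAdjunction g).unit.app F))) p
        (CohPull.pullAb g.base (Coh.toAb F) p x))
  refine Eq.trans ?_ (Sheaf.H.map_comp_apply
    ((CohPull.inv g.base).map ((SheafOfModules.toSheaf Y.ringCatSheaf).map
        ((Scheme.Modules.pullbackPushforwardAdjunction g).unit.app F)))
    (PushEdge1.cou g.base (Coh.toAb ((Scheme.Modules.pullback g).obj F)))
    (CohPull.pullAb g.base (Coh.toAb F) p x))
  have h3 := theta_eq g F
  exact congrArg (fun t => Sheaf.H.map t p (CohPull.pullAb g.base (Coh.toAb F) p x)) h3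

/-- the edge map is natural in the module -/
theorem pushEdge_natural {G G' : X.Modules} (ψ : G ⟶ G') (p : ℕ)
    (y : Coh.HH Y ((Scheme.Modules.pushforward g).obj G) p) :
    CohPull.pushEdge g G' p (CohPull.mapH ((Scheme.Modules.pushforward g).map ψ) p y) =
      CohPull.mapH ψ p (CohPull.pushEdge g G p y) := by
  rw [PushEdge2.pushEdge_apply, PushEdge2.pushEdge_apply]
  exact PushEdge1.edge_natural g.base ((SheafOfModules.toSheaf X.ringCatSheaf).map ψ) p y

end Groth.Agent.Helper1.GBC

end
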