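import Groth.Agent.Helper1.ACech7
import Groth.Agent.Helper6.SectCmpSurj

set_option autoImplicit false
set_option linter.unusedVariables false
universe u
open CategoryTheory CategoryTheory.Limits AlgebraicGeometry TopologicalSpace Opposite TensorProduct

/-!
# Functoriality of the `A`-module Čech complex in the module, and naturality of the comparison
with cohomology
-/

noncomputable section

namespace Groth.Agent.Helper1.GBC

open Groth.Agent.Helper1.Cech Groth.Agent.Helper1.TensSec Groth.Agent.Helper1.NatCech
open Groth.Agent.Helper1.ACech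

variable (A : Type u) [CommRing A] {X : Scheme.{u}} [X.Over (Spec (CommRingCat.of A))]

section

variable {F G : X.Modules} (φ : F ⟶ G)

/-- the map on sections over an open, `A`-linearly -/
def secMap (V : X.Opens) : SecA A F V →ₗ[A] SecA A G V where
  toFun s := φ.app V (show Γ(F, V) from s)
  map_add' s s' := map_add _ _ _
  map_smul' a s := by
    change φ.app V (ρV A V a • (show Γ(F, V) from s)) = ρV A V a • φ.app V (show Γ(F, V) from s)
    rw [Scheme.Modules.Hom.app_smul]

lemma secMap_apply (V : X.Opens) (s : SecA A F V) :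
    secMap A φ V s = φ.app V (show Γ(F, V) from s) := rfl

lemma secMap_res {V V' : X.Opens} (i : V' ⟶ V) (s : SecA A F V) :
    secMap A φ V' (resA A F i s) = resA A G i (secMap A φ V s) :=
  Groth.Agent.Helper6.SectCmpSurj.app_map φ i (show Γ(F, V) from s)

variable {ι : Type u} (U : ι → X.Opens)

/-- the map on cochains -/
def coMap (n : ℕ) : Co A U F n →ₗ[A] Co A U G n :=
  LinearMap.pi fun x => (secMap A φ (prodU U x)).comp (LinearMap.proj x)

lemma coMap_apply (n : ℕ) (c : Co A U F n) (x : Fin (n + 1) → ι) :
    coMap A φ U n c x = secMap A φ (prodU U x) (c x) := rfl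

lemma coMap_dA (n : ℕ) (c : Co A U F n) :
    coMap A φ U (n + 1) (dA A U F n c) = dA A U G n (coMap A φ U n c) := by
  funext x
  rw [coMap_apply, dA_apply, dA_apply, map_sum]
  refine Finset.sum_congr rfl fun j _ => ?_
  rw [map_zsmul, secMap_res, coMap_apply]

/-- the map of Čech complexes induced by a morphism of modules -/
def CAmap : CA A U F ⟶ CA A U G :=
  CochainComplex.ofHom (X := CA A U F) (Y := CA A U G)
    (fun n => ModuleCat.ofHom (coMap A φ U n)) (fun n => by
    rw [CA_d, CA_d]
    apply ModuleCat.hom_ext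
    apply LinearMap.ext
    intro c
    exact (coMap_dA A φ U n c).symm)

lemma CAmap_f_apply (n : ℕ) (c : Co A U F n) :
    ((CAmap A φ U).f n).hom c = coMap A φ U n c := rfl

/-- `CAmap` corresponds to the map of Mathlib's Čech complexes -/
lemma CAmap_cxF :
    ((forget₂ (ModuleCat.{u} A) AddCommGrpCat.{u}).mapHomologicalComplex _).map
        (CAmap A φ U) ≫ (cxF A U G).hom =
      (cxF A U F).hom ≫ (cechComplexFunctor U).map ((Φ X).map φ) := by
  apply HomologicalComplex.hom_ext
  intro n
  apply AddCommGrpCat.hom_ext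
  apply AddMonoidHom.ext
  intro (c : Co A U F n)
  rw [HomologicalComplex.comp_f, HomologicalComplex.comp_f, ConcreteCategory.comp_apply,
    ConcreteCategory.comp_apply, cxF_hom_f_apply]
  change mkE A U G n (coMap A φ U n c) = _
  rw [cxF_hom_f_apply]
  apply Cech.ext
  intro x
  rw [comp_mkE, Cech.comp_map, comp_mkE]
  rfl

/-- naturality of `ψ` -/
lemma ψ_nat (n : ℕ) :
    (forget₂ (ModuleCat.{u} A) AddCommGrpCat.{u}).map
        (HomologicalComplex.homologyMap (CAmap A φ U) n) ≫ (ψ A U G n).hom =
      (ψ A U F n).hom ≫ (cechHFun U n).map ((Φ X).map φ) := by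
  have h1 := (forgetHomologyIso A (ComplexShape.up ℕ) n).inv.naturality (CAmap A φ U)
  have h2 := congrArg (fun φ => HomologicalComplex.homologyMap φ n) (CAmap_cxF A φ U)
  simp only [HomologicalComplex.homologyMap_comp] at h2
  unfold ψ
  simp only [Iso.trans_hom, Iso.symm_hom, Iso.app_inv, HomologicalComplex.homologyMapIso_hom,
    Category.assoc]
  change (HomologicalComplex.homologyFunctor _ _ n ⋙ forget₂ _ _).map (CAmap A φ U) ≫ _ = _
  refine (Category.assoc _ _ _).symm.trans ?_
  refine (congrArg (fun t => t ≫ HomologicalComplex.homologyMap (cxF A U G).hom n) h1).trans ?_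
  refine (Category.assoc _ _ _).trans ?_
  exact congrArg (fun t => (forgetHomologyIso A (ComplexShape.up ℕ) n).inv.app (CA A U F) ≫ t) h2

end

end Groth.Agent.Helper1.GBC

end
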