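import Groth.Agent.Helper1.GBC2
import Groth.Agent.Helper1.GBC1

set_option autoImplicit false
set_option linter.unusedVariables false
universe u
open CategoryTheory CategoryTheory.Limits AlgebraicGeometry TopologicalSpace Opposite TensorProduct

/-!
# A natural family of linear equivalences between Čech cohomology and cohomology of
quasi-coherent modules
-/

noncomputable section

namespace Groth.Agent.Helper1.GBC

open Groth.Agent.Helper1.Cech Groth.Agent.Helper1.TensSec Groth.Agent.Helper1.NatCech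
open Groth.Agent.Helper1.ACech

variable (A : Type u) [CommRing A] {X : Scheme.{u}} [X.Over (Spec (CommRingCat.of A))]
  {t : ℕ} (U : Fin t → X.Opens) (hU : ∀ k, IsAffineOpen (U k))
  (hd : ∀ V W : X.Opens, IsAffineOpen V → IsAffineOpen W → IsAffineOpen (V ⊓ W))
  (hcov : ⨆ k, U k = ⊤)

include hU hd hcov in
/-- a family of `A`-linear equivalences `H^n(CA(G)) ≃ H^n(X, G)` for quasi-coherent `G`,
natural in `G` -/
theorem exists_natural_equiv (n : ℕ) :
    ∃ e : ∀ (G : X.Modules), G.IsQuasicoherent →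
        ((CA A (Uc U) G).homology n ≃ₗ[A] Coh.HH X G n),
      ∀ (G G' : X.Modules) (hG : G.IsQuasicoherent) (hG' : G'.IsQuasicoherent) (φ : G ⟶ G')
        (x : (CA A (Uc U) G).homology n),
        e G' hG' ((HomologicalComplex.homologyMap (CAmap A φ (Uc U)) n).hom x) =
          CohPull.mapH φ n (e G hG x) := by
  let Pq : ObjectProperty X.Modules := fun N => N.IsQuasicoherent
  let Gf : Pq.FullSubcategory ⥤ X.Modules := Pq.ι
  obtain ⟨η⟩ := nonempty_natIso U hU hd hcov Gf (fun j => j.property) n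
  let e0 : ∀ (G : X.Modules) (hG : G.IsQuasicoherent),
      (forget₂ (ModuleCat.{u} A) AddCommGrpCat.{u}).obj ((CA A (Uc U) G).homology n) ≅
        (CohIII.HAb X n).obj G := fun G hG =>
    ψ A (Uc U) G n ≪≫ η.app (⟨G, hG⟩ : Pq.FullSubcategory) ≪≫ (hdIso X n).app G
  -- naturality of `e0`
  have hnat : ∀ (G G' : X.Modules) (hG : G.IsQuasicoherent) (hG' : G'.IsQuasicoherent)
      (φ : G ⟶ G'),
      (forget₂ (ModuleCat.{u} A) AddCommGrpCat.{u}).map
          (HomologicalComplex.homologyMap (CAmap A φ (Uc U)) n) ≫ (e0 G' hG').hom =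
        (e0 G hG).hom ≫ (CohIII.HAb X n).map φ := by
    intro G G' hG hG' φ
    have h1 := ψ_nat A φ (Uc U) n
    have h2 := η.hom.naturality
      (ObjectProperty.homMk φ : (⟨G, hG⟩ : Pq.FullSubcategory) ⟶ ⟨G', hG'⟩)
    have h3 := (hdIso X n).hom.naturality φ
    change _ ≫ ((ψ A (Uc U) G' n).hom ≫ η.hom.app ⟨G', hG'⟩ ≫ (hdIso X n).hom.app G') = _
    rw [reassoc_of% h1]
    change _ = ((ψ A (Uc U) G n).hom ≫ η.hom.app ⟨G, hG⟩ ≫ (hdIso X n).hom.app G) ≫ _
    simp only [Category.assoc]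
    have h2' : (cechHFun (Uc U) n).map ((Φ X).map φ) ≫ η.hom.app ⟨G', hG'⟩ =
        η.hom.app ⟨G, hG⟩ ≫ ((HD X).T n).map φ := h2
    rw [reassoc_of% h2']
    congr 2
  -- linearity
  have hlin : ∀ (G : X.Modules) (hG : G.IsQuasicoherent) (a : A)
      (x : (CA A (Uc U) G).homology n),
      ((e0 G hG).hom (a • x) : Coh.HH X G n) =
        a • (show Coh.HH X G n from (e0 G hG).hom x) := by
    intro G hG a x
    haveI := hG
    have h1 := ψ_smul A (Uc U) G n a
    have h2 := η.hom.naturality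
      (ObjectProperty.homMk (Formal.smulMod A G a) : (⟨G, hG⟩ : Pq.FullSubcategory) ⟶ ⟨G, hG⟩)
    have h4 : (forget₂ (ModuleCat.{u} A) AddCommGrpCat.{u}).map
        (HomologicalComplex.homologyMap (a • 𝟙 (CA A (Uc U) G)) n) ≫ (e0 G hG).hom =
        (e0 G hG).hom ≫ (CohIII.HAb X n).map (Formal.smulMod A G a) := by
      change _ ≫ ((ψ A (Uc U) G n).hom ≫ η.hom.app ⟨G, hG⟩ ≫ (hdIso X n).hom.app G) = _
      rw [reassoc_of% h1]
      change _ = ((ψ A (Uc U) G n).hom ≫ η.hom.app ⟨G, hG⟩ ≫ (hdIso X n).hom.app G) ≫ _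
      simp only [Category.assoc]
      have h2' : (cechHFun (Uc U) n).map ((Φ X).map (Formal.smulMod A G a)) ≫
          η.hom.app ⟨G, hG⟩ = η.hom.app ⟨G, hG⟩ ≫ ((HD X).T n).map (Formal.smulMod A G a) := h2
      rw [reassoc_of% h2']
      congr 2
    have h5 := ConcreteCategory.congr_hom h4 x
    rw [ConcreteCategory.comp_apply, ConcreteCategory.comp_apply] at h5
    rw [← homologyMap_smul_apply A U G n a x]
    exact h5
  refine ⟨fun G hG => { (e0 G hG).addCommGroupIsoToAddEquiv with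
    map_smul' := fun a x => hlin G hG a x }, ?_⟩
  intro G G' hG hG' φ x
  have h5 := ConcreteCategory.congr_hom (hnat G G' hG hG' φ) x
  rw [ConcreteCategory.comp_apply, ConcreteCategory.comp_apply] at h5
  exact h5

end Groth.Agent.Helper1.GBC

end
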