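import Groth.Agent.Helper1.BCFlatCoh
import Groth.Agent.Helper1.FlatCxBC2

set_option autoImplicit false
set_option linter.unusedVariables false
universe u
open CategoryTheory CategoryTheory.Limits MonoidalCategory TensorProduct

/-!
# The canonical map `H_q(P) → H_q(P ⊗_A B)` of a complex of `A`-modules
-/

noncomputable section

namespace Groth.Agent.Helper1.HMap

open Groth.Agent.Helper1.FlatCx Groth.Agent.Helper1.BCFlatCoh Groth.Agent.Helper1

variable {A : Type u} [CommRing A] (B : Type u) [CommRing B] [Algebra A B]
  {ι : Type} {c : ComplexShape ι}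

/-- the unit chain map `P ⟶ (P ⊗_A B)` restricted to `A` -/
def unitCx (P : HomologicalComplex (ModuleCat.{u} A) c) :
    P ⟶ ((ModuleCat.restrictScalars.{u, u, u} (algebraMap A B)).mapHomologicalComplex c).obj
      (CohIII.bcCx (algebraMap A B) P) where
  f i := (ModuleCat.extendRestrictScalarsAdj.{u, u, u} (algebraMap A B)).unit.app (P.X i)
  comm' i j _ :=
    ((ModuleCat.extendRestrictScalarsAdj.{u, u, u} (algebraMap A B)).unit.naturality (P.d i j)).symm

/-- the canonical map `H_q(P) ⟶ H_q(P ⊗_A B)`, `A`-linearly -/
def hmapM (P : HomologicalComplex (ModuleCat.{u} A) c) (q : ι) :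
    P.homology q ⟶ (ModuleCat.restrictScalars.{u, u, u} (algebraMap A B)).obj
      ((CohIII.bcCx (algebraMap A B) P).homology q) :=
  HomologicalComplex.homologyMap (unitCx B P) q ≫
    (((CohIII.bcCx (algebraMap A B) P).sc q).mapHomologyIso
      (ModuleCat.restrictScalars.{u, u, u} (algebraMap A B))).hom

/-- naturality of the unit chain map -/
lemma unitCx_naturality {P Q : HomologicalComplex (ModuleCat.{u} A) c} (f : P ⟶ Q) :
    f ≫ unitCx B Q = unitCx B P ≫
      ((ModuleCat.restrictScalars.{u, u, u} (algebraMap A B)).mapHomologicalComplex c).map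
        (((ModuleCat.extendScalars.{u, u, u} (algebraMap A B)).mapHomologicalComplex c).map f) := by
  apply HomologicalComplex.hom_ext
  intro i
  exact (ModuleCat.extendRestrictScalarsAdj.{u, u, u} (algebraMap A B)).unit.naturality (f.f i)

/-- naturality of the canonical map -/
theorem hmapM_naturality {P Q : HomologicalComplex (ModuleCat.{u} A) c} (f : P ⟶ Q) (q : ι) :
    HomologicalComplex.homologyMap f q ≫ hmapM B Q q =
      hmapM B P q ≫ (ModuleCat.restrictScalars.{u, u, u} (algebraMap A B)).map
        (HomologicalComplex.homologyMap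
          (((ModuleCat.extendScalars.{u, u, u} (algebraMap A B)).mapHomologicalComplex c).map f) q) := by
  unfold hmapM
  have h1 := congrArg (fun t => HomologicalComplex.homologyMap t q) (unitCx_naturality B f)
  simp only [HomologicalComplex.homologyMap_comp] at h1
  rw [← Category.assoc, h1, Category.assoc, Category.assoc]
  congr 1
  exact ShortComplex.mapHomologyIso_hom_naturality
    ((HomologicalComplex.shortComplexFunctor _ _ q).map
      (((ModuleCat.extendScalars.{u, u, u} (algebraMap A B)).mapHomologicalComplex c).map f))
    (ModuleCat.restrictScalars.{u, u, u} (algebraMap A B))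

end Groth.Agent.Helper1.HMap

end
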