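import Groth.Agent.Helper1.GBC3
import Groth.Agent.Helper1.CechBC4
import Groth.Agent.Helper1.HMap1

set_option autoImplicit false
set_option linter.unusedVariables false
universe u
open CategoryTheory CategoryTheory.Limits AlgebraicGeometry TopologicalSpace Opposite TensorProduct

/-!
# The Čech complex of a direct image under an affine base change
-/

noncomputable section

namespace Groth.Agent.Helper1.GBC

open Groth.Agent.Helper1.Cech Groth.Agent.Helper1.TensSec Groth.Agent.Helper1.NatCech
open Groth.Agent.Helper1.ACech Groth.Agent.Helper1.CechBC Groth.Agent.Lead.BCMap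

variable (A A' : Type u) [CommRing A] [CommRing A'] [Algebra A A'] {X X' : Scheme.{u}}
  [X.Over (Spec (CommRingCat.of A))] [X'.Over (Spec (CommRingCat.of A'))] (g' : X' ⟶ X)
  (hsq : IsPullback g' (X' ↘ Spec (CommRingCat.of A')) (X ↘ Spec (CommRingCat.of A))
    (Spec.map (CommRingCat.ofHom (algebraMap A A'))))

include hsq in
lemma app_ρV (V : X.Opens) (hV : IsAffineOpen V) (a : A) :
    (g'.app V).hom (ρV A V a) = ρV A' (g' ⁻¹ᵁ V) (algebraMap A A' a) := by
  have h := (isPushout_sections A A' g' hsq V hV).w
  have h2 := congrArg (fun t => t.hom a) h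
  simpa [Scheme.Hom.appLE] using h2

/-- `g'_* G'` -/
abbrev Np (G' : X'.Modules) : X.Modules := (Scheme.Modules.pushforward g').obj G'

lemma Np_smul (G' : X'.Modules) (V : X.Opens) (r : Γ(X, V)) (s : Γ(Np g' G', V)) :
    r • s = ((g'.app V).hom r • (show Γ(G', g' ⁻¹ᵁ V) from s) : Γ(G', g' ⁻¹ᵁ V)) := rfl


section kappa

variable {ι : Type u} (U : ι → X.Opens) (G' : X'.Modules)
  (hx : ∀ (n : ℕ) (x : Fin (n + 1) → ι), IsAffineOpen (prodU U x))

/-- the identification of sections of `g'_* G'` over `prodU U x` with sections of `G'` over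
`prodU U' x` -/
def kapSec {n : ℕ} (x : Fin (n + 1) → ι) :
    SecA A (Np g' G') (prodU U x) ≃+ SecA A' G' (prodU (Up g' U) x) where
  toFun s := G'.presheaf.map (eqToHom (prodU_preimage g' U x)).op
    (show Γ(G', g' ⁻¹ᵁ prodU U x) from s)
  invFun s := G'.presheaf.map (eqToHom (prodU_preimage g' U x).symm).op
    (show Γ(G', prodU (Up g' U) x) from s)
  left_inv s := by
    refine (Groth.Agent.Helper4.QcohGlue.map_map_thin G' _ _ (𝟙 _) _).trans ?_
    rw [CategoryTheory.Functor.map_id]
    rfl
  right_inv s := by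
    refine (Groth.Agent.Helper4.QcohGlue.map_map_thin G' _ _ (𝟙 _) _).trans ?_
    rw [CategoryTheory.Functor.map_id]
    rfl
  map_add' s s' := map_add _ _ _

include hsq hx in
lemma kapSec_smul {n : ℕ} (x : Fin (n + 1) → ι) (a : A) (s : SecA A (Np g' G') (prodU U x)) :
    kapSec A A' g' U G' x (a • s) = algebraMap A A' a • kapSec A A' g' U G' x s := by
  change G'.presheaf.map (eqToHom (prodU_preimage g' U x)).op
      ((g'.app (prodU U x)).hom (ρV A (prodU U x) a) •
        (show Γ(G', g' ⁻¹ᵁ prodU U x) from s)) =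
    ρV A' (prodU (Up g' U) x) (algebraMap A A' a) •
      G'.presheaf.map (eqToHom (prodU_preimage g' U x)).op (show Γ(G', g' ⁻¹ᵁ prodU U x) from s)
  rw [Scheme.Modules.map_smul, app_ρV A A' g' hsq _ (hx n x), ρV_res]

lemma kapSec_res {n : ℕ} (j : Fin (n + 2)) (x : Fin (n + 2) → ι)
    (s : SecA A (Np g' G') (prodU U (x ∘ j.succAbove))) :
    kapSec A A' g' U G' x (resA A (Np g' G') (face U j x) s) =
      resA A' G' (face (Up g' U) j x) (kapSec A A' g' U G' (x ∘ j.succAbove) s) := by
  change G'.presheaf.map (eqToHom (prodU_preimage g' U x)).op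
      (G'.presheaf.map ((Opens.map g'.base).map (face U j x)).op
        (show Γ(G', g' ⁻¹ᵁ prodU U (x ∘ j.succAbove)) from s)) =
    G'.presheaf.map (face (Up g' U) j x).op
      (G'.presheaf.map (eqToHom (prodU_preimage g' U (x ∘ j.succAbove))).op
        (show Γ(G', g' ⁻¹ᵁ prodU U (x ∘ j.succAbove)) from s))
  refine (Groth.Agent.Helper4.QcohGlue.map_map_thin G' _ _
    (homOfLE ((prodU_preimage g' U x).le.trans
      ((Opens.map g'.base).map (face U j x)).le)).op _).trans ?_
  exact (Groth.Agent.Helper4.QcohGlue.map_map_thin G' _ _ _ _).symm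

end kappa


section kappaCx

variable {ι : Type u} (U : ι → X.Opens) (G' : X'.Modules)
  (hx : ∀ (n : ℕ) (x : Fin (n + 1) → ι), IsAffineOpen (prodU U x))

/-- the cochains of `G'` for the preimage cover, as an `A`-module -/
abbrev RCo (n : ℕ) : ModuleCat.{u} A :=
  (ModuleCat.restrictScalars.{u, u, u} (algebraMap A A')).obj
    (ModuleCat.of A' (Co A' (Up g' U) G' n))

/-- cochains of `g'_* G'` are cochains of `G'` for the preimage cover (plain function) -/
def kapFun (n : ℕ) (c : Co A U (Np g' G') n) : Co A' (Up g' U) G' n :=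
  fun x => kapSec A A' g' U G' x (c x)

lemma kapFun_dA (n : ℕ) (c : Co A U (Np g' G') n) :
    kapFun A A' g' U G' (n + 1) (dA A U (Np g' G') n c) =
      dA A' (Up g' U) G' n (kapFun A A' g' U G' n c) := by
  funext x
  unfold kapFun
  rw [dA_apply, dA_apply, map_sum]
  refine Finset.sum_congr rfl fun j _ => ?_
  rw [map_zsmul, kapSec_res]

/-- cochains of `g'_* G'` are cochains of `G'` for the preimage cover -/
def kapCo (n : ℕ) : Co A U (Np g' G') n ≃ₗ[A] RCo A A' g' U G' n where
  toFun c := kapFun A A' g' U G' n c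
  invFun c := fun x => (kapSec A A' g' U G' x).symm (c x)
  left_inv c := funext fun x => (kapSec A A' g' U G' x).symm_apply_apply _
  right_inv c := funext fun x => (kapSec A A' g' U G' x).apply_symm_apply _
  map_add' c c' := funext fun x => map_add (kapSec A A' g' U G' x) _ _
  map_smul' a c := funext fun x => kapSec_smul A A' g' hsq U G' hx x a (c x)

/-- **the Čech complex of `g'_* G'` is the Čech complex of `G'` for the preimage cover** -/
def kapCx : CA A U (Np g' G') ≅
    ((ModuleCat.restrictScalars.{u, u, u} (algebraMap A A')).mapHomologicalComplex _).obj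
      (CA A' (Up g' U) G') :=
  HomologicalComplex.Hom.isoOfComponents
    (fun n => (kapCo A A' g' hsq U G' hx n).toModuleIso)
    (by
      intro i j hij
      obtain rfl : i + 1 = j := hij
      rw [CA_d]
      have hd : (((ModuleCat.restrictScalars.{u, u, u} (algebraMap A A')).mapHomologicalComplex
          _).obj (CA A' (Up g' U) G')).d i (i + 1) =
          (ModuleCat.restrictScalars.{u, u, u} (algebraMap A A')).map
            (ModuleCat.ofHom (dA A' (Up g' U) G' i)) := by
        show (ModuleCat.restrictScalars.{u, u, u} (algebraMap A A')).map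
          ((CA A' (Up g' U) G').d i (i + 1)) = _
        exact congrArg _ (CA_d A' (Up g' U) G' i)
      rw [hd]
      ext c
      exact (kapFun_dA A A' g' U G' i c).symm)

end kappaCx

end Groth.Agent.Helper1.GBC

end
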