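import Groth.Agent.Helper1.GBC4

set_option autoImplicit false
set_option linter.unusedVariables false
universe u
open CategoryTheory CategoryTheory.Limits AlgebraicGeometry TopologicalSpace Opposite TensorProduct

/-!
# The unit of the base change of the Čech complex and the unit `F → g'_* g'^* F`
-/

noncomputable section

namespace Groth.Agent.Helper1.GBC

open Groth.Agent.Helper1.Cech Groth.Agent.Helper1.TensSec Groth.Agent.Helper1.NatCech
open Groth.Agent.Helper1.ACech Groth.Agent.Helper1.CechBC Groth.Agent.Lead.BCMap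
open Groth.Agent.Helper1.HMap Groth.Agent.Helper1.FlatCx

variable (A A' : Type u) [CommRing A] [CommRing A'] [Algebra A A'] {X X' : Scheme.{u}}
  [X.Over (Spec (CommRingCat.of A))] [X'.Over (Spec (CommRingCat.of A'))] (g' : X' ⟶ X)
  (hsq : IsPullback g' (X' ↘ Spec (CommRingCat.of A')) (X ↘ Spec (CommRingCat.of A))
    (Spec.map (CommRingCat.ofHom (algebraMap A A'))))
  {ι : Type u} (U : ι → X.Opens)
  (hx : ∀ (n : ℕ) (x : Fin (n + 1) → ι), IsAffineOpen (prodU U x))
  [Fintype ι] [DecidableEq ι]

/-- the unit `F ⟶ g'_* g'^* F` -/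
abbrev unitF (F : X.Modules) : F ⟶ Np g' (Fp g' F) :=
  (Scheme.Modules.pullbackPushforwardAdjunction g').unit.app F

/-- **chain-level identity**: the unit of the base change of the Čech complex, followed by the
identification with the Čech complex of `g'^* F`, is the map induced by the unit of `F` -/
theorem unitCx_cxIso (F : X.Modules) [F.IsQuasicoherent] :
    unitCx A' (CA A U F) ≫
        ((ModuleCat.restrictScalars.{u, u, u} (algebraMap A A')).mapHomologicalComplex _).map
          (cxIso A A' g' hsq U F hx).hom =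
      CAmap A (unitF g' F) U ≫ (kapCx A A' g' hsq U (Fp g' F) hx).hom := by
  apply HomologicalComplex.hom_ext
  intro n
  apply ModuleCat.hom_ext
  apply LinearMap.ext
  intro (c : Co A U F n)
  change Theta A A' g' hsq U F hx n (1 ⊗ₜ[A] c) =
    kapFun A A' g' U (Fp g' F) n (coMap A (unitF g' F) U n c)
  funext x
  rw [Theta_tmul, one_smul]
  unfold kapFun
  rw [coMap_apply]
  change pbSec g' F (prodU U x) (prodU (Up g' U) x) (prodU_preimage g' U x).le
      (show Γ(F, prodU U x) from c x) =
    (Fp g' F).presheaf.map (eqToHom (prodU_preimage g' U x)).op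
      ((unitF g' F).app (prodU U x) (show Γ(F, prodU U x) from c x))
  rw [pbSec_apply]
  rfl


omit [Fintype ι] [DecidableEq ι] in
/-- naturality of `kapCx` -/
theorem kapCx_naturality {G' G'' : X'.Modules} (ψ : G' ⟶ G'') :
    CAmap A ((Scheme.Modules.pushforward g').map ψ) U ≫ (kapCx A A' g' hsq U G'' hx).hom =
      (kapCx A A' g' hsq U G' hx).hom ≫
        ((ModuleCat.restrictScalars.{u, u, u} (algebraMap A A')).mapHomologicalComplex _).map
          (CAmap A' ψ (Up g' U)) := by
  apply HomologicalComplex.hom_ext
  intro n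
  apply ModuleCat.hom_ext
  apply LinearMap.ext
  intro (c : Co A U (Np g' G') n)
  change kapFun A A' g' U G'' n (coMap A ((Scheme.Modules.pushforward g').map ψ) U n c) =
    coMap A' ψ (Up g' U) n (kapFun A A' g' U G' n c)
  funext x
  unfold kapFun
  rw [coMap_apply, coMap_apply]
  exact (Groth.Agent.Helper6.SectCmpSurj.app_map ψ (eqToHom (prodU_preimage g' U x))
    (show Γ(G', g' ⁻¹ᵁ prodU U x) from c x)).symm

end Groth.Agent.Helper1.GBC

end
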