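import Groth.Agent.Helper1.GBC5
import Groth.Agent.Helper1.FinFib
import Groth.Agent.Helper6.PushEdge2
import Groth.Agent.Helper1.CechBC5

set_option autoImplicit false
set_option linter.unusedVariables false
universe u
open CategoryTheory CategoryTheory.Limits AlgebraicGeometry TopologicalSpace Opposite TensorProduct

/-!
# Čech cohomology, base change of the Čech complex, and the pullback on cohomology
-/

noncomputable section

namespace Groth.Agent.Helper1.GBC

open Groth.Agent.Helper1.Cech Groth.Agent.Helper1.TensSec Groth.Agent.Helper1.NatCech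
open Groth.Agent.Helper1.ACech Groth.Agent.Helper1.CechBC Groth.Agent.Lead.BCMap
open Groth.Agent.Helper1.HMap Groth.Agent.Helper1.FlatCx Groth.Agent.Helper4

variable (A : Type u) [CommRing A] {X : Scheme.{u}} [X.Over (Spec (CommRingCat.of A))]

/-- the map of Čech complexes induced by multiplication by `a` is multiplication by `a` -/
lemma CAmap_smulMod {ι : Type u} (U : ι → X.Opens) (F : X.Modules) (a : A) :
    CAmap A (Formal.smulMod A F a) U = a • 𝟙 (CA A U F) := by
  apply HomologicalComplex.hom_ext
  intro n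
  apply ModuleCat.hom_ext
  apply LinearMap.ext
  intro (c : Co A U F n)
  rfl


section main

variable (A A' : Type u) [CommRing A] [CommRing A'] [Algebra A A'] {X X' : Scheme.{u}}
  [X.Over (Spec (CommRingCat.of A))] [X'.Over (Spec (CommRingCat.of A'))] (g' : X' ⟶ X)
  (hsq : IsPullback g' (X' ↘ Spec (CommRingCat.of A')) (X ↘ Spec (CommRingCat.of A))
    (Spec.map (CommRingCat.ofHom (algebraMap A A'))))
  {t : ℕ} (U : Fin t → X.Opens) (hU : ∀ k, IsAffineOpen (U k))
  (hd : ∀ V W : X.Opens, IsAffineOpen V → IsAffineOpen W → IsAffineOpen (V ⊓ W))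
  (hcov : ⨆ k, U k = ⊤)

include hsq hU hd hcov in
/-- **Čech cohomology and base change**: the cohomology of `F` and of `g'^* F` are computed by
the Čech complex of `F` and by its base change, compatibly with the canonical map on homology
and the pullback of cohomology classes. -/
theorem exists_gc (F : X.Modules) [F.IsQuasicoherent] (n : ℕ) :
    ∃ (e : (CA A (Uc U) F).homology n ≃ₗ[A] Coh.HH X F n)
      (e' : (CohIII.bcCx (algebraMap A A') (CA A (Uc U) F)).homology n ≃ₗ[A']
        Coh.HH X' (Fp g' F) n),
      ∀ x, e' ((hmapM A' (CA A (Uc U) F) n).hom x) = CohPull.pullMod g' F n (e x) := by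
  classical
  have hx : ∀ (n : ℕ) (x : Fin (n + 1) → ULift.{u} (Fin t)), IsAffineOpen (prodU (Uc U) x) :=
    fun n x => isAffineOpen_prodU U hd hU x
  haveI : IsAffineHom g' := CechBC.isAffineHom_of_isPullback A A' g' hsq
  haveI qG' : (Fp g' F).IsQuasicoherent :=
    Groth.Agent.Lead.StalkPull.isQuasicoherent_pullbackObj _ _
  haveI qN : (Np g' (Fp g' F)).IsQuasicoherent := QcohGlue.isQuasicoherent_pushforward g' _
  haveI := SchAdj.isGrothendieckAbelian_modules X'
  haveI : HasInjectiveResolutions X'.Modules := inferInstance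
  obtain ⟨eX, hnat⟩ := exists_natural_equiv A U hU hd hcov n
  let R := ModuleCat.restrictScalars.{u, u, u} (algebraMap A A')
  let Q' := CA A' (Up g' (Uc U)) (Fp g' F)
  let κ := kapCx A A' g' hsq (Uc U) (Fp g' F) hx
  let μ : (CA A (Uc U) (Np g' (Fp g' F))).homology n ≅ R.obj (Q'.homology n) :=
    HomologicalComplex.homologyMapIso κ n ≪≫ (Q'.sc n).mapHomologyIso R
  have hpe : Function.Bijective (CohPull.pushEdge g' (Fp g' F) n) :=
    Groth.Agent.Helper6.PushEdge2.pushEdge_bijective g' (Fp g' F) (fun q hq => by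
      obtain ⟨q, rfl⟩ := Nat.exists_eq_succ_of_ne_zero hq.ne'
      exact Groth.Agent.Helper1.FinFib.isZero_Rpush_of_isAffineHom g' (Fp g' F) q) n
  -- naturality of `μ`
  have hμnat : ∀ (σ : Fp g' F ⟶ Fp g' F),
      HomologicalComplex.homologyMap
          (CAmap A ((Scheme.Modules.pushforward g').map σ) (Uc U)) n ≫ μ.hom =
        μ.hom ≫ R.map (HomologicalComplex.homologyMap (CAmap A' σ (Up g' (Uc U))) n) := by
    intro σ
    have h1 := congrArg (fun t => HomologicalComplex.homologyMap t n)
      (kapCx_naturality A A' g' hsq (Uc U) hx σ)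
    simp only [HomologicalComplex.homologyMap_comp] at h1
    have h2 := ShortComplex.mapHomologyIso_hom_naturality
      ((HomologicalComplex.shortComplexFunctor _ _ n).map (CAmap A' σ (Up g' (Uc U)))) R
    change _ ≫ (HomologicalComplex.homologyMap κ.hom n ≫ ((Q'.sc n).mapHomologyIso R).hom) =
      (HomologicalComplex.homologyMap κ.hom n ≫ ((Q'.sc n).mapHomologyIso R).hom) ≫ _
    refine (Category.assoc _ _ _).symm.trans ?_
    refine (congrArg (fun t => t ≫ ((Q'.sc n).mapHomologyIso R).hom) h1).trans ?_
    refine (Category.assoc _ _ _).trans ?_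
    refine Eq.trans ?_ (Category.assoc _ _ _).symm
    exact congrArg (fun t => HomologicalComplex.homologyMap κ.hom n ≫ t) h2
  -- the key identity
  have hkey : hmapM A' (CA A (Uc U) F) n ≫
      R.map (HomologicalComplex.homologyMap (cxIso A A' g' hsq (Uc U) F hx).hom n) =
      HomologicalComplex.homologyMap (CAmap A (unitF g' F) (Uc U)) n ≫ μ.hom := by
    have h1 := congrArg (fun t => HomologicalComplex.homologyMap t n)
      (unitCx_cxIso A A' g' hsq (Uc U) hx F)
    simp only [HomologicalComplex.homologyMap_comp] at h1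
    have h2 := ShortComplex.mapHomologyIso_hom_naturality
      ((HomologicalComplex.shortComplexFunctor _ _ n).map (cxIso A A' g' hsq (Uc U) F hx).hom) R
    unfold hmapM
    change _ = _ ≫ (HomologicalComplex.homologyMap κ.hom n ≫ ((Q'.sc n).mapHomologyIso R).hom)
    refine (Category.assoc _ _ _).trans ?_
    refine (congrArg (fun t => HomologicalComplex.homologyMap
      (unitCx A' (CA A (Uc U) F)) n ≫ t) h2.symm).trans ?_
    refine (Category.assoc _ _ _).symm.trans ?_
    refine Eq.trans ?_ (Category.assoc _ _ _)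
    exact congrArg (fun t => t ≫ ((Q'.sc n).mapHomologyIso R).hom) h1
  -- elementwise versions
  let μh : (CA A (Uc U) (Np g' (Fp g' F))).homology n → Q'.homology n := fun z => μ.hom.hom z
  let μi : Q'.homology n → (CA A (Uc U) (Np g' (Fp g' F))).homology n := fun y => μ.inv.hom y
  have hμhi : ∀ y, μh (μi y) = y := fun y => by
    have := congrArg (fun t => t.hom y) μ.inv_hom_id
    exact this
  have hμih : ∀ z, μi (μh z) = z := fun z => by
    have := congrArg (fun t => t.hom z) μ.hom_inv_id
    exact this
  have hμi_add : ∀ y y', μi (y + y') = μi y + μi y' := fun y y' =>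
    map_add μ.inv.hom (show ↑(R.obj (Q'.homology n)) from y) y'
  have hμnat' : ∀ (σ : Fp g' F ⟶ Fp g' F) z,
      μh ((HomologicalComplex.homologyMap
        (CAmap A ((Scheme.Modules.pushforward g').map σ) (Uc U)) n).hom z) =
      (HomologicalComplex.homologyMap (CAmap A' σ (Up g' (Uc U))) n).hom (μh z) :=
    fun σ z => congrArg (fun t => t.hom z) (hμnat σ)
  have hkey' : ∀ x, (HomologicalComplex.homologyMap (cxIso A A' g' hsq (Uc U) F hx).hom n).hom
      ((hmapM A' (CA A (Uc U) F) n).hom x) =
      μh ((HomologicalComplex.homologyMap (CAmap A (unitF g' F) (Uc U)) n).hom x) :=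
    fun x => congrArg (fun t => t.hom x) hkey
  -- the comparison for `X'`
  let ε0 : Q'.homology n → Coh.HH X' (Fp g' F) n :=
    fun y => CohPull.pushEdge g' (Fp g' F) n (eX _ qN (μi y))
  have hε0_add : ∀ y y', ε0 (y + y') = ε0 y + ε0 y' := by
    intro y y'
    show CohPull.pushEdge g' (Fp g' F) n (eX _ qN (μi (y + y'))) = _
    rw [hμi_add, map_add, map_add]
  have hε0_smul : ∀ (b : A') y, ε0 (b • y) = b • ε0 y := by
    intro b y
    have h1 : b • y = (HomologicalComplex.homologyMap
        (CAmap A' (Formal.smulMod A' (Fp g' F) b) (Up g' (Uc U))) n).hom y := by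
      rw [CAmap_smulMod]
      exact (homologyMap_smul_apply A' (Ut g' U) (Fp g' F) n b y).symm
    have h4 : μi (b • y) = (HomologicalComplex.homologyMap
        (CAmap A ((Scheme.Modules.pushforward g').map (Formal.smulMod A' (Fp g' F) b))
          (Uc U)) n).hom (μi y) := by
      have h2 := hμnat' (Formal.smulMod A' (Fp g' F) b) (μi y)
      rw [hμhi] at h2
      rw [h1, ← h2, hμih]
    show CohPull.pushEdge g' (Fp g' F) n (eX _ qN (μi (b • y))) = _
    rw [h4, hnat _ _ qN qN, pushEdge_natural]
    rfl
  have hε0_bij : Function.Bijective ε0 := by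
    have hb1 : Function.Bijective μi :=
      Function.bijective_iff_has_inverse.mpr ⟨μh, hμhi, hμih⟩
    exact hpe.comp ((eX _ qN).bijective.comp hb1)
  let ε0L : Q'.homology n →ₗ[A'] Coh.HH X' (Fp g' F) n :=
    { toFun := ε0
      map_add' := hε0_add
      map_smul' := hε0_smul }
  let e' : (CohIII.bcCx (algebraMap A A') (CA A (Uc U) F)).homology n ≃ₗ[A']
      Coh.HH X' (Fp g' F) n :=
    (HomologicalComplex.homologyMapIso (cxIso A A' g' hsq (Uc U) F hx) n).toLinearEquiv ≪≫ₗ
      LinearEquiv.ofBijective ε0L hε0_bij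
  refine ⟨eX F inferInstance, e', ?_⟩
  intro x
  show CohPull.pushEdge g' (Fp g' F) n (eX _ qN (μi
    ((HomologicalComplex.homologyMap (cxIso A A' g' hsq (Uc U) F hx).hom n).hom
      ((hmapM A' (CA A (Uc U) F) n).hom x)))) = _
  rw [hkey', hμih, hnat _ _ inferInstance qN, pullMod_eq_pushEdge]

end main

end Groth.Agent.Helper1.GBC

end
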