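import Groth.Agent.Helper1.HMap3
import Groth.Agent.Helper1.ExtMap

set_option autoImplicit false
set_option linter.unusedVariables false
universe u
open CategoryTheory CategoryTheory.Limits MonoidalCategory TensorProduct HomologicalComplex

/-!
# The canonical map `H_q(P) → H_q(P ⊗_A B)` and the extension of complexes along an embedding
-/

noncomputable section

namespace Groth.Agent.Helper1.HMap

open Groth.Agent.Helper1.FlatCx Groth.Agent.Helper1.BCFlatCoh Groth.Agent.Helper1

variable {A : Type u} [CommRing A] (B : Type u) [CommRing B] [Algebra A B]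
  {ι ι' : Type} {c : ComplexShape ι} {c' : ComplexShape ι'} (e : c.Embedding c') [e.IsRelIff]
  (K : HomologicalComplex (ModuleCat.{u} A) c) (j : ι)

/-- `H_{e j}((K.extend e) ⊗ B) ≅ H_j(K ⊗ B)` -/
abbrev extBcIso : (CohIII.bcCx (algebraMap A B) (K.extend e)).homology (e.f j) ≅
    (CohIII.bcCx (algebraMap A B) K).homology j :=
  ExtMap.homologyIso e (ModuleCat.extendScalars.{u, u, u} (algebraMap A B)) K j

/-- the map on opcycles -/
lemma opcUnit_extend :
    opcUnit B (K.extend e) (e.f j) ≫
        (ModuleCat.restrictScalars.{u, u, u} (algebraMap A B)).map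
          (opcyclesMap (ExtMap.hom e (ModuleCat.extendScalars.{u, u, u} (algebraMap A B)) K)
            (e.f j) ≫
            ((CohIII.bcCx (algebraMap A B) K).extendOpcyclesIso e rfl).hom) =
      (K.extendOpcyclesIso e rfl).hom ≫ opcUnit B K j := by
  refine (cancel_epi ((K.extend e).pOpcycles (e.f j))).mp ?_
  have ha : (CohIII.bcCx (algebraMap A B) (K.extend e)).pOpcycles (e.f j) ≫
      (opcyclesMap (ExtMap.hom e (ModuleCat.extendScalars.{u, u, u} (algebraMap A B)) K)
        (e.f j) ≫ ((CohIII.bcCx (algebraMap A B) K).extendOpcyclesIso e rfl).hom) =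
      (ModuleCat.extendScalars.{u, u, u} (algebraMap A B)).map (K.extendXIso e rfl).hom ≫
        (CohIII.bcCx (algebraMap A B) K).pOpcycles j := by
    rw [← Category.assoc, p_opcyclesMap, Category.assoc, pOpcycles_extendOpcyclesIso_hom,
      ← Category.assoc, ExtMap.hom_f]
    refine (Category.assoc _ _ _).trans ?_
    exact congrArg (fun t => (ModuleCat.extendScalars.{u, u, u} (algebraMap A B)).map
      (K.extendXIso e rfl).hom ≫ t) (Iso.inv_hom_id_assoc _ _)
  have hb := (ModuleCat.extendRestrictScalarsAdj.{u, u, u} (algebraMap A B)).unit.naturality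
    (K.extendXIso e (rfl : e.f j = e.f j)).hom
  have hc := pOpcycles_opcUnit B (K.extend e) (e.f j)
  have hd := pOpcycles_opcUnit B K j
  have he := K.pOpcycles_extendOpcyclesIso_hom e (rfl : e.f j = e.f j)
  calc (K.extend e).pOpcycles (e.f j) ≫ opcUnit B (K.extend e) (e.f j) ≫
        (ModuleCat.restrictScalars.{u, u, u} (algebraMap A B)).map
          (opcyclesMap (ExtMap.hom e (ModuleCat.extendScalars.{u, u, u} (algebraMap A B)) K)
            (e.f j) ≫ ((CohIII.bcCx (algebraMap A B) K).extendOpcyclesIso e rfl).hom)
      = ((K.extend e).pOpcycles (e.f j) ≫ opcUnit B (K.extend e) (e.f j)) ≫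
        (ModuleCat.restrictScalars.{u, u, u} (algebraMap A B)).map
          (opcyclesMap (ExtMap.hom e (ModuleCat.extendScalars.{u, u, u} (algebraMap A B)) K)
            (e.f j) ≫ ((CohIII.bcCx (algebraMap A B) K).extendOpcyclesIso e rfl).hom) :=
        (Category.assoc _ _ _).symm
    _ = ((ModuleCat.extendRestrictScalarsAdj.{u, u, u} (algebraMap A B)).unit.app
          ((K.extend e).X (e.f j)) ≫
        (ModuleCat.restrictScalars.{u, u, u} (algebraMap A B)).map
          ((CohIII.bcCx (algebraMap A B) (K.extend e)).pOpcycles (e.f j))) ≫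
        (ModuleCat.restrictScalars.{u, u, u} (algebraMap A B)).map
          (opcyclesMap (ExtMap.hom e (ModuleCat.extendScalars.{u, u, u} (algebraMap A B)) K)
            (e.f j) ≫ ((CohIII.bcCx (algebraMap A B) K).extendOpcyclesIso e rfl).hom) :=
        congrArg (fun t => t ≫ (ModuleCat.restrictScalars.{u, u, u} (algebraMap A B)).map
          (opcyclesMap (ExtMap.hom e (ModuleCat.extendScalars.{u, u, u} (algebraMap A B)) K)
            (e.f j) ≫ ((CohIII.bcCx (algebraMap A B) K).extendOpcyclesIso e rfl).hom)) hc
    _ = (ModuleCat.extendRestrictScalarsAdj.{u, u, u} (algebraMap A B)).unit.app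
          ((K.extend e).X (e.f j)) ≫
        (ModuleCat.restrictScalars.{u, u, u} (algebraMap A B)).map
          ((CohIII.bcCx (algebraMap A B) (K.extend e)).pOpcycles (e.f j) ≫
          (opcyclesMap (ExtMap.hom e (ModuleCat.extendScalars.{u, u, u} (algebraMap A B)) K)
            (e.f j) ≫ ((CohIII.bcCx (algebraMap A B) K).extendOpcyclesIso e rfl).hom)) := by
        rw [Category.assoc, ← Functor.map_comp]
    _ = (ModuleCat.extendRestrictScalarsAdj.{u, u, u} (algebraMap A B)).unit.app
          ((K.extend e).X (e.f j)) ≫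
        (ModuleCat.restrictScalars.{u, u, u} (algebraMap A B)).map
          ((ModuleCat.extendScalars.{u, u, u} (algebraMap A B)).map (K.extendXIso e rfl).hom ≫
            (CohIII.bcCx (algebraMap A B) K).pOpcycles j) :=
        congrArg (fun t => (ModuleCat.extendRestrictScalarsAdj.{u, u, u}
          (algebraMap A B)).unit.app ((K.extend e).X (e.f j)) ≫
          (ModuleCat.restrictScalars.{u, u, u} (algebraMap A B)).map t) ha
    _ = ((K.extendXIso e rfl).hom ≫
          (ModuleCat.extendRestrictScalarsAdj.{u, u, u} (algebraMap A B)).unit.app (K.X j)) ≫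
        (ModuleCat.restrictScalars.{u, u, u} (algebraMap A B)).map
          ((CohIII.bcCx (algebraMap A B) K).pOpcycles j) := by
        rw [Functor.map_comp, ← Category.assoc]
        exact congrArg (fun t => t ≫ (ModuleCat.restrictScalars.{u, u, u} (algebraMap A B)).map
          ((CohIII.bcCx (algebraMap A B) K).pOpcycles j)) hb.symm
    _ = (K.extendXIso e rfl).hom ≫ (K.pOpcycles j ≫ opcUnit B K j) := by
        rw [Category.assoc]
        exact congrArg (fun t => (K.extendXIso e rfl).hom ≫ t) hd.symm
    _ = ((K.extend e).pOpcycles (e.f j) ≫ (K.extendOpcyclesIso e rfl).hom) ≫ opcUnit B K j := by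
        rw [he, Category.assoc]
    _ = _ := Category.assoc _ _ _


lemma extBcIso_hom_homologyι :
    (extBcIso B e K j).hom ≫ (CohIII.bcCx (algebraMap A B) K).homologyι j =
      (CohIII.bcCx (algebraMap A B) (K.extend e)).homologyι (e.f j) ≫
        (opcyclesMap (ExtMap.hom e (ModuleCat.extendScalars.{u, u, u} (algebraMap A B)) K)
          (e.f j) ≫ ((CohIII.bcCx (algebraMap A B) K).extendOpcyclesIso e rfl).hom) := by
  unfold extBcIso ExtMap.homologyIso ExtMap.iso
  simp only [Iso.trans_hom, homologyMapIso_hom, asIso_hom, Category.assoc,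
    extendHomologyIso_hom_homologyι]
  rw [← Category.assoc, homologyι_naturality, Category.assoc]

/-- **the canonical map commutes with the extension of complexes** -/
theorem hmapM_extend :
    hmapM B (K.extend e) (e.f j) ≫
        (ModuleCat.restrictScalars.{u, u, u} (algebraMap A B)).map (extBcIso B e K j).hom =
      (K.extendHomologyIso e rfl).hom ≫ hmapM B K j := by
  haveI : Mono ((ModuleCat.restrictScalars.{u, u, u} (algebraMap A B)).map
      ((CohIII.bcCx (algebraMap A B) K).homologyι j)) := inferInstance
  refine (cancel_mono ((ModuleCat.restrictScalars.{u, u, u} (algebraMap A B)).map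
      ((CohIII.bcCx (algebraMap A B) K).homologyι j))).mp ?_
  have h1 := hmapM_homologyι B K j
  have h2 := hmapM_homologyι B (K.extend e) (e.f j)
  have h3 := extBcIso_hom_homologyι B e K j
  have h4 := opcUnit_extend B e K j
  have h5 := K.extendHomologyIso_hom_homologyι e (rfl : e.f j = e.f j)
  calc (hmapM B (K.extend e) (e.f j) ≫
        (ModuleCat.restrictScalars.{u, u, u} (algebraMap A B)).map (extBcIso B e K j).hom) ≫
        (ModuleCat.restrictScalars.{u, u, u} (algebraMap A B)).map
          ((CohIII.bcCx (algebraMap A B) K).homologyι j)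
      = hmapM B (K.extend e) (e.f j) ≫
        (ModuleCat.restrictScalars.{u, u, u} (algebraMap A B)).map
          ((extBcIso B e K j).hom ≫ (CohIII.bcCx (algebraMap A B) K).homologyι j) := by
        rw [Category.assoc, ← Functor.map_comp]
    _ = hmapM B (K.extend e) (e.f j) ≫
        (ModuleCat.restrictScalars.{u, u, u} (algebraMap A B)).map
          ((CohIII.bcCx (algebraMap A B) (K.extend e)).homologyι (e.f j) ≫
            (opcyclesMap (ExtMap.hom e (ModuleCat.extendScalars.{u, u, u} (algebraMap A B)) K)
              (e.f j) ≫ ((CohIII.bcCx (algebraMap A B) K).extendOpcyclesIso e rfl).hom)) :=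
        congrArg (fun t => hmapM B (K.extend e) (e.f j) ≫
          (ModuleCat.restrictScalars.{u, u, u} (algebraMap A B)).map t) h3
    _ = ((K.extend e).homologyι (e.f j) ≫ opcUnit B (K.extend e) (e.f j)) ≫
        (ModuleCat.restrictScalars.{u, u, u} (algebraMap A B)).map
          (opcyclesMap (ExtMap.hom e (ModuleCat.extendScalars.{u, u, u} (algebraMap A B)) K)
            (e.f j) ≫ ((CohIII.bcCx (algebraMap A B) K).extendOpcyclesIso e rfl).hom) := by
        rw [Functor.map_comp, ← Category.assoc]
        exact congrArg (fun t => t ≫ (ModuleCat.restrictScalars.{u, u, u} (algebraMap A B)).map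
          (opcyclesMap (ExtMap.hom e (ModuleCat.extendScalars.{u, u, u} (algebraMap A B)) K)
            (e.f j) ≫ ((CohIII.bcCx (algebraMap A B) K).extendOpcyclesIso e rfl).hom)) h2
    _ = (K.extend e).homologyι (e.f j) ≫ ((K.extendOpcyclesIso e rfl).hom ≫ opcUnit B K j) := by
        rw [Category.assoc]
        exact congrArg (fun t => (K.extend e).homologyι (e.f j) ≫ t) h4
    _ = ((K.extendHomologyIso e rfl).hom ≫ K.homologyι j) ≫ opcUnit B K j := by
        rw [h5, Category.assoc]
    _ = (K.extendHomologyIso e rfl).hom ≫ (hmapM B K j ≫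
        (ModuleCat.restrictScalars.{u, u, u} (algebraMap A B)).map
          ((CohIII.bcCx (algebraMap A B) K).homologyι j)) := by
        rw [Category.assoc]
        exact congrArg (fun t => (K.extendHomologyIso e rfl).hom ≫ t) h1.symm
    _ = _ := (Category.assoc _ _ _).symm

end Groth.Agent.Helper1.HMap

end
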