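import Groth.Agent.Helper1.GBC6
import Groth.Agent.Helper1.HMap7

set_option autoImplicit false
set_option linter.unusedVariables false
universe u
open CategoryTheory CategoryTheory.Limits AlgebraicGeometry TopologicalSpace Opposite TensorProduct

/-!
# Complexes computing the cohomology of a module and of its base changes, compatibly with pullback
-/

noncomputable section

namespace Groth.Agent.Helper1.GBC

open Groth.Agent.Helper1.Cech Groth.Agent.Helper1.TensSec Groth.Agent.Helper1.NatCech
open Groth.Agent.Helper1.ACech Groth.Agent.Helper1.CechBC Groth.Agent.Lead.BCMap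
open Groth.Agent.Helper1.HMap Groth.Agent.Helper1.FlatCx Groth.Agent.Helper4

variable (A A' : Type u) [CommRing A] [CommRing A'] [Algebra A A'] {X X' : Scheme.{u}}
  [X.Over (Spec (CommRingCat.of A))] [X'.Over (Spec (CommRingCat.of A'))] (g' : X' ⟶ X)
  (F : X.Modules) {ι : Type} {c : ComplexShape ι}

/-- the complex `P` computes `H^n(X, F)` in degree `q`, its base change computes
`H^n(X', g'^* F)`, and the canonical map between the homologies corresponds to the pullback of
cohomology classes -/
def GCAt (P : HomologicalComplex (ModuleCat.{u} A) c) (q : ι) (n : ℕ) : Prop :=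
  ∃ (e : P.homology q ≃ₗ[A] Coh.HH X F n)
    (e' : (CohIII.bcCx (algebraMap A A') P).homology q ≃ₗ[A']
      Coh.HH X' ((Scheme.Modules.pullback g').obj F) n),
    ∀ x, e' ((hmapM A' P q).hom x) = CohPull.pullMod g' F n (e x)

variable {A A' g' F}

/-- transport along compatible isomorphisms of the homologies -/
theorem GCAt.of_isos {ι' : Type} {c' : ComplexShape ι'}
    {P : HomologicalComplex (ModuleCat.{u} A) c} {q : ι} {n : ℕ}
    {P' : HomologicalComplex (ModuleCat.{u} A) c'} {q' : ι'}
    (h : GCAt A A' g' F P q n) (a : P'.homology q' ≅ P.homology q)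
    (a' : (CohIII.bcCx (algebraMap A A') P').homology q' ≅
      (CohIII.bcCx (algebraMap A A') P).homology q)
    (ha : hmapM A' P' q' ≫ (ModuleCat.restrictScalars.{u, u, u} (algebraMap A A')).map a'.hom =
      a.hom ≫ hmapM A' P q) :
    GCAt A A' g' F P' q' n := by
  obtain ⟨e, e', he⟩ := h
  refine ⟨a.toLinearEquiv ≪≫ₗ e, a'.toLinearEquiv ≪≫ₗ e', ?_⟩
  intro x
  have h1 := congrArg (fun t => t.hom x) ha
  show e' (a'.hom.hom ((hmapM A' P' q').hom x)) = CohPull.pullMod g' F n (e (a.hom.hom x))
  rw [← he]
  exact congrArg e' h1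

/-- transport along a chain map inducing isomorphisms on the homology of the complex and of its
base change -/
theorem GCAt.of_hom {P P' : HomologicalComplex (ModuleCat.{u} A) c} {q : ι} {n : ℕ}
    (h : GCAt A A' g' F P q n) (φ : P' ⟶ P)
    (h1 : IsIso (HomologicalComplex.homologyMap φ q))
    (h2 : IsIso (HomologicalComplex.homologyMap
      (((ModuleCat.extendScalars.{u, u, u} (algebraMap A A')).mapHomologicalComplex c).map φ) q)) :
    GCAt A A' g' F P' q n :=
  h.of_isos (asIso (HomologicalComplex.homologyMap φ q))
    (asIso (HomologicalComplex.homologyMap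
      (((ModuleCat.extendScalars.{u, u, u} (algebraMap A A')).mapHomologicalComplex c).map φ) q))
    (hmapM_naturality A' φ q).symm

/-- transport to the extension along an embedding of complex shapes -/
theorem GCAt.extend {ι' : Type} {c' : ComplexShape ι'} (e : c.Embedding c') [e.IsRelIff]
    {K : HomologicalComplex (ModuleCat.{u} A) c} {j : ι} {n : ℕ}
    (h : GCAt A A' g' F K j n) : GCAt A A' g' F (K.extend e) (e.f j) n :=
  h.of_isos (K.extendHomologyIso e rfl) (extBcIso A' e K j) (hmapM_extend A' e K j)

end Groth.Agent.Helper1.GBC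

end
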