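import Groth.Agent.Helper1.NoethApx4
import Groth.Agent.Helper1.ProjTop8

set_option autoImplicit false
set_option linter.unusedVariables false
universe u
open CategoryTheory CategoryTheory.Limits AlgebraicGeometry TopologicalSpace Topology

/-!
# The universal complex of a chart for a proper morphism of finite presentation: base change
-/

noncomputable section

namespace Groth.Agent.Helper1.NoethApx

open Groth.Agent.Helper1.BaseChart Groth.Agent.Helper1.FieldPt

section algebra

variable {A B C : Type u} [CommRing A] [CommRing B] [CommRing C] {ι : Type} {c : ComplexShape ι}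

/-- transitivity of the base change of complexes -/
def bcCxComp (f : A →+* B) (g : B →+* C) (P : HomologicalComplex (ModuleCat.{u} A) c) :
    CohIII.bcCx g (CohIII.bcCx f P) ≅ CohIII.bcCx (g.comp f) P :=
  HomologicalComplex.Hom.isoOfComponents
    (fun i => (ModuleCat.extendScalarsComp f g).symm.app (P.X i))
    (fun i j _ => ((ModuleCat.extendScalarsComp f g).symm.hom.naturality (P.d i j)).symm)

/-- base change of an isomorphism of complexes -/
def bcCxMapIso (f : A →+* B) {P Q : HomologicalComplex (ModuleCat.{u} A) c} (e : P ≅ Q) :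
    CohIII.bcCx f P ≅ CohIII.bcCx f Q :=
  ((ModuleCat.extendScalars f).mapHomologicalComplex c).mapIso e

/-- the base change along equal ring maps -/
def bcCxCongr {f g : A →+* B} (h : f = g) (P : HomologicalComplex (ModuleCat.{u} A) c) :
    CohIII.bcCx f P ≅ CohIII.bcCx g P := eqToIso (by rw [h])

end algebra

variable {X S : Scheme.{u}} (f : X ⟶ S) (W : S.Opens) [IsAffine (W : Scheme.{u})]

/-- the base change property is invariant under isomorphisms of complexes -/
theorem HasBC.of_iso (F : X.Modules) {L L' : ChainComplex (ModuleCat.{u} (AV W)) ℤ}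
    (h : HasBC f W F L) (e : L ≅ L') : HasBC f W F L' := by
  letI := chartOver f W
  intro A' _ _ X' _ g' hsq n
  obtain ⟨φ⟩ := h A' X' g' hsq n
  exact ⟨((HomologicalComplex.homologyFunctor _ _ (-(n : ℤ))).mapIso
    (bcCxMapIso (algebraMap (AV W) A') e)).symm.toLinearEquiv ≪≫ₗ φ⟩

/-- the universal complex of an affine chart of the base, for a proper morphism of finite
presentation over an arbitrary base: it is the base change of a complex of finite free modules
over a Noetherian ring -/
theorem exists_chart_complex_bc [IsProper f] [LocallyOfFinitePresentation f]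
    (F : X.Modules) (hF : CohB1.IsFP F) (hfl : FlatMod.IsFlatOver f F) :
    letI := chartOver f W
    ∃ (A₀ : Type u) (_ : CommRing A₀) (_ : IsNoetherianRing A₀) (ι : A₀ →+* AV W)
      (L : ChainComplex (ModuleCat.{u} A₀) ℤ),
      (∀ i, Module.Finite A₀ (L.X i) ∧ Module.Free A₀ (L.X i)) ∧
      (∃ b : ℤ, ∀ i < b, IsZero (L.X i)) ∧
      (∀ i : ℤ, 0 < i → ∀ M : ModuleCat.{u} A₀, IsZero ((CohIII.TFun L i).obj M)) ∧
      (∀ (s : S) (hs : s ∈ W) (p : ℕ), PerfAux.betti f F s p =
        CohIII.dRank L (-(p : ℤ)) (PrimeSpectrum.comap ι (chartPt W s hs))) ∧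
      HasBC f W F (CohIII.bcCx ι L) ∧
      (∀ p : ℕ, Nonempty ((CohIII.bcCx ι L).homology (-(p : ℤ)) ≃ₗ[AV W]
        Coh.HH (XV f W) (FV f W F) p)) := by
  letI := chartOver f W
  obtain ⟨A₀, hA₀, X₀, f₀, hprop, F₀, hF₀, q, H, e, hfl₀⟩ := exists_chart_model f W F hF hfl
  haveI := hprop
  have hft : Algebra.FiniteType ℤ A₀ := (Subalgebra.fg_iff_finiteType A₀).mp hA₀
  haveI hN : IsNoetherianRing A₀ := Algebra.FiniteType.isNoetherianRing ℤ A₀
  letI : X₀.Over (Spec (CommRingCat.of A₀)) := ⟨f₀⟩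
  haveI : IsProper (X₀ ↘ Spec (CommRingCat.of A₀)) := hprop
  obtain ⟨L, hLff, hb, hT, -, hrank, hbc, -⟩ :=
    Groth.Agent.Helper1.Bridge.exists_complex'' A₀ X₀ F₀ hF₀ hfl₀
  set ι : A₀ →+* AV W := A₀.val.toRingHom with hι
  have hBC : HasBC f W F (CohIII.bcCx ι L) := by
    intro A' _ _ X' _ g' hsq n
    letI : Algebra A₀ A' := ((algebraMap (AV W) A').comp ι).toAlgebra
    have hsq' : IsPullback (g' ≫ q) (X' ↘ Spec (CommRingCat.of A'))
        (X₀ ↘ Spec (CommRingCat.of A₀))
        (Spec.map (CommRingCat.ofHom (algebraMap A₀ A'))) := by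
      have h2 := hsq.paste_horiz H
      have h3 : Spec.map (CommRingCat.ofHom (algebraMap A₀ A')) =
          Spec.map (CommRingCat.ofHom (algebraMap (AV W) A')) ≫
            Spec.map (CommRingCat.ofHom ι) := by
        rw [← Spec.map_comp]
        rfl
      rw [h3]
      exact h2
    obtain ⟨φ⟩ := hbc A' X' (g' ≫ q) hsq' n
    let θ : (Scheme.Modules.pullback (g' ≫ q)).obj F₀ ≅
        (Scheme.Modules.pullback g').obj (FV f W F) :=
      ((Scheme.Modules.pullbackComp g' q).app F₀).symm ≪≫
        (Scheme.Modules.pullback g').mapIso e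
    have e1 : (CohIII.bcCx (algebraMap (AV W) A') (CohIII.bcCx ι L)).homology (-(n : ℤ)) ≃ₗ[A']
        (CohIII.bcCx (algebraMap A₀ A') L).homology (-(n : ℤ)) :=
      ((HomologicalComplex.homologyFunctor _ _ (-(n : ℤ))).mapIso
        (bcCxComp ι (algebraMap (AV W) A') L)).toLinearEquiv
    exact ⟨e1 ≪≫ₗ φ ≪≫ₗ Groth.Agent.Helper1.ProjTop.HHlinEquiv A' θ n⟩
  refine ⟨A₀, inferInstance, hN, ι, L, hLff, hb, hT, ?_, hBC, ?_⟩
  · intro s hs p
    rw [betti_eq_of_chart_model f W F s hs ι f₀ F₀ hF₀ hfl₀ q H e p]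
    exact (hrank p (PrimeSpectrum.comap ι (chartPt W s hs))).symm
  · intro p
    letI : Algebra A₀ (AV W) := ι.toAlgebra
    obtain ⟨φ⟩ := hbc (AV W) (XV f W) q H p
    exact ⟨φ ≪≫ₗ Groth.Agent.Helper1.ProjTop.HHlinEquiv (AV W) e p⟩

end Groth.Agent.Helper1.NoethApx

end
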