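import Groth.Agent.Helper1.GBC7
import Groth.Agent.Helper1.NoethApx7
import Groth.Agent.Helper1.Bridge9

set_option autoImplicit false
set_option linter.unusedVariables false
universe u
open CategoryTheory CategoryTheory.Limits AlgebraicGeometry TopologicalSpace Opposite TensorProduct

/-!
# Functoriality of the Čech complex in the module, and base change of quasi-isomorphisms
-/

noncomputable section

namespace Groth.Agent.Helper1.GBC

open Groth.Agent.Helper1.Cech Groth.Agent.Helper1.TensSec Groth.Agent.Helper1.NatCech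
open Groth.Agent.Helper1.ACech Groth.Agent.Helper1.CechBC Groth.Agent.Lead.BCMap
open Groth.Agent.Helper1.HMap Groth.Agent.Helper1.FlatCx Groth.Agent.Helper4
open Groth.Agent.Helper1.Bridge Groth.Agent.Helper1.NoethApx

section functoriality

variable (A : Type u) [CommRing A] {X : Scheme.{u}} [X.Over (Spec (CommRingCat.of A))]
  {ι : Type u} (U : ι → X.Opens)

lemma CAmap_id (F : X.Modules) : CAmap A (𝟙 F) U = 𝟙 (CA A U F) := by
  apply HomologicalComplex.hom_ext
  intro n
  apply ModuleCat.hom_ext
  apply LinearMap.ext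
  intro (c : Co A U F n)
  rfl

lemma CAmap_comp {F G H : X.Modules} (φ : F ⟶ G) (ψ : G ⟶ H) :
    CAmap A (φ ≫ ψ) U = CAmap A φ U ≫ CAmap A ψ U := by
  apply HomologicalComplex.hom_ext
  intro n
  apply ModuleCat.hom_ext
  apply LinearMap.ext
  intro (c : Co A U F n)
  rfl

/-- isomorphic modules have isomorphic Čech complexes -/
def CAiso {F G : X.Modules} (e : F ≅ G) : CA A U F ≅ CA A U G where
  hom := CAmap A e.hom U
  inv := CAmap A e.inv U
  hom_inv_id := by rw [← CAmap_comp, e.hom_inv_id, CAmap_id]
  inv_hom_id := by rw [← CAmap_comp, e.inv_hom_id, CAmap_id]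

/-- isomorphic modules have isomorphic `ℤ`-indexed Čech complexes -/
def PZiso {t : ℕ} (U : Fin t → X.Opens) {F G : X.Modules} (e : F ≅ G) :
    PZ A U F ≅ PZ A U G :=
  (embNeg.extendFunctor _).mapIso (CAiso A (Uc U) e)

end functoriality

section algebra

variable {A B C : Type u} [CommRing A] [CommRing B] [CommRing C] {ι : Type} {c : ComplexShape ι}

lemma bcCxComp_naturality (f : A →+* B) (g : B →+* C)
    {P Q : HomologicalComplex (ModuleCat.{u} A) c} (φ : P ⟶ Q) :
    ((ModuleCat.extendScalars.{u, u, u} g).mapHomologicalComplex c).map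
        (((ModuleCat.extendScalars.{u, u, u} f).mapHomologicalComplex c).map φ) ≫
      (bcCxComp f g Q).hom =
    (bcCxComp f g P).hom ≫
      ((ModuleCat.extendScalars.{u, u, u} (g.comp f)).mapHomologicalComplex c).map φ := by
  apply HomologicalComplex.hom_ext
  intro i
  exact (ModuleCat.extendScalarsComp f g).symm.hom.naturality (φ.f i)

end algebra

section qis

variable {A : Type u} [CommRing A] (B : Type u) [CommRing B] [Algebra A B]

/-- base change of a quasi-isomorphism of bounded below complexes of flat modules induces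
isomorphisms on homology -/
theorem isIso_homologyMap_bc {L P : ChainComplex (ModuleCat.{u} A) ℤ} (f : L ⟶ P) [QuasiIso f]
    (hL : ∀ i, Module.Flat A (L.X i)) (hP : ∀ i, Module.Flat A (P.X i)) (d : ℤ)
    (hLd : ∀ i < d, ∀ M : ModuleCat.{u} A, IsZero ((CohIII.TFun L i).obj M))
    (hPd : ∀ i < d, ∀ M : ModuleCat.{u} A, IsZero ((CohIII.TFun P i).obj M)) (p : ℤ) :
    IsIso (HomologicalComplex.homologyMap
      (((ModuleCat.extendScalars.{u, u, u} (algebraMap A B)).mapHomologicalComplex
        (ComplexShape.down ℤ)).map f) p) := by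
  have h := isIso_tfunNat f hL hP d hLd hPd p (DRankQis.Bm (A := A) B)
  rw [tfunNat_app] at h
  have hq := DRankQis.quasiIsoAt_bcCx_map B f p h
  rw [quasiIsoAt_iff_isIso_homologyMap] at hq
  exact hq

/-- the same for an iterated base change -/
theorem isIso_homologyMap_bc_bc {B C : Type u} [CommRing B] [CommRing C] (ι : A →+* B)
    (a : B →+* C) {L P : ChainComplex (ModuleCat.{u} A) ℤ} (f : L ⟶ P) [QuasiIso f]
    (hL : ∀ i, Module.Flat A (L.X i)) (hP : ∀ i, Module.Flat A (P.X i)) (d : ℤ)
    (hLd : ∀ i < d, ∀ M : ModuleCat.{u} A, IsZero ((CohIII.TFun L i).obj M))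
    (hPd : ∀ i < d, ∀ M : ModuleCat.{u} A, IsZero ((CohIII.TFun P i).obj M)) (p : ℤ) :
    IsIso (HomologicalComplex.homologyMap
      (((ModuleCat.extendScalars.{u, u, u} a).mapHomologicalComplex (ComplexShape.down ℤ)).map
        (((ModuleCat.extendScalars.{u, u, u} ι).mapHomologicalComplex
          (ComplexShape.down ℤ)).map f)) p) := by
  letI : Algebra A C := (a.comp ι).toAlgebra
  have h1 : IsIso (HomologicalComplex.homologyMap
      (((ModuleCat.extendScalars.{u, u, u} (a.comp ι)).mapHomologicalComplex
        (ComplexShape.down ℤ)).map f) p) :=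
    isIso_homologyMap_bc C f hL hP d hLd hPd p
  have h2 := congrArg (fun t => HomologicalComplex.homologyMap t p) (bcCxComp_naturality ι a f)
  simp only [HomologicalComplex.homologyMap_comp] at h2
  haveI : IsIso (HomologicalComplex.homologyMap (bcCxComp ι a P).hom p) :=
    (HomologicalComplex.homologyMapIso (bcCxComp ι a P) p).isIso_hom
  haveI : IsIso (HomologicalComplex.homologyMap (bcCxComp ι a L).hom p) :=
    (HomologicalComplex.homologyMapIso (bcCxComp ι a L) p).isIso_hom
  haveI := h1
  have h3 : IsIso (HomologicalComplex.homologyMap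
      (((ModuleCat.extendScalars.{u, u, u} a).mapHomologicalComplex (ComplexShape.down ℤ)).map
        (((ModuleCat.extendScalars.{u, u, u} ι).mapHomologicalComplex
          (ComplexShape.down ℤ)).map f)) p ≫
      HomologicalComplex.homologyMap (bcCxComp ι a P).hom p) := by
    rw [h2]
    infer_instance
  exact IsIso.of_isIso_comp_right _ (HomologicalComplex.homologyMap (bcCxComp ι a P).hom p)

end qis

end Groth.Agent.Helper1.GBC

end
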