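import Groth.Agent.Helper1.GBC8

set_option autoImplicit false
set_option linter.unusedVariables false
universe u
open CategoryTheory CategoryTheory.Limits AlgebraicGeometry TopologicalSpace Opposite TensorProduct

/-!
# The universal complex of a chart, compatibly with the pullback of cohomology classes
-/

noncomputable section

namespace Groth.Agent.Helper1.GBC

open Groth.Agent.Helper1.Cech Groth.Agent.Helper1.TensSec Groth.Agent.Helper1.NatCech
open Groth.Agent.Helper1.ACech Groth.Agent.Helper1.CechBC Groth.Agent.Lead.BCMap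
open Groth.Agent.Helper1.HMap Groth.Agent.Helper1.FlatCx Groth.Agent.Helper4
open Groth.Agent.Helper1.Bridge Groth.Agent.Helper1.NoethApx Groth.Agent.Helper1.BaseChart
open Groth.Agent.Helper1.FieldPt Groth.Agent.Helper1.Mumford Groth.Agent.Helper1.BCFlatCoh

variable {X S : Scheme.{u}} (f : X ⟶ S) (W : S.Opens) [IsAffine (W : Scheme.{u})]

/-- the universal complex of an affine chart of the base, for a proper morphism of finite
presentation over an arbitrary base: it is the base change of a complex of finite free modules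
over a Noetherian ring, and it computes the cohomology of all base changes compatibly with the
pullback of cohomology classes -/
theorem exists_chart_complex_gc [IsProper f] [LocallyOfFinitePresentation f]
    (F : X.Modules) (hF : CohB1.IsFP F) (hfl : FlatMod.IsFlatOver f F) :
    letI := chartOver f W
    ∃ (A₀ : Type u) (_ : CommRing A₀) (_ : IsNoetherianRing A₀) (ι : A₀ →+* AV W)
      (L : ChainComplex (ModuleCat.{u} A₀) ℤ),
      (∀ i, Module.Finite A₀ (L.X i) ∧ Module.Free A₀ (L.X i)) ∧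
      (∃ b : ℤ, ∀ i < b, IsZero (L.X i)) ∧
      (∀ i : ℤ, 0 < i → ∀ M : ModuleCat.{u} A₀, IsZero ((CohIII.TFun L i).obj M)) ∧
      (∀ (s : S) (hs : s ∈ W) (p : ℕ), PerfAux.betti f F s p =
        CohIII.dRank L (-(p : ℤ)) (PrimeSpectrum.comap ι (chartPt W s hs))) ∧
      (∀ (A' : Type u) [CommRing A'] [Algebra (AV W) A'] (X' : Scheme.{u})
        [X'.Over (Spec (CommRingCat.of A'))] (g' : X' ⟶ XV f W)
        (_ : IsPullback g' (X' ↘ Spec (CommRingCat.of A'))
          (XV f W ↘ Spec (CommRingCat.of (AV W)))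
          (Spec.map (CommRingCat.ofHom (algebraMap (AV W) A')))) (n : ℕ),
        GCAt (AV W) A' g' (FV f W F) (CohIII.bcCx ι L) (-(n : ℤ)) n) := by
  letI := chartOver f W
  haveI := hF
  haveI : F.IsQuasicoherent := inferInstance
  obtain ⟨A₀, hA₀, X₀, f₀, hprop, F₀, hF₀, q, H, e, hfl₀⟩ := exists_chart_model f W F hF hfl
  haveI := hprop
  have hft : Algebra.FiniteType ℤ A₀ := (Subalgebra.fg_iff_finiteType A₀).mp hA₀
  haveI hN : IsNoetherianRing A₀ := Algebra.FiniteType.isNoetherianRing ℤ A₀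
  letI : X₀.Over (Spec (CommRingCat.of A₀)) := ⟨f₀⟩
  haveI : IsProper (X₀ ↘ Spec (CommRingCat.of A₀)) := hprop
  haveI : F₀.IsQuasicoherent := hF₀.1
  set ι : A₀ →+* AV W := A₀.val.toRingHom with hι
  -- the Čech complex of the model and its finite free approximation
  obtain ⟨t, U, hU, hcov⟩ := exists_cover A₀ (X := X₀)
  have hd := affine_inf A₀ (X := X₀)
  let P := PZ A₀ U F₀
  have hPflat : ∀ i, Module.Flat A₀ (P.X i) := flat_PZ A₀ U hU hd F₀ hfl₀
  have hPfin : ∀ i, Module.Finite A₀ (P.homology i) :=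
    finite_homology_extend embNeg _ (fun n => finite_homology_CA A₀ U hU hd hcov F₀ n
      (Groth.Agent.S0002.result A₀ X₀ F₀ hF₀ n))
  let d : ℤ := -(t : ℤ) + 1
  have hPz : ∀ i < d, IsZero (P.homology i) := by
    intro i hi
    obtain ⟨p, rfl⟩ : ∃ p : ℕ, i = -(p : ℤ) := ⟨(-i).toNat, by omega⟩
    have hp : t ≤ p := by omega
    have e1 : P.homology (-(p : ℤ)) ≅ (CA A₀ (Uc U) F₀).homology p :=
      (CA A₀ (Uc U) F₀).extendHomologyIso embNeg rfl
    obtain ⟨φ, -⟩ := exists_equiv_HH A₀ U hU hd hcov F₀ p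
    have hsub : Subsingleton (Coh.HH X₀ F₀ p) :=
      Groth.Agent.Helper1.Serre.subsingleton_HH_of_affine_cover _ t U hU hcov hd p hp
    haveI : Subsingleton ((CA A₀ (Uc U) F₀).homology p) := φ.toEquiv.subsingleton
    exact (ModuleCat.isZero_of_subsingleton _).of_iso e1
  obtain ⟨L, u, hLff, hLz, hqis⟩ := exists_approx_module A₀ P hPfin d hPz
  have hLflat : ∀ i, Module.Flat A₀ (L.X i) := fun i => by
    haveI := (hLff i).2
    infer_instance
  have hLd : ∀ i < d, ∀ M : ModuleCat.{u} A₀, IsZero ((CohIII.TFun L i).obj M) :=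
    fun i hi M => isZero_tfun_of_isZero L i (hLz i hi) M
  have hPd : ∀ i < d, ∀ M : ModuleCat.{u} A₀, IsZero ((CohIII.TFun P i).obj M) :=
    fun i hi M => isZero_tfun_PZ_of_le A₀ U hU hd hcov F₀ i (by omega) M
  refine ⟨A₀, inferInstance, hN, ι, L, hLff, ⟨d, hLz⟩, ?_, ?_, ?_⟩
  · intro i hi M
    obtain ⟨e⟩ := nonempty_tfunIso u hLflat hPflat d hLd hPd i
    exact (isZero_tfun_PZ_of_pos A₀ U F₀ i hi M).of_iso (e.app M)
  · intro s hs p
    rw [betti_eq_of_chart_model f W F s hs ι f₀ F₀ hF₀ hfl₀ q H e p]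
    have h1 : CohIII.fiberRank f₀ F₀ p (PrimeSpectrum.comap ι (chartPt W s hs)) =
        CohIII.dRank P (-(p : ℤ)) (PrimeSpectrum.comap ι (chartPt W s hs)) :=
      fiberRank_eq_dRank_PZ A₀ (PrimeSpectrum.comap ι (chartPt W s hs)) F₀ p U hU hcov
    rw [h1]
    exact (dRank_eq_of_quasiIso' u hLflat hPflat d hLd hPd _ _).symm
  · intro A' _ _ X' _ g' hsq n
    letI : Algebra A₀ (AV W) := ι.toAlgebra
    have H' : IsPullback q (XV f W ↘ Spec (CommRingCat.of (AV W)))
        (X₀ ↘ Spec (CommRingCat.of A₀))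
        (Spec.map (CommRingCat.ofHom (algebraMap A₀ (AV W)))) := H
    haveI : IsAffineHom q := CechBC.isAffineHom_of_isPullback A₀ (AV W) q H'
    haveI : IsProper (XV f W ↘ Spec (CommRingCat.of (AV W))) := isProper_chart f W
    -- the cover of the chart
    have hU₁ : ∀ k, IsAffineOpen (Ut q U k) := fun k => (hU k).preimage q
    have hd₁ := affine_inf (AV W) (X := XV f W)
    have hcov₁ : ⨆ k, Ut q U k = ⊤ := by
      rw [← Scheme.Hom.preimage_iSup, hcov]
      rfl
    haveI : (FV f W F).IsQuasicoherent := inferInstance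
    obtain ⟨e₁, e₁', he₁⟩ := exists_gc (AV W) A' g' hsq (Ut q U) hU₁ hd₁ hcov₁ (FV f W F) n
    have hCA : GCAt (AV W) A' g' (FV f W F) (CA (AV W) (Uc (Ut q U)) (FV f W F)) n n :=
      ⟨e₁, e₁', he₁⟩
    have hPZ : GCAt (AV W) A' g' (FV f W F) (PZ (AV W) (Ut q U) (FV f W F)) (-(n : ℤ)) n :=
      hCA.extend embNeg
    -- the comparison map
    obtain ⟨θ⟩ := nonempty_PZ_iso A₀ (AV W) q H' U hU hd F₀
    let κ : CohIII.bcCx ι P ≅ PZ (AV W) (Ut q U) (FV f W F) := θ ≪≫ PZiso (AV W) (Ut q U) e
    let φ : CohIII.bcCx ι L ⟶ PZ (AV W) (Ut q U) (FV f W F) :=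
      ((ModuleCat.extendScalars.{u, u, u} ι).mapHomologicalComplex (ComplexShape.down ℤ)).map u ≫
        κ.hom
    refine hPZ.of_hom φ ?_ ?_
    · have h1 : IsIso (HomologicalComplex.homologyMap
          (((ModuleCat.extendScalars.{u, u, u} ι).mapHomologicalComplex
            (ComplexShape.down ℤ)).map u) (-(n : ℤ))) :=
        isIso_homologyMap_bc (AV W) u hLflat hPflat d hLd hPd _
      haveI := h1
      haveI : IsIso (HomologicalComplex.homologyMap κ.hom (-(n : ℤ))) :=
        (HomologicalComplex.homologyMapIso κ (-(n : ℤ))).isIso_hom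
      show IsIso (HomologicalComplex.homologyMap (_ ≫ κ.hom) (-(n : ℤ)))
      rw [HomologicalComplex.homologyMap_comp]
      infer_instance
    · have h1 := isIso_homologyMap_bc_bc ι (algebraMap (AV W) A') u hLflat hPflat d hLd hPd
        (-(n : ℤ))
      haveI := h1
      let κ' := ((ModuleCat.extendScalars.{u, u, u} (algebraMap (AV W) A')).mapHomologicalComplex
        (ComplexShape.down ℤ)).mapIso κ
      haveI : IsIso (HomologicalComplex.homologyMap κ'.hom (-(n : ℤ))) :=
        (HomologicalComplex.homologyMapIso κ' (-(n : ℤ))).isIso_hom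
      show IsIso (HomologicalComplex.homologyMap
        (((ModuleCat.extendScalars.{u, u, u} (algebraMap (AV W) A')).mapHomologicalComplex
          (ComplexShape.down ℤ)).map (_ ≫ κ.hom)) (-(n : ℤ)))
      rw [Functor.map_comp, HomologicalComplex.homologyMap_comp]
      exact IsIso.comp_isIso' h1 (HomologicalComplex.homologyMapIso κ' (-(n : ℤ))).isIso_hom

end Groth.Agent.Helper1.GBC

end
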