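import Groth.Agent.Helper1.SCV1
import Groth.Agent.S0030
import Groth.Agent.S0007

set_option autoImplicit false
set_option linter.style.haveILetI false
set_option linter.unusedSectionVars false
set_option linter.unusedVariables false

/-!
# The comparison `H^q(f⁻¹V, F) → Γ(V, R^q f_* F)` is bijective over affine opens, for
quasi-coherent modules and quasi-compact quasi-separated morphisms
-/

namespace Groth.Agent.Helper1.SCV

open CategoryTheory Limits Abelian Opposite TopologicalSpace AlgebraicGeometry
  AlgebraicGeometry.Scheme.Modules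

universe u

variable {X Y : Scheme.{u}} (f : X ⟶ Y) (V : Y.Opens)
  [HasInjectiveResolutions X.Modules] {Δ : RDer.DerivedLES (pushforward f)}
  (E : CohCmp.SectCmp f Δ)

theorem ε_bijective_of_isAffineOpen [QuasiCompact f] [QuasiSeparated f] (hV : IsAffineOpen V)
    (F : X.Modules) [Coh.IsQCoh F] (q : ℕ) : Function.Bijective (E.ε V F q) := by
  refine main f V E q F ?_
  intro j p
  haveI : IsAffine (V : Scheme.{u}) := hV
  have h1 : Coh.IsQCoh ((Coh.Rpush f j).obj F) := Groth.Agent.S0030.result f F j
  haveI : ((Coh.Rpush f j).obj F).IsQuasicoherent := h1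
  haveI : Coh.IsQCoh (((Coh.Rpush f j).obj F).restrict V.ι) := inferInstance
  exact Groth.Agent.S0007.result (V : Scheme.{u}) (((Coh.Rpush f j).obj F).restrict V.ι) (p + 1)
    (Nat.succ_pos p)

end Groth.Agent.Helper1.SCV
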