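import Groth.Agent.Helper1.PCH9
import Groth.Agent.Helper1.SCV2
import Groth.Agent.Helper1.AM3

set_option autoImplicit false
set_option linter.style.haveILetI false
set_option linter.unusedSectionVars false
set_option linter.unusedVariables false

/-!
# Horizontal composition of the base change maps of higher direct images
-/

namespace Groth.Agent.Helper1.GBH

open CategoryTheory Opposite TopologicalSpace AlgebraicGeometry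
  AlgebraicGeometry.Scheme.Modules
open Groth.Agent.Helper1.PC Groth.Agent.Helper1.SCV

universe u

variable {X Y Z U V W : Scheme.{u}} (f : X ⟶ Y) (g : Y ⟶ Z) (ξ : X ⟶ U) (η : Y ⟶ V) (ζ : Z ⟶ W)
  (φ : U ⟶ V) (ψ : V ⟶ W) (w₁ : f ≫ η = ξ ≫ φ) (w₂ : g ≫ ζ = η ≫ ψ)
  (hw : (f ≫ g) ≫ ζ = ξ ≫ (φ ≫ ψ))
  [HasInjectiveResolutions X.Modules] [HasInjectiveResolutions Y.Modules]
  [HasInjectiveResolutions Z.Modules]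
  {Δζ : RDer.DerivedLES (pushforward ζ)} {Δη : RDer.DerivedLES (pushforward η)}
  {Δξ : RDer.DerivedLES (pushforward ξ)}
  {Eζ : CohCmp.SectCmp ζ Δζ} {Eη : CohCmp.SectCmp η Δη} {Eξ : CohCmp.SectCmp ξ Δξ}
  (B₂ : CohCmp.GenBC ζ ψ η g w₂ Eζ Eη) (B₁ : CohCmp.GenBC η φ ξ f w₁ Eη Eξ)
  (B : CohCmp.GenBC ζ (φ ≫ ψ) ξ (f ≫ g) hw Eζ Eξ)
  (L : Z.Modules) (p : ℕ)

/-- the base change map of the outer square on the sections coming from classes -/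
theorem phi_comp_ε (W₀ : W.Opens) (x : Coh.HHon Z L (ζ ⁻¹ᵁ W₀) p) :
    (B.φ p L).app W₀ (Eζ.ε W₀ L p x) =
      ((Coh.Rpush ξ p).map ((pullbackComp f g).hom.app L)).app (φ ⁻¹ᵁ (ψ ⁻¹ᵁ W₀))
        ((B₁.φ p ((pullback g).obj L)).app (ψ ⁻¹ᵁ W₀)
          ((B₂.φ p L).app W₀ (Eζ.ε W₀ L p x))) := by
  have h1 := B.compat W₀ L p x
  have h2 := B₂.compat W₀ L p x
  have h3 := B₁.compat (ψ ⁻¹ᵁ W₀) ((pullback g).obj L) p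
    (CohPull.pullOn g (ζ ⁻¹ᵁ W₀) (η ⁻¹ᵁ (ψ ⁻¹ᵁ W₀)) (CohCmp.sqLE ζ ψ η g w₂ W₀) L p x)
  have h4 := Eξ.natural (φ ⁻¹ᵁ (ψ ⁻¹ᵁ W₀)) ((pullbackComp f g).hom.app L) p
    (CohPull.pullOn f (η ⁻¹ᵁ (ψ ⁻¹ᵁ W₀)) (ξ ⁻¹ᵁ (φ ⁻¹ᵁ (ψ ⁻¹ᵁ W₀)))
      (CohCmp.sqLE η φ ξ f w₁ (ψ ⁻¹ᵁ W₀)) ((pullback g).obj L) p
      (CohPull.pullOn g (ζ ⁻¹ᵁ W₀) (η ⁻¹ᵁ (ψ ⁻¹ᵁ W₀)) (CohCmp.sqLE ζ ψ η g w₂ W₀) L p x))
  have h5 := pullOn_comp f g (ζ ⁻¹ᵁ W₀) (η ⁻¹ᵁ (ψ ⁻¹ᵁ W₀)) (ξ ⁻¹ᵁ (φ ⁻¹ᵁ (ψ ⁻¹ᵁ W₀)))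
    (CohCmp.sqLE ζ ψ η g w₂ W₀) (CohCmp.sqLE η φ ξ f w₁ (ψ ⁻¹ᵁ W₀))
    (CohCmp.sqLE ζ (φ ≫ ψ) ξ (f ≫ g) hw W₀) L p x
  refine h1.trans ?_
  refine Eq.trans ?_ ((congrArg (fun t => ((Coh.Rpush ξ p).map ((pullbackComp f g).hom.app L)).app
    (φ ⁻¹ᵁ (ψ ⁻¹ᵁ W₀)) ((B₁.φ p ((pullback g).obj L)).app (ψ ⁻¹ᵁ W₀) t)) h2).trans
    ((congrArg (fun t => ((Coh.Rpush ξ p).map ((pullbackComp f g).hom.app L)).app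
      (φ ⁻¹ᵁ (ψ ⁻¹ᵁ W₀)) t) h3).trans h4.symm)).symm
  exact congrArg (Eξ.ε (φ ⁻¹ᵁ (ψ ⁻¹ᵁ W₀)) ((pullback (f ≫ g)).obj L) p) h5

variable [QuasiCompact ζ] [QuasiSeparated ζ] [Coh.IsQCoh L]

/-- **the base change map of the outer square in adjoint form** -/
theorem phi_comp :
    B.φ p L = B₂.φ p L ≫ (pushforward ψ).map (B₁.φ p ((pullback g).obj L) ≫
      (pushforward φ).map ((Coh.Rpush ξ p).map ((pullbackComp f g).hom.app L))) ≫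
      (pushforwardComp φ ψ).hom.app _ := by
  haveI : L.IsQuasicoherent := inferInstance
  have qN0 : Coh.IsQCoh ((Coh.Rpush ζ p).obj L) := Groth.Agent.S0030.result ζ L p
  haveI qN : ((Coh.Rpush ζ p).obj L).IsQuasicoherent := qN0
  refine Groth.Agent.Helper1.AM.hom_ext_of_affine_cover _ _ (fun V => IsAffineOpen V)
    (fun V hV => hV) (fun x => ?_) ?_
  · obtain ⟨V₀, hV₀, hx, -⟩ := exists_isAffineOpen_mem_and_subset (x := x)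
      (U := (⊤ : W.Opens)) trivial
    exact ⟨V₀, hV₀, hx⟩
  · intro W₀ hW₀ s
    obtain ⟨x, rfl⟩ := (ε_bijective_of_isAffineOpen ζ W₀ Eζ hW₀ L p).2 s
    rw [phi_comp_ε f g ξ η ζ φ ψ w₁ w₂ hw B₂ B₁ B L p W₀ x]
    rfl

end Groth.Agent.Helper1.GBH
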