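import Groth.Agent.Helper1.GBH1

set_option autoImplicit false
set_option linter.style.haveILetI false
set_option linter.unusedSectionVars false
set_option linter.unusedVariables false

/-!
# Horizontal composition of the base change maps of higher direct images (II)
-/

namespace Groth.Agent.Helper1.GBH

open CategoryTheory Opposite TopologicalSpace AlgebraicGeometry
  AlgebraicGeometry.Scheme.Modules
open Groth.Agent.Helper1.PC Groth.Agent.Helper1.SCV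

universe u

section Abstract

variable {𝒵 𝒴 𝒳 : Type*} [Category 𝒵] [Category 𝒴] [Category 𝒳]
  {Lk : 𝒵 ⥤ 𝒴} {Rk : 𝒴 ⥤ 𝒵} (adjk : Lk ⊣ Rk) {Lj : 𝒴 ⥤ 𝒳} {Rj : 𝒳 ⥤ 𝒴} (adjj : Lj ⊣ Rj)
  {Lc : 𝒵 ⥤ 𝒳} {Rc : 𝒳 ⥤ 𝒵} (adjc : Lc ⊣ Rc)
  (pbC : Lk ⋙ Lj ≅ Lc) (pfC : Rj ⋙ Rk ≅ Rc)
  (hC : conjugateEquiv (adjk.comp adjj) adjc pbC.inv = pfC.hom)

include hC in
/-- transposing a composite of two maps in adjoint form -/
lemma transpose_horizontal {N : 𝒵} {N₂ : 𝒴} {T₁ T : 𝒳} (a : N ⟶ Rk.obj N₂) (b : N₂ ⟶ Rj.obj T₁)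
    (r : T₁ ⟶ T) (c : N ⟶ Rc.obj T) (hc : c = a ≫ Rk.map (b ≫ Rj.map r) ≫ pfC.hom.app T) :
    pbC.hom.app N ≫ (adjc.homEquiv N T).symm c =
      Lj.map ((adjk.homEquiv _ _).symm a) ≫ (adjj.homEquiv _ _).symm b ≫ r := by
  have h2 : adjk.unit.app N ≫ Rk.map ((adjk.homEquiv _ _).symm a) = a := by
    have := adjk.homEquiv_unit (f := (adjk.homEquiv _ _).symm a)
    rw [Equiv.apply_symm_apply] at this
    exact this.symm
  have h3 : adjj.unit.app N₂ ≫ Rj.map ((adjj.homEquiv _ _).symm b) = b := by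
    have := adjj.homEquiv_unit (f := (adjj.homEquiv _ _).symm b)
    rw [Equiv.apply_symm_apply] at this
    exact this.symm
  have h4 : (adjk.homEquiv N N₂).symm a ≫ adjj.unit.app N₂ =
      adjj.unit.app (Lk.obj N) ≫ Rj.map (Lj.map ((adjk.homEquiv N N₂).symm a)) :=
    adjj.unit.naturality ((adjk.homEquiv _ _).symm a)
  set α := Lj.map ((adjk.homEquiv _ _).symm a) ≫ (adjj.homEquiv _ _).symm b ≫ r with hα
  have key : (adjc.homEquiv N T).symm c = pbC.inv.app N ≫ α := by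
    apply (adjc.homEquiv N T).injective
    rw [Equiv.apply_symm_apply, Adjunction.homEquiv_unit,
      unit_comp_abstract adjk adjj adjc pbC pfC hC N]
    have hn := pfC.hom.naturality (pbC.inv.app N ≫ α)
    simp only [Functor.comp_map] at hn
    simp only [Category.assoc]
    have e1 : Rk.map (Rj.map (pbC.hom.app N)) ≫ Rk.map (Rj.map (pbC.inv.app N ≫ α)) =
        Rk.map (Rj.map α) := by
      rw [← Functor.map_comp, ← Functor.map_comp, Iso.hom_inv_id_app_assoc]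
    rw [← hn, reassoc_of% e1]
    rw [hc, hα]
    calc a ≫ Rk.map (b ≫ Rj.map r) ≫ pfC.hom.app T
        = (adjk.unit.app N ≫ Rk.map ((adjk.homEquiv _ _).symm a)) ≫
            Rk.map ((adjj.unit.app N₂ ≫ Rj.map ((adjj.homEquiv _ _).symm b)) ≫ Rj.map r) ≫
            pfC.hom.app T := by rw [h2, h3]
      _ = adjk.unit.app N ≫ Rk.map (((adjk.homEquiv _ _).symm a ≫ adjj.unit.app N₂) ≫
            Rj.map ((adjj.homEquiv _ _).symm b) ≫ Rj.map r) ≫ pfC.hom.app T := by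
          simp only [Functor.map_comp, Category.assoc]
      _ = _ := by
          rw [h4]
          simp only [Functor.map_comp, Category.assoc, Functor.comp_obj]
  rw [key, Iso.hom_inv_id_app_assoc]

end Abstract

variable {X Y Z U V W : Scheme.{u}} (f : X ⟶ Y) (g : Y ⟶ Z) (ξ : X ⟶ U) (η : Y ⟶ V) (ζ : Z ⟶ W)
  (φ : U ⟶ V) (ψ : V ⟶ W) (w₁ : f ≫ η = ξ ≫ φ) (w₂ : g ≫ ζ = η ≫ ψ)
  (hw : (f ≫ g) ≫ ζ = ξ ≫ (φ ≫ ψ))
  [HasInjectiveResolutions X.Modules] [HasInjectiveResolutions Y.Modules]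
  [HasInjectiveResolutions Z.Modules]
  {Δζ : RDer.DerivedLES (pushforward ζ)} {Δη : RDer.DerivedLES (pushforward η)}
  {Δξ : RDer.DerivedLES (pushforward ξ)}
  {Eζ : CohCmp.SectCmp ζ Δζ} {Eη : CohCmp.SectCmp η Δη} {Eξ : CohCmp.SectCmp ξ Δξ}
  (B₂ : CohCmp.GenBC ζ ψ η g w₂ Eζ Eη) (B₁ : CohCmp.GenBC η φ ξ f w₁ Eη Eξ)
  (B : CohCmp.GenBC ζ (φ ≫ ψ) ξ (f ≫ g) hw Eζ Eξ)
  (L : Z.Modules) (p : ℕ) [QuasiCompact ζ] [QuasiSeparated ζ] [Coh.IsQCoh L]

/-- **horizontal composition of the base change maps** -/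
theorem bc_comp_horizontal :
    (pullbackComp φ ψ).hom.app ((Coh.Rpush ζ p).obj L) ≫ B.bc p L =
      (pullback φ).map (B₂.bc p L) ≫ B₁.bc p ((pullback g).obj L) ≫
        (Coh.Rpush ξ p).map ((pullbackComp f g).hom.app L) :=
  transpose_horizontal (pullbackPushforwardAdjunction ψ) (pullbackPushforwardAdjunction φ)
    (pullbackPushforwardAdjunction (φ ≫ ψ)) (pullbackComp φ ψ) (pushforwardComp φ ψ)
    (conjugateEquiv_pullbackComp_inv φ ψ) (B₂.φ p L) (B₁.φ p ((pullback g).obj L))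
    ((Coh.Rpush ξ p).map ((pullbackComp f g).hom.app L)) (B.φ p L)
    (phi_comp f g ξ η ζ φ ψ w₁ w₂ hw B₂ B₁ B L p)

end Groth.Agent.Helper1.GBH
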