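import Mathlib

/-!
# `B[t]` is finite over `B[a tⁿ]` for a unit `a` and `n > 0`
-/

set_option autoImplicit false

namespace Groth.Agent.Helper1.GC

open Polynomial

universe u

theorem finite_eval₂_of_unit {B R : Type u} [CommRing B] [CommRing R] (s : B →+* R) (t : R)
    (hsurj : Function.Surjective (Polynomial.eval₂RingHom s t)) (a : B) (ha : IsUnit a) (n : ℕ)
    (hn : 0 < n) : (Polynomial.eval₂RingHom s (s a * t ^ n)).Finite := by
  classical
  letI := (Polynomial.eval₂RingHom s (s a * t ^ n)).toAlgebra
  change Module.Finite B[X] R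
  obtain ⟨u, hu⟩ := ha.exists_left_inv
  have hsm : ∀ (P : B[X]) (r : R), P • r = Polynomial.eval₂ s (s a * t ^ n) P * r := by
    intro P r
    rw [Algebra.smul_def]
    rfl
  refine ⟨⟨Finset.image (fun k => t ^ k) (Finset.range n), ?_⟩⟩
  rw [eq_top_iff]
  intro r _
  obtain ⟨P, rfl⟩ := hsurj r
  suffices key : ∀ P : B[X], (Polynomial.eval₂RingHom s t) P ∈ Submodule.span B[X]
      ((Finset.image (fun k => t ^ k) (Finset.range n) : Finset R) : Set R) from key P
  intro P
  induction P using Polynomial.induction_on' with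
  | add p q hp hq =>
    rw [map_add]
    exact Submodule.add_mem _ hp hq
  | monomial j b =>
    have hj : j = n * (j / n) + j % n := (Nat.div_add_mod j n).symm
    have hk : j % n < n := Nat.mod_lt j hn
    have hmem : t ^ (j % n) ∈ Submodule.span B[X]
        ((Finset.image (fun k => t ^ k) (Finset.range n) : Finset R) : Set R) := by
      apply Submodule.subset_span
      rw [Finset.coe_image]
      exact ⟨j % n, Finset.mem_coe.mpr (Finset.mem_range.mpr hk), rfl⟩
    have h1 : (Polynomial.eval₂RingHom s t) (Polynomial.monomial j b) =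
        (C (b * u ^ (j / n)) * X ^ (j / n) : B[X]) • t ^ (j % n) := by
      rw [hsm, Polynomial.coe_eval₂RingHom, Polynomial.eval₂_monomial, Polynomial.eval₂_mul,
        Polynomial.eval₂_C, Polynomial.eval₂_pow, Polynomial.eval₂_X, map_mul, map_pow]
      have h2 : s u * s a = 1 := by rw [← map_mul, hu, map_one]
      calc s b * t ^ j = s b * t ^ (n * (j / n) + j % n) := by rw [← hj]
        _ = s b * ((s u * s a) ^ (j / n) * (t ^ n) ^ (j / n)) * t ^ (j % n) := by
            rw [h2, one_pow, one_mul, pow_add, pow_mul, mul_assoc]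
        _ = s b * s u ^ (j / n) * (s a * t ^ n) ^ (j / n) * t ^ (j % n) := by
            rw [mul_pow, mul_pow]; ring
    rw [h1]
    exact Submodule.smul_mem _ _ hmem

end Groth.Agent.Helper1.GC
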