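import Mathlib
import Groth.Agent.Helper1.GB7

/-!
# The affine pushout: the comorphism of `inr`, density of the image of `inr` in the charts, and
points off the image of `inl`
-/

set_option autoImplicit false
set_option linter.style.haveILetI false
set_option linter.unusedSectionVars false

namespace Groth.Agent.Helper1.GC

open CategoryTheory Limits AlgebraicGeometry TopologicalSpace Opposite
open Groth.Agent.Helper4 Groth.Agent.Helper1.GB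

universe u

noncomputable section

section fibalg

variable {Yt : TopCat.{u}} {P Q S : TopCat.Presheaf CommRingCat.{u} Yt} (α : P ⟶ S) (β : Q ⟶ S)

theorem fib_pow_eq_zero {U : (Opens Yt)ᵒᵖ} (x : (fib α β).obj U) (N : ℕ)
    (h1 : ((fst α β).app U).hom x = 0) (h2 : ((snd α β).app U).hom x ^ N = 0) :
    x ^ (N + 1) = 0 := by
  apply fib_ext
  · rw [map_pow, h1, map_zero]
    exact zero_pow (Nat.succ_ne_zero N)
  · rw [map_zero, map_pow, pow_succ, h2, zero_mul]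

theorem fib_fst_mul_eq_zero {U : (Opens Yt)ᵒᵖ} (x y : (fib α β).obj U)
    (h1 : ((fst α β).app U).hom x = 0) : ((fst α β).app U).hom (x * y) = 0 := by
  rw [map_mul, h1, zero_mul]

end fibalg

section general

variable {Y : Scheme.{u}} (A : RelSpec.QCAlg Y) {Z : Scheme.{u}} (f : Z ⟶ Y) [QuasiCompact f]
  (ω' : A.presheaf ⟶ AffAlg.alg f) (hω : A.str ≫ ω' = f.c)

theorem toSpec_ι_apply (U : Y.Opens) (hU : IsAffineOpen U) (z' : (f ⁻¹ᵁ U : Z.Opens)) :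
    toSpec A f ω' ((f ⁻¹ᵁ U).ι z') =
      (A.ι U hU) ((Spec.map (ω'.app (op U))) ((f ⁻¹ᵁ U).toSpecΓ z')) := by
  rw [← Scheme.Hom.comp_apply, ι_toSpec A f ω' U hU]
  rfl

include hω in
/-- if the image of `toSpec` is closed, it contains every chart basic open `D(s)` on which
nilpotence can be tested after `ω'` -/
theorem chart_subset_range (hcl : IsClosed (Set.range (toSpec A f ω')))
    (U : Y.Opens) (hU : IsAffineOpen U) (s : A.presheaf.obj (op U))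
    (hs : ∀ e' : A.presheaf.obj (op U), IsNilpotent ((ω'.app (op U)).hom (s * e')) →
      IsNilpotent (s * e')) :
    (((A.ι U hU) ''ᵁ (PrimeSpectrum.basicOpen s : (Spec (A.presheaf.obj (op U))).Opens) :
      A.spec.Opens) : Set A.spec) ⊆ Set.range (toSpec A f ω') := by
  rintro c ⟨𝔠, h𝔠, rfl⟩
  by_contra hcon
  have hO : IsOpen ((A.ι U hU) ⁻¹' (Set.range (toSpec A f ω'))ᶜ) :=
    hcl.isOpen_compl.preimage (A.ι U hU).continuous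
  obtain ⟨_, ⟨_, ⟨e', rfl⟩, rfl⟩, h𝔠e', hle⟩ :=
    PrimeSpectrum.isBasis_basic_opens.exists_subset_of_mem_open
      (show 𝔠 ∈ (A.ι U hU) ⁻¹' (Set.range (toSpec A f ω'))ᶜ from hcon) hO
  have hpre := toSpec_preimage A f ω' hω U hU (s * e')
  have hbot : toSpec A f ω' ⁻¹ᵁ ((A.ι U hU) ''ᵁ (PrimeSpectrum.basicOpen (s * e') :
      (Spec (A.presheaf.obj (op U))).Opens)) = ⊥ := by
    rw [eq_bot_iff]
    rintro z ⟨v, hv, hv'⟩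
    have hv2 : v ∈ (PrimeSpectrum.basicOpen e' : Set (PrimeSpectrum (A.presheaf.obj (op U)))) := by
      have : v ∈ (PrimeSpectrum.basicOpen (s * e') :
          Set (PrimeSpectrum (A.presheaf.obj (op U)))) := hv
      rw [PrimeSpectrum.basicOpen_mul] at this
      exact this.2
    exact hle hv2 ⟨z, hv'.symm⟩
  rw [hbot] at hpre
  have hcomp : IsCompact ((f ⁻¹ᵁ U : Z.Opens) : Set Z) :=
    QuasiCompact.isCompact_preimage (f := f) _ U.isOpen hU.isCompact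
  have hnil := hs e' ((Scheme.isNilpotent_iff_basicOpen_eq_bot_of_isCompact hcomp _).mpr hpre.symm)
  obtain ⟨N, hN⟩ := hnil
  have hmem : s * e' ∈ 𝔠.asIdeal := by
    apply 𝔠.isPrime.mem_of_pow_mem N
    rw [hN]
    exact Ideal.zero_mem _
  rcases 𝔠.isPrime.mem_or_mem hmem with h | h
  · exact h𝔠 h
  · exact h𝔠e' h

/-- a point of a chart all of whose "kernel" elements lie in the prime comes from the source,
when `ω'` is surjective over the chart and the source is affine over it -/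
theorem mem_range_of_ker_le (U : Y.Opens) (hU : IsAffineOpen U)
    (haff : IsAffineOpen (f ⁻¹ᵁ U))
    (hsurj : Function.Surjective (ω'.app (op U)).hom)
    (𝔠 : Spec (A.presheaf.obj (op U)))
    (hker : RingHom.ker (ω'.app (op U)).hom ≤ 𝔠.asIdeal) :
    (A.ι U hU) 𝔠 ∈ Set.range (toSpec A f ω') := by
  haveI := 𝔠.isPrime
  let 𝔶 : Spec Γ(Z, f ⁻¹ᵁ U) :=
    ⟨Ideal.map (ω'.app (op U)).hom 𝔠.asIdeal, Ideal.map_isPrime_of_surjective hsurj hker⟩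
  have h1 : (Spec.map (ω'.app (op U))) 𝔶 = 𝔠 := by
    apply PrimeSpectrum.ext
    change Ideal.comap (ω'.app (op U)).hom (Ideal.map (ω'.app (op U)).hom 𝔠.asIdeal) = 𝔠.asIdeal
    rw [Ideal.comap_map_of_surjective _ hsurj]
    exact sup_eq_left.mpr hker
  haveI : IsIso (f ⁻¹ᵁ U).toSpecΓ := by
    rw [← haff.isoSpec_hom]; infer_instance
  let z' : (f ⁻¹ᵁ U : Z.Opens) := (inv (f ⁻¹ᵁ U).toSpecΓ) 𝔶
  have h2 : (f ⁻¹ᵁ U).toSpecΓ z' = 𝔶 := by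
    change (inv (f ⁻¹ᵁ U).toSpecΓ ≫ (f ⁻¹ᵁ U).toSpecΓ) 𝔶 = 𝔶
    rw [IsIso.inv_hom_id]
    rfl
  refine ⟨(f ⁻¹ᵁ U).ι z', ?_⟩
  rw [toSpec_ι_apply A f ω' U hU z', h2, h1]

end general

variable {Y Z₀ Z₁ Z₂ : Scheme.{u}} (f₀ : Z₀ ⟶ Y) (f₁ : Z₁ ⟶ Y) (f₂ : Z₂ ⟶ Y)
  [QuasiCompact f₀] [QuasiSeparated f₀] [QuasiCompact f₁] [QuasiSeparated f₁]
  [QuasiCompact f₂] [QuasiSeparated f₂]
  (h₁ : Z₀ ⟶ Z₁) (h₂ : Z₀ ⟶ Z₂) (w₁ : h₁ ≫ f₁ = f₀) (w₂ : h₂ ≫ f₂ = f₀)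

/-- the comorphism of `inr` over an affine open of the base -/
theorem inr_appLE (U : Y.Opens) (hU : IsAffineOpen U)
    (e : f₂ ⁻¹ᵁ U ≤ inr f₀ f₁ f₂ h₁ h₂ w₁ w₂ ⁻¹ᵁ ((pushAlg f₀ f₁ f₂ h₁ h₂ w₁ w₂).π ⁻¹ᵁ U)) :
    (inr f₀ f₁ f₂ h₁ h₂ w₁ w₂).appLE ((pushAlg f₀ f₁ f₂ h₁ h₂ w₁ w₂).π ⁻¹ᵁ U) (f₂ ⁻¹ᵁ U) e =
      (pushAlg f₀ f₁ f₂ h₁ h₂ w₁ w₂).gammaAff U hU ≫
        (show (pushAlg f₀ f₁ f₂ h₁ h₂ w₁ w₂).presheaf ⟶ AffAlg.alg f₂ from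
          snd (AffAlg.algHom f₁ f₀ h₁ w₁) (AffAlg.algHom f₂ f₀ h₂ w₂)).app (op U) := by
  have h := congrArg (fun k => k.app (op U)) (algHom_inr f₀ f₁ f₂ h₁ h₂ w₁ w₂)
  rw [DP.algHom_app] at h
  unfold ω₂ at h
  rw [NatTrans.comp_app, (pushAlg f₀ f₁ f₂ h₁ h₂ w₁ w₂).gammaMap_app U hU] at h
  exact h

variable (U : Y.Opens) (hU : IsAffineOpen U) (ρ₀ : Γ(Z₂, f₂ ⁻¹ᵁ U))
  (hρ₀ : ((AffAlg.algHom f₂ f₀ h₂ w₂).app (op U)).hom ρ₀ = 0)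

theorem ι_mem_chartOpen_iff (𝔠 : Spec ((pushAlg f₀ f₁ f₂ h₁ h₂ w₁ w₂).presheaf.obj (op U))) :
    ((pushAlg f₀ f₁ f₂ h₁ h₂ w₁ w₂).ι U hU) 𝔠 ∈ chartOpen f₀ f₁ f₂ h₁ h₂ w₁ w₂ U hU ρ₀ hρ₀ ↔
      chartElt f₀ f₁ f₂ h₁ h₂ w₁ w₂ U ρ₀ hρ₀ ∉ 𝔠.asIdeal := by
  constructor
  · rintro ⟨v, hv, hv'⟩
    have := ((pushAlg f₀ f₁ f₂ h₁ h₂ w₁ w₂).ι U hU).injective hv'
    rw [← this]
    exact hv
  · intro h
    exact ⟨𝔠, h, rfl⟩

/-- the image of `inr`, if closed, contains every chart -/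
theorem chartOpen_subset_range (hcl : IsClosed (Set.range (inr f₀ f₁ f₂ h₁ h₂ w₁ w₂))) :
    ((chartOpen f₀ f₁ f₂ h₁ h₂ w₁ w₂ U hU ρ₀ hρ₀ :
      (pushAlg f₀ f₁ f₂ h₁ h₂ w₁ w₂).spec.Opens) : Set (pushAlg f₀ f₁ f₂ h₁ h₂ w₁ w₂).spec) ⊆
      Set.range (inr f₀ f₁ f₂ h₁ h₂ w₁ w₂) := by
  refine chart_subset_range (pushAlg f₀ f₁ f₂ h₁ h₂ w₁ w₂) f₂ _
    (lift_snd _ _ _ _ (push_h f₀ f₁ f₂ h₁ h₂ w₁ w₂)) hcl U hU
    (chartElt f₀ f₁ f₂ h₁ h₂ w₁ w₂ U ρ₀ hρ₀) ?_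
  rintro e' ⟨N, hN⟩
  exact ⟨N + 1, fib_pow_eq_zero _ _ _ N (fib_fst_mul_eq_zero _ _ _ _ rfl) hN⟩

end

end Groth.Agent.Helper1.GC
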