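import Mathlib
import Groth.Agent.Helper1.GC2

/-!
# The affine pushout: the complement of the image of `inl` is covered by charts; the image of
`inr` on an open
-/

set_option autoImplicit false
set_option linter.style.haveILetI false
set_option linter.unusedSectionVars false

namespace Groth.Agent.Helper1.GC

open CategoryTheory Limits AlgebraicGeometry TopologicalSpace Opposite
open Groth.Agent.Helper4 Groth.Agent.Helper1.GB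

universe u

noncomputable section

section fibalg

variable {Yt : TopCat.{u}} {P Q S : TopCat.Presheaf CommRingCat.{u} Yt} (α : P ⟶ S) (β : Q ⟶ S)

theorem fib_snd_vanish {U : (Opens Yt)ᵒᵖ} (x : (fib α β).obj U)
    (h1 : ((fst α β).app U).hom x = 0) : (β.app U).hom (((snd α β).app U).hom x) = 0 := by
  have h := x.2
  rw [mem_fibObj] at h
  have h1' : x.1.1 = 0 := h1
  rw [h1', map_zero] at h
  exact h.symm

end fibalg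

variable {Y Z₀ Z₁ Z₂ : Scheme.{u}} (f₀ : Z₀ ⟶ Y) (f₁ : Z₁ ⟶ Y) (f₂ : Z₂ ⟶ Y)
  [QuasiCompact f₀] [QuasiSeparated f₀] [QuasiCompact f₁] [QuasiSeparated f₁]
  [QuasiCompact f₂] [QuasiSeparated f₂]
  (h₁ : Z₀ ⟶ Z₁) (h₂ : Z₀ ⟶ Z₂) (w₁ : h₁ ≫ f₁ = f₀) (w₂ : h₂ ≫ f₂ = f₀)

/-- a point of the affine pushout off the image of `inl` lies in a chart -/
theorem exists_chart_of_not_mem_range_inl
    (haff : ∀ U : Y.Opens, IsAffineOpen U → IsAffineOpen (f₁ ⁻¹ᵁ U))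
    (hsurj : ∀ U : Y.Opens, IsAffineOpen U → Function.Surjective (f₁.app U).hom)
    (c : (pushAlg f₀ f₁ f₂ h₁ h₂ w₁ w₂).spec)
    (hc : c ∉ Set.range (inl f₀ f₁ f₂ h₁ h₂ w₁ w₂)) :
    ∃ (U : Y.Opens) (hU : IsAffineOpen U) (ρ₀ : Γ(Z₂, f₂ ⁻¹ᵁ U))
      (hρ₀ : ((AffAlg.algHom f₂ f₀ h₂ w₂).app (op U)).hom ρ₀ = 0),
      c ∈ chartOpen f₀ f₁ f₂ h₁ h₂ w₁ w₂ U hU ρ₀ hρ₀ := by
  obtain ⟨_, ⟨U, hU : IsAffineOpen U, rfl⟩, hyU, -⟩ :=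
    Y.isBasis_affineOpens.exists_subset_of_mem_open
      (Set.mem_univ ((pushAlg f₀ f₁ f₂ h₁ h₂ w₁ w₂).π c)) isOpen_univ
  obtain ⟨𝔠, rfl⟩ := PC.exists_ι_of_mem (pushAlg f₀ f₁ f₂ h₁ h₂ w₁ w₂) c U hU hyU
  by_contra hcon
  apply hc
  rw [inl_eq_toSpec]
  apply mem_range_of_ker_le (pushAlg f₀ f₁ f₂ h₁ h₂ w₁ w₂) f₁ _ U hU (haff U hU)
  · intro b
    obtain ⟨r, hr⟩ := hsurj U hU b
    refine ⟨((pushAlg f₀ f₁ f₂ h₁ h₂ w₁ w₂).str.app (op U)).hom r, ?_⟩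
    have h := congrArg (fun k => (k.app (op U)).hom r)
      (lift_fst (AffAlg.algHom f₁ f₀ h₁ w₁) (AffAlg.algHom f₂ f₀ h₂ w₂) f₁.c f₂.c
        (push_h f₀ f₁ f₂ h₁ h₂ w₁ w₂))
    exact h.trans hr
  · intro x hx
    have hx0 : ((fst (AffAlg.algHom f₁ f₀ h₁ w₁) (AffAlg.algHom f₂ f₀ h₂ w₂)).app (op U)).hom x
        = 0 := hx
    have hvan := fib_snd_vanish (AffAlg.algHom f₁ f₀ h₁ w₁) (AffAlg.algHom f₂ f₀ h₂ w₂) x hx0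
    by_contra hx𝔠
    apply hcon
    refine ⟨U, hU, _, hvan, ?_⟩
    rw [ι_mem_chartOpen_iff]
    have hxe : chartElt f₀ f₁ f₂ h₁ h₂ w₁ w₂ U _ hvan = x := by
      apply fib_ext
      · exact hx0.symm
      · rfl
    rw [hxe]
    exact hx𝔠

/-- the image of an open `V0` of `Z₂` in the affine pushout is the complement of the image of
`inl`, when `inr` has closed image, the charts pull back into `V0`, and `V0` misses `inl` -/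
theorem range_eq_compl
    (haff : ∀ U : Y.Opens, IsAffineOpen U → IsAffineOpen (f₁ ⁻¹ᵁ U))
    (hsurj : ∀ U : Y.Opens, IsAffineOpen U → Function.Surjective (f₁.app U).hom)
    (hcl : IsClosed (Set.range (inr f₀ f₁ f₂ h₁ h₂ w₁ w₂))) (V0 : Z₂.Opens)
    (hV0 : ∀ (U : Y.Opens) (_ : IsAffineOpen U) (ρ₀ : Γ(Z₂, f₂ ⁻¹ᵁ U)),
      ((AffAlg.algHom f₂ f₀ h₂ w₂).app (op U)).hom ρ₀ = 0 → Z₂.basicOpen ρ₀ ≤ V0)
    (hdisj : Set.range (V0.ι ≫ inr f₀ f₁ f₂ h₁ h₂ w₁ w₂).base ∩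
        Set.range (inl f₀ f₁ f₂ h₁ h₂ w₁ w₂).base = ∅) :
    Set.range (V0.ι ≫ inr f₀ f₁ f₂ h₁ h₂ w₁ w₂).base =
      (Set.range (inl f₀ f₁ f₂ h₁ h₂ w₁ w₂).base)ᶜ := by
  apply Set.Subset.antisymm
  · intro c hc hc'
    have : c ∈ Set.range (V0.ι ≫ inr f₀ f₁ f₂ h₁ h₂ w₁ w₂).base ∩
        Set.range (inl f₀ f₁ f₂ h₁ h₂ w₁ w₂).base := ⟨hc, hc'⟩
    rw [hdisj] at this
    exact this
  · intro c hc
    obtain ⟨U, hU, ρ₀, hρ₀, hcU⟩ :=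
      exists_chart_of_not_mem_range_inl f₀ f₁ f₂ h₁ h₂ w₁ w₂ haff hsurj c hc
    obtain ⟨v, rfl⟩ := chartOpen_subset_range f₀ f₁ f₂ h₁ h₂ w₁ w₂ U hU ρ₀ hρ₀ hcl hcU
    have hv : v ∈ inr f₀ f₁ f₂ h₁ h₂ w₁ w₂ ⁻¹ᵁ chartOpen f₀ f₁ f₂ h₁ h₂ w₁ w₂ U hU ρ₀ hρ₀ := hcU
    rw [inr_preimage_chartOpen] at hv
    exact ⟨⟨v, hV0 U hU ρ₀ hρ₀ hv⟩, rfl⟩

end

end Groth.Agent.Helper1.GC
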