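import Mathlib

/-!
# A criterion for a morphism of schemes to be finite: locally, the comorphism becomes finite after
precomposition with a polynomial ring
-/

set_option autoImplicit false
set_option linter.style.haveILetI false

namespace Groth.Agent.Helper1.GC

open CategoryTheory Limits AlgebraicGeometry TopologicalSpace Opposite

universe u

set_option backward.isDefEq.respectTransparency false in
/-- a morphism is finite if the target is covered by affine opens with affine preimage and finite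
comorphism -/
theorem isFinite_of_cover {V P : Scheme.{u}} (Φ : V ⟶ P)
    (hcov : ∀ z : P, ∃ W : P.Opens, z ∈ W ∧ IsAffineOpen W ∧ IsAffineOpen (Φ ⁻¹ᵁ W) ∧
      (Φ.app W).hom.Finite) : IsFinite Φ := by
  choose W hzW hW0 hΦW hfin using hcov
  have hW : ∀ z, W z ∈ P.affineOpens := hW0
  have hsup : ⨆ z, ((⟨W z, hW z⟩ : P.affineOpens) : P.Opens) = ⊤ := by
    rw [eq_top_iff]
    intro z _
    exact Opens.mem_iSup.mpr ⟨z, hzW z⟩
  rw [HasAffineProperty.iff_of_iSup_eq_top (P := @IsFinite) (fun z => (⟨W z, hW z⟩ : P.affineOpens))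
    hsup]
  intro z
  refine ⟨hΦW z, ?_⟩
  rw [morphismRestrict_appTop, CommRingCat.hom_comp, RingHom.finite_respectsIso.cancel_right_isIso]
  change RingHom.Finite (Scheme.Hom.app Φ ((W z).ι ''ᵁ ⊤)).hom
  rw [Scheme.Opens.ι_image_top]
  exact hfin z

theorem appLE_of_eq {X Y : Scheme.{u}} {f f' : X ⟶ Y} (h : f = f') (U : Y.Opens) (N : X.Opens)
    (e : N ≤ f ⁻¹ᵁ U) : f.appLE U N e = f'.appLE U N (h ▸ e) := by
  subst h; rfl

/-- `Φ.app W` is finite as soon as `Φ.appLE W N` is, for `N` the preimage of `W` -/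
theorem finite_app_of_appLE {V P : Scheme.{u}} (Φ : V ⟶ P) (W : P.Opens) (N : V.Opens)
    (hN : N = Φ ⁻¹ᵁ W) (h : (Φ.appLE W N hN.le).hom.Finite) : (Φ.app W).hom.Finite := by
  subst hN
  rw [Scheme.Hom.app_eq_appLE]
  exact h

/-- the polynomial criterion -/
theorem finite_appLE_of_poly {V P X C : Scheme.{u}} (Φ : V ⟶ P) (fst : P ⟶ C) (snd : P ⟶ X)
    (q : V ⟶ C) (π : V ⟶ X) (h1 : Φ ≫ fst = q) (h2 : Φ ≫ snd = π)
    (W : P.Opens) (N : V.Opens) (e : N ≤ Φ ⁻¹ᵁ W)
    (T : X.Opens) (e₁ : W ≤ snd ⁻¹ᵁ T) (G : C.Opens) (e₂ : W ≤ fst ⁻¹ᵁ G) (c₀ : Γ(C, G))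
    (eπ : N ≤ π ⁻¹ᵁ T) (eq : N ≤ q ⁻¹ᵁ G)
    {Q : CommRingCat.{u}} (γ : Γ(V, N) ⟶ Q) [IsIso γ]
    (hfin : (Polynomial.eval₂RingHom (π.appLE T N eπ ≫ γ).hom
      (γ.hom ((q.appLE G N eq).hom c₀))).Finite) :
    (Φ.appLE W N e).hom.Finite := by
  subst h1 h2
  have key : (CommRingCat.ofHom (Polynomial.eval₂RingHom (snd.appLE T W e₁).hom
      ((fst.appLE G W e₂).hom c₀)) ≫ Φ.appLE W N e ≫ γ).hom =
      Polynomial.eval₂RingHom ((Φ ≫ snd).appLE T N eπ ≫ γ).hom
        (γ.hom (((Φ ≫ fst).appLE G N eq).hom c₀)) := by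
    apply Polynomial.ringHom_ext
    · intro b
      simp only [CommRingCat.hom_comp, CommRingCat.hom_ofHom, RingHom.comp_apply,
        Polynomial.coe_eval₂RingHom, Polynomial.eval₂_C]
      rw [← Scheme.Hom.appLE_comp_appLE Φ snd T W N e₁ e]
      rfl
    · simp only [CommRingCat.hom_comp, CommRingCat.hom_ofHom, RingHom.comp_apply,
        Polynomial.coe_eval₂RingHom, Polynomial.eval₂_X]
      rw [← Scheme.Hom.appLE_comp_appLE Φ fst G W N e₂ e]
      rfl
  rw [← key, ← Category.assoc, CommRingCat.hom_comp,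
    RingHom.finite_respectsIso.cancel_right_isIso, CommRingCat.hom_comp] at hfin
  exact RingHom.Finite.of_comp_finite hfin

end Groth.Agent.Helper1.GC
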