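import Mathlib
import Groth.Agent.Helper1.GB8
import Groth.Agent.Helper1.GC1

/-!
# Grauert's criterion, proper case: good framed affine opens
-/

set_option autoImplicit false
set_option linter.style.haveILetI false
set_option linter.unusedSectionVars false

namespace Groth.Agent.Helper1.GC

open CategoryTheory Limits AlgebraicGeometry TopologicalSpace Opposite RelProj RelCone
  Groth.Agent.Helper1.RP Groth.Agent.Helper1.PC Groth.Agent.Helper1.PL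
  Groth.Agent.Helper4.TwistExt Groth.Agent.Helper4.SN346 Groth.Agent.Helper4.SN348
  Groth.Agent.Helper4.SN349 Groth.Agent.Helper4.SN353 Groth.Agent.Helper1.GB
open Groth.Agent.Helper4
open scoped HomogeneousIdeal

universe u

noncomputable section

variable {X Y : Scheme.{u}} (p : X ⟶ Y) [IsSeparated p] [QuasiCompact p]
  {L : X.Modules} [L.IsQuasicoherent] {𝒜 : QCGrAlg X} {jL : L ⟶ 𝒜.toModule}
  (hA : IsGrSymAlg L 𝒜 jL) (hL : PicF.IsInvertible L) (h0 : StrZeroBij 𝒜)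
  {aug : 𝒜.toQCAlg ⟶ RelSpec.QCAlg.unit X} (haug : IsAugmentation 𝒜 aug)
  {j0 : X ⟶ 𝒜.toQCAlg.spec} (hj0 : IsVertex 𝒜 aug j0)

include hA hL h0 haug hj0 in
/-- around every point of `X` over an affine open `U` of `Y` there are a function on the line
bundle over `U` vanishing on the zero section and a framed affine open on which it is a unit times
a positive power of the coordinate -/
theorem exists_good (hamp : RelAmple.IsRelAmple p L) (U : Y.Opens) (hU : IsAffineOpen U)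
    (x : X) (hx : x ∈ p ⁻¹ᵁ U) :
    ∃ (ρ₀ : Γ(𝒜.toQCAlg.spec, (𝒜.toQCAlg.π ≫ p) ⁻¹ᵁ U))
      (_ : ((AffAlg.algHom (𝒜.toQCAlg.π ≫ p) p j0 (w₂ p hj0)).app (op U)).hom ρ₀ = 0)
      (T : X.Opens) (hT : IsAffineOpen T) (hTU : T ≤ p ⁻¹ᵁ U) (F : PL.Frame L T) (a : Γ(X, T))
      (n : ℕ), x ∈ T ∧ IsUnit a ∧ 0 < n ∧
        (𝒜.toQCAlg.gammaAff T hT).hom ((𝒜.toQCAlg.spec.presheaf.map
          (homOfLE (𝒜.toQCAlg.π.preimage_mono hTU)).op).hom ρ₀) =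
          (𝒜.str.app (op T)).hom a * (F.t jL) ^ n := by
  obtain ⟨m, t, hxt, haff⟩ := SN357.exists_sec_of_isAmple hA hL (p ⁻¹ᵁ U) (hamp.2 ⟨U, hU⟩) x hx
  haveI := RelSpecIso.isIso_gammaMap 𝒜.toQCAlg
  let σ₀ : 𝒜.presheaf.obj (op (p ⁻¹ᵁ U)) := σ (j := jL) (m + 1) (p ⁻¹ᵁ U) t
  let ρ : Γ(𝒜.toQCAlg.spec, 𝒜.toQCAlg.π ⁻¹ᵁ (p ⁻¹ᵁ U)) :=
    (inv (𝒜.toQCAlg.gammaMap.app (op (p ⁻¹ᵁ U)))).hom σ₀
  have hρ : (𝒜.toQCAlg.gammaMap.app (op (p ⁻¹ᵁ U))).hom ρ = σ₀ :=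
    congrArg (fun k => k.hom σ₀) (IsIso.inv_hom_id (𝒜.toQCAlg.gammaMap.app (op (p ⁻¹ᵁ U))))
  have hσ : ∀ (V : X.Opens) (hV : IsAffineOpen V) (hT : V ≤ p ⁻¹ᵁ U),
      (secFam hA hL (m + 1) (p ⁻¹ᵁ U) t).w V hV hT = (𝒜.presheaf.map (homOfLE hT).op).hom σ₀ :=
    fun _ _ _ => rfl
  have e : p ⁻¹ᵁ U ≤ j0 ⁻¹ᵁ (𝒜.toQCAlg.π ⁻¹ᵁ (p ⁻¹ᵁ U)) := by
    intro z hz
    change 𝒜.toQCAlg.π (j0 z) ∈ p ⁻¹ᵁ U
    rw [π_vertex hj0]; exact hz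
  have hvan : (j0.appLE (𝒜.toQCAlg.π ⁻¹ᵁ (p ⁻¹ᵁ U)) (p ⁻¹ᵁ U) e).hom ρ = 0 :=
    vertex_appLE_eq_zero ρ σ₀ hρ hj0 e (fun T hT hTW => by
      rw [← hσ T hT hTW]
      exact haug T hT m _ ((secFam hA hL (m + 1) (p ⁻¹ᵁ U) t).mem T hT hTW))
  have hvan' : ((AffAlg.algHom (𝒜.toQCAlg.π ≫ p) p j0 (w₂ p hj0)).app (op U)).hom ρ = 0 := by
    rw [DP.algHom_app (𝒜.toQCAlg.π ≫ p) p j0 (w₂ p hj0) U]
    exact hvan
  -- frames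
  obtain ⟨T₀, e₀, hxT₀, hT₀W, hT₀, he, -⟩ := exists_frames L hL (p ⁻¹ᵁ U) x hx
  obtain ⟨a₀, ha₀⟩ := (frameOf he T₀ le_rfl).exists_eq hA hT₀
    ((secFam hA hL (m + 1) (p ⁻¹ᵁ U) t).mem T₀ hT₀ hT₀W)
  have hXw := GA.Xw_inf_eq' hA he hT₀ hT₀W (secFam hA hL (m + 1) (p ⁻¹ᵁ U) t) a₀ ha₀
  have hxa : x ∈ X.basicOpen a₀ := by rw [← hXw]; exact ⟨hxt, hxT₀⟩
  have hTT₀ : X.basicOpen a₀ ≤ T₀ := X.basicOpen_le a₀
  refine ⟨ρ, hvan', X.basicOpen a₀, hT₀.basicOpen a₀, hTT₀.trans hT₀W, frameOf he _ hTT₀,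
    (X.presheaf.map (homOfLE hTT₀).op).hom a₀, m + 1, hxa,
    RingedSpace.isUnit_res_basicOpen _ a₀, Nat.succ_pos m, ?_⟩
  rw [gammaAff_res ρ σ₀ hρ (hT₀.basicOpen a₀) (hTT₀.trans hT₀W),
    ← hσ _ (hT₀.basicOpen a₀) (hTT₀.trans hT₀W),
    ← (secFam hA hL (m + 1) (p ⁻¹ᵁ U) t).res hT₀ (hT₀.basicOpen a₀) hTT₀ hT₀W, ha₀, map_mul,
    map_pow, IM.str_res, GA.frameOf_t_res he hTT₀]

end

end Groth.Agent.Helper1.GC
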