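import Mathlib
import Groth.Agent.Helper1.GC2
import Groth.Agent.Helper1.GC4
import Groth.Agent.Helper1.GC5

/-!
# Grauert's criterion, proper case: the contraction is proper
-/

set_option autoImplicit false
set_option linter.style.haveILetI false
set_option linter.unusedSectionVars false

namespace Groth.Agent.Helper1.GC

open CategoryTheory Limits AlgebraicGeometry TopologicalSpace Opposite RelProj RelCone
  Groth.Agent.Helper1.GB
open Groth.Agent.Helper4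

universe u

noncomputable section

variable {X Y : Scheme.{u}} (p : X ⟶ Y) [IsSeparated p] [QuasiCompact p]
  {L : X.Modules} [L.IsQuasicoherent] {𝒜 : QCGrAlg X} {jL : L ⟶ 𝒜.toModule}
  (hA : IsGrSymAlg L 𝒜 jL) (hL : PicF.IsInvertible L) (h0 : StrZeroBij 𝒜)
  {aug : 𝒜.toQCAlg ⟶ RelSpec.QCAlg.unit X} (haug : IsAugmentation 𝒜 aug)
  {j0 : X ⟶ 𝒜.toQCAlg.spec} (hj0 : IsVertex 𝒜 aug j0)

/-- the algebra of the contraction -/
abbrev CA : RelSpec.QCAlg Y :=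
  pushAlg p (𝟙 Y) (𝒜.toQCAlg.π ≫ p) p j0 (Category.comp_id p) (w₂ p hj0)

/-- the section of the contraction -/
abbrev Cε : Y ⟶ (CA p hj0).spec :=
  inl p (𝟙 Y) (𝒜.toQCAlg.π ≫ p) p j0 (Category.comp_id p) (w₂ p hj0)

/-- the contraction morphism -/
abbrev Cq : 𝒜.toQCAlg.spec ⟶ (CA p hj0).spec :=
  inr p (𝟙 Y) (𝒜.toQCAlg.π ≫ p) p j0 (Category.comp_id p) (w₂ p hj0)

theorem Cq_π : Cq p hj0 ≫ (CA p hj0).π = 𝒜.toQCAlg.π ≫ p := inr_π _ _ _ _ _ _ _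

include hA hL h0 haug in
/-- the morphism from the line bundle to `C ×_Y X` is finite -/
theorem isFinite_lift (hamp : RelAmple.IsRelAmple p L) :
    IsFinite (pullback.lift (Cq p hj0) 𝒜.toQCAlg.π (Cq_π p hj0)) := by
  apply isFinite_of_cover
  intro z
  obtain ⟨_, ⟨U, hU : IsAffineOpen U, rfl⟩, hyU, -⟩ :=
    Y.isBasis_affineOpens.exists_subset_of_mem_open
      (Set.mem_univ (p ((pullback.snd (CA p hj0).π p) z))) isOpen_univ
  obtain ⟨ρ, hvan, T, hT, hTU, F, a, n, hxT, ha, hn, heq⟩ :=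
    exists_good p hA hL h0 haug hj0 hamp U hU ((pullback.snd (CA p hj0).π p) z) hyU
  have hpre : 𝒜.toQCAlg.π ⁻¹ᵁ T =
      pullback.lift (Cq p hj0) 𝒜.toQCAlg.π (Cq_π p hj0) ⁻¹ᵁ (pullback.snd (CA p hj0).π p ⁻¹ᵁ T) := by
    rw [← Scheme.Hom.comp_preimage, pullback.lift_snd]
  haveI : IsAffineHom (pullback.snd (CA p hj0).π p) :=
    MorphismProperty.pullback_snd _ _ inferInstance
  refine ⟨pullback.snd (CA p hj0).π p ⁻¹ᵁ T, hxT, IsAffineHom.isAffine_preimage _ hT, ?_, ?_⟩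
  · rw [← hpre]
    exact IsAffineHom.isAffine_preimage _ hT
  apply finite_app_of_appLE _ _ (𝒜.toQCAlg.π ⁻¹ᵁ T) hpre
  have e₂ : pullback.snd (CA p hj0).π p ⁻¹ᵁ T ≤
      pullback.fst (CA p hj0).π p ⁻¹ᵁ ((CA p hj0).π ⁻¹ᵁ U) := by
    rw [← Scheme.Hom.comp_preimage, pullback.condition, Scheme.Hom.comp_preimage]
    exact (pullback.snd (CA p hj0).π p).preimage_mono hTU
  have eU : (𝒜.toQCAlg.π ≫ p) ⁻¹ᵁ U ≤ Cq p hj0 ⁻¹ᵁ ((CA p hj0).π ⁻¹ᵁ U) := by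
    rw [← Scheme.Hom.comp_preimage, Cq_π]
  have eTU : 𝒜.toQCAlg.π ⁻¹ᵁ T ≤ (𝒜.toQCAlg.π ≫ p) ⁻¹ᵁ U := 𝒜.toQCAlg.π.preimage_mono hTU
  haveI := RelSpecIso.isIso_gammaAff (CA p hj0) U hU
  haveI := RelSpecIso.isIso_gammaAff 𝒜.toQCAlg T hT
  refine finite_appLE_of_poly _ (pullback.fst (CA p hj0).π p) (pullback.snd (CA p hj0).π p)
    (Cq p hj0) 𝒜.toQCAlg.π (pullback.lift_fst _ _ _) (pullback.lift_snd _ _ _) _ _ hpre.le
    T le_rfl ((CA p hj0).π ⁻¹ᵁ U) e₂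
    ((inv ((CA p hj0).gammaAff U hU)).hom
      (chartElt p (𝟙 Y) (𝒜.toQCAlg.π ≫ p) p j0 (Category.comp_id p) (w₂ p hj0) U ρ hvan))
    le_rfl (eTU.trans eU) (𝒜.toQCAlg.gammaAff T hT) ?_
  have e1 : 𝒜.toQCAlg.π.appLE T (𝒜.toQCAlg.π ⁻¹ᵁ T) le_rfl ≫ 𝒜.toQCAlg.gammaAff T hT =
      𝒜.str.app (op T) := by
    rw [← Scheme.Hom.app_eq_appLE]
    exact 𝒜.toQCAlg.π_app_gammaAff T hT
  have e2 : ((Cq p hj0).appLE ((CA p hj0).π ⁻¹ᵁ U) (𝒜.toQCAlg.π ⁻¹ᵁ T) (eTU.trans eU)).hom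
      ((inv ((CA p hj0).gammaAff U hU)).hom
        (chartElt p (𝟙 Y) (𝒜.toQCAlg.π ≫ p) p j0 (Category.comp_id p) (w₂ p hj0) U ρ hvan)) =
      (𝒜.toQCAlg.spec.presheaf.map (homOfLE eTU).op).hom ρ := by
    have h1 := Scheme.Hom.appLE_map (Cq p hj0) eU (homOfLE eTU).op
    rw [inr_appLE p (𝟙 Y) (𝒜.toQCAlg.π ≫ p) p j0 (Category.comp_id p) (w₂ p hj0) U hU eU] at h1
    have h2 := congrArg (fun k => k.hom ((inv ((CA p hj0).gammaAff U hU)).hom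
        (chartElt p (𝟙 Y) (𝒜.toQCAlg.π ≫ p) p j0 (Category.comp_id p) (w₂ p hj0) U ρ hvan))) h1
    refine h2.symm.trans ?_
    have h3 : ((CA p hj0).gammaAff U hU).hom ((inv ((CA p hj0).gammaAff U hU)).hom
        (chartElt p (𝟙 Y) (𝒜.toQCAlg.π ≫ p) p j0 (Category.comp_id p) (w₂ p hj0) U ρ hvan)) =
        chartElt p (𝟙 Y) (𝒜.toQCAlg.π ≫ p) p j0 (Category.comp_id p) (w₂ p hj0) U ρ hvan :=
      congrArg (fun k => k.hom
        (chartElt p (𝟙 Y) (𝒜.toQCAlg.π ≫ p) p j0 (Category.comp_id p) (w₂ p hj0) U ρ hvan))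
        (IsIso.inv_hom_id ((CA p hj0).gammaAff U hU))
    simp only [CommRingCat.hom_comp, RingHom.comp_apply]
    rw [h3]
    rfl
  have heq' : (𝒜.toQCAlg.gammaAff T hT).hom
      ((𝒜.toQCAlg.spec.presheaf.map (homOfLE eTU).op).hom ρ) =
      (𝒜.str.app (op T)).hom a * (F.t jL) ^ n := heq
  rw [e1, e2, heq']
  exact finite_eval₂_of_unit (𝒜.str.app (op T)).hom (F.t jL) (F.eval₂_bij hA hT).2 a ha n hn

include hA hL h0 haug in
/-- **the contraction of the zero section is proper when `p` is** -/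
theorem isProper_Cq [IsProper p] (hamp : RelAmple.IsRelAmple p L) : IsProper (Cq p hj0) := by
  haveI := isFinite_lift p hA hL h0 haug hj0 hamp
  rw [← pullback.lift_fst (Cq p hj0) 𝒜.toQCAlg.π (Cq_π p hj0)]
  infer_instance

end

end Groth.Agent.Helper1.GC
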