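import Mathlib
import Groth.Agent.Helper1.GC3
import Groth.Agent.Helper1.GC6

/-!
# Grauert's criterion, proper case: necessity
-/

set_option autoImplicit false
set_option linter.style.haveILetI false
set_option linter.unusedSectionVars false

namespace Groth.Agent.Helper1.GC

open CategoryTheory Limits AlgebraicGeometry TopologicalSpace Opposite RelProj RelCone
  Groth.Agent.Helper1.GB
open Groth.Agent.Helper4

universe u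

noncomputable section

variable {X Y : Scheme.{u}} (p : X ⟶ Y) [IsSeparated p] [QuasiCompact p]
  {L : X.Modules} [L.IsQuasicoherent] {𝒜 : QCGrAlg X} {jL : L ⟶ 𝒜.toModule}
  (hA : IsGrSymAlg L 𝒜 jL) (hL : PicF.IsInvertible L) (h0 : StrZeroBij 𝒜)
  {aug : 𝒜.toQCAlg ⟶ RelSpec.QCAlg.unit X} (haug : IsAugmentation 𝒜 aug)
  {j0 : X ⟶ 𝒜.toQCAlg.spec} (hj0 : IsVertex 𝒜 aug j0)

include hA hL h0 haug in
/-- the explicit form of the necessity part of Grauert's criterion -/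
theorem necessity_explicit (hamp : RelAmple.IsRelAmple p L) :
    IsOpenImmersion ((pointedCone 𝒜).ι ≫ Cq p hj0) ∧ QuasiCompact ((pointedCone 𝒜).ι ≫ Cq p hj0) ∧
      Set.range ((pointedCone 𝒜).ι ≫ Cq p hj0).base ∩ Set.range (Cε p hj0).base = ∅ := by
  have hcov : ∀ v ∈ pointedCone 𝒜, ∃ (U : Y.Opens) (_ : IsAffineOpen U)
      (ρ₀ : Γ(𝒜.toQCAlg.spec, (𝒜.toQCAlg.π ≫ p) ⁻¹ᵁ U)),
      ((AffAlg.algHom (𝒜.toQCAlg.π ≫ p) p j0 (w₂ p hj0)).app (op U)).hom ρ₀ = 0 ∧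
        IsAffineOpen (𝒜.toQCAlg.spec.basicOpen ρ₀) ∧
        v ∈ 𝒜.toQCAlg.spec.basicOpen ρ₀ ∧ 𝒜.toQCAlg.spec.basicOpen ρ₀ ≤ pointedCone 𝒜 := by
    intro v hv
    obtain ⟨_, ⟨U, hU : IsAffineOpen U, rfl⟩, hyU, -⟩ :=
      Y.isBasis_affineOpens.exists_subset_of_mem_open
        (Set.mem_univ (p (𝒜.toQCAlg.π v))) isOpen_univ
    obtain ⟨ρ₀, O, hxO, hvan, haff, hle, hmem⟩ :=
      exists_chart_over p hA hL h0 haug hj0 hamp U hU (𝒜.toQCAlg.π v) hyU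
    exact ⟨U, hU, ρ₀, hvan, haff, hmem v hv hxO, hle⟩
  obtain ⟨hoi, hdisj⟩ := isOpenImmersion_of_charts p (𝟙 Y) (𝒜.toQCAlg.π ≫ p) p j0
    (Category.comp_id p) (w₂ p hj0) (pointedCone 𝒜) hcov
  refine ⟨hoi, ?_, hdisj⟩
  haveI : QuasiCompact (((pointedCone 𝒜).ι ≫ Cq p hj0) ≫ (CA p hj0).π) := by
    rw [Category.assoc, Cq_π]
    rw [quasiCompact_iff_forall_isAffineOpen]
    intro U hU
    have hWc : IsCompact ((p ⁻¹ᵁ U : X.Opens) : Set X) :=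
      QuasiCompact.isCompact_preimage (f := p) _ U.isOpen hU.isCompact
    choose ρ₀ O hxO hvan haff hle hmem using fun x : (p ⁻¹ᵁ U : X.Opens) =>
      exists_chart_over p hA hL h0 haug hj0 hamp U hU x.1 x.2
    obtain ⟨t, ht⟩ := hWc.elim_finite_subcover (fun x : (p ⁻¹ᵁ U : X.Opens) => (O x : Set X))
      (fun x => (O x).isOpen) (fun z hz => Set.mem_iUnion.mpr ⟨⟨z, hz⟩, hxO ⟨z, hz⟩⟩)
    rw [(pointedCone 𝒜).ι.isOpenEmbedding.isEmbedding.isCompact_iff]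
    have hK : (pointedCone 𝒜).ι '' (((pointedCone 𝒜).ι ≫ 𝒜.toQCAlg.π ≫ p) ⁻¹ᵁ U : Set _) =
        ⋃ x ∈ t, (𝒜.toQCAlg.spec.basicOpen (ρ₀ x) : Set 𝒜.toQCAlg.spec) := by
      ext v
      constructor
      · rintro ⟨v', hv', rfl⟩
        have hπ : 𝒜.toQCAlg.π v'.1 ∈ p ⁻¹ᵁ U := hv'
        obtain ⟨x, hx⟩ := Set.mem_iUnion.mp (ht hπ)
        obtain ⟨hxt, hxO'⟩ := Set.mem_iUnion.mp hx
        exact Set.mem_iUnion₂.mpr ⟨x, hxt, hmem x v'.1 v'.2 hxO'⟩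
      · intro hv
        obtain ⟨x, hxt, hvx⟩ := Set.mem_iUnion₂.mp hv
        refine ⟨⟨v, hle x hvx⟩, ?_, rfl⟩
        exact 𝒜.toQCAlg.spec.basicOpen_le (ρ₀ x) hvx
    rw [hK]
    exact t.finite_toSet.isCompact_biUnion (fun x _ => (haff x).isCompact)
  exact QuasiCompact.of_comp _ (CA p hj0).π

include hA hL h0 haug hj0 in
/-- **Grauert's criterion, necessity, proper case** -/
theorem grauert_necessity_proper [IsProper p] (hamp : RelAmple.IsRelAmple p L)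
    (V0 : 𝒜.toQCAlg.spec.Opens) (hV0 : V0 = pointedCone 𝒜) :
    ∃ (C : Scheme.{u}) (g : C ⟶ Y) (ε : Y ⟶ C) (q : 𝒜.toQCAlg.spec ⟶ C),
      ε ≫ g = 𝟙 Y ∧ q ≫ g = 𝒜.toQCAlg.π ≫ p ∧ j0 ≫ q = p ≫ ε ∧ IsProper q ∧
        IsOpenImmersion (V0.ι ≫ q) ∧ QuasiCompact (V0.ι ≫ q) ∧
          Set.range (V0.ι ≫ q).base = (Set.range ε.base)ᶜ := by
  subst hV0
  obtain ⟨hoi, hqc, hdisj⟩ := necessity_explicit p hA hL h0 haug hj0 hamp
  haveI hprop := isProper_Cq p hA hL h0 haug hj0 hamp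
  refine ⟨_, (CA p hj0).π, Cε p hj0, Cq p hj0, inl_π _ _ _ _ _ _ _, Cq_π p hj0,
    (push_condition _ _ _ _ _ _ _).symm, hprop, hoi, hqc, ?_⟩
  apply range_eq_compl p (𝟙 Y) (𝒜.toQCAlg.π ≫ p) p j0 (Category.comp_id p) (w₂ p hj0)
    (fun U hU => hU) (fun U hU b => ⟨b, by rw [Scheme.Hom.id_app]; rfl⟩)
    (Cq p hj0).isClosedMap.isClosed_range (pointedCone 𝒜) ?_ hdisj
  intro U hU ρ₀ hρ₀
  have e : p ⁻¹ᵁ U ≤ j0 ⁻¹ᵁ (𝒜.toQCAlg.π ⁻¹ᵁ (p ⁻¹ᵁ U)) := by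
    intro z hz
    change 𝒜.toQCAlg.π (j0 z) ∈ p ⁻¹ᵁ U
    rw [π_vertex hj0]; exact hz
  rw [DP.algHom_app (𝒜.toQCAlg.π ≫ p) p j0 (w₂ p hj0) U] at hρ₀
  exact basicOpen_le_pointedCone (W := p ⁻¹ᵁ U) h0 haug hj0 ρ₀ e hρ₀

end

end Groth.Agent.Helper1.GC
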