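import Mathlib
import Groth.Agent.Helper1.QH3
import Groth.Agent.Helper4.RelSpecIso

/-!
# The morphism of relative spectra on sections over the preimages of affine opens
-/

set_option autoImplicit false
set_option linter.style.haveILetI false

namespace Groth.Agent.Helper1.SP

open CategoryTheory Limits AlgebraicGeometry TopologicalSpace Opposite RelSpec

universe u

noncomputable section

theorem appLE_congr_hom {X Y : Scheme.{u}} {f g : X ⟶ Y} (h : f = g) (U : Y.Opens) (V : X.Opens)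
    (e : V ≤ f ⁻¹ᵁ U) : f.appLE U V e = g.appLE U V (h ▸ e) := by
  subst h; rfl

variable {S : Scheme.{u}} {A B : QCAlg S} (ψ : A ⟶ B)

theorem specMap_preimage (V : S.Opens) :
    QCAlg.specMap ψ ⁻¹ᵁ (A.π ⁻¹ᵁ V) = B.π ⁻¹ᵁ V := by
  rw [← Scheme.Hom.comp_preimage, QCAlg.specMap_π]

set_option backward.isDefEq.respectTransparency false in
theorem gammaAff_specMap (V : S.Opens) (hV : IsAffineOpen V) :
    (QCAlg.specMap ψ).appLE (A.π ⁻¹ᵁ V) (B.π ⁻¹ᵁ V) (specMap_preimage ψ V).ge ≫ B.gammaAff V hV =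
      A.gammaAff V hV ≫ ψ.hom.app (op V) := by
  simp only [QCAlg.gammaAff, Category.assoc]
  rw [← Scheme.ΓSpecIso_naturality, ← Category.assoc, ← Category.assoc]
  congr 1
  rw [Scheme.Hom.appLE_comp_appLE]
  have h := QCAlg.ι_specMap V hV ψ
  have h2 : (Spec.map (ψ.hom.app (op V))).appTop =
      (Spec.map (ψ.hom.app (op V))).appLE ⊤ ⊤ le_top := by
    rw [Scheme.Hom.appTop, ← Scheme.Hom.appLE_eq_app]
    rfl
  rw [h2, Scheme.Hom.appLE_comp_appLE]
  exact appLE_congr_hom h _ _ _

theorem appLE_specMap_surjective (V : S.Opens) (hV : IsAffineOpen V)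
    (hs : Function.Surjective (ψ.hom.app (op V)).hom) :
    Function.Surjective
      ((QCAlg.specMap ψ).appLE (A.π ⁻¹ᵁ V) (B.π ⁻¹ᵁ V) (specMap_preimage ψ V).ge).hom := by
  intro z
  haveI := Groth.Agent.Helper4.RelSpecIso.isIso_gammaAff A V hV
  haveI := Groth.Agent.Helper4.RelSpecIso.isIso_gammaAff B V hV
  obtain ⟨a, ha⟩ := hs ((B.gammaAff V hV).hom z)
  refine ⟨(inv (A.gammaAff V hV)).hom a, ?_⟩
  have h := congrArg (fun k => k.hom ((inv (A.gammaAff V hV)).hom a)) (gammaAff_specMap ψ V hV)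
  simp only [CommRingCat.hom_comp, RingHom.comp_apply] at h
  have h3 : (A.gammaAff V hV).hom ((inv (A.gammaAff V hV)).hom a) = a :=
    congrArg (fun k => k.hom a) (IsIso.inv_hom_id (A.gammaAff V hV))
  rw [h3, ha] at h
  have hinj : Function.Injective (B.gammaAff V hV).hom :=
    ((ConcreteCategory.isIso_iff_bijective (B.gammaAff V hV)).mp inferInstance).1
  exact hinj h

end

end Groth.Agent.Helper1.SP
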