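import Mathlib
import Groth.Prelude.Def_RelSpec
import Groth.Prelude.Def_AffAlg
import Groth.Agent.Helper1.SP1
import Groth.Agent.Helper4.AffUP
import Groth.Agent.Helper4.RelSpecIso

/-!
# Helper1: the direct image algebra as a functor on schemes affine over `S`; compatibility of
`Spec` of a homomorphism with the canonical identification `π_*O_{Spec A} ≅ A`
-/

set_option autoImplicit false
set_option linter.style.haveILetI false
set_option linter.unusedSectionVars false

open CategoryTheory CategoryTheory.Limits AlgebraicGeometry TopologicalSpace Opposite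

universe u

namespace Groth.Agent.Helper1.LQ

open RelSpec Groth.Agent.Helper4

variable {S : Scheme.{u}}

theorem algHom_comp {X Y Z : Scheme.{u}} (f : X ⟶ S) (g : Y ⟶ S) (k : Z ⟶ S)
    (h : Y ⟶ X) (w : h ≫ f = g) (h' : Z ⟶ Y) (w' : h' ≫ g = k) :
    AffAlg.algHom f k (h' ≫ h) (by rw [Category.assoc, w, w']) =
      AffAlg.algHom f g h w ≫ AffAlg.algHom g k h' w' := by
  subst w
  subst w'
  refine NatTrans.ext (funext fun U => ?_)
  induction U using Opposite.rec with | _ U => ?_
  rw [NatTrans.comp_app]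
  have h1 := Groth.Agent.S3583.algHom_app f (h' ≫ h) U
  have h2 := Groth.Agent.S3583.algHom_app f h U
  have h3 := Groth.Agent.S3583.algHom_app (h ≫ f) h' U
  refine Eq.trans ?_ (congrArg₂ (· ≫ ·) h2.symm h3.symm)
  refine Eq.trans ?_ (Scheme.Hom.comp_app h' h (f ⁻¹ᵁ U))
  exact h1

/-- the morphism of direct image algebras induced by a morphism over `S` -/
noncomputable def dirMap {X Y : Scheme.{u}} (f : X ⟶ S) [QuasiCompact f] [QuasiSeparated f]
    (g : Y ⟶ S) [QuasiCompact g] [QuasiSeparated g] (h : Y ⟶ X) (w : h ≫ f = g) :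
    QCAlg.directImage f ⟶ QCAlg.directImage g :=
  ⟨AffAlg.algHom f g h w, AffAlg.algHom_comm f g h w⟩

theorem dirMap_comp {X Y Z : Scheme.{u}} (f : X ⟶ S) [QuasiCompact f] [QuasiSeparated f]
    (g : Y ⟶ S) [QuasiCompact g] [QuasiSeparated g] (k : Z ⟶ S) [QuasiCompact k]
    [QuasiSeparated k] (h : Y ⟶ X) (w : h ≫ f = g) (h' : Z ⟶ Y) (w' : h' ≫ g = k) :
    dirMap f k (h' ≫ h) (by rw [Category.assoc, w, w']) = dirMap f g h w ≫ dirMap g k h' w' :=
  QCAlg.hom_ext (algHom_comp f g k h w h' w')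

theorem dirMap_congr {X Y : Scheme.{u}} (f : X ⟶ S) [QuasiCompact f] [QuasiSeparated f]
    (g : Y ⟶ S) [QuasiCompact g] [QuasiSeparated g] {h h' : Y ⟶ X} (e : h = h') (w : h ≫ f = g) :
    dirMap f g h w = dirMap f g h' (e ▸ w) := by
  subst e
  rfl

variable (A B : QCAlg S)

/-- `gammaMap` as an isomorphism of presheaves -/
noncomputable def gIso : A.π.base _* A.spec.presheaf ≅ A.presheaf :=
  haveI := RelSpecIso.isIso_gammaMap A
  asIso A.gammaMap

theorem gIso_hom : (gIso A).hom = A.gammaMap := rfl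

/-- the inverse of `gammaHom` -/
noncomputable def gammaInv : A ⟶ QCAlg.directImage A.π where
  hom := (gIso A).inv
  comm := by
    rw [Iso.comp_inv_eq, gIso_hom]
    exact A.π_c_gammaMap.symm

/-- `gammaHom` is an isomorphism of quasi-coherent algebras -/
noncomputable def gammaIso : QCAlg.directImage A.π ≅ A where
  hom := A.gammaHom
  inv := gammaInv A
  hom_inv_id := QCAlg.hom_ext (gIso A).hom_inv_id
  inv_hom_id := QCAlg.hom_ext (gIso A).inv_hom_id

variable {A B}

/-- `Spec` of a homomorphism corresponds to the homomorphism under `gammaHom` -/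
theorem dirMap_specMap (φ : A ⟶ B) :
    dirMap A.π B.π (QCAlg.specMap φ) (QCAlg.specMap_π φ) ≫ B.gammaHom = A.gammaHom ≫ φ := by
  apply QCAlg.hom_ext
  apply (Functor.IsCoverDense.restrictHomEquivHom (G := Scheme.AffineZariskiSite.toOpensFunctor S)
    (K := Opens.grothendieckTopology S) (ℱ := A.π.base _* A.spec.presheaf)
    (ℱ' := (⟨B.presheaf, B.isSheaf⟩ : TopCat.Sheaf CommRingCat.{u} S.carrier))).symm.injective
  ext U : 2
  change (AffAlg.algHom A.π B.π (QCAlg.specMap φ) (QCAlg.specMap_π φ)).app (op U.unop.1) ≫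
      B.gammaMap.app (op U.unop.1) = A.gammaMap.app (op U.unop.1) ≫ φ.hom.app (op U.unop.1)
  rw [B.gammaMap_app U.unop.1 U.unop.2, A.gammaMap_app U.unop.1 U.unop.2,
    AffUP.algHom_app' A.π B.π (QCAlg.specMap φ) (QCAlg.specMap_π φ) U.unop.1]
  exact Groth.Agent.Helper1.SP.gammaAff_specMap φ U.unop.1 U.unop.2

end Groth.Agent.Helper1.LQ
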