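import Mathlib
import Groth.Agent.Helper1.LQ1
import Groth.Agent.S2151

/-!
# Helper1: the relative spectrum of a filtered colimit of quasi-coherent algebras is the limit of
the relative spectra
-/

set_option autoImplicit false
set_option linter.style.haveILetI false
set_option linter.unusedSectionVars false

open CategoryTheory CategoryTheory.Limits AlgebraicGeometry TopologicalSpace Opposite

universe u

namespace Groth.Agent.Helper1.LQ

open RelSpec Groth.Agent.Helper4

variable {S : Scheme.{u}}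

theorem specMap_id (A : QCAlg S) : QCAlg.specMap (𝟙 A) = 𝟙 A.spec := by
  apply colimit.hom_ext
  intro U
  change A.ι U.1 U.2 ≫ QCAlg.specMap (𝟙 A) = A.ι U.1 U.2 ≫ 𝟙 _
  rw [QCAlg.ι_specMap, Category.comp_id]
  change Spec.map (𝟙 _) ≫ _ = _
  rw [Spec.map_id, Category.id_comp]

theorem specMap_comp {A B C : QCAlg S} (φ : A ⟶ B) (ψ : B ⟶ C) :
    QCAlg.specMap (φ ≫ ψ) = QCAlg.specMap ψ ≫ QCAlg.specMap φ := by
  apply colimit.hom_ext
  intro U
  change C.ι U.1 U.2 ≫ QCAlg.specMap (φ ≫ ψ) = C.ι U.1 U.2 ≫ QCAlg.specMap ψ ≫ QCAlg.specMap φ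
  rw [QCAlg.ι_specMap, ← Category.assoc, QCAlg.ι_specMap, Category.assoc, QCAlg.ι_specMap,
    ← Category.assoc, ← Spec.map_comp]
  rfl

instance isAffineHom_specMap {A B : QCAlg S} (φ : A ⟶ B) : IsAffineHom (QCAlg.specMap φ) := by
  haveI : IsAffineHom (QCAlg.specMap φ ≫ A.π) := by
    rw [QCAlg.specMap_π]
    infer_instance
  exact IsAffineHom.of_comp (QCAlg.specMap φ) A.π

variable {J : Type u} [SmallCategory J]

/-- the inverse system of relative spectra -/
noncomputable def specDiagram (A : J ⥤ QCAlg S) : Jᵒᵖ ⥤ Scheme.{u} where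
  obj j := (A.obj j.unop).spec
  map φ := QCAlg.specMap (A.map φ.unop)
  map_id j := by
    change QCAlg.specMap (A.map (𝟙 j.unop)) = _
    rw [A.map_id, specMap_id]
  map_comp φ ψ := by
    change QCAlg.specMap (A.map (ψ.unop ≫ φ.unop)) = _
    rw [A.map_comp, specMap_comp]

instance (A : J ⥤ QCAlg S) (i j : Jᵒᵖ) (f : i ⟶ j) : IsAffineHom ((specDiagram A).map f) :=
  isAffineHom_specMap _

end Groth.Agent.Helper1.LQ
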