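import Mathlib
import Groth.Agent.Helper1.GB7
import Groth.Agent.Helper1.LQ2

/-!
# The affine pushout when the first leg is an isomorphism on algebras: it is the relative spectrum
of the direct image algebra of the second leg
-/

set_option autoImplicit false
set_option linter.style.haveILetI false
set_option linter.unusedSectionVars false

namespace Groth.Agent.Helper1.GD

open CategoryTheory Limits AlgebraicGeometry TopologicalSpace Opposite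
open Groth.Agent.Helper4 Groth.Agent.Helper1.GB

universe u

noncomputable section

section fibalg

variable {Yt : TopCat.{u}} {P Q S : TopCat.Presheaf CommRingCat.{u} Yt} (α : P ⟶ S) (β : Q ⟶ S)

theorem fib_hom_ext {F : TopCat.Presheaf CommRingCat.{u} Yt} (m₁ m₂ : F ⟶ fib α β)
    (h1 : m₁ ≫ fst α β = m₂ ≫ fst α β) (h2 : m₁ ≫ snd α β = m₂ ≫ snd α β) : m₁ = m₂ := by
  ext U x
  apply fib_ext
  · exact congrArg (fun k => (k.app (op U)).hom x) h1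
  · exact congrArg (fun k => (k.app (op U)).hom x) h2

end fibalg

variable {Y Z₀ Z₁ Z₂ : Scheme.{u}} (f₀ : Z₀ ⟶ Y) (f₁ : Z₁ ⟶ Y) (f₂ : Z₂ ⟶ Y)
  [QuasiCompact f₀] [QuasiSeparated f₀] [QuasiCompact f₁] [QuasiSeparated f₁]
  [QuasiCompact f₂] [QuasiSeparated f₂]
  (h₁ : Z₀ ⟶ Z₁) (h₂ : Z₀ ⟶ Z₂) (w₁ : h₁ ≫ f₁ = f₀) (w₂ : h₂ ≫ f₂ = f₀)

/-- the second projection as a homomorphism of quasi-coherent algebras -/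
def ψ : pushAlg f₀ f₁ f₂ h₁ h₂ w₁ w₂ ⟶ RelSpec.QCAlg.directImage f₂ :=
  ⟨snd (AffAlg.algHom f₁ f₀ h₁ w₁) (AffAlg.algHom f₂ f₀ h₂ w₂),
    lift_snd _ _ _ _ (push_h f₀ f₁ f₂ h₁ h₂ w₁ w₂)⟩

variable [IsIso (AffAlg.algHom f₁ f₀ h₁ w₁)]

/-- the inverse of `ψ` on presheaves -/
def φhom : AffAlg.alg f₂ ⟶ fib (AffAlg.algHom f₁ f₀ h₁ w₁) (AffAlg.algHom f₂ f₀ h₂ w₂) :=
  lift (AffAlg.algHom f₁ f₀ h₁ w₁) (AffAlg.algHom f₂ f₀ h₂ w₂)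
    (AffAlg.algHom f₂ f₀ h₂ w₂ ≫ inv (AffAlg.algHom f₁ f₀ h₁ w₁)) (𝟙 _)
    (by rw [Category.assoc, IsIso.inv_hom_id, Category.comp_id, Category.id_comp])

/-- the inverse of `ψ` -/
def φ : RelSpec.QCAlg.directImage f₂ ⟶ pushAlg f₀ f₁ f₂ h₁ h₂ w₁ w₂ :=
  ⟨φhom f₀ f₁ f₂ h₁ h₂ w₁ w₂, by
    apply fib_hom_ext
    · change (f₂.c ≫ φhom f₀ f₁ f₂ h₁ h₂ w₁ w₂) ≫ fst _ _ =
        lift _ _ f₁.c f₂.c (push_h f₀ f₁ f₂ h₁ h₂ w₁ w₂) ≫ fst _ _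
      rw [lift_fst, Category.assoc]
      unfold φhom
      rw [lift_fst, ← Category.assoc, AffAlg.algHom_comm, IsIso.comp_inv_eq, AffAlg.algHom_comm]
    · change (f₂.c ≫ φhom f₀ f₁ f₂ h₁ h₂ w₁ w₂) ≫ snd _ _ =
        lift _ _ f₁.c f₂.c (push_h f₀ f₁ f₂ h₁ h₂ w₁ w₂) ≫ snd _ _
      rw [lift_snd, Category.assoc]
      unfold φhom
      rw [lift_snd, Category.comp_id]⟩

theorem φ_ψ : φ f₀ f₁ f₂ h₁ h₂ w₁ w₂ ≫ ψ f₀ f₁ f₂ h₁ h₂ w₁ w₂ = 𝟙 _ := by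
  apply RelSpec.QCAlg.hom_ext
  change φhom f₀ f₁ f₂ h₁ h₂ w₁ w₂ ≫ snd _ _ = 𝟙 _
  unfold φhom
  rw [lift_snd]

theorem ψ_φ : ψ f₀ f₁ f₂ h₁ h₂ w₁ w₂ ≫ φ f₀ f₁ f₂ h₁ h₂ w₁ w₂ = 𝟙 _ := by
  apply RelSpec.QCAlg.hom_ext
  change snd _ _ ≫ φhom f₀ f₁ f₂ h₁ h₂ w₁ w₂ = 𝟙 _
  apply fib_hom_ext
  · unfold φhom
    rw [Category.assoc, lift_fst, ← Category.assoc, ← condition, Category.assoc, IsIso.hom_inv_id,
      Category.comp_id, Category.id_comp]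
  · unfold φhom
    rw [Category.assoc, lift_snd, Category.comp_id, Category.id_comp]

/-- the comparison isomorphism `Spec (f₂_* O) ≅` the affine pushout -/
def θ : (RelSpec.QCAlg.directImage f₂).spec ≅ (pushAlg f₀ f₁ f₂ h₁ h₂ w₁ w₂).spec where
  hom := RelSpec.QCAlg.specMap (ψ f₀ f₁ f₂ h₁ h₂ w₁ w₂)
  inv := RelSpec.QCAlg.specMap (φ f₀ f₁ f₂ h₁ h₂ w₁ w₂)
  hom_inv_id := by
    rw [← LQ.specMap_comp, φ_ψ, LQ.specMap_id]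
  inv_hom_id := by
    rw [← LQ.specMap_comp, ψ_φ, LQ.specMap_id]

theorem θ_hom_π : (θ f₀ f₁ f₂ h₁ h₂ w₁ w₂).hom ≫ (pushAlg f₀ f₁ f₂ h₁ h₂ w₁ w₂).π =
    (RelSpec.QCAlg.directImage f₂).π :=
  RelSpec.QCAlg.specMap_π _

theorem θ_inv_π : (θ f₀ f₁ f₂ h₁ h₂ w₁ w₂).inv ≫ (RelSpec.QCAlg.directImage f₂).π =
    (pushAlg f₀ f₁ f₂ h₁ h₂ w₁ w₂).π :=
  RelSpec.QCAlg.specMap_π _

/-- the canonical morphism to `Spec (f₂_* O)` corresponds to `inr` -/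
theorem comp_θ_eq_inr (q' : Z₂ ⟶ (RelSpec.QCAlg.directImage f₂).spec)
    (hq'π : q' ≫ (RelSpec.QCAlg.directImage f₂).π = f₂)
    (hq' : AffAlg.algHom (RelSpec.QCAlg.directImage f₂).π f₂ q' hq'π =
      (RelSpec.QCAlg.directImage f₂).gammaMap) :
    q' ≫ (θ f₀ f₁ f₂ h₁ h₂ w₁ w₂).hom = inr f₀ f₁ f₂ h₁ h₂ w₁ w₂ := by
  have e1 : (q' ≫ (θ f₀ f₁ f₂ h₁ h₂ w₁ w₂).hom) ≫ (pushAlg f₀ f₁ f₂ h₁ h₂ w₁ w₂).π = f₂ := by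
    rw [Category.assoc, θ_hom_π, hq'π]
  apply AffUP.hom_ext (pushAlg f₀ f₁ f₂ h₁ h₂ w₁ w₂).π f₂ _ _ e1 (inr_π f₀ f₁ f₂ h₁ h₂ w₁ w₂)
  rw [algHom_inr]
  rw [← DP.algHom_comp (pushAlg f₀ f₁ f₂ h₁ h₂ w₁ w₂).π (RelSpec.QCAlg.directImage f₂).π f₂
    (θ f₀ f₁ f₂ h₁ h₂ w₁ w₂).hom (θ_hom_π f₀ f₁ f₂ h₁ h₂ w₁ w₂) q' hq'π e1, hq']
  have h := congrArg (fun k => k.hom) (LQ.dirMap_specMap (ψ f₀ f₁ f₂ h₁ h₂ w₁ w₂))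
  exact h

end

end Groth.Agent.Helper1.GD
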