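import Mathlib

/-!
# The factor of a contraction through another contraction: universally closed, surjective,
radicial, and an open immersion off the vertex section
-/

set_option autoImplicit false
set_option linter.style.haveILetI false
set_option linter.unusedSectionVars false

namespace Groth.Agent.Helper1.GD

open CategoryTheory Limits AlgebraicGeometry TopologicalSpace Opposite

universe u

/-- a point with values in a field lying in the image of a section of a separated morphism factors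
through the section -/
theorem factor_section {Y C' : Scheme.{u}} (π' : C' ⟶ Y) [IsSeparated π'] (ε' : Y ⟶ C')
    (hε' : ε' ≫ π' = 𝟙 Y) (K : Type u) [Field K] (a : Spec (.of K) ⟶ C')
    (ha : ∃ s : Spec (.of K), a.base s ∈ Set.range ε'.base) : a = (a ≫ π') ≫ ε' := by
  haveI : IsClosedImmersion (ε' ≫ π') := by rw [hε']; infer_instance
  haveI : IsClosedImmersion ε' := IsClosedImmersion.of_comp ε' π'
  obtain ⟨s, y, hy⟩ := ha
  haveI : Surjective (pullback.snd ε' a) := by
    refine ⟨fun s' => ?_⟩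
    have hs : s' = s := Subsingleton.elim (α := PrimeSpectrum K) _ _
    obtain ⟨z, -, hz⟩ := Scheme.Pullback.exists_preimage_pullback (f := ε') (g := a) y s hy
    exact ⟨z, hz.trans hs.symm⟩
  haveI : IsIso (pullback.snd ε' a) := isIso_of_isClosedImmersion_of_surjective _
  have h1 : a = (inv (pullback.snd ε' a) ≫ pullback.fst ε' a) ≫ ε' := by
    rw [Category.assoc, pullback.condition, IsIso.inv_hom_id_assoc]
  have h2 : a ≫ π' = inv (pullback.snd ε' a) ≫ pullback.fst ε' a := by
    conv_lhs => rw [h1]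
    rw [Category.assoc, hε', Category.comp_id]
  rw [h2]
  exact h1

theorem contraction_factor {V X Y C C' : Scheme.{u}} (p : X ⟶ Y)
    (hp : Function.Surjective p.base) (j0 : X ⟶ V) (q : V ⟶ C) (q' : V ⟶ C') (g : C ⟶ Y)
    (π' : C' ⟶ Y) [IsSeparated π'] (ε : Y ⟶ C) (ε' : Y ⟶ C') (hε' : ε' ≫ π' = 𝟙 Y)
    (hjq : j0 ≫ q = p ≫ ε) (hjq' : j0 ≫ q' = p ≫ ε')
    (u : C' ⟶ C) (hug : u ≫ g = π') (hu : q' ≫ u = q) [UniversallyClosed q]
    (V0 : V.Opens)
    (hqo : IsOpenImmersion (V0.ι ≫ q))
    (hqr : Set.range (V0.ι ≫ q).base = (Set.range ε.base)ᶜ)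
    (hqo' : IsOpenImmersion (V0.ι ≫ q'))
    (hqr' : Set.range (V0.ι ≫ q').base = (Set.range ε'.base)ᶜ) :
    UniversallyClosed u ∧ Function.Surjective u.base ∧ UniversallyInjective u ∧
      ∀ W : C'.Opens, (W : Set C') = (q'.base '' Set.range j0.base)ᶜ →
        IsOpenImmersion (W.ι ≫ u) ∧ Set.range (W.ι ≫ u).base = (Set.range ε.base)ᶜ := by
  -- pointwise forms
  have pjq' : ∀ x : X, q'.base (j0.base x) = ε'.base (p.base x) := fun x =>
    congrArg (fun k : X ⟶ C' => k.base x) hjq'
  have pjq : ∀ x : X, q.base (j0.base x) = ε.base (p.base x) := fun x =>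
    congrArg (fun k : X ⟶ C => k.base x) hjq
  have pu : ∀ v : V, u.base (q'.base v) = q.base v := fun v =>
    congrArg (fun k : V ⟶ C => k.base v) hu
  have puε : ∀ y : Y, u.base (ε'.base y) = ε.base y := by
    intro y
    obtain ⟨x, rfl⟩ := hp y
    rw [← pjq', pu, pjq]
  -- surjectivity of `q'` and `q`
  have hq's : Function.Surjective q'.base := by
    intro c'
    by_cases hc : c' ∈ Set.range ε'.base
    · obtain ⟨y, rfl⟩ := hc
      obtain ⟨x, rfl⟩ := hp y
      exact ⟨j0.base x, pjq' x⟩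
    · have h : c' ∈ Set.range (V0.ι ≫ q').base := by rw [hqr']; exact hc
      obtain ⟨v, rfl⟩ := h
      exact ⟨V0.ι.base v, rfl⟩
  have hqs : Function.Surjective q.base := by
    intro c
    by_cases hc : c ∈ Set.range ε.base
    · obtain ⟨y, rfl⟩ := hc
      obtain ⟨x, rfl⟩ := hp y
      exact ⟨j0.base x, pjq x⟩
    · have h : c ∈ Set.range (V0.ι ≫ q).base := by rw [hqr]; exact hc
      obtain ⟨v, rfl⟩ := h
      exact ⟨V0.ι.base v, rfl⟩
  haveI : Surjective q' := ⟨hq's⟩
  haveI : UniversallyClosed (q' ≫ u) := by rw [hu]; infer_instance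
  have hus : Function.Surjective u.base := by
    intro c
    obtain ⟨v, rfl⟩ := hqs c
    exact ⟨q'.base v, pu v⟩
  -- `u` maps the complement of the vertex section off the vertex section
  have hcompl : ∀ c' : C', c' ∉ Set.range ε'.base → u.base c' ∉ Set.range ε.base := by
    intro c' hc'
    have h : c' ∈ Set.range (V0.ι ≫ q').base := by rw [hqr']; exact hc'
    obtain ⟨v, rfl⟩ := h
    have h2 : u.base ((V0.ι ≫ q').base v) ∈ Set.range (V0.ι ≫ q).base :=
      ⟨v, (pu (V0.ι.base v)).symm⟩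
    rw [hqr] at h2
    exact h2
  refine ⟨UniversallyClosed.of_comp_surjective q' u, hus, ?_, ?_⟩
  · -- universally injective
    have htfae := (tfae_universallyInjective u).out 0 1
    refine htfae.mpr ?_
    intro K _ a b hab
    have hab : a ≫ u = b ≫ u := hab
    let s : Spec (.of K) := (default : PrimeSpectrum K)
    have habs : u.base (a.base s) = u.base (b.base s) :=
      congrArg (fun k : Spec (.of K) ⟶ C => k.base s) hab
    have key : ∀ a b : Spec (.of K) ⟶ C', u.base (a.base s) = u.base (b.base s) →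
        a.base s ∈ Set.range ε'.base → b.base s ∈ Set.range ε'.base := by
      intro a b hab' ha
      by_contra hb
      obtain ⟨y, hy⟩ := ha
      apply hcompl _ hb
      rw [← hab', ← hy, puε]
      exact ⟨y, rfl⟩
    have hπ : a ≫ π' = b ≫ π' := by
      rw [← hug, ← Category.assoc, ← Category.assoc, hab]
    by_cases ha : a.base s ∈ Set.range ε'.base
    · have hb := key a b habs ha
      have ea := factor_section π' ε' hε' K a ⟨s, ha⟩
      have eb := factor_section π' ε' hε' K b ⟨s, hb⟩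
      calc a = (a ≫ π') ≫ ε' := ea
        _ = (b ≫ π') ≫ ε' := by rw [hπ]
        _ = b := eb.symm
    · have hb : b.base s ∉ Set.range ε'.base := fun hb => ha (key b a habs.symm hb)
      have hra : Set.range a.base ⊆ Set.range (V0.ι ≫ q').base := by
        rintro _ ⟨s', rfl⟩
        have hs : s' = s := Subsingleton.elim (α := PrimeSpectrum K) _ _
        rw [hs, hqr']
        exact ha
      have hrb : Set.range b.base ⊆ Set.range (V0.ι ≫ q').base := by
        rintro _ ⟨s', rfl⟩
        have hs : s' = s := Subsingleton.elim (α := PrimeSpectrum K) _ _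
        rw [hs, hqr']
        exact hb
      have e1 := IsOpenImmersion.lift_fac (V0.ι ≫ q') a hra
      have e2 := IsOpenImmersion.lift_fac (V0.ι ≫ q') b hrb
      have e3 : IsOpenImmersion.lift (V0.ι ≫ q') a hra ≫ (V0.ι ≫ q) =
          IsOpenImmersion.lift (V0.ι ≫ q') b hrb ≫ (V0.ι ≫ q) := by
        have hq : V0.ι ≫ q = (V0.ι ≫ q') ≫ u := by rw [Category.assoc, hu]
        have h1 : IsOpenImmersion.lift (V0.ι ≫ q') a hra ≫ (V0.ι ≫ q) = a ≫ u :=
          (congrArg (fun k => IsOpenImmersion.lift (V0.ι ≫ q') a hra ≫ k) hq).trans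
            ((Category.assoc _ _ _).symm.trans (congrArg (fun k => k ≫ u) e1))
        have h2 : IsOpenImmersion.lift (V0.ι ≫ q') b hrb ≫ (V0.ι ≫ q) = b ≫ u :=
          (congrArg (fun k => IsOpenImmersion.lift (V0.ι ≫ q') b hrb ≫ k) hq).trans
            ((Category.assoc _ _ _).symm.trans (congrArg (fun k => k ≫ u) e2))
        rw [h1, h2, hab]
      have e4 := (cancel_mono (V0.ι ≫ q)).mp e3
      rw [← e1, ← e2, e4]
  · intro W hW
    have himg : q'.base '' Set.range j0.base = Set.range ε'.base := by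
      ext c'
      constructor
      · rintro ⟨_, ⟨x, rfl⟩, rfl⟩
        exact ⟨p.base x, (pjq' x).symm⟩
      · rintro ⟨y, rfl⟩
        obtain ⟨x, rfl⟩ := hp y
        exact ⟨j0.base x, ⟨x, rfl⟩, pjq' x⟩
    have hWr : Set.range W.ι.base = Set.range (V0.ι ≫ q').base := by
      rw [hqr', ← himg, ← hW]
      exact Scheme.Opens.range_ι W
    have hfac := IsOpenImmersion.isoOfRangeEq_hom_fac W.ι (V0.ι ≫ q') hWr
    have heq : W.ι ≫ u = (IsOpenImmersion.isoOfRangeEq W.ι (V0.ι ≫ q') hWr).hom ≫ (V0.ι ≫ q) :=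
      calc W.ι ≫ u = ((IsOpenImmersion.isoOfRangeEq W.ι (V0.ι ≫ q') hWr).hom ≫ V0.ι ≫ q') ≫ u := by
            rw [hfac]
        _ = (IsOpenImmersion.isoOfRangeEq W.ι (V0.ι ≫ q') hWr).hom ≫ (V0.ι ≫ q) := by
            rw [Category.assoc, Category.assoc, hu]
    rw [heq]
    refine ⟨inferInstance, ?_⟩
    rw [← hqr]
    apply Set.Subset.antisymm
    · rintro _ ⟨w, rfl⟩
      exact ⟨(IsOpenImmersion.isoOfRangeEq W.ι (V0.ι ≫ q') hWr).hom.base w, rfl⟩
    · rintro _ ⟨v, rfl⟩
      refine ⟨(IsOpenImmersion.isoOfRangeEq W.ι (V0.ι ≫ q') hWr).inv.base v, ?_⟩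
      change ((IsOpenImmersion.isoOfRangeEq W.ι (V0.ι ≫ q') hWr).inv ≫
        (IsOpenImmersion.isoOfRangeEq W.ι (V0.ι ≫ q') hWr).hom ≫ (V0.ι ≫ q)).base v = _
      rw [Iso.inv_hom_id_assoc]

end Groth.Agent.Helper1.GD
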