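import Mathlib
import Groth.Agent.Helper1.GC7
import Groth.Agent.Helper1.GD1
import Groth.Agent.Helper1.GD2

/-!
# The contraction factor `C' = Spec ((p π)_* O_V) ⟶ C`
-/

set_option autoImplicit false
set_option linter.style.haveILetI false
set_option linter.unusedSectionVars false

namespace Groth.Agent.Helper1.GD

open CategoryTheory Limits AlgebraicGeometry TopologicalSpace Opposite RelProj RelCone
  Groth.Agent.Helper1.GB Groth.Agent.Helper1.GC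
open Groth.Agent.Helper4

universe u

noncomputable section

/-- a proper morphism with `O_Y ≅ p_* O_X` is surjective -/
theorem surjective_of_isIso_c {X Y : Scheme.{u}} (p : X ⟶ Y) [IsProper p] (hθ : IsIso p.c) :
    Function.Surjective p.base := by
  intro y
  by_contra hy
  have hcl : IsClosed (Set.range p.base) := p.isClosedMap.isClosed_range
  obtain ⟨_, ⟨U, hU : IsAffineOpen U, rfl⟩, hyU, hUle⟩ :=
    Y.isBasis_affineOpens.exists_subset_of_mem_open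
      (show y ∈ (Set.range p.base)ᶜ from hy) hcl.isOpen_compl
  have hpre : p ⁻¹ᵁ U = ⊥ := by
    rw [eq_bot_iff]
    intro x hx
    exact hUle hx ⟨x, rfl⟩
  haveI : IsIso (p.app U) := inferInstanceAs (IsIso (p.c.app (op U)))
  have hsub : Subsingleton Γ(X, p ⁻¹ᵁ U) := by
    rw [hpre]; infer_instance
  have h1 : (1 : Γ(Y, U)) = 0 :=
    (ConcreteCategory.bijective_of_isIso (p.app U)).1 (Subsingleton.elim _ _)
  have h2 := Y.basicOpen_of_isUnit (isUnit_one : IsUnit (1 : Γ(Y, U)))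
  rw [h1, Scheme.basicOpen_zero] at h2
  rw [← h2] at hyU
  exact hyU

variable {X Y : Scheme.{u}} (p : X ⟶ Y) [IsSeparated p] [QuasiCompact p]
  {L : X.Modules} [L.IsQuasicoherent] {𝒜 : QCGrAlg X} {jL : L ⟶ 𝒜.toModule}
  (hA : IsGrSymAlg L 𝒜 jL) (hL : PicF.IsInvertible L) (h0 : StrZeroBij 𝒜)
  {aug : 𝒜.toQCAlg ⟶ RelSpec.QCAlg.unit X} (haug : IsAugmentation 𝒜 aug)
  {j0 : X ⟶ 𝒜.toQCAlg.spec} (hj0 : IsVertex 𝒜 aug j0)

include hA hL h0 haug in
/-- the image of the pointed cone under the contraction is the complement of the section -/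
theorem range_Cq [IsProper p] (hamp : RelAmple.IsRelAmple p L) :
    Set.range ((pointedCone 𝒜).ι ≫ Cq p hj0).base = (Set.range (Cε p hj0).base)ᶜ := by
  obtain ⟨hoi, hqc, hdisj⟩ := necessity_explicit p hA hL h0 haug hj0 hamp
  haveI hprop := isProper_Cq p hA hL h0 haug hj0 hamp
  apply range_eq_compl p (𝟙 Y) (𝒜.toQCAlg.π ≫ p) p j0 (Category.comp_id p) (w₂ p hj0)
    (fun U hU => hU) (fun U hU b => ⟨b, by rw [Scheme.Hom.id_app]; rfl⟩)
    (Cq p hj0).isClosedMap.isClosed_range (pointedCone 𝒜) ?_ hdisj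
  intro U hU ρ₀ hρ₀
  have e : p ⁻¹ᵁ U ≤ j0 ⁻¹ᵁ (𝒜.toQCAlg.π ⁻¹ᵁ (p ⁻¹ᵁ U)) := by
    intro z hz
    change 𝒜.toQCAlg.π (j0 z) ∈ p ⁻¹ᵁ U
    rw [π_vertex hj0]; exact hz
  rw [DP.algHom_app (𝒜.toQCAlg.π ≫ p) p j0 (w₂ p hj0) U] at hρ₀
  exact basicOpen_le_pointedCone (W := p ⁻¹ᵁ U) h0 haug hj0 ρ₀ e hρ₀

theorem isIso_algHom_id (hθ : IsIso p.c) :
    IsIso (AffAlg.algHom (𝟙 Y) p p (Category.comp_id p)) := by
  have h := AffAlg.algHom_comm (𝟙 Y) p p (Category.comp_id p)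
  haveI : IsIso (𝟙 Y : Y ⟶ Y).c := by
    apply (config := { allowSynthFailures := true }) NatIso.isIso_of_isIso_app
    intro U
    induction U using Opposite.rec with | _ U => ?_
    exact inferInstanceAs (IsIso ((𝟙 Y : Y ⟶ Y).app U))
  haveI : IsIso ((𝟙 Y : Y ⟶ Y).c ≫ AffAlg.algHom (𝟙 Y) p p (Category.comp_id p)) := by
    rw [h]; exact hθ
  exact IsIso.of_isIso_comp_left (𝟙 Y : Y ⟶ Y).c _

include hA hL h0 haug hj0 in
/-- **the factor of a contraction through `Spec ((p π)_* O_V)`** -/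
theorem contraction_factor_main [IsProper p] (hθ : IsIso p.c) (hamp : RelAmple.IsRelAmple p L)
    {C : Scheme.{u}} (g : C ⟶ Y) (ε : Y ⟶ C) (q : 𝒜.toQCAlg.spec ⟶ C)
    (hjq : j0 ≫ q = p ≫ ε)
    (q' : 𝒜.toQCAlg.spec ⟶ (RelSpec.QCAlg.directImage (𝒜.toQCAlg.π ≫ p)).spec)
    (hq'π : q' ≫ (RelSpec.QCAlg.directImage (𝒜.toQCAlg.π ≫ p)).π = 𝒜.toQCAlg.π ≫ p)
    (hq' : AffAlg.algHom (RelSpec.QCAlg.directImage (𝒜.toQCAlg.π ≫ p)).π (𝒜.toQCAlg.π ≫ p) q' hq'π =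
      (RelSpec.QCAlg.directImage (𝒜.toQCAlg.π ≫ p)).gammaMap)
    [IsProper q] (V0 : 𝒜.toQCAlg.spec.Opens) (hV0 : V0 = pointedCone 𝒜)
    (hqo : IsOpenImmersion (V0.ι ≫ q)) (hqr : Set.range (V0.ι ≫ q).base = (Set.range ε.base)ᶜ)
    (u : (RelSpec.QCAlg.directImage (𝒜.toQCAlg.π ≫ p)).spec ⟶ C)
    (hug : u ≫ g = (RelSpec.QCAlg.directImage (𝒜.toQCAlg.π ≫ p)).π) (hu : q' ≫ u = q) :
    UniversallyClosed u ∧ Function.Surjective u.base ∧ UniversallyInjective u ∧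
      ∀ W : (RelSpec.QCAlg.directImage (𝒜.toQCAlg.π ≫ p)).spec.Opens,
        (W : Set (RelSpec.QCAlg.directImage (𝒜.toQCAlg.π ≫ p)).spec) =
          (q'.base '' Set.range j0.base)ᶜ →
        IsOpenImmersion (W.ι ≫ u) ∧ Set.range (W.ι ≫ u).base = (Set.range ε.base)ᶜ := by
  subst hV0
  haveI := isIso_algHom_id p hθ
  obtain ⟨hoi, -, -⟩ := necessity_explicit p hA hL h0 haug hj0 hamp
  have hr := range_Cq p hA hL h0 haug hj0 hamp
  let θ' := θ p (𝟙 Y) (𝒜.toQCAlg.π ≫ p) p j0 (Category.comp_id p) (w₂ p hj0)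
  have hq'θ : q' ≫ θ'.hom = Cq p hj0 :=
    comp_θ_eq_inr p (𝟙 Y) (𝒜.toQCAlg.π ≫ p) p j0 (Category.comp_id p) (w₂ p hj0) q' hq'π hq'
  have hq'eq : q' = Cq p hj0 ≫ θ'.inv := by
    rw [← hq'θ, Category.assoc, Iso.hom_inv_id, Category.comp_id]
  have hε' : (Cε p hj0 ≫ θ'.inv) ≫ (RelSpec.QCAlg.directImage (𝒜.toQCAlg.π ≫ p)).π = 𝟙 Y := by
    rw [Category.assoc]
    have h1 : θ'.inv ≫ (RelSpec.QCAlg.directImage (𝒜.toQCAlg.π ≫ p)).π = (CA p hj0).π :=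
      θ_inv_π p (𝟙 Y) (𝒜.toQCAlg.π ≫ p) p j0 (Category.comp_id p) (w₂ p hj0)
    rw [h1]
    exact inl_π _ _ _ _ _ _ _
  have hjq' : j0 ≫ q' = p ≫ (Cε p hj0 ≫ θ'.inv) := by
    rw [hq'eq, ← Category.assoc, ← Category.assoc]
    congr 1
    exact (push_condition p (𝟙 Y) (𝒜.toQCAlg.π ≫ p) p j0 (Category.comp_id p) (w₂ p hj0)).symm
  have hqo' : IsOpenImmersion ((pointedCone 𝒜).ι ≫ q') := by
    rw [hq'eq, ← Category.assoc]
    infer_instance
  have hbij : Function.Bijective θ'.inv.base := by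
    refine Function.bijective_iff_has_inverse.mpr ⟨θ'.hom.base, ?_, ?_⟩
    · intro c
      exact congrArg (fun k : (CA p hj0).spec ⟶ (CA p hj0).spec => k.base c) θ'.inv_hom_id
    · intro c
      exact congrArg (fun k : (RelSpec.QCAlg.directImage (𝒜.toQCAlg.π ≫ p)).spec ⟶ _ => k.base c)
        θ'.hom_inv_id
  have hqr' : Set.range ((pointedCone 𝒜).ι ≫ q').base = (Set.range (Cε p hj0 ≫ θ'.inv).base)ᶜ := by
    have e1 : Set.range ((pointedCone 𝒜).ι ≫ q').base =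
        θ'.inv.base '' Set.range ((pointedCone 𝒜).ι ≫ Cq p hj0).base := by
      rw [hq'eq, ← Category.assoc]
      exact Set.range_comp θ'.inv.base ((pointedCone 𝒜).ι ≫ Cq p hj0).base
    have e2 : Set.range (Cε p hj0 ≫ θ'.inv).base = θ'.inv.base '' Set.range (Cε p hj0).base :=
      Set.range_comp θ'.inv.base (Cε p hj0).base
    rw [e1, e2, hr, Set.image_compl_eq hbij]
  exact contraction_factor p (surjective_of_isIso_c p hθ) j0 q q' g
    (RelSpec.QCAlg.directImage (𝒜.toQCAlg.π ≫ p)).π ε (Cε p hj0 ≫ θ'.inv) hε' hjq hjq' u hug hu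
    (pointedCone 𝒜) hqo hqr hqo' hqr'

end

end Groth.Agent.Helper1.GD
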