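import Mathlib

/-!
# Helper1: sections over a disjoint union of two opens; restriction to one piece is the
localization away from an idempotent
-/

set_option autoImplicit false
set_option linter.style.haveILetI false
set_option linter.unusedSectionVars false

open CategoryTheory AlgebraicGeometry TopologicalSpace Opposite

universe u

namespace Groth.Agent.Helper1.LN

variable {V : Scheme.{u}} (Z Z' : V.Opens) (hd : Z ⊓ Z' = ⊥)

/-- restriction to the first piece -/
noncomputable def res₁ : Γ(V, Z ⊔ Z') →+* Γ(V, Z) := (V.presheaf.map (homOfLE le_sup_left).op).hom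

/-- restriction to the second piece -/
noncomputable def res₂ : Γ(V, Z ⊔ Z') →+* Γ(V, Z') :=
  (V.presheaf.map (homOfLE le_sup_right).op).hom

/-- the two-element cover -/
def cov : Bool → V.Opens := fun b => bif b then Z else Z'

include hd in
theorem exists_glue (s : Γ(V, Z)) (s' : Γ(V, Z')) :
    ∃ t : Γ(V, Z ⊔ Z'), res₁ Z Z' t = s ∧ res₂ Z Z' t = s' := by
  let sf : ∀ b, Γ(V, cov Z Z' b) := fun b => match b with
    | true => s
    | false => s'
  haveI hsub : Subsingleton Γ(V, Z ⊓ Z') := by rw [hd]; infer_instance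
  haveI hsub' : Subsingleton Γ(V, Z' ⊓ Z) := by rw [inf_comm, hd]; infer_instance
  have hc : TopCat.Presheaf.IsCompatible V.sheaf.1 (cov Z Z') sf := by
    intro a b
    cases a <;> cases b
    · rfl
    · exact Subsingleton.elim (α := Γ(V, Z' ⊓ Z)) _ _
    · exact Subsingleton.elim (α := Γ(V, Z ⊓ Z')) _ _
    · rfl
  have hcover : Z ⊔ Z' ≤ iSup (cov Z Z') := by
    refine sup_le ?_ ?_
    · exact le_iSup (cov Z Z') true
    · exact le_iSup (cov Z Z') false
  obtain ⟨t, ht, -⟩ := V.sheaf.existsUnique_gluing' (cov Z Z') (Z ⊔ Z')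
    (fun b => match b with
      | true => homOfLE le_sup_left
      | false => homOfLE le_sup_right) hcover sf hc
  exact ⟨t, ht true, ht false⟩

theorem eq_of_res (t t' : Γ(V, Z ⊔ Z')) (h1 : res₁ Z Z' t = res₁ Z Z' t')
    (h2 : res₂ Z Z' t = res₂ Z Z' t') : t = t' := by
  have hcover : Z ⊔ Z' ≤ iSup (cov Z Z') := by
    refine sup_le ?_ ?_
    · exact le_iSup (cov Z Z') true
    · exact le_iSup (cov Z Z') false
  refine V.sheaf.eq_of_locally_eq' (cov Z Z') (Z ⊔ Z')
    (fun b => match b with
      | true => homOfLE le_sup_left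
      | false => homOfLE le_sup_right) hcover t t' ?_
  intro b
  cases b
  · exact h2
  · exact h1

/-- the idempotent which is `1` on `Z` and `0` on `Z'` -/
noncomputable def idem : Γ(V, Z ⊔ Z') := Classical.choose (exists_glue Z Z' hd 1 0)

theorem res₁_idem : res₁ Z Z' (idem Z Z' hd) = 1 :=
  (Classical.choose_spec (exists_glue Z Z' hd 1 0)).1

theorem res₂_idem : res₂ Z Z' (idem Z Z' hd) = 0 :=
  (Classical.choose_spec (exists_glue Z Z' hd 1 0)).2

/-- restriction to `Z` is the localization away from the idempotent -/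
theorem isLocalization_away_res₁ :
    letI := (res₁ Z Z').toAlgebra
    IsLocalization.Away (idem Z Z' hd) Γ(V, Z) := by
  letI := (res₁ Z Z').toAlgebra
  refine IsLocalization.Away.mk _ ?_ ?_ ?_
  · change IsUnit (res₁ Z Z' (idem Z Z' hd))
    rw [res₁_idem]
    exact isUnit_one
  · intro s
    obtain ⟨t, ht, -⟩ := exists_glue Z Z' hd s 0
    refine ⟨0, t, ?_⟩
    rw [pow_zero, mul_one]
    exact ht.symm
  · intro a b hab
    refine ⟨1, ?_⟩
    rw [pow_one]
    refine eq_of_res Z Z' _ _ ?_ ?_
    · rw [map_mul, map_mul, res₁_idem, one_mul, one_mul]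
      exact hab
    · rw [map_mul, map_mul, res₂_idem, zero_mul, zero_mul]

end Groth.Agent.Helper1.LN
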