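import Mathlib
import Groth.Agent.Helper5.NormKA

/-!
# Helper1: global functions on an integral normal scheme form an integrally closed domain
-/

set_option autoImplicit false
set_option linter.style.haveILetI false
set_option linter.unusedSectionVars false

open CategoryTheory AlgebraicGeometry TopologicalSpace Opposite

universe u

namespace Groth.Agent.Helper1.LN

variable (X : Scheme.{u}) [IsIntegral X]

/-- restriction from the whole scheme -/
noncomputable def resTop (N : X.Opens) : Γ(X, ⊤) →+* Γ(X, N) :=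
  (X.presheaf.map (homOfLE le_top).op).hom

theorem resTop_injective (N : X.Opens) [Nonempty N] : Function.Injective (resTop X N) :=
  map_injective_of_isIntegral X (homOfLE (le_top : N ≤ ⊤))

/-- local divisibility from integrality -/
theorem exists_local_quotient (h : ∀ x : X, IsIntegrallyClosed (X.presheaf.stalk x))
    (a b : Γ(X, ⊤)) (hb : b ≠ 0)
    (hx : IsIntegral Γ(X, ⊤) (algebraMap Γ(X, ⊤) (FractionRing Γ(X, ⊤)) a /
      algebraMap Γ(X, ⊤) (FractionRing Γ(X, ⊤)) b))
    (N : X.Opens) (hN : IsAffineOpen N) [Nonempty N] :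
    ∃ y : Γ(X, N), resTop X N b * y = resTop X N a := by
  haveI : IsIntegrallyClosed Γ(X, N) :=
    Groth.Agent.Helper5.NormKA.isIntegrallyClosed_of_stalks N hN (fun x _ => h x)
  have hinj : Function.Injective
      ((algebraMap Γ(X, N) (FractionRing Γ(X, N))).comp (resTop X N)) :=
    (IsFractionRing.injective Γ(X, N) (FractionRing Γ(X, N))).comp (resTop_injective X N)
  let φ : FractionRing Γ(X, ⊤) →+* FractionRing Γ(X, N) := IsFractionRing.lift hinj
  have hφ : ∀ r : Γ(X, ⊤), φ (algebraMap _ _ r) = algebraMap _ _ (resTop X N r) :=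
    fun r => IsFractionRing.lift_algebraMap hinj r
  have hint : IsIntegral Γ(X, N) (φ (algebraMap Γ(X, ⊤) (FractionRing Γ(X, ⊤)) a /
      algebraMap Γ(X, ⊤) (FractionRing Γ(X, ⊤)) b)) := by
    refine IsIntegral.map_of_comp_eq (resTop X N) φ ?_ hx
    ext r
    exact (hφ r).symm
  obtain ⟨y, hy⟩ := (isIntegrallyClosed_iff (FractionRing Γ(X, N))).mp inferInstance hint
  refine ⟨y, ?_⟩
  apply IsFractionRing.injective Γ(X, N) (FractionRing Γ(X, N))
  rw [map_mul, hy, map_div₀, hφ, hφ]
  have hb' : algebraMap Γ(X, N) (FractionRing Γ(X, N)) (resTop X N b) ≠ 0 := by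
    intro h0
    have h1 := hinj (show ((algebraMap Γ(X, N) (FractionRing Γ(X, N))).comp (resTop X N)) b =
      ((algebraMap Γ(X, N) (FractionRing Γ(X, N))).comp (resTop X N)) 0 by
        rw [map_zero]; exact h0)
    exact hb h1
  field_simp

theorem map_resTop {N M : X.Opens} (i : M ⟶ N) (r : Γ(X, ⊤)) :
    (X.presheaf.map i.op).hom (resTop X N r) = resTop X M r := by
  unfold resTop
  rw [← CommRingCat.comp_apply, ← Functor.map_comp]
  rfl

/-- global functions on an integral scheme with integrally closed local rings are integrally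
closed -/
theorem isIntegrallyClosed_top (h : ∀ x : X, IsIntegrallyClosed (X.presheaf.stalk x)) :
    IsIntegrallyClosed Γ(X, ⊤) := by
  rw [isIntegrallyClosed_iff (FractionRing Γ(X, ⊤))]
  intro x hx
  obtain ⟨a, b, hb, rfl⟩ := IsFractionRing.div_surjective (A := Γ(X, ⊤)) x
  have hb0 : b ≠ 0 := nonZeroDivisors.ne_zero hb
  have hex : ∀ z : X, ∃ N : X.Opens, IsAffineOpen N ∧ z ∈ N := by
    intro z
    obtain ⟨N, hN, hz, -⟩ := exists_isAffineOpen_mem_and_subset (X := X) (x := z) (U := ⊤) trivial
    exact ⟨N, hN, hz⟩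
  choose N hNaff hzN using hex
  haveI : ∀ z, Nonempty (N z) := fun z => ⟨⟨z, hzN z⟩⟩
  choose y hy using fun z => exists_local_quotient X h a b hb0 hx (N z) (hNaff z)
  have hc : TopCat.Presheaf.IsCompatible X.sheaf.1 N y := by
    intro z z'
    by_cases hne : Nonempty ↥((N z ⊓ N z' : X.Opens) : Scheme.{u})
    · haveI := hne
      haveI : IsDomain Γ(X, N z ⊓ N z') := inferInstance
      have h1 : resTop X (N z ⊓ N z') b *
          (X.presheaf.map (Opens.infLELeft (N z) (N z')).op).hom (y z) =
          resTop X (N z ⊓ N z') a := by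
        rw [← map_resTop X (Opens.infLELeft (N z) (N z')) b,
          ← map_resTop X (Opens.infLELeft (N z) (N z')) a, ← map_mul, hy]
      have h2 : resTop X (N z ⊓ N z') b *
          (X.presheaf.map (Opens.infLERight (N z) (N z')).op).hom (y z') =
          resTop X (N z ⊓ N z') a := by
        rw [← map_resTop X (Opens.infLERight (N z) (N z')) b,
          ← map_resTop X (Opens.infLERight (N z) (N z')) a, ← map_mul, hy]
      have h3 : resTop X (N z ⊓ N z') b ≠ 0 := by
        intro h0
        exact hb0 (resTop_injective X (N z ⊓ N z') (h0.trans (map_zero _).symm))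
      exact mul_left_cancel₀ (M₀ := Γ(X, N z ⊓ N z')) h3 (h1.trans h2.symm)
    · have hbot : N z ⊓ N z' = ⊥ := by
        rw [eq_bot_iff]
        intro w hw
        exact (hne ⟨⟨w, hw⟩⟩).elim
      haveI : Subsingleton Γ(X, N z ⊓ N z') := by rw [hbot]; infer_instance
      exact Subsingleton.elim (α := Γ(X, N z ⊓ N z')) _ _
  have hcover : (⊤ : X.Opens) ≤ iSup N := by
    intro z _
    exact Opens.mem_iSup.mpr ⟨z, hzN z⟩
  obtain ⟨t', ht', -⟩ := X.sheaf.existsUnique_gluing' N ⊤ (fun z => homOfLE le_top) hcover y hc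
  obtain ⟨t, ht⟩ : ∃ t : Γ(X, ⊤), ∀ z, (X.presheaf.map (homOfLE (le_top : N z ≤ ⊤)).op).hom t = y z :=
    ⟨t', ht'⟩
  have hbt : b * t = a := by
    refine X.sheaf.eq_of_locally_eq' N ⊤ (fun z => homOfLE le_top) hcover _ _ ?_
    intro z
    have h1 : (X.presheaf.map (homOfLE (le_top : N z ≤ ⊤)).op).hom (b * t) =
        resTop X (N z) b * y z := by
      rw [map_mul]
      exact congrArg (fun w => resTop X (N z) b * w) (ht z)
    exact h1.trans (hy z)
  refine ⟨t, ?_⟩
  have hb' : algebraMap Γ(X, ⊤) (FractionRing Γ(X, ⊤)) b ≠ 0 := by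
    intro h0
    exact hb0 (IsFractionRing.injective Γ(X, ⊤) (FractionRing Γ(X, ⊤)) (h0.trans (map_zero _).symm))
  rw [eq_div_iff hb', ← map_mul, mul_comm, hbt]

end Groth.Agent.Helper1.LN
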