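import Mathlib

/-!
# Helper1: locally irreducible spaces split into their maximal irreducible open subsets
-/

set_option autoImplicit false

namespace Groth.Agent.Helper1.LN

variable {Z : Type*} [TopologicalSpace Z]

/-- a union of irreducible open subsets which pairwise meet is irreducible -/
theorem isPreirreducible_sUnion (𝒩 : Set (Set Z))
    (hopen : ∀ N ∈ 𝒩, IsOpen N) (hirr : ∀ N ∈ 𝒩, IsPreirreducible N)
    (hmeet : ∀ N ∈ 𝒩, ∀ N' ∈ 𝒩, N.Nonempty → N'.Nonempty → (N ∩ N').Nonempty) :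
    IsPreirreducible (⋃₀ 𝒩) := by
  rintro A B hA hB ⟨a, ⟨N, hN, haN⟩, haA⟩ ⟨b, ⟨N', hN', hbN'⟩, hbB⟩
  obtain ⟨c, hcN, hcN'⟩ := hmeet N hN N' hN' ⟨a, haN⟩ ⟨b, hbN'⟩
  obtain ⟨d, hdN, hdA, hdN'⟩ :=
    hirr N hN A N' hA (hopen N' hN') ⟨a, haN, haA⟩ ⟨c, hcN, hcN'⟩
  obtain ⟨x, hxN', ⟨hxA, -⟩, hxB⟩ :=
    hirr N' hN' (A ∩ N) B (hA.inter (hopen N hN)) hB ⟨d, hdN', hdA, hdN⟩ ⟨b, hbN', hbB⟩
  exact ⟨x, ⟨N', hN', hxN'⟩, hxA, hxB⟩

/-- a space covered by irreducible opens which pairwise meet is irreducible -/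
theorem preirreducibleSpace_of_cover {ι : Type*} (W : ι → Set Z)
    (hopen : ∀ k, IsOpen (W k)) (hirr : ∀ k, IsPreirreducible (W k))
    (hcov : ∀ z, ∃ k, z ∈ W k)
    (hmeet : ∀ k l, (W k).Nonempty → (W l).Nonempty → (W k ∩ W l).Nonempty) :
    PreirreducibleSpace Z := by
  have h := isPreirreducible_sUnion (Set.range W)
    (by rintro _ ⟨k, rfl⟩; exact hopen k) (by rintro _ ⟨k, rfl⟩; exact hirr k)
    (by rintro _ ⟨k, rfl⟩ _ ⟨l, rfl⟩; exact hmeet k l)
  have h2 : ⋃₀ Set.range W = Set.univ := by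
    ext z
    simp only [Set.mem_sUnion, Set.mem_range, exists_exists_eq_and, Set.mem_univ, iff_true]
    exact hcov z
  rw [h2] at h
  exact ⟨h⟩

/-- the largest irreducible open subset of `W` containing `w` -/
def comp (W : Set Z) (w : Z) : Set Z :=
  ⋃₀ {N | IsOpen N ∧ IsPreirreducible N ∧ w ∈ N ∧ N ⊆ W}

theorem isOpen_comp (W : Set Z) (w : Z) : IsOpen (comp W w) :=
  isOpen_sUnion fun _ hN => hN.1

theorem comp_subset (W : Set Z) (w : Z) : comp W w ⊆ W :=
  Set.sUnion_subset fun _ hN => hN.2.2.2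

theorem isPreirreducible_comp (W : Set Z) (w : Z) : IsPreirreducible (comp W w) :=
  isPreirreducible_sUnion _ (fun _ hN => hN.1) (fun _ hN => hN.2.1)
    (fun _ hN _ hN' _ _ => ⟨w, hN.2.2.1, hN'.2.2.1⟩)

theorem subset_comp {W : Set Z} {w : Z} {N : Set Z} (h1 : IsOpen N) (h2 : IsPreirreducible N)
    (h3 : w ∈ N) (h4 : N ⊆ W) : N ⊆ comp W w :=
  Set.subset_sUnion_of_mem ⟨h1, h2, h3, h4⟩

theorem self_mem_comp_of_nonempty {W : Set Z} {w : Z} (h : (comp W w).Nonempty) :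
    w ∈ comp W w := by
  obtain ⟨x, N, hN, -⟩ := h
  exact ⟨N, hN, hN.2.2.1⟩

theorem comp_subset_of_mem {W : Set Z} {w w' x : Z} (hx : x ∈ comp W w) (hx' : x ∈ comp W w') :
    comp W w' ⊆ comp W w := by
  have hw : w ∈ comp W w := self_mem_comp_of_nonempty ⟨x, hx⟩
  have hirr : IsPreirreducible (comp W w ∪ comp W w') := by
    have h := isPreirreducible_sUnion {comp W w, comp W w'}
      (by
        rintro N (rfl | rfl)
        · exact isOpen_comp W w
        · exact isOpen_comp W w')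
      (by
        rintro N (rfl | rfl)
        · exact isPreirreducible_comp W w
        · exact isPreirreducible_comp W w')
      (by
        rintro N (rfl | rfl) N' (rfl | rfl) _ _
        · exact ⟨x, hx, hx⟩
        · exact ⟨x, hx, hx'⟩
        · exact ⟨x, hx', hx⟩
        · exact ⟨x, hx', hx'⟩)
    rwa [Set.sUnion_pair] at h
  exact Set.subset_union_right.trans (subset_comp ((isOpen_comp W w).union (isOpen_comp W w'))
    hirr (Or.inl hw) (Set.union_subset (comp_subset W w) (comp_subset W w')))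

theorem comp_eq_of_mem {W : Set Z} {w w' x : Z} (hx : x ∈ comp W w) (hx' : x ∈ comp W w') :
    comp W w = comp W w' :=
  Set.Subset.antisymm (comp_subset_of_mem hx' hx) (comp_subset_of_mem hx hx')

/-- the union of the other components -/
def compl (W : Set Z) (w : Z) : Set Z :=
  ⋃₀ {N | ∃ w' ∈ W, w' ∉ comp W w ∧ N = comp W w'}

theorem isOpen_compl (W : Set Z) (w : Z) : IsOpen (compl W w) := by
  refine isOpen_sUnion ?_
  rintro _ ⟨w', -, -, rfl⟩
  exact isOpen_comp W w'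

theorem compl_subset (W : Set Z) (w : Z) : compl W w ⊆ W := by
  refine Set.sUnion_subset ?_
  rintro _ ⟨w', -, -, rfl⟩
  exact comp_subset W w'

theorem disjoint_comp_compl (W : Set Z) (w : Z) : comp W w ∩ compl W w = ∅ := by
  ext x
  simp only [Set.mem_inter_iff, Set.mem_empty_iff_false, iff_false, not_and]
  rintro hx ⟨_, ⟨w', -, hw', rfl⟩, hx'⟩
  have h := comp_eq_of_mem hx hx'
  exact hw' (h ▸ self_mem_comp_of_nonempty ⟨x, hx'⟩)

/-- if every point of `W` has an irreducible open neighbourhood inside `W`, the component of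
`w` and the union of the other components cover `W` -/
theorem comp_union_compl {W : Set Z}
    (hloc : ∀ x ∈ W, ∃ N : Set Z, IsOpen N ∧ IsPreirreducible N ∧ x ∈ N ∧ N ⊆ W) (w : Z) :
    comp W w ∪ compl W w = W := by
  refine Set.Subset.antisymm (Set.union_subset (comp_subset W w) (compl_subset W w)) ?_
  intro x hx
  by_cases hxw : x ∈ comp W w
  · exact Or.inl hxw
  · right
    obtain ⟨N, h1, h2, h3, h4⟩ := hloc x hx
    exact ⟨comp W x, ⟨x, hx, hxw, rfl⟩, subset_comp h1 h2 h3 h4 h3⟩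

theorem mem_comp_self {W : Set Z}
    (hloc : ∀ x ∈ W, ∃ N : Set Z, IsOpen N ∧ IsPreirreducible N ∧ x ∈ N ∧ N ⊆ W) {w : Z}
    (hw : w ∈ W) : w ∈ comp W w := by
  obtain ⟨N, h1, h2, h3, h4⟩ := hloc w hw
  exact subset_comp h1 h2 h3 h4 h3

end Groth.Agent.Helper1.LN
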