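import Mathlib
import Groth.Agent.Helper1.LN1

/-!
# Helper1: integrality of a scheme from a cover by integral affine opens; normal stalks from
normal affine coordinate rings
-/

set_option autoImplicit false
set_option linter.style.haveILetI false
set_option linter.unusedSectionVars false

open CategoryTheory AlgebraicGeometry TopologicalSpace Opposite

universe u

namespace Groth.Agent.Helper1.LN

/-- local rings at the points of an affine open with normal coordinate ring are normal -/
theorem stalk_normal_of_affine {C : Scheme.{u}} (O : C.Opens) (hO : IsAffineOpen O)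
    [IsDomain Γ(C, O)] [IsIntegrallyClosed Γ(C, O)] (c : C) (hc : c ∈ O) :
    IsDomain (C.presheaf.stalk c) ∧ IsIntegrallyClosed (C.presheaf.stalk c) := by
  letI : Algebra Γ(C, O) (C.presheaf.stalk c) := C.presheaf.algebra_section_stalk ⟨c, hc⟩
  haveI : IsLocalization.AtPrime (C.presheaf.stalk c) (hO.primeIdealOf ⟨c, hc⟩).asIdeal :=
    hO.isLocalization_stalk ⟨c, hc⟩
  have hM : (hO.primeIdealOf ⟨c, hc⟩).asIdeal.primeCompl ≤ nonZeroDivisors Γ(C, O) := by
    intro x hx
    exact mem_nonZeroDivisors_of_ne_zero
      (fun h => hx (h ▸ (hO.primeIdealOf ⟨c, hc⟩).asIdeal.zero_mem))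
  exact ⟨IsLocalization.isDomain_of_le_nonZeroDivisors (R := Γ(C, O)) _ hM,
    isIntegrallyClosed_of_isLocalization _ (hO.primeIdealOf ⟨c, hc⟩).asIdeal.primeCompl hM⟩

/-- an open with trivial ring of functions is empty -/
theorem eq_bot_of_subsingleton {C : Scheme.{u}} (O : C.Opens) [Subsingleton Γ(C, O)] : O = ⊥ := by
  have h1 : C.basicOpen (1 : Γ(C, O)) = O := C.basicOpen_of_isUnit isUnit_one
  have h2 : C.basicOpen (0 : Γ(C, O)) = ⊥ := C.basicOpen_zero O
  rw [← h1, Subsingleton.elim (1 : Γ(C, O)) 0, h2]

theorem nonempty_of_nontrivial {C : Scheme.{u}} (O : C.Opens) [Nontrivial Γ(C, O)] :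
    (O : Set C).Nonempty := by
  by_contra h
  have hO : O = ⊥ := by
    rw [eq_bot_iff]
    intro x hx
    exact (h ⟨x, hx⟩).elim
  have : Subsingleton Γ(C, O) := by rw [hO]; infer_instance
  exact not_subsingleton Γ(C, O) this

/-- an open subscheme of a reduced scheme with irreducible underlying set is integral -/
theorem isIntegral_opens_of_isIrreducible {V : Scheme.{u}} [IsReduced V] (W : V.Opens)
    (h : IsIrreducible (W : Set V)) : IsIntegral (W : Scheme.{u}) := by
  haveI : IrreducibleSpace ↥(W : Scheme.{u}) := Subtype.irreducibleSpace h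
  exact isIntegral_of_irreducibleSpace_of_isReduced _

theorem isIrreducible_of_isIntegral_opens {V : Scheme.{u}} (W : V.Opens)
    [IsIntegral (W : Scheme.{u})] : IsIrreducible (W : Set V) := by
  haveI : IrreducibleSpace ↥(W : Set V) :=
    inferInstanceAs (IrreducibleSpace ↥(W : Scheme.{u}))
  exact IsIrreducible.of_subtype

/-- an affine open with a domain of functions is irreducible -/
theorem isIrreducible_of_isAffineOpen_of_isDomain {C : Scheme.{u}} (O : C.Opens)
    (hO : IsAffineOpen O) [IsDomain Γ(C, O)] : IsIrreducible (O : Set C) := by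
  haveI : IsAffine (O : Scheme.{u}) := hO
  haveI : IsDomain Γ((O : Scheme.{u}), ⊤) :=
    (O.topIso.commRingCatIsoToRingEquiv.toMulEquiv).isDomain _
  haveI : Nonempty ↥(O : Scheme.{u}) := by
    obtain ⟨x, hx⟩ := nonempty_of_nontrivial O
    exact ⟨⟨x, hx⟩⟩
  haveI : IsIntegral (O : Scheme.{u}) := isIntegral_of_isAffine_of_isDomain _
  exact isIrreducible_of_isIntegral_opens O

/-- an affine open with a reduced ring of functions has reduced local rings -/
theorem isReduced_stalk_of_isAffineOpen {C : Scheme.{u}} (O : C.Opens) (hO : IsAffineOpen O)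
    [_root_.IsReduced Γ(C, O)] (c : C) (hc : c ∈ O) : _root_.IsReduced (C.presheaf.stalk c) := by
  letI : Algebra Γ(C, O) (C.presheaf.stalk c) := C.presheaf.algebra_section_stalk ⟨c, hc⟩
  haveI : IsLocalization.AtPrime (C.presheaf.stalk c) (hO.primeIdealOf ⟨c, hc⟩).asIdeal :=
    hO.isLocalization_stalk ⟨c, hc⟩
  exact isReduced_localizationPreserves (hO.primeIdealOf ⟨c, hc⟩).asIdeal.primeCompl
    (C.presheaf.stalk c) inferInstance

/-- a scheme covered by affine opens with domains of functions, any two of which meet, is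
integral -/
theorem isIntegral_of_affine_cover {C : Scheme.{u}} [Nonempty C] {ι : Type*} (W : ι → C.Opens)
    (hW : ∀ k, IsAffineOpen (W k)) (hdom : ∀ k, IsDomain Γ(C, W k))
    (hcov : ∀ c : C, ∃ k, c ∈ W k)
    (hmeet : ∀ k l, ((W k : Set C) ∩ (W l : Set C)).Nonempty) : IsIntegral C := by
  haveI : ∀ c : C, _root_.IsReduced (C.presheaf.stalk c) := by
    intro c
    obtain ⟨k, hk⟩ := hcov c
    haveI := hdom k
    exact isReduced_stalk_of_isAffineOpen (W k) (hW k) c hk
  haveI : IsReduced C := isReduced_of_isReduced_stalk C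
  haveI : PreirreducibleSpace C :=
    preirreducibleSpace_of_cover (fun k => (W k : Set C)) (fun k => (W k).2)
      (fun k => by
        haveI := hdom k
        exact (isIrreducible_of_isAffineOpen_of_isDomain (W k) (hW k)).isPreirreducible)
      hcov (fun k l _ _ => hmeet k l)
  haveI : IrreducibleSpace C := { toPreirreducibleSpace := inferInstance, toNonempty := inferInstance }
  exact isIntegral_of_irreducibleSpace_of_isReduced C

end Groth.Agent.Helper1.LN
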