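import Mathlib
import Groth.Agent.Helper1.LN2
import Groth.Agent.Helper1.LN3
import Groth.Agent.Helper1.LN4
import Groth.Prelude.Def_Pi1

/-!
# Helper1: functions on an irreducible open of a normal scheme; the idempotent of a clopen piece
-/

set_option autoImplicit false
set_option linter.style.haveILetI false
set_option linter.unusedSectionVars false

open CategoryTheory AlgebraicGeometry TopologicalSpace Opposite

universe u

namespace Groth.Agent.Helper1.LN

theorem isReduced_of_isNormalScheme {V : Scheme.{u}} (hn : Pi1.IsNormalScheme V) : IsReduced V := by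
  haveI : ∀ v : V, _root_.IsReduced (V.presheaf.stalk v) := fun v => by
    haveI := (hn v).1
    infer_instance
  exact isReduced_of_isReduced_stalk V

/-- functions on an irreducible open of a normal scheme form an integrally closed domain -/
theorem normal_sections_of_isIrreducible {V : Scheme.{u}} (hn : Pi1.IsNormalScheme V)
    (Z : V.Opens) (hZ : IsIrreducible (Z : Set V)) :
    IsDomain Γ(V, Z) ∧ IsIntegrallyClosed Γ(V, Z) := by
  haveI := isReduced_of_isNormalScheme hn
  haveI : IsIntegral (Z : Scheme.{u}) := isIntegral_opens_of_isIrreducible Z hZ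
  have hst : ∀ z : (Z : Scheme.{u}), IsIntegrallyClosed ((Z : Scheme.{u}).presheaf.stalk z) := by
    intro z
    haveI := (hn z.1).2
    exact IsIntegrallyClosed.of_equiv (Z.stalkIso z).symm.commRingCatIsoToRingEquiv
  haveI h1 : IsIntegrallyClosed Γ((Z : Scheme.{u}), ⊤) := isIntegrallyClosed_top _ hst
  haveI h2 : IsDomain Γ((Z : Scheme.{u}), ⊤) := inferInstance
  exact ⟨(Z.topIso.symm.commRingCatIsoToRingEquiv.toMulEquiv).isDomain _,
    IsIntegrallyClosed.of_equiv Z.topIso.commRingCatIsoToRingEquiv⟩

/-- the idempotent attached to a clopen piece `Z` of `W`, with complement `Z'` -/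
theorem exists_idem {V : Scheme.{u}} (Z Z' W : V.Opens) (hd : Z ⊓ Z' = ⊥) (hW : Z ⊔ Z' = W)
    (hZ : Z ≤ W) :
    ∃ e : Γ(V, W), (V.presheaf.map (homOfLE hZ).op).hom e = 1 ∧
      (letI := (V.presheaf.map (homOfLE hZ).op).hom.toAlgebra
       IsLocalization.Away e Γ(V, Z)) := by
  subst hW
  exact ⟨idem Z Z' hd, res₁_idem Z Z' hd, isLocalization_away_res₁ Z Z' hd⟩

end Groth.Agent.Helper1.LN
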