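import Mathlib
import Groth.Agent.Helper1.LN5
import Groth.Agent.Helper4.RelSpecIso

/-!
# Helper1: the relative spectrum of the direct image algebra of an integral scheme is integral
-/

set_option autoImplicit false
set_option linter.style.haveILetI false
set_option linter.unusedSectionVars false

open CategoryTheory AlgebraicGeometry TopologicalSpace Opposite

universe u

namespace Groth.Agent.Helper1.LN

variable {V Y : Scheme.{u}} (g : V ⟶ Y) [QuasiCompact g] [QuasiSeparated g]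

/-- the relative spectrum of `g_*O_V` -/
noncomputable abbrev Cg : Scheme.{u} := (RelSpec.QCAlg.directImage g).spec

/-- its structure morphism -/
noncomputable abbrev πg : Cg g ⟶ Y := (RelSpec.QCAlg.directImage g).π

/-- functions on the preimage of an affine open `U` are the functions on `g⁻¹U` -/
noncomputable def gEq (U : Y.Opens) (hU : IsAffineOpen U) :
    Γ(Cg g, πg g ⁻¹ᵁ U) ≃+* Γ(V, g ⁻¹ᵁ U) :=
  haveI := Groth.Agent.Helper4.RelSpecIso.isIso_gammaAff (RelSpec.QCAlg.directImage g) U hU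
  (asIso ((RelSpec.QCAlg.directImage g).gammaAff U hU)).commRingCatIsoToRingEquiv

theorem affine_preimage (U : Y.Opens) (hU : IsAffineOpen U) : IsAffineOpen (πg g ⁻¹ᵁ U) :=
  hU.preimage (πg g)

theorem nonempty_preimage_of_mem {c : Cg g} {U : Y.Opens} (hU : IsAffineOpen U)
    (hc : c ∈ πg g ⁻¹ᵁ U) : ((g ⁻¹ᵁ U : V.Opens) : Set V).Nonempty := by
  by_contra h
  have hbot : g ⁻¹ᵁ U = ⊥ := by
    rw [eq_bot_iff]
    intro x hx
    exact (h ⟨x, hx⟩).elim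
  haveI : Subsingleton Γ(V, g ⁻¹ᵁ U) := by rw [hbot]; infer_instance
  haveI : Subsingleton Γ(Cg g, πg g ⁻¹ᵁ U) := (gEq g U hU).toEquiv.subsingleton
  have h2 := eq_bot_of_subsingleton (πg g ⁻¹ᵁ U)
  rw [h2] at hc
  exact hc

/-- the relative spectrum of the direct image algebra of an integral scheme is integral -/
theorem isIntegral_Cg [IsIntegral V] : IsIntegral (Cg g) := by
  let ι := {U : Y.Opens // IsAffineOpen U ∧ ((g ⁻¹ᵁ U : V.Opens) : Set V).Nonempty}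
  have hdom : ∀ k : ι, IsDomain Γ(Cg g, πg g ⁻¹ᵁ k.1) := fun k => by
    haveI : Nonempty ↥((g ⁻¹ᵁ k.1 : V.Opens) : Scheme.{u}) := by
      obtain ⟨v, hv⟩ := k.2.2
      exact ⟨⟨v, hv⟩⟩
    haveI : IsDomain Γ(V, g ⁻¹ᵁ k.1) := inferInstance
    exact (gEq g k.1 k.2.1).toMulEquiv.isDomain _
  have hne : ∀ k : ι, ((πg g ⁻¹ᵁ k.1 : (Cg g).Opens) : Set (Cg g)).Nonempty := fun k => by
    haveI := hdom k
    exact nonempty_of_nontrivial _
  have hcov : ∀ c : Cg g, ∃ k : ι, c ∈ πg g ⁻¹ᵁ k.1 := by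
    intro c
    obtain ⟨U, hU, hyU, -⟩ :=
      exists_isAffineOpen_mem_and_subset (X := Y) (x := (πg g) c) (U := ⊤) trivial
    exact ⟨⟨U, hU, nonempty_preimage_of_mem g hU hyU⟩, hyU⟩
  have hmeet : ∀ k l : ι, (((πg g ⁻¹ᵁ k.1 : (Cg g).Opens) : Set (Cg g)) ∩
      ((πg g ⁻¹ᵁ l.1 : (Cg g).Opens) : Set (Cg g))).Nonempty := by
    intro k l
    obtain ⟨v, hv⟩ := k.2.2
    obtain ⟨v', hv'⟩ := l.2.2
    obtain ⟨v'', hv''k, hv''l⟩ :=
      nonempty_preirreducible_inter (g ⁻¹ᵁ k.1).2 (g ⁻¹ᵁ l.1).2 ⟨v, hv⟩ ⟨v', hv'⟩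
    obtain ⟨U'', hU'', hy, hle⟩ := exists_isAffineOpen_mem_and_subset (X := Y) (x := g v'')
      (U := k.1 ⊓ l.1) ⟨hv''k, hv''l⟩
    obtain ⟨c, hc⟩ := hne ⟨U'', hU'', ⟨v'', hy⟩⟩
    exact ⟨c, (hle hc).1, (hle hc).2⟩
  haveI : Nonempty (Cg g) := by
    obtain ⟨v⟩ : Nonempty V := inferInstance
    obtain ⟨U, hU, hyU, -⟩ :=
      exists_isAffineOpen_mem_and_subset (X := Y) (x := g v) (U := ⊤) trivial
    obtain ⟨c, -⟩ := hne ⟨U, hU, ⟨v, hyU⟩⟩
    exact ⟨c⟩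
  exact isIntegral_of_affine_cover (fun k : ι => πg g ⁻¹ᵁ k.1)
    (fun k => affine_preimage g k.1 k.2.1) hdom hcov hmeet

end Groth.Agent.Helper1.LN
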