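import Mathlib
import Groth.Agent.Helper1.LN6

/-!
# Helper1: the relative spectrum of the direct image algebra of a locally integral normal scheme
is normal
-/

set_option autoImplicit false
set_option linter.style.haveILetI false
set_option linter.unusedSectionVars false

open CategoryTheory AlgebraicGeometry TopologicalSpace Opposite

universe u

namespace Groth.Agent.Helper1.LN

variable {V Y : Scheme.{u}} (g : V ⟶ Y) [QuasiCompact g] [QuasiSeparated g]

/-- in a local ring, if a finite product of elements `1 - e w` vanishes, some `e w` is a unit -/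
theorem exists_isUnit_of_prod_eq_zero {R : Type*} [CommRing R] [IsLocalRing R] {κ : Type*}
    (t : Finset κ) (e : κ → R) (h : ∏ w ∈ t, (1 - e w) = 0) : ∃ w ∈ t, IsUnit (e w) := by
  by_contra hcon
  push Not at hcon
  have h1 : ∀ w ∈ t, IsUnit (1 - e w) := by
    intro w hw
    rcases IsLocalRing.isUnit_or_isUnit_of_add_one (show e w + (1 - e w) = 1 by ring) with h2 | h2
    · exact (hcon w hw h2).elim
    · exact h2
  have h3 : IsUnit (∏ w ∈ t, (1 - e w)) := by
    rw [IsUnit.prod_iff]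
    exact h1
  rw [h] at h3
  exact not_isUnit_zero h3

/-- local rings of an affine open piece: if `Γ(C, O)` is, through a ring isomorphism of the
base rings, a localization isomorphic to a normal domain, it is a normal domain -/
theorem normal_of_away_equiv {R R' S S' : Type u} [CommRing R] [CommRing R'] [CommRing S]
    [CommRing S'] [Algebra R S] [Algebra R' S'] (φ : R ≃+* R') (e : R) [IsLocalization.Away e S]
    [IsLocalization.Away (φ e) S'] [IsDomain S'] [IsIntegrallyClosed S'] :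
    IsDomain S ∧ IsIntegrallyClosed S := by
  have H : (Submonoid.powers e).map φ.toMonoidHom = Submonoid.powers (φ e) := by
    rw [Submonoid.map_powers]
    rfl
  let ψ : S ≃+* S' := IsLocalization.ringEquivOfRingEquiv S S' φ H
  exact ⟨ψ.toMulEquiv.isDomain _, IsIntegrallyClosed.of_equiv ψ.symm⟩

/-- the relative spectrum of the direct image algebra of a locally integral normal scheme is
normal -/
theorem isNormal_Cg (hloc : ∀ v : V, ∃ N : V.Opens, v ∈ N ∧ IsIntegral (N : Scheme.{u}))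
    (hn : Pi1.IsNormalScheme V) : Pi1.IsNormalScheme (Cg g) := by
  intro c
  obtain ⟨U, hU, hyU, -⟩ :=
    exists_isAffineOpen_mem_and_subset (X := Y) (x := (πg g) c) (U := ⊤) trivial
  have hWc : IsCompact ((g ⁻¹ᵁ U : V.Opens) : Set V) := g.isCompact_preimage hU.isCompact
  have hlocW : ∀ x ∈ ((g ⁻¹ᵁ U : V.Opens) : Set V), ∃ N : Set V, IsOpen N ∧ IsPreirreducible N ∧
      x ∈ N ∧ N ⊆ ((g ⁻¹ᵁ U : V.Opens) : Set V) := by
    intro x hx
    obtain ⟨N, hxN, hN⟩ := hloc x
    haveI := hN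
    have hirr := isIrreducible_of_isIntegral_opens N
    exact ⟨(N : Set V) ∩ ((g ⁻¹ᵁ U : V.Opens) : Set V), N.2.inter (g ⁻¹ᵁ U).2,
      hirr.isPreirreducible.open_subset (N.2.inter (g ⁻¹ᵁ U).2) Set.inter_subset_left,
      ⟨hxN, hx⟩, Set.inter_subset_right⟩
  obtain ⟨t, ht⟩ := hWc.elim_finite_subcover
    (fun w : V => comp ((g ⁻¹ᵁ U : V.Opens) : Set V) w) (fun w => isOpen_comp _ w)
    (fun x hx => Set.mem_iUnion.mpr ⟨x, mem_comp_self hlocW hx⟩)
  -- the pieces
  let Z : V → V.Opens := fun w => ⟨comp ((g ⁻¹ᵁ U : V.Opens) : Set V) w, isOpen_comp _ w⟩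
  let Z' : V → V.Opens := fun w => ⟨compl ((g ⁻¹ᵁ U : V.Opens) : Set V) w, isOpen_compl _ w⟩
  have hd : ∀ w, Z w ⊓ Z' w = ⊥ := by
    intro w
    ext x
    exact Set.ext_iff.mp (disjoint_comp_compl ((g ⁻¹ᵁ U : V.Opens) : Set V) w) x
  have hW : ∀ w, Z w ⊔ Z' w = g ⁻¹ᵁ U := by
    intro w
    ext x
    exact Set.ext_iff.mp (comp_union_compl hlocW w) x
  have hZ : ∀ w, Z w ≤ g ⁻¹ᵁ U := fun w => comp_subset _ w
  choose e he1 heloc using fun w => exists_idem (Z w) (Z' w) (g ⁻¹ᵁ U) (hd w) (hW w) (hZ w)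
  -- the product of the complementary idempotents vanishes
  have hcover : g ⁻¹ᵁ U ≤ iSup (fun w : ↥t => Z w.1) := by
    intro x hx
    obtain ⟨w, hw⟩ := Set.mem_iUnion.mp (ht hx)
    obtain ⟨hwt, hxw⟩ := Set.mem_iUnion.mp hw
    exact Opens.mem_iSup.mpr ⟨⟨w, hwt⟩, hxw⟩
  have hprod : ∏ w ∈ t, (1 - e w) = 0 := by
    refine V.sheaf.eq_of_locally_eq' (fun w : ↥t => Z w.1) (g ⁻¹ᵁ U)
      (fun w => homOfLE (hZ w.1)) hcover _ _ ?_
    intro w
    have h1 : (V.presheaf.map (homOfLE (hZ w.1)).op).hom (∏ w' ∈ t, (1 - e w')) = 0 := by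
      rw [map_prod]
      refine Finset.prod_eq_zero w.2 ?_
      rw [map_sub, map_one, he1, sub_self]
    exact h1.trans (map_zero _).symm
  -- transport to `C`
  let φ := gEq g U hU
  have hprod' : ∏ w ∈ t, (1 - φ.symm (e w)) = 0 := by
    have h1 := congrArg φ.symm hprod
    rw [map_prod, map_zero] at h1
    refine Eq.trans (Finset.prod_congr rfl fun w _ => ?_) h1
    rw [map_sub, map_one]
  have hgerm : ∏ w ∈ t, (1 - ((Cg g).presheaf.germ (πg g ⁻¹ᵁ U) c hyU).hom (φ.symm (e w))) = 0 := by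
    have h1 := congrArg ((Cg g).presheaf.germ (πg g ⁻¹ᵁ U) c hyU).hom hprod'
    rw [map_prod, map_zero] at h1
    refine Eq.trans (Finset.prod_congr rfl fun w _ => ?_) h1
    rw [map_sub, map_one]
  obtain ⟨w, -, hw⟩ := exists_isUnit_of_prod_eq_zero t _ hgerm
  have hcO : c ∈ (Cg g).basicOpen (φ.symm (e w)) :=
    ((Cg g).mem_basicOpen (φ.symm (e w)) c hyU).mpr hw
  have hOaff : IsAffineOpen ((Cg g).basicOpen (φ.symm (e w))) :=
    (affine_preimage g U hU).basicOpen _
  haveI hOloc : IsLocalization.Away (φ.symm (e w)) Γ(Cg g, (Cg g).basicOpen (φ.symm (e w))) :=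
    (affine_preimage g U hU).isLocalization_basicOpen _
  -- the piece is irreducible
  have hZirr : IsIrreducible ((Z w : V.Opens) : Set V) := by
    refine ⟨?_, isPreirreducible_comp _ w⟩
    have h1 : (1 : Γ(V, Z w)) ≠ 0 ∨ True := Or.inr trivial
    by_contra hemp
    have hbot : Z w = ⊥ := by
      rw [eq_bot_iff]
      intro x hx
      exact (hemp ⟨x, hx⟩).elim
    -- then `e w` restricts to a unit of the zero ring, so `φ.symm (e w)` is nilpotent-free zero
    letI := (V.presheaf.map (homOfLE (hZ w)).op).hom.toAlgebra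
    haveI := heloc w
    haveI : Subsingleton Γ(V, Z w) := by rw [hbot]; infer_instance
    have h2 : ∃ n : ℕ, e w ^ n = 0 := by
      have h3 := (IsLocalization.Away.exists_of_eq (S := Γ(V, Z w)) (e w)
        (a := (1 : Γ(V, g ⁻¹ᵁ U))) (b := 0) (Subsingleton.elim _ _))
      obtain ⟨n, hn⟩ := h3
      exact ⟨n, by simpa using hn⟩
    obtain ⟨n, hn⟩ := h2
    have h4 : IsUnit (((Cg g).presheaf.germ (πg g ⁻¹ᵁ U) c hyU).hom (φ.symm (e w)) ^ n) := hw.pow n
    rw [← map_pow, ← map_pow, hn, map_zero, map_zero] at h4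
    exact not_isUnit_zero h4
  obtain ⟨hdomZ, hicZ⟩ := normal_sections_of_isIrreducible hn (Z w) hZirr
  letI := (V.presheaf.map (homOfLE (hZ w)).op).hom.toAlgebra
  haveI : IsLocalization.Away (φ (φ.symm (e w))) Γ(V, Z w) := by
    rw [RingEquiv.apply_symm_apply]
    exact heloc w
  haveI := hdomZ
  haveI := hicZ
  obtain ⟨hdomO, hicO⟩ := normal_of_away_equiv (S := Γ(Cg g, (Cg g).basicOpen (φ.symm (e w))))
    (S' := Γ(V, Z w)) φ (φ.symm (e w))
  haveI := hdomO
  haveI := hicO
  exact stalk_normal_of_affine _ hOaff c hcO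

end Groth.Agent.Helper1.LN
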