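import Mathlib
import Groth.Agent.Helper1.LN5
import Groth.Agent.Helper1.SY15
import Groth.Agent.Helper4.RelSpecIso
import Groth.Agent.Helper4.AmpleFinite
import Groth.Agent.Helper4.SN200
import Groth.Agent.Helper5.SmNorm3

/-!
# Helper1: the line bundle `V(L)` over an integral (resp. locally integral normal) scheme is
integral (resp. locally integral and normal)
-/

set_option autoImplicit false
set_option linter.style.haveILetI false
set_option linter.unusedSectionVars false

open CategoryTheory AlgebraicGeometry TopologicalSpace Opposite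

universe u

namespace Groth.Agent.Helper1.LN

open Groth.Agent.Helper4.TwistExt RelSpec

variable {X : Scheme.{u}} {L : X.Modules}

theorem isFrame_res {T T' : X.Opens} {e : Γ(L, T)} (he : IsFrame L T e) (h : T' ≤ T) :
    IsFrame L T' (L.presheaf.map (homOfLE h).op e) := by
  intro V hV
  have h1 : L.presheaf.map (homOfLE hV).op (L.presheaf.map (homOfLE h).op e) =
      L.presheaf.map (homOfLE (hV.trans h)).op e := by
    rw [← ConcreteCategory.comp_apply, ← Functor.map_comp]
    rfl
  rw [h1]
  exact he V (hV.trans h)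

/-- on a framed open, `L(T)` is free of rank one -/
noncomputable def frameEquiv {T : X.Opens} {e : Γ(L, T)} (he : IsFrame L T e) :
    Γ(X, T) ≃ₗ[Γ(X, T)] Γ(L, T) :=
  LinearEquiv.ofBijective (LinearMap.toSpanSingleton Γ(X, T) Γ(L, T) e) (by
    have h := Groth.Agent.Helper4.SN200.bijective_of_isFrame L T e he T le_rfl
    have h1 : L.presheaf.map (homOfLE (le_refl T)).op e = e := by
      change L.presheaf.map (𝟙 _) e = e
      rw [L.presheaf.map_id]
      rfl
    rw [h1] at h
    exact h)

variable [L.IsQuasicoherent] {𝒜 : QCAlg X} {jL : L ⟶ 𝒜.toModule} (hA : IsSymAlg L 𝒜 jL)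

/-- functions on the preimage of an affine open -/
noncomputable def gammaEq (T : X.Opens) (hT : IsAffineOpen T) :
    Γ(𝒜.spec, 𝒜.π ⁻¹ᵁ T) ≃+* 𝒜.presheaf.obj (op T) :=
  haveI := Groth.Agent.Helper4.RelSpecIso.isIso_gammaAff 𝒜 T hT
  (asIso (𝒜.gammaAff T hT)).commRingCatIsoToRingEquiv

/-- over a framed affine open, the functions on the line bundle form a polynomial ring -/
noncomputable def polyEquiv (T : X.Opens) (hT : IsAffineOpen T) {e : Γ(L, T)}
    (he : IsFrame L T e) :
    Γ(𝒜.spec, 𝒜.π ⁻¹ᵁ T) ≃+* MvPolynomial (Fin 1) Γ(X, T) :=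
  (gammaEq T hT).trans ((Groth.Agent.Helper1.SY.secEquiv hA T hT).symm.trans
    (SymmetricAlgebra.equivMvPolynomial
      ((Module.Basis.singleton (Fin 1) Γ(X, T)).map (frameEquiv he))).toRingEquiv)

include hA in
theorem isDomain_sections (T : X.Opens) (hT : IsAffineOpen T) {e : Γ(L, T)}
    (he : IsFrame L T e) [IsDomain Γ(X, T)] : IsDomain Γ(𝒜.spec, 𝒜.π ⁻¹ᵁ T) :=
  (polyEquiv hA T hT he).toMulEquiv.isDomain _

include hA in
theorem isIntegrallyClosed_sections (T : X.Opens) (hT : IsAffineOpen T) {e : Γ(L, T)}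
    (he : IsFrame L T e) [IsDomain Γ(X, T)] [IsIntegrallyClosed Γ(X, T)] :
    IsIntegrallyClosed Γ(𝒜.spec, 𝒜.π ⁻¹ᵁ T) := by
  haveI := Groth.Agent.Helper5.SmNorm.isIntegrallyClosed_mvPolynomial Γ(X, T) 1
  exact IsIntegrallyClosed.of_equiv (polyEquiv hA T hT he).symm

end Groth.Agent.Helper1.LN
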