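import Mathlib
import Groth.Agent.Helper1.LN7
import Groth.Agent.Helper1.LN8

/-!
# Helper1: the line bundle of an invertible module: integrality and normality; the relative
spectrum of the direct image of its structure sheaf
-/

set_option autoImplicit false
set_option linter.style.haveILetI false
set_option linter.unusedSectionVars false

open CategoryTheory AlgebraicGeometry TopologicalSpace Opposite

universe u

namespace Groth.Agent.Helper1.LN

open Groth.Agent.Helper4.TwistExt RelSpec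

theorem isIntegral_of_isAffineOpen_of_isDomain {C : Scheme.{u}} (O : C.Opens)
    (hO : IsAffineOpen O) [IsDomain Γ(C, O)] : IsIntegral (O : Scheme.{u}) := by
  haveI : IsAffine (O : Scheme.{u}) := hO
  haveI : IsDomain Γ((O : Scheme.{u}), ⊤) :=
    (O.topIso.commRingCatIsoToRingEquiv.toMulEquiv).isDomain _
  haveI : Nonempty ↥(O : Scheme.{u}) := by
    obtain ⟨x, hx⟩ := nonempty_of_nontrivial O
    exact ⟨⟨x, hx⟩⟩
  exact isIntegral_of_isAffine_of_isDomain _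

variable {X : Scheme.{u}} {L : X.Modules} [L.IsQuasicoherent] {𝒜 : QCAlg X}
  {jL : L ⟶ 𝒜.toModule} (hA : IsSymAlg L 𝒜 jL) (hL : PicF.IsInvertible L)

include hL in
/-- framed affine neighbourhoods inside a given open -/
theorem exists_framed_affine (x : X) (N : X.Opens) (hxN : x ∈ N) :
    ∃ T : X.Opens, IsAffineOpen T ∧ x ∈ T ∧ T ≤ N ∧ ∃ e : Γ(L, T), IsFrame L T e := by
  obtain ⟨T, e, hxT, -, he, -⟩ := Groth.Agent.Helper4.AmpleFinite.exists_chart_forall L hL x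
  obtain ⟨T', hT', hxT', hle⟩ :=
    exists_isAffineOpen_mem_and_subset (X := X) (x := x) (U := T ⊓ N) ⟨hxT, hxN⟩
  exact ⟨T', hT', hxT', hle.trans inf_le_right, _, isFrame_res he (hle.trans inf_le_left)⟩

include hA hL in
/-- the line bundle over an integral scheme is integral -/
theorem isIntegral_spec_symAlg [IsIntegral X] : IsIntegral 𝒜.spec := by
  let ι := {T : X.Opens // IsAffineOpen T ∧ (T : Set X).Nonempty ∧ ∃ e : Γ(L, T), IsFrame L T e}
  have hdom : ∀ k : ι, IsDomain Γ(𝒜.spec, 𝒜.π ⁻¹ᵁ k.1) := fun k => by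
    obtain ⟨e, he⟩ := k.2.2.2
    haveI : Nonempty ↥((k.1 : X.Opens) : Scheme.{u}) := by
      obtain ⟨x, hx⟩ := k.2.2.1
      exact ⟨⟨x, hx⟩⟩
    haveI : IsDomain Γ(X, k.1) := inferInstance
    exact isDomain_sections hA k.1 k.2.1 he
  have hne : ∀ k : ι, ((𝒜.π ⁻¹ᵁ k.1 : 𝒜.spec.Opens) : Set 𝒜.spec).Nonempty := fun k => by
    haveI := hdom k
    exact nonempty_of_nontrivial _
  have hchart : ∀ (x : X) (N : X.Opens), x ∈ N → ∃ k : ι, x ∈ k.1 ∧ k.1 ≤ N := by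
    intro x N hxN
    obtain ⟨T, hT, hxT, hle, he⟩ := exists_framed_affine hL x N hxN
    exact ⟨⟨T, hT, ⟨x, hxT⟩, he⟩, hxT, hle⟩
  have hcov : ∀ v : 𝒜.spec, ∃ k : ι, v ∈ 𝒜.π ⁻¹ᵁ k.1 := by
    intro v
    obtain ⟨k, hk, -⟩ := hchart (𝒜.π v) ⊤ trivial
    exact ⟨k, hk⟩
  have hmeet : ∀ k l : ι, (((𝒜.π ⁻¹ᵁ k.1 : 𝒜.spec.Opens) : Set 𝒜.spec) ∩
      ((𝒜.π ⁻¹ᵁ l.1 : 𝒜.spec.Opens) : Set 𝒜.spec)).Nonempty := by
    intro k l
    obtain ⟨x, hxk, hxl⟩ :=
      nonempty_preirreducible_inter k.1.2 l.1.2 k.2.2.1 l.2.2.1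
    obtain ⟨m, -, hle⟩ := hchart x (k.1 ⊓ l.1) ⟨hxk, hxl⟩
    obtain ⟨c, hc⟩ := hne m
    exact ⟨c, (hle hc).1, (hle hc).2⟩
  haveI : Nonempty 𝒜.spec := by
    obtain ⟨x⟩ : Nonempty X := inferInstance
    obtain ⟨k, -, -⟩ := hchart x ⊤ trivial
    obtain ⟨c, -⟩ := hne k
    exact ⟨c⟩
  exact isIntegral_of_affine_cover (fun k : ι => 𝒜.π ⁻¹ᵁ k.1)
    (fun k => k.2.1.preimage 𝒜.π) hdom hcov hmeet

include hA hL in
/-- the line bundle over a locally integral normal scheme is covered by affine opens with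
normal coordinate rings -/
theorem exists_normal_affine_nhd
    (hloc : ∀ x : X, ∃ U : X.Opens, x ∈ U ∧ IsIntegral (U : Scheme.{u}))
    (hn : Pi1.IsNormalScheme X) (v : 𝒜.spec) :
    ∃ N : 𝒜.spec.Opens, v ∈ N ∧ IsAffineOpen N ∧ IsDomain Γ(𝒜.spec, N) ∧
      IsIntegrallyClosed Γ(𝒜.spec, N) := by
  obtain ⟨U, hxU, hU⟩ := hloc (𝒜.π v)
  haveI := hU
  obtain ⟨T, hT, hxT, hle, e, he⟩ := exists_framed_affine hL (𝒜.π v) U hxU
  have hTirr : IsIrreducible ((T : X.Opens) : Set X) := by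
    refine ⟨⟨_, hxT⟩, ?_⟩
    exact (isIrreducible_of_isIntegral_opens U).isPreirreducible.open_subset T.2 hle
  obtain ⟨h1, h2⟩ := normal_sections_of_isIrreducible hn T hTirr
  haveI := h1
  haveI := h2
  exact ⟨𝒜.π ⁻¹ᵁ T, hxT, hT.preimage 𝒜.π, isDomain_sections hA T hT he,
    isIntegrallyClosed_sections hA T hT he⟩

include hA hL in
theorem locally_integral_spec_symAlg
    (hloc : ∀ x : X, ∃ U : X.Opens, x ∈ U ∧ IsIntegral (U : Scheme.{u}))
    (hn : Pi1.IsNormalScheme X) (v : 𝒜.spec) :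
    ∃ N : 𝒜.spec.Opens, v ∈ N ∧ IsIntegral (N : Scheme.{u}) := by
  obtain ⟨N, hvN, hN, h1, -⟩ := exists_normal_affine_nhd hA hL hloc hn v
  haveI := h1
  exact ⟨N, hvN, isIntegral_of_isAffineOpen_of_isDomain N hN⟩

include hA hL in
theorem isNormal_spec_symAlg
    (hloc : ∀ x : X, ∃ U : X.Opens, x ∈ U ∧ IsIntegral (U : Scheme.{u}))
    (hn : Pi1.IsNormalScheme X) : Pi1.IsNormalScheme 𝒜.spec := by
  intro v
  obtain ⟨N, hvN, hN, h1, h2⟩ := exists_normal_affine_nhd hA hL hloc hn v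
  haveI := h1
  haveI := h2
  exact stalk_normal_of_affine N hN v hvN

end Groth.Agent.Helper1.LN
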