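import Mathlib
import Groth.Agent.Helper1.GD3
import Groth.Agent.Helper1.LN9
import Groth.Agent.Helper5.RadBir2

/-!
# The contraction factor is an isomorphism when the target is normal
-/

set_option autoImplicit false
set_option linter.style.haveILetI false
set_option linter.unusedSectionVars false

namespace Groth.Agent.Helper1.GD

open CategoryTheory Limits AlgebraicGeometry TopologicalSpace Opposite RelProj RelCone
  Groth.Agent.Helper1.GB Groth.Agent.Helper1.GC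
open Groth.Agent.Helper4

universe u

/-- the abstract statement -/
theorem isIso_factor {V X Y C C' : Scheme.{u}} (p : X ⟶ Y)
    (hp : Function.Surjective p.base) (j0 : X ⟶ V) (q : V ⟶ C) (q' : V ⟶ C') (g : C ⟶ Y)
    (π' : C' ⟶ Y) [IsSeparated π'] (ε : Y ⟶ C) (ε' : Y ⟶ C') (hε' : ε' ≫ π' = 𝟙 Y)
    (hjq : j0 ≫ q = p ≫ ε) (hjq' : j0 ≫ q' = p ≫ ε')
    (u : C' ⟶ C) (hug : u ≫ g = π') (hu : q' ≫ u = q) [UniversallyClosed q]
    (V0 : V.Opens)
    (hqo : IsOpenImmersion (V0.ι ≫ q))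
    (hqr : Set.range (V0.ι ≫ q).base = (Set.range ε.base)ᶜ)
    (hqo' : IsOpenImmersion (V0.ι ≫ q'))
    (hqr' : Set.range (V0.ι ≫ q').base = (Set.range ε'.base)ᶜ)
    [IsIntegral C'] (hC : Pi1.IsNormalScheme C) (hne : (V0 : Set V).Nonempty) : IsIso u := by
  obtain ⟨huc, hus, hui, -⟩ := contraction_factor p hp j0 q q' g π' ε ε' hε' hjq hjq' u hug hu V0
    hqo hqr hqo' hqr'
  have hemb : Topology.IsClosedEmbedding u.base :=
    Topology.IsClosedEmbedding.of_continuous_injective_isClosedMap u.continuous u.injective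
      u.isClosedMap
  haveI : IsAffineHom u := isAffineHom_of_isInducing u hemb.isInducing hemb.isClosed_range
  haveI : IsIntegralHom u :=
    IsIntegralHom.iff_universallyClosed_and_isAffineHom.mpr ⟨huc, inferInstance⟩
  haveI : IsReduced C := LN.isReduced_of_isNormalScheme hC
  haveI : IrreducibleSpace C := Function.Surjective.irreducibleSpace u.continuous hus
  haveI : IsIntegral C := isIntegral_of_irreducibleSpace_of_isReduced C
  have hgen : u.base (genericPoint C') = genericPoint C := by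
    apply ((genericPoint_spec C).eq _).symm
    have h := (genericPoint_spec C').image u.continuous
    rw [Set.image_univ, hus.range_eq, closure_univ] at h
    exact h
  obtain ⟨v, hv⟩ := hne
  have hηW : genericPoint C' ∈ (V0.ι ≫ q').opensRange :=
    ((genericPoint_spec C').mem_open_set_iff (V0.ι ≫ q').opensRange.isOpen).mpr
      ⟨_, trivial, ⟨⟨v, hv⟩, rfl⟩⟩
  obtain ⟨w, hw⟩ := hηW
  have hst : IsIso (u.stalkMap (genericPoint C')) := by
    rw [← hw]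
    have hoi : IsOpenImmersion ((V0.ι ≫ q') ≫ u) := by rw [Category.assoc, hu]; exact hqo
    have h1 := Scheme.Hom.stalkMap_comp (V0.ι ≫ q') u w
    have hi1 : IsIso (((V0.ι ≫ q') ≫ u).stalkMap w) := inferInstance
    haveI : IsIso ((V0.ι ≫ q').stalkMap w) := inferInstance
    haveI : IsIso (u.stalkMap ((V0.ι ≫ q') w) ≫ (V0.ι ≫ q').stalkMap w) := by
      rw [← h1]; exact hi1
    exact IsIso.of_isIso_comp_right _ ((V0.ι ≫ q').stalkMap w)
  exact Groth.Agent.Helper5.RadBir.isIso_of_integral_birational hC u hgen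
    (Groth.Agent.Helper5.RadBir.residueFieldMap_bijective_of_isIso_stalkMap u _ hst)

noncomputable section

variable {X Y : Scheme.{u}} (p : X ⟶ Y) [IsSeparated p] [QuasiCompact p]
  {L : X.Modules} [L.IsQuasicoherent] {𝒜 : QCGrAlg X} {jL : L ⟶ 𝒜.toModule}
  (hA : IsGrSymAlg L 𝒜 jL) (hL : PicF.IsInvertible L) (h0 : StrZeroBij 𝒜)
  {aug : 𝒜.toQCAlg ⟶ RelSpec.QCAlg.unit X} (haug : IsAugmentation 𝒜 aug)
  {j0 : X ⟶ 𝒜.toQCAlg.spec} (hj0 : IsVertex 𝒜 aug j0)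

include hA hL h0 haug hj0 in
/-- the vertex section of `Spec ((p π)_* O_V)` and the contraction onto it -/
theorem contraction_setup [IsProper p] (hθ : IsIso p.c) (hamp : RelAmple.IsRelAmple p L)
    (q' : 𝒜.toQCAlg.spec ⟶ (RelSpec.QCAlg.directImage (𝒜.toQCAlg.π ≫ p)).spec)
    (hq'π : q' ≫ (RelSpec.QCAlg.directImage (𝒜.toQCAlg.π ≫ p)).π = 𝒜.toQCAlg.π ≫ p)
    (hq' : AffAlg.algHom (RelSpec.QCAlg.directImage (𝒜.toQCAlg.π ≫ p)).π (𝒜.toQCAlg.π ≫ p) q' hq'π =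
      (RelSpec.QCAlg.directImage (𝒜.toQCAlg.π ≫ p)).gammaMap) :
    ∃ ε' : Y ⟶ (RelSpec.QCAlg.directImage (𝒜.toQCAlg.π ≫ p)).spec,
      ε' ≫ (RelSpec.QCAlg.directImage (𝒜.toQCAlg.π ≫ p)).π = 𝟙 Y ∧ j0 ≫ q' = p ≫ ε' ∧
      IsOpenImmersion ((pointedCone 𝒜).ι ≫ q') ∧
      Set.range ((pointedCone 𝒜).ι ≫ q').base = (Set.range ε'.base)ᶜ := by
  haveI := isIso_algHom_id p hθ
  obtain ⟨hoi, -, -⟩ := necessity_explicit p hA hL h0 haug hj0 hamp
  have hr := range_Cq p hA hL h0 haug hj0 hamp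
  let θ' := θ p (𝟙 Y) (𝒜.toQCAlg.π ≫ p) p j0 (Category.comp_id p) (w₂ p hj0)
  have hq'θ : q' ≫ θ'.hom = Cq p hj0 :=
    comp_θ_eq_inr p (𝟙 Y) (𝒜.toQCAlg.π ≫ p) p j0 (Category.comp_id p) (w₂ p hj0) q' hq'π hq'
  have hq'eq : q' = Cq p hj0 ≫ θ'.inv := by
    rw [← hq'θ, Category.assoc, Iso.hom_inv_id, Category.comp_id]
  have hε' : (Cε p hj0 ≫ θ'.inv) ≫ (RelSpec.QCAlg.directImage (𝒜.toQCAlg.π ≫ p)).π = 𝟙 Y := by
    rw [Category.assoc]
    have h1 : θ'.inv ≫ (RelSpec.QCAlg.directImage (𝒜.toQCAlg.π ≫ p)).π = (CA p hj0).π :=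
      θ_inv_π p (𝟙 Y) (𝒜.toQCAlg.π ≫ p) p j0 (Category.comp_id p) (w₂ p hj0)
    rw [h1]
    exact inl_π _ _ _ _ _ _ _
  have hjq' : j0 ≫ q' = p ≫ (Cε p hj0 ≫ θ'.inv) := by
    rw [hq'eq, ← Category.assoc, ← Category.assoc]
    congr 1
    exact (push_condition p (𝟙 Y) (𝒜.toQCAlg.π ≫ p) p j0 (Category.comp_id p) (w₂ p hj0)).symm
  have hqo' : IsOpenImmersion ((pointedCone 𝒜).ι ≫ q') := by
    rw [hq'eq, ← Category.assoc]
    infer_instance
  have hbij : Function.Bijective θ'.inv.base := by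
    refine Function.bijective_iff_has_inverse.mpr ⟨θ'.hom.base, ?_, ?_⟩
    · intro c
      exact congrArg (fun k : (CA p hj0).spec ⟶ (CA p hj0).spec => k.base c) θ'.inv_hom_id
    · intro c
      exact congrArg (fun k : (RelSpec.QCAlg.directImage (𝒜.toQCAlg.π ≫ p)).spec ⟶ _ => k.base c)
        θ'.hom_inv_id
  have hqr' : Set.range ((pointedCone 𝒜).ι ≫ q').base = (Set.range (Cε p hj0 ≫ θ'.inv).base)ᶜ := by
    have e1 : Set.range ((pointedCone 𝒜).ι ≫ q').base =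
        θ'.inv.base '' Set.range ((pointedCone 𝒜).ι ≫ Cq p hj0).base := by
      rw [hq'eq, ← Category.assoc]
      exact Set.range_comp θ'.inv.base ((pointedCone 𝒜).ι ≫ Cq p hj0).base
    have e2 : Set.range (Cε p hj0 ≫ θ'.inv).base = θ'.inv.base '' Set.range (Cε p hj0).base :=
      Set.range_comp θ'.inv.base (Cε p hj0).base
    rw [e1, e2, hr, Set.image_compl_eq hbij]
  exact ⟨Cε p hj0 ≫ θ'.inv, hε', hjq', hqo', hqr'⟩

include hA hL in
/-- the pointed cone of a line bundle over a nonempty scheme is nonempty -/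
theorem pointedCone_nonempty [Nonempty X] :
    ((pointedCone 𝒜 : 𝒜.toQCAlg.spec.Opens) : Set 𝒜.toQCAlg.spec).Nonempty := by
  obtain ⟨x⟩ : Nonempty X := inferInstance
  obtain ⟨T, e, hxT, -, hT, he, -⟩ := SN346.exists_frames L hL ⊤ x trivial
  obtain ⟨y₀, -⟩ := GA.exists_fromSpec_eq hT x hxT
  exact ⟨_, GA.ι_ηpt_mem_pointedCone hA hT (SN348.frameOf he T le_rfl) y₀⟩

include hA hL h0 haug hj0 in
/-- **the contraction factor is an isomorphism onto a normal target** -/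
theorem isIso_contraction_factor [IsProper p] [IsIntegral X] (hθ : IsIso p.c)
    (hamp : RelAmple.IsRelAmple p L)
    {C : Scheme.{u}} (g : C ⟶ Y) (ε : Y ⟶ C) (q : 𝒜.toQCAlg.spec ⟶ C)
    (hjq : j0 ≫ q = p ≫ ε)
    (q' : 𝒜.toQCAlg.spec ⟶ (RelSpec.QCAlg.directImage (𝒜.toQCAlg.π ≫ p)).spec)
    (hq'π : q' ≫ (RelSpec.QCAlg.directImage (𝒜.toQCAlg.π ≫ p)).π = 𝒜.toQCAlg.π ≫ p)
    (hq' : AffAlg.algHom (RelSpec.QCAlg.directImage (𝒜.toQCAlg.π ≫ p)).π (𝒜.toQCAlg.π ≫ p) q' hq'π =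
      (RelSpec.QCAlg.directImage (𝒜.toQCAlg.π ≫ p)).gammaMap)
    (hC : Pi1.IsNormalScheme C)
    [IsProper q] (V0 : 𝒜.toQCAlg.spec.Opens) (hV0 : V0 = pointedCone 𝒜)
    (hqo : IsOpenImmersion (V0.ι ≫ q)) (hqr : Set.range (V0.ι ≫ q).base = (Set.range ε.base)ᶜ)
    (u : (RelSpec.QCAlg.directImage (𝒜.toQCAlg.π ≫ p)).spec ⟶ C)
    (hug : u ≫ g = (RelSpec.QCAlg.directImage (𝒜.toQCAlg.π ≫ p)).π) (hu : q' ≫ u = q) :
    IsIso u := by
  subst hV0
  obtain ⟨ε', hε', hjq', hqo', hqr'⟩ :=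
    contraction_setup p hA hL h0 haug hj0 hθ hamp q' hq'π hq'
  haveI : IsIntegral 𝒜.toQCAlg.spec := LN.isIntegral_spec_symAlg hA.1 hL
  haveI : IsIntegral (RelSpec.QCAlg.directImage (𝒜.toQCAlg.π ≫ p)).spec :=
    LN.isIntegral_Cg (𝒜.toQCAlg.π ≫ p)
  exact isIso_factor p (surjective_of_isIso_c p hθ) j0 q q' g
    (RelSpec.QCAlg.directImage (𝒜.toQCAlg.π ≫ p)).π ε ε' hε' hjq hjq' u hug hu
    (pointedCone 𝒜) hqo hqr hqo' hqr' hC (pointedCone_nonempty hA hL)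

end

end Groth.Agent.Helper1.GD
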