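import Mathlib

/-!
# `O_V ≅ h_* O_U` may be checked on an affine cover of `V` (for qcqs `h`)
-/

set_option autoImplicit false
set_option linter.style.haveILetI false

namespace Groth.Agent.Helper1.GE

open CategoryTheory Limits AlgebraicGeometry TopologicalSpace Opposite

universe u

/-- a ring map between localizations covering a bijection is a bijection -/
theorem bijective_of_isLocalization {A B A' B' : Type*} [CommRing A] [CommRing B] [CommRing A']
    [CommRing B'] [Algebra A A'] [Algebra B B'] (s : A) [IsLocalization.Away s A']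
    (e : A →+* B) (he : Function.Bijective e) [IsLocalization.Away (e s) B']
    (f : A' →+* B') (hf : f.comp (algebraMap A A') = (algebraMap B B').comp e) :
    Function.Bijective f := by
  let E : A ≃+* B := RingEquiv.ofBijective e he
  have H : (Submonoid.powers s).map E.toMonoidHom = Submonoid.powers (e s) := by
    rw [Submonoid.map_powers]; rfl
  let F : A' ≃+* B' := IsLocalization.ringEquivOfRingEquiv A' B' E H
  have hfF : f = F.toRingHom := by
    apply IsLocalization.ringHom_ext (Submonoid.powers s)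
    ext x
    have h1 := IsLocalization.ringEquivOfRingEquiv_eq (S := A') (Q := B') H x
    have h2 := RingHom.congr_fun hf x
    simp only [RingHom.comp_apply] at h2 ⊢
    rw [h2]
    exact h1.symm
  rw [hfF]; exact F.bijective

variable {U V : Scheme.{u}} (h : U ⟶ V)

/-- bijectivity of `h^♯` passes from a qcqs open to its basic opens -/
theorem bijective_app_basicOpen (D : V.Opens)
    (hD : IsCompact (D : Set V)) (hD' : IsQuasiSeparated (D : Set V))
    (hE : IsCompact (h ⁻¹ᵁ D : Set U)) (hE' : IsQuasiSeparated (h ⁻¹ᵁ D : Set U))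
    (hb : Function.Bijective (h.app D).hom) (s : Γ(V, D)) :
    Function.Bijective (h.app (V.basicOpen s)).hom := by
  have e1 : h ⁻¹ᵁ V.basicOpen s = U.basicOpen ((h.app D).hom s) := Scheme.preimage_basicOpen h s
  haveI := isLocalization_basicOpen_of_qcqs hD hD' s
  haveI := isLocalization_basicOpen_of_qcqs hE hE' ((h.app D).hom s)
  have key := bijective_of_isLocalization (A' := Γ(V, V.basicOpen s))
    (B' := Γ(U, U.basicOpen ((h.app D).hom s))) s (h.app D).hom hb
    (h.appLE (V.basicOpen s) (U.basicOpen ((h.app D).hom s)) e1.ge).hom (by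
      have hc : V.presheaf.map (homOfLE (V.basicOpen_le s)).op ≫
          h.appLE (V.basicOpen s) (U.basicOpen ((h.app D).hom s)) e1.ge =
          h.app D ≫ U.presheaf.map (homOfLE (U.basicOpen_le ((h.app D).hom s))).op := by
        rw [Scheme.Hom.map_appLE]
        rfl
      exact congrArg CommRingCat.Hom.hom hc)
  have hfac : h.app (V.basicOpen s) =
      h.appLE (V.basicOpen s) (U.basicOpen ((h.app D).hom s)) e1.ge ≫
        U.presheaf.map (eqToHom e1).op := by
    rw [Scheme.Hom.appLE_map, Scheme.Hom.app_eq_appLE]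
  rw [hfac]
  have hiso : Function.Bijective (U.presheaf.map (eqToHom e1).op).hom :=
    ConcreteCategory.bijective_of_isIso (U.presheaf.map (eqToHom e1).op)
  exact hiso.comp key

/-- **`O_V ≅ h_* O_U` may be checked on an affine cover** -/
theorem isIso_c_of_affine_cover [QuasiCompact h] [QuasiSeparated h]
    (𝒰 : Set V.Opens) (haff : ∀ D ∈ 𝒰, IsAffineOpen D) (hcov : ∀ x : V, ∃ D ∈ 𝒰, x ∈ D)
    (hb : ∀ D ∈ 𝒰, Function.Bijective (h.app D).hom) : IsIso h.c := by
  let B : (Σ D : 𝒰, Γ(V, D.1)) → V.Opens := fun i => V.basicOpen i.2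
  have hbasis : Opens.IsBasis (Set.range B) := by
    rw [Opens.isBasis_iff_nbhd]
    intro W x hx
    obtain ⟨D, hD, hxD⟩ := hcov x
    obtain ⟨s, hsle, hxs⟩ := (haff D hD).exists_basicOpen_le (V := W) ⟨x, hx⟩ hxD
    exact ⟨V.basicOpen s, ⟨⟨⟨D, hD⟩, s⟩, rfl⟩, hxs, hsle⟩
  let ℱ : TopCat.Sheaf CommRingCat.{u} V := V.sheaf
  let 𝒢 : TopCat.Sheaf CommRingCat.{u} V :=
    ⟨h.base _* U.presheaf, TopCat.Sheaf.pushforward_sheaf_of_sheaf _ U.sheaf.property⟩
  let α : ℱ ⟶ 𝒢 := ⟨h.c⟩
  have hα : IsIso α := by
    apply TopCat.Sheaf.isIso_iff_isIso_basis (B := B) hbasis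
    rintro ⟨⟨D, hD⟩, s⟩
    change IsIso (h.app (V.basicOpen s))
    rw [ConcreteCategory.isIso_iff_bijective]
    exact bijective_app_basicOpen h D (haff D hD).isCompact (haff D hD).isQuasiSeparated
      (h.isCompact_preimage (haff D hD).isCompact)
      (h.isQuasiSeparated_preimage (haff D hD).isQuasiSeparated) (hb D hD) s
  exact Functor.map_isIso (TopCat.Sheaf.forget CommRingCat.{u} V) α

end Groth.Agent.Helper1.GE
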