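import Mathlib
import Groth.Agent.Helper1.GD4
import Groth.Agent.Helper1.GE1
import Groth.Agent.S3567

/-!
# Existence and uniqueness of the contraction factor `Spec ((p π)_* O_V) ⟶ C`
-/

set_option autoImplicit false
set_option linter.style.haveILetI false
set_option linter.unusedSectionVars false

namespace Groth.Agent.Helper1.GE

open CategoryTheory Limits AlgebraicGeometry TopologicalSpace Opposite RelProj RelCone
  Groth.Agent.Helper1.GB Groth.Agent.Helper1.GC Groth.Agent.Helper1.GD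
open Groth.Agent.Helper4

universe u

/-- a morphism to a relative spectrum inducing an isomorphism of algebras has `O ≅ q'_* O` -/
theorem isIso_c_of_isIso_algHom {S Z : Scheme.{u}} (A : RelSpec.QCAlg S) (f : Z ⟶ S)
    (q' : Z ⟶ A.spec) (w : q' ≫ A.π = f) [QuasiCompact q'] [QuasiSeparated q']
    (hiso : IsIso (AffAlg.algHom A.π f q' w)) : IsIso q'.c := by
  apply isIso_c_of_affine_cover q' {D | ∃ U : S.Opens, IsAffineOpen U ∧ D = A.π ⁻¹ᵁ U}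
  · rintro D ⟨U, hU, rfl⟩
    exact hU.preimage A.π
  · intro x
    obtain ⟨U, hU, hxU, -⟩ := exists_isAffineOpen_mem_and_subset (X := S) (x := A.π x)
      (U := ⊤) trivial
    exact ⟨A.π ⁻¹ᵁ U, ⟨U, hU, rfl⟩, hxU⟩
  · rintro D ⟨U, hU, rfl⟩
    have e : q' ⁻¹ᵁ (A.π ⁻¹ᵁ U) = f ⁻¹ᵁ U := by subst w; rfl
    haveI h1 : IsIso (q'.appLE (A.π ⁻¹ᵁ U) (f ⁻¹ᵁ U) e.ge) := by
      rw [← DP.algHom_app A.π f q' w U]
      infer_instance
    have hfac : q'.app (A.π ⁻¹ᵁ U) =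
        q'.appLE (A.π ⁻¹ᵁ U) (f ⁻¹ᵁ U) e.ge ≫ Z.presheaf.map (eqToHom e).op := by
      rw [Scheme.Hom.appLE_map, Scheme.Hom.app_eq_appLE]
    rw [hfac]
    exact ConcreteCategory.bijective_of_isIso _

noncomputable section

variable {X Y : Scheme.{u}} (p : X ⟶ Y) [IsSeparated p] [QuasiCompact p]
  {L : X.Modules} [L.IsQuasicoherent] {𝒜 : QCGrAlg X} {jL : L ⟶ 𝒜.toModule}
  (hA : IsGrSymAlg L 𝒜 jL) (hL : PicF.IsInvertible L) (h0 : StrZeroBij 𝒜)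
  {aug : 𝒜.toQCAlg ⟶ RelSpec.QCAlg.unit X} (haug : IsAugmentation 𝒜 aug)
  {j0 : X ⟶ 𝒜.toQCAlg.spec} (hj0 : IsVertex 𝒜 aug j0)

include hA hL h0 haug hj0 in
/-- the canonical morphism `V ⟶ Spec ((p π)_* O_V)` is proper -/
theorem isProper_q' [IsProper p] (hθ : IsIso p.c) (hamp : RelAmple.IsRelAmple p L)
    (q' : 𝒜.toQCAlg.spec ⟶ (RelSpec.QCAlg.directImage (𝒜.toQCAlg.π ≫ p)).spec)
    (hq'π : q' ≫ (RelSpec.QCAlg.directImage (𝒜.toQCAlg.π ≫ p)).π = 𝒜.toQCAlg.π ≫ p)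
    (hq' : AffAlg.algHom (RelSpec.QCAlg.directImage (𝒜.toQCAlg.π ≫ p)).π (𝒜.toQCAlg.π ≫ p) q' hq'π =
      (RelSpec.QCAlg.directImage (𝒜.toQCAlg.π ≫ p)).gammaMap) : IsProper q' := by
  haveI := isIso_algHom_id p hθ
  let θ' := θ p (𝟙 Y) (𝒜.toQCAlg.π ≫ p) p j0 (Category.comp_id p) (w₂ p hj0)
  have hq'θ : q' ≫ θ'.hom = Cq p hj0 :=
    comp_θ_eq_inr p (𝟙 Y) (𝒜.toQCAlg.π ≫ p) p j0 (Category.comp_id p) (w₂ p hj0) q' hq'π hq'
  have hq'eq : q' = Cq p hj0 ≫ θ'.inv := by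
    rw [← hq'θ, Category.assoc, Iso.hom_inv_id, Category.comp_id]
  haveI := isProper_Cq p hA hL h0 haug hj0 hamp
  rw [hq'eq]
  infer_instance

include hA hL h0 haug hj0 in
/-- **existence and uniqueness of the contraction factor** -/
theorem contraction_existsUnique [IsProper p] (hθ : IsIso p.c) (hamp : RelAmple.IsRelAmple p L)
    {C : Scheme.{u}} (g : C ⟶ Y) (ε : Y ⟶ C) (q : 𝒜.toQCAlg.spec ⟶ C)
    (hqg : q ≫ g = 𝒜.toQCAlg.π ≫ p) (hjq : j0 ≫ q = p ≫ ε)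
    (q' : 𝒜.toQCAlg.spec ⟶ (RelSpec.QCAlg.directImage (𝒜.toQCAlg.π ≫ p)).spec)
    (hq'π : q' ≫ (RelSpec.QCAlg.directImage (𝒜.toQCAlg.π ≫ p)).π = 𝒜.toQCAlg.π ≫ p)
    (hq' : AffAlg.algHom (RelSpec.QCAlg.directImage (𝒜.toQCAlg.π ≫ p)).π (𝒜.toQCAlg.π ≫ p) q' hq'π =
      (RelSpec.QCAlg.directImage (𝒜.toQCAlg.π ≫ p)).gammaMap) :
    ∃! u : (RelSpec.QCAlg.directImage (𝒜.toQCAlg.π ≫ p)).spec ⟶ C,
      u ≫ g = (RelSpec.QCAlg.directImage (𝒜.toQCAlg.π ≫ p)).π ∧ q' ≫ u = q := by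
  obtain ⟨ε', hε', hjq', hoi, hrange⟩ :=
    contraction_setup p hA hL h0 haug hj0 hθ hamp q' hq'π hq'
  haveI := isProper_q' p hA hL h0 haug hj0 hθ hamp q' hq'π hq'
  have hpc : ((pointedCone 𝒜 : 𝒜.toQCAlg.spec.Opens) : Set 𝒜.toQCAlg.spec) =
      (Set.range j0)ᶜ := Groth.Agent.Helper1.AC.pointedCone_eq_compl h0 aug haug j0 hj0
  have hps : Function.Surjective p := surjective_of_isIso_c p hθ
  have hq'j : ∀ x : X, q' (j0 x) = ε' (p x) := fun x =>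
    congrArg (fun k : X ⟶ _ => k x) hjq'
  have hqj : ∀ x : X, q (j0 x) = ε (p x) := fun x =>
    congrArg (fun k : X ⟶ C => k x) hjq
  have hε'inj : Function.Injective ε' := by
    intro y₁ y₂ h12
    have := congrArg (RelSpec.QCAlg.directImage (𝒜.toQCAlg.π ≫ p)).π h12
    have h1 : ∀ y : Y, (RelSpec.QCAlg.directImage (𝒜.toQCAlg.π ≫ p)).π (ε' y) = y := fun y =>
      congrArg (fun k : Y ⟶ Y => k y) hε'
    rwa [h1, h1] at this
  have hcone : ∀ v : 𝒜.toQCAlg.spec, v ∈ pointedCone 𝒜 → q' v ∉ Set.range ε' := by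
    intro v hv
    have hin : q' v ∈ Set.range ((pointedCone 𝒜).ι ≫ q') := ⟨⟨v, hv⟩, rfl⟩
    rw [hrange] at hin
    exact hin
  have hvert : ∀ v : 𝒜.toQCAlg.spec, v ∉ pointedCone 𝒜 → ∃ x : X, j0 x = v := by
    intro v hv
    have : v ∉ ((pointedCone 𝒜 : 𝒜.toQCAlg.spec.Opens) : Set 𝒜.toQCAlg.spec) := hv
    rw [hpc, Set.notMem_compl_iff] at this
    exact this
  have hsurj : Function.Surjective q' := by
    intro c
    by_cases hc : c ∈ Set.range ε'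
    · obtain ⟨y, rfl⟩ := hc
      obtain ⟨x, rfl⟩ := hps y
      exact ⟨j0 x, hq'j x⟩
    · have hc' : c ∈ Set.range ((pointedCone 𝒜).ι ≫ q') := by rw [hrange]; exact hc
      obtain ⟨v, rfl⟩ := hc'
      exact ⟨(pointedCone 𝒜).ι v, rfl⟩
  have hinj : Function.Injective ((pointedCone 𝒜).ι ≫ q') :=
    ((pointedCone 𝒜).ι ≫ q').isOpenEmbedding.injective
  have hconst : ∀ v₁ v₂ : 𝒜.toQCAlg.spec, q' v₁ = q' v₂ → q v₁ = q v₂ := by
    intro v₁ v₂ h12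
    by_cases h1 : v₁ ∈ pointedCone 𝒜
    · have h2 : v₂ ∈ pointedCone 𝒜 := by
        by_contra h2
        obtain ⟨x, rfl⟩ := hvert v₂ h2
        apply hcone v₁ h1
        rw [h12, hq'j]
        exact ⟨p x, rfl⟩
      have h3 := hinj (a₁ := ⟨v₁, h1⟩) (a₂ := ⟨v₂, h2⟩) h12
      have h4 : v₁ = v₂ := congrArg Subtype.val h3
      rw [h4]
    · obtain ⟨x₁, rfl⟩ := hvert v₁ h1
      have h2 : v₂ ∉ pointedCone 𝒜 := by
        intro h2
        apply hcone v₂ h2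
        rw [← h12, hq'j]
        exact ⟨p x₁, rfl⟩
      obtain ⟨x₂, rfl⟩ := hvert v₂ h2
      rw [hq'j, hq'j] at h12
      rw [hqj, hqj, hε'inj h12]
  have hquot : Topology.IsQuotientMap q' :=
    IsClosedMap.isQuotientMap q'.isClosedMap q'.continuous hsurj
  haveI : Surjective q' := ⟨hsurj⟩
  haveI : IsIso q'.c := by
    apply isIso_c_of_isIso_algHom (RelSpec.QCAlg.directImage (𝒜.toQCAlg.π ≫ p))
      (𝒜.toQCAlg.π ≫ p) q' hq'π
    rw [hq']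
    exact RelSpecIso.isIso_gammaMap _
  obtain ⟨huniq, hex⟩ := Groth.Agent.S3567.result q' hquot C
  obtain ⟨u, hu⟩ := hex q hconst
  refine ⟨u, ⟨(Groth.Agent.S3567.result q' hquot Y).1 _ _ ?_, hu⟩,
    fun u' hu' => huniq _ _ (hu'.2.trans hu.symm)⟩
  rw [← Category.assoc, hu, hqg, hq'π]

end

end Groth.Agent.Helper1.GE
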