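import Mathlib

/-!
# `(R_t)_0 = A₀[z/t]` for `R = A₀[t, z]` graded with `t, z` of degree one
-/

set_option autoImplicit false
set_option linter.style.haveILetI false

namespace Groth.Agent.Helper1.GF

open HomogeneousLocalization Polynomial

universe u

noncomputable section

variable {A₀ R σ : Type u} [CommRing A₀] [CommRing R] [SetLike σ R] [AddSubgroupClass σ R]
  {ℬ : ℕ → σ} [GradedRing ℬ]
  (s₀ : A₀ →+* ℬ 0) {t z : R} (ht : t ∈ ℬ 1) (hz : z ∈ ℬ 1)

/-- the coordinate `z / t` -/
def zeta : Away ℬ t := Away.mk ℬ ht 1 z (by rw [smul_eq_mul, mul_one]; exact hz)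

/-- the comparison map `A₀[W] → (R_t)_0`, `W ↦ z/t` -/
def toAway : A₀[X] →+* Away ℬ t :=
  eval₂RingHom ((fromZeroRingHom ℬ (Submonoid.powers t)).comp s₀) (zeta ht hz)

theorem toAway_C (a : A₀) :
    toAway s₀ ht hz (C a) = fromZeroRingHom ℬ (Submonoid.powers t) (s₀ a) := by
  simp [toAway]

theorem toAway_X : toAway s₀ ht hz X = zeta ht hz := by
  simp [toAway]

local notation "ℓ" => algebraMap R (Localization (Submonoid.powers t))

theorem val_zeta_mul : (zeta ht hz).val * ℓ t = ℓ z := by
  have h : (zeta ht hz).val = Localization.mk z ⟨t ^ 1, by use 1⟩ := rfl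
  rw [h, Localization.mk_eq_mk']
  have := IsLocalization.mk'_spec (Localization (Submonoid.powers t)) z
    (⟨t ^ 1, by use 1⟩ : Submonoid.powers t)
  simpa using this

theorem val_fromZero (a : A₀) :
    (fromZeroRingHom ℬ (Submonoid.powers t) (s₀ a)).val = ℓ (s₀ a : R) := by
  simp only [fromZeroRingHom, RingHom.coe_mk, MonoidHom.coe_mk, OneHom.coe_mk]
  exact Localization.mk_one_eq_algebraMap _

/-- the value of `toAway` on a polynomial of degree at most `n`, cleared of denominators -/
theorem val_toAway_mul (n : ℕ) (a : ℕ → A₀) :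
    (toAway s₀ ht hz (∑ j ∈ Finset.range (n + 1), C (a j) * X ^ j)).val * ℓ t ^ n =
      ℓ (∑ j ∈ Finset.range (n + 1), (s₀ (a j) : R) * t ^ (n - j) * z ^ j) := by
  rw [map_sum, ← HomogeneousLocalization.algebraMap_apply, map_sum, Finset.sum_mul, map_sum]
  apply Finset.sum_congr rfl
  intro j hj
  rw [Finset.mem_range] at hj
  rw [HomogeneousLocalization.algebraMap_apply, map_mul, map_pow, toAway_C, toAway_X, val_mul, val_pow, val_fromZero]
  have hn : n = (n - j) + j := by omega
  conv_lhs => rw [hn, pow_add]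
  rw [map_mul, map_mul, map_pow, map_pow, ← val_zeta_mul ht hz, mul_pow]
  ring

include s₀ ht hz in
theorem toAway_surjective
    (Hex : ∀ (n : ℕ) (x : R), x ∈ ℬ n → ∃ a : ℕ → A₀,
      x = ∑ j ∈ Finset.range (n + 1), (s₀ (a j) : R) * t ^ (n - j) * z ^ j) :
    Function.Surjective (toAway s₀ ht hz) := by
  intro q
  obtain ⟨n, x, hx, rfl⟩ := Away.mk_surjective ℬ ht q
  have hx' : x ∈ ℬ n := by rw [smul_eq_mul, mul_one] at hx; exact hx
  obtain ⟨a, ha⟩ := Hex n x hx'
  refine ⟨∑ j ∈ Finset.range (n + 1), C (a j) * X ^ j, ?_⟩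
  apply val_injective
  rw [Away.val_mk, Localization.mk_eq_mk', IsLocalization.eq_mk'_iff_mul_eq]
  have := val_toAway_mul s₀ ht hz n a
  rw [← ha] at this
  rw [← this, map_pow]

include s₀ ht hz in
theorem toAway_injective
    (Huniq : ∀ (n : ℕ) (a : ℕ → A₀),
      ∑ j ∈ Finset.range (n + 1), (s₀ (a j) : R) * t ^ (n - j) * z ^ j = 0 → ∀ j ≤ n, a j = 0) :
    Function.Injective (toAway s₀ ht hz) := by
  rw [injective_iff_map_eq_zero]
  intro P hP
  set n := P.natDegree with hn
  have hPs : P = ∑ j ∈ Finset.range (n + 1), C (P.coeff j) * X ^ j :=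
    P.as_sum_range_C_mul_X_pow
  have h1 := val_toAway_mul s₀ ht hz n P.coeff
  rw [← hPs, hP, val_zero, zero_mul] at h1
  obtain ⟨⟨_, N, rfl⟩, hN⟩ := (IsLocalization.map_eq_zero_iff (Submonoid.powers t)
    (Localization (Submonoid.powers t)) _).mp h1.symm
  -- reindex to degree `N + n`
  let a' : ℕ → A₀ := fun j => if j ≤ n then P.coeff j else 0
  have hsum : ∑ j ∈ Finset.range (N + n + 1), (s₀ (a' j) : R) * t ^ (N + n - j) * z ^ j = 0 := by
    rw [← Finset.sum_subset (s₁ := Finset.range (n + 1))]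
    · rw [← hN, Finset.mul_sum]
      apply Finset.sum_congr rfl
      intro j hj
      rw [Finset.mem_range] at hj
      have hj' : j ≤ n := by omega
      have he : N + n - j = N + (n - j) := by omega
      simp only [a', if_pos hj', he, pow_add]
      ring
    · intro j hj
      rw [Finset.mem_range] at hj ⊢
      omega
    · intro j _ hj
      rw [Finset.mem_range, not_lt] at hj
      have hj' : ¬ j ≤ n := by omega
      simp only [a', if_neg hj', map_zero, ZeroMemClass.coe_zero, zero_mul]
  have h2 := Huniq (N + n) a' hsum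
  rw [hPs]
  apply Finset.sum_eq_zero
  intro j hj
  rw [Finset.mem_range] at hj
  have hj' : j ≤ n := by omega
  have h3 := h2 j (by omega)
  simp only [a', if_pos hj'] at h3
  rw [h3, map_zero, zero_mul]

end

end Groth.Agent.Helper1.GF
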