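import Mathlib
import Groth.Agent.Helper1.GF1
import Groth.Agent.Helper1.PC7
import Groth.Agent.Helper1.PL5

/-!
# The chart at infinity of the projective closure of a line bundle: `𝒮h(U)_(ι t) = O(U)[z/t]`
-/

set_option autoImplicit false
set_option linter.style.haveILetI false

namespace Groth.Agent.Helper1.GF

open CategoryTheory Limits AlgebraicGeometry TopologicalSpace Opposite RelProj RelCone
  HomogeneousLocalization Groth.Agent.Helper1.PC Groth.Agent.Helper1.PL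
open scoped HomogeneousIdeal

universe u

noncomputable section

variable {Y : Scheme.{u}} {L : Y.Modules} [L.IsQuasicoherent] {𝒮 𝒮h : QCGrAlg Y}
  {j : L ⟶ 𝒮.toModule} (hS : IsGrSymAlg L 𝒮 j)
  {ι : 𝒮.toQCAlg ⟶ 𝒮h.toQCAlg} {z : 𝒮h.presheaf.obj (op ⊤)} (hz : IsPolyOver 𝒮 𝒮h ι z)
  {U : Y.Opens} (hU : IsAffineOpen U) (F : Frame L U)

/-- the generator at infinity, `ι (j e)` -/
def tInf (j : L ⟶ 𝒮.toModule) : 𝒮h.presheaf.obj (op U) := (gradedHomAt ι hz.graded U hU) (F.t j)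

include hS in
theorem tInf_mem : tInf hz hU F j ∈ 𝒮h.deg U hU 1 :=
  (gradedHomAt ι hz.graded U hU).2 (F.t_mem hS hU)

omit [L.IsQuasicoherent] in
theorem ι_term (a : Γ(Y, U)) (m : ℕ) :
    (ι.hom.app (op U)).hom ((𝒮.str.app (op U)).hom a * (F.t j) ^ m) =
      (𝒮h.str.app (op U)).hom a * (tInf hz hU F j) ^ m := by
  rw [map_mul, map_pow, ι_str]
  rfl

include hS in
theorem hex (n : ℕ) (x : 𝒮h.presheaf.obj (op U)) (hx : x ∈ 𝒮h.deg U hU n) :
    ∃ a : ℕ → Γ(Y, U), x = ∑ k ∈ Finset.range (n + 1),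
      ((𝒮h.strZero U hU).hom (a k) : 𝒮h.presheaf.obj (op U)) * (tInf hz hU F j) ^ (n - k) *
        (restrictTop 𝒮h z U) ^ k := by
  obtain ⟨P, hP⟩ := (hz.bij U hU).2 x
  have hP' : Polynomial.eval₂ ((gradedHomAt ι hz.graded U hU : 𝒮.deg U hU →+*ᵍ 𝒮h.deg U hU) :
      𝒮.presheaf.obj (op U) →+* 𝒮h.presheaf.obj (op U)) (restrictTop 𝒮h z U) P = x := hP
  have hsum := eq_sum_of_mem (gradedHomAt ι hz.graded U hU) (restrictTop 𝒮h z U)
    (hz.deg_z U hU) P (by rw [hP']; exact hx)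
  rw [hP'] at hsum
  have hc : ∀ k, ∃ a : Γ(Y, U), GradedRing.proj (𝒮.deg U hU) (n - k) (P.coeff k) =
      (𝒮.str.app (op U)).hom a * (F.t j) ^ (n - k) :=
    fun k => F.exists_eq hS hU (SetLike.coe_mem _)
  choose a ha using hc
  refine ⟨a, ?_⟩
  rw [hsum]
  apply Finset.sum_congr rfl
  intro k _
  rw [ha k]
  have := ι_term (j := j) hz hU F (a k) (n - k)
  exact congrArg (· * (restrictTop 𝒮h z U) ^ k) this

include hS in
theorem huniq (n : ℕ) (a : ℕ → Γ(Y, U))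
    (h : ∑ k ∈ Finset.range (n + 1),
      ((𝒮h.strZero U hU).hom (a k) : 𝒮h.presheaf.obj (op U)) * (tInf hz hU F j) ^ (n - k) *
        (restrictTop 𝒮h z U) ^ k = 0) : ∀ k ≤ n, a k = 0 := by
  let Q : Polynomial (𝒮.presheaf.obj (op U)) := ∑ k ∈ Finset.range (n + 1),
    Polynomial.C ((𝒮.str.app (op U)).hom (a k) * (F.t j) ^ (n - k)) * Polynomial.X ^ k
  have hQ : Polynomial.eval₂RingHom (ι.hom.app (op U)).hom (restrictTop 𝒮h z U) Q = 0 := by
    rw [← h, map_sum]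
    apply Finset.sum_congr rfl
    intro k _
    rw [map_mul, map_pow, Polynomial.coe_eval₂RingHom, Polynomial.eval₂_C, Polynomial.eval₂_X,
      ι_term (j := j) hz hU F]
    rfl
  have hQ0 : Q = 0 := (hz.bij U hU).1 (hQ.trans (map_zero _).symm)
  intro k hk
  have hcoef : Q.coeff k = (𝒮.str.app (op U)).hom (a k) * (F.t j) ^ (n - k) := by
    simp only [Q, Polynomial.finsetSum_coeff, Polynomial.coeff_C_mul_X_pow]
    rw [Finset.sum_eq_single k]
    · rw [if_pos rfl]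
    · intro b _ hb
      rw [if_neg (Ne.symm hb)]
    · intro hk'
      exact absurd (Finset.mem_range.mpr (by omega)) hk'
  rw [hQ0, Polynomial.coeff_zero] at hcoef
  apply F.eq_of_eq hS hU (n := n - k)
  rw [← hcoef, map_zero, zero_mul]

include hS in
/-- **the chart at infinity is an affine line**: `O(U)[W] ≅ 𝒮h(U)_(ι t)`, `W ↦ z / ι t` -/
theorem toAway_bijective :
    Function.Bijective (toAway (𝒮h.strZero U hU).hom (tInf_mem hS hz hU F) (hz.deg_z U hU)) :=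
  ⟨toAway_injective _ _ _ (huniq hS hz hU F), toAway_surjective _ _ _ (hex hS hz hU F)⟩

end

end Groth.Agent.Helper1.GF
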