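import Mathlib
import Groth.Agent.Helper1.GF2
import Groth.Agent.Helper1.CN3
import Groth.Agent.Helper4.RelSpecIso

/-!
# Charts at infinity of the pointed projective cone of a line bundle
-/

set_option autoImplicit false
set_option linter.style.haveILetI false

namespace Groth.Agent.Helper1.GF

open CategoryTheory Limits AlgebraicGeometry TopologicalSpace Opposite RelProj RelCone
  HomogeneousLocalization Groth.Agent.Helper1.PC Groth.Agent.Helper1.PL Groth.Agent.Helper1.RP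
  Groth.Agent.Helper1.CN
open scoped HomogeneousIdeal

universe u

noncomputable section

variable {Y PC : Scheme.{u}} {𝒮 𝒮h : QCGrAlg Y}
  {ι : 𝒮.toQCAlg ⟶ 𝒮h.toQCAlg} {z : 𝒮h.presheaf.obj (op ⊤)} (hz : IsPolyOver 𝒮 𝒮h ι z)
  {pC : PC ⟶ Y}
  {chartC : ∀ (U : Y.Opens) (hU : IsAffineOpen U),
    (((pC ⁻¹ᵁ U : PC.Opens) : Scheme.{u}) ≅ Proj (𝒮h.deg U hU))}

/-- `t`, of degree one, cuts out the part at infinity over `U` -/
structure IsInfGen (U : Y.Opens) (hU : IsAffineOpen U) (t : 𝒮h.presheaf.obj (op U)) : Prop where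
  mem : t ∈ 𝒮h.deg U hU 1
  dom : domOpen (gradedHomAt ι hz.graded U hU) = Proj.basicOpen (𝒮h.deg U hU) t

variable (pC chartC) in
/-- the pointed projective cone -/
abbrev Ehat : PC.Opens := pointedProjCone 𝒮 hz pC chartC

variable (pC chartC) in
/-- its structure morphism -/
abbrev pE : ((Ehat hz pC chartC : PC.Opens) : Scheme.{u}) ⟶ Y := (Ehat hz pC chartC).ι ≫ pC

variable (hPC : IsRelProj 𝒮h pC chartC)

include hPC in
theorem range_chartInf_subset {U : Y.Opens} {hU : IsAffineOpen U} {t : 𝒮h.presheaf.obj (op U)}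
    (ht : IsInfGen hz U hU t) :
    Set.range (Proj.awayι (𝒮h.deg U hU) t ht.mem one_pos ≫ emb pC chartC U hU) ⊆
      Set.range (Ehat hz pC chartC).ι := by
  rw [Scheme.Opens.range_ι]
  rintro _ ⟨y, rfl⟩
  rw [Scheme.Hom.comp_apply]
  have h1 : (Proj.awayι (𝒮h.deg U hU) t ht.mem one_pos) y ∈
      (Proj.awayι (𝒮h.deg U hU) t ht.mem one_pos).opensRange := ⟨y, rfl⟩
  rw [Proj.opensRange_awayι, ← ht.dom] at h1
  have h2 : (emb pC chartC U hU) ((Proj.awayι (𝒮h.deg U hU) t ht.mem one_pos) y) ∈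
      (emb pC chartC U hU) ''ᵁ domOpen (gradedHomAt ι hz.graded U hU) := ⟨_, h1, rfl⟩
  rw [← pointedProjCone_inf_preimage hz hPC U hU] at h2
  exact h2.1

/-- the chart at infinity -/
def chartInf {U : Y.Opens} {hU : IsAffineOpen U} {t : 𝒮h.presheaf.obj (op U)}
    (ht : IsInfGen hz U hU t) :
    Spec (CommRingCat.of (Away (𝒮h.deg U hU) t)) ⟶ ((Ehat hz pC chartC : PC.Opens) : Scheme.{u}) :=
  IsOpenImmersion.lift (Ehat hz pC chartC).ι
    (Proj.awayι (𝒮h.deg U hU) t ht.mem one_pos ≫ emb pC chartC U hU)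
    (range_chartInf_subset hz hPC ht)

@[reassoc]
theorem chartInf_ι {U : Y.Opens} {hU : IsAffineOpen U} {t : 𝒮h.presheaf.obj (op U)}
    (ht : IsInfGen hz U hU t) :
    chartInf hz hPC ht ≫ (Ehat hz pC chartC).ι =
      Proj.awayι (𝒮h.deg U hU) t ht.mem one_pos ≫ emb pC chartC U hU :=
  IsOpenImmersion.lift_fac _ _ _

instance isOpenImmersion_chartInf {U : Y.Opens} {hU : IsAffineOpen U}
    {t : 𝒮h.presheaf.obj (op U)} (ht : IsInfGen hz U hU t) :
    IsOpenImmersion (chartInf hz hPC ht) := by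
  have : IsOpenImmersion (chartInf hz hPC ht ≫ (Ehat hz pC chartC).ι) := by
    rw [chartInf_ι]; infer_instance
  exact IsOpenImmersion.of_comp _ (Ehat hz pC chartC).ι

theorem opensRange_chartInf {U : Y.Opens} {hU : IsAffineOpen U} {t : 𝒮h.presheaf.obj (op U)}
    (ht : IsInfGen hz U hU t) :
    (chartInf hz hPC ht).opensRange = pE hz pC chartC ⁻¹ᵁ U := by
  ext x
  constructor
  · rintro ⟨y, rfl⟩
    have h1 := congrArg (fun k : _ ⟶ PC => k y) (chartInf_ι hz hPC ht)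
    change pC ((Ehat hz pC chartC).ι ((chartInf hz hPC ht) y)) ∈ U
    have h1' : (Ehat hz pC chartC).ι ((chartInf hz hPC ht) y) =
        (emb pC chartC U hU) ((Proj.awayι (𝒮h.deg U hU) t ht.mem one_pos) y) := h1
    rw [h1']
    exact emb_mem pC chartC U hU _
  · intro hx
    have h1 : (Ehat hz pC chartC).ι x ∈ Ehat hz pC chartC ⊓ pC ⁻¹ᵁ U := ⟨x.2, hx⟩
    rw [pointedProjCone_inf_preimage hz hPC U hU, ht.dom] at h1
    obtain ⟨w, hw, hwx⟩ := h1
    have hw' : w ∈ (Proj.awayι (𝒮h.deg U hU) t ht.mem one_pos).opensRange := by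
      rw [Proj.opensRange_awayι]; exact hw
    obtain ⟨y, rfl⟩ := hw'
    refine ⟨y, (Ehat hz pC chartC).ι.injective ?_⟩
    have h1 := congrArg (fun k : _ ⟶ PC => k y) (chartInf_ι hz hPC ht)
    exact h1.trans hwx

/-- the sections over the part at infinity, read in the chart -/
def toAwayΓ {U : Y.Opens} {hU : IsAffineOpen U} {t : 𝒮h.presheaf.obj (op U)}
    (ht : IsInfGen hz U hU t) :
    Γ(((Ehat hz pC chartC : PC.Opens) : Scheme.{u}), pE hz pC chartC ⁻¹ᵁ U) ⟶
      CommRingCat.of (Away (𝒮h.deg U hU) t) :=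
  (chartInf hz hPC ht).appLE (pE hz pC chartC ⁻¹ᵁ U) ⊤
    (by rw [← opensRange_chartInf hz hPC ht]; exact fun _ _ => ⟨_, rfl⟩) ≫
    (Scheme.ΓSpecIso _).hom

instance isIso_toAwayΓ {U : Y.Opens} {hU : IsAffineOpen U} {t : 𝒮h.presheaf.obj (op U)}
    (ht : IsInfGen hz U hU t) : IsIso (toAwayΓ hz hPC ht) := by
  have := Groth.Agent.Helper4.RelSpecIso.isIso_appLE_of_eq_opensRange (chartInf hz hPC ht)
    (pE hz pC chartC ⁻¹ᵁ U) (opensRange_chartInf hz hPC ht).symm
    (by rw [← opensRange_chartInf hz hPC ht]; exact fun _ _ => ⟨_, rfl⟩)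
  unfold toAwayΓ
  infer_instance

end

end Groth.Agent.Helper1.GF
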