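import Mathlib
import Groth.Agent.Helper1.GF3
import Groth.Agent.Helper1.Fl2
import Groth.Agent.Helper1.GC4

/-!
# Compatibilities of the charts at infinity
-/

set_option autoImplicit false
set_option linter.style.haveILetI false

namespace Groth.Agent.Helper1.GF

open CategoryTheory Limits AlgebraicGeometry TopologicalSpace Opposite RelProj RelCone
  HomogeneousLocalization Groth.Agent.Helper1.PC Groth.Agent.Helper1.PL Groth.Agent.Helper1.RP
  Groth.Agent.Helper1.CN
open scoped HomogeneousIdeal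

universe u

noncomputable section

variable {Y PC : Scheme.{u}} {𝒮 𝒮h : QCGrAlg Y}
  {ι : 𝒮.toQCAlg ⟶ 𝒮h.toQCAlg} {z : 𝒮h.presheaf.obj (op ⊤)} (hz : IsPolyOver 𝒮 𝒮h ι z)
  {pC : PC ⟶ Y}
  {chartC : ∀ (U : Y.Opens) (hU : IsAffineOpen U),
    (((pC ⁻¹ᵁ U : PC.Opens) : Scheme.{u}) ≅ Proj (𝒮h.deg U hU))}
  (hPC : IsRelProj 𝒮h pC chartC)

/-- the chart at infinity lies over `U` -/
theorem chartInf_pE {U : Y.Opens} {hU : IsAffineOpen U} {t : 𝒮h.presheaf.obj (op U)}
    (ht : IsInfGen hz U hU t) :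
    chartInf hz hPC ht ≫ pE hz pC chartC =
      Spec.map (𝒮h.strZero U hU ≫ CommRingCat.ofHom (fromZeroRingHom (𝒮h.deg U hU)
        (Submonoid.powers t))) ≫ hU.fromSpec := by
  rw [chartInf_ι_assoc, emb_p hPC U hU]
  unfold RP.str
  rw [Proj.awayι_toSpecZero_assoc, ← Spec.map_comp_assoc]

/-- **the structure map in the chart at infinity** -/
theorem pE_app_toAwayΓ {U : Y.Opens} {hU : IsAffineOpen U} {t : 𝒮h.presheaf.obj (op U)}
    (ht : IsInfGen hz U hU t) :
    (pE hz pC chartC).app U ≫ toAwayΓ hz hPC ht =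
      𝒮h.strZero U hU ≫ CommRingCat.ofHom (fromZeroRingHom (𝒮h.deg U hU)
        (Submonoid.powers t)) := by
  unfold toAwayΓ
  rw [← Category.assoc, Scheme.Hom.app_eq_appLE, Scheme.Hom.appLE_comp_appLE,
    Groth.Agent.Helper1.GC.appLE_of_eq (chartInf_pE hz hPC ht),
    Groth.Agent.Helper1.GMFl.appLE_specMap_fromSpec hU, Category.assoc, Iso.inv_hom_id,
    Category.comp_id]

/-- the chart over a basic open is the restriction of the chart -/
theorem chartInf_res {U : Y.Opens} {hU : IsAffineOpen U} {t : 𝒮h.presheaf.obj (op U)}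
    (ht : IsInfGen hz U hU t) (r : Γ(Y, U))
    (ht' : IsInfGen hz (Y.basicOpen r) (hU.basicOpen r)
      (𝒮h.res hU (hU.basicOpen r) (Y.basicOpen_le r) t)) :
    chartInf hz hPC ht' =
      Spec.map (CommRingCat.ofHom (Away.map (𝒮h.res hU (hU.basicOpen r) (Y.basicOpen_le r)) t)) ≫
        chartInf hz hPC ht := by
  rw [← cancel_mono (Ehat hz pC chartC).ι, chartInf_ι, Category.assoc, chartInf_ι]
  have hemb : emb pC chartC (Y.basicOpen r) (hU.basicOpen r) =
      Proj.map (𝒮h.res hU (hU.basicOpen r) (Y.basicOpen_le r)) (𝒮h.irrelevant_le_map U hU r) ≫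
        emb pC chartC U hU := by
    unfold emb
    rw [← Category.assoc, chart_res_inv hPC U hU r, Category.assoc, Scheme.homOfLE_ι]
  rw [hemb, ← Category.assoc, ← Category.assoc]
  congr 1
  exact Proj.awayι_comp_map (𝒮h.res hU (hU.basicOpen r) (Y.basicOpen_le r))
    (𝒮h.irrelevant_le_map U hU r) one_pos t ht.mem

/-- sections in the chart over a basic open -/
theorem toAwayΓ_res {U : Y.Opens} {hU : IsAffineOpen U} {t : 𝒮h.presheaf.obj (op U)}
    (ht : IsInfGen hz U hU t) (r : Γ(Y, U))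
    (ht' : IsInfGen hz (Y.basicOpen r) (hU.basicOpen r)
      (𝒮h.res hU (hU.basicOpen r) (Y.basicOpen_le r) t)) :
    ((Ehat hz pC chartC : PC.Opens) : Scheme.{u}).presheaf.map
        (homOfLE ((pE hz pC chartC).preimage_mono (Y.basicOpen_le r))).op ≫
        toAwayΓ hz hPC ht' =
      toAwayΓ hz hPC ht ≫
        CommRingCat.ofHom (Away.map (𝒮h.res hU (hU.basicOpen r) (Y.basicOpen_le r)) t) := by
  unfold toAwayΓ
  rw [← Category.assoc, Scheme.Hom.map_appLE,
    Groth.Agent.Helper1.GC.appLE_of_eq (chartInf_res hz hPC ht r ht'),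
    ← Scheme.Hom.appLE_comp_appLE _ _ (pE hz pC chartC ⁻¹ᵁ U) ⊤ ⊤
      (by rw [← opensRange_chartInf hz hPC ht]; exact fun _ _ => ⟨_, rfl⟩) le_top,
    Category.assoc, Category.assoc]
  congr 1
  have h : (Spec.map (CommRingCat.ofHom (Away.map (𝒮h.res hU (hU.basicOpen r)
      (Y.basicOpen_le r)) t))).appLE ⊤ ⊤ le_top =
      (Spec.map (CommRingCat.ofHom (Away.map (𝒮h.res hU (hU.basicOpen r)
        (Y.basicOpen_le r)) t))).appTop := Scheme.Hom.appLE_eq_app _
  rw [h, Scheme.ΓSpecIso_naturality]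

end

end Groth.Agent.Helper1.GF
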