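import Mathlib
import Groth.Agent.Helper1.GF4
import Groth.Agent.Helper1.RP15
import Groth.Agent.Helper1.RP13

/-!
# The coordinate at infinity `z / t` on the pointed projective cone of a line bundle
-/

set_option autoImplicit false
set_option linter.style.haveILetI false

namespace Groth.Agent.Helper1.GF

open CategoryTheory Limits AlgebraicGeometry TopologicalSpace Opposite RelProj RelCone
  HomogeneousLocalization Groth.Agent.Helper1.PC Groth.Agent.Helper1.PL Groth.Agent.Helper1.RP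
  Groth.Agent.Helper1.CN
open scoped HomogeneousIdeal

universe u

noncomputable section

section frame

variable {Y : Scheme.{u}} {L : Y.Modules} [L.IsQuasicoherent] {𝒮 𝒮h : QCGrAlg Y}
  {j : L ⟶ 𝒮.toModule} (hS : IsGrSymAlg L 𝒮 j)
  {ι : 𝒮.toQCAlg ⟶ 𝒮h.toQCAlg} {z : 𝒮h.presheaf.obj (op ⊤)} (hz : IsPolyOver 𝒮 𝒮h ι z)
  {U : Y.Opens} (hU : IsAffineOpen U) (F : Frame L U)

include hS in
/-- the generator at infinity attached to a frame cuts out the part at infinity -/
theorem isInfGen_tInf : IsInfGen hz U hU (tInf hz hU F j) where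
  mem := tInf_mem hS hz hU F
  dom := by
    ext x
    rw [SetLike.mem_coe, SetLike.mem_coe, mem_domOpen_iff_homog]
    constructor
    · rintro ⟨d, hd, f, hf, hx⟩
      obtain ⟨a, ha⟩ := F.exists_eq hS hU hf
      have h1 : (gradedHomAt ι hz.graded U hU) f =
          (𝒮h.str.app (op U)).hom a * (tInf hz hU F j) ^ d := by
        rw [ha]
        exact ι_term (j := j) hz hU F a d
      rw [h1, Proj.basicOpen_mul, Proj.basicOpen_pow _ _ _ hd] at hx
      exact hx.2
    · intro hx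
      exact ⟨1, one_pos, F.t j, F.t_mem hS hU, hx⟩

end frame

variable {Y PC : Scheme.{u}} {𝒮 𝒮h : QCGrAlg Y}
  {ι : 𝒮.toQCAlg ⟶ 𝒮h.toQCAlg} {z : 𝒮h.presheaf.obj (op ⊤)} (hz : IsPolyOver 𝒮 𝒮h ι z)
  {pC : PC ⟶ Y}
  {chartC : ∀ (U : Y.Opens) (hU : IsAffineOpen U),
    (((pC ⁻¹ᵁ U : PC.Opens) : Scheme.{u}) ≅ Proj (𝒮h.deg U hU))}
  (hPC : IsRelProj 𝒮h pC chartC)

/-- the coordinate at infinity `z / t`, a function on the part of the cone over `U` -/
def xi {U : Y.Opens} {hU : IsAffineOpen U} {t : 𝒮h.presheaf.obj (op U)}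
    (ht : IsInfGen hz U hU t) :
    Γ(((Ehat hz pC chartC : PC.Opens) : Scheme.{u}), pE hz pC chartC ⁻¹ᵁ U) :=
  (inv (toAwayΓ hz hPC ht)).hom (zeta ht.mem (hz.deg_z U hU))

theorem toAwayΓ_xi {U : Y.Opens} {hU : IsAffineOpen U} {t : 𝒮h.presheaf.obj (op U)}
    (ht : IsInfGen hz U hU t) :
    (toAwayΓ hz hPC ht).hom (xi hz hPC ht) = zeta ht.mem (hz.deg_z U hU) := by
  unfold xi
  rw [← CommRingCat.comp_apply, IsIso.inv_hom_id]
  rfl

theorem toAwayΓ_injective {U : Y.Opens} {hU : IsAffineOpen U} {t : 𝒮h.presheaf.obj (op U)}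
    (ht : IsInfGen hz U hU t) : Function.Injective (toAwayΓ hz hPC ht).hom :=
  (ConcreteCategory.bijective_of_isIso (toAwayΓ hz hPC ht)).1

/-- the coordinate at infinity restricts to the coordinate at infinity over a basic open -/
theorem xi_res {U : Y.Opens} {hU : IsAffineOpen U} {t : 𝒮h.presheaf.obj (op U)}
    (ht : IsInfGen hz U hU t) (r : Γ(Y, U))
    (ht' : IsInfGen hz (Y.basicOpen r) (hU.basicOpen r)
      (𝒮h.res hU (hU.basicOpen r) (Y.basicOpen_le r) t)) :
    (((Ehat hz pC chartC : PC.Opens) : Scheme.{u}).presheaf.map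
        (homOfLE ((pE hz pC chartC).preimage_mono (Y.basicOpen_le r))).op).hom (xi hz hPC ht) =
      xi hz hPC ht' := by
  apply toAwayΓ_injective hz hPC ht'
  rw [← CommRingCat.comp_apply, toAwayΓ_res hz hPC ht r ht', CommRingCat.comp_apply,
    toAwayΓ_xi, toAwayΓ_xi]
  change Away.map (𝒮h.res hU (hU.basicOpen r) (Y.basicOpen_le r)) t (zeta ht.mem (hz.deg_z U hU)) = _
  unfold zeta
  rw [Away.map_mk]
  apply HomogeneousLocalization.val_injective
  rw [Away.val_mk, Away.val_mk]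
  congr 1
  exact res_resTop (f := z) hU (hU.basicOpen r) (Y.basicOpen_le r)

end

end Groth.Agent.Helper1.GF
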