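import Mathlib
import Groth.Agent.Helper1.GF5

/-!
# Change of the generator at infinity by a function on the base
-/

set_option autoImplicit false
set_option linter.style.haveILetI false

namespace Groth.Agent.Helper1.GF

open CategoryTheory Limits AlgebraicGeometry TopologicalSpace Opposite RelProj RelCone
  HomogeneousLocalization Groth.Agent.Helper1.PC Groth.Agent.Helper1.PL Groth.Agent.Helper1.RP
  Groth.Agent.Helper1.CN
open scoped HomogeneousIdeal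

universe u

noncomputable section

variable {Y PC : Scheme.{u}} {𝒮 𝒮h : QCGrAlg Y}
  {ι : 𝒮.toQCAlg ⟶ 𝒮h.toQCAlg} {z : 𝒮h.presheaf.obj (op ⊤)} (hz : IsPolyOver 𝒮 𝒮h ι z)
  {pC : PC ⟶ Y}
  {chartC : ∀ (U : Y.Opens) (hU : IsAffineOpen U),
    (((pC ⁻¹ᵁ U : PC.Opens) : Scheme.{u}) ≅ Proj (𝒮h.deg U hU))}
  (hPC : IsRelProj 𝒮h pC chartC)

theorem chartInf_unit {U : Y.Opens} {hU : IsAffineOpen U} {t₁ t₂ w : 𝒮h.presheaf.obj (op U)}
    (ht₁ : IsInfGen hz U hU t₁) (ht₂ : IsInfGen hz U hU t₂) (hw : w ∈ 𝒮h.deg U hU 0)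
    (h : t₂ = t₁ * w) :
    chartInf hz hPC ht₂ =
      Spec.map (CommRingCat.ofHom (awayMap (𝒮h.deg U hU) hw h)) ≫ chartInf hz hPC ht₁ := by
  rw [← cancel_mono (Ehat hz pC chartC).ι, chartInf_ι, Category.assoc, chartInf_ι,
    ← Category.assoc]
  congr 1
  exact (Proj.SpecMap_awayMap_awayι (𝒮h.deg U hU) ht₁.mem one_pos hw h).symm

theorem toAwayΓ_unit {U : Y.Opens} {hU : IsAffineOpen U} {t₁ t₂ w : 𝒮h.presheaf.obj (op U)}
    (ht₁ : IsInfGen hz U hU t₁) (ht₂ : IsInfGen hz U hU t₂) (hw : w ∈ 𝒮h.deg U hU 0)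
    (h : t₂ = t₁ * w) :
    toAwayΓ hz hPC ht₂ =
      toAwayΓ hz hPC ht₁ ≫ CommRingCat.ofHom (awayMap (𝒮h.deg U hU) hw h) := by
  unfold toAwayΓ
  rw [Groth.Agent.Helper1.GC.appLE_of_eq (chartInf_unit hz hPC ht₁ ht₂ hw h),
    ← Scheme.Hom.appLE_comp_appLE _ _ (pE hz pC chartC ⁻¹ᵁ U) ⊤ ⊤
      (by rw [← opensRange_chartInf hz hPC ht₁]; exact fun _ _ => ⟨_, rfl⟩) le_top,
    Category.assoc, Category.assoc]
  congr 1
  have h' : (Spec.map (CommRingCat.ofHom (awayMap (𝒮h.deg U hU) hw h))).appLE ⊤ ⊤ le_top =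
      (Spec.map (CommRingCat.ofHom (awayMap (𝒮h.deg U hU) hw h))).appTop :=
    Scheme.Hom.appLE_eq_app _
  rw [h', Scheme.ΓSpecIso_naturality]

/-- **change of generator**: `z / t₁ = a · z / (a t₁)` -/
theorem xi_unit {U : Y.Opens} {hU : IsAffineOpen U} {t₁ t₂ : 𝒮h.presheaf.obj (op U)}
    (ht₁ : IsInfGen hz U hU t₁) (ht₂ : IsInfGen hz U hU t₂) (a : Γ(Y, U))
    (h : t₂ = t₁ * (𝒮h.str.app (op U)).hom a) :
    xi hz hPC ht₁ = ((pE hz pC chartC).app U).hom a * xi hz hPC ht₂ := by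
  apply toAwayΓ_injective hz hPC ht₂
  rw [map_mul, toAwayΓ_xi]
  have h1 : (toAwayΓ hz hPC ht₂).hom (((pE hz pC chartC).app U).hom a) =
      fromZeroRingHom (𝒮h.deg U hU) (Submonoid.powers t₂) ((𝒮h.strZero U hU).hom a) := by
    rw [← CommRingCat.comp_apply, pE_app_toAwayΓ]
    rfl
  rw [h1, toAwayΓ_unit hz hPC ht₁ ht₂ (𝒮h.str_mem U hU a) h, CommRingCat.comp_apply, toAwayΓ_xi]
  change awayMap (𝒮h.deg U hU) (𝒮h.str_mem U hU a) h (zeta ht₁.mem (hz.deg_z U hU)) = _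
  unfold zeta
  rw [awayMap_mk]
  apply HomogeneousLocalization.val_injective
  rw [val_mul, Away.val_mk, Away.val_mk]
  simp only [fromZeroRingHom, RingHom.coe_mk, MonoidHom.coe_mk, OneHom.coe_mk, val_mk]
  rw [Localization.mk_mul, Localization.mk_eq_mk_iff, Localization.r_iff_exists]
  refine ⟨1, ?_⟩
  simp only [OneMemClass.coe_one, one_mul, Submonoid.coe_mul]
  have e1 : (((𝒮h.strZero U hU).hom a : 𝒮h.deg U hU 0) : 𝒮h.presheaf.obj (op U)) =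
      (𝒮h.str.app (op U)).hom a := rfl
  have e2 : (((1 : 𝒮h.deg U hU 0)) : 𝒮h.presheaf.obj (op U)) = 1 := rfl
  rw [e1, e2]
  ring

end

end Groth.Agent.Helper1.GF
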