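import Mathlib
import Groth.Agent.Helper1.GF6
import Groth.Agent.Helper1.CC1
import Groth.Agent.Helper1.RP18
import Groth.Agent.Helper4.SN348
import Groth.Agent.Helper4.StalkExact

/-!
# The coordinate at infinity attached to a frame of the line bundle, over any open of the frame
-/

set_option autoImplicit false
set_option linter.style.haveILetI false

namespace Groth.Agent.Helper1.GF

open CategoryTheory Limits AlgebraicGeometry TopologicalSpace Opposite RelProj RelCone
  HomogeneousLocalization Groth.Agent.Helper1.PC Groth.Agent.Helper1.PL Groth.Agent.Helper1.RP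
  Groth.Agent.Helper1.CN Groth.Agent.Helper1.CC
  Groth.Agent.Helper4.TwistExt Groth.Agent.Helper4.SN348
open scoped HomogeneousIdeal

universe u

noncomputable section

variable {Y PC : Scheme.{u}} {L : Y.Modules} [L.IsQuasicoherent] {𝒮 𝒮h : QCGrAlg Y}
  {j : L ⟶ 𝒮.toModule} (hS : IsGrSymAlg L 𝒮 j)
  {ι : 𝒮.toQCAlg ⟶ 𝒮h.toQCAlg} {z : 𝒮h.presheaf.obj (op ⊤)} (hz : IsPolyOver 𝒮 𝒮h ι z)
  {pC : PC ⟶ Y}
  {chartC : ∀ (U : Y.Opens) (hU : IsAffineOpen U),
    (((pC ⁻¹ᵁ U : PC.Opens) : Scheme.{u}) ≅ Proj (𝒮h.deg U hU))}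
  (hPC : IsRelProj 𝒮h pC chartC)

omit [L.IsQuasicoherent] in
/-- the generator at infinity of a restricted frame -/
theorem tInf_res {T V : Y.Opens} (hT : IsAffineOpen T) (hV : IsAffineOpen V) (hVT : V ≤ T)
    (F₁ : Frame L T) (F₂ : Frame L V) (h : F₂.e = L.presheaf.map (homOfLE hVT).op F₁.e) :
    𝒮h.res hT hV hVT (tInf hz hT F₁ j) = tInf hz hV F₂ j := by
  change (𝒮h.presheaf.map (homOfLE hVT).op).hom ((ι.hom.app (op T)).hom (j.app T F₁.e)) =
    (ι.hom.app (op V)).hom (j.app V F₂.e)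
  rw [h, Groth.Agent.Helper4.StalkExact.app_res j (homOfLE hVT) F₁.e]
  have nat := ι.hom.naturality (homOfLE hVT).op
  exact (congrArg (fun f => f.hom (j.app T F₁.e)) nat).symm

omit [L.IsQuasicoherent] in
/-- the generator at infinity of a rescaled frame -/
theorem tInf_smul {V : Y.Opens} (hV : IsAffineOpen V) (F₁ F₂ : Frame L V) (a : Γ(Y, V))
    (h : F₂.e = a • F₁.e) :
    tInf hz hV F₂ j = tInf hz hV F₁ j * (𝒮h.str.app (op V)).hom a := by
  change (ι.hom.app (op V)).hom (F₂.t j) =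
    (ι.hom.app (op V)).hom (F₁.t j) * (𝒮h.str.app (op V)).hom a
  have h1 : F₂.t j = (𝒮.str.app (op V)).hom a * F₁.t j := by
    unfold Frame.t
    rw [h]
    exact Scheme.Modules.Hom.app_smul j a F₁.e
  rw [h1, map_mul, ι_str, mul_comm]

omit [L.IsQuasicoherent] in
theorem xi_congr {U : Y.Opens} {hU : IsAffineOpen U} {t t' : 𝒮h.presheaf.obj (op U)}
    (h : t = t') (ht : IsInfGen hz U hU t) (ht' : IsInfGen hz U hU t') :
    xi hz hPC ht = xi hz hPC ht' := by
  subst h
  rfl

variable {T : Y.Opens} {e : Γ(L, T)} (he : IsFrame L T e) (hT : IsAffineOpen T)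

/-- the coordinate at infinity attached to a frame, over an affine open of the frame -/
def xiAff (V : Y.Opens) (hV : IsAffineOpen V) (hVT : V ≤ T) :
    Γ(((Ehat hz pC chartC : PC.Opens) : Scheme.{u}), pE hz pC chartC ⁻¹ᵁ V) :=
  xi hz hPC (isInfGen_tInf hS hz hV (frameOf he V hVT))

/-- the coordinate at infinity attached to a frame, over any open of the frame -/
def xiOn (W : Y.Opens) (hW : W ≤ T) :
    Γ(((Ehat hz pC chartC : PC.Opens) : Scheme.{u}), pE hz pC chartC ⁻¹ᵁ W) :=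
  ρ ((pE hz pC chartC).preimage_mono hW) (xiAff hS hz hPC he T hT le_rfl)

theorem xiOn_res {W W' : Y.Opens} (hW : W ≤ T) (hW' : W' ≤ W) :
    ρ ((pE hz pC chartC).preimage_mono hW') (xiOn hS hz hPC he hT W hW) =
      xiOn hS hz hPC he hT W' (hW'.trans hW) := by
  unfold xiOn
  rw [ρ_ρ]

theorem xiOn_basicOpen (r : Γ(Y, T)) :
    xiOn hS hz hPC he hT (Y.basicOpen r) (Y.basicOpen_le r) =
      xiAff hS hz hPC he (Y.basicOpen r) (hT.basicOpen r) (Y.basicOpen_le r) := by
  have hres := tInf_res (j := j) hz hT (hT.basicOpen r) (Y.basicOpen_le r) (frameOf he T le_rfl)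
    (frameOf he (Y.basicOpen r) (Y.basicOpen_le r)) (by
      change L.presheaf.map _ e = L.presheaf.map _ (L.presheaf.map _ e)
      rw [Groth.Agent.Helper4.QAffSec.res_self])
  have ht' : IsInfGen hz (Y.basicOpen r) (hT.basicOpen r)
      (𝒮h.res hT (hT.basicOpen r) (Y.basicOpen_le r) (tInf hz hT (frameOf he T le_rfl) j)) := by
    rw [hres]
    exact isInfGen_tInf hS hz (hT.basicOpen r) _
  have h1 := xi_res hz hPC (isInfGen_tInf hS hz hT (frameOf he T le_rfl)) r ht'
  unfold xiOn xiAff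
  exact h1.trans (xi_congr hz hPC hres _ _)

theorem xiOn_eq_xiAff (V : Y.Opens) (hV : IsAffineOpen V) (hVT : V ≤ T) (r : Γ(Y, T))
    (hVr : V = Y.basicOpen r) :
    xiOn hS hz hPC he hT V hVT = xiAff hS hz hPC he V hV hVT := by
  subst hVr
  exact xiOn_basicOpen hS hz hPC he hT r

end

end Groth.Agent.Helper1.GF
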