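import Mathlib
import Groth.Agent.Helper1.GF7

/-!
# Comparison of the coordinates at infinity attached to two frames
-/

set_option autoImplicit false
set_option linter.style.haveILetI false

namespace Groth.Agent.Helper1.GF

open CategoryTheory Limits AlgebraicGeometry TopologicalSpace Opposite RelProj RelCone
  HomogeneousLocalization Groth.Agent.Helper1.PC Groth.Agent.Helper1.PL Groth.Agent.Helper1.RP
  Groth.Agent.Helper1.CN Groth.Agent.Helper1.CC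
  Groth.Agent.Helper4.TwistExt Groth.Agent.Helper4.SN348
open scoped HomogeneousIdeal

universe u

noncomputable section

variable {Y PC : Scheme.{u}} {L : Y.Modules} [L.IsQuasicoherent] {𝒮 𝒮h : QCGrAlg Y}
  {j : L ⟶ 𝒮.toModule} (hS : IsGrSymAlg L 𝒮 j)
  {ι : 𝒮.toQCAlg ⟶ 𝒮h.toQCAlg} {z : 𝒮h.presheaf.obj (op ⊤)} (hz : IsPolyOver 𝒮 𝒮h ι z)
  {pC : PC ⟶ Y}
  {chartC : ∀ (U : Y.Opens) (hU : IsAffineOpen U),
    (((pC ⁻¹ᵁ U : PC.Opens) : Scheme.{u}) ≅ Proj (𝒮h.deg U hU))}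
  (hPC : IsRelProj 𝒮h pC chartC)
  {T₁ T₂ : Y.Opens} {e₁ : Γ(L, T₁)} {e₂ : Γ(L, T₂)} (he₁ : IsFrame L T₁ e₁) (he₂ : IsFrame L T₂ e₂)

/-- two frames over the same affine open -/
theorem xiAff_smul (V : Y.Opens) (hV : IsAffineOpen V) (h₁ : V ≤ T₁) (h₂ : V ≤ T₂) (a : Γ(Y, V))
    (h : L.presheaf.map (homOfLE h₂).op e₂ = a • L.presheaf.map (homOfLE h₁).op e₁) :
    xiAff hS hz hPC he₁ V hV h₁ =
      ((pE hz pC chartC).app V).hom a * xiAff hS hz hPC he₂ V hV h₂ :=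
  xi_unit hz hPC _ _ a (tInf_smul hz hV (frameOf he₁ V h₁) (frameOf he₂ V h₂) a h)

theorem pE_app_res {W W' : Y.Opens} (h : W' ≤ W) (a : Γ(Y, W)) :
    ρ ((pE hz pC chartC).preimage_mono h) (((pE hz pC chartC).app W).hom a) =
      ((pE hz pC chartC).app W').hom (ρ h a) := by
  have nat := (pE hz pC chartC).naturality (homOfLE h).op
  exact (congrArg (fun f => f.hom a) nat).symm

/-- **the coordinates at infinity attached to two frames differ by the transition function** -/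
theorem xiOn_smul (hT₁ : IsAffineOpen T₁) (hT₂ : IsAffineOpen T₂) (W : Y.Opens) (hW₁ : W ≤ T₁)
    (hW₂ : W ≤ T₂) (a : Γ(Y, W))
    (h : L.presheaf.map (homOfLE hW₂).op e₂ = a • L.presheaf.map (homOfLE hW₁).op e₁) :
    xiOn hS hz hPC he₁ hT₁ W hW₁ =
      ((pE hz pC chartC).app W).hom a * xiOn hS hz hPC he₂ hT₂ W hW₂ := by
  apply eq_of_locally
  intro y hy
  obtain ⟨f, g, hfg, hxf, hfW⟩ := exists_basicOpen_le_affine_inter_le hT₁ hT₂ W
    ((pE hz pC chartC) y) (hW₁ hy) (hW₂ hy) hy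
  refine ⟨pE hz pC chartC ⁻¹ᵁ Y.basicOpen f, (pE hz pC chartC).preimage_mono hfW, hxf, ?_⟩
  rw [map_mul, xiOn_res hS hz hPC he₁ hT₁ hW₁ hfW, xiOn_res hS hz hPC he₂ hT₂ hW₂ hfW,
    pE_app_res hz hfW,
    xiOn_eq_xiAff hS hz hPC he₁ hT₁ (Y.basicOpen f) (hT₁.basicOpen f) _ f rfl,
    xiOn_eq_xiAff hS hz hPC he₂ hT₂ (Y.basicOpen f) (hT₁.basicOpen f) _ g hfg]
  apply xiAff_smul
  have h' := congrArg (L.presheaf.map (homOfLE hfW).op) h
  rw [Scheme.Modules.map_smul, Groth.Agent.Helper4.QAffSec.res_res,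
    Groth.Agent.Helper4.QAffSec.res_res] at h'
  exact h'

end

end Groth.Agent.Helper1.GF
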