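import Mathlib
import Groth.Agent.Helper1.GF8
import Groth.Agent.Helper4.SN366
import Groth.Agent.Helper4.TensorLift

/-!
# The pairing of a line bundle with its inverse, and the local form of the map `L' → p_* O_Ê`
-/

set_option autoImplicit false
set_option linter.style.haveILetI false

namespace Groth.Agent.Helper1.GF

open CategoryTheory Limits AlgebraicGeometry TopologicalSpace Opposite RelProj RelCone
  HomogeneousLocalization Groth.Agent.Helper1.PC Groth.Agent.Helper1.PL Groth.Agent.Helper1.RP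
  Groth.Agent.Helper1.CN Groth.Agent.Helper1.CC
  Groth.Agent.Helper4.TwistExt Groth.Agent.Helper4.SN348 Groth.Agent.Helper4.GenLoc
  Groth.Agent.Helper4.TensorLift
open scoped HomogeneousIdeal

universe u

noncomputable section

section pairing

variable {Y : Scheme.{u}} {L L' : Y.Modules}
  (φ : CohB1.tensorMod L L' ≅ Coh.structureModule Y)

/-- the pairing `L × L' → O` -/
def pair (U : Y.Opens) (m : Γ(L, U)) (n : Γ(L', U)) : Γ(Y, U) :=
  toFn (φ.hom.app U (SecTwist.tmul L L' U m n))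

theorem pair_add_right (U : Y.Opens) (m : Γ(L, U)) (n n' : Γ(L', U)) :
    pair φ U m (n + n') = pair φ U m n + pair φ U m n' := by
  unfold pair
  rw [tmul_add_right]
  exact congrArg toFn (map_add (φ.hom.app U).hom _ _)

theorem pair_smul_right (U : Y.Opens) (r : Γ(Y, U)) (m : Γ(L, U)) (n : Γ(L', U)) :
    pair φ U m (r • n) = r * pair φ U m n := by
  unfold pair
  rw [tmul_smul_right]
  exact (congrArg toFn (Scheme.Modules.Hom.app_smul φ.hom r (SecTwist.tmul L L' U m n))).trans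
    (toFn_smul _ _)

theorem pair_smul_left (U : Y.Opens) (r : Γ(Y, U)) (m : Γ(L, U)) (n : Γ(L', U)) :
    pair φ U (r • m) n = r * pair φ U m n := by
  unfold pair
  rw [tmul_smul_left]
  exact (congrArg toFn (Scheme.Modules.Hom.app_smul φ.hom r (SecTwist.tmul L L' U m n))).trans
    (toFn_smul _ _)

theorem pair_res {U V : Y.Opens} (h : V ≤ U) (m : Γ(L, U)) (n : Γ(L', U)) :
    ρ h (pair φ U m n) =
      pair φ V (L.presheaf.map (homOfLE h).op m) (L'.presheaf.map (homOfLE h).op n) := by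
  unfold pair
  rw [← tmul_res, Groth.Agent.Helper4.StalkExact.app_res φ.hom (homOfLE h)]
  rfl

/-- the pairing of two frames whose tensor product is a frame is a unit -/
theorem isUnit_pair {T : Y.Opens} {l : Γ(L, T)} {l' : Γ(L', T)}
    (h : IsFrame (CohB1.tensorMod L L') T (SecTwist.tmul L L' T l l')) :
    IsUnit (pair φ T l l') := by
  obtain ⟨r, hr⟩ := Groth.Agent.Helper4.SN366.isFrame_coeff h (φ.inv.app T (one Y T))
  have h1 := congrArg (fun m => toFn (φ.hom.app T m)) hr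
  simp only [Groth.Agent.Helper4.TensorGen.iso_hom_inv_app, Scheme.Modules.Hom.app_smul,
    toFn_smul] at h1
  have h2 : (1 : Γ(Y, T)) = r * pair φ T l l' := h1
  exact IsUnit.of_mul_eq_one r (by rw [mul_comm]; exact h2.symm)

end pairing

variable {Y PC : Scheme.{u}} {L L' : Y.Modules} [L.IsQuasicoherent] {𝒮 𝒮h : QCGrAlg Y}
  {j : L ⟶ 𝒮.toModule} (hS : IsGrSymAlg L 𝒮 j)
  {ι : 𝒮.toQCAlg ⟶ 𝒮h.toQCAlg} {z : 𝒮h.presheaf.obj (op ⊤)} (hz : IsPolyOver 𝒮 𝒮h ι z)
  {pC : PC ⟶ Y}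
  {chartC : ∀ (U : Y.Opens) (hU : IsAffineOpen U),
    (((pC ⁻¹ᵁ U : PC.Opens) : Scheme.{u}) ≅ Proj (𝒮h.deg U hU))}
  (hPC : IsRelProj 𝒮h pC chartC)
  (φ : CohB1.tensorMod L L' ≅ Coh.structureModule Y)
  {T : Y.Opens} {e : Γ(L, T)} (he : IsFrame L T e) (hT : IsAffineOpen T)

/-- the local form of the map `L' → p_* O_Ê`, `s' ↦ ⟨e, s'⟩ · z / e` -/
def psiOn (V : Y.Opens) (hV : V ≤ T) (n : Γ(L', V)) :
    Γ(((Ehat hz pC chartC : PC.Opens) : Scheme.{u}), pE hz pC chartC ⁻¹ᵁ V) :=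
  ((pE hz pC chartC).app V).hom (pair φ V (L.presheaf.map (homOfLE hV).op e) n) *
    xiOn hS hz hPC he hT V hV

theorem psiOn_add (V : Y.Opens) (hV : V ≤ T) (n n' : Γ(L', V)) :
    psiOn hS hz hPC φ he hT V hV (n + n') =
      psiOn hS hz hPC φ he hT V hV n + psiOn hS hz hPC φ he hT V hV n' := by
  unfold psiOn
  rw [pair_add_right, map_add, add_mul]

theorem psiOn_smul (V : Y.Opens) (hV : V ≤ T) (r : Γ(Y, V)) (n : Γ(L', V)) :
    psiOn hS hz hPC φ he hT V hV (r • n) =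
      ((pE hz pC chartC).app V).hom r * psiOn hS hz hPC φ he hT V hV n := by
  unfold psiOn
  rw [pair_smul_right, map_mul, mul_assoc]

theorem psiOn_res {V V' : Y.Opens} (hV : V ≤ T) (hV' : V' ≤ V) (n : Γ(L', V)) :
    ρ ((pE hz pC chartC).preimage_mono hV') (psiOn hS hz hPC φ he hT V hV n) =
      psiOn hS hz hPC φ he hT V' (hV'.trans hV) (L'.presheaf.map (homOfLE hV').op n) := by
  unfold psiOn
  rw [map_mul, xiOn_res hS hz hPC he hT hV hV', pE_app_res hz hV', pair_res φ hV',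
    Groth.Agent.Helper4.QAffSec.res_res]

/-- the local form does not depend on the frame -/
theorem psiOn_indep {T₂ : Y.Opens} {e₂ : Γ(L, T₂)} (he₂ : IsFrame L T₂ e₂)
    (hT₂ : IsAffineOpen T₂) (V : Y.Opens) (hV : V ≤ T) (hV₂ : V ≤ T₂) (n : Γ(L', V)) :
    psiOn hS hz hPC φ he hT V hV n = psiOn hS hz hPC φ he₂ hT₂ V hV₂ n := by
  obtain ⟨a, ha⟩ := (he V hV).1 (L.presheaf.map (homOfLE hV₂).op e₂)
  unfold psiOn
  rw [xiOn_smul hS hz hPC he he₂ hT hT₂ V hV hV₂ a ha, ha, pair_smul_left, map_mul]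
  ring

end

end Groth.Agent.Helper1.GF
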