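import Mathlib
import Groth.Agent.Helper1.GF9
import Groth.Agent.Helper1.GlueHom

/-!
# The structure morphism of the pointed projective cone of a line bundle is affine, and the map
`L' → p_* O_Ê`
-/

set_option autoImplicit false
set_option linter.style.haveILetI false

namespace Groth.Agent.Helper1.GF

open CategoryTheory Limits AlgebraicGeometry TopologicalSpace Opposite RelProj RelCone
  HomogeneousLocalization Groth.Agent.Helper1.PC Groth.Agent.Helper1.PL Groth.Agent.Helper1.RP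
  Groth.Agent.Helper1.CN Groth.Agent.Helper1.CC
  Groth.Agent.Helper4.TwistExt Groth.Agent.Helper4.SN348 Groth.Agent.Helper4.GenLoc
  Groth.Agent.Helper4.TensorLift
open scoped HomogeneousIdeal

universe u

noncomputable section

variable {Y PC : Scheme.{u}} {L L' : Y.Modules} [L.IsQuasicoherent] {𝒮 𝒮h : QCGrAlg Y}
  {j : L ⟶ 𝒮.toModule} (hS : IsGrSymAlg L 𝒮 j)
  {ι : 𝒮.toQCAlg ⟶ 𝒮h.toQCAlg} {z : 𝒮h.presheaf.obj (op ⊤)} (hz : IsPolyOver 𝒮 𝒮h ι z)
  {pC : PC ⟶ Y}
  {chartC : ∀ (U : Y.Opens) (hU : IsAffineOpen U),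
    (((pC ⁻¹ᵁ U : PC.Opens) : Scheme.{u}) ≅ Proj (𝒮h.deg U hU))}
  (hPC : IsRelProj 𝒮h pC chartC)

include hS hPC in
theorem isAffineOpen_pE_preimage {T : Y.Opens} {e : Γ(L, T)} (he : IsFrame L T e)
    (hT : IsAffineOpen T) : IsAffineOpen (pE hz pC chartC ⁻¹ᵁ T) := by
  rw [← opensRange_chartInf hz hPC (isInfGen_tInf hS hz hT (frameOf he T le_rfl))]
  exact isAffineOpen_opensRange _

include hS hPC in
/-- the pointed projective cone of a line bundle is affine over the base -/
theorem isAffineHom_pE (hL : PicF.IsInvertible L) : IsAffineHom (pE hz pC chartC) := by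
  apply isAffineHom_of_forall_exists_isAffineOpen
  intro x
  obtain ⟨T, e, b, hx, hT, he, -, -⟩ := exists_chart L hL 0 x
  exact ⟨T, hx, hT, isAffineOpen_pE_preimage hS hz hPC he hT⟩

/-- a framed affine open -/
structure FrameAt (L : Y.Modules) where
  T : Y.Opens
  hT : IsAffineOpen T
  e : Γ(L, T)
  he : IsFrame L T e

theorem iSup_frameAt (hL : PicF.IsInvertible L) : ⨆ c : FrameAt L, c.T = ⊤ := by
  rw [_root_.eq_top_iff]
  intro x _
  obtain ⟨T, e, b, hx, hT, he, -, -⟩ := exists_chart L hL 0 x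
  exact Opens.mem_iSup.2 ⟨⟨T, hT, e, he⟩, hx⟩

variable [QuasiCompact (pE hz pC chartC)] [QuasiSeparated (pE hz pC chartC)]
  (φ : CohB1.tensorMod L L' ≅ Coh.structureModule Y)

/-- the algebra of functions of the pointed projective cone -/
abbrev Bdir : RelSpec.QCAlg Y := RelSpec.QCAlg.directImage (pE hz pC chartC)

/-- the local maps to be glued -/
def psiLoc (V : GlueHom.Small (fun c : FrameAt L => c.T)) :
    Γ(L', V.1) →+ Γ((Bdir hz (pC := pC) (chartC := chartC)).toModule, V.1) where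
  toFun n := psiOn hS hz hPC φ (Classical.choose V.2).he (Classical.choose V.2).hT V.1
    (Classical.choose_spec V.2) n
  map_zero' := by
    have := psiOn_smul hS hz hPC φ (Classical.choose V.2).he (Classical.choose V.2).hT V.1
      (Classical.choose_spec V.2) 0 0
    rw [zero_smul, map_zero, zero_mul] at this
    exact this
  map_add' n n' := psiOn_add hS hz hPC φ _ _ V.1 _ n n'

theorem psiLoc_apply (V : GlueHom.Small (fun c : FrameAt L => c.T)) (c : FrameAt L)
    (hV : V.1 ≤ c.T) (n : Γ(L', V.1)) :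
    psiLoc hS hz hPC φ V n = psiOn hS hz hPC φ c.he c.hT V.1 hV n :=
  psiOn_indep hS hz hPC φ _ _ c.he c.hT V.1 _ hV n

include hS hPC in
/-- **the map `L' → p_* O_Ê`** -/
theorem exists_psi (hL : PicF.IsInvertible L) :
    ∃ ψ : L' ⟶ (Bdir hz (pC := pC) (chartC := chartC)).toModule,
      ∀ (c : FrameAt L) (V : Y.Opens) (hV : V ≤ c.T) (n : Γ(L', V)),
        ψ.app V n = psiOn hS hz hPC φ c.he c.hT V hV n := by
  obtain ⟨τ, hτ⟩ := GlueHom.exists_glue (N := L')
    (L := (Bdir hz (pC := pC) (chartC := chartC)).toModule) (fun c : FrameAt L => c.T)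
    (psiLoc hS hz hPC φ)
    (by
      intro V V' h n
      obtain ⟨c, hc⟩ := V.2
      rw [psiLoc_apply hS hz hPC φ V c hc, psiLoc_apply hS hz hPC φ V' c (h.trans hc)]
      exact psiOn_res hS hz hPC φ c.he c.hT hc h n)
    (by
      intro V r n
      obtain ⟨c, hc⟩ := V.2
      rw [psiLoc_apply hS hz hPC φ V c hc, psiLoc_apply hS hz hPC φ V c hc]
      exact psiOn_smul hS hz hPC φ c.he c.hT V.1 hc r n)
    (iSup_frameAt hL)
  refine ⟨τ, fun c V hV n => ?_⟩
  rw [hτ ⟨V, c, hV⟩ n]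
  exact psiLoc_apply hS hz hPC φ ⟨V, c, hV⟩ c hV n

end

end Groth.Agent.Helper1.GF
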