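import Mathlib
import Groth.Agent.Helper1.GF10
import Groth.Agent.Helper1.PL3
import Groth.Agent.Helper4.SN200

/-!
# The algebra map `Sym(L') → p_* O_Ê` is bijective over framed affine opens
-/

set_option autoImplicit false
set_option linter.style.haveILetI false

namespace Groth.Agent.Helper1.GF

open CategoryTheory Limits AlgebraicGeometry TopologicalSpace Opposite RelProj RelCone
  HomogeneousLocalization Groth.Agent.Helper1.PC Groth.Agent.Helper1.PL Groth.Agent.Helper1.RP
  Groth.Agent.Helper1.CN Groth.Agent.Helper1.CC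
  Groth.Agent.Helper4.TwistExt Groth.Agent.Helper4.SN348 Groth.Agent.Helper4.GenLoc
  Groth.Agent.Helper4.TensorLift
open scoped HomogeneousIdeal

universe u

noncomputable section

/-- rescaling the variable by a unit is an automorphism of the polynomial ring -/
theorem scale_bijective {A : Type*} [CommRing A] (c : A) (hc : IsUnit c) :
    Function.Bijective (Polynomial.eval₂RingHom (Polynomial.C : A →+* Polynomial A)
      (Polynomial.C c * Polynomial.X)) := by
  obtain ⟨d, hd⟩ := hc.exists_right_inv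
  have key : ∀ a b : A, a * b = 1 →
      (Polynomial.eval₂RingHom (Polynomial.C : A →+* Polynomial A)
        (Polynomial.C a * Polynomial.X)).comp
        (Polynomial.eval₂RingHom (Polynomial.C : A →+* Polynomial A)
          (Polynomial.C b * Polynomial.X)) = RingHom.id _ := by
    intro a b hab
    apply Polynomial.ringHom_ext
    · intro r
      simp
    · simp only [RingHom.comp_apply, Polynomial.coe_eval₂RingHom, Polynomial.eval₂_X,
        Polynomial.eval₂_mul, Polynomial.eval₂_C, RingHom.id_apply]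
      rw [← mul_assoc, ← Polynomial.C_mul, mul_comm b a, hab, Polynomial.C_1, one_mul]
  rw [Function.bijective_iff_has_inverse]
  refine ⟨Polynomial.eval₂RingHom (Polynomial.C : A →+* Polynomial A)
    (Polynomial.C d * Polynomial.X), fun p => ?_, fun p => ?_⟩
  · exact congrArg (fun f : Polynomial A →+* Polynomial A => f p) (key d c (by rw [mul_comm]; exact hd))
  · exact congrArg (fun f : Polynomial A →+* Polynomial A => f p) (key c d hd)

variable {Y PC : Scheme.{u}} {L L' : Y.Modules} [L.IsQuasicoherent] [L'.IsQuasicoherent]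
  {𝒮 𝒮h : QCGrAlg Y}
  {j : L ⟶ 𝒮.toModule} (hS : IsGrSymAlg L 𝒮 j)
  {ι : 𝒮.toQCAlg ⟶ 𝒮h.toQCAlg} {z : 𝒮h.presheaf.obj (op ⊤)} (hz : IsPolyOver 𝒮 𝒮h ι z)
  {pC : PC ⟶ Y}
  {chartC : ∀ (U : Y.Opens) (hU : IsAffineOpen U),
    (((pC ⁻¹ᵁ U : PC.Opens) : Scheme.{u}) ≅ Proj (𝒮h.deg U hU))}
  (hPC : IsRelProj 𝒮h pC chartC)
  [QuasiCompact (pE hz pC chartC)] [QuasiSeparated (pE hz pC chartC)]
  (φ : CohB1.tensorMod L L' ≅ Coh.structureModule Y)
  {𝒮' : RelSpec.QCAlg Y} {j' : L' ⟶ 𝒮'.toModule} (hS' : RelSpec.IsSymAlg L' 𝒮' j')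

omit [L.IsQuasicoherent] in
theorem toAwayΓ_pE_app {U : Y.Opens} {hU : IsAffineOpen U} {t : 𝒮h.presheaf.obj (op U)}
    (ht : IsInfGen hz U hU t) (a : Γ(Y, U)) :
    (toAwayΓ hz hPC ht).hom (((pE hz pC chartC).app U).hom a) =
      fromZeroRingHom (𝒮h.deg U hU) (Submonoid.powers t) ((𝒮h.strZero U hU).hom a) := by
  rw [← CommRingCat.comp_apply, pE_app_toAwayΓ]
  rfl

include hS hS' in
/-- **the algebra map is bijective over an affine open framed for `L` and `L'` with unit pairing** -/
theorem omega_bijective (ω : 𝒮' ⟶ Bdir hz (pC := pC) (chartC := chartC))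
    (ψ : L' ⟶ (Bdir hz (pC := pC) (chartC := chartC)).toModule)
    (hω : j' ≫ RelSpec.QCAlg.Hom.toModuleMap ω = ψ)
    (hψ : ∀ (c : FrameAt L) (V : Y.Opens) (hV : V ≤ c.T) (n : Γ(L', V)),
        ψ.app V n = psiOn hS hz hPC φ c.he c.hT V hV n)
    {T : Y.Opens} (hT : IsAffineOpen T) {e : Γ(L, T)} {e' : Γ(L', T)} (he : IsFrame L T e)
    (he' : IsFrame L' T e') (hu : IsUnit (pair φ T e e')) :
    Function.Bijective (ω.hom.app (op T)).hom := by
  have hid : L.presheaf.map (homOfLE (le_refl T)).op e = e :=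
    Groth.Agent.Helper4.QAffSec.res_self _ _ _
  have hid' : L'.presheaf.map (homOfLE (le_refl T)).op e' = e' :=
    Groth.Agent.Helper4.QAffSec.res_self _ _ _
  have hbij' : Function.Bijective (fun r : Γ(Y, T) => r • e') := by
    have := Groth.Agent.Helper4.SN200.bijective_of_isFrame L' T e' he' T le_rfl
    rw [hid'] at this
    exact this
  set F := frameOf he T le_rfl with hF
  have ht := isInfGen_tInf (j := j) hS hz hT F
  have hP₁ := PL.eval₂_bijective hS' T hT e' hbij'
  let P₁ : Polynomial Γ(Y, T) →+* 𝒮'.presheaf.obj (op T) :=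
    Polynomial.eval₂RingHom (𝒮'.str.app (op T)).hom
      (show 𝒮'.presheaf.obj (op T) from j'.app T e')
  have hP₁C : ∀ a, P₁ (Polynomial.C a) = (𝒮'.str.app (op T)).hom a :=
    fun a => Polynomial.eval₂_C _ _
  have hP₁X : P₁ Polynomial.X = (show 𝒮'.presheaf.obj (op T) from j'.app T e') :=
    Polynomial.eval₂_X _ _
  have hΓ : Function.Bijective (toAwayΓ hz hPC ht).hom :=
    ConcreteCategory.bijective_of_isIso (toAwayΓ hz hPC ht)
  have hAw := toAway_bijective hS hz hT F
  -- the composite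
  have hΘ : ((toAwayΓ hz hPC ht).hom.comp ((ω.hom.app (op T)).hom.comp P₁)) =
      (toAway (𝒮h.strZero T hT).hom (tInf_mem hS hz hT F) (hz.deg_z T hT)).comp
        (Polynomial.eval₂RingHom (Polynomial.C : Γ(Y, T) →+* Polynomial Γ(Y, T))
          (Polynomial.C (pair φ T e e') * Polynomial.X)) := by
    apply Polynomial.ringHom_ext
    · intro a
      have h1 : (ω.hom.app (op T)).hom ((𝒮'.str.app (op T)).hom a) =
          ((pE hz pC chartC).app T).hom a := by
        have h0 := NatTrans.congr_app ω.comm (op T)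
        exact congrArg (fun f => f.hom a) h0
      change (toAwayΓ hz hPC ht).hom ((ω.hom.app (op T)).hom (P₁ (Polynomial.C a))) =
        toAway (𝒮h.strZero T hT).hom (tInf_mem hS hz hT F) (hz.deg_z T hT)
          (Polynomial.eval₂ Polynomial.C (Polynomial.C (pair φ T e e') * Polynomial.X)
            (Polynomial.C a))
      rw [hP₁C, Polynomial.eval₂_C, h1, toAwayΓ_pE_app, toAway_C]
    · have h1 : (ω.hom.app (op T)).hom (show 𝒮'.presheaf.obj (op T) from j'.app T e') =
          psiOn hS hz hPC φ he hT T le_rfl e' := by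
        rw [← hψ ⟨T, hT, e, he⟩ T le_rfl e', ← hω]
        rfl
      change (toAwayΓ hz hPC ht).hom ((ω.hom.app (op T)).hom (P₁ Polynomial.X)) =
        toAway (𝒮h.strZero T hT).hom (tInf_mem hS hz hT F) (hz.deg_z T hT)
          (Polynomial.eval₂ Polynomial.C (Polynomial.C (pair φ T e e') * Polynomial.X)
            Polynomial.X)
      rw [hP₁X, Polynomial.eval₂_X, h1, map_mul, toAway_C, toAway_X]
      unfold psiOn
      rw [map_mul, toAwayΓ_pE_app, hid]
      congr 1
      unfold xiOn
      rw [ρ_refl]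
      exact toAwayΓ_xi hz hPC ht
  have hcomp : Function.Bijective ((toAwayΓ hz hPC ht).hom ∘ (ω.hom.app (op T)).hom ∘ P₁) := by
    have := hAw.comp (scale_bijective (pair φ T e e') hu)
    have h2 : ((toAwayΓ hz hPC ht).hom ∘ (ω.hom.app (op T)).hom ∘ P₁) =
        ⇑((toAwayΓ hz hPC ht).hom.comp ((ω.hom.app (op T)).hom.comp P₁)) := rfl
    rw [h2, hΘ]
    exact this
  have h3 : Function.Bijective ((ω.hom.app (op T)).hom ∘ P₁) :=
    (Function.Bijective.of_comp_iff' hΓ _).mp hcomp
  exact (Function.Bijective.of_comp_iff _ hP₁).mp h3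

end

end Groth.Agent.Helper1.GF
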