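import Mathlib
import Groth.Agent.Helper1.GF11
import Groth.Agent.Helper1.DP1
import Groth.Agent.Helper4.AffUP
import Groth.Agent.Helper4.RelSpecIso

/-!
# `V(L⁻¹) ≅ Ê`: the pointed projective cone of a line bundle is the dual line bundle
-/

set_option autoImplicit false
set_option linter.style.haveILetI false

namespace Groth.Agent.Helper1.GF

open CategoryTheory Limits AlgebraicGeometry TopologicalSpace Opposite RelProj RelCone
  HomogeneousLocalization Groth.Agent.Helper1.PC Groth.Agent.Helper1.PL Groth.Agent.Helper1.RP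
  Groth.Agent.Helper1.CN Groth.Agent.Helper1.CC
  Groth.Agent.Helper4.TwistExt Groth.Agent.Helper4.SN348 Groth.Agent.Helper4.GenLoc
  Groth.Agent.Helper4.TensorLift
open scoped HomogeneousIdeal

universe u

/-- a morphism is an isomorphism if it is so over an affine cover of the target -/
theorem isIso_of_affine_cover {X Z : Scheme.{u}} (h : X ⟶ Z) (𝒰 : Set Z.Opens)
    (haff : ∀ D ∈ 𝒰, IsAffineOpen D) (hcov : ∀ x : Z, ∃ D ∈ 𝒰, x ∈ D)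
    (hpre : ∀ D ∈ 𝒰, IsAffineOpen (h ⁻¹ᵁ D)) (hb : ∀ D ∈ 𝒰, IsIso (h.app D)) : IsIso h := by
  have hsup : ⨆ D : 𝒰, ((⟨D.1, haff D.1 D.2⟩ : Z.affineOpens) : Z.Opens) = ⊤ := by
    rw [_root_.eq_top_iff]
    intro x _
    obtain ⟨D, hD, hx⟩ := hcov x
    exact Opens.mem_iSup.2 ⟨⟨D, hD⟩, hx⟩
  have key := (HasAffineProperty.iff_of_iSup_eq_top (P := MorphismProperty.isomorphisms Scheme)
    (f := h) (fun D : 𝒰 => (⟨D.1, haff D.1 D.2⟩ : Z.affineOpens)) hsup).mpr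
  apply key
  rintro ⟨D, hD⟩
  refine ⟨hpre D hD, ?_⟩
  change IsIso ((h ∣_ D).appTop)
  rw [morphismRestrict_appTop]
  have e : D.ι ''ᵁ ⊤ = D := Scheme.Opens.ι_image_top D
  haveI h1 : IsIso (h.app (D.ι ''ᵁ ⊤)) := by
    rw [Scheme.Hom.app_eq h e]
    haveI := hb D hD
    infer_instance
  haveI h2 : IsIso (X.presheaf.map (eqToHom (image_morphismRestrict_preimage h D ⊤)).op) :=
    inferInstance
  exact @IsIso.comp_isIso _ _ _ _ _ _ _ h1 h2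

noncomputable section

variable {Y PC : Scheme.{u}} {L L' : Y.Modules} [L.IsQuasicoherent] [L'.IsQuasicoherent]
  {𝒮 𝒮h : QCGrAlg Y}
  {j : L ⟶ 𝒮.toModule} (hS : IsGrSymAlg L 𝒮 j)
  {ι : 𝒮.toQCAlg ⟶ 𝒮h.toQCAlg} {z : 𝒮h.presheaf.obj (op ⊤)} (hz : IsPolyOver 𝒮 𝒮h ι z)
  {pC : PC ⟶ Y}
  {chartC : ∀ (U : Y.Opens) (hU : IsAffineOpen U),
    (((pC ⁻¹ᵁ U : PC.Opens) : Scheme.{u}) ≅ Proj (𝒮h.deg U hU))}
  (hPC : IsRelProj 𝒮h pC chartC)
  (φ : CohB1.tensorMod L L' ≅ Coh.structureModule Y)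
  {𝒮' : RelSpec.QCAlg Y} {j' : L' ⟶ 𝒮'.toModule} (hS' : RelSpec.IsSymAlg L' 𝒮' j')

include hS hPC φ hS' in
/-- **EGA II 8.4.?: the pointed projective cone of `V(L)` is `V(L⁻¹)`** -/
theorem exists_iso_pointedProjCone (hL : PicF.IsInvertible L) (hL' : PicF.IsInvertible L') :
    ∃ e : 𝒮'.spec ≅ ((Ehat hz pC chartC : PC.Opens) : Scheme.{u}),
      e.hom ≫ (Ehat hz pC chartC).ι ≫ pC = 𝒮'.π := by
  haveI : IsAffineHom (pE hz pC chartC) := isAffineHom_pE hS hz hPC hL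
  obtain ⟨ψ, hψ⟩ := exists_psi (L' := L') hS hz hPC φ hL
  obtain ⟨ω, hω, -⟩ := hS' (Bdir hz (pC := pC) (chartC := chartC)) ψ
  let ω' : AffAlg.alg 𝒮'.π ⟶ AffAlg.alg (pE hz pC chartC) := 𝒮'.gammaMap ≫ ω.hom
  have hω' : 𝒮'.π.c ≫ ω' = (pE hz pC chartC).c := by
    change 𝒮'.π.c ≫ 𝒮'.gammaMap ≫ ω.hom = _
    rw [← Category.assoc, 𝒮'.π_c_gammaMap]
    exact ω.comm
  let h := Groth.Agent.Helper4.AffUP.ofAlgHom 𝒮'.π (pE hz pC chartC) ω'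
  have hπ : h ≫ 𝒮'.π = pE hz pC chartC :=
    Groth.Agent.Helper4.AffUP.ofAlgHom_comp 𝒮'.π (pE hz pC chartC) ω' hω'
  have halg : AffAlg.algHom 𝒮'.π (pE hz pC chartC) h hπ = ω' :=
    Groth.Agent.Helper4.AffUP.algHom_ofAlgHom 𝒮'.π (pE hz pC chartC) ω' hω'
  haveI : IsIso h := by
    apply isIso_of_affine_cover h {D | ∃ (T : Y.Opens) (l : Γ(L, T)) (l' : Γ(L', T)),
      IsAffineOpen T ∧ IsFrame L T l ∧ IsFrame L' T l' ∧ IsUnit (pair φ T l l') ∧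
        D = 𝒮'.π ⁻¹ᵁ T}
    · rintro D ⟨T, l, l', hT, -, -, -, rfl⟩
      exact hT.preimage 𝒮'.π
    · intro x
      obtain ⟨T, l, l', hx, -, hT, hl, hl', hll'⟩ :=
        Groth.Agent.Helper4.SN366.exists_frames₂ L L' hL hL' ⊤ (𝒮'.π x) trivial
      exact ⟨𝒮'.π ⁻¹ᵁ T, ⟨T, l, l', hT, hl, hl', isUnit_pair φ hll', rfl⟩, hx⟩
    · rintro D ⟨T, l, l', hT, hl, -, -, rfl⟩
      have e : h ⁻¹ᵁ (𝒮'.π ⁻¹ᵁ T) = pE hz pC chartC ⁻¹ᵁ T := by rw [← hπ]; rfl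
      rw [e]
      exact isAffineOpen_pE_preimage hS hz hPC hl hT
    · rintro D ⟨T, l, l', hT, hl, hl', hu, rfl⟩
      have e : h ⁻¹ᵁ (𝒮'.π ⁻¹ᵁ T) = pE hz pC chartC ⁻¹ᵁ T := by rw [← hπ]; rfl
      haveI h1 : IsIso (h.appLE (𝒮'.π ⁻¹ᵁ T) (pE hz pC chartC ⁻¹ᵁ T) e.ge) := by
        rw [← Groth.Agent.Helper1.DP.algHom_app 𝒮'.π (pE hz pC chartC) h hπ T, halg]
        change IsIso (𝒮'.gammaMap.app (op T) ≫ ω.hom.app (op T))
        rw [𝒮'.gammaMap_app T hT]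
        haveI := Groth.Agent.Helper4.RelSpecIso.isIso_gammaAff 𝒮' T hT
        haveI : IsIso (ω.hom.app (op T)) := by
          rw [ConcreteCategory.isIso_iff_bijective]
          exact omega_bijective hS hz hPC φ hS' ω ψ hω hψ hT hl hl' hu
        infer_instance
      have hfac : h.app (𝒮'.π ⁻¹ᵁ T) =
          h.appLE (𝒮'.π ⁻¹ᵁ T) (pE hz pC chartC ⁻¹ᵁ T) e.ge ≫
            ((Ehat hz pC chartC : PC.Opens) : Scheme.{u}).presheaf.map (eqToHom e).op := by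
        rw [Scheme.Hom.appLE_map, Scheme.Hom.app_eq_appLE]
      rw [hfac]
      infer_instance
  refine ⟨(asIso h).symm, ?_⟩
  change inv h ≫ pE hz pC chartC = 𝒮'.π
  rw [IsIso.inv_comp_eq, hπ]

end

end Groth.Agent.Helper1.GF
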