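import Mathlib

/-!
# `Proj.map` is insensitive to scaling a graded homomorphism by powers of a degree-zero element
-/

set_option autoImplicit false

namespace Groth.Agent.Helper1.GG

open CategoryTheory AlgebraicGeometry HomogeneousLocalization
open scoped HomogeneousIdeal

universe u

section scale

variable {A σ : Type u} [CommRing A] [SetLike σ A] [AddSubgroupClass σ A] {𝒜 : ℕ → σ} [GradedRing 𝒜]
variable {B τ : Type u} [CommRing B] [SetLike τ B] [AddSubgroupClass τ B] {ℬ : ℕ → τ} [GradedRing ℬ]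

theorem awayMap_comp_awayMap_of_scale (f g : 𝒜 →+*ᵍ ℬ) (u : B) (hu : u ∈ ℬ 0)
    (h : ∀ (n : ℕ) (x : A), x ∈ 𝒜 n → g x = u ^ n * f x) {n : ℕ} {s : A} (hs : s ∈ 𝒜 n)
    (hx : g s = f s * u ^ n) :
    (awayMap ℬ (g := u ^ n) (e := 0) (by simpa using SetLike.pow_mem_graded n hu) hx).comp
      (Away.map f s) = Away.map g s := by
  ext q
  obtain ⟨k, a, ha, rfl⟩ := q.mk_surjective (𝒜 := 𝒜) hs
  rw [RingHom.comp_apply, Away.map_mk, Away.map_mk]
  rw [awayMap_mk]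
  rw [Away.val_mk, Away.val_mk]
  congr 1
  rw [h _ a ha]
  simp only [smul_eq_mul]
  rw [← pow_mul, mul_comm, mul_comm k n]

theorem awayι_comp_map_of_scale (f g : 𝒜 →+*ᵍ ℬ) (hf : ℬ₊ ≤ 𝒜₊.map f) (hg : ℬ₊ ≤ 𝒜₊.map g)
    (u : B) (hu : u ∈ ℬ 0)
    (h : ∀ (n : ℕ) (x : A), x ∈ 𝒜 n → g x = u ^ n * f x) {n : ℕ} (hn : 0 < n) (s : A)
    (hs : s ∈ 𝒜 n) :
    Proj.awayι ℬ (g s) (g.2 hs) hn ≫ Proj.map g hg =
      Proj.awayι ℬ (g s) (g.2 hs) hn ≫ Proj.map f hf := by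
  have hx : g s = f s * u ^ n := by
    rw [h _ _ hs, mul_comm]
  have hu' : u ^ n ∈ ℬ 0 := by simpa using SetLike.pow_mem_graded n hu
  have e1 : Proj.awayι ℬ (g s) (g.2 hs) hn =
      Spec.map (CommRingCat.ofHom (awayMap ℬ hu' hx)) ≫
        Proj.awayι ℬ (f s) (f.2 hs) hn :=
    (Proj.SpecMap_awayMap_awayι ℬ (f.2 hs) hn hu' hx).symm
  rw [Proj.awayι_comp_map g hg hn s hs, e1, Category.assoc,
    Proj.awayι_comp_map f hf hn s hs, ← Category.assoc, ← Spec.map_comp,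
    ← CommRingCat.ofHom_comp, awayMap_comp_awayMap_of_scale f g u hu h hs hx]

/-- **scaling lemma**: two graded homomorphisms differing by `u ^ n` in degree `n` induce the
same morphism of homogeneous spectra -/
theorem map_eq_of_scale (f g : 𝒜 →+*ᵍ ℬ) (hf : ℬ₊ ≤ 𝒜₊.map f) (hg : ℬ₊ ≤ 𝒜₊.map g)
    (u : B) (hu : u ∈ ℬ 0)
    (h : ∀ (n : ℕ) (x : A), x ∈ 𝒜 n → g x = u ^ n * f x) :
    Proj.map g hg = Proj.map f hf := by
  refine (Proj.mapAffineOpenCover g hg).openCover.hom_ext _ _ fun s => ?_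
  exact awayι_comp_map_of_scale f g hf hg u hu h s.1.2 s.2.1 s.2.2

end scale

end Groth.Agent.Helper1.GG
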