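import Mathlib
import Groth.Agent.Helper1.RP1

/-!
# Gluing morphisms along the preimages of a basis of affine opens
-/

set_option autoImplicit false
set_option linter.style.haveILetI false

namespace Groth.Agent.Helper1.GG

open CategoryTheory Limits AlgebraicGeometry TopologicalSpace Opposite Groth.Agent.Helper1.RP

universe u

variable {Y P Z : Scheme.{u}} (p : P ⟶ Y)

theorem isOpenCover_preimage_basis (W : Set Y.Opens) (hcov : ∀ y : Y, ∃ T ∈ W, y ∈ T) :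
    IsOpenCover (fun T : W => p ⁻¹ᵁ T.1) := by
  rw [IsOpenCover, _root_.eq_top_iff]
  intro x _
  obtain ⟨T, hT, hx⟩ := hcov (p x)
  exact Opens.mem_iSup.2 ⟨⟨T, hT⟩, hx⟩

theorem hom_ext_basis (W : Set Y.Opens) (hcov : ∀ y : Y, ∃ T ∈ W, y ∈ T) (e e' : P ⟶ Z)
    (h : ∀ T ∈ W, (p ⁻¹ᵁ T).ι ≫ e = (p ⁻¹ᵁ T).ι ≫ e') : e = e' := by
  apply (P.openCoverOfIsOpenCover _ (isOpenCover_preimage_basis p W hcov)).hom_ext
  intro T
  exact h T.1 T.2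

theorem transport_basis (W : Set Y.Opens)
    (g : ∀ T ∈ W, ((p ⁻¹ᵁ T : P.Opens) : Scheme.{u}) ⟶ Z)
    (D D' : Y.Opens) (hD : D ∈ W) (hD' : D' ∈ W) (e : D = D')
    (V : Y.Opens) (hV : V ∈ W) (h1 : p ⁻¹ᵁ D ≤ p ⁻¹ᵁ V) (h2 : p ⁻¹ᵁ D' ≤ p ⁻¹ᵁ V)
    (h : P.homOfLE h2 ≫ g V hV = g D' hD') : P.homOfLE h1 ≫ g V hV = g D hD := by
  subst e
  exact h

/-- gluing morphisms along the cover `p⁻¹(T)`, `T` in a family of affine opens stable under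
basic opens and covering `Y` -/
theorem existsUnique_glue_basis (W : Set Y.Opens) (hW : ∀ T ∈ W, IsAffineOpen T)
    (hcov : ∀ y : Y, ∃ T ∈ W, y ∈ T)
    (hbasic : ∀ T ∈ W, ∀ r : Γ(Y, T), Y.basicOpen r ∈ W)
    (g : ∀ T ∈ W, ((p ⁻¹ᵁ T : P.Opens) : Scheme.{u}) ⟶ Z)
    (hg : ∀ (T : Y.Opens) (hT : T ∈ W) (r : Γ(Y, T)),
      P.homOfLE (p.preimage_mono (Y.basicOpen_le r)) ≫ g T hT =
        g (Y.basicOpen r) (hbasic T hT r)) :
    ∃! e : P ⟶ Z, ∀ (T : Y.Opens) (hT : T ∈ W), (p ⁻¹ᵁ T).ι ≫ e = g T hT := by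
  let Wf : W → P.Opens := fun T => p ⁻¹ᵁ T.1
  have hWf : IsOpenCover Wf := isOpenCover_preimage_basis p W hcov
  have compat : ∀ U V : W,
      P.homOfLE (inf_le_left : Wf U ⊓ Wf V ≤ Wf U) ≫ g U.1 U.2 =
        P.homOfLE (inf_le_right : Wf U ⊓ Wf V ≤ Wf V) ≫ g V.1 V.2 := by
    intro U V
    apply hom_ext_opens
    intro x hx
    obtain ⟨r, s, e, hxr⟩ := exists_basicOpen_le_affine_inter (hW U.1 U.2) (hW V.1 V.2) (p x)
      ⟨hx.1, hx.2⟩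
    have hT1 : p ⁻¹ᵁ (Y.basicOpen r) ≤ Wf U := p.preimage_mono (Y.basicOpen_le r)
    have hT2 : p ⁻¹ᵁ (Y.basicOpen r) ≤ Wf V := by
      rw [e]; exact p.preimage_mono (Y.basicOpen_le s)
    refine ⟨p ⁻¹ᵁ (Y.basicOpen r), le_inf hT1 hT2, hxr, ?_⟩
    rw [Scheme.homOfLE_homOfLE_assoc, Scheme.homOfLE_homOfLE_assoc, hg U.1 U.2 r]
    exact (transport_basis p W g _ _ (hbasic U.1 U.2 r) (hbasic V.1 V.2 s) e V.1 V.2 hT2
      (p.preimage_mono (Y.basicOpen_le s)) (hg V.1 V.2 s)).symm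
  let 𝒰 := P.openCoverOfIsOpenCover Wf hWf
  have compat' : ∀ U V : W,
      pullback.fst (𝒰.f U) (𝒰.f V) ≫ g U.1 U.2 = pullback.snd (𝒰.f U) (𝒰.f V) ≫ g V.1 V.2 := by
    intro U V
    let i : pullback (𝒰.f U) (𝒰.f V) ≅ (Wf U ⊓ Wf V : P.Opens) :=
      (isPullback_opens_inf _ _).isoPullback.symm
    rw [← cancel_epi i.inv]
    have h1 : i.inv ≫ pullback.fst (𝒰.f U) (𝒰.f V) = P.homOfLE inf_le_left :=
      (isPullback_opens_inf (Wf U) (Wf V)).isoPullback_hom_fst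
    have h2 : i.inv ≫ pullback.snd (𝒰.f U) (𝒰.f V) = P.homOfLE inf_le_right :=
      (isPullback_opens_inf (Wf U) (Wf V)).isoPullback_hom_snd
    rw [reassoc_of% h1, reassoc_of% h2]
    exact compat U V
  refine ⟨𝒰.glueMorphisms (fun U => g U.1 U.2) compat', ?_, ?_⟩
  · intro U hU
    exact 𝒰.ι_glueMorphisms _ _ ⟨U, hU⟩
  · intro e' he'
    apply hom_ext_basis p W hcov
    intro U hU
    rw [he' U hU]
    exact (𝒰.ι_glueMorphisms (fun U => g U.1 U.2) compat' ⟨U, hU⟩).symm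

end Groth.Agent.Helper1.GG
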