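import Mathlib
import Groth.Prelude.Def_RelProj
import Groth.Agent.Helper1.GG1
import Groth.Agent.Helper1.GG4
import Groth.Agent.Helper1.RP3

/-!
# Gluing a morphism of relative homogeneous spectra from chartwise graded homomorphisms
which are only defined up to scaling
-/

set_option autoImplicit false
set_option linter.style.haveILetI false

namespace Groth.Agent.Helper1.GG

open CategoryTheory Limits AlgebraicGeometry TopologicalSpace Opposite RelProj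
  Groth.Agent.Helper1.RP
open scoped HomogeneousIdeal

universe u

variable {Y : Scheme.{u}}

/-- a family of graded homomorphisms `𝒜(T) → ℬ(T)` over a basis of affine opens, unique up to
scaling by powers of a degree-zero element, and compatible with restriction to basic opens -/
structure ThetaFamily (𝒜 ℬ : QCGrAlg Y) where
  Θ : ∀ (T : Y.Opens) (hT : IsAffineOpen T), Set (𝒜.deg T hT →+*ᵍ ℬ.deg T hT)
  cov : ∀ y : Y, ∃ (T : Y.Opens) (hT : IsAffineOpen T), y ∈ T ∧ (Θ T hT).Nonempty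
  irr : ∀ (T : Y.Opens) (hT : IsAffineOpen T) (θ : 𝒜.deg T hT →+*ᵍ ℬ.deg T hT), θ ∈ Θ T hT →
    (ℬ.deg T hT)₊ ≤ ((𝒜.deg T hT)₊).map θ
  str : ∀ (T : Y.Opens) (hT : IsAffineOpen T) (θ : 𝒜.deg T hT →+*ᵍ ℬ.deg T hT), θ ∈ Θ T hT →
    ∀ r : Γ(Y, T), θ ((𝒜.str.app (op T)).hom r) = (ℬ.str.app (op T)).hom r
  uniq : ∀ (T : Y.Opens) (hT : IsAffineOpen T) (θ₁ θ₂ : 𝒜.deg T hT →+*ᵍ ℬ.deg T hT),
    θ₁ ∈ Θ T hT → θ₂ ∈ Θ T hT →
    ∃ u ∈ ℬ.deg T hT 0, ∀ (n : ℕ) (x : 𝒜.presheaf.obj (op T)), x ∈ 𝒜.deg T hT n →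
      θ₂ x = u ^ n * θ₁ x
  res : ∀ (T : Y.Opens) (hT : IsAffineOpen T) (θ : 𝒜.deg T hT →+*ᵍ ℬ.deg T hT), θ ∈ Θ T hT →
    ∀ r : Γ(Y, T), ∃ θ' ∈ Θ (Y.basicOpen r) (hT.basicOpen r),
      θ'.comp (𝒜.res hT (hT.basicOpen r) (Y.basicOpen_le r)) =
        (ℬ.res hT (hT.basicOpen r) (Y.basicOpen_le r)).comp θ

namespace ThetaFamily

variable {𝒜 ℬ : QCGrAlg Y} (F : ThetaFamily 𝒜 ℬ)
  {PA PB : Scheme.{u}} {pA : PA ⟶ Y} {pB : PB ⟶ Y}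
  {chartA : ∀ (U : Y.Opens) (hU : IsAffineOpen U),
    ((pA ⁻¹ᵁ U : PA.Opens) : Scheme.{u}) ≅ Proj (𝒜.deg U hU)}
  {chartB : ∀ (U : Y.Opens) (hU : IsAffineOpen U),
    ((pB ⁻¹ᵁ U : PB.Opens) : Scheme.{u}) ≅ Proj (ℬ.deg U hU)}

/-- the opens on which the family is defined -/
def dom : Set Y.Opens := {T | ∃ hT : IsAffineOpen T, (F.Θ T hT).Nonempty}

/-- the local morphism attached to a member of the family -/
noncomputable def loc (chartA : ∀ (U : Y.Opens) (hU : IsAffineOpen U),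
      ((pA ⁻¹ᵁ U : PA.Opens) : Scheme.{u}) ≅ Proj (𝒜.deg U hU))
    (chartB : ∀ (U : Y.Opens) (hU : IsAffineOpen U),
      ((pB ⁻¹ᵁ U : PB.Opens) : Scheme.{u}) ≅ Proj (ℬ.deg U hU))
    (T : Y.Opens) (hT : IsAffineOpen T) (θ : 𝒜.deg T hT →+*ᵍ ℬ.deg T hT) (hθ : θ ∈ F.Θ T hT) :
    ((pB ⁻¹ᵁ T : PB.Opens) : Scheme.{u}) ⟶ PA :=
  (chartB T hT).hom ≫ Proj.map θ (F.irr T hT θ hθ) ≫ (chartA T hT).inv ≫ (pA ⁻¹ᵁ T).ι

theorem loc_indep (T : Y.Opens) (hT : IsAffineOpen T) (θ₁ θ₂ : 𝒜.deg T hT →+*ᵍ ℬ.deg T hT)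
    (h₁ : θ₁ ∈ F.Θ T hT) (h₂ : θ₂ ∈ F.Θ T hT) :
    F.loc chartA chartB T hT θ₁ h₁ = F.loc chartA chartB T hT θ₂ h₂ := by
  obtain ⟨u, hu, h⟩ := F.uniq T hT θ₁ θ₂ h₁ h₂
  unfold loc
  rw [map_eq_of_scale θ₁ θ₂ (F.irr T hT θ₁ h₁) (F.irr T hT θ₂ h₂) u hu h]

theorem loc_res (hA : IsRelProj 𝒜 pA chartA) (hB : IsRelProj ℬ pB chartB)
    (T : Y.Opens) (hT : IsAffineOpen T) (θ : 𝒜.deg T hT →+*ᵍ ℬ.deg T hT) (hθ : θ ∈ F.Θ T hT)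
    (r : Γ(Y, T)) (θ' : 𝒜.deg (Y.basicOpen r) (hT.basicOpen r) →+*ᵍ
      ℬ.deg (Y.basicOpen r) (hT.basicOpen r))
    (hθ' : θ' ∈ F.Θ (Y.basicOpen r) (hT.basicOpen r))
    (hsq : θ'.comp (𝒜.res hT (hT.basicOpen r) (Y.basicOpen_le r)) =
        (ℬ.res hT (hT.basicOpen r) (Y.basicOpen_le r)).comp θ) :
    PB.homOfLE (pB.preimage_mono (Y.basicOpen_le r)) ≫ F.loc chartA chartB T hT θ hθ =
      F.loc chartA chartB (Y.basicOpen r) (hT.basicOpen r) θ' hθ' := by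
  unfold loc
  rw [reassoc_of% hB.chart_res T hT r]
  rw [reassoc_of% map_square θ (ℬ.res hT (hT.basicOpen r) (Y.basicOpen_le r))
    (𝒜.res hT (hT.basicOpen r) (Y.basicOpen_le r)) θ' hsq.symm (F.irr T hT θ hθ)
    (ℬ.irrelevant_le_map T hT r) (𝒜.irrelevant_le_map T hT r)
    (F.irr _ _ θ' hθ')]
  rw [reassoc_of% chart_res_inv hA T hT r, Scheme.homOfLE_ι]

theorem loc_comm (hA : IsRelProj 𝒜 pA chartA) (hB : IsRelProj ℬ pB chartB)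
    (T : Y.Opens) (hT : IsAffineOpen T) (θ : 𝒜.deg T hT →+*ᵍ ℬ.deg T hT) (hθ : θ ∈ F.Θ T hT) :
    F.loc chartA chartB T hT θ hθ ≫ pA = (pB ⁻¹ᵁ T).ι ≫ pB := by
  unfold loc
  rw [Category.assoc, Category.assoc, Category.assoc, chart_inv_ι_p hA T hT]
  have h1 : Proj.map θ (F.irr T hT θ hθ) ≫ RP.str 𝒜 T hT = RP.str ℬ T hT := by
    have h2 : 𝒜.strZero T hT ≫ CommRingCat.ofHom θ.gradedZeroRingHom = ℬ.strZero T hT := by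
      ext r
      exact F.str T hT θ hθ r
    unfold RP.str
    rw [reassoc_of% map_toSpecZero θ (F.irr T hT θ hθ), ← Spec.map_comp_assoc, h2]
  rw [h1, chart_str hB]

theorem dom_affine : ∀ T ∈ F.dom, IsAffineOpen T := fun _ h => h.1

theorem dom_cov : ∀ y : Y, ∃ T ∈ F.dom, y ∈ T := by
  intro y
  obtain ⟨T, hT, hy, hne⟩ := F.cov y
  exact ⟨T, ⟨hT, hne⟩, hy⟩

theorem dom_basic : ∀ T ∈ F.dom, ∀ r : Γ(Y, T), Y.basicOpen r ∈ F.dom := by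
  rintro T ⟨hT, θ, hθ⟩ r
  obtain ⟨θ', hθ', -⟩ := F.res T hT θ hθ r
  exact ⟨hT.basicOpen r, θ', hθ'⟩

/-- **gluing**: the morphism `PB ⟶ PA` which is chartwise `Proj.map θ` -/
theorem existsUnique_glue (hA : IsRelProj 𝒜 pA chartA) (hB : IsRelProj ℬ pB chartB) :
    ∃! Φ : PB ⟶ PA, ∀ (T : Y.Opens) (hT : IsAffineOpen T) (θ : 𝒜.deg T hT →+*ᵍ ℬ.deg T hT)
      (hθ : θ ∈ F.Θ T hT), (pB ⁻¹ᵁ T).ι ≫ Φ = F.loc chartA chartB T hT θ hθ := by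
  let g : ∀ T ∈ F.dom, ((pB ⁻¹ᵁ T : PB.Opens) : Scheme.{u}) ⟶ PA := fun T h =>
    F.loc chartA chartB T h.1 (Classical.choose h.2) (Classical.choose_spec h.2)
  have hg : ∀ (T : Y.Opens) (hT : T ∈ F.dom) (r : Γ(Y, T)),
      PB.homOfLE (pB.preimage_mono (Y.basicOpen_le r)) ≫ g T hT =
        g (Y.basicOpen r) (F.dom_basic T hT r) := by
    intro T hT r
    obtain ⟨θ', hθ', hsq⟩ := F.res T hT.1 (Classical.choose hT.2) (Classical.choose_spec hT.2) r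
    change _ ≫ F.loc chartA chartB T hT.1 _ _ = _
    rw [F.loc_res hA hB T hT.1 _ _ r θ' hθ' hsq]
    exact F.loc_indep _ _ _ _ _ _
  obtain ⟨Φ, hΦ, hu⟩ := existsUnique_glue_basis pB F.dom F.dom_affine F.dom_cov F.dom_basic g hg
  refine ⟨Φ, ?_, ?_⟩
  · intro T hT θ hθ
    rw [hΦ T ⟨hT, θ, hθ⟩]
    exact F.loc_indep _ _ _ _ _ _
  · intro Φ' hΦ'
    apply hu
    intro T hT
    exact hΦ' T hT.1 _ _

theorem glue_comm (hA : IsRelProj 𝒜 pA chartA) (hB : IsRelProj ℬ pB chartB) (Φ : PB ⟶ PA)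
    (hΦ : ∀ (T : Y.Opens) (hT : IsAffineOpen T) (θ : 𝒜.deg T hT →+*ᵍ ℬ.deg T hT)
      (hθ : θ ∈ F.Θ T hT), (pB ⁻¹ᵁ T).ι ≫ Φ = F.loc chartA chartB T hT θ hθ) :
    Φ ≫ pA = pB := by
  apply hom_ext_basis pB F.dom F.dom_cov
  rintro T ⟨hT, θ, hθ⟩
  rw [reassoc_of% hΦ T hT θ hθ, F.loc_comm hA hB]

end ThetaFamily

end Groth.Agent.Helper1.GG
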