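import Mathlib
import Groth.Agent.Helper1.GG5

/-!
# Composing two glued morphisms of relative homogeneous spectra
-/

set_option autoImplicit false
set_option linter.style.haveILetI false

namespace Groth.Agent.Helper1.GG

open CategoryTheory Limits AlgebraicGeometry TopologicalSpace Opposite RelProj
  Groth.Agent.Helper1.RP
open scoped HomogeneousIdeal

universe u

section ring

variable {A σ : Type u} [CommRing A] [SetLike σ A] [AddSubgroupClass σ A] {𝒜 : ℕ → σ} [GradedRing 𝒜]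
variable {B τ : Type u} [CommRing B] [SetLike τ B] [AddSubgroupClass τ B] {ℬ : ℕ → τ} [GradedRing ℬ]

/-- if `θ ∘ θ'` is a scaling of the identity then `Proj.map θ ≫ Proj.map θ' = 𝟙` -/
theorem map_comp_map_eq_id (θ : 𝒜 →+*ᵍ ℬ) (θ' : ℬ →+*ᵍ 𝒜) (hθ : ℬ₊ ≤ 𝒜₊.map θ)
    (hθ' : 𝒜₊ ≤ ℬ₊.map θ') (u : B) (hu : u ∈ ℬ 0)
    (h : ∀ (n : ℕ) (x : B), x ∈ ℬ n → θ (θ' x) = u ^ n * x) :
    Proj.map θ hθ ≫ Proj.map θ' hθ' = 𝟙 (Proj ℬ) := by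
  rw [← Proj.map_comp, ← Proj.map_id]
  exact map_eq_of_scale (GradedRingHom.id ℬ) (θ.comp θ') _ _ u hu h

end ring

variable {Y : Scheme.{u}} {𝒜 ℬ : QCGrAlg Y} (F : ThetaFamily 𝒜 ℬ) (G : ThetaFamily ℬ 𝒜)
  {PA PB : Scheme.{u}} {pA : PA ⟶ Y} {pB : PB ⟶ Y}
  {chartA : ∀ (U : Y.Opens) (hU : IsAffineOpen U),
    ((pA ⁻¹ᵁ U : PA.Opens) : Scheme.{u}) ≅ Proj (𝒜.deg U hU)}
  {chartB : ∀ (U : Y.Opens) (hU : IsAffineOpen U),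
    ((pB ⁻¹ᵁ U : PB.Opens) : Scheme.{u}) ≅ Proj (ℬ.deg U hU)}

theorem ThetaFamily.comp_eq_id (Φ : PB ⟶ PA)
    (hΦ : ∀ (T : Y.Opens) (hT : IsAffineOpen T) (θ : 𝒜.deg T hT →+*ᵍ ℬ.deg T hT)
      (hθ : θ ∈ F.Θ T hT), (pB ⁻¹ᵁ T).ι ≫ Φ = F.loc chartA chartB T hT θ hθ)
    (Ψ : PA ⟶ PB)
    (hΨ : ∀ (T : Y.Opens) (hT : IsAffineOpen T) (θ : ℬ.deg T hT →+*ᵍ 𝒜.deg T hT)
      (hθ : θ ∈ G.Θ T hT), (pA ⁻¹ᵁ T).ι ≫ Ψ = G.loc chartB chartA T hT θ hθ)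
    (h : ∀ y : Y, ∃ (T : Y.Opens) (hT : IsAffineOpen T), y ∈ T ∧
      ∃ θ ∈ F.Θ T hT, ∃ θ' ∈ G.Θ T hT, ∃ u ∈ ℬ.deg T hT 0,
        ∀ (n : ℕ) (x : ℬ.presheaf.obj (op T)), x ∈ ℬ.deg T hT n → θ (θ' x) = u ^ n * x) :
    Φ ≫ Ψ = 𝟙 PB := by
  let W : Set Y.Opens := {T | ∃ hT : IsAffineOpen T,
      ∃ θ ∈ F.Θ T hT, ∃ θ' ∈ G.Θ T hT, ∃ u ∈ ℬ.deg T hT 0,
        ∀ (n : ℕ) (x : ℬ.presheaf.obj (op T)), x ∈ ℬ.deg T hT n → θ (θ' x) = u ^ n * x}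
  have hcov : ∀ y : Y, ∃ T ∈ W, y ∈ T := by
    intro y
    obtain ⟨T, hT, hy, hh⟩ := h y
    exact ⟨T, ⟨hT, hh⟩, hy⟩
  apply hom_ext_basis pB W hcov
  rintro T ⟨hT, θ, hθ, θ', hθ', u, hu, hh⟩
  rw [reassoc_of% hΦ T hT θ hθ, Category.comp_id]
  unfold ThetaFamily.loc
  simp only [Category.assoc]
  rw [hΨ T hT θ' hθ']
  unfold ThetaFamily.loc
  rw [Iso.inv_hom_id_assoc,
    reassoc_of% map_comp_map_eq_id θ θ' (F.irr T hT θ hθ) (G.irr T hT θ' hθ') u hu hh,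
    Iso.hom_inv_id_assoc]

end Groth.Agent.Helper1.GG
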