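import Mathlib
import Groth.Agent.Helper1.PC1
import Groth.Agent.Helper1.PL1

/-!
# Graded rings which are polynomial rings in two variables of degree one
-/

set_option autoImplicit false

namespace Groth.Agent.Helper1.GG

open HomogeneousLocalization DirectSum
open scoped HomogeneousIdeal

universe u

/-- `B` with its grading is the polynomial ring `R[x, y]` with `x`, `y` in degree one -/
structure TwoVar (R : Type u) [CommRing R] {B : Type u} [CommRing B] (ℬ : ℕ → AddSubgroup B)
    [GradedRing ℬ] (s : R →+* B) (x y : B) : Prop where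
  s_mem : ∀ r, s r ∈ ℬ 0
  x_mem : x ∈ ℬ 1
  y_mem : y ∈ ℬ 1
  decomp : ∀ (n : ℕ) (b : B), b ∈ ℬ n →
    ∃ a : ℕ → R, b = ∑ k ∈ Finset.range (n + 1), s (a k) * x ^ (n - k) * y ^ k
  lift : ∀ {C : Type u} [CommRing C] (σ : R →+* C) (X Y : C),
    ∃ θ : B →+* C, (∀ r, θ (s r) = σ r) ∧ θ x = X ∧ θ y = Y
  ext : ∀ {C : Type u} [CommRing C] (θ θ' : B →+* C), (∀ r, θ (s r) = θ' (s r)) →
    θ x = θ' x → θ y = θ' y → θ = θ'

section build

variable {R A B : Type u} [CommRing R] [CommRing A] [CommRing B]
  {𝒜 : ℕ → AddSubgroup A} [GradedRing 𝒜] {ℬ : ℕ → AddSubgroup B} [GradedRing ℬ]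

/-- `A = R[t]`, `B = A[z]` gives `B = R[ι t, z]` -/
theorem twoVar_of_poly (s : R →+* A) (hs : ∀ r, s r ∈ 𝒜 0) (t : A) (ht : t ∈ 𝒜 1)
    (hA : Function.Bijective (Polynomial.eval₂RingHom s t))
    (ι : 𝒜 →+*ᵍ ℬ) (z : B) (hz : z ∈ ℬ 1)
    (hB : Function.Bijective (Polynomial.eval₂RingHom (ι : A →+* B) z)) :
    TwoVar R ℬ ((ι : A →+* B).comp s) (ι t) z where
  s_mem r := ι.map_mem (hs r)
  x_mem := ι.map_mem ht
  y_mem := hz
  decomp n b hb := by
    obtain ⟨P, rfl⟩ := hB.2 b
    change Polynomial.eval₂ (ι : A →+* B) z P ∈ ℬ n at hb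
    have h1 := Groth.Agent.Helper1.PC.eq_sum_of_mem ι z hz P hb
    have h2 : ∀ k : ℕ, ∃ r : R, GradedRing.proj 𝒜 (n - k) (P.coeff k) = s r * t ^ (n - k) := by
      intro k
      have hm : GradedRing.proj 𝒜 (n - k) (P.coeff k) ∈ 𝒜 (n - k) := by
        rw [GradedRing.proj_apply]
        exact SetLike.coe_mem _
      exact Groth.Agent.Helper1.PL.exists_eq_of_mem s hs t ht hA.2 hm
    choose a ha using h2
    refine ⟨a, ?_⟩
    change Polynomial.eval₂ (ι : A →+* B) z P = _
    rw [h1]
    apply Finset.sum_congr rfl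
    intro k _
    rw [ha k, map_mul, map_pow]
    rfl
  lift {C} _ σ X Y := by
    let eA : Polynomial R ≃+* A := RingEquiv.ofBijective _ hA
    let eB : Polynomial A ≃+* B := RingEquiv.ofBijective _ hB
    let θA : A →+* C := (Polynomial.eval₂RingHom σ X).comp eA.symm.toRingHom
    let θ : B →+* C := (Polynomial.eval₂RingHom θA Y).comp eB.symm.toRingHom
    have hA1 : ∀ r, eA.symm (s r) = Polynomial.C r := by
      intro r
      rw [RingEquiv.symm_apply_eq]
      change s r = Polynomial.eval₂ s t (Polynomial.C r)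
      rw [Polynomial.eval₂_C]
    have hA2 : eA.symm t = Polynomial.X := by
      rw [RingEquiv.symm_apply_eq]
      change t = Polynomial.eval₂ s t Polynomial.X
      rw [Polynomial.eval₂_X]
    have hB1 : ∀ a, eB.symm (ι a) = Polynomial.C a := by
      intro a
      rw [RingEquiv.symm_apply_eq]
      change ι a = Polynomial.eval₂ (ι : A →+* B) z (Polynomial.C a)
      rw [Polynomial.eval₂_C]
      rfl
    have hB2 : eB.symm z = Polynomial.X := by
      rw [RingEquiv.symm_apply_eq]
      change z = Polynomial.eval₂ (ι : A →+* B) z Polynomial.X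
      rw [Polynomial.eval₂_X]
    refine ⟨θ, ?_, ?_, ?_⟩
    · intro r
      change Polynomial.eval₂ θA Y (eB.symm (ι (s r))) = σ r
      rw [hB1, Polynomial.eval₂_C]
      change Polynomial.eval₂ σ X (eA.symm (s r)) = σ r
      rw [hA1, Polynomial.eval₂_C]
    · change Polynomial.eval₂ θA Y (eB.symm (ι t)) = X
      rw [hB1, Polynomial.eval₂_C]
      change Polynomial.eval₂ σ X (eA.symm t) = X
      rw [hA2, Polynomial.eval₂_X]
    · change Polynomial.eval₂ θA Y (eB.symm z) = Y
      rw [hB2, Polynomial.eval₂_X]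
  ext {C} _ θ θ' h1 h2 h3 := by
    have hA' : (θ.comp (ι : A →+* B)) = (θ'.comp (ι : A →+* B)) := by
      ext a
      obtain ⟨p, rfl⟩ := hA.2 a
      change θ (ι (Polynomial.eval₂ s t p)) = θ' (ι (Polynomial.eval₂ s t p))
      induction p using Polynomial.induction_on' with
      | add p q hp hq =>
        rw [Polynomial.eval₂_add, map_add, map_add, map_add, hp, hq]
      | monomial n r =>
        rw [Polynomial.eval₂_monomial, map_mul, map_mul, map_mul, map_pow, map_pow, map_pow]
        have := h1 r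
        change θ (ι (s r)) = θ' (ι (s r)) at this
        rw [this, h2]
    ext b
    obtain ⟨P, rfl⟩ := hB.2 b
    change θ (Polynomial.eval₂ (ι : A →+* B) z P) = θ' (Polynomial.eval₂ (ι : A →+* B) z P)
    induction P using Polynomial.induction_on' with
    | add p q hp hq => rw [Polynomial.eval₂_add, map_add, map_add, hp, hq]
    | monomial n a =>
      rw [Polynomial.eval₂_monomial, map_mul, map_mul, map_pow, map_pow, h3]
      have := congrArg (fun k : A →+* C => k a) hA'
      simp only [RingHom.comp_apply] at this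
      rw [this]

end build

end Groth.Agent.Helper1.GG
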