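import Mathlib
import Groth.Agent.Helper1.GG2

/-!
# Graded homomorphisms out of `R[x, y]`
-/

set_option autoImplicit false

namespace Groth.Agent.Helper1.GG

open HomogeneousLocalization DirectSum
open scoped HomogeneousIdeal

universe u

variable {R B C : Type u} [CommRing R] [CommRing B] [CommRing C]
  {ℬ : ℕ → AddSubgroup B} [GradedRing ℬ] {𝒞 : ℕ → AddSubgroup C} [GradedRing 𝒞]
  {s : R →+* B} {x y : B}

theorem TwoVar.term_mem (h : TwoVar R ℬ s x y) (r : R) (n k : ℕ) (hk : k ≤ n) :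
    s r * x ^ (n - k) * y ^ k ∈ ℬ n := by
  have h1 : x ^ (n - k) ∈ ℬ ((n - k) • 1) := SetLike.pow_mem_graded _ h.x_mem
  have h2 : y ^ k ∈ ℬ (k • 1) := SetLike.pow_mem_graded _ h.y_mem
  have h3 := SetLike.mul_mem_graded (SetLike.mul_mem_graded (h.s_mem r) h1) h2
  have e : 0 + (n - k) • 1 + k • 1 = n := by
    simp only [smul_eq_mul, mul_one]; omega
  rwa [e] at h3

/-- a ring homomorphism out of `R[x, y]` sending `R` to degree zero and `x`, `y` to degree one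
is graded -/
theorem TwoVar.map_mem (h : TwoVar R ℬ s x y) (θ : B →+* C) (h0 : ∀ r, θ (s r) ∈ 𝒞 0)
    (hx : θ x ∈ 𝒞 1) (hy : θ y ∈ 𝒞 1) {n : ℕ} {b : B} (hb : b ∈ ℬ n) : θ b ∈ 𝒞 n := by
  obtain ⟨a, rfl⟩ := h.decomp n b hb
  rw [map_sum]
  refine sum_mem fun k hk => ?_
  rw [Finset.mem_range] at hk
  rw [map_mul, map_mul, map_pow, map_pow]
  have h1 : θ x ^ (n - k) ∈ 𝒞 ((n - k) • 1) := SetLike.pow_mem_graded _ hx
  have h2 : θ y ^ k ∈ 𝒞 (k • 1) := SetLike.pow_mem_graded _ hy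
  have h3 := SetLike.mul_mem_graded (SetLike.mul_mem_graded (h0 (a k)) h1) h2
  have e : 0 + (n - k) • 1 + k • 1 = n := by
    simp only [smul_eq_mul, mul_one]; omega
  rwa [e] at h3

/-- graded homomorphisms out of `R[x, y]` -/
theorem TwoVar.exists_gradedHom (h : TwoVar R ℬ s x y) (σ : R →+* C) (h0 : ∀ r, σ r ∈ 𝒞 0)
    (X Y : C) (hX : X ∈ 𝒞 1) (hY : Y ∈ 𝒞 1) :
    ∃ θ : ℬ →+*ᵍ 𝒞, (∀ r, θ (s r) = σ r) ∧ θ x = X ∧ θ y = Y := by
  obtain ⟨θ, h1, h2, h3⟩ := h.lift σ X Y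
  have hm : ∀ {n : ℕ} {b : B}, b ∈ ℬ n → θ b ∈ 𝒞 n := fun hb =>
    h.map_mem θ (fun r => by rw [h1]; exact h0 r) (by rw [h2]; exact hX)
      (by rw [h3]; exact hY) hb
  exact ⟨{ θ with map_mem := hm }, h1, h2, h3⟩

theorem TwoVar.gradedHom_ext (h : TwoVar R ℬ s x y) (θ θ' : ℬ →+*ᵍ 𝒞)
    (h1 : ∀ r, θ (s r) = θ' (s r)) (h2 : θ x = θ' x) (h3 : θ y = θ' y) : θ = θ' := by
  have := h.ext (θ : B →+* C) (θ' : B →+* C) h1 h2 h3
  apply GradedRingHom.ext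
  intro b
  exact congrArg (fun k : B →+* C => k b) this

/-- scaling the images of the two variables by `w` scales degree `n` by `w ^ n` -/
theorem TwoVar.scale (h : TwoVar R ℬ s x y) (θ θ' : B →+* C) (w : C)
    (h1 : ∀ r, θ' (s r) = θ (s r)) (h2 : θ' x = w * θ x) (h3 : θ' y = w * θ y)
    {n : ℕ} {b : B} (hb : b ∈ ℬ n) : θ' b = w ^ n * θ b := by
  obtain ⟨a, rfl⟩ := h.decomp n b hb
  rw [map_sum, map_sum, Finset.mul_sum]
  apply Finset.sum_congr rfl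
  intro k hk
  rw [Finset.mem_range] at hk
  rw [map_mul, map_mul, map_pow, map_pow, map_mul, map_mul, map_pow, map_pow, h1, h2, h3,
    mul_pow, mul_pow]
  have e : w ^ n = w ^ (n - k) * w ^ k := by
    rw [← pow_add]; congr 1; omega
  rw [e]
  ring

/-- the irrelevant ideal of `R[x, y]` is generated by `x` and `y` -/
theorem TwoVar.irrelevant_le (h : TwoVar R ℬ s x y) (I : Ideal B) (hx : x ∈ I) (hy : y ∈ I) :
    (ℬ₊).toIdeal ≤ I := by
  rw [HomogeneousIdeal.toIdeal_irrelevant_le]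
  intro n hn b hb
  obtain ⟨a, rfl⟩ := h.decomp n b hb
  change _ ∈ I
  refine sum_mem fun k hk => ?_
  rw [Finset.mem_range] at hk
  rcases Nat.eq_zero_or_pos k with rfl | hk0
  · have : x ^ (n - 0) = x * x ^ (n - 1) := by
      rw [Nat.sub_zero, ← pow_succ']; congr 1; omega
    rw [this, pow_zero, mul_one, ← mul_assoc, mul_comm (s (a 0)) x, mul_assoc]
    exact I.mul_mem_right _ hx
  · have : y ^ k = y ^ (k - 1) * y := by
      rw [← pow_succ]; congr 1; omega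
    rw [this, ← mul_assoc]
    exact I.mul_mem_left _ hy

theorem TwoVar.irrelevant_le_map {B' : Type u} [CommRing B'] {ℬ' : ℕ → AddSubgroup B'}
    [GradedRing ℬ'] (h : TwoVar R ℬ s x y) (θ : ℬ' →+*ᵍ ℬ)
    (hx : ∃ b ∈ (ℬ'₊).toIdeal, θ b = x) (hy : ∃ b ∈ (ℬ'₊).toIdeal, θ b = y) :
    ℬ₊ ≤ (ℬ'₊).map θ := by
  change (ℬ₊).toIdeal ≤ ((ℬ'₊).map θ).toIdeal
  rw [HomogeneousIdeal.toIdeal_map]
  apply h.irrelevant_le
  · obtain ⟨b, hb, rfl⟩ := hx
    exact Ideal.mem_map_of_mem _ hb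
  · obtain ⟨b, hb, rfl⟩ := hy
    exact Ideal.mem_map_of_mem _ hb

end Groth.Agent.Helper1.GG
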