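import Mathlib
import Groth.Agent.Helper1.GG3
import Groth.Agent.Helper1.GF9

/-!
# The projective closure of a line bundle over a framed affine open is `Proj O(T)[x, y]`
-/

set_option autoImplicit false
set_option linter.style.haveILetI false

namespace Groth.Agent.Helper1.GG

open CategoryTheory Limits AlgebraicGeometry TopologicalSpace Opposite RelProj RelCone
  HomogeneousLocalization Groth.Agent.Helper1.PC Groth.Agent.Helper1.PL Groth.Agent.Helper1.RP
  Groth.Agent.Helper1.CC Groth.Agent.Helper1.GF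
  Groth.Agent.Helper4.TwistExt Groth.Agent.Helper4.SN348
open scoped HomogeneousIdeal

universe u

noncomputable section

variable {Y : Scheme.{u}} {L : Y.Modules} {𝒮 𝒮h : QCGrAlg Y}
  (j : L ⟶ 𝒮.toModule) (ι : 𝒮.toQCAlg ⟶ 𝒮h.toQCAlg) (z : 𝒮h.presheaf.obj (op ⊤))

/-- the degree-one element `ι (j e)` of `𝒮h(T)` attached to a section of `L` -/
def xOf (T : Y.Opens) (e : Γ(L, T)) : 𝒮h.presheaf.obj (op T) :=
  (ι.hom.app (op T)).hom (j.app T e)

theorem xOf_smul (T : Y.Opens) (a : Γ(Y, T)) (e : Γ(L, T)) :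
    xOf j ι T (a • e) = (𝒮h.str.app (op T)).hom a * xOf j ι T e := by
  unfold xOf
  have h1 : (show 𝒮.presheaf.obj (op T) from j.app T (a • e)) =
      (𝒮.str.app (op T)).hom a * (show 𝒮.presheaf.obj (op T) from j.app T e) :=
    Scheme.Modules.Hom.app_smul j a e
  change (ι.hom.app (op T)).hom (show 𝒮.presheaf.obj (op T) from j.app T (a • e)) = _
  rw [h1, map_mul, ι_str]

theorem xOf_res {T V : Y.Opens} (hVT : V ≤ T) (e : Γ(L, T)) :
    (𝒮h.presheaf.map (homOfLE hVT).op).hom (xOf j ι T e) =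
      xOf j ι V (L.presheaf.map (homOfLE hVT).op e) := by
  unfold xOf
  rw [Groth.Agent.Helper4.StalkExact.app_res j (homOfLE hVT) e]
  have nat := ι.hom.naturality (homOfLE hVT).op
  exact (congrArg (fun f => f.hom (j.app T e)) nat).symm

theorem restrictTop_res {T V : Y.Opens} (hVT : V ≤ T) :
    (𝒮h.presheaf.map (homOfLE hVT).op).hom (restrictTop 𝒮h z T) = restrictTop 𝒮h z V := by
  unfold restrictTop
  rw [← CommRingCat.comp_apply, ← Functor.map_comp]
  rfl

theorem str_res (𝒮h : QCGrAlg Y) {T V : Y.Opens} (hVT : V ≤ T) (a : Γ(Y, T)) :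
    (𝒮h.presheaf.map (homOfLE hVT).op).hom ((𝒮h.str.app (op T)).hom a) =
      (𝒮h.str.app (op V)).hom (ρ hVT a) := by
  have nat := 𝒮h.str.naturality (homOfLE hVT).op
  exact (congrArg (fun f => f.hom a) nat).symm

variable {j ι z}

/-- over a framed affine open, `𝒮h(T) = O(T)[ι (j e), z]` -/
theorem twoVar_of_isFrame [L.IsQuasicoherent] (hS : IsGrSymAlg L 𝒮 j) (hz : IsPolyOver 𝒮 𝒮h ι z)
    {T : Y.Opens} (hT : IsAffineOpen T) {e : Γ(L, T)} (he : IsFrame L T e) :
    TwoVar Γ(Y, T) (𝒮h.deg T hT) (𝒮h.str.app (op T)).hom (xOf j ι T e) (restrictTop 𝒮h z T) := by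
  let F : Frame L T := ⟨e, by
    have h := (frameOf he T le_rfl).bij
    have e1 : (frameOf he T le_rfl).e = e := Groth.Agent.Helper4.QAffSec.res_self L _ e
    rwa [e1] at h⟩
  have key := twoVar_of_poly (𝒜 := 𝒮.deg T hT) (ℬ := 𝒮h.deg T hT) (𝒮.str.app (op T)).hom
    (𝒮.str_mem T hT) (F.t j) (F.t_mem hS hT) (F.eval₂_bij hS hT)
    (gradedHomAt ι hz.graded T hT) (restrictTop 𝒮h z T) (hz.deg_z T hT) (hz.bij T hT)
  have hs : ((gradedHomAt ι hz.graded T hT : 𝒮.deg T hT →+*ᵍ 𝒮h.deg T hT) :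
      𝒮.presheaf.obj (op T) →+* 𝒮h.presheaf.obj (op T)).comp (𝒮.str.app (op T)).hom =
      (𝒮h.str.app (op T)).hom := by
    ext r
    exact ι_str T r
  rw [hs] at key
  exact key

end

end Groth.Agent.Helper1.GG
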