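import Mathlib
import Groth.Agent.Helper1.GG5
import Groth.Agent.Helper1.GG7
import Groth.Agent.Helper4.SN352
import Groth.Agent.Helper4.SN366

/-!
# The chartwise graded homomorphisms `𝒮h'(T) → 𝒮h(T)`, `t' ↦ c z`, `z' ↦ t`, exchanging
zero and infinity
-/

set_option autoImplicit false
set_option linter.style.haveILetI false

namespace Groth.Agent.Helper1.GG

open CategoryTheory Limits AlgebraicGeometry TopologicalSpace Opposite RelProj RelCone
  HomogeneousLocalization Groth.Agent.Helper1.PC Groth.Agent.Helper1.PL Groth.Agent.Helper1.RP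
  Groth.Agent.Helper1.CC Groth.Agent.Helper1.GF
  Groth.Agent.Helper4.TwistExt Groth.Agent.Helper4.SN348 Groth.Agent.Helper4.SN366
open scoped HomogeneousIdeal

universe u

noncomputable section

variable {Y : Scheme.{u}}

/-- a bilinear pairing of two modules with values in the structure sheaf -/
structure Pairing (L L' : Y.Modules) where
  p : ∀ U : Y.Opens, Γ(L, U) → Γ(L', U) → Γ(Y, U)
  smul_left : ∀ (U : Y.Opens) (r : Γ(Y, U)) (m : Γ(L, U)) (n : Γ(L', U)),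
    p U (r • m) n = r * p U m n
  smul_right : ∀ (U : Y.Opens) (r : Γ(Y, U)) (m : Γ(L, U)) (n : Γ(L', U)),
    p U m (r • n) = r * p U m n
  res : ∀ {U V : Y.Opens} (h : V ≤ U) (m : Γ(L, U)) (n : Γ(L', U)),
    ρ h (p U m n) = p V (L.presheaf.map (homOfLE h).op m) (L'.presheaf.map (homOfLE h).op n)

/-- the pairing attached to `L ⊗ L' ≅ O` -/
def Pairing.ofIso {L L' : Y.Modules} (φ : CohB1.tensorMod L L' ≅ Coh.structureModule Y) :
    Pairing L L' where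
  p := pair φ
  smul_left := pair_smul_left φ
  smul_right := pair_smul_right φ
  res := pair_res φ

/-- the flipped pairing -/
def Pairing.flip {L L' : Y.Modules} (π : Pairing L L') : Pairing L' L where
  p U m n := π.p U n m
  smul_left U r m n := π.smul_right U r n m
  smul_right U r m n := π.smul_left U r n m
  res h m n := π.res h n m

/-- frames of `L` and `L'` over `T` pairing to a unit -/
structure BiFrame {L L' : Y.Modules} (π : Pairing L L') (T : Y.Opens) where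
  e : Γ(L, T)
  e' : Γ(L', T)
  he : IsFrame L T e
  he' : IsFrame L' T e'
  hu : IsUnit (π.p T e e')

def BiFrame.res {L L' : Y.Modules} {π : Pairing L L'} {T : Y.Opens} (d : BiFrame π T)
    {V : Y.Opens} (h : V ≤ T) : BiFrame π V where
  e := L.presheaf.map (homOfLE h).op d.e
  e' := L'.presheaf.map (homOfLE h).op d.e'
  he := Groth.Agent.Helper4.SN352.IsFrame.res d.he h
  he' := Groth.Agent.Helper4.SN352.IsFrame.res d.he' h
  hu := by
    rw [← π.res h]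
    exact d.hu.map (ρ h)

def BiFrame.flip {L L' : Y.Modules} {π : Pairing L L'} {T : Y.Opens} (d : BiFrame π T) :
    BiFrame π.flip T where
  e := d.e'
  e' := d.e
  he := d.he'
  he' := d.he
  hu := d.hu

variable {L L' : Y.Modules} [L.IsQuasicoherent] [L'.IsQuasicoherent]
  {𝒮 𝒮h : QCGrAlg Y} {j : L ⟶ 𝒮.toModule} (hS : IsGrSymAlg L 𝒮 j)
  {ι : 𝒮.toQCAlg ⟶ 𝒮h.toQCAlg} {z : 𝒮h.presheaf.obj (op ⊤)} (hz : IsPolyOver 𝒮 𝒮h ι z)
  {𝒮' 𝒮h' : QCGrAlg Y} {j' : L' ⟶ 𝒮'.toModule} (hS' : IsGrSymAlg L' 𝒮' j')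
  {ι' : 𝒮'.toQCAlg ⟶ 𝒮h'.toQCAlg} {z' : 𝒮h'.presheaf.obj (op ⊤)}
  (hz' : IsPolyOver 𝒮' 𝒮h' ι' z')
  (π : Pairing L L')

/-- `θ : 𝒮h'(T) → 𝒮h(T)` is the graded homomorphism `t' ↦ c z`, `z' ↦ t` attached to the frames -/
structure IsTheta (j : L ⟶ 𝒮.toModule) (ι : 𝒮.toQCAlg ⟶ 𝒮h.toQCAlg) (z : 𝒮h.presheaf.obj (op ⊤))
    (j' : L' ⟶ 𝒮'.toModule) (ι' : 𝒮'.toQCAlg ⟶ 𝒮h'.toQCAlg) (z' : 𝒮h'.presheaf.obj (op ⊤))
    {π : Pairing L L'} {T : Y.Opens} (d : BiFrame π T) (hT : IsAffineOpen T)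
    (θ : 𝒮h'.deg T hT →+*ᵍ 𝒮h.deg T hT) : Prop where
  str : ∀ r : Γ(Y, T), θ ((𝒮h'.str.app (op T)).hom r) = (𝒮h.str.app (op T)).hom r
  x : θ (xOf j' ι' T d.e') = (𝒮h.str.app (op T)).hom (π.p T d.e d.e') * restrictTop 𝒮h z T
  y : θ (restrictTop 𝒮h' z' T) = xOf j ι T d.e

variable {π}

include hS hz hS' hz' in
theorem exists_theta {T : Y.Opens} (d : BiFrame π T) (hT : IsAffineOpen T) :
    ∃ θ : 𝒮h'.deg T hT →+*ᵍ 𝒮h.deg T hT, IsTheta j ι z j' ι' z' d hT θ := by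
  have tv := twoVar_of_isFrame hS hz hT d.he
  have tv' := twoVar_of_isFrame hS' hz' hT d.he'
  have hX : (𝒮h.str.app (op T)).hom (π.p T d.e d.e') * restrictTop 𝒮h z T ∈ 𝒮h.deg T hT 1 := by
    have := SetLike.mul_mem_graded (tv.s_mem (π.p T d.e d.e')) tv.y_mem
    rwa [zero_add] at this
  obtain ⟨θ, h1, h2, h3⟩ := tv'.exists_gradedHom (𝒞 := 𝒮h.deg T hT) (𝒮h.str.app (op T)).hom
    tv.s_mem _ _ hX tv.x_mem
  exact ⟨θ, ⟨h1, h2, h3⟩⟩

include hS hz hz' in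
theorem IsTheta.irr {T : Y.Opens} {d : BiFrame π T} {hT : IsAffineOpen T}
    {θ : 𝒮h'.deg T hT →+*ᵍ 𝒮h.deg T hT} (hθ : IsTheta j ι z j' ι' z' d hT θ)
    (hx' : xOf j' ι' T d.e' ∈ 𝒮h'.deg T hT 1) :
    (𝒮h.deg T hT)₊ ≤ ((𝒮h'.deg T hT)₊).map θ := by
  have tv := twoVar_of_isFrame hS hz hT d.he
  apply tv.irrelevant_le_map θ
  · exact ⟨restrictTop 𝒮h' z' T,
      HomogeneousIdeal.mem_irrelevant_of_mem _ one_pos (hz'.deg_z T hT), hθ.y⟩
  · obtain ⟨c', hc'⟩ := d.hu.exists_left_inv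
    refine ⟨(𝒮h'.str.app (op T)).hom c' * xOf j' ι' T d.e',
      Ideal.mul_mem_left _ _ (HomogeneousIdeal.mem_irrelevant_of_mem _ one_pos hx'), ?_⟩
    rw [map_mul, hθ.str, hθ.x, ← mul_assoc, ← map_mul, hc', map_one, one_mul]

end

end Groth.Agent.Helper1.GG
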