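import Mathlib
import Groth.Agent.Helper1.GG8

/-!
# The family of chartwise graded homomorphisms exchanging zero and infinity is a `ThetaFamily`
-/

set_option autoImplicit false
set_option linter.style.haveILetI false

namespace Groth.Agent.Helper1.GG

open CategoryTheory Limits AlgebraicGeometry TopologicalSpace Opposite RelProj RelCone
  HomogeneousLocalization Groth.Agent.Helper1.PC Groth.Agent.Helper1.PL Groth.Agent.Helper1.RP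
  Groth.Agent.Helper1.CC Groth.Agent.Helper1.GF
  Groth.Agent.Helper4.TwistExt Groth.Agent.Helper4.SN348 Groth.Agent.Helper4.SN366
open scoped HomogeneousIdeal

universe u

noncomputable section

variable {Y : Scheme.{u}} {L L' : Y.Modules} [L.IsQuasicoherent] [L'.IsQuasicoherent]
  {𝒮 𝒮h : QCGrAlg Y} {j : L ⟶ 𝒮.toModule} (hS : IsGrSymAlg L 𝒮 j)
  {ι : 𝒮.toQCAlg ⟶ 𝒮h.toQCAlg} {z : 𝒮h.presheaf.obj (op ⊤)} (hz : IsPolyOver 𝒮 𝒮h ι z)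
  {𝒮' 𝒮h' : QCGrAlg Y} {j' : L' ⟶ 𝒮'.toModule} (hS' : IsGrSymAlg L' 𝒮' j')
  {ι' : 𝒮'.toQCAlg ⟶ 𝒮h'.toQCAlg} {z' : 𝒮h'.presheaf.obj (op ⊤)}
  (hz' : IsPolyOver 𝒮' 𝒮h' ι' z')
  {π : Pairing L L'}

include hS hz hS' hz' in
/-- two members over the same open differ by a scaling -/
theorem IsTheta.uniq {T : Y.Opens} {d₁ d₂ : BiFrame π T} {hT : IsAffineOpen T}
    {θ₁ θ₂ : 𝒮h'.deg T hT →+*ᵍ 𝒮h.deg T hT} (h₁ : IsTheta j ι z j' ι' z' d₁ hT θ₁)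
    (h₂ : IsTheta j ι z j' ι' z' d₂ hT θ₂) :
    ∃ u ∈ 𝒮h.deg T hT 0, ∀ (n : ℕ) (x : 𝒮h'.presheaf.obj (op T)), x ∈ 𝒮h'.deg T hT n →
      θ₂ x = u ^ n * θ₁ x := by
  obtain ⟨a, ha⟩ := isFrame_coeff d₁.he d₂.e
  obtain ⟨a', ha'⟩ := isFrame_coeff d₁.he' d₂.e'
  have hua' : IsUnit a' := isUnit_coeff d₁.he' d₂.he' a' ha'
  have tv' := twoVar_of_isFrame hS' hz' hT d₁.he'
  refine ⟨(𝒮h.str.app (op T)).hom a, 𝒮h.str_mem T hT a, ?_⟩
  intro n x hx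
  refine tv'.scale (θ₁ : 𝒮h'.presheaf.obj (op T) →+* 𝒮h.presheaf.obj (op T))
    (θ₂ : 𝒮h'.presheaf.obj (op T) →+* 𝒮h.presheaf.obj (op T)) _ ?_ ?_ ?_ hx
  · intro r
    exact (h₂.str r).trans (h₁.str r).symm
  · have e1 : θ₂ (xOf j' ι' T d₂.e') =
        (𝒮h.str.app (op T)).hom a' * θ₂ (xOf j' ι' T d₁.e') := by
      rw [ha', xOf_smul, map_mul, h₂.str]
    have e2 : π.p T d₂.e d₂.e' = a' * (a * π.p T d₁.e d₁.e') := by
      rw [ha, ha', π.smul_left, π.smul_right]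
      ring
    have e3 := h₂.x
    rw [e1, e2, map_mul, map_mul, mul_assoc] at e3
    have hu : IsUnit ((𝒮h.str.app (op T)).hom a') := hua'.map _
    have e4 := hu.mul_left_cancel e3
    change θ₂ (xOf j' ι' T d₁.e') = _ * θ₁ (xOf j' ι' T d₁.e')
    rw [e4, h₁.x, mul_assoc]
  · change θ₂ (restrictTop 𝒮h' z' T) = _ * θ₁ (restrictTop 𝒮h' z' T)
    rw [h₂.y, h₁.y, ha, xOf_smul]

include hS' hz' in
/-- compatibility with restriction -/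
theorem IsTheta.res {T V : Y.Opens} (hVT : V ≤ T) {d : BiFrame π T} {hT : IsAffineOpen T}
    (hV : IsAffineOpen V)
    {θ : 𝒮h'.deg T hT →+*ᵍ 𝒮h.deg T hT} (hθ : IsTheta j ι z j' ι' z' d hT θ)
    {θ' : 𝒮h'.deg V hV →+*ᵍ 𝒮h.deg V hV} (hθ' : IsTheta j ι z j' ι' z' (d.res hVT) hV θ') :
    θ'.comp (𝒮h'.res hT hV hVT) = (𝒮h.res hT hV hVT).comp θ := by
  have tv' := twoVar_of_isFrame hS' hz' hT d.he'
  apply tv'.gradedHom_ext
  · intro r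
    change θ' ((𝒮h'.presheaf.map (homOfLE hVT).op).hom ((𝒮h'.str.app (op T)).hom r)) =
      (𝒮h.presheaf.map (homOfLE hVT).op).hom (θ ((𝒮h'.str.app (op T)).hom r))
    rw [str_res, hθ'.str, hθ.str, str_res]
  · change θ' ((𝒮h'.presheaf.map (homOfLE hVT).op).hom (xOf j' ι' T d.e')) =
      (𝒮h.presheaf.map (homOfLE hVT).op).hom (θ (xOf j' ι' T d.e'))
    rw [xOf_res, hθ.x, map_mul, str_res, restrictTop_res, π.res hVT]
    exact hθ'.x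
  · change θ' ((𝒮h'.presheaf.map (homOfLE hVT).op).hom (restrictTop 𝒮h' z' T)) =
      (𝒮h.presheaf.map (homOfLE hVT).op).hom (θ (restrictTop 𝒮h' z' T))
    rw [restrictTop_res, hθ.y, xOf_res]
    exact hθ'.y

/-- **the family** -/
def thetaFamily (π : Pairing L L')
    (hcov : ∀ y : Y, ∃ (T : Y.Opens) (_ : IsAffineOpen T), y ∈ T ∧ Nonempty (BiFrame π T)) :
    ThetaFamily 𝒮h' 𝒮h where
  Θ T hT := {θ | ∃ d : BiFrame π T, IsTheta j ι z j' ι' z' d hT θ}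
  cov y := by
    obtain ⟨T, hT, hy, ⟨d⟩⟩ := hcov y
    obtain ⟨θ, hθ⟩ := exists_theta hS hz hS' hz' d hT
    exact ⟨T, hT, hy, θ, d, hθ⟩
  irr T hT θ := by
    rintro ⟨d, hθ⟩
    exact hθ.irr hS hz hz' (twoVar_of_isFrame hS' hz' hT d.he').x_mem
  str T hT θ := by
    rintro ⟨d, hθ⟩ r
    exact hθ.str r
  uniq T hT θ₁ θ₂ := by
    rintro ⟨d₁, h₁⟩ ⟨d₂, h₂⟩
    exact h₁.uniq hS hz hS' hz' h₂
  res T hT θ := by
    rintro ⟨d, hθ⟩ r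
    obtain ⟨θ', hθ'⟩ := exists_theta hS hz hS' hz' (d.res (Y.basicOpen_le r)) (hT.basicOpen r)
    exact ⟨θ', ⟨_, hθ'⟩, hθ.res hS' hz' (Y.basicOpen_le r) (hT.basicOpen r) hθ'⟩

end

end Groth.Agent.Helper1.GG
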