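import Mathlib
import Groth.Agent.Helper1.GG6
import Groth.Agent.Helper1.GG9
import Groth.Agent.Helper1.PC9
import Groth.Agent.Helper1.GF5

/-!
# Chartwise description of the zero section and of the part at infinity of the projective
closure of a line bundle, and their exchange under the chartwise homomorphisms
-/

set_option autoImplicit false
set_option linter.style.haveILetI false

namespace Groth.Agent.Helper1.GG

open CategoryTheory Limits AlgebraicGeometry TopologicalSpace Opposite RelProj RelCone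
  HomogeneousLocalization Groth.Agent.Helper1.PC Groth.Agent.Helper1.PL Groth.Agent.Helper1.RP
  Groth.Agent.Helper1.CC Groth.Agent.Helper1.GF Groth.Agent.Helper1.CN
  Groth.Agent.Helper4.TwistExt Groth.Agent.Helper4.SN348 Groth.Agent.Helper4.SN366
open scoped HomogeneousIdeal

universe u

noncomputable section

variable {Y PC : Scheme.{u}} {L : Y.Modules} [L.IsQuasicoherent]
  {𝒮 𝒮h : QCGrAlg Y} {j : L ⟶ 𝒮.toModule} (hS : IsGrSymAlg L 𝒮 j)
  {ι : 𝒮.toQCAlg ⟶ 𝒮h.toQCAlg} {z : 𝒮h.presheaf.obj (op ⊤)} (hz : IsPolyOver 𝒮 𝒮h ι z)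
  {pC : PC ⟶ Y}
  {chartC : ∀ (U : Y.Opens) (hU : IsAffineOpen U),
    (((pC ⁻¹ᵁ U : PC.Opens) : Scheme.{u}) ≅ Proj (𝒮h.deg U hU))}
  (hPC : IsRelProj 𝒮h pC chartC)

include hS in
theorem domOpen_eq_basicOpen {T : Y.Opens} (hT : IsAffineOpen T) {e : Γ(L, T)}
    (he : IsFrame L T e) :
    domOpen (gradedHomAt ι hz.graded T hT) = Proj.basicOpen (𝒮h.deg T hT) (xOf j ι T e) := by
  let F : Frame L T := ⟨e, by
    have h := (frameOf he T le_rfl).bij
    have e1 : (frameOf he T le_rfl).e = e := Groth.Agent.Helper4.QAffSec.res_self L _ e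
    rwa [e1] at h⟩
  exact (isInfGen_tInf hS hz hT F).dom

include hPC in
theorem emb_mem_Ehat_iff_domOpen (T : Y.Opens) (hT : IsAffineOpen T) (w : Proj (𝒮h.deg T hT)) :
    (emb pC chartC T hT) w ∈ ((pointedProjCone 𝒮 hz pC chartC : PC.Opens) : Set PC) ↔
      w ∈ domOpen (gradedHomAt ι hz.graded T hT) := by
  constructor
  · intro h
    have h1 : (emb pC chartC T hT) w ∈ pointedProjCone 𝒮 hz pC chartC ⊓ pC ⁻¹ᵁ T :=
      ⟨h, emb_mem pC chartC T hT w⟩
    rw [pointedProjCone_inf_preimage hz hPC T hT] at h1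
    obtain ⟨w', hw', hww'⟩ := h1
    rw [← (emb pC chartC T hT).injective hww']
    exact hw'
  · intro h
    have h1 : (emb pC chartC T hT) w ∈
        (emb pC chartC T hT) ''ᵁ domOpen (gradedHomAt ι hz.graded T hT) := ⟨w, h, rfl⟩
    rw [← pointedProjCone_inf_preimage hz hPC T hT] at h1
    exact h1.1

include hS hPC in
/-- over a framed affine open, the pointed projective cone is `D_+(ι (j e))` -/
theorem emb_mem_Ehat_iff {T : Y.Opens} (hT : IsAffineOpen T) {e : Γ(L, T)}
    (he : IsFrame L T e) (w : Proj (𝒮h.deg T hT)) :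
    (emb pC chartC T hT) w ∈ ((pointedProjCone 𝒮 hz pC chartC : PC.Opens) : Set PC) ↔
      w ∈ Proj.basicOpen (𝒮h.deg T hT) (xOf j ι T e) := by
  rw [emb_mem_Ehat_iff_domOpen hz hPC T hT w, domOpen_eq_basicOpen hS hz hT he]

end

end Groth.Agent.Helper1.GG
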