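import Mathlib
import Groth.Agent.Helper1.GG10

/-!
# `Ĉ ≅ Ĉ'`: the projective closures of a line bundle and of its inverse, exchanging the zero
section and the part at infinity
-/

set_option autoImplicit false
set_option linter.style.haveILetI false

namespace Groth.Agent.Helper1.GG

open CategoryTheory Limits AlgebraicGeometry TopologicalSpace Opposite RelProj RelCone
  HomogeneousLocalization Groth.Agent.Helper1.PC Groth.Agent.Helper1.PL Groth.Agent.Helper1.RP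
  Groth.Agent.Helper1.CC Groth.Agent.Helper1.GF Groth.Agent.Helper1.CN
  Groth.Agent.Helper4.TwistExt Groth.Agent.Helper4.SN348 Groth.Agent.Helper4.SN366
open scoped HomogeneousIdeal

universe u

noncomputable section

variable {Y : Scheme.{u}} {L L' : Y.Modules} [L.IsQuasicoherent] [L'.IsQuasicoherent]
  {𝒮 𝒮h : QCGrAlg Y} {j : L ⟶ 𝒮.toModule} (hS : IsGrSymAlg L 𝒮 j)
  {ι : 𝒮.toQCAlg ⟶ 𝒮h.toQCAlg} {z : 𝒮h.presheaf.obj (op ⊤)} (hz : IsPolyOver 𝒮 𝒮h ι z)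
  {𝒮' 𝒮h' : QCGrAlg Y} {j' : L' ⟶ 𝒮'.toModule} (hS' : IsGrSymAlg L' 𝒮' j')
  {ι' : 𝒮'.toQCAlg ⟶ 𝒮h'.toQCAlg} {z' : 𝒮h'.presheaf.obj (op ⊤)}
  (hz' : IsPolyOver 𝒮' 𝒮h' ι' z')

theorem exists_biFrame (φ : CohB1.tensorMod L L' ≅ Coh.structureModule Y)
    (hL : PicF.IsInvertible L) (hL' : PicF.IsInvertible L') (y : Y) :
    ∃ (T : Y.Opens) (_ : IsAffineOpen T), y ∈ T ∧ Nonempty (BiFrame (Pairing.ofIso φ) T) := by
  obtain ⟨T, l, l', hy, -, hT, hl, hl', hll'⟩ := exists_frames₂ L L' hL hL' ⊤ y trivial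
  exact ⟨T, hT, hy, ⟨⟨l, l', hl, hl', isUnit_pair φ hll'⟩⟩⟩

variable {π : Pairing L L'}

include hS hz in
/-- the two chartwise homomorphisms compose to a scaling -/
theorem theta_comp {T : Y.Opens} (d : BiFrame π T) (hT : IsAffineOpen T)
    {θ : 𝒮h'.deg T hT →+*ᵍ 𝒮h.deg T hT} (hθ : IsTheta j ι z j' ι' z' d hT θ)
    {θ' : 𝒮h.deg T hT →+*ᵍ 𝒮h'.deg T hT} (hθ' : IsTheta j' ι' z' j ι z d.flip hT θ')
    (n : ℕ) (x : 𝒮h.presheaf.obj (op T)) (hx : x ∈ 𝒮h.deg T hT n) :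
    θ (θ' x) = ((𝒮h.str.app (op T)).hom (π.p T d.e d.e')) ^ n * x := by
  have tv := twoVar_of_isFrame hS hz hT d.he
  have key := tv.scale (RingHom.id (𝒮h.presheaf.obj (op T)))
    ((θ : 𝒮h'.presheaf.obj (op T) →+* 𝒮h.presheaf.obj (op T)).comp
      (θ' : 𝒮h.presheaf.obj (op T) →+* 𝒮h'.presheaf.obj (op T)))
    ((𝒮h.str.app (op T)).hom (π.p T d.e d.e')) ?_ ?_ ?_ hx
  · exact key
  · intro r
    change θ (θ' ((𝒮h.str.app (op T)).hom r)) = (𝒮h.str.app (op T)).hom r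
    rw [hθ'.str, hθ.str]
  · change θ (θ' (xOf j ι T d.e)) = _ * xOf j ι T d.e
    have h1 : θ' (xOf j ι T d.e) =
        (𝒮h'.str.app (op T)).hom (π.p T d.e d.e') * restrictTop 𝒮h' z' T := hθ'.x
    rw [h1, map_mul, hθ.str, hθ.y]
  · change θ (θ' (restrictTop 𝒮h z T)) = _ * restrictTop 𝒮h z T
    have h1 : θ' (restrictTop 𝒮h z T) = xOf j' ι' T d.e' := hθ'.y
    rw [h1, hθ.x]

end

end Groth.Agent.Helper1.GG
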