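import Mathlib
import Groth.Agent.Helper1.GG11

/-!
# `Ĉ ≅ Ĉ'` exchanging zero and infinity: the main theorem
-/

set_option autoImplicit false
set_option linter.style.haveILetI false

namespace Groth.Agent.Helper1.GG

open CategoryTheory Limits AlgebraicGeometry TopologicalSpace Opposite RelProj RelCone
  HomogeneousLocalization Groth.Agent.Helper1.PC Groth.Agent.Helper1.PL Groth.Agent.Helper1.RP
  Groth.Agent.Helper1.CC Groth.Agent.Helper1.GF Groth.Agent.Helper1.CN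
  Groth.Agent.Helper4.TwistExt Groth.Agent.Helper4.SN348 Groth.Agent.Helper4.SN366
open scoped HomogeneousIdeal

universe u

noncomputable section

section general

variable {Y : Scheme.{u}} {𝒜 ℬ : QCGrAlg Y} (F : ThetaFamily 𝒜 ℬ)
  {PA PB : Scheme.{u}} {pA : PA ⟶ Y} {pB : PB ⟶ Y}
  {chartA : ∀ (U : Y.Opens) (hU : IsAffineOpen U),
    ((pA ⁻¹ᵁ U : PA.Opens) : Scheme.{u}) ≅ Proj (𝒜.deg U hU)}
  {chartB : ∀ (U : Y.Opens) (hU : IsAffineOpen U),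
    ((pB ⁻¹ᵁ U : PB.Opens) : Scheme.{u}) ≅ Proj (ℬ.deg U hU)}

theorem glued_emb (Φ : PB ⟶ PA)
    (hΦ : ∀ (T : Y.Opens) (hT : IsAffineOpen T) (θ : 𝒜.deg T hT →+*ᵍ ℬ.deg T hT)
      (hθ : θ ∈ F.Θ T hT), (pB ⁻¹ᵁ T).ι ≫ Φ = F.loc chartA chartB T hT θ hθ)
    (T : Y.Opens) (hT : IsAffineOpen T) (θ : 𝒜.deg T hT →+*ᵍ ℬ.deg T hT) (hθ : θ ∈ F.Θ T hT) :
    emb pB chartB T hT ≫ Φ = Proj.map θ (F.irr T hT θ hθ) ≫ emb pA chartA T hT := by
  unfold emb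
  rw [Category.assoc, hΦ T hT θ hθ]
  unfold ThetaFamily.loc
  rw [Iso.inv_hom_id_assoc]

theorem glued_apply (Φ : PB ⟶ PA)
    (hΦ : ∀ (T : Y.Opens) (hT : IsAffineOpen T) (θ : 𝒜.deg T hT →+*ᵍ ℬ.deg T hT)
      (hθ : θ ∈ F.Θ T hT), (pB ⁻¹ᵁ T).ι ≫ Φ = F.loc chartA chartB T hT θ hθ)
    (T : Y.Opens) (hT : IsAffineOpen T) (θ : 𝒜.deg T hT →+*ᵍ ℬ.deg T hT) (hθ : θ ∈ F.Θ T hT)
    (w : Proj (ℬ.deg T hT)) :
    Φ ((emb pB chartB T hT) w) = (emb pA chartA T hT) (Proj.map θ (F.irr T hT θ hθ) w) := by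
  have := congrArg (fun k : Proj (ℬ.deg T hT) ⟶ PA => k w) (glued_emb F Φ hΦ T hT θ hθ)
  exact this

end general

theorem mem_basicOpen_unit_mul {A : Type u} [CommRing A] {𝒜 : ℕ → AddSubgroup A} [GradedRing 𝒜]
    (c f : A) (hc : IsUnit c) (w : Proj 𝒜) :
    w ∈ Proj.basicOpen 𝒜 (c * f) ↔ w ∈ Proj.basicOpen 𝒜 f := by
  rw [Proj.mem_basicOpen, Proj.mem_basicOpen]
  constructor
  · intro h hf
    exact h (Ideal.mul_mem_left _ _ hf)
  · intro h hcf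
    apply h
    obtain ⟨c', hc'⟩ := hc.exists_left_inv
    have := Ideal.mul_mem_left w.asHomogeneousIdeal.toIdeal c' hcf
    rwa [← mul_assoc, hc', one_mul] at this

end

end Groth.Agent.Helper1.GG
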