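import Mathlib
import Groth.Agent.Helper1.GG12

/-!
# `Ĉ ≅ Ĉ'` exchanging zero and infinity: the main theorem
-/

set_option autoImplicit false
set_option linter.style.haveILetI false

namespace Groth.Agent.Helper1.GG

open CategoryTheory Limits AlgebraicGeometry TopologicalSpace Opposite RelProj RelCone
  HomogeneousLocalization Groth.Agent.Helper1.PC Groth.Agent.Helper1.PL Groth.Agent.Helper1.RP
  Groth.Agent.Helper1.CC Groth.Agent.Helper1.GF Groth.Agent.Helper1.CN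
  Groth.Agent.Helper4.TwistExt Groth.Agent.Helper4.SN348 Groth.Agent.Helper4.SN366
open scoped HomogeneousIdeal

universe u

noncomputable section

variable {Y PC PC' : Scheme.{u}} {L L' : Y.Modules} [L.IsQuasicoherent] [L'.IsQuasicoherent]
  {𝒮 𝒮h : QCGrAlg Y} {j : L ⟶ 𝒮.toModule} (hS : IsGrSymAlg L 𝒮 j)
  {ι : 𝒮.toQCAlg ⟶ 𝒮h.toQCAlg} {z : 𝒮h.presheaf.obj (op ⊤)} (hz : IsPolyOver 𝒮 𝒮h ι z)
  {pC : PC ⟶ Y}
  {chartC : ∀ (U : Y.Opens) (hU : IsAffineOpen U),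
    (((pC ⁻¹ᵁ U : PC.Opens) : Scheme.{u}) ≅ Proj (𝒮h.deg U hU))}
  (hPC : IsRelProj 𝒮h pC chartC)
  {𝒮' 𝒮h' : QCGrAlg Y} {j' : L' ⟶ 𝒮'.toModule} (hS' : IsGrSymAlg L' 𝒮' j')
  {ι' : 𝒮'.toQCAlg ⟶ 𝒮h'.toQCAlg} {z' : 𝒮h'.presheaf.obj (op ⊤)}
  (hz' : IsPolyOver 𝒮' 𝒮h' ι' z')
  {pC' : PC' ⟶ Y}
  {chartC' : ∀ (U : Y.Opens) (hU : IsAffineOpen U),
    (((pC' ⁻¹ᵁ U : PC'.Opens) : Scheme.{u}) ≅ Proj (𝒮h'.deg U hU))}
  (hPC' : IsRelProj 𝒮h' pC' chartC')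

include hS hPC hS' hPC' in
/-- **EGA II 8.4: the projective closures of `V(L)` and `V(L⁻¹)` are isomorphic, with zero
section and part at infinity exchanged** -/
theorem exists_iso_exchange (φ : CohB1.tensorMod L L' ≅ Coh.structureModule Y)
    (hL : PicF.IsInvertible L) (hL' : PicF.IsInvertible L')
    (h0 : StrZeroBij 𝒮) (aug : 𝒮.toQCAlg ⟶ RelSpec.QCAlg.unit Y) (haug : IsAugmentation 𝒮 aug)
    (ε : Y ⟶ 𝒮.toQCAlg.spec) (hε : IsVertex 𝒮 aug ε)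
    (i : 𝒮.toQCAlg.spec ⟶ PC) (hi : IsConeImm 𝒮 hz pC chartC i)
    (h0' : StrZeroBij 𝒮') (aug' : 𝒮'.toQCAlg ⟶ RelSpec.QCAlg.unit Y)
    (haug' : IsAugmentation 𝒮' aug')
    (ε' : Y ⟶ 𝒮'.toQCAlg.spec) (hε' : IsVertex 𝒮' aug' ε')
    (i' : 𝒮'.toQCAlg.spec ⟶ PC') (hi' : IsConeImm 𝒮' hz' pC' chartC' i') :
    ∃ Φ : PC ≅ PC', Φ.hom ≫ pC' = pC ∧
      Φ.hom.base '' Set.range (ε ≫ i).base = (Set.range i'.base)ᶜ ∧
        Φ.hom.base '' (Set.range i.base)ᶜ = Set.range (ε' ≫ i').base := by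
  let π : Pairing L L' := Pairing.ofIso φ
  have hcov : ∀ y : Y, ∃ (T : Y.Opens) (_ : IsAffineOpen T), y ∈ T ∧ Nonempty (BiFrame π T) :=
    exists_biFrame φ hL hL'
  have hcov' : ∀ y : Y, ∃ (T : Y.Opens) (_ : IsAffineOpen T), y ∈ T ∧
      Nonempty (BiFrame π.flip T) := by
    intro y
    obtain ⟨T, hT, hy, ⟨d⟩⟩ := hcov y
    exact ⟨T, hT, hy, ⟨d.flip⟩⟩
  let F : ThetaFamily 𝒮h' 𝒮h := thetaFamily hS hz hS' hz' π hcov
  let G : ThetaFamily 𝒮h 𝒮h' := thetaFamily hS' hz' hS hz π.flip hcov'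
  obtain ⟨Φ, hΦ, -⟩ := F.existsUnique_glue hPC' hPC
  obtain ⟨Ψ, hΨ, -⟩ := G.existsUnique_glue hPC hPC'
  -- local data around a point of the base
  have loc : ∀ y : Y, ∃ (T : Y.Opens) (hT : IsAffineOpen T) (d : BiFrame π T)
      (θ : 𝒮h'.deg T hT →+*ᵍ 𝒮h.deg T hT) (θ' : 𝒮h.deg T hT →+*ᵍ 𝒮h'.deg T hT),
      y ∈ T ∧ IsTheta j ι z j' ι' z' d hT θ ∧ IsTheta j' ι' z' j ι z d.flip hT θ' := by
    intro y
    obtain ⟨T, hT, hy, ⟨d⟩⟩ := hcov y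
    obtain ⟨θ, hθ⟩ := exists_theta hS hz hS' hz' d hT
    obtain ⟨θ', hθ'⟩ := exists_theta hS' hz' hS hz d.flip hT
    exact ⟨T, hT, d, θ, θ', hy, hθ, hθ'⟩
  have h1 : Φ ≫ Ψ = 𝟙 PC := by
    apply F.comp_eq_id G Φ hΦ Ψ hΨ
    intro y
    obtain ⟨T, hT, d, θ, θ', hy, hθ, hθ'⟩ := loc y
    exact ⟨T, hT, hy, θ, ⟨d, hθ⟩, θ', ⟨d.flip, hθ'⟩,
      (𝒮h.str.app (op T)).hom (π.p T d.e d.e'), 𝒮h.str_mem T hT _,
      theta_comp hS hz d hT hθ hθ'⟩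
  have h2 : Ψ ≫ Φ = 𝟙 PC' := by
    apply G.comp_eq_id F Ψ hΨ Φ hΦ
    intro y
    obtain ⟨T, hT, d, θ, θ', hy, hθ, hθ'⟩ := loc y
    exact ⟨T, hT, hy, θ', ⟨d.flip, hθ'⟩, θ, ⟨d, hθ⟩,
      (𝒮h'.str.app (op T)).hom (π.p T d.e d.e'), 𝒮h'.str_mem T hT _,
      theta_comp hS' hz' d.flip hT hθ' hθ⟩
  have hΨΦ : ∀ y : PC', Φ (Ψ y) = y := fun y =>
    congrArg (fun k : PC' ⟶ PC' => k y) h2
  -- the two pointwise facts
  have K : ∀ x : PC, (Φ x ∈ Set.range i' ↔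
        x ∈ ((pointedProjCone 𝒮 hz pC chartC : PC.Opens) : Set PC)) ∧
      (Φ x ∈ ((pointedProjCone 𝒮' hz' pC' chartC' : PC'.Opens) : Set PC') ↔
        x ∈ Set.range i) := by
    intro x
    obtain ⟨T, hT, d, θ, θ', hy, hθ, -⟩ := loc (pC x)
    have hθm : θ ∈ F.Θ T hT := ⟨d, hθ⟩
    let w : Proj (𝒮h.deg T hT) := (chartC T hT).hom ⟨x, hy⟩
    have hw : (emb pC chartC T hT) w = x := emb_chart_hom pC chartC T hT x hy
    have hΦx : Φ x = (emb pC' chartC' T hT) (Proj.map θ (F.irr T hT θ hθm) w) := by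
      rw [← hw]
      exact glued_apply F Φ hΦ T hT θ hθm w
    constructor
    · rw [hΦx, emb_mem_range_coneImm_iff hz' hPC' hi' T hT, ← hw,
        emb_mem_Ehat_iff hS hz hPC hT d.he, ← hθ.y]
      exact Iff.rfl
    · rw [hΦx, emb_mem_Ehat_iff hS' hz' hPC' hT d.he', ← hw,
        emb_mem_range_coneImm_iff hz hPC hi T hT,
        ← mem_basicOpen_unit_mul ((𝒮h.str.app (op T)).hom (π.p T d.e d.e'))
          (restrictTop 𝒮h z T) (d.hu.map _) w, ← hθ.x]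
      exact Iff.rfl
  have hE : Set.range (ε ≫ i).base =
      (((pointedProjCone 𝒮 hz pC chartC : PC.Opens) : Set PC))ᶜ := by
    rw [pointedProjCone_eq_compl hz h0 hPC aug haug ε hε i hi, compl_compl]
  have hE' : Set.range (ε' ≫ i').base =
      (((pointedProjCone 𝒮' hz' pC' chartC' : PC'.Opens) : Set PC'))ᶜ := by
    rw [pointedProjCone_eq_compl hz' h0' hPC' aug' haug' ε' hε' i' hi', compl_compl]
  refine ⟨⟨Φ, Ψ, h1, h2⟩, F.glue_comm hPC' hPC Φ hΦ, ?_, ?_⟩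
  · rw [hE]
    ext y
    constructor
    · rintro ⟨x, hx, rfl⟩
      exact fun h => hx ((K x).1.1 h)
    · intro hy
      refine ⟨Ψ y, ?_, hΨΦ y⟩
      intro h
      apply hy
      have := (K (Ψ y)).1.2 h
      rwa [hΨΦ y] at this
  · rw [hE']
    ext y
    constructor
    · rintro ⟨x, hx, rfl⟩
      exact fun h => hx ((K x).2.1 h)
    · intro hy
      refine ⟨Ψ y, ?_, hΨΦ y⟩
      intro h
      apply hy
      have := (K (Ψ y)).2.2 h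
      rwa [hΨΦ y] at this

end

end Groth.Agent.Helper1.GG
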