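import Mathlib
import Groth.Agent.S0542
import Groth.Agent.S0544
import Groth.Agent.Helper6.GrMapPoly2

/-!
# ModAR1: an Artin–Rees type property for adically complete modules with finite reduction

For a Noetherian ring `B`, an ideal `J` and a `J`-adically complete `B`-module `L` with `L/JL` finite
(so that `L` is finite over the Noetherian completion of `B`), we prove:
there is `t0` such that for every `k` there is `k'` with: if `x ∈ J^t0 L` and `J^k x ⊆ J^(q+k') L`
then `x ∈ J^q L`.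
-/

set_option autoImplicit false
set_option linter.style.haveILetI false
set_option linter.unusedSectionVars false

universe u v

namespace Groth.Agent.Helper1.ModAR

/-- the Artin–Rees type property -/
def ARProp (B : Type*) [CommRing B] (J : Ideal B) (L : Type*) [AddCommGroup L] [Module B L] : Prop :=
  ∃ t0 : ℕ, ∀ k : ℕ, ∃ k' : ℕ, ∀ (q : ℕ) (x : L), x ∈ J ^ t0 • (⊤ : Submodule B L) →
    (∀ h ∈ J ^ k, h • x ∈ J ^ (q + k') • (⊤ : Submodule B L)) → x ∈ J ^ q • (⊤ : Submodule B L)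

section Noeth

variable {R : Type u} [CommRing R] {M : Type v} [AddCommGroup M] [Module R M]

lemma pi_mem_smul_top {n : ℕ} (J : Ideal R) (v : Fin n → M)
    (hv : ∀ j, v j ∈ J • (⊤ : Submodule R M)) : v ∈ J • (⊤ : Submodule R (Fin n → M)) := by
  classical
  have e : v = ∑ j, LinearMap.single R (fun _ : Fin n => M) j (v j) := by
    ext i
    simp [Finset.sum_apply, Pi.single_apply]
  rw [e]
  refine Submodule.sum_mem _ (fun j _ => ?_)
  have h1 : J • (⊤ : Submodule R M) ≤
      (J • (⊤ : Submodule R (Fin n → M))).comap (LinearMap.single R (fun _ : Fin n => M) j) := by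
    rw [Submodule.smul_le]
    intro r hr m _
    rw [Submodule.mem_comap, map_smul]
    exact Submodule.smul_mem_smul hr Submodule.mem_top
  exact h1 (hv j)

variable [IsNoetherianRing R] [Module.Finite R M] (𝔞 : Ideal R)

theorem exists_AR2 (k : ℕ) : ∃ k' : ℕ, ∀ (q : ℕ) (x : M),
    (∀ h ∈ 𝔞 ^ k, h • x ∈ 𝔞 ^ (q + k') • (⊤ : Submodule R M)) →
      ∃ z ∈ 𝔞 ^ q • (⊤ : Submodule R M), ∀ h ∈ 𝔞 ^ k, h • (x - z) = 0 := by
  obtain ⟨n, h, hh⟩ := Submodule.fg_iff_exists_fin_generating_family.1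
    (IsNoetherian.noetherian (𝔞 ^ k))
  let ψ : M →ₗ[R] (Fin n → M) := LinearMap.pi (fun j => LinearMap.lsmul R M (h j))
  obtain ⟨k', hk'⟩ := Ideal.exists_pow_inf_eq_pow_smul 𝔞 (LinearMap.range ψ)
  refine ⟨k', fun q x hx => ?_⟩
  have hhmem : ∀ j, h j ∈ 𝔞 ^ k := fun j => by
    have : h j ∈ Submodule.span R (Set.range h) := Submodule.subset_span ⟨j, rfl⟩
    rw [hh] at this
    exact this
  have h1 : ψ x ∈ 𝔞 ^ (q + k') • (⊤ : Submodule R (Fin n → M)) ⊓ LinearMap.range ψ := by
    refine ⟨pi_mem_smul_top _ _ (fun j => ?_), ⟨x, rfl⟩⟩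
    exact hx (h j) (hhmem j)
  rw [hk' (q + k') (Nat.le_add_left _ _), Nat.add_sub_cancel] at h1
  have h2 : 𝔞 ^ q • (𝔞 ^ k' • (⊤ : Submodule R (Fin n → M)) ⊓ LinearMap.range ψ) ≤
      Submodule.map ψ (𝔞 ^ q • (⊤ : Submodule R M)) := by
    rw [Submodule.map_smul'', Submodule.map_top]
    exact Submodule.smul_mono le_rfl inf_le_right
  obtain ⟨z, hz, hzx⟩ := h2 h1
  refine ⟨z, hz, fun a ha => ?_⟩
  have h3 : ∀ j, h j • (x - z) = 0 := by
    intro j
    have := congrFun hzx j
    simp only [ψ, LinearMap.pi_apply, LinearMap.lsmul_apply] at this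
    rw [smul_sub, this, sub_self]
  have ha' : a ∈ Submodule.span R (Set.range h) := by
    rw [hh]
    exact ha
  clear ha
  induction ha' using Submodule.span_induction with
  | mem y hy =>
    obtain ⟨j, rfl⟩ := hy
    exact h3 j
  | zero => exact zero_smul _ _
  | add y y' _ _ hy hy' => rw [add_smul, hy, hy', add_zero]
  | smul r y _ hy => rw [smul_eq_mul, mul_smul, hy, smul_zero]

end Noeth

section NoethU

variable {R : Type u} [CommRing R] [IsNoetherianRing R] {M : Type u} [AddCommGroup M] [Module R M]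
  [Module.Finite R M] (𝔞 : Ideal R)

theorem arProp_of_finite : ARProp R 𝔞 M := by
  obtain ⟨t0, ht0⟩ := Groth.Agent.Helper6.GrMapPoly2.exists_AR (N := M) 𝔞
  refine ⟨t0, fun k => ?_⟩
  obtain ⟨k', hk'⟩ := exists_AR2 (M := M) 𝔞 k
  refine ⟨k', fun q x hx hxk => ?_⟩
  rcases le_total q t0 with hq | hq
  · exact Submodule.smul_mono_left (Ideal.pow_le_pow_right hq) hx
  · obtain ⟨z, hz, hzx⟩ := hk' q x hxk
    have hz0 : z ∈ 𝔞 ^ t0 • (⊤ : Submodule R M) :=
      Submodule.smul_mono_left (Ideal.pow_le_pow_right hq) hz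
    have h0 : x - z = 0 := ht0 (x - z) (Submodule.sub_mem _ hx hz0) ⟨k, hzx⟩
    rw [sub_eq_zero] at h0
    rw [h0]
    exact hz

end NoethU

end Groth.Agent.Helper1.ModAR
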