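import Mathlib
import Groth.Agent.Helper1.ModAR1

/-!
# ModAR2: transfer of the Artin–Rees type property; the complete case
-/

set_option autoImplicit false
set_option linter.style.haveILetI false
set_option linter.unusedSectionVars false

universe u v

namespace Groth.Agent.Helper1.ModAR

section Equiv

variable {B : Type*} [CommRing B] {L L' : Type*} [AddCommGroup L] [Module B L]
  [AddCommGroup L'] [Module B L']

lemma map_mem_smul_top (f : L →ₗ[B] L') (K : Ideal B) {x : L}
    (hx : x ∈ K • (⊤ : Submodule B L)) : f x ∈ K • (⊤ : Submodule B L') := by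
  have h1 : K • (⊤ : Submodule B L) ≤ (K • (⊤ : Submodule B L')).comap f := by
    rw [Submodule.smul_le]
    intro r hr m _
    rw [Submodule.mem_comap, map_smul]
    exact Submodule.smul_mem_smul hr Submodule.mem_top
  exact h1 hx

lemma equiv_mem_smul_top_iff (e : L ≃ₗ[B] L') (K : Ideal B) (x : L) :
    e x ∈ K • (⊤ : Submodule B L') ↔ x ∈ K • (⊤ : Submodule B L) := by
  constructor
  · intro h
    have := map_mem_smul_top e.symm.toLinearMap K h
    simpa using this
  · intro h
    exact map_mem_smul_top e.toLinearMap K h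

theorem ARProp.of_equiv {J : Ideal B} (e : L ≃ₗ[B] L') (h : ARProp B J L') : ARProp B J L := by
  obtain ⟨t0, h⟩ := h
  refine ⟨t0, fun k => ?_⟩
  obtain ⟨k', hk'⟩ := h k
  refine ⟨k', fun q x hx hxk => ?_⟩
  rw [← equiv_mem_smul_top_iff e]
  refine hk' q (e x) ((equiv_mem_smul_top_iff e _ x).2 hx) (fun a ha => ?_)
  rw [← map_smul, equiv_mem_smul_top_iff e]
  exact hxk a ha

end Equiv

section Map

variable {B : Type*} [CommRing B] {R : Type*} [CommRing R] [Algebra B R]
  {L : Type*} [AddCommGroup L] [Module B L] [Module R L] [IsScalarTower B R L]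

lemma mem_map_pow_smul_top_iff (J : Ideal B) (t : ℕ) (x : L) :
    x ∈ (J.map (algebraMap B R)) ^ t • (⊤ : Submodule R L) ↔
      x ∈ J ^ t • (⊤ : Submodule B L) := by
  have h := Submodule.restrictScalars_map_smul_eq (R := R) (S := B) (J ^ t)
    (⊤ : Submodule R L)
  rw [Submodule.restrictScalars_top, Ideal.map_pow] at h
  rw [← h, Submodule.restrictScalars_mem]

theorem ARProp.of_map {J : Ideal B} (h : ARProp R (J.map (algebraMap B R)) L) :
    ARProp B J L := by
  obtain ⟨t0, h⟩ := h
  refine ⟨t0, fun k => ?_⟩
  obtain ⟨k', hk'⟩ := h k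
  refine ⟨k', fun q x hx hxk => ?_⟩
  rw [← mem_map_pow_smul_top_iff (R := R)]
  refine hk' q x ((mem_map_pow_smul_top_iff (R := R) J t0 x).2 hx) (fun a ha => ?_)
  rw [← Ideal.map_pow] at ha
  induction ha using Submodule.span_induction with
  | mem y hy =>
    obtain ⟨b, hb, rfl⟩ := hy
    rw [algebraMap_smul, mem_map_pow_smul_top_iff]
    exact hxk b hb
  | zero =>
    rw [zero_smul]
    exact Submodule.zero_mem _
  | add y y' _ _ hy hy' =>
    rw [add_smul]
    exact Submodule.add_mem _ hy hy'
  | smul r y _ hy =>
    rw [smul_eq_mul, mul_smul]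
    exact Submodule.smul_mem _ _ hy

end Map

section Complete

variable {B : Type u} [CommRing B] [IsNoetherianRing B] (J : Ideal B)
  {L : Type u} [AddCommGroup L] [Module B L]

/-- the completion of a module with finite reduction is finite over the completed ring -/
theorem finite_adicCompletion (hfin : Module.Finite B (L ⧸ (J • ⊤ : Submodule B L))) :
    Module.Finite (AdicCompletion J B) (AdicCompletion J L) := by
  have hJ : J.FG := IsNoetherian.noetherian J
  haveI : IsNoetherianRing (B ⧸ J) := inferInstance
  haveI hR : IsNoetherianRing (AdicCompletion J B) := Groth.Agent.S0542.result B J hJ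
  set 𝔞 : Ideal (AdicCompletion J B) := J.map (algebraMap B (AdicCompletion J B)) with h𝔞
  haveI hc : IsAdicComplete 𝔞 (AdicCompletion J B) :=
    (IsAdicComplete.map_algebraMap_iff J (AdicCompletion J B)).2
      (AdicCompletion.isAdicComplete (M := B) hJ)
  haveI hc' : IsAdicComplete 𝔞 (AdicCompletion J L) :=
    (IsAdicComplete.map_algebraMap_iff J (AdicCompletion J L)).2
      (AdicCompletion.isAdicComplete (M := L) hJ)
  haveI : IsHausdorff 𝔞 (AdicCompletion J L) := hc'.toIsHausdorff
  apply Groth.Agent.S0544.result (AdicCompletion J B) 𝔞 (AdicCompletion J L)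
  -- the reduction is finite
  have h1 : Module.Finite B (L ⧸ (J ^ 1 • ⊤ : Submodule B L)) := by
    rw [pow_one]
    exact hfin
  have hker : LinearMap.ker (AdicCompletion.eval J L 1) =
      (J ^ 1 • ⊤ : Submodule B (AdicCompletion J L)) :=
    (AdicCompletion.pow_smul_top_eq_ker_eval hJ).symm
  have hle : LinearMap.ker (AdicCompletion.eval J L 1) ≤
      LinearMap.ker ((Submodule.mkQ (𝔞 • ⊤ : Submodule (AdicCompletion J B)
        (AdicCompletion J L))).restrictScalars B) := by
    intro x hx
    rw [hker, pow_one] at hx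
    rw [LinearMap.mem_ker, LinearMap.restrictScalars_apply, Submodule.mkQ_apply,
      Submodule.Quotient.mk_eq_zero]
    have h2 := (mem_map_pow_smul_top_iff (R := AdicCompletion J B) J 1 x).2 (by rwa [pow_one])
    rwa [pow_one] at h2
  let g : (AdicCompletion J L ⧸ LinearMap.ker (AdicCompletion.eval J L 1)) →ₗ[B]
      (AdicCompletion J L ⧸ (𝔞 • ⊤ : Submodule (AdicCompletion J B) (AdicCompletion J L))) :=
    Submodule.liftQ _ _ hle
  have hg : Function.Surjective g := by
    intro y
    obtain ⟨x, rfl⟩ := Submodule.mkQ_surjective _ y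
    exact ⟨Submodule.Quotient.mk x, rfl⟩
  let e := (AdicCompletion.eval J L 1).quotKerEquivOfSurjective
    (AdicCompletion.eval_surjective J L 1)
  haveI : Module.Finite B (AdicCompletion J L ⧸ LinearMap.ker (AdicCompletion.eval J L 1)) :=
    Module.Finite.equiv e.symm
  haveI : Module.Finite B
      (AdicCompletion J L ⧸ (𝔞 • ⊤ : Submodule (AdicCompletion J B) (AdicCompletion J L))) :=
    Module.Finite.of_surjective g hg
  exact Module.Finite.of_restrictScalars_finite B (AdicCompletion J B) _

/-- the Artin–Rees type property for a complete module with finite reduction -/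
theorem arProp_of_complete [IsAdicComplete J L]
    (hfin : Module.Finite B (L ⧸ (J • ⊤ : Submodule B L))) : ARProp B J L := by
  haveI := finite_adicCompletion J hfin
  haveI : IsNoetherianRing (B ⧸ J) := inferInstance
  haveI : IsNoetherianRing (AdicCompletion J B) :=
    Groth.Agent.S0542.result B J (IsNoetherian.noetherian J)
  have h1 : ARProp (AdicCompletion J B) (J.map (algebraMap B (AdicCompletion J B)))
      (AdicCompletion J L) := arProp_of_finite _
  have h2 : ARProp B J (AdicCompletion J L) := ARProp.of_map h1
  exact ARProp.of_equiv (AdicCompletion.ofLinearEquiv J L) h2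

end Complete

end Groth.Agent.Helper1.ModAR
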