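import Mathlib
import Groth.Agent.Helper1.ModAR2

/-!
# GK1: Artin–Rees for the kernel and the image of a map of adically complete modules with
finite reduction (with respect to an arbitrary second ideal)
-/

set_option autoImplicit false
set_option linter.style.haveILetI false
set_option linter.unusedSectionVars false

universe u

namespace Groth.Agent.Helper1.GK

open Groth.Agent.Helper1.ModAR

section Noeth

variable {R : Type*} [CommRing R] [IsNoetherianRing R] {M M' : Type*} [AddCommGroup M]
  [Module R M] [Module.Finite R M] [AddCommGroup M'] [Module R M'] [Module.Finite R M']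

/-- Artin–Rees for a submodule, in the form used below -/
theorem exists_ar_sub (𝔞 : Ideal R) (N : Submodule R M) :
    ∃ c : ℕ, ∀ (n : ℕ) (x : M), x ∈ N → x ∈ 𝔞 ^ (n + c) • (⊤ : Submodule R M) → x ∈ 𝔞 ^ n • N := by
  obtain ⟨k, hk⟩ := Ideal.exists_pow_inf_eq_pow_smul 𝔞 N
  refine ⟨k, fun n x hxN hx => ?_⟩
  have h1 : x ∈ 𝔞 ^ (n + k) • (⊤ : Submodule R M) ⊓ N := ⟨hx, hxN⟩
  rw [hk (n + k) (Nat.le_add_left k n), Nat.add_sub_cancel] at h1
  exact Submodule.smul_mono le_rfl inf_le_right h1

/-- Artin–Rees for the kernel and the image of a linear map of finite modules -/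
theorem exists_ar_ker_noeth (𝔞 : Ideal R) (f : M →ₗ[R] M') :
    ∃ c : ℕ, (∀ (n : ℕ) (x : M), f x = 0 → x ∈ 𝔞 ^ (n + c) • (⊤ : Submodule R M) →
        x ∈ 𝔞 ^ n • LinearMap.ker f) ∧
      (∀ (n : ℕ) (x : M), f x ∈ 𝔞 ^ (n + c) • (⊤ : Submodule R M') →
        ∃ k : M, f k = 0 ∧ x - k ∈ 𝔞 ^ n • (⊤ : Submodule R M)) := by
  obtain ⟨c₁, h₁⟩ := exists_ar_sub 𝔞 (LinearMap.ker f)
  obtain ⟨c₂, h₂⟩ := exists_ar_sub 𝔞 (LinearMap.range f)
  refine ⟨max c₁ c₂, fun n x hx hxn => ?_, fun n x hx => ?_⟩
  · refine h₁ n x hx (Submodule.smul_mono_left (Ideal.pow_le_pow_right ?_) hxn)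
    have := le_max_left c₁ c₂
    omega
  · have h3 : f x ∈ 𝔞 ^ n • LinearMap.range f :=
      h₂ n (f x) ⟨x, rfl⟩ (Submodule.smul_mono_left (Ideal.pow_le_pow_right (by
        have := le_max_right c₁ c₂
        omega)) hx)
    rw [LinearMap.range_eq_map, ← Submodule.map_smul''] at h3
    obtain ⟨y, hy, hyx⟩ := h3
    refine ⟨x - y, ?_, ?_⟩
    · rw [map_sub, hyx, sub_self]
    · rw [sub_sub_cancel]
      exact hy

end Noeth

section Complete

variable {B : Type u} [CommRing B] [IsNoetherianRing B] (J : Ideal B)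
  {L L' : Type u} [AddCommGroup L] [Module B L] [AddCommGroup L'] [Module B L']

/-- **Artin–Rees for the kernel and the image of a map of complete modules with finite reduction**,
with respect to an arbitrary ideal `𝔎`. -/
theorem exists_ar_ker [IsAdicComplete J L] [IsAdicComplete J L']
    (hfin : Module.Finite B (L ⧸ (J • ⊤ : Submodule B L)))
    (hfin' : Module.Finite B (L' ⧸ (J • ⊤ : Submodule B L'))) (f : L →ₗ[B] L') (𝔎 : Ideal B) :
    ∃ c : ℕ, (∀ (n : ℕ) (x : L), f x = 0 → x ∈ 𝔎 ^ (n + c) • (⊤ : Submodule B L) →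
        x ∈ 𝔎 ^ n • LinearMap.ker f) ∧
      (∀ (n : ℕ) (x : L), f x ∈ 𝔎 ^ (n + c) • (⊤ : Submodule B L') →
        ∃ k : L, f k = 0 ∧ x - k ∈ 𝔎 ^ n • (⊤ : Submodule B L)) := by
  haveI := finite_adicCompletion J hfin
  haveI := finite_adicCompletion J hfin'
  haveI : IsNoetherianRing (B ⧸ J) := inferInstance
  haveI : IsNoetherianRing (AdicCompletion J B) :=
    Groth.Agent.S0542.result B J (IsNoetherian.noetherian J)
  let e := AdicCompletion.ofLinearEquiv J L
  let e' := AdicCompletion.ofLinearEquiv J L'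
  let fh := AdicCompletion.map J f
  have hfe : ∀ x : L, fh (e x) = e' (f x) := fun x => AdicCompletion.map_of J f x
  obtain ⟨c, hc₁, hc₂⟩ := exists_ar_ker_noeth (𝔎.map (algebraMap B (AdicCompletion J B))) fh
  refine ⟨c, fun n x hx hxn => ?_, fun n x hx => ?_⟩
  · have h1 : fh (e x) = 0 := by rw [hfe, hx, map_zero]
    have h2 : e x ∈ (𝔎.map (algebraMap B (AdicCompletion J B))) ^ (n + c) •
        (⊤ : Submodule (AdicCompletion J B) (AdicCompletion J L)) := by
      rw [mem_map_pow_smul_top_iff, equiv_mem_smul_top_iff]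
      exact hxn
    have h3 := hc₁ n (e x) h1 h2
    have h4 := Submodule.restrictScalars_map_smul_eq (R := AdicCompletion J B) (S := B)
      (𝔎 ^ n) (LinearMap.ker fh)
    rw [Ideal.map_pow] at h4
    have h5 : e x ∈ 𝔎 ^ n • (LinearMap.ker fh).restrictScalars B := by
      rw [← h4, Submodule.restrictScalars_mem]
      exact h3
    have h6 : (LinearMap.ker fh).restrictScalars B = (LinearMap.ker f).map e.toLinearMap := by
      ext y
      rw [Submodule.restrictScalars_mem, LinearMap.mem_ker, Submodule.mem_map]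
      constructor
      · intro hy
        refine ⟨e.symm y, ?_, by simp⟩
        rw [LinearMap.mem_ker]
        apply e'.injective
        rw [← hfe, map_zero]
        simpa using hy
      · rintro ⟨z, hz, rfl⟩
        rw [LinearMap.mem_ker] at hz
        show fh (e z) = 0
        rw [hfe, hz, map_zero]
    rw [h6, ← Submodule.map_smul''] at h5
    obtain ⟨z, hz, hzx⟩ := h5
    have : z = x := e.injective hzx
    rw [← this]
    exact hz
  · have h2 : fh (e x) ∈ (𝔎.map (algebraMap B (AdicCompletion J B))) ^ (n + c) •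
        (⊤ : Submodule (AdicCompletion J B) (AdicCompletion J L')) := by
      rw [hfe, mem_map_pow_smul_top_iff, equiv_mem_smul_top_iff]
      exact hx
    obtain ⟨k, hk, hxk⟩ := hc₂ n (e x) h2
    refine ⟨e.symm k, ?_, ?_⟩
    · apply e'.injective
      rw [← hfe, map_zero]
      simpa using hk
    · rw [mem_map_pow_smul_top_iff] at hxk
      rw [← equiv_mem_smul_top_iff e, map_sub]
      simpa using hxk

end Complete

end Groth.Agent.Helper1.GK
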