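import Mathlib
import Groth.Agent.Helper1.FormH
import Groth.Agent.Helper1.KLQuot

/-!
# GK2: the kernel system of a morphism of inverse systems of modules (construction)

For `α : F ⟶ G` and a constant `c`, the system `n ↦ Im(ker α_(n+2c) → F_(n+c)) / I^(n+1)`, with
its map to `F`.  For `c` large this is the kernel of `α` in the category of coherent formal modules.
-/

set_option autoImplicit false
set_option linter.style.haveILetI false
set_option linter.unusedSectionVars false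

universe u

open CategoryTheory CategoryTheory.Limits AlgebraicGeometry Opposite

namespace Groth.Agent.Helper1.GK

open Groth.Agent.Helper1.Form

variable {A : Type u} [CommRing A] {X : Scheme.{u}} [X.Over (Spec (CommRingCat.of A))]
variable {F G : ℕᵒᵖ ⥤ X.Modules} (α : F ⟶ G)

/-- `ker α_l ⟶ F_l ⟶ F_m` -/
noncomputable def kerTo {m l : ℕ} (h : m ≤ l) : kernel (α.app (op l)) ⟶ F.obj (op m) :=
  kernel.ι (α.app (op l)) ≫ ARSys.tr F h

/-- the image of `ker α_l` in `F_m` -/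
noncomputable def Kim {m l : ℕ} (h : m ≤ l) : X.Modules := Abelian.image (kerTo α h)

noncomputable def KimP {m l : ℕ} (h : m ≤ l) : kernel (α.app (op l)) ⟶ Kim α h :=
  Abelian.factorThruImage (kerTo α h)

noncomputable def Kimι {m l : ℕ} (h : m ≤ l) : Kim α h ⟶ F.obj (op m) :=
  Abelian.image.ι (kerTo α h)

instance {m l : ℕ} (h : m ≤ l) : Epi (KimP α h) :=
  inferInstanceAs (Epi (Abelian.factorThruImage (kerTo α h)))

instance {m l : ℕ} (h : m ≤ l) : Mono (Kimι α h) :=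
  inferInstanceAs (Mono (Abelian.image.ι (kerTo α h)))

@[reassoc]
lemma KimP_ι {m l : ℕ} (h : m ≤ l) : KimP α h ≫ Kimι α h = kerTo α h :=
  Abelian.image.fac _

@[reassoc]
lemma kerTo_tr {m m' l : ℕ} (h : m ≤ l) (hm : m' ≤ m) :
    kerTo α h ≫ ARSys.tr F hm = kerTo α (hm.trans h) := by
  unfold kerTo
  rw [Category.assoc, tr_comp]

lemma kerTo_α {m l : ℕ} (h : m ≤ l) : kerTo α h ≫ α.app (op m) = 0 := by
  unfold kerTo
  rw [Category.assoc, show ARSys.tr F h ≫ α.app (op m) = α.app (op l) ≫ ARSys.tr G h from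
    α.naturality _, kernel.condition_assoc, zero_comp]

@[reassoc]
lemma Kimι_α {m l : ℕ} (h : m ≤ l) : Kimι α h ≫ α.app (op m) = 0 := by
  rw [← cancel_epi (KimP α h), KimP_ι_assoc, kerTo_α, comp_zero]

/-- the map on kernels induced by the transition maps -/
noncomputable def kerTr {l l' : ℕ} (hl : l' ≤ l) :
    kernel (α.app (op l)) ⟶ kernel (α.app (op l')) :=
  kernel.map _ _ (ARSys.tr F hl) (ARSys.tr G hl) (α.naturality _).symm

@[reassoc]
lemma kerTr_ι {l l' : ℕ} (hl : l' ≤ l) :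
    kerTr α hl ≫ kernel.ι (α.app (op l')) = kernel.ι (α.app (op l)) ≫ ARSys.tr F hl :=
  kernel.lift_ι _ _ _

@[reassoc]
lemma kerTr_kerTo {m' l l' : ℕ} (hl : l' ≤ l) (h' : m' ≤ l') :
    kerTr α hl ≫ kerTo α h' = kerTo α (h'.trans hl) := by
  unfold kerTo
  rw [kerTr_ι_assoc, tr_comp]

lemma KimMap_aux {m l m' l' : ℕ} (h : m ≤ l) (h' : m' ≤ l') (hl : l' ≤ l) (hm : m' ≤ m) :
    (Kimι α h ≫ ARSys.tr F hm) ≫ cokernel.π (kerTo α h') = 0 := by
  rw [← cancel_epi (KimP α h), comp_zero, ← Category.assoc, ← Category.assoc, KimP_ι, kerTo_tr,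
    ← kerTr_kerTo α hl h', Category.assoc, cokernel.condition, comp_zero]

/-- the map between the images induced by the transition maps -/
noncomputable def KimMap {m l m' l' : ℕ} (h : m ≤ l) (h' : m' ≤ l') (hl : l' ≤ l) (hm : m' ≤ m) :
    Kim α h ⟶ Kim α h' :=
  kernel.lift (cokernel.π (kerTo α h')) (Kimι α h ≫ ARSys.tr F hm) (KimMap_aux α h h' hl hm)

@[reassoc]
lemma KimMap_ι {m l m' l' : ℕ} (h : m ≤ l) (h' : m' ≤ l') (hl : l' ≤ l) (hm : m' ≤ m) :
    KimMap α h h' hl hm ≫ Kimι α h' = Kimι α h ≫ ARSys.tr F hm :=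
  kernel.lift_ι _ _ _

@[reassoc]
lemma KimP_KimMap {m l m' l' : ℕ} (h : m ≤ l) (h' : m' ≤ l') (hl : l' ≤ l) (hm : m' ≤ m) :
    KimP α h ≫ KimMap α h h' hl hm = kerTr α hl ≫ KimP α h' := by
  rw [← cancel_mono (Kimι α h'), Category.assoc, KimMap_ι, KimP_ι_assoc, kerTo_tr, Category.assoc,
    KimP_ι, kerTr_kerTo]

variable (I : Ideal A) (c : ℕ)

/-- `Im(ker α_(n+2c) → F_(n+c))` -/
noncomputable abbrev KK (n : ℕ) : X.Modules :=
  Kim α (show n + c ≤ n + c + c from Nat.le_add_right _ _)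

/-- the terms of the kernel system -/
noncomputable def Kn (n : ℕ) : X.Modules := Formal.modPow I (n + 1) (KK α c n)

/-- the projection `KK n ⟶ Kn n` -/
noncomputable def Knπ (n : ℕ) : KK α c n ⟶ Kn α I c n := Formal.modPowπ I (n + 1) (KK α c n)

lemma isQuot_Knπ (n : ℕ) : IsQuot (I ^ (n + 1)) (Knπ α I c n) := isQuot_modPowπ I (n + 1) _

instance (n : ℕ) : Epi (Knπ α I c n) := (isQuot_Knπ α I c n).epi

noncomputable def KKmap (n : ℕ) : KK α c (n + 1) ⟶ KK α c n :=
  KimMap α _ _ (by omega) (by omega)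

@[reassoc]
lemma KKmap_ι (n : ℕ) : KKmap α c n ≫ Kimι α _ =
    Kimι α _ ≫ ARSys.tr F (show n + c ≤ n + 1 + c by omega) :=
  KimMap_ι α _ _ _ _

lemma kills_KKmap_π (n : ℕ) : Kills (I ^ (n + 1 + 1)) (KKmap α c n ≫ Knπ α I c n) :=
  ((isQuot_Knπ α I c n).kills.mono (Ideal.pow_le_pow_right (Nat.le_succ _))).comp_left _

/-- the transition maps of the kernel system -/
noncomputable def Kntr (n : ℕ) : Kn α I c (n + 1) ⟶ Kn α I c n :=
  (isQuot_Knπ α I c (n + 1)).desc (KKmap α c n ≫ Knπ α I c n) (kills_KKmap_π α I c n)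

@[reassoc]
lemma Knπ_Kntr (n : ℕ) : Knπ α I c (n + 1) ≫ Kntr α I c n = KKmap α c n ≫ Knπ α I c n :=
  IsQuot.fac_desc _ _ _

/-- **the kernel system** -/
noncomputable def kerSys : ℕᵒᵖ ⥤ X.Modules :=
  Functor.ofOpSequence (X := Kn α I c) (Kntr α I c)

lemma kerSys_map_succ (n : ℕ) :
    (kerSys α I c).map (homOfLE (Nat.le_succ n)).op = Kntr α I c n :=
  Functor.ofOpSequence_map_homOfLE_succ _ n

variable {I} in
lemma kills_Kimι_tr (hF : ∀ n, Formal.KilledBy (I ^ (n + 1)) (F.obj (op n))) (n : ℕ) :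
    Kills (I ^ (n + 1)) (Kimι α (show n + c ≤ n + c + c from Nat.le_add_right _ _) ≫
      ARSys.tr F (show n ≤ n + c from Nat.le_add_right _ _)) :=
  kills_of_killedBy_right (hF n) _

variable {I}
variable (hF : ∀ n, Formal.KilledBy (I ^ (n + 1)) (F.obj (op n)))

/-- the components of the map from the kernel system to `F` -/
noncomputable def kerιApp (n : ℕ) : Kn α I c n ⟶ F.obj (op n) :=
  (isQuot_Knπ α I c n).desc _ (kills_Kimι_tr α c hF n)

@[reassoc]
lemma Knπ_kerιApp (n : ℕ) : Knπ α I c n ≫ kerιApp α c hF n =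
    Kimι α (show n + c ≤ n + c + c from Nat.le_add_right _ _) ≫
      ARSys.tr F (show n ≤ n + c from Nat.le_add_right _ _) :=
  IsQuot.fac_desc _ _ _

lemma kerιApp_nat (n : ℕ) :
    (kerSys α I c).map (homOfLE (Nat.le_add_right n 1)).op ≫ kerιApp α c hF n =
      kerιApp α c hF (n + 1) ≫ F.map (homOfLE (Nat.le_add_right n 1)).op := by
  have e : (kerSys α I c).map (homOfLE (Nat.le_add_right n 1)).op = Kntr α I c n :=
    kerSys_map_succ α I c n
  rw [e]
  show Kntr α I c n ≫ kerιApp α c hF n = kerιApp α c hF (n + 1) ≫ ARSys.tr F (Nat.le_succ n)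
  rw [← cancel_epi (Knπ α I c (n + 1)), Knπ_Kntr_assoc, Knπ_kerιApp, KKmap_ι_assoc,
    Knπ_kerιApp_assoc]
  congr 1
  rw [tr_comp, tr_comp]

/-- **the map from the kernel system to `F`** -/
noncomputable def kerι : kerSys α I c ⟶ F :=
  NatTrans.ofOpSequence (fun n => kerιApp α c hF n) (kerιApp_nat α c hF)

lemma kerι_app (n : ℕ) : (kerι α c hF).app (op n) = kerιApp α c hF n := rfl

lemma kerιApp_α (n : ℕ) : kerιApp α c hF n ≫ α.app (op n) = 0 := by
  rw [← cancel_epi (Knπ α I c n), Knπ_kerιApp_assoc, comp_zero,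
    show ARSys.tr F (show n ≤ n + c from Nat.le_add_right _ _) ≫ α.app (op n) =
      α.app (op (n + c)) ≫ ARSys.tr G (show n ≤ n + c from Nat.le_add_right _ _) from
      α.naturality _,
    Kimι_α_assoc, zero_comp]

lemma kerι_α : kerι α c hF ≫ α = 0 := by
  apply NatTrans.ext
  funext ⟨n⟩
  exact kerιApp_α α c hF n

end Groth.Agent.Helper1.GK
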