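import Mathlib
import Groth.Agent.Helper1.LimSec2
import Groth.Agent.Helper1.ModAR2
import Groth.Agent.Helper4.SecDict
import Groth.Agent.Helper4.QcohEpi

/-!
# LimSec3: sections of the limit of a coherent formal system over an affine open:
completeness, finite reduction, and the Artin–Rees type consequence
-/

set_option autoImplicit false
set_option linter.style.haveILetI false
set_option linter.unusedSectionVars false

universe u

open CategoryTheory CategoryTheory.Limits AlgebraicGeometry Opposite

namespace Groth.Agent.Helper1.LimSec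

open Groth.Agent.Helper1.Form Groth.Agent.Helper1.QuotPush Groth.Agent.Helper4
open Groth.Agent.Helper1.ProML Groth.Agent.Helper1.ModAR

variable {A : Type u} [CommRing A] {X : Scheme.{u}} [X.Over (Spec (CommRingCat.of A))]
variable {I : Ideal A} (hI : I.FG) {G : ℕᵒᵖ ⥤ X.Modules} (hG : Formal2.IsQCohFormal I G)

section
attribute [local instance] modρ

include hI hG in
/-- sections of the limit over an affine open are adically complete -/
theorem isAdicComplete_sections_affine {U : X.Opens} (hU : IsAffineOpen U) :
    IsAdicComplete (I.map (ρ (A := A) U)) Γ(limit G, U) := by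
  have hQ := hasQuotTrans_of_isQCohFormal hG
  haveI : ∀ j, (G.obj (op j)).IsQuasicoherent := fun j => hG.1 j
  have hf : ∀ j, Function.Surjective
      (appρ (A := A) (G.map (homOfLE (Nat.le_succ j)).op) U) :=
    fun j => KLQuot.app_surjective (hQ j) hU
  have hker : ∀ j, LinearMap.ker (appρ (A := A) (G.map (homOfLE (Nat.le_succ j)).op) U) =
      I ^ (j + 1) • (⊤ : Submodule A Γ(G.obj (op (j + 1)), U)) := by
    intro j
    apply le_antisymm
    · intro x hx
      obtain ⟨r, g, hg⟩ := Groth.Agent.Helper1.HomCompl.exists_gens_pow hI (j + 1)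
      have hq : IsQuot (Ideal.span (Set.range g)) (G.map (homOfLE (Nat.le_succ j)).op) := by
        rw [hg]
        exact hQ j
      have h1 := KLQuot.mem_smul_top_of_app_eq_zero g hq hU x hx
      rw [hg] at h1
      exact mem_smul_top_of_mem_map _ _ _ h1
    · intro x hx
      exact KLQuot.app_eq_zero_of_mem_smul_top (hQ j).kills U (mem_map_smul_top_of_mem _ _ _ hx)
  have hπ : ∀ j, appρ (A := A) (G.map (homOfLE (Nat.le_succ j)).op) U ∘ₗ
      appρ (A := A) (limit.π G (op (j + 1))) U = appρ (A := A) (limit.π G (op j)) U := by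
    intro j
    ext s
    exact congrArg (fun φ => Scheme.Modules.Hom.app φ U s)
      (limit.w G (homOfLE (Nat.le_succ j)).op)
  have hinj : ∀ x : Γ(limit G, U), (∀ j, appρ (A := A) (limit.π G (op j)) U x = 0) → x = 0 := by
    intro x hx
    refine limit_sections_ext G U x 0 (fun j => ?_)
    rw [map_zero]
    exact hx j
  have hlift : ∀ y : (∀ j, Γ(G.obj (op j), U)),
      (∀ j, appρ (A := A) (G.map (homOfLE (Nat.le_succ j)).op) U (y (j + 1)) = y j) →
      ∃ x : Γ(limit G, U), ∀ j, appρ (A := A) (limit.π G (op j)) U x = y j :=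
    fun y hy => limit_sections_exists G U y (compat_of_succ_sections G U y hy)
  have key := Groth.Agent.S2291.result A I hI (fun j => Γ(G.obj (op j), U))
    (fun j => appρ (A := A) (G.map (homOfLE (Nat.le_succ j)).op) U) hf hker
    Γ(limit G, U) (fun j => appρ (A := A) (limit.π G (op j)) U) hπ hinj hlift
  have hc : IsAdicComplete I Γ(limit G, U) := key.1
  letI : Algebra A Γ(X, U) := (ρ (A := A) U).toAlgebra
  haveI : IsScalarTower A Γ(X, U) Γ(limit G, U) :=
    IsScalarTower.of_algebraMap_smul (fun a x => rfl)
  exact (IsAdicComplete.map_algebraMap_iff I Γ(limit G, U)).2 hc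

end

include hI hG in
/-- the reduction of the sections of the limit is finite -/
theorem finite_reduction_sections_affine {U : X.Opens} (hU : IsAffineOpen U)
    (hcoh : Coh.IsCoh (G.obj (op 0))) :
    Module.Finite Γ(X, U) (Γ(limit G, U) ⧸
      ((I.map (ρ (A := A) U)) • ⊤ : Submodule Γ(X, U) Γ(limit G, U))) := by
  have h0 := sections_affine hI hG hU 0
  haveI : Module.Finite Γ(X, U) Γ(G.obj (op 0), U) :=
    SecDict.finite_sections hU _ hcoh.1 hcoh.2
  let π0 : Γ(limit G, U) →ₗ[Γ(X, U)] Γ(G.obj (op 0), U) := QcohEpi.appLin (limit.π G (op 0)) U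
  have hsurj : Function.Surjective π0 := h0.1
  have hle : LinearMap.ker π0 ≤
      ((I.map (ρ (A := A) U)) • ⊤ : Submodule Γ(X, U) Γ(limit G, U)) := by
    intro s hs
    have := h0.2 s hs
    rwa [zero_add, pow_one] at this
  let e := π0.quotKerEquivOfSurjective hsurj
  haveI : Module.Finite Γ(X, U) (Γ(limit G, U) ⧸ LinearMap.ker π0) := Module.Finite.equiv e.symm
  let g : (Γ(limit G, U) ⧸ LinearMap.ker π0) →ₗ[Γ(X, U)] (Γ(limit G, U) ⧸
      ((I.map (ρ (A := A) U)) • ⊤ : Submodule Γ(X, U) Γ(limit G, U))) :=
    Submodule.mapQ _ _ LinearMap.id (by simpa using hle)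
  have hg : Function.Surjective g := by
    intro y
    obtain ⟨x, rfl⟩ := Submodule.mkQ_surjective _ y
    exact ⟨Submodule.Quotient.mk x, rfl⟩
  exact Module.Finite.of_surjective g hg

include hI hG in
/-- the Artin–Rees type property of the sections of the limit over an affine open -/
theorem arProp_sections_affine [IsLocallyNoetherian X] {U : X.Opens} (hU : IsAffineOpen U)
    (hcoh : Coh.IsCoh (G.obj (op 0))) :
    ARProp Γ(X, U) (I.map (ρ (A := A) U)) Γ(limit G, U) := by
  haveI : IsNoetherianRing Γ(X, U) := IsLocallyNoetherian.component_noetherian ⟨U, hU⟩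
  haveI := isAdicComplete_sections_affine hI hG hU
  exact arProp_of_complete _ (finite_reduction_sections_affine hI hG hU hcoh)

end Groth.Agent.Helper1.LimSec
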