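import Mathlib
import Groth.Agent.Helper1.GK1
import Groth.Agent.Helper1.GK2
import Groth.Agent.Helper1.LimSec3
import Groth.Agent.Helper4.StalkExact

/-!
# GK3: sections over affine opens of the limits and of the images `Kim`
-/

set_option autoImplicit false
set_option linter.style.haveILetI false
set_option linter.unusedSectionVars false

universe u

open CategoryTheory CategoryTheory.Limits AlgebraicGeometry Opposite

namespace Groth.Agent.Helper1.GK

open Groth.Agent.Helper1.Form Groth.Agent.Helper1.QuotPush Groth.Agent.Helper4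
open Groth.Agent.Helper1.LimSec Groth.Agent.Helper4.QcohEpi

variable {A : Type u} [CommRing A] {X : Scheme.{u}} [X.Over (Spec (CommRingCat.of A))]
variable {F G : ℕᵒᵖ ⥤ X.Modules} (α : F ⟶ G)

theorem app_injective_of_mono {M N : X.Modules} (φ : M ⟶ N) [Mono φ] (V : X.Opens) :
    Function.Injective (φ.app V) := by
  haveI : Mono ((Scheme.Modules.toPresheaf X).map φ) := inferInstance
  have h1 : Mono (((Scheme.Modules.toPresheaf X).map φ).app (op V)) := inferInstance
  exact (AddCommGrpCat.mono_iff_injective _).1 h1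

/-- sections of a kernel -/
lemma exists_kernel_section {M N : X.Modules} (φ : M ⟶ N) (U : X.Opens) (z : Γ(M, U))
    (hz : φ.app U z = 0) : ∃ w : Γ(kernel φ, U), (kernel.ι φ).app U w = z := by
  let S : ShortComplex X.Modules := ShortComplex.mk (kernel.ι φ) φ (kernel.condition φ)
  have hS : S.Exact := ShortComplex.exact_of_f_is_kernel _ (kernelIsKernel φ)
  haveI : Mono S.f := inferInstanceAs (Mono (kernel.ι φ))
  exact (StalkExact.app_exact S hS U z).1 hz

lemma kernel_ι_app {M N : X.Modules} (φ : M ⟶ N) (U : X.Opens) (w : Γ(kernel φ, U)) :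
    φ.app U ((kernel.ι φ).app U w) = 0 := by
  have := congrArg (fun f => f.app U w) (kernel.condition φ)
  exact this

variable (F) in
/-- the projections from the sections of the limit, as linear maps -/
noncomputable def limπ (U : X.Opens) (n : ℕ) :
    Γ(limit F, U) →ₗ[Γ(X, U)] Γ(F.obj (op n), U) := appLin (limit.π F (op n)) U

/-- the map on the sections of the limits -/
noncomputable def limf (U : X.Opens) : Γ(limit F, U) →ₗ[Γ(X, U)] Γ(limit G, U) :=
  appLin (limMap α) U

lemma limπ_limf (U : X.Opens) (n : ℕ) (x : Γ(limit F, U)) :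
    limπ G U n (limf α U x) = (α.app (op n)).app U (limπ F U n x) := by
  have := congrArg (fun f => f.app U x) (limMap_π α (op n))
  exact this

lemma tr_limπ (U : X.Opens) {m l : ℕ} (h : m ≤ l) (x : Γ(limit F, U)) :
    (ARSys.tr F h).app U (limπ F U l x) = limπ F U m x := by
  have := congrArg (fun f => f.app U x) (limit.w F (homOfLE h).op)
  exact this

section Sections

variable {I : Ideal A} (hI : I.FG) (hF : Formal2.IsQCohFormal I F)

include hI hF in
lemma limπ_surjective {U : X.Opens} (hU : IsAffineOpen U) (n : ℕ) :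
    Function.Surjective (limπ F U n) := (sections_affine hI hF hU n).1

include hI hF in
lemma mem_of_limπ_eq_zero {U : X.Opens} (hU : IsAffineOpen U) (n : ℕ) (x : Γ(limit F, U))
    (hx : limπ F U n x = 0) :
    x ∈ (I.map (ρ (A := A) U)) ^ (n + 1) • (⊤ : Submodule Γ(X, U) Γ(limit F, U)) := by
  have := (sections_affine hI hF hU n).2 x hx
  rwa [Ideal.map_pow] at this

include hF in
lemma limπ_eq_zero_of_mem (U : X.Opens) (n : ℕ) (x : Γ(limit F, U))
    (hx : x ∈ (I.map (ρ (A := A) U)) ^ (n + 1) • (⊤ : Submodule Γ(X, U) Γ(limit F, U))) :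
    limπ F U n x = 0 := by
  have hk : Kills (I ^ (n + 1)) (limit.π F (op n)) := kills_of_killedBy_right (hF.2.1 n) _
  rw [← Ideal.map_pow] at hx
  exact KLQuot.app_eq_zero_of_mem_smul_top hk U hx

end Sections

/-- the Artin–Rees property of `α` over `U` with constant `c` -/
def ARGood (I : Ideal A) (U : X.Opens) (c : ℕ) : Prop :=
  (∀ (n : ℕ) (x : Γ(limit F, U)), limf α U x = 0 →
      x ∈ (I.map (ρ (A := A) U)) ^ (n + c) • (⊤ : Submodule Γ(X, U) Γ(limit F, U)) →
      x ∈ (I.map (ρ (A := A) U)) ^ n • LinearMap.ker (limf α U)) ∧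
  (∀ (n : ℕ) (x : Γ(limit F, U)),
      limf α U x ∈ (I.map (ρ (A := A) U)) ^ (n + c) •
        (⊤ : Submodule Γ(X, U) Γ(limit G, U)) →
      ∃ k, limf α U k = 0 ∧
        x - k ∈ (I.map (ρ (A := A) U)) ^ n • (⊤ : Submodule Γ(X, U) Γ(limit F, U)))

variable {α} in
lemma ARGood.mono {I : Ideal A} {U : X.Opens} {c c' : ℕ} (h : ARGood α I U c) (hc : c ≤ c') :
    ARGood α I U c' := by
  refine ⟨fun n x hx hxn => h.1 n x hx ?_, fun n x hx => h.2 n x ?_⟩
  · exact Submodule.smul_mono_left (Ideal.pow_le_pow_right (by omega)) hxn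
  · exact Submodule.smul_mono_left (Ideal.pow_le_pow_right (by omega)) hx

theorem exists_arGood [IsLocallyNoetherian X] {I : Ideal A} (hI : I.FG)
    (hF : Formal.IsCohFormal I F) (hG : Formal.IsCohFormal I G) {U : X.Opens}
    (hU : IsAffineOpen U) : ∃ c, ARGood α I U c := by
  have hFq : Formal2.IsQCohFormal I F := ⟨fun n => (hF.1 n).1, hF.2.1, hF.2.2⟩
  have hGq : Formal2.IsQCohFormal I G := ⟨fun n => (hG.1 n).1, hG.2.1, hG.2.2⟩
  haveI : IsNoetherianRing Γ(X, U) := IsLocallyNoetherian.component_noetherian ⟨U, hU⟩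
  haveI := isAdicComplete_sections_affine hI hFq hU
  haveI := isAdicComplete_sections_affine hI hGq hU
  exact exists_ar_ker (I.map (ρ (A := A) U))
    (finite_reduction_sections_affine hI hFq hU (hF.1 0))
    (finite_reduction_sections_affine hI hGq hU (hG.1 0)) (limf α U) (I.map (ρ (A := A) U))

theorem exists_arGood_cover [IsNoetherian X] {I : Ideal A} (hI : I.FG)
    (hF : Formal.IsCohFormal I F) (hG : Formal.IsCohFormal I G) :
    ∃ c, ∀ x : X, ∃ U : X.Opens, IsAffineOpen U ∧ x ∈ U ∧ ARGood α I U c := by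
  classical
  have hcov : ∀ x : X, ∃ U : X.Opens, IsAffineOpen U ∧ x ∈ U := fun x =>
    QcohLimits.exists_affine_nhd x
  choose U hU hxU using hcov
  obtain ⟨T, hT⟩ := isCompact_univ.elim_finite_subcover (fun x => ((U x : X.Opens) : Set X))
    (fun x => (U x).isOpen) (fun x _ => Set.mem_iUnion.2 ⟨x, hxU x⟩)
  have hc : ∀ y : X, ∃ c, ARGood α I (U y) c := fun y => exists_arGood α hI hF hG (hU y)
  choose c hc using hc
  refine ⟨T.sup c, fun x => ?_⟩
  obtain ⟨y, hy⟩ := Set.mem_iUnion.1 (hT (Set.mem_univ x))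
  obtain ⟨hyT, hxy⟩ := Set.mem_iUnion.1 hy
  exact ⟨U y, hU y, hxy, (hc y).mono (Finset.le_sup hyT)⟩

section Kim

variable {I : Ideal A} (hI : I.FG) (hF : Formal2.IsQCohFormal I F) (hG : Formal2.IsQCohFormal I G)

include hF hG in
lemma isQuasicoherent_Kim {m l : ℕ} (h : m ≤ l) : (Kim α h).IsQuasicoherent := by
  haveI : (F.obj (op l)).IsQuasicoherent := hF.1 l
  haveI : (F.obj (op m)).IsQuasicoherent := hF.1 m
  haveI : (G.obj (op l)).IsQuasicoherent := hG.1 l
  haveI := QcohLimits.isQuasicoherent_kernel (α.app (op l))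
  exact QcohLimits.isQuasicoherent_image (kerTo α h)

/-- elements of the kernel give sections of the image -/
theorem exists_Kim_section (U : X.Opens) {m l : ℕ} (h : m ≤ l) (k : Γ(limit F, U))
    (hk : limf α U k = 0) :
    ∃ s : Γ(Kim α h, U), (Kimι α h).app U s = limπ F U m k := by
  have h1 : (α.app (op l)).app U (limπ F U l k) = 0 := by
    rw [← limπ_limf, hk, map_zero]
  obtain ⟨w, hw⟩ := exists_kernel_section (α.app (op l)) U _ h1
  refine ⟨(KimP α h).app U w, ?_⟩
  have h2 := congrArg (fun f => f.app U w) (KimP_ι α h)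
  refine h2.trans ?_
  show (ARSys.tr F h).app U ((kernel.ι (α.app (op l))).app U w) = _
  rw [hw, tr_limπ]

include hI hF hG in
/-- all sections of the image come from the kernel, in the Artin–Rees range -/
theorem exists_of_Kim_section {U : X.Opens} (hU : IsAffineOpen U) {c : ℕ}
    (hgood : ARGood α I U c) {m l : ℕ} (h : m ≤ l) (hl : m + c ≤ l) (s : Γ(Kim α h, U)) :
    ∃ k : Γ(limit F, U), limf α U k = 0 ∧ (Kimι α h).app U s = limπ F U m k := by
  haveI : (F.obj (op l)).IsQuasicoherent := hF.1 l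
  haveI : (G.obj (op l)).IsQuasicoherent := hG.1 l
  haveI := QcohLimits.isQuasicoherent_kernel (α.app (op l))
  haveI := isQuasicoherent_Kim α hF hG h
  obtain ⟨w, rfl⟩ := app_surjective_of_epi (KimP α h) hU s
  obtain ⟨y, hy⟩ := limπ_surjective hI hF hU l ((kernel.ι (α.app (op l))).app U w)
  have h1 : limπ G U l (limf α U y) = 0 := by
    rw [limπ_limf, hy, kernel_ι_app]
  have h2 := mem_of_limπ_eq_zero hI hG hU l _ h1
  have h3 : limf α U y ∈ (I.map (ρ (A := A) U)) ^ (m + 1 + c) •
      (⊤ : Submodule Γ(X, U) Γ(limit G, U)) :=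
    Submodule.smul_mono_left (Ideal.pow_le_pow_right (by omega)) h2
  obtain ⟨k, hk, hyk⟩ := hgood.2 (m + 1) y h3
  refine ⟨k, hk, ?_⟩
  have h4 := limπ_eq_zero_of_mem hF U m _ hyk
  rw [map_sub, sub_eq_zero] at h4
  rw [← h4, ← tr_limπ U h y, hy]
  exact congrArg (fun f => f.app U w) (KimP_ι α h)

/-- the section map from the kernel of the map of limits to the sections of the image -/
noncomputable def sec (U : X.Opens) {m l : ℕ} (h : m ≤ l) :
    LinearMap.ker (limf α U) →ₗ[Γ(X, U)] Γ(Kim α h, U) where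
  toFun k := (exists_Kim_section α U h k.1 k.2).choose
  map_add' a b := by
    apply app_injective_of_mono (Kimι α h) U
    rw [(exists_Kim_section α U h (a + b).1 (a + b).2).choose_spec, map_add,
      (exists_Kim_section α U h a.1 a.2).choose_spec,
      (exists_Kim_section α U h b.1 b.2).choose_spec]
    exact map_add _ _ _
  map_smul' r a := by
    apply app_injective_of_mono (Kimι α h) U
    rw [(exists_Kim_section α U h (r • a).1 (r • a).2).choose_spec]
    have h1 : (Kimι α h).app U (r • (exists_Kim_section α U h a.1 a.2).choose) =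
        r • (Kimι α h).app U (exists_Kim_section α U h a.1 a.2).choose :=
      (appLin (Kimι α h) U).map_smul r _
    rw [RingHom.id_apply, h1, (exists_Kim_section α U h a.1 a.2).choose_spec]
    exact (limπ F U m).map_smul r a.1

lemma Kimι_sec (U : X.Opens) {m l : ℕ} (h : m ≤ l) (k : LinearMap.ker (limf α U)) :
    (Kimι α h).app U (sec α U h k) = limπ F U m k.1 :=
  (exists_Kim_section α U h k.1 k.2).choose_spec

include hI hF hG in
lemma sec_surjective {U : X.Opens} (hU : IsAffineOpen U) {c : ℕ}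
    (hgood : ARGood α I U c) {m l : ℕ} (h : m ≤ l) (hl : m + c ≤ l) :
    Function.Surjective (sec α U h) := by
  intro s
  obtain ⟨k, hk, hs⟩ := exists_of_Kim_section α hI hF hG hU hgood h hl s
  refine ⟨⟨k, hk⟩, ?_⟩
  apply app_injective_of_mono (Kimι α h) U
  rw [Kimι_sec, hs]

lemma KimMap_sec (U : X.Opens) {m l m' l' : ℕ} (h : m ≤ l) (h' : m' ≤ l') (hl : l' ≤ l)
    (hm : m' ≤ m) (k : LinearMap.ker (limf α U)) :
    (KimMap α h h' hl hm).app U (sec α U h k) = sec α U h' k := by
  apply app_injective_of_mono (Kimι α h') U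
  rw [Kimι_sec]
  have h1 := congrArg (fun f => f.app U (sec α U h k)) (KimMap_ι α h h' hl hm)
  refine h1.trans ?_
  show (ARSys.tr F hm).app U ((Kimι α h).app U (sec α U h k)) = _
  rw [Kimι_sec, tr_limπ]

end Kim

end Groth.Agent.Helper1.GK
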