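import Mathlib
import Groth.Agent.Helper1.GK3
import Groth.Agent.Lead.GExI

/-!
# GK4: the kernel system is a coherent formal module
-/

set_option autoImplicit false
set_option linter.style.haveILetI false
set_option linter.unusedSectionVars false

universe u

open CategoryTheory CategoryTheory.Limits AlgebraicGeometry Opposite

namespace Groth.Agent.Helper1.GK

open Groth.Agent.Helper1.Form Groth.Agent.Helper1.QuotPush Groth.Agent.Helper4
open Groth.Agent.Helper1.LimSec Groth.Agent.Helper4.QcohEpi Groth.Agent.Helper1.ModAR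

variable {A : Type u} [CommRing A] {X : Scheme.{u}} [X.Over (Spec (CommRingCat.of A))]
variable {F G : ℕᵒᵖ ⥤ X.Modules} (α : F ⟶ G)
variable {I : Ideal A} (hI : I.FG) (hF : Formal2.IsQCohFormal I F) (hG : Formal2.IsQCohFormal I G)
variable (c : ℕ)

include hF hG in
lemma isQuasicoherent_KK (n : ℕ) : (KK α c n).IsQuasicoherent := isQuasicoherent_Kim α hF hG _

include hF hG in
lemma isQuasicoherent_Kn (n : ℕ) : (Kn α I c n).IsQuasicoherent := by
  haveI := isQuasicoherent_KK α hF hG c n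
  exact KLQuot.isQuasicoherent_modPow I (n + 1) _

/-- the section map to the terms of the kernel system -/
noncomputable def ψ (I : Ideal A) (U : X.Opens) (n : ℕ) :
    LinearMap.ker (limf α U) →ₗ[Γ(X, U)] Γ(Kn α I c n, U) :=
  appLin (Knπ α I c n) U ∘ₗ sec α U (show n + c ≤ n + c + c from Nat.le_add_right _ _)

lemma ψ_apply (U : X.Opens) (n : ℕ) (k : LinearMap.ker (limf α U)) :
    ψ α c I U n k = (Knπ α I c n).app U (sec α U _ k) := rfl

include hI hF hG in
lemma ψ_surjective {U : X.Opens} (hU : IsAffineOpen U) (hgood : ARGood α I U c) (n : ℕ) :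
    Function.Surjective (ψ α c I U n) := by
  haveI := isQuasicoherent_KK α hF hG c n
  intro x
  obtain ⟨s, rfl⟩ := KLQuot.app_surjective (isQuot_Knπ α I c n) hU x
  obtain ⟨k, rfl⟩ := sec_surjective α hI hF hG hU hgood _ (le_refl _) s
  exact ⟨k, rfl⟩

lemma mem_smul_top_ker_iff {B : Type*} [CommRing B] {M N : Type*} [AddCommGroup M] [Module B M]
    [AddCommGroup N] [Module B N] (f : M →ₗ[B] N) (J : Ideal B) (k : LinearMap.ker f) :
    k ∈ J • (⊤ : Submodule B (LinearMap.ker f)) ↔ k.1 ∈ J • LinearMap.ker f := by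
  have h1 : (J • (⊤ : Submodule B (LinearMap.ker f))).map (LinearMap.ker f).subtype =
      J • LinearMap.ker f := by
    rw [Submodule.map_smul'', Submodule.map_subtype_top]
  rw [← h1]
  constructor
  · intro h
    exact ⟨k, h, rfl⟩
  · rintro ⟨k', hk', e⟩
    have : k' = k := Subtype.ext e
    rwa [← this]

lemma ψ_eq_zero_of_mem (U : X.Opens) (n : ℕ) (k : LinearMap.ker (limf α U))
    (hk : k.1 ∈ (I.map (ρ (A := A) U)) ^ (n + 1) • LinearMap.ker (limf α U)) :
    ψ α c I U n k = 0 := by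
  rw [← mem_smul_top_ker_iff] at hk
  have h1 := map_mem_smul_top (sec α U (show n + c ≤ n + c + c from Nat.le_add_right _ _)) _ hk
  rw [ψ_apply]
  rw [← Ideal.map_pow] at h1
  exact KLQuot.app_eq_zero_of_mem_smul_top (isQuot_Knπ α I c n).kills U h1

include hI hF hG in
lemma mem_of_ψ_eq_zero {U : X.Opens} (hU : IsAffineOpen U) (hgood : ARGood α I U c) (n : ℕ)
    (k : LinearMap.ker (limf α U)) (hk : ψ α c I U n k = 0) :
    k.1 ∈ (I.map (ρ (A := A) U)) ^ (n + 1) • LinearMap.ker (limf α U) := by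
  haveI := isQuasicoherent_KK α hF hG c n
  obtain ⟨r, g, hg⟩ := Groth.Agent.Helper1.HomCompl.exists_gens_pow hI (n + 1)
  have hq : IsQuot (Ideal.span (Set.range g)) (Knπ α I c n) := by
    rw [hg]
    exact isQuot_Knπ α I c n
  have h1 := KLQuot.mem_smul_top_of_app_eq_zero g hq hU _ hk
  rw [hg, Ideal.map_pow] at h1
  -- `sec k ∈ J^(n+1) • ⊤ = sec (J^(n+1) • ⊤)`
  have hsurj := sec_surjective α hI hF hG hU hgood
    (show n + c ≤ n + c + c from Nat.le_add_right _ _) (le_refl _)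
  have h2 : ((I.map (ρ (A := A) U)) ^ (n + 1) •
      (⊤ : Submodule Γ(X, U) Γ(KK α c n, U))) =
      ((I.map (ρ (A := A) U)) ^ (n + 1) •
        (⊤ : Submodule Γ(X, U) (LinearMap.ker (limf α U)))).map
        (sec α U (show n + c ≤ n + c + c from Nat.le_add_right _ _)) := by
    rw [Submodule.map_smul'', Submodule.map_top, LinearMap.range_eq_top.2 hsurj]
  rw [h2] at h1
  obtain ⟨k₁, hk₁, hk₁k⟩ := h1
  have h3 : sec α U (show n + c ≤ n + c + c from Nat.le_add_right _ _) (k - k₁) = 0 := by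
    rw [map_sub, hk₁k, sub_self]
  have h4 : limπ F U (n + c) (k - k₁).1 = 0 := by
    rw [← Kimι_sec, h3, map_zero]
  have h5 := mem_of_limπ_eq_zero hI hF hU (n + c) _ h4
  have h6 : (k - k₁).1 ∈ (I.map (ρ (A := A) U)) ^ (n + 1) • LinearMap.ker (limf α U) := by
    refine hgood.1 (n + 1) _ (k - k₁).2 ?_
    have e : n + 1 + c = n + c + 1 := by omega
    rw [e]
    exact h5
  have h7 : k₁.1 ∈ (I.map (ρ (A := A) U)) ^ (n + 1) • LinearMap.ker (limf α U) :=
    (mem_smul_top_ker_iff _ _ _).1 hk₁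
  have h8 : k.1 = (k - k₁).1 + k₁.1 := by
    simp
  rw [h8]
  exact Submodule.add_mem _ h6 h7

lemma Kntr_ψ (U : X.Opens) (n : ℕ) (k : LinearMap.ker (limf α U)) :
    (Kntr α I c n).app U (ψ α c I U (n + 1) k) = ψ α c I U n k := by
  rw [ψ_apply, ψ_apply]
  have h1 := congrArg (fun f => f.app U (sec α U _ k)) (Knπ_Kntr α I c n)
  refine h1.trans ?_
  show (Knπ α I c n).app U ((KKmap α c n).app U (sec α U _ k)) = _
  congr 1
  exact KimMap_sec α U _ _ _ _ k

lemma kerιApp_ψ (hFk : ∀ n, Formal.KilledBy (I ^ (n + 1)) (F.obj (op n))) (U : X.Opens) (n : ℕ)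
    (k : LinearMap.ker (limf α U)) :
    (kerιApp α c hFk n).app U (ψ α c I U n k) = limπ F U n k.1 := by
  rw [ψ_apply]
  have h1 := congrArg (fun f => f.app U (sec α U _ k)) (Knπ_kerιApp α c hFk n)
  refine h1.trans ?_
  show (ARSys.tr F _).app U ((Kimι α _).app U (sec α U _ k)) = _
  rw [Kimι_sec, tr_limπ]

lemma tr_kerSys_ψ (U : X.Opens) {n m : ℕ} (h : n ≤ m) (k : LinearMap.ker (limf α U)) :
    (ARSys.tr (kerSys α I c) h).app U (ψ α c I U m k) = ψ α c I U n k := by
  induction m, h using Nat.le_induction with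
  | base =>
    rw [tr_self]
    rfl
  | succ m hm ih =>
    rw [show ARSys.tr (kerSys α I c) (Nat.le_succ_of_le hm) = _ from tr_succ (kerSys α I c) hm,
      kerSys_map_succ]
    show (ARSys.tr (kerSys α I c) hm).app U ((Kntr α I c m).app U (ψ α c I U (m + 1) k)) = _
    rw [Kntr_ψ, ih]

variable (hcov : ∀ x : X, ∃ U : X.Opens, IsAffineOpen U ∧ x ∈ U ∧ ARGood α I U c)

include hI hF hG hcov in
lemma epi_KKmap (n : ℕ) : Epi (KKmap α c n) := by
  haveI := isQuasicoherent_KK α hF hG c n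
  apply QcohLocal.epi_of_app_surjective_of_affine_cover
  intro x
  obtain ⟨U, hU, hxU, hgood⟩ := hcov x
  refine ⟨U, hU, hxU, fun s => ?_⟩
  obtain ⟨k, rfl⟩ := sec_surjective α hI hF hG hU hgood
    (show n + c ≤ n + c + c from Nat.le_add_right _ _) (le_refl _) s
  exact ⟨sec α U _ k, KimMap_sec α U _ _ _ _ k⟩

include hI hF hG hcov in
/-- **the transition maps of the kernel system are quotient maps** -/
theorem isQuot_Kntr (n : ℕ) : IsQuot (I ^ (n + 1)) (Kntr α I c n) := by
  haveI := epi_KKmap α hI hF hG c hcov n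
  haveI : Epi (Knπ α I c (n + 1) ≫ Kntr α I c n) := by
    rw [Knπ_Kntr]
    exact epi_comp _ _
  haveI hepi : Epi (Kntr α I c n) := epi_of_epi (Knπ α I c (n + 1)) _
  refine ⟨hepi, kills_of_killedBy_right (isQuot_Knπ α I c n).killedBy _, fun {Z} f hf => ?_⟩
  haveI := isQuasicoherent_Kn α hF hG c n
  haveI := isQuasicoherent_Kn α hF hG c (n + 1)
  haveI := QcohLimits.isQuasicoherent_kernel (Kntr α I c n)
  have h0 : kernel.ι (Kntr α I c n) ≫ f = 0 := by
    apply QcohLocal.eq_zero_of_app_eq_zero_of_affine_cover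
    intro x
    obtain ⟨U, hU, hxU, hgood⟩ := hcov x
    refine ⟨U, hU, hxU, fun w => ?_⟩
    show f.app U ((kernel.ι (Kntr α I c n)).app U w) = 0
    obtain ⟨k, hk⟩ := ψ_surjective α hI hF hG c hU hgood (n + 1)
      ((kernel.ι (Kntr α I c n)).app U w)
    have h1 : ψ α c I U n k = 0 := by
      rw [← Kntr_ψ, hk]
      exact kernel_ι_app _ U w
    have h2 := mem_of_ψ_eq_zero α hI hF hG c hU hgood n k h1
    rw [← mem_smul_top_ker_iff] at h2
    have h3 := map_mem_smul_top (ψ α c I U (n + 1)) _ h2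
    rw [hk, ← Ideal.map_pow] at h3
    exact KLQuot.app_eq_zero_of_mem_smul_top hf U h3
  exact ⟨Abelian.epiDesc (Kntr α I c n) f h0, Abelian.comp_epiDesc _ _ _⟩

include hI hF hG hcov in
theorem hasQuotTrans_kerSys : HasQuotTrans I (kerSys α I c) := by
  intro n
  rw [kerSys_map_succ]
  exact isQuot_Kntr α hI hF hG c hcov n

include hI hcov in
/-- **the kernel system is a coherent formal module** -/
theorem isCohFormal_kerSys [IsLocallyNoetherian X] (hFc : Formal.IsCohFormal I F)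
    (hGc : Formal.IsCohFormal I G) : Formal.IsCohFormal I (kerSys α I c) := by
  have hFq : Formal2.IsQCohFormal I F := ⟨fun n => (hFc.1 n).1, hFc.2.1, hFc.2.2⟩
  have hGq : Formal2.IsQCohFormal I G := ⟨fun n => (hGc.1 n).1, hGc.2.1, hGc.2.2⟩
  rw [isCohFormal_iff]
  refine ⟨fun n => ?_, fun n => (isQuot_Knπ α I c n).killedBy,
    hasQuotTrans_kerSys α hI hFq hGq c hcov⟩
  show Coh.IsCoh (Kn α I c n)
  refine Groth.Agent.Lead.GEx.isCoh_modPow_of_fg hI (n + 1) _ ?_
  have hk : Coh.IsCoh (kernel (α.app (op (n + c + c)))) :=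
    Groth.Agent.Lead.PerfLib.isCoh_kernel (hFc.1 _) (hGc.1 _) _
  exact Groth.Agent.Lead.PerfLib.isCoh_kernel (hFc.1 _)
    (Groth.Agent.Lead.PerfLib.isCoh_cokernel hk (hFc.1 _) _) _

include hI hF hG hcov in
/-- the kernels of the components of `kerι` die `c` steps down -/
theorem kernel_kerιApp_tr (hFk : ∀ n, Formal.KilledBy (I ^ (n + 1)) (F.obj (op n))) (n : ℕ) :
    kernel.ι (kerιApp α c hFk (n + c)) ≫
      ARSys.tr (kerSys α I c) (show n ≤ n + c from Nat.le_add_right _ _) = 0 := by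
  haveI := isQuasicoherent_Kn α hF hG c (n + c)
  haveI : (F.obj (op (n + c))).IsQuasicoherent := hF.1 _
  haveI := QcohLimits.isQuasicoherent_kernel (kerιApp α c hFk (n + c))
  apply QcohLocal.eq_zero_of_app_eq_zero_of_affine_cover
  intro x
  obtain ⟨U, hU, hxU, hgood⟩ := hcov x
  refine ⟨U, hU, hxU, fun w => ?_⟩
  show (ARSys.tr (kerSys α I c) _).app U ((kernel.ι (kerιApp α c hFk (n + c))).app U w) = 0
  obtain ⟨k, hk⟩ := ψ_surjective α hI hF hG c hU hgood (n + c)
    ((kernel.ι (kerιApp α c hFk (n + c))).app U w)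
  rw [← hk, tr_kerSys_ψ]
  apply ψ_eq_zero_of_mem
  have h1 : limπ F U (n + c) k.1 = 0 := by
    rw [← kerιApp_ψ α c hFk, hk]
    exact kernel_ι_app _ U w
  have h2 := mem_of_limπ_eq_zero hI hF hU (n + c) _ h1
  refine hgood.1 (n + 1) _ k.2 ?_
  have e : n + 1 + c = n + c + 1 := by omega
  rw [e]
  exact h2

end Groth.Agent.Helper1.GK
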