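import Mathlib
import Groth.Agent.Helper1.GK4

/-!
# GK5: the universal property of the kernel system; kernels in the category of coherent formal
modules
-/

set_option autoImplicit false
set_option linter.style.haveILetI false
set_option linter.unusedSectionVars false

universe u

open CategoryTheory CategoryTheory.Limits AlgebraicGeometry Opposite

namespace Groth.Agent.Helper1.GK

open Groth.Agent.Helper1.Form Groth.Agent.Helper1.QuotPush Groth.Agent.Helper4

variable {A : Type u} [CommRing A] {X : Scheme.{u}} [X.Over (Spec (CommRingCat.of A))]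
variable {H F G : ℕᵒᵖ ⥤ X.Modules} (α : F ⟶ G) (β : H ⟶ F) (hβ : β ≫ α = 0)
variable {I : Ideal A} (c : ℕ)

include hβ in
lemma β_app_α (l : ℕ) : β.app (op l) ≫ α.app (op l) = 0 := by
  have := congrArg (fun f => f.app (op l)) hβ
  exact this

/-- the lift of `β_l` to the kernel of `α_l` -/
noncomputable def toKer (l : ℕ) : H.obj (op l) ⟶ kernel (α.app (op l)) :=
  kernel.lift _ (β.app (op l)) (β_app_α α β hβ l)

@[reassoc]
lemma toKer_ι (l : ℕ) : toKer α β hβ l ≫ kernel.ι (α.app (op l)) = β.app (op l) :=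
  kernel.lift_ι _ _ _

@[reassoc]
lemma toKer_kerTr {l l' : ℕ} (hl : l' ≤ l) :
    toKer α β hβ l ≫ kerTr α hl = ARSys.tr H hl ≫ toKer α β hβ l' := by
  rw [← cancel_mono (kernel.ι (α.app (op l'))), Category.assoc, kerTr_ι, toKer_ι_assoc,
    Category.assoc, toKer_ι]
  exact (β.naturality _).symm

/-- `H_(n+2c) ⟶ K_n` -/
noncomputable def liftPre (I : Ideal A) (n : ℕ) : H.obj (op (n + c + c)) ⟶ Kn α I c n :=
  toKer α β hβ (n + c + c) ≫ KimP α _ ≫ Knπ α I c n

variable (hH : Formal.IsCohFormal I H)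

include hH in
lemma isQuot_trH (n : ℕ) : IsQuot (I ^ (n + 1))
    (ARSys.tr H (show n ≤ n + c + c by omega)) := isQuot_tr_of_isCohFormal hH _

/-- the components of the lift -/
noncomputable def liftApp (n : ℕ) : H.obj (op n) ⟶ Kn α I c n :=
  (isQuot_trH c hH n).desc (liftPre α β hβ c I n)
    (kills_of_killedBy_right (isQuot_Knπ α I c n).killedBy _)

@[reassoc]
lemma tr_liftApp (n : ℕ) : ARSys.tr H (show n ≤ n + c + c by omega) ≫ liftApp α β hβ c hH n =
    liftPre α β hβ c I n := IsQuot.fac_desc _ _ _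

lemma liftPre_succ (n : ℕ) :
    liftPre α β hβ c I (n + 1) ≫ Kntr α I c n =
      ARSys.tr H (show n + c + c ≤ n + 1 + c + c by omega) ≫ liftPre α β hβ c I n := by
  unfold liftPre
  rw [Category.assoc, Category.assoc, Knπ_Kntr, ← Category.assoc (KimP α _),
    show KimP α _ ≫ KKmap α c n = kerTr α (show n + c + c ≤ n + 1 + c + c by omega) ≫ KimP α _ from
      KimP_KimMap α _ _ _ _,
    Category.assoc, toKer_kerTr_assoc]

lemma liftApp_nat (n : ℕ) :
    H.map (homOfLE (Nat.le_add_right n 1)).op ≫ liftApp α β hβ c hH n =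
      liftApp α β hβ c hH (n + 1) ≫ (kerSys α I c).map (homOfLE (Nat.le_add_right n 1)).op := by
  have e : (kerSys α I c).map (homOfLE (Nat.le_add_right n 1)).op = Kntr α I c n :=
    kerSys_map_succ α I c n
  rw [e]
  show ARSys.tr H (Nat.le_succ n) ≫ liftApp α β hβ c hH n =
    liftApp α β hβ c hH (n + 1) ≫ Kntr α I c n
  haveI := (isQuot_trH c hH (n + 1)).epi
  rw [← cancel_epi (ARSys.tr H (show n + 1 ≤ n + 1 + c + c by omega)), tr_liftApp_assoc,
    liftPre_succ, ← tr_liftApp, ← Category.assoc, ← Category.assoc, tr_comp, tr_comp]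

/-- **the lift to the kernel system** -/
noncomputable def kerLift : H ⟶ kerSys α I c :=
  NatTrans.ofOpSequence (fun n => liftApp α β hβ c hH n) (liftApp_nat α β hβ c hH)

lemma kerLift_app (n : ℕ) : (kerLift α β hβ c hH).app (op n) = liftApp α β hβ c hH n := rfl

variable (hFk : ∀ n, Formal.KilledBy (I ^ (n + 1)) (F.obj (op n)))

lemma liftApp_kerιApp (n : ℕ) : liftApp α β hβ c hH n ≫ kerιApp α c hFk n = β.app (op n) := by
  haveI := (isQuot_trH c hH n).epi
  rw [← cancel_epi (ARSys.tr H (show n ≤ n + c + c by omega)), tr_liftApp_assoc]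
  unfold liftPre
  rw [Category.assoc, Category.assoc, Knπ_kerιApp, KimP_ι_assoc, kerTo_tr]
  unfold kerTo
  rw [toKer_ι_assoc]
  exact (β.naturality _).symm

lemma kerLift_kerι : kerLift α β hβ c hH ≫ kerι α c hFk = β := by
  apply NatTrans.ext
  funext ⟨n⟩
  exact liftApp_kerιApp α β hβ c hH hFk n

variable (hI : I.FG) (hF : Formal2.IsQCohFormal I F) (hG : Formal2.IsQCohFormal I G)
variable (hcov : ∀ x : X, ∃ U : X.Opens, IsAffineOpen U ∧ x ∈ U ∧ ARGood α I U c)

include hI hF hG hcov hH in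
/-- **`kerι` is a monomorphism on maps from coherent formal modules** -/
theorem eq_zero_of_comp_kerι (δ : H ⟶ kerSys α I c) (hδ : δ ≫ kerι α c hFk = 0) : δ = 0 := by
  apply NatTrans.ext
  funext ⟨n⟩
  show δ.app (op n) = 0
  have h1 : δ.app (op (n + c)) ≫ kerιApp α c hFk (n + c) = 0 := by
    have := congrArg (fun f => f.app (op (n + c))) hδ
    exact this
  have h2 : ARSys.tr H (show n ≤ n + c from Nat.le_add_right _ _) ≫ δ.app (op n) =
      δ.app (op (n + c)) ≫ ARSys.tr (kerSys α I c) (show n ≤ n + c from Nat.le_add_right _ _) :=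
    δ.naturality _
  haveI := (isQuot_tr_of_isCohFormal hH (show n ≤ n + c from Nat.le_add_right _ _)).epi
  have h3 := kernel_kerιApp_tr α hI hF hG c hcov hFk n
  rw [← cancel_epi (ARSys.tr H (show n ≤ n + c from Nat.le_add_right _ _)), comp_zero, h2]
  calc δ.app (op (n + c)) ≫ ARSys.tr (kerSys α I c) (show n ≤ n + c from Nat.le_add_right _ _)
      = (kernel.lift (kerιApp α c hFk (n + c)) (δ.app (op (n + c))) h1 ≫ kernel.ι _) ≫
          ARSys.tr (kerSys α I c) (show n ≤ n + c from Nat.le_add_right _ _) :=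
        (congrArg (fun x => x ≫ ARSys.tr (kerSys α I c)
          (show n ≤ n + c from Nat.le_add_right _ _)) (kernel.lift_ι _ _ h1)).symm
    _ = kernel.lift (kerιApp α c hFk (n + c)) (δ.app (op (n + c))) h1 ≫ (kernel.ι _ ≫
          ARSys.tr (kerSys α I c) (show n ≤ n + c from Nat.le_add_right _ _)) :=
        Category.assoc _ _ _
    _ = kernel.lift (kerιApp α c hFk (n + c)) (δ.app (op (n + c))) h1 ≫ 0 :=
        congrArg (fun x => kernel.lift (kerιApp α c hFk (n + c)) (δ.app (op (n + c))) h1 ≫ x) h3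
    _ = 0 := comp_zero

end Groth.Agent.Helper1.GK
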