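import Mathlib
import Groth.Agent.Helper1.GK5

/-!
# GK6: the category of coherent formal modules on a Noetherian scheme has kernels (S0834)
-/

set_option autoImplicit false
set_option linter.style.haveILetI false
set_option linter.unusedSectionVars false

universe u

open CategoryTheory CategoryTheory.Limits AlgebraicGeometry Opposite

namespace Groth.Agent.Helper1.GK

open Groth.Agent.Helper1.Form Groth.Agent.Helper1.QuotPush Groth.Agent.Helper4
open Groth.Agent.Lead.GEx

variable {A : Type u} [CommRing A] {X : Scheme.{u}} [X.Over (Spec (CommRingCat.of A))]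

/-- coherent formal modules for `I` and for a locally equal subideal are the same -/
theorem isCohFormal_iff_of_locEq {I I' : Ideal A} (hle : I' ≤ I) (hloc : LocEq X I I')
    (F : ℕᵒᵖ ⥤ X.Modules) : Formal.IsCohFormal I F ↔ Formal.IsCohFormal I' F := by
  rw [isCohFormal_iff, isCohFormal_iff]
  constructor
  · rintro ⟨hc, hk, hq⟩
    refine ⟨hc, fun n => killedBy_mono (Ideal.pow_right_mono hle _) (hk n), fun n => ?_⟩
    haveI : (F.obj (op (n + 1))).IsQuasicoherent := (hc (n + 1)).1
    exact isQuot_of_locEq' hle hloc (n + 1) (hq n)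
  · rintro ⟨hc, hk, hq⟩
    refine ⟨hc, fun n => ?_, fun n => ?_⟩
    · haveI : (F.obj (op n)).IsQuasicoherent := (hc n).1
      exact killedBy_of_locEq hloc (n + 1) (hk n)
    · haveI : (F.obj (op (n + 1))).IsQuasicoherent := (hc (n + 1)).1
      exact isQuot_of_locEq hle hloc (n + 1) (hq n)

/-- **kernels in the category of coherent formal modules**: for a morphism `α : F ⟶ G` of coherent
formal modules on a Noetherian scheme there is a coherent formal module `K` with a map `ι : K ⟶ F`
which is a kernel of `α` among coherent formal modules. -/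
theorem exists_kernel_cohFormal [IsNoetherian X] (I : Ideal A) {F G : ℕᵒᵖ ⥤ X.Modules}
    (hF : Formal.IsCohFormal I F) (hG : Formal.IsCohFormal I G) (α : F ⟶ G) :
    ∃ (K : ℕᵒᵖ ⥤ X.Modules) (ι : K ⟶ F), Formal.IsCohFormal I K ∧ ι ≫ α = 0 ∧
      ∀ (H : ℕᵒᵖ ⥤ X.Modules), Formal.IsCohFormal I H → ∀ β : H ⟶ F, β ≫ α = 0 →
        ∃! γ : H ⟶ K, γ ≫ ι = β := by
  obtain ⟨I', hle, hfg, hloc⟩ := exists_fg_locEq (X := X) I
  have hF' := (isCohFormal_iff_of_locEq hle hloc F).1 hF
  have hG' := (isCohFormal_iff_of_locEq hle hloc G).1 hG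
  have hFq : Formal2.IsQCohFormal I' F := ⟨fun n => (hF'.1 n).1, hF'.2.1, hF'.2.2⟩
  have hGq : Formal2.IsQCohFormal I' G := ⟨fun n => (hG'.1 n).1, hG'.2.1, hG'.2.2⟩
  obtain ⟨c, hcov⟩ := exists_arGood_cover α hfg hF' hG'
  refine ⟨kerSys α I' c, kerι α c hF'.2.1,
    (isCohFormal_iff_of_locEq hle hloc _).2 (isCohFormal_kerSys α hfg c hcov hF' hG'),
    kerι_α α c hF'.2.1, fun H hH β hβ => ?_⟩
  have hH' := (isCohFormal_iff_of_locEq hle hloc H).1 hH
  refine ⟨kerLift α β hβ c hH', kerLift_kerι α β hβ c hH' hF'.2.1, fun γ hγ => ?_⟩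
  have h0 : (γ - kerLift α β hβ c hH') ≫ kerι α c hF'.2.1 = 0 := by
    rw [Preadditive.sub_comp, hγ, kerLift_kerι, sub_self]
  have := eq_zero_of_comp_kerι α c hH' hF'.2.1 hfg hFq hGq hcov _ h0
  exact sub_eq_zero.1 this

/-- **S0834** -/
theorem hasKernels_cohFormal [IsNoetherian X] (I : Ideal A) :
    HasKernels (Formal2.CohFormalCat I X) := by
  refine ⟨fun {P Q} f => ?_⟩
  obtain ⟨K, ι, hK, hι, huniv⟩ := exists_kernel_cohFormal I P.property Q.property f.hom
  let K' : Formal2.CohFormalCat I X := ⟨K, hK⟩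
  let ι' : K' ⟶ P := ObjectProperty.homMk ι
  have w : ι' ≫ f = 0 := by
    apply ObjectProperty.hom_ext
    exact hι
  have hlift : ∀ {W : Formal2.CohFormalCat I X} (g : W ⟶ P), g ≫ f = 0 →
      ∃! γ : W.obj ⟶ K, γ ≫ ι = g.hom := by
    intro W g hg
    refine huniv W.obj W.property g.hom ?_
    have := congrArg (fun x => x.hom) hg
    exact this
  refine HasLimit.mk ⟨KernelFork.ofι ι' w, KernelFork.IsLimit.ofι ι' w
    (fun {W} g hg => ObjectProperty.homMk (hlift g hg).choose) ?_ ?_⟩
  · intro W g hg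
    apply ObjectProperty.hom_ext
    exact (hlift g hg).choose_spec.1
  · intro W g hg m hm
    apply ObjectProperty.hom_ext
    refine (hlift g hg).choose_spec.2 m.hom ?_
    have := congrArg (fun x => x.hom) hm
    exact this

end Groth.Agent.Helper1.GK
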