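import Mathlib
import Groth.Prelude.Def_RelProj3
import Groth.Agent.Helper1.TR4
import Groth.Agent.Helper1.GM2
import Groth.Agent.Helper4.QcohEpi
import Groth.Agent.Helper4.QcohLimits
import Groth.Agent.Helper4.StalkExact

/-!
# Exactness on sections over affine opens
-/

set_option autoImplicit false
set_option linter.style.haveILetI false

namespace Groth.Agent.Helper1.TRT

open CategoryTheory CategoryTheory.Limits AlgebraicGeometry TopologicalSpace Opposite

universe u

variable {X : Scheme.{u}}

/-- an exact sequence of quasi-coherent modules is exact on sections over affine opens -/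
theorem app_exact_of_isAffineOpen (S : ShortComplex X.Modules) (hS : S.Exact)
    [S.X₁.IsQuasicoherent] [S.X₂.IsQuasicoherent] [S.X₃.IsQuasicoherent] {U : X.Opens}
    (hU : IsAffineOpen U) : Function.Exact (S.f.app U) (S.g.app U) := by
  intro t
  constructor
  · intro ht
    -- `t` is a section of the kernel
    let K : ShortComplex X.Modules := ShortComplex.mk (kernel.ι S.g) S.g (kernel.condition S.g)
    have hK : K.Exact := ShortComplex.exact_of_f_is_kernel _ (kernelIsKernel S.g)
    haveI : Mono K.f := inferInstanceAs (Mono (kernel.ι S.g))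
    obtain ⟨k, hk⟩ := (Groth.Agent.Helper4.StalkExact.app_exact K hK U t).1 ht
    haveI : (kernel S.g).IsQuasicoherent :=
      Groth.Agent.Helper4.QcohLimits.isQuasicoherent_kernel S.g
    haveI : Epi (kernel.lift S.g S.f S.zero) := by
      rw [← S.exact_iff_epi_kernel_lift]; exact hS
    obtain ⟨r, hr⟩ := Groth.Agent.Helper4.QcohEpi.app_surjective_of_epi
      (kernel.lift S.g S.f S.zero) hU k
    refine ⟨r, ?_⟩
    have h1 : (kernel.lift S.g S.f S.zero ≫ kernel.ι S.g).app U r = S.f.app U r := by
      rw [kernel.lift_ι]
    refine h1.symm.trans ?_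
    show (kernel.ι S.g).app U ((kernel.lift S.g S.f S.zero).app U r) = t
    rw [hr]
    exact hk
  · rintro ⟨r, rfl⟩
    have h1 : (S.f ≫ S.g).app U r = 0 := by
      rw [S.zero]; rfl
    exact h1

end Groth.Agent.Helper1.TRT
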