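import Mathlib
import Groth.Agent.Helper1.GR24

/-!
# Grassmannian, part 30: the Grassmannian functor only depends on the module up to isomorphism
-/

set_option autoImplicit false
set_option linter.style.haveILetI false
set_option linter.unusedSectionVars false

namespace Groth.Agent.Helper1.GR

open CategoryTheory TensorProduct

universe u v w

variable {R : Type u} [CommRing R] {M M' : Type v} [AddCommGroup M] [Module R M]
  [AddCommGroup M'] [Module R M'] (ε : M ≃ₗ[R] M') (d : ℕ)

section One

variable (A : Type w) [CommRing A] [Algebra R A]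

/-- the base change of the isomorphism -/
noncomputable abbrev εbc : A ⊗[R] M ≃ₗ[A] A ⊗[R] M' := ε.baseChange R A M M'

/-- the isomorphism of the quotients -/
noncomputable def quotE (U : Submodule A (A ⊗[R] M)) :
    ((A ⊗[R] M) ⧸ U) ≃ₗ[A] ((A ⊗[R] M') ⧸ U.map (εbc ε A).toLinearMap) :=
  Submodule.Quotient.equiv U (U.map (εbc ε A).toLinearMap) (εbc ε A) rfl

theorem quotE_mk (U : Submodule A (A ⊗[R] M)) (x : A ⊗[R] M) :
    quotE ε A U (Submodule.Quotient.mk x) = Submodule.Quotient.mk (εbc ε A x) := rfl

/-- transport of points of the Grassmannian functor -/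
noncomputable def congrG (U : Module.Grassmannian A (A ⊗[R] M) d) :
    Module.Grassmannian A (A ⊗[R] M') d :=
  { toSubmodule := U.toSubmodule.map (εbc ε A).toLinearMap
    finite_quotient := Module.Finite.equiv (quotE ε A U.toSubmodule)
    projective_quotient := Module.Projective.of_equiv (quotE ε A U.toSubmodule)
    rankAtStalk_eq := fun p => by
      rw [← congrFun (Module.rankAtStalk_eq_of_equiv (quotE ε A U.toSubmodule)) p]
      exact U.rankAtStalk_eq p }

theorem congrG_toSubmodule (U : Module.Grassmannian A (A ⊗[R] M) d) :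
    (congrG ε d A U).toSubmodule = U.toSubmodule.map (εbc ε A).toLinearMap := rfl

theorem congrG_symm_congrG (U : Module.Grassmannian A (A ⊗[R] M) d) :
    congrG ε.symm d A (congrG ε d A U) = U := by
  apply Module.Grassmannian.ext
  rw [congrG_toSubmodule, congrG_toSubmodule, ← Submodule.map_comp]
  have : (εbc ε.symm A).toLinearMap ∘ₗ (εbc ε A).toLinearMap = LinearMap.id := by
    apply TensorProduct.AlgebraTensorModule.ext
    intro a m
    simp
  rw [this, Submodule.map_id]

end One

section Nat

variable {A B : Type w} [CommRing A] [CommRing B] [Algebra R A] [Algebra R B]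

theorem ker_baseChangeMkQ_map [Algebra A B] [IsScalarTower R A B]
    (U : Submodule A (A ⊗[R] M)) :
    LinearMap.ker (Module.Grassmannian.baseChangeMkQ B (U.map (εbc ε A).toLinearMap)) =
      (LinearMap.ker (Module.Grassmannian.baseChangeMkQ B U)).map (εbc ε B).toLinearMap := by
  let θ : B ⊗[A] ((A ⊗[R] M) ⧸ U) ≃ₗ[B] B ⊗[A] ((A ⊗[R] M') ⧸ U.map (εbc ε A).toLinearMap) :=
    (quotE ε A U).baseChange A B _ _
  have key : θ.toLinearMap ∘ₗ Module.Grassmannian.baseChangeMkQ B U =
      Module.Grassmannian.baseChangeMkQ B (U.map (εbc ε A).toLinearMap) ∘ₗ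
        (εbc ε B).toLinearMap := by
    apply TensorProduct.AlgebraTensorModule.ext
    intro b m
    simp only [LinearMap.comp_apply, LinearEquiv.coe_coe, Module.Grassmannian.baseChangeMkQ,
      TensorProduct.AlgebraTensorModule.cancelBaseChange_symm_tmul, LinearMap.baseChange_tmul,
      LinearEquiv.baseChange_tmul, Submodule.mkQ_apply, θ]
    rfl
  ext x'
  rw [Submodule.mem_map_equiv, LinearMap.mem_ker, LinearMap.mem_ker]
  have h1 := LinearMap.congr_fun key ((εbc ε B).symm x')
  simp only [LinearMap.comp_apply, LinearEquiv.coe_coe, LinearEquiv.apply_symm_apply] at h1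
  rw [← h1]
  exact θ.map_eq_zero_iff

theorem congrG_map (φ : A →ₐ[R] B) (U : Module.Grassmannian A (A ⊗[R] M) d) :
    Module.Grassmannian.map φ (congrG ε d A U) = congrG ε d B (Module.Grassmannian.map φ U) := by
  apply Module.Grassmannian.ext
  letI : Algebra A B := φ.toRingHom.toAlgebra
  letI : IsScalarTower R A B := IsScalarTower.of_algebraMap_eq' φ.comp_algebraMap.symm
  change LinearMap.ker (Module.Grassmannian.baseChangeMkQ B (congrG ε d A U).toSubmodule) =
    (LinearMap.ker (Module.Grassmannian.baseChangeMkQ B U.toSubmodule)).map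
      (εbc ε B).toLinearMap
  exact @ker_baseChangeMkQ_map R _ M M' _ _ _ _ ε A B _ _ _ _ φ.toRingHom.toAlgebra
    (IsScalarTower.of_algebraMap_eq' φ.comp_algebraMap.symm) U.toSubmodule

end Nat

section Points

variable {R : Type u} [CommRing R] {M M' : Type u} [AddCommGroup M] [Module R M]
  [AddCommGroup M'] [Module R M'] (ε : M ≃ₗ[R] M') (d : ℕ)
  {X : Over (AlgebraicGeometry.Spec (CommRingCat.of R))}

/-- transport of a description of the points along an isomorphism of modules -/
noncomputable def PointsData.congr
    (dX : PointsData X (Module.Grassmannian.functor (R := R) (M := M) d)) :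
    PointsData X (Module.Grassmannian.functor (R := R) (M := M') d) where
  e A := (dX.e A).trans
    { toFun := congrG ε d A
      invFun := congrG ε.symm d A
      left_inv := congrG_symm_congrG ε d A
      right_inv := fun U => by
        have := congrG_symm_congrG ε.symm d A U
        rwa [LinearEquiv.symm_symm] at this }
  he := by
    intro A B φ g g' hg
    have h1 := dX.he A B φ g g' hg
    change congrG ε d B (dX.e B g') = Module.Grassmannian.map φ.hom (congrG ε d A (dX.e A g))
    rw [h1, congrG_map]
    rfl

end Points

end Groth.Agent.Helper1.GR
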