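import Mathlib
import Groth.Agent.Helper1.GR16
import Groth.Agent.Helper1.GR13

/-!
# Grassmannian, part 31: the charts `D₊(P a)` are affine spaces (ring level)
-/

set_option autoImplicit false
set_option linter.style.haveILetI false
set_option linter.unusedSectionVars false

namespace Groth.Agent.Helper1.GR

open CategoryTheory AlgebraicGeometry Matrix HomogeneousLocalization MvPolynomial

universe u

variable (k : Type u) [CommRing k] (d N : ℕ) (a : Idx d N)

/-- the columns outside of `a` -/
abbrev Jc : Type := {j : Fin N // j ∉ Set.range a}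

/-- the variables of the chart -/
abbrev Var : Type := Fin d × Jc d N a

/-- the coordinate ring of the chart -/
abbrev ΓV : Type u := MvPolynomial (Var d N a) k

/-- the universal matrix with the identity in the columns `a` -/
noncomputable def Bmat : Matrix (Fin d) (Fin N) (ΓV k d N a) := fun i j =>
  if h : j ∈ Set.range a then (if a i = j then 1 else 0) else X (i, ⟨j, h⟩)

variable {d N a}

theorem Bmat_submatrix (ha : Function.Injective a) : (Bmat k d N a).submatrix id a = 1 := by
  ext i l
  simp only [submatrix_apply, id_eq, Bmat, Set.mem_range, exists_apply_eq_apply, ↓reduceDIte,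
    Matrix.one_apply]
  by_cases h : i = l
  · subst h; simp
  · rw [if_neg h, if_neg (fun h' => h (ha h'))]

theorem Bmat_of_notMem (i : Fin d) (j : Fin N) (h : j ∉ Set.range a) :
    Bmat k d N a i j = X (i, ⟨j, h⟩) := by
  unfold Bmat
  rw [dif_neg h]

variable (d N a)

/-- the structure map of the chart ring -/
noncomputable def cAway : k →+* Away (gr k d N) (P k d N a) :=
  (fromZeroRingHom (gr k d N) (Submonoid.powers (P k d N a))).comp (algebraMap k (gr k d N 0))

/-- the ratio `P b / P a` -/
noncomputable abbrev rP (b : Idx d N) : Away (gr k d N) (P k d N a) :=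
  rt (gr k d N) (P_mem k d N a) (P k d N b) (P_mem k d N b)

theorem det_rP (c : Idx d N) :
    (Matrix.of fun i l => rP k d N a (Function.update a i (c l))).det = rP k d N a c :=
  det_rt (gr k d N) (P_mem k d N a)
    (Matrix.of fun i l => P k d N (Function.update a i (c l))) (fun _ _ => P_mem k d N _) _
    (P_mem k d N c) (P_mul_det_P_update k d N a c)

theorem rP_update_self (i l : Fin d) :
    rP k d N a (Function.update a i (a l)) = if i = l then 1 else 0 := by
  split_ifs with h
  · exact (rt_congr (gr k d N) (P_mem k d N a) (P_mem k d N _) (P_mem k d N a)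
      (by rw [P_update_self, if_pos h])).trans (rt_self (gr k d N) (P_mem k d N a))
  · exact (rt_congr (gr k d N) (P_mem k d N a) (P_mem k d N _) (Submodule.zero_mem _)
      (by rw [P_update_self, if_neg h])).trans (rt_zero (gr k d N) (P_mem k d N a) _)

/-- the map from the polynomial ring to the chart ring -/
noncomputable def ΦV : ΓV k d N a →+* Away (gr k d N) (P k d N a) :=
  eval₂Hom (cAway k d N a) (fun v => rP k d N a (Function.update a v.1 v.2.1))

theorem ΦV_C (c : k) : ΦV k d N a (C c) = cAway k d N a c := by
  unfold ΦV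
  rw [eval₂Hom_C]

variable {d N a}

theorem ΦV_Bmat (ha : Function.Injective a) (i : Fin d) (j : Fin N) :
    ΦV k d N a (Bmat k d N a i j) = rP k d N a (Function.update a i j) := by
  unfold Bmat
  split_ifs with h h'
  · obtain ⟨l, rfl⟩ := h
    rw [map_one, rP_update_self, if_pos (ha h')]
  · obtain ⟨l, rfl⟩ := h
    rw [map_zero, rP_update_self]
    have : i ≠ l := fun hil => h' (congrArg a hil)
    rw [if_neg this]
  · unfold ΦV
    rw [eval₂Hom_X']

/-- the ring map from the Plücker algebra to the chart ring -/
noncomputable def Ψ₀ : PA k d N →+* ΓV k d N a := Θ (C : k →+* ΓV k d N a) (Bmat k d N a)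

theorem Ψ₀_P (b : Idx d N) : Ψ₀ k (a := a) (P k d N b) = minor (Bmat k d N a) b := Θ_P _ _ b

theorem isUnit_Ψ₀ (ha : Function.Injective a) : IsUnit (Ψ₀ k (a := a) (P k d N a)) := by
  rw [Ψ₀_P, minor_eq_one_of_one _ _ (Bmat_submatrix k ha)]
  exact isUnit_one

/-- the map from the chart ring to the polynomial ring -/
noncomputable def ΨV (ha : Function.Injective a) :
    Away (gr k d N) (P k d N a) →+* ΓV k d N a :=
  (IsLocalization.Away.lift (P k d N a) (isUnit_Ψ₀ k ha)).comp
    (algebraMap (Away (gr k d N) (P k d N a)) (Localization.Away (P k d N a)))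

theorem ΨV_rP (ha : Function.Injective a) (b : Idx d N) :
    ΨV k ha (rP k d N a b) = minor (Bmat k d N a) b := by
  unfold ΨV
  rw [RingHom.comp_apply, HomogeneousLocalization.algebraMap_apply, val_rt, map_mul,
    IsLocalization.Away.lift_eq, Ψ₀_P]
  have h1 : IsLocalization.Away.lift (P k d N a) (isUnit_Ψ₀ k ha) (invT (P k d N a)) = 1 := by
    have h2 := congrArg (IsLocalization.Away.lift (P k d N a) (isUnit_Ψ₀ k ha))
      (algebraMap_mul_invT (P k d N a))
    rw [map_mul, IsLocalization.Away.lift_eq, map_one, Ψ₀_P,
      minor_eq_one_of_one _ _ (Bmat_submatrix k ha), one_mul] at h2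
    exact h2
  rw [h1, mul_one]

theorem ΨV_cAway (ha : Function.Injective a) (c : k) : ΨV k ha (cAway k d N a c) = C c := by
  unfold ΨV cAway
  rw [RingHom.comp_apply, RingHom.comp_apply, HomogeneousLocalization.algebraMap_apply]
  have h1 : (fromZeroRingHom (gr k d N) (Submonoid.powers (P k d N a))
      (algebraMap k (gr k d N 0) c)).val =
      algebraMap (PA k d N) (Localization.Away (P k d N a)) (algebraMap k (PA k d N) c) := by
    rw [← Localization.mk_one_eq_algebraMap]
    rfl
  rw [h1, IsLocalization.Away.lift_eq]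
  exact Θ_algebraMap _ _ c

/-- `ΨV ∘ ΦV = id` -/
theorem ΨV_ΦV (ha : Function.Injective a) (f : ΓV k d N a) : ΨV k ha (ΦV k d N a f) = f := by
  have h : (ΨV k ha).comp (ΦV k d N a) = RingHom.id _ := by
    apply MvPolynomial.ringHom_ext
    · intro c
      rw [RingHom.comp_apply, ΦV_C, ΨV_cAway]
      rfl
    · intro v
      rw [RingHom.comp_apply]
      unfold ΦV
      rw [eval₂Hom_X', ΨV_rP, ← entry_eq_minor_of_one _ _ (Bmat_submatrix k ha),
        Bmat_of_notMem k v.1 v.2.1 v.2.2]
      rfl
  exact RingHom.congr_fun h f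

/-- `ΦV ∘ ΨV = id` -/
theorem ΦV_ΨV (ha : Function.Injective a) (x : Away (gr k d N) (P k d N a)) :
    ΦV k d N a (ΨV k ha x) = x := by
  let T : Subring (Away (gr k d N) (P k d N a)) :=
    RingHom.eqLocus ((ΦV k d N a).comp (ΨV k ha)) (RingHom.id _)
  have hT : T = ⊤ := by
    apply away_gen_of_adjoin (gr k d N) (P k d N) (P_mem k d N) (adjoin_range_P k d N) a T
    · intro c
      change ΦV k d N a (ΨV k ha (cAway k d N a c)) = cAway k d N a c
      rw [ΨV_cAway, ΦV_C]
    · intro b
      change ΦV k d N a (ΨV k ha (rP k d N a b)) = rP k d N a b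
      rw [ΨV_rP]
      unfold minor
      rw [RingHom.map_det, ← det_rP k d N a b]
      congr 1
      apply Matrix.ext
      intro i l
      simp only [RingHom.mapMatrix_apply, map_apply, submatrix_apply, id_eq, of_apply]
      exact ΦV_Bmat k ha i (b l)
  have hx : x ∈ T := by rw [hT]; trivial
  exact hx

/-- **the chart ring is a polynomial ring** -/
noncomputable def chartEquiv (ha : Function.Injective a) :
    ΓV k d N a ≃+* Away (gr k d N) (P k d N a) :=
  RingEquiv.ofRingHom (ΦV k d N a) (ΨV k ha)
    (RingHom.ext (ΦV_ΨV k ha)) (RingHom.ext (ΨV_ΦV k ha))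

theorem chartEquiv_C (ha : Function.Injective a) (c : k) :
    chartEquiv k ha (C c) = cAway k d N a c := ΦV_C k d N a c

/-- the number of variables -/
theorem card_Var (ha : Function.Injective a) : Fintype.card (Var d N a) = d * (N - d) := by
  classical
  rw [Fintype.card_prod, Fintype.card_fin]
  congr 1
  have h1 : Fintype.card (Jc d N a) = Fintype.card (Fin N) - Fintype.card (Set.range a) := by
    rw [← Fintype.card_compl_set]
    rfl
  rw [h1, Fintype.card_fin, Set.card_range_of_injective ha, Fintype.card_fin]

end Groth.Agent.Helper1.GR
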