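import Mathlib
import Groth.Agent.Helper1.GR31
import Groth.Agent.Helper1.GR29
import Groth.Agent.Helper8.LocStr

/-!
# Grassmannian, part 32: the Grassmannian is covered by affine spaces and is smooth
-/

set_option autoImplicit false
set_option linter.style.haveILetI false
set_option linter.unusedSectionVars false

namespace Groth.Agent.Helper1.GR

open CategoryTheory Limits AlgebraicGeometry Matrix HomogeneousLocalization MvPolynomial

universe u

variable (k : Type u) [CommRing k] {d N : ℕ} {a : Idx d N} (ha : Function.Injective a)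

/-- the variables of the chart, renumbered -/
noncomputable def varEquiv : Var d N a ≃ ULift.{u} (Fin (d * (N - d))) :=
  (Fintype.equivFinOfCardEq (card_Var ha)).trans Equiv.ulift.symm

/-- the chart ring as a polynomial ring in `d (N - d)` variables -/
noncomputable def chartHom :
    MvPolynomial (ULift.{u} (Fin (d * (N - d)))) k →+* Away (gr k d N) (P k d N a) :=
  (chartEquiv k ha).toRingHom.comp (renameEquiv k (varEquiv ha)).symm.toRingEquiv.toRingHom

theorem chartHom_bijective : Function.Bijective (chartHom k ha) :=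
  (chartEquiv k ha).bijective.comp (renameEquiv k (varEquiv ha)).symm.bijective

theorem chartHom_C (c : k) : chartHom k ha (C c) = cAway k d N a c := by
  unfold chartHom
  rw [RingHom.comp_apply]
  have h1 : (renameEquiv k (varEquiv ha)).symm.toRingEquiv.toRingHom (C c) = C c := by
    change (renameEquiv k (varEquiv ha)).symm (C c) = C c
    rw [AlgEquiv.symm_apply_eq]
    exact (rename_C _ _).symm
  rw [h1]
  exact chartEquiv_C k ha c

instance isIso_specMap_chartHom : IsIso (Spec.map (CommRingCat.ofHom (chartHom k ha))) := by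
  haveI : IsIso (CommRingCat.ofHom (chartHom k ha)) :=
    (ConcreteCategory.isIso_iff_bijective _).mpr (chartHom_bijective k ha)
  infer_instance

/-- the structure map of the chart -/
theorem DG_ι_GrToSpec :
    (DG k d N a).ι ≫ GrToSpec k d N =
      (Proj.basicOpenIsoSpec (gr k d N) (P k d N a) (P_mem k d N a) one_pos).hom ≫
        Spec.map (CommRingCat.ofHom (cAway k d N a)) := by
  have h1 : (DG k d N a).ι =
      (Proj.basicOpenIsoSpec (gr k d N) (P k d N a) (P_mem k d N a) one_pos).hom ≫
        Proj.awayι (gr k d N) (P k d N a) (P_mem k d N a) one_pos := by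
    rw [← Proj.basicOpenIsoSpec_inv_ι, Iso.hom_inv_id_assoc]
  rw [h1, Category.assoc]
  congr 1
  unfold GrToSpec
  rw [Proj.awayι_toSpecZero_assoc, ← Spec.map_comp]
  rfl

/-- **the chart `D₊(P a)` is an affine space over the base** -/
noncomputable def chartIso :
    Over.mk ((DG k d N a).ι ≫ GrToSpec k d N) ≅
      Over.mk (𝔸(ULift.{u} (Fin (d * (N - d))); Spec (CommRingCat.of k)) ↘
        Spec (CommRingCat.of k)) :=
  Over.isoMk
    ((Proj.basicOpenIsoSpec (gr k d N) (P k d N a) (P_mem k d N a) one_pos) ≪≫
      asIso (Spec.map (CommRingCat.ofHom (chartHom k ha))) ≪≫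
      (AffineSpace.SpecIso (ULift.{u} (Fin (d * (N - d)))) (CommRingCat.of k)).symm)
    (by
      simp only [Over.mk_left, Over.mk_hom, Iso.trans_hom, asIso_hom, Iso.symm_hom,
        Category.assoc]
      rw [AffineSpace.SpecIso_inv_over, DG_ι_GrToSpec, ← Spec.map_comp]
      congr 2
      apply CommRingCat.hom_ext
      apply RingHom.ext
      intro c
      exact chartHom_C k ha c)

variable (d N)

/-- the standard opens with injective index cover the Grassmannian -/
theorem iSup_DG_injective :
    (⨆ a : {a : Idx d N // Function.Injective a}, DG k d N a.1) = ⊤ := by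
  rw [eq_top_iff, ← hcovD k d N]
  apply iSup_le
  intro b
  by_cases hb : Function.Injective b
  · exact le_iSup (fun a : {a : Idx d N // Function.Injective a} => DG k d N a.1) ⟨b, hb⟩
  · have h0 : P k d N b = 0 := by
      rw [Function.Injective] at hb
      push Not at hb
      obtain ⟨i, l, h, hil⟩ := hb
      exact P_eq_zero_of_eq k d N b hil h
    rw [h0, Proj.basicOpen_zero]
    exact bot_le

variable {k d N}

/-- **a scheme representing the Grassmannian functor is smooth and covered by affine spaces** -/
theorem smooth_and_cover_of_pointsData (X : Over (Spec (CommRingCat.of k)))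
    (dX : PointsData X (Module.Grassmannian.functor (R := k) (M := Fin N → k) d)) :
    SmoothOfRelativeDimension (d * (N - d)) X.hom ∧
      ∃ (ι : Type) (_ : Finite ι) (U : ι → X.left.Opens), ⨆ i, U i = ⊤ ∧
        ∀ i, Nonempty (Over.mk ((U i).ι ≫ X.hom) ≅
          Over.mk (𝔸(ULift.{u} (Fin (d * (N - d))); Spec (CommRingCat.of k)) ↘
            Spec (CommRingCat.of k))) := by
  obtain ⟨i, hi⟩ := exists_iso_Gr_of_pointsData X dX
  let U : {a : Idx d N // Function.Injective a} → X.left.Opens := fun a => i.hom ⁻¹ᵁ DG k d N a.1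
  have hU : ⨆ a, U a = ⊤ := by
    rw [eq_top_iff]
    intro x _
    have hx : i.hom x ∈ (⨆ a : {a : Idx d N // Function.Injective a}, DG k d N a.1) := by
      rw [iSup_DG_injective]; trivial
    obtain ⟨a, ha⟩ := TopologicalSpace.Opens.mem_iSup.mp hx
    exact TopologicalSpace.Opens.mem_iSup.mpr ⟨a, ha⟩
  have hiso : ∀ a : {a : Idx d N // Function.Injective a},
      Nonempty (Over.mk ((U a).ι ≫ X.hom) ≅
        Over.mk (𝔸(ULift.{u} (Fin (d * (N - d))); Spec (CommRingCat.of k)) ↘
          Spec (CommRingCat.of k))) := by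
    intro a
    have e1 : Over.mk ((U a).ι ≫ X.hom) ≅ Over.mk ((DG k d N a.1).ι ≫ GrToSpec k d N) :=
      Over.isoMk (asIso (i.hom ∣_ DG k d N a.1)) (by
        simp only [Over.mk_left, Over.mk_hom, asIso_hom]
        rw [← Category.assoc, morphismRestrict_ι, Category.assoc, hi])
    exact ⟨e1 ≪≫ chartIso k a.2⟩
  refine ⟨?_, {a : Idx d N // Function.Injective a}, inferInstance, U, hU, hiso⟩
  rw [IsZariskiLocalAtSource.iff_of_iSup_eq_top (P := @SmoothOfRelativeDimension (d * (N - d)))
    U hU]
  intro a
  obtain ⟨e⟩ := hiso a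
  have h1 : (U a).ι ≫ X.hom = e.hom.left ≫
      (𝔸(ULift.{u} (Fin (d * (N - d))); Spec (CommRingCat.of k)) ↘ Spec (CommRingCat.of k)) :=
    (Over.w e.hom).symm
  rw [h1]
  haveI : IsIso e.hom.left := inferInstance
  rw [MorphismProperty.cancel_left_of_respectsIso (P := @SmoothOfRelativeDimension (d * (N - d)))]
  exact Groth.Agent.Helper8.LocStr.smoothOfRelDim_affineSpace _ _

end Groth.Agent.Helper1.GR
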