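import Mathlib
import Groth.Agent.Helper1.GR36

/-!
# Grassmannian, part 37: the locus of (left) ideals in the Grassmannian of an algebra is closed
-/

set_option autoImplicit false
set_option linter.style.haveILetI false
set_option linter.unusedSectionVars false

namespace Groth.Agent.Helper1.GR

open CategoryTheory Limits AlgebraicGeometry TensorProduct

universe u w

variable {R : Type u} [CommRing R] {B : Type u} [Ring B] [Algebra R B]

theorem mulLeft_rTensor {A A' : Type u} [CommRing A] [Algebra R A] [CommRing A'] [Algebra R A']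
    (φ : A →ₐ[R] A') (b : B) (t : A ⊗[R] B) :
    ((1 : A') ⊗ₜ[R] b) * LinearMap.rTensor B φ.toLinearMap t =
      LinearMap.rTensor B φ.toLinearMap (((1 : A) ⊗ₜ[R] b) * t) := by
  induction t using TensorProduct.induction_on with
  | zero => simp
  | tmul a m =>
    rw [LinearMap.rTensor_tmul, Algebra.TensorProduct.tmul_mul_tmul,
      Algebra.TensorProduct.tmul_mul_tmul, LinearMap.rTensor_tmul, one_mul, one_mul]
  | add x y hx hy =>
    rw [map_add, mul_add, hx, hy, mul_add, map_add]

/-- **the locus of left ideals is closed in a scheme representing the Grassmannian functor of an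
algebra** -/
theorem exists_closed_mulStable (e : ℕ) (X : Over (Spec (CommRingCat.of R)))
    (dX : PointsData X (Module.Grassmannian.functor (R := R) (M := B) e)) :
    ∃ (Z : Scheme.{u}) (ι : Z ⟶ X.left), IsClosedImmersion ι ∧
      ∀ (A : CommAlgCat.{u} R) (g : ptO A ⟶ X),
        (∃ h : (ptO A).left ⟶ Z, h ≫ ι = g.left) ↔
          ∀ (b : B) (x : ↑A ⊗[R] B), x ∈ (dX.e A g).toSubmodule →
            ((1 : ↑A) ⊗ₜ[R] b) * x ∈ (dX.e A g).toSubmodule := by
  let γ : GPt X B e := GPt.ofPointsData dX
  let 𝒦 : PtCond X := PtCond.ofMap (S := B) (fun _ => γ) (fun _ => γ)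
    (fun b A => LinearMap.mulLeft A ((1 : A) ⊗ₜ[R] b))
    (fun b A A' φ t => mulLeft_rTensor φ.hom b t)
  obtain ⟨Z, ι, hι, h1, -⟩ := 𝒦.exists_closed
  refine ⟨Z, ι, hι, ?_⟩
  intro A g
  rw [h1 A g]
  constructor
  · intro h b x hx
    exact h b ⟨x, hx, rfl⟩
  · rintro h b _ ⟨x, hx, rfl⟩
    exact h b x hx

end Groth.Agent.Helper1.GR
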