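import Mathlib
import Groth.Agent.Helper1.GR36

/-!
# Grassmannian, part 38: the Grassmannian functor of a quotient module is a closed subfunctor
-/

set_option autoImplicit false
set_option linter.style.haveILetI false
set_option linter.unusedSectionVars false

namespace Groth.Agent.Helper1.GR

open CategoryTheory Limits AlgebraicGeometry TensorProduct

universe u v w

section Alg

variable {A : Type u} [CommRing A] {V W : Type v} [AddCommGroup V] [Module A V]
  [AddCommGroup W] [Module A W] (f : V →ₗ[A] W) (hf : Function.Surjective f)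

/-- the quotient by the preimage of a submodule under a surjection -/
noncomputable def quotComapEquiv (N : Submodule A W) : (V ⧸ N.comap f) ≃ₗ[A] (W ⧸ N) :=
  (Submodule.quotEquivOfEq _ _ (by rw [LinearMap.ker_comp, Submodule.ker_mkQ])).trans
    ((N.mkQ ∘ₗ f).quotKerEquivOfSurjective ((Submodule.mkQ_surjective N).comp hf))

theorem quotComapEquiv_mk (N : Submodule A W) (x : V) :
    quotComapEquiv f hf N (Submodule.Quotient.mk x) = Submodule.Quotient.mk (f x) := rfl

end Alg

section G

variable {R : Type u} [CommRing R] {M₁ M₂ : Type v} [AddCommGroup M₁] [Module R M₁]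
  [AddCommGroup M₂] [Module R M₂] (v : M₁ →ₗ[R] M₂) (hv : Function.Surjective v) (k : ℕ)

section One

variable (A : Type w) [CommRing A] [Algebra R A]

include hv in
theorem baseChange_surj : Function.Surjective (v.baseChange A) :=
  LinearMap.baseChange_surjective A hv

/-- the preimage of a point of the Grassmannian functor under a surjection -/
noncomputable def comapG (N : Module.Grassmannian A (A ⊗[R] M₂) k) :
    Module.Grassmannian A (A ⊗[R] M₁) k :=
  { toSubmodule := N.toSubmodule.comap (v.baseChange A)
    finite_quotient := Module.Finite.equiv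
      (quotComapEquiv (v.baseChange A) (baseChange_surj v hv A) N.toSubmodule).symm
    projective_quotient := Module.Projective.of_equiv
      (quotComapEquiv (v.baseChange A) (baseChange_surj v hv A) N.toSubmodule).symm
    rankAtStalk_eq := fun p => by
      rw [congrFun (Module.rankAtStalk_eq_of_equiv
        (quotComapEquiv (v.baseChange A) (baseChange_surj v hv A) N.toSubmodule)) p]
      exact N.rankAtStalk_eq p }

theorem comapG_toSubmodule (N : Module.Grassmannian A (A ⊗[R] M₂) k) :
    (comapG v hv k A N).toSubmodule = N.toSubmodule.comap (v.baseChange A) := rfl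

theorem comapG_injective : Function.Injective (comapG v hv k A) := by
  intro N N' h
  apply Module.Grassmannian.ext
  have h1 := congrArg (fun U => U.toSubmodule.map (v.baseChange A)) h
  simp only [comapG_toSubmodule] at h1
  rwa [Submodule.map_comap_eq_of_surjective (baseChange_surj v hv A),
    Submodule.map_comap_eq_of_surjective (baseChange_surj v hv A)] at h1

/-- the image of a point of the Grassmannian functor containing the kernel -/
noncomputable def mapG (U : Module.Grassmannian A (A ⊗[R] M₁) k)
    (hU : LinearMap.ker (v.baseChange A) ≤ U.toSubmodule) :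
    Module.Grassmannian A (A ⊗[R] M₂) k :=
  let e : ((A ⊗[R] M₁) ⧸ U.toSubmodule) ≃ₗ[A]
      ((A ⊗[R] M₂) ⧸ U.toSubmodule.map (v.baseChange A)) :=
    (Submodule.quotEquivOfEq _ _ (Submodule.comap_map_eq_self hU).symm).trans
      (quotComapEquiv (v.baseChange A) (baseChange_surj v hv A)
        (U.toSubmodule.map (v.baseChange A)))
  { toSubmodule := U.toSubmodule.map (v.baseChange A)
    finite_quotient := Module.Finite.equiv e
    projective_quotient := Module.Projective.of_equiv e
    rankAtStalk_eq := fun p => by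
      rw [← congrFun (Module.rankAtStalk_eq_of_equiv e) p]
      exact U.rankAtStalk_eq p }

theorem comapG_mapG (U : Module.Grassmannian A (A ⊗[R] M₁) k)
    (hU : LinearMap.ker (v.baseChange A) ≤ U.toSubmodule) :
    comapG v hv k A (mapG v hv k A U hU) = U := by
  apply Module.Grassmannian.ext
  exact Submodule.comap_map_eq_self hU

theorem mem_range_comapG (U : Module.Grassmannian A (A ⊗[R] M₁) k) :
    U ∈ Set.range (comapG v hv k A) ↔ LinearMap.ker (v.baseChange A) ≤ U.toSubmodule := by
  constructor
  · rintro ⟨N, rfl⟩ x hx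
    rw [comapG_toSubmodule, Submodule.mem_comap, LinearMap.mem_ker.mp hx]
    exact Submodule.zero_mem _
  · intro hU
    exact ⟨mapG v hv k A U hU, comapG_mapG v hv k A U hU⟩

include hv in
/-- the kernel of the base change of a surjection is generated by the kernel -/
theorem ker_baseChange_le_iff (U : Submodule A (A ⊗[R] M₁)) :
    LinearMap.ker (v.baseChange A) ≤ U ↔
      ∀ κ : LinearMap.ker v, (1 : A) ⊗ₜ[R] (κ : M₁) ∈ U := by
  constructor
  · intro h κ
    apply h
    rw [LinearMap.mem_ker, LinearMap.baseChange_tmul, LinearMap.mem_ker.mp κ.2,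
      TensorProduct.tmul_zero]
  · intro h x hx
    rw [LinearMap.mem_ker] at hx
    have hex := lTensor_exact (R := R) (M := LinearMap.ker v) (f := (LinearMap.ker v).subtype)
      (g := v) A (LinearMap.exact_subtype_ker_map v) hv
    have hx' : (LinearMap.lTensor A v) x = 0 := by
      rw [← hx]
      exact (congrFun (LinearMap.baseChange_eq_ltensor (A := A) v) x).symm
    obtain ⟨z, rfl⟩ := (hex x).mp hx'
    clear hx hx'
    induction z using TensorProduct.induction_on with
    | zero => simp
    | tmul a κ =>
      rw [LinearMap.lTensor_tmul]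
      have : a ⊗ₜ[R] ((LinearMap.ker v).subtype κ) = a • ((1 : A) ⊗ₜ[R] (κ : M₁)) := by
        rw [TensorProduct.smul_tmul', smul_eq_mul, mul_one]
        rfl
      rw [this]
      exact Submodule.smul_mem _ _ (h κ)
    | add z z' hz hz' =>
      rw [map_add]
      exact Submodule.add_mem _ hz hz'

end One

section Nat

variable {A B : Type w} [CommRing A] [CommRing B] [Algebra R A] [Algebra R B]

include hv in
theorem ker_baseChangeMkQ_comap [Algebra A B] [IsScalarTower R A B]
    (N : Submodule A (A ⊗[R] M₂)) :
    LinearMap.ker (Module.Grassmannian.baseChangeMkQ B (N.comap (v.baseChange A))) =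
      (LinearMap.ker (Module.Grassmannian.baseChangeMkQ B N)).comap (v.baseChange B) := by
  let θ : B ⊗[A] ((A ⊗[R] M₁) ⧸ N.comap (v.baseChange A)) ≃ₗ[B] B ⊗[A] ((A ⊗[R] M₂) ⧸ N) :=
    (quotComapEquiv (v.baseChange A) (baseChange_surj v hv A) N).baseChange A B _ _
  have key : θ.toLinearMap ∘ₗ Module.Grassmannian.baseChangeMkQ B (N.comap (v.baseChange A)) =
      Module.Grassmannian.baseChangeMkQ B N ∘ₗ (v.baseChange B) := by
    apply TensorProduct.AlgebraTensorModule.ext
    intro b m
    simp only [LinearMap.comp_apply, LinearEquiv.coe_coe, Module.Grassmannian.baseChangeMkQ,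
      TensorProduct.AlgebraTensorModule.cancelBaseChange_symm_tmul, LinearMap.baseChange_tmul,
      LinearEquiv.baseChange_tmul, Submodule.mkQ_apply, θ]
    rfl
  ext x
  rw [Submodule.mem_comap, LinearMap.mem_ker, LinearMap.mem_ker]
  have h1 := LinearMap.congr_fun key x
  simp only [LinearMap.comp_apply, LinearEquiv.coe_coe] at h1
  rw [← h1]
  exact θ.map_eq_zero_iff.symm

theorem comapG_map (φ : A →ₐ[R] B) (N : Module.Grassmannian A (A ⊗[R] M₂) k) :
    Module.Grassmannian.map φ (comapG v hv k A N) =
      comapG v hv k B (Module.Grassmannian.map φ N) := by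
  apply Module.Grassmannian.ext
  letI : Algebra A B := φ.toRingHom.toAlgebra
  letI : IsScalarTower R A B := IsScalarTower.of_algebraMap_eq' φ.comp_algebraMap.symm
  change LinearMap.ker (Module.Grassmannian.baseChangeMkQ B (comapG v hv k A N).toSubmodule) =
    (LinearMap.ker (Module.Grassmannian.baseChangeMkQ B N.toSubmodule)).comap
      (v.baseChange B)
  exact @ker_baseChangeMkQ_comap R _ M₁ M₂ _ _ _ _ v hv A B _ _ _ _ φ.toRingHom.toAlgebra
    (IsScalarTower.of_algebraMap_eq' φ.comp_algebraMap.symm) N.toSubmodule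

end Nat

end G

section Main

variable {R : Type u} [CommRing R] {M₁ M₂ : Type u} [AddCommGroup M₁] [Module R M₁]
  [AddCommGroup M₂] [Module R M₂] (v : M₁ →ₗ[R] M₂) (hv : Function.Surjective v) (k : ℕ)
  {X₁ : Over (Spec (CommRingCat.of R))}

/-- **the Grassmannian of a quotient module is a closed subscheme of the Grassmannian** -/
theorem exists_sub_of_surjective
    (dX₁ : PointsData X₁ (Module.Grassmannian.functor (R := R) (M := M₁) k)) :
    ∃ (Z : Over (Spec (CommRingCat.of R))) (c₀ : Z ⟶ X₁)
      (dZ : PointsData Z (Module.Grassmannian.functor (R := R) (M := M₂) k)),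
      IsClosedImmersion c₀.left ∧
        ∀ (A : CommAlgCat.{u} R) (z : ptO A ⟶ Z),
          dX₁.e A (z ≫ c₀) = comapG v hv k A (dZ.e A z) := by
  let γ : GPt X₁ M₁ k := GPt.ofPointsData dX₁
  let 𝒦 : PtCond X₁ := PtCond.ofElem γ (S := LinearMap.ker v)
    (fun κ A => (1 : A) ⊗ₜ[R] (κ : M₁))
    (fun κ A B φ => by
      rw [LinearMap.rTensor_tmul]
      congr 1
      exact map_one φ.hom)
  obtain ⟨Z, c₀, e', hc, he'⟩ := 𝒦.exists_sub
    (F' := fun A => Module.Grassmannian A (A ⊗[R] M₂) k)
    (fun A N => (dX₁.e A).symm (comapG v hv k A N))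
    (fun A N N' h => comapG_injective v hv k A ((dX₁.e A).symm.injective h))
    (fun A x => by
      change (∀ κ : LinearMap.ker v, (1 : A) ⊗ₜ[R] (κ : M₁) ∈ (dX₁.e A x).toSubmodule) ↔ _
      rw [← ker_baseChange_le_iff v hv A, ← mem_range_comapG v hv k A]
      constructor
      · rintro ⟨N, hN⟩
        exact ⟨N, (Equiv.symm_apply_eq _).mpr hN⟩
      · rintro ⟨N, hN⟩
        exact ⟨N, (Equiv.symm_apply_eq _).mp hN⟩)
  have hkey : ∀ (A : CommAlgCat.{u} R) (z : ptO A ⟶ Z),
      dX₁.e A (z ≫ c₀) = comapG v hv k A (e' A z) := by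
    intro A z
    rw [he' A z]
    simp
  refine ⟨Z, c₀, ⟨e', ?_⟩, hc, hkey⟩
  intro A B φ z z' hz
  apply comapG_injective v hv k B
  have h1 : (z' ≫ c₀).left =
      Spec.map (CommRingCat.ofHom φ.hom.toRingHom) ≫ (z ≫ c₀).left := by
    change z'.left ≫ c₀.left = Spec.map _ ≫ z.left ≫ c₀.left
    rw [hz, Category.assoc]
  have h2 := dX₁.he A B φ (z ≫ c₀) (z' ≫ c₀) h1
  rw [hkey, hkey] at h2
  exact h2.trans (comapG_map v hv k φ.hom (e' A z))

end Main

end Groth.Agent.Helper1.GR
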