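import Mathlib
import Groth.Agent.Helper1.GR24

/-!
# Grassmannian, part 39: the isomorphism of two schemes with the same points, with its action
on points
-/

set_option autoImplicit false
set_option linter.style.haveILetI false
set_option linter.unusedSectionVars false

namespace Groth.Agent.Helper1.GR

open CategoryTheory Limits AlgebraicGeometry

universe u w

variable {R : Type u} [CommRing R] {X Y : Over (Spec (CommRingCat.of R))}
  {F : CommAlgCat.{u} R ⥤ Type w}

/-- two `R`-schemes with the same points are isomorphic over `R`, compatibly with the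
descriptions of the points -/
theorem exists_overIso_of_pointsData (dX : PointsData X F) (dY : PointsData Y F) :
    ∃ i : X ≅ Y, ∀ (A : CommAlgCat.{u} R) (x : ptO A ⟶ X),
      dY.e A (x ≫ i.hom) = dX.e A x := by
  obtain ⟨i, hi⟩ := exists_iso_of_affine_points (Traw dX dY) (Traw_natural dX dY)
    (Traw dY dX) (Traw_natural dY dX) (Traw_Traw dX dY) (Traw_Traw dY dX)
  have h0 : i.hom ≫ Y.hom = X.hom := by
    apply hom_ext_of_affine_points
    intro C g
    rw [← Category.assoc, hi, Traw_hom]
  refine ⟨Over.isoMk i h0, ?_⟩
  intro A x
  have h1 : x ≫ (Over.isoMk i h0).hom = Tpt dX dY A x := by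
    apply Over.OverMorphism.ext
    change x.left ≫ i.hom = _
    rw [hi]
    exact Traw_eq dX dY A x
  rw [h1]
  unfold Tpt
  simp

/-- a morphism over `R` is determined by its action on points -/
theorem over_hom_ext_of_points (c c' : X ⟶ Y)
    (h : ∀ (A : CommAlgCat.{u} R) (x : ptO A ⟶ X), x ≫ c = x ≫ c') : c = c' := by
  apply Over.OverMorphism.ext
  apply hom_ext_of_affine_points
  intro C g
  exact congrArg (fun z => z.left) (h (ptAlg X g) (pt X g))

end Groth.Agent.Helper1.GR
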