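import Mathlib
import Groth.Agent.Helper2.EtLiftE

/-!
# GX10: `K ∩ IB = IK` for the kernel `K` of a surjection `B → C` onto a flat `A`-algebra
-/

set_option autoImplicit false
set_option linter.style.haveILetI false
set_option linter.unusedSectionVars false

universe u

namespace Groth.Agent.Helper1.GX

/-- if `C = B/K` is flat over `A` then `K ∩ IB = IK` -/
theorem mem_mul_ker_of_flat {A B C : Type u} [CommRing A] [CommRing B] [CommRing C]
    (I : Ideal A) (ρB : A →+* B) (ρC : A →+* C) (ψ : B →+* C) (hψρ : ψ.comp ρB = ρC)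
    (hψ : Function.Surjective ψ) (hfl : ρC.Flat) (x : B) (hx : ψ x = 0) (hxI : x ∈ I.map ρB) :
    x ∈ I.map ρB * RingHom.ker ψ := by
  letI : Algebra A B := ρB.toAlgebra
  letI : Algebra A C := ρC.toAlgebra
  haveI : Module.Flat A C := hfl
  let f : B →ₗ[A] C :=
    { toFun := ψ
      map_add' := map_add ψ
      map_smul' := fun a y => by
        show ψ (ρB a * y) = ρC a * ψ y
        rw [map_mul, ← hψρ]
        rfl }
  have h1 : x ∈ I • (⊤ : Submodule A B) := by
    rw [Ideal.smul_top_eq_map]
    exact hxI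
  have h2 := Groth.Agent.Helper2.JacEt.mem_smul_ker_of_flat I f hψ x hx h1
  refine Submodule.smul_induction_on h2 ?_ ?_
  · intro a ha y hy
    rw [Algebra.smul_def]
    exact Ideal.mul_mem_mul (Ideal.mem_map_of_mem _ ha) hy
  · intro y z hy hz
    exact Ideal.add_mem _ hy hz

end Groth.Agent.Helper1.GX
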