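import Mathlib

/-!
# TorsFree1: the module-theoretic core of "(1) ⇒ (4)" for systems `(F_n)` with
`0 → F_n → F_{n+1} → F_1 → 0`
-/

set_option autoImplicit false

universe u

namespace Groth.Agent.Helper1.TorsFree

variable {B : Type*} [CommRing B] (f : B) (M : ℕ → Type*) [∀ n, AddCommGroup (M n)]
  [∀ n, Module B (M n)] (τ : ∀ n, M (n + 1) →ₗ[B] M n) (i : ∀ n, M n →ₗ[B] M (n + 1))
  (σ : ∀ n, M n →ₗ[B] M 0)

/-- the hypotheses on sections -/
structure Hyp : Prop where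
  inj : ∀ n, Function.Injective (i n)
  fac : ∀ n (x : M (n + 1)), i n (τ n x) = f • x
  σ0 : ∀ x : M 0, σ 0 x = x
  σsucc : ∀ n (x : M (n + 1)), σ (n + 1) x = σ n (τ n x)
  ex : ∀ n (x : M (n + 1)), σ (n + 1) x = 0 → ∃ y, i n y = x
  ex' : ∀ n (y : M n), σ (n + 1) (i n y) = 0
  surj : ∀ n, Function.Surjective (σ (n + 1))

variable {f M τ i σ}

namespace Hyp

variable (h : Hyp f M τ i σ)

include h

lemma τ_i (n : ℕ) (y : M n) : τ n (i n y) = f • y := by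
  apply h.inj n
  rw [h.fac, map_smul]

lemma τ_i_succ (n : ℕ) (y : M (n + 1)) : τ (n + 1) (i (n + 1) y) = i n (τ n y) := by
  rw [h.τ_i, h.fac]

lemma pow_smul_eq_zero (n : ℕ) (x : M n) : f ^ (n + 1) • x = 0 := by
  induction n with
  | zero =>
    rw [zero_add, pow_one, ← h.τ_i 0 x]
    have h1 : σ 1 (i 0 x) = 0 := h.ex' 0 x
    rw [h.σsucc 0, h.σ0] at h1
    exact h1
  | succ n ih =>
    rw [pow_succ, mul_smul, ← h.fac n x, ← map_smul, ih, map_zero]

lemma τ_surjective (n : ℕ) : Function.Surjective (τ n) := by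
  induction n with
  | zero =>
    intro y
    obtain ⟨x, hx⟩ := h.surj 0 y
    rw [h.σsucc 0, h.σ0] at hx
    exact ⟨x, hx⟩
  | succ n ih =>
    intro y
    obtain ⟨x, hx⟩ := h.surj (n + 1) (σ (n + 1) y)
    have h1 : σ (n + 1) (y - τ (n + 1) x) = 0 := by
      rw [map_sub, ← h.σsucc (n + 1) x, hx, sub_self]
    obtain ⟨z, hz⟩ := h.ex n _ h1
    obtain ⟨w, rfl⟩ := ih z
    refine ⟨x + i (n + 1) w, ?_⟩
    rw [map_add, h.τ_i_succ, hz]
    abel

lemma ker_τ (n : ℕ) (x : M (n + 1)) (hx : τ n x = 0) : ∃ x' : M (n + 1), x = f ^ (n + 1) • x' := by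
  induction n with
  | zero =>
    have h1 : σ 1 x = 0 := by rw [h.σsucc 0, hx, map_zero]
    obtain ⟨y, rfl⟩ := h.ex 0 x h1
    obtain ⟨x', rfl⟩ := h.τ_surjective 0 y
    exact ⟨x', (h.fac 0 x').trans (congrArg (· • x') (pow_one f).symm)⟩
  | succ n ih =>
    have h1 : σ (n + 2) x = 0 := by rw [h.σsucc (n + 1), hx, map_zero]
    obtain ⟨y, rfl⟩ := h.ex (n + 1) x h1
    rw [h.τ_i_succ] at hx
    have h2 : τ n y = 0 := h.inj n (by rw [hx, map_zero])
    obtain ⟨y', rfl⟩ := ih y h2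
    obtain ⟨x', rfl⟩ := h.τ_surjective (n + 1) y'
    refine ⟨x', ?_⟩
    rw [map_smul, h.fac, ← mul_smul, ← pow_succ]

end Hyp

end Groth.Agent.Helper1.TorsFree
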