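import Mathlib
import Groth.Agent.Helper1.TorsFree1
import Groth.Agent.Helper1.LimSec2
import Groth.Agent.Helper1.FormD
import Groth.Agent.Helper4.QcohExt
import Groth.Agent.Helper4.AssMono
import Groth.Agent.Helper4.AffineDict

/-!
# TorsFree2: `(1) ⇒ (4)` for quasi-coherent systems with `0 → F_n → F_{n+1} → F_1 → 0`
-/

set_option autoImplicit false
set_option linter.style.haveILetI false
set_option linter.unusedSectionVars false

universe u

open CategoryTheory CategoryTheory.Limits AlgebraicGeometry Opposite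

namespace Groth.Agent.Helper1.TorsFree

open Groth.Agent.Helper1.Form Groth.Agent.Helper1.QuotPush Groth.Agent.Helper4
open Groth.Agent.Helper1.LimSec

variable {A : Type u} [CommRing A] {X : Scheme.{u}} [X.Over (Spec (CommRingCat.of A))]

/-- a morphism that is surjective on affine sections, with kernel `J·Γ(K, U)` there, and killed
by `J`, is a quotient by `J` -/
theorem isQuot_of_sections {J : Ideal A} {K K' : X.Modules} [K'.IsQuasicoherent] (p : K ⟶ K')
    (hk : Kills J p)
    (hs : ∀ U : X.Opens, IsAffineOpen U → Function.Surjective (p.app U))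
    (hker : ∀ U : X.Opens, IsAffineOpen U → ∀ s : Γ(K, U), p.app U s = 0 →
      s ∈ (J.map (ρ (A := A) U)) • (⊤ : Submodule Γ(X, U) Γ(K, U))) : IsQuot J p := by
  haveI hepi : Epi p := by
    apply QcohLocal.epi_of_app_surjective_of_affine_cover
    intro x
    obtain ⟨_, ⟨W, hW, rfl⟩, hxW, -⟩ :=
      X.isBasis_affineOpens.exists_subset_of_mem_open (Set.mem_univ x) isOpen_univ
    exact ⟨W, hW, hxW, hs W hW⟩
  refine ⟨hepi, hk, fun {Z} g hg => ?_⟩
  have h0 : kernel.ι p ≫ g = 0 := by
    apply eq_zero_of_app_eq_zero_affine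
    intro W hW s
    have h1 : p.app W ((kernel.ι p).app W s) = 0 :=
      congrArg (fun φ => Scheme.Modules.Hom.app φ W s) (kernel.condition p)
    exact KLQuot.app_eq_zero_of_mem_smul_top hg W (hker W hW _ h1)
  exact ⟨Abelian.epiDesc p g h0, Abelian.comp_epiDesc _ _ _⟩

section sys

variable (f : A) (G : ℕᵒᵖ ⥤ X.Modules) (hqc : ∀ n : ℕᵒᵖ, Coh.IsQCoh (G.obj n))
  (i : ∀ n : ℕ, G.obj (op n) ⟶ G.obj (op (n + 1))) (hi : ∀ n, Mono (i n))
  (hfac : ∀ n, G.map (homOfLE (Nat.le_succ n)).op ≫ i n =
    Formal.smulMod A (G.obj (op (n + 1))) f)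
  (hw : ∀ n, i n ≫ G.map (homOfLE (Nat.zero_le (n + 1))).op = 0)
  (hex : ∀ n, (ShortComplex.mk (i n) (G.map (homOfLE (Nat.zero_le (n + 1))).op) (hw n)).ShortExact)

include hqc hi hfac hex in
lemma hyp {U : X.Opens} (hU : IsAffineOpen U) :
    Hyp (ρ (A := A) U f) (fun n => Γ(G.obj (op n), U))
      (fun n => QcohEpi.appLin (G.map (homOfLE (Nat.le_succ n)).op) U)
      (fun n => QcohEpi.appLin (i n) U)
      (fun n => QcohEpi.appLin (G.map (homOfLE (Nat.zero_le n)).op) U) where
  inj n := by
    haveI := hi n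
    exact AffineDict.app_injective_of_mono (i n) U
  fac n x := congrArg (fun φ => Scheme.Modules.Hom.app φ U x) (hfac n)
  σ0 x := by
    have e : (homOfLE (Nat.zero_le 0)).op = 𝟙 (op 0) := Subsingleton.elim _ _
    show (G.map (homOfLE (Nat.zero_le 0)).op).app U x = x
    rw [e, G.map_id]
    rfl
  σsucc n x := by
    have e : (homOfLE (Nat.zero_le (n + 1))).op =
        (homOfLE (Nat.le_succ n)).op ≫ (homOfLE (Nat.zero_le n)).op := Subsingleton.elim _ _
    show (G.map (homOfLE (Nat.zero_le (n + 1))).op).app U x = _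
    rw [e, G.map_comp]
    rfl
  ex n x hx := QcohExt.exists_of_app_g_eq_zero _ (hex n) x hx
  ex' n y := QcohExt.app_g_app_f _ (hex n) y
  surj n := by
    haveI : (ShortComplex.mk (i n) (G.map (homOfLE (Nat.zero_le (n + 1))).op)
      (hw n)).X₁.IsQuasicoherent := hqc (op n)
    exact QcohExt.app_surjective_of_shortExact _ (hex n) hU

include hqc hi hfac hex in
lemma killedBy (n : ℕ) :
    Formal.KilledBy ((Ideal.span ({f} : Set A)) ^ (n + 1)) (G.obj (op n)) := by
  intro a ha
  rw [Ideal.span_singleton_pow, Ideal.mem_span_singleton'] at ha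
  obtain ⟨c, rfl⟩ := ha
  rw [smulMod_mul]
  have h0 : Formal.smulMod A (G.obj (op n)) (f ^ (n + 1)) = 0 := by
    apply eq_zero_of_app_eq_zero_affine
    intro W hW s
    have h1 := (hyp f G hqc i hi hfac hw hex hW).pow_smul_eq_zero n s
    show (ρ (A := A) W (f ^ (n + 1))) • s = 0
    rw [map_pow]
    exact h1
  rw [h0, comp_zero]

include hqc hi hfac hex in
lemma isQuot_tr (n : ℕ) :
    IsQuot ((Ideal.span ({f} : Set A)) ^ (n + 1)) (G.map (homOfLE (Nat.le_succ n)).op) := by
  haveI : (G.obj (op n)).IsQuasicoherent := hqc (op n)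
  apply isQuot_of_sections _ (kills_of_killedBy_right (killedBy f G hqc i hi hfac hw hex n) _)
  · intro U hU
    exact (hyp f G hqc i hi hfac hw hex hU).τ_surjective n
  · intro U hU s hs
    obtain ⟨x', hx'⟩ := (hyp f G hqc i hi hfac hw hex hU).ker_τ n s hs
    rw [hx']
    apply Submodule.smul_mem_smul _ Submodule.mem_top
    rw [Ideal.span_singleton_pow, Ideal.map_span, Set.image_singleton, map_pow]
    exact Ideal.subset_span rfl

include hqc hi hfac hex in
lemma isQCohFormal : Formal2.IsQCohFormal (Ideal.span ({f} : Set A)) G :=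
  ⟨fun n => hqc (op n), killedBy f G hqc i hi hfac hw hex,
    fun n => (isQuot_tr f G hqc i hi hfac hw hex n).exists_isIso⟩

include hqc hi hfac hex in
theorem main : ∃ F : X.Modules, Mono (Formal.smulMod A F f) ∧
    Nonempty (Formal.completion (Ideal.span ({f} : Set A)) F ≅ G) := by
  have hI : (Ideal.span ({f} : Set A)).FG := ⟨{f}, by simp⟩
  have hG := isQCohFormal f G hqc i hi hfac hw hex
  refine ⟨limit G, ?_, ?_⟩
  · apply AssMono.mono_of_app_injective
    intro V
    rw [injective_iff_map_eq_zero]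
    intro s hs
    apply limit_sections_ext G V s 0
    intro n
    rw [map_zero]
    haveI := hi n
    apply AffineDict.app_injective_of_mono (i n) V
    rw [map_zero]
    have h1 : limit.π G (op (n + 1)) ≫ G.map (homOfLE (Nat.le_succ n)).op = limit.π G (op n) :=
      limit.w G _
    have h2 : limit.π G (op n) ≫ i n =
        Formal.smulMod A (limit G) f ≫ limit.π G (op (n + 1)) := by
      rw [← h1, Category.assoc, hfac n, smulMod_comp]
    have h3 := congrArg (fun φ => Scheme.Modules.Hom.app φ V s) h2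
    refine h3.trans ?_
    show (limit.π G (op (n + 1))).app V ((Formal.smulMod A (limit G) f).app V s) = 0
    rw [hs, map_zero]
  · obtain ⟨e, -⟩ := exists_completion_iso (I := Ideal.span ({f} : Set A)) (limit G) G
      (fun n => limit.π G (op n)) (fun n => isQuot_limit_π hI hG n) (fun n => limit.w G _)
    exact ⟨e⟩

end sys

end Groth.Agent.Helper1.TorsFree
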