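import Mathlib
import Groth.Agent.Helper1.GP7
import Groth.Agent.Helper1.AZ1
import Groth.Agent.Helper1.KLQuot
import Groth.Agent.Helper1.TorsFree2
import Groth.Agent.Helper4.QcohGlue

/-!
# GX9: the direct image along an affine morphism over the base preserves the quotients `N → N/JN`
of quasi-coherent modules
-/

set_option autoImplicit false
set_option linter.style.haveILetI false
set_option linter.unusedSectionVars false

universe u

open CategoryTheory CategoryTheory.Limits AlgebraicGeometry Opposite TopologicalSpace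

namespace Groth.Agent.Helper1.GX

open Groth.Agent.Helper1.Form Groth.Agent.Helper1.QuotPush

variable {A : Type u} [CommRing A] {X P : Scheme.{u}} [X.Over (Spec (CommRingCat.of A))]
  [P.Over (Spec (CommRingCat.of A))] (g : X ⟶ P) [g.IsOver (Spec (CommRingCat.of A))]

lemma app_ρ (V : P.Opens) (a : A) :
    g.app V (ρ (A := A) V a) = ρ (A := A) (g ⁻¹ᵁ V) a := by
  rw [Scheme.Hom.app_eq_appLE]
  exact Groth.Agent.Helper1.GP.ρ_appLE g V (g ⁻¹ᵁ V) le_rfl a

/-- sections of the direct image -/
noncomputable def pushSec (N : X.Modules) (V : P.Opens) :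
    Γ(N, g ⁻¹ᵁ V) ≃+ Γ((Scheme.Modules.pushforward g).obj N, V) := AddEquiv.refl _

lemma pushSec_smul (N : X.Modules) (V : P.Opens) (c : Γ(P, V)) (n : Γ(N, g ⁻¹ᵁ V)) :
    pushSec g N V ((g.app V c) • n) = c • pushSec g N V n := rfl

/-- `J·Γ(N, g⁻¹V)` computed upstairs is contained in the one computed downstairs -/
lemma mem_smul_top_push (J : Ideal A) (N : X.Modules) (V : P.Opens) (s : Γ(N, g ⁻¹ᵁ V))
    (hs : s ∈ (J.map (ρ (A := A) (g ⁻¹ᵁ V))) • (⊤ : Submodule Γ(X, g ⁻¹ᵁ V) Γ(N, g ⁻¹ᵁ V))) :
    pushSec g N V s ∈ (J.map (ρ (A := A) V)) •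
        (⊤ : Submodule Γ(P, V) Γ((Scheme.Modules.pushforward g).obj N, V)) := by
  have key : ∀ c ∈ J.map (ρ (A := A) (g ⁻¹ᵁ V)), ∀ n : Γ(N, g ⁻¹ᵁ V),
      pushSec g N V (c • n) ∈ (J.map (ρ (A := A) V)) •
          (⊤ : Submodule Γ(P, V) Γ((Scheme.Modules.pushforward g).obj N, V)) := by
    intro c hc
    refine Submodule.span_induction (p := fun c _ => ∀ n : Γ(N, g ⁻¹ᵁ V),
      pushSec g N V (c • n) ∈ (J.map (ρ (A := A) V)) •
          (⊤ : Submodule Γ(P, V) Γ((Scheme.Modules.pushforward g).obj N, V))) ?_ ?_ ?_ ?_ hc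
    · rintro _ ⟨a, ha, rfl⟩ n
      rw [← app_ρ g V a, pushSec_smul]
      exact Submodule.smul_mem_smul (Ideal.mem_map_of_mem _ ha) Submodule.mem_top
    · intro n
      rw [zero_smul, map_zero]
      exact Submodule.zero_mem _
    · intro x y _ _ hx hy n
      rw [add_smul, map_add]
      exact Submodule.add_mem _ (hx n) (hy n)
    · intro x y _ hy n
      have : (x • y) • n = y • (x • n) := by
        rw [smul_eq_mul, mul_comm, mul_smul]
      rw [this]
      exact hy _
  refine Submodule.smul_induction_on hs (fun c hc n _ => key c hc n) ?_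
  intro x y hx hy
  rw [map_add]
  exact Submodule.add_mem _ hx hy

variable [IsAffineHom g]

/-- the direct image along an affine morphism over the base preserves the quotients `N → N/JN` of
quasi-coherent modules, `J` finitely generated -/
theorem isQuot_push_affine {r : ℕ} (gen : Fin r → A) {N N' : X.Modules} [N.IsQuasicoherent]
    {p : N ⟶ N'} (hp : IsQuot (Ideal.span (Set.range gen)) p) :
    IsQuot (Ideal.span (Set.range gen)) ((Scheme.Modules.pushforward g).map p) := by
  haveI : N'.IsQuasicoherent := Groth.Agent.Helper1.KLQuot.isQuasicoherent_of_isQuot hp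
  haveI : ((Scheme.Modules.pushforward g).obj N').IsQuasicoherent :=
    Groth.Agent.Helper4.QcohGlue.isQuasicoherent_pushforward g N'
  refine Groth.Agent.Helper1.TorsFree.isQuot_of_sections _
    (Groth.Agent.Helper1.AZ.kills_push g hp.kills) ?_ ?_
  · intro V hV
    exact Groth.Agent.Helper1.KLQuot.app_surjective hp (hV.preimage g)
  · intro V hV s hs
    have h1 := Groth.Agent.Helper1.KLQuot.mem_smul_top_of_app_eq_zero gen hp (hV.preimage g)
      ((pushSec g N V).symm s) hs
    exact mem_smul_top_push g _ N V _ h1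

end Groth.Agent.Helper1.GX
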