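import Mathlib
import Groth.Agent.Helper1.GX9
import Groth.Agent.Helper1.GX10
import Groth.Agent.Helper1.AZ4
import Groth.Agent.Helper1.HB4
import Groth.Agent.Helper1.HT12
import Groth.Agent.Helper1.GK3
import Groth.Agent.Helper4.SN86
import Groth.Agent.Helper4.SN66
import Groth.Agent.Lead.PerfLib5

/-!
# GX11: a finite morphism of schemes over a complete Noetherian ring, from a flat scheme to a
proper one, which is an isomorphism modulo `I`, is an isomorphism
-/

set_option autoImplicit false
set_option linter.style.haveILetI false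
set_option linter.unusedSectionVars false

universe u

open CategoryTheory CategoryTheory.Limits AlgebraicGeometry Opposite TopologicalSpace

namespace Groth.Agent.Helper1.GX

open Groth.Agent.Helper1.Form Groth.Agent.Helper1.QuotPush Groth.Agent.Helper1.ZarIso

variable {A : Type u} [CommRing A] [IsNoetherianRing A] (I : Ideal A) [IsAdicComplete I A]
  {X P X₀ P₀ : Scheme.{u}} [X.Over (Spec (CommRingCat.of A))] [P.Over (Spec (CommRingCat.of A))]
  [IsProper (P ↘ Spec (CommRingCat.of A))]
  (g : X ⟶ P) [g.IsOver (Spec (CommRingCat.of A))] [IsFinite g]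
  {i₀ : X₀ ⟶ X} {fX₀ : X₀ ⟶ Spec (CommRingCat.of (A ⧸ I))}
  (hsqX : IsPullback i₀ fX₀ (X ↘ Spec (CommRingCat.of A))
    (Spec.map (CommRingCat.ofHom (Ideal.Quotient.mk I))))
  {b : P₀ ⟶ P} {fP₀ : P₀ ⟶ Spec (CommRingCat.of (A ⧸ I))}
  (hsqP : IsPullback b fP₀ (P ↘ Spec (CommRingCat.of A))
    (Spec.map (CommRingCat.ofHom (Ideal.Quotient.mk I))))
  (e : X₀ ⟶ P₀) [IsIso e] (hcomm : i₀ ≫ g = e ≫ b)

include hcomm in
/-- the comparison of the two factorizations of `O_P ⟶ (i₀ ≫ g)_* O_{X₀}` -/
lemma unitToPush_factor :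
    ∃ (Θ₁ : (Scheme.Modules.pushforward g).obj
        ((Scheme.Modules.pushforward i₀).obj (Coh.structureModule X₀)) ⟶
        (Scheme.Modules.pushforward (e ≫ b)).obj (Coh.structureModule X₀))
      (Θ₂ : (Scheme.Modules.pushforward b).obj (Coh.structureModule P₀) ⟶
        (Scheme.Modules.pushforward (e ≫ b)).obj (Coh.structureModule X₀)),
      IsIso Θ₁ ∧ IsIso Θ₂ ∧
      unitToPush g ≫ (Scheme.Modules.pushforward g).map (unitToPush i₀) ≫ Θ₁ =
        unitToPush b ≫ Θ₂ := by
  have h1 := Groth.Agent.Helper1.AZ.unitToPush_comp_congr i₀ g (e ≫ b) hcomm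
  have h2 := Groth.Agent.Helper1.AZ.unitToPush_comp_congr e b (e ≫ b) rfl
  haveI : IsIso (unitToPush e) := by
    rw [← Groth.Agent.Helper1.AZ.clSub_unitToPush_eq]
    exact Groth.Agent.Helper4.SN.isIso_unitToPush_of_isIso e
  refine ⟨(Scheme.Modules.pushforwardComp i₀ g).hom.app (Coh.structureModule X₀) ≫
      (Scheme.Modules.pushforwardCongr hcomm).hom.app (Coh.structureModule X₀),
    (Scheme.Modules.pushforward b).map (unitToPush e) ≫
      (Scheme.Modules.pushforwardComp e b).hom.app (Coh.structureModule X₀) ≫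
      (Scheme.Modules.pushforwardCongr rfl).hom.app (Coh.structureModule X₀),
    inferInstance, inferInstance, ?_⟩
  rw [h2]
  exact h1

include hsqX hsqP hcomm in
/-- `O_P ⟶ g_* O_X` is an epimorphism if it is so modulo `I` -/
theorem epi_unitToPush_of_fibre : Epi (unitToPush g) := by
  haveI : IsLocallyNoetherian P :=
    LocallyOfFiniteType.isLocallyNoetherian (P ↘ Spec (CommRingCat.of A))
  have hW : Coh.IsCoh (Coh.structureModule P) :=
    Groth.Agent.Helper1.Dev.isCoh_structureModule P
  have hM : Coh.IsCoh ((Scheme.Modules.pushforward g).obj (Coh.structureModule X)) :=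
    Groth.Agent.Helper1.HT.isCoh_pushforward_of_isProper g _
      (Groth.Agent.Helper1.Dev.isCoh_structureModule X)
  apply Groth.Agent.Helper1.AZ.epi_of_epi_comp_modPowπ I hW hM
  haveI : (Coh.structureModule X).IsQuasicoherent :=
    (Groth.Agent.Helper1.Dev.isCoh_structureModule X).1
  obtain ⟨r, gen, hgen⟩ :=
    Submodule.fg_iff_exists_fin_generating_family.1 (IsNoetherian.noetherian I)
  have hgen' : Ideal.span (Set.range gen) = I := hgen
  have hq0 : IsQuot I (unitToPush i₀) := isQuot_unitToPush I hsqX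
  have hq : IsQuot I ((Scheme.Modules.pushforward g).map (unitToPush i₀)) := by
    have hq0' : IsQuot (Ideal.span (Set.range gen)) (unitToPush i₀) := hgen'.symm ▸ hq0
    exact hgen' ▸ isQuot_push_affine g gen hq0'
  have hq1 : IsQuot I (Formal.modPowπ I 1
      ((Scheme.Modules.pushforward g).obj (Coh.structureModule X))) := by
    have := isQuot_modPowπ I 1 ((Scheme.Modules.pushforward g).obj (Coh.structureModule X))
    rwa [pow_one] at this
  have hfac : (Scheme.Modules.pushforward g).map (unitToPush i₀) ≫ (hq.iso hq1).hom =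
      Formal.modPowπ I 1 _ := hq.fac_iso_hom hq1
  rw [← hfac]
  obtain ⟨Θ₁, Θ₂, hΘ₁, hΘ₂, hΘ⟩ := unitToPush_factor g e hcomm
  haveI : IsClosedImmersion (Spec.map (CommRingCat.ofHom (Ideal.Quotient.mk I))) :=
    IsClosedImmersion.spec_of_surjective _ Ideal.Quotient.mk_surjective
  haveI : IsClosedImmersion b := Groth.Agent.Lead.ThickBC.isClosedImmersion_of_isPullback hsqP
  haveI : Epi (unitToPush b) := by
    rw [← Groth.Agent.Helper1.AZ.clSub_unitToPush_eq]
    exact Groth.Agent.Helper1.HB.epi_unitToPush b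
  have hepi : Epi (unitToPush g ≫ (Scheme.Modules.pushforward g).map (unitToPush i₀) ≫ Θ₁) := by
    rw [hΘ]; infer_instance
  have h3 : unitToPush g ≫ (Scheme.Modules.pushforward g).map (unitToPush i₀) ≫ (hq.iso hq1).hom =
      (unitToPush g ≫ (Scheme.Modules.pushforward g).map (unitToPush i₀) ≫ Θ₁) ≫
        (inv Θ₁ ≫ (hq.iso hq1).hom) := by
    simp only [Category.assoc, IsIso.hom_inv_id_assoc]
  rw [h3]
  infer_instance

include hsqX hsqP hcomm in
/-- the kernel of `O_P ⟶ g_* O_X` maps to zero in `b_* O_{P₀}` -/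
lemma kernel_ι_unitToPush_b : kernel.ι (unitToPush g) ≫ unitToPush b = 0 := by
  obtain ⟨Θ₁, Θ₂, hΘ₁, hΘ₂, hΘ⟩ := unitToPush_factor g e hcomm
  have h1 : (kernel.ι (unitToPush g) ≫ unitToPush b) ≫ Θ₂ = 0 := by
    rw [Category.assoc, ← hΘ, ← Category.assoc, kernel.condition, zero_comp]
  rw [← cancel_mono Θ₂, h1, zero_comp]

include hsqX hsqP hcomm in
/-- `O_P ⟶ g_* O_X` is a monomorphism if `X` is flat over `A` and `g` is an isomorphism modulo
`I` -/
theorem mono_unitToPush_of_fibre [Flat (X ↘ Spec (CommRingCat.of A))] :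
    Mono (unitToPush g) := by
  haveI hepi := epi_unitToPush_of_fibre I g hsqX hsqP e hcomm
  haveI : IsLocallyNoetherian P :=
    LocallyOfFiniteType.isLocallyNoetherian (P ↘ Spec (CommRingCat.of A))
  have hW : Coh.IsCoh (Coh.structureModule P) :=
    Groth.Agent.Helper1.Dev.isCoh_structureModule P
  have hM : Coh.IsCoh ((Scheme.Modules.pushforward g).obj (Coh.structureModule X)) :=
    Groth.Agent.Helper1.HT.isCoh_pushforward_of_isProper g _
      (Groth.Agent.Helper1.Dev.isCoh_structureModule X)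
  have h𝒦 : Coh.IsCoh (kernel (unitToPush g)) :=
    Groth.Agent.Lead.PerfLib.isCoh_kernel hW hM (unitToPush g)
  haveI : (kernel (unitToPush g)).IsQuasicoherent := h𝒦.1
  haveI : (Coh.structureModule P).IsQuasicoherent := hW.1
  haveI : ((Scheme.Modules.pushforward g).obj (Coh.structureModule X)).IsQuasicoherent := hM.1
  have hιb := kernel_ι_unitToPush_b I g hsqX hsqP e hcomm
  -- the local statement
  have key : ∀ V : P.Opens, IsAffineOpen V → ∀ k : Γ(kernel (unitToPush g), V),
      k ∈ (I.map (ρ (A := A) V)) • (⊤ : Submodule Γ(P, V) Γ(kernel (unitToPush g), V)) := by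
    intro V hV k
    set x : Γ(P, V) := (kernel.ι (unitToPush g)).app V k with hx
    have hx1 : (g.app V).hom x = 0 := by
      have h1 := congrArg (fun φ => Scheme.Modules.Hom.app φ V k) (kernel.condition (unitToPush g))
      exact h1
    have hx2 : (b.app V).hom x = 0 := by
      have h1 := congrArg (fun φ => Scheme.Modules.Hom.app φ V k) hιb
      exact h1
    have hx3 : x ∈ I.map (ρ (A := A) V) := by
      rw [← ker_app_eq I hsqP hV]
      exact hx2
    have hsurj : Function.Surjective (g.app V).hom :=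
      Groth.Agent.Helper4.QcohEpi.app_surjective_of_epi (unitToPush g) hV
    have hflat : (ρ (A := A) (X := X) (g ⁻¹ᵁ V)).Flat := by
      have h1 := Flat.flat_appLE (X ↘ Spec (CommRingCat.of A))
        (isAffineOpen_top (Spec (CommRingCat.of A))) (hV.preimage g) le_top
      have h2 : ρ (A := A) (X := X) (g ⁻¹ᵁ V) =
          ((X ↘ Spec (CommRingCat.of A)).appLE ⊤ (g ⁻¹ᵁ V) le_top).hom.comp
            (Scheme.ΓSpecIso (CommRingCat.of A)).inv.hom := by
        ext a
        exact Groth.Agent.Helper1.GP.ρ_eq (g ⁻¹ᵁ V) a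
      rw [h2]
      refine RingHom.Flat.comp (RingHom.Flat.of_bijective ?_) h1
      exact ConcreteCategory.bijective_of_isIso (Scheme.ΓSpecIso (CommRingCat.of A)).inv
    have hcomp : (g.app V).hom.comp (ρ (A := A) V) = ρ (A := A) (g ⁻¹ᵁ V) := by
      ext a
      exact app_ρ g V a
    have h4 := mem_mul_ker_of_flat I (ρ (A := A) V) (ρ (A := A) (g ⁻¹ᵁ V)) (g.app V).hom hcomp
      hsurj hflat x hx1 hx3
    have h5 : ∀ y ∈ I.map (ρ (A := A) V) * RingHom.ker (g.app V).hom,
        ∃ k' ∈ (I.map (ρ (A := A) V)) •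
          (⊤ : Submodule Γ(P, V) Γ(kernel (unitToPush g), V)),
          (kernel.ι (unitToPush g)).app V k' = y := by
      intro y hy
      refine Submodule.mul_induction_on hy ?_ ?_
      · intro m hm z hz
        obtain ⟨w, hw⟩ := Groth.Agent.Helper1.GK.exists_kernel_section (unitToPush g) V z hz
        refine ⟨m • w, Submodule.smul_mem_smul hm Submodule.mem_top, ?_⟩
        rw [Scheme.Modules.Hom.app_smul, hw]
        rfl
      · rintro y z ⟨k₁, hk₁, rfl⟩ ⟨k₂, hk₂, rfl⟩
        exact ⟨k₁ + k₂, Submodule.add_mem _ hk₁ hk₂, map_add _ _ _⟩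
    obtain ⟨k', hk', hk'x⟩ := h5 x h4
    have h6 : k' = k :=
      Groth.Agent.Helper4.AffineDict.app_injective_of_mono (kernel.ι (unitToPush g)) V hk'x
    rw [← h6]
    exact hk'
  have hq1 : IsQuot I (Formal.modPowπ I 1 (kernel (unitToPush g))) := by
    have := isQuot_modPowπ I 1 (kernel (unitToPush g))
    rwa [pow_one] at this
  have hπ : Formal.modPowπ I 1 (kernel (unitToPush g)) = 0 := by
    apply Groth.Agent.Helper4.QcohLocal.eq_zero_of_app_eq_zero_of_affine_cover
    intro x
    obtain ⟨V, hV, hxV⟩ := Groth.Agent.Helper4.QcohLimits.exists_affine_nhd x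
    refine ⟨V, hV, hxV, fun k => ?_⟩
    exact Groth.Agent.Helper1.KLQuot.app_eq_zero_of_mem_smul_top hq1.kills V (key V hV k)
  have hz : IsZero (kernel (unitToPush g)) := by
    apply Groth.Agent.Helper1.AZ.isZero_of_forall_kills I _ h𝒦
    intro Z φ hφ
    have h := hq1.fac_desc φ hφ
    exact h.symm.trans ((congrArg (fun t => t ≫ hq1.desc φ hφ) hπ).trans zero_comp)
  exact Preadditive.mono_of_kernel_zero (hz.eq_of_src _ _)

include hsqX hsqP hcomm in
/-- **a finite morphism from a flat `A`-scheme to a proper `A`-scheme which is an isomorphism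
modulo `I` is an isomorphism** (`A` Noetherian and `I`-adically complete) -/
theorem isIso_of_fibre [Flat (X ↘ Spec (CommRingCat.of A))] : IsIso g := by
  haveI := epi_unitToPush_of_fibre I g hsqX hsqP e hcomm
  haveI := mono_unitToPush_of_fibre I g hsqX hsqP e hcomm
  haveI : IsIso (unitToPush g) := isIso_of_mono_of_epi _
  have h : IsIso (ClSub.unitToPush g) := by
    rw [Groth.Agent.Helper1.AZ.clSub_unitToPush_eq]; infer_instance
  exact Groth.Agent.Helper4.SN.isIso_of_isIso_unitToPush g h

end Groth.Agent.Helper1.GX
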