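import Groth.Agent.Helper1.SS16
import Groth.Agent.Helper1.SW7
import Groth.Agent.Helper1.SCV20
import Groth.Agent.Helper1.NoethApx5
import Groth.Agent.Lead.InvDualA

set_option autoImplicit false
set_option linter.style.haveILetI false
set_option linter.unusedSectionVars false
set_option linter.unusedVariables false

/-!
# The seesaw locus of an invertible module is closed when the geometric fibres are integral
-/

namespace Groth.Agent.Helper1.SS

open CategoryTheory AlgebraicGeometry AlgebraicGeometry.Scheme.Modules TopologicalSpace Topology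
open Groth.Agent.Helper1.UGC Groth.Agent.Helper4 Groth.Agent.Helper4.FinLocFree

universe u

variable {X S : Scheme.{u}} (f : X ⟶ S) [IsProper f] [LocallyOfFinitePresentation f]

/-- vanishing of the dimension of the cohomology of the fibre gives vanishing of that cohomology -/
theorem subsingleton_fiberH_of_betti (F : X.Modules) (hF : CohB1.IsFP F)
    (hfl : FlatMod.IsFlatOver f F) (i : ℕ) (s : S) (h : PerfAux.betti f F s i = 0) :
    Subsingleton (CohIII.fiberH f F s i) := by
  obtain ⟨W, hW, hsW, -⟩ := exists_isAffineOpen_mem_and_subset (x := s)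
    (U := (⊤ : S.Opens)) trivial
  haveI : IsAffine (W : Scheme.{u}) := hW
  obtain ⟨K, M⟩ := Groth.Agent.Helper1.SCV.exists_master f W F hF hfl
  exact M.subsingleton_fiberH_of_betti i s hsW h

/-- the locus where the cohomology of the fibres does not vanish is closed -/
theorem isClosed_nontrivial_fiberH (F : X.Modules) (hF : CohB1.IsFP F)
    (hfl : FlatMod.IsFlatOver f F) (i : ℕ) :
    IsClosed {s : S | Nontrivial (CohIII.fiberH f F s i)} := by
  have : {s : S | Nontrivial (CohIII.fiberH f F s i)}ᶜ = {s | PerfAux.betti f F s i < 1} := by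
    ext s
    simp only [Set.mem_compl_iff, Set.mem_ofPred_eq, Nat.lt_one_iff]
    constructor
    · intro hn
      haveI : Subsingleton (CohIII.fiberH f F s i) := not_nontrivial_iff_subsingleton.mp hn
      exact Module.finrank_zero_of_subsingleton
    · intro h0 hn
      haveI := subsingleton_fiberH_of_betti f F hF hfl i s h0
      exact false_of_nontrivial_of_subsingleton (CohIII.fiberH f F s i)
  rw [← isOpen_compl_iff, this]
  exact Groth.Agent.Helper1.NoethApx.isOpen_betti_lt f F hF hfl i 1

/-- the pullback of a finite locally free module over the spectrum of a field is free -/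
theorem exists_pullback_iso_free_of_field {Y : Scheme.{u}} (K : Type u) [Field K]
    (p : Y ⟶ Spec (CommRingCat.of K)) (N : (Spec (CommRingCat.of K)).Modules)
    (hN : FlatMod.IsFinLocFree N) :
    ∃ n : ℕ, Nonempty ((pullback p).obj N ≅ FlatMod.freeMod Y n) := by
  let pt : Spec (CommRingCat.of K) := IsLocalRing.closedPoint K
  obtain ⟨U, n, hxU, ⟨eU⟩⟩ := hN pt
  have hU : U = ⊤ := by
    rw [eq_top_iff]
    intro x _
    have : x = pt := Subsingleton.elim (α := PrimeSpectrum K) _ _
    rw [this]
    exact hxU
  have hU' : p ⁻¹ᵁ U = ⊤ := by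
    rw [hU]; rfl
  exact ⟨n, nonempty_iso_freeMod_of_top _ _ hU' n (pullbackRestrictFreeIso p N U n eU)⟩

/-- an invertible module which is free is trivial -/
theorem nonempty_iso_unit_of_iso_free {Y : Scheme.{u}} [Nonempty Y] (L : Y.Modules)
    (hL : PicF.IsInvertible L) (n : ℕ) (e : L ≅ FlatMod.freeMod Y n) :
    Nonempty (L ≅ Coh.structureModule Y) := by
  obtain ⟨y⟩ := (inferInstance : Nonempty Y)
  haveI : L.IsQuasicoherent :=
    FinLocFree4.isQuasicoherent_of_isFinLocFree L
      (Groth.Agent.Lead.Ref1K.isFinLocFree_of_isInvertible L hL)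
  have h1 : y ∈ rankOpen L 1 := mem_rankOpen_of_isFinLocFreeOfRank
    (Groth.Agent.Helper4.QAffSec.isFinLocFreeOfRank_one_of_isInvertible L hL) y
  have h2 : y ∈ rankOpen L n := mem_rankOpen_of_iso e.symm n y
    (mem_rankOpen_of_isFinLocFreeOfRank (Groth.Agent.Helper4.SN.isFinLocFreeOfRank_freeMod n) y)
  have hn : n = 1 := rank_eq_of_mem_rankOpen L h2 h1
  subst hn
  exact ⟨e ≪≫ Groth.Agent.Helper4.QAffSec.freeOneIso Y⟩

end Groth.Agent.Helper1.SS
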