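import Mathlib
import Groth.Agent.Helper1.SZ9
import Groth.Agent.Helper1.SW5
import Groth.Agent.Helper1.TwistMul6
import Groth.Agent.Lead.PPIsoA
import Groth.Agent.Lead.StalkPull
import Groth.Agent.Helper4.PullUnit

/-!
# GX6: cohomology along isomorphisms of schemes; vanishing on a scheme isomorphic to `P^r`
-/

set_option autoImplicit false
set_option linter.style.haveILetI false
set_option linter.unusedSectionVars false

universe u

open CategoryTheory CategoryTheory.Limits AlgebraicGeometry Opposite

namespace Groth.Agent.Helper1.GX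

/-- vanishing of cohomology passes to the pullback along an isomorphism of schemes -/
theorem subsingleton_HH_pullback_of_isIso {X Y : Scheme.{u}} (h : X ⟶ Y) [IsIso h]
    (N : Y.Modules) [N.IsQuasicoherent] (i : ℕ) (hN : Subsingleton (Coh.HH Y N i)) :
    Subsingleton (Coh.HH X ((Scheme.Modules.pullback h).obj N) i) := by
  haveI : ((Scheme.Modules.pullback h).obj N).IsQuasicoherent :=
    Groth.Agent.Lead.StalkPull.isQuasicoherent_pullbackObj _ _
  obtain ⟨e⟩ := Groth.Agent.S0462.result h.base (Coh.toAb ((Scheme.Modules.pullback h).obj N))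
    (fun q => Groth.Agent.Helper1.Serre.isZero_RpushAb_of_isAffineHom h _ q) i
  have e' : Coh.HH X ((Scheme.Modules.pullback h).obj N) i ≃+
      Coh.HH Y ((Scheme.Modules.pushforward h).obj ((Scheme.Modules.pullback h).obj N)) i := e
  haveI := Groth.Agent.Lead.PPIsoA.isIso_unit h N
  have h2 : Subsingleton (Coh.HH Y
      ((Scheme.Modules.pushforward h).obj ((Scheme.Modules.pullback h).obj N)) i) :=
    Groth.Agent.Helper1.SW.subsingleton_HH_of_iso
      (asIso ((Scheme.Modules.pullbackPushforwardAdjunction h).unit.app N)).symm i hN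
  exact e'.toEquiv.subsingleton

/-- the higher cohomology of the structure sheaf of a scheme isomorphic to `P^r_k` vanishes -/
theorem subsingleton_HH_unit_of_iso_projSpace {X₀ : Scheme.{u}} (r : ℕ) (k : Type u)
    [CommRing k] (e : X₀ ≅ CohB1.ProjSpace r k) (i : ℕ) (hi : 1 ≤ i) :
    Subsingleton (Coh.HH X₀ (Coh.structureModule X₀) i) := by
  have h0 := Groth.Agent.Helper1.SerreVan.subsingleton_HH_twist (n := r) (R := k) 0 i hi
    (by have : (0 : ℤ) ≤ (r : ℤ) := Int.natCast_nonneg r; linarith)
  obtain ⟨ε⟩ := Groth.Agent.Helper1.TwistMul.nonempty_twist_zero_iso (CohB1.polyGrading r k)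
  have h1 : Subsingleton (Coh.HH (CohB1.ProjSpace r k) (Coh.structureModule _) i) :=
    Groth.Agent.Helper1.SW.subsingleton_HH_of_iso ε.symm i h0
  haveI : (Coh.structureModule (CohB1.ProjSpace r k)).IsQuasicoherent :=
    (Groth.Agent.Helper1.Dev.isCoh_structureModule _).1
  have h2 := subsingleton_HH_pullback_of_isIso e.hom (Coh.structureModule _) i h1
  exact Groth.Agent.Helper1.SW.subsingleton_HH_of_iso
    (Groth.Agent.Helper4.PullUnit.pullbackUnitIso e.hom).symm i h2

/-- `H^i(X₀, e^* O(d)) = 0` for `i ≥ 1`, `d > -(r+1)` on a scheme isomorphic to `P^r_k` -/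
theorem subsingleton_HH_pullback_twist {X₀ : Scheme.{u}} (r : ℕ) (k : Type u)
    [CommRing k] (e : X₀ ≅ CohB1.ProjSpace r k) (d : ℤ) (i : ℕ) (hi : 1 ≤ i)
    (hd : -((r : ℤ) + 1) < d) :
    Subsingleton (Coh.HH X₀ ((Scheme.Modules.pullback e.hom).obj
      (Twist.twistProjSpace r k d)) i) := by
  have h0 := Groth.Agent.Helper1.SerreVan.subsingleton_HH_twist (n := r) (R := k) d i hi hd
  haveI : (Twist.twistProjSpace r k d).IsQuasicoherent :=
    (Groth.Agent.Lead.Ref1K.isCoh_of_isInvertible _
      (Groth.Agent.Helper1.SerreVan.isInvertible_twist (n := r) (R := k) d)).1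
  exact subsingleton_HH_pullback_of_isIso e.hom _ i h0

end Groth.Agent.Helper1.GX
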