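import Mathlib
import Groth.Agent.Helper1.GX5
import Groth.Agent.Helper1.GX6
import Groth.Agent.Helper1.AZ8
import Groth.Agent.Helper1.PicLoc4
import Groth.Agent.Helper1.ProjBC8
import Groth.Agent.Helper4.SN213

/-!
# GX7: a proper flat scheme over a complete local ring whose closed fibre is `P^r_k` maps to
`P^r_A`, inducing the given isomorphism on the closed fibre
-/

set_option autoImplicit false
set_option linter.style.haveILetI false
set_option linter.unusedSectionVars false

universe u

open CategoryTheory CategoryTheory.Limits AlgebraicGeometry Opposite TopologicalSpace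

namespace Groth.Agent.Helper1.GX

open Groth.Agent.Helper1.PUP Groth.Agent.Helper4.PullSec Groth.Agent.Helper4.PullUnit
  Groth.Agent.Helper4.AmpleIso Groth.Agent.Helper1.ProjBC Groth.Agent.Helper1.Segre

section Top

variable (A : Type u) [CommRing A] [IsLocalRing A]

/-- an open subset containing the closed fibre of a closed map to the spectrum of a local ring is
everything -/
theorem opens_eq_top_of_closedFibre {Y : Scheme.{u}} (h : Y ⟶ Spec (CommRingCat.of A))
    (hcl : IsClosedMap h) (U : Y.Opens)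
    (hU : ∀ y : Y, h y ∈ PrimeSpectrum.zeroLocus (IsLocalRing.maximalIdeal A : Set A) → y ∈ U) :
    U = ⊤ := by
  by_contra hne
  have hD : IsClosed ((U : Set Y)ᶜ) := U.isOpen.isClosed_compl
  have hne' : ((U : Set Y)ᶜ).Nonempty := by
    rw [Set.nonempty_compl]
    intro h'
    apply hne
    ext x
    simp [h']
  obtain ⟨x, hxD, hx⟩ := Groth.Agent.Helper1.HensCouple.exists_mem_of_isClosed A
    (IsLocalRing.maximalIdeal A) (IsLocalRing.maximalIdeal_le_jacobson ⊥) h hcl _ hD hne'
  exact hxD (hU x hx)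

end Top

section Main

variable (A : Type u) [CommRing A] [IsLocalRing A] [IsNoetherianRing A]
  [IsAdicComplete (IsLocalRing.maximalIdeal A) A] (r : ℕ)
  {X : Scheme.{u}} (f : X ⟶ Spec (CommRingCat.of A)) [IsProper f] [Flat f]
  (e₀ : pullback f (Spec.map (CommRingCat.ofHom (IsLocalRing.residue A))) ≅
    Proj (CohB1.polyGrading r (IsLocalRing.ResidueField A)))

/-- the pulled back coordinates on the projective space over the residue field -/
theorem pullSec_TX_twistBC {R R' : Type u} [CommRing R] [CommRing R'] (φ : R →+* R') (N : ℕ)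
    (j : Fin (N + 1)) :
    pullSec (γγ φ N) (TX (R := R) N j) ≫ (twistBC φ N 1).hom = TX (R := R') N j := by
  have h := pullSec_tsec_θadj (polyMap φ N) (hirr φ N) 1 (MvPolynomial.X j) (hX j)
  have h2 : tsec (CohB1.polyGrading N R') 1 ((polyMap φ N) (MvPolynomial.X j))
      ((polyMap φ N).map_mem (hX j)) = TX (R := R') N j := by
    unfold TX TT tsec gtw
    congr 2
    exact Subtype.ext (polyMap_X φ N j)
  rw [← h2]
  exact h

include e₀ in
theorem exists_map_to_projSpace :
    ∃ g : X ⟶ Proj (CohB1.polyGrading r A), g ≫ CohB1.ProjSpace.toSpec r A = f ∧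
      ((e₀.hom ≫ CohB1.ProjSpace.toSpec r (IsLocalRing.ResidueField A) = pullback.snd f _) →
      pullback.fst f (Spec.map (CommRingCat.ofHom (IsLocalRing.residue A))) ≫ g =
        e₀.hom ≫ γγ (IsLocalRing.residue A) r) := by
  have h2 := subsingleton_HH_unit_of_iso_projSpace r (IsLocalRing.ResidueField A) e₀ 2
    (by norm_num)
  have hO1 : PicF.IsInvertible (Twist.twist (CohB1.polyGrading r (IsLocalRing.ResidueField A))
      ((1 : ℕ) : ℤ)) :=
    Groth.Agent.Helper1.TwistMul.isInvertible_twist _ (hcovP r) _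
  have hO1A : PicF.IsInvertible (Twist.twist (CohB1.polyGrading r A) ((1 : ℕ) : ℤ)) :=
    Groth.Agent.Helper1.TwistMul.isInvertible_twist _ (hcovP r) _
  obtain ⟨L, hL, ⟨ε₀⟩⟩ := picPullbackSurjective A f h2
    ((Scheme.Modules.pullback e₀.hom).obj
      (Twist.twist (CohB1.polyGrading r (IsLocalRing.ResidueField A)) ((1 : ℕ) : ℤ)))
    (isInvertible_pullback e₀.hom hO1)
  have hvan : Subsingleton (Coh.HH _ ((Scheme.Modules.pullback
      (pullback.fst f (Spec.map (CommRingCat.ofHom (IsLocalRing.residue A))))).obj L) 1) :=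
    Groth.Agent.Helper1.SW.subsingleton_HH_of_iso ε₀ 1
      (subsingleton_HH_pullback_twist r (IsLocalRing.ResidueField A) e₀ ((1 : ℕ) : ℤ) 1 le_rfl
        (by have : (0 : ℤ) ≤ (r : ℤ) := Int.natCast_nonneg r
            push_cast; linarith))
  letI : X.Over (Spec (CommRingCat.of A)) := ⟨f⟩
  haveI : IsProper (X ↘ Spec (CommRingCat.of A)) := ‹IsProper f›
  have hsq : IsPullback (pullback.fst f (Spec.map (CommRingCat.ofHom (IsLocalRing.residue A))))
      (pullback.snd f (Spec.map (CommRingCat.ofHom (IsLocalRing.residue A))))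
      (X ↘ Spec (CommRingCat.of A))
      (Spec.map (CommRingCat.ofHom (Ideal.Quotient.mk (IsLocalRing.maximalIdeal A)))) :=
    IsPullback.of_hasPullback f (Spec.map (CommRingCat.ofHom (IsLocalRing.residue A)))
  have hcoh := Groth.Agent.Lead.Ref1K.isCoh_of_isInvertible L hL
  have hfl := Groth.Agent.Helper1.PicLoc.isFlatOver_of_isInvertible f L hL
  have hs := Groth.Agent.Helper1.PicLoc.surjective_unitN_app_top' A X hsq L hcoh hfl hvan
  choose σ hσ using fun j : Fin (r + 1) =>
    Groth.Agent.Helper1.PicLoc.exists_pullSec_eq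
      (pullback.fst f (Spec.map (CommRingCat.ofHom (IsLocalRing.residue A)))) L hs
      (pullSec e₀.hom (TX (R := IsLocalRing.ResidueField A) r j) ≫ ε₀.inv)
  have hcov : ⨆ e, XE σ e = ⊤ := by
    apply opens_eq_top_of_closedFibre A f f.isClosedMap
    intro x hx
    have hx2 : x ∈ Set.range
        (pullback.fst f (Spec.map (CommRingCat.ofHom (IsLocalRing.residue A)))) := by
      rw [Groth.Agent.Helper1.PicLoc.range_of_isPullback hsq]
      have hr := Groth.Agent.Helper1.HensCouple.range_specMap_mk A (IsLocalRing.maximalIdeal A)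
      exact (Set.ext_iff.mp hr (f x)).mpr hx
    obtain ⟨x₀, rfl⟩ := hx2
    have hx3 : e₀.hom x₀ ∈ (⨆ j : Fin (r + 1),
        Proj.basicOpen (CohB1.polyGrading r (IsLocalRing.ResidueField A))
          (MvPolynomial.X j : MvPolynomial (Fin (r + 1)) (IsLocalRing.ResidueField A))) := by
      rw [iSup_basicOpen_X]; trivial
    obtain ⟨j, hj⟩ := Opens.mem_iSup.mp hx3
    refine Opens.mem_iSup.mpr ⟨j, ?_⟩
    have h1 : CohB1.genLocus _ (pullSec
        (pullback.fst f (Spec.map (CommRingCat.ofHom (IsLocalRing.residue A)))) (σ j)) =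
        (pullback.fst f (Spec.map (CommRingCat.ofHom (IsLocalRing.residue A)))) ⁻¹ᵁ
          CohB1.genLocus L (σ j) := genLocus_pullSec _ hL (σ j)
    have h5 : CohB1.genLocus _ (pullSec e₀.hom (TX (R := IsLocalRing.ResidueField A) r j) ≫
        ε₀.inv) = CohB1.genLocus _ (pullSec e₀.hom (TX (R := IsLocalRing.ResidueField A) r j)) :=
      genLocus_comp_iso ε₀.symm _
    rw [hσ j, h5, genLocus_pullSec e₀.hom hO1] at h1
    have h3 : CohB1.genLocus _ (TX (R := IsLocalRing.ResidueField A) r j) =
        Proj.basicOpen (CohB1.polyGrading r (IsLocalRing.ResidueField A))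
          (MvPolynomial.X j : MvPolynomial (Fin (r + 1)) (IsLocalRing.ResidueField A)) := by
      unfold TX
      exact genLocus_TT _ (hcovP r) _ _
    rw [h3] at h1
    have h4 : x₀ ∈ (pullback.fst f (Spec.map (CommRingCat.ofHom (IsLocalRing.residue A)))) ⁻¹ᵁ
        CohB1.genLocus L (σ j) := by
      rw [← h1]; exact hj
    exact h4
  obtain ⟨g, hg, τ, hτ⟩ := Groth.Agent.Helper1.AZ.exists_to_projSpace' (R := A) r f σ hcov
  refine ⟨g, hg, fun he₀ => ?_⟩
  have hrr' : (pullback.fst f (Spec.map (CommRingCat.ofHom (IsLocalRing.residue A))) ≫ g) ≫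
      CohB1.ProjSpace.toSpec r A =
      (e₀.hom ≫ γγ (IsLocalRing.residue A) r) ≫ CohB1.ProjSpace.toSpec r A := by
    rw [Category.assoc, hg, Category.assoc,
      (Groth.Agent.Helper4.SN213.isPullback_γγ (IsLocalRing.residue A) r).w,
      ← Category.assoc, he₀]
    exact pullback.condition
  let O1 := Twist.twist (CohB1.polyGrading r A) ((1 : ℕ) : ℤ)
  let θ : (Scheme.Modules.pullback
      (pullback.fst f (Spec.map (CommRingCat.ofHom (IsLocalRing.residue A))) ≫ g)).obj O1 ≅
      (Scheme.Modules.pullback (e₀.hom ≫ γγ (IsLocalRing.residue A) r)).obj O1 :=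
    ((Scheme.Modules.pullbackComp _ g).app O1).symm ≪≫
      (Scheme.Modules.pullback _).mapIso τ ≪≫ ε₀ ≪≫
      (Scheme.Modules.pullback e₀.hom).mapIso (twistBC (IsLocalRing.residue A) r 1).symm ≪≫
      (Scheme.Modules.pullbackComp e₀.hom (γγ (IsLocalRing.residue A) r)).app O1
  refine eq_of_hτ r _ _ hrr' θ ?_
  intro j
  have h1 : σr r (pullback.fst f (Spec.map (CommRingCat.ofHom (IsLocalRing.residue A))) ≫ g) j ≫
      (Scheme.Modules.pullbackComp _ g).inv.app O1 =
      pullSec _ (σr r g j) :=
    Groth.Agent.Helper4.SN338.pullSec_comp _ g (TX r j)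
  have h2 : pullSec (pullback.fst f (Spec.map (CommRingCat.ofHom (IsLocalRing.residue A))))
      (σr r g j) ≫ (Scheme.Modules.pullback _).map τ.hom =
      pullSec _ (σ j) := by
    rw [← Groth.Agent.Helper4.SN338.pullSec_map, hτ]
  have h3 : pullSec e₀.hom (TX (R := IsLocalRing.ResidueField A) r j) ≫
      (Scheme.Modules.pullback e₀.hom).map (twistBC (IsLocalRing.residue A) r 1).inv =
      pullSec e₀.hom (pullSec (γγ (IsLocalRing.residue A) r) (TX (R := A) r j)) := by
    rw [← Groth.Agent.Helper4.SN338.pullSec_map, ← pullSec_TX_twistBC (IsLocalRing.residue A) r j,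
      Category.assoc, Iso.hom_inv_id, Category.comp_id]
  have h4 : pullSec e₀.hom (pullSec (γγ (IsLocalRing.residue A) r) (TX (R := A) r j)) ≫
      (Scheme.Modules.pullbackComp e₀.hom (γγ (IsLocalRing.residue A) r)).hom.app O1 =
      σr r (e₀.hom ≫ γγ (IsLocalRing.residue A) r) j := by
    rw [← Groth.Agent.Helper4.SN338.pullSec_comp e₀.hom (γγ (IsLocalRing.residue A) r) (TX r j),
      Category.assoc]
    have : (Scheme.Modules.pullbackComp e₀.hom (γγ (IsLocalRing.residue A) r)).inv.app O1 ≫
        (Scheme.Modules.pullbackComp e₀.hom (γγ (IsLocalRing.residue A) r)).hom.app O1 = 𝟙 _ := by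
      rw [← NatTrans.comp_app, Iso.inv_hom_id]; rfl
    rw [this, Category.comp_id]
    rfl
  show σr r _ j ≫ ((Scheme.Modules.pullbackComp _ g).inv.app O1 ≫
      (Scheme.Modules.pullback _).map τ.hom ≫ ε₀.hom ≫
      (Scheme.Modules.pullback e₀.hom).map (twistBC (IsLocalRing.residue A) r 1).inv ≫
      (Scheme.Modules.pullbackComp e₀.hom (γγ (IsLocalRing.residue A) r)).hom.app O1) = _
  rw [← Category.assoc, h1, ← Category.assoc, h2, hσ j, Category.assoc, Iso.inv_hom_id_assoc,
    ← Category.assoc, h3, h4]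

end Main

end Groth.Agent.Helper1.GX
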