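import Mathlib
import Groth.Agent.Helper1.GX7
import Groth.Agent.Helper6.HProj

/-!
# GX8: the morphism `X ⟶ P^r_A` of GX7 is finite, and the square over the closed fibre is cartesian
-/

set_option autoImplicit false
set_option linter.style.haveILetI false
set_option linter.unusedSectionVars false

universe u

open CategoryTheory CategoryTheory.Limits AlgebraicGeometry Opposite TopologicalSpace

namespace Groth.Agent.Helper1.GX

open Groth.Agent.Helper1.ProjBC

section Fin

variable (A : Type u) [CommRing A] [IsLocalRing A]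

/-- a proper morphism to a scheme closed over the spectrum of a local ring, with finite fibres over
the points of the closed fibre, is finite -/
theorem isFinite_of_finite_closedFibre {X P : Scheme.{u}} (π : P ⟶ Spec (CommRingCat.of A))
    (hcl : IsClosedMap π) (g : X ⟶ P) [IsProper g]
    (h : ∀ y : P, π y ∈ PrimeSpectrum.zeroLocus (IsLocalRing.maximalIdeal A : Set A) →
      (g ⁻¹' {y}).Finite) : IsFinite g := by
  have key : ∀ y : {y : P // π y ∈ PrimeSpectrum.zeroLocus (IsLocalRing.maximalIdeal A : Set A)},
      ∃ V : P.Opens, y.1 ∈ V ∧ IsFinite (g ∣_ V) := fun y =>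
    exists_isFinite_morphismRestrict_of_finite_preimage_singleton g y.1 (h y.1 y.2)
  choose V hyV hV using key
  have hcov : iSup V = ⊤ := by
    apply opens_eq_top_of_closedFibre A π hcl
    intro y hy
    exact Opens.mem_iSup.mpr ⟨⟨y, hy⟩, hyV ⟨y, hy⟩⟩
  exact IsZariskiLocalAtTarget.of_iSup_eq_top (P := @IsFinite) V hcov hV

end Fin

section Main

variable (A : Type u) [CommRing A] [IsLocalRing A] (r : ℕ)
  {X : Scheme.{u}} (f : X ⟶ Spec (CommRingCat.of A))
  (e₀ : pullback f (Spec.map (CommRingCat.ofHom (IsLocalRing.residue A))) ≅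
    Proj (CohB1.polyGrading r (IsLocalRing.ResidueField A)))
  (he₀ : e₀.hom ≫ CohB1.ProjSpace.toSpec r (IsLocalRing.ResidueField A) = pullback.snd f _)
  (g : X ⟶ Proj (CohB1.polyGrading r A)) (hg : g ≫ CohB1.ProjSpace.toSpec r A = f)
  (hcomm : pullback.fst f (Spec.map (CommRingCat.ofHom (IsLocalRing.residue A))) ≫ g =
    e₀.hom ≫ γγ (IsLocalRing.residue A) r)

include he₀ hg hcomm in
theorem isPullback_closedFibre :
    IsPullback (pullback.fst f (Spec.map (CommRingCat.ofHom (IsLocalRing.residue A)))) e₀.hom g
      (γγ (IsLocalRing.residue A) r) := by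
  refine IsPullback.of_bot ?_ hcomm
    (Groth.Agent.Helper4.SN213.isPullback_γγ (IsLocalRing.residue A) r)
  rw [he₀, hg]
  exact IsPullback.of_hasPullback f _

instance isClosedImmersion_γγ_residue : IsClosedImmersion (γγ (IsLocalRing.residue A) r) := by
  haveI : IsClosedImmersion (Spec.map (CommRingCat.ofHom (IsLocalRing.residue A))) :=
    IsClosedImmersion.spec_of_surjective _ (IsLocalRing.residue_surjective)
  exact MorphismProperty.of_isPullback (P := @IsClosedImmersion)
    (Groth.Agent.Helper4.SN213.isPullback_γγ (IsLocalRing.residue A) r).flip inferInstance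

include he₀ hg hcomm in
theorem isFinite_map_to_projSpace [IsProper f] : IsFinite g := by
  haveI : IsProper (CohB1.ProjSpace.toSpec r A) := Groth.Agent.Helper6.HProj.isProper_toSpec r A
  haveI : IsProper (g ≫ CohB1.ProjSpace.toSpec r A) := by rw [hg]; infer_instance
  haveI : IsProper g := IsProper.of_comp g (CohB1.ProjSpace.toSpec r A)
  apply isFinite_of_finite_closedFibre A (P := Proj (CohB1.polyGrading r A))
    (CohB1.ProjSpace.toSpec r A) (CohB1.ProjSpace.toSpec r A).isClosedMap g
  intro y hy
  have hr := Groth.Agent.Helper1.HensCouple.range_specMap_mk A (IsLocalRing.maximalIdeal A)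
  have hy2 : y ∈ Set.range (γγ (IsLocalRing.residue A) r) := by
    rw [Groth.Agent.Helper1.PicLoc.range_of_isPullback
      (Groth.Agent.Helper4.SN213.isPullback_γγ (IsLocalRing.residue A) r)]
    exact (Set.ext_iff.mp hr _).mpr hy
  obtain ⟨y₀, rfl⟩ := hy2
  refine Set.Finite.subset (Set.finite_singleton
    (pullback.fst f (Spec.map (CommRingCat.ofHom (IsLocalRing.residue A))) (e₀.inv y₀))) ?_
  intro x hx
  have hx1 : g x = γγ (IsLocalRing.residue A) r y₀ := hx
  have hx2 : x ∈ Set.range
      (pullback.fst f (Spec.map (CommRingCat.ofHom (IsLocalRing.residue A)))) := by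
    rw [Groth.Agent.Helper1.PicLoc.range_of_isPullback
      (IsPullback.of_hasPullback f (Spec.map (CommRingCat.ofHom (IsLocalRing.residue A))))]
    refine (Set.ext_iff.mp hr _).mpr ?_
    have : f x = CohB1.ProjSpace.toSpec r A (g x) := by
      rw [← hg]; rfl
    rw [this, hx1]
    exact hy
  obtain ⟨x₀, rfl⟩ := hx2
  have h3 : γγ (IsLocalRing.residue A) r (e₀.hom x₀) = γγ (IsLocalRing.residue A) r y₀ := by
    rw [← hx1]
    have := congrArg (fun t => t.base x₀) hcomm
    exact this.symm
  have h4 : e₀.hom x₀ = y₀ :=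
    (γγ (IsLocalRing.residue A) r).isClosedEmbedding.injective h3
  have h5 : x₀ = e₀.inv y₀ := by
    rw [← h4]
    have := congrArg (fun t => t.base x₀) e₀.hom_inv_id
    exact this.symm
  rw [h5]
  exact Set.mem_singleton _

end Main

end Groth.Agent.Helper1.GX
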