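import Mathlib
import Groth.Agent.Helper1.FormE
import Groth.Agent.Helper1.Dev13
import Groth.Agent.Helper4.ExtZeroStalk
import Groth.Agent.Lead.PerfLib5

/-!
# GY1: extension by zero along an open immersion: linearity, quotients modulo an ideal, coherence
-/

set_option autoImplicit false
set_option linter.style.haveILetI false
set_option linter.unusedSectionVars false

universe u

open CategoryTheory CategoryTheory.Limits AlgebraicGeometry Opposite TopologicalSpace

namespace Groth.Agent.Helper1.GY

open Groth.Agent.Helper1.Form

section Linear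

variable {A : Type u} [CommRing A] {U X : Scheme.{u}} [U.Over (Spec (CommRingCat.of A))]
  [X.Over (Spec (CommRingCat.of A))] (j : U ⟶ X) [IsOpenImmersion j]
  [j.IsOver (Spec (CommRingCat.of A))]

instance additive_restrictFunctor : (Scheme.Modules.restrictFunctor j).Additive :=
  Functor.additive_of_preserves_binary_products _

instance linear_restrictFunctor : (Scheme.Modules.restrictFunctor j).Linear A :=
  linear_of_adjunction (Scheme.Modules.restrictAdjunction j)

instance linear_extZero : (CxOX.extZero j).Linear A :=
  linear_of_adjunction (CxOX.extZeroAdj j)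

variable {j}

lemma Kills.map_extZero {J : Ideal A} {M N : U.Modules} {p : M ⟶ N} (h : Kills J p) :
    Kills J ((CxOX.extZero j).map p) := fun a ha => by
  rw [← Functor.map_smul, h a ha, Functor.map_zero]

lemma killedBy_extZero {J : Ideal A} {M : U.Modules} (h : Formal.KilledBy J M) :
    Formal.KilledBy J ((CxOX.extZero j).obj M) := by
  rw [killedBy_iff] at h ⊢
  have := Kills.map_extZero (j := j) h
  rwa [CategoryTheory.Functor.map_id] at this

lemma IsQuot.map_extZero {J : Ideal A} {M N : U.Modules} {p : M ⟶ N} (hp : IsQuot J p) :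
    IsQuot J ((CxOX.extZero j).map p) := by
  haveI := hp.epi
  refine ⟨inferInstance, Kills.map_extZero hp.kills, ?_⟩
  intro Z g hg
  let adj := CxOX.extZeroAdj j
  have h1 : Kills J (adj.homEquiv M Z g) := fun a ha => by
    rw [Adjunction.homEquiv_unit, ← Linear.comp_smul, ← Functor.map_smul, hg a ha,
      Functor.map_zero, comp_zero]
  refine ⟨(adj.homEquiv N Z).symm (hp.desc _ h1), ?_⟩
  rw [← Adjunction.homEquiv_naturality_left_symm, hp.fac_desc, Equiv.symm_apply_apply]

lemma Kills.map_restrict {J : Ideal A} {M N : X.Modules} {p : M ⟶ N} (h : Kills J p) :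
    Kills J ((Scheme.Modules.restrictFunctor j).map p) := fun a ha => by
  rw [← Functor.map_smul, h a ha, Functor.map_zero]

lemma IsQuot.map_restrict {J : Ideal A} {M N : X.Modules} {p : M ⟶ N} (hp : IsQuot J p) :
    IsQuot J ((Scheme.Modules.restrictFunctor j).map p) := by
  haveI := hp.epi
  refine ⟨inferInstance, Kills.map_restrict hp.kills, ?_⟩
  intro Z g hg
  let adj := Scheme.Modules.restrictAdjunction j
  have h1 : Kills J (adj.homEquiv M Z g) := fun a ha => by
    rw [Adjunction.homEquiv_unit, ← Linear.comp_smul, ← Functor.map_smul, hg a ha,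
      Functor.map_zero, comp_zero]
  refine ⟨(adj.homEquiv N Z).symm (hp.desc _ h1), ?_⟩
  rw [← Adjunction.homEquiv_naturality_left_symm, hp.fac_desc, Equiv.symm_apply_apply]

end Linear

section Coh

variable {U X : Scheme.{u}} (j : U ⟶ X) [IsOpenImmersion j]

/-- the extension by zero of a coherent module whose support is closed in the ambient scheme is
coherent -/
theorem isCoh_extZero (N : U.Modules) (hN : Coh.IsCoh N)
    (hcl : IsClosed ((fun x => j x) '' CohB1.support N)) :
    Coh.IsCoh ((CxOX.extZero j).obj N) := by
  apply Groth.Agent.Lead.PerfLib.isCoh_of_locally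
  intro x
  by_cases hx : x ∈ Set.range j
  · refine ⟨U, j, inferInstance, hx, ?_⟩
    exact Groth.Agent.Lead.PerfLib.isCoh_of_iso
      ((Groth.Agent.Helper4.ExtZeroStalk.unitIso j).app N) hN
  · let V : X.Opens := ⟨((fun x => j x) '' CohB1.support N)ᶜ, hcl.isOpen_compl⟩
    have hxV : x ∈ V := by
      rintro ⟨y, -, rfl⟩
      exact hx ⟨y, rfl⟩
    refine ⟨V, V.ι, inferInstance, ?_, ?_⟩
    · rw [Scheme.Opens.range_ι]
      exact hxV
    · apply Groth.Agent.Helper1.Dev.isCoh_of_isZero
      apply Groth.Agent.Helper4.SuppLib.isZero_of_support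
      rw [Groth.Agent.Helper4.SuppLib.support_restrict]
      ext z
      simp only [Set.mem_preimage, Set.mem_empty_iff_false, iff_false]
      intro hz
      have h1 := Groth.Agent.Helper4.ExtZeroStalk.support_extZero_subset j N hz
      exact z.2 h1

end Coh

end Groth.Agent.Helper1.GY
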