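import Mathlib

set_option autoImplicit false

open Topology TopologicalSpace Set

namespace Groth.Agent.Helper1.HensCoupleTop

universe u v

variable {T : Type u} {T' : Type v} [TopologicalSpace T] [TopologicalSpace T']

/-- a relatively clopen subset of a saturated closed set is saturated, when fibres are connected -/
theorem saturated_of_preconnected_fibres (π : T → T')
    (hfib : ∀ z : T', IsPreconnected (π ⁻¹' {z})) (C' : Set T') (W : Set T)
    (hW : IsClosed W) (hW' : IsClosed ((π ⁻¹' C') \ W)) (hWC : W ⊆ π ⁻¹' C') :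
    π ⁻¹' (π '' W) = W := by
  apply Subset.antisymm
  · rintro x ⟨x₀, hx₀, hxx₀⟩
    by_contra hxW
    have hF := hfib (π x)
    rw [isPreconnected_closed_iff] at hF
    have hsub : π ⁻¹' {π x} ⊆ W ∪ ((π ⁻¹' C') \ W) := by
      intro y hy
      by_cases hyW : y ∈ W
      · exact Or.inl hyW
      · refine Or.inr ⟨?_, hyW⟩
        have hy' : π y = π x := hy
        show π y ∈ C'
        rw [hy', ← hxx₀]
        exact hWC hx₀
    obtain ⟨y, -, hy1, hy2⟩ := hF W _ hW hW' hsub ⟨x₀, hxx₀, hx₀⟩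
      ⟨x, rfl, ⟨by
        show π x ∈ C'
        rw [← hxx₀]; exact hWC hx₀, hxW⟩⟩
    exact hy2.2 hy1
  · exact subset_preimage_image π W

theorem image_relClopen (π : T → T') (hcl : IsClosedMap π) (hsurj : Function.Surjective π)
    (hfib : ∀ z : T', IsPreconnected (π ⁻¹' {z})) (C' : Set T') (W : Set T)
    (hW : IsClosed W) (hW' : IsClosed ((π ⁻¹' C') \ W)) (hWC : W ⊆ π ⁻¹' C') :
    IsClosed (π '' W) ∧ IsClosed (C' \ π '' W) ∧ π ⁻¹' (π '' W) = W ∧ π '' W ⊆ C' := by
  have hsat := saturated_of_preconnected_fibres π hfib C' W hW hW' hWC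
  refine ⟨hcl W hW, ?_, hsat, ?_⟩
  · have : C' \ π '' W = π '' ((π ⁻¹' C') \ W) := by
      ext z
      constructor
      · rintro ⟨hz, hzW⟩
        obtain ⟨x, rfl⟩ := hsurj z
        refine ⟨x, ⟨hz, fun hxW => hzW ⟨x, hxW, rfl⟩⟩, rfl⟩
      · rintro ⟨x, ⟨hx, hxW⟩, rfl⟩
        refine ⟨hx, fun hz => hxW ?_⟩
        rw [← hsat]
        exact hz
    rw [this]
    exact hcl _ hW'
  · rintro _ ⟨x, hx, rfl⟩
    exact hWC hx

end Groth.Agent.Helper1.HensCoupleTop
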