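import Groth.Agent.S2431
import Groth.Agent.S1340
import Groth.Agent.Lead.ProperFinB
import Groth.Agent.Helper3.HensRows
import Groth.Agent.Helper1.ClopenIdem1
import Groth.Agent.Helper1.QuotPush1
import Groth.Agent.Helper1.HensCoupleTop

set_option autoImplicit false
set_option linter.style.haveILetI false

/-!
# Henselian couples: schemes proper over a Noetherian henselian pair

For `h : Y ⟶ Spec A` proper, `A` Noetherian and `(A, I)` a henselian pair, every relatively clopen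
subset of `C = h⁻¹ V(I)` is the trace on `C` of a unique clopen subset of `Y`.
-/

namespace Groth.Agent.Helper1.HensCouple

open CategoryTheory Limits AlgebraicGeometry Opposite TopologicalSpace
open Groth.Agent.Helper1.QuotPush Groth.Agent.Helper1.ClopenIdem

universe u

section uniq

variable (A : Type u) [CommRing A] (I : Ideal A)

/-- if `I` is in the Jacobson radical and `h : Y ⟶ Spec A` is a closed map, every nonempty closed
subset of `Y` meets `h⁻¹ V(I)`. -/
theorem exists_mem_of_isClosed (hI : I ≤ Ideal.jacobson ⊥)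
    {Y : Scheme.{u}} (h : Y ⟶ Spec (CommRingCat.of A)) (hcl : IsClosedMap h)
    (D : Set Y) (hD : IsClosed D) (hne : D.Nonempty) :
    ∃ x ∈ D, h x ∈ PrimeSpectrum.zeroLocus (I : Set A) := by
  have hclosed : IsClosed (h '' D) := hcl _ hD
  obtain ⟨J, hJ⟩ := (PrimeSpectrum.isClosed_iff_zeroLocus_ideal _).1 hclosed
  have hne' : (h '' D).Nonempty := hne.image _
  have hJtop : J ≠ ⊤ := by
    intro h'
    rw [hJ, h'] at hne'
    simp at hne'
    exact Set.not_nonempty_empty hne'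
  obtain ⟨m, hm, hJm⟩ := Ideal.exists_le_maximal J hJtop
  have hmem : (⟨m, hm.isPrime⟩ : PrimeSpectrum A) ∈ h '' D := by
    rw [hJ]
    exact hJm
  obtain ⟨x', hx', hfx'⟩ := hmem
  have hIm : I ≤ m := hI.trans (sInf_le ⟨bot_le, hm⟩)
  refine ⟨x', hx', ?_⟩
  rw [hfx']
  exact hIm

theorem clopen_unique (hI : I ≤ Ideal.jacobson ⊥)
    {Y : Scheme.{u}} (h : Y ⟶ Spec (CommRingCat.of A)) (hcl : IsClosedMap h)
    (U₁ U₂ : Set Y) (h₁ : IsClopen U₁) (h₂ : IsClopen U₂)
    (h12 : U₁ ∩ (h ⁻¹' PrimeSpectrum.zeroLocus (I : Set A)) =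
      U₂ ∩ (h ⁻¹' PrimeSpectrum.zeroLocus (I : Set A))) : U₁ = U₂ := by
  have key : ∀ (V₁ V₂ : Set Y), IsClopen V₁ → IsClopen V₂ →
      V₁ ∩ (h ⁻¹' PrimeSpectrum.zeroLocus (I : Set A)) =
        V₂ ∩ (h ⁻¹' PrimeSpectrum.zeroLocus (I : Set A)) → V₁ ⊆ V₂ := by
    intro V₁ V₂ hV₁ hV₂ h12
    by_contra hsub
    have hne : (V₁ \ V₂).Nonempty := by
      rw [Set.not_subset] at hsub
      obtain ⟨x, hx1, hx2⟩ := hsub
      exact ⟨x, hx1, hx2⟩
    have hD : IsClosed (V₁ \ V₂) := hV₁.isClosed.sdiff hV₂.isOpen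
    obtain ⟨x, ⟨hx1, hx2⟩, hx⟩ := exists_mem_of_isClosed A I hI h hcl _ hD hne
    have : x ∈ V₂ ∩ (h ⁻¹' PrimeSpectrum.zeroLocus (I : Set A)) := by
      rw [← h12]; exact ⟨hx1, hx⟩
    exact hx2 this.1
  exact Set.Subset.antisymm (key U₁ U₂ h₁ h₂ h12) (key U₂ U₁ h₂ h₁ h12.symm)

end uniq

end Groth.Agent.Helper1.HensCouple
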