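import Mathlib
import Groth.Agent.Helper1.GX11
import Groth.Agent.Helper1.HensCouple1

/-!
# GY9: a finite morphism to a proper scheme over a complete Noetherian ring which is an
isomorphism modulo all powers of `I` is an isomorphism; finiteness from finiteness of the fibres
over `V(I)`
-/

set_option autoImplicit false
set_option linter.style.haveILetI false
set_option linter.unusedSectionVars false

universe u

open CategoryTheory CategoryTheory.Limits AlgebraicGeometry Opposite TopologicalSpace

namespace Groth.Agent.Helper1.GY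

open Groth.Agent.Helper1.Form Groth.Agent.Helper1.QuotPush Groth.Agent.Helper1.ZarIso

section Top

variable (A : Type u) [CommRing A] (I : Ideal A) (hI : I ≤ Ideal.jacobson ⊥)

include hI in
/-- an open subset containing the fibre over `V(I)` of a closed map to the spectrum of a ring in
which `I` lies in the Jacobson radical is everything -/
theorem opens_eq_top_of_fibre {Y : Scheme.{u}} (h : Y ⟶ Spec (CommRingCat.of A))
    (hcl : IsClosedMap h) (U : Y.Opens)
    (hU : ∀ y : Y, h y ∈ PrimeSpectrum.zeroLocus (I : Set A) → y ∈ U) :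
    U = ⊤ := by
  by_contra hne
  have hD : IsClosed ((U : Set Y)ᶜ) := U.isOpen.isClosed_compl
  have hne' : ((U : Set Y)ᶜ).Nonempty := by
    rw [Set.nonempty_compl]
    intro h'
    apply hne
    ext x
    simp [h']
  obtain ⟨x, hxD, hx⟩ := Groth.Agent.Helper1.HensCouple.exists_mem_of_isClosed A
    I hI h hcl _ hD hne'
  exact hxD (hU x hx)

include hI in
/-- a proper morphism to a scheme closed over the spectrum of a ring in which `I` lies in the
Jacobson radical, with finite fibres over the points over `V(I)`, is finite -/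
theorem isFinite_of_finite_fibre {X P : Scheme.{u}} (π : P ⟶ Spec (CommRingCat.of A))
    (hcl : IsClosedMap π) (g : X ⟶ P) [IsProper g]
    (h : ∀ y : P, π y ∈ PrimeSpectrum.zeroLocus (I : Set A) → (g ⁻¹' {y}).Finite) :
    IsFinite g := by
  have key : ∀ y : {y : P // π y ∈ PrimeSpectrum.zeroLocus (I : Set A)},
      ∃ V : P.Opens, y.1 ∈ V ∧ IsFinite (g ∣_ V) := fun y =>
    exists_isFinite_morphismRestrict_of_finite_preimage_singleton g y.1 (h y.1 y.2)
  choose V hyV hV using key
  have hcov : iSup V = ⊤ := by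
    apply opens_eq_top_of_fibre A I hI π hcl
    intro y hy
    exact Opens.mem_iSup.mpr ⟨⟨y, hy⟩, hyV ⟨y, hy⟩⟩
  exact IsZariskiLocalAtTarget.of_iSup_eq_top (P := @IsFinite) V hcov hV

end Top

section AR

/-- Artin–Rees: an element of an ideal `N` of a Noetherian ring lying in all powers of `J` lies in
`J N` -/
theorem mem_mul_of_forall_mem_pow {B : Type*} [CommRing B] [IsNoetherianRing B] (J N : Ideal B)
    (x : B) (hxN : x ∈ N) (hx : ∀ n : ℕ, x ∈ J ^ n) : x ∈ J * N := by
  obtain ⟨k, hk⟩ := Ideal.exists_pow_inf_eq_pow_smul J (N : Submodule B B)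
  have h1 := hk (k + 1) (Nat.le_succ k)
  have h2 : x ∈ J ^ (k + 1) • (⊤ : Submodule B B) ⊓ N := by
    refine ⟨?_, hxN⟩
    have : J ^ (k + 1) • (⊤ : Submodule B B) = J ^ (k + 1) := by
      rw [Ideal.smul_eq_mul, Ideal.mul_top]
    rw [this]
    exact hx (k + 1)
  rw [h1, Nat.add_sub_cancel_left, pow_one] at h2
  have h3 : J • (J ^ k • (⊤ : Submodule B B) ⊓ N) ≤ J • N :=
    Submodule.smul_mono le_rfl inf_le_right
  exact h3 h2

end AR

variable {A : Type u} [CommRing A] [IsNoetherianRing A] (I : Ideal A) [IsAdicComplete I A]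
  {X P : Scheme.{u}} [X.Over (Spec (CommRingCat.of A))] [P.Over (Spec (CommRingCat.of A))]
  [IsProper (P ↘ Spec (CommRingCat.of A))]
  (g : X ⟶ P) [g.IsOver (Spec (CommRingCat.of A))] [IsFinite g]
  {Xs Ps : ℕ → Scheme.{u}} {i : ∀ n, Xs n ⟶ X}
  {fX : ∀ n, Xs n ⟶ Spec (CommRingCat.of (A ⧸ I ^ (n + 1)))}
  (hsqX : ∀ n, IsPullback (i n) (fX n) (X ↘ Spec (CommRingCat.of A))
    (Spec.map (CommRingCat.ofHom (Ideal.Quotient.mk (I ^ (n + 1))))))
  {b : ∀ n, Ps n ⟶ P} {fP : ∀ n, Ps n ⟶ Spec (CommRingCat.of (A ⧸ I ^ (n + 1)))}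
  (hsqP : ∀ n, IsPullback (b n) (fP n) (P ↘ Spec (CommRingCat.of A))
    (Spec.map (CommRingCat.ofHom (Ideal.Quotient.mk (I ^ (n + 1))))))
  (e : ∀ n, Xs n ⟶ Ps n) [∀ n, IsIso (e n)] (hcomm : ∀ n, i n ≫ g = e n ≫ b n)

include hsqX hsqP hcomm in
/-- `O_P ⟶ g_* O_X` is an epimorphism if `g` is an isomorphism modulo `I` -/
theorem epi_unitToPush_of_levels : Epi (unitToPush g) := by
  have h1 : I ^ (0 + 1) = I := by rw [zero_add, pow_one]
  haveI : IsAdicComplete (I ^ (0 + 1)) A := by rw [h1]; infer_instance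
  exact Groth.Agent.Helper1.GX.epi_unitToPush_of_fibre (I ^ (0 + 1)) g (hsqX 0) (hsqP 0) (e 0)
    (hcomm 0)

include hsqX hsqP hcomm in
/-- `O_P ⟶ g_* O_X` is a monomorphism if `g` is an isomorphism modulo all powers of `I` -/
theorem mono_unitToPush_of_levels : Mono (unitToPush g) := by
  haveI hepi := epi_unitToPush_of_levels I g hsqX hsqP e hcomm
  haveI : IsLocallyNoetherian P :=
    LocallyOfFiniteType.isLocallyNoetherian (P ↘ Spec (CommRingCat.of A))
  have hW : Coh.IsCoh (Coh.structureModule P) :=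
    Groth.Agent.Helper1.Dev.isCoh_structureModule P
  have hM : Coh.IsCoh ((Scheme.Modules.pushforward g).obj (Coh.structureModule X)) :=
    Groth.Agent.Helper1.HT.isCoh_pushforward_of_isProper g _
      (Groth.Agent.Helper1.Dev.isCoh_structureModule X)
  have h𝒦 : Coh.IsCoh (kernel (unitToPush g)) :=
    Groth.Agent.Lead.PerfLib.isCoh_kernel hW hM (unitToPush g)
  haveI : (kernel (unitToPush g)).IsQuasicoherent := h𝒦.1
  haveI : (Coh.structureModule P).IsQuasicoherent := hW.1
  haveI : ((Scheme.Modules.pushforward g).obj (Coh.structureModule X)).IsQuasicoherent := hM.1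
  have hιb : ∀ n, kernel.ι (unitToPush g) ≫ unitToPush (b n) = 0 := by
    intro n
    obtain ⟨Θ₁, Θ₂, hΘ₁, hΘ₂, hΘ⟩ :=
      Groth.Agent.Helper1.GX.unitToPush_factor g (e n) (hcomm n)
    have h1 : (kernel.ι (unitToPush g) ≫ unitToPush (b n)) ≫ Θ₂ = 0 := by
      rw [Category.assoc, ← hΘ, ← Category.assoc, kernel.condition, zero_comp]
    rw [← cancel_mono Θ₂, h1, zero_comp]
  -- the local statement
  have key : ∀ V : P.Opens, IsAffineOpen V → ∀ k : Γ(kernel (unitToPush g), V),
      k ∈ (I.map (ρ (A := A) V)) • (⊤ : Submodule Γ(P, V) Γ(kernel (unitToPush g), V)) := by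
    intro V hV k
    haveI : IsNoetherianRing Γ(P, V) := IsLocallyNoetherian.component_noetherian ⟨V, hV⟩
    set x : Γ(P, V) := (kernel.ι (unitToPush g)).app V k with hx
    have hx1 : x ∈ RingHom.ker (g.app V).hom := by
      have h1 := congrArg (fun φ => Scheme.Modules.Hom.app φ V k) (kernel.condition (unitToPush g))
      exact h1
    have hx3 : ∀ n : ℕ, x ∈ (I.map (ρ (A := A) V)) ^ n := by
      intro n
      have h2 : ((b n).app V).hom x = 0 := by
        have h1 := congrArg (fun φ => Scheme.Modules.Hom.app φ V k) (hιb n)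
        exact h1
      have h3 : x ∈ (I ^ (n + 1)).map (ρ (A := A) V) := by
        rw [← ker_app_eq (I ^ (n + 1)) (hsqP n) hV]
        exact h2
      rw [Ideal.map_pow] at h3
      exact Ideal.pow_le_pow_right (Nat.le_succ n) h3
    have h4 : x ∈ I.map (ρ (A := A) V) * RingHom.ker (g.app V).hom :=
      mem_mul_of_forall_mem_pow _ _ x hx1 hx3
    have h5 : ∀ y ∈ I.map (ρ (A := A) V) * RingHom.ker (g.app V).hom,
        ∃ k' ∈ (I.map (ρ (A := A) V)) •
          (⊤ : Submodule Γ(P, V) Γ(kernel (unitToPush g), V)),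
          (kernel.ι (unitToPush g)).app V k' = y := by
      intro y hy
      refine Submodule.mul_induction_on hy ?_ ?_
      · intro m hm z hz
        obtain ⟨w, hw⟩ := Groth.Agent.Helper1.GK.exists_kernel_section (unitToPush g) V z hz
        refine ⟨m • w, Submodule.smul_mem_smul hm Submodule.mem_top, ?_⟩
        rw [Scheme.Modules.Hom.app_smul, hw]
        rfl
      · rintro y z ⟨k₁, hk₁, rfl⟩ ⟨k₂, hk₂, rfl⟩
        exact ⟨k₁ + k₂, Submodule.add_mem _ hk₁ hk₂, map_add _ _ _⟩
    obtain ⟨k', hk', hk'x⟩ := h5 x h4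
    have h6 : k' = k :=
      Groth.Agent.Helper4.AffineDict.app_injective_of_mono (kernel.ι (unitToPush g)) V hk'x
    rw [← h6]
    exact hk'
  have hq1 : IsQuot I (Formal.modPowπ I 1 (kernel (unitToPush g))) := by
    have := isQuot_modPowπ I 1 (kernel (unitToPush g))
    rwa [pow_one] at this
  have hπ : Formal.modPowπ I 1 (kernel (unitToPush g)) = 0 := by
    apply Groth.Agent.Helper4.QcohLocal.eq_zero_of_app_eq_zero_of_affine_cover
    intro x
    obtain ⟨V, hV, hxV⟩ := Groth.Agent.Helper4.QcohLimits.exists_affine_nhd x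
    refine ⟨V, hV, hxV, fun k => ?_⟩
    exact Groth.Agent.Helper1.KLQuot.app_eq_zero_of_mem_smul_top hq1.kills V (key V hV k)
  have hz : IsZero (kernel (unitToPush g)) := by
    apply Groth.Agent.Helper1.AZ.isZero_of_forall_kills I _ h𝒦
    intro Z φ hφ
    have h := hq1.fac_desc φ hφ
    exact h.symm.trans ((congrArg (fun t => t ≫ hq1.desc φ hφ) hπ).trans zero_comp)
  exact Preadditive.mono_of_kernel_zero (hz.eq_of_src _ _)

include hsqX hsqP hcomm in
/-- **a finite morphism to a proper `A`-scheme which is an isomorphism modulo all powers of `I`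
is an isomorphism** (`A` Noetherian and `I`-adically complete) -/
theorem isIso_of_levels : IsIso g := by
  haveI := epi_unitToPush_of_levels I g hsqX hsqP e hcomm
  haveI := mono_unitToPush_of_levels I g hsqX hsqP e hcomm
  haveI : IsIso (unitToPush g) := isIso_of_mono_of_epi _
  have h : IsIso (ClSub.unitToPush g) := by
    rw [Groth.Agent.Helper1.AZ.clSub_unitToPush_eq]; infer_instance
  exact Groth.Agent.Helper4.SN.isIso_of_isIso_unitToPush g h

end Groth.Agent.Helper1.GY
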