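import Mathlib
import Groth.Agent.Helper1.GY1
import Groth.Agent.Helper1.FormB
import Groth.Agent.Helper1.Dev1
import Groth.Agent.Lead.GExE
import Groth.Agent.S0020

/-!
# GY2: extension by zero of coherent formal modules whose support is closed in the ambient scheme
-/

set_option autoImplicit false
set_option linter.style.haveILetI false
set_option linter.unusedSectionVars false

universe u

open CategoryTheory CategoryTheory.Limits AlgebraicGeometry Opposite TopologicalSpace

namespace Groth.Agent.Helper1.GY

open Groth.Agent.Helper1.Form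

section Supp

variable {A : Type u} [CommRing A] {X : Scheme.{u}} [X.Over (Spec (CommRingCat.of A))]

/-- nilpotent Nakayama for supports: if `N = M/JM`, `M` is killed by a power of `J` and the support
of `N` is closed, the support of `M` is contained in the support of `N` -/
theorem support_subset_of_isQuot {J : Ideal A} {M N : X.Modules} {p : M ⟶ N} (hp : IsQuot J p)
    (k : ℕ) (hk : Formal.KilledBy (J ^ k) M) (hcl : IsClosed (CohB1.support N)) :
    CohB1.support M ⊆ CohB1.support N := by
  intro x hx
  by_contra hxN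
  let W : X.Opens := ⟨(CohB1.support N)ᶜ, hcl.isOpen_compl⟩
  letI : (W : Scheme.{u}).Over (Spec (CommRingCat.of A)) :=
    ⟨W.ι ≫ (X ↘ Spec (CommRingCat.of A))⟩
  haveI : W.ι.IsOver (Spec (CommRingCat.of A)) := ⟨rfl⟩
  have hN' : IsZero ((Scheme.Modules.restrictFunctor W.ι).obj N) := by
    apply Groth.Agent.Helper4.SuppLib.isZero_of_support
    rw [Groth.Agent.Helper4.SuppLib.support_restrict]
    ext z
    simp only [Set.mem_preimage, Set.mem_empty_iff_false, iff_false]
    exact z.2
  have hp' := IsQuot.map_restrict (j := W.ι) hp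
  have hk' : Formal.KilledBy (J ^ k) ((Scheme.Modules.restrictFunctor W.ι).obj M) := by
    rw [killedBy_iff] at hk ⊢
    have := Kills.map_restrict (j := W.ι) hk
    rwa [CategoryTheory.Functor.map_id] at this
  have hM' : IsZero ((Scheme.Modules.restrictFunctor W.ι).obj M) := by
    refine Groth.Agent.Lead.GEx.isZero_of_quot_zero k hk' ?_
    intro Z f hf
    obtain ⟨g, hg⟩ := hp'.fac f hf
    rw [← hg, hN'.eq_of_tgt ((Scheme.Modules.restrictFunctor W.ι).map p) 0, zero_comp]
  have h1 := Groth.Agent.Helper4.SuppLib.support_eq_empty_of_isZero _ hM'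
  rw [Groth.Agent.Helper4.SuppLib.support_restrict] at h1
  have h2 : (⟨x, hxN⟩ : (W : Scheme.{u})) ∈ (∅ : Set (W : Scheme.{u})) := by
    rw [← h1]
    exact hx
  exact h2

/-- all terms of a coherent formal module have the same support -/
theorem support_obj_eq {I : Ideal A} {G : ℕᵒᵖ ⥤ X.Modules} (hG : Formal.IsCohFormal I G)
    (n : ℕ) : CohB1.support (G.obj (op n)) = CohB1.support (G.obj (op 0)) := by
  have hq := isQuot_tr_of_isCohFormal hG (Nat.zero_le n)
  haveI := hq.epi
  refine le_antisymm ?_ (Groth.Agent.Helper1.Dev.support_subset_of_epi (ARSys.tr G (Nat.zero_le n)))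
  have hk : Formal.KilledBy ((I ^ (0 + 1)) ^ (n + 1)) (G.obj (op n)) := by
    rw [zero_add, pow_one]
    exact hG.2.1 n
  exact support_subset_of_isQuot hq (n + 1) hk
    (Groth.Agent.S0020.result X _ (hG.1 0).2)

end Supp

section ExtZero

variable {A : Type u} [CommRing A] {U X : Scheme.{u}} [U.Over (Spec (CommRingCat.of A))]
  [X.Over (Spec (CommRingCat.of A))] (j : U ⟶ X) [IsOpenImmersion j]
  [j.IsOver (Spec (CommRingCat.of A))]

/-- the extension by zero of a coherent formal module whose support is closed in the ambient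
scheme is a coherent formal module -/
theorem isCohFormal_extZero {I : Ideal A} (G : ℕᵒᵖ ⥤ U.Modules) (hG : Formal.IsCohFormal I G)
    (hcl : IsClosed ((fun x => j x) '' CohB1.support (G.obj (op 0)))) :
    Formal.IsCohFormal I (G ⋙ CxOX.extZero j) := by
  have hG' := (isCohFormal_iff G).1 hG
  rw [isCohFormal_iff]
  refine ⟨fun n => isCoh_extZero j _ (hG'.1 n) ?_, fun n => killedBy_extZero (hG'.2.1 n),
    fun n => IsQuot.map_extZero (hG'.2.2 n)⟩
  rw [support_obj_eq hG n]
  exact hcl

/-- restricting the extension by zero gives back the system -/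
noncomputable def extZeroRestrictIso (G : ℕᵒᵖ ⥤ U.Modules) :
    (G ⋙ CxOX.extZero j) ⋙ Scheme.Modules.restrictFunctor j ≅ G :=
  Functor.associator _ _ _ ≪≫
    Functor.isoWhiskerLeft G (Groth.Agent.Helper4.ExtZeroStalk.unitIso j).symm ≪≫
    Functor.rightUnitor G

end ExtZero

end Groth.Agent.Helper1.GY
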