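import Mathlib
import Groth.Agent.Helper1.GY2
import Groth.Agent.Helper1.PicLoc4
import Groth.Agent.Helper4.NApx77
import Groth.Agent.Lead.FibLiftB

/-!
# GY3: the support of `M/IM` is the part of the support of `M` over `V(I)` (pointwise Nakayama)
-/

set_option autoImplicit false
set_option linter.style.haveILetI false
set_option linter.unusedSectionVars false

universe u

open CategoryTheory CategoryTheory.Limits AlgebraicGeometry Opposite TopologicalSpace TensorProduct

namespace Groth.Agent.Helper1.GY

open Groth.Agent.Helper1.Form Groth.Agent.Helper1.PicLoc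

/-- pointwise Nakayama: a finite type module whose pullback along `j` has a vanishing stalk at `z`
has a vanishing stalk at `j z` -/
theorem subsingleton_stalk_of_pullback {X Y : Scheme.{u}} (C : X.Modules)
    [C.IsQuasicoherent] (hC : SheafOfModules.IsFiniteType (R := X.ringCatSheaf) C) (j : Y ⟶ X)
    (z : Y) (h : Subsingleton (((Scheme.Modules.pullback j).obj C).presheaf.stalk z)) :
    Subsingleton (C.presheaf.stalk (j z)) := by
  letI alg : Algebra (X.presheaf.stalk (j z)) (Y.presheaf.stalk z) :=
    (j.stalkMap z).hom.toAlgebra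
  obtain ⟨E⟩ := Groth.Agent.Lead.StalkPull.nonempty_stalk_pullback_equiv j C z
  haveI : Subsingleton ((Y.presheaf.stalk z) ⊗[X.presheaf.stalk (j z)]
      (C.presheaf.stalk (j z))) := E.symm.toEquiv.subsingleton
  haveI : IsLocalHom (algebraMap (X.presheaf.stalk (j z)) (Y.presheaf.stalk z)) :=
    inferInstanceAs (IsLocalHom (j.stalkMap z).hom)
  haveI : Module.Finite (X.presheaf.stalk (j z)) (C.presheaf.stalk (j z)) :=
    Groth.Agent.Helper4.FinLocFree2.finite_stalk C hC (j z)
  exact Groth.Agent.Helper2.ATate.subsingleton_of_subsingleton_tensor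
    (X.presheaf.stalk (j z)) (Y.presheaf.stalk z) (C.presheaf.stalk (j z)) inferInstance

variable {A : Type u} [CommRing A] {X : Scheme.{u}} [X.Over (Spec (CommRingCat.of A))]

/-- the support of `M/IM` contains the part of the support of `M` over `V(I)` -/
theorem mem_support_of_isQuot (I : Ideal A) (M : X.Modules) (hM : Coh.IsCoh M) {N : X.Modules}
    {p : M ⟶ N} (hp : IsQuot I p) (x : X) (hx : x ∈ CohB1.support M)
    (hxI : (X ↘ Spec (CommRingCat.of A)) x ∈ PrimeSpectrum.zeroLocus (I : Set A)) :
    x ∈ CohB1.support N := by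
  haveI : M.IsQuasicoherent := hM.1
  have hsq := IsPullback.of_hasPullback (X ↘ Spec (CommRingCat.of A))
    (Spec.map (CommRingCat.ofHom (Ideal.Quotient.mk I)))
  have hq := isQuot_unitN I hsq M
  haveI : IsClosedImmersion (Spec.map (CommRingCat.ofHom (Ideal.Quotient.mk I))) :=
    IsClosedImmersion.spec_of_surjective _ Ideal.Quotient.mk_surjective
  haveI : IsClosedImmersion (pullback.fst (X ↘ Spec (CommRingCat.of A))
      (Spec.map (CommRingCat.ofHom (Ideal.Quotient.mk I)))) :=
    Groth.Agent.Lead.ThickBC.isClosedImmersion_of_isPullback hsq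
  have hxr : x ∈ Set.range (pullback.fst (X ↘ Spec (CommRingCat.of A))
      (Spec.map (CommRingCat.ofHom (Ideal.Quotient.mk I)))) := by
    rw [range_of_isPullback hsq, Groth.Agent.Helper1.HensCouple.range_specMap_mk]
    exact hxI
  obtain ⟨z, rfl⟩ := hxr
  rw [Groth.Agent.Helper1.Dev.support_eq_of_iso (hp.iso hq),
    Groth.Agent.Helper4.NApx77.mem_support_push_iff]
  intro hz
  exact hx (subsingleton_stalk_of_pullback M hM.2 _ z hz)

end Groth.Agent.Helper1.GY
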