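import Mathlib
import Groth.Agent.Helper1.GY3
import Groth.Agent.Helper1.GX3
import Groth.Agent.Helper1.PropSupp
import Groth.Agent.Helper1.Dev3

/-!
# GY4: Grothendieck's existence theorem with proper support, for open subschemes of proper
schemes
-/

set_option autoImplicit false
set_option linter.style.haveILetI false
set_option linter.unusedSectionVars false

universe u

open CategoryTheory CategoryTheory.Limits AlgebraicGeometry Opposite TopologicalSpace

namespace Groth.Agent.Helper1.GY

open Groth.Agent.Helper1.Form Groth.Agent.Lead.GEx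

section Supp

variable {S U P : Scheme.{u}} [U.Over S] [P.Over S] (j : U ⟶ P) [j.IsOver S]

/-- the image of a set proper over the base in a scheme separated over the base is closed -/
theorem isClosed_image_of_isProperOver [IsSeparated (P ↘ S)] (Z : Set U)
    (hZ : ClSub.IsProperOver (U ↘ S) Z) : IsClosed ((fun x => j x) '' Z) := by
  obtain ⟨hcl, hprop⟩ := hZ
  set 𝒱 := Scheme.IdealSheafData.vanishingIdeal ⟨Z, hcl⟩ with h𝒱
  haveI : IsProper ((𝒱.subschemeι ≫ j) ≫ (P ↘ S)) := by
    rw [Category.assoc, comp_over j S]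
    exact hprop
  haveI : IsProper (𝒱.subschemeι ≫ j) := IsProper.of_comp (𝒱.subschemeι ≫ j) (P ↘ S)
  have h1 : IsClosed (Set.range (𝒱.subschemeι ≫ j)) :=
    (𝒱.subschemeι ≫ j).isClosedMap.isClosed_range
  have h2 : Set.range (𝒱.subschemeι ≫ j) = (fun x => j x) '' Z := by
    rw [Scheme.Hom.comp_base, TopCat.coe_comp, Set.range_comp,
      Scheme.IdealSheafData.range_subschemeι, Scheme.IdealSheafData.coe_support_vanishingIdeal]
    rfl
  rwa [h2] at h1

/-- a closed subset of an open subscheme of a proper scheme whose image is closed is proper over the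
base -/
theorem isProperOver_of_isClosed_image [IsOpenImmersion j] [IsProper (P ↘ S)] (Z : Set U)
    (hZ : IsClosed ((fun x => j x) '' Z)) : ClSub.IsProperOver (U ↘ S) Z := by
  have hcl : IsClosed Z := by
    have : Z = (fun x => j x) ⁻¹' ((fun x => j x) '' Z) :=
      (Set.preimage_image_eq Z j.isOpenEmbedding.injective).symm
    rw [this]
    exact hZ.preimage j.continuous
  refine ⟨hcl, ?_⟩
  set 𝒱 := Scheme.IdealSheafData.vanishingIdeal ⟨Z, hcl⟩ with h𝒱
  have h2 : Set.range (𝒱.subschemeι ≫ j) = (fun x => j x) '' Z := by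
    rw [Scheme.Hom.comp_base, TopCat.coe_comp, Set.range_comp,
      Scheme.IdealSheafData.range_subschemeι, Scheme.IdealSheafData.coe_support_vanishingIdeal]
    rfl
  haveI : IsClosedImmersion (𝒱.subschemeι ≫ j) :=
    IsClosedImmersion.of_isPreimmersion _ (h2 ▸ hZ)
  rw [← comp_over j S, ← Category.assoc]
  infer_instance

end Supp

section Main

variable (A : Type u) [CommRing A] [IsNoetherianRing A] (I : Ideal A) [IsAdicComplete I A]
  {U P : Scheme.{u}} [U.Over (Spec (CommRingCat.of A))] [P.Over (Spec (CommRingCat.of A))]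
  [IsProper (P ↘ Spec (CommRingCat.of A))] (j : U ⟶ P) [IsOpenImmersion j]
  [j.IsOver (Spec (CommRingCat.of A))]

include j in
/-- **the existence theorem with proper support on an open subscheme of a proper scheme** -/
theorem exists_algebraization_of_open (G : ℕᵒᵖ ⥤ U.Modules) (hG : Formal.IsCohFormal I G)
    (hGs : ClSub.IsProperOver (U ↘ Spec (CommRingCat.of A)) (CohB1.support (G.obj (op 0)))) :
    ∃ N : U.Modules, Coh.IsCoh N ∧
      ClSub.IsProperOver (U ↘ Spec (CommRingCat.of A)) (CohB1.support N) ∧
      Nonempty (Formal.completion I N ≅ G) := by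
  have hcl := isClosed_image_of_isProperOver j _ hGs
  have hGt := isCohFormal_extZero j G hG hcl
  obtain ⟨M, hM, ⟨θ⟩⟩ := Groth.Agent.Helper1.GX.exists_algebraization_proper A I P _ hGt
  haveI : M.IsQuasicoherent := hM.1
  have hN : Coh.IsCoh ((Scheme.Modules.restrictFunctor j).obj M) :=
    ⟨Scheme.Modules.isQuasicoherent_restrictFunctor j M,
      Groth.Agent.Helper4.FTRestrict.isFT_restrict j M hM.2⟩
  -- the completion of the restriction
  obtain ⟨κ, -⟩ := exists_completion_iso (I := I) ((Scheme.Modules.restrictFunctor j).obj M)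
    (Formal.completion I M ⋙ Scheme.Modules.restrictFunctor j)
    (fun n => (Scheme.Modules.restrictFunctor j).map (cq I M n))
    (fun n => IsQuot.map_restrict (isQuot_cq I M n))
    (fun n => by
      show (Scheme.Modules.restrictFunctor j).map (cq I M (n + 1)) ≫
        (Scheme.Modules.restrictFunctor j).map ((Formal.completion I M).map _) = _
      rw [← Functor.map_comp]
      congr 1
      exact cq_τ I M n)
  refine ⟨(Scheme.Modules.restrictFunctor j).obj M, hN, ?_,
    ⟨κ ≪≫ Functor.isoWhiskerRight θ (Scheme.Modules.restrictFunctor j) ≪≫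
      extZeroRestrictIso j G⟩⟩
  -- the support
  have hsub : CohB1.support M ⊆ Set.range j := by
    by_contra hcon
    rw [Set.not_subset] at hcon
    obtain ⟨x₀, hx₀M, hx₀j⟩ := hcon
    have hMcl : IsClosed (CohB1.support M) := Groth.Agent.S0020.result P M hM.2
    have hC : IsClosed (CohB1.support M ∩ (Set.range j)ᶜ) :=
      hMcl.inter j.isOpenEmbedding.isOpen_range.isClosed_compl
    obtain ⟨x, ⟨hxM, hxj⟩, hxI⟩ := Groth.Agent.Helper1.HensCouple.exists_mem_of_isClosed A I
      (IsAdicComplete.le_jacobson_bot I) (P ↘ Spec (CommRingCat.of A))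
      (P ↘ Spec (CommRingCat.of A)).isClosedMap _ hC ⟨x₀, hx₀M, hx₀j⟩
    have hq : IsQuot I (cq I M 0) := by
      have := isQuot_cq I M 0
      rwa [zero_add, pow_one] at this
    have h1 := mem_support_of_isQuot I M hM hq x hxM hxI
    rw [Groth.Agent.Helper1.Dev.support_eq_of_iso (θ.app (op 0))] at h1
    obtain ⟨y, -, hy⟩ := Groth.Agent.Helper4.ExtZeroStalk.support_extZero_subset j _ h1
    exact hxj ⟨y, hy⟩
  apply isProperOver_of_isClosed_image j
  rw [Groth.Agent.Helper4.SuppLib.support_restrict]
  have h2 : (fun x => j x) '' ((fun x => j x) ⁻¹' CohB1.support M) = CohB1.support M := by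
    rw [Set.image_preimage_eq_inter_range]
    exact Set.inter_eq_left.2 hsub
  rw [h2]
  exact Groth.Agent.S0020.result P M hM.2

end Main

end Groth.Agent.Helper1.GY
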