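import Mathlib
import Groth.Agent.Helper1.GK16

/-!
# GY5: the "tricky" existence lemma relative to a Serre-type property `P` of coherent modules
(for instance: support proper over the base)
-/

set_option autoImplicit false
set_option linter.style.haveILetI false
set_option linter.unusedSectionVars false

universe u

open CategoryTheory CategoryTheory.Limits AlgebraicGeometry Opposite

namespace Groth.Agent.Helper1.GY

open Groth.Agent.Helper1.Form Groth.Agent.Helper1.QuotPush Groth.Agent.Helper4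
open Groth.Agent.Helper1.LimSec Groth.Agent.Helper4.QcohEpi Groth.Agent.Helper1.ModAR
open Groth.Agent.Lead.GEx Groth.Agent.Lead.Thick Groth.Agent.Helper1.GK

variable {A : Type u} [CommRing A] {X : Scheme.{u}} [X.Over (Spec (CommRingCat.of A))]
variable {I : Ideal A}

/-- a property of coherent modules stable under coherent subobjects, quotients and sums -/
structure SerreP (P : X.Modules → Prop) : Prop where
  epi : ∀ {M N : X.Modules} (f : M ⟶ N) [Epi f], Coh.IsCoh M → Coh.IsCoh N → P M → P N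
  mono : ∀ {M N : X.Modules} (f : M ⟶ N) [Mono f], Coh.IsCoh M → Coh.IsCoh N → P N → P M
  biprod : ∀ {M N : X.Modules}, Coh.IsCoh M → Coh.IsCoh N → P M → P N → P (M ⊞ N : X.Modules)

section Full

variable (J : X.IdealSheafData) {P : X.Modules → Prop}

/-- **fullness towards modules killed by an ideal sheaf**, relative to `P` -/
theorem exists_hom_of_compl_hom_P [IsLocallyNoetherian X] (hI : I.FG) (hP : SerreP P)
    (hFF : ∀ M N : X.Modules, Coh.IsCoh M → Coh.IsCoh N → ClSub.KilledByIdeal J M →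
      ClSub.KilledByIdeal J N → P M → ∀ ψ : Formal.completion I M ⟶ Formal.completion I N,
        ∃ φ : M ⟶ N, ∀ n : ℕ, cq I M n ≫ ψ.app (op n) = φ ≫ cq I N n)
    {M N : X.Modules} (hM : Coh.IsCoh M) (hN : Coh.IsCoh N) (hNk : ClSub.KilledByIdeal J N)
    (hMP : P M) (ψ : Formal.completion I M ⟶ Formal.completion I N) :
    ∃ φ : M ⟶ N, ∀ n : ℕ, cq I M n ≫ ψ.app (op n) = φ ≫ cq I N n := by
  haveI : M.IsQuasicoherent := hM.1
  haveI : N.IsQuasicoherent := hN.1
  have hNc := isCohFormal_completion_of_fg hI N hN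
  haveI hq : ∀ n, ((Formal.completion I N).obj (op n)).IsQuasicoherent := fun n => (hNc.1 n).1
  haveI := epi_ηT J.subschemeι M
  -- the terms of the completion of `N` are killed by `J`
  have hk : ∀ n, Kills J.subschemeι ((Formal.completion I N).obj (op n)) 1 := fun n => by
    haveI := (isQuot_cq I N n).epi
    exact kills_of_killedByIdeal J (killedByIdeal_of_epi J (cq I N n) hNk)
  choose ρ hρ using fun n => exists_desc_ηT J.subschemeι (cq I M n ≫ ψ.app (op n)) (hk n)
  have hc : ∀ n, ρ (n + 1) ≫ (Formal.completion I N).map (homOfLE (Nat.le_add_right n 1)).op =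
      ρ n := by
    intro n
    rw [← cancel_epi (ηT J.subschemeι M), ← Category.assoc, hρ, hρ, Category.assoc]
    have h1 : ψ.app (op (n + 1)) ≫ (Formal.completion I N).map (homOfLE (Nat.le_add_right n 1)).op
        = (Formal.completion I M).map (homOfLE (Nat.le_add_right n 1)).op ≫ ψ.app (op n) :=
      (ψ.naturality _).symm
    rw [h1, ← Category.assoc]
    congr 1
    exact cq_τ I M n
  obtain ⟨ψ₁, hψ₁⟩ := exists_completion_hom ((TT J.subschemeι).obj M) (Formal.completion I N)
    (killedBy_completion I N) ρ hc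
  have hTc : Coh.IsCoh ((TT J.subschemeι).obj M) := isCoh_TT J.subschemeι M hM
  obtain ⟨φ₁, hφ₁⟩ := hFF _ N hTc hN (killedByIdeal_TT J M) hNk
    (hP.epi (ηT J.subschemeι M) hM hTc hMP) ψ₁
  refine ⟨ηT J.subschemeι M ≫ φ₁, fun n => ?_⟩
  rw [Category.assoc, ← hφ₁ n, ← hρ n]
  congr 1
  exact (hψ₁ n).symm

end Full

variable {F : ℕᵒᵖ ⥤ X.Modules} {P : X.Modules → Prop}

/-- **first half of the tricky lemma**, relative to `P` -/
theorem exists_surj_sep_P [IsNoetherian X] (hI : I.FG) (hP : SerreP P) (K : X.IdealSheafData)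
    (hF : Formal.IsCohFormal I F) {H : X.Modules} (hH : Coh.IsCoh H) (hHP : P H)
    (α : F ⟶ Formal.completion I H) (t : ℕ)
    (hα : ∀ n : ℕ, ClSub.KilledByIdeal (K ^ (t + 1)) (kernel (α.app (op n))) ∧
      ClSub.KilledByIdeal (K ^ (t + 1)) (cokernel (α.app (op n))))
    (hFF : ∀ M N : X.Modules, Coh.IsCoh M → Coh.IsCoh N → ClSub.KilledByIdeal (K ^ (t + 1)) M →
      ClSub.KilledByIdeal (K ^ (t + 1)) N → P M →
      ∀ ψ : Formal.completion I M ⟶ Formal.completion I N,
        ∃ φ : M ⟶ N, ∀ n : ℕ, cq I M n ≫ ψ.app (op n) = φ ≫ cq I N n)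
    (hES : ∀ G : ℕᵒᵖ ⥤ X.Modules, Formal.IsCohFormal I G →
      (∀ n : ℕ, ClSub.KilledByIdeal (K ^ (t + 1)) (G.obj (op n))) → P (G.obj (op 0)) →
        ∃ M : X.Modules, Coh.IsCoh M ∧ ClSub.KilledByIdeal (K ^ (t + 1)) M ∧ P M ∧
          Nonempty (Formal.completion I M ≅ G)) :
    ∃ (H' : X.Modules) (α' : F ⟶ Formal.completion I H') (e : ℕ), Coh.IsCoh H' ∧ P H' ∧
      ∀ x : X, ∃ U : X.Opens, IsAffineOpen U ∧ x ∈ U ∧ Function.Surjective (limf α' U) ∧
        ∀ y : Γ(limit F, U), limf α' U y = 0 →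
          y ∈ RingHom.ker ((K ^ e).subschemeι.app U).hom •
            (⊤ : Submodule Γ(X, U) Γ(limit F, U)) → y = 0 := by
  classical
  have hHc := isCohFormal_completion_of_fg hI H hH
  haveI : H.IsQuasicoherent := hH.1
  -- Step 1: algebraize the cokernel system
  have hQ := isCohFormal_cokSys α hF hHc
  have hQP : P ((cokSys α).obj (op 0)) := by
    haveI := (isQuot_cq I H 0).epi
    have h1 : Epi (cq I H 0 ≫ cokernel.π (α.app (op 0))) := epi_comp _ _
    exact @SerreP.epi _ _ hP _ _ _ h1 hH (hQ.1 0) hHP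
  obtain ⟨Q₀, hQ₀, hQ₀k, -, ⟨ε⟩⟩ := hES (cokSys α) hQ (fun n => (hα n).2) hQP
  -- Step 2: algebraize the projection to the cokernel
  obtain ⟨q, hq⟩ := exists_hom_of_compl_hom_P (K ^ (t + 1)) hI hP hFF hH hQ₀ hQ₀k hHP
    (cokπ α ≫ ε.inv)
  have hq' : complMap I q = cokπ α ≫ ε.inv :=
    compl_hom_ext (fun n => by rw [cq_complMap, hq n])
  -- Step 3: lift to the completion of the kernel
  have h0 : α ≫ complMap I q = 0 := by
    rw [hq', ← Category.assoc, comp_cokπ, zero_comp]
  obtain ⟨α', hα'⟩ := exists_lift_complMap_kernel q hI hH hQ₀ hF α h0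
  have hH' : Coh.IsCoh (kernel q) := Groth.Agent.Lead.PerfLib.isCoh_kernel hH hQ₀ q
  -- the two properties over an affine open
  have hsec : ∀ U : X.Opens, ∀ hU : IsAffineOpen U, Function.Surjective (limf α' U) ∧
      ∃ c : ℕ, ∀ y : Γ(limit F, U), limf α' U y = 0 →
        y ∈ (K.ideal ⟨U, hU⟩) ^ (t + 1 + c) • (⊤ : Submodule Γ(X, U) Γ(limit F, U)) → y = 0 := by
    intro U hU
    obtain ⟨hinj, hex⟩ := limf_complMap_kernel_ι q hI hH hQ₀ hU
    have hfac : ∀ y, limf α U y = limf (complMap I (kernel.ι q)) U (limf α' U y) := by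
      intro y
      rw [← limf_comp, hα']
    constructor
    · intro z
      have h1 : limf (cokπ α) U (limf (complMap I (kernel.ι q)) U z) = 0 := by
        have e1 : cokπ α = complMap I q ≫ ε.hom := by
          rw [hq', Category.assoc, ε.inv_hom_id, Category.comp_id]
        rw [e1, limf_comp, ← limf_comp (complMap I (kernel.ι q)), complMap_kernel_ι_comp,
          limf_zero, map_zero]
      obtain ⟨x, hx⟩ := exists_limf_eq_of_cokπ_eq_zero α hI hF hHc hU _ h1
      refine ⟨x, hinj ?_⟩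
      rw [← hfac, hx]
    · obtain ⟨c, hc⟩ := exists_sep hI K α hF hHc t (fun n => (hα n).1) hU
      refine ⟨c, fun y hy hym => hc y ?_ hym⟩
      rw [hfac, hy, map_zero]
  -- uniformity over a finite affine cover
  have hcov : ∀ x : X, ∃ U : X.Opens, IsAffineOpen U ∧ x ∈ U := fun x =>
    QcohLimits.exists_affine_nhd x
  choose U hU hxU using hcov
  obtain ⟨T, hT⟩ := isCompact_univ.elim_finite_subcover (fun x => ((U x : X.Opens) : Set X))
    (fun x => (U x).isOpen) (fun x _ => Set.mem_iUnion.2 ⟨x, hxU x⟩)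
  choose c hc using fun y : X => (hsec (U y) (hU y)).2
  refine ⟨kernel q, α', t + 1 + T.sup c, hH', hP.mono (kernel.ι q) hH' hH hHP, fun x => ?_⟩
  obtain ⟨y, hy⟩ := Set.mem_iUnion.1 (hT (Set.mem_univ x))
  obtain ⟨hyT, hxy⟩ := Set.mem_iUnion.1 hy
  refine ⟨U y, hU y, hxy, (hsec (U y) (hU y)).1, fun z hz hzm => hc y z hz ?_⟩
  have e1 : RingHom.ker ((K ^ (t + 1 + T.sup c)).subschemeι.app (U y)).hom =
      (K.ideal ⟨U y, hU y⟩) ^ (t + 1 + T.sup c) :=
    (K ^ (t + 1 + T.sup c)).ker_subschemeι_app ⟨U y, hU y⟩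
  rw [e1] at hzm
  refine Submodule.smul_mono_left (Ideal.pow_le_pow_right ?_) hzm
  have := Finset.le_sup (f := c) hyT
  omega

/-- **second half of the tricky lemma**, relative to `P` -/
theorem exists_algebraization_of_surj_sep_P [IsNoetherian X] (hI : I.FG) (hP : SerreP P)
    (K : X.IdealSheafData) (hF : Formal.IsCohFormal I F) (hFP : P (F.obj (op 0)))
    {H' : X.Modules} (hH' : Coh.IsCoh H') (hHP : P H')
    (α' : F ⟶ Formal.completion I H') (e : ℕ)
    (hcov : ∀ x : X, ∃ U : X.Opens, IsAffineOpen U ∧ x ∈ U ∧ Function.Surjective (limf α' U) ∧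
        ∀ y : Γ(limit F, U), limf α' U y = 0 →
          y ∈ RingHom.ker ((K ^ e).subschemeι.app U).hom •
            (⊤ : Submodule Γ(X, U) Γ(limit F, U)) → y = 0)
    (hFF : ∀ M N : X.Modules, Coh.IsCoh M → Coh.IsCoh N → ClSub.KilledByIdeal (K ^ e) M →
      ClSub.KilledByIdeal (K ^ e) N → P M → ∀ ψ : Formal.completion I M ⟶ Formal.completion I N,
        ∃ φ : M ⟶ N, ∀ n : ℕ, cq I M n ≫ ψ.app (op n) = φ ≫ cq I N n)
    (hES : ∀ G : ℕᵒᵖ ⥤ X.Modules, Formal.IsCohFormal I G →
      (∀ n : ℕ, ClSub.KilledByIdeal (K ^ e) (G.obj (op n))) → P (G.obj (op 0)) →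
        ∃ M : X.Modules, Coh.IsCoh M ∧ ClSub.KilledByIdeal (K ^ e) M ∧ P M ∧
          Nonempty (Formal.completion I M ≅ G)) :
    ∃ M : X.Modules, Coh.IsCoh M ∧ P M ∧ Nonempty (Formal.completion I M ≅ F) := by
  obtain ⟨i, hi⟩ : ∃ i : (K ^ e).subscheme ⟶ X, i = (K ^ e).subschemeι := ⟨_, rfl⟩
  haveI : IsClosedImmersion i := by rw [hi]; infer_instance
  have hkT : ∀ M : X.Modules, ClSub.KilledByIdeal (K ^ e) ((TT i).obj M) := fun M => by
    rw [hi]; exact killedByIdeal_TT (K ^ e) M
  -- Step 4: algebraize the reduction of `F`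
  have hFb : Formal.IsCohFormal I (TSys i F) := isCohFormal_TSys i hI hF
  have hFbP : P ((TSys i F).obj (op 0)) := by
    haveI : (F.obj (op 0)).IsQuasicoherent := (hF.1 0).1
    haveI := epi_ηT i (F.obj (op 0))
    exact hP.epi (ηT i (F.obj (op 0))) (hF.1 0) (hFb.1 0) hFP
  obtain ⟨Me, hMe, hMek, hMeP, ⟨ε⟩⟩ := hES (TSys i F) hFb (fun n => hkT _) hFbP
  have hHc := isCohFormal_completion_of_fg hI H' hH'
  haveI : H'.IsQuasicoherent := hH'.1
  haveI : ∀ n, ((Formal.completion I H').obj (op n)).IsQuasicoherent := fun n => (hHc.1 n).1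
  -- Step 5: the reduction of the completion is the completion of the reduction
  have hρ : ∀ n, IsQuot (I ^ (n + 1)) ((TT i).map (cq I H' n)) := fun n =>
    isQuot_TT_map i (Ideal.FG.pow hI) (isQuot_cq I H' n)
  have hc : ∀ n, (TT i).map (cq I H' (n + 1)) ≫
      (TSys i (Formal.completion I H')).map (homOfLE (Nat.le_add_right n 1)).op =
        (TT i).map (cq I H' n) := by
    intro n
    show (TT i).map _ ≫ (TT i).map ((Formal.completion I H').map _) = _
    rw [← Functor.map_comp]
    congr 1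
    exact cq_τ I H' n
  obtain ⟨κ, hκ⟩ := exists_completion_iso (I := I) ((TT i).obj H')
    (TSys i (Formal.completion I H')) (fun n => (TT i).map (cq I H' n)) hρ hc
  have hκ' : ∀ n, cq I ((TT i).obj H') n ≫ κ.hom.app (op n) = (TT i).map (cq I H' n) := hκ
  have hηc : complMap I (ηT i H') = ηSys i (Formal.completion I H') ≫ κ.inv := by
    apply compl_hom_ext
    intro n
    rw [cq_complMap, NatTrans.comp_app, ηSys_app, ← Category.assoc, ηT_nat, ← hκ' n,
      Category.assoc, Category.assoc, Iso.hom_inv_id_app, Category.comp_id]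
  have hT : Coh.IsCoh ((TT i).obj H') := isCoh_TT i H' hH'
  obtain ⟨φe, hφe⟩ := hFF Me ((TT i).obj H') hMe hT hMek (hkT H') hMeP
    (ε.hom ≫ Functor.whiskerRight α' (TT i) ≫ κ.inv)
  have hφe' : complMap I φe = ε.hom ≫ Functor.whiskerRight α' (TT i) ≫ κ.inv :=
    compl_hom_ext (fun n => by rw [cq_complMap, hφe n])
  have hstar : (ηSys i F ≫ ε.inv) ≫ complMap I φe = α' ≫ complMap I (ηT i H') := by
    rw [hφe', hηc, Category.assoc, ε.inv_hom_id_assoc, ← Category.assoc, ← ηSys_nat,
      Category.assoc]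
  -- Step 6: the fibre product
  have hD : Coh.IsCoh (Me ⊞ H') := Groth.Agent.Helper1.Dev.isCoh_biprod hMe hH'
  obtain ⟨Φ, hΦ⟩ : ∃ Φ : Me ⊞ H' ⟶ (TT i).obj H', Φ = biprod.desc φe (-(ηT i H')) := ⟨_, rfl⟩
  obtain ⟨ω, hω⟩ : ∃ ω : F ⟶ Formal.completion I (Me ⊞ H'),
      ω = (ηSys i F ≫ ε.inv) ≫ complMap I biprod.inl + α' ≫ complMap I biprod.inr := ⟨_, rfl⟩
  have hω1 : ω ≫ complMap I biprod.fst = ηSys i F ≫ ε.inv := by
    simp only [hω, Preadditive.add_comp, Category.assoc, ← complMap_comp, biprod.inl_fst,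
      biprod.inr_fst, complMap_id, complMap_zero, Category.comp_id, comp_zero, add_zero]
  have hω2 : ω ≫ complMap I biprod.snd = α' := by
    simp only [hω, Preadditive.add_comp, Category.assoc, ← complMap_comp, biprod.inl_snd,
      biprod.inr_snd, complMap_id, complMap_zero, Category.comp_id, comp_zero, zero_add]
  have hΦl : complMap I (biprod.inl : Me ⟶ Me ⊞ H') ≫ complMap I Φ = complMap I φe := by
    rw [← complMap_comp, hΦ, biprod.inl_desc]
  have hΦr : complMap I (biprod.inr : H' ⟶ Me ⊞ H') ≫ complMap I Φ =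
      -complMap I (ηT i H') := by
    rw [← complMap_comp, hΦ, biprod.inr_desc, complMap_neg]
  have hωΦ : ω ≫ complMap I Φ = 0 := by
    simp only [hω, Preadditive.add_comp, Category.assoc, hΦl, hΦr, Preadditive.comp_neg]
    rw [← Category.assoc, hstar, add_neg_cancel]
  obtain ⟨ω', hω'⟩ := exists_lift_complMap_kernel Φ hI hD hT hF ω hωΦ
  have hM : Coh.IsCoh (kernel Φ) := Groth.Agent.Lead.PerfLib.isCoh_kernel hD hT Φ
  have hMP : P (kernel Φ) := hP.mono (kernel.ι Φ) hM hD (hP.biprod hMe hH' hMeP hHP)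
  have hMc := isCohFormal_completion_of_fg hI _ hM
  have hFq : Formal2.IsQCohFormal I F := ⟨fun n => (hF.1 n).1, hF.2.1, hF.2.2⟩
  have hMq : Formal2.IsQCohFormal I (Formal.completion I (kernel Φ)) :=
    ⟨fun n => (hMc.1 n).1, hMc.2.1, hMc.2.2⟩
  -- Step 7: the lift is an isomorphism
  have htot : complMap I (biprod.fst : Me ⊞ H' ⟶ Me) ≫ complMap I biprod.inl +
      complMap I (biprod.snd : Me ⊞ H' ⟶ H') ≫ complMap I biprod.inr = 𝟙 _ := by
    rw [← complMap_comp, ← complMap_comp, ← complMap_add, biprod.total, complMap_id]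
  haveI : IsIso ω' := by
    apply isIso_of_limf_bijective hI hFq hMq
    intro x
    obtain ⟨U, hU, hxU, hsurj, hsep⟩ := hcov x
    refine ⟨U, hU, hxU, ?_⟩
    rw [← hi] at hsep
    have hfib := fibre_bijective (RingHom.ker (i.app U).hom) (limf α' U)
      (limf (ηSys i F ≫ ε.inv) U) (limf (complMap I (ηT i H')) U) (limf (complMap I φe) U)
      (fun x => by rw [← limf_comp, ← limf_comp, hstar]) hsurj
      (fun p => by
        obtain ⟨x, hx⟩ := limf_ηSys_surjective i hI hF hU (limf ε.hom U p)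
        refine ⟨x, ?_⟩
        rw [limf_comp, hx, ← limf_comp, ε.hom_inv_id, limf_id])
      (fun x hx => by
        rw [limf_comp] at hx
        have h1 : limf (ηSys i F) U x = 0 := by
          apply (limf_bijective_of_iso ε.symm U).1
          rw [map_zero]
          exact hx
        exact mem_of_limf_ηSys_eq_zero i hI hF hU x h1)
      (fun x hx => by
        rw [limf_comp, limf_ηSys_eq_zero_of_mem i hU x hx, map_zero])
      (fun n hn => by
        rw [hηc, limf_comp] at hn
        have h1 : limf (ηSys i (Formal.completion I H')) U n = 0 := by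
          apply (limf_bijective_of_iso κ.symm U).1
          rw [map_zero]
          exact hn
        exact mem_of_limf_ηSys_eq_zero i hI hHc hU n h1)
      hsep
    obtain ⟨hinjΦ, hexΦ⟩ := limf_complMap_kernel_ι Φ hI hD hT hU
    have hfac : ∀ y, limf ω U y = limf (complMap I (kernel.ι Φ)) U (limf ω' U y) := by
      intro y
      rw [← limf_comp, hω']
    constructor
    · rw [injective_iff_map_eq_zero]
      intro y hy
      have h0 : limf ω U y = 0 := by rw [hfac, hy, map_zero]
      refine hfib.1 y ?_ ?_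
      · rw [← hω1, limf_comp, h0, map_zero]
      · have : limf α' U y = limf (ω ≫ complMap I biprod.snd) U y := by rw [hω2]
        rw [this, limf_comp, h0, map_zero]
    · intro z
      have hd : ∀ d : Γ(limit (Formal.completion I (Me ⊞ H')), U),
          d = limf (complMap I biprod.inl) U (limf (complMap I biprod.fst) U d) +
            limf (complMap I biprod.inr) U (limf (complMap I biprod.snd) U d) := by
        intro d
        rw [← limf_comp, ← limf_comp, ← limf_add, htot, limf_id]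
      have hΦd : limf (complMap I Φ) U (limf (complMap I (kernel.ι Φ)) U z) = 0 := by
        rw [← limf_comp, complMap_kernel_ι_comp, limf_zero]
      have h1 : limf (complMap I φe) U
          (limf (complMap I biprod.fst) U (limf (complMap I (kernel.ι Φ)) U z)) =
          limf (complMap I (ηT i H')) U
            (limf (complMap I biprod.snd) U (limf (complMap I (kernel.ι Φ)) U z)) := by
        have e1 : ∀ m, limf (complMap I Φ) U (limf (complMap I biprod.inl) U m) =
            limf (complMap I φe) U m := fun m => by rw [← limf_comp, hΦl]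
        have e2 : ∀ n, limf (complMap I Φ) U (limf (complMap I biprod.inr) U n) =
            -limf (complMap I (ηT i H')) U n := fun n => by rw [← limf_comp, hΦr, limf_neg]
        have h2 := hΦd
        rw [hd (limf (complMap I (kernel.ι Φ)) U z), map_add, e1, e2] at h2
        exact add_neg_eq_zero.1 h2
      obtain ⟨x, hx1, hx2⟩ := hfib.2 _ _ h1
      have hωx : limf ω U x =
          limf (complMap I biprod.inl) U (limf (ηSys i F ≫ ε.inv) U x) +
            limf (complMap I biprod.inr) U (limf α' U x) := by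
        rw [hω, limf_add, limf_comp (ηSys i F ≫ ε.inv), limf_comp α']
      refine ⟨x, hinjΦ ?_⟩
      rw [← hfac, hωx, hx1, hx2]
      exact (hd _).symm
  exact ⟨kernel Φ, hM, hMP, ⟨(asIso ω').symm⟩⟩

/-- **the tricky lemma relative to `P`**, for a finitely generated ideal `I` -/
theorem tricky_P [IsNoetherian X] (hI : I.FG) (hP : SerreP P) (K : X.IdealSheafData)
    (hF : Formal.IsCohFormal I F) (hFP : P (F.obj (op 0)))
    (hFF : ∀ e : ℕ, ∀ M N : X.Modules, Coh.IsCoh M → Coh.IsCoh N →
      ClSub.KilledByIdeal (K ^ e) M → ClSub.KilledByIdeal (K ^ e) N → P M →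
      ∀ ψ : Formal.completion I M ⟶ Formal.completion I N,
        ∃ φ : M ⟶ N, ∀ n : ℕ, cq I M n ≫ ψ.app (op n) = φ ≫ cq I N n)
    (hES : ∀ e : ℕ, ∀ G : ℕᵒᵖ ⥤ X.Modules, Formal.IsCohFormal I G →
      (∀ n : ℕ, ClSub.KilledByIdeal (K ^ e) (G.obj (op n))) → P (G.obj (op 0)) →
        ∃ M : X.Modules, Coh.IsCoh M ∧ ClSub.KilledByIdeal (K ^ e) M ∧ P M ∧
          Nonempty (Formal.completion I M ≅ G))
    {H : X.Modules} (α : F ⟶ Formal.completion I H) (hH : Coh.IsCoh H) (hHP : P H)
    (hα : Formal2.KerCokerKilledByPow K α) :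
    ∃ M : X.Modules, Coh.IsCoh M ∧ P M ∧ Nonempty (Formal.completion I M ≅ F) := by
  obtain ⟨t, ht⟩ := hα
  obtain ⟨H', α', e, hH', hHP', hcov⟩ := exists_surj_sep_P hI hP K hF hH hHP α t ht
    (hFF (t + 1)) (hES (t + 1))
  exact exists_algebraization_of_surj_sep_P hI hP K hF hFP hH' hHP' α' e hcov (hFF e) (hES e)

end Groth.Agent.Helper1.GY
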