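import Mathlib
import Groth.Agent.Helper1.GY5
import Groth.Agent.Helper1.GY4
import Groth.Agent.Helper9.ProperOverC
import Groth.Agent.Helper9.RelCoh1
import Groth.Agent.Lead.StalkSupp
import Groth.Agent.Lead.PushSupp
import Groth.Agent.Helper4.SN2

/-!
# GY6: supports proper over the base: Serre property, inverse and direct images under proper
morphisms
-/

set_option autoImplicit false
set_option linter.style.haveILetI false
set_option linter.unusedSectionVars false

universe u

open CategoryTheory CategoryTheory.Limits AlgebraicGeometry Opposite TopologicalSpace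

namespace Groth.Agent.Helper1.GY

section Serre

variable {S Z : Scheme.{u}} (q : Z ⟶ S) [LocallyOfFiniteType q]

/-- "support proper over the base" is a Serre-type property of coherent modules -/
theorem serreP_properSupport :
    SerreP (fun M : Z.Modules => ClSub.IsProperOver q (CohB1.support M)) where
  epi f _ _ hN hP := Groth.Agent.Helper1.PropSupp.isProperOver_of_subset q _ _ hP
    (Groth.Agent.S0020.result Z _ hN.2) (Groth.Agent.Helper1.Dev.support_subset_of_epi f)
  mono f _ hM _ hP := Groth.Agent.Helper1.PropSupp.isProperOver_of_subset q _ _ hP
    (Groth.Agent.S0020.result Z _ hM.2) (Groth.Agent.Helper1.Dev.support_subset_of_mono f)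
  biprod hM hN hPM hPN := Groth.Agent.Helper1.PropSupp.isProperOver_of_subset q _ _
    (Groth.Agent.Helper1.PropSupp.isProperOver_union q _ _ hPM hPN)
    (Groth.Agent.S0020.result Z _ (Groth.Agent.Helper1.Dev.isCoh_biprod hM hN).2)
    (Groth.Agent.Helper4.SN.support_biprod_subset _ _)

end Serre

section Images

variable {S Y Z : Scheme.{u}} (g : Y ⟶ Z) (q : Z ⟶ S) [IsProper g]

/-- the inverse image of a module of finite type with support proper over the base, under a
proper morphism, has support proper over the base -/
theorem isProperOver_support_pullback [LocallyOfFiniteType q] (M : Z.Modules)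
    [M.IsQuasicoherent] (hM : CohB1.IsFT M)
    (h : ClSub.IsProperOver q (CohB1.support M)) :
    ClSub.IsProperOver (g ≫ q) (CohB1.support ((Scheme.Modules.pullback g).obj M)) := by
  haveI : Coh.IsQCoh M := ‹M.IsQuasicoherent›
  rw [Groth.Agent.Lead.StalkPull.main_support g M hM]
  have hcl : IsClosed (CohB1.support M) := Groth.Agent.S0020.result Z M hM
  have hcl' : IsClosed (g.base ⁻¹' CohB1.support M) := hcl.preimage g.continuous
  refine Groth.Agent.Helper9.ProperOverC.isProperOver_comp g q _
    (Groth.Agent.Helper9.RelCoh1.isProperOver_of_isProper g _ hcl') ?_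
  refine Groth.Agent.Helper1.PropSupp.isProperOver_of_subset q _ _ h ?_ ?_
  · exact g.isClosedMap _ hcl'
  · exact Set.image_preimage_subset _ _

/-- the support of the direct image of a module of finite type under a closed map lies in the
image of the support -/
theorem support_pushforward_subset (F : Y.Modules) (hF : CohB1.IsFT F) :
    CohB1.support ((Scheme.Modules.pushforward g).obj F) ⊆ g '' CohB1.support F := by
  intro y hy
  have hcl : IsClosed (CohB1.support F) := Groth.Agent.S0020.result Y F hF
  have hcl' : IsClosed {x : Y | Nontrivial (F.presheaf.stalk x)} := by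
    have : {x : Y | Nontrivial (F.presheaf.stalk x)} = CohB1.support F := by
      ext x
      exact not_subsingleton_iff_nontrivial.symm
    rw [this]
    exact hcl
  obtain ⟨x, hx, hxn⟩ := Groth.Agent.Lead.PushSupp.exists_nontrivial_of_nontrivial_push g F
    g.isClosedMap hcl' y (not_subsingleton_iff_nontrivial.1 hy)
  exact ⟨x, not_subsingleton_iff_nontrivial.2 hxn, hx⟩

/-- the direct image of a coherent module with support proper over the base, under a proper
morphism, has support proper over the base -/
theorem isProperOver_support_pushforward [IsSeparated q] [LocallyOfFiniteType q] (F : Y.Modules)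
    (hF : CohB1.IsFT F) (hpF : CohB1.IsFT ((Scheme.Modules.pushforward g).obj F))
    (h : ClSub.IsProperOver (g ≫ q) (CohB1.support F)) :
    ClSub.IsProperOver q (CohB1.support ((Scheme.Modules.pushforward g).obj F)) :=
  Groth.Agent.Helper1.PropSupp.isProperOver_of_subset q _ _
    (Groth.Agent.Helper9.ProperOverC.isProperOver_image_of_comp g q _ h)
    (Groth.Agent.S0020.result Z _ hpF) (support_pushforward_subset g F hF)

end Images

end Groth.Agent.Helper1.GY
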