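import Mathlib
import Groth.Agent.Helper1.GY6
import Groth.Agent.Helper1.GX3
import Groth.Agent.Helper6.HProj

/-!
# GY7: Grothendieck's existence theorem with proper support: the induction step and the
Noetherian induction
-/

set_option autoImplicit false
set_option linter.style.haveILetI false
set_option linter.unusedSectionVars false

universe u

open CategoryTheory CategoryTheory.Limits AlgebraicGeometry Opposite TopologicalSpace

namespace Groth.Agent.Helper1.GY

open Groth.Agent.Helper1.Form Groth.Agent.Helper1.QuotPush Groth.Agent.Helper4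
open Groth.Agent.Lead.GEx Groth.Agent.Helper1.GK Groth.Agent.Lead.Thick

section Transfer

variable {A : Type u} [CommRing A] [IsNoetherianRing A] (I : Ideal A)
variable {Z Z₁ : Scheme.{u}} [Z.Over (Spec (CommRingCat.of A))]
  [Z₁.Over (Spec (CommRingCat.of A))] (j : Z₁ ⟶ Z) [IsClosedImmersion j]
  [j.IsOver (Spec (CommRingCat.of A))]

/-- the direct image of an algebraization of the restriction to a closed subscheme `Z₁` of a
coherent formal module killed by the ideal of `Z₁` is an algebraization -/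
theorem completion_push_iso [IsNoetherian Z] [IsNoetherian Z₁]
    (G : ℕᵒᵖ ⥤ Z.Modules) (hG : Formal.IsCohFormal I G)
    (hk : ∀ n : ℕ, Kills j (G.obj (op n)) 1) (M₁ : Z₁.Modules)
    (θ : Formal.completion I M₁ ≅ G ⋙ Scheme.Modules.pullback j) :
    Nonempty (Formal.completion I ((Scheme.Modules.pushforward j).obj M₁) ≅ G) := by
  obtain ⟨κ, -⟩ := exists_completion_iso (I := I) ((Scheme.Modules.pushforward j).obj M₁)
    (Formal.completion I M₁ ⋙ Scheme.Modules.pushforward j)
    (fun n => (Scheme.Modules.pushforward j).map (cq I M₁ n))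
    (fun n => Groth.Agent.Helper1.AZ.isQuot_push j (isQuot_cq I M₁ n))
    (fun n => by
      show (Scheme.Modules.pushforward j).map (cq I M₁ (n + 1)) ≫
        (Scheme.Modules.pushforward j).map ((Formal.completion I M₁).map _) = _
      rw [← Functor.map_comp]
      congr 1
      exact cq_τ I M₁ n)
  haveI : ∀ n : ℕᵒᵖ, IsIso ((ηSys j G).app n) := fun n => by
    haveI : (G.obj (op n.unop)).IsQuasicoherent := (hG.1 n.unop).1
    exact isIso_η_of_kills j (G.obj (op n.unop)) (hk n.unop)
  haveI : IsIso (ηSys j G) := NatIso.isIso_of_isIso_app _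
  exact ⟨κ ≪≫ Functor.isoWhiskerRight θ (Scheme.Modules.pushforward j) ≪≫
    (Functor.associator _ _ _) ≪≫ (asIso (ηSys j G)).symm⟩

end Transfer

section Step

variable (A : Type u) [CommRing A] [IsNoetherianRing A] (I : Ideal A) [IsAdicComplete I A]

/-- **the induction step** -/
theorem step (Z : Scheme.{u}) [Z.Over (Spec (CommRingCat.of A))]
    [IsSeparated (Z ↘ Spec (CommRingCat.of A))]
    [LocallyOfFiniteType (Z ↘ Spec (CommRingCat.of A))]
    [QuasiCompact (Z ↘ Spec (CommRingCat.of A))]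
    (H : ∀ 𝒦 : Z.IdealSheafData, 𝒦.support ≠ ⊤ →
      letI : 𝒦.subscheme.Over (Spec (CommRingCat.of A)) :=
        ⟨𝒦.subschemeι ≫ (Z ↘ Spec (CommRingCat.of A))⟩
      ∀ G₁ : ℕᵒᵖ ⥤ 𝒦.subscheme.Modules, Formal.IsCohFormal I G₁ →
        ClSub.IsProperOver (𝒦.subscheme ↘ Spec (CommRingCat.of A))
          (CohB1.support (G₁.obj (op 0))) →
        ∃ M₁ : 𝒦.subscheme.Modules, Coh.IsCoh M₁ ∧
          ClSub.IsProperOver (𝒦.subscheme ↘ Spec (CommRingCat.of A)) (CohB1.support M₁) ∧
          Nonempty (Formal.completion I M₁ ≅ G₁))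
    (G : ℕᵒᵖ ⥤ Z.Modules) (hG : Formal.IsCohFormal I G)
    (hGs : ClSub.IsProperOver (Z ↘ Spec (CommRingCat.of A)) (CohB1.support (G.obj (op 0)))) :
    ∃ M : Z.Modules, Coh.IsCoh M ∧
      ClSub.IsProperOver (Z ↘ Spec (CommRingCat.of A)) (CohB1.support M) ∧
      Nonempty (Formal.completion I M ≅ G) := by
  haveI : IsNoetherian Z := Groth.Agent.Helper1.PropSuppFin.isNoetherian_X A Z
  by_cases hZ : IsEmpty Z
  · refine ⟨G.obj (op 0), hG.1 0, hGs, ⟨IsZero.iso ?_ ?_⟩⟩
    · exact Functor.isZero _ (fun n => Groth.Agent.Helper1.GX.isZero_of_isEmpty _)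
    · exact Functor.isZero _ (fun n => Groth.Agent.Helper1.GX.isZero_of_isEmpty _)
  rw [not_isEmpty_iff] at hZ
  obtain ⟨q, hq⟩ : ∃ q : Z ⟶ Spec (CommRingCat.of A), q = (Z ↘ Spec (CommRingCat.of A)) :=
    ⟨_, rfl⟩
  obtain ⟨n, Z', π, j, himm, hcomm, hπ, -, U, hU, hiso⟩ :=
    Groth.Agent.S0025.result (Z ↘ Spec (CommRingCat.of A))
  letI : Z'.Over (Spec (CommRingCat.of A)) := ⟨π ≫ (Z ↘ Spec (CommRingCat.of A))⟩
  haveI : π.IsOver (Spec (CommRingCat.of A)) := ⟨rfl⟩
  haveI : IsNoetherian Z' := Groth.Agent.Helper1.GP.isNoetherian_of_isProper π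
  -- the scheme-theoretic image of `Z'` in projective space
  haveI : QuasiCompact j := inferInstance
  haveI := Groth.Agent.Helper6.HProj.isProper_toBase n (Spec (CommRingCat.of A))
  letI : j.image.Over (Spec (CommRingCat.of A)) :=
    ⟨j.imageι ≫ CohB1.ProjSpaceOver.toBase n (Spec (CommRingCat.of A))⟩
  haveI : j.toImage.IsOver (Spec (CommRingCat.of A)) := ⟨by
    show j.toImage ≫ j.imageι ≫ CohB1.ProjSpaceOver.toBase n (Spec (CommRingCat.of A)) = _
    rw [← Category.assoc, Scheme.Hom.toImage_imageι, hcomm]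
    rfl⟩
  haveI : IsProper (j.image ↘ Spec (CommRingCat.of A)) := by
    show IsProper (j.imageι ≫ CohB1.ProjSpaceOver.toBase n (Spec (CommRingCat.of A)))
    infer_instance
  -- algebraize the inverse image of `G`
  have hG' : Formal.IsCohFormal I (G ⋙ Scheme.Modules.pullback π) :=
    isCohFormal_pullback (f := π) G hG
  haveI : (G.obj (op 0)).IsQuasicoherent := (hG.1 0).1
  have hG's : ClSub.IsProperOver (Z' ↘ Spec (CommRingCat.of A))
      (CohB1.support ((G ⋙ Scheme.Modules.pullback π).obj (op 0))) :=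
    isProperOver_support_pullback π (Z ↘ Spec (CommRingCat.of A)) (G.obj (op 0)) (hG.1 0).2 hGs
  obtain ⟨F, hF, hFs, ⟨θ⟩⟩ := exists_algebraization_of_open A I j.toImage
    (G ⋙ Scheme.Modules.pullback π) hG' hG's
  -- the ideal of the complement of `U`
  obtain ⟨u, hu⟩ : ∃ u : Z, u ∈ U := by
    obtain ⟨u, -, hu⟩ := hU.inter_open_nonempty Set.univ isOpen_univ Set.univ_nonempty
    exact ⟨u, hu⟩
  obtain ⟨K₁, hK₁⟩ : ∃ K₁ : Z.IdealSheafData, (K₁.support : Set Z) = (U : Set Z)ᶜ :=
    ⟨Scheme.IdealSheafData.vanishingIdeal ⟨(U : Set Z)ᶜ, U.isOpen.isClosed_compl⟩,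
      Scheme.IdealSheafData.coe_support_vanishingIdeal _⟩
  have hcompl : K₁.support.compl = U := by
    ext x
    show x ∈ (K₁.support : Set Z)ᶜ ↔ x ∈ (U : Set Z)
    rw [hK₁, compl_compl]
  haveI : IsIso (π ∣_ K₁.support.compl) := by
    rw [hcompl]
    exact hiso
  obtain ⟨α, hα⟩ := Groth.Agent.Helper1.GP.pushpull I π K₁ G hG F hF θ.symm
  have hH : Coh.IsCoh ((Scheme.Modules.pushforward π).obj F) :=
    Groth.Agent.Helper1.HT.isCoh_pushforward_of_isProper π F hF
  have hHP : ClSub.IsProperOver (Z ↘ Spec (CommRingCat.of A))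
      (CohB1.support ((Scheme.Modules.pushforward π).obj F)) :=
    isProperOver_support_pushforward π (Z ↘ Spec (CommRingCat.of A)) F hF.2 hH.2 hFs
  refine tricky_P (IsNoetherian.noetherian I)
    (serreP_properSupport (Z ↘ Spec (CommRingCat.of A))) K₁ hG hGs
    (fun e M N hM hN _ _ hPM ψ => ?_) (fun e G'' hG'' hk'' hP'' => ?_) α hH hHP hα
  · -- fullness
    have hs : ClSub.IsProperOver (Z ↘ Spec (CommRingCat.of A))
        (CohB1.support M ∩ CohB1.support N) :=
      Groth.Agent.Helper1.PropSupp.isProperOver_of_subset _ _ _ hPM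
        ((Groth.Agent.S0020.result Z M hM.2).inter (Groth.Agent.S0020.result Z N hN.2))
        Set.inter_subset_left
    exact (Groth.Agent.Helper1.HomCompl.main_support I M N hM hN hs ψ).exists
  · -- essential surjectivity on the closed subscheme `V(K₁^e)`
    have hne : (K₁ ^ e).support ≠ ⊤ := by
      intro h
      have h1 : u ∈ ((K₁ ^ e).support : Set Z) := by
        rw [h]
        trivial
      have h2 : (K₁ ^ e).support ≤ K₁.support := by
        rcases Nat.eq_zero_or_pos e with rfl | he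
        · rw [pow_zero, Scheme.IdealSheafData.one_eq_top, Scheme.IdealSheafData.support_top]
          exact bot_le
        · rw [Scheme.IdealSheafData.support_pow _ _ he.ne']
      have h3 : u ∈ (K₁.support : Set Z) := h2 h1
      rw [hK₁] at h3
      exact h3 hu
    letI : (K₁ ^ e).subscheme.Over (Spec (CommRingCat.of A)) :=
      ⟨(K₁ ^ e).subschemeι ≫ (Z ↘ Spec (CommRingCat.of A))⟩
    haveI : (K₁ ^ e).subschemeι.IsOver (Spec (CommRingCat.of A)) := ⟨rfl⟩
    haveI : IsNoetherian (K₁ ^ e).subscheme :=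
      Groth.Agent.Helper1.GP.isNoetherian_of_isProper (K₁ ^ e).subschemeι
    haveI : (G''.obj (op 0)).IsQuasicoherent := (hG''.1 0).1
    have hG₁s : ClSub.IsProperOver ((K₁ ^ e).subscheme ↘ Spec (CommRingCat.of A))
        (CohB1.support ((G'' ⋙ Scheme.Modules.pullback (K₁ ^ e).subschemeι).obj (op 0))) :=
      isProperOver_support_pullback (K₁ ^ e).subschemeι (Z ↘ Spec (CommRingCat.of A))
        (G''.obj (op 0)) (hG''.1 0).2 hP''
    obtain ⟨M₁, hM₁, hM₁s, ⟨θ₁⟩⟩ := H (K₁ ^ e) hne
      (G'' ⋙ Scheme.Modules.pullback (K₁ ^ e).subschemeι)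
      (isCohFormal_pullback (f := (K₁ ^ e).subschemeι) G'' hG'') hG₁s
    have hM : Coh.IsCoh ((Scheme.Modules.pushforward (K₁ ^ e).subschemeι).obj M₁) :=
      Groth.Agent.Helper1.Dev.isCoh_push (K₁ ^ e).subschemeι M₁ hM₁
    refine ⟨(Scheme.Modules.pushforward (K₁ ^ e).subschemeι).obj M₁, hM,
      (Groth.Agent.Helper1.Dev.kills_one_iff (K₁ ^ e) _).1
        (Groth.Agent.Helper1.Dev.kills_push (K₁ ^ e).subschemeι M₁),
      isProperOver_support_pushforward (K₁ ^ e).subschemeι (Z ↘ Spec (CommRingCat.of A)) M₁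
        hM₁.2 hM.2 hM₁s,
      completion_push_iso I (K₁ ^ e).subschemeι G'' hG''
        (fun n => kills_of_killedByIdeal (K₁ ^ e) (hk'' n)) M₁ θ₁⟩

end Step

section Main

variable (A : Type u) [CommRing A] [IsNoetherianRing A] (I : Ideal A) [IsAdicComplete I A]
variable (X : Scheme.{u}) [X.Over (Spec (CommRingCat.of A))]
  [IsSeparated (X ↘ Spec (CommRingCat.of A))]
  [LocallyOfFiniteType (X ↘ Spec (CommRingCat.of A))]
  [QuasiCompact (X ↘ Spec (CommRingCat.of A))]

/-- algebraizability with proper supports on all closed subschemes with given underlying closed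
set -/
def AlgOn (T : Closeds X) : Prop :=
  ∀ (Z : Scheme.{u}) [Z.Over (Spec (CommRingCat.of A))] (i : Z ⟶ X) [IsClosedImmersion i]
    [i.IsOver (Spec (CommRingCat.of A))], Set.range i.base = (T : Set X) →
    ∀ G : ℕᵒᵖ ⥤ Z.Modules, Formal.IsCohFormal I G →
      ClSub.IsProperOver (Z ↘ Spec (CommRingCat.of A)) (CohB1.support (G.obj (op 0))) →
      ∃ M : Z.Modules, Coh.IsCoh M ∧
        ClSub.IsProperOver (Z ↘ Spec (CommRingCat.of A)) (CohB1.support M) ∧
        Nonempty (Formal.completion I M ≅ G)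

theorem algOn (T : Closeds X) : AlgOn A I X T := by
  haveI : IsNoetherian X := Groth.Agent.Helper1.PropSuppFin.isNoetherian_X A X
  induction T using WellFoundedLT.induction with
  | ind T ih =>
    intro Z _ i _ _ hrange G hG hGs
    haveI : IsSeparated (Z ↘ Spec (CommRingCat.of A)) := by
      rw [← comp_over i (Spec (CommRingCat.of A))]
      infer_instance
    haveI : LocallyOfFiniteType (Z ↘ Spec (CommRingCat.of A)) := by
      rw [← comp_over i (Spec (CommRingCat.of A))]
      infer_instance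
    haveI : QuasiCompact (Z ↘ Spec (CommRingCat.of A)) := by
      rw [← comp_over i (Spec (CommRingCat.of A))]
      infer_instance
    refine step A I Z (fun 𝒦 h𝒦 => ?_) G hG hGs
    letI : 𝒦.subscheme.Over (Spec (CommRingCat.of A)) :=
      ⟨𝒦.subschemeι ≫ (Z ↘ Spec (CommRingCat.of A))⟩
    haveI : (𝒦.subschemeι ≫ i).IsOver (Spec (CommRingCat.of A)) :=
      ⟨by rw [Category.assoc, comp_over i (Spec (CommRingCat.of A))]; rfl⟩
    intro G₁ hG₁ hG₁s
    have hcl : IsClosed (Set.range (𝒦.subschemeι ≫ i).base) :=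
      (𝒦.subschemeι ≫ i).isClosedEmbedding.isClosed_range
    have hlt : (⟨Set.range (𝒦.subschemeι ≫ i).base, hcl⟩ : Closeds X) < T := by
      refine lt_of_le_of_ne ?_ ?_
      · rintro _ ⟨w, rfl⟩
        show _ ∈ (T : Set X)
        rw [← hrange]
        exact ⟨𝒦.subschemeι.base w, rfl⟩
      · intro heq
        -- a point outside the support of `𝒦`
        obtain ⟨z, hz⟩ : ∃ z : Z, z ∉ (𝒦.support : Set Z) := by
          by_contra hcon
          simp only [not_exists, not_not] at hcon
          exact h𝒦 (Closeds.ext (Set.eq_univ_of_forall hcon))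
        have h1 : i.base z ∈ (T : Set X) := by
          rw [← hrange]
          exact ⟨z, rfl⟩
        rw [← heq] at h1
        obtain ⟨w, hw⟩ := h1
        have h2 : 𝒦.subschemeι.base w = z := i.isClosedEmbedding.injective hw
        apply hz
        rw [← Scheme.IdealSheafData.range_subschemeι]
        exact ⟨w, h2⟩
    exact ih _ hlt 𝒦.subscheme (𝒦.subschemeι ≫ i) rfl G₁ hG₁ hG₁s

/-- **Grothendieck's existence theorem with proper support** (S0799) -/
theorem exists_algebraization_properSupport (G : ℕᵒᵖ ⥤ X.Modules)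
    (hG : Formal.IsCohFormal I G)
    (hGs : ClSub.IsProperOver (X ↘ Spec (CommRingCat.of A)) (CohB1.support (G.obj (op 0)))) :
    ∃ M : X.Modules, Coh.IsCoh M ∧
      ClSub.IsProperOver (X ↘ Spec (CommRingCat.of A)) (CohB1.support M) ∧
      Nonempty (Formal.completion I M ≅ G) := by
  refine algOn A I X ⊤ X (𝟙 X) ?_ G hG hGs
  simp

end Main

end Groth.Agent.Helper1.GY
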