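import Mathlib
import Groth.Agent.Helper1.GY7
import Groth.Agent.Helper1.AZ4

/-!
# GY8: algebraization of a closed formal subscheme, proper over the base, of a scheme separated
and of finite type over a complete Noetherian ring
-/

set_option autoImplicit false
set_option linter.style.haveILetI false
set_option linter.unusedSectionVars false

universe u

open CategoryTheory CategoryTheory.Limits AlgebraicGeometry Opposite

namespace Groth.Agent.Helper1.GY

open Groth.Agent.Helper1.Form Groth.Agent.Helper1.TW Groth.Agent.Helper1.QuotPush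
  Groth.Agent.Helper1.ZarIso Groth.Agent.Helper1.AZ

section Nakayama

variable {A : Type u} [CommRing A] [IsNoetherianRing A] (I : Ideal A) [IsAdicComplete I A]
  {X : Scheme.{u}} [X.Over (Spec (CommRingCat.of A))]
  [LocallyOfFiniteType (X ↘ Spec (CommRingCat.of A))]
  [QuasiCompact (X ↘ Spec (CommRingCat.of A))]

/-- a coherent module `C` with proper support on a scheme of finite type over a complete ring with
`C = I C` is zero -/
theorem isZero_of_forall_kills_PS (C : X.Modules) (hC : Coh.IsCoh C)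
    (hCs : ClSub.IsProperOver (X ↘ Spec (CommRingCat.of A)) (CohB1.support C))
    (h : ∀ (Z : X.Modules) (f : C ⟶ Z), Kills I f → f = 0) : IsZero C := by
  have hz : ∀ n : ℕ, IsZero (Formal.modPow I (n + 1) C) := by
    intro n
    refine Groth.Agent.Lead.GEx.isZero_of_quot_zero (J := I) (n + 1)
      (isQuot_modPowπ I (n + 1) C).killedBy ?_
    intro Z f hf
    haveI := (isQuot_modPowπ I (n + 1) C).epi
    have h1 : Formal.modPowπ I (n + 1) C ≫ f = 0 := h Z _ (hf.comp_left _)
    rw [← cancel_epi (Formal.modPowπ I (n + 1) C), h1, comp_zero]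
  have hs : ClSub.IsProperOver (X ↘ Spec (CommRingCat.of A))
      (CohB1.support C ∩ CohB1.support C) := by
    rw [Set.inter_self]
    exact hCs
  obtain ⟨φ, -, huniq⟩ := Groth.Agent.Helper1.HomCompl.main_support I C C hC hC hs (𝟙 _)
  have h1 : (𝟙 C : C ⟶ C) = φ := huniq _ (fun n => (hz n).eq_of_tgt _ _)
  have h2 : (0 : C ⟶ C) = φ := huniq _ (fun n => (hz n).eq_of_tgt _ _)
  exact (IsZero.iff_id_eq_zero C).2 (h1.trans h2.symm)

/-- **Nakayama for epimorphisms** towards a coherent module with proper support -/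
theorem epi_of_epi_comp_modPowπ_PS {W M : X.Modules} (hW : Coh.IsCoh W) (hM : Coh.IsCoh M)
    (hMs : ClSub.IsProperOver (X ↘ Spec (CommRingCat.of A)) (CohB1.support M))
    (p : W ⟶ M) (h : Epi (p ≫ Formal.modPowπ I 1 M)) : Epi p := by
  haveI : IsLocallyNoetherian X :=
    LocallyOfFiniteType.isLocallyNoetherian (X ↘ Spec (CommRingCat.of A))
  have hC : Coh.IsCoh (cokernel p) := Groth.Agent.Lead.PerfLib.isCoh_cokernel hW hM p
  have hCs : ClSub.IsProperOver (X ↘ Spec (CommRingCat.of A)) (CohB1.support (cokernel p)) :=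
    (serreP_properSupport (X ↘ Spec (CommRingCat.of A))).epi (cokernel.π p) hM hC hMs
  have hz : IsZero (cokernel p) := by
    refine isZero_of_forall_kills_PS I _ hC hCs ?_
    intro Z f hf
    have hq : IsQuot I (Formal.modPowπ I 1 M) := by
      have := isQuot_modPowπ I 1 M
      rwa [pow_one] at this
    obtain ⟨g, hg⟩ := hq.fac (cokernel.π p ≫ f) (hf.comp_left _)
    have h1 : (p ≫ Formal.modPowπ I 1 M) ≫ g = 0 := by
      rw [Category.assoc, hg, cokernel.condition_assoc, zero_comp]
    have h2 : g = 0 := by rw [← cancel_epi (p ≫ Formal.modPowπ I 1 M), h1, comp_zero]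
    rw [h2, comp_zero] at hg
    rw [← cancel_epi (cokernel.π p), ← hg, comp_zero]
  exact Preadditive.epi_of_isZero_cokernel p hz

end Nakayama

variable (A : Type u) [CommRing A] [IsNoetherianRing A] (I : Ideal A) [IsAdicComplete I A]
  {T : Scheme.{u}} [T.Over (Spec (CommRingCat.of A))]
  [IsSeparated (T ↘ Spec (CommRingCat.of A))]
  [LocallyOfFiniteType (T ↘ Spec (CommRingCat.of A))]
  [QuasiCompact (T ↘ Spec (CommRingCat.of A))]
  (Xs : ℕ → Scheme.{u}) (p : (k : ℕ) → (Xs k ⟶ Spec (CommRingCat.of (A ⧸ I ^ (k + 1)))))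
  (i : (k : ℕ) → (Xs k ⟶ Xs (k + 1)))
  (hcart : ∀ k, IsPullback (i k) (p k) (p (k + 1)) (CohB1.specQuotTrans I k))
  (c : (k : ℕ) → (Xs k ⟶ T)) (hcl : ∀ k, IsClosedImmersion (c k))
  (hcp : ∀ k, c k ≫ (T ↘ Spec (CommRingCat.of A)) = p k ≫ CohB1.specQuot I k)
  (hc : ∀ k, i k ≫ c (k + 1) = c k)
  (hp0 : IsProper (c 0 ≫ (T ↘ Spec (CommRingCat.of A))))

include hcart hcl hcp hc hp0 in
/-- **algebraization of a closed formal subscheme proper over the base** -/
theorem exists_algebraization_closed_PS :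
    ∃ (Y : Scheme.{u}) (j : Y ⟶ T) (e : (k : ℕ) → (Xs k ⟶ Y)), IsClosedImmersion j ∧
      IsProper (j ≫ (T ↘ Spec (CommRingCat.of A))) ∧
      (∀ k, e k ≫ j = c k) ∧ (∀ k, e k = i k ≫ e (k + 1)) ∧
      ∀ k, IsPullback (e k) (p k) (j ≫ (T ↘ Spec (CommRingCat.of A))) (CohB1.specQuot I k) := by
  letI instO : ∀ k, (Xs k).Over (Spec (CommRingCat.of A)) :=
    fun k => ⟨p k ≫ CohB1.specQuot I k⟩
  haveI instC : ∀ k, (c k).IsOver (Spec (CommRingCat.of A)) := fun k => ⟨hcp k⟩
  haveI := hcl
  haveI : IsNoetherian T := Groth.Agent.Helper1.PropSuppFin.isNoetherian_X A T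
  have hsq : ∀ k, IsPullback (i k) (p k) (Xs (k + 1) ↘ Spec (CommRingCat.of A))
      (Spec.map (CommRingCat.ofHom (Ideal.Quotient.mk (I ^ (k + 1))))) :=
    isPullback_level A I Xs p i hcart
  let N : ∀ k, (Xs k).Modules := fun k => Coh.structureModule (Xs k)
  let u : ∀ k, N (k + 1) ⟶ (Scheme.Modules.pushforward (i k)).obj (N k) :=
    fun k => unitToPush (i k)
  have hu : ∀ k, IsQuot (I ^ (k + 1)) (u k) := fun k => isQuot_unitToPush (I ^ (k + 1)) (hsq k)
  have hk : ∀ k, Formal.KilledBy (I ^ (k + 1)) (N k) :=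
    fun k => killedBy_of_over_eq (I ^ (k + 1)) (p k) rfl (N k)
  have hN : ∀ k, Coh.IsCoh (N k) := fun k => Groth.Agent.Helper1.Dev.isCoh_structureModule _
  let G : ℕᵒᵖ ⥤ T.Modules := towSys i c hc N u
  have hG : Formal.IsCohFormal I G := isCohFormal_towSys I i c hc N u hN hk hu
  -- the support of the bottom term
  have hr0 : ClSub.IsProperOver (T ↘ Spec (CommRingCat.of A)) (Set.range (c 0)) :=
    (Groth.Agent.Lead.ProperOver.isProperOver_iff_of_range_eq (T ↘ Spec (CommRingCat.of A))
      (c 0) _ rfl).2 hp0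
  have hGs : ClSub.IsProperOver (T ↘ Spec (CommRingCat.of A)) (CohB1.support (G.obj (op 0))) :=
    Groth.Agent.Helper1.PropSupp.isProperOver_of_subset _ _ _ hr0
      (Groth.Agent.S0020.result T _ (hG.1 0).2)
      (Groth.Agent.Helper1.Dev.support_push_subset (c 0) (N 0))
  obtain ⟨M, hM, hMs, ⟨ε⟩⟩ := exists_algebraization_properSupport A I T G hG hGs
  have hO : Coh.IsCoh (Coh.structureModule T) := Groth.Agent.Helper1.Dev.isCoh_structureModule T
  haveI : (Coh.structureModule T).IsQuasicoherent := hO.1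
  haveI : M.IsQuasicoherent := hM.1
  -- the maps from the structure sheaf
  let ρ : ∀ k : ℕ, Coh.structureModule T ⟶ (Scheme.Modules.pushforward (c k)).obj (N k) :=
    fun k => unitToPush (c k)
  have hρ : ∀ k, ρ (k + 1) ≫ G.map (homOfLE (Nat.le_add_right k 1)).op = ρ k := by
    intro k
    have h1 : G.map (homOfLE (Nat.le_add_right k 1)).op = towTr i c hc N u k :=
      towSys_map_succ i c hc N u k
    rw [h1]
    exact unitToPush_comp_congr (i k) (c (k + 1)) (c k) (hc k)
  obtain ⟨π, hπ⟩ := Groth.Agent.Lead.GEx.exists_completion_hom (I := I)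
    (Coh.structureModule T) G hG.2.1 ρ hρ
  have hs : ClSub.IsProperOver (T ↘ Spec (CommRingCat.of A))
      (CohB1.support (Coh.structureModule T) ∩ CohB1.support M) :=
    Groth.Agent.Helper1.PropSupp.isProperOver_of_subset _ _ _ hMs
      ((Groth.Agent.S0020.result T _ hO.2).inter (Groth.Agent.S0020.result T M hM.2))
      Set.inter_subset_right
  obtain ⟨φ, hφ, -⟩ := Groth.Agent.Helper1.HomCompl.main_support I (Coh.structureModule T) M
    hO hM hs (π ≫ ε.inv)
  let εk : ∀ k : ℕ, Formal.modPow I (k + 1) M ≅ (Scheme.Modules.pushforward (c k)).obj (N k) :=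
    fun k => ε.app (op k)
  have star : ∀ n, φ ≫ Formal.modPowπ I (n + 1) M ≫ (εk n).hom = ρ n := by
    intro n
    have h1 := hφ n
    have h2 : ε.inv.app (op n) ≫ ε.hom.app (op n) = 𝟙 _ := by
      rw [← NatTrans.comp_app, ε.inv_hom_id, NatTrans.id_app]
    have h3 : (π ≫ ε.inv).app (op n) ≫ ε.hom.app (op n) = π.app (op n) := by
      rw [NatTrans.comp_app, Category.assoc, h2, Category.comp_id]
    have e1 : φ ≫ Formal.modPowπ I (n + 1) M ≫ (εk n).hom =
        (φ ≫ Formal.modPowπ I (n + 1) M) ≫ ε.hom.app (op n) := (Category.assoc _ _ _).symm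
    have e2 : (φ ≫ Formal.modPowπ I (n + 1) M) ≫ ε.hom.app (op n) =
        (Formal.modPowπ I (n + 1) (Coh.structureModule T) ≫ (π ≫ ε.inv).app (op n)) ≫
            ε.hom.app (op n) := congrArg (fun z => z ≫ ε.hom.app (op n)) h1.symm
    have e3 : (Formal.modPowπ I (n + 1) (Coh.structureModule T) ≫ (π ≫ ε.inv).app (op n)) ≫
            ε.hom.app (op n) = Formal.modPowπ I (n + 1) (Coh.structureModule T) ≫
            ((π ≫ ε.inv).app (op n) ≫ ε.hom.app (op n)) := Category.assoc _ _ _
    have e4 : Formal.modPowπ I (n + 1) (Coh.structureModule T) ≫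
            ((π ≫ ε.inv).app (op n) ≫ ε.hom.app (op n)) =
          Formal.modPowπ I (n + 1) (Coh.structureModule T) ≫ π.app (op n) :=
      congrArg (fun z => Formal.modPowπ I (n + 1) (Coh.structureModule T) ≫ z) h3
    exact e1.trans (e2.trans (e3.trans (e4.trans (hπ n))))
  -- `φ` is an epimorphism
  haveI hφepi : Epi φ := by
    apply epi_of_epi_comp_modPowπ_PS I hO hM hMs φ
    haveI : Epi (ρ 0) := by
      show Epi (unitToPush (c 0))
      rw [← clSub_unitToPush_eq]
      exact Groth.Agent.Helper1.HB.epi_unitToPush (c 0)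
    have h1 : (φ ≫ Formal.modPowπ I 1 M) ≫ (εk 0).hom = ρ 0 :=
      (Category.assoc _ _ _).trans (star 0)
    haveI : Epi ((φ ≫ Formal.modPowπ I 1 M) ≫ (εk 0).hom) := by
      rw [h1]; infer_instance
    have h2 : φ ≫ Formal.modPowπ I 1 M =
        ((φ ≫ Formal.modPowπ I 1 M) ≫ (εk 0).hom) ≫ (εk 0).inv := by
      rw [Category.assoc, Iso.hom_inv_id, Category.comp_id]
    rw [h2]
    infer_instance
  -- the ideal
  haveI : (kernel φ).IsQuasicoherent :=
    Groth.Agent.Helper4.QcohLimits.isQuasicoherent_kernel φ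
  obtain ⟨D, -, e₀, he₀⟩ := Groth.Agent.Lead.CartSec.exists_ideal_of_mono (kernel.ι φ)
  haveI : Epi (ClSub.toSubscheme D) := Groth.Agent.Lead.QuotSeq.epi_toSubscheme D
  obtain ⟨μ, hμ⟩ := exists_iso_of_kernel_iso φ (ClSub.toSubscheme D) e₀ he₀
  let j : D.subscheme ⟶ T := D.subschemeι
  have hμ' : φ ≫ μ.hom = unitToPush j := by
    rw [hμ]
    exact clSub_unitToPush_eq j
  -- the factorizations
  have H : ∀ k, j.ker ≤ (c k).ker := by
    intro k
    refine ker_le_of_factor j (c k)
      (μ.inv ≫ Formal.modPowπ I (k + 1) M ≫ (εk k).hom) ?_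
    rw [← hμ', Category.assoc, Iso.hom_inv_id_assoc]
    exact star k
  let e : ∀ k, Xs k ⟶ D.subscheme := fun k => IsClosedImmersion.lift j (c k) (H k)
  have hej : ∀ k, e k ≫ j = c k := fun k => IsClosedImmersion.lift_fac j (c k) (H k)
  -- properness
  have hjp : IsProper (j ≫ (T ↘ Spec (CommRingCat.of A))) := by
    have hsub : Set.range j ⊆ CohB1.support M := by
      rintro _ ⟨w, rfl⟩
      rw [Groth.Agent.Helper1.Dev.support_eq_of_iso μ]
      exact (Groth.Agent.Helper4.NApx77.mem_support_push_iff j _ w).2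
        (Groth.Agent.Helper5.RedDense.mem_support_structureModule _ w)
    have h1 : ClSub.IsProperOver (T ↘ Spec (CommRingCat.of A)) (Set.range j) :=
      Groth.Agent.Helper1.PropSupp.isProperOver_of_subset _ _ _ hMs
        j.isClosedEmbedding.isClosed_range hsub
    exact (Groth.Agent.Lead.ProperOver.isProperOver_iff_of_range_eq
      (T ↘ Spec (CommRingCat.of A)) j _ rfl).1 h1
  refine ⟨D.subscheme, j, e, inferInstance, hjp, hej, fun k => ?_, fun k => ?_⟩
  · rw [← cancel_mono j, hej, Category.assoc, hej, hc]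
  · -- the cartesian square
    letI instY : (D.subscheme).Over (Spec (CommRingCat.of A)) :=
      ⟨j ≫ (T ↘ Spec (CommRingCat.of A))⟩
    haveI : j.IsOver (Spec (CommRingCat.of A)) := ⟨rfl⟩
    let g : D.subscheme ⟶ Spec (CommRingCat.of A) := j ≫ (T ↘ Spec (CommRingCat.of A))
    let b : pullback g (CohB1.specQuot I k) ⟶ D.subscheme := pullback.fst g (CohB1.specQuot I k)
    let q : pullback g (CohB1.specQuot I k) ⟶ Spec (CommRingCat.of (A ⧸ I ^ (k + 1))) :=
      pullback.snd g (CohB1.specQuot I k)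
    have hsqY : IsPullback b q (D.subscheme ↘ Spec (CommRingCat.of A))
        (Spec.map (CommRingCat.ofHom (Ideal.Quotient.mk (I ^ (k + 1))))) :=
      IsPullback.of_hasPullback g (CohB1.specQuot I k)
    have hb : IsQuot (I ^ (k + 1)) (unitToPush b) := isQuot_unitToPush (I ^ (k + 1)) hsqY
    haveI : IsClosedImmersion (CohB1.specQuot I k) := isClosedImmersion_specQuot A I k
    haveI : IsClosedImmersion b := inferInstanceAs (IsClosedImmersion (pullback.fst g _))
    letI instYk : (pullback g (CohB1.specQuot I k)).Over (Spec (CommRingCat.of A)) :=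
      ⟨b ≫ g⟩
    haveI : b.IsOver (Spec (CommRingCat.of A)) := ⟨rfl⟩
    have hP : IsQuot (I ^ (k + 1)) (pushMap b j) :=
      (isQuot_push j hb).comp_iso _
    have hQ1 : IsQuot (I ^ (k + 1)) (Formal.modPowπ I (k + 1) M ≫ (εk k).hom) :=
      (isQuot_modPowπ I (k + 1) M).comp_iso _
    have hQ2 : IsQuot (I ^ (k + 1)) (μ.hom ≫ pushMap b j) := hP.iso_comp _
    let θ := hQ1.iso hQ2
    have hθ : (Formal.modPowπ I (k + 1) M ≫ (εk k).hom) ≫ θ.hom = μ.hom ≫ pushMap b j :=
      hQ1.fac_iso_hom hQ2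
    have hθ' : unitToPush (c k) ≫ θ.hom = unitToPush (b ≫ j) := by
      have h1 : unitToPush (c k) = φ ≫ (Formal.modPowπ I (k + 1) M ≫ (εk k).hom) :=
        (star k).symm
      rw [h1, Category.assoc, hθ, ← Category.assoc, hμ']
      exact unitToPush_pushMap b j
    have hker : (b ≫ j).ker = (c k).ker := (ker_eq_of_iso (c k) (b ≫ j) θ hθ').symm
    let lam : Xs k ⟶ pullback g (CohB1.specQuot I k) :=
      IsClosedImmersion.lift (b ≫ j) (c k) hker.le
    haveI : IsIso lam := IsClosedImmersion.isIso_lift (b ≫ j) (c k) hker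
    have hlam : lam ≫ b ≫ j = c k := IsClosedImmersion.lift_fac (b ≫ j) (c k) hker.le
    have h1 : lam ≫ b = e k := by
      rw [← cancel_mono j, Category.assoc, hlam, hej]
    have h2 : lam ≫ q = p k := by
      rw [← cancel_mono (CohB1.specQuot I k), Category.assoc]
      have hcond : b ≫ g = q ≫ CohB1.specQuot I k := pullback.condition
      rw [← hcond, ← Category.assoc, h1, ← hcp k, ← hej k, Category.assoc]
    refine IsPullback.of_iso_pullback ⟨?_⟩ (asIso lam) h1 h2
    rw [← Category.assoc, hej, hcp]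

end Groth.Agent.Helper1.GY
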