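import Mathlib
import Groth.Agent.Helper1.GY9
import Groth.Agent.Helper1.GX5
import Groth.Agent.Helper1.HensCouple2
import Groth.Agent.Helper1.PicLoc4
import Groth.Agent.S0040

/-!
# GY10: algebraization of morphisms (S0039): a compatible system of morphisms `X_n ⟶ Y_n` from the
thickenings of a proper scheme to those of a separated scheme of finite type is induced by a
morphism `X ⟶ Y`
-/

set_option autoImplicit false
set_option linter.style.haveILetI false
set_option linter.unusedSectionVars false

universe u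

open CategoryTheory CategoryTheory.Limits AlgebraicGeometry Opposite TopologicalSpace

namespace Groth.Agent.Helper1.GY

open Groth.Agent.Helper1.GX

variable (A : Type u) [CommRing A] [IsNoetherianRing A] (I : Ideal A) [IsAdicComplete I A]
  {X Y : Scheme.{u}} (f : X ⟶ Spec (CommRingCat.of A)) (h : Y ⟶ Spec (CommRingCat.of A))
  [IsProper f] [IsSeparated h] [LocallyOfFiniteType h] [QuasiCompact h]
  (g : (n : ℕ) → (CohB1.thick f I n ⟶ CohB1.thick h I n))
  (hg₁ : ∀ n, g n ≫ CohB1.thickToBase h I n = CohB1.thickToBase f I n)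
  (hg₂ : ∀ n, CohB1.thickTrans f I n ≫ g (n + 1) = g n ≫ CohB1.thickTrans h I n)

include hg₁ hg₂ in
/-- **algebraization of morphisms** (S0039) -/
theorem exists_morphism :
    ∃ φ : X ⟶ Y, φ ≫ h = f ∧ ∀ n, CohB1.thickι f I n ≫ φ = g n ≫ CohB1.thickι h I n := by
  haveI : ∀ k, IsClosedImmersion (CohB1.specQuot I k) :=
    Groth.Agent.Helper1.TW.isClosedImmersion_specQuot A I
  haveI hclι : ∀ k, IsClosedImmersion (CohB1.thickι f I k) := fun k =>
    inferInstanceAs (IsClosedImmersion (pullback.fst f (CohB1.specQuot I k)))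
  -- the product
  obtain ⟨q, hq⟩ : ∃ q : pullback f h ⟶ Spec (CommRingCat.of A), q = pullback.fst f h ≫ f :=
    ⟨_, rfl⟩
  haveI : IsSeparated q := by rw [hq]; infer_instance
  haveI : LocallyOfFiniteType q := by rw [hq]; infer_instance
  haveI : QuasiCompact q := by rw [hq]; infer_instance
  haveI hclq : ∀ k, IsClosedImmersion (CohB1.thickι q I k) := fun k =>
    inferInstanceAs (IsClosedImmersion (pullback.fst q (CohB1.specQuot I k)))
  -- the graphs
  have hcond : ∀ n, CohB1.thickι f I n ≫ f = (g n ≫ CohB1.thickι h I n) ≫ h := by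
    intro n
    have h1 : CohB1.thickι h I n ≫ h = CohB1.thickToBase h I n ≫ CohB1.specQuot I n :=
      pullback.condition
    have h2 : CohB1.thickι f I n ≫ f = CohB1.thickToBase f I n ≫ CohB1.specQuot I n :=
      pullback.condition
    rw [Category.assoc, h1, ← Category.assoc, hg₁ n, h2]
  obtain ⟨a, ha1, ha2⟩ : ∃ a : ∀ n, CohB1.thick f I n ⟶ pullback f h,
      (∀ n, a n ≫ pullback.fst f h = CohB1.thickι f I n) ∧
      (∀ n, a n ≫ pullback.snd f h = g n ≫ CohB1.thickι h I n) :=
    ⟨fun n => pullback.lift (CohB1.thickι f I n) (g n ≫ CohB1.thickι h I n) (hcond n),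
      fun n => pullback.lift_fst _ _ _, fun n => pullback.lift_snd _ _ _⟩
  have haq : ∀ n, a n ≫ q = CohB1.thickToBase f I n ≫ CohB1.specQuot I n := by
    intro n
    rw [hq, ← Category.assoc, ha1]
    exact pullback.condition
  obtain ⟨z, hz1, hz2⟩ : ∃ z : ∀ n, CohB1.thick f I n ⟶ CohB1.thick q I n,
      (∀ n, z n ≫ CohB1.thickι q I n = a n) ∧
      (∀ n, z n ≫ CohB1.thickToBase q I n = CohB1.thickToBase f I n) :=
    ⟨fun n => pullback.lift (a n) (CohB1.thickToBase f I n) (haq n),
      fun n => pullback.lift_fst _ _ _, fun n => pullback.lift_snd _ _ _⟩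
  have htr : ∀ n, CohB1.thickTrans f I n ≫ a (n + 1) = a n := by
    intro n
    apply pullback.hom_ext
    · rw [Category.assoc, ha1, ha1, thickTrans_thickι]
    · rw [Category.assoc, ha2, ha2, ← Category.assoc, hg₂, Category.assoc, thickTrans_thickι]
  have hw : ∀ n, CohB1.thickTrans f I n ≫ z (n + 1) = z n ≫ CohB1.thickTrans q I n := by
    intro n
    apply pullback.hom_ext
    · have e1 : (CohB1.thickTrans f I n ≫ z (n + 1)) ≫ CohB1.thickι q I (n + 1) = a n := by
        rw [Category.assoc, hz1, htr]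
      have e2 : (z n ≫ CohB1.thickTrans q I n) ≫ CohB1.thickι q I (n + 1) = a n := by
        rw [Category.assoc, thickTrans_thickι, hz1]
      exact e1.trans e2.symm
    · have e1 : (CohB1.thickTrans f I n ≫ z (n + 1)) ≫ CohB1.thickToBase q I (n + 1) =
          CohB1.thickToBase f I n ≫ CohB1.specQuotTrans I n := by
        rw [Category.assoc, hz2, thickTrans_thickToBase]
      have e2 : (z n ≫ CohB1.thickTrans q I n) ≫ CohB1.thickToBase q I (n + 1) =
          CohB1.thickToBase f I n ≫ CohB1.specQuotTrans I n := by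
        rw [Category.assoc, thickTrans_thickToBase, ← Category.assoc, hz2]
      exact e1.trans e2.symm
  have ht : ∀ n, IsPullback (CohB1.thickTrans f I n) (z n) (z (n + 1))
      (CohB1.thickTrans q I n) := by
    intro n
    refine IsPullback.of_bot ?_ (hw n) (isPullback_thickTrans I q n)
    rw [hz2, hz2]
    exact isPullback_thickTrans I f n
  haveI hacl : ∀ n, IsClosedImmersion (a n) := by
    intro n
    haveI : IsClosedImmersion (a n ≫ pullback.fst f h) := by rw [ha1]; infer_instance
    exact IsClosedImmersion.of_comp (a n) (pullback.fst f h)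
  have hzcl : ∀ n, IsClosedImmersion (z n) := by
    intro n
    haveI : IsClosedImmersion (z n ≫ CohB1.thickι q I n) := by rw [hz1]; infer_instance
    exact IsClosedImmersion.of_comp (z n) (CohB1.thickι q I n)
  have hp : IsProper (z 0 ≫ CohB1.thickToBase q I 0) := by
    rw [hz2]
    exact inferInstanceAs (IsProper (pullback.snd f (CohB1.specQuot I 0)))
  obtain ⟨W, i, w, hi, hip, hww, hsq⟩ := Groth.Agent.S0040.result A I q
    (fun n => CohB1.thick f I n) z (fun n => CohB1.thickTrans f I n) hzcl ht hp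
  haveI := hi
  -- the projection to `X`
  obtain ⟨pr, hpr⟩ : ∃ pr : W ⟶ X, pr = i ≫ pullback.fst f h := ⟨_, rfl⟩
  have hwi : ∀ n, w n ≫ i = a n := fun n => by rw [(hsq n).w, hz1]
  have hwpr : ∀ n, w n ≫ pr = CohB1.thickι f I n := fun n => by
    rw [hpr, ← Category.assoc, hwi, ha1]
  have hprf : pr ≫ f = i ≫ q := by rw [hpr, hq, Category.assoc]
  letI : X.Over (Spec (CommRingCat.of A)) := ⟨f⟩
  letI : W.Over (Spec (CommRingCat.of A)) := ⟨i ≫ q⟩
  haveI : pr.IsOver (Spec (CommRingCat.of A)) := ⟨hprf⟩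
  haveI : IsProper (X ↘ Spec (CommRingCat.of A)) := ‹IsProper f›
  haveI : IsProper (pr ≫ f) := by rw [hprf]; exact hip
  haveI : IsProper pr := IsProper.of_comp pr f
  -- the levels of `W`
  have hsqW : ∀ n, IsPullback (w n) (CohB1.thickToBase f I n) (W ↘ Spec (CommRingCat.of A))
      (Spec.map (CommRingCat.ofHom (Ideal.Quotient.mk (I ^ (n + 1))))) := by
    intro n
    have h1 : IsPullback (z n) (w n) (CohB1.thickι q I n) i := (hsq n).flip
    have h2 : IsPullback (CohB1.thickToBase q I n) (CohB1.thickι q I n) (CohB1.specQuot I n) q :=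
      (isPullback_thickι I q n).flip
    have h3 := (h1.paste_horiz h2).flip
    rw [hz2] at h3
    exact h3
  have hsqXn : ∀ n, IsPullback (CohB1.thickι f I n) (CohB1.thickToBase f I n)
      (X ↘ Spec (CommRingCat.of A))
      (Spec.map (CommRingCat.ofHom (Ideal.Quotient.mk (I ^ (n + 1))))) :=
    fun n => isPullback_thickι I f n
  -- finiteness
  haveI : IsFinite pr := by
    refine isFinite_of_finite_fibre A I (IsAdicComplete.le_jacobson_bot I) f f.isClosedMap pr ?_
    intro x hx
    apply Set.Subsingleton.finite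
    have hI0 : I ^ (0 + 1) = I := by rw [zero_add, pow_one]
    have hlift : ∀ w₁ : W, pr w₁ = x → ∃ x₀ : CohB1.thick f I 0, w 0 x₀ = w₁ := by
      intro w₁ hw₁
      have h1 := Groth.Agent.Helper1.PicLoc.range_of_isPullback (hsqW 0)
      have h2 : w₁ ∈ Set.range (w 0) := by
        rw [h1, Groth.Agent.Helper1.HensCouple.range_specMap_mk A (I ^ (0 + 1)), hI0]
        show (i ≫ q) w₁ ∈ PrimeSpectrum.zeroLocus (I : Set A)
        rw [← hprf, Scheme.Hom.comp_apply, hw₁]
        exact hx
      exact h2
    intro w₁ hw₁ w₂ hw₂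
    obtain ⟨x₁, rfl⟩ := hlift w₁ hw₁
    obtain ⟨x₂, rfl⟩ := hlift w₂ hw₂
    have e1 : CohB1.thickι f I 0 x₁ = x := by
      rw [← hwpr 0, Scheme.Hom.comp_apply]; exact hw₁
    have e2 : CohB1.thickι f I 0 x₂ = x := by
      rw [← hwpr 0, Scheme.Hom.comp_apply]; exact hw₂
    have e3 : x₁ = x₂ :=
      (CohB1.thickι f I 0).isClosedEmbedding.injective (e1.trans e2.symm)
    rw [e3]
  -- the projection is an isomorphism
  haveI : IsIso pr := isIso_of_levels I pr hsqW hsqXn (fun n => 𝟙 _)
    (fun n => by rw [hwpr, Category.id_comp])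
  refine ⟨inv pr ≫ i ≫ pullback.snd f h, ?_, fun n => ?_⟩
  · rw [Category.assoc, Category.assoc, ← pullback.condition, ← Category.assoc i, ← hpr,
      IsIso.inv_hom_id_assoc]
  · have h1 : CohB1.thickι f I n ≫ inv pr = w n := by
      rw [← hwpr n, Category.assoc, IsIso.hom_inv_id, Category.comp_id]
    rw [← Category.assoc, h1, ← Category.assoc, hwi, ha2]

end Groth.Agent.Helper1.GY
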