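import Mathlib
import Groth.Agent.Helper1.SP1

/-!
# Closed immersions of relative spectra
-/

set_option autoImplicit false
set_option linter.style.haveILetI false

namespace Groth.Agent.Helper1.SP

open CategoryTheory Limits AlgebraicGeometry TopologicalSpace Opposite RelSpec

universe u

noncomputable section

variable {S : Scheme.{u}} {A B : QCAlg S} (ψ : A ⟶ B)

theorem app_surjective_of_appLE {X Y : Scheme.{u}} (f : X ⟶ Y) (W W' : Y.Opens) (hW : W = W')
    (V : X.Opens) (e : V ≤ f ⁻¹ᵁ W') (e' : f ⁻¹ᵁ W' ≤ V)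
    (h : Function.Surjective (f.appLE W' V e).hom) : Function.Surjective (f.app W).hom := by
  subst hW
  obtain rfl : V = f ⁻¹ᵁ W := le_antisymm e e'
  rwa [Scheme.Hom.appLE_eq_app] at h

theorem surj_comp {R₁ R₂ R₃ : CommRingCat.{u}} (a : R₁ ⟶ R₂) (b : R₂ ⟶ R₃)
    (ha : Function.Surjective a.hom) (hb : Function.Surjective b.hom) :
    Function.Surjective (a ≫ b).hom := by
  rw [CommRingCat.hom_comp]
  exact hb.comp ha

theorem isClosedImmersion_specMap
    (hs : ∀ (V : S.Opens) (_ : IsAffineOpen V), Function.Surjective (ψ.hom.app (op V)).hom) :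
    IsClosedImmersion (QCAlg.specMap ψ) := by
  let U : S.affineOpens → A.spec.affineOpens := fun V => ⟨A.π ⁻¹ᵁ V.1, V.2.preimage A.π⟩
  have hU : ⨆ V, (U V : A.spec.Opens) = ⊤ := by
    change ⨆ V : S.affineOpens, A.π ⁻¹ᵁ (V : S.Opens) = ⊤
    rw [← Scheme.Hom.preimage_iSup, iSup_affineOpens_eq_top, Scheme.Hom.preimage_top]
  rw [HasAffineProperty.iff_of_iSup_eq_top (P := @IsClosedImmersion) U hU]
  intro V
  refine ⟨?_, ?_⟩
  · have : IsAffineOpen (QCAlg.specMap ψ ⁻¹ᵁ (A.π ⁻¹ᵁ V.1)) := by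
      rw [specMap_preimage]
      exact V.2.preimage B.π
    exact this
  · rw [morphismRestrict_appTop]
    have h1 : Function.Surjective ((QCAlg.specMap ψ).app ((U V).1.ι ''ᵁ ⊤)).hom := by
      refine app_surjective_of_appLE (QCAlg.specMap ψ) _ (A.π ⁻¹ᵁ V.1) ?_ (B.π ⁻¹ᵁ V.1)
        (specMap_preimage ψ V.1).ge (specMap_preimage ψ V.1).le
        (appLE_specMap_surjective ψ V.1 V.2 (hs V.1 V.2))
      rw [Scheme.Hom.image_top_eq_opensRange, Scheme.Opens.opensRange_ι]
    have : IsIso (B.spec.presheaf.map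
        (eqToHom (image_morphismRestrict_preimage (QCAlg.specMap ψ) (U V).1 ⊤)).op) := inferInstance
    exact surj_comp _ _ h1 ((ConcreteCategory.isIso_iff_bijective _).mp this).2

end

end Groth.Agent.Helper1.SP
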