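import Mathlib

/-!
# Pullback squares of schemes can be checked locally on the base
-/

set_option autoImplicit false
set_option linter.style.haveILetI false

namespace Groth.Agent.Helper1.LP

open CategoryTheory Limits AlgebraicGeometry TopologicalSpace Opposite

universe u

noncomputable section

theorem resLE_congr_hom {X Y : Scheme.{u}} {f g : X ⟶ Y} (h : f = g) (U : Y.Opens) (V : X.Opens)
    (e : V ≤ f ⁻¹ᵁ U) : f.resLE U V e = g.resLE U V (h ▸ e) := by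
  subst h; rfl

theorem le_fst_preimage {P X S S' : Scheme.{u}} {fst : P ⟶ X} {snd : P ⟶ S'} {p : X ⟶ S}
    {g : S' ⟶ S} (w : fst ≫ p = snd ≫ g) (V : S.Opens) (V' : S'.Opens) (hV : V' ≤ g ⁻¹ᵁ V) :
    snd ⁻¹ᵁ V' ≤ fst ⁻¹ᵁ (p ⁻¹ᵁ V) := by
  rw [← Scheme.Hom.comp_preimage, w, Scheme.Hom.comp_preimage]
  exact snd.preimage_mono hV

/-- restriction of a pullback square to opens -/
theorem isPullback_resLE {P X S S' : Scheme.{u}} {fst : P ⟶ X} {snd : P ⟶ S'} {p : X ⟶ S}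
    {g : S' ⟶ S} (H : IsPullback fst snd p g) (V : S.Opens) (V' : S'.Opens)
    (hV : V' ≤ g ⁻¹ᵁ V) :
    IsPullback (fst.resLE (p ⁻¹ᵁ V) (snd ⁻¹ᵁ V') (le_fst_preimage H.w V V' hV)) (snd ∣_ V')
      (p ∣_ V) (g.resLE V V' hV) := by
  have A := (isPullback_morphismRestrict snd V').flip
  have big := A.paste_horiz H
  have C := (isPullback_morphismRestrict p V).flip
  have e1 : (snd ⁻¹ᵁ V').ι ≫ fst =
      fst.resLE (p ⁻¹ᵁ V) (snd ⁻¹ᵁ V') (le_fst_preimage H.w V V' hV) ≫ (p ⁻¹ᵁ V).ι :=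
    (Scheme.Hom.resLE_comp_ι _ _).symm
  have e2 : V'.ι ≫ g = g.resLE V V' hV ≫ V.ι := (Scheme.Hom.resLE_comp_ι _ _).symm
  rw [e1, e2] at big
  refine IsPullback.of_right big ?_ C
  rw [← cancel_mono V.ι, Category.assoc, Category.assoc, morphismRestrict_ι,
    Scheme.Hom.resLE_comp_ι, Scheme.Hom.resLE_comp_ι_assoc, morphismRestrict_ι_assoc, H.w]

end

end Groth.Agent.Helper1.LP
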