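import Mathlib
import Groth.Agent.Helper1.LP1

/-!
# Pullback squares of schemes can be checked locally on the base, part 2
-/

set_option autoImplicit false
set_option linter.style.haveILetI false

namespace Groth.Agent.Helper1.LP

open CategoryTheory Limits AlgebraicGeometry TopologicalSpace Opposite

universe u

noncomputable section

theorem le_h_preimage {X X' S S' : Scheme.{u}} {h : X' ⟶ X} {p' : X' ⟶ S'} {p : X ⟶ S}
    {g : S' ⟶ S} (w : h ≫ p = p' ≫ g) (V : S.Opens) (V' : S'.Opens) (hV : V' ≤ g ⁻¹ᵁ V) :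
    p' ⁻¹ᵁ V' ≤ h ⁻¹ᵁ (p ⁻¹ᵁ V) := le_fst_preimage w V V' hV

/-- a commutative square of schemes which is a pullback over the members of a cover of the base
is a pullback -/
theorem isPullback_of_local {X X' S S' : Scheme.{u}} (h : X' ⟶ X) (p' : X' ⟶ S') (p : X ⟶ S)
    (g : S' ⟶ S) (w : h ≫ p = p' ≫ g) {ι : Type*} (V : ι → S.Opens) (V' : ι → S'.Opens)
    (hV : ∀ i, V' i ≤ g ⁻¹ᵁ V i) (hcov : ⨆ i, V' i = ⊤)
    (H : ∀ i, IsPullback (h.resLE (p ⁻¹ᵁ V i) (p' ⁻¹ᵁ V' i) (le_h_preimage w (V i) (V' i) (hV i)))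
      (p' ∣_ V' i) (p ∣_ V i) (g.resLE (V i) (V' i) (hV i))) :
    IsPullback h p' p g := by
  let c : X' ⟶ pullback p g := pullback.lift h p' w
  suffices hc : IsIso c from
    IsPullback.of_iso_pullback ⟨w⟩ (asIso c) (pullback.lift_fst _ _ _) (pullback.lift_snd _ _ _)
  have hcov' : ⨆ i, pullback.snd p g ⁻¹ᵁ V' i = ⊤ := by
    rw [← Scheme.Hom.preimage_iSup, hcov, Scheme.Hom.preimage_top]
  refine (IsZariskiLocalAtTarget.iff_of_iSup_eq_top (P := MorphismProperty.isomorphisms Scheme)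
    (fun i => pullback.snd p g ⁻¹ᵁ V' i) hcov').mpr (fun i => ?_)
  change IsIso (c ∣_ (pullback.snd p g ⁻¹ᵁ V' i))
  have Hs := isPullback_resLE (IsPullback.of_hasPullback p g) (V i) (V' i) (hV i)
  have hpre : c ⁻¹ᵁ (pullback.snd p g ⁻¹ᵁ V' i) = p' ⁻¹ᵁ V' i := by
    rw [← Scheme.Hom.comp_preimage, pullback.lift_snd]
  have key : c.resLE (pullback.snd p g ⁻¹ᵁ V' i) (p' ⁻¹ᵁ V' i) hpre.ge =
      ((H i).isoIsPullback _ _ Hs).hom := by
    apply Hs.hom_ext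
    · rw [IsPullback.isoIsPullback_hom_fst, Scheme.Hom.resLE_comp_resLE]
      exact resLE_congr_hom (pullback.lift_fst _ _ _) _ _ _
    · rw [IsPullback.isoIsPullback_hom_snd, ← Scheme.Hom.resLE_eq_morphismRestrict,
        Scheme.Hom.resLE_comp_resLE, ← Scheme.Hom.resLE_eq_morphismRestrict]
      exact resLE_congr_hom (pullback.lift_snd _ _ _) _ _ _
  have h1 : IsIso (c.resLE (pullback.snd p g ⁻¹ᵁ V' i) (p' ⁻¹ᵁ V' i) hpre.ge) := by
    rw [key]; infer_instance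
  have h2 : IsIso (X'.homOfLE hpre.ge) :=
    ⟨⟨X'.homOfLE hpre.le, by simp, by simp⟩⟩
  have h3 : c.resLE (pullback.snd p g ⁻¹ᵁ V' i) (p' ⁻¹ᵁ V' i) hpre.ge =
      X'.homOfLE hpre.ge ≫ c ∣_ (pullback.snd p g ⁻¹ᵁ V' i) := rfl
  rw [h3] at h1
  exact IsIso.of_isIso_comp_left (X'.homOfLE hpre.ge) _

end

end Groth.Agent.Helper1.LP
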