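import Mathlib
import Groth.Agent.Helper1.SP2
import Groth.Agent.Helper1.LP2
import Groth.Agent.Helper4.SpecQ

/-!
# Base change of relative spectra
-/

set_option autoImplicit false
set_option linter.style.haveILetI false

namespace Groth.Agent.Helper1.SP

open CategoryTheory Limits AlgebraicGeometry TopologicalSpace Opposite RelSpec
  Groth.Agent.Helper1.LP

universe u

noncomputable section

variable {S S' : Scheme.{u}} {g : S' ⟶ S} {A : QCAlg S} {B : QCAlg S'} (u : QHom g A B)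
  (h : B.spec ⟶ A.spec) (hh : IsSpecQMap u h)

/-- the chart as an isomorphism onto the preimage of the affine open -/
def chartIso (A : QCAlg S) (U : S.Opens) (hU : IsAffineOpen U) :
    Spec (A.presheaf.obj (op U)) ≅ (A.π ⁻¹ᵁ U : A.spec.Opens) :=
  IsOpenImmersion.isoOfRangeEq (A.ι U hU) (A.π ⁻¹ᵁ U).ι (by
    rw [Scheme.Opens.range_ι, A.π_preimage U hU]; rfl)

@[reassoc]
theorem chartIso_hom_ι (A : QCAlg S) (U : S.Opens) (hU : IsAffineOpen U) :
    (chartIso A U hU).hom ≫ (A.π ⁻¹ᵁ U).ι = A.ι U hU :=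
  IsOpenImmersion.isoOfRangeEq_hom_fac _ _ _

include hh in
theorem specQMap_comm : h ≫ A.π = B.π ≫ g :=
  Groth.Agent.Helper4.SpecQ.comp_π_of_isChartwise u h hh

include hh in
theorem isPullback_local (hu : IsQBaseChange u) (U : S.Opens) (hU : IsAffineOpen U)
    (U' : S'.Opens) (hU' : IsAffineOpen U') (hle : U' ≤ g ⁻¹ᵁ U) :
    IsPullback (h.resLE (A.π ⁻¹ᵁ U) (B.π ⁻¹ᵁ U') (le_h_preimage (specQMap_comm u h hh) U U' hle))
      (B.π ∣_ U') (A.π ∣_ U) (g.resLE U U' hle) := by
  have H0 := (isPullback_SpecMap_of_isPushout _ _ _ _ (hu U hU U' hU' hle)).flip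
  refine H0.of_iso (chartIso B U' hU') (chartIso A U hU) hU'.isoSpec.symm hU.isoSpec.symm
    ?_ ?_ ?_ ?_
  · rw [← cancel_mono (A.π ⁻¹ᵁ U).ι, Category.assoc, Category.assoc, chartIso_hom_ι,
      Scheme.Hom.resLE_comp_ι, chartIso_hom_ι_assoc]
    exact (hh U hU U' hU' hle).symm
  · rw [← cancel_mono U'.ι, Category.assoc, Category.assoc, morphismRestrict_ι,
      chartIso_hom_ι_assoc, Iso.symm_hom, hU'.isoSpec_inv_ι, B.ι_π]
  · rw [← cancel_mono U.ι, Category.assoc, Category.assoc, morphismRestrict_ι,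
      chartIso_hom_ι_assoc, Iso.symm_hom, hU.isoSpec_inv_ι, A.ι_π]
  · rw [← cancel_mono U.ι, Category.assoc, Category.assoc, Scheme.Hom.resLE_comp_ι,
      Iso.symm_hom, Iso.symm_hom, hU.isoSpec_inv_ι, hU'.isoSpec_inv_ι_assoc]
    exact IsAffineOpen.SpecMap_appLE_fromSpec g hU hU' hle

include hh in
/-- base change of relative spectra -/
theorem isPullback_specQMap (hu : IsQBaseChange u) : IsPullback h B.π A.π g := by
  refine isPullback_of_local h B.π A.π g (specQMap_comm u h hh)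
    (fun P : Groth.Agent.Helper4.SpecQ.Pair g => P.U) (fun P => P.U') (fun P => P.hle) ?_
    (fun P => isPullback_local u h hh hu P.U P.hU P.U' P.hU' P.hle)
  rw [eq_top_iff]
  intro x _
  obtain ⟨P, hP⟩ := Groth.Agent.Helper4.SpecQ.exists_pair g x
  exact Opens.mem_iSup.mpr ⟨P, hP⟩

end

end Groth.Agent.Helper1.SP
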