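import Mathlib
import Groth.Agent.Helper1.LQ1
import Groth.Agent.Helper1.SP3
import Groth.Agent.Helper1.SP2
import Groth.Agent.Helper1.ZarIso8
import Groth.Agent.Helper4.AffUP

/-!
# GY11: glue for relative spectra: closed immersions from surjective algebra homomorphisms, finite
type, and the direct image of the structure sheaf as the module of the direct image algebra
-/

set_option autoImplicit false
set_option linter.style.haveILetI false
set_option linter.unusedSectionVars false
set_option linter.unusedVariables false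

universe u

open CategoryTheory CategoryTheory.Limits AlgebraicGeometry Opposite TopologicalSpace RelSpec

namespace Groth.Agent.Helper1.GY

open Groth.Agent.Helper1.ZarIso Groth.Agent.Helper1.LQ Groth.Agent.Helper4

section ClosedImm

variable {X Y S : Scheme.{u}} (f : X ⟶ S) [IsAffineHom f] (g : Y ⟶ S) [IsAffineHom g]

/-- a morphism of schemes affine over `S` whose algebra homomorphism is surjective over the affine
opens of `S` is a closed immersion -/
theorem isClosedImmersion_of_algHom_surjective (h : Y ⟶ X) (w : h ≫ f = g)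
    (hs : ∀ (V : S.Opens) (_ : IsAffineOpen V),
      Function.Surjective ((AffAlg.algHom f g h w).app (op V)).hom) :
    IsClosedImmersion h := by
  let U : S.affineOpens → X.affineOpens := fun V => ⟨f ⁻¹ᵁ V.1, V.2.preimage f⟩
  have hU : ⨆ V, (U V : X.Opens) = ⊤ := by
    change ⨆ V : S.affineOpens, f ⁻¹ᵁ (V : S.Opens) = ⊤
    rw [← Scheme.Hom.preimage_iSup, iSup_affineOpens_eq_top, Scheme.Hom.preimage_top]
  rw [HasAffineProperty.iff_of_iSup_eq_top (P := @IsClosedImmersion) U hU]
  intro V
  have hpre : h ⁻¹ᵁ (f ⁻¹ᵁ V.1) = g ⁻¹ᵁ V.1 := by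
    rw [← Scheme.Hom.comp_preimage, w]
  refine ⟨?_, ?_⟩
  · have : IsAffineOpen (h ⁻¹ᵁ (f ⁻¹ᵁ V.1)) := by
      rw [hpre]
      exact V.2.preimage g
    exact this
  · rw [morphismRestrict_appTop]
    have h1 : Function.Surjective (h.app ((U V).1.ι ''ᵁ ⊤)).hom := by
      refine Groth.Agent.Helper1.SP.app_surjective_of_appLE h _ (f ⁻¹ᵁ V.1) ?_ (g ⁻¹ᵁ V.1)
        hpre.ge hpre.le ?_
      · rw [Scheme.Hom.image_top_eq_opensRange, Scheme.Opens.opensRange_ι]
      · have h2 := hs V.1 V.2
        rw [AffUP.algHom_app'] at h2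
        exact h2
    have : IsIso (Y.presheaf.map
        (eqToHom (image_morphismRestrict_preimage h (U V).1 ⊤)).op) := inferInstance
    exact Groth.Agent.Helper1.SP.surj_comp _ _ h1
      ((ConcreteCategory.isIso_iff_bijective _).mp this).2

end ClosedImm

section FT

variable {S : Scheme.{u}} (A : QCAlg S)

/-- the relative spectrum of a quasi-coherent algebra of finite type is locally of finite type -/
theorem locallyOfFiniteType_π
    (hft : ∀ (U : S.Opens) (_ : IsAffineOpen U), (A.str.app (op U)).hom.FiniteType) :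
    LocallyOfFiniteType A.π := by
  apply IsZariskiLocalAtTarget.of_forall_exists_morphismRestrict (P := @LocallyOfFiniteType)
  intro x
  obtain ⟨U, hU, hxU⟩ := QcohLimits.exists_affine_nhd x
  refine ⟨U, hxU, ?_⟩
  have h1 : (Groth.Agent.Helper1.SP.chartIso A U hU).hom ≫ (A.π ∣_ U) =
      Spec.map (A.str.app (op U)) ≫ hU.isoSpec.inv := by
    rw [← cancel_mono U.ι, Category.assoc, morphismRestrict_ι,
      Groth.Agent.Helper1.SP.chartIso_hom_ι_assoc, Category.assoc, hU.isoSpec_inv_ι, A.ι_π]
  have h2 : LocallyOfFiniteType (Spec.map (A.str.app (op U))) :=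
    (HasRingHomProperty.Spec_iff (P := @LocallyOfFiniteType)).mpr (hft U hU)
  have h3 : LocallyOfFiniteType ((Groth.Agent.Helper1.SP.chartIso A U hU).hom ≫ (A.π ∣_ U)) := by
    rw [h1]; infer_instance
  exact (MorphismProperty.cancel_left_of_respectsIso @LocallyOfFiniteType
    (Groth.Agent.Helper1.SP.chartIso A U hU).hom _).mp h3

end FT

section Dir

variable {X Y : Scheme.{u}} (c : Y ⟶ X) [QuasiCompact c] [QuasiSeparated c]

/-- the direct image of the structure sheaf is the module of the direct image algebra -/
noncomputable def pushToDir :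
    (Scheme.Modules.pushforward c).obj (Coh.structureModule Y) ⟶ (QCAlg.directImage c).toModule :=
  ⟨letI := (QCAlg.directImage c).moduleSect
   PresheafOfModules.homMk
    { app := fun U => AddCommGrpCat.ofHom (AddMonoidHom.id _)
      naturality := fun U V i => rfl }
    (fun U r m => rfl)⟩

/-- the inverse of `pushToDir` -/
noncomputable def dirToPush :
    (QCAlg.directImage c).toModule ⟶ (Scheme.Modules.pushforward c).obj (Coh.structureModule Y) :=
  ⟨letI := (QCAlg.directImage c).moduleSect
   PresheafOfModules.homMk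
    { app := fun U => AddCommGrpCat.ofHom (AddMonoidHom.id _)
      naturality := fun U V i => rfl }
    (fun U r m => rfl)⟩

lemma pushToDir_dirToPush : pushToDir c ≫ dirToPush c = 𝟙 _ := rfl

lemma dirToPush_pushToDir : dirToPush c ≫ pushToDir c = 𝟙 _ := rfl

instance : IsIso (pushToDir c) := ⟨dirToPush c, pushToDir_dirToPush c, dirToPush_pushToDir c⟩

/-- `pushToDir` is the identity on sections -/
lemma pushToDir_val_app (U : X.Opens)
    (x : Γ((Scheme.Modules.pushforward c).obj (Coh.structureModule Y), U)) :
    ((pushToDir c).val.app (op U)).hom x = x := rfl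

/-- compatibility of `pushToDir` with a morphism over `X` -/
theorem pushToDir_trans {Y₀ Y' : Scheme.{u}} (t : Y₀ ⟶ Y') (c' : Y' ⟶ X) (c : Y₀ ⟶ X)
    (e : t ≫ c' = c) [QuasiCompact c] [QuasiSeparated c] [QuasiCompact c'] [QuasiSeparated c'] :
    (Scheme.Modules.pushforward c').map (unitToPush t) ≫
      (Scheme.Modules.pushforwardComp t c').hom.app (Coh.structureModule Y₀) ≫
        (Scheme.Modules.pushforwardCongr e).hom.app (Coh.structureModule Y₀) ≫ pushToDir c =
      pushToDir c' ≫ QCAlg.Hom.toModuleMap (dirMap c' c t e) := by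
  subst e
  have h : (Scheme.Modules.pushforwardCongr (rfl : t ≫ c' = t ≫ c')).hom.app
      (Coh.structureModule Y₀) = 𝟙 _ := by
    ext U x
    simp
  rw [h, Category.id_comp]
  ext U x
  rfl

end Dir

end Groth.Agent.Helper1.GY
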