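import Mathlib
import Groth.Agent.Helper4.QAffSpec
import Groth.Agent.Helper1.SP2
import Groth.Agent.Helper1.SY12

/-!
# Affine morphisms are relative spectra; closed immersions into vector bundles
-/

set_option autoImplicit false
set_option linter.style.haveILetI false

namespace Groth.Agent.Helper1.VB

open CategoryTheory Limits AlgebraicGeometry TopologicalSpace Opposite RelSpec
open Groth.Agent.Helper4

universe u

noncomputable section

variable {X S : Scheme.{u}} (f : X ⟶ S) [IsAffineHom f]

/-- An affine morphism is the relative spectrum of its direct image algebra. -/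
theorem exists_iso_spec_directImage :
    ∃ (c : X ⟶ (QCAlg.directImage f).spec), IsIso c ∧ c ≫ (QCAlg.directImage f).π = f := by
  have hqa : MoreMor.IsQuasiAffineHom f := by
    refine ⟨inferInstance, fun V hV => ?_⟩
    haveI : IsAffine (f ⁻¹ᵁ V : Scheme.{u}) := IsAffineHom.isAffine_preimage (f := f) V hV
    infer_instance
  obtain ⟨c, e, hg, hqc, hoi⟩ := QAffSpec.mp f hqa
  refine ⟨c, ?_, e⟩
  let B := QCAlg.directImage f
  haveI := RelSpecIso.isIso_gammaMap B
  haveI : Epi c.base := by
    rw [TopCat.epi_iff_surjective]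
    intro y
    obtain ⟨U, hU, hyU, -⟩ :=
      exists_isAffineOpen_mem_and_subset (X := S) (x := B.π y) (U := ⊤) trivial
    have h1 := AffUP.ι_comp_eq_piece B.π f c e ⟨U, hU⟩
    rw [← hg] at h1
    unfold AffUP.piece at h1
    haveI : IsAffine (f ⁻¹ᵁ U : Scheme.{u}) := IsAffineHom.isAffine_preimage (f := f) U hU
    have hy : y ∈ Set.range (AffUP.isAffineOpen_preimage B.π ⟨U, hU⟩).fromSpec := by
      rw [IsAffineOpen.range_fromSpec]
      exact hyU
    obtain ⟨z, hz⟩ := hy
    haveI : IsIso (B.gammaMap.app (op U)) := inferInstance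
    have hU' : IsAffineOpen (f ⁻¹ᵁ U) := IsAffineHom.isAffine_preimage (f := f) U hU
    haveI : IsIso ((f ⁻¹ᵁ U).toSpecΓ) := by
      rw [← IsAffineOpen.isoSpec_hom hU']; infer_instance
    have hs1 : Function.Surjective (f ⁻¹ᵁ U).toSpecΓ := Scheme.Hom.surjective _
    have hs2 : Function.Surjective (Spec.map (B.gammaMap.app (op U))) := by
      haveI : IsIso (Spec.map (B.gammaMap.app (op U))) := inferInstance
      exact Scheme.Hom.surjective _
    obtain ⟨z', hz'⟩ := hs2 z
    obtain ⟨w, hw⟩ := hs1 z'
    refine ⟨(f ⁻¹ᵁ U).ι w, ?_⟩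
    have h2 := congrArg (fun φ : (f ⁻¹ᵁ U : Scheme.{u}) ⟶ B.spec => φ w) h1
    simp only [Scheme.Hom.comp_apply] at h2
    change c ((f ⁻¹ᵁ U).ι w) = y
    refine h2.trans ?_
    refine Eq.trans ?_ hz
    congr 1
    refine Eq.trans ?_ hz'
    exact congrArg (fun t => (Spec.map (B.gammaMap.app (op U))) t) hw
  exact IsOpenImmersion.isIso c

end

end Groth.Agent.Helper1.VB

namespace Groth.Agent.Helper1.VB

open CategoryTheory Limits AlgebraicGeometry TopologicalSpace Opposite RelSpec
open Groth.Agent.Helper1.SY

universe u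

noncomputable section

variable {S : Scheme.{u}} {E : S.Modules} [E.IsQuasicoherent] (B : QCAlg S) (φ : E ⟶ B.toModule)

/-- if `B(U)` is generated as a ring by the structure map and the image of `E(U)`, then
`Sym E → B` is surjective on `U` -/
theorem symDesc_app_surjective (U : S.Opens) (hU : IsAffineOpen U)
    (hgen : Subring.closure (Set.range (B.str.app (op U)).hom ∪
          Set.range (fun e : E.val.obj (op U) ↦
            (show B.presheaf.obj (op U) from (φ.val.app (op U)).hom e))) = ⊤) :
    Function.Surjective ((symDesc B φ).hom.app (op U)).hom := by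
  have hle : Subring.closure (Set.range (B.str.app (op U)).hom ∪
          Set.range (fun e : E.val.obj (op U) ↦
            (show B.presheaf.obj (op U) from (φ.val.app (op U)).hom e))) ≤
      (symLift B φ U).range := by
    rw [Subring.closure_le]
    rintro x (⟨c, rfl⟩ | ⟨e, rfl⟩)
    · exact ⟨algebraMap _ _ c, symLift_algebraMap B φ U c⟩
    · exact ⟨SymmetricAlgebra.ι _ _ e, symLift_ι B φ U e⟩
  rw [hgen] at hle
  intro b
  obtain ⟨x, hx⟩ := hle (Subring.mem_top b)
  refine ⟨symSec E U hU x, ?_⟩
  rw [symDesc_app B φ U hU, symSecInv_symSec]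
  exact hx

end

end Groth.Agent.Helper1.VB
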