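import Mathlib
import Groth.Agent.Helper1.GY8
import Groth.Agent.Helper1.GY11
import Groth.Agent.Helper1.GX9
import Groth.Agent.Helper1.SY13
import Groth.Agent.Helper1.VB1
import Groth.Agent.Helper1.HT12

/-!
# GY12: algebraization of a finite formal scheme, proper over the base, over a scheme separated
and of finite type over a complete Noetherian ring (S0041)
-/

set_option autoImplicit false
set_option linter.style.haveILetI false
set_option linter.unusedSectionVars false

universe u

open CategoryTheory CategoryTheory.Limits AlgebraicGeometry Opposite TopologicalSpace RelSpec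

namespace Groth.Agent.Helper1.GY

open Groth.Agent.Helper1.Form Groth.Agent.Helper1.TW Groth.Agent.Helper1.QuotPush
  Groth.Agent.Helper1.ZarIso Groth.Agent.Helper1.AZ Groth.Agent.Helper1.SY
  Groth.Agent.Helper1.LQ Groth.Agent.Helper4

section Tower

variable {A : Type u} [CommRing A] (I : Ideal A)
  {T : Scheme.{u}} [T.Over (Spec (CommRingCat.of A))]
  {Xs : ℕ → Scheme.{u}} [∀ k, (Xs k).Over (Spec (CommRingCat.of A))]
  (i : ∀ k, Xs k ⟶ Xs (k + 1))
  (c : ∀ k, Xs k ⟶ T) [∀ k, (c k).IsOver (Spec (CommRingCat.of A))]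
  (hc : ∀ k, i k ≫ c (k + 1) = c k)
  (N : ∀ k, (Xs k).Modules)
  (u : ∀ k, N (k + 1) ⟶ (Scheme.Modules.pushforward (i k)).obj (N k))

include I in
/-- the system of direct images along finite morphisms is a coherent formal module -/
theorem isCohFormal_towSys_finite [IsNoetherianRing A] [IsLocallyNoetherian T]
    [∀ k, IsFinite (c k)] (hN : ∀ k, Coh.IsCoh (N k))
    (hk : ∀ k, Formal.KilledBy (I ^ (k + 1)) (N k))
    (hu : ∀ k, IsQuot (I ^ (k + 1)) (u k)) :
    Formal.IsCohFormal I (towSys i c hc N u) := by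
  rw [isCohFormal_iff]
  refine ⟨fun k => ?_, fun k => ?_, fun k => ?_⟩
  · exact Groth.Agent.Helper1.HT.isCoh_pushforward_of_isProper (c k) (N k) (hN k)
  · exact killedBy_push (c k) (hk k)
  · have h1 : (towSys i c hc N u).map (homOfLE (Nat.le_succ k)).op = towTr i c hc N u k :=
      towSys_map_succ i c hc N u k
    rw [h1]
    unfold towTr
    obtain ⟨r, gen, hgen⟩ :=
      Submodule.fg_iff_exists_fin_generating_family.1 (IsNoetherian.noetherian (I ^ (k + 1)))
    have hgen' : Ideal.span (Set.range gen) = I ^ (k + 1) := hgen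
    haveI : (N (k + 1)).IsQuasicoherent := (hN (k + 1)).1
    have h2 : IsQuot (I ^ (k + 1)) ((Scheme.Modules.pushforward (c (k + 1))).map (u k)) := by
      have hq0' : IsQuot (Ideal.span (Set.range gen)) (u k) := hgen'.symm ▸ hu k
      exact hgen' ▸ Groth.Agent.Helper1.GX.isQuot_push_affine (c (k + 1)) gen hq0'
    exact h2.comp_iso ((Scheme.Modules.pushforwardComp (i k) (c (k + 1))).hom.app (N k) ≫
      (Scheme.Modules.pushforwardCongr (hc k)).hom.app (N k))

end Tower

variable (A : Type u) [CommRing A] [IsNoetherianRing A] (I : Ideal A) [IsAdicComplete I A]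
  {T : Scheme.{u}} [T.Over (Spec (CommRingCat.of A))]
  [IsSeparated (T ↘ Spec (CommRingCat.of A))]
  [LocallyOfFiniteType (T ↘ Spec (CommRingCat.of A))]
  [QuasiCompact (T ↘ Spec (CommRingCat.of A))]
  (Xs : ℕ → Scheme.{u}) (p : (k : ℕ) → (Xs k ⟶ Spec (CommRingCat.of (A ⧸ I ^ (k + 1)))))
  (i : (k : ℕ) → (Xs k ⟶ Xs (k + 1)))
  (hcart : ∀ k, IsPullback (i k) (p k) (p (k + 1)) (CohB1.specQuotTrans I k))
  (c : (k : ℕ) → (Xs k ⟶ T)) (hfin : ∀ k, IsFinite (c k))
  (hcp : ∀ k, c k ≫ (T ↘ Spec (CommRingCat.of A)) = p k ≫ CohB1.specQuot I k)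
  (hc : ∀ k, i k ≫ c (k + 1) = c k)
  (hp0 : IsProper (c 0 ≫ (T ↘ Spec (CommRingCat.of A))))

include hcart hfin hcp hc hp0 in
/-- **algebraization of a finite formal scheme proper over the base** -/
theorem exists_algebraization_finite_PS :
    ∃ (Y : Scheme.{u}) (j : Y ⟶ T) (e : (k : ℕ) → (Xs k ⟶ Y)), IsFinite j ∧
      IsProper (j ≫ (T ↘ Spec (CommRingCat.of A))) ∧
      (∀ k, e k ≫ j = c k) ∧ (∀ k, e k = i k ≫ e (k + 1)) ∧
      ∀ k, IsPullback (e k) (p k) (j ≫ (T ↘ Spec (CommRingCat.of A))) (CohB1.specQuot I k) := by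
  letI instO : ∀ k, (Xs k).Over (Spec (CommRingCat.of A)) :=
    fun k => ⟨p k ≫ CohB1.specQuot I k⟩
  haveI instC : ∀ k, (c k).IsOver (Spec (CommRingCat.of A)) := fun k => ⟨hcp k⟩
  haveI := hfin
  haveI : IsNoetherian T := Groth.Agent.Helper1.PropSuppFin.isNoetherian_X A T
  have hsq : ∀ k, IsPullback (i k) (p k) (Xs (k + 1) ↘ Spec (CommRingCat.of A))
      (Spec.map (CommRingCat.ofHom (Ideal.Quotient.mk (I ^ (k + 1))))) :=
    isPullback_level A I Xs p i hcart
  let N : ∀ k, (Xs k).Modules := fun k => Coh.structureModule (Xs k)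
  let u : ∀ k, N (k + 1) ⟶ (Scheme.Modules.pushforward (i k)).obj (N k) :=
    fun k => unitToPush (i k)
  have hu : ∀ k, IsQuot (I ^ (k + 1)) (u k) := fun k => isQuot_unitToPush (I ^ (k + 1)) (hsq k)
  have hk : ∀ k, Formal.KilledBy (I ^ (k + 1)) (N k) :=
    fun k => killedBy_of_over_eq (I ^ (k + 1)) (p k) rfl (N k)
  have hN : ∀ k, Coh.IsCoh (N k) := fun k => Groth.Agent.Helper1.Dev.isCoh_structureModule _
  let G : ℕᵒᵖ ⥤ T.Modules := towSys i c hc N u
  have hG : Formal.IsCohFormal I G := isCohFormal_towSys_finite I i c hc N u hN hk hu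
  -- the support of the bottom term
  have hr0 : ClSub.IsProperOver (T ↘ Spec (CommRingCat.of A)) ((c 0) '' Set.univ) :=
    Groth.Agent.Helper9.ProperOverC.isProperOver_image_of_comp (c 0)
      (T ↘ Spec (CommRingCat.of A)) _ ⟨isClosed_univ, by
        haveI := hp0
        infer_instance⟩
  have hGs : ClSub.IsProperOver (T ↘ Spec (CommRingCat.of A)) (CohB1.support (G.obj (op 0))) :=
    Groth.Agent.Helper1.PropSupp.isProperOver_of_subset _ _ _ hr0
      (Groth.Agent.S0020.result T _ (hG.1 0).2)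
      ((support_pushforward_subset (c 0) (N 0) (hN 0).2).trans
        (Set.image_mono (Set.subset_univ _)))
  obtain ⟨M, hM, hMs, ⟨ε⟩⟩ := exists_algebraization_properSupport A I T G hG hGs
  haveI : M.IsQuasicoherent := hM.1
  -- the vector bundle of `M`
  have hEft : LocallyOfFiniteType (symAlg M).π := by
    refine locallyOfFiniteType_π _ (fun U hU => ?_)
    haveI : Module.Finite Γ(T, U) Γ(M, U) := SecDict.finite_sections hU M hM.1 hM.2
    exact str_finiteType_of_finite (isSymAlg_symAlg M) U hU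
  letI : (symAlg M).spec.Over (Spec (CommRingCat.of A)) :=
    ⟨(symAlg M).π ≫ (T ↘ Spec (CommRingCat.of A))⟩
  haveI : (symAlg M).π.IsOver (Spec (CommRingCat.of A)) := ⟨rfl⟩
  haveI : IsSeparated ((symAlg M).spec ↘ Spec (CommRingCat.of A)) := by
    show IsSeparated ((symAlg M).π ≫ (T ↘ Spec (CommRingCat.of A)))
    infer_instance
  haveI : LocallyOfFiniteType ((symAlg M).spec ↘ Spec (CommRingCat.of A)) := by
    show LocallyOfFiniteType ((symAlg M).π ≫ (T ↘ Spec (CommRingCat.of A)))
    infer_instance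
  haveI : QuasiCompact ((symAlg M).spec ↘ Spec (CommRingCat.of A)) := by
    show QuasiCompact ((symAlg M).π ≫ (T ↘ Spec (CommRingCat.of A)))
    infer_instance
  -- the module maps
  let pm : ∀ k, M ⟶ (QCAlg.directImage (c k)).toModule := fun k =>
    Groth.Agent.Lead.GEx.cq I M k ≫ ε.hom.app (op k) ≫ pushToDir (c k)
  have hpm : ∀ k, pm (k + 1) ≫
      QCAlg.Hom.toModuleMap (dirMap (c (k + 1)) (c k) (i k) (hc k)) = pm k := by
    intro k
    have h1 : G.map (homOfLE (Nat.le_add_right k 1)).op = towTr i c hc N u k :=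
      towSys_map_succ i c hc N u k
    have h2 : towTr i c hc N u k ≫ pushToDir (c k) = pushToDir (c (k + 1)) ≫
        QCAlg.Hom.toModuleMap (dirMap (c (k + 1)) (c k) (i k) (hc k)) := by
      unfold towTr
      simp only [Category.assoc]
      exact pushToDir_trans (i k) (c (k + 1)) (c k) (hc k)
    have h3 : ε.hom.app (op (k + 1)) ≫ G.map (homOfLE (Nat.le_add_right k 1)).op =
        (Formal.completion I M).map (homOfLE (Nat.le_add_right k 1)).op ≫ ε.hom.app (op k) :=
      (ε.hom.naturality _).symm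
    have h4 : Groth.Agent.Lead.GEx.cq I M (k + 1) ≫
        (Formal.completion I M).map (homOfLE (Nat.le_add_right k 1)).op =
        Groth.Agent.Lead.GEx.cq I M k := Groth.Agent.Lead.GEx.cq_τ I M k
    have e1 : (Groth.Agent.Lead.GEx.cq I M (k + 1) ≫ ε.hom.app (op (k + 1))) ≫
        towTr i c hc N u k = Groth.Agent.Lead.GEx.cq I M k ≫ ε.hom.app (op k) :=
      (congrArg (fun z => (Groth.Agent.Lead.GEx.cq I M (k + 1) ≫ ε.hom.app (op (k + 1))) ≫ z)
        h1.symm).trans ((Category.assoc _ _ _).trans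
          ((congrArg (fun z => Groth.Agent.Lead.GEx.cq I M (k + 1) ≫ z) h3).trans
            ((Category.assoc _ _ _).symm.trans
              (congrArg (fun z => z ≫ ε.hom.app (op k)) h4))))
    have e3 : (Groth.Agent.Lead.GEx.cq I M (k + 1) ≫ ε.hom.app (op (k + 1))) ≫
        (pushToDir (c (k + 1)) ≫
          QCAlg.Hom.toModuleMap (dirMap (c (k + 1)) (c k) (i k) (hc k))) =
        (Groth.Agent.Lead.GEx.cq I M k ≫ ε.hom.app (op k)) ≫ pushToDir (c k) :=
      (congrArg (fun z => (Groth.Agent.Lead.GEx.cq I M (k + 1) ≫ ε.hom.app (op (k + 1))) ≫ z)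
        h2.symm).trans ((Category.assoc _ _ _).symm.trans
          (congrArg (fun z => z ≫ pushToDir (c k)) e1))
    simpa only [pm, Category.assoc] using e3
  -- surjectivity on sections
  have hpms : ∀ k (U : T.Opens), IsAffineOpen U → Function.Surjective ((pm k).app U) := by
    intro k U hU x
    haveI : Epi (Groth.Agent.Lead.GEx.cq I M k ≫ ε.hom.app (op k)) := by
      haveI := (Groth.Agent.Lead.GEx.isQuot_cq I M k).epi
      infer_instance
    haveI : (G.obj (op k)).IsQuasicoherent := (hG.1 k).1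
    obtain ⟨m, hm⟩ := QcohEpi.app_surjective_of_epi
      (Groth.Agent.Lead.GEx.cq I M k ≫ ε.hom.app (op k)) hU
      ((dirToPush (c k)).app U x)
    refine ⟨m, ?_⟩
    show (pushToDir (c k)).app U
      ((Groth.Agent.Lead.GEx.cq I M k ≫ ε.hom.app (op k)).app U m) = x
    rw [hm]
    rfl
  -- the algebra homomorphisms
  let ψ : ∀ k, symAlg M ⟶ QCAlg.directImage (c k) := fun k =>
    symDesc (QCAlg.directImage (c k)) (pm k)
  have hψ : ∀ k, ψ (k + 1) ≫ dirMap (c (k + 1)) (c k) (i k) (hc k) = ψ k := by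
    intro k
    apply symDesc_unique
    rw [toModuleMap_comp, ← Category.assoc, symJ_symDesc]
    exact hpm k
  have hψs : ∀ k (V : T.Opens), IsAffineOpen V →
      Function.Surjective ((ψ k).hom.app (op V)).hom := by
    intro k V hV
    apply Groth.Agent.Helper1.VB.symDesc_app_surjective _ _ V hV
    rw [eq_top_iff]
    intro b _
    obtain ⟨m, hm⟩ := hpms k V hV b
    exact Subring.subset_closure (Or.inr ⟨m, hm⟩)
  -- the morphisms to the vector bundle
  haveI := Groth.Agent.Helper4.RelSpecIso.isIso_gammaMap (symAlg M)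
  let ω : ∀ k, AffAlg.alg (symAlg M).π ⟶ AffAlg.alg (c k) := fun k =>
    (symAlg M).gammaMap ≫ (ψ k).hom
  have hω : ∀ k, (symAlg M).π.c ≫ ω k = (c k).c := by
    intro k
    show (symAlg M).π.c ≫ (symAlg M).gammaMap ≫ (ψ k).hom = _
    rw [← Category.assoc, (symAlg M).π_c_gammaMap]
    exact (ψ k).comm
  let d : ∀ k, Xs k ⟶ (symAlg M).spec := fun k => AffUP.ofAlgHom (symAlg M).π (c k) (ω k)
  have hd : ∀ k, d k ≫ (symAlg M).π = c k := fun k =>
    AffUP.ofAlgHom_comp (symAlg M).π (c k) (ω k) (hω k)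
  have hda : ∀ k, AffAlg.algHom (symAlg M).π (c k) (d k) (hd k) = ω k := fun k =>
    AffUP.algHom_ofAlgHom (symAlg M).π (c k) (ω k) (hω k)
  have hdcl : ∀ k, IsClosedImmersion (d k) := by
    intro k
    refine isClosedImmersion_of_algHom_surjective (symAlg M).π (c k) (d k) (hd k) ?_
    intro V hV
    rw [hda k]
    show Function.Surjective (((symAlg M).gammaMap ≫ (ψ k).hom).app (op V)).hom
    rw [NatTrans.comp_app, CommRingCat.hom_comp]
    refine (hψs k V hV).comp ?_
    haveI : IsIso ((symAlg M).gammaMap.app (op V)) := inferInstance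
    exact ((ConcreteCategory.isIso_iff_bijective ((symAlg M).gammaMap.app (op V))).mp
      inferInstance).2
  have hdc : ∀ k, i k ≫ d (k + 1) = d k := by
    intro k
    have w : (i k ≫ d (k + 1)) ≫ (symAlg M).π = c k := by
      rw [Category.assoc, hd, hc]
    refine AffUP.hom_ext (symAlg M).π (c k) _ _ w (hd k) ?_
    rw [hda k]
    have h1 := algHom_comp (symAlg M).π (c (k + 1)) (c k) (d (k + 1)) (hd (k + 1)) (i k) (hc k)
    refine h1.trans ?_
    rw [hda (k + 1)]
    show ((symAlg M).gammaMap ≫ (ψ (k + 1)).hom) ≫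
      (dirMap (c (k + 1)) (c k) (i k) (hc k)).hom = (symAlg M).gammaMap ≫ (ψ k).hom
    rw [Category.assoc]
    congr 1
    exact congrArg QCAlg.Hom.hom (hψ k)
  have hdp : ∀ k, d k ≫ ((symAlg M).spec ↘ Spec (CommRingCat.of A)) =
      p k ≫ CohB1.specQuot I k := by
    intro k
    show d k ≫ (symAlg M).π ≫ (T ↘ Spec (CommRingCat.of A)) = _
    rw [← Category.assoc, hd, hcp]
  have hp0' : IsProper (d 0 ≫ ((symAlg M).spec ↘ Spec (CommRingCat.of A))) := by
    have : d 0 ≫ ((symAlg M).spec ↘ Spec (CommRingCat.of A)) =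
        c 0 ≫ (T ↘ Spec (CommRingCat.of A)) := by
      show d 0 ≫ (symAlg M).π ≫ (T ↘ Spec (CommRingCat.of A)) = _
      rw [← Category.assoc, hd]
    rw [this]
    exact hp0
  obtain ⟨Y, j, e, hj, hjp, hej, hee, hsqe⟩ :=
    exists_algebraization_closed_PS A I Xs p i hcart d hdcl hdp hdc hp0'
  haveI := hj
  have hjp' : IsProper ((j ≫ (symAlg M).π) ≫ (T ↘ Spec (CommRingCat.of A))) := by
    rw [Category.assoc]
    exact hjp
  haveI : IsProper (j ≫ (symAlg M).π) :=
    IsProper.of_comp (j ≫ (symAlg M).π) (T ↘ Spec (CommRingCat.of A))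
  refine ⟨Y, j ≫ (symAlg M).π, e, ?_, hjp', fun k => ?_, hee, fun k => ?_⟩
  · rw [IsFinite.iff_isProper_and_isAffineHom]
    exact ⟨inferInstance, inferInstance⟩
  · rw [← Category.assoc, hej, hd]
  · have := hsqe k
    rw [Category.assoc]
    exact this

end Groth.Agent.Helper1.GY
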