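import Mathlib
import Groth.Agent.Helper1.GY8
import Groth.Agent.Helper1.FF3
import Groth.Agent.Helper1.ExtSh9
import Groth.Agent.Helper1.Seesaw6
import Groth.Agent.Helper1.HensCouple1
import Groth.Agent.Helper1.SerreFin1
import Groth.Agent.Helper4.PullUnit
import Groth.Agent.Helper4.TensorInv
import Groth.Agent.Helper6.HProj

/-!
# GY13: an invertible module on a scheme proper over a Noetherian ring `A` with `I` in the Jacobson
radical, trivial on all thickenings `X_n`, is trivial
-/

set_option autoImplicit false
set_option linter.style.haveILetI false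
set_option linter.unusedSectionVars false

universe u

open CategoryTheory CategoryTheory.Limits AlgebraicGeometry Opposite

namespace Groth.Agent.Helper1.GY

open Groth.Agent.Helper1.Form Groth.Agent.Helper1.PicLoc Groth.Agent.Helper1.FF

section Nakayama

variable {A : Type u} [CommRing A] [IsNoetherianRing A] (I : Ideal A)
  {X : Scheme.{u}} [X.Over (Spec (CommRingCat.of A))]
  [IsProper (X ↘ Spec (CommRingCat.of A))]

/-- a coherent module `C` on a scheme proper over a ring `A` with `C = I C`, `I` in the Jacobson
radical, is zero -/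
theorem isZero_of_forall_kills_jac (hI : I ≤ Ideal.jacobson ⊥) (C : X.Modules) (hC : Coh.IsCoh C)
    (h : ∀ (Z : X.Modules) (f : C ⟶ Z), Kills I f → f = 0) : IsZero C := by
  have hz : IsZero (Formal.modPow I 1 C) := by
    refine Groth.Agent.Lead.GEx.isZero_of_quot_zero (J := I) 1
      (by have := (isQuot_modPowπ I 1 C).killedBy; exact this) ?_
    intro Z f hf
    haveI := (isQuot_modPowπ I 1 C).epi
    have h1 : Formal.modPowπ I 1 C ≫ f = 0 := h Z _ (hf.comp_left _)
    rw [← cancel_epi (Formal.modPowπ I 1 C), h1, comp_zero]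
  apply Groth.Agent.Helper1.Dev.isZero_of_support_eq_empty
  by_contra hne
  have hne' : (CohB1.support C).Nonempty := Set.nonempty_iff_ne_empty.2 hne
  have hcl : IsClosed (CohB1.support C) := Groth.Agent.S0020.result X C hC.2
  obtain ⟨x, hx, hxI⟩ := Groth.Agent.Helper1.HensCouple.exists_mem_of_isClosed A I hI
    (X ↘ Spec (CommRingCat.of A)) (X ↘ Spec (CommRingCat.of A)).isClosedMap _ hcl hne'
  have hq : IsQuot I (Formal.modPowπ I 1 C) := by
    have := isQuot_modPowπ I 1 C
    rwa [pow_one] at this
  have h1 := mem_support_of_isQuot I C hC hq x hx hxI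
  rw [Groth.Agent.Helper1.Dev.support_eq_empty_of_isZero _ hz] at h1
  exact h1

/-- **Nakayama for epimorphisms** of coherent modules on a proper scheme over `A`, `I` in the
Jacobson radical -/
theorem epi_of_epi_comp_modPowπ_jac (hI : I ≤ Ideal.jacobson ⊥) {W M : X.Modules}
    (hW : Coh.IsCoh W) (hM : Coh.IsCoh M)
    (p : W ⟶ M) (h : Epi (p ≫ Formal.modPowπ I 1 M)) : Epi p := by
  haveI : LocallyOfFiniteType (X ↘ Spec (CommRingCat.of A)) := inferInstance
  haveI : IsLocallyNoetherian X :=
    LocallyOfFiniteType.isLocallyNoetherian (X ↘ Spec (CommRingCat.of A))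
  have hC : Coh.IsCoh (cokernel p) := Groth.Agent.Lead.PerfLib.isCoh_cokernel hW hM p
  have hz : IsZero (cokernel p) := by
    refine isZero_of_forall_kills_jac I hI _ hC ?_
    intro Z f hf
    have hq : IsQuot I (Formal.modPowπ I 1 M) := by
      have := isQuot_modPowπ I 1 M
      rwa [pow_one] at this
    obtain ⟨g, hg⟩ := hq.fac (cokernel.π p ≫ f) (hf.comp_left _)
    have h1 : (p ≫ Formal.modPowπ I 1 M) ≫ g = 0 := by
      rw [Category.assoc, hg, cokernel.condition_assoc, zero_comp]
    have h2 : g = 0 := by rw [← cancel_epi (p ≫ Formal.modPowπ I 1 M), h1, comp_zero]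
    rw [h2, comp_zero] at hg
    rw [← cancel_epi (cokernel.π p), ← hg, comp_zero]
  exact Preadditive.epi_of_isZero_cokernel p hz

end Nakayama

end Groth.Agent.Helper1.GY
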