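import Mathlib
import Groth.Agent.Helper1.GY13
import Groth.Agent.Helper1.GX5

/-!
# GY14: an invertible module on a scheme proper over a Noetherian ring `A` with `I` in the Jacobson
radical, trivial on all thickenings `X_n`, is trivial
-/

set_option autoImplicit false
set_option linter.style.haveILetI false
set_option linter.unusedSectionVars false

universe u

open CategoryTheory CategoryTheory.Limits AlgebraicGeometry Opposite

namespace Groth.Agent.Helper1.GY

open Groth.Agent.Helper1.Form Groth.Agent.Helper1.PicLoc Groth.Agent.Helper1.FF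

variable {A : Type u} [CommRing A] [IsNoetherianRing A] (I : Ideal A)
  {X : Scheme.{u}} (f : X ⟶ Spec (CommRingCat.of A)) [IsProper f]

theorem trivial_of_trivial_thick (hI : I ≤ Ideal.jacobson ⊥)
    (L : X.Modules) (hL : PicF.IsInvertible L)
    (htriv : ∀ N : ℕ, Nonempty ((Scheme.Modules.pullback (CohB1.thickι f I N)).obj L ≅
      Coh.structureModule (CohB1.thick f I N))) :
    Nonempty (L ≅ Coh.structureModule X) := by
  letI : X.Over (Spec (CommRingCat.of A)) := ⟨f⟩
  haveI : IsProper (X ↘ Spec (CommRingCat.of A)) := ‹IsProper f›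
  have hLc := Groth.Agent.Helper1.SerreFin.isCoh_of_isInvertible L hL
  have hOinv : PicF.IsInvertible (Coh.structureModule X) :=
    Groth.Agent.Helper4.TensorInv.isInvertible_structureModule
  have hOc := Groth.Agent.Helper1.SerreFin.isCoh_of_isInvertible _ hOinv
  obtain ⟨c, hc⟩ := FF.range_trH (I := I) L 0 hLc
  obtain ⟨φ⟩ := htriv c
  have hsq : IsPullback (CohB1.thickι f I c) (CohB1.thickToBase f I c)
      (X ↘ Spec (CommRingCat.of A))
      (Spec.map (CommRingCat.ofHom (Ideal.Quotient.mk (I ^ (c + 1))))) :=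
    Groth.Agent.Helper1.GX.isPullback_thickι I f c
  haveI : L.IsQuasicoherent := hLc.1
  haveI : (Coh.structureModule X).IsQuasicoherent := hOc.1
  have hq1 := isQuot_modPowπ I (c + 1) L
  have hq2 : IsQuot (I ^ (c + 1)) (unitN (CohB1.thickι f I c) L) :=
    isQuot_unitN (I ^ (c + 1)) hsq L
  have hq3 : IsQuot (I ^ (c + 1)) (unitN (CohB1.thickι f I c) (Coh.structureModule X)) :=
    isQuot_unitN (I ^ (c + 1)) hsq _
  let e : Coh.structureModule X ⟶ Formal.modPow I (c + 1) L :=
    unitN (CohB1.thickι f I c) (Coh.structureModule X) ≫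
      (Scheme.Modules.pushforward (CohB1.thickι f I c)).map
        ((Groth.Agent.Helper4.PullUnit.pullbackUnitIso (CohB1.thickι f I c)).hom ≫ φ.inv) ≫
      (hq1.iso hq2).inv
  haveI : Epi e := by
    haveI := hq3.epi
    exact epi_comp _ _
  -- the class of `e` in `H⁰`
  have h0 : (0 : ℕ) ≤ c := Nat.zero_le c
  have hmem : trH I L 0 h0 (ExtSh.evalH0A A _ e) ∈ LinearMap.range (θH I L 0 0) := by
    rw [← hc 0 c h0 (by omega)]
    exact ⟨_, rfl⟩
  obtain ⟨y, hy⟩ := hmem
  obtain ⟨s, rfl⟩ := ExtSh.evalH0A_surjective A L y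
  have hs : s ≫ Formal.modPowπ I (0 + 1) L = e ≫ trLE I L h0 := by
    apply ExtSh.evalH0A_injective A
    rw [ExtSh.evalH0A_comp, ExtSh.evalH0A_comp]
    exact hy
  haveI : Epi (trLE I L h0) := by
    haveI := (isQuot_modPowπ I (0 + 1) L).epi
    have h1 := modPowπ_trLE I L h0
    exact epi_of_epi_fac h1
  haveI : Epi (s ≫ Formal.modPowπ I 1 L) := by
    have : s ≫ Formal.modPowπ I 1 L = e ≫ trLE I L h0 := hs
    rw [this]
    exact epi_comp _ _
  haveI : Epi s := epi_of_epi_comp_modPowπ_jac I hI hOc hLc s inferInstance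
  haveI : IsIso s := Groth.Agent.Helper1.Seesaw.isIso_of_epi_of_isInvertible hOinv hL s
  exact ⟨(asIso s).symm⟩

end Groth.Agent.Helper1.GY
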