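import Mathlib
import Groth.Agent.Lead.Thick5
import Groth.Agent.Lead.IdealModDict
import Groth.Agent.Lead.RpushBCB
import Groth.Agent.Helper1.SW5
import Groth.Agent.S0013

/-!
# Square-zero thickenings, part 1: cohomology of the ideal and elementwise Čech vanishing
-/

set_option autoImplicit false
set_option linter.style.haveILetI false
set_option linter.unusedSectionVars false

namespace Groth.Agent.Helper1.SZ

open CategoryTheory Limits AlgebraicGeometry TopologicalSpace Opposite
open Groth.Agent.Helper1.IdealMod (fn ofFn)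

universe u

variable {X : Scheme.{u}} (I : X.IdealSheafData)

/-- products of sections of a square-zero ideal vanish, over affine opens -/
theorem fn_mul_fn_eq_zero (hI : I ^ 2 = ⊥) {U : X.Opens} (hU : IsAffineOpen U)
    (a b : Γ(ClSub.idealMod I, U)) :
    fn ((ClSub.idealModι I).app U a) * fn ((ClSub.idealModι I).app U b) = 0 := by
  have ha : fn ((ClSub.idealModι I).app U a) ∈ I.ideal ⟨U, hU⟩ :=
    (Groth.Agent.Lead.IdealModDict.exists_section_iff I ⟨U, hU⟩ _).1 ⟨a, rfl⟩
  have hb : fn ((ClSub.idealModι I).app U b) ∈ I.ideal ⟨U, hU⟩ :=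
    (Groth.Agent.Lead.IdealModDict.exists_section_iff I ⟨U, hU⟩ _).1 ⟨b, rfl⟩
  have h1 : fn ((ClSub.idealModι I).app U a) * fn ((ClSub.idealModι I).app U b) ∈
      (I ^ 2).ideal ⟨U, hU⟩ := by
    rw [Scheme.IdealSheafData.ideal_pow, Pi.pow_apply, pow_two]
    exact Ideal.mul_mem_mul ha hb
  rw [hI] at h1
  exact h1

/-- a square-zero ideal kills its own module -/
theorem kills_idealMod (hI : I ^ 2 = ⊥) :
    Groth.Agent.Lead.Thick.Kills I.subschemeι (ClSub.idealMod I) 1 := by
  intro U hU a ha m
  rw [pow_one, I.ker_subschemeι_app ⟨U, hU⟩] at ha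
  apply Groth.Agent.Lead.IdealModDict.idealModι_app_injective I U
  rw [map_zero, Scheme.Modules.Hom.app_smul]
  obtain ⟨t, ht⟩ := (Groth.Agent.Lead.IdealModDict.exists_section_iff I ⟨U, hU⟩ a).2 ha
  have h1 := fn_mul_fn_eq_zero I hI hU t m
  rw [ht] at h1
  exact h1

/-- the cohomology of a square-zero ideal can be computed on the closed subscheme -/
theorem subsingleton_HH_idealMod (hI : I ^ 2 = ⊥) (n : ℕ)
    (h : Subsingleton (Coh.HH I.subscheme
      ((Scheme.Modules.pullback I.subschemeι).obj (ClSub.idealMod I)) n)) :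
    Subsingleton (Coh.HH X (ClSub.idealMod I) n) := by
  haveI := Groth.Agent.Lead.Thick.isIso_η_of_kills I.subschemeι (ClSub.idealMod I)
    (kills_idealMod I hI)
  haveI : ((Scheme.Modules.pullback I.subschemeι).obj (ClSub.idealMod I)).IsQuasicoherent :=
    Groth.Agent.Lead.StalkPull.isQuasicoherent_pullbackObj _ _
  apply Groth.Agent.Helper1.SW.subsingleton_HH_of_iso
    (asIso (Groth.Agent.Lead.Thick.η I.subschemeι (ClSub.idealMod I))) n
  obtain ⟨e⟩ := Groth.Agent.S0462.result I.subschemeι.base
    (Coh.toAb ((Scheme.Modules.pullback I.subschemeι).obj (ClSub.idealMod I)))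
    (fun q => Groth.Agent.Helper1.Serre.isZero_RpushAb_of_isAffineHom I.subschemeι _ q) n
  have e' : Coh.HH I.subscheme ((Scheme.Modules.pullback I.subschemeι).obj (ClSub.idealMod I)) n ≃+
      Coh.HH X ((Scheme.Modules.pushforward I.subschemeι).obj
        ((Scheme.Modules.pullback I.subschemeι).obj (ClSub.idealMod I))) n := e
  exact e'.symm.toEquiv.subsingleton

end Groth.Agent.Helper1.SZ
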