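import Mathlib
import Groth.Agent.Helper1.SZ1
import Groth.Agent.Helper1.CechTop

/-!
# Square-zero thickenings, part 2: elementwise Čech vanishing in degrees one and two
-/

set_option autoImplicit false
set_option linter.style.haveILetI false
set_option linter.unusedSectionVars false

namespace Groth.Agent.Helper1.SZ

open CategoryTheory Limits AlgebraicGeometry TopologicalSpace Opposite
open Groth.Agent.Helper1.Cech Groth.Agent.Helper1.CechTop

universe u

variable {X : Scheme.{u}}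

/-- restriction of sections of a module -/
noncomputable abbrev res (M : X.Modules) {V W : X.Opens} (h : V ≤ W) : Γ(M, W) →+ Γ(M, V) :=
  (M.presheaf.map (homOfLE h).op).hom

lemma res_res (M : X.Modules) {V W T : X.Opens} (h : V ≤ W) (h' : W ≤ T) (m : Γ(M, T)) :
    res M h (res M h' m) = res M (h.trans h') m := by
  show (M.presheaf.map (homOfLE h).op) ((M.presheaf.map (homOfLE h').op) m) = _
  rw [← ConcreteCategory.comp_apply, ← M.presheaf.map_comp]
  rfl

lemma res_self (M : X.Modules) {V : X.Opens} (m : Γ(M, V)) : res M (le_refl V) m = m := by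
  show (M.presheaf.map (homOfLE (le_refl V)).op) m = m
  have : (homOfLE (le_refl V)).op = 𝟙 _ := rfl
  rw [this, M.presheaf.map_id]
  rfl

variable [X.IsSeparated] {ι : Type u} (U : ι → X.Opens) (hcov : ⨆ i, U i = ⊤)
  (hU : ∀ i, IsAffineOpen (U i)) (M : X.Modules) [M.IsQuasicoherent]

include hcov hU in
theorem isZero_cechH (p : ℕ) (h : Subsingleton (Coh.HH X M (p + 1))) :
    IsZero (CohB1.cechH U M (p + 1)) := by
  obtain ⟨e⟩ := Groth.Agent.S0013.result X U hcov
    (fun s hs => IsAffineOpen.biInf (s : Set ι) s.finite_toSet hs (fun i _ => hU i)) M (p + 1)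
  haveI : Subsingleton (CohB1.cechH U M (p + 1)) := e.toEquiv.subsingleton
  exact AddCommGrpCat.isZero_of_subsingleton _

omit [X.IsSeparated] in
lemma le_prodU_one (x : ι) {W : X.Opens} (hx : W ≤ U x) : W ≤ prodU U ![x] :=
  le_prodU U ![x] (fun k => by fin_cases k; exact hx)

omit [X.IsSeparated] in
lemma le_prodU_two (x y : ι) {W : X.Opens} (hx : W ≤ U x) (hy : W ≤ U y) : W ≤ prodU U ![x, y] :=
  le_prodU U ![x, y] (fun k => by fin_cases k; exacts [hx, hy])

omit [X.IsSeparated] in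
lemma le_prodU_three (x y z : ι) {W : X.Opens} (hx : W ≤ U x) (hy : W ≤ U y) (hz : W ≤ U z) :
    W ≤ prodU U ![x, y, z] :=
  le_prodU U ![x, y, z] (fun k => by fin_cases k; exacts [hx, hy, hz])

/-- `W ≤ A ⊓ B ⊓ C` -/
lemma le3 {A B C W : X.Opens} (h1 : W ≤ A) (h2 : W ≤ B) (h3 : W ≤ C) : W ≤ A ⊓ B ⊓ C :=
  le_inf (le_inf h1 h2) h3

include hcov hU in
theorem exists_of_cocycle_one (h : Subsingleton (Coh.HH X M 1))
    (a : ∀ x y, Γ(M, U x ⊓ U y))
    (ha : ∀ x y z,
      res M (le_inf (inf_le_left.trans inf_le_right) inf_le_right :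
          U x ⊓ U y ⊓ U z ≤ U y ⊓ U z) (a y z) -
        res M (le_inf (inf_le_left.trans inf_le_left) inf_le_right :
          U x ⊓ U y ⊓ U z ≤ U x ⊓ U z) (a x z) +
        res M (inf_le_left : U x ⊓ U y ⊓ U z ≤ U x ⊓ U y) (a x y) = 0) :
    ∃ b : ∀ x, Γ(M, U x), ∀ x y, a x y =
      res M (inf_le_right : U x ⊓ U y ≤ U y) (b y) - res M (inf_le_left : U x ⊓ U y ≤ U x) (b x) := by
  have hz := isZero_cechH U hcov hU M 0 h
  let A : (cx U M.presheaf).X 1 := Cech.mk (fun t =>
    res M (le_inf (prodU_le U t 0) (prodU_le U t 1)) (a (t 0) (t 1)))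
  have hrcA : ∀ (t : Fin 2 → ι) (W : X.Opens) (hW : W ≤ prodU U t),
      rc U M.presheaf A t W hW =
        res M (le_inf (hW.trans (prodU_le U t 0)) (hW.trans (prodU_le U t 1))) (a (t 0) (t 1)) := by
    intro t W hW
    unfold rc
    rw [comp_mk]
    exact res_res M _ _ _
  have hdA : (cx U M.presheaf).d 1 2 A = 0 := by
    apply ext_rc
    intro z
    rw [rc_d, rc_zero, Fin.sum_univ_three, hrcA, hrcA, hrcA]
    have h2 := congrArg (res M (le_inf (le_inf (prodU_le U z 0) (prodU_le U z 1)) (prodU_le U z 2) :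
      prodU U z ≤ U (z 0) ⊓ U (z 1) ⊓ U (z 2))) (ha (z 0) (z 1) (z 2))
    rw [map_add, map_sub, res_res, res_res, res_res, map_zero] at h2
    simp only [Fin.val_zero, pow_zero, one_smul, Fin.val_one, pow_one, neg_smul, Fin.val_two]
    rw [even_two.neg_one_pow, one_smul, ← sub_eq_add_neg]
    exact h2
  obtain ⟨b', hb'⟩ : ∃ b' : (cx U M.presheaf).X 0, (cx U M.presheaf).d 0 1 b' = A :=
    exists_of_isZero_homology _ 0 hz A hdA
  refine ⟨fun x => rc U M.presheaf b' ![x] (U x) (le_prodU_one U x le_rfl), ?_⟩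
  intro x y
  have h1 := congrArg (fun c => rc U M.presheaf c ![x, y] (U x ⊓ U y)
    (le_prodU_two U x y inf_le_left inf_le_right)) hb'
  simp only [rc_d, hrcA] at h1
  rw [Fin.sum_univ_two] at h1
  have e0 : ![x, y] ∘ (0 : Fin 2).succAbove = ![y] := by
    funext k; fin_cases k; rfl
  have e1 : ![x, y] ∘ (1 : Fin 2).succAbove = ![x] := by
    funext k; fin_cases k; rfl
  rw [rc_congr b' e0 _ _ (le_prodU_one U y inf_le_right),
    rc_congr b' e1 _ _ (le_prodU_one U x inf_le_left)] at h1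
  simp only [Fin.val_zero, pow_zero, one_smul, Fin.val_one, pow_one, neg_smul] at h1
  have h3 : ∀ (w : ι) (hw : U x ⊓ U y ≤ U w),
      res M hw (rc U M.presheaf b' ![w] (U w) (le_prodU_one U w le_rfl)) =
        rc U M.presheaf b' ![w] (U x ⊓ U y) (le_prodU_one U w hw) :=
    fun w hw => map_rc b' ![w] _ (homOfLE hw)
  show a x y = res M _ (rc U M.presheaf b' ![y] (U y) _) - res M _ (rc U M.presheaf b' ![x] (U x) _)
  rw [h3, h3, sub_eq_add_neg, h1]
  exact (res_self M (a x y)).symm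

include hcov hU in
theorem exists_of_cocycle_two (h : Subsingleton (Coh.HH X M 2))
    (c : ∀ x y z, Γ(M, U x ⊓ U y ⊓ U z))
    (hc : ∀ x y z w,
      res M (le3 (inf_le_left.trans (inf_le_left.trans inf_le_right))
          (inf_le_left.trans inf_le_right) inf_le_right :
          U x ⊓ U y ⊓ U z ⊓ U w ≤ U y ⊓ U z ⊓ U w) (c y z w) -
        res M (le3 (inf_le_left.trans (inf_le_left.trans inf_le_left))
          (inf_le_left.trans inf_le_right) inf_le_right :
          U x ⊓ U y ⊓ U z ⊓ U w ≤ U x ⊓ U z ⊓ U w) (c x z w) +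
        res M (le3 (inf_le_left.trans (inf_le_left.trans inf_le_left))
          (inf_le_left.trans (inf_le_left.trans inf_le_right)) inf_le_right :
          U x ⊓ U y ⊓ U z ⊓ U w ≤ U x ⊓ U y ⊓ U w) (c x y w) -
        res M (inf_le_left : U x ⊓ U y ⊓ U z ⊓ U w ≤ U x ⊓ U y ⊓ U z) (c x y z) = 0) :
    ∃ b : ∀ x y, Γ(M, U x ⊓ U y), ∀ x y z, c x y z =
      res M (le_inf (inf_le_left.trans inf_le_right) inf_le_right :
          U x ⊓ U y ⊓ U z ≤ U y ⊓ U z) (b y z) -
        res M (le_inf (inf_le_left.trans inf_le_left) inf_le_right :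
          U x ⊓ U y ⊓ U z ≤ U x ⊓ U z) (b x z) +
        res M (inf_le_left : U x ⊓ U y ⊓ U z ≤ U x ⊓ U y) (b x y) := by
  have hz := isZero_cechH U hcov hU M 1 h
  let C : (cx U M.presheaf).X 2 := Cech.mk (fun t =>
    res M (le3 (prodU_le U t 0) (prodU_le U t 1) (prodU_le U t 2)) (c (t 0) (t 1) (t 2)))
  have hrcC : ∀ (t : Fin 3 → ι) (W : X.Opens) (hW : W ≤ prodU U t),
      rc U M.presheaf C t W hW =
        res M (le3 (hW.trans (prodU_le U t 0)) (hW.trans (prodU_le U t 1))
          (hW.trans (prodU_le U t 2))) (c (t 0) (t 1) (t 2)) := by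
    intro t W hW
    unfold rc
    rw [comp_mk]
    exact res_res M _ _ _
  have hdC : (cx U M.presheaf).d 2 3 C = 0 := by
    apply ext_rc
    intro z
    rw [rc_d, rc_zero, Fin.sum_univ_four, hrcC, hrcC, hrcC, hrcC]
    have h2 := congrArg (res M (le_inf (le3 (prodU_le U z 0) (prodU_le U z 1) (prodU_le U z 2))
      (prodU_le U z 3) : prodU U z ≤ U (z 0) ⊓ U (z 1) ⊓ U (z 2) ⊓ U (z 3)))
      (hc (z 0) (z 1) (z 2) (z 3))
    rw [map_sub, map_add, map_sub, res_res, res_res, res_res, res_res, map_zero] at h2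
    simp only [Fin.val_zero, pow_zero, one_smul, Fin.val_one, pow_one, neg_smul, Fin.val_two]
    have e3 : ((-1 : ℤ)) ^ ((3 : Fin 4) : ℕ) = -1 := by decide
    rw [even_two.neg_one_pow, one_smul, e3, neg_smul, one_smul, ← sub_eq_add_neg, ← sub_eq_add_neg]
    exact h2
  obtain ⟨b', hb'⟩ : ∃ b' : (cx U M.presheaf).X 1, (cx U M.presheaf).d 1 2 b' = C :=
    exists_of_isZero_homology _ 1 hz C hdC
  refine ⟨fun x y => rc U M.presheaf b' ![x, y] (U x ⊓ U y)
    (le_prodU_two U x y inf_le_left inf_le_right), ?_⟩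
  intro x y z
  have h1 := congrArg (fun c => rc U M.presheaf c ![x, y, z] (U x ⊓ U y ⊓ U z)
    (le_prodU_three U x y z (inf_le_left.trans inf_le_left) (inf_le_left.trans inf_le_right)
      inf_le_right)) hb'
  simp only [rc_d, hrcC] at h1
  rw [Fin.sum_univ_three] at h1
  have e0 : ![x, y, z] ∘ (0 : Fin 3).succAbove = ![y, z] := by
    funext k; fin_cases k <;> rfl
  have e1 : ![x, y, z] ∘ (1 : Fin 3).succAbove = ![x, z] := by
    funext k; fin_cases k <;> rfl
  have e2 : ![x, y, z] ∘ (2 : Fin 3).succAbove = ![x, y] := by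
    funext k; fin_cases k <;> rfl
  rw [rc_congr b' e0 _ _ (le_prodU_two U y z (inf_le_left.trans inf_le_right) inf_le_right),
    rc_congr b' e1 _ _ (le_prodU_two U x z (inf_le_left.trans inf_le_left) inf_le_right),
    rc_congr b' e2 _ _ (le_prodU_two U x y (inf_le_left.trans inf_le_left)
      (inf_le_left.trans inf_le_right))] at h1
  simp only [Fin.val_zero, pow_zero, one_smul, Fin.val_one, pow_one, neg_smul, Fin.val_two] at h1
  rw [even_two.neg_one_pow, one_smul] at h1
  have h3 : ∀ (v w : ι) (hv : U x ⊓ U y ⊓ U z ≤ U v) (hw : U x ⊓ U y ⊓ U z ≤ U w),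
      res M (le_inf hv hw) (rc U M.presheaf b' ![v, w] (U v ⊓ U w)
        (le_prodU_two U v w inf_le_left inf_le_right)) =
        rc U M.presheaf b' ![v, w] (U x ⊓ U y ⊓ U z) (le_prodU_two U v w hv hw) :=
    fun v w hv hw => map_rc b' ![v, w] _ (homOfLE (le_inf hv hw))
  show c x y z = res M _ (rc U M.presheaf b' ![y, z] (U y ⊓ U z) _) -
    res M _ (rc U M.presheaf b' ![x, z] (U x ⊓ U z) _) +
    res M _ (rc U M.presheaf b' ![x, y] (U x ⊓ U y) _)
  rw [h3 y z (inf_le_left.trans inf_le_right) inf_le_right,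
    h3 x z (inf_le_left.trans inf_le_left) inf_le_right,
    h3 x y (inf_le_left.trans inf_le_left) (inf_le_left.trans inf_le_right), sub_eq_add_neg, h1]
  exact (res_self M (c x y z)).symm

end Groth.Agent.Helper1.SZ
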