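import Mathlib
import Groth.Agent.Helper1.PF3
import Groth.Agent.Helper1.CC6
import Groth.Agent.Helper3.FrameFin
import Groth.Agent.Helper3.FrameGlue
import Groth.Agent.Helper3.DiscPic2
import Groth.Agent.Lead.PushStalk

/-!
# Square-zero thickenings, part 3: pullbacks of free generators, trivialized modules
-/

set_option autoImplicit false
set_option linter.style.haveILetI false
set_option linter.unusedSectionVars false

namespace Groth.Agent.Helper1.SZ

open CategoryTheory Limits AlgebraicGeometry TopologicalSpace Opposite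
open Groth.Agent.Helper4.TwistExt Groth.Agent.Helper4.PullTensor Groth.Agent.Helper1.CC

universe u

variable {X Y : Scheme.{u}} (f : X ⟶ Y) (L : Y.Modules)

/-- free generation on all smaller opens is the frame property -/
theorem isFrame_of_bij {Z : Scheme.{u}} (N : Z.Modules) (T : Z.Opens) (s : Γ(N, T))
    (hs : ∀ (V : Z.Opens) (h : V ≤ T),
      Function.Bijective (fun r : Γ(Z, V) => r • N.presheaf.map (homOfLE h).op s)) :
    IsFrame N T s := by
  intro V h
  refine ⟨fun m => ?_, fun r hr => ?_⟩
  · obtain ⟨r, hr⟩ := (hs V h).2 m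
    exact ⟨r, hr.symm⟩
  · apply (hs V h).1
    show r • _ = (0 : Γ(Z, V)) • _
    rw [hr, zero_smul]

/-- the unit of the adjunction is semilinear on sections -/
theorem η_app_smul (V : Y.Opens) (r : Γ(Y, V)) (m : Γ(L, V)) :
    (η f L).app V (r • m) =
      ((f.app V r : Γ(X, f ⁻¹ᵁ V)) •
        (show Γ((Scheme.Modules.pullback f).obj L, f ⁻¹ᵁ V) from (η f L).app V m) :
        Γ((Scheme.Modules.pullback f).obj L, f ⁻¹ᵁ V)) := by
  rw [Scheme.Modules.Hom.app_smul]
  rfl

/-- the unit of the adjunction is compatible with restrictions -/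
theorem η_app_res {V V' : Y.Opens} (h : V' ≤ V) (m : Γ(L, V)) :
    (η f L).app V' (L.presheaf.map (homOfLE h).op m) =
      ((Scheme.Modules.pullback f).obj L).presheaf.map
        (homOfLE (show f ⁻¹ᵁ V' ≤ f ⁻¹ᵁ V from fun _ hx => h hx)).op ((η f L).app V m) :=
  (Groth.Agent.Helper4.StalkExact.app_res (η f L) (homOfLE h) m)

/-- **the pullback of a frame is a frame** -/
theorem isFrame_pullback (T : Y.Opens) (s : Γ(L, T)) (hs : IsFrame L T s) :
    IsFrame ((Scheme.Modules.pullback f).obj L) (f ⁻¹ᵁ T) ((η f L).app T s) := by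
  obtain ⟨ε⟩ := nonempty_iso_of_generator L T s
    (fun V hV => Groth.Agent.Helper3.DiscPic2.bijective_of_isFrame L T s hs V hV)
  obtain ⟨T₂, e, T₂', e', hT, he, hT', he', hcompat⟩ := Groth.Agent.Helper1.PF.exists_frames f L T ε
  have he1 := Groth.Agent.Helper3.FrameFin.isFrame_of_le he hT
  obtain ⟨a, ha, hae⟩ := Groth.Agent.Helper3.FrameFin.exists_unit_of_frames _ _ he1 hs
  have he2 := Groth.Agent.Helper3.FrameFin.isFrame_of_le he' hT'
  rw [hae, η_app_smul, hcompat T hT hT']
  exact Groth.Agent.Helper3.FrameGlue.isFrame_smul_unit he2 _ (ha.map (f.app T).hom)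

end Groth.Agent.Helper1.SZ
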