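import Mathlib
import Groth.Agent.Helper1.SZ2
import Groth.Agent.Helper1.SZ3

/-!
# Square-zero thickenings, part 4: sections of the ideal as functions; lifting units
-/

set_option autoImplicit false
set_option linter.style.haveILetI false
set_option linter.unusedSectionVars false

namespace Groth.Agent.Helper1.SZ

open CategoryTheory Limits AlgebraicGeometry TopologicalSpace Opposite
open Groth.Agent.Helper1.IdealMod (fn ofFn)
open Groth.Agent.Helper1.CC

universe u

variable {X : Scheme.{u}} (I : X.IdealSheafData)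

/-- sections of the ideal module as functions -/
noncomputable def ev (W : X.Opens) : Γ(ClSub.idealMod I, W) →+ Γ(X, W) where
  toFun t := fn ((ClSub.idealModι I).app W t)
  map_zero' := by rw [map_zero]; rfl
  map_add' _ _ := by rw [map_add]; rfl

theorem ev_injective (W : X.Opens) : Function.Injective (ev I W) := fun _ _ h =>
  Groth.Agent.Lead.IdealModDict.idealModι_app_injective I W h

theorem ev_res {W' W : X.Opens} (h : W' ≤ W) (t : Γ(ClSub.idealMod I, W)) :
    ev I W' (res (ClSub.idealMod I) h t) = ρ h (ev I W t) := by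
  show fn ((ClSub.idealModι I).app W' ((ClSub.idealMod I).presheaf.map (homOfLE h).op t)) = _
  rw [Groth.Agent.Helper4.StalkExact.app_res (ClSub.idealModι I) (homOfLE h) t]
  rfl

theorem app_ev (W : X.Opens) (t : Γ(ClSub.idealMod I, W)) :
    I.subschemeι.app W (ev I W t) = 0 :=
  (Groth.Agent.Helper4.SubSec.exists_kernel_section_iff (ClSub.toSubscheme I) W
    ((ClSub.idealModι I).app W t)).1 ⟨t, rfl⟩

theorem exists_ev_eq (W : X.Opens) (a : Γ(X, W)) (ha : I.subschemeι.app W a = 0) :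
    ∃ t : Γ(ClSub.idealMod I, W), ev I W t = a :=
  (Groth.Agent.Helper4.SubSec.exists_kernel_section_iff (ClSub.toSubscheme I) W (ofFn a)).2 ha

theorem ev_mul_ev (hI : I ^ 2 = ⊥) {W : X.Opens} (hW : IsAffineOpen W)
    (a b : Γ(ClSub.idealMod I, W)) : ev I W a * ev I W b = 0 :=
  fn_mul_fn_eq_zero I hI hW a b

/-- restriction of functions on the closed subscheme -/
theorem app_ρ {W' W : X.Opens} (h : W' ≤ W) (a : Γ(X, W)) :
    I.subschemeι.app W' (ρ h a) =
      ρ (show I.subschemeι ⁻¹ᵁ W' ≤ I.subschemeι ⁻¹ᵁ W from fun _ hx => h hx)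
        (I.subschemeι.app W a) := by
  have := I.subschemeι.naturality (homOfLE h).op
  exact congrArg (fun φ => φ.hom a) this

/-- products of functions vanishing on the closed subscheme vanish -/
theorem mul_eq_zero_of_app_eq_zero (hI : I ^ 2 = ⊥) {W : X.Opens} (hW : IsAffineOpen W)
    (a b : Γ(X, W)) (ha : I.subschemeι.app W a = 0) (hb : I.subschemeι.app W b = 0) :
    a * b = 0 := by
  obtain ⟨s, rfl⟩ := exists_ev_eq I W a ha
  obtain ⟨t, rfl⟩ := exists_ev_eq I W b hb
  exact ev_mul_ev I hI hW s t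

/-- units lift along a square-zero thickening, over affine opens -/
theorem exists_unit_lift (hI : I ^ 2 = ⊥) {W : X.Opens} (hW : IsAffineOpen W)
    (u₀ : (Γ(I.subscheme, I.subschemeι ⁻¹ᵁ W))ˣ) :
    ∃ u : (Γ(X, W))ˣ, I.subschemeι.app W (u : Γ(X, W)) = (u₀ : Γ(I.subscheme, I.subschemeι ⁻¹ᵁ W)) := by
  obtain ⟨r, hr⟩ := I.subschemeι.app_surjective W hW (u₀ : Γ(I.subscheme, I.subschemeι ⁻¹ᵁ W))
  obtain ⟨r', hr'⟩ := I.subschemeι.app_surjective W hW
    ((u₀⁻¹ : (Γ(I.subscheme, I.subschemeι ⁻¹ᵁ W))ˣ) : Γ(I.subscheme, I.subschemeι ⁻¹ᵁ W))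
  have hk : I.subschemeι.app W (r * r' - 1) = 0 := by
    rw [map_sub, map_mul, hr, hr', map_one, Units.mul_inv, sub_self]
  have hk2 := mul_eq_zero_of_app_eq_zero I hI hW _ _ hk hk
  refine ⟨Units.mkOfMulEqOne r (r' * (1 - (r * r' - 1))) ?_, hr⟩
  linear_combination (-1 : Γ(X, W)) * hk2

end Groth.Agent.Helper1.SZ
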