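import Mathlib
import Groth.Agent.Helper1.SZ3
import Groth.Agent.Helper1.CC4

/-!
# Square-zero thickenings, part 5: trivialized modules: units, cocycles, frames, pullbacks
-/

set_option autoImplicit false
set_option linter.style.haveILetI false
set_option linter.unusedSectionVars false

open CategoryTheory Limits AlgebraicGeometry TopologicalSpace Opposite
open Groth.Agent.Helper4.TwistExt Groth.Agent.Helper4.PullTensor Groth.Agent.Helper1.CC

universe u

namespace Groth.Agent.Helper1.CC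

open Groth.Agent.Helper1.SZ

section Basic

variable {X : Scheme.{u}} {ι : Type u} {U : ι → X.Opens} {L : X.Modules} (P : Triv U L)

/-- the transition functions of a trivialized module form a cocycle -/
theorem Triv.cocycle (i j k : ι) :
    ρ (inf_le_inf_right (U k) inf_le_left : U i ⊓ U j ⊓ U k ≤ U i ⊓ U k) (P.η i k) =
      ρ (inf_le_left : U i ⊓ U j ⊓ U k ≤ U i ⊓ U j) (P.η i j) *
        ρ (inf_le_inf_right (U k) inf_le_right : U i ⊓ U j ⊓ U k ≤ U j ⊓ U k) (P.η j k) := by
  have hi : U i ⊓ U j ⊓ U k ≤ U i := inf_le_left.trans inf_le_left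
  have hj : U i ⊓ U j ⊓ U k ≤ U j := inf_le_left.trans inf_le_right
  have hk : U i ⊓ U j ⊓ U k ≤ U k := inf_le_right
  apply P.smul_g_injective k hk
  rw [mul_smul, ← P.g_trans j k hj hk, ← P.g_trans i j hi hj, ← P.g_trans i k hi hk]

theorem Triv.η_mul_η (i j : ι) :
    P.η i j * ρ (le_inf inf_le_right inf_le_left : U i ⊓ U j ≤ U j ⊓ U i) (P.η j i) = 1 := by
  have hi : U i ⊓ U j ≤ U i := inf_le_left
  have hj : U i ⊓ U j ≤ U j := inf_le_right
  apply P.smul_g_injective i hi
  have h1 := P.g_trans i j hi hj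
  have h2 := P.g_trans j i hj hi
  rw [ρ_refl] at h1
  rw [mul_smul, ← h2, ← h1, one_smul]

theorem Triv.isUnit_η (i j : ι) : IsUnit (P.η i j) :=
  IsUnit.of_mul_eq_one _ (P.η_mul_η i j)

/-- the transition functions, as units -/
noncomputable def Triv.ηu (i j : ι) : (Γ(X, U i ⊓ U j))ˣ := (P.isUnit_η i j).unit

@[simp] theorem Triv.coe_ηu (i j : ι) : ((P.ηu i j : (Γ(X, U i ⊓ U j))ˣ) : Γ(X, U i ⊓ U j)) = P.η i j :=
  rfl

end Basic

end Groth.Agent.Helper1.CC

namespace Groth.Agent.Helper1.SZ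

section OfFrames

variable {X : Scheme.{u}} {ι : Type u} (U : ι → X.Opens) (L : X.Modules)

/-- a family of frames gives a trivialized module -/
theorem nonempty_triv_of_frames (s : ∀ i, Γ(L, U i)) (hs : ∀ i, IsFrame L (U i) (s i)) :
    ∃ P : Triv U L, P.s = s := by
  have h : ∀ i j, ∃ u : Γ(X, U i ⊓ U j),
      L.presheaf.map (homOfLE (inf_le_left : U i ⊓ U j ≤ U i)).op (s i) =
        u • L.presheaf.map (homOfLE (inf_le_right : U i ⊓ U j ≤ U j)).op (s j) := by
    intro i j
    obtain ⟨u, -, hu⟩ := Groth.Agent.Helper3.FrameFin.exists_unit_of_frames _ _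
      (Groth.Agent.Helper3.FrameFin.isFrame_of_le (hs j) (inf_le_right : U i ⊓ U j ≤ U j))
      (Groth.Agent.Helper3.FrameFin.isFrame_of_le (hs i) (inf_le_left : U i ⊓ U j ≤ U i))
    exact ⟨u, hu⟩
  choose η hη using h
  exact ⟨⟨s, fun i V hV => Groth.Agent.Helper3.DiscPic2.bijective_of_isFrame L (U i) (s i) (hs i)
    V hV, η, hη⟩, rfl⟩

/-- the module attached to a cocycle of units is trivialized with the given transition functions -/
noncomputable def trivLc (η : ∀ i j : ι, (Γ(X, U i ⊓ U j))ˣ)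
    (hη : ∀ i j k : ι,
      ρ (inf_le_inf_right (U k) inf_le_left : U i ⊓ U j ⊓ U k ≤ U i ⊓ U k)
          (η i k : Γ(X, U i ⊓ U k)) =
        ρ (inf_le_left : U i ⊓ U j ⊓ U k ≤ U i ⊓ U j) (η i j : Γ(X, U i ⊓ U j)) *
          ρ (inf_le_inf_right (U k) inf_le_right : U i ⊓ U j ⊓ U k ≤ U j ⊓ U k)
            (η j k : Γ(X, U j ⊓ U k))) : Triv U (Lc U η) where
  s := gen U η hη
  bij := gen_bijective U η hη
  η i j := (η i j : Γ(X, U i ⊓ U j))
  trans := gen_transition U η hη

end OfFrames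

end Groth.Agent.Helper1.SZ

namespace Groth.Agent.Helper1.CC

open Groth.Agent.Helper1.SZ

section Pullback

variable {X Y : Scheme.{u}} (f : X ⟶ Y) {ι : Type u} {U : ι → Y.Opens} {L : Y.Modules}
  (P : Triv U L)

/-- the pullback of a trivialized module -/
noncomputable def Triv.pullback :
    Triv (fun i => f ⁻¹ᵁ U i) ((Scheme.Modules.pullback f).obj L) where
  s i := (Groth.Agent.Helper4.PullTensor.η f L).app (U i) (P.s i)
  bij i V hV := Groth.Agent.Helper3.DiscPic2.bijective_of_isFrame _ _ _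
    (isFrame_pullback f L (U i) (P.s i) (isFrame_of_bij L (U i) (P.s i) (P.bij i))) V hV
  η i j := f.app (U i ⊓ U j) (P.η i j)
  trans i j := by
    have h1 := η_app_res f L (inf_le_left : U i ⊓ U j ≤ U i) (P.s i)
    have h2 := η_app_res f L (inf_le_right : U i ⊓ U j ≤ U j) (P.s j)
    have h3 := congrArg ((Groth.Agent.Helper4.PullTensor.η f L).app (U i ⊓ U j)) (P.trans i j)
    rw [η_app_smul, h1, h2] at h3
    exact h3

@[simp] theorem Triv.pullback_η (i j : ι) :
    (P.pullback f).η i j = f.app (U i ⊓ U j) (P.η i j) := rfl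

end Pullback

end Groth.Agent.Helper1.CC
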