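import Mathlib
import Groth.Agent.Helper1.SZ4
import Groth.Agent.Helper1.SZ5

/-!
# Square-zero thickenings, part 6: lifting cocycles of units when `H²` of the ideal vanishes
-/
set_option autoImplicit false
set_option linter.style.haveILetI false
set_option linter.unusedSectionVars false

namespace Groth.Agent.Helper1.SZ

open CategoryTheory Limits AlgebraicGeometry TopologicalSpace Opposite
open Groth.Agent.Helper1.IdealMod (fn ofFn)
open Groth.Agent.Helper1.CC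

universe u

variable {X : Scheme.{u}} (I : X.IdealSheafData)

theorem ring_cocycle {R : Type*} [CommRing R] (A B C D E F p q r s : R) (hF : IsUnit F)
    (e1 : A * B = D * (1 + p)) (e2 : B * C = E * (1 + q)) (e3 : D * C = F * (1 + r))
    (e4 : A * E = F * (1 + s)) (h5 : p * r = 0) (h6 : s * q = 0) : q - r + s - p = 0 := by
  have h : F * (q - r + s - p) = 0 := by
    linear_combination -(A * e2 + (1 + q) * e4 - C * e1 - (1 + p) * e3 - F * h5 + F * h6)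
  exact (hF.mul_right_eq_zero).1 h

theorem ring_correct {R : Type*} [CommRing R] (A B C x y z γ : R) (hAB : A * B = C * (1 + γ))
    (hγ : γ = y - z + x) (hxx : x * x = 0) (hyy : y * y = 0) (hxy : x * y = 0) (hzx : z * x = 0)
    (hzy : z * y = 0) : C * (1 - z) = A * (1 - x) * (B * (1 - y)) := by
  subst hγ
  linear_combination (-(1 - x) * (1 - y)) * hAB -
    C * (-hyy + y * hxy + hzx + hzy - y * hzx - hxx - hxy + x * hxy)

/-- monotonicity of preimages -/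
theorem pm {W' W : X.Opens} (h : W' ≤ W) : I.subschemeι ⁻¹ᵁ W' ≤ I.subschemeι ⁻¹ᵁ W :=
  fun _ hx => h hx

theorem ev_smul (W : X.Opens) (r : Γ(X, W)) (t : Γ(ClSub.idealMod I, W)) :
    ev I W (r • t) = r * ev I W t := by
  show fn ((ClSub.idealModι I).app W (r • t)) = _
  rw [Scheme.Modules.Hom.app_smul]
  rfl

theorem app_ρ_ev {W' W : X.Opens} (h : W' ≤ W) (t : Γ(ClSub.idealMod I, W)) :
    I.subschemeι.app W' (ρ h (ev I W t)) = 0 := by
  rw [app_ρ, app_ev, map_zero]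

variable [X.IsSeparated] (hI : I ^ 2 = ⊥)
  {Z : Type u} (V : Z → X.Opens) (hV : ∀ z, IsAffineOpen (V z)) (hcov : ⨆ z, V z = ⊤)

include hI hV hcov in
theorem exists_lift_cocycle (h2 : Subsingleton (Coh.HH X (ClSub.idealMod I) 2))
    (η₀ : ∀ i j, (Γ(I.subscheme, I.subschemeι ⁻¹ᵁ (V i ⊓ V j)))ˣ)
    (hη₀ : ∀ i j k,
      ρ (pm I (inf_le_inf_right (V k) inf_le_left : V i ⊓ V j ⊓ V k ≤ V i ⊓ V k))
          (η₀ i k : Γ(I.subscheme, I.subschemeι ⁻¹ᵁ (V i ⊓ V k))) =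
        ρ (pm I (inf_le_left : V i ⊓ V j ⊓ V k ≤ V i ⊓ V j))
            (η₀ i j : Γ(I.subscheme, I.subschemeι ⁻¹ᵁ (V i ⊓ V j))) *
          ρ (pm I (inf_le_inf_right (V k) inf_le_right : V i ⊓ V j ⊓ V k ≤ V j ⊓ V k))
            (η₀ j k : Γ(I.subscheme, I.subschemeι ⁻¹ᵁ (V j ⊓ V k)))) :
    ∃ η : ∀ i j, (Γ(X, V i ⊓ V j))ˣ,
      (∀ i j k : Z,
        ρ (inf_le_inf_right (V k) inf_le_left : V i ⊓ V j ⊓ V k ≤ V i ⊓ V k)
            (η i k : Γ(X, V i ⊓ V k)) =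
          ρ (inf_le_left : V i ⊓ V j ⊓ V k ≤ V i ⊓ V j) (η i j : Γ(X, V i ⊓ V j)) *
            ρ (inf_le_inf_right (V k) inf_le_right : V i ⊓ V j ⊓ V k ≤ V j ⊓ V k)
              (η j k : Γ(X, V j ⊓ V k))) ∧
      ∀ i j, I.subschemeι.app (V i ⊓ V j) (η i j : Γ(X, V i ⊓ V j)) =
        (η₀ i j : Γ(I.subscheme, I.subschemeι ⁻¹ᵁ (V i ⊓ V j))) := by
  have hW2 : ∀ i j, IsAffineOpen (V i ⊓ V j) := fun i j => (hV i).inf (hV j)
  have hW3 : ∀ i j k, IsAffineOpen (V i ⊓ V j ⊓ V k) := fun i j k => (hW2 i j).inf (hV k)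
  have hW4 : ∀ i j k l, IsAffineOpen (V i ⊓ V j ⊓ V k ⊓ V l) := fun i j k l => (hW3 i j k).inf (hV l)
  choose g hg using fun i j => exists_unit_lift I hI (hW2 i j) (η₀ i j)
  -- the defect
  have hd : ∀ i j k, ∃ c : Γ(ClSub.idealMod I, V i ⊓ V j ⊓ V k),
      ρ (inf_le_left : V i ⊓ V j ⊓ V k ≤ V i ⊓ V j) (g i j : Γ(X, V i ⊓ V j)) *
        ρ (inf_le_inf_right (V k) inf_le_right : V i ⊓ V j ⊓ V k ≤ V j ⊓ V k)
          (g j k : Γ(X, V j ⊓ V k)) =
        ρ (inf_le_inf_right (V k) inf_le_left : V i ⊓ V j ⊓ V k ≤ V i ⊓ V k)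
          (g i k : Γ(X, V i ⊓ V k)) * (1 + ev I _ c) := by
    intro i j k
    have h0 : I.subschemeι.app (V i ⊓ V j ⊓ V k)
        (ρ (inf_le_left : V i ⊓ V j ⊓ V k ≤ V i ⊓ V j) (g i j : Γ(X, V i ⊓ V j)) *
          ρ (inf_le_inf_right (V k) inf_le_right : V i ⊓ V j ⊓ V k ≤ V j ⊓ V k)
            (g j k : Γ(X, V j ⊓ V k)) -
          ρ (inf_le_inf_right (V k) inf_le_left : V i ⊓ V j ⊓ V k ≤ V i ⊓ V k)
            (g i k : Γ(X, V i ⊓ V k))) = 0 := by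
      rw [map_sub, map_mul, app_ρ, app_ρ, app_ρ, hg, hg, hg]
      exact sub_eq_zero.2 (hη₀ i j k).symm
    obtain ⟨c', hc'⟩ := exists_ev_eq I _ _ h0
    have hinv : ρ (inf_le_inf_right (V k) inf_le_left : V i ⊓ V j ⊓ V k ≤ V i ⊓ V k)
        (g i k : Γ(X, V i ⊓ V k)) *
        ρ (inf_le_inf_right (V k) inf_le_left : V i ⊓ V j ⊓ V k ≤ V i ⊓ V k)
          (((g i k)⁻¹ : (Γ(X, V i ⊓ V k))ˣ) : Γ(X, V i ⊓ V k)) = 1 := by
      rw [← map_mul, Units.mul_inv, map_one]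
    refine ⟨ρ (inf_le_inf_right (V k) inf_le_left : V i ⊓ V j ⊓ V k ≤ V i ⊓ V k)
          (((g i k)⁻¹ : (Γ(X, V i ⊓ V k))ˣ) : Γ(X, V i ⊓ V k)) • c', ?_⟩
    rw [ev_smul, hc']
    linear_combination (-(ρ (inf_le_left : V i ⊓ V j ⊓ V k ≤ V i ⊓ V j) (g i j : Γ(X, V i ⊓ V j)) *
          ρ (inf_le_inf_right (V k) inf_le_right : V i ⊓ V j ⊓ V k ≤ V j ⊓ V k)
            (g j k : Γ(X, V j ⊓ V k)) -
          ρ (inf_le_inf_right (V k) inf_le_left : V i ⊓ V j ⊓ V k ≤ V i ⊓ V k)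
            (g i k : Γ(X, V i ⊓ V k)))) * hinv
  choose c hc using hd
  -- the defect is a cocycle
  have hcoc : ∀ i j k l,
      res (ClSub.idealMod I) (le3 (inf_le_left.trans (inf_le_left.trans inf_le_right))
          (inf_le_left.trans inf_le_right) inf_le_right :
          V i ⊓ V j ⊓ V k ⊓ V l ≤ V j ⊓ V k ⊓ V l) (c j k l) -
        res (ClSub.idealMod I) (le3 (inf_le_left.trans (inf_le_left.trans inf_le_left))
          (inf_le_left.trans inf_le_right) inf_le_right :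
          V i ⊓ V j ⊓ V k ⊓ V l ≤ V i ⊓ V k ⊓ V l) (c i k l) +
        res (ClSub.idealMod I) (le3 (inf_le_left.trans (inf_le_left.trans inf_le_left))
          (inf_le_left.trans (inf_le_left.trans inf_le_right)) inf_le_right :
          V i ⊓ V j ⊓ V k ⊓ V l ≤ V i ⊓ V j ⊓ V l) (c i j l) -
        res (ClSub.idealMod I) (inf_le_left : V i ⊓ V j ⊓ V k ⊓ V l ≤ V i ⊓ V j ⊓ V k)
          (c i j k) = 0 := by
    intro i j k l
    have hi : V i ⊓ V j ⊓ V k ⊓ V l ≤ V i := inf_le_left.trans (inf_le_left.trans inf_le_left)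
    have hj : V i ⊓ V j ⊓ V k ⊓ V l ≤ V j := inf_le_left.trans (inf_le_left.trans inf_le_right)
    have hk : V i ⊓ V j ⊓ V k ⊓ V l ≤ V k := inf_le_left.trans inf_le_right
    have hl : V i ⊓ V j ⊓ V k ⊓ V l ≤ V l := inf_le_right
    apply ev_injective I _
    rw [map_zero, map_sub, map_add, map_sub, ev_res, ev_res, ev_res, ev_res]
    have e1 := congrArg (ρ (le3 hi hj hk)) (hc i j k)
    have e2 := congrArg (ρ (le3 hj hk hl)) (hc j k l)
    have e3 := congrArg (ρ (le3 hi hk hl)) (hc i k l)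
    have e4 := congrArg (ρ (le3 hi hj hl)) (hc i j l)
    simp only [map_mul, map_add, map_one, ρ_ρ] at e1 e2 e3 e4
    have hz : ∀ {W W' : X.Opens} (h : V i ⊓ V j ⊓ V k ⊓ V l ≤ W)
        (h' : V i ⊓ V j ⊓ V k ⊓ V l ≤ W') (t : Γ(ClSub.idealMod I, W))
        (t' : Γ(ClSub.idealMod I, W')), ρ h (ev I W t) * ρ h' (ev I W' t') = 0 := fun h h' t t' =>
      mul_eq_zero_of_app_eq_zero I hI (hW4 i j k l) _ _ (app_ρ_ev I h t) (app_ρ_ev I h' t')
    exact ring_cocycle _ _ _ _ _ _ _ _ _ _ ((g i l).isUnit.map (ρ (le_inf hi hl))) e1 e2 e3 e4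
      (hz _ _ _ _) (hz _ _ _ _)
  obtain ⟨b, hb⟩ := exists_of_cocycle_two V hcov hV (ClSub.idealMod I) h2 c hcoc
  have hβ2 : ∀ i j, ev I _ (b i j) * ev I _ (b i j) = 0 := fun i j =>
    ev_mul_ev I hI (hW2 i j) _ _
  let w : ∀ i j, (Γ(X, V i ⊓ V j))ˣ := fun i j =>
    Units.mkOfMulEqOne (1 - ev I _ (b i j)) (1 + ev I _ (b i j))
      (by linear_combination -(hβ2 i j))
  have hw : ∀ i j, ((w i j : (Γ(X, V i ⊓ V j))ˣ) : Γ(X, V i ⊓ V j)) = 1 - ev I _ (b i j) :=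
    fun i j => rfl
  refine ⟨fun i j => g i j * w i j, ?_, ?_⟩
  · intro i j k
    have hγ := congrArg (ev I _) (hb i j k)
    rw [map_add, map_sub, ev_res, ev_res, ev_res] at hγ
    have hz : ∀ {W W' : X.Opens} (h : V i ⊓ V j ⊓ V k ≤ W)
        (h' : V i ⊓ V j ⊓ V k ≤ W') (t : Γ(ClSub.idealMod I, W))
        (t' : Γ(ClSub.idealMod I, W')), ρ h (ev I W t) * ρ h' (ev I W' t') = 0 := fun h h' t t' =>
      mul_eq_zero_of_app_eq_zero I hI (hW3 i j k) _ _ (app_ρ_ev I h t) (app_ρ_ev I h' t')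
    simp only [Units.val_mul, map_mul, hw, map_sub, map_one]
    exact ring_correct _ _ _ _ _ _ _ (hc i j k) hγ (hz _ _ _ _) (hz _ _ _ _) (hz _ _ _ _)
      (hz _ _ _ _) (hz _ _ _ _)
  · intro i j
    simp only [Units.val_mul, map_mul, hw, map_sub, map_one, hg, app_ev, sub_zero, mul_one]

end Groth.Agent.Helper1.SZ
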