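import Groth.Agent.Helper1.SZ6
import Groth.Agent.Lead.LiftPow4
import Groth.Agent.Helper4.PullSec
import Groth.Agent.Helper4.AmpleIso

/-!
# Lifting invertible modules along a square-zero closed immersion (general form)
-/

set_option autoImplicit false
universe u
open CategoryTheory CategoryTheory.Limits AlgebraicGeometry Opposite

namespace Groth.Agent.Helper1.SZ

open Groth.Agent.Helper1.CC Groth.Agent.Helper4.TwistExt

/-- **square-zero lifting, obstruction group on the thickening**: if `I² = 0` on a separated `X` and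
`H²(X, I) = 0`, every invertible module on `V(I)` lifts to `X`. -/
theorem exists_lift_subscheme (X : Scheme.{u}) [X.IsSeparated]
    (I : X.IdealSheafData) (hI : I ^ 2 = ⊥)
    (h2' : Subsingleton (Coh.HH X (ClSub.idealMod I) 2))
    (L₀ : I.subscheme.Modules) (hL₀ : PicF.IsInvertible L₀) :
    ∃ L : X.Modules, PicF.IsInvertible L ∧
      Nonempty ((Scheme.Modules.pullback I.subschemeι).obj L ≅ L₀) := by
  classical
  have hsurj := Groth.Agent.Lead.LiftPow.subschemeι_surjective_of_pow_eq_bot I 2 hI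
  have hloc : ∀ y : I.subscheme, ∃ (V : X.Opens) (e : Γ(L₀, I.subschemeι ⁻¹ᵁ V)),
      IsAffineOpen V ∧ I.subschemeι y ∈ V ∧ IsFrame L₀ (I.subschemeι ⁻¹ᵁ V) e := by
    intro y
    obtain ⟨W, hyW, ⟨ε⟩⟩ := hL₀ y
    have hfr := isFrame_of_triv L₀ W ε
    obtain ⟨t, ht, htW⟩ := I.subschemeι.isClosedEmbedding.isInducing.isOpen_iff.1 W.isOpen
    have hyt : I.subschemeι y ∈ t := by
      have : y ∈ I.subschemeι ⁻¹' t := by rw [htW]; exact hyW
      exact this
    obtain ⟨_, ⟨V, hV : IsAffineOpen V, rfl⟩, hyV, hVt⟩ :=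
      X.isBasis_affineOpens.exists_subset_of_mem_open hyt ht
    have hle : I.subschemeι ⁻¹ᵁ V ≤ W.ι ''ᵁ ⊤ := by
      rw [Scheme.Opens.ι_image_top]
      intro z hz
      have : z ∈ I.subschemeι ⁻¹' t := hVt hz
      rw [htW] at this
      exact this
    exact ⟨V, _, hV, hyV, Groth.Agent.Helper3.FrameFin.isFrame_of_le hfr hle⟩
  choose V e hVaff hyV he using hloc
  have hcov : ⨆ y, V y = ⊤ := by
    rw [eq_top_iff]
    intro x _
    obtain ⟨y, rfl⟩ := hsurj x
    exact TopologicalSpace.Opens.mem_iSup.2 ⟨y, hyV y⟩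
  have hcov₀ : iSup (fun y => I.subschemeι ⁻¹ᵁ V y) = ⊤ := by
    rw [eq_top_iff]
    intro y _
    exact TopologicalSpace.Opens.mem_iSup.2 ⟨y, hyV y⟩
  obtain ⟨P₀, -⟩ := nonempty_triv_of_frames (fun y => I.subschemeι ⁻¹ᵁ V y) L₀ e he
  obtain ⟨η, hη, hηη₀⟩ := exists_lift_cocycle I hI V hVaff hcov h2' (fun i j => P₀.ηu i j)
    (fun i j k => P₀.cocycle i j k)
  refine ⟨Lc V η, isInvertible_Lc V η hη hcov, ?_⟩
  refine Triv.nonempty_iso_of_units ((trivLc V η hη).pullback I.subschemeι) P₀ hcov₀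
    (fun _ => 1) (fun i j => ?_)
  have h1 : ((trivLc V η hη).pullback I.subschemeι).η i j = P₀.η i j := hηη₀ i j
  rw [h1]
  simp only [Units.val_one, map_one, mul_one, one_mul]

/-- pulling back along an isomorphism and then along its inverse is the identity -/
noncomputable def pullInvPull {X Y : Scheme.{u}} (g : X ⟶ Y) [IsIso g] (M : X.Modules) :
    (Scheme.Modules.pullback g).obj ((Scheme.Modules.pullback (inv g)).obj M) ≅ M :=
  (Scheme.Modules.pullbackComp g (inv g)).app M ≪≫
    (Scheme.Modules.pullbackCongr (IsIso.hom_inv_id g)).app M ≪≫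
    (Scheme.Modules.pullbackId X).app M

/-- **square-zero lifting along a closed immersion**: if `i : X₀ → X` is a closed immersion into a
separated scheme whose ideal `𝓘` has square zero and `H²(X, 𝓘) = 0`, every invertible module on
`X₀` lifts to `X`. -/
theorem exists_lift_closedImmersion {X₀ X : Scheme.{u}} [X.IsSeparated] (i : X₀ ⟶ X)
    [IsClosedImmersion i] (hi : i.ker ^ 2 = ⊥)
    (h2 : Subsingleton (Coh.HH X (ClSub.idealMod i.ker) 2))
    (L₀ : X₀.Modules) (hL₀ : PicF.IsInvertible L₀) :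
    ∃ L : X.Modules, PicF.IsInvertible L ∧
      Nonempty ((Scheme.Modules.pullback i).obj L ≅ L₀) := by
  have hL₀' : PicF.IsInvertible ((Scheme.Modules.pullback (inv i.toImage)).obj L₀) :=
    Groth.Agent.Helper4.PullSec.isInvertible_pullback _ hL₀
  obtain ⟨L, hL, ⟨e⟩⟩ := exists_lift_subscheme X i.ker hi h2 _ hL₀'
  refine ⟨L, hL, ⟨?_⟩⟩
  exact (Scheme.Modules.pullbackCongr i.toImage_imageι.symm).app L ≪≫
    ((Scheme.Modules.pullbackComp i.toImage i.imageι).app L).symm ≪≫
    (Scheme.Modules.pullback i.toImage).mapIso e ≪≫ pullInvPull i.toImage L₀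

end Groth.Agent.Helper1.SZ
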