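import Mathlib
import Groth.Agent.Helper1.SZ8
import Groth.Agent.Helper1.SZ15
import Groth.Agent.Helper4.SN417
import Groth.Agent.Helper9.Thicken

/-!
# GY15: tensor powers of trivialized modules; ring lemmas for roots along square-zero ideals
-/

set_option autoImplicit false
set_option linter.style.haveILetI false
set_option linter.unusedSectionVars false

universe u

open CategoryTheory CategoryTheory.Limits AlgebraicGeometry Opposite TopologicalSpace

namespace Groth.Agent.Helper1.CC

open Groth.Agent.Helper1.SZ Groth.Agent.Helper4.TwistExt Groth.Agent.Helper4.TwistLocal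

variable {X : Scheme.{u}} {ι : Type u} {U : ι → X.Opens} {L : X.Modules}

/-- tensor powers of a trivialized module -/
noncomputable def Triv.pow (P : Triv U L) (n : ℕ) : Triv U (CohB1.tensorPow L n) where
  s i := ePow L (U i) (P.s i) n
  bij i V h := Groth.Agent.Helper3.DiscPic2.bijective_of_isFrame _ _ _
    (Groth.Agent.Helper4.SN417.isFrame_ePow_of_isFrame
      (isFrame_of_bij L (U i) (P.s i) (P.bij i)) n) V h
  η i j := P.η i j ^ n
  trans i j := by
    rw [ePow_res, ePow_res, P.trans i j, ePow_smul]

@[simp] theorem Triv.pow_η (P : Triv U L) (n : ℕ) (i j : ι) : (P.pow n).η i j = P.η i j ^ n := rfl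

end Groth.Agent.Helper1.CC

namespace Groth.Agent.Helper1.GY

section Ring

variable {R : Type*} [CommRing R]

theorem add_pow_of_sq_zero (v x : R) (hx : x * x = 0) (n : ℕ) :
    (v + x) ^ (n + 1) = v ^ (n + 1) + ((n + 1 : ℕ) : R) * v ^ n * x := by
  induction n with
  | zero => simp
  | succ n ih =>
    rw [pow_succ, ih]
    push_cast
    linear_combination ((n : R) + 1) * v ^ n * hx

/-- uniqueness of `n`-th roots congruent modulo a square-zero ideal -/
theorem eq_of_pow_eq_of_sq_zero (n : ℕ) (ν : R) (hν : (n : R) * ν = 1) (u v : R) (hv : IsUnit v)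
    (hx : (u - v) * (u - v) = 0) (h : u ^ n = v ^ n) : u = v := by
  cases n with
  | zero =>
    simp at hν
    have : (1 : R) = 0 := by rw [← hν]
    have h1 : u = u * 1 := (mul_one u).symm
    have h2 : v = v * 1 := (mul_one v).symm
    rw [h1, h2, this, mul_zero, mul_zero]
  | succ n =>
    have h1 := add_pow_of_sq_zero v (u - v) hx n
    rw [add_sub_cancel, h] at h1
    have h2 : ((n + 1 : ℕ) : R) * v ^ n * (u - v) = 0 := by
      linear_combination -h1
    obtain ⟨w, hw⟩ := (hv.pow n).exists_right_inv
    have h3 : u - v = 0 := by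
      have : u - v = ν * w * (((n + 1 : ℕ) : R) * v ^ n * (u - v)) := by
        linear_combination (-(u - v) * ν * ((n + 1 : ℕ) : R)) * hw - (u - v) * hν
      rw [this, h2, mul_zero]
    exact sub_eq_zero.1 h3

/-- existence of `n`-th roots congruent to a given root modulo a square-zero ideal -/
theorem exists_root_of_sq_zero (n : ℕ) (ν : R) (hν : (n : R) * ν = 1) (g r : Rˣ) (b : R)
    (hb : b * b = 0) (hr : (r : R) = (g : R) ^ n * (1 + b)) :
    ∃ g' : Rˣ, (g' : R) = g * (1 + ν * b) ∧ (g' : R) ^ n = r := by
  have hu : (1 + ν * b) * (1 - ν * b) = 1 := by linear_combination (-ν * ν) * hb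
  refine ⟨g * Units.mkOfMulEqOne _ _ hu, rfl, ?_⟩
  rw [Units.val_mul, mul_pow, hr]
  congr 1
  cases n with
  | zero =>
    simp at hν
    have : (1 : R) = 0 := by rw [← hν]
    have h1 : ∀ z : R, z = 0 := fun z => by rw [← mul_one z, this, mul_zero]
    rw [h1 (1 + b)]; exact h1 _
  | succ n =>
    change (1 + ν * b) ^ (n + 1) = 1 + b
    have hb' : (ν * b) * (ν * b) = 0 := by linear_combination (ν * ν) * hb
    rw [add_pow_of_sq_zero 1 (ν * b) hb' n]
    simp only [one_pow, mul_one]
    linear_combination b * hν

end Ring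

end Groth.Agent.Helper1.GY
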