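import Mathlib
import Groth.Agent.Helper1.GY15

/-!
# GY16: `n`-th roots of invertible modules lift along square-zero thickenings (`n` invertible)
-/

set_option autoImplicit false
set_option linter.style.haveILetI false
set_option linter.unusedSectionVars false

universe u

open CategoryTheory CategoryTheory.Limits AlgebraicGeometry Opposite TopologicalSpace

namespace Groth.Agent.Helper1.GY

open Groth.Agent.Helper1.CC Groth.Agent.Helper1.SZ Groth.Agent.Helper4.TwistExt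

theorem ring_cocycle_root {R : Type*} [CommRing R] (a b c X1 X2 X3 H1 H2 H3 : R) (hb : IsUnit b)
    (hc : IsUnit c) (e1 : b * X1 = H1 * a) (e2 : c * X2 = H2 * b) (e3 : c * X3 = H3 * a)
    (h : H3 = H1 * H2) : X1 * X2 = X3 := by
  apply (hc.mul hb).mul_left_cancel
  linear_combination (c * X2) * e1 + (H1 * a) * e2 - b * e3 - b * a * h

/-- **roots lift along square-zero thickenings**: if `I² = 0` on a separated `X`, `n` is invertible
on `X`, and the restriction of the invertible module `L` to `V(I)` is an `n`-th tensor power, then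
`L` is an `n`-th tensor power. -/
theorem exists_root_subscheme (X : Scheme.{u}) [X.IsSeparated]
    (I : X.IdealSheafData) (hI : I ^ 2 = ⊥) (n : ℕ) (ν : Γ(X, ⊤)) (hν : (n : Γ(X, ⊤)) * ν = 1)
    (L : X.Modules) (hL : PicF.IsInvertible L)
    (L₀ : I.subscheme.Modules) (hL₀ : PicF.IsInvertible L₀)
    (hroot : Nonempty (CohB1.tensorPow L₀ n ≅ (Scheme.Modules.pullback I.subschemeι).obj L)) :
    ∃ M : X.Modules, PicF.IsInvertible M ∧ Nonempty (CohB1.tensorPow M n ≅ L) := by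
  classical
  have hsurj := Groth.Agent.Lead.LiftPow.subschemeι_surjective_of_pow_eq_bot I 2 hI
  have hloc : ∀ y : I.subscheme, ∃ (V : X.Opens) (e : Γ(L₀, I.subschemeι ⁻¹ᵁ V)) (t : Γ(L, V)),
      IsAffineOpen V ∧ I.subschemeι y ∈ V ∧ IsFrame L₀ (I.subschemeι ⁻¹ᵁ V) e ∧
        IsFrame L V t := by
    intro y
    obtain ⟨W, hyW, ⟨ε⟩⟩ := hL₀ y
    have hfr := isFrame_of_triv L₀ W ε
    obtain ⟨W', hyW', ⟨ε'⟩⟩ := hL (I.subschemeι y)
    have hfr' := isFrame_of_triv L W' ε'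
    obtain ⟨t, ht, htW⟩ := I.subschemeι.isClosedEmbedding.isInducing.isOpen_iff.1 W.isOpen
    have hyt : I.subschemeι y ∈ t ∩ (W' : Set X) := by
      refine ⟨?_, hyW'⟩
      have : y ∈ I.subschemeι ⁻¹' t := by rw [htW]; exact hyW
      exact this
    obtain ⟨_, ⟨V, hV : IsAffineOpen V, rfl⟩, hyV, hVt⟩ :=
      X.isBasis_affineOpens.exists_subset_of_mem_open hyt (ht.inter W'.isOpen)
    have hle : I.subschemeι ⁻¹ᵁ V ≤ W.ι ''ᵁ ⊤ := by
      rw [Scheme.Opens.ι_image_top]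
      intro z hz
      have : z ∈ I.subschemeι ⁻¹' t := (hVt hz).1
      rw [htW] at this
      exact this
    have hle' : V ≤ W'.ι ''ᵁ ⊤ := by
      rw [Scheme.Opens.ι_image_top]
      exact fun z hz => (hVt hz).2
    exact ⟨V, _, _, hV, hyV, Groth.Agent.Helper3.FrameFin.isFrame_of_le hfr hle,
      Groth.Agent.Helper3.FrameFin.isFrame_of_le hfr' hle'⟩
  choose V e t hVaff hyV he ht using hloc
  have hcov : ⨆ y, V y = ⊤ := by
    rw [eq_top_iff]
    intro x _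
    obtain ⟨y, rfl⟩ := hsurj x
    exact TopologicalSpace.Opens.mem_iSup.2 ⟨y, hyV y⟩
  obtain ⟨P₀, -⟩ := nonempty_triv_of_frames (fun y => I.subschemeι ⁻¹ᵁ V y) L₀ e he
  obtain ⟨P, -⟩ := nonempty_triv_of_frames V L t ht
  obtain ⟨ψ⟩ := hroot
  obtain ⟨w, hw⟩ := Triv.exists_units_of_iso (P₀.pow n) (P.pullback I.subschemeι) ψ
  have hW2 : ∀ i j, IsAffineOpen (V i ⊓ V j) := fun i j => (hVaff i).inf (hVaff j)
  choose wt hwt using fun i => exists_unit_lift I hI (hVaff i) (w i)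
  choose gt hgt using fun i j => exists_unit_lift I hI (hW2 i j) (P₀.ηu i j)
  -- the target cocycle
  let r : ∀ i j, (Γ(X, V i ⊓ V j))ˣ := fun i j =>
    (Units.map (ρ (inf_le_right : V i ⊓ V j ≤ V j)).toMonoidHom (wt j))⁻¹ * P.ηu i j *
      Units.map (ρ (inf_le_left : V i ⊓ V j ≤ V i)).toMonoidHom (wt i)
  have hr1 : ∀ i j, ρ (inf_le_right : V i ⊓ V j ≤ V j) (wt j : Γ(X, V j)) *
      (r i j : Γ(X, V i ⊓ V j)) =
        P.η i j * ρ (inf_le_left : V i ⊓ V j ≤ V i) (wt i : Γ(X, V i)) := by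
    intro i j
    have h1 : (Units.map (ρ (inf_le_right : V i ⊓ V j ≤ V j)).toMonoidHom (wt j)) * r i j =
        P.ηu i j * Units.map (ρ (inf_le_left : V i ⊓ V j ≤ V i)).toMonoidHom (wt i) := by
      simp only [r]
      rw [← mul_assoc, ← mul_assoc, mul_inv_cancel, one_mul]
    exact congrArg Units.val h1
  let η₀ : ∀ i j, Γ(I.subscheme, I.subschemeι ⁻¹ᵁ (V i ⊓ V j)) := fun i j => P₀.η i j
  have hr2 : ∀ i j, I.subschemeι.app (V i ⊓ V j) (r i j : Γ(X, V i ⊓ V j)) = η₀ i j ^ n := by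
    intro i j
    have h1 := congrArg (I.subschemeι.app (V i ⊓ V j)) (hr1 i j)
    rw [map_mul, map_mul, app_ρ, app_ρ, hwt, hwt] at h1
    have h2 := hw i j
    have h3 : (P.pullback I.subschemeι).η i j = I.subschemeι.app (V i ⊓ V j) (P.η i j) := rfl
    rw [h3] at h2
    have h4 : IsUnit (ρ (inf_le_right :
        I.subschemeι ⁻¹ᵁ V i ⊓ I.subschemeι ⁻¹ᵁ V j ≤ I.subschemeι ⁻¹ᵁ V j)
        (w j : Γ(I.subscheme, I.subschemeι ⁻¹ᵁ V j))) := (w j).isUnit.map _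
    apply h4.mul_left_cancel
    exact h1.trans (h2.trans rfl)
  -- restrictions of `ν`
  have hνW : ∀ W : X.Opens, ((n : ℕ) : Γ(X, W)) * ρ (le_top : W ≤ ⊤) ν = 1 := by
    intro W
    have h1 := congrArg (ρ (le_top : W ≤ ⊤)) hν
    rwa [map_mul, map_natCast, map_one] at h1
  -- the error terms
  let b : ∀ i j, Γ(X, V i ⊓ V j) := fun i j =>
    (r i j : Γ(X, V i ⊓ V j)) * (((gt i j)⁻¹ : (Γ(X, V i ⊓ V j))ˣ) : Γ(X, V i ⊓ V j)) ^ n - 1
  have hb0 : ∀ i j, I.subschemeι.app (V i ⊓ V j) (b i j) = 0 := by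
    intro i j
    simp only [b]
    rw [map_sub, map_mul, map_pow, hr2, map_one, ← mul_pow]
    have h1 : η₀ i j * I.subschemeι.app (V i ⊓ V j)
        (((gt i j)⁻¹ : (Γ(X, V i ⊓ V j))ˣ) : Γ(X, V i ⊓ V j)) = 1 := by
      have h2 : η₀ i j =
          I.subschemeι.app (V i ⊓ V j) (gt i j : Γ(X, V i ⊓ V j)) := (hgt i j).symm
      rw [h2, ← map_mul, Units.mul_inv, map_one]
    rw [h1, one_pow, sub_self]
  have hbb : ∀ i j, b i j * b i j = 0 := fun i j =>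
    mul_eq_zero_of_app_eq_zero' I hI _ _ (hb0 i j) (hb0 i j)
  have hrb : ∀ i j, (r i j : Γ(X, V i ⊓ V j)) = (gt i j : Γ(X, V i ⊓ V j)) ^ n * (1 + b i j) := by
    intro i j
    simp only [b]
    have h1 : (gt i j : Γ(X, V i ⊓ V j)) ^ n *
        (((gt i j)⁻¹ : (Γ(X, V i ⊓ V j))ˣ) : Γ(X, V i ⊓ V j)) ^ n = 1 := by
      rw [← mul_pow, Units.mul_inv, one_pow]
    linear_combination (-(r i j : Γ(X, V i ⊓ V j))) * h1
  choose g' hg'1 hg'2 using fun i j =>
    exists_root_of_sq_zero n (ρ (le_top : V i ⊓ V j ≤ ⊤) ν) (hνW _) (gt i j) (r i j) (b i j)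
      (hbb i j) (hrb i j)
  have hg'0 : ∀ i j, I.subschemeι.app (V i ⊓ V j) (g' i j : Γ(X, V i ⊓ V j)) = η₀ i j := by
    intro i j
    rw [hg'1, map_mul, map_add, map_mul, hb0, mul_zero, add_zero, map_one, mul_one]
    exact hgt i j
  have hcoc : ∀ i j k,
      ρ (inf_le_inf_right (V k) inf_le_left : V i ⊓ V j ⊓ V k ≤ V i ⊓ V k)
          (g' i k : Γ(X, V i ⊓ V k)) =
        ρ (inf_le_left : V i ⊓ V j ⊓ V k ≤ V i ⊓ V j) (g' i j : Γ(X, V i ⊓ V j)) *
          ρ (inf_le_inf_right (V k) inf_le_right : V i ⊓ V j ⊓ V k ≤ V j ⊓ V k)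
            (g' j k : Γ(X, V j ⊓ V k)) := by
    intro i j k
    symm
    have h0 : I.subschemeι.app (V i ⊓ V j ⊓ V k)
        (ρ (inf_le_left : V i ⊓ V j ⊓ V k ≤ V i ⊓ V j) (g' i j : Γ(X, V i ⊓ V j)) *
          ρ (inf_le_inf_right (V k) inf_le_right : V i ⊓ V j ⊓ V k ≤ V j ⊓ V k)
            (g' j k : Γ(X, V j ⊓ V k)) -
          ρ (inf_le_inf_right (V k) inf_le_left : V i ⊓ V j ⊓ V k ≤ V i ⊓ V k)
            (g' i k : Γ(X, V i ⊓ V k))) = 0 := by
      rw [map_sub, map_mul, app_ρ, app_ρ, app_ρ, hg'0, hg'0, hg'0]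
      exact sub_eq_zero.2 (P₀.cocycle i j k).symm
    apply eq_of_pow_eq_of_sq_zero n (ρ (le_top : V i ⊓ V j ⊓ V k ≤ ⊤) ν) (hνW _) _ _
      ((g' i k).isUnit.map _) (mul_eq_zero_of_app_eq_zero' I hI _ _ h0 h0)
    rw [mul_pow, ← map_pow, ← map_pow, ← map_pow, hg'2, hg'2, hg'2]
    have hi : V i ⊓ V j ⊓ V k ≤ V i := inf_le_left.trans inf_le_left
    have hj : V i ⊓ V j ⊓ V k ≤ V j := inf_le_left.trans inf_le_right
    have hk : V i ⊓ V j ⊓ V k ≤ V k := inf_le_right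
    have e1 := congrArg (ρ (inf_le_left : V i ⊓ V j ⊓ V k ≤ V i ⊓ V j)) (hr1 i j)
    have e2 := congrArg (ρ (inf_le_inf_right (V k) inf_le_right :
      V i ⊓ V j ⊓ V k ≤ V j ⊓ V k)) (hr1 j k)
    have e3 := congrArg (ρ (inf_le_inf_right (V k) inf_le_left :
      V i ⊓ V j ⊓ V k ≤ V i ⊓ V k)) (hr1 i k)
    simp only [map_mul, ρ_ρ] at e1 e2 e3
    exact ring_cocycle_root _ _ _ _ _ _ _ _ _ ((wt j).isUnit.map (ρ hj))
      ((wt k).isUnit.map (ρ hk)) e1 e2 e3 (P.cocycle i j k)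
  refine ⟨Lc V g', isInvertible_Lc V g' hcoc hcov, ?_⟩
  refine Triv.nonempty_iso_of_units ((trivLc V g' hcoc).pow n) P hcov wt (fun i j => ?_)
  have h1 : ((trivLc V g' hcoc).pow n).η i j = (g' i j : Γ(X, V i ⊓ V j)) ^ n := rfl
  rw [h1, hg'2]
  exact (hr1 i j).symm

end Groth.Agent.Helper1.GY
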