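import Mathlib
import Groth.Agent.Helper1.GY16

/-!
# GY17: `n`-th roots of invertible modules lift along square-zero closed immersions; the artinian
case
-/

set_option autoImplicit false
set_option linter.style.haveILetI false
set_option linter.unusedSectionVars false

universe u

open CategoryTheory CategoryTheory.Limits AlgebraicGeometry Opposite TopologicalSpace

namespace Groth.Agent.Helper1.GY

open Groth.Agent.Helper1.CC Groth.Agent.Helper1.SZ Groth.Agent.Helper4.TwistExt

/-- **roots lift along square-zero closed immersions** -/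
theorem exists_root_closedImmersion {X₀ X : Scheme.{u}} [X.IsSeparated] (i : X₀ ⟶ X)
    [IsClosedImmersion i] (hi : i.ker ^ 2 = ⊥) (n : ℕ) (ν : Γ(X, ⊤))
    (hν : (n : Γ(X, ⊤)) * ν = 1)
    (L : X.Modules) (hL : PicF.IsInvertible L) (L' : X₀.Modules) (hL' : PicF.IsInvertible L')
    (hroot : Nonempty (CohB1.tensorPow L' n ≅ (Scheme.Modules.pullback i).obj L)) :
    ∃ M : X.Modules, PicF.IsInvertible M ∧ Nonempty (CohB1.tensorPow M n ≅ L) := by
  obtain ⟨ψ⟩ := hroot
  have hL₀ : PicF.IsInvertible ((Scheme.Modules.pullback (inv i.toImage)).obj L') :=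
    Groth.Agent.Helper4.PullSec.isInvertible_pullback _ hL'
  have h : inv i.toImage ≫ i = i.ker.subschemeι := by
    have h1 : i.toImage ≫ i.imageι = i := i.toImage_imageι
    rw [IsIso.inv_comp_eq]
    exact h1.symm
  refine exists_root_subscheme X i.ker hi n ν hν L hL _ hL₀ ⟨?_⟩
  exact (Groth.Agent.Helper4.PullTensor.pullPowIso (inv i.toImage) hL' n).symm ≪≫
    (Scheme.Modules.pullback (inv i.toImage)).mapIso ψ ≪≫
    (Scheme.Modules.pullbackComp (inv i.toImage) i).app L ≪≫
    (Scheme.Modules.pullbackCongr h).app L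

/-- the artinian case: `A` local with `m^(ν+1) = 0`, `X` separated over `A`, `n` invertible in the
residue field, `L` on `X` whose restriction to `X ⊗ A/m^ν` is an `n`-th power -/
theorem exists_root_artinian (A : Type u) [CommRing A] [IsLocalRing A]
    (ν : ℕ) (hν : 1 ≤ ν) (hm : IsLocalRing.maximalIdeal A ^ (ν + 1) = ⊥)
    (X : Scheme.{u}) (f : X ⟶ Spec (CommRingCat.of A)) [IsSeparated f]
    (n : ℕ) (hn : (n : IsLocalRing.ResidueField A) ≠ 0)
    (L : X.Modules) (hL : PicF.IsInvertible L)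
    (L' : (pullback f (Spec.map (CommRingCat.ofHom
      (Ideal.Quotient.mk (IsLocalRing.maximalIdeal A ^ ν))))).Modules)
    (hL' : PicF.IsInvertible L')
    (hroot : Nonempty (CohB1.tensorPow L' n ≅
      (Scheme.Modules.pullback (pullback.fst f (Spec.map (CommRingCat.ofHom
        (Ideal.Quotient.mk (IsLocalRing.maximalIdeal A ^ ν)))))).obj L)) :
    ∃ M : X.Modules, PicF.IsInvertible M ∧ Nonempty (CohB1.tensorPow M n ≅ L) := by
  haveI : X.IsSeparated := ⟨by rw [← terminal.comp_from f]; infer_instance⟩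
  have hnA : IsUnit ((n : ℕ) : A) := by
    by_contra h
    have h1 : ((n : ℕ) : A) ∈ IsLocalRing.maximalIdeal A := (IsLocalRing.mem_maximalIdeal _).2 h
    apply hn
    have h2 := (IsLocalRing.residue_eq_zero_iff _).2 h1
    rwa [map_natCast] at h2
  obtain ⟨a, ha⟩ := hnA.exists_right_inv
  let φ : A →+* Γ(X, ⊤) :=
    (f.appTop).hom.comp (Scheme.ΓSpecIso (CommRingCat.of A)).inv.hom
  have hφ : ((n : ℕ) : Γ(X, ⊤)) * φ a = 1 := by
    rw [← map_natCast φ n, ← map_mul, ha, map_one]
  have hk : RingHom.ker (CommRingCat.ofHom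
      (Ideal.Quotient.mk (IsLocalRing.maximalIdeal A ^ ν))).hom ^ 2 = ⊥ := by
    change RingHom.ker (Ideal.Quotient.mk (IsLocalRing.maximalIdeal A ^ ν)) ^ 2 = ⊥
    rw [Ideal.mk_ker, ← pow_mul, eq_bot_iff, ← hm]
    exact Ideal.pow_le_pow_right (by omega)
  haveI : IsClosedImmersion (Spec.map (CommRingCat.ofHom
      (Ideal.Quotient.mk (IsLocalRing.maximalIdeal A ^ ν)))) :=
    IsClosedImmersion.spec_of_surjective _ Ideal.Quotient.mk_surjective
  obtain ⟨hcl, hker⟩ := Groth.Agent.Helper9.Thicken.ker_pow_eq_bot_of_isPullback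
    (IsPullback.of_hasPullback f (Spec.map (CommRingCat.ofHom
      (Ideal.Quotient.mk (IsLocalRing.maximalIdeal A ^ ν))))) 2
    (Groth.Agent.Helper9.Thicken.ker_specMap_pow_eq_bot _ 2 hk)
  exact exists_root_closedImmersion _ hker n (φ a) hφ L hL L' hL' hroot

end Groth.Agent.Helper1.GY
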