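import Mathlib
import Groth.Agent.Helper1.HenselThick2
import Groth.Agent.Lead.Thick3

/-!
# GY18: Hensel lifting of simple roots along a nil thickening, over an arbitrary open
-/

set_option autoImplicit false
set_option linter.style.haveILetI false
set_option linter.unusedSectionVars false

namespace Groth.Agent.Helper1.HenselThick

open CategoryTheory AlgebraicGeometry Opposite TopologicalSpace Polynomial
open Groth.Agent.Helper1.CC

universe u

variable {W₀ X : Scheme.{u}} (t : W₀ ⟶ X)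

section local_

variable [IsClosedImmersion t]
  (hnil : ∀ V : X.Opens, IsAffineOpen V → ∀ x ∈ RingHom.ker (t.app V).hom, IsNilpotent x)
  (W : X.Opens) (G : Γ(X, W)[X]) (b : Γ(W₀, t ⁻¹ᵁ W))
  (hb : (G.map (t.app W).hom).eval b = 0)
  (hu : IsUnit ((G.map (t.app W).hom).derivative.eval b))

include hnil hb hu in
/-- the local unique lifts -/
lemma existsUnique_local_open {V : X.Opens} (hV : IsAffineOpen V) (hVW : V ≤ W) :
    ∃! s : Γ(X, V), (t.app V).hom s = ρ (preimage_mono t hVW) b ∧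
      (G.map (ρ hVW)).eval s = 0 := by
  have hmap : (G.map (ρ hVW)).map (t.app V).hom =
      (G.map (t.app W).hom).map (ρ (preimage_mono t hVW)) := by
    rw [Polynomial.map_map, Polynomial.map_map]
    congr 1
    exact app_comp_ρ t hVW
  apply existsUnique_root (t.app V).hom (t.app_surjective V hV) (hnil V hV)
  · rw [hmap, Polynomial.eval_map_apply, hb, map_zero]
  · rw [hmap, Polynomial.derivative_map, Polynomial.eval_map_apply]
    exact hu.map _

include hnil hb hu in
/-- **Hensel lifting along a nil thickening, over an open**: a simple root of `G` in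
`Γ(W₀, t⁻¹W)` lifts uniquely to a root in `Γ(X, W)`. -/
theorem existsUnique_lift_open : ∃! s : Γ(X, W), (t.app W).hom s = b ∧ G.eval s = 0 := by
  let Idx := {V : X.affineOpens // V.1 ≤ W}
  have hloc := fun (V : Idx) => existsUnique_local_open t hnil W G b hb hu V.1.2 V.2
  choose sV hsV huniq using hloc
  have hcomp : ∀ (V V' : Idx) (h : V'.1.1 ≤ V.1.1), ρ h (sV V) = sV V' := by
    intro V V' h
    apply huniq V'
    constructor
    · rw [app_ρ, (hsV V).1, ρ_ρ]
    · have hm : G.map (ρ V'.2) = (G.map (ρ V.2)).map (ρ h) := by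
        rw [Polynomial.map_map]
        congr 1
        ext a
        exact (ρ_ρ h V.2 a).symm
      rw [hm, Polynomial.eval_map_apply, (hsV V).2, map_zero]
  have hbasis : ∀ x ∈ W, ∃ V : Idx, x ∈ V.1.1 := by
    intro x hx
    obtain ⟨_, ⟨V, hV : IsAffineOpen V, rfl⟩, hxV, hle⟩ :=
      X.isBasis_affineOpens.exists_subset_of_mem_open hx W.isOpen
    exact ⟨⟨⟨V, hV⟩, hle⟩, hxV⟩
  have hcover : W ≤ ⨆ V : Idx, V.1.1 := by
    intro x hx
    obtain ⟨V, hxV⟩ := hbasis x hx
    exact Opens.mem_iSup.2 ⟨V, hxV⟩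
  have hcompat : TopCat.Presheaf.IsCompatible X.presheaf (fun V : Idx => V.1.1) sV := by
    intro V V'
    apply eq_of_locally
    intro x hx
    obtain ⟨_, ⟨V'', hV'' : IsAffineOpen V'', rfl⟩, hxV'', hle⟩ :=
      X.isBasis_affineOpens.exists_subset_of_mem_open hx (V.1.1 ⊓ V'.1.1).isOpen
    have hle' : V'' ≤ V.1.1 ⊓ V'.1.1 := hle
    clear hle
    refine ⟨V'', hle', hxV'', ?_⟩
    have h1 : ρ hle' (X.presheaf.map (Opens.infLELeft V.1.1 V'.1.1).op (sV V)) =
        ρ (hle'.trans inf_le_left) (sV V) := ρ_ρ hle' inf_le_left (sV V)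
    have h2 : ρ hle' (X.presheaf.map (Opens.infLERight V.1.1 V'.1.1).op (sV V')) =
        ρ (hle'.trans inf_le_right) (sV V') := ρ_ρ hle' inf_le_right (sV V')
    have hV''W : V'' ≤ W := (hle'.trans inf_le_left).trans V.2
    rw [h1, h2, hcomp V ⟨⟨V'', hV''⟩, hV''W⟩, hcomp V' ⟨⟨V'', hV''⟩, hV''W⟩]
  obtain ⟨s, hs, -⟩ := X.sheaf.existsUnique_gluing' (fun V : Idx => V.1.1) W
    (fun V => homOfLE V.2) hcover sV hcompat
  have hs' : ∀ V : Idx, ρ V.2 s = sV V := hs
  refine ⟨s, ⟨?_, ?_⟩, ?_⟩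
  · apply eq_of_locally
    intro x hx
    obtain ⟨V, hxV⟩ := hbasis (t x) hx
    refine ⟨t ⁻¹ᵁ V.1.1, preimage_mono t V.2, hxV, ?_⟩
    have h1 := app_ρ t V.2 s
    rw [hs' V, (hsV V).1] at h1
    exact h1.symm
  · apply eq_of_locally
    intro x hx
    obtain ⟨V, hxV⟩ := hbasis x hx
    refine ⟨V.1.1, V.2, hxV, ?_⟩
    have h := (Polynomial.eval_map_apply (p := G) (ρ V.2) s).symm
    rw [h, hs' V, (hsV V).2, map_zero]
  · rintro s' ⟨h1, h2⟩
    apply eq_of_locally
    intro x hx
    obtain ⟨V, hxV⟩ := hbasis x hx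
    refine ⟨V.1.1, V.2, hxV, ?_⟩
    rw [hs' V]
    apply huniq V
    constructor
    · rw [app_ρ, h1]
    · rw [Polynomial.eval_map_apply, h2, map_zero]

end local_

end Groth.Agent.Helper1.HenselThick
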