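import Mathlib
import Groth.Agent.Helper1.GY17
import Groth.Agent.Helper1.GY18

/-!
# GY19: torsion invertible modules lift along thickenings (`n` invertible)
-/

set_option autoImplicit false
set_option linter.style.haveILetI false
set_option linter.unusedSectionVars false

universe u

open CategoryTheory CategoryTheory.Limits AlgebraicGeometry Opposite TopologicalSpace

namespace Groth.Agent.Helper1.GY

open Groth.Agent.Helper1.CC Groth.Agent.Helper1.SZ Groth.Agent.Helper4.TwistExt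
  Groth.Agent.Helper1.HenselThick Groth.Agent.Helper4.GenLoc

/-- the tautological trivialization of the structure module -/
noncomputable def trivUnit {X : Scheme.{u}} {ι : Type u} (U : ι → X.Opens) :
    Triv U (Coh.structureModule X) where
  s i := one X (U i)
  bij i V h := by
    have h1 : (Coh.structureModule X).presheaf.map (homOfLE h).op (one X (U i)) = one X V :=
      map_one (X.presheaf.map (homOfLE h).op).hom
    rw [h1]
    constructor
    · intro r r' hrr
      have h2 : toFn (r • one X V) = toFn (r' • one X V) := congrArg toFn hrr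
      rwa [smul_one, smul_one] at h2
    · intro m
      exact ⟨toFn m, mul_one (toFn m)⟩
  η i j := 1
  trans i j := by
    rw [one_smul]
    exact (map_one (X.presheaf.map (homOfLE _).op).hom).trans
      (map_one (X.presheaf.map (homOfLE _).op).hom).symm

@[simp] theorem trivUnit_η {X : Scheme.{u}} {ι : Type u} (U : ι → X.Opens) (i j : ι) :
    (trivUnit U).η i j = 1 := rfl

theorem ring_cancel3 {R : Type*} [CommRing R] (X1 X2 X3 ci cj ck : R) (hk : IsUnit ck)
    (e1 : X1 * cj = ci) (e2 : X2 * ck = cj) (e3 : X3 * ck = ci) : X1 * X2 = X3 := by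
  apply hk.mul_right_cancel
  linear_combination X1 * e2 + e1 - e3

open Polynomial in
/-- **torsion invertible modules lift along thickenings** (subscheme form) -/
theorem exists_torsion_lift_subscheme (X' : Scheme.{u}) (I : X'.IdealSheafData)
    (hsurj : Function.Surjective I.subschemeι) (n : ℕ) (hn : 0 < n)
    (hu : IsUnit ((n : ℕ) : Γ(I.subscheme, ⊤)))
    (L : I.subscheme.Modules) (hL : PicF.IsInvertible L)
    (hLn : Nonempty (CohB1.tensorPow L n ≅ Coh.structureModule I.subscheme)) :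
    ∃ L' : X'.Modules, PicF.IsInvertible L' ∧
      Nonempty (CohB1.tensorPow L' n ≅ Coh.structureModule X') ∧
      Nonempty ((Scheme.Modules.pullback I.subschemeι).obj L' ≅ L) := by
  classical
  have hnil : ∀ V : X'.Opens, IsAffineOpen V →
      ∀ x ∈ RingHom.ker (I.subschemeι.app V).hom, IsNilpotent x :=
    fun V hV x hx => mem_nilradical.1
      (Groth.Agent.Lead.Thick.ker_app_le_nilradical I.subschemeι hsurj hV hx)
  have hnX : ∀ W₀ : I.subscheme.Opens, IsUnit ((n : ℕ) : Γ(I.subscheme, W₀)) := fun W₀ => by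
    have := hu.map (ρ (le_top : W₀ ≤ ⊤))
    rwa [map_natCast] at this
  have hloc : ∀ y : I.subscheme, ∃ (V : X'.Opens) (e : Γ(L, I.subschemeι ⁻¹ᵁ V)),
      IsAffineOpen V ∧ I.subschemeι y ∈ V ∧ IsFrame L (I.subschemeι ⁻¹ᵁ V) e := by
    intro y
    obtain ⟨W, hyW, ⟨ε⟩⟩ := hL y
    have hfr := isFrame_of_triv L W ε
    obtain ⟨t, ht, htW⟩ := I.subschemeι.isClosedEmbedding.isInducing.isOpen_iff.1 W.isOpen
    have hyt : I.subschemeι y ∈ t := by
      have : y ∈ I.subschemeι ⁻¹' t := by rw [htW]; exact hyW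
      exact this
    obtain ⟨_, ⟨V, hV : IsAffineOpen V, rfl⟩, hyV, hVt⟩ :=
      X'.isBasis_affineOpens.exists_subset_of_mem_open hyt ht
    have hle : I.subschemeι ⁻¹ᵁ V ≤ W.ι ''ᵁ ⊤ := by
      rw [Scheme.Opens.ι_image_top]
      intro z hz
      have : z ∈ I.subschemeι ⁻¹' t := hVt hz
      rw [htW] at this
      exact this
    exact ⟨V, _, hV, hyV, Groth.Agent.Helper3.FrameFin.isFrame_of_le hfr hle⟩
  choose V e hVaff hyV he using hloc
  have hcov : ⨆ y, V y = ⊤ := by
    rw [eq_top_iff]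
    intro x _
    obtain ⟨y, rfl⟩ := hsurj x
    exact TopologicalSpace.Opens.mem_iSup.2 ⟨y, hyV y⟩
  have hcov₀ : iSup (fun y => I.subschemeι ⁻¹ᵁ V y) = ⊤ := by
    rw [eq_top_iff]
    intro y _
    exact TopologicalSpace.Opens.mem_iSup.2 ⟨y, hyV y⟩
  obtain ⟨P₀, -⟩ := nonempty_triv_of_frames (fun y => I.subschemeι ⁻¹ᵁ V y) L e he
  obtain ⟨ψ⟩ := hLn
  obtain ⟨w, hw⟩ := Triv.exists_units_of_iso (P₀.pow n) (trivUnit _) ψ
  -- lift the units `w`
  have hwl : ∀ i, ∃ wt : (Γ(X', V i))ˣ,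
      I.subschemeι.app (V i) (wt : Γ(X', V i)) = (w i : Γ(I.subscheme, I.subschemeι ⁻¹ᵁ V i)) := by
    intro i
    obtain ⟨s, hs⟩ := I.subschemeι.app_surjective (V i) (hVaff i)
      (w i : Γ(I.subscheme, I.subschemeι ⁻¹ᵁ V i))
    have hsu : IsUnit s := isUnit_of_map_of_nil (I.subschemeι.app (V i)).hom (hnil _ (hVaff i))
      (I.subschemeι.app_surjective (V i) (hVaff i)) s (by
        have : (I.subschemeι.app (V i)).hom s = (w i : Γ(I.subscheme, I.subschemeι ⁻¹ᵁ V i)) := hs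
        rw [this]; exact (w i).isUnit)
    exact ⟨hsu.unit, hs⟩
  choose wt hwt using hwl
  let r : ∀ i j, (Γ(X', V i ⊓ V j))ˣ := fun i j =>
    Units.map (ρ (inf_le_left : V i ⊓ V j ≤ V i)).toMonoidHom (wt i) *
      (Units.map (ρ (inf_le_right : V i ⊓ V j ≤ V j)).toMonoidHom (wt j))⁻¹
  have hr1 : ∀ i j, (r i j : Γ(X', V i ⊓ V j)) *
      ρ (inf_le_right : V i ⊓ V j ≤ V j) (wt j : Γ(X', V j)) =
        ρ (inf_le_left : V i ⊓ V j ≤ V i) (wt i : Γ(X', V i)) := by
    intro i j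
    have h1 : r i j * Units.map (ρ (inf_le_right : V i ⊓ V j ≤ V j)).toMonoidHom (wt j) =
        Units.map (ρ (inf_le_left : V i ⊓ V j ≤ V i)).toMonoidHom (wt i) := by
      simp only [r]
      rw [mul_assoc, inv_mul_cancel, mul_one]
    exact congrArg Units.val h1
  let η₀ : ∀ i j, Γ(I.subscheme, I.subschemeι ⁻¹ᵁ (V i ⊓ V j)) := fun i j => P₀.η i j
  have hη₀u : ∀ i j, IsUnit (η₀ i j) := fun i j => P₀.isUnit_η i j
  have hr2 : ∀ i j, I.subschemeι.app (V i ⊓ V j) (r i j : Γ(X', V i ⊓ V j)) = η₀ i j ^ n := by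
    intro i j
    have h1 := congrArg (I.subschemeι.app (V i ⊓ V j)) (hr1 i j)
    rw [map_mul, SZ.app_ρ, SZ.app_ρ, hwt, hwt] at h1
    have h2 := hw i j
    rw [trivUnit_η, one_mul] at h2
    have h4 : IsUnit (ρ (inf_le_right :
        I.subschemeι ⁻¹ᵁ V i ⊓ I.subschemeι ⁻¹ᵁ V j ≤ I.subschemeι ⁻¹ᵁ V j)
        (w j : Γ(I.subscheme, I.subschemeι ⁻¹ᵁ V j))) := (w j).isUnit.map _
    apply h4.mul_right_cancel
    refine h1.trans (h2.trans ?_)
    exact mul_comm _ _
  -- Hensel: the `n`-th roots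
  have hroot : ∀ (W : X'.Opens) (rr : Γ(X', W)) (b : Γ(I.subscheme, I.subschemeι ⁻¹ᵁ W)),
      IsUnit b → (I.subschemeι.app W).hom rr = b ^ n →
      ∃! s : Γ(X', W), (I.subschemeι.app W).hom s = b ∧ s ^ n = rr := by
    intro W rr b hbu hrb
    have h := existsUnique_lift_open I.subschemeι hnil W (X ^ n - C rr) b (by
      simp only [Polynomial.map_sub, Polynomial.map_pow, Polynomial.map_X, Polynomial.map_C,
        eval_sub, eval_pow, eval_X, eval_C]
      rw [hrb, sub_self]) (by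
      simp only [Polynomial.map_sub, Polynomial.map_pow, Polynomial.map_X, Polynomial.map_C,
        derivative_sub, derivative_X_pow, derivative_C, sub_zero, eval_mul, eval_pow, eval_X,
        eval_C]
      have h1 := hnX (I.subschemeι ⁻¹ᵁ W)
      exact h1.mul (hbu.pow _))
    obtain ⟨s, ⟨hs1, hs2⟩, hs3⟩ := h
    refine ⟨s, ⟨hs1, ?_⟩, ?_⟩
    · simp only [eval_sub, eval_pow, eval_X, eval_C] at hs2
      exact sub_eq_zero.1 hs2
    · rintro s' ⟨h1, h2⟩
      apply hs3
      refine ⟨h1, ?_⟩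
      simp only [eval_sub, eval_pow, eval_X, eval_C]
      rw [h2, sub_self]
  choose g' hg' hguniq using fun i j =>
    hroot (V i ⊓ V j) (r i j : Γ(X', V i ⊓ V j)) (η₀ i j) (hη₀u i j) (hr2 i j)
  have hg'u : ∀ i j, IsUnit (g' i j) := by
    intro i j
    have h1 : IsUnit (g' i j ^ n) := by rw [(hg' i j).2]; exact (r i j).isUnit
    exact (isUnit_pow_iff hn.ne').1 h1
  let gU : ∀ i j, (Γ(X', V i ⊓ V j))ˣ := fun i j => (hg'u i j).unit
  have hgU : ∀ i j, ((gU i j : (Γ(X', V i ⊓ V j))ˣ) : Γ(X', V i ⊓ V j)) = g' i j := fun i j => rfl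
  have hcoc : ∀ i j k,
      ρ (inf_le_inf_right (V k) inf_le_left : V i ⊓ V j ⊓ V k ≤ V i ⊓ V k)
          (gU i k : Γ(X', V i ⊓ V k)) =
        ρ (inf_le_left : V i ⊓ V j ⊓ V k ≤ V i ⊓ V j) (gU i j : Γ(X', V i ⊓ V j)) *
          ρ (inf_le_inf_right (V k) inf_le_right : V i ⊓ V j ⊓ V k ≤ V j ⊓ V k)
            (gU j k : Γ(X', V j ⊓ V k)) := by
    intro i j k
    rw [hgU, hgU, hgU]
    have hi : V i ⊓ V j ⊓ V k ≤ V i := inf_le_left.trans inf_le_left
    have hj : V i ⊓ V j ⊓ V k ≤ V j := inf_le_left.trans inf_le_right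
    have hk : V i ⊓ V j ⊓ V k ≤ V k := inf_le_right
    have hik : V i ⊓ V j ⊓ V k ≤ V i ⊓ V k := inf_le_inf_right (V k) inf_le_left
    have hij : V i ⊓ V j ⊓ V k ≤ V i ⊓ V j := inf_le_left
    have hjk : V i ⊓ V j ⊓ V k ≤ V j ⊓ V k := inf_le_inf_right (V k) inf_le_right
    -- the unique root on the triple overlap
    have hb0 : (I.subschemeι.app (V i ⊓ V j ⊓ V k)).hom (ρ hik (r i k : Γ(X', V i ⊓ V k))) =
        (ρ (pm I hik) (η₀ i k)) ^ n := by
      have h1 := SZ.app_ρ I hik (r i k : Γ(X', V i ⊓ V k))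
      rw [hr2, map_pow] at h1
      exact h1
    have hT := hroot (V i ⊓ V j ⊓ V k) (ρ hik (r i k : Γ(X', V i ⊓ V k)))
      (ρ (pm I hik) (η₀ i k)) ((hη₀u i k).map _) hb0
    apply hT.unique
    · constructor
      · have h1 := SZ.app_ρ I hik (g' i k)
        rw [(hg' i k).1] at h1
        exact h1
      · rw [← map_pow, (hg' i k).2]
    · constructor
      · have h1 := SZ.app_ρ I hij (g' i j)
        have h2 := SZ.app_ρ I hjk (g' j k)
        rw [(hg' i j).1] at h1
        rw [(hg' j k).1] at h2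
        have h3 : (I.subschemeι.app (V i ⊓ V j ⊓ V k)).hom (ρ hij (g' i j) * ρ hjk (g' j k)) =
            ρ (pm I hij) (η₀ i j) * ρ (pm I hjk) (η₀ j k) := by
          rw [map_mul]
          exact congrArg₂ (· * ·) h1 h2
        exact h3.trans (P₀.cocycle i j k).symm
      · rw [mul_pow, ← map_pow, ← map_pow, (hg' i j).2, (hg' j k).2]
        have e1 := congrArg (ρ hij) (hr1 i j)
        have e2 := congrArg (ρ hjk) (hr1 j k)
        have e3 := congrArg (ρ hik) (hr1 i k)
        simp only [map_mul, ρ_ρ] at e1 e2 e3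
        exact ring_cancel3 _ _ _ _ _ _ ((wt k).isUnit.map (ρ hk)) e1 e2 e3
  refine ⟨Lc V gU, isInvertible_Lc V gU hcoc hcov, ?_, ?_⟩
  · refine Triv.nonempty_iso_of_units ((trivLc V gU hcoc).pow n) (trivUnit V) hcov wt
      (fun i j => ?_)
    have h1 : ((trivLc V gU hcoc).pow n).η i j = g' i j ^ n := rfl
    rw [h1, (hg' i j).2, trivUnit_η, one_mul, mul_comm]
    exact (hr1 i j).symm
  · refine Triv.nonempty_iso_of_units ((trivLc V gU hcoc).pullback I.subschemeι) P₀ hcov₀
      (fun _ => 1) (fun i j => ?_)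
    have h1 : ((trivLc V gU hcoc).pullback I.subschemeι).η i j = P₀.η i j := (hg' i j).1
    rw [h1]
    simp only [Units.val_one, map_one, mul_one, one_mul]

end Groth.Agent.Helper1.GY
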