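import Mathlib
import Groth.Agent.Helper1.GY19
import Groth.Agent.Helper4.PullUnit

/-!
# GY20: torsion invertible modules lift along thickenings, closed immersion form
-/

set_option autoImplicit false
set_option linter.style.haveILetI false
set_option linter.unusedSectionVars false

universe u

open CategoryTheory CategoryTheory.Limits AlgebraicGeometry Opposite TopologicalSpace

namespace Groth.Agent.Helper1.GY

open Groth.Agent.Helper1.CC Groth.Agent.Helper1.SZ

/-- **`Pic(X')[n] → Pic(X)[n]` is surjective for a thickening `X → X'`, `n` invertible on `X`** -/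
theorem exists_torsion_lift_closedImmersion {X X' : Scheme.{u}} (i : X ⟶ X') [IsClosedImmersion i]
    (hsurj : Function.Surjective i) (n : ℕ) (hn : 0 < n) (hu : IsUnit ((n : ℕ) : Γ(X, ⊤)))
    (L : X.Modules) (hL : PicF.IsInvertible L)
    (hLn : Nonempty (CohB1.tensorPow L n ≅ Coh.structureModule X)) :
    ∃ L' : X'.Modules, PicF.IsInvertible L' ∧
      Nonempty (CohB1.tensorPow L' n ≅ Coh.structureModule X') ∧
      Nonempty ((Scheme.Modules.pullback i).obj L' ≅ L) := by
  obtain ⟨ψ⟩ := hLn
  have hL₀ : PicF.IsInvertible ((Scheme.Modules.pullback (inv i.toImage)).obj L) :=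
    Groth.Agent.Helper4.PullSec.isInvertible_pullback _ hL
  have h : inv i.toImage ≫ i = i.ker.subschemeι := by
    have h1 : i.toImage ≫ i.imageι = i := i.toImage_imageι
    rw [IsIso.inv_comp_eq]
    exact h1.symm
  have hsurj' : Function.Surjective i.ker.subschemeι := by
    rw [← h]
    intro x
    obtain ⟨y, rfl⟩ := hsurj x
    refine ⟨i.toImage y, ?_⟩
    rw [← Scheme.Hom.comp_apply, IsIso.hom_inv_id_assoc]
  have hu' : IsUnit ((n : ℕ) : Γ(i.ker.subscheme, ⊤)) := by
    have := hu.map (inv i.toImage).appTop.hom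
    rwa [map_natCast] at this
  obtain ⟨L', hL', hL'n, ⟨e⟩⟩ := exists_torsion_lift_subscheme X' i.ker hsurj' n hn hu' _ hL₀
    ⟨(Groth.Agent.Helper4.PullTensor.pullPowIso (inv i.toImage) hL n).symm ≪≫
      (Scheme.Modules.pullback (inv i.toImage)).mapIso ψ ≪≫
      Groth.Agent.Helper4.PullUnit.pullbackUnitIso (inv i.toImage)⟩
  refine ⟨L', hL', hL'n, ⟨?_⟩⟩
  exact (Scheme.Modules.pullbackCongr i.toImage_imageι.symm).app L' ≪≫
    ((Scheme.Modules.pullbackComp i.toImage i.imageι).app L').symm ≪≫
    (Scheme.Modules.pullback i.toImage).mapIso e ≪≫ pullInvPull i.toImage L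

end Groth.Agent.Helper1.GY
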