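import Mathlib
import Groth.Prelude.Def_FSch4
import Groth.Agent.Lead.EtThick
import Groth.Agent.Helper5.TopInv6
import Groth.Agent.Helper5.FinThick1

/-!
# Étale covers and thickenings, in cartesian-square form

* `GY.exists_lift_of_isPullback`: lifting morphisms to an étale scheme along a thickening;
* `GY.exists_fet_lift`: lifting finite étale covers along a thickening, with a cartesian square.
-/

set_option autoImplicit false
universe u
open CategoryTheory CategoryTheory.Limits AlgebraicGeometry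

namespace Groth.Agent.Helper1.GY

/-- the base change of a thickening is a thickening: closed immersion part -/
theorem isClosedImmersion_of_isPullback {Y₀ Y S₀ S : Scheme.{u}} {j : Y₀ ⟶ Y} {g₀ : Y₀ ⟶ S₀}
    {g : Y ⟶ S} {i : S₀ ⟶ S} (sq : IsPullback j g₀ g i) [IsClosedImmersion i] :
    IsClosedImmersion j :=
  MorphismProperty.of_isPullback (P := @IsClosedImmersion) sq.flip inferInstance

/-- the base change of a thickening is a thickening: surjectivity part -/
theorem surjective_of_isPullback {Y₀ Y S₀ S : Scheme.{u}} {j : Y₀ ⟶ Y} {g₀ : Y₀ ⟶ S₀}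
    {g : Y ⟶ S} {i : S₀ ⟶ S} (sq : IsPullback j g₀ g i) [Surjective i] :
    Surjective j :=
  MorphismProperty.of_isPullback (P := @Surjective) sq.flip inferInstance

/-- **Lifting morphisms to an étale scheme along a thickening**, in cartesian form. -/
theorem exists_lift_of_isPullback {Y₀ Y S₀ S X : Scheme.{u}} {j : Y₀ ⟶ Y} {g₀ : Y₀ ⟶ S₀}
    {g : Y ⟶ S} {i : S₀ ⟶ S} (sq : IsPullback j g₀ g i) [IsClosedImmersion i] [Surjective i]
    (f : X ⟶ S) [Etale f] (b : Y₀ ⟶ X) (hb : b ≫ f = g₀ ≫ i) :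
    ∃ a : Y ⟶ X, a ≫ f = g ∧ j ≫ a = b := by
  obtain ⟨a, ha1, ha2⟩ := Groth.Agent.Lead.EtThick.exists_lift i f g (sq.isoPullback.inv ≫ b) (by
    rw [Category.assoc, hb, ← Category.assoc, sq.isoPullback_inv_snd])
  refine ⟨a, ha1, ?_⟩
  have : j = sq.isoPullback.hom ≫ pullback.fst g i := (sq.isoPullback_hom_fst).symm
  rw [this, Category.assoc, ha2, Iso.hom_inv_id_assoc]

/-- **Lifting finite étale covers along a thickening**, with a cartesian square. -/
theorem exists_fet_lift {S₀ S R₀ : Scheme.{u}} (i : S₀ ⟶ S) [IsClosedImmersion i] [Surjective i]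
    (p₀ : R₀ ⟶ S₀) [IsFinite p₀] [Etale p₀] :
    ∃ (R : Scheme.{u}) (p : R ⟶ S) (j : R₀ ⟶ R), IsFinite p ∧ Etale p ∧ IsPullback j p₀ p i := by
  haveI : Etale (Over.mk p₀).hom := inferInstanceAs (Etale p₀)
  obtain ⟨W, hW, ⟨e⟩⟩ := Groth.Agent.Helper5.TopInv.exists_etale_lift i (X₀ := Over.mk p₀)
  haveI := hW
  have he : e.hom.left ≫ p₀ = pullback.snd W.hom i := Over.w e.hom
  haveI : IsIso e.hom.left := (Over.forget S₀).map_isIso e.hom
  have hfin : IsFinite (pullback.snd W.hom i) := by
    rw [← he]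
    infer_instance
  have hWfin : IsFinite W.hom := Groth.Agent.Helper5.FinThick.isFinite_of_thickening i W.hom hfin
  refine ⟨W.left, W.hom, inv e.hom.left ≫ pullback.fst W.hom i, hWfin, hW, ?_⟩
  refine IsPullback.of_iso (IsPullback.of_hasPullback W.hom i) (asIso e.hom.left) (Iso.refl _)
    (Iso.refl _) (Iso.refl _) ?_ ?_ ?_ ?_
  · simp
  · simp [he]
  · simp
  · simp

end Groth.Agent.Helper1.GY
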