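import Mathlib
import Groth.Prelude.Def_FSch4
import Groth.Agent.Helper1.GY21

/-!
# Étale covers of a formal system and of its smallest level
-/

set_option autoImplicit false
universe u
open CategoryTheory CategoryTheory.Limits AlgebraicGeometry

namespace Groth.Agent.Helper1.GY

open FSch

variable (𝔛 : FSch.Sys.{u}) (hform : 𝔛.IsFormal)

section Faithful

variable {𝔛}

/-- the transition maps of an adic system over a formal system are surjective -/
theorem surjective_ι_of_isAdicHom {ℜ : FSch.Sys.{u}} (f : ℜ ⟶ 𝔛) (hf : FSch.IsAdicHom f)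
    (hform : 𝔛.IsFormal) (n : ℕ) : Surjective (ℜ.ι n) := by
  haveI : Surjective (𝔛.ι n) := ⟨(hform n).2⟩
  exact surjective_of_isPullback (hf n)

include hform in
/-- two morphisms of étale covers which agree at level `0` agree at every level -/
theorem app_eq_of_app_zero_eq {R R' : FSch.EtCov 𝔛} (φ ψ : R ⟶ R')
    (h0 : (φ.hom.left : FSch.Hom _ _).app 0 = (ψ.hom.left : FSch.Hom _ _).app 0) (n : ℕ) :
    (φ.hom.left : FSch.Hom _ _).app n = (ψ.hom.left : FSch.Hom _ _).app n := by
  induction n with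
  | zero => exact h0
  | succ n ih =>
    haveI := surjective_ι_of_isAdicHom R.obj.hom R.property.1 hform n
    haveI : Etale ((R'.obj.hom : FSch.Hom _ _).app (n + 1)) := (R'.property.2 (n + 1)).2
    refine Groth.Agent.Lead.EtThick.hom_ext_of_surjective (R.obj.left.ι n)
      ((R'.obj.hom : FSch.Hom _ _).app (n + 1)) _ _ ?_ ?_
    · rw [← (φ.hom.left : FSch.Hom _ _).comm n, ← (ψ.hom.left : FSch.Hom _ _).comm n, ih]
    · have e1 := congrArg (fun t : FSch.Hom _ _ => t.app (n + 1)) (Over.w φ.hom)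
      have e2 := congrArg (fun t : FSch.Hom _ _ => t.app (n + 1)) (Over.w ψ.hom)
      exact e1.trans e2.symm

include hform in
theorem level_zero_faithful : (FSch.EtCov.level 𝔛 0).Faithful :=
  ⟨fun {R R'} φ ψ h => by
    have h0 : (φ.hom.left : FSch.Hom _ _).app 0 = (ψ.hom.left : FSch.Hom _ _).app 0 := by
      have := congrArg (fun t => t.hom.left) h
      exact this
    apply ObjectProperty.hom_ext
    apply Over.OverMorphism.ext
    apply FSch.Hom.ext
    funext n
    exact app_eq_of_app_zero_eq hform φ ψ h0 n⟩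

end Faithful


section Full

variable {𝔛}

/-- the data of a lift at level `n` -/
def LiftAt (R R' : FSch.EtCov 𝔛) (n : ℕ) : Type u :=
  {a : R.obj.left.X n ⟶ R'.obj.left.X n //
    a ≫ (R'.obj.hom : FSch.Hom _ _).app n = (R.obj.hom : FSch.Hom _ _).app n}

include hform in
theorem exists_step (R R' : FSch.EtCov 𝔛) (n : ℕ) (a : LiftAt R R' n) :
    ∃ b : LiftAt R R' (n + 1), R.obj.left.ι n ≫ b.1 = a.1 ≫ R'.obj.left.ι n := by
  haveI : IsClosedImmersion (𝔛.ι n) := (hform n).1
  haveI : Surjective (𝔛.ι n) := ⟨(hform n).2⟩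
  haveI : Etale ((R'.obj.hom : FSch.Hom _ _).app (n + 1)) := (R'.property.2 (n + 1)).2
  obtain ⟨b, hb1, hb2⟩ := exists_lift_of_isPullback (R.property.1 n)
    ((R'.obj.hom : FSch.Hom _ _).app (n + 1)) (a.1 ≫ R'.obj.left.ι n) (by
      rw [Category.assoc, ← (R'.obj.hom : FSch.Hom _ _).comm n, ← Category.assoc, a.2])
  exact ⟨⟨b, hb1⟩, hb2⟩

/-- one step of the lifting -/
noncomputable def step (R R' : FSch.EtCov 𝔛) (n : ℕ) (a : LiftAt R R' n) : LiftAt R R' (n + 1) :=
  Classical.choose (exists_step hform R R' n a)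

theorem step_spec (R R' : FSch.EtCov 𝔛) (n : ℕ) (a : LiftAt R R' n) :
    R.obj.left.ι n ≫ (step hform R R' n a).1 = a.1 ≫ R'.obj.left.ι n :=
  Classical.choose_spec (exists_step hform R R' n a)

/-- the sequence of lifts of a morphism at level `0` -/
noncomputable def liftSeq (R R' : FSch.EtCov 𝔛) (a₀ : LiftAt R R' 0) : ∀ n, LiftAt R R' n
  | 0 => a₀
  | n + 1 => step hform R R' n (liftSeq R R' a₀ n)

include hform in
theorem level_zero_full : (FSch.EtCov.level 𝔛 0).Full :=
  ⟨fun {R R'} φ₀ => by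
    have hw : φ₀.left ≫ (R'.obj.hom : FSch.Hom _ _).app 0 = (R.obj.hom : FSch.Hom _ _).app 0 :=
      Over.w φ₀.hom
    let a₀ : LiftAt R R' 0 := ⟨φ₀.left, hw⟩
    let φ : R.obj.left ⟶ R'.obj.left :=
      ⟨fun n => (liftSeq hform R R' a₀ n).1, fun n => (step_spec hform R R' n _).symm⟩
    have hφ : φ ≫ R'.obj.hom = R.obj.hom := by
      apply FSch.Hom.ext
      funext n
      exact (liftSeq hform R R' a₀ n).2
    refine ⟨ObjectProperty.homMk (Over.homMk φ hφ), ?_⟩
    ext
    rfl⟩

end Full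

section EssSurj

/-- a finite étale scheme over level `n` -/
def CovAt (n : ℕ) : Type (u + 1) :=
  {p : Over (𝔛.X n) // IsFinite p.hom ∧ Etale p.hom}

variable {𝔛}

include hform in
theorem exists_cstep (n : ℕ) (c : CovAt 𝔛 n) :
    ∃ (d : CovAt 𝔛 (n + 1)) (j : c.1.left ⟶ d.1.left), IsPullback j c.1.hom d.1.hom (𝔛.ι n) := by
  haveI : IsClosedImmersion (𝔛.ι n) := (hform n).1
  haveI : Surjective (𝔛.ι n) := ⟨(hform n).2⟩
  haveI : IsFinite c.1.hom := c.2.1
  haveI : Etale c.1.hom := c.2.2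
  obtain ⟨R, p, j, h1, h2, h3⟩ := exists_fet_lift (𝔛.ι n) c.1.hom
  exact ⟨⟨Over.mk p, h1, h2⟩, j, h3⟩

noncomputable def cstep (n : ℕ) (c : CovAt 𝔛 n) : CovAt 𝔛 (n + 1) :=
  Classical.choose (exists_cstep hform n c)

noncomputable def cstepι (n : ℕ) (c : CovAt 𝔛 n) : c.1.left ⟶ (cstep hform n c).1.left :=
  Classical.choose (Classical.choose_spec (exists_cstep hform n c))

theorem cstep_isPullback (n : ℕ) (c : CovAt 𝔛 n) :
    IsPullback (cstepι hform n c) c.1.hom (cstep hform n c).1.hom (𝔛.ι n) :=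
  Classical.choose_spec (Classical.choose_spec (exists_cstep hform n c))

noncomputable def covSeq (c₀ : CovAt 𝔛 0) : ∀ n, CovAt 𝔛 n
  | 0 => c₀
  | n + 1 => cstep hform n (covSeq c₀ n)

/-- the system of schemes of the lifted covers -/
noncomputable def covSys (c₀ : CovAt 𝔛 0) : FSch.Sys.{u} where
  X n := (covSeq hform c₀ n).1.left
  ι n := cstepι hform n (covSeq hform c₀ n)

/-- its structure morphism -/
noncomputable def covHom (c₀ : CovAt 𝔛 0) : covSys hform c₀ ⟶ 𝔛 :=
  ⟨fun n => (covSeq hform c₀ n).1.hom, fun n => (cstep_isPullback hform n _).w.symm⟩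

theorem covHom_isEtaleCover (c₀ : CovAt 𝔛 0) : FSch.IsEtaleCover (covHom hform c₀) :=
  ⟨fun n => cstep_isPullback hform n _, fun n => (covSeq hform c₀ n).2⟩

include hform in
theorem level_zero_essSurj : (FSch.EtCov.level 𝔛 0).EssSurj :=
  ⟨fun R₀ => by
    let c₀ : CovAt 𝔛 0 := ⟨Over.mk R₀.hom, R₀.prop.1, R₀.prop.2⟩
    let R : FSch.EtCov 𝔛 := ⟨Over.mk (covHom hform c₀), covHom_isEtaleCover hform c₀⟩
    refine ⟨R, ⟨MorphismProperty.Over.isoMk (Iso.refl _) ?_⟩⟩
    exact Category.id_comp _⟩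

include hform in
theorem level_zero_isEquivalence : (FSch.EtCov.level 𝔛 0).IsEquivalence := by
  haveI := level_zero_faithful hform
  haveI := level_zero_full hform
  haveI := level_zero_essSurj hform
  exact {}

end EssSurj

end Groth.Agent.Helper1.GY
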