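import Mathlib
import Groth.Agent.Helper1.GrT12
import Groth.Agent.Helper1.TwistAmple

/-!
# The action of the base ring on sections over `Proj`: the global function attached to `ρ : R`
has value `ρ / 1` at every point
-/

set_option autoImplicit false

namespace Groth.Agent.Helper1.ProjSpR

open CategoryTheory AlgebraicGeometry TopologicalSpace Opposite HomogeneousLocalization
open Groth.Agent.Helper1.GrT

universe u
variable {R A : Type u} [CommRing R] [CommRing A] [Algebra R A] (𝒜 : ℕ → Submodule R A)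
  [GradedAlgebra 𝒜]

section chart

variable (f : A) {m : ℕ} (hf : f ∈ 𝒜 m) (hm : 0 < m)

theorem awayι_eq :
    Spec.map (Proj.basicOpenIsoAway 𝒜 f hf hm).hom ≫ Proj.awayι 𝒜 f hf hm =
      (Proj.isAffineOpen_basicOpen 𝒜 f hf hm).fromSpec := by
  rw [Proj.awayι, IsAffineOpen.fromSpec, ← Category.assoc]
  congr 1
  rw [Iso.comp_inv_eq, Proj.basicOpenIsoSpec_hom, Proj.basicOpenToSpec]
  have h1 : (Proj.isAffineOpen_basicOpen 𝒜 f hf hm).isoSpec.inv ≫ (Proj.basicOpen 𝒜 f).toSpecΓ = 𝟙 _ :=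
    (Proj.isAffineOpen_basicOpen 𝒜 f hf hm).isoSpec_inv_toSpecΓ
  rw [reassoc_of% h1]
  rfl

theorem fromSpec_toSpecZero : (Proj.isAffineOpen_basicOpen 𝒜 f hf hm).fromSpec ≫ Proj.toSpecZero 𝒜 =
    Spec.map (CommRingCat.ofHom (fromZeroRingHom 𝒜 _) ≫ (Proj.basicOpenIsoAway 𝒜 f hf hm).hom) := by
  rw [← awayι_eq, Category.assoc, Proj.awayι_toSpecZero, ← Spec.map_comp]

theorem toSpecZero_appLE :
    (Scheme.ΓSpecIso (CommRingCat.of (𝒜 0))).inv ≫ (Proj.toSpecZero 𝒜).appLE ⊤ (Proj.basicOpen 𝒜 f) le_top =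
      CommRingCat.ofHom (fromZeroRingHom 𝒜 _) ≫ (Proj.basicOpenIsoAway 𝒜 f hf hm).hom := by
  apply Spec.map_injective
  have h := IsAffineOpen.SpecMap_appLE_fromSpec (Proj.toSpecZero 𝒜) (isAffineOpen_top _)
    (Proj.isAffineOpen_basicOpen 𝒜 f hf hm) le_top
  rw [IsAffineOpen.fromSpec_top, Scheme.isoSpec_Spec_inv, ← Spec.map_comp] at h
  rw [h, fromSpec_toSpecZero]

end chart

theorem evO_toSpecZero (c₀ : 𝒜 0) (y : Proj 𝒜) :
    (evO 𝒜 ⊤ y trivial ((Proj.toSpecZero 𝒜).appTop.hom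
      ((Scheme.ΓSpecIso (CommRingCat.of (𝒜 0))).inv.hom c₀))).val =
      mkO y (c₀ : A) 1 (Groth.Agent.Helper1.TwistMul.one_notMem 𝒜 y) := by
  obtain ⟨m, f, hm, hf, hy⟩ := exists_pos_deg_notMem 𝒜 y
  have hyf : y ∈ Proj.basicOpen 𝒜 f := hy
  have h1 := congrArg (fun φ => φ.hom c₀) (toSpecZero_appLE 𝒜 f hf hm)
  simp only [CommRingCat.hom_comp, RingHom.comp_apply, CommRingCat.hom_ofHom] at h1
  have h2 : ((Proj.toSpecZero 𝒜).appLE ⊤ (Proj.basicOpen 𝒜 f) le_top).hom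
      ((Scheme.ΓSpecIso (CommRingCat.of (𝒜 0))).inv.hom c₀) =
      (Proj 𝒜).presheaf.map (homOfLE (le_top : Proj.basicOpen 𝒜 f ≤ ⊤)).op
        ((Proj.toSpecZero 𝒜).appTop.hom
          ((Scheme.ΓSpecIso (CommRingCat.of (𝒜 0))).inv.hom c₀)) := rfl
  rw [← evO_res 𝒜 (le_top : Proj.basicOpen 𝒜 f ≤ ⊤) y hyf, ← h2, h1, evO_apply]
  rw [Proj.basicOpenIsoAway_hom]
  refine (ProjectiveSpectrum.Proj.awayToSection_apply 𝒜 f _ ⟨y, hyf⟩).trans ?_
  have h3 : ((fromZeroRingHom 𝒜 (Submonoid.powers f)) c₀).val =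
      Localization.mk (c₀ : A) (1 : Submonoid.powers f) := rfl
  rw [h3, Localization.mk_eq_mk', IsLocalization.map_mk']
  unfold mkO
  rw [Localization.mk_eq_mk']
  rfl

theorem toGlobal_eq (ρ : R) :
    Coh.toGlobal (Proj.toSpecZero 𝒜 ≫ Spec.map (CommRingCat.ofHom (algebraMap R (𝒜 0)))) ρ =
      (Proj.toSpecZero 𝒜).appTop.hom
        ((Scheme.ΓSpecIso (CommRingCat.of (𝒜 0))).inv.hom (algebraMap R (𝒜 0) ρ)) := by
  unfold Coh.toGlobal
  have h := Scheme.ΓSpecIso_inv_naturality (CommRingCat.ofHom (algebraMap R (𝒜 0)))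
  have h2 := congrArg (fun φ => (Proj.toSpecZero 𝒜).appTop.hom (φ.hom ρ)) h
  simp only [CommRingCat.hom_comp, RingHom.comp_apply, CommRingCat.hom_ofHom] at h2
  rw [h2]
  rfl

theorem evO_toGlobal (ρ : R) (y : Proj 𝒜) :
    (evO 𝒜 ⊤ y trivial
      (Coh.toGlobal (Proj.toSpecZero 𝒜 ≫ Spec.map (CommRingCat.ofHom (algebraMap R (𝒜 0)))) ρ)).val =
      mkO y (algebraMap R A ρ) 1 (Groth.Agent.Helper1.TwistMul.one_notMem 𝒜 y) := by
  rw [toGlobal_eq, evO_toSpecZero]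
  rfl

/-- the structure morphism `Proj 𝒜 ⟶ Spec R` -/
noncomputable abbrev toSpecR : Proj 𝒜 ⟶ Spec (CommRingCat.of R) :=
  Proj.toSpecZero 𝒜 ≫ Spec.map (CommRingCat.ofHom (algebraMap R (𝒜 0)))

variable {M : Type u} [AddCommGroup M] [Module R M] [Module A M] [IsScalarTower R A M]
  (ℳ : ℕ → Submodule R M) [DirectSum.Decomposition ℳ] [SetLike.GradedSMul 𝒜 ℳ]

set_option synthInstance.maxHeartbeats 400000 in
/-- the value of `ρ • s` is `ρ` times the value of `s` -/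
theorem val_smulAb (n : ℤ) (W : (Proj 𝒜).Opens) (ρ : R)
    (s : Γ(GrTilde.tilde 𝒜 ℳ n, W)) (y : Proj 𝒜) (hy : y ∈ W) :
    val (𝒜 := 𝒜) (ℳ := ℳ) (n := n) (U := W)
      ((Coh.smulAb (GrTilde.tilde 𝒜 ℳ n) (Coh.toGlobal (toSpecR 𝒜) ρ)).hom.app (op W) s) y hy =
      algebraMap R A ρ • val (𝒜 := 𝒜) (ℳ := ℳ) (n := n) (U := W) s y hy := by
  have h1 : (Coh.smulAb (GrTilde.tilde 𝒜 ℳ n) (Coh.toGlobal (toSpecR 𝒜) ρ)).hom.app (op W) s =
      ((Proj 𝒜).presheaf.map (homOfLE (le_top : W ≤ ⊤)).op (Coh.toGlobal (toSpecR 𝒜) ρ) :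
        Γ(Proj 𝒜, W)) • s := rfl
  rw [h1, GrT.val_smul, evO_res, evO_toGlobal]
  have h2 := smul_mkO_smul y (algebraMap R A ρ) 1 (Groth.Agent.Helper1.TwistMul.one_notMem 𝒜 y)
    (val (𝒜 := 𝒜) (ℳ := ℳ) (n := n) (U := W) s y hy)
  rw [one_smul] at h2
  exact h2

end Groth.Agent.Helper1.ProjSpR
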