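import Mathlib
import Groth.Agent.Helper1.GamBij6

/-!
# `M_n ≃ H⁰(Proj S, M(n)~)` linearly over the base ring, when `M_n → Γ(M(n)~)` is bijective
-/

set_option autoImplicit false
set_option linter.unusedSectionVars false
set_option linter.style.haveILetI false

namespace Groth.Agent.Helper1.GamBij

open CategoryTheory Limits AlgebraicGeometry TopologicalSpace Opposite DirectSum
open Groth.Agent.Helper1.GrT

universe u

variable {R A : Type u} [CommRing R] [CommRing A] [Algebra R A] (𝒜 : ℕ → Submodule R A)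
  [GradedAlgebra 𝒜]
variable {M : Type u} [AddCommGroup M] [Module R M] [Module A M] [IsScalarTower R A M]
  (ℳ : ℕ → Submodule R M) [DirectSum.Decomposition ℳ] [SetLike.GradedSMul 𝒜 ℳ]

lemma globalOf_add {n : ℕ} (m m' : ℳ n) :
    GrTilde.globalOf 𝒜 ℳ (m + m') = GrTilde.globalOf 𝒜 ℳ m + GrTilde.globalOf 𝒜 ℳ m' := by
  apply sect_ext
  intro y hy
  rw [val_add]
  show ι₁ y ((m + m' : ℳ n) : M) = ι₁ y (m : M) + ι₁ y (m' : M)
  rw [Submodule.coe_add, ι₁_add]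

lemma globalOf_smul {n : ℕ} (ρ : R) (m : ℳ n) :
    GrTilde.globalOf 𝒜 ℳ (ρ • m) =
      @HSMul.hSMul Γ(Proj 𝒜, ⊤) Γ(GrTilde.tilde 𝒜 ℳ (n : ℤ), ⊤) Γ(GrTilde.tilde 𝒜 ℳ (n : ℤ), ⊤) _
        (Coh.toGlobal ((Proj 𝒜) ↘ Spec (CommRingCat.of R)) ρ) (GrTilde.globalOf 𝒜 ℳ m) := by
  apply sect_ext
  intro y hy
  refine Eq.trans ?_ (val_toGlobal_smul 𝒜 ℳ (n : ℤ) ρ (GrTilde.globalOf 𝒜 ℳ m) y).symm
  show ι₁ y ((ρ • m : ℳ n) : M) = algebraMap R A ρ • ι₁ y (m : M)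
  rw [Submodule.coe_smul, ← ι₁_smul, algebraMap_smul]

/-- the `R`-linear map `M_n → H⁰(Proj S, M(n)~)` -/
noncomputable def toH0 (n : ℕ) : ℳ n →ₗ[R] Coh.HH (Proj 𝒜) (GrTilde.tilde 𝒜 ℳ (n : ℤ)) 0 where
  toFun m := (Sheaf.H.equiv₀ ((SheafOfModules.toSheaf (Proj 𝒜).ringCatSheaf).obj
    (GrTilde.tilde 𝒜 ℳ (n : ℤ))) isTerminalTop).symm (GrTilde.globalOf 𝒜 ℳ m)
  map_add' m m' := by
    rw [globalOf_add]
    exact map_add _ _ _
  map_smul' ρ m := by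
    apply (Sheaf.H.equiv₀ ((SheafOfModules.toSheaf (Proj 𝒜).ringCatSheaf).obj
      (GrTilde.tilde 𝒜 ℳ (n : ℤ))) isTerminalTop).injective
    rw [AddEquiv.apply_symm_apply, RingHom.id_apply]
    refine Eq.trans ?_ (Groth.Agent.Helper1.KzLin.equiv₀_smul (GrTilde.tilde 𝒜 ℳ (n : ℤ))
      (Coh.toGlobal ((Proj 𝒜) ↘ Spec (CommRingCat.of R)) ρ) _).symm
    rw [AddEquiv.apply_symm_apply]
    exact globalOf_smul 𝒜 ℳ ρ m

theorem toH0_bijective (n : ℕ)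
    (h : Function.Bijective (fun m : ℳ n => GrTilde.globalOf 𝒜 ℳ m)) :
    Function.Bijective (toH0 𝒜 ℳ n) :=
  (Sheaf.H.equiv₀ ((SheafOfModules.toSheaf (Proj 𝒜).ringCatSheaf).obj
    (GrTilde.tilde 𝒜 ℳ (n : ℤ))) isTerminalTop).symm.bijective.comp h

end Groth.Agent.Helper1.GamBij
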