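import Mathlib
import Groth.Agent.Helper1.GamBij4

/-!
# `Proj` of a noetherian graded ring generated in degree one, over its degree zero part:
basic geometric facts and Serre vanishing for the modules `M(n)~`
-/

set_option autoImplicit false
set_option linter.unusedSectionVars false
set_option linter.style.haveILetI false

namespace Groth.Agent.Helper1.GamZ

open CategoryTheory AlgebraicGeometry TopologicalSpace Opposite DirectSum
open Groth.Agent.Helper1.GrT Groth.Agent.Helper1.GamBij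

universe u

variable {R A : Type u} [CommRing R] [CommRing A] [Algebra R A] (𝒜 : ℕ → Submodule R A)
  [GradedAlgebra 𝒜]

/-- `Proj 𝒜` as a scheme over `Spec (𝒜 0)` -/
noncomputable def projOverZero : (Proj 𝒜).Over (Spec (CommRingCat.of (𝒜 0))) :=
  ⟨Proj.toSpecZero 𝒜⟩

section Pre

variable {r : ℕ} (g : Fin (r + 1) → A) (hg1 : ∀ i, g i ∈ 𝒜 1)
  (hirr : (HomogeneousIdeal.irrelevant 𝒜).toIdeal = Ideal.span (Set.range g))

include hirr in
theorem hcov_pt (y : ProjectiveSpectrum 𝒜) : ∃ j, g j ∉ y.asHomogeneousIdeal := by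
  by_contra hcon
  push Not at hcon
  apply y.not_irrelevant_le
  intro a ha
  have ha' : a ∈ (HomogeneousIdeal.irrelevant 𝒜).toIdeal := ha
  rw [hirr] at ha'
  have hle : Ideal.span (Set.range g) ≤ y.asHomogeneousIdeal.toIdeal := by
    rw [Ideal.span_le]
    rintro _ ⟨j, rfl⟩
    exact hcon j
  exact hle ha'

include hg1 hirr in
theorem hcov_one : (⨆ f : 𝒜 1, Proj.basicOpen 𝒜 (f : A)) = ⊤ :=
  Groth.Agent.Helper1.TwistMul.iSup_eq_top_of_hgen 𝒜 (irrelevant_eq_span_one 𝒜 g hg1 hirr)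

include hg1 hirr in
theorem compactSpace_proj : CompactSpace (Proj 𝒜) := by
  constructor
  have h1 : (Set.univ : Set (Proj 𝒜)) = ⋃ i, ((Proj.basicOpen 𝒜 (g i) : (Proj 𝒜).Opens) :
      Set (Proj 𝒜)) := by
    have := congrArg (fun U : (Proj 𝒜).Opens => (U : Set (Proj 𝒜)))
      (Proj.iSup_basicOpen_eq_top 𝒜 g hirr.le)
    simp only [Opens.coe_iSup, Opens.coe_top] at this
    exact this.symm
  rw [h1]
  exact isCompact_iUnion
    (fun i => (Proj.isAffineOpen_basicOpen 𝒜 (g i) (hg1 i) Nat.one_pos).isCompact)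

include hg1 hirr in
theorem finiteType_zero : Algebra.FiniteType (𝒜 0) A := by
  classical
  have h := (Groth.Agent.Helper2.irrelevant_eq_span_iff_adjoin_eq_top 𝒜 (Set.range g)
    (by rintro _ ⟨i, rfl⟩; exact ⟨1, Nat.one_pos, hg1 i⟩)).1 hirr
  exact ⟨⟨Finset.univ.image g, by
    rw [Finset.coe_image, Finset.coe_univ, Set.image_univ]; exact h⟩⟩

include hg1 hirr in
theorem isProper_toSpecZero : IsProper (Proj.toSpecZero 𝒜) := by
  haveI := finiteType_zero 𝒜 g hg1 hirr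
  infer_instance

include hg1 hirr in
theorem isAmple_twist_one : CohB1.IsAmple (Twist.twist 𝒜 1) := by
  haveI := compactSpace_proj 𝒜 g hg1 hirr
  have hL : CohB1.IsAmple (Twist.twist 𝒜 ((1 : ℕ) : ℤ)) :=
    Groth.Agent.Helper1.TwistMul.isAmple_twist 𝒜 (hcov_one 𝒜 g hg1 hirr) 1 Nat.one_pos
  rwa [Nat.cast_one] at hL

end Pre

variable {M : Type u} [AddCommGroup M] [Module R M] [Module A M] [IsScalarTower R A M]
  (ℳ : ℕ → Submodule R M) [DirectSum.Decomposition ℳ] [SetLike.GradedSMul 𝒜 ℳ]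

section Coh

variable {r : ℕ} (g : Fin (r + 1) → A) (hg1 : ∀ i, g i ∈ 𝒜 1)
  (hirr : (HomogeneousIdeal.irrelevant 𝒜).toIdeal = Ideal.span (Set.range g))

include hirr in
theorem isCoh_tilde_zero [Module.Finite A M] : Coh.IsCoh (GrTilde.tilde 𝒜 ℳ 0) := by
  classical
  refine ⟨isQuasicoherent_tilde 𝒜 ℳ 0, ?_⟩
  apply isFiniteType_tilde_of_TF 𝒜 ℳ
  · rw [hirr]
    exact ⟨(Set.finite_range g).toFinset, by rw [Set.Finite.coe_toFinset]⟩
  · refine ⟨0, ?_⟩
    have htop : Submodule.span A (⋃ k ∈ Set.Ici 0, (ℳ k : Set M)) = ⊤ := by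
      rw [eq_top_iff]
      intro m _
      rw [← DirectSum.sum_support_decompose ℳ m]
      refine Submodule.sum_mem _ (fun k _ => ?_)
      apply Submodule.subset_span
      simp only [Set.mem_iUnion, Set.mem_Ici, SetLike.mem_coe]
      exact ⟨k, Nat.zero_le k, SetLike.coe_mem _⟩
    rw [htop]
    exact Module.Finite.fg_top

include hg1 hirr in
theorem isCoh_tilde [Module.Finite A M] (n : ℤ) : Coh.IsCoh (GrTilde.tilde 𝒜 ℳ n) := by
  have hcov := hcov_one 𝒜 g hg1 hirr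
  obtain ⟨e⟩ := Groth.Agent.Helper1.TwistMul.nonempty_tensor_twist_iso 𝒜 ℳ hcov 0 n n (by ring)
  have h0 := isCoh_tilde_zero 𝒜 ℳ g hirr
  have hB := Groth.Agent.Helper1.SerreFin.isCoh_of_isInvertible _
    (Groth.Agent.Helper1.TwistMul.isInvertible_twist 𝒜 hcov n)
  haveI : (GrTilde.tilde 𝒜 ℳ 0).IsQuasicoherent := h0.1
  haveI : (Twist.twist 𝒜 n).IsQuasicoherent := hB.1
  exact Groth.Agent.Lead.PerfLib.isCoh_of_iso e
    ⟨Groth.Agent.Lead.QcohTensor.isQuasicoherent_tensorMod _ _,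
      Groth.Agent.Lead.QcohTensor.isFT_tensorMod _ _ h0.2 hB.2⟩

include hg1 hirr in
/-- **Serre vanishing for the modules `M(n)~`** -/
theorem exists_vanishing_tilde [IsNoetherianRing (𝒜 0)] [Module.Finite A M] :
    ∃ n₀ : ℕ, ∀ n : ℕ, n₀ ≤ n → ∀ j : ℕ, 1 ≤ j →
      Subsingleton (Coh.HH (Proj 𝒜) (GrTilde.tilde 𝒜 ℳ (n : ℤ)) j) := by
  have hcov := hcov_one 𝒜 g hg1 hirr
  haveI := isProper_toSpecZero 𝒜 g hg1 hirr
  obtain ⟨n₀, hn₀⟩ := Groth.Agent.Helper1.SV.serre_vanishing (𝒜 0)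
    (Proj.toSpecZero 𝒜) (isAmple_twist_one 𝒜 g hg1 hirr)
    (GrTilde.tilde 𝒜 ℳ 0) (isCoh_tilde_zero 𝒜 ℳ g hirr)
  refine ⟨n₀, fun n hn j hj => ?_⟩
  obtain ⟨e⟩ := Groth.Agent.Helper1.TwistMul.nonempty_tensor_twist_iso 𝒜 ℳ hcov 0 (n : ℤ)
    (n : ℤ) (by ring)
  obtain ⟨ε⟩ := Groth.Agent.Helper1.TwistMul.nonempty_twist_iso_tensorPow 𝒜 hcov n
  exact Groth.Agent.Helper1.SerreCrit.subsingleton_HH_of_iso
    ((PicGrp.tensorModIso (Iso.refl _) ε).symm ≪≫ e) j (hn₀ n hn j hj)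

end Coh

end Groth.Agent.Helper1.GamZ
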