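import Mathlib
import Groth.Agent.Helper1.GamZ1
import Groth.Agent.Helper1.GamBij6

/-!
# `M_n → Γ(Proj S, M(n)~)` is bijective for large `n` (noetherian graded ring generated in
degree one; the base is the degree zero part)
-/

set_option autoImplicit false
set_option linter.unusedSectionVars false
set_option linter.style.haveILetI false

namespace Groth.Agent.Helper1.GamZ

open CategoryTheory AlgebraicGeometry TopologicalSpace Opposite DirectSum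
open Groth.Agent.Helper1.GrT Groth.Agent.Helper1.GamBij

universe u

variable {R A : Type u} [CommRing R] [CommRing A] [Algebra R A] (𝒜 : ℕ → Submodule R A)
  [GradedAlgebra 𝒜]
variable {M : Type u} [AddCommGroup M] [Module R M] [Module A M] [IsScalarTower R A M]
  (ℳ : ℕ → Submodule R M) [DirectSum.Decomposition ℳ] [SetLike.GradedSMul 𝒜 ℳ]

attribute [local instance] projOverZero

set_option synthInstance.maxHeartbeats 400000 in
/-- the value of `c₀ • s`, `c₀` of degree zero -/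
lemma val_toGlobal_smul (n : ℤ) (c₀ : 𝒜 0) (s : Γ(GrTilde.tilde 𝒜 ℳ n, ⊤)) (y : Proj 𝒜) :
    val (𝒜 := 𝒜) (ℳ := ℳ) (n := n) (U := ⊤)
      (@HSMul.hSMul Γ(Proj 𝒜, ⊤) Γ(GrTilde.tilde 𝒜 ℳ n, ⊤) Γ(GrTilde.tilde 𝒜 ℳ n, ⊤) _
        (Coh.toGlobal ((Proj 𝒜) ↘ Spec (CommRingCat.of (𝒜 0))) c₀) s) y trivial =
      (c₀ : A) • val (𝒜 := 𝒜) (ℳ := ℳ) (n := n) (U := ⊤) s y trivial := by
  refine (GrT.val_smul 𝒜 ℳ n ⊤ (Coh.toGlobal ((Proj 𝒜) ↘ Spec (CommRingCat.of (𝒜 0))) c₀) s y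
    trivial).trans ?_
  have h1 := Groth.Agent.Helper1.ProjSpR.evO_toSpecZero 𝒜 c₀ y
  have h1' : (evO 𝒜 ⊤ y trivial
      (Coh.toGlobal ((Proj 𝒜) ↘ Spec (CommRingCat.of (𝒜 0))) c₀)).val =
      mkO y (c₀ : A) 1 (Groth.Agent.Helper1.TwistMul.one_notMem 𝒜 y) := h1
  rw [h1']
  have h2 := smul_mkO_smul y (c₀ : A) 1 (Groth.Agent.Helper1.TwistMul.one_notMem 𝒜 y)
    (val (𝒜 := 𝒜) (ℳ := ℳ) (n := n) (U := ⊤) s y trivial)
  rw [one_smul] at h2
  exact h2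

/-- finitely many global sections span all global sections over the degree zero part, valuewise -/
theorem exists_span_val (n : ℤ)
    [Module.Finite (𝒜 0) (Coh.HH (Proj 𝒜) (GrTilde.tilde 𝒜 ℳ n) 0)] :
    ∃ (b : ℕ) (σ : Fin b → Γ(GrTilde.tilde 𝒜 ℳ n, ⊤)), ∀ t : Γ(GrTilde.tilde 𝒜 ℳ n, ⊤),
      ∃ a : Fin b → 𝒜 0, ∀ y : ProjectiveSpectrum.top 𝒜,
        val (𝒜 := 𝒜) (ℳ := ℳ) (n := n) (U := ⊤) t y trivial =
          ∑ j, ((a j : 𝒜 0) : A) • val (𝒜 := 𝒜) (ℳ := ℳ) (n := n) (U := ⊤) (σ j) y trivial := by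
  obtain ⟨b, σ, hσ⟩ := Groth.Agent.Helper1.Fin.exists_span_toGlobal (𝒜 0) (GrTilde.tilde 𝒜 ℳ n)
  refine ⟨b, σ, fun t => ?_⟩
  obtain ⟨a, ha⟩ := hσ t
  refine ⟨a, fun y => ?_⟩
  rw [ha]
  refine (Groth.Agent.Helper1.KzMult.val_finset_sum 𝒜 ℳ Finset.univ n ⊤ _ y trivial).trans ?_
  refine Finset.sum_congr rfl (fun j _ => ?_)
  exact val_toGlobal_smul 𝒜 ℳ n (a j) (σ j) y

variable {r : ℕ} (g : Fin (r + 1) → A) (hg1 : ∀ i, g i ∈ 𝒜 1)
  (hirr : (HomogeneousIdeal.irrelevant 𝒜).toIdeal = Ideal.span (Set.range g))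

include hirr in
lemma xs_cov (y : ProjectiveSpectrum 𝒜) :
    ∃ j, j < r + 1 ∧ xs g j ∉ y.asHomogeneousIdeal := by
  obtain ⟨i, hi⟩ := hcov_pt 𝒜 g hirr y
  refine ⟨i.1, i.2, ?_⟩
  unfold xs
  rw [dif_pos i.2]
  exact hi

include hg1 hirr in
/-- **surjectivity of `M_n → Γ(Proj S, M(n)~)` for large `n`** -/
theorem exists_bound_surjective [IsNoetherianRing (𝒜 0)] [Module.Finite A M] :
    ∃ N : ℕ, ∀ n : ℕ, N ≤ n → ∀ t : GrTilde.sect 𝒜 ℳ (n : ℤ) (op ⊤),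
      ∃ m : ℳ n, GrTilde.globalOf 𝒜 ℳ m = t := by
  classical
  haveI : IsProper ((Proj 𝒜) ↘ Spec (CommRingCat.of (𝒜 0))) := isProper_toSpecZero 𝒜 g hg1 hirr
  obtain ⟨n₀, hn₀⟩ := exists_vanishing_tilde 𝒜 ℳ g hg1 hirr
  -- the base degree
  set d : ℕ := n₀ + r + 1 with hd
  haveI : Module.Finite (𝒜 0) (Coh.HH (Proj 𝒜) (GrTilde.tilde 𝒜 ℳ (d : ℤ)) 0) :=
    Groth.Agent.S0002.result (𝒜 0) (Proj 𝒜) _ (isCoh_tilde 𝒜 ℳ g hg1 hirr (d : ℤ)) 0
  obtain ⟨b, σ, hσ⟩ := exists_span_val 𝒜 ℳ (d : ℤ)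
  -- uniform exponent
  have hloc := fun li : Fin b × Fin (r + 1) =>
    exists_pow_smul_eq_ι₁ 𝒜 ℳ g hg1 (hcov_pt 𝒜 g hirr) (d : ℤ) (σ li.1) li.2
  choose Kf pf mf hmf hpf hvf using hloc
  set K : ℕ := Finset.univ.sup Kf with hK
  have hKle : ∀ li, Kf li ≤ K := fun li => Finset.le_sup (Finset.mem_univ li)
  have hunif : ∀ (l : Fin b) (i : Fin (r + 1)), ∃ m : M, m ∈ ℳ (K + d) ∧
      ∀ y : ProjectiveSpectrum.top 𝒜,
        g i ^ K • val (𝒜 := 𝒜) (ℳ := ℳ) (n := (d : ℤ)) (U := ⊤) (σ l) y trivial = ι₁ y m := by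
    intro l i
    refine ⟨g i ^ (K - Kf (l, i)) • mf (l, i), ?_, fun y => ?_⟩
    · have h1 := SetLike.GradedSMul.smul_mem (A := 𝒜) (B := ℳ)
        (pow_mem_one 𝒜 (hg1 i) (K - Kf (l, i))) (hmf (l, i))
      have e : K - Kf (l, i) + pf (l, i) = K + d := by
        have h2 := hpf (l, i)
        have h3 := hKle (l, i)
        omega
      rw [vadd_eq_add, e] at h1
      exact h1
    · have e : K = (K - Kf (l, i)) + Kf (l, i) := by
        have h3 := hKle (l, i)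
        omega
      conv_lhs => rw [e, pow_add, mul_smul]
      rw [hvf (l, i) y, ι₁_smul]
  choose mu hmu hvu using hunif
  -- large degrees are combinations of `K`-th powers
  obtain ⟨N₁, hKN₁, hN₁⟩ := exists_eq_sum_mul_pow 𝒜 g hg1 hirr K
  refine ⟨d + N₁, fun n hn t => ?_⟩
  set e : ℕ := n - d with he
  have hne : (n : ℤ) = (d : ℤ) + (e : ℕ) := by
    have : n = d + e := by omega
    exact_mod_cast this
  have heN : N₁ ≤ e := by omega
  -- generation by products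
  have hmem := Groth.Agent.Helper1.KzMult.mem_S 𝒜 ℳ (xs g) (xs_mem 𝒜 g hg1) (r + 1)
    (xs_cov 𝒜 g hirr) (𝒜 0) (d : ℤ) e (n : ℤ) hne
    (fun e' _ p hp => by
      have e1 : (d : ℤ) + e' + 1 - ((p + 2 : ℕ) : ℤ) = ((d + e' + 1 - (p + 2) : ℕ) : ℤ) := by
        have : p + 2 ≤ d + e' + 1 := by omega
        omega
      rw [e1]
      exact hn₀ _ (by omega) _ (by omega)) t
  -- the predicate
  suffices hP : ∃ m : M, m ∈ ℳ n ∧ ∀ y : ProjectiveSpectrum.top 𝒜,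
      val (𝒜 := 𝒜) (ℳ := ℳ) (n := (n : ℤ)) (U := ⊤) t y trivial = ι₁ y m by
    obtain ⟨m, hm, hv⟩ := hP
    refine ⟨⟨m, hm⟩, ?_⟩
    apply sect_ext
    intro y hy
    exact (hv y).symm
  unfold Groth.Agent.Helper1.KzMult.S at hmem
  induction hmem using AddSubgroup.closure_induction with
  | mem t ht =>
    obtain ⟨a, ha, v, hv⟩ := ht
    obtain ⟨c, hc⟩ := hσ v
    obtain ⟨bb, hbb, hab⟩ := hN₁ e heN a ha
    refine ⟨∑ i, ∑ l, (bb i * ((c l : 𝒜 0) : A)) • mu l i, ?_, fun y => ?_⟩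
    · refine Submodule.sum_mem _ (fun i _ => Submodule.sum_mem _ (fun l _ => ?_))
      have h1 : bb i * ((c l : 𝒜 0) : A) ∈ 𝒜 (e - K + 0) :=
        SetLike.mul_mem_graded (hbb i) (c l).2
      have h2 := SetLike.GradedSMul.smul_mem (A := 𝒜) (B := ℳ) h1 (hmu l i)
      have e2 : e - K + 0 + (K + d) = n := by omega
      rw [vadd_eq_add, e2] at h2
      exact h2
    · rw [hv y trivial, hc y, hab, Finset.sum_smul, ι₁_sum]
      refine Finset.sum_congr rfl (fun i _ => ?_)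
      rw [Finset.smul_sum, ι₁_sum]
      refine Finset.sum_congr rfl (fun l _ => ?_)
      rw [ι₁_smul, ← hvu l i y, smul_smul, smul_smul]
      congr 1
      ring
  | zero =>
    exact ⟨0, zero_mem _, fun y => (ι₁_zero y).symm⟩
  | add t t' _ _ ht ht' =>
    obtain ⟨m, hm, hv⟩ := ht
    obtain ⟨m', hm', hv'⟩ := ht'
    refine ⟨m + m', Submodule.add_mem _ hm hm', fun y => ?_⟩
    rw [ι₁_add, ← hv y, ← hv' y]
    rfl
  | neg t _ ht =>
    obtain ⟨m, hm, hv⟩ := ht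
    refine ⟨-m, Submodule.neg_mem _ hm, fun y => ?_⟩
    have h1 : -m = (-1 : A) • m := by simp
    rw [h1, ι₁_smul, ← hv y]
    have h2 : (-1 : A) • val (𝒜 := 𝒜) (ℳ := ℳ) (n := (n : ℤ)) (U := ⊤) t y trivial =
        -val (𝒜 := 𝒜) (ℳ := ℳ) (n := (n : ℤ)) (U := ⊤) t y trivial := by simp
    rw [h2]
    rfl

include hg1 hirr in
/-- **bijectivity of `M_n → Γ(Proj S, M(n)~)` for large `n`** -/
theorem exists_bound_bijective [IsNoetherianRing A] [Module.Finite A M] :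
    ∃ N : ℕ, ∀ n : ℕ, N ≤ n →
      Function.Bijective (fun m : ℳ n => GrTilde.globalOf 𝒜 ℳ m) := by
  haveI : IsNoetherianRing (𝒜 0) := inferInstance
  obtain ⟨N₁, hN₁⟩ := exists_bound_surjective 𝒜 ℳ g hg1 hirr
  haveI : IsNoetherian A M := isNoetherian_of_isNoetherianRing_of_finite A M
  obtain ⟨N₂, hN₂⟩ := exists_bound_torsion 𝒜 ℳ g hg1 hirr
  refine ⟨max N₁ N₂, fun n hn => ⟨?_, fun t => hN₁ n (le_trans (le_max_left _ _) hn) t⟩⟩
  intro m m' hmm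
  have hsub : ((m : M) - (m' : M)) = 0 := by
    apply hN₂ n (le_trans (le_max_right _ _) hn) _ (Submodule.sub_mem _ m.2 m'.2)
    intro y
    have h1 : val (GrTilde.globalOf 𝒜 ℳ m) y trivial = val (GrTilde.globalOf 𝒜 ℳ m') y trivial := by
      have : GrTilde.globalOf 𝒜 ℳ m = GrTilde.globalOf 𝒜 ℳ m' := hmm
      rw [this]
    rw [val_globalOf, val_globalOf] at h1
    have h2 : ((m : M) - (m' : M)) = (m : M) + (-1 : A) • (m' : M) := by simp [sub_eq_add_neg]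
    rw [h2, ι₁_add, ι₁_smul, h1]
    simp
  exact Subtype.ext (sub_eq_zero.1 hsub)

end Groth.Agent.Helper1.GamZ
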