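import Groth.Agent.Helper1.TensSec5
import Groth.Agent.Helper1.QH2

set_option autoImplicit false

/-!
# `A`-linearity of `M ↦ Γ(X, f^*(M~) ⊗ F)` and `H⁰ = Γ`
-/

namespace Groth.Agent.Helper1.GammaLin

open CategoryTheory Limits Opposite TopologicalSpace AlgebraicGeometry TensorProduct
open Groth.Agent.Helper1.TensSec Groth.Agent.Helper4.TensorLift

universe u

variable (A : Type u) [CommRing A] {X : Scheme.{u}} [X.Over (Spec (CommRingCat.of A))]

lemma ρV_top (a : A) : ρV A (⊤ : X.Opens) a =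
    (X ↘ Spec (CommRingCat.of A)).appTop.hom ((Scheme.ΓSpecIso (CommRingCat.of A)).inv.hom a) := by
  unfold ρV Coh.resTop Coh.toGlobal
  have : (homOfLE (le_top : (⊤ : X.Opens) ≤ ⊤)) = 𝟙 _ := Subsingleton.elim _ _
  erw [this]
  simp

/-- the `A`-module `Γ(X, G)` of `globalSectionsA` is `SecA A G ⊤` -/
lemma gsa_smul (G : X.Modules) (a : A) (s : (CohIII.globalSectionsA A).obj G) :
    (show SecA A G ⊤ from (a • s)) = a • (show SecA A G ⊤ from s) := by
  rw [secA_smul, ρV_top]
  rfl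

variable (F : X.Modules)

lemma cMap_smul (M : ModuleCat.{u} A) (V : X.Opens) (a : A) (x : SecA A F V ⊗[A] M) :
    cMap A F M V (a • x) = ρV A V a • cMap A F M V x := by
  induction x using TensorProduct.induction_on with
  | zero => rw [smul_zero, map_zero, smul_zero]
  | tmul s m =>
    rw [TensorProduct.smul_tmul', cMap_tmul, cMap_tmul, secA_smul]
    exact tmul_smul_right (PM A X M) F V _ _ _
  | add x y hx hy => rw [smul_add, map_add, hx, hy, map_add, smul_add]

lemma gmMap_smul_app [F.IsQuasicoherent] (M : ModuleCat.{u} A) (a : A) {V : X.Opens}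
    (hV : IsAffineOpen V) (t : Γ(GM A F M, V)) :
    (gmMap A F (a • 𝟙 M)).app V t = ρV A V a • t := by
  obtain ⟨x, rfl⟩ := (cMap_bijective A F M hV).2 t
  rw [cMap_map, ← cMap_smul]
  congr 1
  have : (a • 𝟙 M : M ⟶ M).hom = a • LinearMap.id := rfl
  rw [this, LinearMap.lTensor_smul, LinearMap.lTensor_id]
  rfl

lemma gmMap_smul_top [F.IsQuasicoherent] (M : ModuleCat.{u} A) (a : A) (s : Γ(GM A F M, ⊤)) :
    (gmMap A F (a • 𝟙 M)).app ⊤ s = ρV A (⊤ : X.Opens) a • s := by
  refine Groth.Agent.Helper1.QH.section_ext_affine (GM A F M) ⊤ _ _ (fun U hU i => ?_)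
  have h1 := congrArg (fun k => k.hom s)
    ((gmMap A F (a • 𝟙 M)).mapPresheaf.naturality (homOfLE i).op)
  simp only [Scheme.Modules.mapPresheaf_app, AddCommGrpCat.hom_comp, AddMonoidHom.coe_comp,
    Function.comp_apply] at h1
  have h2 : (GM A F M).presheaf.map (homOfLE i).op ((gmMap A F (a • 𝟙 M)).app ⊤ s) =
      (gmMap A F (a • 𝟙 M)).app U ((GM A F M).presheaf.map (homOfLE i).op s) := h1.symm
  rw [h2, gmMap_smul_app A F M a hU, Scheme.Modules.map_smul, ρV_res]

/-- the functor `M ↦ Γ(X, f^*(M~) ⊗ F)` is `A`-linear -/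
theorem map_smul_id [F.IsQuasicoherent] (M : ModuleCat.{u} A) (a : A) :
    (CohIII.tensorAFunctor A F ⋙ CohIII.globalSectionsA A).map (a • 𝟙 M) =
      a • 𝟙 ((CohIII.tensorAFunctor A F ⋙ CohIII.globalSectionsA A).obj M) := by
  ext s
  have h := gmMap_smul_top A F M a (show Γ(GM A F M, ⊤) from s)
  have h' := gsa_smul A (GM A F M) a s
  exact h.trans h'.symm

end Groth.Agent.Helper1.GammaLin
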