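import Mathlib
import Groth.Agent.Helper1.LimSec3

/-!
# LimSec4: the section-level vanishing statement over an affine open
-/

set_option autoImplicit false
set_option linter.style.haveILetI false
set_option linter.unusedSectionVars false

universe u

open CategoryTheory CategoryTheory.Limits AlgebraicGeometry Opposite

namespace Groth.Agent.Helper1.LimSec

open Groth.Agent.Helper1.Form Groth.Agent.Helper1.QuotPush Groth.Agent.Helper4
open Groth.Agent.Helper1.ProML Groth.Agent.Helper1.ModAR

variable {A : Type u} [CommRing A] {X : Scheme.{u}} [X.Over (Spec (CommRingCat.of A))]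
variable {I : Ideal A} (hI : I.FG) {G : ℕᵒᵖ ⥤ X.Modules} (hG : Formal2.IsQCohFormal I G)

/-- the property of the pair `(t0, k, k')` over an open `U` -/
def CoreProp (I : Ideal A) (G : ℕᵒᵖ ⥤ X.Modules) (U : X.Opens) (t0 k k' : ℕ) : Prop :=
  ∀ (N : ℕ) (g c : Fin N → A), (∀ i, c i ∈ I ^ t0) →
    (∀ h ∈ I ^ k, ∃ d : A, ∀ i, h * c i = g i * d) →
    ∀ (m m' : ℕ) (hm : m + k' ≤ m') (s : Fin N → Γ(G.obj (op m'), U)),
      ∑ i, ρ (A := A) U (g i) • s i = 0 →
        (ARSys.tr G (le_of_add_le_left hm)).app U (∑ i, ρ (A := A) U (c i) • s i) = 0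

lemma CoreProp.mono {U : X.Opens} {t0 k k' t1 k'' : ℕ} (h : CoreProp I G U t0 k k')
    (ht : t0 ≤ t1) (hk : k' ≤ k'') : CoreProp I G U t1 k k'' := by
  intro N g c hc hT m m' hm s hs
  exact h N g c (fun i => Ideal.pow_le_pow_right ht (hc i)) hT m m'
    (le_trans (Nat.add_le_add_left hk m) hm) s hs

include hI hG in
theorem core_app [IsLocallyNoetherian X] {U : X.Opens} (hU : IsAffineOpen U)
    (hcoh : Coh.IsCoh (G.obj (op 0))) :
    ∃ t0 : ℕ, ∀ k : ℕ, ∃ k' : ℕ, CoreProp I G U t0 k k' := by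
  obtain ⟨t0, h⟩ := arProp_sections_affine hI hG hU hcoh
  refine ⟨t0, fun k => ?_⟩
  obtain ⟨k', hk'⟩ := h k
  refine ⟨k', fun N g c hc hT m m' hm s hs => ?_⟩
  have hsurj := (sections_affine hI hG hU m').1
  choose s' hs' using fun i => hsurj (s i)
  set x : Γ(limit G, U) := ∑ i, ρ (A := A) U (c i) • s' i with hx
  have hx0 : x ∈ (I.map (ρ (A := A) U)) ^ t0 • (⊤ : Submodule Γ(X, U) Γ(limit G, U)) := by
    refine Submodule.sum_mem _ (fun i _ => Submodule.smul_mem_smul ?_ Submodule.mem_top)
    rw [← Ideal.map_pow]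
    exact Ideal.mem_map_of_mem _ (hc i)
  have hxk : ∀ h ∈ (I.map (ρ (A := A) U)) ^ k,
      h • x ∈ (I.map (ρ (A := A) U)) ^ ((m + 1) + k') •
        (⊤ : Submodule Γ(X, U) Γ(limit G, U)) := by
    intro h hh
    rw [← Ideal.map_pow] at hh
    induction hh using Submodule.span_induction with
    | mem y hy =>
      obtain ⟨h0, hh0, rfl⟩ := hy
      obtain ⟨d, hd⟩ := hT h0 hh0
      have e1 : ρ (A := A) U h0 • x = ρ (A := A) U d • ∑ i, ρ (A := A) U (g i) • s' i := by
        rw [hx, Finset.smul_sum, Finset.smul_sum]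
        refine Finset.sum_congr rfl (fun i _ => ?_)
        rw [← mul_smul, ← mul_smul, ← map_mul, ← map_mul, hd i, mul_comm]
      rw [e1]
      refine Submodule.smul_mem _ _ ?_
      have h2 : (limit.π G (op m')).app U (∑ i, ρ (A := A) U (g i) • s' i) = 0 := by
        rw [map_sum]
        simp_rw [Scheme.Modules.Hom.app_smul, hs']
        exact hs
      have h3 := (sections_affine hI hG hU m').2 _ h2
      refine Submodule.smul_mono_left ?_ h3
      rw [Ideal.map_pow]
      exact Ideal.pow_le_pow_right (by omega)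
    | zero =>
      rw [zero_smul]
      exact Submodule.zero_mem _
    | add y y' _ _ hy hy' =>
      rw [add_smul]
      exact Submodule.add_mem _ hy hy'
    | smul r y _ hy =>
      rw [smul_eq_mul, mul_smul]
      exact Submodule.smul_mem _ _ hy
  have h4 := hk' (m + 1) x hx0 hxk
  rw [← Ideal.map_pow] at h4
  have hkill : Kills (I ^ (m + 1)) (limit.π G (op m)) := kills_of_killedBy_right (hG.2.1 m) _
  have h5 : (limit.π G (op m)).app U x = 0 := KLQuot.app_eq_zero_of_mem_smul_top hkill U h4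
  have h6 : (limit.π G (op m')).app U x = ∑ i, ρ (A := A) U (c i) • s i := by
    rw [hx, map_sum]
    simp_rw [Scheme.Modules.Hom.app_smul, hs']
  rw [← h6, ← h5]
  exact congrArg (fun φ => Scheme.Modules.Hom.app φ U x)
    (limit.w G (homOfLE (le_of_add_le_left hm)).op)

end Groth.Agent.Helper1.LimSec
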