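import Mathlib
import Groth.Agent.Helper1.LimSec4
import Groth.Agent.Helper1.HomCompl3
import Groth.Agent.Helper1.SerreFin1
import Groth.Agent.Helper2.CohQ1
import Groth.Agent.Lead.PerfLib
import Groth.Agent.Helper4.QcohLocal

/-!
# GrLim1: finite families of multiplications `⨁ K → K` and the vanishing of
`ker (Σ g_i) → ⨁ K --Σ c_i--> K` on the limit of a coherent formal system
-/

set_option autoImplicit false
set_option linter.style.haveILetI false
set_option linter.unusedSectionVars false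

universe u

open CategoryTheory CategoryTheory.Limits AlgebraicGeometry Opposite

attribute [local instance] CategoryTheory.Abelian.hasFiniteBiproducts

namespace Groth.Agent.Helper1.GrLim

open Groth.Agent.Helper1.Form Groth.Agent.Helper1.QuotPush Groth.Agent.Helper4
open Groth.Agent.Helper1.ProML Groth.Agent.Helper1.ModAR Groth.Agent.Helper1.LimSec

variable {A : Type u} [CommRing A] {X : Scheme.{u}} [X.Over (Spec (CommRingCat.of A))]

/-- the map `⨁ K → K` with components multiplication by `a i` -/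
noncomputable def σ {N : ℕ} (a : Fin N → A) (K : X.Modules) : (⨁ fun _ : Fin N => K) ⟶ K :=
  biproduct.desc (fun i => Formal.smulMod A K (a i))

@[reassoc]
lemma ι_σ {N : ℕ} (a : Fin N → A) (K : X.Modules) (i : Fin N) :
    biproduct.ι (fun _ : Fin N => K) i ≫ σ a K = Formal.smulMod A K (a i) :=
  biproduct.ι_desc _ _

@[reassoc]
lemma σ_naturality {N : ℕ} (a : Fin N → A) {K K' : X.Modules} (φ : K ⟶ K') :
    σ a K ≫ φ = biproduct.map (fun _ : Fin N => φ) ≫ σ a K' := by
  apply biproduct.hom_ext'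
  intro i
  rw [ι_σ_assoc, biproduct.ι_map_assoc, ι_σ, smulMod_comp]

lemma sum_app {M N : X.Modules} {ι : Type*} (s : Finset ι) (φ : ι → (M ⟶ N)) (U : X.Opens)
    (x : Γ(M, U)) : (∑ i ∈ s, φ i).app U x = ∑ i ∈ s, (φ i).app U x := by
  classical
  induction s using Finset.induction_on with
  | empty => simp
  | insert a s ha ih =>
    rw [Finset.sum_insert ha, Finset.sum_insert ha, ← ih]
    rfl

lemma σ_app {N : ℕ} (a : Fin N → A) (K : X.Modules) (U : X.Opens)
    (w : Γ((⨁ fun _ : Fin N => K), U)) :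
    (σ a K).app U w = ∑ i, ρ (A := A) U (a i) • (biproduct.π (fun _ : Fin N => K) i).app U w := by
  have h : σ a K = ∑ i, biproduct.π (fun _ : Fin N => K) i ≫ Formal.smulMod A K (a i) :=
    biproduct.desc_eq
  rw [h, sum_app]
  rfl

variable {I : Ideal A} {G : ℕᵒᵖ ⥤ X.Modules}

lemma isCoh_biproduct_fin {N : ℕ} (K : X.Modules) (hK : Coh.IsCoh K) :
    Coh.IsCoh (⨁ fun _ : Fin N => K) :=
  Groth.Agent.Helper2.CohQ1.isCoh_of_iso (biproduct.isoCoproduct _).symm
    (SerreFin.isCoh_sigma_fin _ (fun _ => hK))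

theorem finite_level_vanishing [IsNoetherian X] (hGc : Formal.IsCohFormal I G) {t0 k k' : ℕ}
    (hcore : ∀ x : X, ∃ U : X.Opens, IsAffineOpen U ∧ x ∈ U ∧ CoreProp I G U t0 k k')
    {N : ℕ} (g c : Fin N → A) (hc : ∀ i, c i ∈ I ^ t0)
    (hT : ∀ h ∈ I ^ k, ∃ d : A, ∀ i, h * c i = g i * d) (m m' : ℕ) (hm : m + k' ≤ m') :
    kernel.ι (σ g (G.obj (op m'))) ≫ σ c (G.obj (op m')) ≫
      ARSys.tr G (le_of_add_le_left hm) = 0 := by
  have hK : Coh.IsCoh (G.obj (op m')) := hGc.1 m'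
  haveI : (kernel (σ g (G.obj (op m')))).IsQuasicoherent :=
    (Groth.Agent.Lead.PerfLib.isCoh_kernel (isCoh_biproduct_fin _ hK) hK _).1
  apply QcohLocal.eq_zero_of_app_eq_zero_of_affine_cover
  intro x
  obtain ⟨U, hU, hxU, hcoreU⟩ := hcore x
  refine ⟨U, hU, hxU, fun z => ?_⟩
  have h1 : (σ g (G.obj (op m'))).app U ((kernel.ι (σ g (G.obj (op m')))).app U z) = 0 :=
    congrArg (fun φ => Scheme.Modules.Hom.app φ U z) (kernel.condition (σ g (G.obj (op m'))))
  rw [σ_app] at h1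
  have h2 := hcoreU N g c hc hT m m' hm
    (fun i => (biproduct.π (fun _ : Fin N => G.obj (op m')) i).app U
      ((kernel.ι (σ g (G.obj (op m')))).app U z)) h1
  show (ARSys.tr G (le_of_add_le_left hm)).app U ((σ c (G.obj (op m'))).app U
    ((kernel.ι (σ g (G.obj (op m')))).app U z)) = 0
  rw [σ_app]
  exact h2

theorem exists_uniform [IsNoetherian X] (hI : I.FG) (hGc : Formal.IsCohFormal I G) :
    ∃ t0 : ℕ, ∀ k : ℕ, ∃ k' : ℕ, ∀ x : X, ∃ U : X.Opens,
      IsAffineOpen U ∧ x ∈ U ∧ CoreProp I G U t0 k k' := by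
  have hGq : Formal2.IsQCohFormal I G := ⟨fun n => (hGc.1 n).1, hGc.2.1, hGc.2.2⟩
  obtain ⟨s, hs⟩ := Groth.Agent.Helper1.HomCompl.exists_finite_affine_cover (X := X)
  have h := fun U : X.affineOpens => core_app hI hGq U.2 (hGc.1 0)
  choose t0f hk using h
  choose k'f hk' using hk
  refine ⟨s.sup t0f, fun k => ⟨s.sup (fun U => k'f U k), fun x => ?_⟩⟩
  obtain ⟨U, hU, hxU⟩ := hs x
  exact ⟨U.1, U.2, hxU, (hk' U k).mono (Finset.le_sup (f := t0f) hU)
    (Finset.le_sup (f := fun U => k'f U k) hU)⟩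

theorem limit_vanishing {N : ℕ} (g c : Fin N → A)
    (h : ∀ m : ℕ, ∃ (m' : ℕ) (hm : m ≤ m'),
      kernel.ι (σ g (G.obj (op m'))) ≫ σ c (G.obj (op m')) ≫ ARSys.tr G hm = 0) :
    kernel.ι (σ g (limit G)) ≫ σ c (limit G) = 0 := by
  apply limit.hom_ext
  intro j
  obtain ⟨m', hm, hz⟩ := h j.unop
  have h0 : (kernel.ι (σ g (limit G)) ≫
      biproduct.map (fun _ : Fin N => limit.π G (op m'))) ≫ σ g (G.obj (op m')) = 0 := by
    rw [Category.assoc, ← σ_naturality, kernel.condition_assoc, zero_comp]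
  have e := kernel.lift_ι (σ g (G.obj (op m'))) _ h0
  have hw : limit.π G j = limit.π G (op m') ≫ ARSys.tr G hm :=
    (limit.w G (homOfLE hm).op).symm
  calc (kernel.ι (σ g (limit G)) ≫ σ c (limit G)) ≫ limit.π G j
      = kernel.ι (σ g (limit G)) ≫ σ c (limit G) ≫ limit.π G (op m') ≫ ARSys.tr G hm := by
        rw [Category.assoc, hw]
    _ = (kernel.ι (σ g (limit G)) ≫ biproduct.map (fun _ : Fin N => limit.π G (op m'))) ≫
          σ c (G.obj (op m')) ≫ ARSys.tr G hm := by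
        rw [σ_naturality_assoc, Category.assoc]
    _ = kernel.lift (σ g (G.obj (op m'))) _ h0 ≫ kernel.ι (σ g (G.obj (op m'))) ≫
          σ c (G.obj (op m')) ≫ ARSys.tr G hm := by
        exact (congrArg (fun φ => φ ≫ σ c (G.obj (op m')) ≫ ARSys.tr G hm) e.symm).trans
          (Category.assoc _ _ _)
    _ = 0 ≫ limit.π G j := by
        rw [hz, comp_zero, zero_comp]

end Groth.Agent.Helper1.GrLim
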