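import Mathlib
import Groth.Agent.Helper1.GrLim1
import Groth.Agent.Helper1.Rees2

/-!
# GrLim2: descending a map `⨁ K → ⨁ K` to `I^k K → ⨁ K`
-/

set_option autoImplicit false
set_option linter.style.haveILetI false
set_option linter.unusedSectionVars false

universe u

open CategoryTheory CategoryTheory.Limits AlgebraicGeometry Opposite

attribute [local instance] CategoryTheory.Abelian.hasFiniteBiproducts

namespace Groth.Agent.Helper1.GrLim

open Groth.Agent.Helper1.Form Groth.Agent.Helper1.QuotPush Groth.Agent.Helper4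

variable {A : Type u} [CommRing A] {X : Scheme.{u}} [X.Over (Spec (CommRingCat.of A))]

lemma smulMod_sum (K : X.Modules) {ι : Type*} (s : Finset ι) (b : ι → A) :
    Formal.smulMod A K (∑ i ∈ s, b i) = ∑ i ∈ s, Formal.smulMod A K (b i) := by
  simp_rw [smulMod_eq]
  rw [Finset.sum_smul]

lemma lift_σ {N : ℕ} (a g : Fin N → A) (K : X.Modules) :
    biproduct.lift (fun i : Fin N => Formal.smulMod A K (a i)) ≫ σ g K =
      Formal.smulMod A K (∑ i, a i * g i) := by
  unfold σ
  rw [biproduct.lift_desc, smulMod_sum]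
  refine Finset.sum_congr rfl (fun i _ => ?_)
  rw [smulMod_mul]

variable (I : Ideal A) (k : ℕ) (K : X.Modules) {N : ℕ} (g : Fin N → A)

lemma σ_modPowπ (hg : ∀ i, g i ∈ I ^ k) : σ g K ≫ Formal.modPowπ I k K = 0 := by
  apply biproduct.hom_ext'
  intro i
  rw [ι_σ_assoc, comp_zero]
  exact (isQuot_modPowπ I k K).kills (g i) (hg i)

/-- the canonical map `⨁ K → I^k K` -/
noncomputable def p (hg : ∀ i, g i ∈ I ^ k) :
    (⨁ fun _ : Fin N => K) ⟶ Formal2.idealPowMod I k K :=
  kernel.lift (Formal.modPowπ I k K) (σ g K) (σ_modPowπ I k K g hg)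

@[reassoc]
lemma p_ι (hg : ∀ i, g i ∈ I ^ k) : p I k K g hg ≫ Formal2.idealPowModι I k K = σ g K :=
  kernel.lift_ι _ _ _

lemma epi_p (hg : ∀ i, g i ∈ I ^ k) (hspan : Ideal.span (Set.range g) = I ^ k) :
    Epi (p I k K g hg) := by
  haveI : Epi (Formal.modPowπ I k K) := (isQuot_modPowπ I k K).epi
  let S : ShortComplex X.Modules :=
    ShortComplex.mk (σ g K) (Formal.modPowπ I k K) (σ_modPowπ I k K g hg)
  have hS : IsColimit (CokernelCofork.ofπ S.g S.zero) := by
    refine CokernelCofork.IsColimit.ofπ' _ _ (fun {Z} f hf => ?_)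
    have hk : Kills (I ^ k) f := by
      rw [← hspan]
      apply Groth.Agent.Helper1.Rees.kills_span
      rintro _ ⟨i, rfl⟩
      have : Formal.smulMod A K (g i) ≫ f = 0 := by
        rw [← ι_σ g K i, Category.assoc]
        exact (congrArg (fun φ => biproduct.ι (fun _ : Fin N => K) i ≫ φ) hf).trans comp_zero
      exact this
    exact ⟨(isQuot_modPowπ I k K).desc f hk, (isQuot_modPowπ I k K).fac_desc f hk⟩
  have hex : S.Exact := S.exact_of_g_is_cokernel hS
  exact (S.exact_iff_epi_kernel_lift).1 hex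

variable {E : Type} [Fintype E]

theorem exists_desc (hg : ∀ i, g i ∈ I ^ k) (hspan : Ideal.span (Set.range g) = I ^ k)
    (c : E → Fin N → A) (hker : ∀ e, kernel.ι (σ g K) ≫ σ (c e) K = 0) :
    ∃ Ψ : Formal2.idealPowMod I k K ⟶ ⨁ (fun _ : E => K),
      p I k K g hg ≫ Ψ = biproduct.lift (fun e => σ (c e) K) := by
  haveI := epi_p I k K g hg hspan
  have h1 : kernel.ι (p I k K g hg) ≫ σ g K = 0 := by
    rw [← p_ι I k K g hg, kernel.condition_assoc, zero_comp]
  have h0 : kernel.ι (p I k K g hg) ≫ biproduct.lift (fun e => σ (c e) K) = 0 := by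
    apply biproduct.hom_ext
    intro e
    rw [Category.assoc, biproduct.lift_π, zero_comp, ← kernel.lift_ι (σ g K) _ h1,
      Category.assoc, hker e, comp_zero]
  exact ⟨Abelian.epiDesc (p I k K g hg) _ h0, Abelian.comp_epiDesc _ _ _⟩

variable {I k K g}

theorem desc_prop1 (hg : ∀ i, g i ∈ I ^ k) (hspan : Ideal.span (Set.range g) = I ^ k)
    (c : E → Fin N → A) (d : E → A → A)
    (hd : ∀ (e : E) (a : Fin N → A), d e (∑ i, a i * g i) = ∑ i, a i * c e i)
    {Ψ : Formal2.idealPowMod I k K ⟶ ⨁ (fun _ : E => K)}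
    (hΨ : p I k K g hg ≫ Ψ = biproduct.lift (fun e => σ (c e) K))
    (g₀ : A) (hg₀ : g₀ ∈ I ^ k) (γ : K ⟶ Formal2.idealPowMod I k K)
    (hγ : γ ≫ Formal2.idealPowModι I k K = Formal.smulMod A K g₀) :
    γ ≫ Ψ = biproduct.lift (fun e : E => Formal.smulMod A K (d e g₀)) := by
  have hmem : g₀ ∈ Submodule.span A (Set.range g) := by
    have : g₀ ∈ Ideal.span (Set.range g) := by
      rw [hspan]
      exact hg₀
    exact this
  obtain ⟨a, ha⟩ := (Submodule.mem_span_range_iff_exists_fun A).1 hmem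
  simp only [smul_eq_mul] at ha
  have hγ' : γ = biproduct.lift (fun i : Fin N => Formal.smulMod A K (a i)) ≫ p I k K g hg := by
    rw [← cancel_mono (Formal2.idealPowModι I k K), hγ, Category.assoc, p_ι, lift_σ, ha]
  rw [hγ', Category.assoc, hΨ]
  apply biproduct.hom_ext
  intro e
  rw [Category.assoc, biproduct.lift_π, biproduct.lift_π, lift_σ, ← hd e a, ha]

theorem desc_prop2 (hg : ∀ i, g i ∈ I ^ k) (hspan : Ideal.span (Set.range g) = I ^ k)
    (c : E → Fin N → A) (w : E → A) (hw : ∀ i, ∑ e, c e i * w e = g i)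
    {Ψ : Formal2.idealPowMod I k K ⟶ ⨁ (fun _ : E => K)}
    (hΨ : p I k K g hg ≫ Ψ = biproduct.lift (fun e => σ (c e) K)) :
    Ψ ≫ biproduct.desc (fun e : E => Formal.smulMod A K (w e)) =
      Formal2.idealPowModι I k K := by
  haveI := epi_p I k K g hg hspan
  rw [← cancel_epi (p I k K g hg), ← Category.assoc, hΨ, p_ι, biproduct.lift_desc]
  apply biproduct.hom_ext'
  intro i
  rw [Preadditive.comp_sum, ι_σ, ← hw i, smulMod_sum]
  refine Finset.sum_congr rfl (fun e _ => ?_)
  rw [ι_σ_assoc, smulMod_mul]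

theorem desc_unique (hg : ∀ i, g i ∈ I ^ k) (hspan : Ideal.span (Set.range g) = I ^ k)
    (c : E → Fin N → A) (d : E → A → A) (hdc : ∀ e i, d e (g i) = c e i)
    {Ψ Ψ' : Formal2.idealPowMod I k K ⟶ ⨁ (fun _ : E => K)}
    (hΨ : p I k K g hg ≫ Ψ = biproduct.lift (fun e => σ (c e) K))
    (hΨ' : ∀ g₀ ∈ I ^ k, ∀ γ : K ⟶ Formal2.idealPowMod I k K,
      γ ≫ Formal2.idealPowModι I k K = Formal.smulMod A K g₀ →
        γ ≫ Ψ' = biproduct.lift (fun e : E => Formal.smulMod A K (d e g₀))) :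
    Ψ' = Ψ := by
  haveI := epi_p I k K g hg hspan
  rw [← cancel_epi (p I k K g hg), hΨ]
  apply biproduct.hom_ext'
  intro i
  have h1 := hΨ' (g i) (hg i) (biproduct.ι (fun _ : Fin N => K) i ≫ p I k K g hg)
    (by rw [Category.assoc, p_ι, ι_σ])
  rw [← Category.assoc, h1]
  apply biproduct.hom_ext
  intro e
  rw [biproduct.lift_π, Category.assoc, biproduct.lift_π, ι_σ, hdc]

end Groth.Agent.Helper1.GrLim
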