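import Mathlib
import Groth.Agent.Helper6.GrMapPoly2

/-!
# GrPoly: algebraic facts about graded maps `⊕ I^{nc} → A[T_1..T_r]`
-/

set_option autoImplicit false
set_option linter.style.haveILetI false
set_option linter.unusedSectionVars false

universe u

namespace Groth.Agent.Helper1.GrPoly

open MvPolynomial Groth.Agent.Helper6.GrMapPoly Groth.Agent.Helper6.GrMapPoly2

variable {A : Type u} [CommRing A] {r : ℕ}

/-- evaluation of a homogeneous polynomial as a sum over exponent tuples -/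
theorem sum_coeff_mul_prod (f : Fin r → A) {n : ℕ} {P : MvPolynomial (Fin r) A}
    (hP : P.IsHomogeneous n) :
    ∑ e : ↥(Finset.Nat.antidiagonalTuple r n),
      coeff (Finsupp.equivFunOnFinite.symm e.1) P * ∏ j, f j ^ (e.1 j) = aeval f P := by
  classical
  rw [aeval_def, eval₂_eq']
  rw [Finset.sum_coe_sort (Finset.Nat.antidiagonalTuple r n)
    (fun e => coeff (Finsupp.equivFunOnFinite.symm e) P * ∏ j, f j ^ (e j))]
  have h1 : ∑ e ∈ Finset.Nat.antidiagonalTuple r n,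
      coeff (Finsupp.equivFunOnFinite.symm e) P * ∏ j, f j ^ (e j) =
      ∑ d ∈ (Finset.Nat.antidiagonalTuple r n).map
        (Finsupp.equivFunOnFinite (α := Fin r) (M := ℕ)).symm.toEmbedding,
        coeff d P * ∏ j, f j ^ (d j) := by
    rw [Finset.sum_map]
    rfl
  rw [h1]
  symm
  apply Finset.sum_subset
  · intro d hd
    rw [Finset.mem_map]
    refine ⟨⇑d, ?_, ?_⟩
    · rw [Finset.Nat.mem_antidiagonalTuple]
      by_contra hne
      have : d.degree ≠ n := by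
        rw [Finsupp.degree_eq_sum]
        exact hne
      exact (mem_support_iff.1 hd) (hP.coeff_eq_zero this)
    · ext i
      rfl
  · intro d _ hd
    rw [notMem_support_iff.1 hd]
    simp

/-- the axioms of a graded map `⊕ I^{nc'} → A[T]` (without the normalisation in degree one) -/
structure IsGr (I : Ideal A) (c' : ℕ) (Φ : ℕ → A → MvPolynomial (Fin r) A) : Prop where
  add : ∀ n : ℕ, ∀ g ∈ I ^ (n * c'), ∀ h ∈ I ^ (n * c'), Φ n (g + h) = Φ n g + Φ n h
  smul : ∀ (n : ℕ) (a : A), ∀ g ∈ I ^ (n * c'), Φ n (a * g) = a • Φ n g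
  homog : ∀ n : ℕ, ∀ g ∈ I ^ (n * c'), (Φ n g).IsHomogeneous n
  mul : ∀ n m : ℕ, ∀ g ∈ I ^ (n * c'), ∀ h ∈ I ^ (m * c'), Φ (n + m) (g * h) = Φ n g * Φ m h
  zero : ∀ a : A, Φ 0 a = C a

variable {I : Ideal A} {c' : ℕ} {Φ : ℕ → A → MvPolynomial (Fin r) A}

theorem IsGr.swap (hΦ : IsGr I c' Φ) {n : ℕ} {g h : A} (hg : g ∈ I ^ (n * c'))
    (hh : h ∈ I ^ (n * c')) (e : Fin r →₀ ℕ) :
    h * coeff e (Φ n g) = g * coeff e (Φ n h) := by
  have h1 := hΦ.smul n h g hg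
  have h2 := hΦ.smul n g h hh
  rw [mul_comm g h] at h2
  have h3 := congrArg (coeff e) (h1.symm.trans h2)
  rwa [coeff_smul, coeff_smul, smul_eq_mul, smul_eq_mul] at h3

theorem IsGr.map_zero (hΦ : IsGr I c' Φ) (n : ℕ) : Φ n 0 = 0 := by
  have := hΦ.smul n 0 0 (zero_mem _)
  rwa [zero_mul, zero_smul] at this

theorem IsGr.map_sum (hΦ : IsGr I c' Φ) {n : ℕ} {ι : Type*} (s : Finset ι) (a g : ι → A)
    (hg : ∀ i ∈ s, g i ∈ I ^ (n * c')) :
    Φ n (∑ i ∈ s, a i * g i) = ∑ i ∈ s, a i • Φ n (g i) := by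
  classical
  induction s using Finset.induction_on with
  | empty => simpa using hΦ.map_zero n
  | insert j s hj ih =>
    have hgs : ∀ i ∈ s, g i ∈ I ^ (n * c') := fun i hi => hg i (Finset.mem_insert_of_mem hi)
    have hgj : g j ∈ I ^ (n * c') := hg j (Finset.mem_insert_self _ _)
    rw [Finset.sum_insert hj, Finset.sum_insert hj,
      hΦ.add n _ (Ideal.mul_mem_left _ _ hgj) _
        (Ideal.sum_mem _ (fun i hi => Ideal.mul_mem_left _ _ (hgs i hi))),
      hΦ.smul n _ _ hgj, ih hgs]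

theorem coeff_Phi_mem {c t0 : ℕ} (φ : Fin r → (↥(I ^ c) →ₗ[A] A))
    (φ' : Fin r → (↥(I ^ (c + t0)) →ₗ[A] A))
    (hφ' : ∀ j (g : A) (hg : g ∈ I ^ (c + t0)),
      φ' j ⟨g, hg⟩ = φ j ⟨g, Ideal.pow_le_pow_right (Nat.le_add_right _ _) hg⟩) :
    ∀ (n a : ℕ) (g : A), g ∈ I ^ (n * (c + t0) + a) → ∀ e : Fin r →₀ ℕ,
      coeff e (Phi I (c + t0) φ' n g) ∈ I ^ (a + n * t0)
  | 0, a, g, hg, e => by
    classical
    rw [Phi_zero, coeff_C]
    split_ifs
    · simpa using hg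
    · exact zero_mem _
  | n + 1, a, g, hg, e => by
    classical
    have hg' : g ∈ I ^ (c + t0) := by
      refine Ideal.pow_le_pow_right ?_ hg
      rw [Nat.succ_mul]
      omega
    rw [Phi_succ I (c + t0) φ' n g hg', coeff_sum]
    refine Ideal.sum_mem _ (fun j _ => ?_)
    rw [coeff_X_mul']
    split_ifs
    · have h1 : φ' j ⟨g, hg'⟩ ∈ I ^ (n * (c + t0) + (a + t0)) := by
        rw [hφ' j g hg']
        refine lin_mem I (φ j) ?_ _
        have e1 : n * (c + t0) + (a + t0) + c = (n + 1) * (c + t0) + a := by ring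
        rw [e1]
        exact hg
      have h2 := coeff_Phi_mem φ φ' hφ' n (a + t0) _ h1 (e - Finsupp.single j 1)
      have e2 : a + t0 + n * t0 = a + (n + 1) * t0 := by ring
      rwa [e2] at h2
    · exact zero_mem _

section Normalised

variable {c t0 : ℕ} (φ : Fin r → (↥(I ^ c) →ₗ[A] A)) (hΦ : IsGr I (c + t0) Φ)
  (hone : ∀ (g : A) (hg : g ∈ I ^ (c + t0)), Φ 1 g =
    ∑ j, C (φ j ⟨g, Ideal.pow_le_pow_right (Nat.le_add_right c t0) hg⟩) * X j)

/-- the restriction of `φ` to `I^(c+t0)` -/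
noncomputable def restr (φ : Fin r → (↥(I ^ c) →ₗ[A] A)) (t0 : ℕ) :
    Fin r → (↥(I ^ (c + t0)) →ₗ[A] A) :=
  fun j => (φ j) ∘ₗ Submodule.inclusion (Ideal.pow_le_pow_right (Nat.le_add_right c t0))

lemma restr_apply (j : Fin r) (g : A) (hg : g ∈ I ^ (c + t0)) :
    restr φ t0 j ⟨g, hg⟩ = φ j ⟨g, Ideal.pow_le_pow_right (Nat.le_add_right _ _) hg⟩ := rfl

include hΦ hone in
theorem eq_Phi {n : ℕ} {g : A} (hg : g ∈ I ^ (n * (c + t0))) :
    Φ n g = Phi I (c + t0) (restr φ t0) n g :=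
  Phi_unique (restr φ t0) Φ hΦ.add hΦ.mul hΦ.zero (fun g hg => by
    rw [hone g hg]
    rfl) n g hg

include hΦ hone in
theorem coeff_mem {n : ℕ} {g : A} (hg : g ∈ I ^ (n * (c + t0))) (e : Fin r →₀ ℕ) :
    coeff e (Φ n g) ∈ I ^ (n * t0) := by
  rw [eq_Phi φ hΦ hone hg]
  have := coeff_Phi_mem φ (restr φ t0) (fun j g hg => restr_apply φ j g hg) n 0 g hg e
  rwa [zero_add] at this

include hΦ hone in
theorem aeval_eq (f : Fin r → A) (hφ : ∀ x : ↥(I ^ c), (x : A) = ∑ j, f j * φ j x)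
    {n : ℕ} {g : A} (hg : g ∈ I ^ (n * (c + t0))) : aeval f (Φ n g) = g := by
  rw [eq_Phi φ hΦ hone hg]
  refine Phi_aeval (restr φ t0) f (fun x => ?_) n g hg
  exact hφ ⟨x.1, Ideal.pow_le_pow_right (Nat.le_add_right _ _) x.2⟩

end Normalised

end Groth.Agent.Helper1.GrPoly
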