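import Mathlib
import Groth.Prelude.Def_GrMod2
import Groth.Agent.Helper1.GrT8
import Groth.Agent.Helper1.TwistAmple

set_option autoImplicit false
set_option linter.unusedSectionVars false
set_option linter.style.haveILetI false

/-!
# `θ` of the section defined by a homogeneous element
-/

namespace Groth.Agent.Helper1.GrT

open CategoryTheory AlgebraicGeometry TopologicalSpace Opposite DirectSum

universe u

variable {R A : Type u} [CommRing R] [CommRing A] [Algebra R A] (𝒜 : ℕ → Submodule R A)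
  [GradedAlgebra 𝒜]
variable {M : Type u} [AddCommGroup M] [Module R M] [Module A M] [IsScalarTower R A M]
  (ℳ : ℕ → Submodule R M) [DirectSum.Decomposition ℳ] [SetLike.GradedSMul 𝒜 ℳ]

variable (g : A) {L : Type u} [AddCommGroup L] [Module A L] (τ : M →ₗ[A] L)
  [IsLocalizedModule (Submonoid.powers g) τ] {e : ℕ} (he : 0 < e) (hg : g ∈ 𝒜 e) (n : ℤ)
  (W : Opens (ProjectiveSpectrum.top 𝒜)) (hW : W = ProjectiveSpectrum.basicOpen 𝒜 g)

/-- the section over `W` defined by a homogeneous element of degree `n` -/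
noncomputable def elemSect {i : ℕ} (m : M) (hm : m ∈ ℳ i) (hin : (i : ℤ) = ((0 : ℕ) : ℤ) + n) :
    GrTilde.sect 𝒜 ℳ n (op W) :=
  fracSect 𝒜 ℳ n m hm 1 SetLike.GradedOne.one_mem hin W
    (fun y _ => Groth.Agent.Helper1.TwistMul.one_notMem 𝒜 y)

lemma val_elemSect {i : ℕ} (m : M) (hm : m ∈ ℳ i) (hin : (i : ℤ) = ((0 : ℕ) : ℤ) + n)
    (y : ProjectiveSpectrum.top 𝒜) (hy : y ∈ W) :
    val (elemSect 𝒜 ℳ n W m hm hin) y hy = ι₁ y m := by
  have h2 := val_fracSect 𝒜 ℳ n m hm 1 SetLike.GradedOne.one_mem hin W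
    (fun y _ => Groth.Agent.Helper1.TwistMul.one_notMem 𝒜 y) y hy
  rw [one_smul] at h2
  exact h2

lemma res_elemSect {i : ℕ} (m : M) (hm : m ∈ ℳ i) (hin : (i : ℤ) = ((0 : ℕ) : ℤ) + n)
    {U W : Opens (ProjectiveSpectrum.top 𝒜)} (h : W ≤ U) :
    GrTilde.res 𝒜 ℳ n (homOfLE h).op (elemSect 𝒜 ℳ n U m hm hin) = elemSect 𝒜 ℳ n W m hm hin := by
  apply sect_ext
  intro y hy
  rw [val_res, val_elemSect, val_elemSect]

theorem θ_elemSect {i : ℕ} (m : M) (hm : m ∈ ℳ i) (hin : (i : ℤ) = ((0 : ℕ) : ℤ) + n) :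
    θ 𝒜 ℳ g τ he hg n W hW (elemSect 𝒜 ℳ n W m hm hin) = τ m := by
  have hv : τ m ∈ Deg 𝒜 ℳ g τ he hg n :=
    ⟨0, i, m, hm, by rw [hin]; push_cast; ring, by rw [pow_zero, one_smul]⟩
  refine θ_eq 𝒜 ℳ g τ he hg n W hW _ _ hv ?_
  apply sect_ext
  intro y hy
  have hyg : g ∉ y.asHomogeneousIdeal := (ProjectiveSpectrum.mem_basicOpen 𝒜 g y).1 (hW ▸ hy)
  have h1 : val (toSectW 𝒜 ℳ g τ he hg n W hW ⟨τ m, hv⟩) y hy = ev g τ y hyg (τ m) := rfl
  rw [h1, ev_τ, val_elemSect]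

end Groth.Agent.Helper1.GrT
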