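import Mathlib
import Groth.Prelude.Def_GrMod2
import Groth.Agent.Helper1.GrT4

set_option autoImplicit false
set_option linter.unusedSectionVars false

/-!
# The sheaves `M(n)~` on `Proj`: stalks
-/

namespace Groth.Agent.Helper1.GrT

open CategoryTheory CategoryTheory.Limits AlgebraicGeometry TopologicalSpace Opposite

universe u

variable {R A : Type u} [CommRing R] [CommRing A] [Algebra R A] (𝒜 : ℕ → Submodule R A)
  [GradedAlgebra 𝒜]
variable {M : Type u} [AddCommGroup M] [Module R M] [Module A M] [IsScalarTower R A M]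
  (ℳ : ℕ → Submodule R M) [DirectSum.Decomposition ℳ] [SetLike.GradedSMul 𝒜 ℳ]

/-- every element of `tildeAt` is a single fraction -/
lemma exists_frac_of_mem_tildeAt (n : ℤ) (p : ProjectiveSpectrum 𝒜)
    (t : GrTilde.LocMod 𝒜 (M := M) p) (ht : t ∈ GrTilde.tildeAt 𝒜 ℳ n p) :
    ∃ (i j : ℕ) (m : M) (s : A) (hs : s ∉ p.asHomogeneousIdeal), m ∈ ℳ i ∧ s ∈ 𝒜 j ∧
      (i : ℤ) = j + n ∧ t = LocalizedModule.mk m
        (⟨s, hs⟩ : p.asHomogeneousIdeal.toIdeal.primeCompl) := by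
  induction ht using Submodule.span_induction with
  | mem t ht =>
    obtain ⟨i, j, m, s, hs, hij, rfl⟩ := ht
    exact ⟨i, j, m.1, s.1, hs, m.2, s.2, hij, rfl⟩
  | zero =>
    obtain ⟨d, f, hd, hf, hpf⟩ := exists_pos_deg_notMem 𝒜 p
    obtain ⟨K, hK⟩ : ∃ K : ℕ, -n ≤ (K : ℤ) := ⟨n.natAbs, by omega⟩
    have h1 : K ≤ K * d := Nat.le_mul_of_pos_right _ hd
    have h2 : (K : ℤ) ≤ ((K * d : ℕ) : ℤ) := by exact_mod_cast h1
    refine ⟨(((K * d : ℕ) : ℤ) + n).toNat, K * d, 0, f ^ K,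
      fun h => hpf (p.isPrime.mem_of_pow_mem K h), zero_mem _, pow_mem_graded' 𝒜 f hd hf K, ?_,
      (LocalizedModule.zero_mk _).symm⟩
    rw [Int.toNat_of_nonneg (by omega)]
  | add t t' _ _ ht ht' =>
    obtain ⟨i, j, m, s, hs, hm, hsj, hij, rfl⟩ := ht
    obtain ⟨i', j', m', s', hs', hm', hsj', hij', rfl⟩ := ht'
    refine ⟨j' + i, j + j', s' • m + s • m', s * s',
      fun h => (p.isPrime.mem_or_mem h).elim hs hs', ?_, SetLike.mul_mem_graded hsj hsj',
      by push_cast; omega, ?_⟩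
    · apply add_mem
      · exact SetLike.GradedSMul.smul_mem hsj' hm
      · have : j' + i = j + i' := by omega
        rw [this]
        exact SetLike.GradedSMul.smul_mem hsj hm'
    · rw [LocalizedModule.mk_add_mk]
      rfl
  | smul c t _ ht =>
    obtain ⟨i, j, m, s, hs, hm, hsj, hij, rfl⟩ := ht
    obtain ⟨c, rfl⟩ := HomogeneousLocalization.mk_surjective c
    refine ⟨c.deg + i, c.deg + j, (c.num : A) • m, (c.den : A) * s,
      fun h => (p.isPrime.mem_or_mem h).elim c.den_mem hs,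
      SetLike.GradedSMul.smul_mem c.num.2 hm, SetLike.mul_mem_graded c.den.2 hsj,
      by push_cast; omega, ?_⟩
    rw [GrTilde.a0_smul_def, HomogeneousLocalization.val_mk, LocalizedModule.mk_smul_mk]
    rfl


/-- two sections with the same value at `p` agree near `p` -/
lemma exists_nhd_eq (n : ℤ) (p : ProjectiveSpectrum.top 𝒜) {U V : Opens (ProjectiveSpectrum.top 𝒜)}
    (hpU : p ∈ U) (hpV : p ∈ V) (sU : GrTilde.sect 𝒜 ℳ n (op U)) (sV : GrTilde.sect 𝒜 ℳ n (op V))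
    (h : val sU p hpU = val sV p hpV) :
    ∃ (W : Opens (ProjectiveSpectrum.top 𝒜)) (hWU : W ≤ U) (hWV : W ≤ V), p ∈ W ∧
      ∀ (y : ProjectiveSpectrum.top 𝒜) (hy : y ∈ W), val sU y (hWU hy) = val sV y (hWV hy) := by
  classical
  obtain ⟨d, f, hd, hf, hpf⟩ := exists_pos_deg_notMem 𝒜 p
  obtain ⟨e1, i1, h1, m1, he1, hh1, hm1, hi1, hp1, hsub1, hval1⟩ :=
    exists_local_frac 𝒜 ℳ n sU hd f hf p hpU hpf
  obtain ⟨e2, i2, h2, m2, he2, hh2, hm2, hi2, hp2, hsub2, hval2⟩ :=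
    exists_local_frac 𝒜 ℳ n sV hd f hf p hpV hpf
  have hdd : e2 + i1 = e1 + i2 := by omega
  have hzmem : h2 • m1 - h1 • m2 ∈ ℳ (e2 + i1) := by
    apply sub_mem
    · exact SetLike.GradedSMul.smul_mem hh2 hm1
    · rw [hdd]
      exact SetLike.GradedSMul.smul_mem hh1 hm2
  have key : ∀ (y : ProjectiveSpectrum.top 𝒜) (hyU : y ∈ U) (hyV : y ∈ V),
      h1 ∉ y.asHomogeneousIdeal → h2 ∉ y.asHomogeneousIdeal →
      (h1 * h2) • (val sU y hyU - val sV y hyV) = ι₁ y (h2 • m1 - h1 • m2) := by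
    intro y hyU hyV hy1 hy2
    have e3 : ι₁ y (h2 • m1 - h1 • m2) = ι₁ y (h2 • m1) - ι₁ y (h1 • m2) := by
      rw [eq_sub_iff_add_eq]
      refine (ι₁_add y _ _).symm.trans ?_
      rw [sub_add_cancel]
    refine Eq.trans ?_ e3.symm
    rw [smul_sub]
    congr 1
    · rw [mul_comm, mul_smul, hval1 y hyU hy1]
      exact (ι₁_smul y _ _).symm
    · rw [mul_smul, hval2 y hyV hy2]
      exact (ι₁_smul y _ _).symm
  have hz0 : ι₁ p (h2 • m1 - h1 • m2) = 0 := by
    rw [← key p hpU hpV hp1 hp2, h, sub_self, smul_zero]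
  obtain ⟨c, hc, hcz⟩ := (ι₁_eq_zero_iff p _).1 hz0
  -- a homogeneous component of `c` not in `p`
  obtain ⟨k, hk⟩ : ∃ k, (DirectSum.decompose 𝒜 c k : A) ∉ p.asHomogeneousIdeal := by
    by_contra hcon
    push Not at hcon
    apply hc
    rw [← DirectSum.sum_support_decompose 𝒜 c]
    exact Ideal.sum_mem _ (fun k _ => hcon k)
  have hck : (DirectSum.decompose 𝒜 c k : A) • (h2 • m1 - h1 • m2) = 0 := by
    have := ann_isHomogeneous 𝒜 ℳ _ hzmem k (show c ∈ LinearMap.ker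
      (LinearMap.toSpanSingleton A M (h2 • m1 - h1 • m2)) by
        rw [LinearMap.mem_ker, LinearMap.toSpanSingleton_apply]; exact hcz)
    rwa [LinearMap.mem_ker, LinearMap.toSpanSingleton_apply] at this
  set ck : A := (DirectSum.decompose 𝒜 c k : A) with hckdef
  refine ⟨ProjectiveSpectrum.basicOpen 𝒜 (h1 * h2 * ck), ?_, ?_, ?_, ?_⟩
  · intro y hy
    have : h1 ∉ y.asHomogeneousIdeal := fun h' =>
      hy (Ideal.mul_mem_right _ _ (Ideal.mul_mem_right _ _ h'))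
    exact (hsub1 y this).1
  · intro y hy
    have : h2 ∉ y.asHomogeneousIdeal := fun h' =>
      hy (Ideal.mul_mem_right _ _ (Ideal.mul_mem_left _ _ h'))
    exact (hsub2 y this).1
  · intro h'
    rcases p.isPrime.mem_or_mem h' with h'' | h''
    · rcases p.isPrime.mem_or_mem h'' with h3 | h3
      · exact hp1 h3
      · exact hp2 h3
    · exact hk h''
  · intro y hy
    have hy1 : h1 ∉ y.asHomogeneousIdeal := fun h' =>
      hy (Ideal.mul_mem_right _ _ (Ideal.mul_mem_right _ _ h'))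
    have hy2 : h2 ∉ y.asHomogeneousIdeal := fun h' =>
      hy (Ideal.mul_mem_right _ _ (Ideal.mul_mem_left _ _ h'))
    have hy3 : ck ∉ y.asHomogeneousIdeal := fun h' => hy (Ideal.mul_mem_left _ _ h')
    have hy12 : h1 * h2 ∉ y.asHomogeneousIdeal := fun h' =>
      (y.isPrime.mem_or_mem h').elim hy1 hy2
    have hz : ι₁ y (h2 • m1 - h1 • m2) = 0 := (ι₁_eq_zero_iff y _).2 ⟨ck, hy3, hck⟩
    rw [← sub_eq_zero]
    apply smul_injective y hy12
    change (h1 * h2) • (val sU y _ - val sV y _) = (h1 * h2) • 0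
    rw [key y _ _ hy1 hy2, hz, smul_zero]

/-- **the stalk of `M(n)~` at `p` is the module of fractions of degree `n` in `M_p`** -/
theorem stalkToFiber_bijective (n : ℤ) (p : ProjectiveSpectrum.top 𝒜) :
    Function.Bijective (TopCat.stalkToFiber (GrTilde.isLocFrac 𝒜 ℳ n) p) := by
  constructor
  · apply TopCat.stalkToFiber_injective
    intro U V fU hU fV hV h
    obtain ⟨W, hWU, hWV, hpW, hW⟩ := exists_nhd_eq 𝒜 ℳ n p U.2 V.2
      (⟨fU, hU⟩ : GrTilde.sect 𝒜 ℳ n (op U.1)) (⟨fV, hV⟩ : GrTilde.sect 𝒜 ℳ n (op V.1))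
      (congrArg Subtype.val h)
    refine ⟨⟨W, hpW⟩, homOfLE hWU, homOfLE hWV, fun w => ?_⟩
    apply Subtype.ext
    exact hW w.1 w.2
  · apply TopCat.stalkToFiber_surjective
    intro t
    obtain ⟨i, j, m, s, hs, hm, hsj, hij, ht⟩ := exists_frac_of_mem_tildeAt 𝒜 ℳ n p t.1 t.2
    refine ⟨⟨ProjectiveSpectrum.basicOpen 𝒜 s, hs⟩,
      (fracSect 𝒜 ℳ n m hm s hsj hij (ProjectiveSpectrum.basicOpen 𝒜 s) (fun y hy => hy)).1,
      (fracSect 𝒜 ℳ n m hm s hsj hij (ProjectiveSpectrum.basicOpen 𝒜 s) (fun y hy => hy)).2, ?_⟩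
    apply Subtype.ext
    exact ht.symm

end Groth.Agent.Helper1.GrT
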