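import Groth.Agent.Helper1.Bridge9
import Groth.Agent.Helper1.DRankVanish
import Groth.Agent.Helper1.FlatCxChain
import Groth.Agent.Helper1.CurveFam5
import Groth.Agent.S2406
import Groth.Agent.S0002

set_option autoImplicit false
set_option linter.style.haveILetI false
set_option linter.unusedSectionVars false
set_option linter.unusedVariables false

/-!
# Over a Noetherian ring, for a flat coherent module on a proper scheme with fibres of dimension
at most one: if `H¹` is projective, so is `H⁰`
-/

namespace Groth.Agent.Helper1.H0Proj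

open CategoryTheory AlgebraicGeometry AlgebraicGeometry.Scheme.Modules TopologicalSpace Topology
open Groth.Agent.Helper1.FlatCx

universe u

/-- a functor with zero values preserves monomorphisms and epimorphisms -/
theorem preserves_of_isZero {C D : Type*} [Category C] [Category D] (T : C ⥤ D)
    (h : ∀ M, Limits.IsZero (T.obj M)) : T.PreservesMonomorphisms ∧ T.PreservesEpimorphisms := by
  refine ⟨⟨fun {M N} g _ => ?_⟩, ⟨fun {M N} g _ => ?_⟩⟩
  · exact ⟨fun a b _ => (h M).eq_of_tgt a b⟩
  · exact ⟨fun a b _ => (h N).eq_of_src a b⟩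

theorem projective_H0 (R : Type u) [CommRing R] [IsNoetherianRing R]
    (X : Scheme.{u}) [X.Over (Spec (CommRingCat.of R))] [IsProper (X ↘ Spec (CommRingCat.of R))]
    (hdim : ∀ s : Spec (CommRingCat.of R),
      topologicalKrullDim ↥((X ↘ Spec (CommRingCat.of R)).fiber s) ≤ 1)
    (F : X.Modules) (hF : Coh.IsCoh F) (hfl : FlatMod.IsFlatOver (X ↘ Spec (CommRingCat.of R)) F)
    (h1 : Module.Projective R (Coh.HH X F 1)) :
    Module.Projective R (Coh.HH X F 0) := by
  obtain ⟨L, hff, -, hpos, -, hrank, -, hH⟩ :=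
    Groth.Agent.Helper1.Bridge.exists_complex'' R X F hF hfl
  have hfl' : ∀ i, Module.Flat R (L.X i) := fun i => by
    haveI := (hff i).2
    infer_instance
  have hP : ∀ i, Module.Finite R (L.X i) ∧ Module.Flat R (L.X i) := fun i => ⟨(hff i).1, hfl' i⟩
  -- `T_{-2} = 0`
  have hz2 : ∀ M, Limits.IsZero ((CohIII.TFun L (-2)).obj M) := by
    refine Groth.Agent.Helper1.DRankVanish.isZero_TFun_of_dRank_eq_zero L hP (-2) (fun y => ?_)
    have := hrank 2 y
    rw [show (-((2 : ℕ) : ℤ)) = -2 from rfl] at this
    rw [this]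
    haveI := Groth.Agent.Helper1.CurveFam.subsingleton_fiberH_of_dim
      (X ↘ Spec (CommRingCat.of R)) y 1 (hdim y) F 2 (by norm_num)
    exact Module.finrank_zero_of_subsingleton
  have hm2 := (preserves_of_isZero _ hz2).1
  -- `T_{-1}` is exact
  obtain ⟨e1⟩ := hH 1
  have hflat1 : Module.Flat R (L.homology (-1)) := by
    haveI : Module.Flat R (Coh.HH X F 1) := Module.Flat.of_projective
    exact Module.Flat.of_linearEquiv e1
  have hflat1' : Module.Flat R ((CohIII.TFun L (-1)).obj (ModuleCat.of R R)) :=
    Module.Flat.of_linearEquiv (TAIso' L (-1)).toLinearEquiv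
  have hex1 := exact_succ_of_flat L hfl' (-2) (-1) (by norm_num) hm2 hflat1'
  -- `T_0` is exact
  have he0 : (CohIII.TFun L 0).PreservesEpimorphisms :=
    (Groth.Agent.S2406.result L hfl' 0 (-1) (by norm_num)).mpr hex1.1
  have hm0 : (CohIII.TFun L 0).PreservesMonomorphisms :=
    (Groth.Agent.S2406.result L hfl' 1 0 (by norm_num)).mp
      (preserves_of_isZero _ (hpos 1 one_pos)).2
  have hflat0 : Module.Flat R (L.homology 0) := flat_homology_of_exact L hfl' 0 ⟨hm0, he0⟩
  have hH0 := hH 0
  rw [show (-((0 : ℕ) : ℤ)) = 0 from by simp] at hH0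
  obtain ⟨e0⟩ := hH0
  haveI : Module.Flat R (Coh.HH X F 0) := Module.Flat.of_linearEquiv e0.symm
  haveI : Module.Finite R (Coh.HH X F 0) := Groth.Agent.S0002.result R X F hF 0
  haveI : Module.FinitePresentation R (Coh.HH X F 0) := Module.finitePresentation_of_finite R _
  exact Module.Flat.projective_of_finitePresentation

end Groth.Agent.Helper1.H0Proj
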