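import Mathlib
import Groth.Agent.Helper1.LocCohFinite

set_option autoImplicit false

/-!
# The class of finite modules with finitely generated `H¹_I`

Closure under extensions, submodules; contains the `I`-power torsion modules.
-/

namespace Groth.Agent.Helper1.H1Fin
open CategoryTheory Limits Opposite
open Groth.Agent.Helper1.DeltaFun Groth.Agent.Helper1.LocCohDelta
open Groth.Agent.Helper1.LocCohArtinian Groth.Agent.Helper1.LocCohFinite

universe u

variable {R : Type u} [CommRing R] [IsNoetherianRing R] (I : Ideal R)

/-- `H¹_I(M)` is a finite module -/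
def H1F (M : Type u) [AddCommGroup M] [Module R M] : Prop :=
  Module.Finite R ((localCohomology I 1).obj (ModuleCat.of R M))

/-- the middle term of an exact sequence of modules with finite ends is finite -/
lemma finite_of_exact_cat {X Y Z : ModuleCat.{u} R} (f : X ⟶ Y) (g : Y ⟶ Z)
    (w : f ≫ g = 0) (hex : (ShortComplex.mk f g w).Exact) (hX : Module.Finite R X)
    (hZ : Module.Finite R Z) : Module.Finite R Y := by
  rw [ShortComplex.moduleCat_exact_iff] at hex
  have hex' : Function.Exact f.hom g.hom.rangeRestrict := by
    intro y
    constructor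
    · intro hy
      have : g.hom y = 0 := congrArg Subtype.val hy
      exact hex y this
    · rintro ⟨x, rfl⟩
      apply Subtype.ext
      show g.hom (f.hom x) = 0
      rw [← ModuleCat.comp_apply, w]
      rfl
  haveI : Module.Finite R (LinearMap.range g.hom) :=
    Module.Finite.of_injective (LinearMap.range g.hom).subtype (Submodule.injective_subtype _)
  exact Module.Finite.of_exact hex' g.hom.surjective_rangeRestrict

section ses

variable {M' M M'' : Type u} [AddCommGroup M'] [Module R M'] [AddCommGroup M] [Module R M]
  [AddCommGroup M''] [Module R M''] (f : M' →ₗ[R] M) (g : M →ₗ[R] M'')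

/-- the short complex of a pair of composable linear maps -/
noncomputable abbrev sc (hex : Function.Exact f g) : ShortComplex (ModuleCat.{u} R) :=
  ModuleCat.shortComplexOfCompEqZero f g hex.linearMap_comp_eq_zero

lemma sc_shortExact (hf : Function.Injective f) (hg : Function.Surjective g)
    (hex : Function.Exact f g) : (sc f g hex).ShortExact :=
  { exact := ModuleCat.shortComplex_exact _ hex
    mono_f := (ModuleCat.mono_iff_injective _).2 hf
    epi_g := (ModuleCat.epi_iff_surjective _).2 hg }

/-- (F1) closure under extensions -/
lemma h1f_of_exact (hf : Function.Injective f) (hg : Function.Surjective g)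
    (hex : Function.Exact f g) (h1 : H1F I M') (h2 : H1F I M'') : H1F I M :=
  finite_of_exact_cat _ _ _ (LocCohVanish.lc_exact₂ I _ (sc_shortExact f g hf hg hex) 1) h1 h2

/-- (F2) closure under submodules with finite quotient -/
lemma h1f_of_sub (hf : Function.Injective f) (hg : Function.Surjective g)
    (hex : Function.Exact f g) [Module.Finite R M''] (h : H1F I M) : H1F I M' :=
  finite_of_exact_cat _ _ _ ((lcDelta I).exact₁ _ (sc_shortExact f g hf hg hex) 0)
    (finite_lc_zero I M'') h

end ses

/-- (F2') closure under submodules of finite modules -/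
lemma h1f_of_injective {M' M : Type u} [AddCommGroup M'] [Module R M'] [AddCommGroup M]
    [Module R M] [Module.Finite R M] (f : M' →ₗ[R] M) (hf : Function.Injective f)
    (h : H1F I M) : H1F I M' :=
  h1f_of_sub I f (LinearMap.range f).mkQ hf (Submodule.mkQ_surjective _)
    (LinearMap.exact_map_mkQ_range f) h

/-- invariance under isomorphism -/
lemma h1f_of_equiv {M' M : Type u} [AddCommGroup M'] [Module R M'] [AddCommGroup M]
    [Module R M] (e : M' ≃ₗ[R] M) (h : H1F I M) : H1F I M' := by
  have e' : ModuleCat.of R M' ≅ ModuleCat.of R M := e.toModuleIso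
  haveI : Module.Finite R ((localCohomology I 1).obj (ModuleCat.of R M)) := h
  exact Module.Finite.equiv ((localCohomology I 1).mapIso e').symm.toLinearEquiv

/-- (F3) power torsion modules have vanishing `H¹` -/
lemma h1f_of_isTors {M : Type u} [AddCommGroup M] [Module R M]
    (h : ∀ x : M, ∃ n : ℕ, ∀ a ∈ I ^ n, a • x = 0) : H1F I M := by
  have hz := isZero_lc_of_isTors I 0 (ModuleCat.of R M) h
  haveI : Subsingleton ((localCohomology I (0 + 1)).obj (ModuleCat.of R M)) :=
    ModuleCat.subsingleton_of_isZero hz
  haveI : Finite ((localCohomology I (0 + 1)).obj (ModuleCat.of R M)) := Finite.of_subsingleton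
  exact Module.Finite.of_finite

end Groth.Agent.Helper1.H1Fin
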