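import Mathlib
import Groth.Agent.Helper1.H1A

set_option autoImplicit false

/-!
# Finite torsion-free modules over a domain embed in finite free modules; `H¹`-finiteness of powers
-/

namespace Groth.Agent.Helper1.H1Fin
open CategoryTheory Limits Opposite

universe u

section embed

open Submodule Set in
/-- a finitely generated torsion-free module over a domain embeds into a finite free module -/
lemma exists_injective_pi {D : Type*} [CommRing D] [IsDomain D] {N : Type*} [AddCommGroup N]
    [Module D N] [Module.Finite D N]
    (htf : ∀ (a : D) (x : N), a ≠ 0 → a • x = 0 → x = 0) :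
    ∃ (ι : Type) (_ : Finite ι) (φ : N →ₗ[D] (ι → D)), Function.Injective φ := by
  classical
  obtain ⟨m, s, hs⟩ := Module.Finite.exists_fin (R := D) (M := N)
  obtain ⟨I, indepI, hI⟩ := exists_maximal_linearIndepOn D s
  have indepI' : LinearIndependent D (fun i : I => s i) := indepI
  let N' : Submodule D N := span D (range (fun i : I => s i))
  let sI_basis : Module.Basis I D N' := Module.Basis.span indepI'
  have exists_a : ∀ i : Fin m, ∃ a : D, a ≠ 0 ∧ a • s i ∈ N' := by
    intro i
    by_cases hi : i ∈ I
    · refine ⟨1, one_ne_zero, ?_⟩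
      rw [one_smul]
      exact subset_span (mem_range_self (⟨i, hi⟩ : I))
    · obtain ⟨a, ha, ha'⟩ := hI i hi
      refine ⟨a, ha, ?_⟩
      have : s '' I = range (fun i : I => s i) := by
        ext x
        simp
      rw [this] at ha'
      exact ha'
  choose a ha ha' using exists_a
  let A := ∏ i, a i
  have hA : A ≠ 0 := by
    rw [Finset.prod_ne_zero_iff]
    intro i _
    exact ha i
  have hmem : ∀ x : N, A • x ∈ N' := by
    intro x
    have hx : x ∈ span D (range s) := by
      rw [hs]
      exact mem_top
    induction hx using span_induction with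
    | mem y hy =>
      obtain ⟨i, rfl⟩ := hy
      have : (∏ j ∈ {i}ᶜ, a j) • a i • s i ∈ N' := N'.smul_mem _ (ha' i)
      rwa [← mul_smul, ← Fintype.prod_eq_prod_compl_mul i] at this
    | zero =>
      rw [smul_zero]
      exact N'.zero_mem
    | add y z _ _ hy hz =>
      rw [smul_add]
      exact N'.add_mem hy hz
    | smul r y _ hy =>
      rw [smul_comm]
      exact N'.smul_mem r hy
  let ψ : N →ₗ[D] N' := LinearMap.codRestrict N' (LinearMap.lsmul D N A) hmem
  have hψ : Function.Injective ψ := by
    rw [← LinearMap.ker_eq_bot, LinearMap.ker_eq_bot']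
    intro x hx
    have : A • x = 0 := congrArg Subtype.val hx
    exact htf A x hA this
  refine ⟨I, inferInstance,
    ((Finsupp.linearEquivFunOnFinite D D I).toLinearMap.comp sI_basis.repr.toLinearMap).comp ψ, ?_⟩
  intro x y hxy
  apply hψ
  apply sI_basis.repr.injective
  apply (Finsupp.linearEquivFunOnFinite D D I).injective
  exact hxy

end embed

section pi

variable {R : Type u} [CommRing R] [IsNoetherianRing R] (I : Ideal R)

lemma h1f_of_subsingleton (M : Type u) [AddCommGroup M] [Module R M] [Subsingleton M] :
    H1F I M :=
  h1f_of_isTors I (fun x => ⟨0, fun a _ => by rw [Subsingleton.elim x 0, smul_zero]⟩)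

/-- `H1F` passes to finite powers indexed by `Fin s` -/
lemma h1f_pi_fin (N : Type u) [AddCommGroup N] [Module R N] (h : H1F I N) :
    ∀ s : ℕ, H1F I (Fin s → N) := by
  intro s
  induction s with
  | zero => exact h1f_of_subsingleton I _
  | succ s ih =>
    refine h1f_of_exact I (LinearMap.single R (fun _ : Fin (s + 1) => N) 0)
      (LinearMap.funLeft R N (Fin.succ : Fin s → Fin (s + 1))) ?_ ?_ ?_ h ih
    · intro x y hxy
      have := congrFun hxy 0
      simpa using this
    · intro v
      refine ⟨Fin.cons 0 v, ?_⟩
      ext i
      simp [LinearMap.funLeft_apply]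
    · intro v
      constructor
      · intro hv
        refine ⟨v 0, ?_⟩
        ext i
        refine Fin.cases ?_ (fun j => ?_) i
        · simp
        · have := congrFun hv j
          simp only [LinearMap.funLeft_apply, Pi.zero_apply] at this
          simp [this]
      · rintro ⟨x, rfl⟩
        ext j
        simp [LinearMap.funLeft_apply, Fin.succ_ne_zero]

/-- `H1F` passes to finite powers -/
lemma h1f_pi (N : Type u) [AddCommGroup N] [Module R N] (h : H1F I N) (ι : Type) [Finite ι] :
    H1F I (ι → N) := by
  obtain ⟨n, ⟨e⟩⟩ := Finite.exists_equiv_fin ι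
  exact h1f_of_equiv I (LinearEquiv.funCongrLeft R N e.symm) (h1f_pi_fin I N h n)

end pi

end Groth.Agent.Helper1.H1Fin
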