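import Mathlib
import Groth.Agent.Helper1.H1B

set_option autoImplicit false

/-!
# `H¹`-finiteness for coprimary modules and via primary decomposition
-/

namespace Groth.Agent.Helper1.H1Fin
open CategoryTheory Limits Opposite

universe u

variable {R : Type u} [CommRing R] [IsNoetherianRing R] (I : Ideal R)

section coprimary

variable (p : Ideal R) [p.IsPrime]

/-- finite modules killed by `p` and torsion-free over `R ⧸ p` -/
lemma h1f_of_killed (hp : H1F I (R ⧸ p)) (N : Type u) [AddCommGroup N] [Module R N]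
    [Module.Finite R N] (hk : ∀ a ∈ p, ∀ x : N, a • x = 0)
    (htf : ∀ a ∉ p, ∀ x : N, a • x = 0 → x = 0) : H1F I N := by
  have hM : Module.IsTorsionBySet R N (p : Set R) := by
    intro x a
    exact hk a.1 a.2 x
  letI : Module (R ⧸ p) N := hM.module
  haveI : IsScalarTower R (R ⧸ p) N := Module.IsTorsionBySet.isScalarTower hM
  haveI : Module.Finite (R ⧸ p) N := Module.Finite.of_restrictScalars_finite R (R ⧸ p) N
  have htf' : ∀ (d : R ⧸ p) (x : N), d ≠ 0 → d • x = 0 → x = 0 := by
    intro d x hd hx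
    obtain ⟨a, rfl⟩ := Ideal.Quotient.mk_surjective d
    have ha : a ∉ p := fun h => hd (Ideal.Quotient.eq_zero_iff_mem.2 h)
    exact htf a ha x hx
  obtain ⟨ι, hι, φ, hφ⟩ := exists_injective_pi htf'
  haveI := hι
  exact h1f_of_injective I (φ.restrictScalars R) hφ (h1f_pi I (R ⧸ p) hp ι)

/-- finite `p`-coprimary modules -/
lemma h1f_coprimary (hp : H1F I (R ⧸ p)) : ∀ (k : ℕ) (N : Type u) [AddCommGroup N] [Module R N]
    [Module.Finite R N], (∀ a ∈ p ^ k, ∀ x : N, a • x = 0) →
    (∀ a ∉ p, ∀ x : N, a • x = 0 → x = 0) → H1F I N := by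
  intro k
  induction k with
  | zero =>
    intro N _ _ _ hk _
    haveI : Subsingleton N := by
      refine ⟨fun x y => ?_⟩
      have hx := hk 1 (by simp) x
      have hy := hk 1 (by simp) y
      rw [one_smul] at hx hy
      rw [hx, hy]
    exact h1f_of_subsingleton I N
  | succ k ih =>
    intro N _ _ _ hk htf
    let N₁ : Submodule R N := Submodule.torsionBySet R N (p : Set R)
    have h1 : H1F I N₁ := by
      apply h1f_of_killed I p hp N₁
      · intro a ha x
        apply Subtype.ext
        exact (Submodule.mem_torsionBySet_iff _ _).1 x.2 ⟨a, ha⟩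
      · intro a ha x hx
        apply Subtype.ext
        exact htf a ha x.1 (congrArg Subtype.val hx)
    have h2 : H1F I (N ⧸ N₁) := by
      apply ih (N ⧸ N₁)
      · intro a ha x
        obtain ⟨x, rfl⟩ := Submodule.mkQ_surjective N₁ x
        rw [← map_smul]
        refine (Submodule.Quotient.mk_eq_zero N₁).2 ?_
        rw [Submodule.mem_torsionBySet_iff]
        rintro ⟨b, hb⟩
        show b • a • x = 0
        rw [← mul_smul]
        apply hk
        rw [pow_succ']
        exact Ideal.mul_mem_mul hb ha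
      · intro a ha x hx
        obtain ⟨x, rfl⟩ := Submodule.mkQ_surjective N₁ x
        rw [← map_smul] at hx
        have hx' : a • x ∈ N₁ := (Submodule.Quotient.mk_eq_zero N₁).1 hx
        refine (Submodule.Quotient.mk_eq_zero N₁).2 ?_
        rw [Submodule.mem_torsionBySet_iff] at hx' ⊢
        rintro ⟨b, hb⟩
        have := hx' ⟨b, hb⟩
        change b • a • x = 0 at this
        rw [smul_comm] at this
        exact htf a ha _ this
    exact h1f_of_exact I N₁.subtype N₁.mkQ (Submodule.injective_subtype _)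
      (Submodule.mkQ_surjective _) (LinearMap.exact_subtype_mkQ _) h1 h2

end coprimary

section primary

variable {M : Type u} [AddCommGroup M] [Module R M] [Module.Finite R M]

lemma h1f_quotient_primary (Q : Submodule R M) (hQ : Q.IsPrimary)
    (h : ¬ I ≤ (Q.colon Set.univ).radical → H1F I (R ⧸ (Q.colon Set.univ).radical)) :
    H1F I (M ⧸ Q) := by
  haveI : (Q.colon Set.univ).radical.IsPrime := hQ.isPrime_radical_colon
  obtain ⟨k, hk⟩ := Ideal.exists_radical_pow_le_of_fg (Q.colon Set.univ)
    (IsNoetherian.noetherian _)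
  have hkill : ∀ a ∈ (Q.colon Set.univ).radical ^ k, ∀ x : M ⧸ Q, a • x = 0 := by
    intro a ha x
    obtain ⟨x, rfl⟩ := Submodule.mkQ_surjective Q x
    rw [← map_smul]
    exact (Submodule.Quotient.mk_eq_zero Q).2 (Submodule.mem_colon.1 (hk ha) x (Set.mem_univ _))
  by_cases hI : I ≤ (Q.colon Set.univ).radical
  · apply h1f_of_isTors
    intro x
    exact ⟨k, fun a ha => hkill a (Ideal.pow_right_mono hI k ha) x⟩
  · apply h1f_coprimary I _ (h hI) k (M ⧸ Q) hkill
    intro a ha x hx
    obtain ⟨x, rfl⟩ := Submodule.mkQ_surjective Q x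
    rw [← map_smul] at hx
    have hx' : a • x ∈ Q := (Submodule.Quotient.mk_eq_zero Q).1 hx
    exact (Submodule.Quotient.mk_eq_zero Q).2 ((hQ.mem_or_mem hx').resolve_right ha)

lemma h1f_prod (N N' : Type u) [AddCommGroup N] [Module R N] [AddCommGroup N'] [Module R N']
    (h : H1F I N) (h' : H1F I N') : H1F I (N × N') :=
  h1f_of_exact I (LinearMap.inl R N N') (LinearMap.snd R N N') LinearMap.inl_injective
    LinearMap.snd_surjective (by
      intro x
      constructor
      · intro hx
        exact ⟨x.1, Prod.ext rfl (by simpa using hx.symm)⟩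
      · rintro ⟨y, rfl⟩
        simp) h h'

lemma h1f_quotient_inf (Q P : Submodule R M) (hQ : H1F I (M ⧸ Q)) (hP : H1F I (M ⧸ P)) :
    H1F I (M ⧸ (Q ⊓ P)) := by
  have hle : Q ⊓ P ≤ LinearMap.ker (LinearMap.prod Q.mkQ P.mkQ) := by
    rw [LinearMap.ker_prod, Submodule.ker_mkQ, Submodule.ker_mkQ]
  refine h1f_of_injective I ((Q ⊓ P).liftQ (LinearMap.prod Q.mkQ P.mkQ) hle) ?_
    (h1f_prod I _ _ hQ hP)
  rw [← LinearMap.ker_eq_bot, Submodule.ker_liftQ_eq_bot']
  rw [LinearMap.ker_prod, Submodule.ker_mkQ, Submodule.ker_mkQ]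

lemma h1f_quotient_finsetInf (t : Finset (Submodule R M)) (h : ∀ Q ∈ t, H1F I (M ⧸ Q)) :
    H1F I (M ⧸ t.inf id) := by
  classical
  induction t using Finset.induction_on with
  | empty =>
    rw [Finset.inf_empty]
    exact h1f_of_subsingleton I _
  | insert Q s hQ ih =>
    rw [Finset.inf_insert]
    exact h1f_quotient_inf I Q (s.inf id) (h Q (Finset.mem_insert_self _ _))
      (ih fun P hP => h P (Finset.mem_insert_of_mem hP))

variable (M)

/-- `H¹_I(M)` is finite iff `H¹_I(R/p)` is finite for the associated primes `p ∌ V(I)` of `M` -/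
theorem h1f_iff :
    H1F I M ↔ ∀ p : Ideal R, p ∈ associatedPrimes R M → ¬ I ≤ p → H1F I (R ⧸ p) := by
  constructor
  · intro h p hp _
    obtain ⟨_, f, hf⟩ := (isAssociatedPrime_iff_exists_injective_linearMap p M).1 hp
    exact h1f_of_injective I f hf h
  · intro h
    obtain ⟨t, ht⟩ := Submodule.IsLasker.exists_isMinimalPrimaryDecomposition
      (Submodule.isLasker R M) (⊥ : Submodule R M)
    have h1 : H1F I (M ⧸ t.inf id) := by
      apply h1f_quotient_finsetInf
      intro Q hQ
      apply h1f_quotient_primary I Q (ht.primary hQ)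
      intro hI
      exact h _ (ht.mem_associatedPrimes hQ) hI
    rw [ht.inf_eq] at h1
    exact h1f_of_equiv I (Submodule.quotEquivOfEqBot ⊥ rfl).symm h1

end primary

end Groth.Agent.Helper1.H1Fin
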