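import Groth.Agent.Helper1.HMap9

set_option autoImplicit false
set_option linter.unusedVariables false
universe u
open CategoryTheory CategoryTheory.Limits MonoidalCategory TensorProduct

/-!
# Base change of complexes of finite free modules over the free locus of the opcycles
-/

noncomputable section

namespace Groth.Agent.Helper1.HMap

open Groth.Agent.Helper1.FlatCx Groth.Agent.Helper1.BCFlatCoh Groth.Agent.Helper1

variable {A : Type u} [CommRing A]
  {ι : Type} {c : ComplexShape ι} (K : HomologicalComplex (ModuleCat.{u} A) c) (p j : ι)

/-- the opcycles of the base change -/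
def bcOpcyclesEquiv (B : Type u) [CommRing B] [Algebra A B] (i : ι) :
    (CohIII.bcCx (algebraMap A B) K).opcycles i ≃ₗ[B] B ⊗[A] K.opcycles i :=
  (bcOpcyclesIso (algebraMap A B) K i).toLinearEquiv ≪≫ₗ extendScalarsEquiv (S := B) _

section

variable (B : Type u) [CommRing B] [Algebra A B]

lemma projective_bcCx_X (i : ι) [Module.Projective A (K.X i)] :
    Module.Projective B ((CohIII.bcCx (algebraMap A B) K).X i) :=
  Module.Projective.of_equiv (extendScalarsEquiv (S := B) (K.X i)).symm

lemma finite_bcCx_X (i : ι) [Module.Finite A (K.X i)] :
    Module.Finite B ((CohIII.bcCx (algebraMap A B) K).X i) :=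
  finite_extendScalars (S := B) (K.X i)

end

variable (a : A)

/-- the opcycles of the base change are projective over the free locus -/
theorem projective_opcycles_bcCx (hp : c.prev j = p)
    [Module.Finite A (K.X p)] [Module.Finite A (K.X j)] [Module.Free A (K.X j)]
    (hsub : (PrimeSpectrum.basicOpen a : Set (PrimeSpectrum A)) ⊆
      Module.freeLocus A (K.opcycles j))
    (B : Type u) [CommRing B] [Algebra A B] (hB : IsUnit (algebraMap A B a)) :
    Module.Projective B ((CohIII.bcCx (algebraMap A B) K).opcycles j) := by
  haveI := finitePresentation_opcycles K p j hp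
  haveI : Module.FinitePresentation B (B ⊗[A] K.opcycles j) := inferInstance
  have h1 : Module.freeLocus B (B ⊗[A] K.opcycles j) = Set.univ := by
    rw [Set.eq_univ_iff_forall]
    intro 𝔮
    apply Module.comap_freeLocus_le (R := A) (M := K.opcycles j) (A := B)
    apply hsub
    show a ∉ (PrimeSpectrum.comap (algebraMap A B) 𝔮).asIdeal
    intro ha
    exact 𝔮.isPrime.ne_top (Ideal.eq_top_of_isUnit_mem _ ha hB)
  have h2 : Module.Projective B (B ⊗[A] K.opcycles j) := Module.freeLocus_eq_univ_iff.mp h1
  exact Module.Projective.of_equiv (bcOpcyclesEquiv K B j).symm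

/-- base change of the homology over the free locus of the next opcycles -/
theorem exists_equiv_of_basicOpen (hj : c.next p = j) (hp : c.prev j = p)
    [Module.Finite A (K.X p)] [Module.Finite A (K.X j)] [Module.Free A (K.X j)]
    (hsub : (PrimeSpectrum.basicOpen a : Set (PrimeSpectrum A)) ⊆
      Module.freeLocus A (K.opcycles j))
    (B : Type u) [CommRing B] [Algebra A B] (hB : IsUnit (algebraMap A B a)) :
    ∃ eL : B ⊗[A] K.homology p ≃ₗ[B] (CohIII.bcCx (algebraMap A B) K).homology p,
      ∀ x : K.homology p, eL (1 ⊗ₜ x) = (hmapM B K p).hom x := by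
  haveI := finitePresentation_opcycles K p j hp
  have hproj := Module.basicOpen_subset_freeLocus_iff.mp hsub
  have hfl : Module.Flat (Localization.Away a)
      (LocalizedModule (Submonoid.powers a) (K.opcycles j)) :=
    @Module.Flat.of_projective _ _ _ _ _ hproj
  have hfl' : Module.Flat A (Localization.Away a) :=
    IsLocalization.flat (Localization.Away a) (Submonoid.powers a)
  have hO : Module.Flat A (LocalizedModule (Submonoid.powers a) (K.opcycles j)) :=
    @Module.Flat.trans A (Localization.Away a) _ _ _ _ _ _ _ _ hfl' hfl
  have hunits : ∀ s : Submonoid.powers a, IsUnit (algebraMap A B s) := by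
    rintro ⟨_, n, rfl⟩
    rw [map_pow]
    exact hB.pow n
  have hbc : BCExact B K p j :=
    BCExact.of_localized B K p j (Submonoid.powers a) hunits hj hp inferInstance hO
  exact hbc.exists_equiv hj

/-- the canonical map on homology, as a function with values in the homology of the base
change -/
def hmapFun (B : Type u) [CommRing B] [Algebra A B] :
    K.homology p → (CohIII.bcCx (algebraMap A B) K).homology p :=
  fun x => (hmapM B K p).hom x

/-- the image of the canonical map spans, when it induces an isomorphism from the base change -/
theorem span_eq_top_of_equiv (B : Type u) [CommRing B] [Algebra A B]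
    (h : ∃ eL : B ⊗[A] K.homology p ≃ₗ[B] (CohIII.bcCx (algebraMap A B) K).homology p,
      ∀ x : K.homology p, eL (1 ⊗ₜ x) = (hmapM B K p).hom x) :
    Submodule.span B (Set.range (hmapFun K p B)) = ⊤ := by
  obtain ⟨eL, heL⟩ := h
  rw [eq_top_iff]
  intro y _
  have key : ∀ t, eL t ∈ Submodule.span B (Set.range (hmapFun K p B)) := by
    intro t
    induction t using TensorProduct.induction_on with
    | zero => simp
    | tmul b x =>
      have : b ⊗ₜ[A] x = b • ((1 : B) ⊗ₜ[A] x) := by
        rw [TensorProduct.smul_tmul', smul_eq_mul, mul_one]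
      rw [this, map_smul, heL]
      exact Submodule.smul_mem _ _ (Submodule.subset_span (s := Set.range (hmapFun K p B)) ⟨x, rfl⟩)
    | add t t' ht ht' =>
      rw [map_add]
      exact Submodule.add_mem _ ht ht'
  obtain ⟨t, rfl⟩ := eL.surjective y
  exact key t

end Groth.Agent.Helper1.HMap

end
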