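import Groth.Agent.Helper1.HMap1

set_option autoImplicit false
set_option linter.unusedVariables false
universe u
open CategoryTheory CategoryTheory.Limits MonoidalCategory TensorProduct

/-!
# The canonical map `H_q(P) → H_q(P ⊗_A B)` and opcycles
-/

noncomputable section

namespace Groth.Agent.Helper1.HMap

open Groth.Agent.Helper1.FlatCx Groth.Agent.Helper1.BCFlatCoh Groth.Agent.Helper1

section general

variable {C D : Type*} [Category C] [Category D] [HasZeroMorphisms C] [HasZeroMorphisms D]
  (S : ShortComplex C) (F : C ⥤ D) [F.PreservesZeroMorphisms]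

lemma mapHomologyIso_hom_map_homologyι [S.HasHomology] [(S.map F).HasHomology]
    [F.PreservesLeftHomologyOf S] [F.PreservesRightHomologyOf S] :
    (S.mapHomologyIso F).hom ≫ F.map S.homologyι =
      (S.map F).homologyι ≫ (S.mapOpcyclesIso F).hom := by
  rw [← S.mapHomologyIso'_eq_mapHomologyIso F,
    S.rightHomologyData.mapHomologyIso'_eq F, S.rightHomologyData.mapOpcyclesIso_eq F]
  simp only [Iso.trans_hom, Functor.mapIso_hom, Iso.symm_hom, Category.assoc]
  have h1 : F.map S.rightHomologyData.homologyIso.inv ≫ F.map S.homologyι =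
      F.map S.rightHomologyData.ι ≫ F.map S.rightHomologyData.opcyclesIso.inv := by
    rw [← F.map_comp, ← F.map_comp,
      ShortComplex.RightHomologyData.homologyIso_inv_comp_homologyι]
  have h2 : (S.rightHomologyData.map F).homologyIso.hom ≫ F.map S.rightHomologyData.ι =
      (S.map F).homologyι ≫ (S.rightHomologyData.map F).opcyclesIso.hom :=
    (S.rightHomologyData.map F).homologyIso_hom_comp_ι
  calc (S.rightHomologyData.map F).homologyIso.hom ≫
        F.map S.rightHomologyData.homologyIso.inv ≫ F.map S.homologyι
      = (S.rightHomologyData.map F).homologyIso.hom ≫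
        F.map S.rightHomologyData.ι ≫ F.map S.rightHomologyData.opcyclesIso.inv :=
        congrArg (fun t => (S.rightHomologyData.map F).homologyIso.hom ≫ t) h1
    _ = ((S.rightHomologyData.map F).homologyIso.hom ≫ F.map S.rightHomologyData.ι) ≫
        F.map S.rightHomologyData.opcyclesIso.inv := (Category.assoc _ _ _).symm
    _ = ((S.map F).homologyι ≫ (S.rightHomologyData.map F).opcyclesIso.hom) ≫
        F.map S.rightHomologyData.opcyclesIso.inv :=
        congrArg (fun t => t ≫ F.map S.rightHomologyData.opcyclesIso.inv) h2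
    _ = _ := Category.assoc _ _ _

lemma pOpcycles_mapOpcyclesIso_hom [S.HasRightHomology] [F.PreservesRightHomologyOf S] :
    (S.map F).pOpcycles ≫ (S.mapOpcyclesIso F).hom = F.map S.pOpcycles :=
  (S.rightHomologyData.map F).pOpcycles_comp_opcyclesIso_hom

end general


section K

variable {A : Type u} [CommRing A] (B : Type u) [CommRing B] [Algebra A B]
  {ι : Type} {c : ComplexShape ι} (P : HomologicalComplex (ModuleCat.{u} A) c) (q : ι)

/-- the map `Z'_q(P) ⟶ Z'_q(P ⊗_A B)` -/
def opcUnit : P.opcycles q ⟶ (ModuleCat.restrictScalars.{u, u, u} (algebraMap A B)).obj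
    ((CohIII.bcCx (algebraMap A B) P).opcycles q) :=
  (ModuleCat.extendRestrictScalarsAdj.{u, u, u} (algebraMap A B)).unit.app (P.opcycles q) ≫
    (ModuleCat.restrictScalars.{u, u, u} (algebraMap A B)).map
      (bcOpcyclesIso (algebraMap A B) P q).inv

lemma pOpcycles_opcUnit :
    P.pOpcycles q ≫ opcUnit B P q =
      (ModuleCat.extendRestrictScalarsAdj.{u, u, u} (algebraMap A B)).unit.app (P.X q) ≫
        (ModuleCat.restrictScalars.{u, u, u} (algebraMap A B)).map
          ((CohIII.bcCx (algebraMap A B) P).pOpcycles q) := by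
  unfold opcUnit
  have h1 := (ModuleCat.extendRestrictScalarsAdj.{u, u, u} (algebraMap A B)).unit.naturality
    (P.pOpcycles q)
  have h0 := pOpcycles_bcOpcyclesIso_hom B P q
  have h2 : (ModuleCat.extendScalars.{u, u, u} (algebraMap A B)).map (P.pOpcycles q) ≫
      (bcOpcyclesIso (algebraMap A B) P q).inv =
      (CohIII.bcCx (algebraMap A B) P).pOpcycles q := by
    refine (Iso.comp_inv_eq _).mpr ?_
    refine Eq.trans ?_ h0.symm
    simp only [bcXIso, Iso.refl_hom]
    exact (Category.id_comp _).symm
  refine (Category.assoc _ _ _).symm.trans ?_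
  refine (congrArg (fun t => t ≫ (ModuleCat.restrictScalars.{u, u, u} (algebraMap A B)).map
      (bcOpcyclesIso (algebraMap A B) P q).inv) h1).trans ?_
  refine (Category.assoc _ _ _).trans ?_
  congr 1
  exact ((ModuleCat.restrictScalars.{u, u, u} (algebraMap A B)).map_comp _ _).symm.trans
    (congrArg (ModuleCat.restrictScalars.{u, u, u} (algebraMap A B)).map h2)

/-- the canonical map on homology is induced by the canonical map on opcycles -/
theorem hmapM_homologyι :
    hmapM B P q ≫ (ModuleCat.restrictScalars.{u, u, u} (algebraMap A B)).map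
        ((CohIII.bcCx (algebraMap A B) P).homologyι q) =
      P.homologyι q ≫ opcUnit B P q := by
  unfold hmapM
  refine (Category.assoc _ _ _).trans ?_
  have h1 := mapHomologyIso_hom_map_homologyι ((CohIII.bcCx (algebraMap A B) P).sc q)
    (ModuleCat.restrictScalars.{u, u, u} (algebraMap A B))
  have h2 := HomologicalComplex.homologyι_naturality (unitCx B P) q
  have h3 := HomologicalComplex.p_opcyclesMap (unitCx B P) q
  have h4 := pOpcycles_mapOpcyclesIso_hom ((CohIII.bcCx (algebraMap A B) P).sc q)
    (ModuleCat.restrictScalars.{u, u, u} (algebraMap A B))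
  refine (congrArg (fun t => HomologicalComplex.homologyMap (unitCx B P) q ≫ t) h1).trans ?_
  refine (Category.assoc _ _ _).symm.trans ?_
  refine (congrArg (fun t => t ≫ (((CohIII.bcCx (algebraMap A B) P).sc q).mapOpcyclesIso
    (ModuleCat.restrictScalars.{u, u, u} (algebraMap A B))).hom) h2).trans ?_
  refine (Category.assoc _ _ _).trans ?_
  congr 1
  refine (cancel_epi (P.pOpcycles q)).mp ?_
  refine Eq.trans ?_ (pOpcycles_opcUnit B P q).symm
  refine (Category.assoc _ _ _).symm.trans ?_
  refine (congrArg (fun t => t ≫ (((CohIII.bcCx (algebraMap A B) P).sc q).mapOpcyclesIso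
    (ModuleCat.restrictScalars.{u, u, u} (algebraMap A B))).hom) h3).trans ?_
  refine (Category.assoc _ _ _).trans ?_
  exact congrArg (fun t => (unitCx B P).f q ≫ t) h4

end K

end Groth.Agent.Helper1.HMap

end
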