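import Groth.Agent.Helper1.HMap2

set_option autoImplicit false
set_option linter.unusedVariables false
universe u
open CategoryTheory CategoryTheory.Limits MonoidalCategory TensorProduct

/-!
# The canonical map `H_p(P) → H_p(P ⊗_A B)` is a base change map when
`0 → B ⊗ H_p → B ⊗ Z'_p → B ⊗ P_j` is exact
-/

noncomputable section

namespace Groth.Agent.Helper1.HMap

open Groth.Agent.Helper1.FlatCx Groth.Agent.Helper1.BCFlatCoh Groth.Agent.Helper1

variable {A : Type u} [CommRing A] (B : Type u) [CommRing B] [Algebra A B]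
  {ι : Type} {c : ComplexShape ι} (P : HomologicalComplex (ModuleCat.{u} A) c) (p j : ι)

/-- `0 → B ⊗ H_p → B ⊗ Z'_p → B ⊗ P_j` is exact -/
def BCExact : Prop :=
  Function.Injective ((ModuleCat.extendScalars.{u, u, u} (algebraMap A B)).map (P.homologyι p)).hom ∧
    Function.Exact ((ModuleCat.extendScalars.{u, u, u} (algebraMap A B)).map (P.homologyι p)).hom
      ((ModuleCat.extendScalars.{u, u, u} (algebraMap A B)).map (P.fromOpcycles p j)).hom

variable {B P p j}

lemma BCExact.aux (h : BCExact B P p j) :
    (ShortComplex.mk _ _ (bc_zero_aux B P p j)).Exact ∧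
      Mono ((ModuleCat.extendScalars (algebraMap A B)).map (P.homologyι p) ≫
        (bcOpcyclesIso (algebraMap A B) P p).inv) := by
  obtain ⟨h1, h2⟩ := h
  constructor
  · rw [ShortComplex.moduleCat_exact_iff]
    intro x hx
    dsimp at x hx ⊢
    have h3 : ((ModuleCat.extendScalars (algebraMap A B)).map (P.fromOpcycles p j)).hom
        ((bcOpcyclesIso (algebraMap A B) P p).hom.hom x) = 0 := by
      have := congrArg (fun g => g.hom x) (bcOpcyclesIso_hom_fromOpcycles B P p j)
      simp only [ModuleCat.hom_comp, LinearMap.comp_apply] at this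
      rw [this]
      have hx' : ((CohIII.bcCx (algebraMap A B) P).fromOpcycles p j).hom x = 0 := hx
      rw [hx', map_zero]
    obtain ⟨y, hy⟩ := (h2 _).mp h3
    refine ⟨y, ?_⟩
    show (bcOpcyclesIso (algebraMap A B) P p).inv.hom
      (((ModuleCat.extendScalars (algebraMap A B)).map (P.homologyι p)).hom y) = x
    rw [hy, ← LinearMap.comp_apply, ← ModuleCat.hom_comp, Iso.hom_inv_id]
    rfl
  · haveI : Mono ((ModuleCat.extendScalars (algebraMap A B)).map (P.homologyι p)) :=
      (ModuleCat.mono_iff_injective _).mpr h1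
    infer_instance

/-- `B ⊗ H_p(P) ≅ H_p(P_B)` -/
def BCExact.iso (h : BCExact B P p j) (hj : c.next p = j) :
    (ModuleCat.extendScalars (algebraMap A B)).obj (P.homology p) ≅
      (CohIII.bcCx (algebraMap A B) P).homology p :=
  haveI := h.aux.2
  IsLimit.conePointUniqueUpToIso (h.aux.1.fIsKernel)
    ((CohIII.bcCx (algebraMap A B) P).homologyIsKernel p j hj)

lemma BCExact.iso_hom_homologyι (h : BCExact B P p j) (hj : c.next p = j) :
    (h.iso hj).hom ≫ (CohIII.bcCx (algebraMap A B) P).homologyι p =
      (ModuleCat.extendScalars (algebraMap A B)).map (P.homologyι p) ≫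
        (bcOpcyclesIso (algebraMap A B) P p).inv :=
  haveI := h.aux.2
  IsLimit.conePointUniqueUpToIso_hom_comp (h.aux.1.fIsKernel)
    ((CohIII.bcCx (algebraMap A B) P).homologyIsKernel p j hj) WalkingParallelPair.zero

/-- the canonical map is the adjunct of the isomorphism -/
theorem BCExact.unit_iso (h : BCExact B P p j) (hj : c.next p = j) :
    (ModuleCat.extendRestrictScalarsAdj.{u, u, u} (algebraMap A B)).unit.app (P.homology p) ≫
        (ModuleCat.restrictScalars.{u, u, u} (algebraMap A B)).map (h.iso hj).hom =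
      hmapM B P p := by
  haveI : Mono ((ModuleCat.restrictScalars.{u, u, u} (algebraMap A B)).map
      ((CohIII.bcCx (algebraMap A B) P).homologyι p)) := inferInstance
  refine (cancel_mono ((ModuleCat.restrictScalars.{u, u, u} (algebraMap A B)).map
      ((CohIII.bcCx (algebraMap A B) P).homologyι p))).mp ?_
  rw [hmapM_homologyι, Category.assoc, ← Functor.map_comp, h.iso_hom_homologyι hj,
    Functor.map_comp, ← Category.assoc]
  unfold opcUnit
  rw [← Category.assoc]
  congr 1


/-- the base change isomorphism, as a linear equivalence extending the canonical map -/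
theorem BCExact.exists_equiv (h : BCExact B P p j) (hj : c.next p = j) :
    ∃ eL : B ⊗[A] P.homology p ≃ₗ[B] (CohIII.bcCx (algebraMap A B) P).homology p,
      ∀ x : P.homology p, eL (1 ⊗ₜ x) = (hmapM B P p).hom x := by
  refine ⟨(extendScalarsEquiv (S := B) (P.homology p)).symm ≪≫ₗ (h.iso hj).toLinearEquiv, ?_⟩
  intro x
  have h1 := congrArg (fun t => t.hom x) (h.unit_iso hj)
  refine Eq.trans ?_ h1
  show (h.iso hj).hom.hom ((extendScalarsEquiv (S := B) (P.homology p)).symm (1 ⊗ₜ x)) = _
  rfl

end Groth.Agent.Helper1.HMap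

end
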