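import Groth.Agent.Helper1.HMap3

set_option autoImplicit false
set_option linter.unusedVariables false
universe u
open CategoryTheory CategoryTheory.Limits MonoidalCategory TensorProduct

/-!
# Tensoring with a module on which a multiplicative set acts invertibly
-/

noncomputable section

namespace Groth.Agent.Helper1.HMap

open Groth.Agent.Helper1.FlatCx Groth.Agent.Helper1.BCFlatCoh Groth.Agent.Helper1

section LM

variable {A : Type u} [CommRing A] (S : Submonoid A) (N : Type u) [AddCommGroup N] [Module A N]
  (hN : ∀ s : S, IsUnit (algebraMap A (Module.End A N) s))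

include hN in
lemma isLocalizedModule_id_of_units : IsLocalizedModule S (LinearMap.id : N →ₗ[A] N) where
  map_units := hN
  surj y := ⟨⟨y, 1⟩, by simp⟩
  exists_of_eq {x y} h := ⟨1, by simpa using h⟩

include hN in
lemma units_tensor (M : Type u) [AddCommGroup M] [Module A M] (s : S) :
    IsUnit (algebraMap A (Module.End A (N ⊗[A] M)) s) := by
  rw [Module.End.isUnit_iff]
  have h1 := (Module.End.isUnit_iff _).mp (hN s)
  let e : N ≃ₗ[A] N := LinearEquiv.ofBijective (algebraMap A (Module.End A N) s) h1
  have h2 : (algebraMap A (Module.End A (N ⊗[A] M)) s : N ⊗[A] M → N ⊗[A] M) =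
      (e.rTensor M : N ⊗[A] M → N ⊗[A] M) := by
    funext z
    induction z using TensorProduct.induction_on with
    | zero => simp
    | tmul n m =>
      show (s : A) • (n ⊗ₜ[A] m) = ((s : A) • n) ⊗ₜ[A] m
      rw [TensorProduct.smul_tmul']
    | add x y hx hy => rw [map_add, map_add, hx, hy]
  rw [h2]
  exact (e.rTensor M).bijective

include hN in
/-- `N ⊗ M → N ⊗ S⁻¹M` is bijective when `S` acts invertibly on `N` -/
lemma bijective_lTensor_mk (M : Type u) [AddCommGroup M] [Module A M] :
    Function.Bijective ((LocalizedModule.mkLinearMap S M).lTensor N) := by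
  haveI i1 : IsLocalizedModule S (LinearMap.id : N →ₗ[A] N) := isLocalizedModule_id_of_units S N hN
  haveI i2 : IsLocalizedModule S (LinearMap.id : N ⊗[A] M →ₗ[A] N ⊗[A] M) :=
    isLocalizedModule_id_of_units S (N ⊗[A] M) (units_tensor S N hN M)
  haveI i3 : IsLocalizedModule S (TensorProduct.map (LinearMap.id : N →ₗ[A] N)
      (LocalizedModule.mkLinearMap S M)) := inferInstance
  have h : ((LocalizedModule.mkLinearMap S M).lTensor N : N ⊗[A] M → _) =
      IsLocalizedModule.linearEquiv S (LinearMap.id : N ⊗[A] M →ₗ[A] N ⊗[A] M)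
        (TensorProduct.map (LinearMap.id : N →ₗ[A] N) (LocalizedModule.mkLinearMap S M)) := by
    funext z
    exact (IsLocalizedModule.linearEquiv_apply S (LinearMap.id : N ⊗[A] M →ₗ[A] N ⊗[A] M)
      (TensorProduct.map (LinearMap.id : N →ₗ[A] N) (LocalizedModule.mkLinearMap S M)) z).symm
  rw [h]
  exact LinearEquiv.bijective _


/-- localization of a linear map -/
abbrev lm {M M' : Type u} [AddCommGroup M] [Module A M] [AddCommGroup M'] [Module A M']
    (g : M →ₗ[A] M') : LocalizedModule S M →ₗ[A] LocalizedModule S M' :=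
  IsLocalizedModule.map S (LocalizedModule.mkLinearMap S M) (LocalizedModule.mkLinearMap S M') g

omit [AddCommGroup N] [Module A N] in
lemma lm_comp_mk {M M' : Type u} [AddCommGroup M] [Module A M] [AddCommGroup M'] [Module A M']
    (g : M →ₗ[A] M') :
    lm S g ∘ₗ LocalizedModule.mkLinearMap S M = LocalizedModule.mkLinearMap S M' ∘ₗ g :=
  IsLocalizedModule.map_comp S _ _ g

lemma lTensor_lm_mk {M M' : Type u} [AddCommGroup M] [Module A M] [AddCommGroup M'] [Module A M']
    (g : M →ₗ[A] M') (z : N ⊗[A] M) :
    (lm S g).lTensor N ((LocalizedModule.mkLinearMap S M).lTensor N z) =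
      (LocalizedModule.mkLinearMap S M').lTensor N (g.lTensor N z) := by
  rw [← LinearMap.comp_apply, ← LinearMap.lTensor_comp, lm_comp_mk, LinearMap.lTensor_comp,
    LinearMap.comp_apply]

include hN in
/-- if `0 → H → Z → X` is exact and `S⁻¹X`, `S⁻¹ coker(Z → X)` are flat, then the sequence stays
exact after tensoring with a module on which `S` acts invertibly -/
theorem exact_lTensor_of_localized_flat {H Z X : Type u} [AddCommGroup H] [Module A H]
    [AddCommGroup Z] [Module A Z] [AddCommGroup X] [Module A X] (ι : H →ₗ[A] Z) (φ : Z →ₗ[A] X)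
    (hι : Function.Injective ι) (hex : Function.Exact ι φ)
    (hX : Module.Flat A (LocalizedModule S X))
    (hQ : Module.Flat A (LocalizedModule S (X ⧸ LinearMap.range φ))) :
    Function.Injective (ι.lTensor N) ∧ Function.Exact (ι.lTensor N) (φ.lTensor N) := by
  have hιS : Function.Injective (lm S ι) := IsLocalizedModule.map_injective S _ _ ι hι
  have hexS : Function.Exact (lm S ι) (lm S φ) := IsLocalizedModule.map_exact S _ _ _ ι φ hex
  have hqS : Function.Surjective (lm S (LinearMap.range φ).mkQ) :=
    IsLocalizedModule.map_surjective S _ _ _ (Submodule.mkQ_surjective _)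
  have hexQ : Function.Exact (lm S φ) (lm S (LinearMap.range φ).mkQ) :=
    IsLocalizedModule.map_exact S _ _ _ φ _ (LinearMap.exact_map_mkQ_range φ)
  haveI : Module.Flat A (LocalizedModule S X ⧸ LinearMap.range (lm S φ)) := by
    have hk : LinearMap.ker (lm S (LinearMap.range φ).mkQ) = LinearMap.range (lm S φ) :=
      hexQ.linearMap_ker_eq
    exact Module.Flat.of_linearEquiv
      ((Submodule.quotEquivOfEq _ _ hk.symm).trans
        (LinearMap.quotKerEquivOfSurjective _ hqS))
  obtain ⟨k1, k2⟩ := exact_lTensor_of_flat_coker (lm S ι) (lm S φ) hιS hexS N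
  have bH := bijective_lTensor_mk S N hN H
  have bZ := bijective_lTensor_mk S N hN Z
  have bX := bijective_lTensor_mk S N hN X
  constructor
  · have h1 : Function.Injective (fun z => (LocalizedModule.mkLinearMap S Z).lTensor N
        (ι.lTensor N z)) := by
      have : (fun z => (LocalizedModule.mkLinearMap S Z).lTensor N (ι.lTensor N z)) =
          fun z => (lm S ι).lTensor N ((LocalizedModule.mkLinearMap S H).lTensor N z) := by
        funext z
        exact (lTensor_lm_mk S N ι z).symm
      rw [this]
      exact k1.comp bH.1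
    exact Function.Injective.of_comp h1
  · intro y
    rw [← (map_eq_zero_iff _ bX.1), ← lTensor_lm_mk, k2]
    constructor
    · rintro ⟨w, hw⟩
      obtain ⟨w', rfl⟩ := bH.2 w
      rw [lTensor_lm_mk] at hw
      exact ⟨w', bZ.1 hw⟩
    · rintro ⟨w', rfl⟩
      exact ⟨(LocalizedModule.mkLinearMap S H).lTensor N w', lTensor_lm_mk S N ι w'⟩

end LM


section Loc

variable {A : Type u} [CommRing A] (B : Type u) [CommRing B] [Algebra A B]
  {ι : Type} {c : ComplexShape ι} (P : HomologicalComplex (ModuleCat.{u} A) c) (p j : ι)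

lemma flat_localizedModule_of_equiv (S : Submonoid A) {M M' : Type u} [AddCommGroup M]
    [Module A M] [AddCommGroup M'] [Module A M'] (e : M ≃ₗ[A] M')
    (h : Module.Flat A (LocalizedModule S M')) : Module.Flat A (LocalizedModule S M) := by
  haveI : IsLocalizedModule S (LocalizedModule.mkLinearMap S M' ∘ₗ e.toLinearMap) :=
    IsLocalizedModule.of_linearEquiv_right S (LocalizedModule.mkLinearMap S M') e
  exact Module.Flat.of_linearEquiv (IsLocalizedModule.linearEquiv S
    (LocalizedModule.mkLinearMap S M) (LocalizedModule.mkLinearMap S M' ∘ₗ e.toLinearMap))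

lemma flat_localizedModule_of_flat (S : Submonoid A) (M : Type u) [AddCommGroup M]
    [Module A M] [Module.Flat A M] : Module.Flat A (LocalizedModule S M) := by
  haveI : Module.Flat A (Localization S) := IsLocalization.flat (Localization S) S
  exact Module.Flat.trans A (Localization S) (LocalizedModule S M)

/-- if `B` is an `A`-algebra in which the elements of `S` are invertible and `S⁻¹ Z'_j(P)` is
flat (with `P_j` flat), then `0 → B ⊗ H_p → B ⊗ Z'_p → B ⊗ P_j` is exact -/
theorem BCExact.of_localized (S : Submonoid A) (hB : ∀ s : S, IsUnit (algebraMap A B s))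
    (hj : c.next p = j) (hp : c.prev j = p) (hXj : Module.Flat A (P.X j))
    (hO : Module.Flat A (LocalizedModule S (P.opcycles j))) : BCExact B P p j := by
  have hN : ∀ s : S, IsUnit (algebraMap A (Module.End A B) s) := by
    intro s
    obtain ⟨b, hb⟩ := hB s
    rw [Module.End.isUnit_iff]
    refine Function.bijective_iff_has_inverse.mpr ⟨fun x => (↑b⁻¹ : B) * x, ?_, ?_⟩
    · intro x
      show (↑b⁻¹ : B) * ((s : A) • x) = x
      rw [Algebra.smul_def, ← hb, ← mul_assoc, Units.inv_mul, one_mul]
    · intro x
      show (s : A) • ((↑b⁻¹ : B) * x) = x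
      rw [Algebra.smul_def, ← hb, ← mul_assoc, Units.mul_inv, one_mul]
  have hex : Function.Exact (P.homologyι p).hom (P.fromOpcycles p j).hom := by
    have hS : (ShortComplex.mk _ _ (P.homologyι_comp_fromOpcycles p j)).Exact :=
      ShortComplex.exact_of_f_is_kernel _ (P.homologyIsKernel p j hj)
    exact (ShortComplex.ShortExact.moduleCat_exact_iff_function_exact _).mp hS
  have hQ : Module.Flat A (LocalizedModule S
      (P.X j ⧸ LinearMap.range (P.fromOpcycles p j).hom)) := by
    rw [range_fromOpcycles]
    subst hp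
    exact flat_localizedModule_of_equiv S ((P.sc j).moduleCatOpcyclesIso.toLinearEquiv).symm hO
  haveI := hXj
  obtain ⟨h1, h2⟩ := exact_lTensor_of_localized_flat S B hN (P.homologyι p).hom
    (P.fromOpcycles p j).hom ((ModuleCat.mono_iff_injective _).mp inferInstance) hex
    (flat_localizedModule_of_flat S (P.X j)) hQ
  exact ⟨(extendScalars_injective_iff _).mpr h1, (extendScalars_exact_iff _ _).mpr h2⟩

end Loc

end Groth.Agent.Helper1.HMap

end
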