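import Groth.Agent.Helper1.HMap4

set_option autoImplicit false
set_option linter.unusedVariables false
universe u
open CategoryTheory CategoryTheory.Limits MonoidalCategory TensorProduct

/-!
# Surjectivity of the canonical map `H_p(P) ⊗ B → H_p(P ⊗ B)` and the image of the differential
-/

noncomputable section

namespace Groth.Agent.Helper1.HMap

open Groth.Agent.Helper1.FlatCx Groth.Agent.Helper1.BCFlatCoh Groth.Agent.Helper1

variable {A : Type u} [CommRing A] (B : Type u) [CommRing B] [Algebra A B]
  {ι : Type} {c : ComplexShape ι} (P : HomologicalComplex (ModuleCat.{u} A) c) (p j : ι)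

/-- the image of the differential `P_p → P_j` -/
abbrev im : Submodule A (P.X j) := LinearMap.range (P.fromOpcycles p j).hom

/-- `Z'_p → im d` -/
abbrev toIm : P.opcycles p ⟶ ModuleCat.of A (im P p j) :=
  ModuleCat.ofHom (P.fromOpcycles p j).hom.rangeRestrict

/-- `im d → P_j` -/
abbrev imι : ModuleCat.of A (im P p j) ⟶ P.X j := ModuleCat.ofHom (im P p j).subtype

lemma toIm_imι : toIm P p j ≫ imι P p j = P.fromOpcycles p j := by
  ext x
  rfl

lemma homologyι_toIm : P.homologyι p ≫ toIm P p j = 0 := by
  haveI : Mono (imι P p j) := (ModuleCat.mono_iff_injective _).mpr (Submodule.injective_subtype _)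
  rw [← cancel_mono (imι P p j), Category.assoc, toIm_imι, P.homologyι_comp_fromOpcycles,
    zero_comp]

/-- the auxiliary `B`-linear map `H_p(P_B) → B ⊗ im d` -/
def Psi : (CohIII.bcCx (algebraMap A B) P).homology p ⟶
    (ModuleCat.extendScalars.{u, u, u} (algebraMap A B)).obj (ModuleCat.of A (im P p j)) :=
  (CohIII.bcCx (algebraMap A B) P).homologyι p ≫ (bcOpcyclesIso (algebraMap A B) P p).hom ≫
    (ModuleCat.extendScalars.{u, u, u} (algebraMap A B)).map (toIm P p j)

lemma hmapM_Psi : hmapM B P p ≫
    (ModuleCat.restrictScalars.{u, u, u} (algebraMap A B)).map (Psi B P p j) = 0 := by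
  unfold Psi
  rw [Functor.map_comp, ← Category.assoc, hmapM_homologyι]
  unfold opcUnit
  rw [Functor.map_comp]
  simp only [Category.assoc]
  rw [← Functor.map_comp_assoc, Iso.inv_hom_id, CategoryTheory.Functor.map_id, Category.id_comp]
  have h1 := (ModuleCat.extendRestrictScalarsAdj.{u, u, u} (algebraMap A B)).unit.naturality
    (toIm P p j)
  erw [← h1]
  rw [← Category.assoc]
  erw [homologyι_toIm]
  rw [zero_comp]


variable {B P p j}

/-- if the image of `H_p(P)` spans `H_p(P_B)` then `B ⊗ im d → B ⊗ P_j` is injective -/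
theorem injective_imι_of_span (hj : c.next p = j)
    (hspan : Submodule.span B (Set.range (hmapM B P p).hom) = ⊤) :
    Function.Injective
      ((ModuleCat.extendScalars.{u, u, u} (algebraMap A B)).map (imι P p j)).hom := by
  have hΨ : ∀ η, (Psi B P p j).hom η = 0 := by
    have hle : Submodule.span B (Set.range (hmapM B P p).hom) ≤
        LinearMap.ker (Psi B P p j).hom := by
      rw [Submodule.span_le]
      rintro _ ⟨h, rfl⟩
      exact congrArg (fun t => t.hom h) (hmapM_Psi B P p j)
    intro η
    have : η ∈ Submodule.span B (Set.range (hmapM B P p).hom) := by rw [hspan]; trivial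
    exact hle this
  rw [injective_iff_map_eq_zero]
  intro z hz
  haveI : Epi (toIm P p j) :=
    (ModuleCat.epi_iff_surjective _).mpr (LinearMap.surjective_rangeRestrict _)
  have hsurj : Function.Surjective
      ((ModuleCat.extendScalars.{u, u, u} (algebraMap A B)).map (toIm P p j)).hom :=
    (ModuleCat.epi_iff_surjective _).mp inferInstance
  obtain ⟨w, rfl⟩ := hsurj z
  have h1 : ((ModuleCat.extendScalars.{u, u, u} (algebraMap A B)).map
      (P.fromOpcycles p j)).hom w = 0 := by
    rw [← toIm_imι, Functor.map_comp]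
    exact hz
  have h2 : ((CohIII.bcCx (algebraMap A B) P).fromOpcycles p j).hom
      ((bcOpcyclesIso (algebraMap A B) P p).inv.hom w) = 0 := by
    have h3 := congrArg (fun t => t.hom ((bcOpcyclesIso (algebraMap A B) P p).inv.hom w))
      (bcOpcyclesIso_hom_fromOpcycles B P p j)
    simp only [ModuleCat.hom_comp, LinearMap.comp_apply, bcXIso, Iso.refl_hom] at h3
    have h4 : (bcOpcyclesIso (algebraMap A B) P p).hom.hom
        ((bcOpcyclesIso (algebraMap A B) P p).inv.hom w) = w := by
      rw [← LinearMap.comp_apply, ← ModuleCat.hom_comp, Iso.inv_hom_id]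
      rfl
    rw [h4, h1] at h3
    exact h3.symm
  have hex : (ShortComplex.mk _ _
      ((CohIII.bcCx (algebraMap A B) P).homologyι_comp_fromOpcycles p j)).Exact :=
    ShortComplex.exact_of_f_is_kernel _
      ((CohIII.bcCx (algebraMap A B) P).homologyIsKernel p j hj)
  rw [ShortComplex.moduleCat_exact_iff] at hex
  obtain ⟨η, hη⟩ := hex _ h2
  have h5 : (Psi B P p j).hom η =
      ((ModuleCat.extendScalars.{u, u, u} (algebraMap A B)).map (toIm P p j)).hom w := by
    unfold Psi
    simp only [ModuleCat.hom_comp, LinearMap.comp_apply]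
    have hη' : ((CohIII.bcCx (algebraMap A B) P).homologyι p).hom η =
        (bcOpcyclesIso (algebraMap A B) P p).inv.hom w := hη
    rw [hη', ← LinearMap.comp_apply (bcOpcyclesIso (algebraMap A B) P p).hom.hom,
      ← ModuleCat.hom_comp, Iso.inv_hom_id]
    rfl
  rw [← h5, hΨ]

end Groth.Agent.Helper1.HMap

end
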