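import Groth.Agent.Helper1.HMap5

set_option autoImplicit false
set_option linter.unusedVariables false
universe u
open CategoryTheory CategoryTheory.Limits MonoidalCategory TensorProduct

/-!
# A point lies in the free locus of a cokernel as soon as the map is injective modulo the point
-/

noncomputable section

namespace Groth.Agent.Helper1.HMap

open Groth.Agent.Helper1.FlatCx Groth.Agent.Helper1.BCFlatCoh Groth.Agent.Helper1

section general

variable {A : Type u} [CommRing A] {M N W : Type u} [AddCommGroup M] [Module A M]
  [AddCommGroup N] [Module A N] [AddCommGroup W] [Module A W]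

theorem mem_freeLocus_of_injective (f : M →ₗ[A] N) (g : N →ₗ[A] W)
    (hg : Function.Surjective g) (hfg : Function.Exact f g)
    [Module.Finite A M] [Module.Finite A N] [Module.Free A N] (x : PrimeSpectrum A)
    (hinj : Function.Injective (f.lTensor x.asIdeal.ResidueField)) :
    x ∈ Module.freeLocus A W := by
  let R := Localization.AtPrime x.asIdeal
  rw [Module.mem_freeLocus_iff_tensor x R]
  have hgR : Function.Surjective (g.baseChange R) := by
    rw [LinearMap.baseChange_eq_ltensor]
    exact LinearMap.lTensor_surjective R hg
  have hex : Function.Exact (f.baseChange R) (g.baseChange R) := by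
    rw [LinearMap.baseChange_eq_ltensor, LinearMap.baseChange_eq_ltensor]
    exact lTensor_exact R hfg hg
  refine Module.free_of_lTensor_residueField_injective (f.baseChange R) (g.baseChange R) hgR hex ?_
  let k := IsLocalRing.ResidueField R
  let eM : k ⊗[R] (R ⊗[A] M) ≃ₗ[R] k ⊗[A] M :=
    TensorProduct.AlgebraTensorModule.cancelBaseChange A R R k M
  let eN : k ⊗[R] (R ⊗[A] N) ≃ₗ[R] k ⊗[A] N :=
    TensorProduct.AlgebraTensorModule.cancelBaseChange A R R k N
  have hnat : ∀ z, eN ((f.baseChange R).lTensor k z) = f.lTensor k (eM z) := by
    intro z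
    induction z using TensorProduct.induction_on with
    | zero => simp
    | tmul c y =>
      induction y using TensorProduct.induction_on with
      | zero => simp
      | tmul r m =>
        simp only [LinearMap.lTensor_tmul, LinearMap.baseChange_tmul, eN, eM,
          TensorProduct.AlgebraTensorModule.cancelBaseChange_tmul]
      | add a b ha hb =>
        rw [TensorProduct.tmul_add, map_add, map_add, ha, hb, map_add, map_add]
    | add a b ha hb => rw [map_add, map_add, ha, hb, map_add, map_add]
  intro z1 z2 h12
  apply eM.injective
  apply hinj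
  rw [← hnat, ← hnat, h12]

end general


section complex

variable {A : Type u} [CommRing A]
  {ι : Type} {c : ComplexShape ι} (P : HomologicalComplex (ModuleCat.{u} A) c) (p j : ι)

lemma finite_im [Module.Finite A (P.X p)] : Module.Finite A (im P p j) := by
  have h : im P p j = LinearMap.range (P.d p j).hom := range_fromOpcycles P p j
  rw [h]
  exact Module.Finite.range _

/-- `P_j / im d ≃ Z'_j` -/
def quotImEquiv (hp : c.prev j = p) : (P.X j ⧸ im P p j) ≃ₗ[A] P.opcycles j := by
  have h : im P p j = LinearMap.range (P.d p j).hom := range_fromOpcycles P p j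
  subst hp
  exact (Submodule.quotEquivOfEq _ _ h).trans (P.sc j).moduleCatOpcyclesIso.toLinearEquiv.symm

/-- **local criterion**: if the image of `H_p(P)` spans `H_p(P ⊗ κ(x))`, then `Z'_j(P)` is free
at `x` (`j` the index following `p`) -/
theorem mem_freeLocus_opcycles_of_span (hj : c.next p = j) (hp : c.prev j = p)
    [Module.Finite A (P.X p)] [Module.Finite A (P.X j)] [Module.Free A (P.X j)]
    (x : PrimeSpectrum A)
    (hspan : Submodule.span x.asIdeal.ResidueField
      (Set.range (hmapM x.asIdeal.ResidueField P p).hom) = ⊤) :
    x ∈ Module.freeLocus A (P.opcycles j) := by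
  haveI := finite_im P p j
  rw [← Module.freeLocus_congr (quotImEquiv P p j hp)]
  refine mem_freeLocus_of_injective (im P p j).subtype (im P p j).mkQ
    (Submodule.mkQ_surjective _) (LinearMap.exact_subtype_mkQ _) x ?_
  exact (extendScalars_injective_iff (imι P p j)).mp (injective_imι_of_span hj hspan)

lemma finitePresentation_opcycles (hp : c.prev j = p)
    [Module.Finite A (P.X p)] [Module.Finite A (P.X j)] [Module.Free A (P.X j)] :
    Module.FinitePresentation A (P.opcycles j) := by
  haveI := finite_im P p j
  have h1 : Module.FinitePresentation A (P.X j ⧸ im P p j) :=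
    Module.finitePresentation_of_free_of_surjective (im P p j).mkQ (Submodule.mkQ_surjective _)
      (by rw [Submodule.ker_mkQ]; exact (Module.Finite.iff_fg).mp inferInstance)
  exact Module.FinitePresentation.of_equiv (quotImEquiv P p j hp)

/-- **local criterion**, spread out: `Z'_j(P)` becomes flat after inverting some `a ∉ x` -/
theorem exists_flat_localized_opcycles (hj : c.next p = j) (hp : c.prev j = p)
    [Module.Finite A (P.X p)] [Module.Finite A (P.X j)] [Module.Free A (P.X j)]
    (x : PrimeSpectrum A)
    (hspan : Submodule.span x.asIdeal.ResidueField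
      (Set.range (hmapM x.asIdeal.ResidueField P p).hom) = ⊤) :
    ∃ a : A, a ∉ x.asIdeal ∧
      Module.Flat A (LocalizedModule (Submonoid.powers a) (P.opcycles j)) := by
  haveI := finitePresentation_opcycles P p j hp
  have hx := mem_freeLocus_opcycles_of_span P p j hj hp x hspan
  obtain ⟨_, ⟨a, rfl⟩, hxa, hsub⟩ :=
    PrimeSpectrum.isTopologicalBasis_basic_opens.exists_subset_of_mem_open hx
      (Module.isOpen_freeLocus (R := A) (M := P.opcycles j))
  refine ⟨a, hxa, ?_⟩
  have hproj := Module.basicOpen_subset_freeLocus_iff.mp hsub
  have hfl : Module.Flat (Localization.Away a)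
      (LocalizedModule (Submonoid.powers a) (P.opcycles j)) :=
    @Module.Flat.of_projective _ _ _ _ _ hproj
  have hfl' : Module.Flat A (Localization.Away a) :=
    IsLocalization.flat (Localization.Away a) (Submonoid.powers a)
  exact @Module.Flat.trans A (Localization.Away a) _ _ _ _ _ _ _ _ hfl' hfl

end complex

end Groth.Agent.Helper1.HMap

end
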