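import Groth.Agent.Helper1.HMap7
import Groth.Agent.Helper1.HMap6

set_option autoImplicit false
set_option linter.unusedVariables false
universe u
open CategoryTheory CategoryTheory.Limits MonoidalCategory TensorProduct

/-!
# The local criterion for a point with values in an arbitrary field
-/

noncomputable section

namespace Groth.Agent.Helper1.HMap

open Groth.Agent.Helper1.FlatCx Groth.Agent.Helper1.BCFlatCoh Groth.Agent.Helper1

section general

variable {A : Type u} [CommRing A] (k : Type u) [CommRing k] [Nontrivial k] [Algebra A k]
  {M N : Type u} [AddCommGroup M] [Module A M] [AddCommGroup N] [Module A N]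

/-- injectivity after tensoring with a field implies injectivity after tensoring with the
residue field of the kernel -/
theorem injective_lTensor_residueField_of_field (x : PrimeSpectrum A)
    (hx : RingHom.ker (algebraMap A k) = x.asIdeal)
    (hunit : ∀ a : A, a ∉ x.asIdeal → IsUnit (algebraMap A k a)) (f : M →ₗ[A] N)
    (hinj : Function.Injective (f.lTensor k)) :
    Function.Injective (f.lTensor x.asIdeal.ResidueField) := by
  let κ := x.asIdeal.ResidueField
  have hf₁ : x.asIdeal ≤ RingHom.ker (algebraMap A k) := hx.ge
  have hf₂ : x.asIdeal.primeCompl ≤ (IsUnit.submonoid k).comap (algebraMap A k) := by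
    intro a ha
    exact hunit a ha
  let σ : κ →+* k := Ideal.ResidueField.lift x.asIdeal (algebraMap A k) hf₁ hf₂
  letI : Algebra κ k := σ.toAlgebra
  haveI : IsScalarTower A κ k := IsScalarTower.of_algebraMap_eq (fun a =>
    (Ideal.ResidueField.lift_algebraMap x.asIdeal (algebraMap A k) hf₁ hf₂ a).symm)
  have h1 : Function.Injective (f.baseChange κ) := by
    rw [← Module.FaithfullyFlat.lTensor_injective_iff_injective κ k]
    let eM : k ⊗[κ] (κ ⊗[A] M) ≃ₗ[κ] k ⊗[A] M :=
      TensorProduct.AlgebraTensorModule.cancelBaseChange A κ κ k M
    let eN : k ⊗[κ] (κ ⊗[A] N) ≃ₗ[κ] k ⊗[A] N :=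
      TensorProduct.AlgebraTensorModule.cancelBaseChange A κ κ k N
    have hnat : ∀ z, eN ((f.baseChange κ).lTensor k z) = f.lTensor k (eM z) := by
      intro z
      induction z using TensorProduct.induction_on with
      | zero => simp
      | tmul c y =>
        induction y using TensorProduct.induction_on with
        | zero => simp
        | tmul r m =>
          simp only [LinearMap.lTensor_tmul, LinearMap.baseChange_tmul, eN, eM,
            TensorProduct.AlgebraTensorModule.cancelBaseChange_tmul]
        | add a b ha hb =>
          rw [TensorProduct.tmul_add, map_add, map_add, ha, hb, map_add, map_add]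
      | add a b ha hb => rw [map_add, map_add, ha, hb, map_add, map_add]
    intro z1 z2 h12
    apply eM.injective
    apply hinj
    rw [← hnat, ← hnat, h12]
  intro z1 z2 h12
  apply h1
  rw [LinearMap.baseChange_eq_ltensor]
  exact h12

end general

section complex

variable {A : Type u} [CommRing A] (k : Type u) [CommRing k] [Nontrivial k] [Algebra A k]
  {ι : Type} {c : ComplexShape ι} (P : HomologicalComplex (ModuleCat.{u} A) c) (p j : ι)

/-- **local criterion** for a point with values in a field `k`: if the image of `H_p(P)` spans
`H_p(P ⊗ k)`, then `Z'_j(P)` is free at the kernel `x` of `A → k` -/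
theorem mem_freeLocus_opcycles_of_span_field (hj : c.next p = j) (hp : c.prev j = p)
    [Module.Finite A (P.X p)] [Module.Finite A (P.X j)] [Module.Free A (P.X j)]
    (x : PrimeSpectrum A) (hx : RingHom.ker (algebraMap A k) = x.asIdeal)
    (hunit : ∀ a : A, a ∉ x.asIdeal → IsUnit (algebraMap A k a))
    (hspan : Submodule.span k (Set.range (hmapM k P p).hom) = ⊤) :
    x ∈ Module.freeLocus A (P.opcycles j) := by
  haveI := finite_im P p j
  rw [← Module.freeLocus_congr (quotImEquiv P p j hp)]
  refine mem_freeLocus_of_injective (im P p j).subtype (im P p j).mkQ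
    (Submodule.mkQ_surjective _) (LinearMap.exact_subtype_mkQ _) x ?_
  refine injective_lTensor_residueField_of_field k x hx hunit _ ?_
  exact (extendScalars_injective_iff (imι P p j)).mp (injective_imι_of_span hj hspan)

/-- **local criterion**, spread out: `Z'_j(P)` becomes flat after inverting some `a ∉ x` -/
theorem exists_flat_localized_opcycles_field (hj : c.next p = j) (hp : c.prev j = p)
    [Module.Finite A (P.X p)] [Module.Finite A (P.X j)] [Module.Free A (P.X j)]
    (x : PrimeSpectrum A) (hx : RingHom.ker (algebraMap A k) = x.asIdeal)
    (hunit : ∀ a : A, a ∉ x.asIdeal → IsUnit (algebraMap A k a))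
    (hspan : Submodule.span k (Set.range (hmapM k P p).hom) = ⊤) :
    ∃ a : A, a ∉ x.asIdeal ∧
      Module.Flat A (LocalizedModule (Submonoid.powers a) (P.opcycles j)) := by
  haveI := finitePresentation_opcycles P p j hp
  have hx' := mem_freeLocus_opcycles_of_span_field k P p j hj hp x hx hunit hspan
  obtain ⟨_, ⟨a, rfl⟩, hxa, hsub⟩ :=
    PrimeSpectrum.isTopologicalBasis_basic_opens.exists_subset_of_mem_open hx'
      (Module.isOpen_freeLocus (R := A) (M := P.opcycles j))
  refine ⟨a, hxa, ?_⟩
  have hproj := Module.basicOpen_subset_freeLocus_iff.mp hsub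
  have hfl : Module.Flat (Localization.Away a)
      (LocalizedModule (Submonoid.powers a) (P.opcycles j)) :=
    @Module.Flat.of_projective _ _ _ _ _ hproj
  have hfl' : Module.Flat A (Localization.Away a) :=
    IsLocalization.flat (Localization.Away a) (Submonoid.powers a)
  exact @Module.Flat.trans A (Localization.Away a) _ _ _ _ _ _ _ _ hfl' hfl

end complex

end Groth.Agent.Helper1.HMap

end
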