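import Groth.Agent.Helper1.HMap8

set_option autoImplicit false
set_option linter.unusedVariables false
universe u
open CategoryTheory CategoryTheory.Limits MonoidalCategory TensorProduct

/-!
# Splitting of the opcycles when the next opcycles are projective
-/

noncomputable section

namespace Groth.Agent.Helper1.HMap

open Groth.Agent.Helper1.FlatCx Groth.Agent.Helper1.BCFlatCoh Groth.Agent.Helper1

section general

variable {R : Type u} [CommRing R]

/-- a product of flat modules is flat -/
lemma flat_prod (M₁ M₂ : Type u) [AddCommGroup M₁] [AddCommGroup M₂]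
    [Module R M₁] [Module R M₂] [Module.Flat R M₁] [Module.Flat R M₂] :
    Module.Flat R (M₁ × M₂) := by
  rw [Module.Flat.iff_rTensor_preserves_injective_linearMap]
  intro N N' _ _ _ _ f hf
  have key : (TensorProduct.prodRight R R N' M₁ M₂).toLinearMap ∘ₗ (f.rTensor (M₁ × M₂)) =
      ((f.rTensor M₁).prodMap (f.rTensor M₂)) ∘ₗ
        (TensorProduct.prodRight R R N M₁ M₂).toLinearMap := by
    apply TensorProduct.ext'
    intro x m
    simp
  have h1 : Function.Injective ((f.rTensor M₁).prodMap (f.rTensor M₂)) :=
    Function.Injective.prodMap (Module.Flat.rTensor_preserves_injective_linearMap f hf)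
      (Module.Flat.rTensor_preserves_injective_linearMap f hf)
  have h2 : Function.Injective ((TensorProduct.prodRight R R N' M₁ M₂).toLinearMap ∘ₗ
      (f.rTensor (M₁ × M₂))) := by
    rw [key]
    exact h1.comp (TensorProduct.prodRight R R N M₁ M₂).injective
  exact Function.Injective.of_comp h2

variable {M N : Type u} [AddCommGroup M] [Module R M] [AddCommGroup N] [Module R N]

/-- a surjection onto a projective module splits: the source is the product of the kernel and
the target -/
theorem nonempty_equiv_ker_prod (g : M →ₗ[R] N) (hg : Function.Surjective g)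
    [Module.Projective R N] : Nonempty (M ≃ₗ[R] (LinearMap.ker g × N)) := by
  obtain ⟨σ, hσ⟩ := Module.projective_lifting_property g LinearMap.id hg
  have hσ' : ∀ n, g (σ n) = n := fun n => congrArg (fun t => t n) hσ
  let toK : M →ₗ[R] LinearMap.ker g :=
    LinearMap.codRestrict (LinearMap.ker g) (LinearMap.id - σ.comp g) (fun m => by
      rw [LinearMap.mem_ker, LinearMap.sub_apply, map_sub, LinearMap.id_apply,
        LinearMap.comp_apply, hσ', sub_self])
  refine ⟨LinearEquiv.ofLinear (toK.prod g)
    ((LinearMap.ker g).subtype.coprod σ) ?_ ?_⟩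
  · apply LinearMap.ext
    rintro ⟨k, n⟩
    apply Prod.ext
    · apply Subtype.ext
      show (k.1 + σ n) - σ (g (k.1 + σ n)) = k.1
      rw [map_add, LinearMap.mem_ker.mp k.2, zero_add, hσ']
      abel
    · show g (k.1 + σ n) = n
      rw [map_add, LinearMap.mem_ker.mp k.2, zero_add, hσ']
  · apply LinearMap.ext
    intro m
    show (m - σ (g m)) + σ (g m) = m
    abel

end general

section complex

variable {R : Type u} [CommRing R]
  {ι : Type} {c : ComplexShape ι} (C : HomologicalComplex (ModuleCat.{u} R) c) (p j : ι)

/-- the homology is the kernel of `Z'_p → im d` -/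
def homologyEquivKer (hj : c.next p = j) :
    C.homology p ≃ₗ[R] LinearMap.ker (toIm C p j).hom := by
  have hex : (ShortComplex.mk _ _ (C.homologyι_comp_fromOpcycles p j)).Exact :=
    ShortComplex.exact_of_f_is_kernel _ (C.homologyIsKernel p j hj)
  rw [ShortComplex.moduleCat_exact_iff] at hex
  have hinj : Function.Injective (C.homologyι p).hom :=
    (ModuleCat.mono_iff_injective _).mp inferInstance
  have hmem : ∀ x, (C.homologyι p).hom x ∈ LinearMap.ker (toIm C p j).hom := by
    intro x
    rw [LinearMap.mem_ker]
    exact congrArg (fun t => t.hom x) (homologyι_toIm C p j)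
  refine LinearEquiv.ofBijective
    (LinearMap.codRestrict (LinearMap.ker (toIm C p j).hom) (C.homologyι p).hom hmem) ⟨?_, ?_⟩
  · intro x y hxy
    exact hinj (congrArg Subtype.val hxy)
  · rintro ⟨w, hw⟩
    have hw' : (C.fromOpcycles p j).hom w = 0 := by
      rw [LinearMap.mem_ker] at hw
      have := congrArg Subtype.val hw
      exact this
    obtain ⟨x, hx⟩ := hex w hw'
    exact ⟨x, Subtype.ext hx⟩

variable [Module.Projective R (C.X j)] [Module.Projective R (C.opcycles j)]

/-- the image of the differential is projective when the next opcycles are -/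
lemma projective_im (hp : c.prev j = p) : Module.Projective R (im C p j) := by
  haveI : Module.Projective R (C.X j ⧸ im C p j) :=
    Module.Projective.of_equiv (quotImEquiv C p j hp).symm
  obtain ⟨e⟩ := nonempty_equiv_ker_prod (im C p j).mkQ (Submodule.mkQ_surjective _)
  have e' : im C p j ≃ₗ[R] LinearMap.ker (im C p j).mkQ :=
    LinearEquiv.ofEq _ _ (Submodule.ker_mkQ _).symm
  haveI : Module.Projective R (LinearMap.ker (im C p j).mkQ × (C.X j ⧸ im C p j)) :=
    Module.Projective.of_equiv e
  have hk : Module.Projective R (LinearMap.ker (im C p j).mkQ) :=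
    Module.Projective.of_split (LinearMap.inl R _ (C.X j ⧸ im C p j))
      (LinearMap.fst R _ (C.X j ⧸ im C p j)) (by ext x; rfl)
  exact Module.Projective.of_equiv e'.symm

/-- **splitting**: `Z'_p ≃ H_p × im d` when the next opcycles are projective -/
theorem nonempty_opcycles_equiv (hj : c.next p = j) (hp : c.prev j = p) :
    Nonempty (C.opcycles p ≃ₗ[R] (C.homology p × im C p j)) := by
  haveI := projective_im C p j hp
  obtain ⟨e⟩ := nonempty_equiv_ker_prod (toIm C p j).hom
    (LinearMap.surjective_rangeRestrict _)
  exact ⟨e ≪≫ₗ LinearEquiv.prodCongr (homologyEquivKer C p j hj).symm (LinearEquiv.refl R _)⟩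

/-- the opcycles are flat as soon as the homology is flat -/
theorem flat_opcycles_of_flat_homology (hj : c.next p = j) (hp : c.prev j = p)
    [Module.Flat R (C.homology p)] : Module.Flat R (C.opcycles p) := by
  haveI := projective_im C p j hp
  obtain ⟨e⟩ := nonempty_opcycles_equiv C p j hj hp
  haveI := flat_prod (R := R) (C.homology p) (im C p j)
  exact Module.Flat.of_linearEquiv e

/-- the homology is projective as soon as the opcycles are -/
theorem projective_homology_of_projective_opcycles (hj : c.next p = j) (hp : c.prev j = p)
    [Module.Projective R (C.opcycles p)] : Module.Projective R (C.homology p) := by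
  obtain ⟨e⟩ := nonempty_opcycles_equiv C p j hj hp
  haveI : Module.Projective R (C.homology p × im C p j) := Module.Projective.of_equiv e
  exact Module.Projective.of_split (LinearMap.inl R _ (im C p j))
    (LinearMap.fst R _ (im C p j)) (by ext x; rfl)

/-- the homology is finite as soon as the term is -/
theorem finite_homology_of_projective_opcycles (hj : c.next p = j) (hp : c.prev j = p)
    [Module.Finite R (C.X p)] : Module.Finite R (C.homology p) := by
  obtain ⟨e⟩ := nonempty_opcycles_equiv C p j hj hp
  haveI : Module.Finite R (C.opcycles p) :=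
    Module.Finite.of_surjective (C.pOpcycles p).hom
      ((ModuleCat.epi_iff_surjective _).mp inferInstance)
  haveI : Module.Finite R (C.homology p × im C p j) := Module.Finite.equiv e
  exact Module.Finite.of_surjective (LinearMap.fst R _ (im C p j)) LinearMap.fst_surjective

end complex

end Groth.Agent.Helper1.HMap

end
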