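import Mathlib

/-!
In a Noetherian domain containing a prime of height at least two, for every nonzero `f`
there are infinitely many primes not containing `f`.
-/

namespace Groth.Agent.Helper1.HeightOne

theorem infinite_setOf_notMem {R : Type*} [CommRing R] [IsDomain R] [IsNoetherianRing R]
    (Q : Ideal R) [Q.IsPrime] (hQ : 2 ≤ Q.height) (f : R) (hf : f ≠ 0) :
    {q : PrimeSpectrum R | f ∉ q.asIdeal}.Infinite := by
  classical
  intro hfin
  let T : Set (Ideal R) := {q | q.IsPrime ∧ q.height = 1}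
  have hT1 : {q ∈ T | f ∉ q}.Finite := by
    refine (hfin.image PrimeSpectrum.asIdeal).subset ?_
    rintro q ⟨⟨hq, -⟩, hfq⟩
    exact ⟨⟨q, hq⟩, hfq, rfl⟩
  have hT2 : {q ∈ T | f ∈ q}.Finite := by
    refine (Ideal.finite_minimalPrimes_of_isNoetherianRing R (Ideal.span {f})).subset ?_
    rintro q ⟨⟨hq, hht⟩, hfq⟩
    have := hq
    refine Ideal.mem_minimalPrimes_of_height_le
      ((Ideal.span_singleton_le_iff_mem _).mpr hfq) ?_
    rw [hht]
    exact Ideal.one_le_height_span_singleton_of_mem_nonZeroDivisors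
      (mem_nonZeroDivisors_of_ne_zero hf)
  have hTfin : T.Finite := by
    have : T = {q ∈ T | f ∉ q} ∪ {q ∈ T | f ∈ q} := by
      ext q
      by_cases h : f ∈ q <;> simp [h]
    rw [this]
    exact hT1.union hT2
  -- every nonzero element of `Q` lies in a height-one prime
  have hne : ∀ x ∈ Q, x ≠ 0 → ∃ q ∈ T, x ∈ q := by
    intro x hx hx0
    obtain ⟨q, hq, -⟩ := Ideal.exists_minimalPrimes_le
      ((Ideal.span_singleton_le_iff_mem Q).mpr hx)
    have hqp : q.IsPrime := hq.isPrime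
    have hxq : x ∈ q := hq.1.2 (Ideal.mem_span_singleton_self x)
    have h1 : q.height ≤ 1 :=
      Ideal.height_le_one_of_isPrincipal_of_mem_minimalPrimes (Ideal.span {x}) q hq
    have h0 : q.height ≠ 0 := by
      rw [Ne, Ideal.height_eq_zero_iff_eq_bot]
      intro hbot
      rw [hbot] at hxq
      exact hx0 (by simpa using hxq)
    refine ⟨q, ⟨hqp, le_antisymm h1 (Order.one_le_iff_pos.mpr (pos_iff_ne_zero.mpr h0))⟩, hxq⟩
  have hQbot : Q ≠ ⊥ := by
    intro h
    rw [h, Ideal.height_bot] at hQ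
    exact absurd hQ (by norm_num)
  obtain ⟨x0, hx0Q, hx00⟩ := Submodule.exists_mem_ne_zero_of_ne_bot hQbot
  obtain ⟨q0, hq0T, -⟩ := hne x0 hx0Q hx00
  have hcover : (Q : Set R) ⊆ ⋃ q ∈ (hTfin.toFinset : Set (Ideal R)), ((id q : Ideal R) : Set R) := by
    intro x hx
    by_cases hx0 : x = 0
    · simp only [Set.Finite.coe_toFinset, id_eq, Set.mem_iUnion, SetLike.mem_coe, exists_prop]
      exact ⟨q0, hq0T, by rw [hx0]; exact q0.zero_mem⟩
    · obtain ⟨q, hqT, hxq⟩ := hne x hx hx0
      simp only [Set.Finite.coe_toFinset, id_eq, Set.mem_iUnion, SetLike.mem_coe, exists_prop]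
      exact ⟨q, hqT, hxq⟩
  obtain ⟨q, hq, hQq⟩ := (Ideal.subset_union_prime (s := hTfin.toFinset) (f := id) ⊥ ⊥
    (fun q hq _ _ => (hTfin.mem_toFinset.mp hq).1)).mp hcover
  have hqT := hTfin.mem_toFinset.mp hq
  have := Ideal.height_mono hQq
  simp only [id_eq] at this
  rw [hqT.2] at this
  exact absurd (hQ.trans this) (by norm_num)

end Groth.Agent.Helper1.HeightOne
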