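import Mathlib
import Groth.Agent.Helper1.HensNoeth
import Groth.Agent.Helper1.FlatSpanFinrank

/-!
# Regularity of henselizations
-/

set_option autoImplicit false
set_option linter.dupNamespace false

universe u

noncomputable section

namespace Groth.Agent.Helper1.Hens

open IsLocalRing

variable (R : Type u) [CommRing R] [IsLocalRing R] [IsNoetherianRing R]
  (S : Type u) [CommRing S] [IsLocalRing S] [Algebra R S]
  [IsLocalHom (algebraMap R S)] [Hensel.IsHenselization R S]

include R in
theorem isNoetherianRing_of_isHenselization : IsNoetherianRing S :=
  haveI := Hh.isNoetherianRing R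
  isNoetherianRing_of_ringEquiv _ (equivOfIsHenselization (R := R) S).symm.toRingEquiv

theorem isRegularLocalRing_iff_of_isHenselization :
    IsRegularLocalRing R ↔ IsRegularLocalRing S := by
  haveI := isNoetherianRing_of_isHenselization R S
  haveI := faithfullyFlat_of_isHenselization R S
  rw [isRegularLocalRing_iff, isRegularLocalRing_iff,
    FlatSpanFinrank.spanFinrank_eq (map_maximalIdeal_of_isHenselization R S),
    ringKrullDim_of_isHenselization R S]

end Groth.Agent.Helper1.Hens
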