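import Groth.Agent.Helper1.HensCouple2

set_option autoImplicit false
set_option linter.style.haveILetI false

/-!
# Henselian couples: clopen subsets lift uniquely along closed embeddings onto `h⁻¹ V(I)`
-/

namespace Groth.Agent.Helper1.HensCouple

open CategoryTheory Limits AlgebraicGeometry Opposite TopologicalSpace

universe u

variable (A : Type u) [CommRing A] (I : Ideal A)

theorem existsUnique_clopen_of_embedding [IsNoetherianRing A] [HenselianRing A I]
    {Y P : Scheme.{u}} (h : Y ⟶ Spec (CommRingCat.of A)) [IsProper h]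
    (p : P ⟶ Y) (hp : Topology.IsClosedEmbedding p)
    (hrange : Set.range p = h ⁻¹' PrimeSpectrum.zeroLocus (I : Set A))
    (V : Set P) (hV : IsClopen V) :
    ∃! U : Set Y, IsClopen U ∧ p.base ⁻¹' U = V := by
  have hinj : Function.Injective p := hp.injective
  have hW : IsClosed (p '' V) := hp.isClosedMap _ hV.isClosed
  have hcompl : (h ⁻¹' PrimeSpectrum.zeroLocus (I : Set A)) \ (p '' V) = p '' Vᶜ := by
    rw [← hrange]
    ext y
    constructor
    · rintro ⟨⟨t, rfl⟩, hy⟩
      exact ⟨t, fun ht => hy ⟨t, ht, rfl⟩, rfl⟩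
    · rintro ⟨t, ht, rfl⟩
      refine ⟨⟨t, rfl⟩, ?_⟩
      rintro ⟨t', ht', htt'⟩
      rw [hinj htt'] at ht'
      exact ht ht'
  have hW' : IsClosed ((h ⁻¹' PrimeSpectrum.zeroLocus (I : Set A)) \ (p '' V)) := by
    rw [hcompl]
    exact hp.isClosedMap _ hV.compl.isClosed
  have hWC : p '' V ⊆ h ⁻¹' PrimeSpectrum.zeroLocus (I : Set A) := by
    rw [← hrange]
    exact Set.image_subset_range _ _
  obtain ⟨U, hU, hUW⟩ := exists_clopen A I h _ hW hW' hWC
  have hpre : ∀ U' : Set Y, p ⁻¹' U' = V ↔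
      U' ∩ (h ⁻¹' PrimeSpectrum.zeroLocus (I : Set A)) = p '' V := by
    intro U'
    rw [← hrange]
    constructor
    · intro h1
      rw [← h1, Set.image_preimage_eq_inter_range]
    · intro h1
      have : p ⁻¹' (U' ∩ Set.range p) = p ⁻¹' (p '' V) := by rw [h1]
      rw [Set.preimage_inter, Set.preimage_range, Set.inter_univ,
        Set.preimage_image_eq _ hinj] at this
      exact this
  refine ⟨U, ⟨hU, (hpre U).2 hUW⟩, ?_⟩
  rintro U₂ ⟨hU₂, hU₂V⟩
  have h2 := (hpre U₂).1 hU₂V
  exact clopen_unique A I (HenselianRing.jac) h h.isClosedMap U₂ U hU₂ hU (h2.trans hUW.symm)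

end Groth.Agent.Helper1.HensCouple
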