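import Mathlib
import Groth.Agent.Helper1.HensStrictTransfer

/-!
# `Hens R Ω` is formally étale over `R`
-/

set_option autoImplicit false
set_option linter.dupNamespace false

universe u

noncomputable section

namespace Groth.Agent.Helper1.Hens

open IsLocalRing TensorProduct Polynomial

variable {R : Type u} [CommRing R] {Ω : Type u} [Field Ω] [Algebra R Ω]

instance Hens.formallyEtale : Algebra.FormallyEtale R (Hens R Ω) := by
  rw [Algebra.FormallyEtale.iff_comp_bijective]
  intro B _ _ I hI
  constructor
  · intro g₁ g₂ h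
    ext z
    obtain ⟨i, x, rfl⟩ := Hens.exists_of z
    have h1 : (Ideal.Quotient.mkₐ R I).comp (g₁.comp (Hens.ofAlg i)) =
        (Ideal.Quotient.mkₐ R I).comp (g₂.comp (Hens.ofAlg i)) := by
      rw [← AlgHom.comp_assoc, ← AlgHom.comp_assoc]
      exact congr(AlgHom.comp $h (Hens.ofAlg i))
    have h2 := (Algebra.FormallyEtale.comp_bijective R i.L I hI).1 h1
    exact congr($h2 x)
  · intro gbar
    have key : ∀ i : Idx R Ω, ∃! h : i.L →ₐ[R] B,
        (Ideal.Quotient.mkₐ R I).comp h = gbar.comp (Hens.ofAlg i) := by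
      intro i
      obtain ⟨h, hh⟩ := (Algebra.FormallyEtale.comp_bijective R i.L I hI).2 (gbar.comp (Hens.ofAlg i))
      exact ⟨h, hh, fun h' hh' => (Algebra.FormallyEtale.comp_bijective R i.L I hI).1
        (hh'.trans hh.symm)⟩
    choose h hh huniq using key
    have hcompat : ∀ (i j : Idx R Ω) (hij : i ≤ j) (x : i.L), h j (Idx.trans hij x) = h i x := by
      intro i j hij x
      have : (h j).comp (Idx.trans hij) = h i := by
        apply huniq i
        rw [← AlgHom.comp_assoc, hh j, AlgHom.comp_assoc]
        congr 1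
        exact AlgHom.ext fun y => Hens.of_trans hij y
      exact congr($this x)
    let g₀ : Hens R Ω →+* B :=
      Ring.DirectLimit.lift (fun i : Idx R Ω => i.L) (fun _ _ h => (Idx.trans h : _ → _)) B
        (fun i => (h i).toRingHom) (fun i j hij x => hcompat i j hij x)
    have hg₀ : ∀ (i : Idx R Ω) (x : i.L), g₀ (Hens.of i x) = h i x := fun i x =>
      Ring.DirectLimit.lift_of (G := fun i : Idx R Ω => i.L)
        (f := fun _ _ h => (Idx.trans h : _ → _)) B _ _ i x
    let g : Hens R Ω →ₐ[R] B :=
      { g₀ with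
        commutes' := fun r => by
          rw [Hens.algebraMap_eq (Classical.arbitrary _) r]
          show g₀ (Hens.of _ _) = _
          rw [hg₀, AlgHom.commutes] }
    refine ⟨g, ?_⟩
    ext z
    obtain ⟨i, x, rfl⟩ := Hens.exists_of z
    show Ideal.Quotient.mkₐ R I (g₀ (Hens.of i x)) = _
    rw [hg₀]
    exact congr($(hh i) x)

end Groth.Agent.Helper1.Hens
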