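import Mathlib
import Groth.Agent.Helper1.HensRed

/-!
# The nilradical of `Hens R Ω`
-/

set_option autoImplicit false
set_option linter.dupNamespace false

universe u

noncomputable section

namespace Groth.Agent.Helper1.Hens

open IsLocalRing TensorProduct Polynomial

/-- The nilradical of an étale algebra is generated by the nilradical of the base. -/
theorem nilradical_le_map_of_etale (R D : Type*) [CommRing R] [CommRing D] [Algebra R D]
    [Algebra.Etale R D] : nilradical D ≤ (nilradical R).map (algebraMap R D) := by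
  intro x hx
  let I := nilradical R
  haveI : Algebra.Etale (R ⧸ I) (D ⧸ I.map (algebraMap R D)) :=
    Algebra.Etale.of_equiv (Algebra.TensorProduct.quotIdealMapEquivQuotTensor D I).symm
  haveI : IsReduced (R ⧸ I) := (Ideal.isRadical_iff_quotient_reduced I).1 (Ideal.radical_isRadical _)
  haveI : IsReduced (D ⧸ I.map (algebraMap R D)) := EtRed.isReduced_of_etale (R ⧸ I) _
  have h1 : IsNilpotent (Ideal.Quotient.mk (I.map (algebraMap R D)) x) :=
    (mem_nilradical.1 hx).map _
  have := h1.eq_zero
  rwa [Ideal.Quotient.eq_zero_iff_mem] at this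

variable {R : Type u} [CommRing R] {Ω : Type u} [Field Ω] [Algebra R Ω]

theorem Hens.nilradical_eq : (nilradical R).map (algebraMap R (Hens R Ω)) = nilradical (Hens R Ω) := by
  apply le_antisymm
  · rw [Ideal.map_le_iff_le_comap]
    intro r hr
    exact mem_nilradical.2 ((mem_nilradical.1 hr).map _)
  · intro x hx
    obtain ⟨C, _, _, _, γ, c, rfl⟩ := Hens.exists_ι_eq x
    obtain ⟨n, hn⟩ := mem_nilradical.1 hx
    rw [← map_pow] at hn
    obtain ⟨D, _, _, _, δ, φ, hφ, h0⟩ := Hens.exists_of_ι_eq_zero γ (c ^ n) hn
    have h1 : φ c ∈ nilradical D := by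
      rw [map_pow] at h0
      exact mem_nilradical.2 ⟨n, h0⟩
    have h2 := nilradical_le_map_of_etale R D h1
    rw [← Hens.ι_comp γ δ φ hφ c]
    have h3 := Ideal.mem_map_of_mem (Hens.ι δ).toRingHom h2
    rw [Ideal.map_map] at h3
    have h4 : (Hens.ι δ).toRingHom.comp (algebraMap R D) = algebraMap R (Hens R Ω) := by
      ext r
      exact (Hens.ι δ).commutes r
    rw [h4] at h3
    exact h3

theorem nilradical_eq_of_algEquiv {S : Type u} [CommRing S] [Algebra R S] (e : S ≃ₐ[R] Hens R Ω) :
    (nilradical R).map (algebraMap R S) = nilradical S := by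
  apply le_antisymm
  · rw [Ideal.map_le_iff_le_comap]
    intro r hr
    exact mem_nilradical.2 ((mem_nilradical.1 hr).map _)
  · intro s hs
    have h1 : e s ∈ nilradical (Hens R Ω) := mem_nilradical.2 ((mem_nilradical.1 hs).map e)
    rw [← Hens.nilradical_eq] at h1
    have h2 := Ideal.mem_map_of_mem e.symm.toAlgHom.toRingHom h1
    rw [Ideal.map_map] at h2
    have h3 : e.symm.toAlgHom.toRingHom.comp (algebraMap R (Hens R Ω)) = algebraMap R S := by
      ext r
      exact e.symm.commutes r
    rw [h3] at h2
    simpa using h2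

end Groth.Agent.Helper1.Hens
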