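import Mathlib
import Groth.Agent.Helper1.HensStrictNoeth
import Groth.Agent.Helper1.HensCM

/-!
# Regularity, depth and Cohen–Macaulayness of strict henselizations
-/

set_option autoImplicit false
set_option linter.dupNamespace false

universe u

noncomputable section

namespace Groth.Agent.Helper1.Hens

open IsLocalRing

variable (R : Type u) [CommRing R] [IsLocalRing R] [IsNoetherianRing R]
  (S : Type u) [CommRing S] [IsLocalRing S] [Algebra R S]
  [IsLocalHom (algebraMap R S)] [Hensel.IsStrictHenselization R S]

theorem isRegularLocalRing_iff_of_isStrictHenselization :
    IsRegularLocalRing R ↔ IsRegularLocalRing S := by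
  haveI := isNoetherianRing_of_isStrictHenselization R S
  haveI := faithfullyFlat_of_isStrictHenselization R S
  rw [isRegularLocalRing_iff, isRegularLocalRing_iff,
    FlatSpanFinrank.spanFinrank_eq (map_maximalIdeal_of_isStrictHenselization R S),
    ringKrullDim_of_isStrictHenselization R S]

theorem depth_of_isStrictHenselization : LocCoh.depth S S = LocCoh.depth R R := by
  haveI := isNoetherianRing_of_isStrictHenselization R S
  haveI := faithfullyFlat_of_isStrictHenselization R S
  exact FlatDepth.depth_eq (map_maximalIdeal_of_isStrictHenselization R S)

theorem isCohenMacaulayLocalRing_iff_of_isStrictHenselization :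
    LocCoh.IsCohenMacaulayLocalRing S ↔ LocCoh.IsCohenMacaulayLocalRing R := by
  haveI := isNoetherianRing_of_isStrictHenselization R S
  have h1 : Module.supportDim S S = Module.supportDim R R := by
    rw [Module.supportDim_self_eq_ringKrullDim, Module.supportDim_self_eq_ringKrullDim,
      ringKrullDim_of_isStrictHenselization R S]
  have h2 := depth_of_isStrictHenselization R S
  constructor
  · intro h
    exact { supportDim_eq_depth := by rw [← h1, ← h2]; exact h.supportDim_eq_depth }
  · intro h
    exact { supportDim_eq_depth := by rw [h1, h2]; exact h.supportDim_eq_depth }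

end Groth.Agent.Helper1.Hens
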