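import Mathlib

set_option autoImplicit false

namespace Groth.Agent.Helper1.HenselThick

open Polynomial

variable {S S₀ : Type*} [CommRing S] [CommRing S₀] (φ : S →+* S₀)

/-- a unit modulo a nil ideal is a unit -/
lemma isUnit_of_map_of_nil (hnil : ∀ x ∈ RingHom.ker φ, IsNilpotent x) (hφ : Function.Surjective φ)
    (s : S) (h : IsUnit (φ s)) : IsUnit s := by
  obtain ⟨u, hu⟩ := h
  obtain ⟨v, hv⟩ := hφ (↑u⁻¹ : S₀)
  have h1 : s * v - 1 ∈ RingHom.ker φ := by
    rw [RingHom.mem_ker, map_sub, map_mul, map_one, hv, ← hu, Units.mul_inv, sub_self]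
  have h2 : IsNilpotent (s * v - 1) := hnil _ h1
  have h3 : IsUnit (s * v) := by
    have := h2.isUnit_add_one
    rwa [sub_add_cancel] at this
  exact isUnit_of_mul_isUnit_left h3

/-- Newton's method for a nil kernel: existence -/
lemma exists_root_aux (G : S[X]) :
    ∀ (N : ℕ) (s : S), IsUnit (G.derivative.eval s) → (G.eval s) ^ N = 0 →
      ∃ s' : S, s' - s ∈ Ideal.span {G.eval s} ∧ G.eval s' = 0 := by
  intro N
  induction N using Nat.strong_induction_on with
  | _ N ih =>
    intro s hu hN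
    by_cases h1 : N ≤ 1
    · refine ⟨s, by simp, ?_⟩
      interval_cases N
      · have : (1 : S) = 0 := by simpa using hN
        exact (eq_zero_of_zero_eq_one this.symm _)
      · simpa using hN
    · rw [not_le] at h1
      obtain ⟨u, hu'⟩ := hu
      set ε := G.eval s with hε
      set s₁ := s - ε * ↑u⁻¹ with hs₁
      obtain ⟨k, hk⟩ := G.binomExpansion s (-(ε * ↑u⁻¹))
      have h2 : G.eval s₁ = k * ↑u⁻¹ ^ 2 * ε ^ 2 := by
        have : s₁ = s + -(ε * ↑u⁻¹) := by rw [hs₁]; ring
        rw [this, hk, ← hε, ← hu']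
        have : (u : S) * ↑u⁻¹ = 1 := Units.mul_inv u
        linear_combination (-ε) * this
      -- derivative at `s₁` is still a unit
      have h3 : IsUnit (G.derivative.eval s₁) := by
        obtain ⟨k', hk'⟩ := G.derivative.binomExpansion s (-(ε * ↑u⁻¹))
        have hs : s₁ = s + -(ε * ↑u⁻¹) := by rw [hs₁]; ring
        rw [hs, hk', ← hu']
        have hnil : IsNilpotent (G.derivative.derivative.eval s * -(ε * ↑u⁻¹) +
            k' * (-(ε * ↑u⁻¹)) ^ 2) := by
          have hεn : IsNilpotent ε := ⟨N, hN⟩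
          have : G.derivative.derivative.eval s * -(ε * ↑u⁻¹) + k' * (-(ε * ↑u⁻¹)) ^ 2 =
              ε * (-(G.derivative.derivative.eval s * ↑u⁻¹) + k' * ε * ↑u⁻¹ ^ 2) := by ring
          rw [this]
          exact (Commute.all _ _).isNilpotent_mul_right hεn
        have := hnil.isUnit_add_left_of_commute u.isUnit (Commute.all _ _)
        rwa [add_assoc]
      have hM : (G.eval s₁) ^ ((N + 1) / 2) = 0 := by
        rw [h2, mul_pow, ← pow_mul]
        have : N ≤ 2 * ((N + 1) / 2) := by omega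
        rw [pow_eq_zero_of_le this hN, mul_zero]
      obtain ⟨s', hs', hroot⟩ := ih ((N + 1) / 2) (by omega) s₁ h3 hM
      refine ⟨s', ?_, hroot⟩
      have h4 : s' - s = (s' - s₁) + (s₁ - s) := by ring
      rw [h4]
      refine Ideal.add_mem _ ?_ ?_
      · have : Ideal.span {G.eval s₁} ≤ Ideal.span {ε} := by
          rw [Ideal.span_singleton_le_span_singleton, h2]
          exact ⟨k * ↑u⁻¹ ^ 2 * ε, by ring⟩
        exact this hs'
      · rw [hs₁, Ideal.mem_span_singleton]
        exact ⟨-↑u⁻¹, by ring⟩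


/-- **Hensel's lemma for a surjection with nil kernel**: simple roots lift uniquely. -/
theorem existsUnique_root (hφ : Function.Surjective φ)
    (hnil : ∀ x ∈ RingHom.ker φ, IsNilpotent x) (G : S[X]) (b : S₀)
    (hb : (G.map φ).eval b = 0) (hu : IsUnit ((G.map φ).derivative.eval b)) :
    ∃! s : S, φ s = b ∧ G.eval s = 0 := by
  have hunit : ∀ s : S, φ s = b → IsUnit (G.derivative.eval s) := by
    intro s hs
    apply isUnit_of_map_of_nil φ hnil hφ
    rw [← Polynomial.eval_map_apply, hs, ← Polynomial.derivative_map]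
    exact hu
  obtain ⟨s₀, hs₀⟩ := hφ b
  have h1 : G.eval s₀ ∈ RingHom.ker φ := by
    rw [RingHom.mem_ker, ← Polynomial.eval_map_apply, hs₀, hb]
  obtain ⟨N, hN⟩ := hnil _ h1
  obtain ⟨s', hs', hroot⟩ := exists_root_aux G N s₀ (hunit s₀ hs₀) hN
  have h2 : s' - s₀ ∈ RingHom.ker φ := by
    have : Ideal.span {G.eval s₀} ≤ RingHom.ker φ := by
      rw [Ideal.span_singleton_le_iff_mem]
      exact h1
    exact this hs'
  have h3 : φ s' = b := by
    rw [RingHom.mem_ker, map_sub, sub_eq_zero] at h2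
    rw [h2, hs₀]
  refine ⟨s', ⟨h3, hroot⟩, ?_⟩
  rintro s ⟨hs, hsr⟩
  set δ := s - s' with hδ
  have hδk : δ ∈ RingHom.ker φ := by
    rw [RingHom.mem_ker, hδ, map_sub, hs, h3, sub_self]
  have hδn : IsNilpotent δ := hnil _ hδk
  obtain ⟨k, hk⟩ := G.binomExpansion s' δ
  have h4 : s' + δ = s := by rw [hδ]; ring
  rw [h4, hsr, hroot, zero_add] at hk
  have h5 : δ * (G.derivative.eval s' + k * δ) = 0 := by
    rw [hk]; ring
  have h6 : IsUnit (G.derivative.eval s' + k * δ) := by
    rw [mul_comm k δ]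
    exact ((Commute.all _ _).isNilpotent_mul_right hδn).isUnit_add_left_of_commute
      (hunit s' h3) (Commute.all _ _)
  have h7 : δ = 0 := by
    obtain ⟨w, hw⟩ := h6
    have := congrArg (· * (↑w⁻¹ : S)) h5
    simp only [zero_mul] at this
    rwa [← hw, mul_assoc, Units.mul_inv, mul_one] at this
  rw [hδ, sub_eq_zero] at h7
  exact h7

end Groth.Agent.Helper1.HenselThick
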