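import Mathlib
import Groth.Agent.Helper1.LocCohLocalization
import Groth.Agent.Helper1.LocCohLocS
import Groth.Agent.Helper1.LocCohTors

set_option autoImplicit false

/-!
# The comparison map `H^i_{a+(b)}(M) → H^i_a(M)`: surjectivity / injectivity from stalk vanishing
-/

namespace Groth.Agent.Helper1.Hmap
open CategoryTheory Limits IsLocalRing

universe u

variable {A : Type u} [CommRing A] [IsNoetherianRing A] (b : A)
  (M : Type u) [AddCommGroup M] [Module A M]

/-- if `H^i_{pA_p}(M_p) = 0` for all primes `p ⊇ J` with `b ∉ p`, then every element of `H^i_J(M)`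
is killed by a power of `b` -/
theorem pow_torsion_of_stalk (i : ℕ) :
    ∀ J : Ideal A, (∀ p : PrimeSpectrum A, J ≤ p.asIdeal → b ∉ p.asIdeal →
        Subsingleton (LocCoh.H (maximalIdeal (Localization.AtPrime p.asIdeal)) i
          (LocalizedModule p.asIdeal.primeCompl M))) →
      ∀ x : LocCoh.H J i M, ∃ n : ℕ, b ^ n • x = 0 := by
  intro J
  induction J using IsNoetherian.induction with
  | hgt J IH =>
    intro hyp
    -- the `b`-power torsion submodule
    let T : Submodule A (LocCoh.H J i M) :=
      { carrier := {x | ∃ n : ℕ, b ^ n • x = 0}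
        add_mem' := by
          rintro x y ⟨n, hn⟩ ⟨m, hm⟩
          refine ⟨n + m, ?_⟩
          have h1 : b ^ (n + m) • x = 0 := by rw [pow_add, mul_comm, mul_smul, hn, smul_zero]
          have h2 : b ^ (n + m) • y = 0 := by rw [pow_add, mul_smul, hm, smul_zero]
          rw [smul_add, h1, h2, add_zero]
        zero_mem' := ⟨0, smul_zero _⟩
        smul_mem' := by
          rintro c x ⟨n, hn⟩
          exact ⟨n, by rw [smul_comm, hn, smul_zero]⟩ }
    by_contra hcon
    push Not at hcon
    obtain ⟨x₀, hx₀⟩ := hcon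
    have hx₀T : x₀ ∉ T := fun ⟨n, hn⟩ => hx₀ n hn
    haveI : Nontrivial (LocCoh.H J i M ⧸ T) := by
      refine ⟨⟨Submodule.Quotient.mk x₀, 0, ?_⟩⟩
      rw [Ne, Submodule.Quotient.mk_eq_zero]
      exact hx₀T
    obtain ⟨p, hp⟩ := associatedPrimes.nonempty A (LocCoh.H J i M ⧸ T)
    obtain ⟨hpp, y, hy⟩ := Submodule.isAssociatedPrime_iff.1 hp
    obtain ⟨x, rfl⟩ := Submodule.Quotient.mk_surjective T y
    have hmem : ∀ r : A, r ∈ p ↔ r • x ∈ T := by
      intro r
      rw [hy, Submodule.mem_colon_singleton, Submodule.mem_bot, ← Submodule.Quotient.mk_smul,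
        Submodule.Quotient.mk_eq_zero]
    have hxT : x ∉ T := by
      intro hx
      apply hpp.ne_top
      rw [Ideal.eq_top_iff_one, hmem, one_smul]
      exact hx
    -- (a) `b ∉ p`
    have hbp : b ∉ p := by
      intro hb
      obtain ⟨n, hn⟩ := (hmem b).1 hb
      apply hxT
      exact ⟨n + 1, by rw [pow_succ, mul_smul]; exact hn⟩
    -- (b) `J ≤ p`
    have hJp : J ≤ p := by
      intro r hr
      obtain ⟨k, hk⟩ := LocCohTors.isPowerTorsion J i (ModuleCat.of A M) x
      have h1 : r ^ k ∈ p := by
        rw [hmem, hk _ (Ideal.pow_mem_pow hr k)]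
        exact T.zero_mem
      exact hpp.mem_of_pow_mem k h1
    -- (c) `p ≤ J`
    have hpJ : p ≤ J := by
      intro c hc
      by_contra hcJ
      have hlt : J < J ⊔ Ideal.span {c} := by
        refine lt_of_le_of_ne le_sup_left fun heq => hcJ ?_
        rw [heq]
        exact Ideal.mem_sup_right (Ideal.mem_span_singleton_self c)
      have hD := IH (J ⊔ Ideal.span {c}) hlt
        (fun q hq hbq => hyp q (le_trans le_sup_left hq) hbq)
      obtain ⟨n, hn⟩ := (hmem c).1 hc
      have h1 : c ^ 1 • (b ^ n • x) = 0 := by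
        rw [pow_one, smul_comm]
        exact hn
      obtain ⟨z, hz⟩ := (LocCohLES.mem_range_hmap_iff J c i (ModuleCat.of A M) (b ^ n • x)).2
        ⟨1, h1⟩
      obtain ⟨m, hm⟩ := hD z
      apply hxT
      refine ⟨m + n, ?_⟩
      rw [pow_add, mul_smul, ← hz, ← map_smul, hm, map_zero]
    obtain rfl : p = J := le_antisymm hpJ hJp
    -- (d) localize at `p`
    have hsub := hyp ⟨p, hpp⟩ le_rfl hbp
    obtain ⟨e⟩ := LocCohLocS.nonempty_localized_linearEquiv p.primeCompl p M i
    rw [Localization.AtPrime.map_eq_maximalIdeal] at e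
    have hsub' : Subsingleton (LocalizedModule p.primeCompl (LocCoh.H p i M)) :=
      e.toEquiv.subsingleton
    obtain ⟨s, hs, hsx⟩ := LocalizedModule.subsingleton_iff.1 hsub' x
    apply hs
    show s ∈ p
    rw [hmem, hsx]
    exact T.zero_mem

/-- surjectivity of the comparison map for one extra generator -/
theorem hmap_surjective_one (a : Ideal A) (i : ℕ)
    (hyp : ∀ p : PrimeSpectrum A, a ≤ p.asIdeal → b ∉ p.asIdeal →
      Subsingleton (LocCoh.H (maximalIdeal (Localization.AtPrime p.asIdeal)) i
        (LocalizedModule p.asIdeal.primeCompl M))) :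
    Function.Surjective ((Dual2.HmapOfLE (le_sup_left : a ≤ a ⊔ Ideal.span {b}) i).app
      (ModuleCat.of A M)).hom := by
  intro x
  exact (LocCohLES.mem_range_hmap_iff a b i _ x).2 (pow_torsion_of_stalk b M i a hyp x)

/-- injectivity of the comparison map for one extra generator -/
theorem hmap_injective_one (a : Ideal A) (i : ℕ)
    (hyp : ∀ p : PrimeSpectrum A, a ≤ p.asIdeal → b ∉ p.asIdeal → ∀ j : ℕ, j + 1 = i →
      Subsingleton (LocCoh.H (maximalIdeal (Localization.AtPrime p.asIdeal)) j
        (LocalizedModule p.asIdeal.primeCompl M))) :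
    Function.Injective ((Dual2.HmapOfLE (le_sup_left : a ≤ a ⊔ Ideal.span {b}) i).app
      (ModuleCat.of A M)).hom := by
  cases i with
  | zero =>
    exact (ModuleCat.mono_iff_injective _).1 (LocCohLES.mono_hmap_zero a b (ModuleCat.of A M))
  | succ j =>
    have hD := pow_torsion_of_stalk b M j a (fun p h1 h2 => hyp p h1 h2 j rfl)
    haveI := LocCohLES.isLocalizedModule_lc_map a b j (ModuleCat.of A M)
    have hsub : Subsingleton ((localCohomology a j).obj ((LocCohLES.L b).obj (ModuleCat.of A M))) := by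
      rw [IsLocalizedModule.subsingleton_iff (Submonoid.powers b)
        ((localCohomology a j).map ((LocCohLES.η b).app (ModuleCat.of A M))).hom]
      intro x
      obtain ⟨n, hn⟩ := hD x
      exact ⟨b ^ n, ⟨n, rfl⟩, hn⟩
    obtain ⟨e⟩ := LocCohLES.nonempty_coker_equiv_ker a b j (ModuleCat.of A M)
    have hq : Subsingleton (((localCohomology a j).obj ((LocCohLES.L b).obj (ModuleCat.of A M))) ⧸
        LinearMap.range ((localCohomology a j).map
          ((LocCohLES.η b).app (ModuleCat.of A M))).hom) := by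
      refine ⟨fun u v => ?_⟩
      obtain ⟨u', rfl⟩ := Submodule.Quotient.mk_surjective _ u
      obtain ⟨v', rfl⟩ := Submodule.Quotient.mk_surjective _ v
      rw [Subsingleton.elim u' v']
    have hker : Subsingleton (LinearMap.ker ((Dual2.HmapOfLE
        (le_sup_left : a ≤ a ⊔ Ideal.span {b}) (j + 1)).app (ModuleCat.of A M)).hom) :=
      e.symm.toEquiv.subsingleton
    rw [← LinearMap.ker_eq_bot]
    exact Submodule.eq_bot_of_subsingleton

end Groth.Agent.Helper1.Hmap
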