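import Mathlib
import Groth.Agent.Helper1.HmapA

set_option autoImplicit false

/-!
# Functoriality of the comparison maps `HmapOfLE`, and the general comparison theorem
-/

namespace Groth.Agent.Helper1.Hmap
open CategoryTheory Limits IsLocalRing

universe u

lemma colimMap_comp' {K C : Type*} [Category K] [Category C] {F G H : K ⥤ C} [HasColimit F]
    [HasColimit G] [HasColimit H] (α : F ⟶ G) (β : G ⟶ H) :
    colimMap (α ≫ β) = colimMap α ≫ colimMap β := by
  apply colimit.hom_ext
  intro j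
  simp

variable {A : Type u} [CommRing A]

lemma quotMapOfLE_comp {I I' I'' : Ideal A} (h₁ : I ≤ I') (h₂ : I' ≤ I'') :
    Dual2.quotMapOfLE (h₁.trans h₂) = Dual2.quotMapOfLE h₁ ≫ Dual2.quotMapOfLE h₂ := by
  ext n x
  obtain ⟨x, rfl⟩ := Submodule.Quotient.mk_surjective _ x
  rfl

theorem hmapOfLE_comp {I I' I'' : Ideal A} (h₁ : I ≤ I') (h₂ : I' ≤ I'') (i : ℕ) :
    Dual2.HmapOfLE (h₁.trans h₂) i = Dual2.HmapOfLE h₂ i ≫ Dual2.HmapOfLE h₁ i := by
  have h' : Functor.whiskerRight (NatTrans.op (Dual2.quotMapOfLE (h₁.trans h₂)))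
      (Ext A (ModuleCat.{u} A) i) =
      Functor.whiskerRight (NatTrans.op (Dual2.quotMapOfLE h₂)) (Ext A (ModuleCat.{u} A) i) ≫
        Functor.whiskerRight (NatTrans.op (Dual2.quotMapOfLE h₁)) (Ext A (ModuleCat.{u} A) i) := by
    rw [quotMapOfLE_comp h₁ h₂, NatTrans.op_comp, Functor.whiskerRight_comp]
  exact (congrArg (fun t => colimMap t) h').trans (colimMap_comp' _ _)

section general

variable [IsNoetherianRing A] (M : Type u) [AddCommGroup M] [Module A M]

/-- vanishing of `H^j_{pA_p}(M_p)` for `p ∈ V(I) ∖ V(I')` -/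
def StalkVanish (I I' : Ideal A) (j : ℕ) : Prop :=
  ∀ p : PrimeSpectrum A, I ≤ p.asIdeal → ¬ I' ≤ p.asIdeal →
    Subsingleton (LocCoh.H (maximalIdeal (Localization.AtPrime p.asIdeal)) j
      (LocalizedModule p.asIdeal.primeCompl M))

lemma span_cons_eq (I : Ideal A) (b : A) (L : List A) :
    I ⊔ Ideal.span {x | x ∈ b :: L} = (I ⊔ Ideal.span {b}) ⊔ Ideal.span {x | x ∈ L} := by
  have : {x | x ∈ b :: L} = {b} ∪ {x | x ∈ L} := by
    ext x
    simp
  rw [this, Ideal.span_union, sup_assoc]

lemma hom_app_comp {F G H : ModuleCat.{u} A ⥤ ModuleCat.{u} A} (α : F ⟶ G) (β : G ⟶ H)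
    (X : ModuleCat.{u} A) :
    (((α ≫ β).app X).hom : F.obj X → H.obj X) = (β.app X).hom ∘ (α.app X).hom := by
  ext x
  rfl

theorem hmap_surjective_list (i : ℕ) : ∀ (L : List A) (I I' : Ideal A) (h : I ≤ I'),
    I' = I ⊔ Ideal.span {x | x ∈ L} → StalkVanish M I I' i →
    Function.Surjective ((Dual2.HmapOfLE h i).app (ModuleCat.of A M)).hom := by
  intro L
  induction L with
  | nil =>
    intro I I' h hI' hyp
    have h0 : I' = I ⊔ Ideal.span {(0 : A)} := by
      rw [hI']
      congr 1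
      have : {x : A | x ∈ ([] : List A)} = ∅ := by
        ext x
        simp
      rw [this, Ideal.span_empty]
      exact (Ideal.span_singleton_eq_bot.2 rfl).symm
    subst h0
    exact hmap_surjective_one 0 M I i (fun p _ h0 => absurd (zero_mem _) h0)
  | cons b L ih =>
    intro I I' h hI' hyp
    have hbI' : b ∈ I' := by
      rw [hI']
      exact Ideal.mem_sup_right (Ideal.subset_span (by simp))
    have h₁ : I ⊔ Ideal.span {b} ≤ I' :=
      sup_le h ((Ideal.span_singleton_le_iff_mem _).2 hbI')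
    have hI'' : I' = (I ⊔ Ideal.span {b}) ⊔ Ideal.span {x | x ∈ L} := by
      rw [hI', span_cons_eq]
    have s1 := ih (I ⊔ Ideal.span {b}) I' h₁ hI''
      (fun p hp hp' => hyp p (le_trans le_sup_left hp) hp')
    have s0 := hmap_surjective_one b M I i
      (fun p hp hbp => hyp p hp (fun hle => hbp (hle hbI')))
    have hcomp := hmapOfLE_comp (le_sup_left : I ≤ I ⊔ Ideal.span {b}) h₁ i
    have hfun : (((Dual2.HmapOfLE h i).app (ModuleCat.of A M)).hom :
        LocCoh.H I' i M → LocCoh.H I i M) =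
        ((Dual2.HmapOfLE (le_sup_left : I ≤ I ⊔ Ideal.span {b}) i).app (ModuleCat.of A M)).hom ∘
          ((Dual2.HmapOfLE h₁ i).app (ModuleCat.of A M)).hom := by
      rw [← hom_app_comp, ← hcomp]
    rw [hfun]
    exact s0.comp s1

theorem hmap_injective_list (i : ℕ) : ∀ (L : List A) (I I' : Ideal A) (h : I ≤ I'),
    I' = I ⊔ Ideal.span {x | x ∈ L} → (∀ j : ℕ, j + 1 = i → StalkVanish M I I' j) →
    Function.Injective ((Dual2.HmapOfLE h i).app (ModuleCat.of A M)).hom := by
  intro L
  induction L with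
  | nil =>
    intro I I' h hI' hyp
    have h0 : I' = I ⊔ Ideal.span {(0 : A)} := by
      rw [hI']
      congr 1
      have : {x : A | x ∈ ([] : List A)} = ∅ := by
        ext x
        simp
      rw [this, Ideal.span_empty]
      exact (Ideal.span_singleton_eq_bot.2 rfl).symm
    subst h0
    exact hmap_injective_one 0 M I i (fun p _ h0 => absurd (zero_mem _) h0)
  | cons b L ih =>
    intro I I' h hI' hyp
    have hbI' : b ∈ I' := by
      rw [hI']
      exact Ideal.mem_sup_right (Ideal.subset_span (by simp))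
    have h₁ : I ⊔ Ideal.span {b} ≤ I' :=
      sup_le h ((Ideal.span_singleton_le_iff_mem _).2 hbI')
    have hI'' : I' = (I ⊔ Ideal.span {b}) ⊔ Ideal.span {x | x ∈ L} := by
      rw [hI', span_cons_eq]
    have s1 := ih (I ⊔ Ideal.span {b}) I' h₁ hI''
      (fun j hj p hp hp' => hyp j hj p (le_trans le_sup_left hp) hp')
    have s0 := hmap_injective_one b M I i
      (fun p hp hbp j hj => hyp j hj p hp (fun hle => hbp (hle hbI')))
    have hcomp := hmapOfLE_comp (le_sup_left : I ≤ I ⊔ Ideal.span {b}) h₁ i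
    have hfun : (((Dual2.HmapOfLE h i).app (ModuleCat.of A M)).hom :
        LocCoh.H I' i M → LocCoh.H I i M) =
        ((Dual2.HmapOfLE (le_sup_left : I ≤ I ⊔ Ideal.span {b}) i).app (ModuleCat.of A M)).hom ∘
          ((Dual2.HmapOfLE h₁ i).app (ModuleCat.of A M)).hom := by
      rw [← hom_app_comp, ← hcomp]
    rw [hfun]
    exact s0.comp s1

lemma exists_list (I I' : Ideal A) (h : I ≤ I') :
    ∃ L : List A, I' = I ⊔ Ideal.span {x | x ∈ L} := by
  obtain ⟨s, hs⟩ := (IsNoetherian.noetherian I' : I'.FG)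
  refine ⟨s.toList, ?_⟩
  have : {x | x ∈ s.toList} = (s : Set A) := by
    ext x
    simp
  rw [this]
  have hs' : Ideal.span (s : Set A) = I' := hs
  rw [hs']
  exact (sup_eq_right.2 h).symm

theorem hmap_surjective {I I' : Ideal A} (h : I ≤ I') (i : ℕ) (hyp : StalkVanish M I I' i) :
    Function.Surjective ((Dual2.HmapOfLE h i).app (ModuleCat.of A M)).hom := by
  obtain ⟨L, hL⟩ := exists_list I I' h
  exact hmap_surjective_list M i L I I' h hL hyp

theorem hmap_injective {I I' : Ideal A} (h : I ≤ I') (i : ℕ)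
    (hyp : ∀ j : ℕ, j + 1 = i → StalkVanish M I I' j) :
    Function.Injective ((Dual2.HmapOfLE h i).app (ModuleCat.of A M)).hom := by
  obtain ⟨L, hL⟩ := exists_list I I' h
  exact hmap_injective_list M i L I I' h hL hyp

end general

end Groth.Agent.Helper1.Hmap
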