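import Mathlib
import Groth.Prelude.Def_DerLim

/-!
# The sequence `0 → ⨁ Fₙ → ⨁ Fₙ → colim F → 0` for exact sequential colimits
-/

set_option autoImplicit false
set_option linter.unusedSectionVars false

namespace Groth.Agent.Helper1.SeqColim
open CategoryTheory Limits

universe v u
variable {A : Type u} [Category.{v} A] [Abelian A] (F : ℕ ⥤ A)

attribute [local instance] Abelian.hasFiniteBiproducts

/-- Partial sums. -/
noncomputable abbrev Sobj (n : ℕ) : A := ⨁ (fun k : Fin (n + 1) => F.obj k)

/-- Inclusion of a summand in a partial sum. -/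
noncomputable def inc (n k : ℕ) (h : k ≤ n) : F.obj k ⟶ Sobj F n :=
  biproduct.ι (fun k : Fin (n + 1) => F.obj k) ⟨k, Nat.lt_succ_of_le h⟩

lemma ι_eq_inc (n : ℕ) (k : Fin (n + 1)) :
    biproduct.ι (fun k : Fin (n + 1) => F.obj k) k = inc F n k k.is_le := rfl

/-- The functor of partial sums. -/
@[reducible]
noncomputable def S : ℕ ⥤ A where
  obj := Sobj F
  map {m n} f := biproduct.desc (fun k : Fin (m + 1) => inc F n k (k.is_le.trans (leOfHom f)))
  map_id n := by
    apply biproduct.hom_ext'
    intro k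
    simp [← ι_eq_inc]
  map_comp {m n p} f g := by
    apply biproduct.hom_ext'
    intro k
    rw [biproduct.ι_desc, biproduct.ι_desc_assoc]
    unfold inc
    rw [biproduct.ι_desc]

@[reassoc]
lemma inc_map (m n k : ℕ) (h : k ≤ m) (f : m ⟶ n) :
    inc F m k h ≫ (S F).map f = inc F n k (h.trans (leOfHom f)) := by
  unfold inc S
  dsimp
  rw [biproduct.ι_desc]
  rfl

variable [HasCoproduct F.obj]

/-- The map from a partial sum to the full sum. -/
noncomputable def σ (n : ℕ) : Sobj F n ⟶ ∐ F.obj :=
  biproduct.desc (fun k : Fin (n + 1) => Sigma.ι F.obj k)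

@[reassoc (attr := simp)]
lemma inc_σ (n k : ℕ) (h : k ≤ n) : inc F n k h ≫ σ F n = Sigma.ι F.obj k := by
  unfold inc σ
  rw [biproduct.ι_desc]

/-- The cocone of partial sums. -/
@[reducible]
noncomputable def cocone : Cocone (S F) where
  pt := ∐ F.obj
  ι :=
    { app := σ F
      naturality := by
        intro m n f
        apply biproduct.hom_ext'
        intro k
        rw [ι_eq_inc, inc_map_assoc F m n k _ f, inc_σ]
        simp only [Functor.const_obj_obj, Functor.const_obj_map, Category.comp_id]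
        rw [inc_σ] }

/-- The full sum is the colimit of the partial sums. -/
noncomputable def isColimit : IsColimit (cocone F) where
  desc c := Sigma.desc (fun k => inc F k k le_rfl ≫ c.ι.app k)
  fac c n := by
    apply biproduct.hom_ext'
    intro k
    rw [ι_eq_inc]
    have := c.w (homOfLE k.is_le)
    rw [inc_σ_assoc, Sigma.ι_desc, ← this, inc_map_assoc F _ _ _ _ (homOfLE k.is_le)]
  uniq c m hm := by
    apply Sigma.hom_ext
    intro k
    rw [Sigma.ι_desc, ← hm k]
    dsimp [cocone]
    rw [inc_σ_assoc]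

/-- Projection onto a partial sum. -/
noncomputable def π (n : ℕ) : ∐ F.obj ⟶ Sobj F n :=
  biproduct.lift (fun k : Fin (n + 1) => Sigma.π F.obj k)

lemma σ_π (n : ℕ) : σ F n ≫ π F n = 𝟙 _ := by
  apply biproduct.hom_ext
  intro j
  apply biproduct.hom_ext'
  intro k
  unfold σ π
  rw [Category.assoc, biproduct.lift_π, biproduct.ι_desc_assoc, Category.id_comp]
  by_cases h : k = j
  · subst h
    rw [Sigma.ι_π_eq_id, biproduct.ι_π_self]
  · rw [biproduct.ι_π_ne _ h, Sigma.ι_π_of_ne]
    exact fun h' => h (Fin.ext h')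

/-- Sum of the transition maps to `F k`. -/
noncomputable def ρ (k : ℕ) : ∐ F.obj ⟶ F.obj k :=
  Sigma.desc (fun j => if h : j ≤ k then F.map (homOfLE h) else 0)

lemma ι_ρ_of_le {j k : ℕ} (h : j ≤ k) : Sigma.ι F.obj j ≫ ρ F k = F.map (homOfLE h) := by
  simp [ρ, h]

lemma ι_ρ_of_lt {j k : ℕ} (h : k < j) : Sigma.ι F.obj j ≫ ρ F k = 0 := by
  simp [ρ, not_le.2 h]

/-- The map `1 - shift`. -/
noncomputable abbrev φ : ∐ F.obj ⟶ ∐ F.obj :=
  𝟙 (∐ F.obj) - DerLim.shiftMap F.obj (fun n => F.map (homOfLE (Nat.le_succ n)))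

lemma ι_φ (j : ℕ) : Sigma.ι F.obj j ≫ φ F =
    Sigma.ι F.obj j - F.map (homOfLE (Nat.le_succ j)) ≫ Sigma.ι F.obj (j + 1) := by
  unfold φ DerLim.shiftMap
  rw [Preadditive.comp_sub, Category.comp_id, Sigma.ι_desc]

lemma φ_ρ (k : ℕ) : φ F ≫ ρ F k = Sigma.π F.obj k := by
  apply Sigma.hom_ext
  intro j
  rw [← Category.assoc, ι_φ, Preadditive.sub_comp, Category.assoc]
  rcases lt_trichotomy j k with h | rfl | h
  · rw [ι_ρ_of_le F h.le, ι_ρ_of_le F (Nat.succ_le_of_lt h), ← F.map_comp, Sigma.ι_π_of_ne _ h.ne]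
    exact sub_eq_zero.2 rfl
  · rw [ι_ρ_of_le F le_rfl, ι_ρ_of_lt F (Nat.lt_succ_self j), comp_zero, sub_zero,
      Sigma.ι_π_eq_id]
    exact F.map_id j
  · rw [ι_ρ_of_lt F h, ι_ρ_of_lt F (h.trans (Nat.lt_succ_self j)), comp_zero, sub_zero,
      Sigma.ι_π_of_ne _ h.ne']

/-- Retraction of `σ ≫ φ`. -/
noncomputable def R (n : ℕ) : ∐ F.obj ⟶ Sobj F n :=
  biproduct.lift (fun k : Fin (n + 1) => ρ F k)

lemma φ_R (n : ℕ) : φ F ≫ R F n = π F n := by
  apply biproduct.hom_ext
  intro j
  unfold R π
  rw [Category.assoc, biproduct.lift_π, biproduct.lift_π, φ_ρ]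

theorem mono_φ [HasColimitsOfShape ℕ A] [HasExactColimitsOfShape ℕ A] : Mono (φ F) := by
  let β : S F ⟶ (Functor.const ℕ).obj (∐ F.obj) :=
    { app := fun n => σ F n ≫ φ F
      naturality := by
        intro m n f
        have := (cocone F).w f
        dsimp [cocone] at this ⊢
        rw [Category.comp_id, ← Category.assoc, this] }
  have : ∀ n, Mono (β.app n) := fun n => by
    have : β.app n ≫ R F n = 𝟙 _ := by
      dsimp [β]
      rw [Category.assoc, φ_R, σ_π]
    exact mono_of_mono_fac this
  have := NatTrans.mono_of_mono_app β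
  exact colim.map_mono' β (isColimit F) (isColimitConstCocone _ _) (φ F) (fun n => by
    exact (Category.comp_id _).symm)

lemma epi_desc [HasColimitsOfShape ℕ A] : Epi (Sigma.desc (fun n => colimit.ι F n)) where
  left_cancellation a b h := by
    apply colimit.hom_ext
    intro n
    have := Sigma.ι F.obj n ≫= h
    rwa [Sigma.ι_desc_assoc, Sigma.ι_desc_assoc] at this

lemma φ_desc [HasColimitsOfShape ℕ A] : φ F ≫ Sigma.desc (fun n => colimit.ι F n) = 0 := by
  apply Sigma.hom_ext
  intro j
  rw [← Category.assoc, ι_φ, Preadditive.sub_comp, Category.assoc, Sigma.ι_desc, Sigma.ι_desc,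
    colimit.w, sub_self, comp_zero]

lemma cocone_of_φ_comp {T : A} (g : ∐ F.obj ⟶ T) (hg : φ F ≫ g = 0) (n m : ℕ) (h : n ≤ m) :
    F.map (homOfLE h) ≫ Sigma.ι F.obj m ≫ g = Sigma.ι F.obj n ≫ g := by
  induction m, h using Nat.le_induction with
  | base =>
    have : homOfLE (le_refl n) = 𝟙 n := rfl
    rw [this, F.map_id, Category.id_comp]
  | succ m h ih =>
    have h1 := Sigma.ι F.obj m ≫= hg
    rw [← Category.assoc, ι_φ, Preadditive.sub_comp, comp_zero, sub_eq_zero, Category.assoc] at h1
    rw [show homOfLE (h.trans (Nat.le_succ m)) = homOfLE h ≫ homOfLE (Nat.le_succ m) from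
      Subsingleton.elim _ _, F.map_comp, Category.assoc, ← h1, ih]

/-- `colim F` is the cokernel of `1 - shift`. -/
noncomputable def isColimitCokernelCofork [HasColimitsOfShape ℕ A] :
    IsColimit (CokernelCofork.ofπ (Sigma.desc (fun n => colimit.ι F n)) (φ_desc F)) :=
  CokernelCofork.IsColimit.ofπ _ _
    (fun {T} g hg => colimit.desc F
      { pt := T
        ι :=
          { app := fun n => Sigma.ι F.obj n ≫ g
            naturality := by
              intro n m f
              dsimp
              rw [Category.comp_id]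
              exact cocone_of_φ_comp F g hg n m (leOfHom f) } })
    (fun {T} g hg => by
      apply Sigma.hom_ext
      intro n
      rw [Sigma.ι_desc_assoc, colimit.ι_desc])
    (fun {T} g hg m hm => by
      apply colimit.hom_ext
      intro n
      rw [colimit.ι_desc]
      dsimp
      rw [← hm, Sigma.ι_desc_assoc])

theorem shortExact [HasColimitsOfShape ℕ A] [HasExactColimitsOfShape ℕ A] :
    (ShortComplex.mk (φ F) (Sigma.desc (fun n => colimit.ι F n)) (φ_desc F)).ShortExact := by
  have := mono_φ F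
  have := epi_desc F
  exact
    { exact := ShortComplex.exact_of_g_is_cokernel _ (isColimitCokernelCofork F)
      mono_f := by dsimp; infer_instance
      epi_g := by dsimp; infer_instance }

end Groth.Agent.Helper1.SeqColim
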