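import Mathlib
import Groth.Agent.Helper1.SeqColim

/-!
# Homological functors and homotopy colimits
-/

set_option autoImplicit false
set_option linter.unusedSectionVars false

namespace Groth.Agent.Helper1.HocolimH
open CategoryTheory Limits Pretriangulated

universe v u v' u'

section Seq

variable {A : Type u'} [Category.{v'} A] [Abelian A]
  (X : ℕ → A) (g : ∀ n, X n ⟶ X (n + 1)) [HasCoproduct X]

/-- `1 - shift` for a sequence. -/
noncomputable abbrev ψ : ∐ X ⟶ ∐ X := 𝟙 (∐ X) - DerLim.shiftMap X g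

lemma φ_eq :
    haveI : HasCoproduct (Functor.ofSequence g).obj := ‹HasCoproduct X›
    SeqColim.φ (Functor.ofSequence g) = ψ X g := by
  haveI : HasCoproduct (Functor.ofSequence g).obj := ‹HasCoproduct X›
  change 𝟙 (∐ X) - DerLim.shiftMap X (fun n => (Functor.ofSequence g).map (homOfLE (Nat.le_succ n))) = _
  simp only [Functor.ofSequence_map_homOfLE_succ]

variable [HasColimitsOfShape ℕ A]

lemma mono_ψ [HasExactColimitsOfShape ℕ A] : Mono (ψ X g) := by
  haveI : HasCoproduct (Functor.ofSequence g).obj := ‹HasCoproduct X›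
  rw [← φ_eq]
  exact SeqColim.mono_φ (Functor.ofSequence g)

/-- The canonical map `∐ X ⟶ colim`. -/
noncomputable abbrev p : ∐ X ⟶ colimit (Functor.ofSequence g) :=
  Sigma.desc (fun n => colimit.ι (Functor.ofSequence g) n)

lemma ψ_p : ψ X g ≫ p X g = 0 := by
  haveI : HasCoproduct (Functor.ofSequence g).obj := ‹HasCoproduct X›
  rw [← φ_eq]
  exact SeqColim.φ_desc (Functor.ofSequence g)

/-- `colim` is the cokernel of `1 - shift`. -/
noncomputable def isColimitCokernelCofork :
    IsColimit (CokernelCofork.ofπ (p X g) (ψ_p X g)) := by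
  haveI : HasCoproduct (Functor.ofSequence g).obj := ‹HasCoproduct X›
  have h := SeqColim.isColimitCokernelCofork (Functor.ofSequence g)
  have hh : ∀ {T : A} (a : ∐ X ⟶ T), ψ X g ≫ a = 0 →
      SeqColim.φ (Functor.ofSequence g) ≫ a = 0 := fun a ha => by rw [φ_eq]; exact ha
  exact CokernelCofork.IsColimit.ofπ _ _
    (fun {T} a ha => h.desc (CokernelCofork.ofπ a (hh a ha)))
    (fun {T} a ha => h.fac (CokernelCofork.ofπ a (hh a ha)) WalkingParallelPair.one)
    (fun {T} a ha m hm => Cofork.IsColimit.hom_ext h (by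
      have := h.fac (CokernelCofork.ofπ a (hh a ha)) WalkingParallelPair.one
      exact hm.trans this.symm))

end Seq

section Map

variable {D : Type u} [Category.{v} D] [Preadditive D]
  {A : Type u'} [Category.{v'} A] [Abelian A]
  (G : D ⥤ A) [G.Additive] (K : ℕ → D) (f : ∀ n, K n ⟶ K (n + 1)) [HasCoproduct K]
  [PreservesColimit (Discrete.functor K) G]

lemma hasCoproduct_map : HasCoproduct (fun n => G.obj (K n)) :=
  ⟨⟨⟨_, isColimitOfHasCoproductOfPreservesColimit G K⟩⟩⟩

variable [HasCoproduct (fun n => G.obj (K n))]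

/-- The comparison isomorphism. -/
noncomputable def e : (∐ fun n => G.obj (K n)) ≅ G.obj (∐ K) :=
  (PreservesCoproduct.iso G K).symm

@[reassoc (attr := simp)]
lemma ι_e (n : ℕ) : Sigma.ι (fun n => G.obj (K n)) n ≫ (e G K).hom = G.map (Sigma.ι K n) :=
  ι_comp_sigmaComparison _ _ n

lemma e_comm : (e G K).hom ≫ G.map (𝟙 (∐ K) - DerLim.shiftMap K f) =
    ψ (fun n => G.obj (K n)) (fun n => G.map (f n)) ≫ (e G K).hom := by
  apply Sigma.hom_ext
  intro n
  rw [ι_e_assoc, ← G.map_comp, Preadditive.comp_sub, Category.comp_id, DerLim.shiftMap,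
    Sigma.ι_desc, Preadditive.sub_comp, Preadditive.comp_sub, Category.id_comp, ι_e,
    DerLim.shiftMap, Sigma.ι_desc_assoc, Category.assoc, ι_e, G.map_sub, G.map_comp]

lemma mono_map [HasColimitsOfShape ℕ A] [HasExactColimitsOfShape ℕ A] :
    Mono (G.map (𝟙 (∐ K) - DerLim.shiftMap K f)) := by
  have := mono_ψ (fun n => G.obj (K n)) (fun n => G.map (f n))
  have h : G.map (𝟙 (∐ K) - DerLim.shiftMap K f) =
      (e G K).inv ≫ ψ (fun n => G.obj (K n)) (fun n => G.map (f n)) ≫ (e G K).hom := by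
    rw [← e_comm, Iso.inv_hom_id_assoc]
  rw [h]
  infer_instance

end Map

section Main

variable {D : Type u} [Category.{v} D] [Preadditive D] [HasZeroObject D] [HasShift D ℤ]
  [∀ n : ℤ, (shiftFunctor D n).Additive] [Pretriangulated D]
  {A : Type u'} [Category.{v'} A] [Abelian A] [HasColimitsOfShape ℕ A]
  [HasExactColimitsOfShape ℕ A]
  (H : D ⥤ A) [H.IsHomological]
  (K : ℕ → D) (f : ∀ n, K n ⟶ K (n + 1)) [HasCoproduct K]
  [PreservesColimit (Discrete.functor K) H]
  [PreservesColimit (Discrete.functor K) (shiftFunctor D (1 : ℤ) ⋙ H)]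
  (L : D) (i : ∀ n, K n ⟶ L)

include f in
theorem main (hL : DerLim.IsHocolim K f L i) :
    ∃ e : colimit (Functor.ofSequence (fun n => H.map (f n))) ≅ H.obj L,
      ∀ n : ℕ, colimit.ι (Functor.ofSequence (fun n => H.map (f n))) n ≫ e.hom = H.map (i n) := by
  obtain ⟨c, hT⟩ := hL
  haveI := hasCoproduct_map H K
  haveI := hasCoproduct_map (shiftFunctor D (1 : ℤ) ⋙ H) K
  have hc : H.map c = 0 := by
    have h1 : c ≫ (shiftFunctor D (1 : ℤ)).map (𝟙 (∐ K) - DerLim.shiftMap K f) = 0 :=
      comp_distTriang_mor_zero₃₁ _ hT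
    have := mono_map (shiftFunctor D (1 : ℤ) ⋙ H) K f
    rw [← cancel_mono ((shiftFunctor D (1 : ℤ) ⋙ H).map (𝟙 (∐ K) - DerLim.shiftMap K f)),
      zero_comp]
    dsimp
    rw [← H.map_comp, h1, H.map_zero]
  have hepi : Epi (H.map (Sigma.desc i)) :=
    (H.map_distinguished_exact _ (rot_of_distTriang _ hT)).epi_f hc
  have hex := H.map_distinguished_exact _ hT
  let S' : ShortComplex A := ShortComplex.mk
    (ψ (fun n => H.obj (K n)) (fun n => H.map (f n)))
    ((e H K).hom ≫ H.map (Sigma.desc i)) (by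
      rw [← reassoc_of% (e_comm H K f), ← H.map_comp]
      have : (𝟙 (∐ K) - DerLim.shiftMap K f) ≫ Sigma.desc i = 0 :=
        comp_distTriang_mor_zero₁₂ _ hT
      rw [this, H.map_zero, comp_zero])
  have hS' : S'.Exact := by
    refine (ShortComplex.exact_iff_of_iso
      (?_ : S' ≅ (shortComplexOfDistTriangle _ hT).map H)).2 hex
    refine ShortComplex.isoMk (e H K) (e H K) (Iso.refl _) ?_ ?_
    · exact e_comm H K f
    · exact (Category.comp_id _).symm
  have : Epi S'.g := by
    dsimp [S']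
    infer_instance
  let iso : colimit (Functor.ofSequence fun n => H.map (f n)) ≅ H.obj L :=
    IsColimit.coconePointUniqueUpToIso
    (isColimitCokernelCofork (fun n => H.obj (K n)) (fun n => H.map (f n))) hS'.gIsCokernel
  have hiso : p (fun n => H.obj (K n)) (fun n => H.map (f n)) ≫ iso.hom = S'.g :=
    IsColimit.comp_coconePointUniqueUpToIso_hom
      (isColimitCokernelCofork (fun n => H.obj (K n)) (fun n => H.map (f n)))
      hS'.gIsCokernel WalkingParallelPair.one
  refine ⟨iso, fun n => ?_⟩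
  have h1 := Sigma.ι (fun n => H.obj (K n)) n ≫= hiso
  rw [Sigma.ι_desc_assoc] at h1
  refine h1.trans ?_
  change Sigma.ι (fun n => H.obj (K n)) n ≫ (e H K).hom ≫ H.map (Sigma.desc i) = _
  rw [ι_e_assoc, ← H.map_comp, Sigma.ι_desc]

end Main

end Groth.Agent.Helper1.HocolimH
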