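import Mathlib

set_option autoImplicit false
set_option linter.unusedSectionVars false

/-! In a pretriangulated category, a "chain homotopy equivalence" between the first morphisms of
two distinguished triangles induces an isomorphism of the cones. -/

namespace Groth.Agent.Helper1.TriHtpy
open CategoryTheory Limits Pretriangulated

universe v u
variable {D : Type u} [Category.{v} D] [Preadditive D] [HasZeroObject D] [HasShift D ℤ]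
  [∀ n : ℤ, (shiftFunctor D n).Additive] [Pretriangulated D]

lemma sq_zero (T : Triangle D) (hT : T ∈ distTriang D) (φ : T.obj₃ ⟶ T.obj₃)
    (h1 : T.mor₂ ≫ φ = 0) (h2 : φ ≫ T.mor₃ = 0) : φ ≫ φ = 0 := by
  obtain ⟨g, hg⟩ := Triangle.yoneda_exact₃ T hT φ h1
  rw [hg, ← Category.assoc, ← hg, h2, zero_comp]

lemma isIso_of_inverses {X Y : D} (c : X ⟶ Y) (x y : Y ⟶ X) (hx : c ≫ x = 𝟙 _) (hy : y ≫ c = 𝟙 _) :
    IsIso c := by
  have hxy : x = y := by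
    calc x = (y ≫ c) ≫ x := by rw [hy, Category.id_comp]
      _ = y := by rw [Category.assoc, hx, Category.comp_id]
  exact ⟨x, hx, by rw [hxy, hy]⟩

lemma one_add_comp_one_sub {X : D} (φ : X ⟶ X) (h : φ ≫ φ = 0) :
    (𝟙 X + φ) ≫ (𝟙 X - φ) = 𝟙 X := by
  simp only [Preadditive.add_comp, Preadditive.comp_sub, Category.id_comp, Category.comp_id, h]
  abel

lemma one_sub_comp_one_add {X : D} (φ : X ⟶ X) (h : φ ≫ φ = 0) :
    (𝟙 X - φ) ≫ (𝟙 X + φ) = 𝟙 X := by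
  simp only [Preadditive.sub_comp, Preadditive.comp_add, Category.id_comp, Category.comp_id, h]
  abel

/-- one half of the argument: the composite of the fill-ins is `𝟙 + (square zero)` -/
lemma comp_fill_sub_id_sq (T T' : Triangle D) (hT' : T' ∈ distTriang D)
    (p : T'.obj₁ ⟶ T.obj₁) (q : T'.obj₂ ⟶ T.obj₂) (p' : T.obj₁ ⟶ T'.obj₁) (q' : T.obj₂ ⟶ T'.obj₂)
    (h' : T'.obj₂ ⟶ T'.obj₁)
    (e1 : p ≫ p' - 𝟙 _ = T'.mor₁ ≫ h') (e2 : q ≫ q' - 𝟙 _ = h' ≫ T'.mor₁)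
    (c : T'.obj₃ ⟶ T.obj₃) (c' : T.obj₃ ⟶ T'.obj₃)
    (hc1 : T'.mor₂ ≫ c = q ≫ T.mor₂) (hc2 : T'.mor₃ ≫ p⟦(1 : ℤ)⟧' = c ≫ T.mor₃)
    (hc1' : T.mor₂ ≫ c' = q' ≫ T'.mor₂) (hc2' : T.mor₃ ≫ p'⟦(1 : ℤ)⟧' = c' ≫ T'.mor₃) :
    (c ≫ c' - 𝟙 _) ≫ (c ≫ c' - 𝟙 _) = 0 := by
  apply sq_zero T' hT'
  · have : T'.mor₂ ≫ (c ≫ c' - 𝟙 _) = (q ≫ q' - 𝟙 _) ≫ T'.mor₂ := by
      rw [Preadditive.comp_sub, Preadditive.sub_comp, Category.comp_id, Category.id_comp,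
        ← Category.assoc, hc1, Category.assoc, hc1', Category.assoc]
    rw [this, e2, Category.assoc, comp_distTriang_mor_zero₁₂ _ hT', comp_zero]
  · have : (c ≫ c' - 𝟙 _) ≫ T'.mor₃ = T'.mor₃ ≫ (p ≫ p' - 𝟙 _)⟦(1 : ℤ)⟧' := by
      rw [Preadditive.sub_comp, Category.id_comp, Category.assoc, ← hc2', ← Category.assoc, ← hc2,
        Category.assoc, ← Functor.map_comp, Functor.map_sub, CategoryTheory.Functor.map_id, Preadditive.comp_sub,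
        Category.comp_id]
    rw [this, e1, Functor.map_comp, ← Category.assoc, comp_distTriang_mor_zero₃₁ _ hT', zero_comp]

/-- A chain homotopy equivalence between the first morphisms of two distinguished triangles
induces an isomorphism between the third objects, compatible with the second morphisms. -/
theorem exists_iso (T T' : Triangle D) (hT : T ∈ distTriang D) (hT' : T' ∈ distTriang D)
    (p : T'.obj₁ ⟶ T.obj₁) (q : T'.obj₂ ⟶ T.obj₂) (p' : T.obj₁ ⟶ T'.obj₁) (q' : T.obj₂ ⟶ T'.obj₂)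
    (h : T.obj₂ ⟶ T.obj₁) (h' : T'.obj₂ ⟶ T'.obj₁)
    (c1 : T'.mor₁ ≫ q = p ≫ T.mor₁) (c2 : T.mor₁ ≫ q' = p' ≫ T'.mor₁)
    (e1 : p ≫ p' - 𝟙 _ = T'.mor₁ ≫ h') (e2 : q ≫ q' - 𝟙 _ = h' ≫ T'.mor₁)
    (e3 : p' ≫ p - 𝟙 _ = T.mor₁ ≫ h) (e4 : q' ≫ q - 𝟙 _ = h ≫ T.mor₁) :
    ∃ e : T'.obj₃ ≅ T.obj₃, T'.mor₂ ≫ e.hom = q ≫ T.mor₂ := by
  obtain ⟨c, hc1, hc2⟩ := complete_distinguished_triangle_morphism T' T hT' hT p q c1
  obtain ⟨c', hc1', hc2'⟩ := complete_distinguished_triangle_morphism T T' hT hT' p' q' c2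
  have s1 := comp_fill_sub_id_sq T T' hT' p q p' q' h' e1 e2 c c' hc1 hc2 hc1' hc2'
  have s2 := comp_fill_sub_id_sq T' T hT p' q' p q h e3 e4 c' c hc1' hc2' hc1 hc2
  have r1 : c ≫ c' ≫ (𝟙 _ - (c ≫ c' - 𝟙 _)) = 𝟙 _ := by
    obtain ⟨N, hN⟩ : ∃ N : T'.obj₃ ⟶ T'.obj₃, N = c ≫ c' - 𝟙 _ := ⟨_, rfl⟩
    have e : c ≫ c' = 𝟙 _ + N := by rw [hN]; abel
    rw [← hN] at s1 ⊢
    rw [← Category.assoc, e]
    exact one_add_comp_one_sub N s1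
  have r2 : ((𝟙 _ - (c' ≫ c - 𝟙 _)) ≫ c') ≫ c = 𝟙 _ := by
    obtain ⟨N, hN⟩ : ∃ N : T.obj₃ ⟶ T.obj₃, N = c' ≫ c - 𝟙 _ := ⟨_, rfl⟩
    have e : c' ≫ c = 𝟙 _ + N := by rw [hN]; abel
    rw [← hN] at s2 ⊢
    rw [Category.assoc, e]
    exact one_sub_comp_one_add N s2
  have := isIso_of_inverses c _ _ r1 r2
  exact ⟨asIso c, hc1⟩

end Groth.Agent.Helper1.TriHtpy
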