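import Mathlib
import Groth.Prelude.Def_DerLim
import Groth.Agent.Helper1.TriHtpy

set_option autoImplicit false
set_option linter.unusedSectionVars false

/-! The homotopy colimit of a subsequence. -/

namespace Groth.Agent.Helper1.HocolimSub
open CategoryTheory Limits

universe v u

section idx
variable (n : ℕ → ℕ) (hn : StrictMono n)

/-- the index of the first term of the subsequence which is `≥ m` -/
noncomputable def idx (m : ℕ) : ℕ := Nat.find (⟨m, hn.id_le m⟩ : ∃ i, m ≤ n i)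

lemma le_idx (m : ℕ) : m ≤ n (idx n hn m) := Nat.find_spec (⟨m, hn.id_le m⟩ : ∃ i, m ≤ n i)

lemma idx_le {m i : ℕ} (h : m ≤ n i) : idx n hn m ≤ i := Nat.find_min' _ h

lemma idx_n (i : ℕ) : idx n hn (n i) = i := by
  apply le_antisymm (idx_le n hn le_rfl)
  by_contra hlt
  push_neg at hlt
  exact absurd (le_idx n hn (n i)) (not_le.2 (hn hlt))

lemma idx_succ_of_not_mem (m : ℕ) (hm : m ∉ Set.range n) : idx n hn (m + 1) = idx n hn m := by
  have h1 : m < n (idx n hn m) := lt_of_le_of_ne (le_idx n hn m) (fun h => hm ⟨_, h.symm⟩)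
  apply le_antisymm (idx_le n hn h1)
  exact idx_le n hn ((Nat.le_succ m).trans (le_idx n hn (m + 1)))

lemma idx_n_succ (i : ℕ) : idx n hn (n i + 1) = i + 1 := by
  apply le_antisymm (idx_le n hn (hn (Nat.lt_succ_self i)))
  by_contra hlt
  push_neg at hlt
  have h1 : n (idx n hn (n i + 1)) ≤ n i := hn.monotone (Nat.lt_succ_iff.1 hlt)
  have h2 := le_idx n hn (n i + 1)
  omega

end idx

variable {D : Type u} [Category.{v} D] [Preadditive D] (F : ℕ ⥤ D)
  [HasCoproduct (fun m : ℕ => F.obj m)]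

/-- the transition maps -/
abbrev fK (m : ℕ) : F.obj m ⟶ F.obj (m + 1) := F.map (homOfLE (Nat.le_succ m))

/-- the shift endomorphism -/
noncomputable abbrev sh : (∐ fun m : ℕ => F.obj m) ⟶ ∐ fun m : ℕ => F.obj m :=
  DerLim.shiftMap (fun m : ℕ => F.obj m) (fun m : ℕ => F.map (homOfLE (Nat.le_succ m)))

/-- inclusion of a summand -/
noncomputable abbrev ιS (m : ℕ) : F.obj m ⟶ ∐ fun m : ℕ => F.obj m :=
  Sigma.ι (fun m : ℕ => F.obj m) m

@[reassoc]
lemma ι_sh (m : ℕ) : ιS F m ≫ sh F = fK F m ≫ ιS F (m + 1) := by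
  simp [DerLim.shiftMap]

open scoped Classical in
/-- transport from `K m` to the summand `K j` (zero unless `m ≤ j`) -/
noncomputable def t (m j : ℕ) : F.obj m ⟶ ∐ fun m : ℕ => F.obj m :=
  if h : m ≤ j then F.map (homOfLE h) ≫ ιS F j else 0

lemma t_of_le {m j : ℕ} (h : m ≤ j) : t F m j = F.map (homOfLE h) ≫ ιS F j := dif_pos h

lemma t_self (m : ℕ) : t F m m = ιS F m := by
  rw [t_of_le F le_rfl]
  have : homOfLE (le_refl m) = 𝟙 m := rfl
  rw [this, F.map_id, Category.id_comp]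

lemma t_sh {m j : ℕ} (h : m ≤ j) : t F m j ≫ sh F = t F m (j + 1) := by
  rw [t_of_le F h, t_of_le F (h.trans (Nat.le_succ j)), Category.assoc, ι_sh, ← Category.assoc,
    ← F.map_comp]
  rfl

lemma map_t {m m' j : ℕ} (h : m ≤ m') (h' : m' ≤ j) :
    F.map (homOfLE h) ≫ t F m' j = t F m j := by
  rw [t_of_le F h', t_of_le F (h.trans h'), ← Category.assoc, ← F.map_comp]
  rfl

/-- the sum of the transports to the summands in `[m, l)` -/
noncomputable def σ (m l : ℕ) : F.obj m ⟶ ∐ fun m : ℕ => F.obj m :=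
  ∑ j ∈ Finset.Ico m l, t F m j

lemma σ_self (m : ℕ) : σ F m m = 0 := by
  simp [σ]

lemma σ_succ {m l : ℕ} (h : m ≤ l) : σ F m (l + 1) = σ F m l + t F m l := by
  unfold σ
  rw [Finset.sum_Ico_succ_top h]

/-- telescoping -/
lemma σ_comp {m l : ℕ} (h : m ≤ l) : σ F m l ≫ (𝟙 _ - sh F) = ιS F m - t F m l := by
  induction l, h using Nat.le_induction with
  | base => rw [σ_self, zero_comp, t_self, sub_self]
  | succ l h ih =>
    rw [σ_succ F h, Preadditive.add_comp, ih, Preadditive.comp_sub, Category.comp_id, t_sh F h]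
    abel

lemma fK_σ {m l : ℕ} (h : m + 1 ≤ l) : fK F m ≫ σ F (m + 1) l = σ F m l - ιS F m := by
  unfold σ
  rw [Finset.sum_eq_sum_Ico_succ_bot (Nat.lt_of_succ_le h), t_self, Preadditive.comp_sum]
  have : ∀ j ∈ Finset.Ico (m + 1) l, fK F m ≫ t F (m + 1) j = t F m j := by
    intro j hj
    exact map_t F (Nat.le_succ m) (Finset.mem_Ico.1 hj).1
  rw [Finset.sum_congr rfl this]
  abel

section sub
variable (n : ℕ → ℕ) (hn : StrictMono n) [HasCoproduct (fun i : ℕ => F.obj (n i))]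

/-- the transition maps of the subsequence -/
abbrev gK (i : ℕ) : F.obj (n i) ⟶ F.obj (n (i + 1)) :=
  F.map (homOfLE (hn.monotone (Nat.le_succ i)))

/-- the shift endomorphism of the subsequence -/
noncomputable abbrev sh' : (∐ fun i : ℕ => F.obj (n i)) ⟶ ∐ fun i : ℕ => F.obj (n i) :=
  DerLim.shiftMap (fun i : ℕ => F.obj (n i))
    (fun i : ℕ => F.map (homOfLE (hn.monotone (Nat.le_succ i))))

/-- inclusion of a summand -/
noncomputable abbrev ιS' (i : ℕ) : F.obj (n i) ⟶ ∐ fun i : ℕ => F.obj (n i) :=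
  Sigma.ι (fun i : ℕ => F.obj (n i)) i

@[reassoc]
lemma ι_sh' (i : ℕ) : ιS' F n i ≫ sh' F n hn = gK F n hn i ≫ ιS' F n (i + 1) := by
  simp [DerLim.shiftMap]

/-- transport from `K m` to the summand `K (n j)` -/
noncomputable def R (m j : ℕ) (h : m ≤ n j) : F.obj m ⟶ ∐ fun i : ℕ => F.obj (n i) :=
  F.map (homOfLE h) ≫ ιS' F n j

lemma R_congr {m j j' : ℕ} (hj : j = j') (h : m ≤ n j) :
    R F n m j h = R F n m j' (hj ▸ h) := by
  subst hj
  rfl

lemma map_R {m m' j : ℕ} (h : m ≤ m') (h' : m' ≤ n j) :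
    F.map (homOfLE h) ≫ R F n m' j h' = R F n m j (h.trans h') := by
  unfold R
  rw [← Category.assoc, ← F.map_comp]
  rfl

lemma R_self (i : ℕ) : R F n (n i) i le_rfl = ιS' F n i := by
  unfold R
  have : homOfLE (le_refl (n i)) = 𝟙 (n i) := rfl
  rw [this, F.map_id, Category.id_comp]

/-- the components of the retraction -/
noncomputable def rr (m : ℕ) : F.obj m ⟶ ∐ fun i : ℕ => F.obj (n i) :=
  R F n m (idx n hn m) (le_idx n hn m)

open scoped Classical in
/-- the components of the projection -/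
noncomputable def pp (m : ℕ) : F.obj m ⟶ ∐ fun i : ℕ => F.obj (n i) :=
  if m ∈ Set.range n then rr F n hn m else 0

lemma rr_n (i : ℕ) : rr F n hn (n i) = ιS' F n i := by
  unfold rr
  rw [R_congr F n (idx_n n hn i)]
  exact R_self F n i

lemma pp_n (i : ℕ) : pp F n hn (n i) = ιS' F n i := by
  unfold pp
  rw [if_pos ⟨i, rfl⟩, rr_n]

lemma pp_of_not_mem (m : ℕ) (hm : m ∉ Set.range n) : pp F n hn m = 0 := if_neg hm

lemma fK_rr_of_not_mem (m : ℕ) (hm : m ∉ Set.range n) :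
    fK F m ≫ rr F n hn (m + 1) = rr F n hn m := by
  unfold rr
  rw [R_congr F n (idx_succ_of_not_mem n hn m hm)]
  exact map_R F n (Nat.le_succ m) _

lemma fK_rr_n (i : ℕ) :
    fK F (n i) ≫ rr F n hn (n i + 1) = gK F n hn i ≫ ιS' F n (i + 1) := by
  unfold rr
  rw [R_congr F n (idx_n_succ n hn i)]
  exact map_R F n (Nat.le_succ (n i)) _

/-- the inclusion `∐ K (n i) ⟶ ∐ K m` -/
noncomputable def a : (∐ fun i : ℕ => F.obj (n i)) ⟶ ∐ fun m : ℕ => F.obj m :=
  Sigma.desc (fun i => ιS F (n i))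

/-- the other component of the comparison -/
noncomputable def b : (∐ fun i : ℕ => F.obj (n i)) ⟶ ∐ fun m : ℕ => F.obj m :=
  Sigma.desc (fun i => σ F (n i) (n (i + 1)))

/-- the retraction -/
noncomputable def r : (∐ fun m : ℕ => F.obj m) ⟶ ∐ fun i : ℕ => F.obj (n i) :=
  Sigma.desc (rr F n hn)

/-- the projection -/
noncomputable def p : (∐ fun m : ℕ => F.obj m) ⟶ ∐ fun i : ℕ => F.obj (n i) :=
  Sigma.desc (pp F n hn)

/-- the homotopy -/
noncomputable def hh : (∐ fun m : ℕ => F.obj m) ⟶ ∐ fun m : ℕ => F.obj m :=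
  Sigma.desc (fun m => -σ F m (n (idx n hn m)))

lemma c1 : (𝟙 _ - sh' F n hn) ≫ a F n = b F n ≫ (𝟙 _ - sh F) := by
  apply Sigma.hom_ext
  intro i
  change ιS' F n i ≫ _ = ιS' F n i ≫ _
  rw [Preadditive.sub_comp, Preadditive.comp_sub, Category.id_comp, ι_sh'_assoc]
  unfold a b
  rw [Sigma.ι_desc, Sigma.ι_desc, Sigma.ι_desc_assoc,
    σ_comp F (hn.monotone (Nat.le_succ i)), t_of_le F (hn.monotone (Nat.le_succ i))]

lemma c2 : (𝟙 _ - sh F) ≫ r F n hn = p F n hn ≫ (𝟙 _ - sh' F n hn) := by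
  apply Sigma.hom_ext
  intro m
  change ιS F m ≫ _ = ιS F m ≫ _
  rw [Preadditive.sub_comp, Preadditive.comp_sub, Category.id_comp, ι_sh_assoc]
  unfold r p
  rw [Sigma.ι_desc, Sigma.ι_desc, Sigma.ι_desc_assoc]
  by_cases hm : m ∈ Set.range n
  · obtain ⟨i, rfl⟩ := hm
    rw [pp_n, rr_n, fK_rr_n, Preadditive.comp_sub, Category.comp_id, ι_sh']
  · rw [pp_of_not_mem F n hn m hm, zero_comp, fK_rr_of_not_mem F n hn m hm, sub_self]

lemma e1 : b F n ≫ p F n hn = 𝟙 _ := by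
  apply Sigma.hom_ext
  intro i
  change ιS' F n i ≫ _ = ιS' F n i ≫ _
  unfold b p
  rw [Sigma.ι_desc_assoc, Category.comp_id]
  unfold σ
  rw [Preadditive.sum_comp, Finset.sum_eq_single (n i)]
  · rw [t_self, Sigma.ι_desc, pp_n]
  · intro j hj hne
    rw [t_of_le F (Finset.mem_Ico.1 hj).1, Category.assoc, Sigma.ι_desc]
    have : j ∉ Set.range n := by
      rintro ⟨k, rfl⟩
      have h1 := hn.le_iff_le.1 (Finset.mem_Ico.1 hj).1
      have h2 := hn.lt_iff_lt.1 (Finset.mem_Ico.1 hj).2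
      exact hne (by rw [show k = i by omega])
    rw [pp_of_not_mem F n hn j this, comp_zero]
  · intro h
    exact absurd (Finset.mem_Ico.2 ⟨le_rfl, hn (Nat.lt_succ_self i)⟩) h

lemma e2 : a F n ≫ r F n hn = 𝟙 _ := by
  apply Sigma.hom_ext
  intro i
  change ιS' F n i ≫ _ = ιS' F n i ≫ _
  unfold a r
  rw [Sigma.ι_desc_assoc, Sigma.ι_desc, rr_n, Category.comp_id]

lemma e3 : p F n hn ≫ b F n - 𝟙 _ = (𝟙 _ - sh F) ≫ hh F n hn := by
  apply Sigma.hom_ext
  intro m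
  change ιS F m ≫ _ = ιS F m ≫ _
  rw [Preadditive.comp_sub, Preadditive.sub_comp, Preadditive.comp_sub, Category.id_comp,
    Category.comp_id, ι_sh_assoc]
  unfold p hh
  rw [Sigma.ι_desc_assoc, Sigma.ι_desc, Sigma.ι_desc, Preadditive.comp_neg]
  by_cases hm : m ∈ Set.range n
  · obtain ⟨i, rfl⟩ := hm
    rw [pp_n, idx_n, idx_n_succ, σ_self, fK_σ F (hn (Nat.lt_succ_self i))]
    unfold b
    rw [Sigma.ι_desc]
    abel
  · rw [pp_of_not_mem F n hn m hm, zero_comp, idx_succ_of_not_mem n hn m hm]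
    have h1 : m + 1 ≤ n (idx n hn m) :=
      lt_of_le_of_ne (le_idx n hn m) (fun h => hm ⟨_, h.symm⟩)
    rw [fK_σ F h1]
    abel

lemma e4 : r F n hn ≫ a F n - 𝟙 _ = hh F n hn ≫ (𝟙 _ - sh F) := by
  apply Sigma.hom_ext
  intro m
  change ιS F m ≫ _ = ιS F m ≫ _
  rw [Preadditive.comp_sub, Category.comp_id]
  unfold r hh
  rw [Sigma.ι_desc_assoc, Sigma.ι_desc_assoc, Preadditive.neg_comp, σ_comp F (le_idx n hn m),
    t_of_le F (le_idx n hn m)]
  unfold rr R a
  rw [Category.assoc, Sigma.ι_desc]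
  abel

end sub

section main
open Pretriangulated
variable [HasZeroObject D] [HasShift D ℤ] [∀ n : ℤ, (shiftFunctor D n).Additive] [Pretriangulated D]
  (n : ℕ → ℕ) (hn : StrictMono n) [HasCoproduct (fun i : ℕ => F.obj (n i))]

theorem main (L : D) (ι : ∀ m : ℕ, F.obj m ⟶ L)
    (hL : DerLim.IsHocolim (fun m : ℕ => F.obj m) (fun m : ℕ => F.map (homOfLE (Nat.le_succ m))) L ι)
    (L' : D) (ι' : ∀ i : ℕ, F.obj (n i) ⟶ L')
    (hL' : DerLim.IsHocolim (fun i : ℕ => F.obj (n i))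
      (fun i : ℕ => F.map (homOfLE (hn.monotone (Nat.le_succ i)))) L' ι') :
    ∃ e : L' ≅ L, ∀ i : ℕ, ι' i ≫ e.hom = ι (n i) := by
  obtain ⟨c, hc⟩ := hL
  obtain ⟨c', hc'⟩ := hL'
  obtain ⟨e, he⟩ : ∃ e : L' ≅ L, Sigma.desc ι' ≫ e.hom = a F n ≫ Sigma.desc ι :=
    TriHtpy.exists_iso _ _ hc hc' (b F n) (a F n) (p F n hn) (r F n hn)
      (hh F n hn) 0 (c1 F n hn) (c2 F n hn)
      ((sub_eq_zero.2 (e1 F n hn)).trans comp_zero.symm)
      ((sub_eq_zero.2 (e2 F n hn)).trans zero_comp.symm) (e3 F n hn) (e4 F n hn)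
  refine ⟨e, fun i => ?_⟩
  have h1 : ιS' F n i ≫ Sigma.desc ι' ≫ e.hom = ιS' F n i ≫ a F n ≫ Sigma.desc ι := by rw [he]
  rw [Sigma.ι_desc_assoc] at h1
  rw [h1]
  unfold a
  rw [Sigma.ι_desc_assoc, Sigma.ι_desc]

end main

end Groth.Agent.Helper1.HocolimSub
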