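import Mathlib
import Groth.Agent.Helper1.HomCompl4

/-!
# HomCompl5: maps of completions when one of the modules is killed by a power of `I`
-/

set_option autoImplicit false
set_option linter.style.haveILetI false
set_option linter.unusedSectionVars false

universe u

open CategoryTheory CategoryTheory.Limits AlgebraicGeometry Opposite

namespace Groth.Agent.Helper1.HomCompl

open Groth.Agent.Helper1.Form Groth.Agent.Helper1.LimProp Groth.Agent.Lead
open Groth.Agent.Helper1.QuotPush Groth.Agent.Helper4 Groth.Agent.Helper1.KLQuot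

variable {A : Type u} [CommRing A] {X : Scheme.{u}} [X.Over (Spec (CommRingCat.of A))]

/-- if `G` is killed by a power of `I` then the system `(G/I^k G)` is eventually constant -/
theorem limProp_of_killedBy (I : Ideal A) (c : ℕ) (G : X.Modules)
    (hG : Formal.KilledBy (I ^ c) G) (S : X.Modules) : LimProp S (modSys I G) := by
  have hiso : ∀ k, c ≤ k + 1 → IsIso ((modSys I G).r k) := fun k hk =>
    (isQuot_modPowπ I (k + 1) G).isIso_of_killedBy
      (killedBy_mono (Ideal.pow_le_pow_right hk) hG)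
  haveI := hiso c (by omega)
  rw [limProp_iff]
  constructor
  · intro φ φ' h
    rw [← cancel_mono ((modSys I G).r c)]
    exact h c
  · intro t ht
    refine ⟨t c ≫ inv ((modSys I G).r c), fun k => ?_⟩
    rcases le_total k c with hk | hk
    · rw [← (modSys I G).r_tr hk, Category.assoc, IsIso.inv_hom_id_assoc, ht.tr]
    · haveI := hiso k (by omega)
      haveI : IsIso ((modSys I G).tr hk) :=
        IsIso.of_isIso_fac_left ((modSys I G).r_tr hk)
      rw [← cancel_mono ((modSys I G).tr hk), Category.assoc, Category.assoc,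
        (modSys I G).r_tr, IsIso.inv_hom_id, Category.comp_id, ht.tr]

/-- the sheaf Hom out of a module killed by `J` is killed by `J` -/
lemma killedBy_homSh_of_left [IsLocallyNoetherian X] {J : Ideal A} (F G : X.Modules)
    (hF : Coh.IsCoh F) [G.IsQuasicoherent] (h : Formal.KilledBy J F) :
    Formal.KilledBy J (RefHull.homSh F G) := by
  intro a ha
  haveI := hF.1
  haveI := isQuasicoherent_homSh' F hF G
  apply QcohLocal.eq_zero_of_app_eq_zero_of_affine_cover
  intro x
  obtain ⟨U, hU, hx⟩ := QcohLimits.exists_affine_nhd x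
  refine ⟨U, hU, hx, fun z => ?_⟩
  show ρ (A := A) U a • z = 0
  apply HomShE.toLinₗ_injective F G hU
  rw [map_smul, map_zero]
  apply LinearMap.ext
  intro m
  rw [LinearMap.smul_apply, ← LinearMap.map_smul]
  have h1 : ρ (A := A) U a • m = 0 :=
    congrArg (fun f => Scheme.Modules.Hom.app f U m) (h a ha)
  rw [h1, map_zero]
  rfl

/-- on a Noetherian scheme, quotients by powers of an ideal are quotients by powers of a finitely
generated subideal -/
theorem exists_fg_le [IsNoetherian X] (I : Ideal A) : ∃ I₀ : Ideal A, I₀ ≤ I ∧ I₀.FG ∧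
    ∀ (n : ℕ) (P : X.Modules) [P.IsQuasicoherent], IsQuot (I ^ n) (Formal.modPowπ I₀ n P) := by
  classical
  obtain ⟨s, hs⟩ := exists_finite_affine_cover (X := X)
  have h1 : ∀ U : X.affineOpens, ∃ S : Finset A, (↑S : Set A) ⊆ (I : Set A) ∧
      Ideal.span (ρ (A := A) U.1 '' (↑S : Set A)) = I.map (ρ (A := A) U.1) := by
    intro U
    haveI : IsNoetherianRing Γ(X, U.1) := IsLocallyNoetherian.component_noetherian U
    have hfg : (Submodule.span Γ(X, U.1) (ρ (A := A) U.1 '' (I : Set A))).FG :=
      IsNoetherian.noetherian _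
    obtain ⟨T, hT1, hT2⟩ := (Submodule.fg_span_iff_fg_span_finset_subset _).1 hfg
    obtain ⟨S, hS1, hS2⟩ := Finset.subset_set_image_iff.1 hT1
    refine ⟨S, hS1, ?_⟩
    rw [← Finset.coe_image, hS2]
    exact hT2.symm
  choose Sf hSf1 hSf2 using h1
  have hle : Ideal.span (↑(s.biUnion Sf) : Set A) ≤ I := by
    apply Ideal.span_le.2
    intro a ha
    obtain ⟨U, -, haU⟩ := Finset.mem_biUnion.1 ha
    exact hSf1 U haU
  have hmap : ∀ U ∈ s, (Ideal.span (↑(s.biUnion Sf) : Set A)).map (ρ (A := A) U.1) =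
      I.map (ρ (A := A) U.1) := by
    intro U hU
    apply le_antisymm (Ideal.map_mono hle)
    rw [← hSf2 U]
    apply Ideal.span_le.2
    rintro _ ⟨a, ha, rfl⟩
    exact Ideal.mem_map_of_mem _ (Ideal.subset_span (Finset.mem_biUnion.2 ⟨U, hU, ha⟩))
  refine ⟨Ideal.span (↑(s.biUnion Sf) : Set A), hle, ⟨s.biUnion Sf, rfl⟩, fun n P _ => ?_⟩
  refine ⟨(isQuot_modPowπ _ n P).epi, ?_, ?_⟩
  · intro a ha
    apply QcohLocal.eq_zero_of_app_eq_zero_of_affine_cover
    intro x
    obtain ⟨U, hUs, hxU⟩ := hs x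
    refine ⟨U.1, U.2, hxU, fun m => ?_⟩
    show (Formal.modPowπ _ n P).app U.1 (ρ (A := A) U.1 a • m) = 0
    apply KLQuot.app_eq_zero_of_mem_smul_top (isQuot_modPowπ _ n P).kills U.1
    refine Submodule.smul_mem_smul ?_ Submodule.mem_top
    rw [Ideal.map_pow, hmap U hUs, ← Ideal.map_pow]
    exact Ideal.mem_map_of_mem _ ha
  · intro Z f hf
    exact (isQuot_modPowπ _ n P).fac f (hf.mono (Ideal.pow_right_mono hle n))

/-- comparing the systems of two ideals with the same quotients -/
theorem limProp_of_isQuot (I I₀ : Ideal A) (G : X.Modules)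
    (hq : ∀ n, IsQuot (I ^ n) (Formal.modPowπ I₀ n G)) (S : X.Modules)
    (h : LimProp S (modSys I₀ G)) : LimProp S (modSys I G) := by
  refine LimProp.of_iso_target (Y := modSys I₀ G) (Y' := modSys I G) (Iso.refl G)
    (fun k => (hq (k + 1)).iso (isQuot_modPowπ I (k + 1) G)) (fun k => ?_) (fun k => ?_) h
  · exact ((hq (k + 1)).fac_iso_hom (isQuot_modPowπ I (k + 1) G)).trans (Category.id_comp _).symm
  · apply (hq (k + 1 + 1)).hom_ext
    have h1 : Formal.modPowπ I₀ (k + 1 + 1) G ≫ Formal.modPowTrans I₀ (k + 1) G ≫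
        ((hq (k + 1)).iso (isQuot_modPowπ I (k + 1) G)).hom = Formal.modPowπ I (k + 1) G := by
      rw [← Category.assoc, Formal.modPowπ_trans]
      exact (hq (k + 1)).fac_iso_hom (isQuot_modPowπ I (k + 1) G)
    have h2 : Formal.modPowπ I₀ (k + 1 + 1) G ≫
        ((hq (k + 1 + 1)).iso (isQuot_modPowπ I (k + 1 + 1) G)).hom ≫
          Formal.modPowTrans I (k + 1) G = Formal.modPowπ I (k + 1) G := by
      rw [← Category.assoc, (hq (k + 1 + 1)).fac_iso_hom (isQuot_modPowπ I (k + 1 + 1) G),
        Formal.modPowπ_trans]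
    exact h1.trans h2.symm

/-- **maps of completions when one of the two coherent modules is killed by a power of `I`** -/
theorem main_killed [IsNoetherian X] (I : Ideal A) (F G : X.Modules) (hF : Coh.IsCoh F)
    (hG : Coh.IsCoh G)
    (hc : ∃ c : ℕ, Formal.KilledBy (I ^ c) F ∨ Formal.KilledBy (I ^ c) G)
    (ψ : Formal.completion I F ⟶ Formal.completion I G) :
    ∃! φ : F ⟶ G, ∀ n : ℕ,
      Formal.modPowπ I (n + 1) F ≫ ψ.app (op n) = φ ≫ Formal.modPowπ I (n + 1) G := by
  obtain ⟨c, hc | hc⟩ := hc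
  · obtain ⟨I₀, hle, hfg, hq⟩ := exists_fg_le (X := X) I
    haveI := hG.1
    have hH : Formal.KilledBy (I₀ ^ c) (RefHull.homSh F G) :=
      killedBy_homSh_of_left F G hF (killedBy_mono (Ideal.pow_right_mono hle c) hc)
    have h1 := limProp_of_killedBy I₀ c (RefHull.homSh F G) hH (Coh.structureModule X)
    have h2 := limProp_of_unit I₀ hfg F G hF hG h1
    have h3 := limProp_of_isQuot I I₀ G (fun n => hq n G) F h2
    exact existsUnique_of_limProp I F G h3 ψ
  · exact existsUnique_of_limProp I F G (limProp_of_killedBy I c G hc F) ψ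

end Groth.Agent.Helper1.HomCompl
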