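import Mathlib
import Groth.Agent.Lead.FLFDual2
import Groth.Agent.Lead.Ref1B

/-!
# HomDual2: `F ⊗ E` is coherent and flat over the base, for `E` finite locally free
-/

set_option autoImplicit false
set_option linter.style.haveILetI false
set_option linter.unusedSectionVars false

universe u

open CategoryTheory CategoryTheory.Limits AlgebraicGeometry Opposite TensorProduct

namespace Groth.Agent.Helper1.HomDual

section Ring

variable (R S : Type*) [CommRing R] [CommRing S] [Algebra R S]
  (M N P : Type*) [AddCommGroup M] [Module S M] [Module R M] [IsScalarTower R S M]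
  [AddCommGroup N] [Module S N] [Module.Free S N]
  [AddCommGroup P] [Module S P] [Module R P] [IsScalarTower R S P]

/-- if `M` is `R`-flat and `N` is `S`-free, then `M ⊗_S N` is `R`-flat -/
theorem flat_of_linearEquiv_tensor_free (e : M ⊗[S] N ≃ₗ[S] P) [Module.Flat R M] :
    Module.Flat R P := by
  classical
  let b := Module.Free.chooseBasis S N
  let e1 : M ⊗[S] N ≃ₗ[S] M ⊗[S] (Module.Free.ChooseBasisIndex S N →₀ S) :=
    TensorProduct.congr (LinearEquiv.refl S M) b.repr
  let e2 : M ⊗[S] (Module.Free.ChooseBasisIndex S N →₀ S) ≃ₗ[S]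
      (Module.Free.ChooseBasisIndex S N →₀ M) :=
    TensorProduct.finsuppScalarRight S S M _
  let e3 : P ≃ₗ[S] (Module.Free.ChooseBasisIndex S N →₀ M) := e.symm ≪≫ₗ e1 ≪≫ₗ e2
  let e4 : P ≃ₗ[R] (Module.Free.ChooseBasisIndex S N →₀ M) := e3.restrictScalars R
  haveI : Module.Flat R (Module.Free.ChooseBasisIndex S N →₀ M) :=
    Module.Flat.of_linearEquiv (finsuppLEquivDirectSum R M _)
  exact Module.Flat.of_linearEquiv e4

end Ring

variable {X S : Scheme.{u}}

theorem isCoh_of_isFinLocFree (E : X.Modules) (hE : FlatMod.IsFinLocFree E) : Coh.IsCoh E := by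
  haveI := Groth.Agent.Helper4.FinLocFree4.isQuasicoherent_of_isFinLocFree E hE
  exact ⟨inferInstance, Groth.Agent.Helper4.FinLocFree2.isFiniteType_of_isFinitePresentation E
    (Groth.Agent.Helper4.FinLocFree2.isFinitePresentation_of_isFinLocFree E hE)⟩

theorem isCoh_tensor_dual (F E : X.Modules) (hF : Coh.IsCoh F) (hE : FlatMod.IsFinLocFree E) :
    Coh.IsCoh (CohB1.tensorMod F (RefHull.dual E)) :=
  Groth.Agent.Lead.Ref1B.isCoh_tensorMod F _ hF
    (isCoh_of_isFinLocFree _ (Groth.Agent.Lead.FLFDual.isFinLocFree_dual E hE))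

/-- tensoring with a finite locally free module preserves flatness over the base -/
theorem isFlatOver_tensor_finLocFree (f : X ⟶ S) (F E : X.Modules)
    (hfl : FlatMod.IsFlatOver f F) (hE : FlatMod.IsFinLocFree E) :
    FlatMod.IsFlatOver f (CohB1.tensorMod F E) := by
  intro x
  haveI := Groth.Agent.Helper4.FinLocFree4.isQuasicoherent_of_isFinLocFree E hE
  haveI : Module.Free (X.presheaf.stalk x) (E.presheaf.stalk x) :=
    Groth.Agent.Helper4.FinLocFree2.free_stalk_of_isFinLocFree E hE x
  letI : Algebra (S.presheaf.stalk (f.base x)) (X.presheaf.stalk x) := (f.stalkMap x).hom.toAlgebra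
  letI := FlatMod.moduleStalkOver f F x
  letI := FlatMod.moduleStalkOver f (CohB1.tensorMod F E) x
  haveI : IsScalarTower (S.presheaf.stalk (f.base x)) (X.presheaf.stalk x)
      (F.presheaf.stalk x) := IsScalarTower.of_algebraMap_smul fun r m => rfl
  haveI : IsScalarTower (S.presheaf.stalk (f.base x)) (X.presheaf.stalk x)
      ((CohB1.tensorMod F E).presheaf.stalk x) := IsScalarTower.of_algebraMap_smul fun r m => rfl
  haveI : Module.Flat (S.presheaf.stalk (f.base x)) (F.presheaf.stalk x) := hfl x
  exact flat_of_linearEquiv_tensor_free (S.presheaf.stalk (f.base x)) (X.presheaf.stalk x)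
    (F.presheaf.stalk x) (E.presheaf.stalk x) ((CohB1.tensorMod F E).presheaf.stalk x)
    (Groth.Agent.Lead.Ref1B.stalkTensorEquiv F E x)

end Groth.Agent.Helper1.HomDual
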