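import Mathlib

/-!
# HomDual3: functors which are kernels of isomorphic maps are isomorphic (abelian-group valued)
-/

set_option autoImplicit false

universe u v w

open CategoryTheory

namespace Groth.Agent.Helper1.HomDual

section Abstract

variable {C : Type v} [Category.{w} C] {Φ Φ₀ Φ₁ Ψ Ψ₀ Ψ₁ : C ⥤ AddCommGrpCat.{u}}
  (a : Φ ⟶ Φ₀) (b : Φ₀ ⟶ Φ₁) (a' : Ψ ⟶ Ψ₀) (b' : Ψ₀ ⟶ Ψ₁)
  (ha : ∀ M, Function.Injective (a.app M).hom)
  (hab : ∀ M (x : Φ₀.obj M), (b.app M).hom x = 0 ↔ ∃ y, (a.app M).hom y = x)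
  (ha' : ∀ M, Function.Injective (a'.app M).hom)
  (hab' : ∀ M (x : Ψ₀.obj M), (b'.app M).hom x = 0 ↔ ∃ y, (a'.app M).hom y = x)
  (e₀ : Φ₀ ≅ Ψ₀)
  (hk : ∀ M (x : Φ₀.obj M),
    (b.app M).hom x = 0 ↔ (b'.app M).hom ((e₀.hom.app M).hom x) = 0)

include hab hab' hk in
lemma exists_lift (M : C) (y : Φ.obj M) :
    ∃ z : Ψ.obj M, (a'.app M).hom z = (e₀.hom.app M).hom ((a.app M).hom y) := by
  have h1 : (b.app M).hom ((a.app M).hom y) = 0 := (hab M _).2 ⟨y, rfl⟩
  exact (hab' M _).1 ((hk M _).1 h1)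

/-- the comparison map on components -/
noncomputable def cmpFun (M : C) (y : Φ.obj M) : Ψ.obj M :=
  (exists_lift a b a' b' hab hab' e₀ hk M y).choose

lemma cmpFun_spec (M : C) (y : Φ.obj M) :
    (a'.app M).hom (cmpFun a b a' b' hab hab' e₀ hk M y) =
      (e₀.hom.app M).hom ((a.app M).hom y) :=
  (exists_lift a b a' b' hab hab' e₀ hk M y).choose_spec

lemma e₀_injective (M : C) : Function.Injective (e₀.hom.app M).hom := by
  apply Function.LeftInverse.injective (g := (e₀.inv.app M).hom)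
  intro x
  have := congrArg (fun k => k.hom x) (e₀.hom_inv_id_app M)
  exact this

lemma e₀_inv_hom (M : C) (x : Ψ₀.obj M) :
    (e₀.hom.app M).hom ((e₀.inv.app M).hom x) = x := by
  have := congrArg (fun k => k.hom x) (e₀.inv_hom_id_app M)
  exact this

include ha' in
/-- the comparison map, additive -/
noncomputable def cmpHom (M : C) : Φ.obj M →+ Ψ.obj M where
  toFun := cmpFun a b a' b' hab hab' e₀ hk M
  map_zero' := by
    apply ha' M
    rw [cmpFun_spec, map_zero, map_zero, map_zero]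
  map_add' y y' := by
    apply ha' M
    rw [cmpFun_spec, map_add, map_add, map_add, cmpFun_spec, cmpFun_spec]

include ha in
lemma cmpHom_bijective (M : C) :
    Function.Bijective (cmpHom a b a' b' hab ha' hab' e₀ hk M) := by
  constructor
  · intro y y' h
    apply ha M
    apply e₀_injective e₀ M
    have h1 := cmpFun_spec a b a' b' hab hab' e₀ hk M y
    have h2 := cmpFun_spec a b a' b' hab hab' e₀ hk M y'
    have h3 : cmpFun a b a' b' hab hab' e₀ hk M y = cmpFun a b a' b' hab hab' e₀ hk M y' := h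
    rw [← h1, ← h2, h3]
  · intro z
    have h1 : (b'.app M).hom ((a'.app M).hom z) = 0 := (hab' M _).2 ⟨z, rfl⟩
    have h2 : (b.app M).hom ((e₀.inv.app M).hom ((a'.app M).hom z)) = 0 := by
      rw [hk, e₀_inv_hom]
      exact h1
    obtain ⟨y, hy⟩ := (hab M _).1 h2
    refine ⟨y, ?_⟩
    apply ha' M
    refine (cmpFun_spec a b a' b' hab hab' e₀ hk M y).trans ?_
    rw [hy, e₀_inv_hom]

include ha hab ha' hab' hk in
/-- **kernels of isomorphic maps are isomorphic** -/
theorem nonempty_iso_of_kernels : Nonempty (Φ ≅ Ψ) := by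
  refine ⟨NatIso.ofComponents (fun M => (AddEquiv.ofBijective
    (cmpHom a b a' b' hab ha' hab' e₀ hk M)
    (cmpHom_bijective a b a' b' ha hab ha' hab' e₀ hk M)).toAddCommGrpIso) ?_⟩
  intro M N g
  apply AddCommGrpCat.hom_ext
  apply AddMonoidHom.ext
  intro y
  show cmpFun a b a' b' hab hab' e₀ hk N ((Φ.map g).hom y) =
    (Ψ.map g).hom (cmpFun a b a' b' hab hab' e₀ hk M y)
  apply ha' N
  rw [cmpFun_spec]
  have n1 : (a.app N).hom ((Φ.map g).hom y) = (Φ₀.map g).hom ((a.app M).hom y) := by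
    have := congrArg (fun k => k.hom y) (a.naturality g)
    exact this
  have n2 : ∀ x, (e₀.hom.app N).hom ((Φ₀.map g).hom x) = (Ψ₀.map g).hom ((e₀.hom.app M).hom x) := by
    intro x
    have := congrArg (fun k => k.hom x) (e₀.hom.naturality g)
    exact this
  have n3 : ∀ z, (a'.app N).hom ((Ψ.map g).hom z) = (Ψ₀.map g).hom ((a'.app M).hom z) := by
    intro z
    have := congrArg (fun k => k.hom z) (a'.naturality g)
    exact this
  rw [n1, n2, n3, cmpFun_spec]

end Abstract

end Groth.Agent.Helper1.HomDual
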