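import Mathlib
import Groth.Agent.Helper1.HomDual1
import Groth.Agent.Helper1.HomDual2
import Groth.Agent.Helper1.HomDual3
import Groth.Agent.S2436

/-!
# HomDual4: `M ↦ Hom(G, f^*(M~) ⊗ F)` is corepresentable for `G` with a finite locally free
presentation
-/

set_option autoImplicit false
set_option linter.style.haveILetI false
set_option linter.unusedSectionVars false

universe u

open CategoryTheory CategoryTheory.Limits AlgebraicGeometry Opposite

namespace Groth.Agent.Helper1.HomDual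

section Yoneda

variable {A : Type u} [CommRing A] {Q₀ Q₁ : ModuleCat.{u} A}

/-- the functor `Hom_A(Q, -)` with values in abelian groups -/
noncomputable abbrev coy (Q : ModuleCat.{u} A) : ModuleCat.{u} A ⥤ AddCommGrpCat.{u} :=
  (linearCoyoneda A (ModuleCat.{u} A)).obj (op Q) ⋙ forget₂ (ModuleCat.{u} A) AddCommGrpCat.{u}

/-- precomposition -/
noncomputable abbrev coyMap {Q Q' : ModuleCat.{u} A} (q : Q' ⟶ Q) : coy Q ⟶ coy Q' :=
  Functor.whiskerRight ((linearCoyoneda A (ModuleCat.{u} A)).map q.op)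
    (forget₂ (ModuleCat.{u} A) AddCommGrpCat.{u})

lemma coyMap_apply {Q Q' : ModuleCat.{u} A} (q : Q' ⟶ Q) (M : ModuleCat.{u} A) (g : Q ⟶ M) :
    ((coyMap q).app M).hom (show (coy Q).obj M from g) = (q ≫ g : Q' ⟶ M) := rfl

/-- Yoneda for additive natural transformations -/
lemma yoneda_add (β : coy Q₀ ⟶ coy Q₁) (M : ModuleCat.{u} A) (g : Q₀ ⟶ M) :
    (β.app M).hom (show (coy Q₀).obj M from g) =
      (((β.app Q₀).hom (show (coy Q₀).obj Q₀ from 𝟙 Q₀) : Q₁ ⟶ Q₀) ≫ g : Q₁ ⟶ M) := by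
  have h := congrArg (fun k => k.hom (show (coy Q₀).obj Q₀ from 𝟙 Q₀)) (β.naturality g)
  have h1 : ((coy Q₀).map g).hom (show (coy Q₀).obj Q₀ from 𝟙 Q₀) =
      (show (coy Q₀).obj M from g) := by
    show (𝟙 Q₀ ≫ g : Q₀ ⟶ M) = g
    rw [Category.id_comp]
  simp only [AddCommGrpCat.hom_comp, AddMonoidHom.coe_comp, Function.comp_apply] at h
  rw [h1] at h
  exact h

end Yoneda

section Aux

variable {A : Type u} [CommRing A] {X : Scheme.{u}}

theorem corep_aux (T : ModuleCat.{u} A ⥤ X.Modules) (G E₀ E₁ : X.Modules)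
    (v : E₁ ⟶ E₀) (π : E₀ ⟶ G) [Epi π] (w : v ≫ π = 0) (hex : (ShortComplex.mk v π w).Exact)
    (Q₀ Q₁ : ModuleCat.{u} A) [Module.Finite A Q₀]
    (e₀ : T ⋙ preadditiveCoyoneda.obj (op E₀) ≅ coy Q₀)
    (e₁ : T ⋙ preadditiveCoyoneda.obj (op E₁) ≅ coy Q₁) :
    ∃ N : ModuleCat.{u} A, Module.Finite A N ∧
      Nonempty (T ⋙ preadditiveCoyoneda.obj (op G) ≅ coy N) := by
  classical
  let a : T ⋙ preadditiveCoyoneda.obj (op G) ⟶ T ⋙ preadditiveCoyoneda.obj (op E₀) :=
    Functor.whiskerLeft T (preadditiveCoyoneda.map π.op)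
  let b : T ⋙ preadditiveCoyoneda.obj (op E₀) ⟶ T ⋙ preadditiveCoyoneda.obj (op E₁) :=
    Functor.whiskerLeft T (preadditiveCoyoneda.map v.op)
  obtain ⟨β, hβdef⟩ : ∃ β : coy Q₀ ⟶ coy Q₁, β = e₀.inv ≫ b ≫ e₁.hom := ⟨_, rfl⟩
  obtain ⟨q, hqdef⟩ : ∃ q : Q₁ ⟶ Q₀, q = (β.app Q₀).hom (show (coy Q₀).obj Q₀ from 𝟙 Q₀) :=
    ⟨_, rfl⟩
  have hβ : ∀ (M : ModuleCat.{u} A) (g : Q₀ ⟶ M),
      (β.app M).hom (show (coy Q₀).obj M from g) = (q ≫ g : Q₁ ⟶ M) := by
    intro M g
    rw [hqdef]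
    exact yoneda_add β M g
  let N : ModuleCat.{u} A := ModuleCat.of A (Q₀ ⧸ LinearMap.range q.hom)
  let πN : Q₀ ⟶ N := ModuleCat.ofHom (LinearMap.range q.hom).mkQ
  have hqπ : q ≫ πN = 0 := by
    ext x
    show (LinearMap.range q.hom).mkQ (q.hom x) = 0
    rw [Submodule.mkQ_apply, Submodule.Quotient.mk_eq_zero]
    exact ⟨x, rfl⟩
  haveI : Epi πN := (ModuleCat.epi_iff_surjective _).mpr (Submodule.mkQ_surjective _)
  refine ⟨N, ?_, ?_⟩
  · show Module.Finite A (Q₀ ⧸ LinearMap.range q.hom)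
    infer_instance
  · refine nonempty_iso_of_kernels a b (coyMap πN) (coyMap q) ?_ ?_ ?_ ?_ e₀ ?_
    · -- `a` injective
      intro M (x : G ⟶ T.obj M) (x' : G ⟶ T.obj M) h
      have h' : (π ≫ x : E₀ ⟶ T.obj M) = π ≫ x' := h
      exact (cancel_epi π).mp h'
    · -- exactness at `E₀`
      intro M (x : E₀ ⟶ T.obj M)
      constructor
      · intro h
        have h' : (v ≫ x : E₁ ⟶ T.obj M) = 0 := h
        exact ⟨hex.desc x h', hex.g_desc x h'⟩
      · rintro ⟨(y : G ⟶ T.obj M), rfl⟩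
        show (v ≫ π ≫ y : E₁ ⟶ T.obj M) = 0
        rw [← Category.assoc, w, zero_comp]
    · -- `a'` injective
      intro M (y : N ⟶ M) (y' : N ⟶ M) h
      have h' : (πN ≫ y : Q₀ ⟶ M) = πN ≫ y' := h
      exact (cancel_epi πN).mp h'
    · -- exactness at `Q₀`
      intro M (g : Q₀ ⟶ M)
      constructor
      · intro h
        have h' : (q ≫ g : Q₁ ⟶ M) = 0 := h
        have hle : LinearMap.range q.hom ≤ LinearMap.ker g.hom := by
          rintro _ ⟨z, rfl⟩
          exact congrArg (fun k => ModuleCat.Hom.hom k z) h'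
        let y : N ⟶ M := ModuleCat.ofHom ((LinearMap.range q.hom).liftQ g.hom hle)
        refine ⟨y, ?_⟩
        show (πN ≫ y : Q₀ ⟶ M) = g
        apply ModuleCat.hom_ext
        apply LinearMap.ext
        intro z
        exact Submodule.liftQ_apply (LinearMap.range q.hom) (h := hle) g.hom z
      · rintro ⟨(y : N ⟶ M), rfl⟩
        show (q ≫ πN ≫ y : Q₁ ⟶ M) = 0
        rw [← Category.assoc, hqπ, zero_comp]
    · -- compatibility of the kernels
      intro M x
      have h1 : ((coyMap q).app M).hom ((e₀.hom.app M).hom x) =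
          (e₁.hom.app M).hom ((b.app M).hom x) := by
        have h2 : ((coyMap q).app M).hom ((e₀.hom.app M).hom x) =
            (β.app M).hom ((e₀.hom.app M).hom x) :=
          (coyMap_apply q M ((e₀.hom.app M).hom x)).trans (hβ M ((e₀.hom.app M).hom x)).symm
        rw [h2, hβdef]
        show (e₁.hom.app M).hom ((b.app M).hom ((e₀.inv.app M).hom ((e₀.hom.app M).hom x))) = _
        have h3 : (e₀.inv.app M).hom ((e₀.hom.app M).hom x) = x := by
          have := congrArg (fun k => k.hom x) (e₀.hom_inv_id_app M)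
          exact this
        rw [h3]
      rw [h1]
      constructor
      · intro h
        rw [h, map_zero]
      · intro h
        apply e₀_injective e₁ M
        rw [h, map_zero]

end Aux

variable (A : Type u) [CommRing A] [IsNoetherianRing A]
  (X : Scheme.{u}) [X.Over (Spec (CommRingCat.of A))] [IsProper (X ↘ Spec (CommRingCat.of A))]

theorem corep (F : X.Modules) (hF : Coh.IsCoh F)
    (hfl : FlatMod.IsFlatOver (X ↘ Spec (CommRingCat.of A)) F)
    (G E₀ E₁ : X.Modules) (h₀ : FlatMod.IsFinLocFree E₀) (h₁ : FlatMod.IsFinLocFree E₁)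
    (v : E₁ ⟶ E₀) (π : E₀ ⟶ G) [Epi π] (w : v ≫ π = 0) (hex : (ShortComplex.mk v π w).Exact) :
    ∃ N : ModuleCat.{u} A, Module.Finite A N ∧
      Nonempty (CohIII.tensorAFunctor A F ⋙ preadditiveCoyoneda.obj (op G) ≅
        (linearCoyoneda A (ModuleCat.{u} A)).obj (op N) ⋙
          forget₂ (ModuleCat.{u} A) AddCommGrpCat.{u}) := by
  obtain ⟨Q₀, hQ₀, ⟨ε₀⟩⟩ := Groth.Agent.S2436.result A X (CohB1.tensorMod F (RefHull.dual E₀))
    (isCoh_tensor_dual F E₀ hF h₀)
    (isFlatOver_tensor_finLocFree _ F _ hfl (Groth.Agent.Lead.FLFDual.isFinLocFree_dual E₀ h₀))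
  obtain ⟨Q₁, -, ⟨ε₁⟩⟩ := Groth.Agent.S2436.result A X (CohB1.tensorMod F (RefHull.dual E₁))
    (isCoh_tensor_dual F E₁ hF h₁)
    (isFlatOver_tensor_finLocFree _ F _ hfl (Groth.Agent.Lead.FLFDual.isFinLocFree_dual E₁ h₁))
  exact corep_aux (CohIII.tensorAFunctor A F) G E₀ E₁ v π w hex Q₀ Q₁
    (homTensorIso A F E₀ h₀ ≪≫ Functor.isoWhiskerRight ε₀ _)
    (homTensorIso A F E₁ h₁ ≪≫ Functor.isoWhiskerRight ε₁ _)

end Groth.Agent.Helper1.HomDual
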