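import Mathlib
import Groth.Prelude.Def_Dual3
import Groth.Agent.Lead.SheafHomAdj
import Groth.Agent.Lead.HomShD
import Groth.Agent.Helper9.ClImmPF2
import Groth.Agent.Helper4.FPGlue
import Groth.Agent.Helper4.FinLocFree6
import Groth.Agent.Helper4.QcohLimits
import Groth.Agent.Helper4.SN182

/-!
# `i_* Hom(O_Z, F) ≅ 𝓗om(i_* O_Z, F)` for a closed immersion, and its quasi-coherence
-/

set_option autoImplicit false
set_option linter.style.haveILetI false
set_option linter.unusedSectionVars false

universe u

open CategoryTheory CategoryTheory.Limits AlgebraicGeometry TopologicalSpace Opposite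

namespace Groth.Agent.Helper1.HomOQC

variable {Z X : Scheme.{u}}

/-- naturality of the left unitor of the tensor product of modules -/
theorem unitorL_natural {A B : Z.Modules} (φ : A ⟶ B) :
    (DCoh.tensorBi.obj (Coh.structureModule Z)).map φ ≫
        (Groth.Agent.Helper4.AmpleBasis.unitorL B).hom =
      (Groth.Agent.Helper4.AmpleBasis.unitorL A).hom ≫ φ := by
  rw [KoszTw.tensorBi_obj_map]
  apply Groth.Agent.Helper4.TensorLift.hom_ext
  intro V c a
  have h1 : (KoszTw.tensorMap (𝟙 (Coh.structureModule Z)) φ ≫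
      (Groth.Agent.Helper4.AmpleBasis.unitorL B).hom).app V
        (SecTwist.tmul (Coh.structureModule Z) A V c a) =
      (Groth.Agent.Helper4.AmpleBasis.unitorL B).hom.app V
        ((KoszTw.tensorMap (𝟙 (Coh.structureModule Z)) φ).app V
          (SecTwist.tmul (Coh.structureModule Z) A V c a)) := rfl
  have h2 : ((Groth.Agent.Helper4.AmpleBasis.unitorL A).hom ≫ φ).app V
        (SecTwist.tmul (Coh.structureModule Z) A V c a) =
      φ.app V ((Groth.Agent.Helper4.AmpleBasis.unitorL A).hom.app V
          (SecTwist.tmul (Coh.structureModule Z) A V c a)) := rfl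
  refine (h1.trans ?_).trans h2.symm
  rw [KoszTw.tensorMap_tmul, Groth.Agent.Helper4.SN.unitorL_tmul,
    Groth.Agent.Helper4.SN.unitorL_tmul, Scheme.Modules.Hom.app_smul]
  rfl

/-- the left unitor as a natural isomorphism -/
noncomputable def unitorNat : DCoh.tensorBi.obj (Coh.structureModule Z) ≅ 𝟭 Z.Modules :=
  NatIso.ofComponents (fun A => Groth.Agent.Helper4.AmpleBasis.unitorL A)
    (fun φ => unitorL_natural φ)

variable (i : Z ⟶ X) [IsClosedImmersion i]

/-- `i_* O_Z` -/
noncomputable abbrev P : X.Modules := (Scheme.Modules.pushforward i).obj (Coh.structureModule Z)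

/-- the projection formula: `i_* O_Z ⊗ - ≅ i_* i^*` -/
noncomputable def leftIso :
    DCoh.tensorBi.obj (P i) ≅ Scheme.Modules.pullback i ⋙ Scheme.Modules.pushforward i :=
  (show DCoh.tensorBi.obj (P i) ≅
      Scheme.Modules.pullback i ⋙ DCoh.tensorBi.obj (Coh.structureModule Z) ⋙
        Scheme.Modules.pushforward i from
    (Groth.Agent.Helper9.ClImmPF2.biIso i).app (Coh.structureModule Z)) ≪≫
  Functor.isoWhiskerLeft (Scheme.Modules.pullback i)
    (Functor.isoWhiskerRight unitorNat (Scheme.Modules.pushforward i) ≪≫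
      Functor.leftUnitor _)

/-- `i_* Hom(O_Z, -) ≅ 𝓗om(i_* O_Z, -)` -/
noncomputable def rightIso [Dual3.HasHomO i] :
    Groth.Agent.Lead.SheafHomAdj.homFunctor (P i) ≅
      Dual3.homO i ⋙ Scheme.Modules.pushforward i :=
  ((Groth.Agent.Lead.SheafHomAdj.adj (P i)).ofNatIsoLeft (leftIso i)).rightAdjointUniq
    ((Scheme.Modules.pullbackPushforwardAdjunction i).comp (Dual3.homOAdj i))

theorem isFP_P [LocallyOfFinitePresentation i] :
    SheafOfModules.IsFinitePresentation (R := X.ringCatSheaf) (P i) :=
  Groth.Agent.Helper4.FPGlue.isFinitePresentation_pushforward_of_isFinite i _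
    Groth.Agent.Helper4.FinLocFree6.isFinitePresentation_unit

theorem isQCoh_push_homO [LocallyOfFinitePresentation i] [Dual3.HasHomO i]
    (F : X.Modules) [Coh.IsQCoh F] :
    Coh.IsQCoh ((Scheme.Modules.pushforward i).obj ((Dual3.homO i).obj F)) := by
  haveI : ((Groth.Agent.Lead.SheafHomAdj.homFunctor (P i)).obj F).IsQuasicoherent :=
    Groth.Agent.Lead.HomShD.isQuasicoherent_homSh (P i) F (isFP_P i)
  exact Groth.Agent.Helper4.QcohLimits.isQuasicoherent_of_iso ((rightIso i).app F)

end Groth.Agent.Helper1.HomOQC
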