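import Mathlib
import Groth.Agent.Helper1.HomOQC
import Groth.Agent.Helper1.PF2

/-!
# Helper1: the counit `i_* Hom(O_Z, F) ⟶ F` of a closed immersion is "evaluation at `1`"
under `i_* Hom(O_Z, F) ≅ 𝓗om(i_* O_Z, F)`
-/

set_option autoImplicit false
set_option linter.style.haveILetI false
set_option linter.unusedSectionVars false

universe u

open CategoryTheory CategoryTheory.Limits AlgebraicGeometry TopologicalSpace Opposite

namespace Groth.Agent.Helper1.HomOSec

open Groth.Agent.Helper1.HomOQC Groth.Agent.Lead.SheafHomAdj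

variable {Z X : Scheme.{u}} (i : Z ⟶ X) [IsClosedImmersion i]

/-- evaluation at `1`: `𝓗om(i_* O_Z, F) ⟶ F` -/
noncomputable def ev1 (F : X.Modules) : (homFunctor (P i)).obj F ⟶ F :=
  (Scheme.Modules.pullbackPushforwardAdjunction i).unit.app ((homFunctor (P i)).obj F) ≫
    (leftIso i).inv.app ((homFunctor (P i)).obj F) ≫ (adj (P i)).counit.app F

theorem counit_eq [Dual3.HasHomO i] (F : X.Modules) :
    (Dual3.homOAdj i).counit.app F = (rightIso i).inv.app F ≫ ev1 i F := by
  set adjA := (adj (P i)).ofNatIsoLeft (leftIso i) with hA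
  set adjB := (Scheme.Modules.pullbackPushforwardAdjunction i).comp (Dual3.homOAdj i) with hB
  have h1 : (Scheme.Modules.pullback i ⋙ Scheme.Modules.pushforward i).map
      ((rightIso i).hom.app F) ≫ adjB.counit.app F = adjA.counit.app F :=
    Adjunction.rightAdjointUniq_hom_app_counit adjA adjB F
  have h2 : adjB.counit.app F = (Scheme.Modules.pullback i ⋙ Scheme.Modules.pushforward i).map
      ((rightIso i).inv.app F) ≫ adjA.counit.app F := by
    rw [← h1, ← Category.assoc, ← Functor.map_comp, ← NatTrans.comp_app, Iso.inv_hom_id,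
      NatTrans.id_app, CategoryTheory.Functor.map_id, Category.id_comp]
  have h3 : adjB.counit.app F = (Scheme.Modules.pushforward i).map
      ((Scheme.Modules.pullbackPushforwardAdjunction i).counit.app ((Dual3.homO i).obj F)) ≫
      (Dual3.homOAdj i).counit.app F := by
    rw [hB, Adjunction.comp_counit_app]
  have h4 : adjA.counit.app F = (leftIso i).inv.app ((homFunctor (P i)).obj F) ≫
      (adj (P i)).counit.app F := by
    rw [hA, Adjunction.ofNatIsoLeft_counit]
    rfl
  have h5 : (Scheme.Modules.pullbackPushforwardAdjunction i).unit.app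
      ((Scheme.Modules.pushforward i).obj ((Dual3.homO i).obj F)) ≫
      (Scheme.Modules.pushforward i).map
        ((Scheme.Modules.pullbackPushforwardAdjunction i).counit.app ((Dual3.homO i).obj F)) =
      𝟙 _ := (Scheme.Modules.pullbackPushforwardAdjunction i).right_triangle_components _
  have h6 := (Scheme.Modules.pullbackPushforwardAdjunction i).unit.naturality ((rightIso i).inv.app F)
  calc (Dual3.homOAdj i).counit.app F
      = ((Scheme.Modules.pullbackPushforwardAdjunction i).unit.app
          ((Scheme.Modules.pushforward i).obj ((Dual3.homO i).obj F)) ≫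
        (Scheme.Modules.pushforward i).map
          ((Scheme.Modules.pullbackPushforwardAdjunction i).counit.app ((Dual3.homO i).obj F))) ≫
        (Dual3.homOAdj i).counit.app F := by rw [h5, Category.id_comp]
    _ = (Scheme.Modules.pullbackPushforwardAdjunction i).unit.app
          ((Scheme.Modules.pushforward i).obj ((Dual3.homO i).obj F)) ≫ adjB.counit.app F := by
        rw [h3, Category.assoc]
    _ = _ := by
        rw [h2, h4]
        unfold ev1
        simp only [Functor.id_map] at h6
        rw [← Category.assoc, ← Category.assoc]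
        erw [← h6]
        simp only [Category.assoc]

/-- the unit section of `i_* O_Z` over `U` -/
noncomputable def one (U : X.Opens) : Γ(P i, U) :=
  (show Γ(Coh.structureModule Z, i ⁻¹ᵁ U) from (1 : Γ(Z, i ⁻¹ᵁ U)))

theorem leftIso_hom_tmul_one (M : X.Modules) (U : X.Opens) (m : Γ(M, U)) :
    ((leftIso i).hom.app M).app U (SecTwist.tmul (P i) M U (one i U) m) =
      ((Scheme.Modules.pullbackPushforwardAdjunction i).unit.app M).app U m := by
  have h1 : (leftIso i).hom.app M =
      Groth.Agent.Helper1.PF.projMap i (Coh.structureModule Z) M ≫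
        (Scheme.Modules.pushforward i).map
          (Groth.Agent.Helper4.AmpleBasis.unitorL ((Scheme.Modules.pullback i).obj M)).hom := by
    unfold leftIso
    simp only [Iso.trans_hom, NatTrans.comp_app, Functor.isoWhiskerLeft_hom, Functor.whiskerLeft_app,
      Functor.isoWhiskerRight_hom, Functor.whiskerRight_app, Functor.leftUnitor_hom_app,
      Category.comp_id]
    rfl
  rw [h1]
  change ((Scheme.Modules.pushforward i).map
      (Groth.Agent.Helper4.AmpleBasis.unitorL ((Scheme.Modules.pullback i).obj M)).hom).app U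
    ((Groth.Agent.Helper1.PF.projMap i (Coh.structureModule Z) M).app U
      (SecTwist.tmul (P i) M U (one i U) m)) = _
  rw [Groth.Agent.Helper1.PF.projMap_tmul]
  change (Groth.Agent.Helper4.AmpleBasis.unitorL ((Scheme.Modules.pullback i).obj M)).hom.app (i ⁻¹ᵁ U)
    (SecTwist.tmul (Coh.structureModule Z) ((Scheme.Modules.pullback i).obj M) (i ⁻¹ᵁ U)
      (1 : Γ(Z, i ⁻¹ᵁ U)) _) = _
  rw [Groth.Agent.Helper4.SN.unitorL_tmul, one_smul]

theorem adj_homEquiv (F K H : X.Modules) : (adj F).homEquiv K H = e F K H := by
  unfold adj Adjunction.adjunctionOfEquivRight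
  exact congrFun (congrFun (Adjunction.mkOfHomEquiv_homEquiv _) K) H

theorem e_counit (F : X.Modules) :
    (adj (P i)).homEquiv ((homFunctor (P i)).obj F) F ((adj (P i)).counit.app F) = 𝟙 _ := by
  rw [← Adjunction.homEquiv_symm_id]
  exact Equiv.apply_symm_apply _ _

theorem ev1_germ (F : X.Modules) (U : X.Opens) (t : Γ(RefHull.homSh (P i) F, U)) (x : X)
    (hx : x ∈ U) :
    F.presheaf.germ U x hx ((ev1 i F).app U t) =
      t.1 ⟨x, hx⟩ ((P i).presheaf.germ U x hx (one i U)) := by
  set H := (homFunctor (P i)).obj F with hH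
  have h1 : ((leftIso i).inv.app H).app U
      (((Scheme.Modules.pullbackPushforwardAdjunction i).unit.app H).app U t) =
      SecTwist.tmul (P i) H U (one i U) t := by
    rw [← leftIso_hom_tmul_one i H U t]
    have h := congrArg (fun φ : (DCoh.tensorBi.obj (P i)).obj H ⟶ (DCoh.tensorBi.obj (P i)).obj H =>
      φ.app U (SecTwist.tmul (P i) H U (one i U) t)) ((leftIso i).hom_inv_id_app H)
    exact h
  have h2 : (ev1 i F).app U t = ((adj (P i)).counit.app F).app U
      (SecTwist.tmul (P i) H U (one i U) t) := by
    rw [← h1]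
    rfl
  rw [h2]
  have h3 := e_app_germ (P i) ((adj (P i)).counit.app F) U t x hx U le_rfl hx (one i U)
  have h4 : e (P i) H F ((adj (P i)).counit.app F) = 𝟙 H := by
    rw [← adj_homEquiv]
    exact e_counit i F
  rw [rs_self] at h3
  refine h3.symm.trans ?_
  have h5 : (e (P i) H F ((adj (P i)).counit.app F)).app U t = t := by
    rw [h4]; rfl
  exact congrArg (fun s : Γ(RefHull.homSh (P i) F, U) =>
    s.1 ⟨x, hx⟩ ((P i).presheaf.germ U x hx (one i U))) h5

end Groth.Agent.Helper1.HomOSec
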