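import Groth.Agent.Helper1.MVTop7
import Groth.Agent.Helper1.SerreD

/-!
# Affine opens of a separated scheme form an acyclic class for quasi-coherent modules
-/

namespace Groth.Agent.Helper1.MVTop

open CategoryTheory Limits Opposite TopologicalSpace AlgebraicGeometry

universe u

theorem acyc_isAffineOpen (X : Scheme.{u}) [X.IsSeparated] (M : X.Modules) [M.IsQuasicoherent] :
    Acyc (X := X.carrier) (Coh.toAb M) (fun U : X.Opens => IsAffineOpen U) where
  inf U V hU hV := hU.inf hV
  acyclic U hU q := Groth.Agent.Helper1.Serre.subsingleton_HU_of_isAffineOpen M hU q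

/-- the action of a global function on cohomology is induced by `smulAb` -/
lemma smul_def {X : Scheme.{u}} (M : X.Modules) (n : ℕ) (c : Coh.Γtop X) (x : Coh.HH X M n) :
    c • x = Sheaf.H.map (Coh.smulAb M c) n x := rfl

lemma smul_over_def {A : Type u} [CommRing A] {X : Scheme.{u}} [X.Over (Spec (CommRingCat.of A))]
    (M : X.Modules) (n : ℕ) (a : A) (x : Coh.HH X M n) :
    a • x = Sheaf.H.map (Coh.smulAb M (Coh.toGlobal (X ↘ Spec (CommRingCat.of A)) a)) n x := rfl

end Groth.Agent.Helper1.MVTop
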