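import Mathlib
import Groth.Agent.Helper1.HomOSec
import Groth.Agent.Helper4.QcohGlue
import Groth.Agent.Lead.BlH1B
import Groth.Agent.Lead.HomSh1
import Groth.Agent.Lead.HomShA
import Groth.Agent.Lead.MeroM

/-!
# Helper1: sections of `𝓗om(i_* O_Z, F)` over an affine open via evaluation at `1`
-/

set_option autoImplicit false
set_option linter.style.haveILetI false
set_option linter.unusedSectionVars false

universe u

open CategoryTheory CategoryTheory.Limits AlgebraicGeometry TopologicalSpace Opposite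

namespace Groth.Agent.Helper1.HomOSec

open Groth.Agent.Helper1.HomOQC Groth.Agent.Lead.SheafHomAdj Groth.Agent.Helper4.StalkDict

variable {Z X : Scheme.{u}} (i : Z ⟶ X) [IsClosedImmersion i]

instance isQuasicoherent_P : (P i).IsQuasicoherent := by
  haveI := Groth.Agent.Lead.BlH1B.isQuasicoherent_unit Z
  exact Groth.Agent.Helper4.QcohGlue.isQuasicoherent_pushforward i _

theorem smul_one' (U : X.Opens) (a : Γ(X, U)) :
    a • one i U = (show Γ(P i, U) from (i.app U).hom a) := by
  change (i.app U).hom a * (1 : Γ(Z, i ⁻¹ᵁ U)) = (i.app U).hom a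
  rw [mul_one]

variable {U : X.Opens} (hU : IsAffineOpen U)

include hU in
theorem exists_smul_one (p : Γ(P i, U)) : ∃ a : Γ(X, U), a • one i U = p := by
  obtain ⟨a, ha⟩ := i.app_surjective U hU (show Γ(Z, i ⁻¹ᵁ U) from p)
  exact ⟨a, (smul_one' i U a).trans ha⟩

include hU in
theorem span_one : Submodule.span Γ(X, U) {one i U} = ⊤ := by
  rw [eq_top_iff]
  intro p _
  obtain ⟨a, rfl⟩ := exists_smul_one i hU p
  exact Submodule.smul_mem _ _ (Submodule.subset_span rfl)

include hU in
theorem span_germ_one (x : X) (hx : x ∈ U) :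
    Submodule.span (X.presheaf.stalk x) {(P i).presheaf.germ U x hx (one i U)} = ⊤ := by
  have h := Groth.Agent.Lead.HomSh.span_germ_eq_top hU (P i) {one i U} (span_one i hU) x hx
  rwa [Set.image_singleton] at h

theorem smul_one_eq_zero (a : Γ(X, U)) (ha : a ∈ i.ker.ideal ⟨U, hU⟩) : a • one i U = 0 := by
  rw [smul_one']
  rw [Scheme.Hom.ker_apply, RingHom.mem_ker] at ha
  exact ha

include hU in
theorem ev1_injective (F : X.Modules) (t t' : Γ(RefHull.homSh (P i) F, U))
    (h : (ev1 i F).app U t = (ev1 i F).app U t') : t = t' := by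
  apply homSh_ext
  intro x hx V hVU hxV m
  have h1 : t.1 ⟨x, hx⟩ = t'.1 ⟨x, hx⟩ := by
    apply LinearMap.ext_on (span_germ_one i hU x hx)
    intro v hv
    rw [Set.mem_singleton_iff] at hv
    rw [hv, ← ev1_germ, ← ev1_germ, h]
  rw [h1]

theorem smul_ev1_eq_zero (F : X.Modules) (t : Γ(RefHull.homSh (P i) F, U)) (a : Γ(X, U))
    (ha : a ∈ i.ker.ideal ⟨U, hU⟩) : a • (ev1 i F).app U t = 0 := by
  apply Groth.Agent.Lead.MeroM.section_ext_germ
  intro x hx
  rw [germ_smul, ev1_germ, ← LinearMap.map_smul, ← germ_smul, smul_one_eq_zero i hU a ha,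
    map_zero, map_zero, map_zero]

theorem exists_ev1_eq (F : X.Modules) (s : Γ(F, U))
    (hs : ∀ a ∈ i.ker.ideal ⟨U, hU⟩, a • s = 0) :
    ∃ t : Γ(RefHull.homSh (P i) F, U), (ev1 i F).app U t = s := by
  let f : Γ(X, U) →ₗ[Γ(X, U)] Γ(P i, U) := LinearMap.toSpanSingleton _ _ (one i U)
  have hf : Function.Surjective f := fun p => exists_smul_one i hU p
  have hker : LinearMap.ker f ≤ LinearMap.ker (LinearMap.toSpanSingleton Γ(X, U) Γ(F, U) s) := by
    intro a ha
    rw [LinearMap.mem_ker, LinearMap.toSpanSingleton_apply] at ha ⊢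
    apply hs
    rw [Scheme.Hom.ker_apply, RingHom.mem_ker]
    rw [smul_one'] at ha
    exact ha
  let e := f.quotKerEquivOfSurjective hf
  let l : Γ(P i, U) →ₗ[Γ(X, U)] Γ(F, U) :=
    (LinearMap.ker f).liftQ _ hker ∘ₗ e.symm.toLinearMap
  have hl1 : l (one i U) = s := by
    have h1 : e.symm (one i U) = Submodule.Quotient.mk 1 := by
      rw [LinearEquiv.symm_apply_eq]
      change one i U = f 1
      rw [LinearMap.toSpanSingleton_apply, one_smul]
    change (LinearMap.ker f).liftQ _ hker (e.symm (one i U)) = s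
    rw [h1, Submodule.liftQ_apply, LinearMap.toSpanSingleton_apply, one_smul]
  have hl : ∀ (r : Γ(X, U)) (m : Γ(P i, U)), l.toAddMonoidHom (r • m) =
      X.presheaf.map (homOfLE (le_refl U)).op r • l.toAddMonoidHom m := by
    intro r m
    have h0 : X.presheaf.map (homOfLE (le_refl U)).op r = r := by
      have : (homOfLE (le_refl U)).op = 𝟙 (op U) := rfl
      rw [this, X.presheaf.map_id]
      rfl
    rw [h0]
    exact l.map_smul r m
  refine ⟨Groth.Agent.Lead.HomShA.ofLin hU (P i) F le_rfl l.toAddMonoidHom hl, ?_⟩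
  apply Groth.Agent.Lead.MeroM.section_ext_germ
  intro x hx
  rw [ev1_germ]
  refine (Groth.Agent.Lead.HomShA.ofLin_apply_germ hU (P i) F le_rfl _ hl ⟨x, hx⟩ (one i U)).trans ?_
  exact congrArg _ hl1

end Groth.Agent.Helper1.HomOSec
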