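import Mathlib
import Groth.Agent.Helper1.DCoprod

/-!
# Functorial homotopy-killing embedding
-/

set_option autoImplicit false
set_option linter.unusedSectionVars false

namespace Groth.Agent.Helper1.HtpyKill
open CategoryTheory Limits CochainComplex

universe w v u
variable {A : Type u} [Category.{v} A] [Abelian A]

section General

lemma acyclic_iff_quasiIso_zero (K : CochainComplex A ℤ) :
    K.Acyclic ↔ QuasiIso (0 : K ⟶ K) := by
  constructor
  · intro hK
    rw [quasiIso_iff]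
    intro n
    rw [quasiIsoAt_iff_exactAt _ _ (hK n)]
    exact hK n
  · intro h n
    have h1 : QuasiIsoAt (0 : K ⟶ K) n := inferInstance
    rw [quasiIsoAt_iff_isIso_homologyMap, HomologicalComplex.homologyMap_zero] at h1
    rw [HomologicalComplex.exactAt_iff_isZero_homology, IsZero.iff_id_eq_zero]
    have := IsIso.hom_inv_id (f := (0 : K.homology n ⟶ K.homology n))
    rw [zero_comp] at this
    exact this.symm

lemma acyclic_sig {J : Type w} [HasColimitsOfShape (Discrete J) A]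
    [HasExactColimitsOfShape (Discrete J) A] (K : J → CochainComplex A ℤ)
    (hK : ∀ j, (K j).Acyclic) : (DCoprod.sig K).Acyclic := by
  rw [acyclic_iff_quasiIso_zero]
  have h := DCoprod.quasiIso_sigMap (fun j => (0 : K j ⟶ K j))
    (fun j => (acyclic_iff_quasiIso_zero _).1 (hK j))
  have e : DCoprod.sigMap (fun j => (0 : K j ⟶ K j)) = 0 := by
    apply DCoprod.hom_ext
    intro j
    rw [DCoprod.ι_sigMap, zero_comp, comp_zero]
  rwa [e] at h

lemma isZero_Q_obj_of_acyclic [HasDerivedCategory.{w} A] (K : CochainComplex A ℤ)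
    (hK : K.Acyclic) : IsZero (DerivedCategory.Q.obj K) := by
  have := (acyclic_iff_quasiIso_zero K).1 hK
  rw [IsZero.iff_id_eq_zero]
  have h1 : IsIso (DerivedCategory.Q.map (0 : K ⟶ K)) := inferInstance
  rw [Functor.map_zero] at h1
  have := IsIso.hom_inv_id (f := (0 : DerivedCategory.Q.obj K ⟶ DerivedCategory.Q.obj K))
  rw [zero_comp] at this
  exact this.symm

lemma quasiIso_inr_of_acyclic {K L : CochainComplex A ℤ} (φ : K ⟶ L) (hK : K.Acyclic) :
    QuasiIso (mappingCone.inr φ) := by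
  let _ : HasDerivedCategory A := HasDerivedCategory.standard _
  rw [← DerivedCategory.isIso_Q_map_iff_quasiIso]
  have hT := DerivedCategory.mappingCone_triangle_distinguished φ
  exact (Pretriangulated.Triangle.isZero₁_iff_isIso₂ _ hT).1 (isZero_Q_obj_of_acyclic K hK)

end General

section Functor

variable {ι : Type w} (K : ι → CochainComplex A ℤ)
  [∀ (J : Type (max w v)), HasColimitsOfShape (Discrete J) A]

/-- Index type of all morphisms from members of the family. -/
abbrev Idx (M : CochainComplex A ℤ) : Type (max w v) := Σ i : ι, (K i ⟶ M)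

/-- The family indexed by `Idx`. -/
abbrev famI (M : CochainComplex A ℤ) : Idx K M → CochainComplex A ℤ := fun x => K x.1

/-- The sum of all `K i` over all morphisms to `M`. -/
noncomputable abbrev Sobj (M : CochainComplex A ℤ) : CochainComplex A ℤ :=
  DCoprod.sig (famI K M)

lemma ι_congr {M : CochainComplex A ℤ} (i : ι) {a a' : K i ⟶ M} (h : a = a') :
    DCoprod.ι (famI K M) ⟨i, a⟩ = DCoprod.ι (famI K M) ⟨i, a'⟩ := by
  subst h
  rfl

/-- Functoriality of `Sobj`. -/
noncomputable def Smap {M M' : CochainComplex A ℤ} (φ : M ⟶ M') : Sobj K M ⟶ Sobj K M' :=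
  DCoprod.desc (fun x : Idx K M => DCoprod.ι (famI K M') ⟨x.1, x.2 ≫ φ⟩)

@[reassoc (attr := simp)]
lemma ι_Smap {M M' : CochainComplex A ℤ} (φ : M ⟶ M') (x : Idx K M) :
    DCoprod.ι (famI K M) x ≫ Smap K φ = DCoprod.ι (famI K M') ⟨x.1, x.2 ≫ φ⟩ := by
  unfold Smap
  rw [DCoprod.ι_desc]

/-- The evaluation map. -/
noncomputable def ev (M : CochainComplex A ℤ) : Sobj K M ⟶ M :=
  DCoprod.desc (fun x : Idx K M => x.2)

@[reassoc (attr := simp)]
lemma ι_ev (M : CochainComplex A ℤ) (x : Idx K M) :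
    DCoprod.ι (famI K M) x ≫ ev K M = x.2 := by
  unfold ev
  rw [DCoprod.ι_desc]

@[reassoc]
lemma Smap_ev {M M' : CochainComplex A ℤ} (φ : M ⟶ M') :
    Smap K φ ≫ ev K M' = ev K M ≫ φ := by
  apply DCoprod.hom_ext
  intro x
  rw [ι_Smap_assoc, ι_ev, ι_ev_assoc]

lemma Smap_id (M : CochainComplex A ℤ) : Smap K (𝟙 M) = 𝟙 _ := by
  apply DCoprod.hom_ext
  intro x
  rw [ι_Smap]
  exact (ι_congr K x.1 (Category.comp_id x.2)).trans (Category.comp_id _).symm

lemma Smap_comp {M M' M'' : CochainComplex A ℤ} (φ : M ⟶ M') (ψ : M' ⟶ M'') :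
    Smap K (φ ≫ ψ) = Smap K φ ≫ Smap K ψ := by
  apply DCoprod.hom_ext
  intro x
  rw [ι_Smap, ι_Smap_assoc, ι_Smap]
  exact ι_congr K _ (Category.assoc _ _ _).symm

lemma map_congr {K₁ L₁ K₂ L₂ : CochainComplex A ℤ} (φ₁ : K₁ ⟶ L₁) (φ₂ : K₂ ⟶ L₂)
    {a a' : K₁ ⟶ K₂} {b b' : L₁ ⟶ L₂} (comm : φ₁ ≫ b = a ≫ φ₂) (ha : a = a') (hb : b = b') :
    mappingCone.map φ₁ φ₂ a b comm = mappingCone.map φ₁ φ₂ a' b' (by rw [← ha, ← hb, comm]) := by
  subst ha hb
  rfl

/-- The functor `N`. -/
noncomputable def N : CochainComplex A ℤ ⥤ CochainComplex A ℤ where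
  obj M := mappingCone (ev K M)
  map {M M'} φ := mappingCone.map (ev K M) (ev K M') (Smap K φ) φ (Smap_ev K φ).symm
  map_id M := by
    rw [map_congr _ _ _ (Smap_id K M) rfl, mappingCone.map_id]
  map_comp {M M' M''} φ ψ := by
    rw [map_congr _ _ _ (Smap_comp K φ ψ) rfl, mappingCone.map_comp]

/-- The natural transformation `j`. -/
noncomputable def j : 𝟭 _ ⟶ N K where
  app M := mappingCone.inr (ev K M)
  naturality {M M'} φ := by
    exact ((mappingCone.triangleMap (ev K M) (ev K M') (Smap K φ) φ (Smap_ev K φ).symm).comm₂).symm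

variable [∀ (J : Type (max w v)), HasExactColimitsOfShape (Discrete J) A]

theorem main (hK : ∀ i, (K i).Acyclic) (M : CochainComplex A ℤ) :
    (∀ n : ℤ, Mono (((j K).app M).f n)) ∧ QuasiIso ((j K).app M) ∧
      ∀ (i : ι) (a : K i ⟶ M), Nonempty (Homotopy (a ≫ (j K).app M) 0) := by
  refine ⟨fun n => ?_, ?_, fun i a => ?_⟩
  · have : (mappingCone.inr (ev K M)).f n ≫ (mappingCone.snd (ev K M)).v n n (add_zero n) =
        𝟙 (M.X n) := mappingCone.inr_f_snd_v _ _
    have hm : Mono (𝟙 (M.X n)) := ⟨fun a b h => by simpa using h⟩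
    exact mono_of_mono_fac this
  · exact quasiIso_inr_of_acyclic _ (acyclic_sig _ (fun x => hK x.1))
  · have e : a ≫ (j K).app M = DCoprod.ι (famI K M) ⟨i, a⟩ ≫ ev K M ≫ mappingCone.inr (ev K M) := by
      rw [ι_ev_assoc]
      rfl
    rw [e]
    have H : Homotopy (ev K M ≫ mappingCone.inr (ev K M)) 0 :=
      (HomComplex.Cochain.equivHomotopy _ _).symm ⟨mappingCone.inl (ev K M), by simp⟩
    exact ⟨(H.compLeft _).trans (Homotopy.ofEq comp_zero)⟩

end Functor

end Groth.Agent.Helper1.HtpyKill
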