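import Mathlib
import Groth.Agent.Helper1.IM13

/-!
# Lifting two finite families of homogeneous sections to a common stage
-/

set_option autoImplicit false
set_option linter.style.haveILetI false

namespace Groth.Agent.Helper1.IM

open CategoryTheory Limits AlgebraicGeometry TopologicalSpace Opposite RelSpec RelProj
open Groth.Agent.Helper1.RP Groth.Agent.Helper1.PL Groth.Agent.Helper1.PT

universe u

section

variable {Y : Scheme.{u}} {𝒮 : QCGrAlg Y}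
  {Λ : Type u} [Preorder Λ] [IsDirected Λ (· ≤ ·)] [Nonempty Λ]
  (𝒮i : Λ → QCGrAlg Y) (φ : ∀ i, (𝒮i i).toQCAlg ⟶ 𝒮.toQCAlg) (hφ : ∀ i, IsGradedHom (φ i))
  (t : ∀ i j, i ≤ j → ((𝒮i i).toQCAlg ⟶ (𝒮i j).toQCAlg))
  (ht : ∀ i j (h : i ≤ j), IsGradedHom (t i j h))
  (hφt : ∀ i j (h : i ≤ j), t i j h ≫ φ j = φ i)
  (hsurj : ∀ (U : Y.Opens), IsAffineOpen U → ∀ x : 𝒮.presheaf.obj (op U),
    ∃ (i : Λ) (y : (𝒮i i).presheaf.obj (op U)), ((φ i).hom.app (op U)).hom y = x)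

/-- the homogeneous section `x` lifts to stage `i` -/
def Liftable (U : Y.Opens) (hU : IsAffineOpen U) (d : ℕ) (x : 𝒮.presheaf.obj (op U)) (i : Λ) :
    Prop :=
  ∃ y ∈ (𝒮i i).deg U hU d, ((φ i).hom.app (op U)).hom y = x

include ht hφt in
theorem liftable_mono (U : Y.Opens) (hU : IsAffineOpen U) (d : ℕ) (x : 𝒮.presheaf.obj (op U))
    (i j : Λ) (h : i ≤ j) (hl : Liftable 𝒮i φ U hU d x i) : Liftable 𝒮i φ U hU d x j := by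
  obtain ⟨y, hy, hyx⟩ := hl
  refine ⟨((t i j h).hom.app (op U)).hom y, ht i j h U hU d y hy, ?_⟩
  have := congrArg (fun ψ : (𝒮i i).toQCAlg ⟶ 𝒮.toQCAlg => (ψ.hom.app (op U)).hom y)
    (hφt i j h)
  exact this.trans hyx

include hφ hsurj in
theorem exists_liftable (U : Y.Opens) (hU : IsAffineOpen U) (d : ℕ) (x : 𝒮.presheaf.obj (op U))
    (hx : x ∈ 𝒮.deg U hU d) : ∃ i, Liftable 𝒮i φ U hU d x i := by
  obtain ⟨i, y, hy⟩ := hsurj U hU x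
  obtain ⟨g, hg, hgs⟩ := PT.exists_homog_preimage (φ i) (hφ i) U hU x hx y hy
  exact ⟨i, g, hg, hgs⟩

include hφ ht hφt hsurj in
theorem exists_common_lift₂ {κ₁ κ₂ : Type*} [Finite κ₁] [Finite κ₂]
    (U₁ : κ₁ → Y.Opens) (hU₁ : ∀ k, IsAffineOpen (U₁ k)) (d₁ : κ₁ → ℕ)
    (x₁ : ∀ k, 𝒮.presheaf.obj (op (U₁ k))) (hx₁ : ∀ k, x₁ k ∈ 𝒮.deg (U₁ k) (hU₁ k) (d₁ k))
    (U₂ : κ₂ → Y.Opens) (hU₂ : ∀ k, IsAffineOpen (U₂ k)) (d₂ : κ₂ → ℕ)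
    (x₂ : ∀ k, 𝒮.presheaf.obj (op (U₂ k))) (hx₂ : ∀ k, x₂ k ∈ 𝒮.deg (U₂ k) (hU₂ k) (d₂ k)) :
    ∃ i, (∀ k, Liftable 𝒮i φ (U₁ k) (hU₁ k) (d₁ k) (x₁ k) i) ∧
      (∀ k, Liftable 𝒮i φ (U₂ k) (hU₂ k) (d₂ k) (x₂ k) i) := by
  obtain ⟨i, hi⟩ := exists_common_index (κ := κ₁ ⊕ κ₂)
    (fun k' i => Sum.elim (fun k => Liftable 𝒮i φ (U₁ k) (hU₁ k) (d₁ k) (x₁ k) i)
      (fun k => Liftable 𝒮i φ (U₂ k) (hU₂ k) (d₂ k) (x₂ k) i) k')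
    (by
      rintro (k | k) i j h hl
      · exact liftable_mono 𝒮i φ t ht hφt _ _ _ _ i j h hl
      · exact liftable_mono 𝒮i φ t ht hφt _ _ _ _ i j h hl)
    (by
      rintro (k | k)
      · exact exists_liftable 𝒮i φ hφ hsurj _ _ _ _ (hx₁ k)
      · exact exists_liftable 𝒮i φ hφ hsurj _ _ _ _ (hx₂ k))
  exact ⟨i, fun k => hi (Sum.inl k), fun k => hi (Sum.inr k)⟩

end

end Groth.Agent.Helper1.IM
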