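import Mathlib

set_option autoImplicit false

namespace Groth.Agent.Helper1.IdealMap

/-- composition of ideal maps along arbitrary ring-hom-like maps -/
theorem map_map_gen {R S T : Type*} [CommRing R] [CommRing S] [CommRing T]
    {F G H : Type*} [FunLike F R S] [RingHomClass F R S] [FunLike G S T] [RingHomClass G S T]
    [FunLike H R T] [RingHomClass H R T] (f : F) (g : G) (h : H)
    (hcomp : ∀ x, h x = g (f x)) (I : Ideal R) : (I.map f).map g = I.map h := by
  apply le_antisymm
  · rw [Ideal.map_le_iff_le_comap, Ideal.map_le_iff_le_comap]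
    intro k hk
    rw [Ideal.mem_comap, Ideal.mem_comap, ← hcomp]
    exact Ideal.mem_map_of_mem _ hk
  · rw [Ideal.map_le_iff_le_comap]
    intro k hk
    rw [Ideal.mem_comap, hcomp]
    exact Ideal.mem_map_of_mem _ (Ideal.mem_map_of_mem _ hk)

/-- membership in the image of an ideal in a quotient -/
theorem mk_mem_map_mk_iff {T : Type*} [CommRing T] (J0 J : Ideal T) (t : T) :
    Ideal.Quotient.mk J0 t ∈ J.map (Ideal.Quotient.mk J0) ↔ t ∈ J ⊔ J0 := by
  rw [Ideal.mem_map_iff_of_surjective _ Ideal.Quotient.mk_surjective]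
  constructor
  · rintro ⟨w, hw, hwt⟩
    have h2 : t - w ∈ J0 := by
      rw [← Ideal.Quotient.eq]; exact hwt.symm
    have : t = w + (t - w) := by abel
    rw [this]
    exact Submodule.add_mem_sup hw h2
  · intro ht
    obtain ⟨j, hj, i, hi, rfl⟩ := Submodule.mem_sup.1 ht
    refine ⟨j, hj, ?_⟩
    rw [map_add, (Ideal.Quotient.eq_zero_iff_mem).2 hi, add_zero]

end Groth.Agent.Helper1.IdealMap
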