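import Groth.Agent.Helper1.QuotPush4
import Groth.Agent.S0003

set_option autoImplicit false
set_option linter.style.haveILetI false

/-!
# Lifting idempotent functions from the closed fibre of a proper scheme over a complete base
-/

namespace Groth.Agent.Helper1.IdemLift

open CategoryTheory Limits AlgebraicGeometry Opposite
open Groth.Agent.Helper1.Form Groth.Agent.Helper1.ZarIso Groth.Agent.Helper1.QuotPush
open Groth.Agent.Lead.ProperFinA

universe u

section ring

variable {R S : Type*} [CommRing R] [CommRing S] (φ : R →+* S)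

lemma idem_root (e : S) (he : e * e = e) :
    ((Polynomial.X ^ 2 - Polynomial.X : Polynomial R).map φ).eval e = 0 := by
  simp [pow_two, he]

lemma idem_unit (e : S) (he : e * e = e) :
    IsUnit (((Polynomial.X ^ 2 - Polynomial.X : Polynomial R).map φ).derivative.eval e) := by
  have h : ((Polynomial.X ^ 2 - Polynomial.X : Polynomial R).map φ).derivative.eval e =
      2 * e - 1 := by
    simp
    norm_num
  rw [h]
  refine IsUnit.of_mul_eq_one (2 * e - 1) ?_
  have : (2 * e - 1) * (2 * e - 1) = 4 * (e * e) - 4 * e + 1 := by ring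
  rw [this, he]
  ring

lemma idem_of_root (e : R) (h : (Polynomial.X ^ 2 - Polynomial.X : Polynomial R).eval e = 0) :
    e * e = e := by
  simp [pow_two] at h
  exact sub_eq_zero.mp h

lemma root_of_idem (e : R) (h : e * e = e) :
    (Polynomial.X ^ 2 - Polynomial.X : Polynomial R).eval e = 0 := by
  simp [pow_two, h]

end ring


section main

variable (A : Type u) [CommRing A] (I : Ideal A)
  (Z : Scheme.{u}) [Z.Over (Spec (CommRingCat.of A))]

/-- the `n`-th infinitesimal neighbourhood of the closed fibre -/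
noncomputable abbrev Zn (n : ℕ) : Scheme.{u} :=
  pullback (Z ↘ Spec (CommRingCat.of A))
    (Spec.map (CommRingCat.ofHom (Ideal.Quotient.mk (I ^ (n + 1)))))

noncomputable abbrev ιn (n : ℕ) : Zn A I Z n ⟶ Z :=
  pullback.fst (Z ↘ Spec (CommRingCat.of A))
    (Spec.map (CommRingCat.ofHom (Ideal.Quotient.mk (I ^ (n + 1)))))

noncomputable abbrev Z0 : Scheme.{u} :=
  pullback (Z ↘ Spec (CommRingCat.of A)) (Spec.map (CommRingCat.ofHom (Ideal.Quotient.mk I)))

noncomputable abbrev ι0 : Z0 A I Z ⟶ Z :=
  pullback.fst (Z ↘ Spec (CommRingCat.of A)) (Spec.map (CommRingCat.ofHom (Ideal.Quotient.mk I)))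

lemma hsqn (n : ℕ) : IsPullback (ιn A I Z n) (pullback.snd _ _) (Z ↘ Spec (CommRingCat.of A))
    (Spec.map (CommRingCat.ofHom (Ideal.Quotient.mk (I ^ (n + 1))))) :=
  IsPullback.of_hasPullback _ _

lemma hsq0 : IsPullback (ι0 A I Z) (pullback.snd _ _) (Z ↘ Spec (CommRingCat.of A))
    (Spec.map (CommRingCat.ofHom (Ideal.Quotient.mk I))) :=
  IsPullback.of_hasPullback _ _

lemma exists_t (n : ℕ) : ∃ t : Z0 A I Z ⟶ Zn A I Z n, t ≫ ιn A I Z n = ι0 A I Z ∧
    IsClosedImmersion t ∧ Surjective t :=
  exists_thickening (J' := I ^ (n + 1)) (J := I) (Ideal.pow_le_self (Nat.succ_ne_zero n))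
    (n + 1) le_rfl (hsqn A I Z n) (hsq0 A I Z)

lemma exists_u (n : ℕ) : ∃ u : Zn A I Z n ⟶ Zn A I Z (n + 1),
    u ≫ ιn A I Z (n + 1) = ιn A I Z n ∧ IsClosedImmersion u ∧ Surjective u :=
  exists_thickening (J' := I ^ (n + 1 + 1)) (J := I ^ (n + 1))
    (Ideal.pow_le_pow_right (Nat.le_succ (n + 1))) 2
    (by rw [← pow_mul]; exact Ideal.pow_le_pow_right (by omega))
    (hsqn A I Z (n + 1)) (hsqn A I Z n)

/-- **Idempotent lifting** for a proper scheme over a complete Noetherian base. -/
theorem exists_idempotent_lift [IsNoetherianRing A] [IsAdicComplete I A]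
    [IsProper (Z ↘ Spec (CommRingCat.of A))]
    (e₀ : Γ(Z0 A I Z, ⊤)) (he₀ : e₀ * e₀ = e₀) :
    ∃ e : Γ(Z, ⊤), e * e = e ∧ (ι0 A I Z).appTop.hom e = e₀ := by
  choose t ht htcl htsurj using exists_t A I Z
  choose u hu hucl husurj using exists_u A I Z
  have hmono : ∀ n, Mono (ιn A I Z n) := fun n => by
    haveI : IsClosedImmersion (Spec.map (CommRingCat.ofHom (Ideal.Quotient.mk (I ^ (n + 1))))) :=
      IsClosedImmersion.spec_of_surjective _ Ideal.Quotient.mk_surjective
    haveI : IsClosedImmersion (ιn A I Z n) :=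
      Groth.Agent.Lead.ThickBC.isClosedImmersion_of_isPullback (hsqn A I Z n)
    infer_instance
  have htu : ∀ n, t n ≫ u n = t (n + 1) := fun n => by
    haveI := hmono (n + 1)
    rw [← cancel_mono (ιn A I Z (n + 1)), Category.assoc, hu, ht, ht]
  -- the idempotents `e n` on the thickenings
  have hnil : ∀ n, ∀ V : (Zn A I Z n).Opens, IsAffineOpen V →
      ∀ x ∈ RingHom.ker ((t n).app V).hom, IsNilpotent x := fun n V hV x hx =>
    (mem_nilradical).1
      (Groth.Agent.Lead.ThickInt.ker_app_le_nilradical (t n) (htsurj n).surj hV hx)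
  have hex : ∀ n, ∃! s : Γ(Zn A I Z n, ⊤), (t n).appTop.hom s = e₀ ∧
      (Polynomial.X ^ 2 - Polynomial.X : Polynomial Γ(Zn A I Z n, ⊤)).eval s = 0 := fun n => by
    haveI := htcl n
    exact Groth.Agent.Helper1.HenselThick.existsUnique_lift (t n) (hnil n) _ e₀
      (idem_root _ e₀ he₀) (idem_unit _ e₀ he₀)
  choose e he heuniq using hex
  have hcompat : ∀ n, (u n).appTop.hom (e (n + 1)) = e n := fun n => by
    apply heuniq n
    constructor
    · have h1 : (t n).appTop.hom ((u n).appTop.hom (e (n + 1))) =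
          (t n ≫ u n).appTop.hom (e (n + 1)) := by
        rw [Scheme.Hom.comp_appTop]
        rfl
      rw [h1, htu n]
      exact (he (n + 1)).1
    · apply root_of_idem
      rw [← map_mul, idem_of_root _ (he (n + 1)).2]
  -- the module-level identifications
  have hcohO : Coh.IsCoh (Coh.structureModule Z) :=
    Groth.Agent.Helper1.Dev.isCoh_structureModule Z
  have hQ : ∀ n, IsQuot (I ^ (n + 1)) (unitToPush (ιn A I Z n)) := fun n =>
    isQuot_unitToPush (I ^ (n + 1)) (hsqn A I Z n)
  let θ : ∀ n, Formal.modPow I (n + 1) (Coh.structureModule Z) ≅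
      (Scheme.Modules.pushforward (ιn A I Z n)).obj (Coh.structureModule (Zn A I Z n)) :=
    fun n => (isQuot_modPowπ I (n + 1) (Coh.structureModule Z)).iso (hQ n)
  have hθ : ∀ n, Formal.modPowπ I (n + 1) (Coh.structureModule Z) ≫ (θ n).hom =
      unitToPush (ιn A I Z n) := fun n => IsQuot.fac_iso_hom _ _
  have hθinj : ∀ n, Function.Injective ((θ n).hom.app ⊤) := fun n a b hab => by
    have h1 := congrArg ((θ n).inv.app ⊤) hab
    rw [← comp_app_apply, ← comp_app_apply, Iso.hom_inv_id] at h1
    exact h1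
  have hθinv : ∀ n (s : Γ((Scheme.Modules.pushforward (ιn A I Z n)).obj
      (Coh.structureModule (Zn A I Z n)), ⊤)), (θ n).hom.app ⊤ ((θ n).inv.app ⊤ s) = s := by
    intro n s
    rw [← comp_app_apply, Iso.inv_hom_id]
    rfl
  let y : ∀ n, Γ(Formal.modPow I (n + 1) (Coh.structureModule Z), ⊤) := fun n =>
    (θ n).inv.app ⊤ (show Γ((Scheme.Modules.pushforward (ιn A I Z n)).obj
      (Coh.structureModule (Zn A I Z n)), ⊤) from e n)
  have hy : ∀ n, (Formal.modPowTrans I (n + 1) (Coh.structureModule Z)).app ⊤ (y (n + 1)) =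
      y n := by
    intro n
    apply hθinj n
    rw [hθinv]
    haveI : Epi (unitToPush (ιn A I Z (n + 1))) := (hQ (n + 1)).epi
    have hψ : unitToPush (ιn A I Z (n + 1)) ≫ ((θ (n + 1)).inv ≫
        Formal.modPowTrans I (n + 1) (Coh.structureModule Z) ≫ (θ n).hom) =
        unitToPush (ιn A I Z n) := by
      rw [← hθ (n + 1), Category.assoc, Iso.hom_inv_id_assoc, ← Category.assoc,
        Formal.modPowπ_trans, hθ n]
    have h1 := app_top_eq_of_comp (ιn A I Z (n + 1)) (ιn A I Z n) (u n) (hu n) _ hψ (e (n + 1))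
    rw [hcompat n] at h1
    exact h1
  -- the compatible family in cohomology
  let xs : ∀ n, Formal.HHmodPow I (Coh.structureModule Z) 0 n := fun n =>
    (h0Equiv (Formal.modPow I (n + 1) (Coh.structureModule Z))).symm (y n)
  have hxs : ∀ n, Formal.HHmodPowTrans I (Coh.structureModule Z) 0 n (xs (n + 1)) = xs n := by
    intro n
    have h1 := Sheaf.H.equiv₀_symm_naturality
      (isTerminalTop (α := TopologicalSpace.Opens Z))
      ((SheafOfModules.toSheaf Z.ringCatSheaf).map
        (Formal.modPowTrans I (n + 1) (Coh.structureModule Z))) (y (n + 1))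
    refine h1.trans ?_
    exact congrArg _ (hy n)
  obtain ⟨x, hx⟩ := (Groth.Agent.S0003.result A I Z (Coh.structureModule Z) hcohO 0).2
    ⟨xs, hxs⟩
  set e' : Γ(Z, ⊤) := h0Equiv (Coh.structureModule Z) x with he'
  have hxn : ∀ n, Formal.toHHmodPow I (Coh.structureModule Z) 0 n x = xs n := fun n =>
    congrFun (congrArg Subtype.val hx) n
  have hπ : ∀ n, (Formal.modPowπ I (n + 1) (Coh.structureModule Z)).app ⊤
      (show Γ(Coh.structureModule Z, ⊤) from e') = y n := by
    intro n
    have h1 := Sheaf.H.equiv₀_naturality (isTerminalTop (α := TopologicalSpace.Opens Z))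
      ((SheafOfModules.toSheaf Z.ringCatSheaf).map
        (Formal.modPowπ I (n + 1) (Coh.structureModule Z))) x
    refine h1.trans ?_
    have h2 : Sheaf.H.map ((SheafOfModules.toSheaf Z.ringCatSheaf).map
        (Formal.modPowπ I (n + 1) (Coh.structureModule Z))) 0 x = xs n := hxn n
    rw [h2]
    exact (h0Equiv (Formal.modPow I (n + 1) (Coh.structureModule Z))).apply_symm_apply (y n)
  have hE : ∀ n, (ιn A I Z n).appTop.hom e' = e n := by
    intro n
    have h1 := congrArg ((θ n).hom.app ⊤) (hπ n)
    rw [hθinv, ← comp_app_apply, hθ n] at h1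
    exact h1
  refine ⟨e', ?_, ?_⟩
  · -- idempotent, by injectivity of the comparison map
    set d : Γ(Z, ⊤) := e' * e' - e' with hd
    have hdn : ∀ n, (ιn A I Z n).appTop.hom d = 0 := by
      intro n
      rw [hd, map_sub, map_mul, hE n, idem_of_root _ (he n).2, sub_self]
    have hπd : ∀ n, (Formal.modPowπ I (n + 1) (Coh.structureModule Z)).app ⊤
        (show Γ(Coh.structureModule Z, ⊤) from d) = 0 := by
      intro n
      apply hθinj n
      rw [← comp_app_apply, hθ n, map_zero]
      exact hdn n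
    set xd : Coh.HH Z (Coh.structureModule Z) 0 :=
      (h0Equiv (Coh.structureModule Z)).symm (show Γ(Coh.structureModule Z, ⊤) from d) with hxd
    have hz : Formal.toHHlim I (Coh.structureModule Z) 0 xd = 0 := by
      apply Subtype.ext
      funext n
      have h1 := Sheaf.H.equiv₀_symm_naturality
        (isTerminalTop (α := TopologicalSpace.Opens Z))
        ((SheafOfModules.toSheaf Z.ringCatSheaf).map
          (Formal.modPowπ I (n + 1) (Coh.structureModule Z)))
        (show Γ(Coh.structureModule Z, ⊤) from d)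
      refine h1.trans ?_
      have h2 : ((SheafOfModules.toSheaf Z.ringCatSheaf).map
          (Formal.modPowπ I (n + 1) (Coh.structureModule Z))).hom.app (op ⊤)
          (show Γ(Coh.structureModule Z, ⊤) from d) = 0 := hπd n
      rw [h2, map_zero]
      rfl
    have hinj := (Groth.Agent.S0003.result A I Z (Coh.structureModule Z) hcohO 0).1
    have hxd0 : xd = 0 := hinj (hz.trans (map_zero _).symm)
    have hd0 : d = 0 := by
      have h3 := congrArg (h0Equiv (Coh.structureModule Z)) hxd0
      have h4 : h0Equiv (Coh.structureModule Z) xd = d :=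
        (h0Equiv (Coh.structureModule Z)).apply_symm_apply _
      rw [h4, map_zero] at h3
      exact h3
    exact sub_eq_zero.mp hd0
  · have h1 : (ι0 A I Z).appTop.hom e' = (t 0).appTop.hom ((ιn A I Z 0).appTop.hom e') := by
      rw [← ht 0, Scheme.Hom.comp_appTop]
      rfl
    rw [h1, hE 0]
    exact (he 0).1

end main

end Groth.Agent.Helper1.IdemLift
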