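import Groth.Agent.Helper1.SCV20
import Groth.Agent.Helper1.NoethApx5
import Groth.Agent.Helper1.PicLoc4

set_option autoImplicit false
set_option linter.style.haveILetI false
set_option linter.unusedSectionVars false
set_option linter.unusedVariables false

/-!
# IdxConst1: the degree in which the cohomology of the fibres is concentrated is locally constant
-/

namespace Groth.Agent.Helper1.IdxConst

open CategoryTheory Limits Opposite TopologicalSpace AlgebraicGeometry TensorProduct
  AlgebraicGeometry.Scheme.Modules
open Groth.Agent.Helper1.BaseChart Groth.Agent.Helper1.SCV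

universe u

variable {X S : Scheme.{u}} (f : X ⟶ S)

/-- the fibre homology of a complex vanishes in the degrees where the complex vanishes -/
lemma dRank_eq_zero_of_isZero {A : Type u} [CommRing A] (K : ChainComplex (ModuleCat.{u} A) ℤ)
    (i : ℤ) (h : IsZero (K.X i)) (y : PrimeSpectrum A) : CohIII.dRank K i y = 0 := by
  unfold CohIII.dRank
  have h1 : IsZero ((CohIII.bcCx (algebraMap A y.asIdeal.ResidueField) K).X i) :=
    Functor.map_isZero (ModuleCat.extendScalars.{u, u, u}
      (algebraMap A y.asIdeal.ResidueField)) h
  have h2 : IsZero ((CohIII.bcCx (algebraMap A y.asIdeal.ResidueField) K).homology i) :=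
    ShortComplex.isZero_homology_of_isZero_X₂ _ h1
  haveI : Subsingleton ((CohIII.bcCx (algebraMap A y.asIdeal.ResidueField) K).homology i) :=
    ModuleCat.subsingleton_of_isZero h2
  exact Module.finrank_zero_of_subsingleton

/-- **if the cohomology of every fibre is concentrated in a single degree, where it does not
vanish, then that degree is a locally constant function on the base** -/
theorem isLocallyConstant_idx [IsProper f] [LocallyOfFinitePresentation f]
    (F : X.Modules) (hF : CohB1.IsFP F) (hfl : FlatMod.IsFlatOver f F) (idx : S → ℕ)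
    (hidx : ∀ t : S, (∀ j : ℕ, j ≠ idx t → Subsingleton (CohIII.fiberH f F t j)) ∧
      Nontrivial (CohIII.fiberH f F t (idx t))) :
    IsLocallyConstant idx := by
  rw [IsLocallyConstant.iff_exists_open]
  intro t₀
  obtain ⟨W, hW, ht₀W, -⟩ :=
    AlgebraicGeometry.exists_isAffineOpen_mem_and_subset (x := t₀) (U := ⊤) trivial
  haveI : IsAffine (W : Scheme.{u}) := hW
  obtain ⟨K, M⟩ := exists_master f W F hF hfl
  obtain ⟨b, hb⟩ := M.bdd
  set N : ℕ := (-b).toNat with hN
  -- the Betti numbers at `t`
  have hpos : ∀ t : S, PerfAux.betti f F t (idx t) ≠ 0 := by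
    intro t h0
    obtain ⟨W', hW', htW', -⟩ :=
      AlgebraicGeometry.exists_isAffineOpen_mem_and_subset (x := t) (U := ⊤) trivial
    haveI : IsAffine (W' : Scheme.{u}) := hW'
    obtain ⟨K', M'⟩ := exists_master f W' F hF hfl
    have hsub := M'.subsingleton_fiberH_of_betti (idx t) t htW' h0
    haveI := (hidx t).2
    exact not_subsingleton _ hsub
  have hzero : ∀ t : S, ∀ j : ℕ, j ≠ idx t → PerfAux.betti f F t j = 0 := by
    intro t j hj
    haveI : Subsingleton (PerfAux.fiberH f F t j) := (hidx t).1 j hj
    exact Module.finrank_zero_of_subsingleton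
  -- the open neighbourhood
  let U : Set S := (W : Set S) ∩ ⋂ j ∈ (Finset.range (N + 1)).filter (fun j => j ≠ idx t₀),
    {t : S | PerfAux.betti f F t j < 1}
  have hUo : IsOpen U := by
    refine W.isOpen.inter ?_
    exact isOpen_biInter_finset (fun j _ =>
      Groth.Agent.Helper1.NoethApx.isOpen_betti_lt f F hF hfl j 1)
  refine ⟨U, hUo, ?_, ?_⟩
  · refine ⟨ht₀W, ?_⟩
    simp only [Set.mem_iInter, Set.mem_ofPred_eq, Finset.mem_filter, Finset.mem_range]
    intro j hj
    rw [hzero t₀ j hj.2]
    exact Nat.one_pos
  · rintro t ⟨htW, htU⟩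
    by_contra hne
    simp only [Set.mem_iInter, Set.mem_ofPred_eq, Finset.mem_filter, Finset.mem_range] at htU
    by_cases hj : idx t < N + 1
    · have := htU (idx t) ⟨hj, hne⟩
      exact hpos t (by omega)
    · apply hpos t
      rw [M.betti t htW (idx t)]
      apply dRank_eq_zero_of_isZero
      apply hb
      omega

end Groth.Agent.Helper1.IdxConst
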