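import Groth.Agent.Helper1.Cocone
import Groth.Agent.Helper1.Cofree

set_option autoImplicit false
set_option linter.unusedSectionVars false

/-! A functorial termwise-mono quasi-isomorphism `M ⟶ N M` of cochain complexes attached to a
functor `J : A ⥤ A` and a natural monomorphism `𝟭 ⟶ J`, such that `M.X n ⟶ (N M).X n` factors
through `J (M.X n) ⊞ J (M.X (n + 1))`. -/

namespace Groth.Agent.Helper1.InjHull
open CategoryTheory Limits HomologicalComplex ZeroObject

universe v u

variable {A : Type u} [Category.{v} A] [Abelian A] (J : A ⥤ A) (ι : 𝟭 A ⟶ J)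

/-- the cofree complex functor -/
noncomputable def EF : CochainComplex A ℤ ⥤ CochainComplex A ℤ where
  obj M := Cofree.cof (fun k => J.obj (M.X k))
  map f := Cofree.cofMap (fun k => J.map (f.f k))
  map_id M := by
    simp only [id_f, CategoryTheory.Functor.map_id]
    exact Cofree.cofMap_id _
  map_comp f g := by
    simp only [comp_f, Functor.map_comp]
    exact Cofree.cofMap_comp _ _

/-- the embedding into the cofree complex -/
noncomputable def eN : 𝟭 (CochainComplex A ℤ) ⟶ EF J where
  app M := Cofree.toCof M _ (fun k => ι.app (M.X k))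
  naturality M M' f :=
    (Cofree.toCof_cofMap f _ _ _ (fun k => (ι.naturality (f.f k)).symm)).symm

instance [∀ X, Mono (ι.app X)] (M : CochainComplex A ℤ) (k : ℤ) : Mono (((eN J ι).app M).f k) :=
  Cofree.mono_toCof_f M _ _ k

instance [∀ X, Mono (ι.app X)] (M : CochainComplex A ℤ) : Mono ((eN J ι).app M) :=
  mono_of_mono_f _ (fun _ => inferInstance)

/-- the projection to the cokernel, as an arrow -/
noncomputable def arr : CochainComplex A ℤ ⥤ Arrow (CochainComplex A ℤ) where
  obj M := Arrow.mk (cokernel.π ((eN J ι).app M))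
  map {M M'} f := Arrow.homMk ((EF J).map f)
    (cokernel.map _ _ f ((EF J).map f) ((eN J ι).naturality f).symm) (by simp)
  map_id M := by
    ext : 1
    · simp
    · dsimp
      apply coequalizer.hom_ext
      simp
  map_comp f g := by
    ext : 1
    · simp
    · dsimp
      apply coequalizer.hom_ext
      simp

/-- the hull functor -/
noncomputable def N : CochainComplex A ℤ ⥤ CochainComplex A ℤ := arr J ι ⋙ Cocone.ccF

/-- the natural map to the hull -/
noncomputable def j : 𝟭 (CochainComplex A ℤ) ⟶ N J ι where
  app M := Cocone.lift (cokernel.π ((eN J ι).app M)) ((eN J ι).app M) (cokernel.condition _)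
  naturality M M' f :=
    (Cocone.lift_ccMap _ _ _ _ _ _ f _ _ ((arr J ι).map f).w.symm
      ((eN J ι).naturality f).symm).symm

lemma j_f (M : CochainComplex A ℤ) (k : ℤ) : ((j J ι).app M).f k =
    ((eN J ι).app M).f k ≫ Cocone.inlX (cokernel.π ((eN J ι).app M)) k := rfl

variable [∀ X, Mono (ι.app X)]

instance (M : CochainComplex A ℤ) (k : ℤ) : Mono (((j J ι).app M).f k) :=
  Cocone.lift_f_mono (cokernel.π ((eN J ι).app M)) ((eN J ι).app M) (cokernel.condition _) k

lemma quasiIso_j (M : CochainComplex A ℤ) : QuasiIso ((j J ι).app M) := by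
  let S : ShortComplex (CochainComplex A ℤ) :=
    ShortComplex.mk ((eN J ι).app M) (cokernel.π ((eN J ι).app M)) (cokernel.condition _)
  have hS : S.ShortExact :=
    { exact := ShortComplex.exact_cokernel _
      mono_f := inferInstanceAs (Mono ((eN J ι).app M))
      epi_g := inferInstanceAs (Epi (cokernel.π ((eN J ι).app M))) }
  exact Cocone.quasiIso_lift S hS (𝟙 _) (cokernel.π ((eN J ι).app M)) (Category.comp_id _)
    (cokernel.condition _)

lemma injective_EF_X [∀ X, Injective (J.obj X)] (M : CochainComplex A ℤ) (k : ℤ) :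
    Injective (((EF J).obj M).X k) :=
  inferInstanceAs (Injective (J.obj (M.X k) ⊞ J.obj (M.X (k + 1))))

omit [∀ X, Mono (ι.app X)] in
theorem main [∀ X, Mono (ι.app X)] [∀ X, Injective (J.obj X)] :
    ∃ (N : CochainComplex A ℤ ⥤ CochainComplex A ℤ) (j : 𝟭 _ ⟶ N),
      ∀ M : CochainComplex A ℤ, (∀ n : ℤ, Mono ((j.app M).f n)) ∧ QuasiIso (j.app M) ∧
        ∀ n : ℤ, ∃ (I : A) (_ : Injective I) (a : M.X n ⟶ I) (b : I ⟶ (N.obj M).X n),
          Mono b ∧ a ≫ b = (j.app M).f n := by
  refine ⟨N J ι, j J ι, fun M => ⟨fun n => inferInstance, quasiIso_j J ι M, fun n => ?_⟩⟩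
  exact ⟨((EF J).obj M).X n, injective_EF_X J M n, ((eN J ι).app M).f n,
    Cocone.inlX (cokernel.π ((eN J ι).app M)) n, Cocone.mono_inlX _ n, rfl⟩

section groth
variable (A) [IsGrothendieckAbelian.{v} A]

/-- the functor `X ↦ (X ⟶ 0)` -/
noncomputable def toZero : A ⥤ Arrow A where
  obj X := Arrow.mk (0 : X ⟶ 0)
  map f := Arrow.homMk f (𝟙 0) (by simp)

/-- a functorial injective hull -/
noncomputable def JG : A ⥤ A :=
  toZero A ⋙ (MorphismProperty.functorialFactorizationData (MorphismProperty.monomorphisms A)
    (MorphismProperty.monomorphisms A).rlp).Z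

/-- the embedding into the functorial injective hull -/
noncomputable def ιG : 𝟭 A ⟶ JG A where
  app X := (MorphismProperty.functorialFactorizationData (MorphismProperty.monomorphisms A)
    (MorphismProperty.monomorphisms A).rlp).i.app ((toZero A).obj X)
  naturality X Y f := (MorphismProperty.functorialFactorizationData
    (MorphismProperty.monomorphisms A) (MorphismProperty.monomorphisms A).rlp).i.naturality
      ((toZero A).map f)

instance (X : A) : Mono ((ιG A).app X) :=
  inferInstanceAs (Mono (IsGrothendieckAbelian.monoMapFactorizationDataRlp (0 : X ⟶ 0)).i)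

instance (X : A) : Injective ((JG A).obj X) :=
  inferInstanceAs (Injective (IsGrothendieckAbelian.monoMapFactorizationDataRlp (0 : X ⟶ 0)).Z)

end groth

end Groth.Agent.Helper1.InjHull
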