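import Mathlib

/-!
# Helper1: Kähler differentials of a symmetric algebra

For a symmetric algebra `f : M → A` of an `R`-module `M`, the `R`-linear map `m ↦ d (f m)` exhibits
`Ω[A⁄R]` as the base change `A ⊗[R] M`.
-/

set_option autoImplicit false
set_option linter.style.haveILetI false
set_option linter.unusedSectionVars false

universe u

namespace Groth.Agent.Helper1.KDSym

open TrivSqZeroExt

variable {R M A : Type u} [CommRing R] [AddCommGroup M] [Module R M] [CommRing A] [Algebra R A]
  {f : M →ₗ[R] A} (hf : IsSymmetricAlgebra f)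

section der

variable (Q : Type u) [AddCommGroup Q] [Module A Q] [Module R Q] [IsScalarTower R A Q]

/-- the opposite module structure of a module over a commutative ring -/
@[reducible] noncomputable def opModule : Module Aᵐᵒᵖ Q :=
  Module.compHom Q ((RingHom.id A).fromOpposite (fun x y => mul_comm x y))

attribute [local instance] opModule

instance : IsCentralScalar A Q := ⟨fun _ _ => rfl⟩

instance : IsScalarTower R Aᵐᵒᵖ Q := ⟨fun r a q => by
  change ((r • a).unop : A) • q = r • (a.unop • q)
  rw [MulOpposite.unop_smul, smul_assoc]⟩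

/-- the linear map `M → A ⊕ εQ`, `m ↦ (f m, g m)` -/
noncomputable def lin (g : M →ₗ[R] Q) : M →ₗ[R] TrivSqZeroExt A Q :=
  (inlAlgHom R A Q).toLinearMap ∘ₗ f + ((inrHom A Q).restrictScalars R) ∘ₗ g

include hf in
theorem fst_lift (g : M →ₗ[R] Q) (a : A) : fst (hf.lift (lin (f := f) Q g) a) = a := by
  have h : (fstHom R A Q).comp (hf.lift (lin (f := f) Q g)) = AlgHom.id R A := by
    apply hf.algHom_ext
    ext m
    simp [lin, IsSymmetricAlgebra.lift_eq]
  exact congrArg (fun φ : A →ₐ[R] A => φ a) h

/-- the derivation `A → Q` extending `g : M → Q` -/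
noncomputable def der (g : M →ₗ[R] Q) : Derivation R A Q where
  toLinearMap := (sndHom A Q).restrictScalars R ∘ₗ (hf.lift (lin (f := f) Q g)).toLinearMap
  map_one_eq_zero' := by
    simp
  leibniz' a b := by
    simp only [LinearMap.coe_comp, LinearMap.coe_restrictScalars, Function.comp_apply,
      AlgHom.toLinearMap_apply, map_mul, sndHom_apply, snd_mul, fst_lift hf Q g]
    rw [op_smul_eq_smul, add_comm]

theorem der_apply (g : M →ₗ[R] Q) (m : M) : der hf Q g (f m) = g m := by
  change snd (hf.lift (lin (f := f) Q g) (f m)) = g m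
  rw [IsSymmetricAlgebra.lift_eq]
  simp [lin]

include hf in
theorem der_ext {D₁ D₂ : Derivation R A Q} (h : ∀ m, D₁ (f m) = D₂ (f m)) : D₁ = D₂ := by
  ext a
  induction a using hf.induction with
  | algebraMap r => rw [Derivation.map_algebraMap, Derivation.map_algebraMap]
  | ι x => exact h x
  | mul a b ha hb => rw [Derivation.leibniz, Derivation.leibniz, ha, hb]
  | add a b ha hb => rw [map_add, map_add, ha, hb]

end der

/-- the map `m ↦ d (f m)` -/
noncomputable def dι (f : M →ₗ[R] A) : M →ₗ[R] Ω[A⁄R] :=
  (KaehlerDifferential.D R A).toLinearMap ∘ₗ f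

theorem dι_apply (m : M) : dι f m = KaehlerDifferential.D R A (f m) := rfl

include hf in
/-- **`Ω[Sym M⁄R] = Sym M ⊗[R] M`** -/
theorem isBaseChange_dι : IsBaseChange A (dι f) := by
  apply IsBaseChange.of_lift_unique
  intro Q _ _ _ _ g
  letI : AddCommGroup Q := Module.addCommMonoidToAddCommGroup A
  refine ⟨(der hf Q g).liftKaehlerDifferential, ?_, ?_⟩
  · ext m
    simp only [LinearMap.coe_comp, LinearMap.coe_restrictScalars, Function.comp_apply, dι_apply,
      Derivation.liftKaehlerDifferential_comp_D, der_apply]
  · intro g' hg'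
    have h1 : g'.compDer (KaehlerDifferential.D R A) = der hf Q g := by
      apply der_ext hf Q
      intro m
      rw [der_apply]
      exact congrArg (fun φ : M →ₗ[R] Q => φ m) hg'
    rw [← h1]
    exact (Derivation.liftKaehlerDifferential_unique _ _ (by
      simp only [Derivation.liftKaehlerDifferential_comp])).symm

end Groth.Agent.Helper1.KDSym
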