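import Mathlib

set_option autoImplicit false

/-! Sequential limits of K-injective complexes along termwise split epimorphisms are
K-injective. -/

namespace Groth.Agent.Helper1.KInjLim
open CategoryTheory Limits Opposite CochainComplex HomComplex

universe v u
variable {A : Type u} [Category.{v} A] [Abelian A] [HasLimitsOfShape ℕᵒᵖ A]
  (I : ℕᵒᵖ ⥤ CochainComplex A ℤ)

/-- the transition morphism `op (n+1) ⟶ op n` -/
def tr (n : ℕ) : (op (n + 1) : ℕᵒᵖ) ⟶ op n := (homOfLE (Nat.le_succ n)).op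

/-- the transition maps -/
abbrev p (n : ℕ) : I.obj (op (n + 1)) ⟶ I.obj (op n) := I.map (tr n)

variable {I}

lemma step (h1 : ∀ n : ℕ, (I.obj (op n)).IsKInjective)
    (h2 : ∀ (n : ℕ) (m : ℤ), IsSplitEpi ((p I n).f m))
    {K : CochainComplex A ℤ} (hK : K.Acyclic) (f : K ⟶ limit I) (n : ℕ)
    (α : Cochain K (I.obj (op n)) (-1))
    (hα : δ (-1) 0 α = Cochain.ofHom (f ≫ limit.π I (op n))) :
    ∃ α' : Cochain K (I.obj (op (n + 1))) (-1),
      δ (-1) 0 α' = Cochain.ofHom (f ≫ limit.π I (op (n + 1))) ∧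
        α'.comp (Cochain.ofHom (p I n)) (add_zero _) = α := by
  have := h1 (n + 1)
  obtain ⟨β, hβ⟩ := IsKInjective.eq_δ_of_cocycle
    (Cocycle.ofHom (f ≫ limit.π I (op (n + 1)))) hK (-1) (by simp)
  replace hβ : δ (-1) 0 β = Cochain.ofHom (f ≫ limit.π I (op (n + 1))) := hβ
  let γ := α - β.comp (Cochain.ofHom (p I n)) (add_zero _)
  have hγ : δ (-1) 0 γ = 0 := by
    dsimp only [γ]
    rw [δ_sub, hα, δ_comp_ofHom, hβ, ← Cochain.ofHom_comp, Category.assoc, limit.w, sub_self]
  have := h1 n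
  obtain ⟨g, hg⟩ := IsKInjective.eq_δ_of_cocycle (Cocycle.mk γ 0 (by simp) hγ) hK (-2)
    (by simp)
  replace hg : δ (-2) (-1) g = γ := hg
  let s : Cochain (I.obj (op n)) (I.obj (op (n + 1))) 0 :=
    Cochain.ofHoms (fun m => @section_ _ _ _ _ ((p I n).f m) (h2 n m))
  have hs : s.comp (Cochain.ofHom (p I n)) (add_zero 0) = Cochain.ofHom (𝟙 _) := by
    ext m
    have := h2 n m
    simp [s, Cochain.comp_zero_cochain_v, Cochain.ofHoms_v]
  let g' := g.comp s (add_zero _)
  have hg' : g'.comp (Cochain.ofHom (p I n)) (add_zero _) = g := by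
    dsimp only [g']
    rw [Cochain.comp_assoc_of_third_is_zero_cochain, hs, Cochain.comp_id]
  refine ⟨β + δ (-2) (-1) g', ?_, ?_⟩
  · rw [δ_add, δ_δ, add_zero, hβ]
  · rw [Cochain.add_comp, ← δ_comp_ofHom, hg', hg]
    dsimp only [γ]
    abel

/-- compatible sequences of morphisms to the terms of `I` lift to the limit -/
lemma exists_lift {X : A} (j : ℤ) (φ : ∀ n : ℕ, X ⟶ (I.obj (op n)).X j)
    (hφ : ∀ n, φ (n + 1) ≫ (p I n).f j = φ n) :
    ∃ ψ : X ⟶ (limit I).X j, ∀ n, ψ ≫ (limit.π I (op n)).f j = φ n := by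
  have hl := isLimitOfPreserves (HomologicalComplex.eval A (ComplexShape.up ℤ) j)
    (limit.isLimit I)
  have hcompat : ∀ (m k : ℕ) (h : m ≤ k), φ k ≫ (I.map (homOfLE h).op).f j = φ m := by
    intro m k h
    induction k, h using Nat.le_induction with
    | base =>
      have : (homOfLE (le_refl m)).op = 𝟙 (op m : ℕᵒᵖ) := Subsingleton.elim _ _
      rw [this, I.map_id]
      exact Category.comp_id _
    | succ k h ih =>
      have : (homOfLE (h.trans (Nat.le_succ k))).op = tr k ≫ (homOfLE h).op :=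
        Subsingleton.elim _ _
      rw [this, I.map_comp, HomologicalComplex.comp_f, ← Category.assoc, hφ, ih]
  let c : Cone (I ⋙ HomologicalComplex.eval A (ComplexShape.up ℤ) j) :=
    { pt := X
      π :=
        { app := fun n => φ n.unop
          naturality := by
            rintro ⟨m⟩ ⟨k⟩ g
            have h : k ≤ m := leOfHom g.unop
            have e : g = (homOfLE h).op := Subsingleton.elim _ _
            subst e
            dsimp
            rw [Category.id_comp]
            exact (hcompat k m h).symm } }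
  exact ⟨hl.lift c, fun n => hl.fac c (op n)⟩

lemma hom_ext_limit {X : A} (j : ℤ) {ψ₁ ψ₂ : X ⟶ (limit I).X j}
    (h : ∀ n : ℕ, ψ₁ ≫ (limit.π I (op n)).f j = ψ₂ ≫ (limit.π I (op n)).f j) : ψ₁ = ψ₂ := by
  have hl := isLimitOfPreserves (HomologicalComplex.eval A (ComplexShape.up ℤ) j)
    (limit.isLimit I)
  refine hl.hom_ext ?_
  rintro ⟨n⟩
  exact h n

theorem main (h1 : ∀ n : ℕ, (I.obj (op n)).IsKInjective)
    (h2 : ∀ (n : ℕ) (m : ℤ), IsSplitEpi ((p I n).f m)) : (limit I).IsKInjective where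
  nonempty_homotopy_zero {K} f hK := by
    -- the base cochain
    have := h1 0
    obtain ⟨α₀, hα₀⟩ := IsKInjective.eq_δ_of_cocycle
      (Cocycle.ofHom (f ≫ limit.π I (op 0))) hK (-1) (by simp)
    replace hα₀ : δ (-1) 0 α₀ = Cochain.ofHom (f ≫ limit.π I (op 0)) := hα₀
    -- the sequence
    let seq : ∀ n : ℕ, {α : Cochain K (I.obj (op n)) (-1) //
        δ (-1) 0 α = Cochain.ofHom (f ≫ limit.π I (op n))} :=
      fun n => Nat.rec ⟨α₀, hα₀⟩
        (fun n a => ⟨(step h1 h2 hK f n a.1 a.2).choose,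
          (step h1 h2 hK f n a.1 a.2).choose_spec.1⟩) n
    have hseq : ∀ n, (seq (n + 1)).1.comp (Cochain.ofHom (p I n)) (add_zero _) = (seq n).1 :=
      fun n => (step h1 h2 hK f n (seq n).1 (seq n).2).choose_spec.2
    -- the limit cochain
    have hex : ∀ (i j : ℤ) (hij : i + (-1) = j), ∃ ψ : K.X i ⟶ (limit I).X j,
        ∀ n, ψ ≫ (limit.π I (op n)).f j = (seq n).1.v i j hij := by
      intro i j hij
      refine exists_lift j (fun n => (seq n).1.v i j hij) (fun n => ?_)
      have := Cochain.congr_v (hseq n) i j hij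
      rw [Cochain.comp_zero_cochain_v, Cochain.ofHom_v] at this
      exact this
    let α : Cochain K (limit I) (-1) := Cochain.mk (fun i j hij => (hex i j hij).choose)
    have hα : ∀ n, α.comp (Cochain.ofHom (limit.π I (op n))) (add_zero _) = (seq n).1 := by
      intro n
      ext i j hij
      rw [Cochain.comp_zero_cochain_v, Cochain.ofHom_v]
      exact (hex i j hij).choose_spec n
    have hδ : δ (-1) 0 α = Cochain.ofHom f := by
      ext i
      apply hom_ext_limit
      intro n
      have e1 := Cochain.congr_v (δ_comp_ofHom α (limit.π I (op n)) 0) i i (add_zero i)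
      rw [hα n, (seq n).2, Cochain.comp_zero_cochain_v, Cochain.ofHom_v, Cochain.ofHom_v] at e1
      rw [Cochain.ofHom_v, ← e1, HomologicalComplex.comp_f]
    exact ⟨(Cochain.equivHomotopy f 0).symm ⟨α, by simp [hδ]⟩⟩

end Groth.Agent.Helper1.KInjLim
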