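import Mathlib

set_option autoImplicit false

namespace Groth.Agent.Helper1.Karoubi
open CategoryTheory Limits Pretriangulated
universe v u
variable {D : Type u} [Category.{v} D] [Preadditive D] [HasZeroObject D] [HasShift D ℤ]
    [∀ n : ℤ, (shiftFunctor D n).Additive] [Pretriangulated D]

/-- a split epi in a pretriangulated category has a kernel which is a weak kernel and mono -/
lemma exists_kernel_of_splitEpi {P Q : D} (Φ : P ⟶ Q) (Ψ : Q ⟶ P) (h : Ψ ≫ Φ = 𝟙 Q) :
    ∃ (K : D) (i : K ⟶ P), Mono i ∧ i ≫ Φ = 0 ∧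
      ∀ (W : D) (g : W ⟶ P), g ≫ Φ = 0 → ∃ l : W ⟶ K, l ≫ i = g := by
  obtain ⟨K, i, δ, hT⟩ := distinguished_cocone_triangle₁ Φ
  have hδ : δ = 0 := by
    have h1 : Φ ≫ δ = 0 := comp_distTriang_mor_zero₂₃ _ hT
    calc δ = (Ψ ≫ Φ) ≫ δ := by rw [h, Category.id_comp]
      _ = 0 := by rw [Category.assoc, h1, comp_zero]
  refine ⟨K, i, Triangle.mono₁ _ hT hδ, comp_distTriang_mor_zero₁₂ _ hT, ?_⟩
  intro W g hg
  obtain ⟨l, hl⟩ := Triangle.coyoneda_exact₂ _ hT g hg
  exact ⟨l, hl.symm⟩

lemma hasKernel_of_idempotent [HasLimitsOfShape (Discrete ℕ) D] {X : D} (e : X ⟶ X)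
    (he : e ≫ e = e) : HasKernel e := by
  let P : D := ∏ᶜ (fun _ : ℕ => X)
  let π : ∀ n : ℕ, P ⟶ X := fun n => Pi.π (fun _ : ℕ => X) n
  let Φ : P ⟶ P := Pi.lift (fun n => π n ≫ e + π (n+1) ≫ (𝟙 X - e))
  let Ψ : P ⟶ P := Pi.lift (fun n => match n with
    | 0 => π 0
    | (n+1) => π n ≫ (𝟙 X - e) + π (n+1) ≫ e)
  have hΦ : ∀ n, Φ ≫ π n = π n ≫ e + π (n+1) ≫ (𝟙 X - e) := fun n => Pi.lift_π _ _
  have hΨ0 : Ψ ≫ π 0 = π 0 := Pi.lift_π _ _
  have hΨs : ∀ n, Ψ ≫ π (n+1) = π n ≫ (𝟙 X - e) + π (n+1) ≫ e := fun n => Pi.lift_π _ _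
  have e1 : e ≫ (𝟙 X - e) = 0 := by rw [Preadditive.comp_sub, Category.comp_id, he, sub_self]
  have e2 : (𝟙 X - e) ≫ e = 0 := by rw [Preadditive.sub_comp, Category.id_comp, he, sub_self]
  have e3 : (𝟙 X - e) ≫ (𝟙 X - e) = 𝟙 X - e := by
    rw [Preadditive.comp_sub, Category.comp_id, e2, sub_zero]
  have hΨΦ : Ψ ≫ Φ = 𝟙 P := by
    apply Pi.hom_ext
    intro n
    rw [Category.assoc, hΦ, Preadditive.comp_add, ← Category.assoc, ← Category.assoc, hΨs,
      Category.id_comp]
    cases n with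
    | zero =>
      rw [hΨ0, Preadditive.add_comp, Category.assoc, Category.assoc, e3, e1, comp_zero, add_zero,
        ← Preadditive.comp_add, add_sub_cancel, Category.comp_id]
    | succ n =>
      rw [hΨs, Preadditive.add_comp, Preadditive.add_comp, Category.assoc, Category.assoc,
        Category.assoc, Category.assoc, e3, e1, e2, he, comp_zero, comp_zero, add_zero, zero_add,
        ← Preadditive.comp_add, add_sub_cancel, Category.comp_id]
  obtain ⟨K, i, hi, hiΦ, hlift⟩ := exists_kernel_of_splitEpi Φ Ψ hΨΦ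
  -- consequences of i ≫ Φ = 0
  have h1 : ∀ n, i ≫ π n ≫ e + i ≫ π (n+1) ≫ (𝟙 X - e) = 0 := by
    intro n
    have := congrArg (fun f => f ≫ π n) hiΦ
    simp only [Category.assoc, hΦ, zero_comp, Preadditive.comp_add] at this
    exact this
  have h2 : ∀ n, i ≫ π n ≫ e = 0 := by
    intro n
    have := congrArg (fun f => f ≫ e) (h1 n)
    simp only [Preadditive.add_comp, Category.assoc, he, e2, comp_zero, add_zero, zero_comp] at this
    exact this
  have h3 : ∀ n, i ≫ π (n+1) = 0 := by
    intro n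
    have h4 : i ≫ π (n+1) ≫ (𝟙 X - e) = 0 := by
      have := h1 n
      rwa [h2 n, zero_add] at this
    have h5 := h2 (n+1)
    rw [Preadditive.comp_sub, Preadditive.comp_sub, Category.comp_id, h5, sub_zero] at h4
    exact h4
  have hmono : Mono (i ≫ π 0) := by
    constructor
    intro W l l' hl
    rw [← cancel_mono i]
    apply Pi.hom_ext
    intro n
    cases n with
    | zero => simpa only [Category.assoc] using hl
    | succ n =>
      have := h3 n
      rw [Category.assoc, Category.assoc]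
      erw [this]
      rw [comp_zero, comp_zero]
  have hex : ∀ {W : D} (g : W ⟶ X), g ≫ e = 0 → ∃ l : W ⟶ K, l ≫ (i ≫ π 0) = g := by
    intro W g hg
    obtain ⟨l, hl⟩ := hlift W (Pi.lift (fun n => match n with | 0 => g | (n+1) => 0)) (by
      apply Pi.hom_ext
      intro n
      rw [Category.assoc, hΦ, Preadditive.comp_add, ← Category.assoc, ← Category.assoc, zero_comp]
      erw [Pi.lift_π, Pi.lift_π]
      cases n with
      | zero => simp [hg]
      | succ n => simp)
    refine ⟨l, ?_⟩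
    rw [← Category.assoc, hl]
    exact Pi.lift_π _ _
  exact HasLimit.mk ⟨KernelFork.ofι (i ≫ π 0) (by rw [Category.assoc]; exact h2 0),
    KernelFork.IsLimit.ofι' _ _ (fun {W} g hg => ⟨(hex g hg).choose, (hex g hg).choose_spec⟩)⟩

theorem isIdempotentComplete_of_hasProducts [HasLimitsOfShape (Discrete ℕ) D] :
    IsIdempotentComplete D := by
  rw [Idempotents.isIdempotentComplete_iff_idempotents_have_kernels]
  intro X p hp
  exact hasKernel_of_idempotent p hp

end Groth.Agent.Helper1.Karoubi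

namespace Groth.Agent.Helper1.Karoubi
open CategoryTheory Limits Pretriangulated
universe v u
variable {D : Type u} [Category.{v} D] [Preadditive D] [HasZeroObject D] [HasShift D ℤ]
    [∀ n : ℤ, (shiftFunctor D n).Additive] [Pretriangulated D]

open Pretriangulated.Opposite in
theorem isIdempotentComplete_of_hasCoproducts [HasColimitsOfShape (Discrete ℕ) D] :
    IsIdempotentComplete D := by
  rw [← Idempotents.isIdempotentComplete_iff_opposite]
  have : HasLimitsOfShape (Discrete ℕ) Dᵒᵖ := by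
    have : HasLimitsOfShape (Discrete ℕ)ᵒᵖ Dᵒᵖ := hasLimitsOfShape_opposite_opposite_iff.2 inferInstance
    exact hasLimitsOfShape_of_equivalence (Discrete.opposite ℕ)
  exact isIdempotentComplete_of_hasProducts

theorem isIdempotentComplete_of_hasCoproducts_or_hasProducts
    (h : HasColimitsOfShape (Discrete ℕ) D ∨ HasLimitsOfShape (Discrete ℕ) D) :
    IsIdempotentComplete D := by
  rcases h with h | h
  · exact isIdempotentComplete_of_hasCoproducts
  · exact isIdempotentComplete_of_hasProducts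

end Groth.Agent.Helper1.Karoubi
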