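import Mathlib
import Groth.Prelude.Def_ega3
import Groth.Agent.Helper1.KoszulDepth

set_option autoImplicit false

/-!
# Finiteness of Koszul cohomology; Koszul-acyclic sequences in the radical are regular
-/

namespace Groth.Agent.Helper1.Koszul
open CategoryTheory Limits CochainComplex HomologicalComplex HomComplex CohIII Pointwise

universe u
variable {A : Type u} [CommRing A]

section finite

lemma finite_cone_X {K : CochainComplex (ModuleCat.{u} A) ℤ} (φ : K ⟶ K) (n : ℤ)
    (h1 : Module.Finite A (K.X (n + 1))) (h2 : Module.Finite A (K.X n)) :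
    Module.Finite A ((mappingCone φ).X n) := by
  let g : (K.X (n + 1) × K.X n) →ₗ[A] (mappingCone φ).X n :=
    LinearMap.coprod ((mappingCone.inl φ).v (n + 1) n (by omega)).hom ((mappingCone.inr φ).f n).hom
  refine Module.Finite.of_surjective g ?_
  intro x
  refine ⟨(((mappingCone.fst φ).1.v n (n + 1) rfl).hom x,
    ((mappingCone.snd φ).v n n (add_zero n)).hom x), ?_⟩
  exact (cone_decomp φ n (n + 1) rfl x).symm

lemma finite_X (M : ModuleCat.{u} A) [Module.Finite A M] :
    ∀ (fs : List A) (n : ℤ), Module.Finite A ((koszulCx M fs).X n)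
  | [], n => by
    by_cases hn : n = 0
    · subst hn
      exact Module.Finite.equiv
        (HomologicalComplex.singleObjXSelf (ComplexShape.up ℤ) (0 : ℤ) M).toLinearEquiv.symm
    · haveI : Subsingleton (((HomologicalComplex.single (ModuleCat.{u} A) (ComplexShape.up ℤ) 0).obj
        M).X n) := ModuleCat.isZero_iff_subsingleton.1
          (HomologicalComplex.isZero_single_obj_X _ _ _ _ hn)
      exact (inferInstance : Module.Finite A (((HomologicalComplex.single (ModuleCat.{u} A)
        (ComplexShape.up ℤ) 0).obj M).X n))
  | f :: fs, n => finite_cone_X _ n (finite_X M fs (n + 1)) (finite_X M fs n)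

lemma finite_homology [IsNoetherianRing A] (K : CochainComplex (ModuleCat.{u} A) ℤ) (n : ℤ)
    (h : Module.Finite A (K.X n)) : Module.Finite A (K.homology n) := by
  have h1 : Module.Finite A (K.cycles n) :=
    Module.Finite.of_injective (K.iCycles n).hom ((ModuleCat.mono_iff_injective _).1 inferInstance)
  exact Module.Finite.of_surjective (K.homologyπ n).hom
    ((ModuleCat.epi_iff_surjective _).1 inferInstance)

end finite

section acyclic

open RingTheory.Sequence

variable [IsNoetherianRing A] (M : Type u) [AddCommGroup M] [Module A M] [Module.Finite A M]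

omit [IsNoetherianRing A] in
lemma eq_zero_of_smul_surjective (N : Type u) [AddCommGroup N] [Module A N] [Module.Finite A N]
    (f : A) (hf : f ∈ (⊥ : Ideal A).jacobson) (hs : ∀ y : N, ∃ x : N, f • x = y) :
    Subsingleton N := by
  have h1 : (⊤ : Submodule A N) = ⊥ := by
    apply Submodule.eq_bot_of_le_smul_of_le_jacobson_bot (Ideal.span {f}) ⊤ Module.Finite.fg_top
    · intro y _
      obtain ⟨x, rfl⟩ := hs y
      exact Submodule.smul_mem_smul (Ideal.subset_span rfl) Submodule.mem_top
    · rw [Ideal.span_le]
      intro x hx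
      rw [Set.mem_singleton_iff.1 hx]
      exact hf
  exact (Submodule.subsingleton_iff A).1 (subsingleton_of_bot_eq_top h1.symm)

/-- a Koszul-acyclic sequence in the Jacobson radical is regular -/
theorem isWeaklyRegular_of_acyclic : ∀ xs : List A, (∀ x ∈ xs, x ∈ (⊥ : Ideal A).jacobson) →
    (∀ j : ℤ, j < 0 → IsZero ((koszulCx (ModuleCat.of A M) xs).homology j)) →
    IsWeaklyRegular M xs
  | [], _, _ => IsWeaklyRegular.nil A M
  | f :: fs, hmem, hacyc => by
    have hf : f ∈ (⊥ : Ideal A).jacobson := hmem f List.mem_cons_self
    have h1 : ∀ j : ℤ, j < 0 → IsZero ((koszulCx (ModuleCat.of A M) fs).homology j) := by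
      intro j hj
      rw [ModuleCat.isZero_iff_subsingleton]
      haveI : Module.Finite A ((koszulCx (ModuleCat.of A M) fs).homology j) :=
        finite_homology _ j (finite_X _ fs j)
      apply eq_zero_of_smul_surjective _ f hf
      intro y
      haveI : Subsingleton ((mappingCone (f • 𝟙 (koszulCx (ModuleCat.of A M) fs))).homology j) :=
        ModuleCat.isZero_iff_subsingleton.1 (hacyc j hj)
      exact exists_of_ι_eq_zero (koszulCx (ModuleCat.of A M) fs) f j y (Subsingleton.elim _ _)
    have h2 : IsWeaklyRegular M fs :=
      isWeaklyRegular_of_acyclic fs (fun x hx => hmem x (List.mem_cons_of_mem _ hx)) h1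
    have h3 : ∀ z : (koszulCx (ModuleCat.of A M) fs).homology 0, f • z = 0 → z = 0 := by
      intro z hz
      obtain ⟨y, rfl⟩ := exists_of_smul_eq_zero (koszulCx (ModuleCat.of A M) fs) f (-1) 0 (by norm_num)
        z hz
      haveI : Subsingleton ((mappingCone (f • 𝟙 (koszulCx (ModuleCat.of A M) fs))).homology (-1)) :=
        ModuleCat.isZero_iff_subsingleton.1 (hacyc (-1) (by norm_num))
      rw [Subsingleton.elim y 0, map_zero]
    obtain ⟨e⟩ := nonempty_homology_zero_equiv M fs
    have h4 : IsSMulRegular (M ⧸ (Ideal.ofList fs • (⊤ : Submodule A M))) f := by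
      rw [isSMulRegular_iff_right_eq_zero_of_smul]
      intro m hm
      have : e.symm m = 0 := h3 _ (by rw [← map_smul, hm, map_zero])
      simpa using this
    have h5 : IsWeaklyRegular M (fs ++ [f]) := by
      rw [isWeaklyRegular_append_iff, isWeaklyRegular_singleton_iff]
      exact ⟨h2, h4⟩
    refine h5.of_perm_of_subset_jacobson_annihilator (List.perm_append_singleton f fs) ?_
    intro r hr
    have hr' : r ∈ f :: fs := by
      rcases List.mem_append.1 hr with h | h
      · exact List.mem_cons_of_mem _ h
      · rw [List.mem_singleton.1 h]; exact List.mem_cons_self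
    exact Ideal.jacobson_mono bot_le (hmem r hr')

end acyclic

end Groth.Agent.Helper1.Koszul
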