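import Mathlib
import Groth.Prelude.Def_ega3
import Groth.Prelude.Def_Wider
import Groth.Agent.Helper1.KoszulEfface
import Groth.Agent.Helper1.LocCohZero

set_option autoImplicit false

/-!
# Local cohomology is the limit Koszul cohomology
-/

namespace Groth.Agent.Helper1.Koszul
open CategoryTheory Limits CochainComplex HomologicalComplex HomComplex CohIII
open Groth.Agent.Helper1.DeltaFun Groth.Agent.Helper1.LocCohDelta

universe u
variable {A : Type u} [CommRing A] [IsNoetherianRing A]

/-- S5169 -/
theorem subsingleton_koszulHLim_of_injective (fs : List A) (M : Type u) [AddCommGroup M]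
    [Module A M] [Module.Injective A M] (i : ℕ) (hi : 0 < i) :
    Subsingleton (CohIII.koszulHLim fs (ModuleCat.of A M) i) := by
  have h := (subsingleton_HLim_iff fs (ModuleCat.of A M) ((i : ℤ) - fs.length)).2
    (dies_of_injective M fs _ (by omega))
  exact h

lemma koszulDelta_effaceable (fs : List A) : (koszulDelta fs).Effaceable := by
  intro E _ n
  haveI : Module.Injective A E := Module.injective_module_of_injective_object A E
  rw [ModuleCat.isZero_iff_subsingleton]
  exact (subsingleton_HLim_iff fs (ModuleCat.of A E) (((n + 1 : ℕ) : ℤ) - fs.length)).2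
    (dies_of_injective E fs _ (by push_cast; omega))

/-- the degree zero comparison -/
noncomputable def e₀ (fs : List A) :
    (lcDelta (Ideal.span {a | a ∈ fs})).T 0 ≅ (koszulDelta fs).T 0 :=
  lcZeroIso (Ideal.span {a | a ∈ fs}) ≪≫
    (botIso fs (((0 : ℕ) : ℤ) - fs.length) (by simp)).symm

/-- local cohomology is the limit Koszul cohomology, as functors -/
theorem nonempty_lc_iso_koszul (fs : List A) (i : ℕ) :
    Nonempty (localCohomology (Ideal.span {a | a ∈ fs}) i ≅ (koszulDelta fs).T i) :=
  nonempty_iso_of_effaceable (lcDelta (Ideal.span {a | a ∈ fs})) (koszulDelta fs)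
    (lcDelta_effaceable _) (koszulDelta_effaceable fs) (e₀ fs) i

/-- S5173 -/
theorem nonempty_lc_equiv_koszulHLim (fs : List A) (M : Type u) [AddCommGroup M] [Module A M]
    (i : ℕ) :
    Nonempty (LocCoh.H (Ideal.span {a | a ∈ fs}) i M ≃ₗ[A]
      CohIII.koszulHLim fs (ModuleCat.of A M) i) := by
  obtain ⟨e⟩ := nonempty_lc_iso_koszul fs i
  exact ⟨(e.app (ModuleCat.of A M)).toLinearEquiv⟩

end Groth.Agent.Helper1.Koszul
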