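import Mathlib
import Groth.Agent.Helper1.KzLin4

set_option autoImplicit false
set_option linter.unusedSectionVars false
set_option linter.style.haveILetI false

/-!
# An `m`-regular module is a quotient of `O(-m)^b` with `(m+1)`-regular kernel
-/

namespace Groth.Agent.Helper1.KzLin

open CategoryTheory Limits AlgebraicGeometry TopologicalSpace Opposite
open Groth.Agent.Helper1.SerreFin Groth.Agent.Helper1.SerreVan Groth.Agent.Helper1.ProjTop
  Groth.Agent.Helper1.TwistExact Groth.Agent.Helper1.HHLes Groth.Agent.Helper1.KzReg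
  Groth.Agent.Helper1.KzMultPn

universe u

variable (n : ℕ) (R : Type u) [CommRing R]

local notation "𝕆(" d ")" => Twist.twistProjSpace n R d

set_option maxHeartbeats 1600000 in
/-- **linear presentation of a regular module** -/
theorem exists_epi_of_isReg [IsNoetherianRing R] (F : (CohB1.ProjSpace n R).Modules)
    (hF : Coh.IsCoh F) (m : ℤ) (h : IsReg n R F m) :
    ∃ (b : ℕ) (φ : (∐ fun _ : Fin b => 𝕆(-m)) ⟶ F), Epi φ ∧
      ∀ i : ℕ, 1 ≤ i → i ≤ n → Subsingleton (Coh.HH (CohB1.ProjSpace n R)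
        (CohB1.tensorMod (kernel φ) 𝕆(m + 1 - i)) i) := by
  have hF' : Coh.IsCoh (CohB1.tensorMod F 𝕆(m)) := isCoh_tw n R F hF m
  haveI : Module.Finite R (Coh.HH (CohB1.ProjSpace n R) (CohB1.tensorMod F 𝕆(m)) 0) :=
    finite_HH n R _ hF' 0
  obtain ⟨b, σ, hspan⟩ := exists_span_of_finite R (CohB1.tensorMod F 𝕆(m))
  have hgg := isGloballyGenerated_of_isReg n R F hF m m le_rfl h
  haveI hψ : Epi (secMap (CohB1.tensorMod F 𝕆(m)) σ) := epi_secMap _ hgg σ hspan
  have hsurj : Function.Surjective (Canon.HHlin R (secMap (CohB1.tensorMod F 𝕆(m)) σ) 0) :=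
    surjective_HHlin_of_app_top R _ (secMap_app_top_surjective _ σ hspan)
  -- the key vanishing
  have key : ∀ (j : ℕ) (d : ℤ), d = -(j : ℤ) → j + 1 ≤ n →
      Subsingleton (Coh.HH (CohB1.ProjSpace n R)
        (CohB1.tensorMod (kernel (secMap (CohB1.tensorMod F 𝕆(m)) σ)) 𝕆(d)) (j + 1)) := by
    intro j d hd hjn
    rcases Nat.eq_zero_or_pos j with hj | hj
    · subst hj
      have hd0 : d = 0 := by rw [hd]; simp
      subst hd0
      haveI := subsingleton_HH_sigmaO n R b 1 le_rfl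
      haveI := subsingleton_HH_kernel R (secMap (CohB1.tensorMod F 𝕆(m)) σ) 0 hsurj inferInstance
      obtain ⟨e⟩ := tw_zero_iso n R (kernel (secMap (CohB1.tensorMod F 𝕆(m)) σ))
      exact (HHlinEquiv R (X := CohB1.ProjSpace n R) e (0 + 1)).toEquiv.subsingleton
    · have hB := isInvertible_twist n R d
      haveI : Epi (KoszTw.tensorMap (secMap (CohB1.tensorMod F 𝕆(m)) σ) (𝟙 𝕆(d))) :=
        epi_tensorMap _ _ hB
      obtain ⟨eK⟩ := nonempty_kernel_tensorMap_iso (secMap (CohB1.tensorMod F 𝕆(m)) σ) _ hB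
      -- `H^j(F(m) ⊗ O(d)) = 0`
      haveI h1 : Subsingleton (Coh.HH (CohB1.ProjSpace n R)
          (CohB1.tensorMod (CohB1.tensorMod F 𝕆(m)) 𝕆(d)) j) := by
        obtain ⟨e1⟩ := tw_tw_iso n R F m d (m - j) (by rw [hd]; ring)
        haveI := h j hj
        exact (HHlinEquiv R (X := CohB1.ProjSpace n R) e1 j).toEquiv.subsingleton
      -- `H^{j+1}(O^b ⊗ O(d)) = 0`
      haveI h2 : Subsingleton (Coh.HH (CohB1.ProjSpace n R)
          (CohB1.tensorMod (∐ fun _ : Fin b => Coh.structureModule (CohB1.ProjSpace n R)) 𝕆(d))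
          (j + 1)) := by
        obtain ⟨e2⟩ := sigmaO_tw_iso n R b d
        haveI := subsingleton_HH_sigmaTw n R b d (j + 1) (by omega) (by omega)
        exact (HHlinEquiv R (X := CohB1.ProjSpace n R) e2 (j + 1)).toEquiv.subsingleton
      haveI := subsingleton_HH_kernel R
        (KoszTw.tensorMap (secMap (CohB1.tensorMod F 𝕆(m)) σ) (𝟙 𝕆(d))) j
        (fun y => ⟨0, Subsingleton.elim _ _⟩) h2
      exact (HHlinEquiv R (X := CohB1.ProjSpace n R) eK (j + 1)).symm.toEquiv.subsingleton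
  -- the morphism
  obtain ⟨α⟩ := sigmaO_tw_iso n R b (-m)
  obtain ⟨β1⟩ := tw_tw_iso n R F m (-m) 0 (by ring)
  obtain ⟨β2⟩ := tw_zero_iso n R F
  have hBm := isInvertible_twist n R (-m)
  haveI hψm : Epi (KoszTw.tensorMap (secMap (CohB1.tensorMod F 𝕆(m)) σ) (𝟙 𝕆(-m))) :=
    epi_tensorMap _ _ hBm
  obtain ⟨eK⟩ := nonempty_kernel_tensorMap_iso (secMap (CohB1.tensorMod F 𝕆(m)) σ) _ hBm
  refine ⟨b, α.inv ≫ KoszTw.tensorMap (secMap (CohB1.tensorMod F 𝕆(m)) σ) (𝟙 𝕆(-m)) ≫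
    (β1 ≪≫ β2).hom, ?_, ?_⟩
  · haveI : Epi (KoszTw.tensorMap (secMap (CohB1.tensorMod F 𝕆(m)) σ) (𝟙 𝕆(-m)) ≫
        (β1 ≪≫ β2).hom) := epi_comp _ _
    exact epi_comp _ _
  · intro i hi hin
    let e1 : kernel (α.inv ≫ KoszTw.tensorMap (secMap (CohB1.tensorMod F 𝕆(m)) σ) (𝟙 𝕆(-m)) ≫
        (β1 ≪≫ β2).hom) ≅
        CohB1.tensorMod (kernel (secMap (CohB1.tensorMod F 𝕆(m)) σ)) 𝕆(-m) :=
      kernelIsIsoComp α.inv _ ≪≫ kernelCompMono _ (β1 ≪≫ β2).hom ≪≫ eK
    obtain ⟨e2⟩ := tw_tw_iso n R (kernel (secMap (CohB1.tensorMod F 𝕆(m)) σ)) (-m)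
      (m + 1 - i) (1 - i) (by ring)
    haveI := key (i - 1) (1 - i) (by omega) (by omega)
    have hi1 : i - 1 + 1 = i := by omega
    rw [hi1] at this
    exact (HHlinEquiv R (X := CohB1.ProjSpace n R)
      (PicGrp.tensorModIso e1 (Iso.refl 𝕆(m + 1 - i)) ≪≫ e2) i).toEquiv.subsingleton

end Groth.Agent.Helper1.KzLin
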