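import Mathlib
import Groth.Agent.Helper1.LG2

/-!
# LG3: modules on a ringed space: finite type, elementwise
-/

set_option autoImplicit false
universe u
open CategoryTheory CategoryTheory.Limits Opposite TopologicalSpace

namespace Groth.Agent.Helper1.LG

variable {T : TopCat.{u}} {R : Sheaf (Opens.grothendieckTopology T) RingCat.{u}}
  (M : SheafOfModules.{u} R)

/-- restriction of sections -/
noncomputable def res {V W : Opens T} (h : W ≤ V) (m : M.val.obj (op V)) : M.val.obj (op W) :=
  M.val.map (homOfLE h).op m

/-- restriction of functions -/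
noncomputable def resR {V W : Opens T} (h : W ≤ V) : R.obj.obj (op V) →+* R.obj.obj (op W) :=
  (R.obj.map (homOfLE h).op).hom

variable {M}

theorem res_res {V W W' : Opens T} (h : W ≤ V) (h' : W' ≤ W) (m : M.val.obj (op V)) :
    res M h' (res M h m) = res M (h'.trans h) m := by
  change (M.val.presheaf.map (homOfLE h).op ≫ M.val.presheaf.map (homOfLE h').op) m = _
  rw [← M.val.presheaf.map_comp]
  rfl

theorem res_self {V : Opens T} (h : V ≤ V) (m : M.val.obj (op V)) : res M h m = m := by
  change M.val.presheaf.map (𝟙 (op V)) m = m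
  rw [M.val.presheaf.map_id]
  rfl

theorem res_add {V W : Opens T} (h : W ≤ V) (m m' : M.val.obj (op V)) :
    res M h (m + m') = res M h m + res M h m' := map_add _ _ _

theorem res_zero {V W : Opens T} (h : W ≤ V) : res M h (0 : M.val.obj (op V)) = 0 := map_zero _

theorem res_smul {V W : Opens T} (h : W ≤ V) (r : R.obj.obj (op V)) (m : M.val.obj (op V)) :
    res M h (r • m) = resR h r • res M h m := M.val.map_smul _ _ _

theorem res_sum {V W : Opens T} (h : W ≤ V) {I : Type*} (s : Finset I)
    (f : I → M.val.obj (op V)) : res M h (∑ i ∈ s, f i) = ∑ i ∈ s, res M h (f i) := map_sum _ _ _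

variable (M)

/-- `s` generates `M` over `U`: every section over an open of `U` is locally a combination of the
restrictions of the `s i` -/
def GenOn (U : Opens T) {I : Type u} [Fintype I] (s : I → M.val.obj (op U)) : Prop :=
  ∀ (V : Opens T) (hV : V ≤ U) (t : M.val.obj (op V)) (x : T), x ∈ V →
    ∃ (W : Opens T) (hW : W ≤ V), x ∈ W ∧ ∃ a : I → R.obj.obj (op W),
      res M hW t = ∑ i, a i • res M (hW.trans hV) (s i)

variable {M}

/-- the object of the slice site attached to an open of `U` -/
abbrev ofLE {U V : Opens T} (h : V ≤ U) : Over U := Over.mk (homOfLE h)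

/-- the value over `U` of a section of the restriction to the slice site -/
noncomputable def topSec {U : Opens T} (s : (M.over U).sections) : M.val.obj (op U) :=
  secAt s (Over.mk (𝟙 U))

theorem secAt_ofLE {U V : Opens T} (h : V ≤ U) (s : (M.over U).sections) :
    (show M.val.obj (op V) from secAt s (ofLE h)) = res M h (topSec s) := by
  have := secAt_map s (Over.homMk (homOfLE h) : ofLE h ⟶ Over.mk (𝟙 U))
  exact this.symm

/-- the section of the restriction to the slice site attached to a section over `U` -/
noncomputable def overSec {U : Opens T} (m : M.val.obj (op U)) : (M.over U).sections where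
  val Y := M.val.map Y.unop.hom.op m
  property {Y Z} f := by
    change M.val.presheaf.map f.unop.left.op (M.val.presheaf.map Y.unop.hom.op m) =
      M.val.presheaf.map Z.unop.hom.op m
    have h : Y.unop.hom.op ≫ f.unop.left.op = Z.unop.hom.op := by
      rw [← op_comp, Over.w]
    rw [← h, M.val.presheaf.map_comp]
    rfl

theorem secAt_overSec {U V : Opens T} (h : V ≤ U) (m : M.val.obj (op U)) :
    (show M.val.obj (op V) from secAt (overSec m) (ofLE h)) = res M h m := rfl

/-- finitely many generating sections of the restriction to the slice site generate elementwise -/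
theorem genOn_of_generatingSections {U : Opens T} (σ : (M.over U).GeneratingSections)
    [Fintype σ.I] : GenOn M U (fun i => topSec (σ.s i)) := by
  intro V hV t x hx
  obtain ⟨S, hS, hSt⟩ := exists_cover_combination (M.over U) σ (ofLE hV) t
  rw [GrothendieckTopology.mem_over_iff] at hS
  obtain ⟨W, f, hf, hxW⟩ := hS x hx
  rw [Sieve.overEquiv_iff] at hf
  obtain ⟨a, ha⟩ := hSt _ hf
  refine ⟨W, leOfHom f, hxW, fun i => (show R.obj.obj (op W) from a i), ?_⟩
  have h1 : ∀ i, (show M.val.obj (op W) from secAt (σ.s i) (Over.mk (f ≫ (ofLE hV).hom))) =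
      res M ((leOfHom f).trans hV) (topSec (σ.s i)) := fun i => secAt_ofLE _ (σ.s i)
  have h2 : res M (leOfHom f) t = ∑ i, (show R.obj.obj (op W) from a i) •
      (show M.val.obj (op W) from secAt (σ.s i) (Over.mk (f ≫ (ofLE hV).hom))) := ha
  rw [h2]
  exact Finset.sum_congr rfl (fun i _ => by rw [h1 i])

/-- sections generating elementwise give generating sections of the restriction to the slice site -/
theorem epi_of_genOn {U : Opens T} {I : Type u} [Fintype I] (s : I → M.val.obj (op U))
    (h : GenOn M U s) : Epi ((M.over U).freeHomEquiv.symm (fun i => overSec (s i))) := by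
  apply epi_of_cover_combination
  intro Y t
  have hY : Y.left ≤ U := leOfHom Y.hom
  let S' : Sieve Y.left :=
    { arrows := fun W f => ∃ a : I → R.obj.obj (op W),
        res M (leOfHom f) t = ∑ i, a i • res M ((leOfHom f).trans hY) (s i)
      downward_closed := by
        rintro W W' f ⟨a, ha⟩ g
        refine ⟨fun i => resR (leOfHom g) (a i), ?_⟩
        have := congrArg (res M (leOfHom g)) ha
        rw [res_res, res_sum] at this
        rw [this]
        exact Finset.sum_congr rfl (fun i _ => by rw [res_smul, res_res]) }
  refine ⟨(Sieve.overEquiv Y).symm S', ?_, ?_⟩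
  · rw [GrothendieckTopology.mem_over_iff, OrderIso.apply_symm_apply]
    intro x hx
    obtain ⟨W, hW, hxW, a, ha⟩ := h Y.left hY t x hx
    exact ⟨W, homOfLE hW, ⟨a, ha⟩, hxW⟩
  · intro Z g hg
    rw [Sieve.overEquiv_symm_iff] at hg
    obtain ⟨a, ha⟩ := hg
    refine ⟨a, ?_⟩
    exact ha

end Groth.Agent.Helper1.LG
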