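import Mathlib
import Groth.Agent.Helper1.LG3

/-!
# LG4: finite type modules on a ringed space, elementwise
-/

set_option autoImplicit false
universe u
open CategoryTheory CategoryTheory.Limits Opposite TopologicalSpace

namespace Groth.Agent.Helper1.LG

variable {T : TopCat.{u}} {R : Sheaf (Opens.grothendieckTopology T) RingCat.{u}}
  (M : SheafOfModules.{u} R)

/-- a module on a ringed space is of finite type iff it is locally generated by finitely many
sections, elementwise -/
theorem isFiniteType_iff :
    SheafOfModules.IsFiniteType.{u} M ↔ ∀ x : T, ∃ (U : Opens T), x ∈ U ∧
      ∃ (I : Type u) (_ : Fintype I) (s : I → M.val.obj (op U)), GenOn M U s := by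
  constructor
  · intro h x
    obtain ⟨σ, hσ⟩ := h.exists_localGeneratorsData
    have hcov : iSup σ.X = ⊤ := (Opens.coversTop_iff (U := σ.X)).1 σ.coversTop
    have hx : x ∈ iSup σ.X := by rw [hcov]; trivial
    obtain ⟨i, hi⟩ := Opens.mem_iSup.1 hx
    haveI := hσ.isFiniteType i
    haveI : Finite (σ.generators i).I := SheafOfModules.GeneratingSections.IsFiniteType.finite
    letI : Fintype (σ.generators i).I := Fintype.ofFinite _
    exact ⟨σ.X i, hi, (σ.generators i).I, inferInstance, _,
      genOn_of_generatingSections (σ.generators i)⟩
  · intro h
    choose U hxU I hI s hs using h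
    let q : SheafOfModules.LocalGeneratorsData.{u} M :=
      { I := T
        X := U
        coversTop := by
          rw [Opens.coversTop_iff]
          change iSup U = ⊤
          rw [eq_top_iff]
          intro x _
          exact Opens.mem_iSup.mpr ⟨x, hxU x⟩
        generators := fun x =>
          letI := hI x
          { I := I x
            s := fun i => overSec (s x i)
            epi := epi_of_genOn (s x) (hs x) } }
    have : q.IsFiniteType := by
      constructor
      intro x
      constructor
      letI := hI x
      exact (Finite.of_fintype (I x))
    exact { exists_localGeneratorsData := ⟨q, this⟩ }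

end Groth.Agent.Helper1.LG
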