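import Mathlib
import Groth.Agent.Helper1.LG4

/-!
# LG8: elementwise exactness, local lifting along epimorphisms, extensions of finite type modules
-/

set_option autoImplicit false
universe u
open CategoryTheory CategoryTheory.Limits Opposite TopologicalSpace

namespace Groth.Agent.Helper1.LG

variable {T : TopCat.{u}} {R : Sheaf (Opens.grothendieckTopology T) RingCat.{u}}

/-- left exactness on sections -/
theorem exists_of_exact (S : ShortComplex (SheafOfModules.{u} R)) (hS : S.Exact) [Mono S.f]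
    (V : Opens T) (v : S.X₂.val.obj (op V)) (hv : appLin S.g V v = 0) :
    ∃ w : S.X₁.val.obj (op V), appLin S.f V w = v := by
  haveI : (SheafOfModules.evaluation R (op V)).PreservesZeroMorphisms :=
    ⟨fun _ _ => rfl⟩
  have h := hS.map_of_mono_of_preservesKernel (SheafOfModules.evaluation R (op V))
    inferInstance inferInstance
  rw [ShortComplex.moduleCat_exact_iff] at h
  exact h v hv

theorem appLin_res {M N : SheafOfModules.{u} R} (f : M ⟶ N) {V W : Opens T} (h : W ≤ V)
    (m : M.val.obj (op V)) : appLin f W (res M h m) = res N h (appLin f V m) := by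
  have := f.val.naturality (homOfLE h).op
  exact congrArg (fun k => k.hom m) this

theorem res_sub' {M : SheafOfModules.{u} R} {V W : Opens T} (h : W ≤ V) (m m' : M.val.obj (op V)) :
    res M h (m - m') = res M h m - res M h m' := map_sub _ _ _

/-- local lifting along an epimorphism -/
theorem exists_local_lift {M N : SheafOfModules.{u} R} (g : M ⟶ N) [Epi g] {U : Opens T}
    (t : N.val.obj (op U)) (x : T) (hx : x ∈ U) :
    ∃ (W : Opens T) (hW : W ≤ U), x ∈ W ∧ ∃ m : M.val.obj (op W), appLin g W m = res N hW t := by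
  have hls := (isLocallySurjective_iff_epi g).2 inferInstance
  have h1 := hls.imageSieve_mem t
  obtain ⟨W, f, hf, hxW⟩ := h1 x hx
  obtain ⟨m, hm⟩ := hf
  exact ⟨W, leOfHom f, hxW, m, hm⟩


/-- simultaneous local lifting of finitely many sections along an epimorphism -/
theorem exists_local_lift_fin {M N : SheafOfModules.{u} R} (g : M ⟶ N) [Epi g] {U : Opens T}
    {J : Type*} [Fintype J] (t : J → N.val.obj (op U)) (x : T) (hx : x ∈ U) :
    ∃ (W : Opens T) (hW : W ≤ U), x ∈ W ∧ ∃ m : J → M.val.obj (op W),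
      ∀ j, appLin g W (m j) = res N hW (t j) := by
  classical
  choose W hW hxW m hm using fun j => exists_local_lift g (t j) x hx
  have hle : ∀ j, Finset.univ.inf W ⊓ U ≤ W j := fun j =>
    inf_le_left.trans (Finset.inf_le (Finset.mem_univ j))
  refine ⟨Finset.univ.inf W ⊓ U, inf_le_right, ⟨?_, hx⟩, fun j => res M (hle j) (m j), fun j => ?_⟩
  · change x ∈ ((Finset.univ.inf W : Opens T) : Set T)
    rw [Opens.coe_finset_inf, Finset.inf_set_eq_iInter]
    simp only [Set.mem_iInter]
    intro j _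
    exact hxW j
  · rw [appLin_res, hm, res_res]

theorem GenOn.mono {M : SheafOfModules.{u} R} {U U' : Opens T} (h : U' ≤ U) {I : Type u}
    [Fintype I] {s : I → M.val.obj (op U)} (hs : GenOn M U s) :
    GenOn M U' (fun i => res M h (s i)) := by
  intro V hV t x hx
  obtain ⟨W, hW, hxW, a, ha⟩ := hs V (hV.trans h) t x hx
  refine ⟨W, hW, hxW, a, ?_⟩
  rw [ha]
  exact Finset.sum_congr rfl (fun i _ => by rw [res_res])

/-- an extension of finite type modules is of finite type -/
theorem isFiniteType_of_shortExact (S : ShortComplex (SheafOfModules.{u} R)) (hS : S.ShortExact)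
    (h1 : SheafOfModules.IsFiniteType.{u} S.X₁) (h3 : SheafOfModules.IsFiniteType.{u} S.X₃) :
    SheafOfModules.IsFiniteType.{u} S.X₂ := by
  rw [isFiniteType_iff] at h1 h3 ⊢
  intro x
  obtain ⟨U1, hx1, I1, hI1, s1, hs1⟩ := h1 x
  obtain ⟨U3, hx3, I3, hI3, s3, hs3⟩ := h3 x
  letI := hI1
  letI := hI3
  haveI := hS.mono_f
  haveI := hS.epi_g
  obtain ⟨W, hW, hxW, m, hm⟩ := exists_local_lift_fin S.g s3 x hx3
  have hU1 : W ⊓ U1 ≤ U1 := inf_le_right
  have hUW : W ⊓ U1 ≤ W := inf_le_left
  refine ⟨W ⊓ U1, ⟨hxW, hx1⟩, I1 ⊕ I3, inferInstance,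
    Sum.elim (fun i => appLin S.f (W ⊓ U1) (res S.X₁ hU1 (s1 i)))
      (fun j => res S.X₂ hUW (m j)), ?_⟩
  intro V hV v y hy
  obtain ⟨V1, hV1, hyV1, a, ha⟩ := hs3 V (hV.trans (hUW.trans hW)) (appLin S.g V v) y hy
  obtain ⟨v', hv'def⟩ : ∃ v' : S.X₂.val.obj (op V1), v' = res S.X₂ hV1 v -
      ∑ j, a j • res S.X₂ (hV1.trans (hV.trans hUW)) (m j) := ⟨_, rfl⟩
  have hv' : appLin S.g V1 v' = 0 := by
    rw [hv'def, map_sub, map_sum, appLin_res, ha, sub_eq_zero]
    refine Finset.sum_congr rfl fun j _ => ?_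
    rw [map_smul, appLin_res, hm, res_res]
  obtain ⟨w, hw⟩ := exists_of_exact S hS.exact V1 v' hv'
  obtain ⟨V2, hV2, hyV2, b, hb⟩ := hs1 V1 (hV1.trans (hV.trans hU1)) w y hyV1
  refine ⟨V2, hV2.trans hV1, hyV2, Sum.elim b (fun j => resR hV2 (a j)), ?_⟩
  rw [Fintype.sum_sum_type]
  simp only [Sum.elim_inl, Sum.elim_inr]
  have e1 : res S.X₂ (hV2.trans hV1) v = res S.X₂ hV2 v' +
      ∑ j, resR hV2 (a j) • res S.X₂ ((hV2.trans hV1).trans (hV.trans hUW)) (m j) := by
    rw [hv'def, res_sub', res_res, res_sum]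
    have : ∀ j, res S.X₂ hV2 (a j • res S.X₂ (hV1.trans (hV.trans hUW)) (m j)) =
        resR hV2 (a j) • res S.X₂ ((hV2.trans hV1).trans (hV.trans hUW)) (m j) := fun j => by
      rw [res_smul, res_res]
    simp only [this]
    abel
  have e2 : res S.X₂ hV2 v' = ∑ i, b i • res S.X₂ ((hV2.trans hV1).trans hV)
      (appLin S.f (W ⊓ U1) (res S.X₁ hU1 (s1 i))) := by
    rw [← hw, ← appLin_res, hb, map_sum]
    refine Finset.sum_congr rfl fun i _ => ?_
    rw [map_smul, ← appLin_res, res_res]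
  rw [e1, e2]
  congr 1
  refine Finset.sum_congr rfl fun j _ => ?_
  rw [res_res]

end Groth.Agent.Helper1.LG
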