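import Mathlib
import Groth.Agent.Helper1.LG10
import Groth.Agent.Helper1.LG8

/-!
# LG11: finite presentation of modules on a ringed space, elementwise (relations)
-/

set_option autoImplicit false
universe u
open CategoryTheory CategoryTheory.Limits Opposite TopologicalSpace

namespace Groth.Agent.Helper1.LG

variable {T : TopCat.{u}} {R : Sheaf (Opens.grothendieckTopology T) RingCat.{u}}
  (M : SheafOfModules.{u} R)

theorem resR_resR {V W W' : Opens T} (h : W ≤ V) (h' : W' ≤ W) (r : R.obj.obj (op V)) :
    resR (R := R) h' (resR h r) = resR (h'.trans h) r := by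
  change (R.obj.map (homOfLE h).op ≫ R.obj.map (homOfLE h').op).hom r = _
  rw [← R.obj.map_comp]
  rfl

/-- `ρ` is a generating family of relations among the sections `s` over `U` -/
def RelOn (U : Opens T) {I K : Type u} [Fintype I] [Fintype K] (s : I → M.val.obj (op U))
    (ρ : K → I → R.obj.obj (op U)) : Prop :=
  (∀ k, ∑ i, ρ k i • s i = 0) ∧
  ∀ (V : Opens T) (hV : V ≤ U) (c : I → R.obj.obj (op V)),
    ∑ i, c i • res M hV (s i) = 0 → ∀ x : T, x ∈ V →
      ∃ (W : Opens T) (hW : W ≤ V), x ∈ W ∧ ∃ d : K → R.obj.obj (op W),
        ∀ i, resR hW (c i) = ∑ k, d k * resR (hW.trans hV) (ρ k i)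

instance (U : Opens T) : Quiver.IsThin (Over U) := fun _ _ =>
  ⟨fun _ _ => Over.OverMorphism.ext (Subsingleton.elim _ _)⟩

/-- the terminal object of the slice site -/
abbrev top (U : Opens T) : Over U := Over.mk (𝟙 U)

/-- the map to the terminal object of the slice site -/
abbrev toTop {U : Opens T} (Y : Over U) : Y ⟶ top U := Over.homMk Y.hom

variable {M}

theorem secAt_overSec_top {U : Opens T} (m : M.val.obj (op U)) :
    (show M.val.obj (op U) from secAt (overSec m) (top U)) = m := by
  change M.val.presheaf.map (𝟙 (op U)) m = m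
  rw [M.val.presheaf.map_id]
  rfl


/-- the relation coefficients attached to a presentation on the slice site -/
noncomputable def relCoef {U : Opens T} (P : (M.over U).Presentation)
    [DecidableEq P.generators.I] (k : P.relations.I) (i : P.generators.I) : R.obj.obj (op U) :=
  (show R.obj.obj (op U) from coord i (top U)
    (appLin (kernel.ι P.generators.π) (top U) (secAt (P.relations.s k) (top U))))

theorem relOn_of_presentation {U : Opens T} (P : (M.over U).Presentation)
    [Fintype P.generators.I] [Fintype P.relations.I] [DecidableEq P.generators.I] :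
    RelOn M U (fun i => topSec (P.generators.s i)) (relCoef P) := by
  constructor
  · intro k
    have h1 := appLin_kernel_ι P.generators.π (top U) (secAt (P.relations.s k) (top U))
    have h2 := appLin_freeHomEquiv_symm (M.over U) P.generators.s (top U)
      (appLin (kernel.ι P.generators.π) (top U) (secAt (P.relations.s k) (top U)))
    exact h2.symm.trans h1
  · intro V hV c hc x hx
    obtain ⟨z, hz⟩ : ∃ z : (SheafOfModules.free (R := R.over U) P.generators.I).val.obj
        (op (ofLE hV)), z = ofCoord (R := R.over U) (ofLE hV)
          (fun i => (show (R.over U).obj.obj (op (ofLE hV)) from c i)) := ⟨_, rfl⟩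
    have hπz : appLin P.generators.π (ofLE hV) z = 0 := by
      rw [hz]
      have h1 := appLin_ofCoord (M.over U) P.generators.s (ofLE hV)
        (fun i => (show (R.over U).obj.obj (op (ofLE hV)) from c i))
      refine h1.trans ?_
      have h2 : ∀ i, (show M.val.obj (op V) from secAt (P.generators.s i) (ofLE hV)) =
          res M hV (topSec (P.generators.s i)) := fun i => secAt_ofLE hV (P.generators.s i)
      have h3 : ∑ i, c i • res M hV (topSec (P.generators.s i)) = 0 := hc
      refine Eq.trans ?_ h3
      exact Finset.sum_congr rfl (fun i _ =>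
        congrArg (fun w : M.val.obj (op V) => c i • w) (h2 i))
    obtain ⟨z', hz'⟩ := exists_of_kernel P.generators.π (ofLE hV) z hπz
    obtain ⟨S, hS, hSt⟩ := exists_cover_combination (kernel P.generators.π) P.relations
      (ofLE hV) z'
    rw [GrothendieckTopology.mem_over_iff] at hS
    obtain ⟨W, f, hf, hxW⟩ := hS x hx
    rw [Sieve.overEquiv_iff] at hf
    obtain ⟨a, ha⟩ := hSt _ hf
    refine ⟨W, leOfHom f, hxW, fun k => (show R.obj.obj (op W) from a k), ?_⟩
    intro i
    have h4 := congrArg (fun w => coord i (Over.mk (f ≫ (ofLE hV).hom))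
      (appLin (kernel.ι P.generators.π) (Over.mk (f ≫ (ofLE hV).hom)) w)) ha
    simp only at h4
    rw [appLin_map, hz', coord_map, hz, coord_ofCoord, map_sum, coord_sum] at h4
    refine h4.trans ?_
    refine Finset.sum_congr rfl (fun k _ => ?_)
    rw [map_smul, coord_smul]
    congr 1
    have h5 := secAt_map (P.relations.s k)
      (toTop (Over.mk (f ≫ (ofLE hV).hom)) : Over.mk (f ≫ (ofLE hV).hom) ⟶ top U)
    rw [← h5, appLin_map, coord_map]
    rfl

end Groth.Agent.Helper1.LG
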