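import Mathlib
import Groth.Agent.Helper1.LG11

/-!
# LG12: a finite presentation on the slice site from elementwise generators and relations;
the elementwise criterion for finite presentation
-/

set_option autoImplicit false
universe u
open CategoryTheory CategoryTheory.Limits Opposite TopologicalSpace

namespace Groth.Agent.Helper1.LG

variable {T : TopCat.{u}} {R : Sheaf (Opens.grothendieckTopology T) RingCat.{u}}
  {M : SheafOfModules.{u} R}

/-- the global section attached to a section over the terminal object of the slice site -/
noncomputable def secOfTop {U : Opens T} (N : SheafOfModules.{u} (R.over U))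
    (t : N.val.obj (op (top U))) : N.sections where
  val Y := N.val.map (toTop Y.unop).op t
  property {Y Z} g := by
    change N.val.presheaf.map g (N.val.presheaf.map (toTop Y.unop).op t) =
      N.val.presheaf.map (toTop Z.unop).op t
    have h : (toTop Y.unop).op ≫ g = (toTop Z.unop).op := by
      have : g.unop ≫ toTop Y.unop = toTop Z.unop := Subsingleton.elim _ _
      rw [← this]
      rfl
    rw [← h, N.val.presheaf.map_comp]
    rfl

theorem secAt_secOfTop {U : Opens T} (N : SheafOfModules.{u} (R.over U))
    (t : N.val.obj (op (top U))) (Y : Over U) :
    secAt (secOfTop N t) Y = N.val.map (toTop Y).op t := rfl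

set_option maxHeartbeats 800000 in
theorem exists_presentation_of_relOn {U : Opens T} {I K : Type u} [Fintype I] [Fintype K]
    [DecidableEq I] (s : I → M.val.obj (op U)) (ρ : K → I → R.obj.obj (op U))
    (hg : GenOn M U s) (hr : RelOn M U s ρ) :
    ∃ P : (M.over U).Presentation, P.IsFinite := by
  have hepi := epi_of_genOn s hg
  let gen : (M.over U).GeneratingSections :=
    { I := I, s := fun i => overSec (s i), epi := hepi }
  -- the relation sections
  have hz : ∀ k, ∃ w : (kernel gen.π).val.obj (op (top U)),
      appLin (kernel.ι gen.π) (top U) w = ofCoord (R := R.over U) (top U)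
        (fun i => (show (R.over U).obj.obj (op (top U)) from ρ k i)) := by
    intro k
    apply exists_of_kernel
    have h1 := appLin_ofCoord (M.over U) (fun i => overSec (s i)) (top U)
      (fun i => (show (R.over U).obj.obj (op (top U)) from ρ k i))
    refine h1.trans ?_
    refine Eq.trans ?_ (hr.1 k)
    exact Finset.sum_congr rfl (fun i _ =>
      congrArg (fun w : M.val.obj (op U) => ρ k i • w) (secAt_overSec_top (s i)))
  choose w hw using hz
  let r : K → (kernel gen.π).sections := fun k => secOfTop (kernel gen.π) (w k)
  have hrel : Epi ((kernel gen.π).freeHomEquiv.symm r) := by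
    apply epi_of_cover_combination
    intro Y t
    have hY : Y.left ≤ U := leOfHom Y.hom
    obtain ⟨c, hc⟩ : ∃ c : I → R.obj.obj (op Y.left), c = fun i =>
        (show R.obj.obj (op Y.left) from coord i Y (appLin (kernel.ι gen.π) Y t)) := ⟨_, rfl⟩
    have hc0 : ∑ i, c i • res M hY (s i) = 0 := by
      have h1 := appLin_kernel_ι gen.π Y t
      have h2 := appLin_freeHomEquiv_symm (M.over U) (fun i => overSec (s i)) Y
        (appLin (kernel.ι gen.π) Y t)
      rw [hc]
      exact h2.symm.trans h1
    let S' : Sieve Y.left :=
      { arrows := fun W f => ∃ d : K → R.obj.obj (op W),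
          ∀ i, resR (leOfHom f) (c i) = ∑ k, d k * resR ((leOfHom f).trans hY) (ρ k i)
        downward_closed := by
          rintro W W' f ⟨d, hd⟩ g
          refine ⟨fun k => resR (leOfHom g) (d k), fun i => ?_⟩
          have := congrArg (resR (R := R) (leOfHom g)) (hd i)
          rw [resR_resR, map_sum] at this
          rw [this]
          exact Finset.sum_congr rfl (fun k _ => by rw [map_mul, resR_resR]) }
    refine ⟨(Sieve.overEquiv Y).symm S', ?_, ?_⟩
    · rw [GrothendieckTopology.mem_over_iff, OrderIso.apply_symm_apply]
      intro x hx
      obtain ⟨W, hW, hxW, d, hd⟩ := hr.2 Y.left hY c hc0 x hx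
      exact ⟨W, homOfLE hW, ⟨d, hd⟩, hxW⟩
    · intro Z g hg
      rw [Sieve.overEquiv_symm_iff] at hg
      obtain ⟨d, hd⟩ := hg
      refine ⟨fun k => (show (R.over U).obj.obj (op Z) from d k), ?_⟩
      apply appLin_injective_of_mono (kernel.ι gen.π) Z
      apply free_ext
      intro i
      have e1 : coord i Z (appLin (kernel.ι gen.π) Z ((kernel gen.π).val.map g.op t)) =
          ((R.over U).obj.map g.op).hom (coord i Y (appLin (kernel.ι gen.π) Y t)) :=
        (congrArg (coord i Z) (appLin_map (kernel.ι gen.π) g t)).trans (coord_map i g _)
      have e2 : coord i Z (appLin (kernel.ι gen.π) Z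
          (∑ k, (show (R.over U).obj.obj (op Z) from d k) • secAt (r k) Z)) =
          ∑ k, (show (R.over U).obj.obj (op Z) from d k) *
            coord i Z (appLin (kernel.ι gen.π) Z (secAt (r k) Z)) :=
        (congrArg (coord i Z) (appLin_sum_smul (kernel.ι gen.π) Z Finset.univ _ _)).trans
          (coord_sum_smul i Z Finset.univ _ _)
      have e3 : ∀ k, coord i Z (appLin (kernel.ι gen.π) Z (secAt (r k) Z)) =
          ((R.over U).obj.map (toTop Z).op).hom
            (show (R.over U).obj.obj (op (top U)) from ρ k i) := by
        intro k
        have h5 : appLin (kernel.ι gen.π) Z (secAt (r k) Z) =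
            (SheafOfModules.free (R := R.over U) I).val.map (toTop Z).op
              (appLin (kernel.ι gen.π) (top U) (w k)) := appLin_map (kernel.ι gen.π) (toTop Z) (w k)
        rw [h5, hw, coord_map, coord_ofCoord]
      have h3 : (show R.obj.obj (op Z.left) from
          ((R.over U).obj.map g.op).hom (coord i Y (appLin (kernel.ι gen.π) Y t))) =
          resR (leOfHom g.left) (c i) := by
        rw [hc]
        rfl
      refine e1.trans (Eq.trans ?_ e2.symm)
      refine h3.trans ((hd i).trans ?_)
      refine Finset.sum_congr rfl (fun k _ => ?_)
      rw [e3 k]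
      rfl
  let rel : (kernel gen.π).GeneratingSections := { I := K, s := r, epi := hrel }
  refine ⟨{ generators := gen, relations := rel }, ?_⟩
  exact { isFiniteType_generators := ⟨(inferInstance : Finite I)⟩
          isFiniteType_relations := ⟨(inferInstance : Finite K)⟩ }


variable (M)

/-- a module on a ringed space is of finite presentation iff it is locally generated by
finitely many sections with finitely many generating relations, elementwise -/
theorem isFinitePresentation_iff :
    SheafOfModules.IsFinitePresentation.{u} M ↔ ∀ x : T, ∃ (U : Opens T), x ∈ U ∧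
      ∃ (I K : Type u) (_ : Fintype I) (_ : Fintype K) (s : I → M.val.obj (op U))
        (ρ : K → I → R.obj.obj (op U)), GenOn M U s ∧ RelOn M U s ρ := by
  classical
  constructor
  · intro h x
    obtain ⟨σ, hσ⟩ := h.exists_quasicoherentData
    have hcov : iSup σ.X = ⊤ := (Opens.coversTop_iff (U := σ.X)).1 σ.coversTop
    have hx : x ∈ iSup σ.X := by rw [hcov]; trivial
    obtain ⟨i, hi⟩ := Opens.mem_iSup.1 hx
    haveI := hσ.isFinite_presentation i
    haveI : Finite (σ.presentation i).generators.I :=
      SheafOfModules.GeneratingSections.IsFiniteType.finite
    haveI : Finite (σ.presentation i).relations.I :=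
      SheafOfModules.GeneratingSections.IsFiniteType.finite
    letI : Fintype (σ.presentation i).generators.I := Fintype.ofFinite _
    letI : Fintype (σ.presentation i).relations.I := Fintype.ofFinite _
    exact ⟨σ.X i, hi, (σ.presentation i).generators.I, (σ.presentation i).relations.I,
      inferInstance, inferInstance, _, relCoef (σ.presentation i),
      genOn_of_generatingSections (σ.presentation i).generators,
      relOn_of_presentation (σ.presentation i)⟩
  · intro h
    choose U hxU I K hI hK s ρ hg hr using h
    have key : ∀ x, ∃ P : (M.over (U x)).Presentation, P.IsFinite := fun x =>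
      letI := hI x
      letI := hK x
      exists_presentation_of_relOn (s x) (ρ x) (hg x) (hr x)
    choose P hP using key
    let q : SheafOfModules.QuasicoherentData.{u} (R := R) M :=
      { I := T
        X := U
        coversTop := by
          rw [Opens.coversTop_iff (U := U)]
          change iSup U = ⊤
          rw [eq_top_iff]
          intro x _
          exact Opens.mem_iSup.mpr ⟨x, hxU x⟩
        presentation := P }
    have hq' : q.IsFinitePresentation := { isFinite_presentation := fun x => hP x }
    exact { exists_quasicoherentData := ⟨q, hq'⟩ }

end Groth.Agent.Helper1.LG
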