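import Mathlib
import Groth.Agent.Helper1.LG12

/-!
# LG13: the kernel of an epimorphism from a finite type module onto a finitely presented module
is of finite type
-/

set_option autoImplicit false
universe u
open CategoryTheory CategoryTheory.Limits Opposite TopologicalSpace

namespace Groth.Agent.Helper1.LG

variable {T : TopCat.{u}} {R : Sheaf (Opens.grothendieckTopology T) RingCat.{u}}

theorem resR_self {V : Opens T} (h : V ≤ V) (r : R.obj.obj (op V)) : resR (R := R) h r = r := by
  change (R.obj.map (𝟙 (op V))).hom r = r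
  rw [R.obj.map_id]
  rfl

theorem RelOn.mono {M : SheafOfModules.{u} R} {U U' : Opens T} (h : U' ≤ U) {I K : Type u}
    [Fintype I] [Fintype K] {s : I → M.val.obj (op U)} {ρ : K → I → R.obj.obj (op U)}
    (hr : RelOn M U s ρ) :
    RelOn M U' (fun i => res M h (s i)) (fun k i => resR h (ρ k i)) := by
  constructor
  · intro k
    have := congrArg (res M h) (hr.1 k)
    rw [res_sum, res_zero] at this
    rw [← this]
    exact Finset.sum_congr rfl (fun i _ => by rw [res_smul])
  · intro V hV c hc x hx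
    have hc' : ∑ i, c i • res M (hV.trans h) (s i) = 0 := by
      rw [← hc]
      exact Finset.sum_congr rfl (fun i _ => by rw [res_res])
    obtain ⟨W, hW, hxW, d, hd⟩ := hr.2 V (hV.trans h) c hc' x hx
    refine ⟨W, hW, hxW, d, fun i => ?_⟩
    rw [hd i]
    exact Finset.sum_congr rfl (fun k _ => by rw [resR_resR])

/-- simultaneous local expression of finitely many sections through generators -/
theorem GenOn.exists_fin {M : SheafOfModules.{u} R} {U : Opens T} {I : Type u} [Fintype I]
    {s : I → M.val.obj (op U)} (hs : GenOn M U s) {J : Type*} [Fintype J] {V : Opens T}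
    (hV : V ≤ U) (v : J → M.val.obj (op V)) (x : T) (hx : x ∈ V) :
    ∃ (W : Opens T) (hW : W ≤ V), x ∈ W ∧ ∃ b : J → I → R.obj.obj (op W),
      ∀ j, res M hW (v j) = ∑ i, b j i • res M (hW.trans hV) (s i) := by
  classical
  choose W hW hxW b hb using fun j => hs V hV (v j) x hx
  have hle : ∀ j, Finset.univ.inf W ⊓ V ≤ W j := fun j =>
    inf_le_left.trans (Finset.inf_le (Finset.mem_univ j))
  refine ⟨Finset.univ.inf W ⊓ V, inf_le_right, ⟨?_, hx⟩,
    fun j i => resR (hle j) (b j i), fun j => ?_⟩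
  · change x ∈ ((Finset.univ.inf W : Opens T) : Set T)
    rw [Opens.coe_finset_inf, Finset.inf_set_eq_iInter]
    simp only [Set.mem_iInter]
    intro j _
    exact hxW j
  · have := congrArg (res M (hle j)) (hb j)
    rw [res_res, res_sum] at this
    rw [this]
    exact Finset.sum_congr rfl (fun i _ => by rw [res_smul, res_res])


theorem alg_aux {A : Type*} [Ring A] {N : Type*} [AddCommGroup N] [Module A N]
    {I J K : Type*} [Fintype I] [Fintype J] [Fintype K] (C : J → A) (Gj : J → N)
    (B : J → I → A) (Ti : I → N) (E : K → A) (P : K → I → A)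
    (hD : ∀ i, ∑ j, C j * B j i = ∑ k, E k * P k i) :
    ∑ j, C j • Gj j =
      ∑ j, C j • (Gj j - ∑ i, B j i • Ti i) + ∑ k, E k • ∑ i, P k i • Ti i := by
  have hA : ∑ j, C j • ∑ i, B j i • Ti i = ∑ i, (∑ j, C j * B j i) • Ti i := by
    simp only [Finset.smul_sum, smul_smul]
    rw [Finset.sum_comm]
    exact Finset.sum_congr rfl (fun i _ => (Finset.sum_smul).symm)
  have hB : ∑ k, E k • ∑ i, P k i • Ti i = ∑ i, (∑ k, E k * P k i) • Ti i := by
    simp only [Finset.smul_sum, smul_smul]
    rw [Finset.sum_comm]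
    exact Finset.sum_congr rfl (fun i _ => (Finset.sum_smul).symm)
  simp only [smul_sub, Finset.sum_sub_distrib]
  have hC : ∑ i, (∑ j, C j * B j i) • Ti i = ∑ i, (∑ k, E k * P k i) • Ti i :=
    Finset.sum_congr rfl (fun i _ => by rw [hD i])
  rw [hA, hB, hC]
  abel

set_option maxHeartbeats 800000 in
/-- generators of the kernel, all data living over one open -/
theorem genOn_kernel {G F : SheafOfModules.{u} R} (θ : G ⟶ F) {W : Opens T}
    {I J K : Type u} [Fintype I] [Fintype J] [Fintype K]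
    (g : J → G.val.obj (op W)) (hg : GenOn G W g)
    (s : I → F.val.obj (op W)) (ρ : K → I → R.obj.obj (op W)) (hρ : RelOn F W s ρ)
    (t : I → G.val.obj (op W)) (ht : ∀ i, appLin θ W (t i) = s i)
    (b : J → I → R.obj.obj (op W)) (hb : ∀ j, appLin θ W (g j) = ∑ i, b j i • s i)
    (uh : J → (kernel θ).val.obj (op W))
    (huh : ∀ j, appLin (kernel.ι θ) W (uh j) = g j - ∑ i, b j i • t i)
    (vh : K → (kernel θ).val.obj (op W))
    (hvh : ∀ k, appLin (kernel.ι θ) W (vh k) = ∑ i, ρ k i • t i) :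
    GenOn (kernel θ) W (Sum.elim uh vh) := by
  intro V hV w' y hy
  obtain ⟨w, hw⟩ : ∃ w : G.val.obj (op V), w = appLin (kernel.ι θ) V w' := ⟨_, rfl⟩
  have hθw : appLin θ V w = 0 := by rw [hw]; exact appLin_kernel_ι θ V w'
  obtain ⟨V1, hV1, hy1, c, hc⟩ := hg V hV w y hy
  obtain ⟨d, hd⟩ : ∃ d : I → R.obj.obj (op V1),
      d = fun i => ∑ j, c j * resR (hV1.trans hV) (b j i) := ⟨_, rfl⟩
  have hd0 : ∑ i, d i • res F (hV1.trans hV) (s i) = 0 := by
    have h1 : appLin θ V1 (res G hV1 w) = 0 := by rw [appLin_res, hθw, res_zero]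
    rw [hc, map_sum] at h1
    have h2 : ∀ j, appLin θ V1 (c j • res G (hV1.trans hV) (g j)) =
        ∑ i, (c j * resR (hV1.trans hV) (b j i)) • res F (hV1.trans hV) (s i) := by
      intro j
      rw [map_smul, appLin_res, hb j, res_sum, Finset.smul_sum]
      exact Finset.sum_congr rfl (fun i _ => by rw [res_smul, smul_smul])
    rw [Finset.sum_congr rfl (fun j _ => h2 j), Finset.sum_comm] at h1
    rw [← h1, hd]
    exact Finset.sum_congr rfl (fun i _ => by rw [Finset.sum_smul])
  obtain ⟨V2, hV2, hy2, e, he⟩ := hρ.2 V1 (hV1.trans hV) d hd0 y hy1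
  refine ⟨V2, hV2.trans hV1, hy2, Sum.elim (fun j => resR hV2 (c j)) e, ?_⟩
  apply appLin_injective_of_mono (kernel.ι θ) V2
  rw [Fintype.sum_sum_type]
  simp only [Sum.elim_inl, Sum.elim_inr]
  have hL : appLin (kernel.ι θ) V2 (res (kernel θ) (hV2.trans hV1) w') =
      ∑ j, resR hV2 (c j) • res G ((hV2.trans hV1).trans hV) (g j) := by
    rw [appLin_res, ← hw, ← res_res hV1 hV2, hc, res_sum]
    exact Finset.sum_congr rfl (fun j _ => by rw [res_smul, res_res])
  have hU : ∀ j, appLin (kernel.ι θ) V2 (res (kernel θ) ((hV2.trans hV1).trans hV) (uh j)) =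
      res G ((hV2.trans hV1).trans hV) (g j) -
        ∑ i, resR ((hV2.trans hV1).trans hV) (b j i) • res G ((hV2.trans hV1).trans hV) (t i) := by
    intro j
    rw [appLin_res, huh j, res_sub', res_sum]
    congr 1
    exact Finset.sum_congr rfl (fun i _ => by rw [res_smul])
  have hVk : ∀ k, appLin (kernel.ι θ) V2 (res (kernel θ) ((hV2.trans hV1).trans hV) (vh k)) =
      ∑ i, resR ((hV2.trans hV1).trans hV) (ρ k i) • res G ((hV2.trans hV1).trans hV) (t i) := by
    intro k
    rw [appLin_res, hvh k, res_sum]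
    exact Finset.sum_congr rfl (fun i _ => by rw [res_smul])
  have hD : ∀ i, ∑ j, resR hV2 (c j) * resR ((hV2.trans hV1).trans hV) (b j i) =
      ∑ k, e k * resR ((hV2.trans hV1).trans hV) (ρ k i) := by
    intro i
    rw [← he i, hd, map_sum]
    exact Finset.sum_congr rfl (fun j _ => by rw [map_mul, resR_resR])
  rw [hL, map_add, map_sum, map_sum]
  rw [Finset.sum_congr rfl (fun j _ => (map_smul (appLin (kernel.ι θ) V2) _ _).trans
    (congrArg (fun z => resR hV2 (c j) • z) (hU j)))]
  rw [Finset.sum_congr rfl (fun k _ => (map_smul (appLin (kernel.ι θ) V2) _ _).trans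
    (congrArg (fun z => e k • z) (hVk k)))]
  exact alg_aux _ _ _ _ _ _ hD


/-- the kernel of an epimorphism from a finite type module onto a finitely presented module is of
finite type -/
theorem isFiniteType_kernel {G F : SheafOfModules.{u} R} (θ : G ⟶ F) [Epi θ]
    (hG : SheafOfModules.IsFiniteType.{u} G) (hF : SheafOfModules.IsFinitePresentation.{u} F) :
    SheafOfModules.IsFiniteType.{u} (kernel θ) := by
  rw [isFiniteType_iff] at hG ⊢
  rw [isFinitePresentation_iff] at hF
  intro x
  obtain ⟨U1, hx1, J, hJ, g, hg⟩ := hG x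
  obtain ⟨U2, hx2, I, K, hI, hK, s, ρ, hs, hρ⟩ := hF x
  letI := hJ
  letI := hI
  letI := hK
  obtain ⟨W1, hW1, hxW1, t, ht⟩ := exists_local_lift_fin θ s x hx2
  have h31 : U1 ⊓ W1 ≤ U1 := inf_le_left
  have h3W : U1 ⊓ W1 ≤ W1 := inf_le_right
  have h32 : U1 ⊓ W1 ≤ U2 := h3W.trans hW1
  obtain ⟨W, hW, hxW, b, hb⟩ := hs.exists_fin h32
    (fun j => appLin θ (U1 ⊓ W1) (res G h31 (g j))) x ⟨hx1, hxW1⟩
  have hW1' : W ≤ U1 := hW.trans h31
  have hWW1 : W ≤ W1 := hW.trans h3W
  have hW2 : W ≤ U2 := hW.trans h32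
  have hg' : GenOn G W (fun j => res G hW1' (g j)) := hg.mono hW1'
  have hρ' : RelOn F W (fun i => res F hW2 (s i)) (fun k i => resR hW2 (ρ k i)) := hρ.mono hW2
  have ht' : ∀ i, appLin θ W (res G hWW1 (t i)) = res F hW2 (s i) := by
    intro i
    rw [appLin_res, ht, res_res]
  have hb' : ∀ j, appLin θ W (res G hW1' (g j)) = ∑ i, b j i • res F hW2 (s i) := by
    intro j
    have := hb j
    rw [← appLin_res, res_res] at this
    exact this
  have hu : ∀ j, ∃ uh : (kernel θ).val.obj (op W), appLin (kernel.ι θ) W uh =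
      res G hW1' (g j) - ∑ i, b j i • res G hWW1 (t i) := by
    intro j
    apply exists_of_kernel
    rw [map_sub, map_sum, hb' j, sub_eq_zero]
    exact Finset.sum_congr rfl (fun i _ => by rw [map_smul, ht'])
  have hv : ∀ k, ∃ vh : (kernel θ).val.obj (op W), appLin (kernel.ι θ) W vh =
      ∑ i, resR hW2 (ρ k i) • res G hWW1 (t i) := by
    intro k
    apply exists_of_kernel
    rw [map_sum]
    have := hρ'.1 k
    rw [← this]
    exact Finset.sum_congr rfl (fun i _ => by rw [map_smul, ht'])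
  choose uh huh using hu
  choose vh hvh using hv
  exact ⟨W, hxW, J ⊕ K, inferInstance, Sum.elim uh vh,
    genOn_kernel θ _ hg' _ _ hρ' _ ht' b hb' uh huh vh hvh⟩

end Groth.Agent.Helper1.LG
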