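import Mathlib
import Groth.Agent.Helper1.LG13

/-!
# LG14: the cokernel of a morphism from a finite type module to a finitely presented module is
finitely presented
-/

set_option autoImplicit false
universe u
open CategoryTheory CategoryTheory.Limits Opposite TopologicalSpace

namespace Groth.Agent.Helper1.LG

variable {T : TopCat.{u}} {R : Sheaf (Opens.grothendieckTopology T) RingCat.{u}}

/-- a section killed by the projection to the cokernel is locally in the image -/
theorem exists_local_of_cokernel {G F : SheafOfModules.{u} R} (φ : G ⟶ F) {V : Opens T}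
    (f : F.val.obj (op V)) (hf : appLin (cokernel.π φ) V f = 0) (y : T) (hy : y ∈ V) :
    ∃ (V1 : Opens T) (hV1 : V1 ≤ V), y ∈ V1 ∧ ∃ h : G.val.obj (op V1),
      appLin φ V1 h = res F hV1 f := by
  let S : ShortComplex (SheafOfModules.{u} R) :=
    ShortComplex.mk φ (cokernel.π φ) (cokernel.condition φ)
  have hS : S.Exact := ShortComplex.exact_cokernel φ
  haveI : Epi (kernel.lift (cokernel.π φ) φ (cokernel.condition φ)) :=
    S.exact_iff_epi_kernel_lift.1 hS
  obtain ⟨f', hf'⟩ := exists_of_kernel (cokernel.π φ) V f hf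
  obtain ⟨V1, hV1, hy1, h, hh⟩ :=
    exists_local_lift (kernel.lift (cokernel.π φ) φ (cokernel.condition φ)) f' y hy
  refine ⟨V1, hV1, hy1, h, ?_⟩
  have h1 : appLin φ V1 h = appLin (kernel.ι (cokernel.π φ)) V1
      (appLin (kernel.lift (cokernel.π φ) φ (cokernel.condition φ)) V1 h) := by
    rw [← appLin_comp, kernel.lift_ι]
  rw [h1, hh, appLin_res, hf']


theorem appLin_sum_smul' {M N : SheafOfModules.{u} R} (f : M ⟶ N) (V : Opens T) {K : Type*}
    (t : Finset K) (d : K → R.obj.obj (op V)) (m : K → M.val.obj (op V)) :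
    appLin f V (∑ k ∈ t, d k • m k) = ∑ k ∈ t, d k • appLin f V (m k) :=
  appLin_sum_smul f V t d m

theorem res_sum_smul {M : SheafOfModules.{u} R} {V W : Opens T} (h : W ≤ V) {K : Type*}
    (t : Finset K) (d : K → R.obj.obj (op V)) (m : K → M.val.obj (op V)) :
    res M h (∑ k ∈ t, d k • m k) = ∑ k ∈ t, resR h (d k) • res M h (m k) := by
  rw [res_sum]
  exact Finset.sum_congr rfl (fun k _ => res_smul h _ _)

set_option maxHeartbeats 800000 in
/-- generators and relations of the cokernel, all data living over one open -/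
theorem fp_cokernel_core {G F : SheafOfModules.{u} R} (φ : G ⟶ F) {W : Opens T}
    {I J K : Type u} [Fintype I] [Fintype J] [Fintype K]
    (g : J → G.val.obj (op W)) (hg : GenOn G W g)
    (s : I → F.val.obj (op W)) (hs : GenOn F W s)
    (ρ : K → I → R.obj.obj (op W)) (hρ : RelOn F W s ρ)
    (b : J → I → R.obj.obj (op W)) (hb : ∀ j, appLin φ W (g j) = ∑ i, b j i • s i) :
    GenOn (cokernel φ) W (fun i => appLin (cokernel.π φ) W (s i)) ∧
      RelOn (cokernel φ) W (fun i => appLin (cokernel.π φ) W (s i)) (Sum.elim ρ b) := by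
  haveI : Epi (cokernel.π φ) := inferInstance
  refine ⟨?_, ?_, ?_⟩
  · intro V hV v y hy
    obtain ⟨V1, hV1, hy1, f, hf⟩ := exists_local_lift (cokernel.π φ) v y hy
    obtain ⟨V2, hV2, hy2, c, hc⟩ := hs V1 (hV1.trans hV) f y hy1
    refine ⟨V2, hV2.trans hV1, hy2, c, ?_⟩
    rw [← res_res hV1 hV2, ← hf, ← appLin_res, hc, appLin_sum_smul']
    exact Finset.sum_congr rfl (fun i _ => by rw [appLin_res])
  · rintro (k | j)
    · simp only [Sum.elim_inl]
      rw [← appLin_sum_smul', hρ.1 k, map_zero]
    · simp only [Sum.elim_inr]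
      rw [← appLin_sum_smul', ← hb j, ← appLin_comp, cokernel.condition]
      rfl
  · intro V hV c hc y hy
    obtain ⟨f, hfdef⟩ : ∃ f : F.val.obj (op V), f = ∑ i, c i • res F hV (s i) := ⟨_, rfl⟩
    have hqf : appLin (cokernel.π φ) V f = 0 := by
      rw [hfdef, appLin_sum_smul', ← hc]
      exact Finset.sum_congr rfl (fun i _ => by rw [appLin_res])
    obtain ⟨V1, hV1, hy1, h, hh⟩ := exists_local_of_cokernel φ f hqf y hy
    obtain ⟨V2, hV2, hy2, a, ha⟩ := hg V1 (hV1.trans hV) h y hy1
    have h21 : V2 ≤ V := hV2.trans hV1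
    obtain ⟨d, hd⟩ : ∃ d : I → R.obj.obj (op V2), d = fun i =>
        resR h21 (c i) - ∑ j, a j * resR (h21.trans hV) (b j i) := ⟨_, rfl⟩
    have hd0 : ∑ i, d i • res F (h21.trans hV) (s i) = 0 := by
      have e1 : res F hV2 (appLin φ V1 h) =
          ∑ i, resR h21 (c i) • res F (h21.trans hV) (s i) := by
        rw [hh, res_res, hfdef, res_sum_smul]
        exact Finset.sum_congr rfl (fun i _ => by rw [res_res])
      have e2 : res F hV2 (appLin φ V1 h) =
          ∑ i, (∑ j, a j * resR (h21.trans hV) (b j i)) • res F (h21.trans hV) (s i) := by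
        rw [← appLin_res, ha, appLin_sum_smul']
        have e3 : ∀ j, appLin φ V2 (res G (hV2.trans (hV1.trans hV)) (g j)) =
            ∑ i, resR (h21.trans hV) (b j i) • res F (h21.trans hV) (s i) := by
          intro j
          rw [appLin_res, hb j, res_sum_smul]
        rw [Finset.sum_congr rfl (fun j _ => congrArg (fun z => a j • z) (e3 j))]
        simp only [Finset.smul_sum, smul_smul]
        rw [Finset.sum_comm]
        exact Finset.sum_congr rfl (fun i _ => (Finset.sum_smul).symm)
      rw [hd]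
      simp only [sub_smul, Finset.sum_sub_distrib]
      rw [← e1, ← e2, sub_self]
    obtain ⟨V3, hV3, hy3, e, he⟩ := hρ.2 V2 (h21.trans hV) d hd0 y hy2
    refine ⟨V3, hV3.trans h21, hy3, Sum.elim e (fun j => resR hV3 (a j)), fun i => ?_⟩
    rw [Fintype.sum_sum_type]
    simp only [Sum.elim_inl, Sum.elim_inr]
    have h5 := he i
    rw [hd] at h5
    simp only [map_sub, map_sum, map_mul, resR_resR] at h5
    rw [← h5]
    abel


/-- the cokernel of a morphism from a finite type module to a finitely presented module is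
finitely presented -/
theorem isFinitePresentation_cokernel {G F : SheafOfModules.{u} R} (φ : G ⟶ F)
    (hG : SheafOfModules.IsFiniteType.{u} G) (hF : SheafOfModules.IsFinitePresentation.{u} F) :
    SheafOfModules.IsFinitePresentation.{u} (cokernel φ) := by
  rw [isFiniteType_iff] at hG
  rw [isFinitePresentation_iff] at hF ⊢
  intro x
  obtain ⟨U1, hx1, J, hJ, g, hg⟩ := hG x
  obtain ⟨U2, hx2, I, K, hI, hK, s, ρ, hs, hρ⟩ := hF x
  letI := hJ
  letI := hI
  letI := hK
  have h31 : U1 ⊓ U2 ≤ U1 := inf_le_left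
  have h32 : U1 ⊓ U2 ≤ U2 := inf_le_right
  obtain ⟨W, hW, hxW, b, hb⟩ := hs.exists_fin h32
    (fun j => appLin φ (U1 ⊓ U2) (res G h31 (g j))) x ⟨hx1, hx2⟩
  have hW1 : W ≤ U1 := hW.trans h31
  have hW2 : W ≤ U2 := hW.trans h32
  have hb' : ∀ j, appLin φ W (res G hW1 (g j)) = ∑ i, b j i • res F hW2 (s i) := by
    intro j
    have := hb j
    rw [← appLin_res, res_res] at this
    exact this
  obtain ⟨h1, h2⟩ := fp_cokernel_core φ _ (hg.mono hW1) _ (hs.mono hW2) _ (hρ.mono hW2) b hb'
  exact ⟨W, hxW, I, K ⊕ J, inferInstance, inferInstance, _, _, h1, h2⟩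

end Groth.Agent.Helper1.LG
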