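import Mathlib
import Groth.Prelude.Def_ModSite
import Groth.Prelude.Def_ModSite2
import Groth.Agent.Helper1.LG14

/-!
# LG15: stalks at points of a ringed space: a morphism surjective on the stalk at `x` onto a
finite type module is an epimorphism near `x`
-/

set_option autoImplicit false
universe u
open CategoryTheory CategoryTheory.Limits Opposite TopologicalSpace

namespace Groth.Agent.Helper1.LG

variable {X : TopCat.{u}} (O : TopCat.Sheaf CommRingCat.{u} X)

/-- the point of the site of opens attached to a membership proof -/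
def fib (x : X) {U : Opens X} (h : x ∈ U) : (Opens.pointGrothendieckTopology x).fiber.obj U :=
  ⟨⟨h⟩⟩

theorem germ_res (x : X) (F : ModSite.Mod O) {U W : Opens X} (hW : W ≤ U) (hxW : x ∈ W)
    (s : F.val.obj (op U)) :
    ModSite.germ (Opens.pointGrothendieckTopology x) F W (fib x hxW)
      (res (R := ModSite.ringSh O) F hW s) =
      ModSite.germ (Opens.pointGrothendieckTopology x) F U (fib x (hW hxW)) s :=
  (Opens.pointGrothendieckTopology x).toPresheafFiber_w_apply (homOfLE hW) (fib x hxW)
    (ModSite.toAb F).obj s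

theorem exists_eq_of_germ_eq (x : X) (F : ModSite.Mod O) {U : Opens X} (hxU : x ∈ U)
    (s s' : F.val.obj (op U))
    (h : ModSite.germ (Opens.pointGrothendieckTopology x) F U (fib x hxU) s =
      ModSite.germ (Opens.pointGrothendieckTopology x) F U (fib x hxU) s') :
    ∃ (W : Opens X) (hW : W ≤ U), x ∈ W ∧
      res (R := ModSite.ringSh O) F hW s = res (R := ModSite.ringSh O) F hW s' := by
  obtain ⟨Y, f, y, -, hy⟩ := ((Opens.pointGrothendieckTopology x).toPresheafFiber_eq_iff'
    (P := (ModSite.toAb F).obj) U (fib x hxU) s s').1 h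
  exact ⟨Y, leOfHom f, y.down.down, hy⟩


theorem stalkMap_germ (x : X) {G F : ModSite.Mod O} (φ : G ⟶ F) {W : Opens X} (hxW : x ∈ W)
    (g : G.val.obj (op W)) :
    (ModSite.stalkMap (Opens.pointGrothendieckTopology x) φ).hom
      (ModSite.germ (Opens.pointGrothendieckTopology x) G W (fib x hxW) g) =
      ModSite.germ (Opens.pointGrothendieckTopology x) F W (fib x hxW)
        (appLin (R := ModSite.ringSh O) φ W g) :=
  (Opens.pointGrothendieckTopology x).toPresheafFiber_naturality_apply
    ((SheafOfModules.toSheaf (ModSite.ringSh O)).map φ).hom W (fib x hxW) g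

/-- a section whose germ is in the image of the stalk map is locally in the image -/
theorem exists_local_preimage_of_stalk_surjective (x : X) {G F : ModSite.Mod O} (φ : G ⟶ F)
    (hx : Function.Surjective (ModSite.stalkMap (Opens.pointGrothendieckTopology x) φ).hom)
    {U : Opens X} (hxU : x ∈ U) (s : F.val.obj (op U)) :
    ∃ (W : Opens X) (hW : W ≤ U), x ∈ W ∧ ∃ g : G.val.obj (op W),
      appLin (R := ModSite.ringSh O) φ W g = res (R := ModSite.ringSh O) F hW s := by
  obtain ⟨γ, hγ⟩ := hx (ModSite.germ (Opens.pointGrothendieckTopology x) F U (fib x hxU) s)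
  obtain ⟨W1, x1, g1, rfl⟩ := (Opens.pointGrothendieckTopology x).toPresheafFiber_jointly_surjective
    (P := (ModSite.toAb G).obj) γ
  have hx1 : x ∈ W1 := x1.down.down
  have hx1' : x1 = fib x hx1 := rfl
  rw [hx1'] at hγ
  have h1 := (stalkMap_germ O x φ hx1 g1).symm.trans hγ
  have hxI : x ∈ W1 ⊓ U := ⟨hx1, hxU⟩
  have h2 := (germ_res O x F (inf_le_left : W1 ⊓ U ≤ W1) hxI _).trans
    (h1.trans (germ_res O x F (inf_le_right : W1 ⊓ U ≤ U) hxI s).symm)
  obtain ⟨W, hW, hxW, hres⟩ := exists_eq_of_germ_eq O x F hxI _ _ h2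
  refine ⟨W, hW.trans inf_le_right, hxW, res (R := ModSite.ringSh O) G (hW.trans inf_le_left) g1, ?_⟩
  rw [res_res, res_res] at hres
  rw [appLin_res]
  exact hres


section

variable {T : TopCat.{u}} {R : Sheaf (Opens.grothendieckTopology T) RingCat.{u}}

/-- a morphism which is locally surjective on the opens of `U` restricts to an epimorphism on the
slice site of `U` -/
theorem epi_overFunctor_map {M N : SheafOfModules.{u} R} (φ : M ⟶ N) (U : Opens T)
    (h : ∀ (V : Opens T) (_ : V ≤ U) (t : N.val.obj (op V)) (y : T), y ∈ V →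
      ∃ (W : Opens T) (hW : W ≤ V), y ∈ W ∧ ∃ m : M.val.obj (op W),
        appLin φ W m = res N hW t) :
    Epi ((SheafOfModules.overFunctor R U).map φ) := by
  rw [← isLocallySurjective_iff_epi]
  constructor
  intro Y t
  have hY : Y.left ≤ U := leOfHom Y.hom
  let S' : Sieve Y.left :=
    { arrows := fun W f => ∃ m : M.val.obj (op W), appLin φ W m = res N (leOfHom f) t
      downward_closed := by
        rintro W W' f ⟨m, hm⟩ g
        refine ⟨res M (leOfHom g) m, ?_⟩
        rw [appLin_res, hm, res_res] }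
  have hS' : (Sieve.overEquiv Y).symm S' ∈ ((Opens.grothendieckTopology T).over U) Y := by
    rw [GrothendieckTopology.mem_over_iff, OrderIso.apply_symm_apply]
    intro y hy
    obtain ⟨W, hW, hyW, m, hm⟩ := h Y.left hY t y hy
    exact ⟨W, homOfLE hW, ⟨m, hm⟩, hyW⟩
  refine GrothendieckTopology.superset_covering _ ?_ hS'
  intro Z g hg
  rw [Sieve.overEquiv_symm_iff] at hg
  obtain ⟨m, hm⟩ := hg
  exact ⟨m, hm⟩

end

/-- a morphism onto a finite type module which is surjective on the stalk at `x` is an
epimorphism near `x` -/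
theorem exists_epi_restr_of_stalk_surjective (x : X) {G F : ModSite.Mod O} (φ : G ⟶ F)
    (hF : SheafOfModules.IsFiniteType.{u} (R := ModSite.ringSh O) F)
    (hx : Function.Surjective (ModSite.stalkMap (Opens.pointGrothendieckTopology x) φ).hom) :
    ∃ U : Opens X, x ∈ U ∧ Epi ((ModSite.restr O U).map φ) := by
  classical
  rw [isFiniteType_iff] at hF
  obtain ⟨U0, hxU0, I, hI, s, hs⟩ := hF x
  letI := hI
  choose W hW hxW g hg using fun i =>
    exists_local_preimage_of_stalk_surjective O x φ hx hxU0 (s i)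
  have hle : ∀ i, Finset.univ.inf W ⊓ U0 ≤ W i := fun i =>
    inf_le_left.trans (Finset.inf_le (Finset.mem_univ i))
  have hU0 : Finset.univ.inf W ⊓ U0 ≤ U0 := inf_le_right
  have hxU : x ∈ Finset.univ.inf W ⊓ U0 := by
    refine ⟨?_, hxU0⟩
    change x ∈ ((Finset.univ.inf W : Opens X) : Set X)
    rw [Opens.coe_finset_inf, Finset.inf_set_eq_iInter]
    simp only [Set.mem_iInter]
    intro i _
    exact hxW i
  refine ⟨Finset.univ.inf W ⊓ U0, hxU, ?_⟩
  apply epi_overFunctor_map
  intro V hV t y hy
  obtain ⟨W', hW', hyW', a, ha⟩ := hs V (hV.trans hU0) t y hy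
  refine ⟨W', hW', hyW', ∑ i, a i • res (R := ModSite.ringSh O) G
    (hW'.trans (hV.trans (hle i))) (g i), ?_⟩
  rw [ha, map_sum]
  refine Finset.sum_congr rfl (fun i _ => ?_)
  rw [map_smul, appLin_res, hg, res_res]

end Groth.Agent.Helper1.LG
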