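import Mathlib
import Groth.Agent.Helper1.LG13
import Groth.Agent.Helper1.ColimSec

/-!
# LG16: sections of directed colimits of sheaves of modules on a ringed space
-/

set_option autoImplicit false
universe u
open CategoryTheory CategoryTheory.Limits Opposite TopologicalSpace

namespace Groth.Agent.Helper1.LG

variable {T : TopCat.{u}} {R : Sheaf (Opens.grothendieckTopology T) RingCat.{u}}

/-- a morphism along which sections lift locally is an epimorphism -/
theorem epi_of_local_lift {M N : SheafOfModules.{u} R} (g : M ⟶ N)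
    (h : ∀ (U : Opens T) (t : N.val.obj (op U)) (x : T), x ∈ U →
      ∃ (W : Opens T) (hW : W ≤ U), x ∈ W ∧ ∃ m : M.val.obj (op W), appLin g W m = res N hW t) :
    Epi g := by
  rw [← isLocallySurjective_iff_epi]
  constructor
  intro U t x hx
  obtain ⟨W, hW, hxW, m, hm⟩ := h U t x hx
  exact ⟨W, homOfLE hW, ⟨m, hm⟩, hxW⟩

/-- a morphism injective on sections is a monomorphism -/
theorem mono_of_appLin_injective {M N : SheafOfModules.{u} R} (g : M ⟶ N)
    (h : ∀ U : Opens T, Function.Injective (appLin g U)) : Mono g := by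
  apply Preadditive.mono_of_cancel_zero
  intro P k hk
  ext U p
  induction U using Opposite.rec with | _ U => ?_
  have h0 : appLin g U (appLin k U p) = 0 := by
    have := congrArg (fun q => appLin q U p) hk
    exact this
  exact h U (h0.trans (map_zero _).symm)

/-- separatedness, elementwise -/
theorem eq_zero_of_locally (M : SheafOfModules.{u} R) {V : Opens T} (t : M.val.obj (op V))
    (h : ∀ x ∈ V, ∃ (W : Opens T) (hW : W ≤ V), x ∈ W ∧ res M hW t = 0) : t = 0 := by
  choose W hW hxW hz using h
  exact Groth.Agent.Helper1.ColimSec.eq_zero_of_cover ((SheafOfModules.toSheaf R).obj M)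
    (fun x : V => W x.1 x.2) V (fun x => hW x.1 x.2)
    (fun y hy => Opens.mem_iSup.2 ⟨⟨y, hy⟩, hxW y hy⟩) t (fun x => hz x.1 x.2)

section Colim

variable {ι : Type u} [Preorder ι] [IsDirected ι (· ≤ ·)] [Nonempty ι]
  {D : ι ⥤ SheafOfModules.{u} R} {c : Cocone D} (hc : IsColimit c)

include hc in
/-- sections of a directed colimit locally come from a stage -/
theorem exists_local_rep {U : Opens T} (s : c.pt.val.obj (op U)) (x : T) (hx : x ∈ U) :
    ∃ (i : ι) (W : Opens T) (hW : W ≤ U) (_ : x ∈ W) (t : (D.obj i).val.obj (op W)),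
      appLin (c.ι.app i) W t = res c.pt hW s := by
  have := Groth.Agent.Helper3.SheafModLib.toSheaf_preservesColimits R
  have hc' := isColimitOfPreserves (SheafOfModules.toSheaf.{u} R) hc
  obtain ⟨i, W, hW, hxW, t, ht⟩ :=
    Groth.Agent.Helper1.ColimSec.exists_local_rep hc' (U := U) s x hx
  exact ⟨i, W, hW, hxW, t, ht⟩

include hc in
/-- a section of a stage dying in a directed colimit locally dies at a later stage -/
theorem exists_local_zero {V : Opens T} {i : ι} (t : (D.obj i).val.obj (op V))
    (ht : appLin (c.ι.app i) V t = 0) (x : T) (hx : x ∈ V) :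
    ∃ (j : ι) (hij : i ≤ j) (W : Opens T) (hW : W ≤ V) (_ : x ∈ W),
      res (D.obj j) hW (appLin (D.map (homOfLE hij)) V t) = 0 := by
  have := Groth.Agent.Helper3.SheafModLib.toSheaf_preservesColimits R
  have hc' := isColimitOfPreserves (SheafOfModules.toSheaf.{u} R) hc
  obtain ⟨j, hij, W, hW, hxW, h⟩ :=
    Groth.Agent.Helper1.ColimSec.exists_local_zero hc' (V := V) (i := i) t ht x hx
  exact ⟨j, hij, W, hW, hxW, h⟩

omit [IsDirected ι (· ≤ ·)] [Nonempty ι] in
theorem appLin_map_map {i j k : ι} (hij : i ≤ j) (hjk : j ≤ k) (V : Opens T)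
    (t : (D.obj i).val.obj (op V)) :
    appLin (D.map (homOfLE hjk)) V (appLin (D.map (homOfLE hij)) V t) =
      appLin (D.map (homOfLE (hij.trans hjk))) V t := by
  have : D.map (homOfLE (hij.trans hjk)) = D.map (homOfLE hij) ≫ D.map (homOfLE hjk) := by
    rw [← D.map_comp]
    rfl
  rw [this]
  rfl

omit [IsDirected ι (· ≤ ·)] [Nonempty ι] in
theorem appLin_ι_map {i j : ι} (hij : i ≤ j) (V : Opens T) (t : (D.obj i).val.obj (op V)) :
    appLin (c.ι.app j) V (appLin (D.map (homOfLE hij)) V t) = appLin (c.ι.app i) V t := by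
  have : c.ι.app i = D.map (homOfLE hij) ≫ c.ι.app j := (c.w (homOfLE hij)).symm
  rw [this]
  rfl

end Colim

end Groth.Agent.Helper1.LG
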