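import Mathlib
import Groth.Agent.Helper1.LG16

/-!
# LG17: a directed colimit of finite type on a quasi-compact ringed space is reached at a stage
-/

set_option autoImplicit false
universe u
open CategoryTheory CategoryTheory.Limits Opposite TopologicalSpace

namespace Groth.Agent.Helper1.LG

variable {T : TopCat.{u}} {R : Sheaf (Opens.grothendieckTopology T) RingCat.{u}}
  {ι : Type u} [Preorder ι] [IsDirected ι (· ≤ ·)] [Nonempty ι]
  {D : ι ⥤ SheafOfModules.{u} R} {c : Cocone D}

/-- if the colimit is of finite type, then locally some stage surjects onto it -/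
theorem exists_local_stage (hc : IsColimit c) (hft : SheafOfModules.IsFiniteType.{u} c.pt) (x : T) :
    ∃ (W : Opens T) (m : ι), x ∈ W ∧ ∀ (m' : ι) (_ : m ≤ m') (V : Opens T) (_ : V ≤ W)
      (v : c.pt.val.obj (op V)) (y : T), y ∈ V →
      ∃ (V' : Opens T) (hV' : V' ≤ V), y ∈ V' ∧ ∃ w : (D.obj m').val.obj (op V'),
        appLin (c.ι.app m') V' w = res c.pt hV' v := by
  rw [isFiniteType_iff] at hft
  obtain ⟨U, hxU, K, hK, s, hs⟩ := hft x
  letI := hK
  classical
  choose i W hW hxW t ht using fun k => exists_local_rep hc (s k) x hxU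
  obtain ⟨m, hm⟩ := Finite.exists_le i
  have hle : ∀ k, Finset.univ.inf W ⊓ U ≤ W k := fun k =>
    inf_le_left.trans (Finset.inf_le (Finset.mem_univ k))
  have hW0U : Finset.univ.inf W ⊓ U ≤ U := inf_le_right
  have hxW0 : x ∈ Finset.univ.inf W ⊓ U := by
    refine ⟨?_, hxU⟩
    change x ∈ ((Finset.univ.inf W : Opens T) : Set T)
    rw [Opens.coe_finset_inf, Finset.inf_set_eq_iInter]
    simp only [Set.mem_iInter]
    intro j _
    exact hxW j
  refine ⟨Finset.univ.inf W ⊓ U, m, hxW0, ?_⟩
  intro m' hmm' V hV v y hy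
  obtain ⟨V', hV', hyV', a, ha⟩ := hs V (hV.trans hW0U) v y hy
  refine ⟨V', hV', hyV', ∑ k, a k • res (D.obj m') (hV'.trans (hV.trans (hle k)))
    (appLin (D.map (homOfLE ((hm k).trans hmm'))) (W k) (t k)), ?_⟩
  rw [map_sum, ha]
  refine Finset.sum_congr rfl fun k _ => ?_
  rw [map_smul, appLin_res, appLin_ι_map, ht]
  exact congrArg (fun z => a k • z) (res_res (M := c.pt) _ _ (s k))

/-- on a quasi-compact ringed space, a directed colimit of finite type is the image of a stage -/
theorem exists_epi_of_isFiniteType [CompactSpace T] (hc : IsColimit c)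
    (hft : SheafOfModules.IsFiniteType.{u} c.pt) : ∃ i : ι, Epi (c.ι.app i) := by
  choose W m hxW hkey using exists_local_stage hc hft
  obtain ⟨S, hS⟩ := isCompact_univ.elim_finite_subcover (fun x => (W x : Set T))
    (fun x => (W x).isOpen) (fun x _ => Set.mem_iUnion.2 ⟨x, hxW x⟩)
  obtain ⟨M, hM⟩ := Finite.exists_le (fun x : S => m x.1)
  refine ⟨M, epi_of_local_lift _ ?_⟩
  intro U t y hy
  obtain ⟨x, hx⟩ := Set.mem_iUnion.1 (hS (Set.mem_univ y))
  obtain ⟨hxS, hyx⟩ := Set.mem_iUnion.1 hx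
  obtain ⟨V', hV', hyV', w, hw⟩ := hkey x M (hM ⟨x, hxS⟩) (U ⊓ W x) inf_le_right
    (res c.pt inf_le_left t) y ⟨hy, hyx⟩
  exact ⟨V', hV'.trans inf_le_left, hyV', w, hw.trans (res_res (M := c.pt) _ _ t)⟩

/-- if all transition maps are monomorphisms, so are the maps to the colimit (on sections) -/
theorem ι_injective_of_mono (hc : IsColimit c) (hmono : ∀ (i j : ι) (f : i ⟶ j), Mono (D.map f))
    (i : ι) (V : Opens T) : Function.Injective (appLin (c.ι.app i) V) := by
  rw [injective_iff_map_eq_zero]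
  intro t ht
  apply eq_zero_of_locally
  intro x hx
  obtain ⟨j, hij, W, hW, hxW, h⟩ := exists_local_zero hc t ht x hx
  refine ⟨W, hW, hxW, ?_⟩
  haveI := hmono i j (homOfLE hij)
  apply appLin_injective_of_mono (D.map (homOfLE hij)) W
  rw [appLin_res, h, map_zero]

theorem ι_mono_of_mono (hc : IsColimit c) (hmono : ∀ (i j : ι) (f : i ⟶ j), Mono (D.map f))
    (i : ι) : Mono (c.ι.app i) :=
  mono_of_appLin_injective _ (fun V => ι_injective_of_mono hc hmono i V)

end Groth.Agent.Helper1.LG
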