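import Mathlib
import Groth.Agent.Helper1.LG17

/-!
# LG18: sections of a coproduct of sheaves of modules over a quasi-compact open
-/

set_option autoImplicit false
universe u
open CategoryTheory CategoryTheory.Limits Opposite TopologicalSpace

namespace Groth.Agent.Helper1.LG

variable {T : TopCat.{u}} {R : Sheaf (Opens.grothendieckTopology T) RingCat.{u}}
  {I : Type u} [DecidableEq I] (F : I → SheafOfModules.{u} R) [HasCoproduct F]

/-- the idempotent of the coproduct projecting on the summands indexed by a finite set -/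
noncomputable def eS (S : Finset I) : (∐ F) ⟶ (∐ F) := ∑ i ∈ S, Sigma.π F i ≫ Sigma.ι F i

theorem ι_eS {S : Finset I} {j : I} (hj : j ∈ S) : Sigma.ι F j ≫ eS F S = Sigma.ι F j := by
  unfold eS
  rw [Preadditive.comp_sum, Finset.sum_eq_single j]
  · rw [Sigma.ι_π_eq_id_assoc]
  · intro i _ hij
    rw [Sigma.ι_π_of_ne_assoc F (Ne.symm hij), zero_comp]
  · intro h; exact absurd hj h

theorem appLin_eS (S : Finset I) (U : Opens T) (s : (∐ F).val.obj (op U)) :
    appLin (eS F S) U s = ∑ i ∈ S, appLin (Sigma.ι F i) U (appLin (Sigma.π F i) U s) := by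
  unfold eS
  rw [appLin_sum]
  rfl

end Groth.Agent.Helper1.LG

namespace Groth.Agent.Helper1.LG

open CoproductsFromFiniteFiltered

variable {T : TopCat.{u}} {R : Sheaf (Opens.grothendieckTopology T) RingCat.{u}}
  {I : Type u} [DecidableEq I] (F : I → SheafOfModules.{u} R) [HasCoproduct F]

theorem leg_eS (S : Finset (Discrete I)) (S' : Finset I) (h : ∀ x ∈ S, x.as ∈ S') :
    (finiteSubcoproductsCocone F).ι.app S ≫ eS F S' = (finiteSubcoproductsCocone F).ι.app S := by
  apply Sigma.hom_ext
  intro x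
  have e : Sigma.ι (fun y : S => (Discrete.functor F).obj y.1) x ≫
      (finiteSubcoproductsCocone F).ι.app S = Sigma.ι F x.1.as := by
    simp only [finiteSubcoproductsCocone_ι_app]
    exact Sigma.ι_desc _ _
  calc Sigma.ι (fun y : S => (Discrete.functor F).obj y.1) x ≫
        (finiteSubcoproductsCocone F).ι.app S ≫ eS F S'
      = (Sigma.ι (fun y : S => (Discrete.functor F).obj y.1) x ≫
        (finiteSubcoproductsCocone F).ι.app S) ≫ eS F S' := (Category.assoc _ _ _).symm
    _ = Sigma.ι F x.1.as ≫ eS F S' := congrArg (fun q => q ≫ eS F S') e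
    _ = Sigma.ι F x.1.as := ι_eS F (h x.1 x.2)
    _ = _ := e.symm

/-- a section of a coproduct is locally fixed by the idempotent of a finite set of summands -/
theorem exists_local_eS {U : Opens T} (s : (∐ F).val.obj (op U)) (x : T) (hx : x ∈ U) :
    ∃ (W : Opens T) (hW : W ≤ U) (_ : x ∈ W) (S : Finset I), ∀ S' : Finset I, S ⊆ S' →
      appLin (eS F S') W (res (∐ F) hW s) = res (∐ F) hW s := by
  obtain ⟨S, W, hW, hxW, t, ht⟩ := exists_local_rep (isColimitFiniteSubproductsCocone F)
    (U := U) s x hx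
  refine ⟨W, hW, hxW, S.image Discrete.as, fun S' hS' => ?_⟩
  have hmem : ∀ y ∈ S, y.as ∈ S' := fun y hy => hS' (Finset.mem_image_of_mem _ hy)
  have ht' : (show (∐ F).val.obj (op W) from
      appLin ((finiteSubcoproductsCocone F).ι.app S) W t) = res (∐ F) hW s := ht
  rw [← ht']
  exact congrArg (fun q => (show (∐ F).val.obj (op W) from appLin q W t))
    (leg_eS F S S' hmem)

/-- over a quasi-compact open, a section of a coproduct is fixed by the idempotent of a finite
set of summands -/
theorem exists_eS_of_isCompact {U : Opens T} (hU : IsCompact (U : Set T))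
    (s : (∐ F).val.obj (op U)) : ∃ S : Finset I, appLin (eS F S) U s = s := by
  choose W hW hxW S hS using fun x : U => exists_local_eS F s x.1 x.2
  obtain ⟨A, hA⟩ := hU.elim_finite_subcover (fun x : U => (W x : Set T)) (fun x => (W x).isOpen)
    (fun x hx => Set.mem_iUnion.2 ⟨⟨x, hx⟩, hxW ⟨x, hx⟩⟩)
  refine ⟨A.biUnion S, ?_⟩
  rw [← sub_eq_zero]
  apply eq_zero_of_locally
  intro y hy
  obtain ⟨x, hx⟩ := Set.mem_iUnion.1 (hA hy)
  obtain ⟨hxA, hyx⟩ := Set.mem_iUnion.1 hx
  refine ⟨W x, hW x, hyx, ?_⟩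
  rw [res_sub', ← appLin_res, hS x _ (Finset.subset_biUnion_of_mem S hxA), sub_self]

end Groth.Agent.Helper1.LG
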