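import Mathlib
import Groth.Agent.Helper1.LG18

/-!
# LG19: partial morphisms on slices, elementwise; vanishing over quasi-compact opens at a stage
-/

set_option autoImplicit false
universe u
open CategoryTheory CategoryTheory.Limits Opposite TopologicalSpace

namespace Groth.Agent.Helper1.LG

variable {T : TopCat.{u}} {R : Sheaf (Opens.grothendieckTopology T) RingCat.{u}}
  {M N P : SheafOfModules.{u} R}

/-- the value of a morphism on the slice over `U` on sections over an open of `U` -/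
noncomputable def atLE {U : Opens T} (ψ : M.over U ⟶ N.over U) {V : Opens T} (h : V ≤ U)
    (m : M.val.obj (op V)) : N.val.obj (op V) :=
  appLin ψ (ofLE h) (show (M.over U).val.obj (op (ofLE h)) from m)

theorem atLE_add {U : Opens T} (ψ : M.over U ⟶ N.over U) {V : Opens T} (h : V ≤ U)
    (m m' : M.val.obj (op V)) : atLE ψ h (m + m') = atLE ψ h m + atLE ψ h m' :=
  map_add (appLin ψ (ofLE h)) _ _

theorem atLE_zero {U : Opens T} (ψ : M.over U ⟶ N.over U) {V : Opens T} (h : V ≤ U) :
    atLE ψ h (0 : M.val.obj (op V)) = 0 :=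
  map_zero (appLin ψ (ofLE h))

theorem atLE_sub {U : Opens T} (ψ : M.over U ⟶ N.over U) {V : Opens T} (h : V ≤ U)
    (m m' : M.val.obj (op V)) : atLE ψ h (m - m') = atLE ψ h m - atLE ψ h m' :=
  map_sub (appLin ψ (ofLE h)) _ _

theorem atLE_smul {U : Opens T} (ψ : M.over U ⟶ N.over U) {V : Opens T} (h : V ≤ U)
    (r : R.obj.obj (op V)) (m : M.val.obj (op V)) : atLE ψ h (r • m) = r • atLE ψ h m :=
  map_smul (appLin ψ (ofLE h)) (show (R.over U).obj.obj (op (ofLE h)) from r) _

theorem atLE_sum {U : Opens T} (ψ : M.over U ⟶ N.over U) {V : Opens T} (h : V ≤ U)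
    {I : Type*} (s : Finset I) (m : I → M.val.obj (op V)) :
    atLE ψ h (∑ i ∈ s, m i) = ∑ i ∈ s, atLE ψ h (m i) :=
  map_sum (appLin ψ (ofLE h)) _ _

theorem atLE_sum_smul {U : Opens T} (ψ : M.over U ⟶ N.over U) {V : Opens T} (h : V ≤ U)
    {I : Type*} (s : Finset I) (r : I → R.obj.obj (op V)) (m : I → M.val.obj (op V)) :
    atLE ψ h (∑ i ∈ s, r i • m i) = ∑ i ∈ s, r i • atLE ψ h (m i) := by
  rw [atLE_sum]
  exact Finset.sum_congr rfl (fun i _ => atLE_smul ψ h _ _)

theorem atLE_res {U : Opens T} (ψ : M.over U ⟶ N.over U) {V V' : Opens T} (h : V ≤ U)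
    (h' : V' ≤ V) (m : M.val.obj (op V)) :
    res N h' (atLE ψ h m) = atLE ψ (h'.trans h) (res M h' m) :=
  (appLin_map ψ (Over.homMk (homOfLE h') : ofLE (h'.trans h) ⟶ ofLE h)
    (show (M.over U).val.obj (op (ofLE h)) from m)).symm

theorem atLE_over (φ : M ⟶ N) {U V : Opens T} (h : V ≤ U) (m : M.val.obj (op V)) :
    atLE (φ.over U) h m = appLin φ V m := rfl

theorem atLE_comp {U : Opens T} (ψ : M.over U ⟶ N.over U) (χ : N.over U ⟶ P.over U)
    {V : Opens T} (h : V ≤ U) (m : M.val.obj (op V)) :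
    atLE (ψ ≫ χ) h m = atLE χ h (atLE ψ h m) := rfl

/-- separatedness: equality of sections is local -/
theorem eq_of_locally (M : SheafOfModules.{u} R) {V : Opens T} (t t' : M.val.obj (op V))
    (h : ∀ x ∈ V, ∃ (W : Opens T) (hW : W ≤ V), x ∈ W ∧ res M hW t = res M hW t') : t = t' := by
  rw [← sub_eq_zero]
  apply eq_zero_of_locally
  intro x hx
  obtain ⟨W, hW, hxW, e⟩ := h x hx
  exact ⟨W, hW, hxW, by rw [res_sub', e, sub_self]⟩

/-- two partial morphisms agreeing on generators agree -/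
theorem atLE_eq_of_genOn {U1 U2 V : Opens T} (h1 : V ≤ U1) (h2 : V ≤ U2)
    (ψ1 : M.over U1 ⟶ N.over U1) (ψ2 : M.over U2 ⟶ N.over U2) {I : Type u} [Fintype I]
    (s : I → M.val.obj (op V)) (hs : GenOn M V s)
    (heq : ∀ i, atLE ψ1 h1 (s i) = atLE ψ2 h2 (s i)) {V' : Opens T} (hV' : V' ≤ V)
    (g : M.val.obj (op V')) : atLE ψ1 (hV'.trans h1) g = atLE ψ2 (hV'.trans h2) g := by
  apply eq_of_locally
  intro x hx
  obtain ⟨W, hW, hxW, a, ha⟩ := hs V' hV' g x hx
  refine ⟨W, hW, hxW, ?_⟩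
  rw [atLE_res, atLE_res, ha, atLE_sum_smul, atLE_sum_smul]
  refine Finset.sum_congr rfl (fun i _ => ?_)
  rw [← atLE_res ψ1 h1 (hW.trans hV'), ← atLE_res ψ2 h2 (hW.trans hV'), heq]

/-- two morphisms agreeing on local generators over a cover agree -/
theorem hom_ext_of_genOn {J : Type*} (U : J → Opens T) (hcov : iSup U = ⊤)
    (φ ψ : M ⟶ N) (I : J → Type u) [∀ j, Fintype (I j)] (s : ∀ j, I j → M.val.obj (op (U j)))
    (hs : ∀ j, GenOn M (U j) (s j))
    (heq : ∀ j i, appLin φ (U j) (s j i) = appLin ψ (U j) (s j i)) : φ = ψ := by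
  ext V g
  induction V using Opposite.rec with | _ V => ?_
  change appLin φ V g = appLin ψ V g
  apply eq_of_locally
  intro x hx
  have hx' : x ∈ iSup U := by rw [hcov]; trivial
  obtain ⟨j, hj⟩ := Opens.mem_iSup.1 hx'
  refine ⟨V ⊓ U j, inf_le_left, ⟨hx, hj⟩, ?_⟩
  have := atLE_eq_of_genOn (le_refl (U j)) (le_refl (U j)) (φ.over (U j)) (ψ.over (U j))
    (s j) (hs j) (heq j) (inf_le_right : V ⊓ U j ≤ U j) (res M inf_le_left g)
  rw [atLE_over, atLE_over, appLin_res, appLin_res] at this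
  exact this

section Colim

variable {ι : Type u} [Preorder ι] [IsDirected ι (· ≤ ·)] [Nonempty ι]
  {D : ι ⥤ SheafOfModules.{u} R} {c : Cocone D} (hc : IsColimit c)

include hc in
/-- a section of a stage over a quasi-compact open dying in the colimit dies at a later stage -/
theorem exists_zero_of_isCompact {U : Opens T} (hU : IsCompact (U : Set T)) {i : ι}
    (t : (D.obj i).val.obj (op U)) (ht : appLin (c.ι.app i) U t = 0) :
    ∃ (j : ι) (hij : i ≤ j), appLin (D.map (homOfLE hij)) U t = 0 := by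
  have := Groth.Agent.Helper3.SheafModLib.toSheaf_preservesColimits R
  have hc' := isColimitOfPreserves (SheafOfModules.toSheaf.{u} R) hc
  obtain ⟨j, hij, h⟩ :=
    Groth.Agent.Helper1.ColimSec.exists_zero_of_isCompact hc' hU (i := i) t ht
  exact ⟨j, hij, h⟩

include hc in
/-- finitely many sections of a stage over quasi-compact opens dying in the colimit die at a
common later stage -/
theorem exists_zero_of_isCompact_fin {A : Type*} [Finite A] (U : A → Opens T)
    (hU : ∀ a, IsCompact (U a : Set T)) {i : ι} (t : ∀ a, (D.obj i).val.obj (op (U a)))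
    (ht : ∀ a, appLin (c.ι.app i) (U a) (t a) = 0) :
    ∃ (j : ι) (hij : i ≤ j), ∀ a, appLin (D.map (homOfLE hij)) (U a) (t a) = 0 := by
  choose j hij h using fun a => exists_zero_of_isCompact hc (hU a) (t a) (ht a)
  obtain ⟨m, hm⟩ := Finite.exists_le (fun o : Option A => o.elim i j)
  have him : i ≤ m := hm none
  refine ⟨m, him, fun a => ?_⟩
  have hjm : j a ≤ m := hm (some a)
  rw [← appLin_map_map (hij a) hjm, h, map_zero]

end Colim

end Groth.Agent.Helper1.LG
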