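import Mathlib
import Groth.Agent.Helper1.LG19

/-!
# LG20: morphisms out of a module with finitely many generators and generating relations
-/

set_option autoImplicit false
universe u
open CategoryTheory CategoryTheory.Limits Opposite TopologicalSpace

namespace Groth.Agent.Helper1.LG

variable {T : TopCat.{u}} {R : Sheaf (Opens.grothendieckTopology T) RingCat.{u}}
  {M N : SheafOfModules.{u} R}

/-- a family of sections satisfying the generating relations satisfies all relations -/
theorem relOn_kills {U : Opens T} {I K : Type u} [Fintype I] [Fintype K]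
    (s : I → M.val.obj (op U)) (ρ : K → I → R.obj.obj (op U)) (hr : RelOn M U s ρ)
    (n : I → N.val.obj (op U)) (hn : ∀ k, ∑ i, ρ k i • n i = 0) {V : Opens T} (hV : V ≤ U)
    (c : I → R.obj.obj (op V)) (hc : ∑ i, c i • res M hV (s i) = 0) :
    ∑ i, c i • res N hV (n i) = 0 := by
  apply eq_zero_of_locally
  intro x hx
  obtain ⟨W, hW, hxW, d, hd⟩ := hr.2 V hV c hc x hx
  refine ⟨W, hW, hxW, ?_⟩
  rw [res_sum]
  have h1 : ∀ i, res N hW (c i • res N hV (n i)) =
      ∑ k, d k • (resR (hW.trans hV) (ρ k i) • res N (hW.trans hV) (n i)) := by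
    intro i
    rw [res_smul, hd i, res_res, Finset.sum_smul]
    exact Finset.sum_congr rfl (fun k _ => mul_smul _ _ _)
  simp only [h1]
  rw [Finset.sum_comm]
  refine Finset.sum_eq_zero (fun k _ => ?_)
  rw [← Finset.smul_sum]
  have h2 : ∑ i, resR (hW.trans hV) (ρ k i) • res N (hW.trans hV) (n i) =
      res N (hW.trans hV) (∑ i, ρ k i • n i) := by
    rw [res_sum]
    exact Finset.sum_congr rfl (fun i _ => (res_smul _ _ _).symm)
  rw [h2, hn k, res_zero, smul_zero]

/-- the universal property of a module with generators and generating relations, on the slice -/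
theorem desc_of_relOn {U : Opens T} {I K : Type u} [Fintype I] [Fintype K] [DecidableEq I]
    (s : I → M.val.obj (op U)) (ρ : K → I → R.obj.obj (op U))
    (hg : GenOn M U s) (hr : RelOn M U s ρ) (n : I → N.val.obj (op U))
    (hn : ∀ k, ∑ i, ρ k i • n i = 0) :
    ∃ ψ : M.over U ⟶ N.over U, ∀ i, atLE ψ (le_refl U) (s i) = n i := by
  haveI hepi := epi_of_genOn s hg
  obtain ⟨π, hπ⟩ : ∃ π : SheafOfModules.free (R := R.over U) I ⟶ M.over U,
      π = (M.over U).freeHomEquiv.symm (fun i => overSec (s i)) := ⟨_, rfl⟩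
  obtain ⟨θ, hθ⟩ : ∃ θ : SheafOfModules.free (R := R.over U) I ⟶ N.over U,
      θ = (N.over U).freeHomEquiv.symm (fun i => overSec (n i)) := ⟨_, rfl⟩
  haveI : Epi π := hπ ▸ hepi
  have h0 : kernel.ι π ≫ θ = 0 := by
    ext Y z
    induction Y using Opposite.rec with | _ Y => ?_
    change appLin (kernel.ι π ≫ θ) Y z = 0
    rw [appLin_comp]
    have hz' : appLin π Y (appLin (kernel.ι π) Y z) = 0 := appLin_kernel_ι π Y z
    obtain ⟨z', hz'def⟩ : ∃ z' : (SheafOfModules.free (R := R.over U) I).val.obj (op Y),
        z' = appLin (kernel.ι π) Y z := ⟨_, rfl⟩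
    rw [← hz'def] at hz' ⊢
    rw [hπ, appLin_freeHomEquiv_symm] at hz'
    rw [hθ, appLin_freeHomEquiv_symm]
    have hY : Y.left ≤ U := leOfHom Y.hom
    exact relOn_kills s ρ hr n hn hY
      (fun i => (show R.obj.obj (op Y.left) from coord i Y z')) hz'
  refine ⟨Abelian.epiDesc π θ h0, fun i => ?_⟩
  have h1 : appLin π (top U) (secAt (SheafOfModules.freeSection (R := R.over U) i) (top U)) =
      secAt (overSec (s i)) (top U) := by
    rw [hπ]
    exact appLin_freeHomEquiv_symm_freeSection (M.over U) _ i (top U)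
  have h2 : appLin θ (top U) (secAt (SheafOfModules.freeSection (R := R.over U) i) (top U)) =
      secAt (overSec (n i)) (top U) := by
    rw [hθ]
    exact appLin_freeHomEquiv_symm_freeSection (N.over U) _ i (top U)
  have h3 : (show (M.over U).val.obj (op (top U)) from s i) = secAt (overSec (s i)) (top U) :=
    (secAt_overSec_top (s i)).symm
  have h4 : appLin (Abelian.epiDesc π θ h0) (top U) (secAt (overSec (s i)) (top U)) =
      secAt (overSec (n i)) (top U) := by
    rw [← h1, ← appLin_comp, Abelian.comp_epiDesc, h2]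
  change appLin (Abelian.epiDesc π θ h0) (top U)
    (show (M.over U).val.obj (op (top U)) from s i) = n i
  rw [h3, h4]
  exact secAt_overSec_top (n i)

end Groth.Agent.Helper1.LG
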