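import Mathlib
import Groth.Agent.Helper1.LG20

/-!
# LG21: gluing morphisms of sheaves of modules on a ringed space from compatible data on the
small opens of a cover
-/

set_option autoImplicit false
universe u
open CategoryTheory CategoryTheory.Limits Opposite TopologicalSpace

namespace Groth.Agent.Helper1.LG

namespace Glue

variable {T : TopCat.{u}} {R : Sheaf (Opens.grothendieckTopology T) RingCat.{u}}
  {M N : SheafOfModules.{u} R} {E : Type*} (W : E → Opens T)

/-- the opens contained in a member of the family -/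
def Small : Type u := {V : Opens T // ∃ e, V ≤ W e}

/-- the inclusion of the small opens -/
def incl : Small W → Opens T := fun V => V.1

include W in
theorem isBasis (hcov : ⨆ e, W e = ⊤) : Opens.IsBasis (Set.range (incl W)) := by
  rw [Opens.isBasis_iff_nbhd]
  intro U x hx
  have hx' : x ∈ ⨆ e, W e := by rw [hcov]; trivial
  obtain ⟨e, he⟩ := Opens.mem_iSup.1 hx'
  exact ⟨U ⊓ W e, ⟨⟨U ⊓ W e, e, inf_le_right⟩, rfl⟩, ⟨hx, he⟩, inf_le_left⟩

variable (t : ∀ V : Small W, M.val.obj (op V.1) →+ N.val.obj (op V.1))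
  (hnat : ∀ (V V' : Small W) (h : V'.1 ≤ V.1) (m : M.val.obj (op V.1)),
    res N h (t V m) = t V' (res M h m))

/-- the natural transformation on the small opens -/
noncomputable def α : (inducedFunctor (incl W)).op ⋙ M.val.presheaf ⟶
    (inducedFunctor (incl W)).op ⋙ N.val.presheaf where
  app V := AddCommGrpCat.ofHom (t V.unop)
  naturality V V' f := by
    ext m
    exact (hnat V.unop V'.unop (leOfHom f.unop.hom) m).symm

/-- the glued morphism of abelian presheaves -/
noncomputable def φ (hcov : ⨆ e, W e = ⊤) : M.val.presheaf ⟶ N.val.presheaf :=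
  TopCat.Sheaf.restrictHomEquivHom M.val.presheaf ⟨N.val.presheaf, N.isSheaf⟩ (isBasis W hcov)
    (α W t hnat)

/-- the glued maps on sections -/
noncomputable def glued (hcov : ⨆ e, W e = ⊤) (A : Opens T) (m : M.val.obj (op A)) :
    N.val.obj (op A) := (φ W t hnat hcov).app (op A) m

theorem glued_app (hcov : ⨆ e, W e = ⊤) (V : Small W) (m : M.val.obj (op V.1)) :
    glued W t hnat hcov V.1 m = t V m := by
  have h := TopCat.Sheaf.extend_hom_app M.val.presheaf ⟨N.val.presheaf, N.isSheaf⟩
    (isBasis W hcov) (α W t hnat) V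
  exact congrArg (fun f => f.hom m) h

theorem glued_res (hcov : ⨆ e, W e = ⊤) {A V : Opens T} (h : V ≤ A) (m : M.val.obj (op A)) :
    res N h (glued W t hnat hcov A m) = glued W t hnat hcov V (res M h m) := by
  have := (φ W t hnat hcov).naturality (homOfLE h).op
  exact (congrArg (fun f => f.hom m) this).symm

variable (hlin : ∀ (V : Small W) (c : R.obj.obj (op V.1)) (m : M.val.obj (op V.1)),
  t V (c • m) = c • t V m)

include hlin in
theorem glued_smul (hcov : ⨆ e, W e = ⊤) (A : Opens T) (c : R.obj.obj (op A))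
    (m : M.val.obj (op A)) :
    glued W t hnat hcov A (c • m) = c • glued W t hnat hcov A m := by
  apply eq_of_locally N
  intro y hy
  have hy' : y ∈ ⨆ e, W e := by rw [hcov]; trivial
  obtain ⟨e, he⟩ := Opens.mem_iSup.1 hy'
  have hA : A ⊓ W e ≤ A := inf_le_left
  refine ⟨A ⊓ W e, hA, ⟨hy, he⟩, ?_⟩
  calc res N hA (glued W t hnat hcov A (c • m))
      = glued W t hnat hcov (A ⊓ W e) (res M hA (c • m)) := glued_res W t hnat hcov hA _
    _ = glued W t hnat hcov (A ⊓ W e) (resR hA c • res M hA m) :=
        congrArg (glued W t hnat hcov (A ⊓ W e)) (res_smul hA c m)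
    _ = t ⟨A ⊓ W e, e, inf_le_right⟩ (resR hA c • res M hA m) :=
        glued_app W t hnat hcov ⟨A ⊓ W e, e, inf_le_right⟩ _
    _ = resR hA c • t ⟨A ⊓ W e, e, inf_le_right⟩ (res M hA m) :=
        hlin ⟨A ⊓ W e, e, inf_le_right⟩ _ _
    _ = resR hA c • glued W t hnat hcov (A ⊓ W e) (res M hA m) :=
        congrArg (fun z => resR hA c • z)
          (glued_app W t hnat hcov ⟨A ⊓ W e, e, inf_le_right⟩ _).symm
    _ = resR hA c • res N hA (glued W t hnat hcov A m) :=
        congrArg (fun z => resR hA c • z) (glued_res W t hnat hcov hA m).symm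
    _ = res N hA (c • glued W t hnat hcov A m) := (res_smul hA c _).symm

include hnat hlin in
/-- **gluing morphisms of sheaves of modules** -/
theorem exists_glue (hcov : ⨆ e, W e = ⊤) :
    ∃ τ : M ⟶ N, ∀ (V : Small W) (m : M.val.obj (op V.1)), appLin τ V.1 m = t V m := by
  refine ⟨⟨PresheafOfModules.homMk (φ W t hnat hcov)
    (fun U c m => glued_smul W t hnat hlin hcov U.unop c m)⟩, fun V m => ?_⟩
  exact glued_app W t hnat hcov V m

end Glue

end Groth.Agent.Helper1.LG
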