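import Mathlib
import Groth.Agent.Helper1.LG21

/-!
# LG22: gluing slice morphisms; local lifting data for a morphism into a colimit
-/

set_option autoImplicit false
universe u
open CategoryTheory CategoryTheory.Limits Opposite TopologicalSpace

namespace Groth.Agent.Helper1.LG

variable {T : TopCat.{u}} {R : Sheaf (Opens.grothendieckTopology T) RingCat.{u}}

/-- gluing morphisms defined on the slices over the members of a cover -/
theorem exists_glue_slices {M N : SheafOfModules.{u} R} {J : Type*} (U : J → Opens T)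
    (hcov : ⨆ j, U j = ⊤) (ψ : ∀ j, M.over (U j) ⟶ N.over (U j))
    (hcompat : ∀ (j j' : J) (V : Opens T) (h : V ≤ U j) (h' : V ≤ U j') (m : M.val.obj (op V)),
      atLE (ψ j) h m = atLE (ψ j') h' m) :
    ∃ τ : M ⟶ N, ∀ (j : J) (V : Opens T) (h : V ≤ U j) (m : M.val.obj (op V)),
      appLin τ V m = atLE (ψ j) h m := by
  let t : ∀ V : Glue.Small U, M.val.obj (op V.1) →+ N.val.obj (op V.1) := fun V =>
    { toFun := fun m => atLE (ψ V.2.choose) V.2.choose_spec m
      map_zero' := atLE_zero _ _
      map_add' := atLE_add _ _ }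
  have ht : ∀ (V : Glue.Small U) (j : J) (h : V.1 ≤ U j) (m : M.val.obj (op V.1)),
      t V m = atLE (ψ j) h m := fun V j h m => hcompat _ _ _ _ _ m
  obtain ⟨τ, hτ⟩ := Glue.exists_glue U t
    (fun V V' h m => by
      rw [ht V _ V.2.choose_spec, ht V' _ (h.trans V.2.choose_spec), atLE_res])
    (fun V r m => by
      rw [ht V _ V.2.choose_spec, ht V _ V.2.choose_spec, atLE_smul]) hcov
  exact ⟨τ, fun j V h m => (hτ ⟨V, j, h⟩ m).trans (ht ⟨V, j, h⟩ j h m)⟩

/-- local lifting data: finitely many generators with generating relations over `W`, with lifts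
of the images of the generators along `ℓ` -/
structure LocData {G F N : SheafOfModules.{u} R} (φ : G ⟶ F) (ℓ : N ⟶ F) (W : Opens T) where
  I : Type u
  K : Type u
  [fI : Fintype I]
  [fK : Fintype K]
  s : I → G.val.obj (op W)
  ρ : K → I → R.obj.obj (op W)
  gen : GenOn G W s
  rel : RelOn G W s ρ
  t : I → N.val.obj (op W)
  ht : ∀ a, appLin ℓ W (t a) = appLin φ W (s a)

attribute [instance] LocData.fI LocData.fK

namespace LocData

variable {G F N N' : SheafOfModules.{u} R} {φ : G ⟶ F} {ℓ : N ⟶ F} {W : Opens T}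

/-- restriction of local lifting data to a smaller open -/
noncomputable def restrict (d : LocData φ ℓ W) {W' : Opens T} (h : W' ≤ W) : LocData φ ℓ W' where
  I := d.I
  K := d.K
  s := fun a => res G h (d.s a)
  ρ := fun k a => resR h (d.ρ k a)
  gen := d.gen.mono h
  rel := d.rel.mono h
  t := fun a => res N h (d.t a)
  ht := fun a => by rw [appLin_res, appLin_res, d.ht]

/-- pushing local lifting data along a morphism over `F` -/
noncomputable def push (d : LocData φ ℓ W) (f : N ⟶ N') (ℓ' : N' ⟶ F) (hf : f ≫ ℓ' = ℓ) :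
    LocData φ ℓ' W where
  I := d.I
  K := d.K
  s := d.s
  ρ := d.ρ
  gen := d.gen
  rel := d.rel
  t := fun a => appLin f W (d.t a)
  ht := fun a => by rw [← appLin_comp, hf, d.ht]

/-- the value of a generating relation on the lifts -/
noncomputable def relElt (d : LocData φ ℓ W) (k : d.K) : N.val.obj (op W) :=
  ∑ a, d.ρ k a • d.t a

theorem appLin_relElt (d : LocData φ ℓ W) (k : d.K) : appLin ℓ W (d.relElt k) = 0 := by
  unfold relElt
  rw [appLin_sum_smul]
  simp only [d.ht]
  rw [← appLin_sum_smul, d.rel.1 k, map_zero]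

theorem relElt_push (d : LocData φ ℓ W) (f : N ⟶ N') (ℓ' : N' ⟶ F) (hf : f ≫ ℓ' = ℓ) (k : d.K) :
    (d.push f ℓ' hf).relElt k = appLin f W (d.relElt k) := by
  unfold relElt
  rw [appLin_sum_smul]
  rfl

/-- when the lifts satisfy the generating relations, they define a morphism on the slice lifting
`φ` -/
theorem exists_desc (d : LocData φ ℓ W) (hrel : ∀ k, d.relElt k = 0) :
    ∃ ψ : G.over W ⟶ N.over W, (∀ a, atLE ψ (le_refl W) (d.s a) = d.t a) ∧
      ∀ (V : Opens T) (h : V ≤ W) (g : G.val.obj (op V)),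
        appLin ℓ V (atLE ψ h g) = appLin φ V g := by
  classical
  obtain ⟨ψ, hψ⟩ := desc_of_relOn d.s d.ρ d.gen d.rel d.t hrel
  refine ⟨ψ, hψ, fun V h g => ?_⟩
  have := atLE_eq_of_genOn (le_refl W) (le_refl W) (ψ ≫ ℓ.over W) (φ.over W) d.s d.gen
    (fun a => by rw [atLE_comp, atLE_over, atLE_over, hψ, d.ht]) h g
  rw [atLE_comp, atLE_over, atLE_over] at this
  exact this

end LocData

end Groth.Agent.Helper1.LG
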