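import Mathlib
import Groth.Agent.Helper1.LG22

/-!
# LG23: morphisms out of a finitely presented module into a directed colimit, on a ringed space
whose open covers have finite refinements with quasi-compact pairwise intersections
-/

set_option autoImplicit false
universe u
open CategoryTheory CategoryTheory.Limits Opposite TopologicalSpace

namespace Groth.Agent.Helper1.LG

variable {T : TopCat.{u}} {R : Sheaf (Opens.grothendieckTopology T) RingCat.{u}}
  {ι : Type u} [Preorder ι] [IsDirected ι (· ≤ ·)] [Nonempty ι]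
  {D : ι ⥤ SheafOfModules.{u} R} {c : Cocone D}

/-- the leg of a cocone, with target the point -/
def leg (c : Cocone D) (m : ι) : D.obj m ⟶ c.pt := c.ι.app m

omit [IsDirected ι (· ≤ ·)] [Nonempty ι] in
theorem map_leg {m m' : ι} (h : m ≤ m') : D.map (homOfLE h) ≫ leg c m' = leg c m := c.w _

theorem exists_locData (hc : IsColimit c) {G : SheafOfModules.{u} R}
    (hG : SheafOfModules.IsFinitePresentation.{u} G) (φ : G ⟶ c.pt) (x : T) :
    ∃ (W : Opens T) (m : ι), x ∈ W ∧ Nonempty (LocData φ (leg c m) W) := by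
  rw [isFinitePresentation_iff] at hG
  obtain ⟨U, hxU, I, K, hI, hK, s, ρ, hg, hr⟩ := hG x
  letI := hI
  letI := hK
  classical
  choose i W hW hxW t ht using fun a => exists_local_rep hc (appLin φ U (s a)) x hxU
  obtain ⟨m, hm⟩ := Finite.exists_le i
  have hle : ∀ k, Finset.univ.inf W ⊓ U ≤ W k := fun k =>
    inf_le_left.trans (Finset.inf_le (Finset.mem_univ k))
  have hW0U : Finset.univ.inf W ⊓ U ≤ U := inf_le_right
  have hxW0 : x ∈ Finset.univ.inf W ⊓ U := by
    refine ⟨?_, hxU⟩
    change x ∈ ((Finset.univ.inf W : Opens T) : Set T)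
    rw [Opens.coe_finset_inf, Finset.inf_set_eq_iInter]
    simp only [Set.mem_iInter]
    intro j _
    exact hxW j
  refine ⟨Finset.univ.inf W ⊓ U, m, hxW0, ⟨
    { I := I
      K := K
      s := fun a => res G hW0U (s a)
      ρ := fun k a => resR hW0U (ρ k a)
      gen := hg.mono hW0U
      rel := hr.mono hW0U
      t := fun a => res (D.obj m) (hle a) (appLin (D.map (homOfLE (hm a))) (W a) (t a))
      ht := fun a => ?_ }⟩⟩
  calc appLin (leg c m) (Finset.univ.inf W ⊓ U)
        (res (D.obj m) (hle a) (appLin (D.map (homOfLE (hm a))) (W a) (t a)))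
      = res c.pt (hle a) (appLin (leg c m) (W a) (appLin (D.map (homOfLE (hm a))) (W a) (t a))) :=
        appLin_res _ _ _
    _ = res c.pt (hle a) (appLin (c.ι.app (i a)) (W a) (t a)) :=
        congrArg (res c.pt (hle a)) (appLin_ι_map (hm a) (W a) (t a))
    _ = res c.pt (hle a) (res c.pt (hW a) (appLin φ U (s a))) :=
        congrArg (res c.pt (hle a)) (ht a)
    _ = res c.pt hW0U (appLin φ U (s a)) := res_res _ _ _
    _ = appLin φ (Finset.univ.inf W ⊓ U) (res G hW0U (s a)) := (appLin_res _ _ _).symm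

variable (hX : ∀ (ι' : Type u) (V : ι' → Opens T), iSup V = ⊤ →
      ∃ (J : Type u) (_ : Finite J) (U : J → Opens T), iSup U = ⊤ ∧ (∀ j, ∃ i, U j ≤ V i) ∧
        ∀ j j', IsCompact ((U j ⊓ U j' : Opens T) : Set T))

include hX in
/-- two morphisms from a finitely presented module to a stage which agree in the colimit agree
at a later stage -/
theorem exists_eq_of_comp_eq (hc : IsColimit c) {G : SheafOfModules.{u} R}
    (hG : SheafOfModules.IsFinitePresentation.{u} G) {i : ι} (φ ψ : G ⟶ D.obj i)
    (h : φ ≫ c.ι.app i = ψ ≫ c.ι.app i) :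
    ∃ (k : ι) (hik : i ≤ k), φ ≫ D.map (homOfLE hik) = ψ ≫ D.map (homOfLE hik) := by
  rw [isFinitePresentation_iff] at hG
  choose U hxU I K hI hK s ρ hg hr using hG
  have hcov : iSup U = ⊤ := by
    rw [eq_top_iff]
    intro x _
    exact Opens.mem_iSup.2 ⟨x, hxU x⟩
  obtain ⟨J, hJ, U', hcovU, href, hcomp⟩ := hX T U hcov
  haveI := hJ
  choose x hUx using href
  letI : ∀ j, Fintype (I (x j)) := fun j => hI (x j)
  have hs' : ∀ j, GenOn G (U' j) (fun a => res G (hUx j) (s (x j) a)) :=
    fun j => by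
      letI := hI (x j)
      exact (hg (x j)).mono (hUx j)
  have he : ∀ p : (Σ j, I (x j)), appLin (c.ι.app i) (U' p.1)
      (appLin φ (U' p.1) (res G (hUx p.1) (s (x p.1) p.2)) -
        appLin ψ (U' p.1) (res G (hUx p.1) (s (x p.1) p.2))) = 0 := by
    intro p
    rw [map_sub, ← appLin_comp, ← appLin_comp, h, sub_self]
  obtain ⟨k, hik, hk⟩ := exists_zero_of_isCompact_fin hc (A := Σ j, I (x j))
    (fun p => U' p.1) (fun p => by simpa using hcomp p.1 p.1) _ he
  refine ⟨k, hik, hom_ext_of_genOn U' hcovU _ _ (fun j => I (x j))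
    (fun j a => res G (hUx j) (s (x j) a)) hs' (fun j a => ?_)⟩
  rw [appLin_comp, appLin_comp, ← sub_eq_zero, ← map_sub]
  exact hk ⟨j, a⟩

end Groth.Agent.Helper1.LG
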