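import Mathlib
import Groth.Agent.Helper1.LG23

/-!
# LG24: a morphism from a finitely presented module into a directed colimit factors through a
stage
-/

set_option autoImplicit false
universe u
open CategoryTheory CategoryTheory.Limits Opposite TopologicalSpace

namespace Groth.Agent.Helper1.LG

variable {T : TopCat.{u}} {R : Sheaf (Opens.grothendieckTopology T) RingCat.{u}}
  {ι : Type u} [Preorder ι] [IsDirected ι (· ≤ ·)] [Nonempty ι]
  {D : ι ⥤ SheafOfModules.{u} R} {c : Cocone D}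

variable (hX : ∀ (ι' : Type u) (V : ι' → Opens T), iSup V = ⊤ →
      ∃ (J : Type u) (_ : Finite J) (U : J → Opens T), iSup U = ⊤ ∧ (∀ j, ∃ i, U j ≤ V i) ∧
        ∀ j j', IsCompact ((U j ⊓ U j' : Opens T) : Set T))

include hX in
set_option maxHeartbeats 1600000 in
theorem exists_lift (hc : IsColimit c) {G : SheafOfModules.{u} R}
    (hG : SheafOfModules.IsFinitePresentation.{u} G) (φ : G ⟶ c.pt) :
    ∃ (m : ι) (τ : G ⟶ D.obj m), τ ≫ leg c m = φ := by
  choose W m hxW hd using exists_locData hc hG φ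
  have hcovW : iSup W = ⊤ := by
    rw [eq_top_iff]
    intro x _
    exact Opens.mem_iSup.2 ⟨x, hxW x⟩
  obtain ⟨J, hJ, U, hcovU, href, hcomp⟩ := hX T W hcovW
  haveI := hJ
  choose x hUx using href
  obtain ⟨m0, hm0⟩ := Finite.exists_le (fun j => m (x j))
  -- data at a common stage
  obtain ⟨d0, -⟩ : ∃ d0 : ∀ j, LocData φ (leg c m0) (U j), True :=
    ⟨fun j => ((hd (x j)).some.restrict (hUx j)).push (D.map (homOfLE (hm0 j))) (leg c m0)
      (map_leg _), trivial⟩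
  -- the relations hold at a later stage
  obtain ⟨m1, hm01, h1⟩ := exists_zero_of_isCompact_fin hc (A := Σ j, (d0 j).K)
    (fun p => U p.1) (fun p => by simpa using hcomp p.1 p.1) (i := m0)
    (fun p => (d0 p.1).relElt p.2) (fun p => (d0 p.1).appLin_relElt p.2)
  obtain ⟨d1, hd1⟩ : ∃ d1 : ∀ j, LocData φ (leg c m1) (U j), ∀ j k, (d1 j).relElt k = 0 := by
    refine ⟨fun j => (d0 j).push (D.map (homOfLE hm01)) (leg c m1) (map_leg _), fun j k => ?_⟩
    rw [LocData.relElt_push]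
    exact h1 ⟨j, k⟩
  choose ψ hψs hψ using fun j => (d1 j).exists_desc (hd1 j)
  -- overlaps
  have he : ∀ p : (Σ j, Σ _ : J, (d1 j).I), appLin (c.ι.app m1) (U p.1 ⊓ U p.2.1)
      (atLE (ψ p.1) inf_le_left (res G inf_le_left ((d1 p.1).s p.2.2)) -
        atLE (ψ p.2.1) inf_le_right (res G inf_le_left ((d1 p.1).s p.2.2))) = 0 := by
    intro p
    rw [map_sub]
    have e1 := hψ p.1 (U p.1 ⊓ U p.2.1) inf_le_left (res G inf_le_left ((d1 p.1).s p.2.2))
    have e2 := hψ p.2.1 (U p.1 ⊓ U p.2.1) inf_le_right (res G inf_le_left ((d1 p.1).s p.2.2))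
    exact sub_eq_zero.2 (e1.trans e2.symm)
  obtain ⟨m2, hm12, h2⟩ := exists_zero_of_isCompact_fin hc (A := Σ j, Σ _ : J, (d1 j).I)
    (fun p => U p.1 ⊓ U p.2.1) (fun p => hcomp _ _) _ he
  obtain ⟨ψ', hψ'⟩ : ∃ ψ' : ∀ j, G.over (U j) ⟶ (D.obj m2).over (U j),
      ∀ j, ψ' j = ψ j ≫ (D.map (homOfLE hm12)).over (U j) := ⟨_, fun _ => rfl⟩
  have hcompat : ∀ (j j' : J) (V : Opens T) (h : V ≤ U j) (h' : V ≤ U j')
      (g : G.val.obj (op V)), atLE (ψ' j) h g = atLE (ψ' j') h' g := by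
    intro j j' V h h' g
    have hV : V ≤ U j ⊓ U j' := le_inf h h'
    refine atLE_eq_of_genOn inf_le_left inf_le_right (ψ' j) (ψ' j')
      (fun a => res G inf_le_left ((d1 j).s a)) ((d1 j).gen.mono inf_le_left) (fun a => ?_) hV g
    rw [hψ', hψ', atLE_comp, atLE_over, atLE_comp, atLE_over, ← sub_eq_zero, ← map_sub]
    exact h2 ⟨j, j', a⟩
  obtain ⟨τ, hτ⟩ := exists_glue_slices U hcovU ψ' hcompat
  refine ⟨m2, τ, ?_⟩
  refine hom_ext_of_genOn U hcovU _ _ (fun j => (d1 j).I) (fun j => (d1 j).s)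
    (fun j => (d1 j).gen) (fun j a => ?_)
  rw [appLin_comp, hτ j (U j) le_rfl, hψ', atLE_comp, atLE_over]
  have e1 : appLin (leg c m2) (U j) (appLin (D.map (homOfLE hm12)) (U j)
      (atLE (ψ j) (le_refl (U j)) ((d1 j).s a))) =
      appLin (leg c m1) (U j) (atLE (ψ j) (le_refl (U j)) ((d1 j).s a)) :=
    appLin_ι_map hm12 (U j) _
  rw [e1]
  exact hψ j (U j) le_rfl _

end Groth.Agent.Helper1.LG
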