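import Mathlib
import Groth.Agent.Helper1.LG24

/-!
# LG25: bases of a module over an open; locally free modules of the same finite rank
-/

set_option autoImplicit false
universe u
open CategoryTheory CategoryTheory.Limits Opposite TopologicalSpace

namespace Groth.Agent.Helper1.LG

/-- a surjective linear map between modules with bases indexed by the same finite type over a
commutative ring is injective -/
theorem injective_of_bases {S : Type*} [CommRing S] {M N : Type*} [AddCommGroup M] [Module S M]
    [AddCommGroup N] [Module S N] {I : Type*} [Fintype I] (f : I → M) (g : I → N)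
    (hf : ∀ t : M, ∃! a : I → S, t = ∑ i, a i • f i)
    (hg : ∀ t : N, ∃! a : I → S, t = ∑ i, a i • g i) (φ : M →ₗ[S] N)
    (hφ : ∀ i, ∃ m, φ m = g i) : Function.Injective φ := by
  classical
  have bF : Function.Bijective (Fintype.linearCombination S f) := by
    constructor
    · intro a b hab
      obtain ⟨c, _, hc⟩ := hf (Fintype.linearCombination S f a)
      have h1 := hc a (by rw [Fintype.linearCombination_apply])
      have h2 := hc b (by rw [hab, Fintype.linearCombination_apply])
      rw [h1, h2]
    · intro t
      obtain ⟨a, ha, -⟩ := hf t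
      exact ⟨a, by rw [Fintype.linearCombination_apply, ← ha]⟩
  have bG : Function.Bijective (Fintype.linearCombination S g) := by
    constructor
    · intro a b hab
      obtain ⟨c, _, hc⟩ := hg (Fintype.linearCombination S g a)
      have h1 := hc a (by rw [Fintype.linearCombination_apply])
      have h2 := hc b (by rw [hab, Fintype.linearCombination_apply])
      rw [h1, h2]
    · intro t
      obtain ⟨a, ha, -⟩ := hg t
      exact ⟨a, by rw [Fintype.linearCombination_apply, ← ha]⟩
  let eF := LinearEquiv.ofBijective (Fintype.linearCombination S f) bF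
  let eG := LinearEquiv.ofBijective (Fintype.linearCombination S g) bG
  choose m hm using hφ
  have hsurj : Function.Surjective φ := by
    intro t
    obtain ⟨b, hb, -⟩ := hg t
    refine ⟨∑ i, b i • m i, ?_⟩
    rw [map_sum, hb]
    exact Finset.sum_congr rfl (fun i _ => by rw [map_smul, hm])
  let ψ : (I → S) →ₗ[S] (I → S) := eG.symm.toLinearMap ∘ₗ φ ∘ₗ eF.toLinearMap
  have hψs : Function.Surjective ψ :=
    eG.symm.surjective.comp (hsurj.comp eF.surjective)
  have hψi : Function.Injective ψ := OrzechProperty.injective_of_surjective_endomorphism ψ hψs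
  intro a b hab
  apply eF.symm.injective
  apply hψi
  change eG.symm (φ (eF (eF.symm a))) = eG.symm (φ (eF (eF.symm b)))
  rw [eF.apply_symm_apply, eF.apply_symm_apply, hab]

variable {T : TopCat.{u}} {R : Sheaf (Opens.grothendieckTopology T) RingCat.{u}}

/-- `f` is a basis of `M` over `U`: every section over an open of `U` is uniquely a combination
of the restrictions of the `f i` -/
def BasisOn (M : SheafOfModules.{u} R) (U : Opens T) {I : Type u} [Fintype I]
    (f : I → M.val.obj (op U)) : Prop :=
  ∀ (V : Opens T) (hV : V ≤ U) (t : M.val.obj (op V)),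
    ∃! a : I → R.obj.obj (op V), t = ∑ i, a i • res M hV (f i)

theorem BasisOn.mono {M : SheafOfModules.{u} R} {U U' : Opens T} (h : U' ≤ U) {I : Type u}
    [Fintype I] {f : I → M.val.obj (op U)} (hf : BasisOn M U f) :
    BasisOn M U' (fun i => res M h (f i)) := by
  intro V hV t
  obtain ⟨a, ha, hu⟩ := hf V (hV.trans h) t
  refine ⟨a, ?_, fun b hb => hu b ?_⟩
  · rw [ha]
    exact Finset.sum_congr rfl (fun i _ => by rw [res_res])
  · rw [hb]
    exact Finset.sum_congr rfl (fun i _ => by rw [res_res])

theorem BasisOn.genOn {M : SheafOfModules.{u} R} {U : Opens T} {I : Type u}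
    [Fintype I] {f : I → M.val.obj (op U)} (hf : BasisOn M U f) : GenOn M U f := by
  intro V hV t x hx
  obtain ⟨a, ha, -⟩ := hf V hV t
  refine ⟨V, le_rfl, hx, a, ?_⟩
  rw [res_self]
  exact ha

/-- a trivialisation over `U` gives a basis over `U` -/
theorem basisOn_of_iso {M : SheafOfModules.{u} R} {U : Opens T} {I : Type u} [Fintype I]
    (e : M.over U ≅ SheafOfModules.free (R := R.over U) I) :
    ∃ f : I → M.val.obj (op U), BasisOn M U f := by
  classical
  refine ⟨fun i => (show M.val.obj (op U) from
    appLin e.inv (top U) (secAt (SheafOfModules.freeSection (R := R.over U) i) (top U))), ?_⟩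
  intro V hV t
  obtain ⟨Y, hY⟩ : ∃ Y : Over U, Y = ofLE hV := ⟨_, rfl⟩
  -- the images of the free generators under `e.inv`
  have hfi : ∀ i, appLin e.inv (ofLE hV)
      (secAt (SheafOfModules.freeSection (R := R.over U) i) (ofLE hV)) =
      res M hV (show M.val.obj (op U) from
        appLin e.inv (top U) (secAt (SheafOfModules.freeSection (R := R.over U) i) (top U))) := by
    intro i
    have h1 := secAt_map (SheafOfModules.freeSection (R := R.over U) i) (toTop (ofLE hV))
    rw [← h1]
    exact appLin_map e.inv (toTop (ofLE hV)) _
  obtain ⟨z, hz⟩ : ∃ z : (SheafOfModules.free (R := R.over U) I).val.obj (op (ofLE hV)),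
      z = appLin e.hom (ofLE hV) (show (M.over U).val.obj (op (ofLE hV)) from t) := ⟨_, rfl⟩
  have htz : (show (M.over U).val.obj (op (ofLE hV)) from t) = appLin e.inv (ofLE hV) z := by
    rw [hz, ← appLin_comp, e.hom_inv_id]
    rfl
  refine ⟨fun i => (show R.obj.obj (op V) from coord i (ofLE hV) z), ?_, ?_⟩
  · refine htz.trans ?_
    conv_lhs => rw [free_decomp (ofLE hV) z]
    rw [appLin_sum_smul]
    exact Finset.sum_congr rfl (fun i _ =>
      congrArg (fun w : M.val.obj (op V) =>
        (show R.obj.obj (op V) from coord i (ofLE hV) z) • w) (hfi i))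
  · intro b hb
    have hz2 : z = ∑ i, (show (R.over U).obj.obj (op (ofLE hV)) from b i) •
        secAt (SheafOfModules.freeSection (R := R.over U) i) (ofLE hV) := by
      have h3 : (show (M.over U).val.obj (op (ofLE hV)) from t) =
          appLin e.inv (ofLE hV) (∑ i, (show (R.over U).obj.obj (op (ofLE hV)) from b i) •
            secAt (SheafOfModules.freeSection (R := R.over U) i) (ofLE hV)) := by
        rw [appLin_sum_smul]
        refine Eq.trans hb ?_
        exact Finset.sum_congr rfl (fun i _ =>
          congrArg (fun w : M.val.obj (op V) => b i • w) (hfi i).symm)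
      have h4 := congrArg (appLin e.hom (ofLE hV)) h3
      rw [← appLin_comp, e.inv_hom_id] at h4
      exact hz.trans h4
    funext j
    have := congrArg (coord j (ofLE hV)) hz2
    rw [coord_sum_smul, Finset.sum_eq_single j] at this
    · rw [coord_freeSection, if_pos rfl, mul_one] at this
      exact this.symm
    · intro i _ hij
      rw [coord_freeSection, if_neg hij, mul_zero]
    · intro h; exact absurd (Finset.mem_univ j) h

end Groth.Agent.Helper1.LG
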