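import Mathlib
import Groth.Agent.Helper1.LG25

/-!
# LG26: an epimorphism between modules locally free of the same finite rank is an isomorphism
-/

set_option autoImplicit false
universe u
open CategoryTheory CategoryTheory.Limits Opposite TopologicalSpace

namespace Groth.Agent.Helper1.LG

variable {T : TopCat.{u}} {R : Sheaf (Opens.grothendieckTopology T) RingCat.{u}}
  (hcomm : ∀ (V : Opens T) (a b : R.obj.obj (op V)), a * b = b * a)

include hcomm in
theorem exists_nhd_injective {F G : SheafOfModules.{u} R} (φ : F ⟶ G) [Epi φ] {U : Opens T}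
    {I : Type u} [Fintype I] (f : I → F.val.obj (op U)) (g : I → G.val.obj (op U))
    (hf : BasisOn F U f) (hg : BasisOn G U g) (x : T) (hx : x ∈ U) :
    ∃ (W : Opens T) (_ : W ≤ U), x ∈ W ∧
      ∀ (V : Opens T) (_ : V ≤ W), Function.Injective (appLin φ V) := by
  obtain ⟨W, hW, hxW, m, hm⟩ := exists_local_lift_fin φ g x hx
  refine ⟨W, hW, hxW, fun V hV => ?_⟩
  letI : CommRing (R.obj.obj (op V)) := { (R.obj.obj (op V)).ring with mul_comm := hcomm V }
  exact injective_of_bases (S := R.obj.obj (op V)) (fun i => res F (hV.trans hW) (f i))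
    (fun i => res G (hV.trans hW) (g i)) (hf V _) (hg V _) (appLin φ V)
    (fun i => ⟨res F hV (m i), by rw [appLin_res, hm, res_res]⟩)

include hcomm in
/-- an epimorphism between modules which locally have bases indexed by the same finite type is
an isomorphism -/
theorem isIso_of_epi_of_locally_bases {F G : SheafOfModules.{u} R} (φ : F ⟶ G) [Epi φ]
    (h : ∀ x : T, ∃ (U : Opens T), x ∈ U ∧ ∃ (I : Type u) (_ : Fintype I)
      (f : I → F.val.obj (op U)) (g : I → G.val.obj (op U)), BasisOn F U f ∧ BasisOn G U g) :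
    IsIso φ := by
  haveI : Mono φ := by
    apply mono_of_appLin_injective
    intro V
    rw [injective_iff_map_eq_zero]
    intro t ht
    apply eq_zero_of_locally
    intro x hx
    obtain ⟨U, hxU, I, hI, f, g, hf, hg⟩ := h x
    letI := hI
    obtain ⟨W, hW, hxW, hinj⟩ := exists_nhd_injective hcomm φ f g hf hg x hxU
    refine ⟨V ⊓ W, inf_le_left, ⟨hx, hxW⟩, ?_⟩
    apply hinj (V ⊓ W) inf_le_right
    rw [appLin_res, ht, res_zero, map_zero]
  exact isIso_of_mono_of_epi φ

end Groth.Agent.Helper1.LG
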