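import Mathlib
import Groth.Agent.Helper1.LG26

/-!
# LG27: transfer of generating relations to another finite family of generators
-/

set_option autoImplicit false
universe u
open CategoryTheory CategoryTheory.Limits Opposite TopologicalSpace

namespace Groth.Agent.Helper1.LG

section Site

variable {C : Type u} [SmallCategory C] {J : GrothendieckTopology C} {R : Sheaf J RingCat.{u}}

/-- a morphism injective on sections is a monomorphism (any small site) -/
theorem mono_of_appLin_injective' {M N : SheafOfModules.{u} R} (g : M ⟶ N)
    (h : ∀ Y : C, Function.Injective (appLin g Y)) : Mono g := by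
  apply Preadditive.mono_of_cancel_zero
  intro P k hk
  ext U p
  induction U using Opposite.rec with | _ U => ?_
  have h0 : appLin g U (appLin k U p) = 0 := by
    have := congrArg (fun q => appLin q U p) hk
    exact this
  exact h U (h0.trans (map_zero _).symm)

end Site

variable {T : TopCat.{u}} {R : Sheaf (Opens.grothendieckTopology T) RingCat.{u}}

/-- separatedness of the sheaf of rings -/
theorem ring_eq_zero_of_locally {V : Opens T} (a : R.obj.obj (op V))
    (h : ∀ x ∈ V, ∃ (W : Opens T) (hW : W ≤ V), x ∈ W ∧ resR hW a = 0) : a = 0 :=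
  eq_zero_of_locally (SheafOfModules.unit R) (show (SheafOfModules.unit R).val.obj (op V) from a) h

theorem relOn_transfer {M : SheafOfModules.{u} R} {U : Opens T} {I I' K : Type u} [Fintype I]
    [Fintype I'] [Fintype K] [DecidableEq I']
    (s : I → M.val.obj (op U)) (ρ : K → I → R.obj.obj (op U)) (hρ : RelOn M U s ρ)
    (f : I' → M.val.obj (op U)) (p : I → I' → R.obj.obj (op U))
    (hp : ∀ i, s i = ∑ j, p i j • f j)
    (q : I' → I → R.obj.obj (op U)) (hq : ∀ j, f j = ∑ i, q j i • s i) :
    RelOn M U f (Sum.elim (fun k j => ∑ i, ρ k i * p i j)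
      (fun j j' => (if j = j' then 1 else 0) - ∑ i, q j i * p i j')) := by
  constructor
  · rintro (k | j)
    · simp only [Sum.elim_inl]
      have h1 : ∀ j, (∑ i, ρ k i * p i j) • f j = ∑ i, ρ k i • (p i j • f j) := fun j => by
        rw [Finset.sum_smul]
        exact Finset.sum_congr rfl (fun i _ => mul_smul _ _ _)
      simp only [h1]
      rw [Finset.sum_comm]
      rw [← hρ.1 k]
      refine Finset.sum_congr rfl (fun i _ => ?_)
      rw [hp i, Finset.smul_sum]
    · simp only [Sum.elim_inr]
      have h1 : ∀ j', ((if j = j' then (1 : R.obj.obj (op U)) else 0) - ∑ i, q j i * p i j') • f j' =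
          (if j = j' then f j' else 0) - ∑ i, q j i • (p i j' • f j') := fun j' => by
        rw [sub_smul, Finset.sum_smul]
        congr 1
        · split_ifs
          · rw [one_smul]
          · rw [zero_smul]
        · exact Finset.sum_congr rfl (fun i _ => mul_smul _ _ _)
      simp only [h1]
      rw [Finset.sum_sub_distrib, Finset.sum_ite_eq Finset.univ j, if_pos (Finset.mem_univ j),
        Finset.sum_comm, sub_eq_zero]
      conv_lhs => rw [hq j]
      refine Finset.sum_congr rfl (fun i _ => ?_)
      rw [hp i, Finset.smul_sum]
  · intro V hV c hc x hx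
    obtain ⟨c', hc'⟩ : ∃ c' : I → R.obj.obj (op V), c' = fun i => ∑ j, c j * resR hV (q j i) :=
      ⟨_, rfl⟩
    have hc0 : ∑ i, c' i • res M hV (s i) = 0 := by
      rw [← hc, hc']
      have h1 : ∀ i, (∑ j, c j * resR hV (q j i)) • res M hV (s i) =
          ∑ j, c j • (resR hV (q j i) • res M hV (s i)) := fun i => by
        rw [Finset.sum_smul]
        exact Finset.sum_congr rfl (fun j _ => mul_smul _ _ _)
      simp only [h1]
      rw [Finset.sum_comm]
      refine Finset.sum_congr rfl (fun j _ => ?_)
      rw [← Finset.smul_sum]
      congr 1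
      rw [hq j, res_sum]
      exact Finset.sum_congr rfl (fun i _ => (res_smul _ _ _).symm)
    obtain ⟨W, hW, hxW, d, hd⟩ := hρ.2 V hV c' hc0 x hx
    refine ⟨W, hW, hxW, Sum.elim d (fun j => resR hW (c j)), fun j' => ?_⟩
    rw [Fintype.sum_sum_type]
    simp only [Sum.elim_inl, Sum.elim_inr]
    have e1 : ∑ k, d k * resR (hW.trans hV) (∑ i, ρ k i * p i j') =
        ∑ i, resR hW (c' i) * resR (hW.trans hV) (p i j') := by
      have h2 : ∀ k, d k * resR (hW.trans hV) (∑ i, ρ k i * p i j') =
          ∑ i, (d k * resR (hW.trans hV) (ρ k i)) * resR (hW.trans hV) (p i j') := fun k => by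
        rw [map_sum, Finset.mul_sum]
        exact Finset.sum_congr rfl (fun i _ => by rw [map_mul, mul_assoc])
      simp only [h2]
      rw [Finset.sum_comm]
      refine Finset.sum_congr rfl (fun i _ => ?_)
      rw [← Finset.sum_mul, ← hd i]
    have e2 : ∑ j, resR hW (c j) * resR (hW.trans hV)
        ((if j = j' then (1 : R.obj.obj (op U)) else 0) - ∑ i, q j i * p i j') =
        resR hW (c j') - ∑ i, resR hW (c' i) * resR (hW.trans hV) (p i j') := by
      have h3 : ∀ j, resR hW (c j) * resR (hW.trans hV)
          ((if j = j' then (1 : R.obj.obj (op U)) else 0) - ∑ i, q j i * p i j') =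
          (if j = j' then resR hW (c j) else 0) -
            ∑ i, (resR hW (c j) * resR (hW.trans hV) (q j i)) * resR (hW.trans hV) (p i j') :=
        fun j => by
          rw [map_sub, mul_sub, map_sum, Finset.mul_sum]
          congr 1
          · split_ifs
            · rw [map_one, mul_one]
            · rw [map_zero, mul_zero]
          · exact Finset.sum_congr rfl (fun i _ => by rw [map_mul, mul_assoc])
      simp only [h3]
      rw [Finset.sum_sub_distrib, Finset.sum_ite_eq' Finset.univ j', if_pos (Finset.mem_univ j'),
        Finset.sum_comm]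
      congr 1
      refine Finset.sum_congr rfl (fun i _ => ?_)
      rw [← Finset.sum_mul, hc', map_sum]
      congr 1
      exact Finset.sum_congr rfl (fun j _ => by rw [map_mul, resR_resR])
    rw [e1, e2]
    abel

end Groth.Agent.Helper1.LG
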