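import Mathlib
import Groth.Agent.Helper1.LG27
import Groth.Agent.Helper1.LG15

/-!
# LG28: germs of sections and of functions at a point of a ringed space
-/

set_option autoImplicit false
universe u
open CategoryTheory CategoryTheory.Limits Opposite TopologicalSpace

namespace Groth.Agent.Helper1.LG

variable {X : TopCat.{u}} (O : TopCat.Sheaf CommRingCat.{u} X) (x : X)

theorem inf_mem_fin {A : Type*} [Fintype A] (W : A → Opens X) (hxW : ∀ a, x ∈ W a) :
    x ∈ Finset.univ.inf W := by
  change x ∈ ((Finset.univ.inf W : Opens X) : Set X)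
  rw [Opens.coe_finset_inf, Finset.inf_set_eq_iInter]
  simp only [Set.mem_iInter]
  intro j _
  exact hxW j

theorem germRing_res {U W : Opens X} (hW : W ≤ U) (hxW : x ∈ W) (a : O.obj.obj (op U)) :
    ModSite.germRing (Opens.pointGrothendieckTopology x) W (fib x hxW)
      (resR (R := ModSite.ringSh O) hW a) =
      ModSite.germRing (Opens.pointGrothendieckTopology x) U (fib x (hW hxW)) a :=
  (Opens.pointGrothendieckTopology x).toPresheafFiber_w_apply (homOfLE hW) (fib x hxW) O.obj a

theorem exists_eq_of_germRing_eq {U : Opens X} (hxU : x ∈ U) (a a' : O.obj.obj (op U))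
    (h : ModSite.germRing (Opens.pointGrothendieckTopology x) U (fib x hxU) a =
      ModSite.germRing (Opens.pointGrothendieckTopology x) U (fib x hxU) a') :
    ∃ (W : Opens X) (hW : W ≤ U), x ∈ W ∧
      resR (R := ModSite.ringSh O) hW a = resR (R := ModSite.ringSh O) hW a' := by
  obtain ⟨Y, f, y, -, hy⟩ := ((Opens.pointGrothendieckTopology x).toPresheafFiber_eq_iff'
    (P := O.obj) U (fib x hxU) a a').1 h
  exact ⟨Y, leOfHom f, y.down.down, hy⟩

/-- finitely many functions with zero germ at `x` vanish on a common neighbourhood -/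
theorem exists_resR_eq_zero_fin {A : Type*} [Fintype A] {U : Opens X} (hxU : x ∈ U)
    (a : A → O.obj.obj (op U))
    (h : ∀ i, ModSite.germRing (Opens.pointGrothendieckTopology x) U (fib x hxU) (a i) = 0) :
    ∃ (W : Opens X) (hW : W ≤ U), x ∈ W ∧ ∀ i, resR (R := ModSite.ringSh O) hW (a i) = 0 := by
  classical
  have h' : ∀ i, ∃ (W : Opens X) (hW : W ≤ U), x ∈ W ∧
      resR (R := ModSite.ringSh O) hW (a i) = resR (R := ModSite.ringSh O) hW 0 := fun i =>
    exists_eq_of_germRing_eq O x hxU (a i) 0 ((h i).trans (map_zero _).symm)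
  choose W hW hxW hz using h'
  have hle : ∀ i, Finset.univ.inf W ⊓ U ≤ W i := fun i =>
    inf_le_left.trans (Finset.inf_le (Finset.mem_univ i))
  refine ⟨Finset.univ.inf W ⊓ U, inf_le_right, ⟨inf_mem_fin x W hxW, hxU⟩, fun i => ?_⟩
  have := congrArg (resR (R := ModSite.ringSh O) (hle i)) (hz i)
  rw [resR_resR, resR_resR, map_zero] at this
  exact this

/-- finitely many elements of the stalk of a module are germs of sections over a common open -/
theorem exists_rep_fin (F : ModSite.Mod O) {A : Type*} [Fintype A]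
    (γ : A → ModSite.stalkAb (Opens.pointGrothendieckTopology x) F) :
    ∃ (U : Opens X) (hxU : x ∈ U) (s : A → F.val.obj (op U)),
      ∀ a, ModSite.germ (Opens.pointGrothendieckTopology x) F U (fib x hxU) (s a) = γ a := by
  classical
  have h : ∀ a, ∃ (W : Opens X) (hxW : x ∈ W) (s : F.val.obj (op W)),
      ModSite.germ (Opens.pointGrothendieckTopology x) F W (fib x hxW) s = γ a := by
    intro a
    obtain ⟨W1, x1, g1, h1⟩ :=
      (Opens.pointGrothendieckTopology x).toPresheafFiber_jointly_surjective
        (P := (ModSite.toAb F).obj) (γ a)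
    exact ⟨W1, x1.down.down, g1, h1⟩
  choose W hxW s hs using h
  have hle : ∀ a, Finset.univ.inf W ≤ W a := fun a => Finset.inf_le (Finset.mem_univ a)
  refine ⟨Finset.univ.inf W, inf_mem_fin x W hxW,
    fun a => res (R := ModSite.ringSh O) F (hle a) (s a), fun a => ?_⟩
  rw [germ_res O x F (hle a) (inf_mem_fin x W hxW)]
  exact hs a

/-- finitely many elements of the stalk of the structure sheaf are germs of functions over a
common open -/
theorem exists_repR_fin {A : Type*} [Fintype A]
    (γ : A → ModSite.stalkRing (Opens.pointGrothendieckTopology x) O) :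
    ∃ (U : Opens X) (hxU : x ∈ U) (a : A → O.obj.obj (op U)),
      ∀ i, ModSite.germRing (Opens.pointGrothendieckTopology x) U (fib x hxU) (a i) = γ i := by
  classical
  have h : ∀ i, ∃ (W : Opens X) (hxW : x ∈ W) (a : O.obj.obj (op W)),
      ModSite.germRing (Opens.pointGrothendieckTopology x) W (fib x hxW) a = γ i := by
    intro i
    obtain ⟨W1, x1, g1, h1⟩ :=
      (Opens.pointGrothendieckTopology x).toPresheafFiber_jointly_surjective
        (P := O.obj) (γ i)
    exact ⟨W1, x1.down.down, g1, h1⟩
  choose W hxW a ha using h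
  have hle : ∀ i, Finset.univ.inf W ≤ W i := fun i => Finset.inf_le (Finset.mem_univ i)
  refine ⟨Finset.univ.inf W, inf_mem_fin x W hxW,
    fun i => resR (R := ModSite.ringSh O) (hle i) (a i), fun i => ?_⟩
  rw [germRing_res O x (hle i) (inf_mem_fin x W hxW)]
  exact ha i

/-- finitely many pairs of sections with equal germs agree on a common neighbourhood -/
theorem exists_eq_of_germ_eq_fin (F : ModSite.Mod O) {A : Type*} [Fintype A] {U : Opens X}
    (hxU : x ∈ U) (s s' : A → F.val.obj (op U))
    (h : ∀ a, ModSite.germ (Opens.pointGrothendieckTopology x) F U (fib x hxU) (s a) =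
      ModSite.germ (Opens.pointGrothendieckTopology x) F U (fib x hxU) (s' a)) :
    ∃ (W : Opens X) (hW : W ≤ U), x ∈ W ∧ ∀ a,
      res (R := ModSite.ringSh O) F hW (s a) = res (R := ModSite.ringSh O) F hW (s' a) := by
  classical
  choose W hW hxW hz using fun a => exists_eq_of_germ_eq O x F hxU (s a) (s' a) (h a)
  have hle : ∀ i, Finset.univ.inf W ⊓ U ≤ W i := fun i =>
    inf_le_left.trans (Finset.inf_le (Finset.mem_univ i))
  refine ⟨Finset.univ.inf W ⊓ U, inf_le_right, ⟨inf_mem_fin x W hxW, hxU⟩, fun a => ?_⟩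
  have := congrArg (res (R := ModSite.ringSh O) F (hle a)) (hz a)
  rw [res_res, res_res] at this
  exact this

theorem germ_sum_smul (F : ModSite.Mod O) {U : Opens X} (hxU : x ∈ U) {A : Type*}
    (S : Finset A) (a : A → O.obj.obj (op U)) (s : A → F.val.obj (op U)) :
    ModSite.germ (Opens.pointGrothendieckTopology x) F U (fib x hxU) (∑ i ∈ S, a i • s i) =
      ∑ i ∈ S, ModSite.germRing (Opens.pointGrothendieckTopology x) U (fib x hxU) (a i) •
        ModSite.germ (Opens.pointGrothendieckTopology x) F U (fib x hxU) (s i) := by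
  have h1 : ModSite.germ (Opens.pointGrothendieckTopology x) F U (fib x hxU) (∑ i ∈ S, a i • s i) =
      ∑ i ∈ S, ModSite.germ (Opens.pointGrothendieckTopology x) F U (fib x hxU) (a i • s i) :=
    map_sum ((Opens.pointGrothendieckTopology x).toPresheafFiber U (fib x hxU)
      (ModSite.toAb F).obj).hom _ S
  exact h1.trans (Finset.sum_congr rfl
    (fun i _ => ModSite.germ_smul _ F U (fib x hxU) (a i) (s i)))

end Groth.Agent.Helper1.LG
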