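import Mathlib
import Groth.Agent.Helper1.LG28

/-!
# LG29: a finitely presented module whose stalk at `x` is free of finite rank is free near `x`
-/

set_option autoImplicit false
universe u
open CategoryTheory CategoryTheory.Limits Opposite TopologicalSpace

namespace Groth.Agent.Helper1.LG

section General

variable {T : TopCat.{u}} {R : Sheaf (Opens.grothendieckTopology T) RingCat.{u}}

/-- a family through which a generating family is expressed is generating -/
theorem GenOn.of_combination {M : SheafOfModules.{u} R} {U : Opens T} {I I' : Type u}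
    [Fintype I] [Fintype I'] {s : I → M.val.obj (op U)} (hs : GenOn M U s)
    (f : I' → M.val.obj (op U)) (p : I → I' → R.obj.obj (op U))
    (hp : ∀ i, s i = ∑ j, p i j • f j) : GenOn M U f := by
  intro V hV t x hx
  obtain ⟨W, hW, hxW, a, ha⟩ := hs V hV t x hx
  refine ⟨W, hW, hxW, fun j => ∑ i, a i * resR (hW.trans hV) (p i j), ?_⟩
  rw [ha]
  have h1 : ∀ i, a i • res M (hW.trans hV) (s i) =
      ∑ j, (a i * resR (hW.trans hV) (p i j)) • res M (hW.trans hV) (f j) := fun i => by
    rw [hp i, res_sum, Finset.smul_sum]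
    exact Finset.sum_congr rfl (fun j _ => by rw [res_smul, mul_smul])
  simp only [h1]
  rw [Finset.sum_comm]
  exact Finset.sum_congr rfl (fun j _ => (Finset.sum_smul).symm)

/-- generators without relations give a trivialisation -/
theorem nonempty_iso_free_of_relOn_zero {M : SheafOfModules.{u} R} {U : Opens T} {I K : Type u}
    [Fintype I] [Fintype K] [DecidableEq I] (f : I → M.val.obj (op U))
    (ρ : K → I → R.obj.obj (op U)) (hg : GenOn M U f) (hr : RelOn M U f ρ)
    (hρ : ∀ k i, ρ k i = 0) :
    Nonempty (M.over U ≅ SheafOfModules.free (R := R.over U) I) := by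
  haveI hepi := epi_of_genOn f hg
  haveI : Mono ((M.over U).freeHomEquiv.symm (fun i => overSec (f i))) := by
    apply mono_of_appLin_injective'
    intro Y
    rw [injective_iff_map_eq_zero]
    intro z hz
    rw [appLin_freeHomEquiv_symm] at hz
    have hY : Y.left ≤ U := leOfHom Y.hom
    apply free_ext Y z 0
    intro i
    have hc : ∀ i, (show R.obj.obj (op Y.left) from coord i Y z) = 0 := by
      intro i
      apply ring_eq_zero_of_locally
      intro y hy
      obtain ⟨W, hW, hyW, d, hd⟩ := hr.2 Y.left hY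
        (fun i => (show R.obj.obj (op Y.left) from coord i Y z)) hz y hy
      refine ⟨W, hW, hyW, ?_⟩
      rw [hd i]
      refine Finset.sum_eq_zero (fun k _ => ?_)
      rw [hρ k i, map_zero, mul_zero]
    refine (hc i).trans ?_
    exact (map_zero (appLin (proj (R := R.over U) i) Y)).symm
  haveI := isIso_of_mono_of_epi ((M.over U).freeHomEquiv.symm (fun i => overSec (f i)))
  exact ⟨(asIso ((M.over U).freeHomEquiv.symm (fun i => overSec (f i)))).symm⟩

end General

variable {X : TopCat.{u}} (O : TopCat.Sheaf CommRingCat.{u} X)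

set_option maxHeartbeats 1600000 in
theorem exists_trivialisation_of_stalk_free (F : ModSite.Mod O)
    (hF : SheafOfModules.IsFinitePresentation.{u} (R := ModSite.ringSh O) F) (x : X) (r : ℕ)
    (e : ModSite.stalkMod (Opens.pointGrothendieckTopology x) F
      ≃ₗ[ModSite.stalkRing (Opens.pointGrothendieckTopology x) O]
        (Fin r → ModSite.stalkRing (Opens.pointGrothendieckTopology x) O)) :
    ∃ U : Opens X, x ∈ U ∧
      Nonempty ((ModSite.restr O U).obj F ≅ SheafOfModules.free (ULift.{u} (Fin r))) := by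
  classical
  rw [isFinitePresentation_iff] at hF
  obtain ⟨U1, hxU1, K, L, hK, hL, s, ρ, hs, hρ⟩ := hF x
  letI := hK
  letI := hL
  -- a basis of the stalk
  obtain ⟨b, hb⟩ : ∃ b : ULift.{u} (Fin r) → ModSite.stalkAb (Opens.pointGrothendieckTopology x) F,
      b = fun j => e.symm (Pi.single j.down 1) := ⟨_, rfl⟩
  have hcomb : ∀ c : ULift.{u} (Fin r) → ModSite.stalkRing (Opens.pointGrothendieckTopology x) O,
      e (∑ j, c j • b j) = fun i => c ⟨i⟩ := by
    intro c
    rw [map_sum]
    funext i
    rw [Finset.sum_apply, Finset.sum_eq_single (⟨i⟩ : ULift.{u} (Fin r))]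
    · rw [map_smul, hb, LinearEquiv.apply_symm_apply]
      simp
    · intro j _ hj
      rw [map_smul, hb, LinearEquiv.apply_symm_apply]
      have : j.down ≠ i := fun h => hj (by cases j; simp_all)
      simp [Pi.single_apply, this.symm]
    · intro h; exact absurd (Finset.mem_univ _) h
  have hdecomp : ∀ γ : ModSite.stalkAb (Opens.pointGrothendieckTopology x) F,
      γ = ∑ j : ULift.{u} (Fin r), (e γ j.down) • b j := by
    intro γ
    apply e.injective
    rw [hcomb]
  have hindep : ∀ c : ULift.{u} (Fin r) → ModSite.stalkRing (Opens.pointGrothendieckTopology x) O,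
      ∑ j, c j • b j = 0 → ∀ j, c j = 0 := by
    intro c hc j
    have := congrFun ((hcomb c).symm.trans ((congrArg e hc).trans (map_zero e))) j.down
    exact this
  -- representatives
  obtain ⟨U0, hxU0, f0, hf0⟩ := exists_rep_fin O x F b
  obtain ⟨U2, hxU2, p0, hp0⟩ := exists_repR_fin O x (fun kj : K × ULift.{u} (Fin r) =>
    e (ModSite.germ (Opens.pointGrothendieckTopology x) F U1 (fib x hxU1) (s kj.1)) kj.2.down)
  have hxU3 : x ∈ U0 ⊓ U1 ⊓ U2 := ⟨⟨hxU0, hxU1⟩, hxU2⟩
  have h30 : U0 ⊓ U1 ⊓ U2 ≤ U0 := inf_le_left.trans inf_le_left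
  have h31 : U0 ⊓ U1 ⊓ U2 ≤ U1 := inf_le_left.trans inf_le_right
  have h32 : U0 ⊓ U1 ⊓ U2 ≤ U2 := inf_le_right
  have hg : ∀ k, ModSite.germ (Opens.pointGrothendieckTopology x) F (U0 ⊓ U1 ⊓ U2) (fib x hxU3)
      (res (R := ModSite.ringSh O) F h31 (s k)) =
      ModSite.germ (Opens.pointGrothendieckTopology x) F (U0 ⊓ U1 ⊓ U2) (fib x hxU3)
        (∑ j, resR (R := ModSite.ringSh O) h32 (p0 (k, j)) •
          res (R := ModSite.ringSh O) F h30 (f0 j)) := by
    intro k
    have h2 := germ_sum_smul O x F hxU3 Finset.univ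
      (fun j => resR (R := ModSite.ringSh O) h32 (p0 (k, j)))
      (fun j => res (R := ModSite.ringSh O) F h30 (f0 j))
    refine Eq.trans ?_ h2.symm
    rw [germ_res O x F h31 hxU3]
    refine (hdecomp _).trans (Finset.sum_congr rfl (fun j _ => ?_))
    rw [germRing_res O x h32 hxU3, germ_res O x F h30 hxU3, hp0, hf0]
  obtain ⟨U4, h43, hxU4, h4⟩ := exists_eq_of_germ_eq_fin O x F hxU3 _ _ hg
  have hs4 : GenOn (R := ModSite.ringSh O) F U4
      (fun k => res (R := ModSite.ringSh O) F (h43.trans h31) (s k)) := hs.mono _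
  obtain ⟨U5, h54, hxU5, q, hq⟩ := hs4.exists_fin (le_refl U4)
    (fun j => res (R := ModSite.ringSh O) F (h43.trans h30) (f0 j)) x hxU4
  have h51 : U5 ≤ U1 := h54.trans (h43.trans h31)
  have h50 : U5 ≤ U0 := h54.trans (h43.trans h30)
  have h52 : U5 ≤ U2 := h54.trans (h43.trans h32)
  have hp' : ∀ k, res (R := ModSite.ringSh O) F h51 (s k) =
      ∑ j, resR (R := ModSite.ringSh O) h52 (p0 (k, j)) •
        res (R := ModSite.ringSh O) F h50 (f0 j) := by
    intro k
    have e1 : res (R := ModSite.ringSh O) F h51 (s k) = res (R := ModSite.ringSh O) F h54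
        (res (R := ModSite.ringSh O) F h43 (res (R := ModSite.ringSh O) F h31 (s k))) := by
      rw [res_res, res_res]
    have e2 : res (R := ModSite.ringSh O) F h54 (res (R := ModSite.ringSh O) F h43
        (∑ j, resR (R := ModSite.ringSh O) h32 (p0 (k, j)) •
          res (R := ModSite.ringSh O) F h30 (f0 j))) =
        ∑ j, resR (R := ModSite.ringSh O) h52 (p0 (k, j)) •
          res (R := ModSite.ringSh O) F h50 (f0 j) := by
      rw [res_res, res_sum]
      refine Finset.sum_congr rfl (fun j _ => ?_)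
      rw [res_smul, res_res, resR_resR]
    rw [e1, h4 k, e2]
  have hq' : ∀ j, res (R := ModSite.ringSh O) F h50 (f0 j) =
      ∑ k, q j k • res (R := ModSite.ringSh O) F h51 (s k) := by
    intro j
    have := hq j
    rw [res_res] at this
    rw [this]
    exact Finset.sum_congr rfl (fun k _ => by rw [res_res])
  have hρ' := hρ.mono h51
  have hrel := relOn_transfer _ _ hρ' _ _ hp' q hq'
  have hgen : GenOn (R := ModSite.ringSh O) F U5
      (fun j => res (R := ModSite.ringSh O) F h50 (f0 j)) :=
    (hs.mono h51).of_combination _ _ hp'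
  -- the germs of the coefficients of the relations vanish
  obtain ⟨ρ'', hρ''⟩ : ∃ ρ'' : L ⊕ ULift.{u} (Fin r) → ULift.{u} (Fin r) →
      (ModSite.ringSh O).obj.obj (op U5), ρ'' = Sum.elim
        (fun k j => ∑ i, resR (R := ModSite.ringSh O) h51 (ρ k i) *
          resR (R := ModSite.ringSh O) h52 (p0 (i, j)))
        (fun j j' => (if j = j' then 1 else 0) -
          ∑ i, q j i * resR (R := ModSite.ringSh O) h52 (p0 (i, j'))) := ⟨_, rfl⟩
  rw [← hρ''] at hrel
  have hgerm0 : ∀ lj : (L ⊕ ULift.{u} (Fin r)) × ULift.{u} (Fin r),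
      ModSite.germRing (Opens.pointGrothendieckTopology x) U5 (fib x hxU5)
        (show O.obj.obj (op U5) from ρ'' lj.1 lj.2) = 0 := by
    rintro ⟨l, j⟩
    have h1 := congrArg (ModSite.germ (Opens.pointGrothendieckTopology x) F U5 (fib x hxU5))
      (hrel.1 l)
    have h2 := germ_sum_smul O x F hxU5 Finset.univ
      (fun j => (show O.obj.obj (op U5) from ρ'' l j))
      (fun j => res (R := ModSite.ringSh O) F h50 (f0 j))
    have h3 : ∑ j, ModSite.germRing (Opens.pointGrothendieckTopology x) U5 (fib x hxU5)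
        (show O.obj.obj (op U5) from ρ'' l j) • b j = 0 := by
      refine Eq.trans (Finset.sum_congr rfl (fun j _ => ?_)) (h2.symm.trans (h1.trans (map_zero _)))
      rw [germ_res O x F h50 hxU5, hf0]
    exact hindep _ h3 j
  obtain ⟨U6, h65, hxU6, hz⟩ := exists_resR_eq_zero_fin O x hxU5
    (fun lj : (L ⊕ ULift.{u} (Fin r)) × ULift.{u} (Fin r) =>
      (show O.obj.obj (op U5) from ρ'' lj.1 lj.2)) hgerm0
  exact ⟨U6, hxU6, nonempty_iso_free_of_relOn_zero (R := ModSite.ringSh O) _ _
    (hgen.mono h65) (hrel.mono h65) (fun l j => hz (l, j))⟩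

end Groth.Agent.Helper1.LG
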