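import Mathlib
import Groth.Agent.Helper1.LG29

/-!
# LG30: sections of the direct image of a module along a morphism of ringed spaces
-/

set_option autoImplicit false
universe u
open CategoryTheory CategoryTheory.Limits Opposite TopologicalSpace

namespace Groth.Agent.Helper1.LG

namespace Push

variable {Z X : TopCat.{u}} (i : Z ⟶ X) {O_Z : TopCat.Sheaf CommRingCat.{u} Z}
  {O_X : TopCat.Sheaf CommRingCat.{u} X}
  (c : O_X ⟶ ((Opens.map i).sheafPushforwardContinuous CommRingCat.{u}
      (Opens.grothendieckTopology X) (Opens.grothendieckTopology Z)).obj O_Z)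

/-- the direct image of a module -/
noncomputable abbrev pushF (F : ModSite.Mod O_Z) : ModSite.Mod O_X :=
  (ModSite.RMor.ofFlat (Opens.map i) c).push.obj F

/-- the comorphism on sections -/
noncomputable def cApp (W : Opens X) : (ModSite.ringSh O_X).obj.obj (op W) →+*
    (ModSite.ringSh O_Z).obj.obj (op ((Opens.map i).obj W)) :=
  ((ModSite.RMor.ofFlat (Opens.map i) c).sharpR.hom.app (op W)).hom

variable (F : ModSite.Mod O_Z)

/-- sections of the direct image over `W` are sections over the inverse image of `W` -/
def toPush (W : Opens X) (m : F.val.obj (op ((Opens.map i).obj W))) :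
    (pushF i c F).val.obj (op W) := m

/-- sections of the direct image over `W` are sections over the inverse image of `W` -/
def ofPush (W : Opens X) (m : (pushF i c F).val.obj (op W)) :
    F.val.obj (op ((Opens.map i).obj W)) := m

theorem toPush_ofPush (W : Opens X) (m : (pushF i c F).val.obj (op W)) :
    toPush i c F W (ofPush i c F W m) = m := rfl

theorem ofPush_toPush (W : Opens X) (m : F.val.obj (op ((Opens.map i).obj W))) :
    ofPush i c F W (toPush i c F W m) = m := rfl

theorem map_mono {W W' : Opens X} (h : W' ≤ W) : (Opens.map i).obj W' ≤ (Opens.map i).obj W :=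
  fun _ hz => h hz

theorem res_toPush {W W' : Opens X} (h : W' ≤ W) (m : F.val.obj (op ((Opens.map i).obj W))) :
    res (R := ModSite.ringSh O_X) (pushF i c F) h (toPush i c F W m) =
      toPush i c F W' (res (R := ModSite.ringSh O_Z) F (map_mono i h) m) := rfl

theorem res_ofPush {W W' : Opens X} (h : W' ≤ W) (m : (pushF i c F).val.obj (op W)) :
    res (R := ModSite.ringSh O_Z) F (map_mono i h) (ofPush i c F W m) =
      ofPush i c F W' (res (R := ModSite.ringSh O_X) (pushF i c F) h m) := rfl

theorem smul_toPush (W : Opens X) (a : (ModSite.ringSh O_X).obj.obj (op W))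
    (m : F.val.obj (op ((Opens.map i).obj W))) :
    a • toPush i c F W m = toPush i c F W (cApp i c W a • m) := rfl

theorem toPush_add (W : Opens X) (m m' : F.val.obj (op ((Opens.map i).obj W))) :
    toPush i c F W (m + m') = toPush i c F W m + toPush i c F W m' := rfl

theorem toPush_zero (W : Opens X) :
    toPush i c F W (0 : F.val.obj (op ((Opens.map i).obj W))) = 0 := rfl

theorem toPush_sum (W : Opens X) {A : Type*} (S : Finset A)
    (m : A → F.val.obj (op ((Opens.map i).obj W))) :
    toPush i c F W (∑ k ∈ S, m k) = ∑ k ∈ S, toPush i c F W (m k) := by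
  classical
  induction S using Finset.induction_on with
  | empty => simp only [Finset.sum_empty]; rfl
  | insert a s ha ih => rw [Finset.sum_insert ha, Finset.sum_insert ha, toPush_add, ih]

theorem toPush_injective (W : Opens X) : Function.Injective (toPush i c F W) := fun _ _ h => h

theorem toPush_sum_smul (W : Opens X) {A : Type*} (S : Finset A)
    (a : A → (ModSite.ringSh O_X).obj.obj (op W))
    (m : A → F.val.obj (op ((Opens.map i).obj W))) :
    ∑ k ∈ S, a k • toPush i c F W (m k) = toPush i c F W (∑ k ∈ S, cApp i c W (a k) • m k) := by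
  rw [toPush_sum]
  exact Finset.sum_congr rfl (fun k _ => smul_toPush i c F W (a k) (m k))

/-- sections over an open which does not meet the image vanish -/
theorem eq_zero_of_disjoint (V : Opens Z) (hV : ∀ z, z ∉ V) (m : F.val.obj (op V)) : m = 0 :=
  eq_zero_of_locally F m (fun z hz => absurd hz (hV z))

/-- the comorphism is compatible with restriction -/
theorem cApp_resR {W W' : Opens X} (h : W' ≤ W) (a : (ModSite.ringSh O_X).obj.obj (op W)) :
    cApp i c W' (resR (R := ModSite.ringSh O_X) h a) =
      resR (R := ModSite.ringSh O_Z) (map_mono i h) (cApp i c W a) := by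
  have := (ModSite.RMor.ofFlat (Opens.map i) c).sharpR.hom.naturality (homOfLE h).op
  exact congrArg (fun k => k.hom a) this

end Push

end Groth.Agent.Helper1.LG
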