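import Mathlib
import Groth.Agent.Helper1.LG30

/-!
# LG31: finite type modules and direct image along a closed embedding of ringed spaces with
surjective comorphism
-/

set_option autoImplicit false
universe u
open CategoryTheory CategoryTheory.Limits Opposite TopologicalSpace

namespace Groth.Agent.Helper1.LG

namespace Push

variable {Z X : TopCat.{u}} (i : Z ⟶ X) {O_Z : TopCat.Sheaf CommRingCat.{u} Z}
  {O_X : TopCat.Sheaf CommRingCat.{u} X}
  (c : O_X ⟶ ((Opens.map i).sheafPushforwardContinuous CommRingCat.{u}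
      (Opens.grothendieckTopology X) (Opens.grothendieckTopology Z)).obj O_Z)

theorem exists_open_preimage (hi : Topology.IsClosedEmbedding i) (V : Opens Z) :
    ∃ W : Opens X, (Opens.map i).obj W = V := by
  obtain ⟨t, ht, htV⟩ := hi.isEmbedding.isInducing.isOpen_iff.1 V.isOpen
  exact ⟨⟨t, ht⟩, Opens.ext htV⟩

/-- the complement of the image of a closed embedding -/
def complRange (hi : Topology.IsClosedEmbedding i) : Opens X :=
  ⟨(Set.range i)ᶜ, hi.isClosed_range.isOpen_compl⟩

theorem not_mem_of_le_complRange (hi : Topology.IsClosedEmbedding i) {W : Opens X}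
    (hW : W ≤ complRange i hi) (z : Z) : z ∉ (Opens.map i).obj W := fun hz =>
  (hW hz : i z ∈ (Set.range i)ᶜ) ⟨z, rfl⟩

theorem exists_local_lift_ring (hc : Sheaf.IsLocallySurjective c) {W1 : Opens X}
    (b : (ModSite.ringSh O_Z).obj.obj (op ((Opens.map i).obj W1))) (y : X) (hy : y ∈ W1) :
    ∃ (W2 : Opens X) (hW2 : W2 ≤ W1), y ∈ W2 ∧ ∃ a : (ModSite.ringSh O_X).obj.obj (op W2),
      cApp i c W2 a = resR (R := ModSite.ringSh O_Z) (map_mono i hW2) b := by
  have h1 := Presheaf.imageSieve_mem (Opens.grothendieckTopology X) c.hom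
    (show ToType ((((Opens.map i).sheafPushforwardContinuous CommRingCat.{u}
      (Opens.grothendieckTopology X) (Opens.grothendieckTopology Z)).obj O_Z).obj.obj (op W1))
      from b)
  obtain ⟨W2, f, ⟨a, ha⟩, hyW2⟩ := h1 y hy
  exact ⟨W2, leOfHom f, hyW2, a, ha⟩

theorem exists_local_lift_ring_fin (hc : Sheaf.IsLocallySurjective c) {A : Type*} [Fintype A]
    {W1 : Opens X} (b : A → (ModSite.ringSh O_Z).obj.obj (op ((Opens.map i).obj W1))) (y : X)
    (hy : y ∈ W1) :
    ∃ (W2 : Opens X) (hW2 : W2 ≤ W1), y ∈ W2 ∧ ∃ a : A → (ModSite.ringSh O_X).obj.obj (op W2),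
      ∀ k, cApp i c W2 (a k) = resR (R := ModSite.ringSh O_Z) (map_mono i hW2) (b k) := by
  classical
  choose W hW hyW a ha using fun k => exists_local_lift_ring i c hc (b k) y hy
  have hle : ∀ k, Finset.univ.inf W ⊓ W1 ≤ W k := fun k =>
    inf_le_left.trans (Finset.inf_le (Finset.mem_univ k))
  refine ⟨Finset.univ.inf W ⊓ W1, inf_le_right, ⟨inf_mem_fin y W hyW, hy⟩,
    fun k => resR (R := ModSite.ringSh O_X) (hle k) (a k), fun k => ?_⟩
  rw [cApp_resR, ha, resR_resR]

variable (F : ModSite.Mod O_Z)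

/-- generators of `F` over the inverse image of `W` generate the direct image over `W` -/
theorem genOn_push (hi : Topology.IsClosedEmbedding i) (hc : Sheaf.IsLocallySurjective c)
    {W : Opens X} {I : Type u} [Fintype I] (s : I → F.val.obj (op ((Opens.map i).obj W)))
    (hs : GenOn (R := ModSite.ringSh O_Z) F ((Opens.map i).obj W) s) :
    GenOn (R := ModSite.ringSh O_X) (pushF i c F) W (fun k => toPush i c F W (s k)) := by
  intro V' hV' t y hy
  by_cases hyr : y ∈ Set.range i
  · obtain ⟨z', rfl⟩ := hyr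
    obtain ⟨V'', hV'', hz', b, hb⟩ := hs ((Opens.map i).obj V') (map_mono i hV')
      (ofPush i c F V' t) z' hy
    obtain ⟨W1, hW1⟩ := exists_open_preimage i hi V''
    have hyW1 : i z' ∈ W1 := by
      have : z' ∈ (Opens.map i).obj W1 := by rw [hW1]; exact hz'
      exact this
    have hle1 : (Opens.map i).obj (W1 ⊓ V') ≤ V'' := fun z hz => by
      have : z ∈ (Opens.map i).obj W1 := hz.1
      rw [hW1] at this
      exact this
    obtain ⟨W2, hW2, hyW2, a, ha⟩ := exists_local_lift_ring_fin i c hc
      (W1 := W1 ⊓ V') (fun k => resR (R := ModSite.ringSh O_Z) hle1 (b k)) (i z') ⟨hyW1, hy⟩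
    have hW2V' : W2 ≤ V' := hW2.trans inf_le_right
    refine ⟨W2, hW2V', hyW2, a, ?_⟩
    have e1 : res (R := ModSite.ringSh O_X) (pushF i c F) hW2V' t =
        toPush i c F W2 (res (R := ModSite.ringSh O_Z) F (map_mono i hW2V') (ofPush i c F V' t)) :=
      rfl
    have e2 : ∀ k, res (R := ModSite.ringSh O_X) (pushF i c F) (hW2V'.trans hV')
        (toPush i c F W (s k)) =
        toPush i c F W2 (res (R := ModSite.ringSh O_Z) F (map_mono i (hW2V'.trans hV')) (s k)) :=
      fun k => rfl
    simp only [e2]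
    rw [e1, toPush_sum_smul]
    congr 1
    have hle2 : (Opens.map i).obj W2 ≤ V'' := (map_mono i hW2).trans hle1
    have e3 : res (R := ModSite.ringSh O_Z) F (map_mono i hW2V') (ofPush i c F V' t) =
        res (R := ModSite.ringSh O_Z) F hle2
          (res (R := ModSite.ringSh O_Z) F hV'' (ofPush i c F V' t)) := by
      rw [res_res]
    rw [e3, hb, res_sum]
    refine Finset.sum_congr rfl (fun k _ => ?_)
    rw [res_smul, res_res, ha k, resR_resR]
  · refine ⟨V' ⊓ complRange i hi, inf_le_left, ⟨hy, hyr⟩, fun _ => 0, ?_⟩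
    have h0 : ∀ m : (pushF i c F).val.obj (op (V' ⊓ complRange i hi)), m = 0 := fun m =>
      eq_zero_of_disjoint F _ (not_mem_of_le_complRange i hi inf_le_right) (ofPush i c F _ m)
    rw [h0 (res (R := ModSite.ringSh O_X) (pushF i c F) inf_le_left t)]
    exact (h0 _).symm

/-- generators of the direct image over `W` generate `F` over the inverse image of `W` -/
theorem genOn_of_push (hi : Topology.IsClosedEmbedding i) {W : Opens X} {I : Type u} [Fintype I]
    (s : I → (pushF i c F).val.obj (op W))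
    (hs : GenOn (R := ModSite.ringSh O_X) (pushF i c F) W s) :
    GenOn (R := ModSite.ringSh O_Z) F ((Opens.map i).obj W) (fun k => ofPush i c F W (s k)) := by
  intro V' hV' t z' hz'
  obtain ⟨W1, hW1⟩ := exists_open_preimage i hi V'
  have hle1 : (Opens.map i).obj (W1 ⊓ W) ≤ V' := fun z hz => by
    have : z ∈ (Opens.map i).obj W1 := hz.1
    rw [hW1] at this
    exact this
  have hy : i z' ∈ W1 ⊓ W := by
    refine ⟨?_, hV' hz'⟩
    have : z' ∈ (Opens.map i).obj W1 := by rw [hW1]; exact hz'
    exact this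
  obtain ⟨W2, hW2, hyW2, a, ha⟩ := hs (W1 ⊓ W) inf_le_right
    (toPush i c F (W1 ⊓ W) (res (R := ModSite.ringSh O_Z) F hle1 t)) (i z') hy
  have hle2 : (Opens.map i).obj W2 ≤ V' := (map_mono i hW2).trans hle1
  refine ⟨(Opens.map i).obj W2, hle2, hyW2, fun k => cApp i c W2 (a k), ?_⟩
  have e1 : res (R := ModSite.ringSh O_X) (pushF i c F) hW2
      (toPush i c F (W1 ⊓ W) (res (R := ModSite.ringSh O_Z) F hle1 t)) =
      toPush i c F W2 (res (R := ModSite.ringSh O_Z) F hle2 t) := by
    rw [res_toPush, res_res]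
  have e2 : ∀ k, res (R := ModSite.ringSh O_X) (pushF i c F) (hW2.trans inf_le_right) (s k) =
      toPush i c F W2 (res (R := ModSite.ringSh O_Z) F (hle2.trans hV')
        (ofPush i c F W (s k))) := fun k => rfl
  simp only [e2] at ha
  rw [e1, toPush_sum_smul] at ha
  exact toPush_injective i c F W2 ha

/-- **finite type and direct image along a closed embedding** -/
theorem isFiniteType_push_iff (hi : Topology.IsClosedEmbedding i)
    (hc : Sheaf.IsLocallySurjective c) :
    SheafOfModules.IsFiniteType.{u} (R := ModSite.ringSh O_X) (pushF i c F) ↔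
      SheafOfModules.IsFiniteType.{u} (R := ModSite.ringSh O_Z) F := by
  rw [isFiniteType_iff, isFiniteType_iff]
  constructor
  · intro h z
    obtain ⟨W, hxW, I, hI, s, hs⟩ := h (i z)
    letI := hI
    exact ⟨(Opens.map i).obj W, hxW, I, hI, _, genOn_of_push i c F hi s hs⟩
  · intro h x
    by_cases hxr : x ∈ Set.range i
    · obtain ⟨z, rfl⟩ := hxr
      obtain ⟨V, hzV, I, hI, s, hs⟩ := h z
      letI := hI
      obtain ⟨W, hW⟩ := exists_open_preimage i hi V
      have hle : (Opens.map i).obj W ≤ V := le_of_eq hW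
      have hzW : i z ∈ W := by
        have : z ∈ (Opens.map i).obj W := by rw [hW]; exact hzV
        exact this
      exact ⟨W, hzW, I, hI, _, genOn_push i c F hi hc _ (hs.mono hle)⟩
    · refine ⟨complRange i hi, hxr, PEmpty.{u + 1}, inferInstance, PEmpty.elim, ?_⟩
      intro V' hV' t y hy
      refine ⟨V', le_rfl, hy, PEmpty.elim, ?_⟩
      have h0 : ∀ m : (pushF i c F).val.obj (op V'), m = 0 := fun m =>
        eq_zero_of_disjoint F _ (not_mem_of_le_complRange i hi hV') (ofPush i c F _ m)
      rw [h0 (res (R := ModSite.ringSh O_X) (pushF i c F) le_rfl t)]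
      simp

end Push

end Groth.Agent.Helper1.LG
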