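import Mathlib
import Groth.Agent.Helper1.LG29

/-!
# LG32: locally free modules of finite rank are finitely presented; retracts of finitely
presented modules; stalks of locally free modules
-/

set_option autoImplicit false
universe u
open CategoryTheory CategoryTheory.Limits Opposite TopologicalSpace

namespace Groth.Agent.Helper1.LG

section General

variable {T : TopCat.{u}} {R : Sheaf (Opens.grothendieckTopology T) RingCat.{u}}

/-- a basis has no relations -/
theorem BasisOn.relOn {M : SheafOfModules.{u} R} {U : Opens T} {I : Type u} [Fintype I]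
    {f : I → M.val.obj (op U)} (hf : BasisOn M U f) :
    RelOn M U f (fun (_ : PEmpty.{u+1}) _ => 0) := by
  refine ⟨fun k => k.elim, ?_⟩
  intro V hV c hc x hx
  refine ⟨V, le_rfl, hx, fun k => k.elim, fun i => ?_⟩
  obtain ⟨a, ha, hu⟩ := hf V hV 0
  have h1 : c = a := hu c hc.symm
  have h2 : (fun _ => 0) = a := hu _ (by simp)
  rw [Finset.univ_eq_empty, Finset.sum_empty, resR_self, h1, ← h2]

/-- a locally free module of finite rank is finitely presented -/
theorem isFinitePresentation_of_locally_basis (M : SheafOfModules.{u} R)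
    (h : ∀ x : T, ∃ (U : Opens T), x ∈ U ∧ ∃ (I : Type u) (_ : Fintype I)
      (f : I → M.val.obj (op U)), BasisOn M U f) :
    SheafOfModules.IsFinitePresentation.{u} M := by
  rw [isFinitePresentation_iff]
  intro x
  obtain ⟨U, hxU, I, hI, f, hf⟩ := h x
  letI := hI
  exact ⟨U, hxU, I, PEmpty.{u+1}, hI, inferInstance, f, _, hf.genOn, hf.relOn⟩

theorem isFiniteType_of_locally_basis (M : SheafOfModules.{u} R)
    (h : ∀ x : T, ∃ (U : Opens T), x ∈ U ∧ ∃ (I : Type u) (_ : Fintype I)
      (f : I → M.val.obj (op U)), BasisOn M U f) :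
    SheafOfModules.IsFiniteType.{u} M := by
  rw [isFiniteType_iff]
  intro x
  obtain ⟨U, hxU, I, hI, f, hf⟩ := h x
  letI := hI
  exact ⟨U, hxU, I, hI, f, hf.genOn⟩

/-- a retract of a finitely presented module is finitely presented -/
theorem isFinitePresentation_of_retract {F H : SheafOfModules.{u} R}
    (hH : SheafOfModules.IsFinitePresentation.{u} H) (hH' : SheafOfModules.IsFiniteType.{u} H)
    (i : F ⟶ H) (p : H ⟶ F) (hip : i ≫ p = 𝟙 F) :
    SheafOfModules.IsFinitePresentation.{u} F := by
  have hc := isFinitePresentation_cokernel (𝟙 H - p ≫ i) hH' hH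
  have hz : (𝟙 H - p ≫ i) ≫ p = 0 := by
    rw [Preadditive.sub_comp, Category.id_comp, Category.assoc, hip, Category.comp_id, sub_self]
  have hπ : (p ≫ i) ≫ cokernel.π (𝟙 H - p ≫ i) = cokernel.π (𝟙 H - p ≫ i) := by
    have := cokernel.condition (𝟙 H - p ≫ i)
    rw [Preadditive.sub_comp, Category.id_comp, sub_eq_zero] at this
    exact this.symm
  let e : cokernel (𝟙 H - p ≫ i) ≅ F :=
    { hom := cokernel.desc _ p hz
      inv := i ≫ cokernel.π _
      hom_inv_id := by
        apply coequalizer.hom_ext
        rw [cokernel.π_desc_assoc, Category.comp_id, ← Category.assoc, hπ]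
      inv_hom_id := by
        rw [Category.assoc, cokernel.π_desc, hip] }
  exact (SheafOfModules.isFinitePresentation.{u} R).prop_of_iso e hc

end General

end Groth.Agent.Helper1.LG
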