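import Mathlib
import Groth.Agent.Helper1.LG32

/-!
# LG33: the stalk ring `ModSite.stalkRing` at a point of a space is the usual stalk; stalks of a
module with a local basis are free
-/

set_option autoImplicit false
universe u
open CategoryTheory CategoryTheory.Limits Opposite TopologicalSpace

namespace Groth.Agent.Helper1.LG

variable {X : TopCat.{u}} (O : TopCat.Sheaf CommRingCat.{u} X) (x : X)

/-- comparison of the topological stalk with the fibre at the point of the site -/
noncomputable def stalkToFiber :
    O.presheaf.stalk x ⟶ ModSite.stalkRing (Opens.pointGrothendieckTopology x) O :=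
  colimit.desc ((OpenNhds.inclusion x).op ⋙ O.presheaf)
    { pt := ModSite.stalkRing (Opens.pointGrothendieckTopology x) O
      ι :=
        { app := fun U => (Opens.pointGrothendieckTopology x).toPresheafFiber U.unop.1
            (fib x U.unop.2) O.obj
          naturality := by
            intro U V f
            refine Eq.trans ?_ (Category.comp_id _).symm
            exact (Opens.pointGrothendieckTopology x).toPresheafFiber_w
              ((OpenNhds.inclusion x).map f.unop) (fib x V.unop.2) O.obj } }

theorem germ_stalkToFiber {U : Opens X} (hxU : x ∈ U) :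
    O.presheaf.germ U x hxU ≫ stalkToFiber O x =
      (Opens.pointGrothendieckTopology x).toPresheafFiber U (fib x hxU) O.obj :=
  colimit.ι_desc (F := (OpenNhds.inclusion x).op ⋙ O.presheaf) _ (op (⟨U, hxU⟩ : OpenNhds x))

noncomputable def fiberToStalk :
    ModSite.stalkRing (Opens.pointGrothendieckTopology x) O ⟶ O.presheaf.stalk x :=
  (Opens.pointGrothendieckTopology x).presheafFiberDesc
    (fun U hU => O.presheaf.germ U x hU.down.down)
    (fun _ _ f hU => O.presheaf.germ_res f x hU.down.down)

theorem toPresheafFiber_fiberToStalk {U : Opens X} (hxU : x ∈ U) :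
    (Opens.pointGrothendieckTopology x).toPresheafFiber U (fib x hxU) O.obj ≫ fiberToStalk O x =
      O.presheaf.germ U x hxU :=
  (Opens.pointGrothendieckTopology x).toPresheafFiber_presheafFiberDesc _ _ U (fib x hxU)

noncomputable def stalkIsoFiber :
    O.presheaf.stalk x ≅ ModSite.stalkRing (Opens.pointGrothendieckTopology x) O where
  hom := stalkToFiber O x
  inv := fiberToStalk O x
  hom_inv_id := by
    apply TopCat.Presheaf.stalk_hom_ext
    intro U hxU
    exact (Category.assoc _ _ _).symm.trans
      ((congrArg (· ≫ fiberToStalk O x) (germ_stalkToFiber O x hxU)).trans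
        ((toPresheafFiber_fiberToStalk O x hxU).trans (Category.comp_id _).symm))
  inv_hom_id := by
    apply (Opens.pointGrothendieckTopology x).presheafFiber_hom_ext
    intro U hU
    exact (Category.assoc _ _ _).symm.trans
      ((congrArg (· ≫ stalkToFiber O x) (toPresheafFiber_fiberToStalk O x hU.down.down)).trans
        ((germ_stalkToFiber O x hU.down.down).trans (Category.comp_id _).symm))

theorem isLocalRing_stalkRing (h : IsLocalRing (O.presheaf.stalk x)) :
    IsLocalRing (ModSite.stalkRing (Opens.pointGrothendieckTopology x) O) :=
  (stalkIsoFiber O x).commRingCatIsoToRingEquiv.isLocalRing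

end Groth.Agent.Helper1.LG
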