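import Mathlib
import Groth.Agent.Helper1.LG33

/-!
# LG34: stalks of a module with a local basis are free; retracts of locally free modules over
a locally ringed space are locally free
-/

set_option autoImplicit false
universe u
open CategoryTheory CategoryTheory.Limits Opposite TopologicalSpace

namespace Groth.Agent.Helper1.LG

variable {X : TopCat.{u}} (O : TopCat.Sheaf CommRingCat.{u} X) (x : X)

/-- the germs of a local basis form a basis of the stalk -/
theorem stalk_bijective_of_basisOn (H : ModSite.Mod O) {U : Opens X} (hxU : x ∈ U)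
    {I : Type u} [Fintype I]
    (h : I → H.val.obj (op U)) (hb : BasisOn (R := ModSite.ringSh O) H U h) :
    Function.Bijective (Fintype.linearCombination
      (ModSite.stalkRing (Opens.pointGrothendieckTopology x) O)
      (fun j => ModSite.germ (Opens.pointGrothendieckTopology x) H U (fib x hxU) (h j))) := by
  classical
  constructor
  · rw [injective_iff_map_eq_zero]
    intro c hc
    rw [Fintype.linearCombination_apply] at hc
    obtain ⟨U', hxU', a, ha⟩ := exists_repR_fin O x c
    have hxV : x ∈ U' ⊓ U := ⟨hxU', hxU⟩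
    have hg : ModSite.germ (Opens.pointGrothendieckTopology x) H (U' ⊓ U) (fib x hxV)
        (∑ j, resR (R := ModSite.ringSh O) (inf_le_left : U' ⊓ U ≤ U') (a j) •
          res (R := ModSite.ringSh O) H (inf_le_right : U' ⊓ U ≤ U) (h j)) =
        ModSite.germ (Opens.pointGrothendieckTopology x) H (U' ⊓ U) (fib x hxV) 0 := by
      refine (germ_sum_smul O x H hxV Finset.univ _ _).trans ?_
      refine Eq.trans ?_ (map_zero _).symm
      refine Eq.trans (Finset.sum_congr rfl (fun j _ => ?_)) hc
      rw [germRing_res O x inf_le_left hxV, germ_res O x H inf_le_right hxV, ha]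
    obtain ⟨W, hW, hxW, hres⟩ := exists_eq_of_germ_eq O x H hxV _ _ hg
    rw [res_zero, res_sum_smul] at hres
    obtain ⟨b, -, hu⟩ := hb W (hW.trans inf_le_right) 0
    have h1 : (fun j => resR (R := ModSite.ringSh O) hW
        (resR (R := ModSite.ringSh O) (inf_le_left : U' ⊓ U ≤ U') (a j))) = b := by
      apply hu
      rw [← hres]
      exact Finset.sum_congr rfl (fun j _ => by rw [res_res])
    have h2 : (fun _ => 0) = b := hu _ (by simp)
    funext j
    have h3 : resR (R := ModSite.ringSh O) hW
        (resR (R := ModSite.ringSh O) (inf_le_left : U' ⊓ U ≤ U') (a j)) = 0 :=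
      congrFun (h1.trans h2.symm) j
    have h4 : c j = ModSite.germRing (Opens.pointGrothendieckTopology x) W (fib x hxW)
        (resR (R := ModSite.ringSh O) hW
          (resR (R := ModSite.ringSh O) (inf_le_left : U' ⊓ U ≤ U') (a j))) := by
      rw [germRing_res O x hW hxW, germRing_res O x inf_le_left (hW hxW), ha]
    refine h4.trans ?_
    rw [h3]
    exact map_zero _
  · intro γ
    obtain ⟨W, w, t, rfl⟩ := (Opens.pointGrothendieckTopology x).toPresheafFiber_jointly_surjective
      (P := (ModSite.toAb H).obj) γ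
    have hxW : x ∈ W := w.down.down
    have hxV : x ∈ W ⊓ U := ⟨hxW, hxU⟩
    obtain ⟨a, ha, -⟩ := hb (W ⊓ U) inf_le_right
      (res (R := ModSite.ringSh O) H (inf_le_left : W ⊓ U ≤ W) t)
    refine ⟨fun j => ModSite.germRing (Opens.pointGrothendieckTopology x) (W ⊓ U) (fib x hxV)
      (a j), ?_⟩
    rw [Fintype.linearCombination_apply]
    have h1 := germ_sum_smul O x H hxV Finset.univ a
      (fun j => res (R := ModSite.ringSh O) H (inf_le_right : W ⊓ U ≤ U) (h j))
    have h2 := (germ_res O x H inf_le_left hxV t).symm.trans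
      ((congrArg (ModSite.germ (Opens.pointGrothendieckTopology x) H (W ⊓ U) (fib x hxV)) ha).trans
        h1)
    refine Eq.trans (Finset.sum_congr rfl (fun j _ => ?_)) h2.symm
    rw [germ_res O x H inf_le_right hxV]

end Groth.Agent.Helper1.LG

namespace Groth.Agent.Helper1.LG

variable {X : TopCat.{u}} (O : TopCat.Sheaf CommRingCat.{u} X)

theorem stalkMap_comp_apply (x : X) {F G K : ModSite.Mod O} (φ : F ⟶ G) (ψ : G ⟶ K)
    (γ : ModSite.stalkAb (Opens.pointGrothendieckTopology x) F) :
    (ModSite.stalkMap (Opens.pointGrothendieckTopology x) ψ).hom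
      ((ModSite.stalkMap (Opens.pointGrothendieckTopology x) φ).hom γ) =
      (ModSite.stalkMap (Opens.pointGrothendieckTopology x) (φ ≫ ψ)).hom γ := by
  obtain ⟨W, w, t, rfl⟩ := (Opens.pointGrothendieckTopology x).toPresheafFiber_jointly_surjective
    (P := (ModSite.toAb F).obj) γ
  have hxW : x ∈ W := w.down.down
  exact (congrArg _ (stalkMap_germ O x φ hxW t)).trans
    ((stalkMap_germ O x ψ hxW _).trans (stalkMap_germ O x (φ ≫ ψ) hxW t).symm)

theorem stalkMap_id_apply (x : X) {F : ModSite.Mod O}
    (γ : ModSite.stalkAb (Opens.pointGrothendieckTopology x) F) :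
    (ModSite.stalkMap (Opens.pointGrothendieckTopology x) (𝟙 F)).hom γ = γ := by
  obtain ⟨W, w, t, rfl⟩ := (Opens.pointGrothendieckTopology x).toPresheafFiber_jointly_surjective
    (P := (ModSite.toAb F).obj) γ
  have hxW : x ∈ W := w.down.down
  exact stalkMap_germ O x (𝟙 F) hxW t

set_option maxHeartbeats 800000 in
theorem locallyFree_of_retract (hO : ∀ x : X, IsLocalRing (O.presheaf.stalk x))
    {F H : ModSite.Mod O}
    (hH : ∀ x : X, ∃ (U : Opens X) (n : ℕ), x ∈ U ∧
      Nonempty ((ModSite.restr O U).obj H ≅ SheafOfModules.free (ULift.{u} (Fin n))))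
    (i : F ⟶ H) (p : H ⟶ F) (hip : i ≫ p = 𝟙 F) (x : X) :
    ∃ (U : Opens X) (n : ℕ), x ∈ U ∧
      Nonempty ((ModSite.restr O U).obj F ≅ SheafOfModules.free (ULift.{u} (Fin n))) := by
  classical
  haveI := isLocalRing_stalkRing O x (hO x)
  have hbasis : ∀ x : X, ∃ (U : Opens X), x ∈ U ∧ ∃ (I : Type u) (_ : Fintype I)
      (f : I → H.val.obj (op U)), BasisOn (R := ModSite.ringSh O) H U f := by
    intro y
    obtain ⟨U, n, hyU, ⟨e⟩⟩ := hH y
    obtain ⟨f, hf⟩ := basisOn_of_iso (R := ModSite.ringSh O) (M := H) (U := U) e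
    exact ⟨U, hyU, ULift.{u} (Fin n), inferInstance, f, hf⟩
  have hHfp := isFinitePresentation_of_locally_basis (R := ModSite.ringSh O) H hbasis
  have hHft := isFiniteType_of_locally_basis (R := ModSite.ringSh O) H hbasis
  have hF : SheafOfModules.IsFinitePresentation.{u} (R := ModSite.ringSh O) F :=
    isFinitePresentation_of_retract hHfp hHft i p hip
  obtain ⟨U, hxU, I, hI, f, hf⟩ := hbasis x
  letI := hI
  let eH := LinearEquiv.ofBijective _ (stalk_bijective_of_basisOn O x H hxU f hf)
  haveI : Module.Free (ModSite.stalkRing (Opens.pointGrothendieckTopology x) O)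
      (ModSite.stalkAb (Opens.pointGrothendieckTopology x) H) := Module.Free.of_equiv eH
  haveI : Module.Finite (ModSite.stalkRing (Opens.pointGrothendieckTopology x) O)
      (ModSite.stalkAb (Opens.pointGrothendieckTopology x) H) := Module.Finite.equiv eH
  have hcomp : (ModSite.stalkMap (Opens.pointGrothendieckTopology x) p).hom ∘ₗ
      (ModSite.stalkMap (Opens.pointGrothendieckTopology x) i).hom = LinearMap.id := by
    ext γ
    refine (stalkMap_comp_apply O x i p γ).trans ?_
    rw [hip]
    exact stalkMap_id_apply O x γ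
  haveI : Module.Projective (ModSite.stalkRing (Opens.pointGrothendieckTopology x) O)
      (ModSite.stalkAb (Opens.pointGrothendieckTopology x) F) :=
    Module.Projective.of_split _ _ hcomp
  haveI : Module.Finite (ModSite.stalkRing (Opens.pointGrothendieckTopology x) O)
      (ModSite.stalkAb (Opens.pointGrothendieckTopology x) F) :=
    Module.Finite.of_surjective (ModSite.stalkMap (Opens.pointGrothendieckTopology x) p).hom
      (fun γ => ⟨_, LinearMap.congr_fun hcomp γ⟩)
  haveI : Module.Free (ModSite.stalkRing (Opens.pointGrothendieckTopology x) O)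
      (ModSite.stalkAb (Opens.pointGrothendieckTopology x) F) :=
    Module.free_of_flat_of_isLocalRing
  let b := Module.finBasis (ModSite.stalkRing (Opens.pointGrothendieckTopology x) O)
      (ModSite.stalkAb (Opens.pointGrothendieckTopology x) F)
  obtain ⟨V, hxV, hV⟩ := exists_trivialisation_of_stalk_free O F hF x _ b.equivFun
  exact ⟨V, _, hxV, hV⟩

end Groth.Agent.Helper1.LG
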