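import Mathlib
import Groth.Agent.Helper1.LG34

/-!
# LG35: linear independence of the germs of the free generators of a (possibly infinite)
trivialisation; the rank of a locally free module is locally constant
-/

set_option autoImplicit false
universe u
open CategoryTheory CategoryTheory.Limits Opposite TopologicalSpace

namespace Groth.Agent.Helper1.LG

section General

variable {T : TopCat.{u}} {R : Sheaf (Opens.grothendieckTopology T) RingCat.{u}}

/-- the family `f` has no nontrivial finite relation over opens of `U` -/
def IndepOn (M : SheafOfModules.{u} R) (U : Opens T) {I : Type u}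
    (f : I → M.val.obj (op U)) : Prop :=
  ∀ (V : Opens T) (hV : V ≤ U) (S : Finset I) (b : I → R.obj.obj (op V)),
    ∑ j ∈ S, b j • res M hV (f j) = 0 → ∀ j ∈ S, b j = 0

theorem indepOn_of_iso {M : SheafOfModules.{u} R} {U : Opens T} {I : Type u}
    (e : M.over U ≅ SheafOfModules.free (R := R.over U) I) :
    IndepOn M U (fun i => (show M.val.obj (op U) from
      appLin e.inv (top U) (secAt (SheafOfModules.freeSection (R := R.over U) i) (top U)))) := by
  classical
  intro V hV S b hsum k hk
  have hfi : ∀ i, appLin e.inv (ofLE hV)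
      (secAt (SheafOfModules.freeSection (R := R.over U) i) (ofLE hV)) =
      res M hV (show M.val.obj (op U) from
        appLin e.inv (top U) (secAt (SheafOfModules.freeSection (R := R.over U) i) (top U))) := by
    intro i
    have h1 := secAt_map (SheafOfModules.freeSection (R := R.over U) i) (toTop (ofLE hV))
    rw [← h1]
    exact appLin_map e.inv (toTop (ofLE hV)) _
  obtain ⟨z, hz⟩ : ∃ z : (SheafOfModules.free (R := R.over U) I).val.obj (op (ofLE hV)),
      z = ∑ j ∈ S, (show (R.over U).obj.obj (op (ofLE hV)) from b j) •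
        secAt (SheafOfModules.freeSection (R := R.over U) j) (ofLE hV) := ⟨_, rfl⟩
  have h0 : appLin e.inv (ofLE hV) z = 0 := by
    rw [hz, appLin_sum_smul]
    refine Eq.trans ?_ hsum
    exact Finset.sum_congr rfl (fun i _ =>
      congrArg (fun w : M.val.obj (op V) => b i • w) (hfi i))
  have hz0 : z = 0 := by
    have h4 := congrArg (appLin e.hom (ofLE hV)) h0
    rw [← appLin_comp, e.inv_hom_id, map_zero] at h4
    exact h4
  have := congrArg (coord k (ofLE hV)) (hz.symm.trans hz0)
  rw [coord_sum_smul, Finset.sum_eq_single k] at this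
  · rw [coord_freeSection, if_pos rfl, mul_one] at this
    exact this.trans (map_zero (appLin (proj (R := R.over U) k) (ofLE hV)))
  · intro i _ hik
    rw [coord_freeSection, if_neg hik, mul_zero]
  · intro h; exact absurd hk h

end General

variable {X : TopCat.{u}} (O : TopCat.Sheaf CommRingCat.{u} X) (x : X)

/-- germs of an independent family are linearly independent in the stalk -/
theorem stalk_linearIndependent_of_indepOn (H : ModSite.Mod O) {U : Opens X} (hxU : x ∈ U)
    {I : Type u} (h : I → H.val.obj (op U)) (hb : IndepOn (R := ModSite.ringSh O) H U h) :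
    LinearIndependent (ModSite.stalkRing (Opens.pointGrothendieckTopology x) O)
      (fun j => ModSite.germ (Opens.pointGrothendieckTopology x) H U (fib x hxU) (h j)) := by
  classical
  rw [linearIndependent_iff']
  intro S c hc k hk
  obtain ⟨U', hxU', a, ha⟩ := exists_repR_fin O x (fun j : S => c j.1)
  have hxV : x ∈ U' ⊓ U := ⟨hxU', hxU⟩
  obtain ⟨a', ha'⟩ : ∃ a' : I → O.obj.obj (op U'),
      a' = fun j => if hj : j ∈ S then a ⟨j, hj⟩ else 0 := ⟨_, rfl⟩
  have ha'' : ∀ j ∈ S, ModSite.germRing (Opens.pointGrothendieckTopology x) U' (fib x hxU')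
      (a' j) = c j := by
    intro j hj
    rw [ha']
    simp only [dif_pos hj]
    exact ha ⟨j, hj⟩
  have hg : ModSite.germ (Opens.pointGrothendieckTopology x) H (U' ⊓ U) (fib x hxV)
      (∑ j ∈ S, resR (R := ModSite.ringSh O) (inf_le_left : U' ⊓ U ≤ U') (a' j) •
        res (R := ModSite.ringSh O) H (inf_le_right : U' ⊓ U ≤ U) (h j)) =
      ModSite.germ (Opens.pointGrothendieckTopology x) H (U' ⊓ U) (fib x hxV) 0 := by
    refine (germ_sum_smul O x H hxV S _ _).trans ?_
    refine Eq.trans ?_ (map_zero _).symm
    refine Eq.trans (Finset.sum_congr rfl (fun j hj => ?_)) hc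
    rw [germRing_res O x inf_le_left hxV, germ_res O x H inf_le_right hxV, ha'' j hj]
  obtain ⟨W, hW, hxW, hres⟩ := exists_eq_of_germ_eq O x H hxV _ _ hg
  rw [res_zero, res_sum_smul] at hres
  have h3 := hb W (hW.trans inf_le_right) S
    (fun j => resR (R := ModSite.ringSh O) hW
      (resR (R := ModSite.ringSh O) (inf_le_left : U' ⊓ U ≤ U') (a' j)))
    (by
      rw [← hres]
      exact Finset.sum_congr rfl (fun j _ => by rw [res_res])) k hk
  have h4 : c k = ModSite.germRing (Opens.pointGrothendieckTopology x) W (fib x hxW)
      (resR (R := ModSite.ringSh O) hW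
        (resR (R := ModSite.ringSh O) (inf_le_left : U' ⊓ U ≤ U') (a' k))) := by
    rw [germRing_res O x hW hxW, germRing_res O x inf_le_left (hW hxW), ha'' k hk]
  refine h4.trans ?_
  rw [h3]
  exact map_zero _

end Groth.Agent.Helper1.LG
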