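import Mathlib
import Groth.Agent.Helper1.LG35

/-!
# LG36: the rank of a locally free module on a ringed space with nonzero stalks is well defined
and locally constant
-/

set_option autoImplicit false
universe u
open CategoryTheory CategoryTheory.Limits Opposite TopologicalSpace

namespace Groth.Agent.Helper1.LG

variable {X : TopCat.{u}} (O : TopCat.Sheaf CommRingCat.{u} X)

theorem nontrivial_stalkRing (x : X) (h : Nontrivial (O.presheaf.stalk x)) :
    Nontrivial (ModSite.stalkRing (Opens.pointGrothendieckTopology x) O) :=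
  haveI := h
  (stalkIsoFiber O x).commRingCatIsoToRingEquiv.injective.nontrivial

/-- if one trivialisation near `x` is finite, any other one is at most as large -/
theorem card_le_of_finite (x : X) (hO : Nontrivial (O.presheaf.stalk x)) (F : ModSite.Mod O)
    {U U' : Opens X} (hxU : x ∈ U) (hxU' : x ∈ U') {I I' : Type u} [Finite I]
    (e : (ModSite.restr O U).obj F ≅ SheafOfModules.free I)
    (e' : (ModSite.restr O U').obj F ≅ SheafOfModules.free I') :
    Cardinal.mk I' ≤ Cardinal.mk I := by
  classical
  haveI := nontrivial_stalkRing O x hO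
  letI : Fintype I := Fintype.ofFinite I
  obtain ⟨f, hf⟩ := basisOn_of_iso (R := ModSite.ringSh O) (M := F) (U := U) e
  let eH := LinearEquiv.ofBijective _ (stalk_bijective_of_basisOn O x F hxU f hf)
  let b : Module.Basis I (ModSite.stalkRing (Opens.pointGrothendieckTopology x) O)
      (ModSite.stalkAb (Opens.pointGrothendieckTopology x) F) := Module.Basis.ofEquivFun eH.symm
  have hind := stalk_linearIndependent_of_indepOn O x F hxU' _
    (indepOn_of_iso (R := ModSite.ringSh O) (M := F) (U := U') e')
  exact linearIndependent_le_basis b _ hind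

theorem card_eq (x : X) (hO : Nontrivial (O.presheaf.stalk x)) (F : ModSite.Mod O)
    {U U' : Opens X} (hxU : x ∈ U) (hxU' : x ∈ U') {I I' : Type u}
    (e : (ModSite.restr O U).obj F ≅ SheafOfModules.free I)
    (e' : (ModSite.restr O U').obj F ≅ SheafOfModules.free I') :
    ENat.card I = ENat.card I' := by
  by_cases hI : Finite I
  · have h1 := card_le_of_finite O x hO F hxU hxU' e e'
    haveI : Finite I' := by
      rw [← Cardinal.lt_aleph0_iff_finite]
      exact lt_of_le_of_lt h1 (Cardinal.lt_aleph0_iff_finite.2 hI)
    have h2 := card_le_of_finite O x hO F hxU' hxU e' e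
    unfold ENat.card
    rw [le_antisymm h1 h2]
  · by_cases hI' : Finite I'
    · exfalso
      have h1 := card_le_of_finite O x hO F hxU' hxU e' e
      apply hI
      rw [← Cardinal.lt_aleph0_iff_finite]
      exact lt_of_le_of_lt h1 (Cardinal.lt_aleph0_iff_finite.2 hI')
    · rw [not_finite_iff_infinite] at hI hI'
      rw [ENat.card_eq_top_of_infinite, ENat.card_eq_top_of_infinite]

theorem exists_rank (hO : ∀ x : X, Nontrivial (O.presheaf.stalk x)) (F : ModSite.Mod O)
    [SheafOfModules.IsLocallyFree (R := ModSite.ringSh O) F] :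
    ∃ rk : X → ℕ∞, IsLocallyConstant rk ∧
      ∀ (x : X) (U : Opens X) (I : Type u), x ∈ U →
        Nonempty ((ModSite.restr O U).obj F ≅ SheafOfModules.free I) → ENat.card I = rk x := by
  obtain ⟨q, hq⟩ := SheafOfModules.IsLocallyFree.exists_isLocallyFreeData
    (R := ModSite.ringSh O) (M := F)
  have hcov : iSup q.X = ⊤ := (Opens.coversTop_iff (U := q.X)).1 q.coversTop
  have hx : ∀ x : X, ∃ i, x ∈ q.X i := by
    intro x
    have hx : x ∈ iSup q.X := by rw [hcov]; trivial
    exact Opens.mem_iSup.1 hx
  choose ix hix using hx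
  have e : ∀ i, (ModSite.restr O (q.X i)).obj F ≅ SheafOfModules.free (q.generators i).I :=
    fun i => (asIso (q.generators i).π).symm
  refine ⟨fun x => ENat.card (q.generators (ix x)).I, ?_, ?_⟩
  · rw [IsLocallyConstant.iff_exists_open]
    intro x
    refine ⟨q.X (ix x), (q.X (ix x)).2, hix x, fun y hy => ?_⟩
    exact card_eq O y (hO y) F (hix y) hy (e (ix y)) (e (ix x))
  · rintro x U I hxU ⟨e'⟩
    exact card_eq O x (hO x) F hxU (hix x) e' (e (ix x))

end Groth.Agent.Helper1.LG
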