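import Mathlib
import Groth.Agent.Helper1.LG4
import Groth.Agent.Helper4.QcqsMod
import Groth.Agent.Helper4.SecDict

/-!
# LG5: quasi-coherent modules on schemes: spanning sections over an affine open generate over
its basic opens
-/

set_option autoImplicit false
universe u
open CategoryTheory CategoryTheory.Limits Opposite TopologicalSpace AlgebraicGeometry

namespace Groth.Agent.Helper1.LG
open Groth.Agent.Helper4 Groth.Agent.Helper4.QcqsMod

variable {X : Scheme.{u}} (F : X.Modules)

/-- restriction of sections of a module on a scheme -/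
noncomputable def rM {V W : X.Opens} (h : W ≤ V) (m : Γ(F, V)) : Γ(F, W) :=
  F.presheaf.map (homOfLE h).op m

/-- restriction of functions on a scheme -/
noncomputable def rX {V W : X.Opens} (h : W ≤ V) : Γ(X, V) →+* Γ(X, W) :=
  (X.presheaf.map (homOfLE h).op).hom

variable {F}

theorem rM_rM {V W W' : X.Opens} (h : W ≤ V) (h' : W' ≤ W) (m : Γ(F, V)) :
    rM F h' (rM F h m) = rM F (h'.trans h) m := by
  change (F.presheaf.map (homOfLE h).op ≫ F.presheaf.map (homOfLE h').op) m = _
  rw [← F.presheaf.map_comp]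
  rfl

theorem rM_self {V : X.Opens} (h : V ≤ V) (m : Γ(F, V)) : rM F h m = m := by
  change F.presheaf.map (𝟙 (op V)) m = m
  rw [F.presheaf.map_id]
  rfl

theorem rX_rX {V W W' : X.Opens} (h : W ≤ V) (h' : W' ≤ W) (r : Γ(X, V)) :
    rX h' (rX h r) = rX (h'.trans h) r := by
  change (X.presheaf.map (homOfLE h).op ≫ X.presheaf.map (homOfLE h').op) r = _
  rw [← X.presheaf.map_comp]
  rfl

theorem rM_smul {V W : X.Opens} (h : W ≤ V) (r : Γ(X, V)) (m : Γ(F, V)) :
    rM F h (r • m) = rX h r • rM F h m := Scheme.Modules.map_smul F (homOfLE h) r m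

theorem rM_sum {V W : X.Opens} (h : W ≤ V) {I : Type*} (s : Finset I) (g : I → Γ(F, V)) :
    rM F h (∑ i ∈ s, g i) = ∑ i ∈ s, rM F h (g i) := map_sum (F.presheaf.map (homOfLE h).op).hom _ _

/-- spanning sections over an affine open generate over every basic open -/
theorem exists_combination_basicOpen [F.IsQuasicoherent] {U : X.Opens} (hU : IsAffineOpen U)
    {I : Type u} [Fintype I] (s : I → Γ(F, U))
    (hs : Submodule.span Γ(X, U) (Set.range s) = ⊤) (b : Γ(X, U)) (t : Γ(F, X.basicOpen b)) :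
    ∃ a : I → Γ(X, X.basicOpen b), t = ∑ i, a i • rM F (X.basicOpen_le b) (s i) := by
  obtain ⟨k, m, hkm⟩ := (isLocalizingOn_of_isAffineOpen F hU).surj b t
  have hm : m ∈ Submodule.span Γ(X, U) (Set.range s) := by rw [hs]; trivial
  obtain ⟨c, hc⟩ := (Submodule.mem_span_range_iff_exists_fun Γ(X, U)).1 hm
  have hunit : IsUnit (rX (X.basicOpen_le b) (b ^ k)) := by
    have h1 : IsUnit (X.presheaf.map (homOfLE (X.basicOpen_le b)).op b) :=
      RingedSpace.isUnit_res_basicOpen X.toRingedSpace b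
    have h2 : rX (X.basicOpen_le b) (b ^ k) = (X.presheaf.map (homOfLE (X.basicOpen_le b)).op b) ^ k :=
      map_pow _ _ _
    rw [h2]
    exact h1.pow k
  obtain ⟨β, hβ⟩ := hunit
  refine ⟨fun i => (↑β⁻¹ : Γ(X, X.basicOpen b)) * rX (X.basicOpen_le b) (c i), ?_⟩
  have h3 : rX (X.basicOpen_le b) (b ^ k) • t = rM F (X.basicOpen_le b) m := hkm
  have h4 : t = (↑β⁻¹ : Γ(X, X.basicOpen b)) • rM F (X.basicOpen_le b) m := by
    rw [← h3, ← hβ, smul_smul, Units.inv_mul, one_smul]
  rw [h4, ← hc, rM_sum, Finset.smul_sum]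
  refine Finset.sum_congr rfl (fun i _ => ?_)
  rw [rM_smul, smul_smul]

end Groth.Agent.Helper1.LG
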