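import Mathlib
import Groth.Agent.Helper1.LG5
import Groth.Prelude.Def_RelSpec2

/-!
# LG6: finite type quasi-coherent modules on schemes, elementwise
-/

set_option autoImplicit false
universe u
open CategoryTheory CategoryTheory.Limits Opposite TopologicalSpace AlgebraicGeometry

namespace Groth.Agent.Helper1.LG
open Groth.Agent.Helper4 Groth.Agent.Helper4.QcqsMod

variable {X : Scheme.{u}} (F : X.Modules)

/-- the elementwise generation condition on a scheme, in scheme notation -/
theorem genOn_iff {U : X.Opens} {I : Type u} [Fintype I] (s : I → Γ(F, U)) :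
    GenOn (R := X.ringCatSheaf) F U s ↔
      ∀ (V : X.Opens) (hV : V ≤ U) (t : Γ(F, V)) (x : X), x ∈ V →
      ∃ (W : X.Opens) (hW : W ≤ V), x ∈ W ∧ ∃ a : I → Γ(X, W),
        rM F hW t = ∑ i, a i • rM F (hW.trans hV) (s i) := Iff.rfl


/-- spanning sections over an affine open generate over every open which is a basic open -/
theorem exists_combination_of_eq_basicOpen [F.IsQuasicoherent] {U : X.Opens} (hU : IsAffineOpen U)
    {I : Type u} [Fintype I] (s : I → Γ(F, U))
    (hs : Submodule.span Γ(X, U) (Set.range s) = ⊤) (b : Γ(X, U)) {W : X.Opens}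
    (hW : W = X.basicOpen b) (hWU : W ≤ U) (t : Γ(F, W)) :
    ∃ a : I → Γ(X, W), t = ∑ i, a i • rM F hWU (s i) := by
  subst hW
  exact exists_combination_basicOpen hU s hs b t

/-- spanning sections over an affine open generate elementwise -/
theorem genOn_of_span [F.IsQuasicoherent] {U : X.Opens} (hU : IsAffineOpen U)
    {I : Type u} [Fintype I] (s : I → Γ(F, U))
    (hs : Submodule.span Γ(X, U) (Set.range s) = ⊤) :
    GenOn (R := X.ringCatSheaf) F U s := by
  rw [genOn_iff]
  intro V hV t x hx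
  obtain ⟨b, hbV, hxb⟩ := hU.exists_basicOpen_le ⟨x, hx⟩ (hV hx)
  obtain ⟨a, ha⟩ := exists_combination_basicOpen hU s hs b (rM F hbV t)
  refine ⟨X.basicOpen b, hbV, hxb, a, ?_⟩
  rw [ha]

variable {S : Scheme.{u}} (f : X ⟶ S) [QuasiCompact f] [QuasiSeparated f]

omit [QuasiCompact f] [QuasiSeparated f] in
theorem preimage_mono' {V W : S.Opens} (h : W ≤ V) : f ⁻¹ᵁ W ≤ f ⁻¹ᵁ V :=
  fun _ hx => h hx

/-- the elementwise generation condition for the direct image, in scheme notation -/
theorem genOn_dirImg_iff {V : S.Opens} {I : Type u} [Fintype I] (s : I → Γ(F, f ⁻¹ᵁ V)) :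
    GenOn (R := AMod.ringSheaf (RelSpec.QCAlg.directImage f)) ((AMod.dirImg f).obj F) V s ↔
      ∀ (W : S.Opens) (hW : W ≤ V) (t : Γ(F, f ⁻¹ᵁ W)) (y : S), y ∈ W →
      ∃ (W' : S.Opens) (hW' : W' ≤ W), y ∈ W' ∧ ∃ a : I → Γ(X, f ⁻¹ᵁ W'),
        rM F (preimage_mono' f hW') t =
          ∑ i, a i • rM F (preimage_mono' f (hW'.trans hW)) (s i) := Iff.rfl

end Groth.Agent.Helper1.LG
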