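import Mathlib
import Groth.Agent.Helper1.LG6

/-!
# LG7: finite type and the direct image under an affine morphism
-/

set_option autoImplicit false
universe u
open CategoryTheory CategoryTheory.Limits Opposite TopologicalSpace AlgebraicGeometry

namespace Groth.Agent.Helper1.LG
open Groth.Agent.Helper4 Groth.Agent.Helper4.QcqsMod

variable {X S : Scheme.{u}} (f : X ⟶ S) [IsAffineHom f] (F : X.Modules)

theorem exists_affine_nhd_le (V : S.Opens) (y : S) (hy : y ∈ V) :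
    ∃ V' : S.Opens, IsAffineOpen V' ∧ y ∈ V' ∧ V' ≤ V := by
  obtain ⟨W, hW, hyW, hWV⟩ := Opens.isBasis_iff_nbhd.1 S.isBasis_affineOpens hy
  exact ⟨W, hW, hyW, hWV⟩

/-- direct image of a finite type quasi-coherent module under an affine morphism -/
theorem isFiniteType_dirImg (hq : SheafOfModules.IsQuasicoherent (R := X.ringCatSheaf) F)
    (hF : SheafOfModules.IsFiniteType.{u} (R := X.ringCatSheaf) F) :
    SheafOfModules.IsFiniteType.{u} (R := AMod.ringSheaf (RelSpec.QCAlg.directImage f))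
      ((AMod.dirImg f).obj F) := by
  haveI : F.IsQuasicoherent := hq
  rw [isFiniteType_iff]
  intro y
  obtain ⟨V, hV, hyV, -⟩ := exists_affine_nhd_le ⊤ y trivial
  have hU : IsAffineOpen (f ⁻¹ᵁ V) := hV.preimage f
  haveI := SecDict.finite_sections hU F hq hF
  obtain ⟨n, s, hs⟩ := Module.Finite.exists_fin (R := Γ(X, f ⁻¹ᵁ V)) (M := Γ(F, f ⁻¹ᵁ V))
  have hs' : Submodule.span Γ(X, f ⁻¹ᵁ V) (Set.range (fun i : ULift.{u} (Fin n) => s i.down)) = ⊤ := by
    rw [← hs]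
    congr 1
    ext z
    constructor
    · rintro ⟨i, rfl⟩; exact ⟨i.down, rfl⟩
    · rintro ⟨i, rfl⟩; exact ⟨⟨i⟩, rfl⟩
  refine ⟨V, hyV, ULift.{u} (Fin n), inferInstance, fun i => s i.down, ?_⟩
  rw [genOn_dirImg_iff]
  intro W hW t y' hy'
  obtain ⟨a, haW, hya⟩ := hV.exists_basicOpen_le ⟨y', hy'⟩ (hW hy')
  have he : f ⁻¹ᵁ (S.basicOpen a) = X.basicOpen (f.app V a) := Scheme.preimage_basicOpen f a
  obtain ⟨c, hc⟩ := exists_combination_of_eq_basicOpen F hU (fun i : ULift.{u} (Fin n) => s i.down)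
    hs' (f.app V a) he (preimage_mono' f (haW.trans hW)) (rM F (preimage_mono' f haW) t)
  exact ⟨S.basicOpen a, haW, hya, c, hc⟩


/-- generation of the direct image over `V` gives generation over `f⁻¹ V` -/
theorem genOn_of_genOn_dirImg [F.IsQuasicoherent] {V : S.Opens} {I : Type u} [Fintype I]
    (s : I → Γ(F, f ⁻¹ᵁ V))
    (h : GenOn (R := AMod.ringSheaf (RelSpec.QCAlg.directImage f)) ((AMod.dirImg f).obj F) V s) :
    GenOn (R := X.ringCatSheaf) F (f ⁻¹ᵁ V) s := by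
  rw [genOn_dirImg_iff] at h
  rw [genOn_iff]
  intro U' hU' t x hx
  obtain ⟨V', hV'aff, hxV', hV'V⟩ := exists_affine_nhd_le V (f x) (hU' hx)
  have hA : IsAffineOpen (f ⁻¹ᵁ V') := hV'aff.preimage f
  have hxV'' : x ∈ f ⁻¹ᵁ V' := hxV'
  obtain ⟨b, hb, hxb⟩ := hA.exists_basicOpen_le (V := U' ⊓ f ⁻¹ᵁ V') ⟨x, ⟨hx, hxV''⟩⟩ hxV''
  have hbU' : X.basicOpen b ≤ U' := hb.trans inf_le_left
  obtain ⟨k, m, hkm⟩ := (isLocalizingOn_of_isAffineOpen F hA).surj b (rM F hbU' t)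
  obtain ⟨W', hW', hxW', a, ha⟩ := h V' hV'V m (f x) hxV'
  have hxW'' : x ∈ f ⁻¹ᵁ W' := hxW'
  have hW1 : X.basicOpen b ⊓ f ⁻¹ᵁ W' ≤ X.basicOpen b := inf_le_left
  have hW2 : X.basicOpen b ⊓ f ⁻¹ᵁ W' ≤ f ⁻¹ᵁ W' := inf_le_right
  refine ⟨X.basicOpen b ⊓ f ⁻¹ᵁ W', hW1.trans hbU', ⟨hxb, hxW''⟩, ?_⟩
  have hunit : IsUnit (rX (hW1.trans (X.basicOpen_le b)) (b ^ k)) := by
    have h1 : IsUnit (X.presheaf.map (homOfLE (X.basicOpen_le b)).op b) :=
      RingedSpace.isUnit_res_basicOpen X.toRingedSpace b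
    have h2 : rX (hW1.trans (X.basicOpen_le b)) (b ^ k) =
        rX hW1 ((X.presheaf.map (homOfLE (X.basicOpen_le b)).op b) ^ k) := by
      rw [← map_pow]
      exact (rX_rX (X.basicOpen_le b) hW1 (b ^ k)).symm
    rw [h2]
    exact (h1.pow k).map _
  obtain ⟨β, hβ⟩ := hunit
  refine ⟨fun i => (↑β⁻¹ : Γ(X, X.basicOpen b ⊓ f ⁻¹ᵁ W')) * rX hW2 (a i), ?_⟩
  have h1 : rX (hW1.trans (X.basicOpen_le b)) (b ^ k) • rM F (hW1.trans hbU') t =
      rM F (hW1.trans (X.basicOpen_le b)) m := by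
    have h0 : rX (X.basicOpen_le b) (b ^ k) • rM F hbU' t = rM F (X.basicOpen_le b) m := hkm
    have := congrArg (rM F hW1) h0
    rw [rM_smul, rX_rX, rM_rM, rM_rM] at this
    exact this
  have h2 : rM F (hW2.trans (preimage_mono' f hW')) m =
      ∑ i, rX hW2 (a i) • rM F (hW2.trans (preimage_mono' f (hW'.trans hV'V))) (s i) := by
    have := congrArg (rM F hW2) ha
    rw [rM_rM, rM_sum] at this
    rw [this]
    exact Finset.sum_congr rfl (fun i _ => by rw [rM_smul, rM_rM])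
  have h3 : rM F (hW1.trans hbU') t =
      (↑β⁻¹ : Γ(X, X.basicOpen b ⊓ f ⁻¹ᵁ W')) • rM F (hW1.trans (X.basicOpen_le b)) m := by
    rw [← h1, ← hβ, smul_smul, Units.inv_mul, one_smul]
  rw [h3]
  have h4 : rM F (hW1.trans (X.basicOpen_le b)) m = rM F (hW2.trans (preimage_mono' f hW')) m := rfl
  rw [h4, h2, Finset.smul_sum]
  refine Finset.sum_congr rfl (fun i _ => ?_)
  rw [smul_smul]

/-- a quasi-coherent module whose direct image under an affine morphism is of finite type is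
of finite type -/
theorem isFiniteType_of_dirImg [F.IsQuasicoherent]
    (hF : SheafOfModules.IsFiniteType.{u} (R := AMod.ringSheaf (RelSpec.QCAlg.directImage f))
      ((AMod.dirImg f).obj F)) :
    SheafOfModules.IsFiniteType.{u} (R := X.ringCatSheaf) F := by
  rw [isFiniteType_iff] at hF ⊢
  intro x
  obtain ⟨V, hV, I, hI, s, hs⟩ := hF (f x)
  letI := hI
  exact ⟨f ⁻¹ᵁ V, hV, I, hI, s, genOn_of_genOn_dirImg f F s hs⟩

end Groth.Agent.Helper1.LG
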