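import Mathlib

set_option autoImplicit false

/-!
# A stabilization lemma: a module with finitely generated `r^k`-torsion, all of whose elements are
`r`-power torsion, and which is locally finitely generated, is finitely generated.
Also: finiteness of localizations along exact sequences.
-/

namespace Groth.Agent.Helper1.LGFin

universe u v

section Loc

variable {R : Type u} [CommRing R] [IsNoetherianRing R] (p : Ideal R) [p.IsPrime]
  {X Y Z : Type v} [AddCommGroup X] [Module R X] [AddCommGroup Y] [Module R Y]
  [AddCommGroup Z] [Module R Z]

/-- `M_p` is a finite `R_p`-module -/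
abbrev LocFinite (M : Type v) [AddCommGroup M] [Module R M] : Prop :=
  Module.Finite (Localization.AtPrime p) (LocalizedModule p.primeCompl M)

lemma locFinite_of_surjective (f : X →ₗ[R] Y) (hf : Function.Surjective f)
    (h : LocFinite p X) : LocFinite p Y := by
  haveI := h
  refine Module.Finite.of_surjective (LocalizedModule.map p.primeCompl f) ?_
  intro y
  induction y using LocalizedModule.induction_on with
  | h y s =>
    obtain ⟨x, rfl⟩ := hf y
    exact ⟨LocalizedModule.mk x s, LocalizedModule.map_mk _ _ _ _⟩

lemma locFinite_of_injective (f : X →ₗ[R] Y) (hf : Function.Injective f)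
    (h : LocFinite p Y) : LocFinite p X := by
  haveI := h
  haveI : IsNoetherianRing (Localization.AtPrime p) :=
    IsLocalization.isNoetherianRing p.primeCompl _ inferInstance
  refine Module.Finite.of_injective (LocalizedModule.map p.primeCompl f) ?_
  rw [← LinearMap.ker_eq_bot, LinearMap.ker_eq_bot']
  intro x
  induction x using LocalizedModule.induction_on with
  | h x s =>
    intro hx
    rw [LocalizedModule.map_mk, ← LocalizedModule.zero_mk s, LocalizedModule.mk_eq] at hx
    obtain ⟨t, ht⟩ := hx
    rw [← LocalizedModule.zero_mk s, LocalizedModule.mk_eq]
    refine ⟨t, ?_⟩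
    simp only [Submonoid.smul_def, smul_zero] at ht ⊢
    apply hf
    rw [map_smul, map_smul, ht, map_zero]

lemma locFinite_of_exact (f : X →ₗ[R] Y) (g : Y →ₗ[R] Z) (hex : Function.Exact f g)
    (hX : LocFinite p X) (hZ : LocFinite p Z) : LocFinite p Y := by
  haveI : IsNoetherianRing (Localization.AtPrime p) :=
    IsLocalization.isNoetherianRing p.primeCompl _ inferInstance
  -- `Y` is an extension of `range g` by `range f`
  have h1 : LocFinite p (LinearMap.range g) :=
    locFinite_of_injective p (LinearMap.range g).subtype (Submodule.injective_subtype _) hZ
  have h2 : LocFinite p (LinearMap.range f) :=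
    locFinite_of_surjective p f.rangeRestrict f.surjective_rangeRestrict hX
  -- localize `0 → range f → Y → range g → 0`
  let F := LocalizedModule.map p.primeCompl (LinearMap.range f).subtype
  let G := LocalizedModule.map p.primeCompl g.rangeRestrict
  have hG : Function.Surjective G := by
    intro y
    induction y using LocalizedModule.induction_on with
    | h y s =>
      obtain ⟨x, hx⟩ := g.surjective_rangeRestrict y
      exact ⟨LocalizedModule.mk x s, by rw [LocalizedModule.map_mk, hx]⟩
  have hFG : LinearMap.ker G ≤ LinearMap.range F := by
    intro y
    induction y using LocalizedModule.induction_on with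
    | h y s =>
      intro hy
      rw [LinearMap.mem_ker, LocalizedModule.map_mk, ← LocalizedModule.zero_mk s,
        LocalizedModule.mk_eq] at hy
      obtain ⟨t, ht⟩ := hy
      simp only [Submonoid.smul_def, smul_zero] at ht
      have h3 : g ((t : R) • (s : R) • y) = 0 := by
        have := congrArg Subtype.val ht
        simpa using this
      obtain ⟨x, hx⟩ := (hex _).1 h3
      refine ⟨LocalizedModule.mk ⟨f x, x, rfl⟩ (t * s * s), ?_⟩
      rw [LocalizedModule.map_mk, LocalizedModule.mk_eq]
      refine ⟨1, ?_⟩
      simp only [Submonoid.smul_def, Submonoid.coe_mul, Submonoid.coe_one, one_smul, mul_smul]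
      show (s : R) • f x = (t : R) • (s : R) • (s : R) • y
      rw [hx, smul_comm (s : R) (t : R)]
  haveI := h1
  haveI := h2
  haveI : Module.Finite (Localization.AtPrime p) (LinearMap.range F) :=
    Module.Finite.range F
  haveI : Module.Finite (Localization.AtPrime p) (LinearMap.ker G) :=
    Module.Finite.of_injective (Submodule.inclusion hFG) (Submodule.inclusion_injective hFG)
  haveI : Module.Finite (Localization.AtPrime p)
      (LocalizedModule p.primeCompl Y ⧸ LinearMap.ker G) :=
    Module.Finite.equiv (G.quotKerEquivOfSurjective hG).symm
  exact Module.Finite.of_submodule_quotient (LinearMap.ker G)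

lemma locFinite_of_subsingleton [Subsingleton X] : LocFinite p X := by
  haveI : Subsingleton (LocalizedModule p.primeCompl X) := inferInstance
  haveI : Finite (LocalizedModule p.primeCompl X) := Finite.of_subsingleton
  exact Module.Finite.of_finite

end Loc

end Groth.Agent.Helper1.LGFin
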