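import Mathlib
import Groth.Agent.Helper1.LGFinA

set_option autoImplicit false

/-!
# The stabilization lemma
-/

namespace Groth.Agent.Helper1.LGFin

universe u v

section Stab

variable {R : Type u} [CommRing R] (X : Type v) [AddCommGroup X] [Module R X] (r : R)

/-- the `r^k`-torsion -/
def tors (k : ℕ) : Submodule R X := LinearMap.ker ((r ^ k) • (LinearMap.id : X →ₗ[R] X))

variable {X r}

lemma mem_tors {k : ℕ} {x : X} : x ∈ tors X r k ↔ r ^ k • x = 0 := by
  simp [tors]

variable (X r)

/-- a locally finite `r`-power torsion module is locally killed by a power of `r` -/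
lemma exists_pow_kill_loc (h1 : ∀ x : X, ∃ k : ℕ, r ^ k • x = 0) (m : Ideal R) [m.IsPrime]
    (hfin : LocFinite m X) :
    ∃ K : ℕ, ∀ z : LocalizedModule m.primeCompl X, r ^ K • z = 0 := by
  classical
  haveI := hfin
  obtain ⟨s, hs⟩ := (Module.Finite.fg_top :
    (⊤ : Submodule (Localization.AtPrime m) (LocalizedModule m.primeCompl X)).FG)
  have hgen : ∀ g : LocalizedModule m.primeCompl X, ∃ k : ℕ, r ^ k • g = 0 := by
    intro g
    induction g using LocalizedModule.induction_on with
    | h x u =>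
      obtain ⟨k, hk⟩ := h1 x
      exact ⟨k, by rw [LocalizedModule.smul'_mk, hk, LocalizedModule.zero_mk]⟩
  choose k hk using hgen
  refine ⟨s.sup k, fun z => ?_⟩
  have hz : z ∈ Submodule.span (Localization.AtPrime m) (s : Set (LocalizedModule m.primeCompl X)) := by
    rw [hs]
    exact Submodule.mem_top
  induction hz using Submodule.span_induction with
  | mem g hg =>
    have hle : k g ≤ s.sup k := Finset.le_sup hg
    obtain ⟨j, hj⟩ := Nat.exists_eq_add_of_le hle
    rw [hj, pow_add, mul_comm, mul_smul, hk, smul_zero]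
  | zero => rw [smul_zero]
  | add y z _ _ hy hz => rw [smul_add, hy, hz, add_zero]
  | smul c y _ hy =>
    rw [← algebraMap_smul (Localization.AtPrime m) (r ^ s.sup k) (c • y), smul_smul, mul_comm,
      mul_smul, algebraMap_smul, hy, smul_zero]

variable [IsNoetherianRing R]

theorem finite_of_stab (h1 : ∀ x : X, ∃ k : ℕ, r ^ k • x = 0) (h2 : ∀ k : ℕ, (tors X r k).FG)
    (h3 : ∀ (p : Ideal R) [p.IsPrime], LocFinite p X) : Module.Finite R X := by
  let Y : ℕ → Submodule R X := fun k =>
    (tors X r (k + 1)).map ((r ^ k) • (LinearMap.id : X →ₗ[R] X))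
  have hYfg : ∀ k, (Y k).FG := fun k => (h2 (k + 1)).map _
  have hYmono : ∀ k, Y (k + 1) ≤ Y k := by
    rintro k _ ⟨t, ht, rfl⟩
    refine ⟨r • t, ?_, ?_⟩
    · have ht' : r ^ (k + 1 + 1) • t = 0 := mem_tors.1 ht
      show r • t ∈ tors X r (k + 1)
      rw [mem_tors, smul_smul, ← pow_succ]
      exact ht'
    · show r ^ k • (r • t) = r ^ (k + 1) • t
      rw [smul_smul, ← pow_succ]
  let 𝔞 : ℕ →o Ideal R := ⟨fun k => (Y k).annihilator,
    monotone_nat_of_le_succ (fun k => Submodule.annihilator_mono (hYmono k))⟩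
  obtain ⟨n₀, hn₀⟩ := monotone_stabilizes_iff_noetherian.2 (inferInstance : IsNoetherian R R) 𝔞
  have htop : (Y n₀).annihilator = ⊤ := by
    by_contra hne
    obtain ⟨m, hm, hle⟩ := Ideal.exists_le_maximal _ hne
    haveI := hm.isPrime
    obtain ⟨K, hK⟩ := exists_pow_kill_loc X r h1 m (h3 m)
    have hk : (Y (max n₀ K)).annihilator ≤ m := by
      have := hn₀ (max n₀ K) (le_max_left _ _)
      have h' : (Y n₀).annihilator = (Y (max n₀ K)).annihilator := this
      rw [← h']
      exact hle
    haveI : Module.Finite R (Y (max n₀ K)) := Module.Finite.iff_fg.2 (hYfg _)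
    have hsupp : (⟨m, hm.isPrime⟩ : PrimeSpectrum R) ∈ Module.support R (Y (max n₀ K)) :=
      Module.mem_support_iff_of_finite.2 hk
    rw [Module.mem_support_iff'] at hsupp
    obtain ⟨⟨y, t, ht, rfl⟩, hy⟩ := hsupp
    have h0 : (LocalizedModule.mk ((r ^ (max n₀ K)) • t) 1 :
        LocalizedModule m.primeCompl X) = 0 := by
      rw [← LocalizedModule.smul'_mk]
      obtain ⟨j, hj⟩ := Nat.exists_eq_add_of_le (le_max_right n₀ K)
      rw [hj, pow_add, mul_comm, mul_smul, hK, smul_zero]
    rw [← LocalizedModule.zero_mk 1, LocalizedModule.mk_eq] at h0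
    obtain ⟨u, hu⟩ := h0
    simp only [Submonoid.smul_def, smul_zero, Submonoid.coe_one, one_smul] at hu
    exact hy u u.2 (Subtype.ext hu)
  have hbot : Y n₀ = ⊥ := Submodule.annihilator_eq_top_iff.1 htop
  have hstep : tors X r (n₀ + 1) ≤ tors X r n₀ := by
    intro t ht
    have : r ^ n₀ • t ∈ Y n₀ := ⟨t, ht, rfl⟩
    rw [hbot, Submodule.mem_bot] at this
    exact mem_tors.2 this
  have hall : ∀ j : ℕ, tors X r (n₀ + j) ≤ tors X r n₀ := by
    intro j
    induction j with
    | zero => exact le_rfl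
    | succ j ih =>
      intro t ht
      have ht' : r ^ (n₀ + (j + 1)) • t = 0 := mem_tors.1 ht
      have h4 : r • t ∈ tors X r (n₀ + j) := by
        rw [mem_tors, smul_smul, ← pow_succ]
        exact ht'
      have h5 := mem_tors.1 (ih h4)
      apply hstep
      rw [mem_tors, pow_succ, mul_smul]
      exact h5
  have hTtop : tors X r n₀ = ⊤ := by
    rw [eq_top_iff]
    intro x _
    obtain ⟨k, hk⟩ := h1 x
    apply hall k
    rw [mem_tors, pow_add, mul_smul, hk, smul_zero]
  rw [Module.finite_def, ← hTtop]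
  exact h2 n₀

end Stab

end Groth.Agent.Helper1.LGFin
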