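import Mathlib
import Groth.Agent.Helper1.LGFinB
import Groth.Agent.Helper1.LocCohFinite

set_option autoImplicit false

/-!
# Faltings' local-global principle for the finiteness of local cohomology
-/

namespace Groth.Agent.Helper1.LGFin
open CategoryTheory Limits Opposite
open Groth.Agent.Helper1.DeltaFun Groth.Agent.Helper1.LocCohDelta
open Groth.Agent.Helper1.LocCohArtinian Groth.Agent.Helper1.LocCohFinite

universe u

variable {R : Type u} [CommRing R] [IsNoetherianRing R] (I : Ideal R)

/-- local finiteness of `H^i_I(M)` for `i ≤ n` -/
def LocFin (M : Type u) [AddCommGroup M] [Module R M] (n : ℕ) : Prop :=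
  ∀ (p : Ideal R) [p.IsPrime] (i : ℕ), i ≤ n →
    LocFinite p ((localCohomology I i).obj (ModuleCat.of R M))

lemma function_exact_of_exact {X Y Z : ModuleCat.{u} R} (f : X ⟶ Y) (g : Y ⟶ Z) (w : f ≫ g = 0)
    (h : (ShortComplex.mk f g w).Exact) : Function.Exact f.hom g.hom := by
  intro y
  constructor
  · intro hy
    exact (ShortComplex.moduleCat_exact_iff _).1 h y hy
  · rintro ⟨x, rfl⟩
    exact congrArg (fun t => t.hom x) w

theorem finite_of_locFin (n : ℕ) : ∀ (M : Type u) [AddCommGroup M] [Module R M]
    [Module.Finite R M], LocFin I M n →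
    ∀ i : ℕ, i ≤ n → Module.Finite R ((localCohomology I i).obj (ModuleCat.of R M)) := by
  induction n with
  | zero =>
    intro M _ _ _ _ i hi
    obtain rfl : i = 0 := by omega
    exact finite_lc_zero I M
  | succ n ih =>
    intro M _ _ _ hloc i hi
    rcases Nat.lt_or_ge i (n + 1) with hlt | hge
    · exact ih M (fun p _ j hj => hloc p j (by omega)) i (by omega)
    obtain rfl : i = n + 1 := by omega
    let Γ := DRing.torsionSub I M
    let M' := M ⧸ Γ
    suffices hfin : Module.Finite R ((localCohomology I (n + 1)).obj (ModuleCat.of R M')) by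
      exact finite_of_mono ((localCohomology I (n + 1)).map (gammaSC I M).g)
        (mono_lc_gamma I M n) hfin
    -- local finiteness for `M'`
    have hloc' : LocFin I M' (n + 1) := by
      intro p _ j hj
      rcases j with _ | j
      · have hz := isZero_lc_zero_of_torsionSub_eq_bot I M' (torsionSub_quotient_eq_bot I M)
        haveI := ModuleCat.isZero_iff_subsingleton.1 hz
        exact locFinite_of_subsingleton p
      · exact locFinite_of_surjective p ((localCohomology I (j + 1)).map (gammaSC I M).g).hom
          ((ModuleCat.epi_iff_surjective _).1 (epi_lc_gamma I M j)) (hloc p (j + 1) hj)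
    obtain ⟨r, hrI, hreg⟩ := exists_regular' I M' (torsionSub_quotient_eq_bot I M)
    refine finite_of_stab ((localCohomology I (n + 1)).obj (ModuleCat.of R M')) r ?_ ?_
      (fun p _ => hloc' p (n + 1) le_rfl)
    · intro x
      obtain ⟨k, hk⟩ := LocCohTors.isPowerTorsion I (n + 1) (ModuleCat.of R M') x
      exact ⟨k, hk _ (Ideal.pow_mem_pow hrI k)⟩
    · intro k
      have hxreg : IsSMulRegular M' (r ^ k) := hreg.pow k
      let S := ModuleCat.smulShortComplex (ModuleCat.of R M') (r ^ k)
      have hS : S.ShortExact :=
        IsSMulRegular.smulShortComplex_shortExact (M := ModuleCat.of R M') hxreg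
      have hfS : ∀ i : ℕ, (localCohomology I i).map S.f =
          (r ^ k) • 𝟙 ((localCohomology I i).obj (ModuleCat.of R M')) := by
        intro i
        show (localCohomology I i).map ((r ^ k) • 𝟙 (ModuleCat.of R M')) = _
        rw [lc_map_smul, CategoryTheory.Functor.map_id]
      -- local finiteness of `H^i(M'/r^k M')`, `i ≤ n`
      have hlocN : LocFin I (QuotSMulTop (r ^ k) M') n := by
        intro p _ j hj
        exact locFinite_of_exact p ((localCohomology I j).map S.g).hom
          ((lcDelta I).δ S hS j).hom
          (function_exact_of_exact _ _ _ ((lcDelta I).exact₃ S hS j))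
          (hloc' p j (by omega)) (hloc' p (j + 1) (by omega))
      haveI hfinN : Module.Finite R
          ((localCohomology I n).obj (ModuleCat.of R (QuotSMulTop (r ^ k) M'))) :=
        ih (QuotSMulTop (r ^ k) M') hlocN n le_rfl
      -- `X[r^k]` is the image of the connecting map
      let δn : (localCohomology I n).obj (ModuleCat.of R (QuotSMulTop (r ^ k) M')) ⟶
          (localCohomology I (n + 1)).obj (ModuleCat.of R M') := (lcDelta I).δ S hS n
      have hex : Function.Exact δn.hom ((localCohomology I (n + 1)).map S.f).hom :=
        function_exact_of_exact _ _ _ ((lcDelta I).exact₁ S hS n)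
      have hrange : tors ((localCohomology I (n + 1)).obj (ModuleCat.of R M')) r k =
          LinearMap.range δn.hom := by
        ext x
        rw [mem_tors, LinearMap.mem_range]
        have h1 := hex x
        rw [Set.mem_range] at h1
        rw [← h1, hfS (n + 1)]
        rfl
      rw [hrange, ← Submodule.map_top]
      exact Module.Finite.fg_top.map _

end Groth.Agent.Helper1.LGFin
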