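import Mathlib
import Groth.Agent.Helper1.LQ2

/-!
# Helper1: the relative spectrum of a filtered colimit of quasi-coherent algebras is the limit of
the relative spectra (main argument)
-/

set_option autoImplicit false
set_option linter.style.haveILetI false
set_option linter.unusedSectionVars false

open CategoryTheory CategoryTheory.Limits AlgebraicGeometry TopologicalSpace Opposite

universe u

namespace Groth.Agent.Helper1.LQ

open RelSpec Groth.Agent.Helper4

variable {S : Scheme.{u}}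

theorem dirMap_id {X : Scheme.{u}} (f : X ⟶ S) [QuasiCompact f] [QuasiSeparated f] :
    dirMap f f (𝟙 X) (Category.id_comp f) = 𝟙 _ := by
  apply QCAlg.hom_ext
  refine NatTrans.ext (funext fun U => ?_)
  induction U using Opposite.rec with | _ U => ?_
  have h1 := Groth.Agent.S3583.algHom_app f (𝟙 X) U
  have h2 : AffAlg.algHom f f (𝟙 X) (Category.id_comp f) =
      AffAlg.algHom f (𝟙 X ≫ f) (𝟙 X) rfl := by
    congr 1
  change (AffAlg.algHom f f (𝟙 X) (Category.id_comp f)).app (op U) = 𝟙 _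
  rw [h2, h1]
  rfl

theorem gammaInv_dirMap_specMap {A B : QCAlg S} (φ : A ⟶ B) :
    gammaInv A ≫ dirMap A.π B.π (QCAlg.specMap φ) (QCAlg.specMap_π φ) = φ ≫ gammaInv B := by
  have h := dirMap_specMap φ
  have h1 : gammaInv A ≫ (dirMap A.π B.π (QCAlg.specMap φ) (QCAlg.specMap_π φ) ≫ B.gammaHom) ≫
      gammaInv B = gammaInv A ≫ (A.gammaHom ≫ φ) ≫ gammaInv B := by rw [h]
  have hB : B.gammaHom ≫ gammaInv B = 𝟙 _ := (gammaIso B).hom_inv_id
  have hA : gammaInv A ≫ A.gammaHom = 𝟙 _ := (gammaIso A).inv_hom_id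
  simp only [Category.assoc] at h1
  rw [hB, Category.comp_id, ← Category.assoc (gammaInv A), hA, Category.id_comp] at h1
  exact h1

section main

variable {J : Type u} [SmallCategory J] [IsFiltered J] (A : J ⥤ QCAlg S)
  (ℓ : Cone (specDiagram A))

/-- the projections of the cone -/
noncomputable def pr (j : J) : ℓ.pt ⟶ (A.obj j).spec := ℓ.π.app (op j)

theorem pr_map {j k : J} (f : j ⟶ k) : pr A ℓ k ≫ QCAlg.specMap (A.map f) = pr A ℓ j :=
  ℓ.w f.op

/-- the structure morphisms of the limit through the stages -/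
noncomputable def hStage (j : J) : ℓ.pt ⟶ S := pr A ℓ j ≫ (A.obj j).π

theorem hStage_map {j k : J} (f : j ⟶ k) : hStage A ℓ j = hStage A ℓ k := by
  unfold hStage
  rw [← pr_map A ℓ f, Category.assoc, QCAlg.specMap_π]

theorem hStage_eq (j k : J) : hStage A ℓ j = hStage A ℓ k := by
  rw [hStage_map A ℓ (IsFiltered.leftToMax j k), hStage_map A ℓ (IsFiltered.rightToMax j k)]

/-- the structure morphism of the limit -/
noncomputable def hS : ℓ.pt ⟶ S := hStage A ℓ (Classical.choice (IsFiltered.nonempty (C := J)))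

theorem π_hS (j : J) : pr A ℓ j ≫ (A.obj j).π = hS A ℓ := hStage_eq A ℓ j _

variable [∀ i, IsAffineHom (ℓ.π.app i)]

instance (j : J) : IsAffineHom (pr A ℓ j) := inferInstanceAs (IsAffineHom (ℓ.π.app (op j)))

instance : IsAffineHom (hS A ℓ) := by
  unfold hS hStage
  infer_instance

/-- the cocone of direct image algebras -/
noncomputable def β (j : J) : A.obj j ⟶ QCAlg.directImage (hS A ℓ) :=
  gammaInv (A.obj j) ≫ dirMap (A.obj j).π (hS A ℓ) (pr A ℓ j) (π_hS A ℓ j)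

theorem β_map {j k : J} (f : j ⟶ k) : A.map f ≫ β A ℓ k = β A ℓ j := by
  unfold β
  rw [← Category.assoc, ← gammaInv_dirMap_specMap, Category.assoc, ← dirMap_comp]
  congr 1
  exact dirMap_congr _ _ (pr_map A ℓ f) _

/-- the cocone `A_j ⟶ h_*O_L` -/
noncomputable def coconeB : Cocone A where
  pt := QCAlg.directImage (hS A ℓ)
  ι := { app := β A ℓ
         naturality := fun j k f => by
          rw [β_map]
          exact (Category.comp_id _).symm }

variable (c : Cocone A) (hc : IsColimit c)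

/-- the coprojections of the cocone -/
noncomputable def ιc (j : J) : A.obj j ⟶ c.pt := c.ι.app j

theorem ιc_map {j k : J} (f : j ⟶ k) : A.map f ≫ ιc A c k = ιc A c j := c.w f

/-- the comparison `colim A_j ⟶ h_*O_L` -/
noncomputable def δ : c.pt ⟶ QCAlg.directImage (hS A ℓ) := hc.desc (coconeB A ℓ)

theorem ι_δ (j : J) : ιc A c j ≫ δ A ℓ c hc = β A ℓ j := hc.fac (coconeB A ℓ) j

/-- the algebra map of `ν` -/
noncomputable def ων : AffAlg.alg c.pt.π ⟶ AffAlg.alg (hS A ℓ) := c.pt.gammaMap ≫ (δ A ℓ c hc).hom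

theorem hων : c.pt.π.c ≫ ων A ℓ c hc = (hS A ℓ).c := by
  unfold ων
  rw [← Category.assoc, c.pt.π_c_gammaMap]
  exact (δ A ℓ c hc).comm

/-- the morphism from the limit to the relative spectrum of the colimit -/
noncomputable def ν : ℓ.pt ⟶ c.pt.spec := AffUP.ofAlgHom c.pt.π (hS A ℓ) (ων A ℓ c hc)

theorem ν_π : ν A ℓ c hc ≫ c.pt.π = hS A ℓ := AffUP.ofAlgHom_comp _ _ _ (hων A ℓ c hc)

theorem dirMap_ν : dirMap c.pt.π (hS A ℓ) (ν A ℓ c hc) (ν_π A ℓ c hc) = c.pt.gammaHom ≫ δ A ℓ c hc :=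
  QCAlg.hom_ext (AffUP.algHom_ofAlgHom c.pt.π (hS A ℓ) _ (hων A ℓ c hc))

theorem ν_specMap (j : J) : ν A ℓ c hc ≫ QCAlg.specMap (ιc A c j) = pr A ℓ j := by
  have w : (ν A ℓ c hc ≫ QCAlg.specMap (ιc A c j)) ≫ (A.obj j).π = hS A ℓ := by
    rw [Category.assoc, QCAlg.specMap_π, ν_π]
  refine AffUP.hom_ext (A.obj j).π (hS A ℓ) _ _ w (π_hS A ℓ j) ?_
  have h1 : dirMap (A.obj j).π (hS A ℓ) (ν A ℓ c hc ≫ QCAlg.specMap (ιc A c j)) w =
      dirMap (A.obj j).π (hS A ℓ) (pr A ℓ j) (π_hS A ℓ j) := by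
    rw [dirMap_comp (A.obj j).π c.pt.π (hS A ℓ) (QCAlg.specMap (ιc A c j))
      (QCAlg.specMap_π _) (ν A ℓ c hc) (ν_π A ℓ c hc), dirMap_ν, ← Category.assoc, dirMap_specMap,
      Category.assoc, ι_δ]
    unfold β
    rw [← Category.assoc]
    have hA : (A.obj j).gammaHom ≫ gammaInv (A.obj j) = 𝟙 _ := (gammaIso (A.obj j)).hom_inv_id
    rw [hA, Category.id_comp]
  exact congrArg QCAlg.Hom.hom h1

/-- the cone of the relative spectrum of the colimit -/
noncomputable def coneC : Cone (specDiagram A) where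
  pt := c.pt.spec
  π := { app := fun j => QCAlg.specMap (ιc A c j.unop)
         naturality := fun i j φ => by
          change 𝟙 _ ≫ QCAlg.specMap (ιc A c j.unop) =
            QCAlg.specMap (ιc A c i.unop) ≫ QCAlg.specMap (A.map φ.unop)
          rw [Category.id_comp, ← specMap_comp, ιc_map] }

variable (hℓ : IsLimit ℓ)

/-- the morphism from the relative spectrum of the colimit to the limit -/
noncomputable def μ : c.pt.spec ⟶ ℓ.pt := hℓ.lift (coneC A c)

theorem μ_π (j : J) : μ A ℓ c hℓ ≫ pr A ℓ j = QCAlg.specMap (ιc A c j) :=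
  hℓ.fac (coneC A c) (op j)

theorem μ_hS : μ A ℓ c hℓ ≫ hS A ℓ = c.pt.π := by
  obtain ⟨j⟩ := IsFiltered.nonempty (C := J)
  rw [← π_hS A ℓ j, ← Category.assoc, μ_π, QCAlg.specMap_π]

/-- the endomorphism of the colimit induced by `μ ≫ ν` -/
noncomputable def θ : c.pt ⟶ c.pt :=
  δ A ℓ c hc ≫ dirMap (hS A ℓ) c.pt.π (μ A ℓ c hℓ) (μ_hS A ℓ c hℓ) ≫ c.pt.gammaHom

theorem ι_θ (j : J) : ιc A c j ≫ θ A ℓ c hc hℓ = ιc A c j := by
  unfold θ
  rw [← Category.assoc, ι_δ]
  unfold β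
  rw [Category.assoc, ← Category.assoc (dirMap _ _ _ _), ← dirMap_comp]
  have h1 : dirMap (A.obj j).π c.pt.π (μ A ℓ c hℓ ≫ pr A ℓ j)
      (by rw [Category.assoc, π_hS, μ_hS]) =
      dirMap (A.obj j).π c.pt.π (QCAlg.specMap (ιc A c j)) (QCAlg.specMap_π _) :=
    dirMap_congr _ _ (μ_π A ℓ c hℓ j) _
  rw [h1, dirMap_specMap, ← Category.assoc]
  have hA : gammaInv (A.obj j) ≫ (A.obj j).gammaHom = 𝟙 _ := (gammaIso (A.obj j)).inv_hom_id
  rw [hA, Category.id_comp]

theorem θ_eq_id : θ A ℓ c hc hℓ = 𝟙 c.pt :=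
  hc.hom_ext fun j => by
    change ιc A c j ≫ θ A ℓ c hc hℓ = ιc A c j ≫ 𝟙 _
    rw [ι_θ, Category.comp_id]

theorem μ_ν : μ A ℓ c hℓ ≫ ν A ℓ c hc = 𝟙 c.pt.spec := by
  have w : (μ A ℓ c hℓ ≫ ν A ℓ c hc) ≫ c.pt.π = c.pt.π := by
    rw [Category.assoc, ν_π, μ_hS]
  refine AffUP.hom_ext c.pt.π c.pt.π _ _ w (Category.id_comp _) ?_
  have h1 : dirMap c.pt.π c.pt.π (μ A ℓ c hℓ ≫ ν A ℓ c hc) w =
      dirMap c.pt.π c.pt.π (𝟙 _) (Category.id_comp _) := by
    rw [dirMap_comp c.pt.π (hS A ℓ) c.pt.π (ν A ℓ c hc) (ν_π A ℓ c hc) (μ A ℓ c hℓ)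
      (μ_hS A ℓ c hℓ), dirMap_ν, dirMap_id]
    have h2 : (c.pt.gammaHom ≫ δ A ℓ c hc) ≫
        dirMap (hS A ℓ) c.pt.π (μ A ℓ c hℓ) (μ_hS A ℓ c hℓ) =
        c.pt.gammaHom ≫ θ A ℓ c hc hℓ ≫ gammaInv c.pt := by
      unfold θ
      have hB : c.pt.gammaHom ≫ gammaInv c.pt = 𝟙 _ := (gammaIso c.pt).hom_inv_id
      simp only [Category.assoc]
      rw [hB, Category.comp_id]
    rw [h2, θ_eq_id, Category.id_comp]
    exact (gammaIso c.pt).hom_inv_id
  exact congrArg QCAlg.Hom.hom h1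

include hc hℓ in
/-- the relative spectrum of the colimit has the universal property of the limit -/
theorem existsUnique_lift (T : Scheme.{u}) (v : ∀ j : J, T ⟶ (A.obj j).spec)
    (hv : ∀ (j j' : J) (φ : j ⟶ j'), v j' ≫ QCAlg.specMap (A.map φ) = v j) :
    ∃! w : T ⟶ c.pt.spec, ∀ j : J, w ≫ QCAlg.specMap (c.ι.app j) = v j := by
  let cT : Cone (specDiagram A) :=
    { pt := T
      π := { app := fun j => v j.unop
             naturality := fun i j φ => by
              change 𝟙 _ ≫ v j.unop = v i.unop ≫ QCAlg.specMap (A.map φ.unop)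
              rw [Category.id_comp, hv] } }
  have hfac : ∀ j : J, hℓ.lift cT ≫ pr A ℓ j = v j := fun j => hℓ.fac cT (op j)
  refine ⟨hℓ.lift cT ≫ ν A ℓ c hc, fun j => ?_, fun w hw => ?_⟩
  · change (hℓ.lift cT ≫ ν A ℓ c hc) ≫ QCAlg.specMap (ιc A c j) = v j
    rw [Category.assoc, ν_specMap]
    exact hfac j
  · have h1 : w ≫ μ A ℓ c hℓ = hℓ.lift cT := by
      refine hℓ.hom_ext fun j => ?_
      induction j using Opposite.rec with | _ j => ?_
      change (w ≫ μ A ℓ c hℓ) ≫ pr A ℓ j = hℓ.lift cT ≫ pr A ℓ j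
      rw [Category.assoc, μ_π, hfac]
      exact hw j
    rw [← h1, Category.assoc, μ_ν, Category.comp_id]

end main

end Groth.Agent.Helper1.LQ
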