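import Mathlib
import Groth.Agent.Helper1.LV3
import Groth.Agent.Helper1.FibDimVan4
import Groth.Agent.Helper1.HP10
import Groth.Agent.Helper4.AmpleIso
import Groth.Agent.Helper4.PullSec
import Groth.Agent.Helper4.SchAdj

/-!
# LV4: ampleness on a fibre kills the stalks of the higher direct images of large twists
-/

set_option autoImplicit false
set_option linter.style.haveILetI false
set_option linter.unusedSectionVars false

universe u

open CategoryTheory CategoryTheory.Limits AlgebraicGeometry Opposite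

namespace Groth.Agent.Helper1.LV

open Groth.Agent.Helper1.FibDimVan

section Local

variable {X Y : Scheme.{u}} (f : X ⟶ Y) [IsProper f] [IsLocallyNoetherian Y]
  (L : X.Modules) (hL : PicF.IsInvertible L) (y : Y)
  (hy : CohB1.IsAmple ((Scheme.Modules.pullback (f.fiberι y)).obj L))
  (X₁ : Scheme.{u}) [X₁.Over (Spec (CommRingCat.of (Y.presheaf.stalk y)))] (g : X₁ ⟶ X)
  (hsq : IsPullback g (X₁ ↘ Spec (CommRingCat.of (Y.presheaf.stalk y))) f (Y.fromSpecStalk y))

include hL hy hsq in
/-- the vanishing theorem on the base change to the local ring of a point with an ample fibre -/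
theorem exists_vanishing_localRing (M₁ : X₁.Modules) (hM₁ : Coh.IsCoh M₁) :
    ∃ d₀ : ℕ, ∀ d : ℕ, d₀ ≤ d → ∀ q : ℕ, 1 ≤ q →
      Subsingleton (Coh.HH X₁ (CohB1.tensorMod M₁
        (CohB1.tensorPow ((Scheme.Modules.pullback g).obj L) d)) q) := by
  haveI : IsNoetherianRing (Y.presheaf.stalk y) := inferInstance
  haveI : IsProper (X₁ ↘ Spec (CommRingCat.of (Y.presheaf.stalk y))) :=
    MorphismProperty.of_isPullback (P := @IsProper) hsq inferInstance
  have hsq' := isPullback_jFib f y g hsq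
  have hL₁ : PicF.IsInvertible ((Scheme.Modules.pullback g).obj L) :=
    Groth.Agent.Helper4.PullSec.isInvertible_pullback g hL
  have hamp₁ : CohB1.IsAmple ((Scheme.Modules.pullback (jFib f y g hsq)).obj
      ((Scheme.Modules.pullback g).obj L)) :=
    Groth.Agent.Helper4.AmpleIso.isAmple_of_iso
      ((Scheme.Modules.pullbackComp (jFib f y g hsq) g).app L ≪≫
        (Scheme.Modules.pullbackCongr (jFib_fst f y g hsq)).app L).symm hy
  exact local_vanishing (A := Y.presheaf.stalk y) (IsLocalRing.maximalIdeal (Y.presheaf.stalk y))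
    hsq' (IsLocalRing.maximalIdeal_le_jacobson ⊥) _ hL₁ hamp₁ M₁ hM₁

end Local

/-- **S0062** -/
theorem exists_isZero_stalk_RpushAb_twist {X Y : Scheme.{u}} (f : X ⟶ Y) [IsProper f]
    [IsLocallyNoetherian Y] (L : X.Modules) (hL : PicF.IsInvertible L) (M : X.Modules)
    (hM : Coh.IsCoh M) (y : Y)
    (hy : CohB1.IsAmple ((Scheme.Modules.pullback (f.fiberι y)).obj L)) :
    ∃ d₀ : ℕ, ∀ d : ℕ, d₀ ≤ d → ∀ p : ℕ, 0 < p →
      Limits.IsZero (TopCat.Presheaf.stalk
        ((Coh.RpushAb f p).obj (Coh.toAb (CohB1.tensorMod M (CohB1.tensorPow L d)))).obj y) := by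
  haveI := Groth.Agent.Helper4.SchAdj.isGrothendieckAbelian_modules X
  haveI : HasInjectiveResolutions X.Modules := inferInstance
  let X₁ : Scheme.{u} := pullback f (Y.fromSpecStalk y)
  let g : X₁ ⟶ X := pullback.fst f (Y.fromSpecStalk y)
  letI : X₁.Over (Spec (CommRingCat.of (Y.presheaf.stalk y))) :=
    ⟨pullback.snd f (Y.fromSpecStalk y)⟩
  have hsq : IsPullback g (X₁ ↘ Spec (CommRingCat.of (Y.presheaf.stalk y))) f
      (Y.fromSpecStalk y) := IsPullback.of_hasPullback _ _
  have hM₁ : Coh.IsCoh ((Scheme.Modules.pullback g).obj M) :=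
    Groth.Agent.Helper1.Dev.isCoh_pullback g M hM
  obtain ⟨d₀, hd₀⟩ := exists_vanishing_localRing f L hL y hy X₁ g hsq _ hM₁
  refine ⟨d₀, fun d hd p hp => ?_⟩
  have hcoh : Coh.IsCoh (CohB1.tensorMod M (CohB1.tensorPow L d)) :=
    Groth.Agent.Helper1.HP.isCoh_twistPow hL M hM d
  haveI : Coh.IsQCoh (CohB1.tensorMod M (CohB1.tensorPow L d)) := hcoh.1
  obtain ⟨e⟩ := Groth.Agent.Helper1.StalkBC.nonempty_stalk_Rpush_equiv f
    (CohB1.tensorMod M (CohB1.tensorPow L d)) y p X₁ g hsq
  have h2 : Subsingleton (Coh.HH X₁ ((Scheme.Modules.pullback g).obj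
      (CohB1.tensorMod M (CohB1.tensorPow L d))) p) :=
    Groth.Agent.Helper1.SW.subsingleton_HH_of_iso
      (Groth.Agent.Helper1.HP.pullTwistIso g hL M d) p (hd₀ d hd p hp)
  have h3 : Subsingleton (((Coh.Rpush f p).obj
      (CohB1.tensorMod M (CohB1.tensorPow L d))).presheaf.stalk y) := e.toEquiv.subsingleton
  have h4 : IsZero (TopCat.Presheaf.stalk (Coh.toAb ((Coh.Rpush f p).obj
      (CohB1.tensorMod M (CohB1.tensorPow L d)))).obj y) :=
    @AddCommGrpCat.isZero_of_subsingleton _ h3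
  let e' := (Groth.Agent.Helper1.RpCmpNat.iso f p).app (CohB1.tensorMod M (CohB1.tensorPow L d))
  exact IsZero.of_iso h4 ((TopCat.Presheaf.stalkFunctor AddCommGrpCat.{u} y).mapIso
    ((sheafToPresheaf _ _).mapIso e'.symm))

end Groth.Agent.Helper1.LV
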