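import Groth.Agent.Helper1.SS4
import Groth.Agent.Lead.StalkSupp
import Groth.Agent.Lead.LocLift6

set_option autoImplicit false
set_option linter.style.haveILetI false
set_option linter.unusedSectionVars false
set_option linter.unusedVariables false

/-!
# The counit of a module which comes from the base; compatibility of the counit with base change
-/

namespace Groth.Agent.Helper1.SS

open CategoryTheory AlgebraicGeometry AlgebraicGeometry.Scheme.Modules TopologicalSpace
open Groth.Agent.Helper1.UGC Groth.Agent.Helper4 Groth.Agent.Helper4.FinLocFree

universe u

section Supp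

variable {X Y : Scheme.{u}}

/-- the pullback of a morphism of finitely presented modules is an epimorphism iff the image
misses the support of the cokernel -/
theorem epi_pullback_map_iff (v : Y ⟶ X) {A B : X.Modules} [A.IsQuasicoherent]
    [B.IsQuasicoherent] (hA : CohB1.IsFP A) (hB : CohB1.IsFP B) (φ : A ⟶ B) :
    Epi ((pullback v).map φ) ↔ ∀ y : Y, v y ∉ CohB1.support (Limits.cokernel φ) := by
  have hC : CohB1.IsFP (Limits.cokernel φ) := Groth.Agent.Helper2.FibReg.isFP_cokernel hA hB φ
  haveI : Coh.IsQCoh (Limits.cokernel φ) := QcohLimits.isQuasicoherent_cokernel φ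
  have hCft : CohB1.IsFT (Limits.cokernel φ) :=
    FinLocFree2.isFiniteType_of_isFinitePresentation _ hC
  have h1 := Groth.Agent.Lead.StalkPull.main_support v (Limits.cokernel φ) hCft
  constructor
  · intro hepi y hy
    have h2 : y ∈ CohB1.support ((pullback v).obj (Limits.cokernel φ)) := by
      rw [h1]
      exact hy
    have h3 : Limits.IsZero ((pullback v).obj (Limits.cokernel φ)) := by
      refine Limits.IsZero.of_iso ?_ (Limits.PreservesCokernel.iso (pullback v) φ)
      exact Limits.isZero_cokernel_of_epi _
    rw [Groth.Agent.Helper1.Dev.support_eq_empty_of_isZero _ h3] at h2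
    exact h2
  · intro hy
    have h2 : CohB1.support ((pullback v).obj (Limits.cokernel φ)) = ∅ := by
      rw [h1]
      ext y
      simp only [Set.mem_preimage, Set.mem_empty_iff_false, iff_false]
      exact hy y
    have h3 : Limits.IsZero (Limits.cokernel ((pullback v).map φ)) :=
      Limits.IsZero.of_iso (Groth.Agent.Helper1.Dev.isZero_of_support_eq_empty _ h2)
        (Limits.PreservesCokernel.iso (pullback v) φ).symm
    exact Preadditive.epi_of_isZero_cokernel _ h3

end Supp

section Compat

variable {X S X' S' : Scheme.{u}} (f : X ⟶ S) (g : S' ⟶ S) (f' : X' ⟶ S') (g' : X' ⟶ X)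
  (w : g' ≫ f = f' ≫ g) (F : X.Modules)

/-- **the counit commutes with base change** when the base change map does -/
theorem counit_compat :
    ((pullbackComp f' g).hom.app ((pushforward f).obj F) ≫
        (pullbackCongr w).inv.app ((pushforward f).obj F) ≫
        (pullbackComp g' f).inv.app ((pushforward f).obj F)) ≫
        (pullback g').map ((pullbackPushforwardAdjunction f).counit.app F) =
      (pullback f').map (CohBC.bc0 f g f' g' w F) ≫
        (pullbackPushforwardAdjunction f').counit.app ((pullback g').obj F) := by
  have h := Groth.Agent.Helper1.Canon.homEquiv_counit_form_eq_bc0 f g f' g' w F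
  have h2 := congrArg ((pullbackPushforwardAdjunction f').homEquiv _ _).symm h
  rw [Equiv.symm_apply_apply, Adjunction.homEquiv_counit] at h2
  simp only [Category.assoc]
  exact h2

theorem epi_counit_pullback_iff [IsIso (CohBC.bc0 f g f' g' w F)] :
    Epi ((pullback g').map ((pullbackPushforwardAdjunction f).counit.app F)) ↔
      Epi ((pullbackPushforwardAdjunction f').counit.app ((pullback g').obj F)) := by
  have h := counit_compat f g f' g' w F
  constructor
  · intro h1
    have h2 : Epi ((pullback f').map (CohBC.bc0 f g f' g' w F) ≫
        (pullbackPushforwardAdjunction f').counit.app ((pullback g').obj F)) := by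
      rw [← h]
      infer_instance
    have h3 := @epi_comp _ _ _ _ _ (inv ((pullback f').map (CohBC.bc0 f g f' g' w F)))
      inferInstance _ h2
    simpa using h3
  · intro h1
    have h2 : Epi (((pullbackComp f' g).hom.app ((pushforward f).obj F) ≫
        (pullbackCongr w).inv.app ((pushforward f).obj F) ≫
        (pullbackComp g' f).inv.app ((pushforward f).obj F)) ≫
        (pullback g').map ((pullbackPushforwardAdjunction f).counit.app F)) := by
      rw [h]
      infer_instance
    have h3 := @epi_comp _ _ _ _ _ (inv ((pullbackComp f' g).hom.app ((pushforward f).obj F) ≫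
        (pullbackCongr w).inv.app ((pushforward f).obj F) ≫
        (pullbackComp g' f).inv.app ((pushforward f).obj F))) inferInstance _ h2
    simpa using h3

end Compat

section Transport

variable {X S : Scheme.{u}} (f : X ⟶ S)

theorem epi_counit_of_iso {F F' : X.Modules} (e : F ≅ F')
    [h : Epi ((pullbackPushforwardAdjunction f).counit.app F)] :
    Epi ((pullbackPushforwardAdjunction f).counit.app F') := by
  have h1 := (pullbackPushforwardAdjunction f).counit.naturality e.hom
  simp only [Functor.comp_map, Functor.id_map] at h1
  have h2 : (pullbackPushforwardAdjunction f).counit.app F' =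
      (pullback f).map ((pushforward f).map e.inv) ≫
        (pullbackPushforwardAdjunction f).counit.app F ≫ e.hom := by
    rw [← h1, ← Category.assoc, ← Functor.map_comp, ← Functor.map_comp, Iso.inv_hom_id,
      CategoryTheory.Functor.map_id, CategoryTheory.Functor.map_id, Category.id_comp]
  rw [h2]
  infer_instance

end Transport

end Groth.Agent.Helper1.SS
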