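import Mathlib
import Groth.Agent.Helper1.SS5
import Groth.Agent.Helper1.HT2
import Groth.Agent.Helper1.HT12
import Groth.Agent.Helper1.Dev6
import Groth.Agent.Helper4.GGSec
import Groth.Agent.Helper4.CohFP
import Groth.Agent.S0020

/-!
# LV5: relative global generation descends from a flat base change to the points of its image
-/

set_option autoImplicit false
set_option linter.style.haveILetI false
set_option linter.unusedSectionVars false

universe u

open CategoryTheory CategoryTheory.Limits AlgebraicGeometry Opposite TopologicalSpace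
open AlgebraicGeometry.Scheme.Modules

namespace Groth.Agent.Helper1.LV

open Groth.Agent.Helper4.GenLoc Groth.Agent.Helper4.AmpleLocal Groth.Agent.Helper4.GGSec

section GGLocal

variable {X : Scheme.{u}}

/-- if a family of global sections generates `L` over an open `W` on which `L` is trivial, then
one of the sections generates `L` at any given point of `W` -/
theorem exists_mem_genLocus_of_epi_restrict (L : X.Modules) {ι : Type u}
    (p : (SheafOfModules.free ι : X.Modules) ⟶ L) (W : X.Opens)
    (hp : Epi ((Scheme.Modules.restrictFunctor W.ι).map p))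
    (ε : L.restrict W.ι ≅ Coh.structureModule (W : Scheme.{u})) (x : X) (hx : x ∈ W) :
    ∃ i : ι, x ∈ CohB1.genLocus L (SheafOfModules.ιFree i ≫ p) := by
  by_contra hcon
  push Not at hcon
  let R := Scheme.Modules.restrictFunctor W.ι
  let t : ι → (Coh.structureModule X ⟶ L) := fun i => SheafOfModules.ιFree i ≫ p
  let y : (W : Scheme.{u}) := ⟨x, hx⟩
  have hy : ∀ i, y ∉ (W : Scheme.{u}).basicOpen (fn (endo L (t i) W ε)) := by
    intro i hyi
    apply hcon i
    have : x ∈ W.ι ''ᵁ ((W : Scheme.{u}).basicOpen (fn (endo L (t i) W ε))) := ⟨y, hyi, rfl⟩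
    rw [← genLocus_inf_eq] at this
    exact this.1
  let Q : Scheme.{u} := Spec ((W : Scheme.{u}).residueField y)
  let k : Q ⟶ (W : Scheme.{u}) := (W : Scheme.{u}).fromSpecResidueField y
  have hk : ∀ q : Q, k q = y := fun q => Scheme.fromSpecResidueField_apply y q
  let u : Coh.structureModule (W : Scheme.{u}) ⟶
      (Scheme.Modules.pushforward k).obj (Coh.structureModule Q) :=
    SheafOfModules.unitToPushforwardObjUnit k.toRingCatSheafHom
  have h1 : ∀ i, endo L (t i) W ε ≫ u = 0 := by
    intro i
    apply unit_hom_ext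
    have e1 : (endo L (t i) W ε ≫ u).app ⊤ (one (W : Scheme.{u}) ⊤) =
        k.app ⊤ (fn (endo L (t i) W ε)) := rfl
    rw [e1, app_eq_zero_of_notMem_basicOpen k y hk _ (hy i)]
    rfl
  have h2 : ∀ i, R.map (t i) ≫ ε.hom ≫ u = 0 := by
    intro i
    have h := h1 i
    unfold endo at h
    rw [Category.assoc, Category.assoc] at h
    have h' : (Scheme.Modules.restrictUnitIso W.ι).inv ≫ (R.map (t i) ≫ ε.hom ≫ u) =
        (Scheme.Modules.restrictUnitIso W.ι).inv ≫ 0 := by rw [comp_zero]; exact h
    exact (cancel_epi _).mp h'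
  have hc := isColimitOfPreserves R (SheafOfModules.isColimitFreeCofan (R := X.ringCatSheaf) ι)
  have h3 : R.map p ≫ ε.hom ≫ u = 0 := by
    apply hc.hom_ext
    rintro ⟨i⟩
    have h := h2 i
    change R.map (SheafOfModules.ιFree i ≫ p) ≫ ε.hom ≫ u = 0 at h
    rw [R.map_comp, Category.assoc] at h
    exact h.trans comp_zero.symm
  haveI : Epi (R.map p) := hp
  have h4 : ε.hom ≫ u = 0 := by
    have : R.map p ≫ (ε.hom ≫ u) = R.map p ≫ 0 := by rw [comp_zero]; exact h3
    exact (cancel_epi _).mp this
  have h5 : u = 0 := by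
    have : ε.hom ≫ u = ε.hom ≫ 0 := by rw [comp_zero]; exact h4
    exact (cancel_epi _).mp this
  have h6 : k.app ⊤ (1 : Γ((W : Scheme.{u}), ⊤)) = 0 := by
    have : u.app ⊤ (one (W : Scheme.{u}) ⊤) = k.app ⊤ (1 : Γ((W : Scheme.{u}), ⊤)) := rfl
    rw [← this, h5]
    rfl
  rw [map_one] at h6
  haveI : Nonempty Q := inferInstance
  haveI : Nonempty ((k ⁻¹ᵁ ⊤ : Q.Opens)) := ⟨⟨Classical.arbitrary Q, trivial⟩⟩
  haveI : Nontrivial Γ(Q, k ⁻¹ᵁ ⊤) := Scheme.component_nontrivial Q _
  exact one_ne_zero h6

/-- a morphism of finitely presented modules is an epimorphism over an open which misses the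
support of its cokernel -/
theorem epi_restrict_map_of_support {A B : X.Modules} [A.IsQuasicoherent] [B.IsQuasicoherent]
    (hA : CohB1.IsFP A) (hB : CohB1.IsFP B) (φ : A ⟶ B) (W : X.Opens)
    (h : ∀ w : X, w ∈ W → w ∉ CohB1.support (cokernel φ)) :
    Epi ((Scheme.Modules.restrictFunctor W.ι).map φ) := by
  have h1 : Epi ((Scheme.Modules.pullback W.ι).map φ) :=
    (Groth.Agent.Helper1.SS.epi_pullback_map_iff W.ι hA hB φ).2 (fun w => h _ w.2)
  have nat := (Scheme.Modules.restrictFunctorIsoPullback W.ι).hom.naturality φ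
  have e : (Scheme.Modules.restrictFunctor W.ι).map φ =
      ((Scheme.Modules.restrictFunctorIsoPullback W.ι).hom.app A ≫
        (Scheme.Modules.pullback W.ι).map φ) ≫
        (Scheme.Modules.restrictFunctorIsoPullback W.ι).inv.app B := by
    rw [← nat, Category.assoc, Iso.hom_inv_id_app, Category.comp_id]
  rw [e]
  infer_instance

end GGLocal

section Descent

variable {X Y X' T : Scheme.{u}} (f : X ⟶ Y) [IsProper f] [IsLocallyNoetherian Y]
  (σ : T ⟶ Y) [Flat σ] (g : X' ⟶ X) (f' : X' ⟶ T) (hsq : IsPullback g f' f σ)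

include hsq in
/-- **relative global generation after a flat base change gives relative global generation at
the points of the image** -/
theorem notMem_support_cokernel_counit (M : X.Modules) (hM : Coh.IsCoh M)
    (h : Epi ((pullbackPushforwardAdjunction f').counit.app ((Scheme.Modules.pullback g).obj M))) (x' : X') :
    g x' ∉ CohB1.support (cokernel ((pullbackPushforwardAdjunction f).counit.app M)) := by
  haveI : IsLocallyNoetherian X := LocallyOfFiniteType.isLocallyNoetherian f
  haveI : M.IsQuasicoherent := hM.1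
  have hpush : Coh.IsCoh ((pushforward f).obj M) :=
    Groth.Agent.Helper1.HT.isCoh_pushforward_of_isProper f M hM
  have hA : Coh.IsCoh ((Scheme.Modules.pullback f).obj ((pushforward f).obj M)) :=
    Groth.Agent.Helper1.Dev.isCoh_pullback f _ hpush
  haveI : ((Scheme.Modules.pullback f).obj ((pushforward f).obj M)).IsQuasicoherent := hA.1
  haveI : IsIso (CohBC.bc0 f σ f' g hsq.w M) :=
    Groth.Agent.Helper1.HT.bcIso_of_flat f M σ f' g hsq
  have h1 : Epi ((Scheme.Modules.pullback g).map ((pullbackPushforwardAdjunction f).counit.app M)) :=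
    (Groth.Agent.Helper1.SS.epi_counit_pullback_iff f σ f' g hsq.w M).2 h
  exact (Groth.Agent.Helper1.SS.epi_pullback_map_iff g
    (Groth.Agent.Helper4.CohFP.isFP_of_isCoh _ hA.1 hA.2)
    (Groth.Agent.Helper4.CohFP.isFP_of_isCoh _ hM.1 hM.2)
    ((pullbackPushforwardAdjunction f).counit.app M)).1 h1 x'

end Descent

end Groth.Agent.Helper1.LV
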