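import Mathlib
import Groth.Agent.Helper1.LV5
import Groth.Agent.Helper1.HP10
import Groth.Agent.Helper1.Dev4
import Groth.Agent.Helper2.CohQ1
import Groth.Agent.Helper4.H1Twist
import Groth.Agent.Helper4.RelGenTwist
import Groth.Agent.Helper4.CounitEpi
import Groth.Agent.Helper4.AmpleRestrict
import Groth.Agent.Lead.PerfLib5

/-!
# LV6: ampleness after a flat base change to an affine scheme produces sections with affine
non-vanishing loci around the points of the image (over an affine base)
-/

set_option autoImplicit false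
set_option linter.style.haveILetI false
set_option linter.unusedSectionVars false

universe u

open CategoryTheory CategoryTheory.Limits AlgebraicGeometry Opposite TopologicalSpace

namespace Groth.Agent.Helper1.LV

open Groth.Agent.Helper4.GenLoc Groth.Agent.Helper4.TensorInv Groth.Agent.Helper4.AmpleBasis
  Groth.Agent.Helper4.IdealTwist

variable {X Y X' T : Scheme.{u}} (f : X ⟶ Y) [IsProper f] [IsLocallyNoetherian Y] [IsAffine Y]
  (σ : T ⟶ Y) [Flat σ] [IsAffine T] (g : X' ⟶ X) (f' : X' ⟶ T) (hsq : IsPullback g f' f σ)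

include hsq in
/-- **sections with affine non-vanishing loci around the points of the image** -/
theorem exists_section_affine_genLocus (L : X.Modules) (hL : PicF.IsInvertible L)
    (hamp : CohB1.IsAmple ((Scheme.Modules.pullback g).obj L)) (x' : X') :
    ∃ (n : ℕ) (s : Coh.structureModule X ⟶ CohB1.tensorPow L (n + 1)),
      g x' ∈ CohB1.genLocus _ s ∧ IsAffineOpen (CohB1.genLocus _ s) := by
  haveI : IsLocallyNoetherian X := LocallyOfFiniteType.isLocallyNoetherian f
  obtain ⟨U, hxU, hU, hεL⟩ := Groth.Agent.Helper4.TwistLocal.exists_affine_triv L hL (g x')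
  obtain ⟨J, ιJ, hmono, hJq, hbij, hvan⟩ :=
    Groth.Agent.Helper4.FTIdeal2.exists_ideal_module_mono' U
  haveI := hmono
  have hJ : Coh.IsCoh J := Groth.Agent.Helper2.CohQ1.isCoh_of_mono ιJ hJq
    (Groth.Agent.Helper1.Dev.isCoh_structureModule X)
  haveI : IsProper f' := MorphismProperty.of_isPullback (P := @IsProper) hsq inferInstance
  haveI : CompactSpace X' := hamp.2.1
  have hrel : RelAmple.IsRelAmple f' ((Scheme.Modules.pullback g).obj L) :=
    (Groth.Agent.Helper4.AmpleRestrict.isRelAmple_iff_isAmple_of_isAffine f' _).2 hamp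
  have hJ' : Coh.IsCoh ((Scheme.Modules.pullback g).obj J) :=
    Groth.Agent.Helper1.Dev.isCoh_pullback g J hJ
  haveI : ((Scheme.Modules.pullback g).obj J).IsQuasicoherent := hJ'.1
  obtain ⟨N, hN⟩ := Groth.Agent.Helper4.RelGenTwist.exists_forall_epi_counit_twist f' _ hrel
    ((Scheme.Modules.pullback g).obj J) hJ'.2
  obtain ⟨B, hBdef⟩ : ∃ B : X.Modules, B = CohB1.tensorPow L (N + 1) := ⟨_, rfl⟩
  have hB : PicF.IsInvertible B := by
    rw [hBdef]; exact isInvertible_tensorPow hL (N + 1)
  have hM : Coh.IsCoh (CohB1.tensorMod J B) := by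
    rw [hBdef]; exact Groth.Agent.Helper1.HP.isCoh_twistPow hL J hJ (N + 1)
  haveI : (CohB1.tensorMod J B).IsQuasicoherent := hM.1
  have hepi : Epi ((Scheme.Modules.pullbackPushforwardAdjunction f').counit.app
      ((Scheme.Modules.pullback g).obj (CohB1.tensorMod J B))) := by
    haveI := hN (N + 1) (by omega)
    rw [hBdef]
    exact Groth.Agent.Helper1.SS.epi_counit_of_iso f'
      (Groth.Agent.Helper1.HP.pullTwistIso g hL J (N + 1)).symm
  have hx := notMem_support_cokernel_counit f σ g f' hsq _ hM hepi x'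
  -- coherence
  have hpush : Coh.IsCoh ((Scheme.Modules.pushforward f).obj (CohB1.tensorMod J B)) :=
    Groth.Agent.Helper1.HT.isCoh_pushforward_of_isProper f _ hM
  have hA : Coh.IsCoh ((Scheme.Modules.pullback f).obj
      ((Scheme.Modules.pushforward f).obj (CohB1.tensorMod J B))) :=
    Groth.Agent.Helper1.Dev.isCoh_pullback f _ hpush
  haveI : ((Scheme.Modules.pullback f).obj
      ((Scheme.Modules.pushforward f).obj (CohB1.tensorMod J B))).IsQuasicoherent := hA.1
  have hC := Groth.Agent.Lead.PerfLib.isCoh_cokernel hA hM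
    ((Scheme.Modules.pullbackPushforwardAdjunction f).counit.app (CohB1.tensorMod J B))
  have hcl : IsClosed (CohB1.support (cokernel
      ((Scheme.Modules.pullbackPushforwardAdjunction f).counit.app (CohB1.tensorMod J B)))) :=
    Groth.Agent.S0020.result X _ hC.2
  let W : X.Opens := U ⊓ ⟨_, hcl.isOpen_compl⟩
  have hxW : g x' ∈ W := ⟨hxU, hx⟩
  have hWU : W ≤ U := inf_le_left
  -- global generation of the direct image
  haveI : ((Scheme.Modules.pushforward f).obj (CohB1.tensorMod J B)).IsQuasicoherent := hpush.1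
  haveI : CompactSpace Y := inferInstance
  have hgg : Curv2.IsGloballyGenerated
      ((Scheme.Modules.pushforward f).obj (CohB1.tensorMod J B)) :=
    Groth.Agent.Helper4.QuasiAffineGG.isGloballyGenerated_of_isOpenImmersion_Spec
      Y.isoSpec.hom _
  obtain ⟨ι, p₁, hp₁⟩ := Groth.Agent.Helper4.CounitEpi.isGloballyGenerated_pullback f hgg
  obtain ⟨εB⟩ := Groth.Agent.Helper4.RelIdealTwist.isTrivAlong_tensorPow U hεL (N + 1)
  rw [← hBdef] at εB
  let ν : CohB1.tensorMod J B ⟶ B := KoszTw.tensorMap ιJ (𝟙 B) ≫ (unitorL B).hom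
  let p : (SheafOfModules.free ι : X.Modules) ⟶ B :=
    p₁ ≫ (Scheme.Modules.pullbackPushforwardAdjunction f).counit.app (CohB1.tensorMod J B) ≫ ν
  let R := Scheme.Modules.restrictFunctor W.ι
  haveI : R.PreservesEpimorphisms :=
    Functor.preservesEpimorphisms_of_adjunction (Scheme.Modules.restrictAdjunction W.ι)
  haveI h1 : Epi (R.map p₁) := @Functor.map_epi _ _ _ _ R _ _ _ p₁ hp₁
  haveI h2 : Epi (R.map ((Scheme.Modules.pullbackPushforwardAdjunction f).counit.app
      (CohB1.tensorMod J B))) :=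
    epi_restrict_map_of_support
      (Groth.Agent.Helper4.CohFP.isFP_of_isCoh _ hA.1 hA.2)
      (Groth.Agent.Helper4.CohFP.isFP_of_isCoh _ hM.1 hM.2) _ W (fun w hw => hw.2)
  haveI h3 : IsIso (R.map (KoszTw.tensorMap ιJ (𝟙 B))) := by
    rw [isIso_restrict_iff]
    intro V hV
    exact tensorMap_app_bijective J (Coh.structureModule X) B U εB ιJ (hV.trans hWU)
      (hbij V (hV.trans hWU))
  have hpR : Epi (R.map p) := by
    show Epi (R.map (p₁ ≫ (Scheme.Modules.pullbackPushforwardAdjunction f).counit.app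
      (CohB1.tensorMod J B) ≫ KoszTw.tensorMap ιJ (𝟙 B) ≫ (unitorL B).hom))
    rw [Functor.map_comp, Functor.map_comp, Functor.map_comp]
    infer_instance
  obtain ⟨εW⟩ := IsTrivAlong.of_le hWU (⟨εB⟩ : IsTrivAlong B U.ι)
  obtain ⟨i, hi⟩ := exists_mem_genLocus_of_epi_restrict B p W hpR εW (g x') hxW
  let τ : Coh.structureModule X ⟶ CohB1.tensorMod J B :=
    SheafOfModules.ιFree i ≫ p₁ ≫
      (Scheme.Modules.pullbackPushforwardAdjunction f).counit.app (CohB1.tensorMod J B)
  have hle : CohB1.genLocus _ (τ ≫ KoszTw.tensorMap ιJ (𝟙 B)) ≤ U :=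
    genLocus_le_of_factor ιJ U hvan τ
  have hO : PicF.IsInvertible (CohB1.tensorMod (Coh.structureModule X) B) :=
    isInvertible_tensorMod isInvertible_structureModule hB
  have hi' : g x' ∈ CohB1.genLocus B ((τ ≫ KoszTw.tensorMap ιJ (𝟙 B)) ≫ (unitorL B).hom) := by
    have hs : SheafOfModules.ιFree i ≫ p =
        (τ ≫ KoszTw.tensorMap ιJ (𝟙 B)) ≫ (unitorL B).hom := by
      show SheafOfModules.ιFree i ≫ (p₁ ≫
        (Scheme.Modules.pullbackPushforwardAdjunction f).counit.app (CohB1.tensorMod J B) ≫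
          (KoszTw.tensorMap ιJ (𝟙 B) ≫ (unitorL B).hom)) =
        ((SheafOfModules.ιFree i ≫ p₁ ≫
          (Scheme.Modules.pullbackPushforwardAdjunction f).counit.app (CohB1.tensorMod J B)) ≫
          KoszTw.tensorMap ιJ (𝟙 B)) ≫ (unitorL B).hom
      simp only [Category.assoc]
    rw [← hs]
    exact hi
  subst hBdef
  refine ⟨N, (τ ≫ KoszTw.tensorMap ιJ (𝟙 _)) ≫ (unitorL _).hom, hi', ?_⟩
  rw [Groth.Agent.Helper4.AmpleIso.genLocus_comp_iso]
  have := isAffineOpen_genLocus_inf_affine _ hO (τ ≫ KoszTw.tensorMap ιJ (𝟙 _)) hU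
  rwa [inf_eq_left.mpr hle] at this

end Groth.Agent.Helper1.LV
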