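import Mathlib
import Groth.Agent.Helper1.LV6
import Groth.Agent.Helper4.QAffSec
import Groth.Agent.Helper4.SubExt

/-!
# LV7: ampleness after a flat base change spreads out to a neighbourhood (affine base)
-/

set_option autoImplicit false
set_option linter.style.haveILetI false
set_option linter.unusedSectionVars false

universe u

open CategoryTheory CategoryTheory.Limits AlgebraicGeometry Opposite TopologicalSpace

namespace Groth.Agent.Helper1.LV

open Groth.Agent.Helper4.AmpleRestrict Groth.Agent.Helper4.AmpleIso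

variable {X Y X' T : Scheme.{u}} (f : X ⟶ Y) [IsProper f] [IsLocallyNoetherian Y] [IsAffine Y]
  (σ : T ⟶ Y) [Flat σ] [IsAffine T] (g : X' ⟶ X) (f' : X' ⟶ T) (hsq : IsPullback g f' f σ)

include hsq in
theorem range_g_eq : Set.range g = f ⁻¹' Set.range σ := by
  have h1 : hsq.isoPullback.hom ≫ pullback.fst f σ = g := hsq.isoPullback_hom_fst
  rw [← Scheme.Pullback.range_fst, ← h1]
  ext x
  constructor
  · rintro ⟨z, rfl⟩
    exact ⟨hsq.isoPullback.hom z, rfl⟩
  · rintro ⟨w, rfl⟩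
    refine ⟨hsq.isoPullback.inv w, ?_⟩
    rw [← Scheme.Hom.comp_apply, Iso.inv_hom_id_assoc]

include hsq in
/-- **ampleness spreads out from a flat base change to a neighbourhood of a point of the image** -/
theorem exists_basicOpen_isAmple_restrict (L : X.Modules) (hL : PicF.IsInvertible L)
    (hamp : CohB1.IsAmple ((Scheme.Modules.pullback g).obj L)) (y : Y)
    (hy : y ∈ Set.range σ) :
    ∃ b : Γ(Y, ⊤), y ∈ Y.basicOpen b ∧
      CohB1.IsAmple (L.restrict (f ⁻¹ᵁ Y.basicOpen b).ι) := by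
  let Tset : Set X := ⋃ (n : ℕ), ⋃ (s : Coh.structureModule X ⟶ CohB1.tensorPow L (n + 1)),
    ⋃ (_ : IsAffineOpen (CohB1.genLocus _ s)), (CohB1.genLocus _ s : Set X)
  have hT : IsOpen Tset :=
    isOpen_iUnion fun n => isOpen_iUnion fun s => isOpen_iUnion fun _ => (CohB1.genLocus _ s).isOpen
  have hfib : ∀ x : X, f x = y → x ∈ Tset := by
    intro x hx
    have hxr : x ∈ Set.range g := by
      rw [range_g_eq f σ g f' hsq]
      show f x ∈ Set.range σ
      rw [hx]; exact hy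
    obtain ⟨x', rfl⟩ := hxr
    obtain ⟨n, s, hs1, hs2⟩ := exists_section_affine_genLocus f σ g f' hsq L hL hamp x'
    simp only [Tset, Set.mem_iUnion]
    exact ⟨n, s, hs2, hs1⟩
  have hcl : IsClosed (f '' Tsetᶜ) := f.isClosedMap _ hT.isClosed_compl
  have hyC : y ∉ f '' Tsetᶜ := by
    rintro ⟨x, hx, hxy⟩
    exact hx (hfib x hxy)
  let V' : Y.Opens := ⟨(f '' Tsetᶜ)ᶜ, hcl.isOpen_compl⟩
  obtain ⟨b, hbV, hyb⟩ := (isAffineOpen_top Y).exists_basicOpen_le (V := V') ⟨y, hyC⟩ trivial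
  refine ⟨b, hyb, ?_⟩
  haveI : CompactSpace ((f ⁻¹ᵁ Y.basicOpen b : X.Opens) : Scheme.{u}) :=
    isCompact_iff_compactSpace.mp (QuasiCompact.isCompact_preimage (f := f) _
      (Y.basicOpen b).isOpen ((isAffineOpen_top Y).basicOpen b).isCompact)
  refine ⟨Groth.Agent.Helper4.QAffSec.isInvertible_restrict _ hL, inferInstance, fun z => ?_⟩
  have hzT : z.1 ∈ Tset := by
    by_contra hcon
    have h1 : f z.1 ∈ V' := hbV z.2
    exact h1 ⟨z.1, hcon, rfl⟩
  simp only [Tset, Set.mem_iUnion] at hzT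
  obtain ⟨n, s, hs2, hs1⟩ := hzT
  set Z : X.Opens := f ⁻¹ᵁ Y.basicOpen b with hZ
  refine ⟨n, resSec Z.ι s ≫ (resPowIso Z.ι L (n + 1)).inv, ?_, ?_⟩
  · have := genLocus_comp_iso (resPowIso Z.ι L (n + 1)).symm (resSec Z.ι s)
    rw [Iso.symm_hom] at this
    rw [this, genLocus_resSec]
    exact hs1
  · have := genLocus_comp_iso (resPowIso Z.ι L (n + 1)).symm (resSec Z.ι s)
    rw [Iso.symm_hom] at this
    rw [this, genLocus_resSec]
    have hZb : Z = X.basicOpen (f.app ⊤ b) := by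
      rw [hZ, Scheme.preimage_basicOpen]
    have haff : IsAffineOpen (CohB1.genLocus _ s ⊓ Z) := by
      rw [hZb, ← Scheme.basicOpen_res (X := X) (f.app ⊤ b)
        (homOfLE (le_top : CohB1.genLocus _ s ≤ ⊤)).op]
      exact hs2.basicOpen _
    have hpre : Z.ι ⁻¹ᵁ (CohB1.genLocus _ s) = Z.ι ⁻¹ᵁ (CohB1.genLocus _ s ⊓ Z) := by
      ext w
      constructor
      · intro hw
        exact ⟨hw, w.2⟩
      · intro hw
        exact hw.1
    rw [hpre]
    apply Groth.Agent.Helper4.SubExt.isAffineOpen_preimage_of_le Z.ι haff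
    rw [Scheme.Opens.opensRange_ι]
    exact inf_le_right

end Groth.Agent.Helper1.LV
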