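import Mathlib
import Groth.Agent.Helper1.LV5
import Groth.Agent.Helper1.QU23
import Groth.Agent.Helper1.SerreFin1
import Groth.Agent.Helper4.CounitEpi
import Groth.Agent.Helper2.PtDesc

/-!
# LV8: global generation spreads out from the base change to the local ring of a point
-/

set_option autoImplicit false
set_option linter.style.haveILetI false
set_option linter.unusedSectionVars false

universe u

open CategoryTheory CategoryTheory.Limits AlgebraicGeometry Opposite TopologicalSpace

namespace Groth.Agent.Helper1.LV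

open Groth.Agent.Helper4.CounitEpi Groth.Agent.Helper4.PullSec

section GG

variable {X Y : Scheme.{u}}

/-- global generation over the preimage of an affine open from the surjectivity of the
evaluation map over that preimage -/
theorem isGloballyGenerated_restrict_of_epi_restrict_counit (f : X ⟶ Y) [QuasiCompact f]
    [QuasiSeparated f] (M : X.Modules) [M.IsQuasicoherent] (V : Y.Opens) (hV : IsAffineOpen V)
    (hepi : Epi ((Scheme.Modules.restrictFunctor (f ⁻¹ᵁ V).ι).map
      ((Scheme.Modules.pullbackPushforwardAdjunction f).counit.app M))) :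
    Curv2.IsGloballyGenerated (M.restrict (f ⁻¹ᵁ V).ι) := by
  haveI : ((Scheme.Modules.pushforward f).obj M).IsQuasicoherent :=
    Groth.Agent.Helper4.QcohGlue.isQuasicoherent_pushforward f M
  haveI : IsAffine (V : Scheme.{u}) := hV
  haveI : (((Scheme.Modules.pushforward f).obj M).restrict V.ι).IsQuasicoherent := inferInstance
  have h1 : Curv2.IsGloballyGenerated (((Scheme.Modules.pushforward f).obj M).restrict V.ι) :=
    Groth.Agent.Helper4.QuasiAffineGG.isGloballyGenerated_of_isOpenImmersion_Spec
      (V : Scheme.{u}).isoSpec.hom _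
  have h2 := isGloballyGenerated_pullback (f ∣_ V) h1
  have h3 : Curv2.IsGloballyGenerated
      (((Scheme.Modules.pullback f).obj ((Scheme.Modules.pushforward f).obj M)).restrict
        (f ⁻¹ᵁ V).ι) :=
    isGloballyGenerated_of_iso (resPullIso f V _).symm h2
  exact isGloballyGenerated_of_epi _ hepi h3

end GG

section Main

variable {X Y : Scheme.{u}} (f : X ⟶ Y) [IsProper f] [IsLocallyNoetherian Y]

/-- a closed set missing the fibre over `y` misses the preimage of an affine neighbourhood -/
theorem exists_affine_nhd_preimage_disjoint (y : Y) (C : Set X) (hC : IsClosed C)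
    (hy : ∀ x : X, f x = y → x ∉ C) :
    ∃ V : Y.Opens, IsAffineOpen V ∧ y ∈ V ∧ ∀ x : X, x ∈ f ⁻¹ᵁ V → x ∉ C := by
  have hcl : IsClosed (f '' C) := f.isClosedMap _ hC
  have hyC : y ∉ f '' C := by
    rintro ⟨x, hx, hxy⟩
    exact hy x hxy hx
  obtain ⟨V, hV, hyV, hVle⟩ := exists_isAffineOpen_mem_and_subset (X := Y) (x := y)
    (U := ⟨(f '' C)ᶜ, hcl.isOpen_compl⟩) hyC
  exact ⟨V, hV, hyV, fun x hx hxC => hVle hx ⟨x, hxC, rfl⟩⟩

/-- **S12489** -/
theorem exists_nhd_isGloballyGenerated (L : X.Modules) (hL : PicF.IsInvertible L) (y : Y)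
    (h : Curv2.IsGloballyGenerated
      ((Scheme.Modules.pullback (pullback.fst f (Y.fromSpecStalk y))).obj L)) :
    ∃ V : Y.Opens, y ∈ V ∧ Curv2.IsGloballyGenerated (L.restrict (f ⁻¹ᵁ V).ι) := by
  haveI : IsLocallyNoetherian X := LocallyOfFiniteType.isLocallyNoetherian f
  have hM : Coh.IsCoh L := Groth.Agent.Helper1.SerreFin.isCoh_of_isInvertible L hL
  haveI : L.IsQuasicoherent := hM.1
  have hsq : IsPullback (pullback.fst f (Y.fromSpecStalk y)) (pullback.snd f (Y.fromSpecStalk y))
      f (Y.fromSpecStalk y) := IsPullback.of_hasPullback _ _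
  have hepi := Groth.Agent.Helper1.QU.epi_counit_of_isGloballyGenerated
    (pullback.snd f (Y.fromSpecStalk y)) _ h
  have hpush : Coh.IsCoh ((Scheme.Modules.pushforward f).obj L) :=
    Groth.Agent.Helper1.HT.isCoh_pushforward_of_isProper f L hM
  have hA : Coh.IsCoh ((Scheme.Modules.pullback f).obj ((Scheme.Modules.pushforward f).obj L)) :=
    Groth.Agent.Helper1.Dev.isCoh_pullback f _ hpush
  haveI : ((Scheme.Modules.pullback f).obj
      ((Scheme.Modules.pushforward f).obj L)).IsQuasicoherent := hA.1
  have hC := Groth.Agent.Lead.PerfLib.isCoh_cokernel hA hM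
    ((Scheme.Modules.pullbackPushforwardAdjunction f).counit.app L)
  have hcl : IsClosed (CohB1.support (cokernel
      ((Scheme.Modules.pullbackPushforwardAdjunction f).counit.app L))) :=
    Groth.Agent.S0020.result X _ hC.2
  have hfib : ∀ x : X, f x = y → x ∉ CohB1.support (cokernel
      ((Scheme.Modules.pullbackPushforwardAdjunction f).counit.app L)) := by
    intro x hx
    have hxr : x ∈ Set.range (pullback.fst f (Y.fromSpecStalk y)) := by
      rw [Scheme.Pullback.range_fst]
      show f x ∈ Set.range (Y.fromSpecStalk y)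
      rw [hx]
      exact ⟨IsLocalRing.closedPoint _, Scheme.fromSpecStalk_closedPoint⟩
    obtain ⟨x', rfl⟩ := hxr
    exact notMem_support_cokernel_counit f (Y.fromSpecStalk y) _ _ hsq L hM hepi x'
  obtain ⟨V, hV, hyV, hdis⟩ := exists_affine_nhd_preimage_disjoint f y _ hcl hfib
  refine ⟨V, hyV, ?_⟩
  apply isGloballyGenerated_restrict_of_epi_restrict_counit f L V hV
  exact epi_restrict_map_of_support
    (Groth.Agent.Helper4.CohFP.isFP_of_isCoh _ hA.1 hA.2)
    (Groth.Agent.Helper4.CohFP.isFP_of_isCoh _ hM.1 hM.2) _ _ hdis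

end Main

end Groth.Agent.Helper1.LV
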