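import Mathlib
import Groth.Agent.Helper1.LV4
import Groth.Agent.Helper1.LV7
import Groth.Agent.Helper2.PtDesc

/-!
# LV9: ampleness on a fibre spreads out to a neighbourhood
-/

set_option autoImplicit false
set_option linter.style.haveILetI false
set_option linter.unusedSectionVars false

universe u

open CategoryTheory CategoryTheory.Limits AlgebraicGeometry Opposite TopologicalSpace

namespace Groth.Agent.Helper1.LV

open Groth.Agent.Helper4.AmpleRestrict Groth.Agent.Helper4.AmpleIso Groth.Agent.Helper4.AmpleLocal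

variable {X Y : Scheme.{u}} (f : X ⟶ Y) [IsProper f] [IsLocallyNoetherian Y]
  (L : X.Modules) (hL : PicF.IsInvertible L) (y : Y)
  (hy : CohB1.IsAmple ((Scheme.Modules.pullback (f.fiberι y)).obj L))

include hL hy in
/-- ampleness on the fibre gives ampleness over the local ring -/
theorem isAmple_pullback_of_fibre
    (X₁ : Scheme.{u}) [X₁.Over (Spec (CommRingCat.of (Y.presheaf.stalk y)))] (g : X₁ ⟶ X)
    (hsq : IsPullback g (X₁ ↘ Spec (CommRingCat.of (Y.presheaf.stalk y))) f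
      (Y.fromSpecStalk y)) :
    CohB1.IsAmple ((Scheme.Modules.pullback g).obj L) := by
  haveI : IsNoetherianRing (Y.presheaf.stalk y) := inferInstance
  haveI : IsProper (X₁ ↘ Spec (CommRingCat.of (Y.presheaf.stalk y))) :=
    MorphismProperty.of_isPullback (P := @IsProper) hsq inferInstance
  haveI : IsLocallyNoetherian X₁ :=
    LocallyOfFiniteType.isLocallyNoetherian (X₁ ↘ Spec (CommRingCat.of (Y.presheaf.stalk y)))
  haveI : CompactSpace X₁ :=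
    QuasiCompact.compactSpace_of_compactSpace (X₁ ↘ Spec (CommRingCat.of (Y.presheaf.stalk y)))
  apply Groth.Agent.Helper4.H1Twist.isAmple_of_H1_twisted_ideals _
    (Groth.Agent.Helper4.PullSec.isInvertible_pullback g hL)
  intro I i hi hIq
  haveI := hi
  have hI : Coh.IsCoh I := Groth.Agent.Helper2.CohQ1.isCoh_of_mono i hIq
    (Groth.Agent.Helper1.Dev.isCoh_structureModule X₁)
  obtain ⟨d₀, hd₀⟩ := exists_vanishing_localRing f L hL y hy X₁ g hsq I hI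
  exact ⟨d₀, hd₀ (d₀ + 1) (by omega) 1 le_rfl⟩

include hL hy in
/-- **S0054** -/
theorem exists_nhd_isAmple_of_fibre :
    ∃ V : Y.Opens, y ∈ V ∧ ∀ W : Y.Opens, W ≤ V → IsAffineOpen W →
      CohB1.IsAmple (L.restrict (f ⁻¹ᵁ W).ι) := by
  obtain ⟨V₀, hV₀, hyV₀, -⟩ := exists_isAffineOpen_mem_and_subset (X := Y) (x := y) (U := ⊤) trivial
  let X₁ : Scheme.{u} := pullback f (Y.fromSpecStalk y)
  let g : X₁ ⟶ X := pullback.fst f (Y.fromSpecStalk y)
  let q : X₁ ⟶ Spec (Y.presheaf.stalk y) := pullback.snd f (Y.fromSpecStalk y)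
  letI : X₁.Over (Spec (CommRingCat.of (Y.presheaf.stalk y))) := ⟨q⟩
  have hsq : IsPullback g (X₁ ↘ Spec (CommRingCat.of (Y.presheaf.stalk y))) f
      (Y.fromSpecStalk y) := IsPullback.of_hasPullback _ _
  have hamp₁ := isAmple_pullback_of_fibre f L hL y hy X₁ g hsq
  -- the factorization of the base
  have hrange : Set.range (Y.fromSpecStalk y) ⊆ Set.range V₀.ι := by
    rw [Scheme.range_fromSpecStalk, Scheme.Opens.range_ι]
    intro z hz
    exact hz.mem_open V₀.isOpen hyV₀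
  let σ₀ : Spec (Y.presheaf.stalk y) ⟶ (V₀ : Scheme.{u}) :=
    IsOpenImmersion.lift V₀.ι (Y.fromSpecStalk y) hrange
  have hσ₀ : σ₀ ≫ V₀.ι = Y.fromSpecStalk y := IsOpenImmersion.lift_fac _ _ _
  haveI : Flat σ₀ := MorphismProperty.of_postcomp (W := @Flat) (W' := @IsOpenImmersion) σ₀ V₀.ι
    inferInstance (by rw [hσ₀]; infer_instance)
  -- the factorization of the total space
  have hrange' : Set.range g ⊆ Set.range (f ⁻¹ᵁ V₀).ι := by
    rw [Scheme.Opens.range_ι]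
    rintro _ ⟨z, rfl⟩
    show f (g z) ∈ V₀
    have h1 : f (g z) = (Y.fromSpecStalk y) (q z) := by
      rw [← Scheme.Hom.comp_apply, ← Scheme.Hom.comp_apply]
      exact congrArg (fun φ : X₁ ⟶ Y => φ z) hsq.w
    rw [h1]
    have h2 := hrange ⟨q z, rfl⟩
    rwa [Scheme.Opens.range_ι] at h2
  let g₀ : X₁ ⟶ ((f ⁻¹ᵁ V₀ : X.Opens) : Scheme.{u}) :=
    IsOpenImmersion.lift (f ⁻¹ᵁ V₀).ι g hrange'
  have hg₀ : g₀ ≫ (f ⁻¹ᵁ V₀).ι = g := IsOpenImmersion.lift_fac _ _ _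
  have hcomm : g₀ ≫ (f ∣_ V₀) = q ≫ σ₀ := by
    rw [← cancel_mono V₀.ι, Category.assoc, Category.assoc, morphismRestrict_ι, hσ₀,
      ← Category.assoc, hg₀]
    exact hsq.w
  have hbig : IsPullback (g₀ ≫ (f ⁻¹ᵁ V₀).ι) q f (σ₀ ≫ V₀.ι) := by
    rw [hg₀, hσ₀]; exact hsq
  have hright : IsPullback (f ⁻¹ᵁ V₀).ι (f ∣_ V₀) f V₀.ι :=
    (isPullback_morphismRestrict f V₀).flip
  have hsq₀ : IsPullback g₀ q (f ∣_ V₀) σ₀ := IsPullback.of_right hbig hcomm hright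
  -- ampleness upstairs
  have hamp₀ : CohB1.IsAmple ((Scheme.Modules.pullback g₀).obj (L.restrict (f ⁻¹ᵁ V₀).ι)) :=
    isAmple_of_iso
      ((Scheme.Modules.pullback g₀).mapIso
          ((Scheme.Modules.restrictFunctorIsoPullback (f ⁻¹ᵁ V₀).ι).app L) ≪≫
        (Scheme.Modules.pullbackComp g₀ (f ⁻¹ᵁ V₀).ι).app L ≪≫
        (Scheme.Modules.pullbackCongr hg₀).app L).symm hamp₁
  haveI : IsAffine (V₀ : Scheme.{u}) := hV₀
  let y₀ : (V₀ : Scheme.{u}) := ⟨y, hyV₀⟩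
  have hy₀ : y₀ ∈ Set.range σ₀ := by
    refine ⟨IsLocalRing.closedPoint _, ?_⟩
    apply V₀.ι.isOpenEmbedding.injective
    rw [← Scheme.Hom.comp_apply, hσ₀]
    exact Scheme.fromSpecStalk_closedPoint
  obtain ⟨b, hyb, hamp⟩ := exists_basicOpen_isAmple_restrict (f ∣_ V₀) σ₀ g₀ q hsq₀ _
    (Groth.Agent.Helper4.QAffSec.isInvertible_restrict _ hL) hamp₀ y₀ hy₀
  refine ⟨V₀.ι ''ᵁ ((V₀ : Scheme.{u}).basicOpen b), ⟨y₀, hyb, rfl⟩, fun W hW hWaff => ?_⟩
  rw [isAmple_restrict_restrict] at hamp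
  haveI : CompactSpace ((f ⁻¹ᵁ W : X.Opens) : Scheme.{u}) :=
    isCompact_iff_compactSpace.mp
      (QuasiCompact.isCompact_preimage (f := f) _ W.isOpen hWaff.isCompact)
  apply isAmple_restrict_of_range_le (f ⁻¹ᵁ W).ι _ ?_ hamp
  rw [Scheme.Opens.range_ι]
  intro x hx
  obtain ⟨v, hv, hvx⟩ : f x ∈ V₀.ι ''ᵁ ((V₀ : Scheme.{u}).basicOpen b) :=
    hW (show f x ∈ W from hx)
  have hxV₀ : x ∈ f ⁻¹ᵁ V₀ := by
    show f x ∈ V₀
    rw [← hvx]
    exact v.2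
  let x₀ : ((f ⁻¹ᵁ V₀ : X.Opens) : Scheme.{u}) := ⟨x, hxV₀⟩
  have hx₀ : (f ∣_ V₀) x₀ = v := by
    apply V₀.ι.isOpenEmbedding.injective
    rw [← Scheme.Hom.comp_apply, morphismRestrict_ι, Scheme.Hom.comp_apply]
    exact hvx.symm
  have hx₀' : x₀ ∈ (f ∣_ V₀) ⁻¹ᵁ (V₀ : Scheme.{u}).basicOpen b := by
    show (f ∣_ V₀) x₀ ∈ (V₀ : Scheme.{u}).basicOpen b
    rw [hx₀]; exact hv
  exact ⟨⟨x₀, hx₀'⟩, rfl⟩

end Groth.Agent.Helper1.LV
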