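import Mathlib
import Groth.Prelude.Def_LambdaRing

/-!
# Helper lemmas on λ-rings with positive structure
-/

set_option autoImplicit false
universe u

namespace Groth.Agent.Helper1.Lambda

open LambdaRing PowerSeries Finset

section basic
variable {K : Type u} [CommRing K] [LambdaOps K]

lemma coeff_lamSeries (x : K) (i : ℕ) : PowerSeries.coeff i (lamSeries x) = LambdaOps.lam i x := by
  unfold lamSeries
  rw [PowerSeries.coeff_mk]

lemma lamSeries_add (x y : K) : lamSeries (x + y) = lamSeries x * lamSeries y := by
  ext k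
  rw [coeff_lamSeries, PowerSeries.coeff_mul, LambdaOps.lam_add,
    Finset.Nat.sum_antidiagonal_eq_sum_range_succ (fun i j => PowerSeries.coeff i (lamSeries x) *
      PowerSeries.coeff j (lamSeries y))]
  simp only [coeff_lamSeries]

lemma constantCoeff_lamSeries (x : K) : PowerSeries.constantCoeff (lamSeries x) = 1 := by
  rw [← PowerSeries.coeff_zero_eq_constantCoeff_apply, coeff_lamSeries, LambdaOps.lam_zero]

lemma isUnit_lamSeries (x : K) : IsUnit (lamSeries x) := by
  rw [PowerSeries.isUnit_iff_constantCoeff, constantCoeff_lamSeries]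
  exact isUnit_one

lemma lamSeries_zero : lamSeries (0 : K) = 1 := by
  have h := lamSeries_add (0 : K) 0
  rw [add_zero] at h
  have hu := isUnit_lamSeries (0 : K)
  obtain ⟨v, hv⟩ := hu
  have : (v : PowerSeries K) = v * v := by rw [hv]; exact h
  have h2 : (v : PowerSeries K) * 1 = v * v := by rw [mul_one]; exact this
  have h3 := v.isUnit.mul_left_cancel h2
  rw [← hv, ← h3]

lemma lamSeries_multiset_sum (s : Multiset K) : lamSeries s.sum = (s.map lamSeries).prod := by
  induction s using Multiset.induction_on with
  | empty => simp [lamSeries_zero]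
  | cons a s ih => rw [Multiset.sum_cons, lamSeries_add, Multiset.map_cons, Multiset.prod_cons, ih]

lemma map_lamSeries {K' : Type u} [CommRing K'] [LambdaOps K'] (f : K →+* K') (hf : IsLambdaHom f)
    (x : K) : PowerSeries.map f (lamSeries x) = lamSeries (f x) := by
  ext i
  rw [PowerSeries.coeff_map, coeff_lamSeries, coeff_lamSeries, hf]

variable (P : PosStructure K)

lemma lam_line (u : K) (hu : P.IsLine u) (i : ℕ) (hi : 2 ≤ i) : LambdaOps.lam i u = 0 := by
  apply P.lam_eq_zero u hu.1 i
  rw [hu.2]
  exact_mod_cast hi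

lemma lamSeries_line (u : K) (hu : P.IsLine u) :
    lamSeries u = 1 + PowerSeries.C u * PowerSeries.X := by
  ext n
  rw [coeff_lamSeries, map_add]
  rcases n with _ | _ | n
  · simp [LambdaOps.lam_zero]
  · simp [LambdaOps.lam_one, PowerSeries.coeff_one]
  · rw [lam_line P u hu (n+2) (by omega)]
    rw [PowerSeries.coeff_one, if_neg (by omega)]
    rw [show n + 1 + 1 = (n+1) + 1 from rfl, PowerSeries.coeff_succ_mul_X, PowerSeries.coeff_C,
      if_neg (by omega)]
    simp

lemma map_aug_lamSeries_line (u : K) (hu : P.IsLine u) :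
    PowerSeries.map P.aug (lamSeries u) = 1 + PowerSeries.X := by
  rw [lamSeries_line P u hu, map_add, map_one, map_mul, PowerSeries.map_C, PowerSeries.map_X, hu.2,
    map_one, one_mul]

lemma map_aug_lamSeries_sum (s : Multiset K) (hs : ∀ u ∈ s, P.IsLine u) :
    PowerSeries.map P.aug (lamSeries s.sum) = (1 + PowerSeries.X) ^ (Multiset.card s) := by
  rw [lamSeries_multiset_sum, map_multiset_prod, Multiset.map_map]
  rw [Multiset.map_congr rfl (g := fun _ => (1 + PowerSeries.X : PowerSeries ℤ))]
  · rw [Multiset.map_const', Multiset.prod_replicate]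
  · intro u hu
    exact map_aug_lamSeries_line P u (hs u hu)

lemma aug_sum_lines (s : Multiset K) (hs : ∀ u ∈ s, P.IsLine u) :
    P.aug s.sum = Multiset.card s := by
  induction s using Multiset.induction_on with
  | empty => simp
  | cons a s ih =>
    rw [Multiset.sum_cons, map_add, ih (fun u hu => hs u (Multiset.mem_cons_of_mem hu)),
      (hs a (Multiset.mem_cons_self a s)).2, Multiset.card_cons]
    push_cast; ring

lemma coeff_one_add_X_pow (r i : ℕ) :
    PowerSeries.coeff i ((1 + PowerSeries.X : PowerSeries ℤ) ^ r) = (r.choose i : ℤ) := by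
  have : ((1 + PowerSeries.X : PowerSeries ℤ) ^ r) = (((1 + Polynomial.X : Polynomial ℤ) ^ r : Polynomial ℤ) : PowerSeries ℤ) := by
    rw [Polynomial.coe_pow, Polynomial.coe_add, Polynomial.coe_one, Polynomial.coe_X]
  rw [this, Polynomial.coeff_coe, Polynomial.coeff_one_add_X_pow]

end basic

end Groth.Agent.Helper1.Lambda
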