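import Mathlib
import Groth.Agent.Helper1.Lambda

/-!
# γ-operations via substitution t ↦ t/(1-t)
-/

set_option autoImplicit false
universe u

namespace Groth.Agent.Helper1.Lambda

open LambdaRing PowerSeries Finset

section gam
variable {K : Type u} [CommRing K]

/-- the series `t/(1-t)` -/
noncomputable def sSer (K : Type u) [CommRing K] : PowerSeries K := PowerSeries.X * PowerSeries.mk 1

lemma hasSubst_sSer : PowerSeries.HasSubst (sSer K) := by
  apply PowerSeries.HasSubst.of_constantCoeff_zero'
  unfold sSer
  simp

lemma coeff_sSer_pow (k j : ℕ) : PowerSeries.coeff k ((sSer K) ^ j) =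
    if j = 0 then (if k = 0 then 1 else 0) else if k = 0 then 0 else ((k-1).choose (j-1) : K) := by
  rcases j with _ | d
  · rw [pow_zero, PowerSeries.coeff_one, if_pos rfl]
  · rw [if_neg (by omega)]
    unfold sSer
    rw [mul_pow, PowerSeries.mk_one_pow_eq_mk_choose_add, PowerSeries.coeff_X_pow_mul',
      PowerSeries.coeff_mk]
    by_cases hk : k = 0
    · subst hk
      simp
    · rw [if_neg hk]
      by_cases hdk : d + 1 ≤ k
      · rw [if_pos hdk]
        simp only [Nat.add_sub_cancel]
        congr 2
        omega
      · rw [if_neg hdk]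
        simp only [Nat.add_sub_cancel]
        rw [Nat.choose_eq_zero_of_lt (by omega)]
        simp

variable [LambdaOps K]

lemma gamma_eq_coeff (k : ℕ) (x : K) :
    gamma k x = PowerSeries.coeff k ((lamSeries x).subst (sSer K)) := by
  rw [PowerSeries.coeff_subst' hasSubst_sSer]
  rw [finsum_eq_sum_of_support_subset (s := Finset.range (k+1))]
  · unfold gamma
    by_cases hk : k = 0
    · subst hk
      rw [if_pos rfl]
      simp [coeff_lamSeries, LambdaOps.lam_zero]
    · rw [if_neg hk]
      apply Finset.sum_congr rfl
      intro j _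
      rw [coeff_sSer_pow, coeff_lamSeries, smul_eq_mul]
      by_cases hj : j = 0
      · simp [hj, hk]
      · simp [hj, hk, mul_comm]
  · intro d hd
    rw [Function.mem_support] at hd
    by_contra hd'
    apply hd
    have hdk : k < d := by
      simpa using hd'
    rw [coeff_sSer_pow, if_neg (by omega)]
    by_cases hk : k = 0
    · simp [hk]
    · rw [if_neg hk, Nat.choose_eq_zero_of_lt (by omega)]
      simp

lemma gamma_add (k : ℕ) (x y : K) :
    gamma k (x + y) = ∑ i ∈ range (k + 1), gamma i x * gamma (k - i) y := by
  rw [gamma_eq_coeff, lamSeries_add, PowerSeries.subst_mul hasSubst_sSer, PowerSeries.coeff_mul,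
    Finset.Nat.sum_antidiagonal_eq_sum_range_succ (fun i j =>
      PowerSeries.coeff i ((lamSeries x).subst (sSer K)) *
      PowerSeries.coeff j ((lamSeries y).subst (sSer K)))]
  simp only [gamma_eq_coeff]

end gam

end Groth.Agent.Helper1.Lambda
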