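import Mathlib
import Groth.Agent.Helper1.LambdaGamma

/-!
# The identity Σ γ^i(e - m) t^(m-i) = Σ λ^i(e) (t-1)^(m-i)
-/

set_option autoImplicit false
universe u

namespace Groth.Agent.Helper1.Lambda

open LambdaRing Finset

section refl
variable {K : Type u} [CommRing K]

open Polynomial in
lemma natDegree_one_sub_X_pow_le (k : ℕ) : ((1 - Polynomial.X : K[X]) ^ k).natDegree ≤ k := by
  refine (Polynomial.natDegree_pow_le).trans ?_
  have : (1 - Polynomial.X : K[X]).natDegree ≤ 1 :=
    (Polynomial.natDegree_sub_le _ _).trans (by simp [Polynomial.natDegree_X_le])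
  calc k * (1 - Polynomial.X : K[X]).natDegree ≤ k * 1 := Nat.mul_le_mul_left k this
    _ = k := mul_one k

open Polynomial in
lemma reflect_one_sub_X_pow (k : ℕ) :
    Polynomial.reflect k ((1 - Polynomial.X : K[X]) ^ k) = (Polynomial.X - 1) ^ k := by
  induction k with
  | zero => simp [Polynomial.reflect_one]
  | succ k ih =>
    rw [pow_succ, pow_succ, Polynomial.reflect_mul _ _ (F := k) (G := 1), ih]
    · congr 1
      rw [Polynomial.reflect_sub, Polynomial.reflect_one, Polynomial.reflect_one_X, pow_one]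
    · exact natDegree_one_sub_X_pow_le k
    · exact (Polynomial.natDegree_sub_le _ _).trans (by simp [Polynomial.natDegree_X_le])

open Polynomial in
lemma reflect_term (m i : ℕ) (hi : i ≤ m) :
    Polynomial.reflect m ((Polynomial.X : K[X]) ^ i * (1 - Polynomial.X) ^ (m - i)) =
      (Polynomial.X - 1) ^ (m - i) := by
  have hm : m = i + (m - i) := by omega
  conv_lhs => rw [hm]
  rw [Polynomial.reflect_mul _ _ (F := i) (G := m - i)]
  · rw [show i + (m - i) - i = m - i by omega, reflect_one_sub_X_pow, Polynomial.reflect_monomial]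
    simp
  · exact Polynomial.natDegree_X_pow_le i
  · rw [show i + (m - i) - i = m - i by omega]
    exact natDegree_one_sub_X_pow_le _

open Polynomial in
lemma reflect_sum {ι : Type*} (s : Finset ι) (f : ι → K[X]) (N : ℕ) :
    Polynomial.reflect N (∑ i ∈ s, f i) = ∑ i ∈ s, Polynomial.reflect N (f i) := by
  classical
  induction s using Finset.induction_on with
  | empty => simp
  | insert a s ha ih => rw [Finset.sum_insert ha, Finset.sum_insert ha, Polynomial.reflect_add, ih]

open Polynomial in
lemma sum_coeff_eq_reflect (m : ℕ) (Q : K[X]) (hQ : Q.natDegree ≤ m) :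
    ∑ i ∈ range (m + 1), Polynomial.C (Q.coeff i) * Polynomial.X ^ (m - i) = Polynomial.reflect m Q := by
  conv_rhs => rw [Q.as_sum_range' (m + 1) (by omega)]
  rw [reflect_sum]
  apply Finset.sum_congr rfl
  intro i hi
  rw [← Polynomial.C_mul_X_pow_eq_monomial, Polynomial.reflect_C_mul_X_pow,
    Polynomial.revAt_le (by simpa [Nat.lt_succ_iff] using hi)]

end refl

section main
variable {K : Type u} [CommRing K] [LambdaOps K]

lemma isLine_one (P : PosStructure K) : P.IsLine (1 : K) := by
  refine ⟨?_, map_one _⟩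
  have := P.natCast_mem 1 one_pos
  simpa using this

lemma lamSeries_natCast (P : PosStructure K) (n : ℕ) : lamSeries ((n : ℕ) : K) = (1 + PowerSeries.X) ^ n := by
  induction n with
  | zero => simp [lamSeries_zero]
  | succ n ih =>
    rw [Nat.cast_succ, lamSeries_add, ih, lamSeries_line P 1 (isLine_one P), pow_succ]
    simp

lemma one_add_sSer : (1 + sSer K) * (1 - PowerSeries.X) = 1 := by
  have : (1 + sSer K) = PowerSeries.mk 1 := by
    ext n
    unfold sSer
    rcases n with _ | n
    · simp
    · rw [map_add, PowerSeries.coeff_succ_X_mul]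
      simp [PowerSeries.coeff_one]
  rw [this, PowerSeries.mk_one_mul_one_sub_eq_one]

lemma sSer_mul : sSer K * (1 - PowerSeries.X) = PowerSeries.X := by
  have h := one_add_sSer (K := K)
  have : sSer K * (1 - PowerSeries.X) = (1 + sSer K) * (1 - PowerSeries.X) - (1 - PowerSeries.X) := by ring
  rw [this, h]; ring

open Polynomial in
/-- the polynomial `Σ λ^i(e) X^i (1-X)^(m-i)` -/
noncomputable def Qpol (e : K) (m : ℕ) : K[X] :=
  ∑ i ∈ range (m + 1), Polynomial.C (LambdaOps.lam i e) * (Polynomial.X ^ i * (1 - Polynomial.X) ^ (m - i))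

open Polynomial in
lemma natDegree_Qpol (e : K) (m : ℕ) : (Qpol e m).natDegree ≤ m := by
  unfold Qpol
  apply Polynomial.natDegree_sum_le_of_forall_le
  intro i hi
  have hi' : i ≤ m := by simpa [Nat.lt_succ_iff] using hi
  refine (Polynomial.natDegree_C_mul_le _ _).trans ?_
  refine (Polynomial.natDegree_mul_le).trans ?_
  have h1 : ((Polynomial.X : K[X]) ^ i).natDegree ≤ i := Polynomial.natDegree_X_pow_le i
  have h2 : ((1 - Polynomial.X : K[X]) ^ (m - i)).natDegree ≤ m - i := natDegree_one_sub_X_pow_le _
  omega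

open Polynomial in
lemma lamSeries_eq_poly (e : K) (m : ℕ) (hm : ∀ i, m < i → LambdaOps.lam i e = 0) :
    lamSeries e = ((∑ i ∈ range (m + 1), Polynomial.C (LambdaOps.lam i e) * Polynomial.X ^ i : K[X]) : PowerSeries K) := by
  ext n
  rw [coeff_lamSeries, Polynomial.coeff_coe, Polynomial.finsetSum_coeff]
  simp only [Polynomial.coeff_C_mul, Polynomial.coeff_X_pow]
  by_cases hn : n ≤ m
  · rw [Finset.sum_eq_single n]
    · simp
    · intro b _ hb
      rw [if_neg (Ne.symm hb), mul_zero]
    · intro h
      exfalso; apply h; simp; omega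
  · rw [hm n (by omega)]
    symm
    apply Finset.sum_eq_zero
    intro i hi
    have : i ≤ m := by simpa [Nat.lt_succ_iff] using hi
    rw [if_neg (by omega), mul_zero]

open Polynomial in
lemma subst_lamSeries_sub (P : PosStructure K) (e : K) (m : ℕ) (hm : ∀ i, m < i → LambdaOps.lam i e = 0) :
    (lamSeries (e - (m : K))).subst (sSer K) = ((Qpol e m : K[X]) : PowerSeries K) := by
  have h1 : lamSeries e = lamSeries (e - (m : K)) * lamSeries ((m : ℕ) : K) := by
    rw [← lamSeries_add, sub_add_cancel]
  have h2 : (lamSeries e).subst (sSer K) = (lamSeries (e - (m : K))).subst (sSer K) * (1 + sSer K) ^ m := by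
    rw [h1, PowerSeries.subst_mul hasSubst_sSer, lamSeries_natCast P, PowerSeries.subst_pow hasSubst_sSer,
      PowerSeries.subst_add hasSubst_sSer, PowerSeries.subst_X hasSubst_sSer]
    congr 3
    rw [← Polynomial.coe_one, PowerSeries.subst_coe hasSubst_sSer]
    simp
  have h3 : (lamSeries (e - (m : K))).subst (sSer K) = (lamSeries e).subst (sSer K) * (1 - PowerSeries.X) ^ m := by
    rw [h2, mul_assoc, ← mul_pow, one_add_sSer, one_pow, mul_one]
  rw [h3, lamSeries_eq_poly e m hm, PowerSeries.subst_coe hasSubst_sSer]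
  unfold Qpol
  rw [map_sum, Finset.sum_mul, ← Polynomial.coeToPowerSeries.ringHom_apply, map_sum]
  simp only [Polynomial.coeToPowerSeries.ringHom_apply]
  apply Finset.sum_congr rfl
  intro i hi
  have hi' : i ≤ m := by simpa [Nat.lt_succ_iff] using hi
  rw [map_mul, Polynomial.aeval_C, map_pow, Polynomial.aeval_X]
  rw [Polynomial.coe_mul, Polynomial.coe_mul, Polynomial.coe_pow, Polynomial.coe_pow, Polynomial.coe_sub,
    Polynomial.coe_one, Polynomial.coe_X, Polynomial.coe_C]
  have : (1 - PowerSeries.X : PowerSeries K) ^ m = (1 - PowerSeries.X) ^ i * (1 - PowerSeries.X) ^ (m - i) := by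
    rw [← pow_add]; congr 1; omega
  have hX : (PowerSeries.X : PowerSeries K) ^ i = sSer K ^ i * (1 - PowerSeries.X) ^ i := by
    rw [← mul_pow, sSer_mul]
  rw [this, hX]
  have hC : (algebraMap K (PowerSeries K)) (LambdaOps.lam i e) = PowerSeries.C (LambdaOps.lam i e) := rfl
  rw [hC]
  ring

end main

end Groth.Agent.Helper1.Lambda
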