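import Mathlib
import Groth.Agent.Helper1.LambdaGamma2

/-!
# Adams operations: additivity, naturality, values on sums of line elements
-/

set_option autoImplicit false
universe u

namespace Groth.Agent.Helper1.Lambda

open LambdaRing Finset

section adams
variable {K : Type u} [CommRing K] [LambdaOps K]

/-- `λ_{-t}(x)` -/
noncomputable def phi (x : K) : PowerSeries K := PowerSeries.rescale (-1 : K) (lamSeries x)

lemma phi_add (x y : K) : phi (x + y) = phi x * phi y := by
  unfold phi
  rw [lamSeries_add, map_mul]

lemma constantCoeff_phi (x : K) : PowerSeries.constantCoeff (phi x) = ((1 : Kˣ) : K) := by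
  unfold phi
  rw [← PowerSeries.coeff_zero_eq_constantCoeff_apply, PowerSeries.coeff_rescale, coeff_lamSeries,
    LambdaOps.lam_zero]
  simp

/-- the inverse of `λ_{-t}(x)` -/
noncomputable def phiInv (x : K) : PowerSeries K := (phi x).invOfUnit 1

lemma phi_mul_phiInv (x : K) : phi x * phiInv x = 1 :=
  PowerSeries.mul_invOfUnit _ _ (constantCoeff_phi x)

lemma eq_phiInv (x : K) (g : PowerSeries K) (h : phi x * g = 1) : g = phiInv x := by
  calc g = (phi x * phiInv x) * g := by rw [phi_mul_phiInv, one_mul]
    _ = phiInv x * (phi x * g) := by ring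
    _ = phiInv x := by rw [h, mul_one]

lemma phiInv_add (x y : K) : phiInv (x + y) = phiInv x * phiInv y := by
  symm
  apply eq_phiInv
  rw [phi_add]
  calc phi x * phi y * (phiInv x * phiInv y) = (phi x * phiInv x) * (phi y * phiInv y) := by ring
    _ = 1 := by rw [phi_mul_phiInv, phi_mul_phiInv, one_mul]

lemma adamsSeries_eq (P : PosStructure K) (x : K) :
    adamsSeries P x = PowerSeries.C (P.aug x : K) -
      PowerSeries.X * (PowerSeries.derivative K (phi x)) * phiInv x := rfl

lemma adamsSeries_add (P : PosStructure K) (x y : K) :
    adamsSeries P (x + y) = adamsSeries P x + adamsSeries P y := by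
  rw [adamsSeries_eq, adamsSeries_eq, adamsSeries_eq, phi_add, phiInv_add, Derivation.leibniz, map_add]
  simp only [smul_eq_mul]
  have h1 := phi_mul_phiInv x
  have h2 := phi_mul_phiInv y
  push_cast
  rw [map_add]
  have : PowerSeries.X * (phi x * (PowerSeries.derivative K) (phi y) + phi y * (PowerSeries.derivative K) (phi x)) *
      (phiInv x * phiInv y) =
      PowerSeries.X * (PowerSeries.derivative K) (phi y) * phiInv y * (phi x * phiInv x) +
      PowerSeries.X * (PowerSeries.derivative K) (phi x) * phiInv x * (phi y * phiInv y) := by ring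
  rw [this, h1, h2]
  ring

lemma adams_add (P : PosStructure K) (j : ℕ) (x y : K) :
    adams P j (x + y) = adams P j x + adams P j y := by
  unfold adams
  rw [adamsSeries_add, map_add]

lemma adams_zero (P : PosStructure K) (j : ℕ) : adams P j (0 : K) = 0 := by
  have := adams_add P j (0 : K) 0
  rw [add_zero] at this
  exact left_eq_add.mp this

lemma adams_neg (P : PosStructure K) (j : ℕ) (x : K) : adams P j (-x) = - adams P j x := by
  have := adams_add P j x (-x)
  rw [add_neg_cancel, adams_zero] at this
  exact (neg_eq_of_add_eq_zero_right this.symm).symm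

lemma adams_sub (P : PosStructure K) (j : ℕ) (x y : K) :
    adams P j (x - y) = adams P j x - adams P j y := by
  rw [sub_eq_add_neg, adams_add, adams_neg, ← sub_eq_add_neg]

lemma adams_multiset_sum (P : PosStructure K) (j : ℕ) (s : Multiset K) :
    adams P j s.sum = (s.map (adams P j)).sum := by
  induction s using Multiset.induction_on with
  | empty => simp [adams_zero]
  | cons a s ih => rw [Multiset.sum_cons, adams_add, ih, Multiset.map_cons, Multiset.sum_cons]

end adams

end Groth.Agent.Helper1.Lambda
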