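import Mathlib
import Groth.Agent.Helper1.LambdaAdams
import Groth.Agent.S3287

/-!
# Adams operations: naturality and the splitting principle
-/

set_option autoImplicit false
universe u

namespace Groth.Agent.Helper1.Lambda

open LambdaRing Finset

section nat
variable {K : Type u} [CommRing K] [LambdaOps K]
variable {K' : Type u} [CommRing K'] [LambdaOps K']

lemma map_phi (f : K →+* K') (hf : IsLambdaHom f) (x : K) :
    PowerSeries.map f (phi x) = phi (f x) := by
  unfold phi
  rw [← PowerSeries.rescale_map, map_lamSeries f hf, map_neg, map_one]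

lemma map_phiInv (f : K →+* K') (hf : IsLambdaHom f) (x : K) :
    PowerSeries.map f (phiInv x) = phiInv (f x) := by
  apply eq_phiInv
  rw [← map_phi f hf, ← map_mul, phi_mul_phiInv, map_one]

lemma map_derivative (f : K →+* K') (g : PowerSeries K) :
    PowerSeries.map f (PowerSeries.derivative K g) = PowerSeries.derivative K' (PowerSeries.map f g) := by
  ext n
  rw [PowerSeries.coeff_map, PowerSeries.coeff_derivative, PowerSeries.coeff_derivative,
    PowerSeries.coeff_map, map_mul, map_add, map_natCast, map_one]

lemma map_adamsSeries (P : PosStructure K) (P' : PosStructure K') (f : K →+* K')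
    (hf : IsExtension P P' f) (x : K) :
    PowerSeries.map f (adamsSeries P x) = adamsSeries P' (f x) := by
  rw [adamsSeries_eq, adamsSeries_eq, map_sub, map_mul, map_mul, PowerSeries.map_X, map_derivative,
    map_phi f hf.isLambdaHom, map_phiInv f hf.isLambdaHom, PowerSeries.map_C, hf.aug_comp, map_intCast]

lemma map_adams (P : PosStructure K) (P' : PosStructure K') (f : K →+* K')
    (hf : IsExtension P P' f) (j : ℕ) (x : K) :
    f (adams P j x) = adams P' j (f x) := by
  unfold adams
  rw [← map_adamsSeries P P' f hf, PowerSeries.coeff_map]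

lemma isLine_map (P : PosStructure K) (P' : PosStructure K') (f : K →+* K')
    (hf : IsExtension P P' f) (u : K) (hu : P.IsLine u) : P'.IsLine (f u) :=
  ⟨hf.pos_subset u hu.1, by rw [hf.aug_comp, hu.2]⟩

lemma isLine_mul (P : PosStructure K) (u v : K) (hu : P.IsLine u) (hv : P.IsLine v) :
    P.IsLine (u * v) :=
  ⟨P.mul_mem u v hu.1 hv.1, by rw [map_mul, hu.2, hv.2, one_mul]⟩

lemma isLine_pow (P : PosStructure K) (u : K) (hu : P.IsLine u) (j : ℕ) : P.IsLine (u ^ j) := by
  induction j with
  | zero => rw [pow_zero]; exact isLine_one P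
  | succ j ih => rw [pow_succ]; exact isLine_mul P _ _ ih hu

lemma adams_line (P : PosStructure K) (u : K) (hu : P.IsLine u) (j : ℕ) :
    adams P j u = u ^ j := Groth.Agent.S3287.result K P u hu j

lemma adams_sum_lines (P : PosStructure K) (j : ℕ) (s : Multiset K) (hs : ∀ u ∈ s, P.IsLine u) :
    adams P j s.sum = (s.map (fun u => u ^ j)).sum := by
  rw [adams_multiset_sum]
  congr 1
  apply Multiset.map_congr rfl
  intro u hu
  exact adams_line P u (hs u hu) j

end nat

end Groth.Agent.Helper1.Lambda
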