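import Mathlib
import Groth.Agent.Helper1.LambdaAdams2

/-!
# Adams operations are multiplicative under the splitting property
-/

set_option autoImplicit false
universe u

namespace Groth.Agent.Helper1.Lambda

open LambdaRing Finset

section mult
variable {K : Type u} [CommRing K] [LambdaOps K]

omit [LambdaOps K] in
lemma mul_sum' (a : K) (t : Multiset K) : a * t.sum = (t.map (fun v => a * v)).sum := by
  have := Multiset.sum_map_mul_left (s := t) (a := a) (f := fun v => v)
  simpa using this.symm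

lemma adams_line_mul_sum (P : PosStructure K) (j : ℕ) (a : K) (ha : P.IsLine a) (t : Multiset K)
    (ht : ∀ u ∈ t, P.IsLine u) :
    adams P j (a * t.sum) = a ^ j * adams P j t.sum := by
  rw [mul_sum', adams_sum_lines P j _ (by
    intro u hu
    obtain ⟨v, hv, rfl⟩ := Multiset.mem_map.1 hu
    exact isLine_mul P a v ha (ht v hv)), adams_sum_lines P j t ht, mul_sum',
    Multiset.map_map, Multiset.map_map]
  congr 1
  apply Multiset.map_congr rfl
  intro v _
  simp [mul_pow]

lemma adams_sum_mul_sum (P : PosStructure K) (j : ℕ) (s t : Multiset K)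
    (hs : ∀ u ∈ s, P.IsLine u) (ht : ∀ u ∈ t, P.IsLine u) :
    adams P j (s.sum * t.sum) = adams P j s.sum * adams P j t.sum := by
  induction s using Multiset.induction_on with
  | empty => simp [adams_zero]
  | cons a s ih =>
    have ha := hs a (Multiset.mem_cons_self a s)
    have hs' : ∀ u ∈ s, P.IsLine u := fun u hu => hs u (Multiset.mem_cons_of_mem hu)
    rw [Multiset.sum_cons, add_mul, adams_add, adams_add, ih hs', adams_line_mul_sum P j a ha t ht,
      adams_line P a ha, add_mul]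

/-- closure property of a class of λ-rings under splitting -/
def SplitClass (C : Set PosLambdaRing.{u}) : Prop :=
  ∀ L ∈ C, ∀ e ∈ L.posStr.pos, ∃ L' ∈ C, ∃ f : L.carrier →+* L'.carrier,
      IsExtension L.posStr L'.posStr f ∧
      ∃ s : Multiset L'.carrier, (∀ u ∈ s, L'.posStr.IsLine u) ∧ s.sum = f e

lemma adams_mul_pos (C : Set PosLambdaRing.{u}) (hC : SplitClass C) (L : PosLambdaRing.{u}) (hL : L ∈ C)
    (j : ℕ) (e e' : L.carrier) (he : e ∈ L.posStr.pos) (he' : e' ∈ L.posStr.pos) :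
    adams L.posStr j (e * e') = adams L.posStr j e * adams L.posStr j e' := by
  obtain ⟨L₁, hL₁, f₁, hf₁, s₁, hs₁, hsum₁⟩ := hC L hL e he
  obtain ⟨L₂, hL₂, f₂, hf₂, s₂, hs₂, hsum₂⟩ := hC L₁ hL₁ (f₁ e') (hf₁.pos_subset e' he')
  apply hf₁.injective
  apply hf₂.injective
  have hg : ∀ x, f₂ (f₁ (adams L.posStr j x)) = adams L₂.posStr j (f₂ (f₁ x)) := by
    intro x
    rw [map_adams L.posStr L₁.posStr f₁ hf₁, map_adams L₁.posStr L₂.posStr f₂ hf₂]
  rw [hg, map_mul, map_mul, map_mul, map_mul, hg, hg]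
  have h1 : f₂ (f₁ e) = (s₁.map f₂).sum := by
    rw [← hsum₁, map_multiset_sum]
  have hs₁' : ∀ u ∈ s₁.map f₂, L₂.posStr.IsLine u := by
    intro u hu
    obtain ⟨v, hv, rfl⟩ := Multiset.mem_map.1 hu
    exact isLine_map L₁.posStr L₂.posStr f₂ hf₂ v (hs₁ v hv)
  rw [h1, ← hsum₂]
  exact adams_sum_mul_sum L₂.posStr j _ _ hs₁' hs₂

lemma adams_mul (P : PosStructure K) (hK : HasSplitting K P) (j : ℕ) (x y : K) :
    adams P j (x * y) = adams P j x * adams P j y := by
  obtain ⟨C, hKC, hC⟩ := hK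
  have hpos : ∀ e e' : K, e ∈ P.pos → e' ∈ P.pos → adams P j (e * e') = adams P j e * adams P j e' :=
    fun e e' he he' => adams_mul_pos C hC ⟨K, P⟩ hKC j e e' he he'
  have h1 : ∀ e : K, e ∈ P.pos → ∀ y : K, adams P j (e * y) = adams P j e * adams P j y := by
    intro e he y
    obtain ⟨a, b, ha, hb, rfl⟩ := P.exists_sub y
    rw [mul_sub, adams_sub, adams_sub, hpos e a he ha, hpos e b he hb, mul_sub]
  obtain ⟨a, b, ha, hb, rfl⟩ := P.exists_sub x
  rw [sub_mul, adams_sub, adams_sub, h1 a ha, h1 b hb, sub_mul]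

lemma adams_one (P : PosStructure K) (j : ℕ) : adams P j (1 : K) = 1 := by
  rw [adams_line P 1 (isLine_one P), one_pow]

/-- the Adams operation as a ring homomorphism -/
noncomputable def adamsHom (P : PosStructure K) (hK : HasSplitting K P) (j : ℕ) : K →+* K where
  toFun := adams P j
  map_one' := adams_one P j
  map_mul' := adams_mul P hK j
  map_zero' := adams_zero P j
  map_add' := adams_add P j

lemma adams_adams_pos (C : Set PosLambdaRing.{u}) (hC : SplitClass C) (L : PosLambdaRing.{u}) (hL : L ∈ C)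
    (i j : ℕ) (e : L.carrier) (he : e ∈ L.posStr.pos) :
    adams L.posStr i (adams L.posStr j e) = adams L.posStr (i * j) e := by
  obtain ⟨L₁, hL₁, f₁, hf₁, s₁, hs₁, hsum₁⟩ := hC L hL e he
  apply hf₁.injective
  rw [map_adams L.posStr L₁.posStr f₁ hf₁, map_adams L.posStr L₁.posStr f₁ hf₁,
    map_adams L.posStr L₁.posStr f₁ hf₁, ← hsum₁, adams_sum_lines L₁.posStr j s₁ hs₁,
    adams_sum_lines L₁.posStr (i * j) s₁ hs₁, adams_sum_lines L₁.posStr i _ (by
      intro u hu
      obtain ⟨v, hv, rfl⟩ := Multiset.mem_map.1 hu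
      exact isLine_pow L₁.posStr v (hs₁ v hv) j), Multiset.map_map]
  congr 1
  apply Multiset.map_congr rfl
  intro v _
  simp only [Function.comp_apply]
  rw [← pow_mul, mul_comm]

lemma adams_adams (P : PosStructure K) (hK : HasSplitting K P) (i j : ℕ) (x : K) :
    adams P i (adams P j x) = adams P (i * j) x := by
  obtain ⟨C, hKC, hC⟩ := hK
  obtain ⟨a, b, ha, hb, rfl⟩ := P.exists_sub x
  rw [adams_sub, adams_sub, adams_sub, adams_adams_pos C hC ⟨K, P⟩ hKC i j a ha,
    adams_adams_pos C hC ⟨K, P⟩ hKC i j b hb]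

end mult

end Groth.Agent.Helper1.Lambda
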