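import Mathlib

set_option autoImplicit false

namespace Groth.Agent.Helper1.Lattice

open Module

/-- Functionals on a saturated submodule of a finite free ℤ-module extend. -/
theorem extend_of_saturated {L : Type} [AddCommGroup L] [Module.Finite ℤ L] [Module.Free ℤ L]
    (N : Submodule ℤ L) (hN : ∀ (c : ℤ) (x : L), c ≠ 0 → c • x ∈ N → x ∈ N)
    (ψ : Module.Dual ℤ ↥N) : ∃ φ : Module.Dual ℤ L, φ ∘ₗ N.subtype = ψ := by
  classical
  have htf : Module.IsTorsionFree ℤ (L ⧸ N) := by
    rw [Module.isTorsionFree_iff_smul_eq_zero]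
    intro c q hcq
    by_contra hne
    rw [not_or] at hne
    obtain ⟨x, rfl⟩ := Submodule.Quotient.mk_surjective N q
    rw [← Submodule.Quotient.mk_smul, Submodule.Quotient.mk_eq_zero] at hcq
    exact hne.2 ((Submodule.Quotient.mk_eq_zero N).2 (hN c x hne.1 hcq))
  have hfree : Module.Free ℤ (L ⧸ N) := Module.free_of_finite_type_torsion_free'
  obtain ⟨s, hs⟩ := Module.projective_lifting_property N.mkQ LinearMap.id N.mkQ_surjective
  -- retraction
  have hmem : ∀ x : L, x - s (N.mkQ x) ∈ N := by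
    intro x
    rw [← Submodule.Quotient.mk_eq_zero]
    show N.mkQ (x - s (N.mkQ x)) = 0
    have := LinearMap.congr_fun hs (N.mkQ x)
    simp only [LinearMap.comp_apply, LinearMap.id_apply] at this
    rw [map_sub, this, sub_self]
  let ρ : L →ₗ[ℤ] N := LinearMap.codRestrict N (LinearMap.id - s ∘ₗ N.mkQ) (fun x => by
    simpa using hmem x)
  refine ⟨ψ ∘ₗ ρ, ?_⟩
  ext a
  simp only [LinearMap.comp_apply, Submodule.subtype_apply]
  congr 1
  apply Subtype.ext
  simp only [ρ, LinearMap.codRestrict_apply, LinearMap.sub_apply, LinearMap.id_apply,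
    LinearMap.comp_apply, Submodule.mkQ_apply]
  rw [(Submodule.Quotient.mk_eq_zero N).2 a.2, map_zero, sub_zero]

/-- For a positive definite symmetric form on a finite free ℤ-module, `A ⊕ A^⊥` has finite index. -/
theorem exists_smul_mem_sup_orthogonal {L : Type} [AddCommGroup L] [Module.Finite ℤ L]
    [Module.Free ℤ L]
    (B : LinearMap.BilinForm ℤ L) (hpos : ∀ x, x ≠ 0 → 0 < B x x)
    (A : Submodule ℤ L) (y : L) : ∃ n : ℤ, n ≠ 0 ∧ ∃ a ∈ A, n • y - a ∈ B.orthogonal A := by
  classical
  obtain ⟨r, bA⟩ := Submodule.basisOfPid (Module.Free.chooseBasis ℤ L) A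
  let G : Matrix (Fin r) (Fin r) ℤ := fun i j => B (bA i : L) (bA j : L)
  have hexp : ∀ (c : Fin r → ℤ) (i : Fin r),
      B (bA i : L) ((∑ j, c j • bA j : A) : L) = (G.mulVec c) i := by
    intro c i
    rw [Submodule.coe_sum, map_sum, Matrix.mulVec, dotProduct]
    apply Finset.sum_congr rfl
    intro j _
    rw [Submodule.coe_smul, map_smul, smul_eq_mul, mul_comm]
  have hexp' : ∀ (c : Fin r → ℤ) (z : L),
      B ((∑ j, c j • bA j : A) : L) z = ∑ j, c j * B (bA j : L) z := by
    intro c z
    rw [Submodule.coe_sum, map_sum, LinearMap.sum_apply]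
    apply Finset.sum_congr rfl
    intro j _
    rw [Submodule.coe_smul, map_smul, LinearMap.smul_apply, smul_eq_mul]
  have hdet : G.det ≠ 0 := by
    intro h0
    obtain ⟨v, hv, hGv⟩ := Matrix.exists_mulVec_eq_zero_iff.2 h0
    apply hv
    set a : A := ∑ j, v j • bA j with ha
    have h1 : ∀ i, B (bA i : L) (a : L) = 0 := by
      intro i
      rw [ha, hexp v i, hGv]; rfl
    have h2 : B (a : L) (a : L) = 0 := by
      have h := hexp' v (a : L)
      rw [← ha] at h
      rw [h]
      apply Finset.sum_eq_zero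
      intro i _
      rw [h1 i, mul_zero]
    have h3 : (a : L) = 0 := by
      by_contra hne
      exact (hpos _ hne).ne' h2
    have h4 : a = 0 := Subtype.ext h3
    rw [ha] at h4
    have := Fintype.linearIndependent_iff.1 bA.linearIndependent v h4
    funext i
    exact this i
  refine ⟨G.det, hdet, ?_⟩
  let v : Fin r → ℤ := fun i => B (bA i : L) y
  let c : Fin r → ℤ := G.adjugate.mulVec v
  have hGc : G.mulVec c = G.det • v := by
    show G.mulVec (G.adjugate.mulVec v) = _
    rw [Matrix.mulVec_mulVec, Matrix.mul_adjugate, Matrix.smul_mulVec, Matrix.one_mulVec]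
  set a : A := ∑ j, c j • bA j with ha
  refine ⟨a, a.2, ?_⟩
  rw [LinearMap.BilinForm.mem_orthogonal_iff]
  intro a' ha'
  have hbasis : ∀ i, B (bA i : L) (G.det • y - (a : L)) = 0 := by
    intro i
    rw [map_sub, map_smul, ha, hexp c i, hGc]
    simp [v]
  have hrepr := bA.sum_repr ⟨a', ha'⟩
  have : a' = ((∑ i, (bA.repr ⟨a', ha'⟩) i • bA i : A) : L) := by rw [hrepr]
  rw [this, hexp']
  apply Finset.sum_eq_zero
  intro i _
  rw [hbasis i, mul_zero]

/-- For a positive definite form on a finite free ℤ-module and a submodule `A`, a nonzero multiple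
of any functional on `A` is represented by an element of `A`. -/
theorem exists_smul_eq_form {L : Type} [AddCommGroup L] [Module.Finite ℤ L]
    [Module.Free ℤ L]
    (B : LinearMap.BilinForm ℤ L) (hpos : ∀ x, x ≠ 0 → 0 < B x x)
    (A : Submodule ℤ L) (ψ : Module.Dual ℤ ↥A) :
    ∃ n : ℤ, n ≠ 0 ∧ ∃ a ∈ A, ∀ a' : A, n * ψ a' = B (a' : L) a := by
  classical
  obtain ⟨r, bA⟩ := Submodule.basisOfPid (Module.Free.chooseBasis ℤ L) A
  let G : Matrix (Fin r) (Fin r) ℤ := fun i j => B (bA i : L) (bA j : L)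
  have hexp : ∀ (c : Fin r → ℤ) (i : Fin r),
      B (bA i : L) ((∑ j, c j • bA j : A) : L) = (G.mulVec c) i := by
    intro c i
    rw [Submodule.coe_sum, map_sum, Matrix.mulVec, dotProduct]
    apply Finset.sum_congr rfl
    intro j _
    rw [Submodule.coe_smul, map_smul, smul_eq_mul, mul_comm]
  have hexp' : ∀ (c : Fin r → ℤ) (z : L),
      B ((∑ j, c j • bA j : A) : L) z = ∑ j, c j * B (bA j : L) z := by
    intro c z
    rw [Submodule.coe_sum, map_sum, LinearMap.sum_apply]
    apply Finset.sum_congr rfl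
    intro j _
    rw [Submodule.coe_smul, map_smul, LinearMap.smul_apply, smul_eq_mul]
  have hdet : G.det ≠ 0 := by
    intro h0
    obtain ⟨v, hv, hGv⟩ := Matrix.exists_mulVec_eq_zero_iff.2 h0
    apply hv
    set a : A := ∑ j, v j • bA j with ha
    have h1 : ∀ i, B (bA i : L) (a : L) = 0 := by
      intro i
      rw [ha, hexp v i, hGv]; rfl
    have h2 : B (a : L) (a : L) = 0 := by
      have h := hexp' v (a : L)
      rw [← ha] at h
      rw [h]
      apply Finset.sum_eq_zero
      intro i _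
      rw [h1 i, mul_zero]
    have h3 : (a : L) = 0 := by
      by_contra hne
      exact (hpos _ hne).ne' h2
    have h4 : a = 0 := Subtype.ext h3
    rw [ha] at h4
    have := Fintype.linearIndependent_iff.1 bA.linearIndependent v h4
    funext i
    exact this i
  refine ⟨G.det, hdet, ?_⟩
  let v : Fin r → ℤ := fun i => ψ (bA i)
  let c : Fin r → ℤ := G.adjugate.mulVec v
  have hGc : G.mulVec c = G.det • v := by
    show G.mulVec (G.adjugate.mulVec v) = _
    rw [Matrix.mulVec_mulVec, Matrix.mul_adjugate, Matrix.smul_mulVec, Matrix.one_mulVec]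
  obtain ⟨a, ha⟩ : ∃ a : A, a = ∑ j, c j • bA j := ⟨_, rfl⟩
  refine ⟨a, a.2, ?_⟩
  intro a'
  have hbasis : ∀ i, G.det * ψ (bA i) = B (bA i : L) (a : L) := by
    intro i
    rw [ha, hexp c i, hGc]
    simp [v]
  have hrepr := bA.sum_repr a'
  have h1 : (a' : L) = ((∑ i, (bA.repr a') i • bA i : A) : L) := by rw [hrepr]
  rw [h1, hexp']
  conv_lhs => rw [← hrepr]
  rw [map_sum, Finset.mul_sum]
  apply Finset.sum_congr rfl
  intro i _
  rw [map_smul, smul_eq_mul, ← hbasis i]
  ring

end Groth.Agent.Helper1.Lattice
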