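import Mathlib
import Groth.Agent.Helper1.LDualJ
import Groth.Agent.S0342

/-!
# LcExt: over a regular local ring of dimension `r`, `H^i_𝔪(M) = 0 ↔ Ext^{r-i}(M, A) = 0`
-/

set_option autoImplicit false
set_option linter.style.haveILetI false
set_option linter.unusedSectionVars false

universe u

open CategoryTheory Abelian IsLocalRing Opposite

namespace Groth.Agent.Helper1.LcExt

variable (A : Type u) [CommRing A] [IsRegularLocalRing A]
  (M : Type u) [AddCommGroup M] [Module A M] [Module.Finite A M]

theorem subsingleton_lc_iff (r : ℕ) (hr : ringKrullDim A = r) (i : ℕ) (hi : i ≤ r) :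
    Subsingleton (LocCoh.H (maximalIdeal A) i M) ↔
      Subsingleton (Abelian.Ext.{u} (ModuleCat.of A M) (ModuleCat.of A A) (r - i)) := by
  haveI : LocCoh.IsGorensteinLocalRing A := Groth.Agent.S0342.result A
  obtain ⟨g, hg⟩ := Groth.Agent.Helper1.GorTop.exists_isInjectiveHull (R := A) r hr
  obtain ⟨e⟩ := Groth.Agent.Helper1.LDual.nonempty_equiv_oldExt_gorenstein r hr _ g hg M (r - i) i
    (by omega)
  obtain ⟨b⟩ := Groth.Agent.Helper1.ExtBridgeLin.nonempty_linearEquiv
    (ModuleCat.of A M) (ModuleCat.of A A) (r - i)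
  constructor
  · intro h
    have h1 : Subsingleton ((((Ext A (ModuleCat.{u} A) (r - i)).obj
        (op (ModuleCat.of A M))).obj (ModuleCat.of A A)) →ₗ[A]
          LocCoh.H (maximalIdeal A) r A) := e.symm.toEquiv.subsingleton
    have h2 := Groth.Agent.Helper1.LDual.subsingleton_of_dual _ g hg _ h1
    exact b.symm.toEquiv.subsingleton
  · intro h
    have h2 : Subsingleton (((Ext A (ModuleCat.{u} A) (r - i)).obj
        (op (ModuleCat.of A M))).obj (ModuleCat.of A A)) := b.toEquiv.subsingleton
    have h1 : Subsingleton ((((Ext A (ModuleCat.{u} A) (r - i)).obj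
        (op (ModuleCat.of A M))).obj (ModuleCat.of A A)) →ₗ[A]
          LocCoh.H (maximalIdeal A) r A) :=
      ⟨fun φ ψ => LinearMap.ext fun x => by rw [Subsingleton.elim x 0, map_zero, map_zero]⟩
    exact e.toEquiv.subsingleton

end Groth.Agent.Helper1.LcExt
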