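import Mathlib
import Groth.Agent.Helper1.Lef1
import Groth.Agent.Helper1.ZInv2
import Groth.Agent.Helper1.ClopenIdem1
import Groth.Agent.Helper1.ZCon3

set_option autoImplicit false
set_option linter.unusedSectionVars false
set_option linter.style.haveILetI false

/-!
# Lef2: the zero scheme of a regular section of an ample invertible module on a connected proper
scheme with `depth ≥ 2` at the closed points is connected
-/

namespace Groth.Agent.Helper1.Lef

open CategoryTheory Limits AlgebraicGeometry TopologicalSpace Opposite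
open Groth.Agent.Helper1.IdealMul
open Groth.Agent.Helper1.IdealMod (fn ofFn)

universe u

section Idem

variable {Z : Scheme.{u}}

/-- an idempotent global function whose nonvanishing locus is empty is zero -/
theorem eq_zero_of_idem (e : Γ(Z, ⊤)) (he : e * e = e) (h : (Z.basicOpen e : Set Z) = ∅) :
    e = 0 := by
  apply TopCat.Presheaf.section_ext Z.sheaf ⊤
  intro x hx
  have h0 : e * (1 - e) = 0 := by rw [mul_sub, mul_one, he, sub_self]
  set g := (Z.presheaf.germ ⊤ x hx).hom with hg
  have h1 : g e * g (1 - e) = 0 := by rw [← map_mul, h0, map_zero]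
  have h2 : g e + g (1 - e) = 1 := by rw [← map_add, add_sub_cancel, map_one]
  have hne : ¬ IsUnit (g e) := by
    intro hu
    have : x ∈ Z.basicOpen e := (Z.mem_basicOpen_top e x).2 hu
    have : x ∈ (∅ : Set Z) := h ▸ this
    exact this
  have hu : IsUnit (g (1 - e)) := by
    rcases IsLocalRing.isUnit_or_isUnit_of_add_one h2 with h | h
    · exact absurd h hne
    · exact h
  change g e = g 0
  rw [map_zero]
  exact (hu.mul_left_eq_zero).1 h1

/-- on a preconnected scheme the idempotent global functions are `0` and `1` -/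
theorem idem_trivial [PreconnectedSpace Z] (e : Γ(Z, ⊤)) (he : e * e = e) : e = 0 ∨ e = 1 := by
  have hcl := Groth.Agent.Helper1.ClopenIdem.isClopen_basicOpen_of_idempotent e he
  rcases isClopen_iff.1 hcl with h | h
  · exact Or.inl (eq_zero_of_idem e he h)
  · right
    have he' : (1 - e) * (1 - e) = 1 - e := by
      have h0 : e * (1 - e) = 0 := by rw [mul_sub, mul_one, he, sub_self]
      rw [sub_mul, one_mul, h0, sub_zero]
    have h1 : (Z.basicOpen (1 - e) : Set Z) = ∅ := by
      rw [← Groth.Agent.Helper1.ClopenIdem.basicOpen_compl_of_idempotent e he, h, Set.compl_univ]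
    have := eq_zero_of_idem (1 - e) he' h1
    exact (sub_eq_zero.1 this).symm

/-- a scheme whose ring of global functions is isomorphic to that of a connected scheme is
connected -/
theorem connectedSpace_of_bijective {X : Scheme.{u}} [ConnectedSpace X]
    (φ : Γ(X, ⊤) →+* Γ(Z, ⊤)) (hφ : Function.Bijective φ) : ConnectedSpace Z := by
  rw [connectedSpace_iff_clopen]
  constructor
  · by_contra hne
    rw [not_nonempty_iff] at hne
    haveI : Subsingleton Γ(Z, ⊤) := inferInstance
    have h1 : φ 1 = φ 0 := Subsingleton.elim _ _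
    have h2 : (1 : Γ(X, ⊤)) = 0 := hφ.1 h1
    obtain ⟨x⟩ := (inferInstance : Nonempty X)
    haveI : Nontrivial Γ(X, ⊤) := by
      haveI : Nonempty ((⊤ : X.Opens) : Type _) := ⟨⟨x, trivial⟩⟩
      exact X.component_nontrivial ⊤
    exact one_ne_zero h2
  · intro C hC
    obtain ⟨e, he, hCe⟩ := Groth.Agent.Helper1.ClopenIdem.exists_idempotent_of_isClopen C hC
    obtain ⟨e', rfl⟩ := hφ.2 e
    have he' : e' * e' = e' := hφ.1 (by rw [map_mul, he])
    rcases idem_trivial e' he' with h | h
    · left
      rw [← hCe, h, map_zero, Scheme.basicOpen_zero]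
      rfl
    · right
      rw [← hCe, h, map_one, Scheme.basicOpen_of_isUnit _ isUnit_one]
      rfl

end Idem

section Main

variable (k : Type u) [Field k] {X : Scheme.{u}} [X.Over (Spec (CommRingCat.of k))]
  [IsProper (X ↘ (Spec (CommRingCat.of k)))]

include k in
/-- **S7681** -/
theorem connectedSpace_zeroScheme [ConnectedSpace X] (L : X.Modules) (hL : CohB1.IsAmple L)
    (s : Coh.structureModule X ⟶ L) (hs : Mono s)
    (hdepth : ∀ x : X, IsClosed ({x} : Set X) →
      2 ≤ LocCoh.depth (X.presheaf.stalk x) (X.presheaf.stalk x)) :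
    ConnectedSpace ↥(PicF2.zeroScheme L s).subscheme := by
  haveI := hs
  set 𝓘 := PicF2.zeroScheme L s with h𝓘
  have hinv := Groth.Agent.Helper1.ZInv.isInverseOf L s hL.1
  obtain ⟨m₀, hm₀⟩ := main k 𝓘 L hinv hL 1 (fun x hx =>
    lt_of_lt_of_le (by norm_num) (hdepth x hx))
  obtain ⟨hbij, -⟩ := hm₀ m₀ le_rfl
  have h0 : Function.Bijective (Canon.HHlin k (ClSub.toSubscheme (𝓘 ^ (m₀ + 1))) 0) :=
    hbij 0 Nat.one_pos
  -- global sections
  have hΓ : Function.Bijective ((ClSub.toSubscheme (𝓘 ^ (m₀ + 1))).app ⊤) := by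
    have hnat := Groth.Agent.Helper1.ZCon.h0Equiv_HHlin (A := k)
      (ClSub.toSubscheme (𝓘 ^ (m₀ + 1)))
    constructor
    · intro a b hab
      obtain ⟨a', rfl⟩ := (Groth.Agent.Lead.ProperFinA.h0Equiv _).surjective a
      obtain ⟨b', rfl⟩ := (Groth.Agent.Lead.ProperFinA.h0Equiv _).surjective b
      rw [← hnat, ← hnat] at hab
      rw [h0.1 ((Groth.Agent.Lead.ProperFinA.h0Equiv _).injective hab)]
    · intro c
      obtain ⟨c', rfl⟩ := (Groth.Agent.Lead.ProperFinA.h0Equiv _).surjective c
      obtain ⟨a', rfl⟩ := h0.2 c'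
      exact ⟨_, (hnat a').symm⟩
  have hring : Function.Bijective (((𝓘 ^ (m₀ + 1)).subschemeι.app ⊤).hom) := hΓ
  haveI : ConnectedSpace ↥(𝓘 ^ (m₀ + 1)).subscheme :=
    connectedSpace_of_bijective (X := X) (((𝓘 ^ (m₀ + 1)).subschemeι.app ⊤).hom) hring
  -- transfer along the common underlying closed set
  have hr1 : Set.range (𝓘 ^ (m₀ + 1)).subschemeι = (𝓘.support : Set X) := by
    rw [Scheme.IdealSheafData.range_subschemeι]
    rfl
  have hr2 : Set.range 𝓘.subschemeι = (𝓘.support : Set X) :=
    Scheme.IdealSheafData.range_subschemeι 𝓘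
  have hc1 : _root_.IsConnected (Set.range (𝓘 ^ (m₀ + 1)).subschemeι) :=
    isConnected_range (𝓘 ^ (m₀ + 1)).subschemeι.continuous
  rw [hr1, ← hr2, ← Set.image_univ] at hc1
  have hind : Topology.IsInducing 𝓘.subschemeι :=
    𝓘.subschemeι.isEmbedding.isInducing
  rw [connectedSpace_iff_univ]
  exact ⟨Set.image_nonempty.1 hc1.1, hind.isPreconnected_image.1 hc1.2⟩

end Main

end Groth.Agent.Helper1.Lef
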