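import Mathlib
import Groth.Agent.Helper1.FlatCxAR
import Groth.Agent.Helper1.FlatCxArt2
import Groth.Agent.Helper1.HalfExactLength

/-!
# EGA III 7.5.? : exactness of `T_p` over a Noetherian local ring via lengths of
`T_p(A/m^{n+1})` for large `n`
-/

set_option autoImplicit false

namespace Groth.Agent.Helper1.LenCrit

open CategoryTheory CategoryTheory.Limits MonoidalCategory IsLocalRing
open Groth.Agent.Helper1.FlatCx

universe u

section

variable {A : Type u} [CommRing A] [IsLocalRing A]

lemma isFiniteLength_quot_pow [IsNoetherianRing A] (n : ℕ) :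
    IsFiniteLength A (A ⧸ maximalIdeal A ^ n) := by
  rw [isFiniteLength_iff_isNoetherian_isArtinian]
  refine ⟨inferInstance, ?_⟩
  rcases Nat.eq_zero_or_pos n with rfl | hn
  · haveI : Subsingleton (A ⧸ maximalIdeal A ^ 0) := by
      rw [pow_zero, Ideal.one_eq_top]
      exact Ideal.Quotient.subsingleton_iff.mpr rfl
    infer_instance
  · have hmin : maximalIdeal A ∈ (maximalIdeal A ^ n).minimalPrimes := by
      refine ⟨⟨inferInstance, Ideal.pow_le_self hn.ne'⟩, fun q hq _ => ?_⟩
      exact hq.1.le_of_pow_le hq.2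
    haveI := IsLocalRing.quotient_artinian_of_mem_minimalPrimes_of_isLocalRing _ hmin
    exact isArtinian_of_surjective_algebraMap
      (Ideal.Quotient.mk_surjective (I := maximalIdeal A ^ n))

variable (P : ChainComplex (ModuleCat.{u} A) ℤ) (hP : ∀ i, Module.Flat A (P.X i))

/-- Over a local ring every simple module is isomorphic to the residue field. -/
lemma nonempty_iso_residueField_of_simple (M : ModuleCat.{u} A) (h : IsSimpleModule A M) :
    Nonempty (M ≅ ModuleCat.of A (ResidueField A)) := by
  obtain ⟨m, hm, ⟨e⟩⟩ := isSimpleModule_iff_quot_maximal.mp h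
  have : m = maximalIdeal A := IsLocalRing.eq_maximalIdeal hm
  subst this
  exact ⟨e.toModuleIso⟩

lemma length_T_simple (p : ℤ) (M : ModuleCat.{u} A) (h : IsSimpleModule A M) :
    Module.length A ((CohIII.TFun P p).obj M) =
      Module.length A ((CohIII.TFun P p).obj (ModuleCat.of A (ResidueField A))) := by
  obtain ⟨e⟩ := nonempty_iso_residueField_of_simple M h
  exact ((CohIII.TFun P p).mapIso e).toLinearEquiv.length_eq

include hP in
lemma shortExact_map_TFun_of_exact (p : ℤ)
    (h : (CohIII.TFun P p).PreservesMonomorphisms ∧ (CohIII.TFun P p).PreservesEpimorphisms)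
    (S : ShortComplex (ModuleCat.{u} A)) (hS : S.ShortExact) :
    (S.map (CohIII.TFun P p)).ShortExact :=
  haveI := hS.mono_f
  haveI := hS.epi_g
  ShortComplex.ShortExact.mk' (halfExact_TFun P hP p S hS) (h.1.preserves S.f)
    (h.2.preserves S.g)

include hP in
/-- If `T_p` is exact then `length T_p(M) = length T_p(k) · length M` for `M` of finite length. -/
theorem length_T_eq_of_exact (p : ℤ)
    (h : (CohIII.TFun P p).PreservesMonomorphisms ∧ (CohIII.TFun P p).PreservesEpimorphisms)
    (M : ModuleCat.{u} A) (hM : Module.length A M ≠ ⊤) :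
    Module.length A ((CohIII.TFun P p).obj M) =
      Module.length A ((CohIII.TFun P p).obj (ModuleCat.of A (ResidueField A))) *
        Module.length A M := by
  obtain ⟨n, hn⟩ := ENat.ne_top_iff_exists.mp hM
  rw [← hn]
  exact HalfExact.length_eq_mul (CohIII.TFun P p) (shortExact_map_TFun_of_exact P hP p h) _
    (fun M hM => length_T_simple P p M hM) n M hn.symm

/-- the projection `A/m^{n+1} → A/m` -/
noncomputable abbrev gQuot (n : ℕ) : ModuleCat.of A (A ⧸ maximalIdeal A ^ (n + 1)) ⟶
    ModuleCat.of A (A ⧸ maximalIdeal A) :=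
  ModuleCat.ofHom (Ideal.Quotient.factorₐ A
    (Ideal.pow_le_self (I := maximalIdeal A) (Nat.succ_ne_zero n))).toLinearMap

lemma gQuot_surjective (n : ℕ) : Function.Surjective (gQuot (A := A) n).hom := by
  intro y
  obtain ⟨a, rfl⟩ := Ideal.Quotient.mk_surjective y
  exact ⟨Ideal.Quotient.mk _ a, rfl⟩

/-- the sequence `0 → m/m^{n+1} → A/m^{n+1} → A/m → 0` -/
noncomputable def quotSeq (n : ℕ) : ShortComplex (ModuleCat.{u} A) :=
  ShortComplex.mk (ModuleCat.ofHom (LinearMap.ker (gQuot (A := A) n).hom).subtype) (gQuot n)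
    (by ext x; exact x.2)

lemma quotSeq_shortExact (n : ℕ) : (quotSeq (A := A) n).ShortExact := by
  refine ShortComplex.ShortExact.mk' ?_ ?_ ?_
  · rw [ShortComplex.ShortExact.moduleCat_exact_iff_function_exact]
    show Function.Exact (LinearMap.ker (gQuot (A := A) n).hom).subtype (gQuot (A := A) n).hom
    exact LinearMap.exact_subtype_ker_map _
  · exact (ModuleCat.mono_iff_injective _).mpr (Submodule.injective_subtype _)
  · exact (ModuleCat.epi_iff_surjective _).mpr (gQuot_surjective n)

end

section Main

variable {A : Type u} [CommRing A] [IsLocalRing A] [IsNoetherianRing A]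
  (Q : ChainComplex (ModuleCat.{u} A) ℤ)
  (hQ : ∀ i, Module.Finite A (Q.X i) ∧ Module.Flat A (Q.X i))

omit [IsNoetherianRing A] in
lemma isFiniteLength_tensor_residue [IsNoetherianRing A] (M : Type u) [AddCommGroup M] [Module A M]
    [Module.Finite A M] : IsFiniteLength A (TensorProduct A M (ResidueField A)) := by
  have h1 : IsFiniteLength A (TensorProduct A (ResidueField A) M) := by
    rw [isFiniteLength_iff_isNoetherian_isArtinian]
    refine ⟨inferInstance, ?_⟩
    haveI : IsArtinian (ResidueField A) (TensorProduct A (ResidueField A) M) := inferInstance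
    exact isArtinian_of_surjective_algebraMap (R := ResidueField A) (S := A)
      (IsLocalRing.residue_surjective (R := A))
  exact h1.of_surjective (f := (TensorProduct.comm A _ _).toLinearMap)
    (TensorProduct.comm A _ _).surjective

/-- `T_p(k)` has finite length. -/
lemma length_T_residue_ne_top (hfin : ∀ i, Module.Finite A (Q.X i)) (p : ℤ) :
    Module.length A ((CohIII.TFun Q p).obj (ModuleCat.of A (ResidueField A))) ≠ ⊤ := by
  rw [Module.length_ne_top_iff]
  let K := CohIII.tensorObj Q (ModuleCat.of A (ResidueField A))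
  haveI := hfin p
  have h0 : IsFiniteLength A (K.X p) := isFiniteLength_tensor_residue (Q.X p)
  have h1 : IsFiniteLength A (K.cycles p) :=
    h0.of_injective (f := (K.iCycles p).hom) ((ModuleCat.mono_iff_injective _).mp inferInstance)
  exact h1.of_surjective (f := (K.homologyπ p).hom)
    ((ModuleCat.epi_iff_surjective _).mp inferInstance)

include hQ in
theorem surjective_of_length_eq (p : ℤ) (n : ℕ)
    (h : Module.length A ((CohIII.TFun Q p).obj
        (ModuleCat.of A (A ⧸ maximalIdeal A ^ (n + 1)))) =
      Module.length A ((CohIII.TFun Q p).obj (ModuleCat.of A (ResidueField A))) *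
        Module.length A (A ⧸ maximalIdeal A ^ (n + 1))) :
    ((quotSeq (A := A) n).map (CohIII.TFun Q p)).ShortExact := by
  have hflat : ∀ i, Module.Flat A (Q.X i) := fun i => (hQ i).2
  obtain ⟨d, hd'⟩ := ENat.ne_top_iff_exists.mp
    (length_T_residue_ne_top Q (fun i => (hQ i).1) p)
  have hS : ∀ M : ModuleCat.{u} A, IsSimpleModule A M →
      Module.length A ((CohIII.TFun Q p).obj M) ≤ d := by
    intro M hM
    rw [length_T_simple Q p M hM, hd']
  have hfin : Module.length A (quotSeq (A := A) n).X₂ ≠ ⊤ :=
    Module.length_ne_top_iff.mpr (isFiniteLength_quot_pow (n + 1))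
  exact HalfExact.shortExact_of_length_eq (CohIII.TFun Q p) (halfExact_TFun Q hflat p) d hS
    (quotSeq n) (quotSeq_shortExact n) hfin (by rw [hd']; exact h)

include hQ in
theorem exact_of_length_eq (p : ℤ) (n₀ : ℕ)
    (h : ∀ n : ℕ, n₀ ≤ n → Module.length A ((CohIII.TFun Q p).obj
        (ModuleCat.of A (A ⧸ maximalIdeal A ^ (n + 1)))) =
      Module.length A ((CohIII.TFun Q p).obj (ModuleCat.of A (ResidueField A))) *
        Module.length A (A ⧸ maximalIdeal A ^ (n + 1))) :
    (CohIII.TFun Q p).PreservesMonomorphisms ∧ (CohIII.TFun Q p).PreservesEpimorphisms := by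
  have hflat : ∀ i, Module.Flat A (Q.X i) := fun i => (hQ i).2
  have hse := fun n (hn : n₀ ≤ n) => surjective_of_length_eq Q hQ p n (h n hn)
  have hepi : (CohIII.TFun Q p).PreservesEpimorphisms := by
    apply preservesEpi_of_surjective_large Q hQ p n₀
    intro n hn
    exact (ModuleCat.epi_iff_surjective _).mp (hse n hn).epi_g
  refine ⟨?_, hepi⟩
  have hrel : (ComplexShape.down ℤ).Rel (p + 1) p := rfl
  rw [← preservesEpi_iff_preservesMono Q hflat (p + 1) p hrel]
  apply preservesEpi_of_surjective_large Q hQ (p + 1) n₀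
  intro n hn
  have hmono : Mono ((CohIII.TFun Q p).map (quotSeq (A := A) n).f) := (hse n hn).mono_f
  have hδ : δ Q hflat (quotSeq_shortExact (A := A) n) (p + 1) p hrel = 0 := by
    rw [← cancel_mono ((CohIII.TFun Q p).map (quotSeq (A := A) n).f), zero_comp]
    exact δ_comp Q hflat (quotSeq_shortExact n) (p + 1) p hrel
  have hex := exact₃ Q hflat (quotSeq_shortExact (A := A) n) (p + 1) p hrel
  have : Epi ((CohIII.TFun Q (p + 1)).map (quotSeq (A := A) n).g) := hex.epi_f hδ
  exact (ModuleCat.epi_iff_surjective _).mp this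

include hQ in
theorem exact_iff_length (p : ℤ) :
    ((CohIII.TFun Q p).PreservesMonomorphisms ∧ (CohIII.TFun Q p).PreservesEpimorphisms) ↔
      ∃ n₀ : ℕ, ∀ n : ℕ, n₀ ≤ n → Module.length A ((CohIII.TFun Q p).obj
          (ModuleCat.of A (A ⧸ maximalIdeal A ^ (n + 1)))) =
        Module.length A ((CohIII.TFun Q p).obj (ModuleCat.of A (ResidueField A))) *
          Module.length A (A ⧸ maximalIdeal A ^ (n + 1)) := by
  constructor
  · intro h
    refine ⟨0, fun n _ => ?_⟩
    exact length_T_eq_of_exact Q (fun i => (hQ i).2) p h _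
      (Module.length_ne_top_iff.mpr (isFiniteLength_quot_pow (n + 1)))
  · rintro ⟨n₀, h⟩
    exact exact_of_length_eq Q hQ p n₀ h

end Main

end Groth.Agent.Helper1.LenCrit
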