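import Mathlib
import Groth.Agent.Helper1.GammaLin1
import Groth.Agent.Helper1.Bridge4

/-!
# `A`-linearity of the bridge `T_{-p}(N) ≅ H^p(X, f^*(N~) ⊗ F)`
-/

set_option autoImplicit false

namespace Groth.Agent.Helper1.LenCrit

open CategoryTheory Limits Opposite TopologicalSpace AlgebraicGeometry
open Groth.Agent.Helper1.TensSec Groth.Agent.Helper1.GammaLin

universe u

variable (A : Type u) [CommRing A] {X : Scheme.{u}} [X.Over (Spec (CommRingCat.of A))]
  (F : X.Modules)

/-- the functor `N ↦ f^*(N~) ⊗ F` sends the homothety `a` of `N` to the homothety `a` -/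
theorem tensorA_map_smul [F.IsQuasicoherent] (M : ModuleCat.{u} A) (a : A) :
    (CohIII.tensorAFunctor A F).map (a • 𝟙 M) =
      Formal.smulModΓ ((CohIII.tensorAFunctor A F).obj M)
        (Coh.toGlobal (X ↘ Spec (CommRingCat.of A)) a) := by
  apply Groth.Agent.Helper1.QH.modHom_ext_affine
  intro U hU
  ext t
  exact gmMap_smul_app A F M a hU t

end Groth.Agent.Helper1.LenCrit

namespace Groth.Agent.Helper1.LenCrit

open CategoryTheory Limits Opposite TopologicalSpace AlgebraicGeometry

universe u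

variable (A : Type u) [CommRing A] {X : Scheme.{u}} [X.Over (Spec (CommRingCat.of A))]
  (F : X.Modules)

/-- the bridge is `A`-linear -/
theorem nonempty_linearEquiv_of_bridge [F.IsQuasicoherent]
    (G : ModuleCat.{u} A ⥤ ModuleCat.{u} A)
    (hG : ∀ (N : ModuleCat.{u} A) (a : A), G.map (a • 𝟙 N) = a • 𝟙 (G.obj N))
    (p : ℕ)
    (e : G ⋙ forget₂ (ModuleCat.{u} A) AddCommGrpCat.{u} ≅
      CohIII.tensorAFunctor A F ⋙ CohIII.HAb X p)
    (N : ModuleCat.{u} A) :
    Nonempty (G.obj N ≃ₗ[A] Coh.HH X ((CohIII.tensorAFunctor A F).obj N) p) := by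
  let ψ : G.obj N ≃+ Coh.HH X ((CohIII.tensorAFunctor A F).obj N) p :=
    (e.app N).addCommGroupIsoToAddEquiv
  refine ⟨{ ψ with map_smul' := fun a x => ?_ }⟩
  have nat := e.hom.naturality (a • 𝟙 N)
  have h1 := congrArg (fun k => k.hom x) nat
  simp only [Functor.comp_map, AddCommGrpCat.hom_comp, AddMonoidHom.coe_comp,
    Function.comp_apply] at h1
  rw [tensorA_map_smul, hG] at h1
  exact h1

end Groth.Agent.Helper1.LenCrit
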