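import Mathlib
import Groth.Agent.S0825
import Groth.Agent.S0827
import Groth.Agent.S8842
import Groth.Agent.Helper1.LimAdic
import Groth.Agent.Helper6.GrMapPoly

/-!
# LimAdic2: the limit topology on `lim H^p(X, G_n)` is adic when `cd(A, I) = 1` (S0842)
-/

set_option autoImplicit false
set_option linter.style.haveILetI false
set_option linter.unusedSectionVars false

universe u

open CategoryTheory CategoryTheory.Limits AlgebraicGeometry Opposite Abelian

namespace Groth.Agent.Helper1.LimAdic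

attribute [local instance] CategoryTheory.Abelian.hasFiniteBiproducts

theorem limit_topology_adic (A : Type u) [CommRing A] [IsNoetherianRing A] (I : Ideal A)
    (h₁ : LocCoh.CdLE A I 1) (h₀ : ¬ LocCoh.CdLE A I 0) (X : Scheme.{u}) [X.Over (Spec (CommRingCat.of A))]
    [IsNoetherian X] (G : ℕᵒᵖ ⥤ X.Modules) (hG : Formal.IsCohFormal I G) (p m : ℕ) :
    ∃ c : ℕ, ∀ x : ∀ n, Coh.HH X (G.obj (op n)) p,
      (∀ n, Formal2.HHsysMap G p n (x (n + 1)) = x n) → x c = 0 →
        ∃ (k : ℕ) (a : Fin k → A) (y : Fin k → ∀ n, Coh.HH X (G.obj (op n)) p),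
          (∀ i, a i ∈ I ^ m ∧ ∀ n, Formal2.HHsysMap G p n (y i (n + 1)) = y i n) ∧ x = ∑ i, a i • y i := by
  classical
  obtain ⟨r, f, hf⟩ := Submodule.fg_iff_exists_fin_generating_family.1 (IsNoetherian.noetherian I)
  have hI : I = Ideal.span (Set.range f) := hf.symm
  subst hI
  have hIfg : (Ideal.span (Set.range f)).FG := IsNoetherian.noetherian _
  have hGq : Formal2.IsQCohFormal (Ideal.span (Set.range f)) G :=
    ⟨fun n => (hG.1 n).1, hG.2.1, hG.2.2⟩
  obtain ⟨c₀, φ, hφ⟩ := Groth.Agent.S0825.result A r f h₁ h₀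
  obtain ⟨c', hcc', H⟩ := Groth.Agent.S8842.result A r f _ rfl h₁ h₀ (c₀ + 1)
    (Nat.le_add_left 1 c₀) φ hφ X G hG
  let φ' : Fin r → (↥(Ideal.span (Set.range f) ^ c') →ₗ[A] A) := fun j =>
    (φ j) ∘ₗ Submodule.inclusion (Ideal.pow_le_pow_right hcc')
  obtain ⟨ΦF, -, hΦF, -⟩ := H (Groth.Agent.Helper6.GrMapPoly.Phi _ c' φ')
    ⟨fun n g hg h hh => Groth.Agent.Helper6.GrMapPoly.Phi_add φ' n g h hg hh,
      fun n a g hg => Groth.Agent.Helper6.GrMapPoly.Phi_smul φ' n a g hg,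
      fun n g hg => Groth.Agent.Helper6.GrMapPoly.Phi_homog φ' n g hg,
      fun n m g hg h hh => Groth.Agent.Helper6.GrMapPoly.Phi_mul φ' n m g h hg hh,
      fun a => Groth.Agent.Helper6.GrMapPoly.Phi_zero _ c' φ' a,
      fun g hg => Groth.Agent.Helper6.GrMapPoly.Phi_one φ' g hg⟩ m
  refine ⟨m * c', fun x hx hxc => ?_⟩
  obtain ⟨ξ, hξ⟩ := Groth.Agent.Helper1.LimAdic.exists_lift hGq p x hx
  obtain ⟨l, hl⟩ := Groth.Agent.Helper1.LimAdic.exists_factor hIfg hGq (m * c') (m * c')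
    (Nat.le_succ _)
  haveI : Epi (limit.π G (op (m * c'))) :=
    (Groth.Agent.Helper1.LimSec.isQuot_limit_π hIfg hGq (m * c')).epi
  obtain ⟨ζ, hζ⟩ := Groth.Agent.Helper1.LimAdic.exists_decomp (limit.π G (op (m * c'))) (m * c')
    l hl (fun e : ↥(Finset.Nat.antidiagonalTuple r m) => ∏ j, f j ^ (e.1 j)) ΦF hΦF p ξ
    (by rw [hξ]; exact hxc)
  let eq := Fintype.equivFin ↥(Finset.Nat.antidiagonalTuple r m)
  refine ⟨Fintype.card ↥(Finset.Nat.antidiagonalTuple r m),
    fun i => ∏ j, f j ^ ((eq.symm i).1 j),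
    fun i n => Canon.HHlin A (limit.π G (op n)) p (ζ (eq.symm i)), ?_, ?_⟩
  · intro i
    refine ⟨?_, fun n => ?_⟩
    · have hsum : ∑ j, (eq.symm i).1 j = m := Finset.Nat.mem_antidiagonalTuple.1 (eq.symm i).2
      have h1 : ∏ j, f j ^ ((eq.symm i).1 j) ∈
          ∏ j, (Ideal.span (Set.range f)) ^ ((eq.symm i).1 j) :=
        Ideal.prod_mem_prod (fun j _ => Ideal.pow_mem_pow (Ideal.subset_span (Set.mem_range_self j)) _)
      rwa [Finset.prod_pow_eq_pow_sum, hsum] at h1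
    · show Canon.HHlin A (G.map (homOfLE (Nat.le_succ n)).op) p
        (Canon.HHlin A (limit.π G (op (n + 1))) p (ζ (eq.symm i))) = _
      rw [← Groth.Agent.Helper1.GrSh.HHlin_comp, limit.w]
  · funext n
    rw [← hξ n, hζ, map_sum, Finset.sum_apply, ← eq.symm.sum_comp]
    refine Finset.sum_congr rfl (fun i _ => ?_)
    rw [map_smul]
    rfl

end Groth.Agent.Helper1.LimAdic
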