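import Mathlib
import Groth.Agent.Helper1.LimProp2
import Groth.Agent.Helper1.HomDual2
import Groth.Agent.Lead.GlobGen
import Groth.Agent.Lead.HomShH

/-!
# LimProp3: on a quasi-affine scheme, `H⁰ = lim H⁰` for `O` implies it for finite locally free modules
-/

set_option autoImplicit false
set_option linter.style.haveILetI false
set_option linter.unusedSectionVars false

universe u

open CategoryTheory CategoryTheory.Limits AlgebraicGeometry Opposite

namespace Groth.Agent.Helper1.LimProp

open Groth.Agent.Helper1.Form Groth.Agent.Helper1.FLFCompl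

variable {X : Scheme.{u}}

/-- on a quasi-affine scheme every quasi-coherent module has a presentation by free modules -/
theorem exists_presentation [X.IsQuasiAffine] (F : X.Modules) [F.IsQuasicoherent] :
    ∃ (ι κ : Type u) (u : (SheafOfModules.free κ : X.Modules) ⟶ SheafOfModules.free ι)
      (p : (SheafOfModules.free ι : X.Modules) ⟶ F), Epi p ∧ u ≫ p = 0 ∧
        ∀ {Z : X.Modules} (σ : (SheafOfModules.free ι : X.Modules) ⟶ Z), u ≫ σ = 0 →
          ∃ φ : F ⟶ Z, p ≫ φ = σ := by
  obtain ⟨ι, p, hp⟩ :=
    Groth.Agent.Helper4.QuasiAffineGG.isGloballyGenerated_of_isOpenImmersion_Spec X.toSpecΓ F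
  haveI := hp
  haveI : (SheafOfModules.free ι : X.Modules).IsQuasicoherent :=
    Groth.Agent.Lead.GlobGen.isQuasicoherent_free ι
  have hK : SheafOfModules.IsQuasicoherent.{u, u, u} (kernel p) :=
    Groth.Agent.Helper4.QcohLimits.isQuasicoherent_kernel p
  obtain ⟨κ, v, hv⟩ :=
    @Groth.Agent.Helper4.QuasiAffineGG.isGloballyGenerated_of_isOpenImmersion_Spec _ X X.toSpecΓ
      _ _ (kernel p) hK
  haveI := hv
  refine ⟨ι, κ, v ≫ kernel.ι p, p, hp, (Category.assoc _ _ _).trans
    ((congrArg (fun z => v ≫ z) (kernel.condition p)).trans comp_zero), ?_⟩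
  intro Z σ hσ
  have h0 : kernel.ι p ≫ σ = 0 :=
    (cancel_epi v).1 ((Category.assoc _ _ _).symm.trans (hσ.trans comp_zero.symm))
  exact ⟨Abelian.epiDesc p σ h0, Abelian.comp_epiDesc p σ h0⟩

variable {A : Type u} [CommRing A] [X.Over (Spec (CommRingCat.of A))]

/-- **on a quasi-affine Noetherian scheme, `H⁰ = lim H⁰` for `O` implies the same for every finite
locally free module** -/
theorem limProp_of_isFinLocFree [X.IsQuasiAffine] [IsNoetherian X] (I : Ideal A)
    (h : LimProp (Coh.structureModule X) (modSys I (Coh.structureModule X)))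
    (E : X.Modules) (hE : FlatMod.IsFinLocFree E) :
    LimProp (Coh.structureModule X) (modSys I E) := by
  let TD : X.Modules ⥤ X.Modules := DCoh.tensorBi.obj (RefHull.dual E)
  let TE : X.Modules ⥤ X.Modules := DCoh.tensorBi.obj E
  have hfree : ∀ ι : Type u, LimProp (SheafOfModules.free ι : X.Modules)
      (modSys I (Coh.structureModule X)) := fun ι =>
    LimProp.sigma (fun _ : ι => Coh.structureModule X) (fun _ => h)
  -- `E^∨ ⊗ O` is quasi-coherent
  have hD : Coh.IsCoh (TD.obj (Coh.structureModule X)) :=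
    Groth.Agent.Lead.Ref1B.isCoh_tensorMod _ _
      (HomDual.isCoh_of_isFinLocFree _ (Groth.Agent.Lead.FLFDual.isFinLocFree_dual E hE))
      (Groth.Agent.Lead.HomShH.isCoh_unit X)
  haveI := hD.1
  obtain ⟨ι, κ, u, p, hp, w, hfac⟩ := exists_presentation (TD.obj (Coh.structureModule X))
  haveI := hp
  have h1 : LimProp (TD.obj (Coh.structureModule X)) (modSys I (Coh.structureModule X)) :=
    LimProp.of_cokernel u p hfac w (hfree ι) (hfree κ).inj
  have h2 : LimProp (Coh.structureModule X) ((modSys I (Coh.structureModule X)).map TE) :=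
    (limProp_adj_iff (Groth.Agent.Lead.FLFDual.adjDual E hE) _ _).1 h1
  refine limProp_of_isQuot I _ E _ (HomDual.uR E) (fun k => ?_) h2
  exact isQuot_map_of_adj (Groth.Agent.Lead.FLFDual.adjDual' E hE)
    (isQuot_modPowπ I (k + 1) (Coh.structureModule X))

end Groth.Agent.Helper1.LimProp
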