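import Groth.Agent.Helper1.CohTopLeray
import Groth.Agent.Helper1.CohTopFun
import Mathlib

/-!
# Degenerate Leray over an open: `Hⁿ(f⁻¹ O, F) ≅ Hⁿ(O, f_* F)` when `R^q f_* F = 0` for `q > 0`
-/

set_option autoImplicit false

namespace Groth.Agent.Helper1.Loc

open CategoryTheory Limits Opposite TopologicalSpace Abelian
open Groth.Agent.Lead.CohTopB
open Groth.Agent.Helper1.DeltaCmp
open Groth.Agent.Helper1.CechTop
open Groth.Agent.Helper1.CohTopExt
open Groth.Agent.Helper1.CohTopFun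

universe u

variable {X Y : TopCat.{u}} (f : X ⟶ Y)

/-- flasque sheaves are acyclic over every open -/
lemma isZero_HUSeq_of_isFlasque (T : Opens X) (F : CohTop.Ab X) [hF : TopCat.Sheaf.IsFlasque F]
    (n : ℕ) : IsZero ((HUSeq T (n + 1)).obj F) := by
  obtain ⟨e⟩ := nonempty_iso_HU_restr T (n + 1) F
  refine IsZero.of_iso ?_ e
  have : Subsingleton ((HrSeq T (n + 1)).obj F) := Groth.Agent.S0453.result (CohTop.restr F T) n
  exact AddCommGrpCat.isZero_of_subsingleton _

/-- the derived functors of `F ↦ Γ(O, f_* F)` -/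
noncomputable abbrev HUpSeq (O : Opens Y) (n : ℕ) : CohTop.Ab X ⥤ AddCommGrpCat.{u} :=
  extSeq (CohTop.push f) (freeU O) n

/-- `H⁰(O, f_* F) ≅ F(f⁻¹ O)`, naturally in `F` -/
noncomputable def hup0Iso (O : Opens Y) :
    HUpSeq f O 0 ≅ sectionsFunctor ((Opens.map f).obj O) :=
  Functor.isoWhiskerLeft (CohTop.push f) (ext0Iso O) ≪≫
    NatIso.ofComponents (fun F => Iso.refl _) (by intros; rfl)

lemma isZero_HUpSeq_of_injective (O : Opens Y) (I : CohTop.Ab X) [Injective I] (n : ℕ) :
    IsZero ((HUpSeq f O (n + 1)).obj I) := by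
  have : TopCat.Sheaf.IsFlasque I := isFlasque_of_injective I
  have : TopCat.Sheaf.IsFlasque ((CohTop.push f).obj I) :=
    TopCat.Sheaf.IsFlasque.pushforward_isFlasque I f
  exact isZero_HUSeq_of_isFlasque O ((CohTop.push f).obj I) n

theorem nonempty_iso_HU_push_of_acyclic (O : Opens Y) (n : ℕ) (F : CohTop.Ab X)
    (h : ∀ q : ℕ, IsZero ((CohTop.Rpush f (q + 1)).obj F)) :
    Nonempty ((HUSeq ((Opens.map f).obj O) n).obj F ≅ (HUpSeq f O n).obj F) := by
  have e : HUSeq ((Opens.map f).obj O) 0 ≅ HUpSeq f O 0 :=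
    ext0Iso ((Opens.map f).obj O) ≪≫ (hup0Iso f O).symm
  have key : ∀ F : CohTop.Ab X, (∀ q : ℕ, IsZero ((CohTop.Rpush f (q + 1)).obj F)) →
      Nonempty (Effacement (fun n => HUSeq ((Opens.map f).obj O) n) (fun n => HUpSeq f O n)
        (fun F => ∀ q : ℕ, IsZero ((CohTop.Rpush f (q + 1)).obj F)) F) := by
    intro F hF
    obtain ⟨S, hS, hI, rfl⟩ : ∃ (S : ShortComplex (CohTop.Ab X)) (_ : S.ShortExact)
        (_ : Injective S.X₂), S.X₁ = F := ⟨injSC F, injSC_shortExact F, inferInstance, rfl⟩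
    have l1 : HasLES (fun n => HUSeq ((Opens.map f).obj O) n) S :=
      hasLES_extSeq (𝟭 (CohTop.Ab X)) (freeU ((Opens.map f).obj O)) S hS
    have l2 : HasLES (fun n => HUpSeq f O n) S :=
      hasLES_extSeq' (CohTop.push f) (freeU O) S
        (DerLES.shortExact_map (CohTop.push f) S hS (hF 0))
    exact ⟨{
      S := S
      iso := rfl
      mem := fun q => DerLES.isZero_rightDerived_X₃ (CohTop.push f) S hS q
        (Functor.isZero_rightDerived_obj_injective_succ _ _ _) (hF (q + 1))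
      zero := fun n => isZero_HUSeq_of_injective _ _ n
      zero' := fun n => isZero_HUpSeq_of_injective f O _ n
      les := l1
      les' := l2 }⟩
  exact nonempty_iso _ e key n F h

end Groth.Agent.Helper1.Loc
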