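import Groth.Agent.Helper1.SerreH
import Groth.Agent.Helper1.CohTopLeray
import Groth.Agent.Helper4.QcohLimits
import Groth.Agent.Helper4.SubSec

/-!
# Embedding a quasi-coherent module into an acyclic quasi-coherent module
-/

set_option autoImplicit false

namespace Groth.Agent.Helper1.Serre

open CategoryTheory Limits Opposite TopologicalSpace AlgebraicGeometry Abelian
open Groth.Agent.Helper1.CohTopFun Groth.Agent.Helper1.CohTopExt

universe u

variable {X : Scheme.{u}}

/-- the inclusion of an affine open is an affine morphism when affine opens have affine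
intersections -/
lemma isAffineHom_ι (hd : ∀ V W : X.Opens, IsAffineOpen V → IsAffineOpen W → IsAffineOpen (V ⊓ W))
    {U : X.Opens} (hU : IsAffineOpen U) : IsAffineHom U.ι := by
  constructor
  intro V hV
  rw [← U.ι.isAffineOpen_iff_of_isOpenImmersion, Scheme.Hom.image_preimage_eq_opensRange_inf,
    Scheme.Opens.opensRange_ι]
  exact hd U V hU hV

/-- cohomology of `j_* N` for an affine morphism `j` from an affine scheme vanishes -/
lemma isZero_HSeq_push_of_isAffineHom {Y : Scheme.{u}} [IsAffine Y] (j : Y ⟶ X) [IsAffineHom j]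
    (N : Y.Modules) [N.IsQuasicoherent] (p : ℕ) :
    IsZero ((HSeq (p + 1)).obj (Coh.toAb ((Scheme.Modules.pushforward j).obj N))) := by
  obtain ⟨e⟩ := nonempty_iso_H_push_of_acyclic j.base (p + 1) (Coh.toAb N)
    (fun q => isZero_RpushAb_of_isAffineHom j N q)
  refine IsZero.of_iso ?_ e.symm
  have : Subsingleton (Coh.HH Y N (p + 1)) := subsingleton_HH_of_isAffine N p
  exact @AddCommGrpCat.isZero_of_subsingleton _ this

/-- an additive functor kills finite biproducts of objects it kills -/
lemma isZero_map_biproduct {C D : Type*} [Category C] [Category D] [Preadditive C]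
    [Preadditive D] (G : C ⥤ D) [G.Additive] {ι : Type} [Fintype ι] (N : ι → C)
    [HasBiproduct N] (h : ∀ i, IsZero (G.obj (N i))) : IsZero (G.obj (⨁ N)) := by
  classical
  rw [IsZero.iff_id_eq_zero, ← G.map_id, ← biproduct.total, G.map_sum]
  apply Finset.sum_eq_zero
  intro i _
  rw [G.map_comp]
  rw [(h i).eq_of_tgt (G.map (biproduct.π N i)) 0, zero_comp]

end Groth.Agent.Helper1.Serre

namespace Groth.Agent.Helper1.Serre

open CategoryTheory Limits Opposite TopologicalSpace AlgebraicGeometry Abelian
open Groth.Agent.Helper1.CohTopFun Groth.Agent.Helper1.CohTopExt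

universe u

variable {X : Scheme.{u}}

/-- **S0011** -/
theorem exists_mono_acyclic [CompactSpace X]
    (hd : ∀ V W : X.Opens, IsAffineOpen V → IsAffineOpen W → IsAffineOpen (V ⊓ W))
    (M : X.Modules) [M.IsQuasicoherent] :
    ∃ (M' : X.Modules) (i : M ⟶ M'), Mono i ∧ M'.IsQuasicoherent ∧
      ∀ p : ℕ, 0 < p → Subsingleton (Coh.HH X M' p) := by
  classical
  obtain ⟨s, hs, hsup⟩ := exists_finset_affine_sup (⊤ : X.Opens) isCompact_univ
  let e : Fin s.card ≃ s := s.equivFin.symm
  let U : Fin s.card → X.Opens := fun k => (e k).1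
  have hU : ∀ k, IsAffineOpen (U k) := fun k => hs _ (e k).2
  have hcov : ∀ x : X, ∃ k, x ∈ U k := by
    intro x
    have hx : x ∈ s.sup id := by rw [hsup]; trivial
    obtain ⟨V, hV, hxV⟩ := exists_mem_of_mem_finset_sup s x hx
    refine ⟨e.symm ⟨V, hV⟩, ?_⟩
    show x ∈ (e (e.symm ⟨V, hV⟩)).1
    rw [Equiv.apply_symm_apply]
    exact hxV
  have haff : ∀ k, IsAffineHom (U k).ι := fun k => isAffineHom_ι hd (hU k)
  let N : Fin s.card → X.Modules := fun k =>
    (Scheme.Modules.pushforward (U k).ι).obj ((Scheme.Modules.restrictFunctor (U k).ι).obj M)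
  let φ : ∀ k, M ⟶ N k := fun k => (Scheme.Modules.restrictAdjunction (U k).ι).unit.app M
  have hNq : ∀ k, (N k).IsQuasicoherent := by
    intro k
    haveI := haff k
    haveI : IsAffine (U k).toScheme := hU k
    exact Groth.Agent.Helper4.QcohGlue.isQuasicoherent_pushforward (U k).ι _
  haveI : HasFiniteBiproducts X.Modules := HasFiniteBiproducts.of_hasFiniteProducts
  haveI : HasBiproduct N := HasBiproductsOfShape.has_biproduct N
  refine ⟨⨁ N, biproduct.lift φ, ?_, ?_, ?_⟩
  · -- mono
    apply Groth.Agent.Helper4.SubSec.mono_of_app_injective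
    intro T
    rw [injective_iff_map_eq_zero]
    intro m hm
    have hk : ∀ k, (φ k).app T m = 0 := by
      intro k
      have h1 : φ k = biproduct.lift φ ≫ biproduct.π N k := (biproduct.lift_π φ k).symm
      rw [h1, Scheme.Modules.Hom.comp_app, ConcreteCategory.comp_apply, hm, map_zero]
    have hle : ∀ k, (U k).ι ''ᵁ ((U k).ι ⁻¹ᵁ T) ≤ T := fun k => (U k).ι.image_preimage_le T
    refine TopCat.Sheaf.eq_of_locally_eq' (Coh.toAb M)
      (fun k => (U k).ι ''ᵁ ((U k).ι ⁻¹ᵁ T)) T (fun k => homOfLE (hle k)) ?_ _ _ ?_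
    · intro x hx
      obtain ⟨k, hk⟩ := hcov x
      refine Opens.mem_iSup.2 ⟨k, ?_⟩
      rw [Scheme.Hom.image_preimage_eq_opensRange_inf, Scheme.Opens.opensRange_ι]
      exact ⟨hk, hx⟩
    · intro k
      refine (hk k).trans ?_
      exact (map_zero _).symm
  · -- quasi-coherent
    have h : (∏ᶜ N).IsQuasicoherent :=
      Groth.Agent.Helper4.QcohLimits.isQuasicoherent_limit (Discrete.functor N)
        (fun j => hNq j.as)
    exact Groth.Agent.Helper4.QcohLimits.isQuasicoherent_of_iso (biproduct.isoProduct N).symm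
      (hF := h)
  · -- acyclic
    intro p hp
    obtain ⟨q, rfl⟩ : ∃ q, p = q + 1 := ⟨p - 1, by omega⟩
    let G : X.Modules ⥤ AddCommGrpCat.{u} :=
      (show X.Modules ⥤ CohTop.Ab X from SheafOfModules.toSheaf X.ringCatSheaf) ⋙ HSeq (q + 1)
    haveI : G.Additive := by
      haveI : (show X.Modules ⥤ CohTop.Ab X from SheafOfModules.toSheaf X.ringCatSheaf).Additive :=
        inferInstanceAs (SheafOfModules.toSheaf X.ringCatSheaf).Additive
      infer_instance
    have hz : IsZero (G.obj (⨁ N)) := by
      apply isZero_map_biproduct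
      intro k
      haveI := haff k
      haveI : IsAffine (U k).toScheme := hU k
      exact isZero_HSeq_push_of_isAffineHom (U k).ι _ q
    exact AddCommGrpCat.subsingleton_of_isZero hz

end Groth.Agent.Helper1.Serre
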