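import Groth.Agent.Helper1.Loc2
import Groth.Agent.Helper1.HHLes
import Groth.Agent.Helper4.QcqsMod
import Groth.Agent.Helper1.Dev16
import Groth.Agent.Helper4.QcohLimits
import Mathlib

/-!
# Vanishing of cohomology passes to the basic opens of global functions
-/

set_option autoImplicit false

namespace Groth.Agent.Helper1.Loc

open CategoryTheory Limits Opposite TopologicalSpace AlgebraicGeometry Abelian
open Groth.Agent.Helper1.CohTopFun Groth.Agent.Helper1.CohTopExt Groth.Agent.Helper1.Serre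
open Groth.Agent.Helper1.DeltaCmp Groth.Agent.Helper1.SerreCrit Groth.Agent.Lead.CohTopB

universe u

variable {X : Scheme.{u}}

/-- surjectivity on global sections passes to `X_β` -/
theorem surjective_app_basicOpen [CompactSpace X] [QuasiSeparatedSpace X] {F G : X.Modules}
    [G.IsQuasicoherent] (g : F ⟶ G) (hg : Function.Surjective (g.app ⊤)) (β : Γ(X, ⊤)) :
    Function.Surjective (g.app (X.basicOpen β)) := by
  intro t
  obtain ⟨n, m, hm⟩ := Groth.Agent.Helper4.QcqsMod.exists_pow_smul_eq_res_of_qcqs G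
    (U := ⊤) isCompact_univ isQuasiSeparated_univ β t
  obtain ⟨s', hs'⟩ := hg m
  set b : Γ(X, X.basicOpen β) := X.presheaf.map (homOfLE (X.basicOpen_le β)).op (β ^ n) with hb
  have hbu : IsUnit b := by
    rw [hb, map_pow]
    exact (X.toRingedSpace.isUnit_res_basicOpen β).pow n
  obtain ⟨u, hu⟩ := hbu
  refine ⟨(↑u⁻¹ : Γ(X, X.basicOpen β)) •
    F.presheaf.map (homOfLE (X.basicOpen_le β)).op s', ?_⟩
  rw [Scheme.Modules.Hom.app_smul, Groth.Agent.Helper4.StalkExact.app_res, hs', ← hm, ← hu,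
    smul_smul, Units.inv_mul, one_smul]


/-- `X = X_1` -/
lemma basicOpen_one_eq_top : X.basicOpen (1 : Γ(X, ⊤)) = ⊤ := by
  rw [Scheme.basicOpen_of_isUnit _ isUnit_one]

/-- `H¹` over `W` vanishes when the middle term is acyclic and sections over `W` of the last map
are surjective -/
lemma subsingleton_ext_one {S : ShortComplex (CohTop.Ab X)} (hS : S.ShortExact) (W : Opens X)
    (h2 : Subsingleton (Ext (freeU W) S.X₂ 1))
    (hsurj : Function.Surjective (S.g.hom.app (op W))) :
    Subsingleton (Ext (freeU W) S.X₁ 1) := by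
  refine subsingleton_of_forall_eq 0 fun x₁ => ?_
  obtain ⟨x₃, hx₃⟩ := Ext.covariant_sequence_exact₁ (freeU W) hS x₁ (Subsingleton.elim _ _)
    (zero_add 1)
  obtain ⟨φ, rfl⟩ := (Ext.mk₀_bijective _ _).2 x₃
  obtain ⟨s, hs⟩ := hsurj (Groth.Agent.Lead.CohTopB.homEquiv W S.X₃ φ)
  let ψ : freeU W ⟶ S.X₂ := (Groth.Agent.Lead.CohTopB.homEquiv W S.X₂).symm s
  have hψ : ψ ≫ S.g = φ := by
    apply (Groth.Agent.Lead.CohTopB.homEquiv W S.X₃).injective
    rw [Groth.Agent.Lead.CohTopB.homEquiv_comp, Equiv.apply_symm_apply, hs]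
  rw [← hx₃, ← hψ, ← Ext.mk₀_comp_mk₀, Ext.comp_assoc_of_second_deg_zero,
    ShortComplex.ShortExact.comp_extClass, Ext.comp_zero]

/-- vanishing of `H^{q+2}` of the kernel from vanishing of `H^{q+1}` of the cokernel -/
lemma subsingleton_ext_succ {S : ShortComplex (CohTop.Ab X)} (hS : S.ShortExact) (W : Opens X)
    (q : ℕ) (h2 : Subsingleton (Ext (freeU W) S.X₂ (q + 2)))
    (h3 : Subsingleton (Ext (freeU W) S.X₃ (q + 1))) :
    Subsingleton (Ext (freeU W) S.X₁ (q + 2)) := by
  refine subsingleton_of_forall_eq 0 fun x₁ => ?_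
  obtain ⟨x₃, hx₃⟩ := Ext.covariant_sequence_exact₁ (freeU W) hS (n₀ := q + 1) x₁
    (Subsingleton.elim _ _) (by omega)
  rw [← hx₃, Subsingleton.elim x₃ 0, Ext.zero_comp]

/-- vanishing of `H^{q+1}` of the cokernel from vanishing of `H^{q+2}` of the kernel -/
lemma subsingleton_ext_pred {S : ShortComplex (CohTop.Ab X)} (hS : S.ShortExact) (W : Opens X)
    (q : ℕ) (h2 : Subsingleton (Ext (freeU W) S.X₂ (q + 1)))
    (h1 : Subsingleton (Ext (freeU W) S.X₁ (q + 2))) :
    Subsingleton (Ext (freeU W) S.X₃ (q + 1)) := by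
  refine subsingleton_of_forall_eq 0 fun x₃ => ?_
  obtain ⟨x₂, hx₂⟩ := Ext.covariant_sequence_exact₃ (freeU W) hS (n₁ := q + 2) x₃ (by omega)
    (Subsingleton.elim _ _)
  rw [← hx₂, Subsingleton.elim x₂ 0, Ext.zero_comp]

/-- **vanishing of cohomology localizes**: if `H^{q+1}(X, M) = 0` for a quasi-coherent module on
a quasi-compact scheme with affine diagonal, then `H^{q+1}(X_β, M) = 0`. -/
theorem subsingleton_HU_basicOpen [CompactSpace X] [QuasiSeparatedSpace X]
    (hd : ∀ V W : X.Opens, IsAffineOpen V → IsAffineOpen W → IsAffineOpen (V ⊓ W))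
    (q : ℕ) : ∀ (M : X.Modules) [M.IsQuasicoherent],
      Subsingleton (CohTop.HU (Coh.toAb M) (q + 1) ⊤) → ∀ β : Γ(X, ⊤),
      Subsingleton (CohTop.HU (Coh.toAb M) (q + 1) (X.basicOpen β)) := by
  induction q with
  | zero =>
    intro M _ h β
    obtain ⟨M', i, hi, hq, hac⟩ := exists_mono_acyclic' hd M
    haveI := hi
    haveI := hq
    haveI : (cokernel i).IsQuasicoherent :=
      Groth.Agent.Helper4.QcohLimits.isQuasicoherent_cokernel i
    have hS := Groth.Agent.Helper1.Dev.cokSC_shortExact i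
    have hS' : ((Groth.Agent.Helper1.Dev.cokSC i).map (toAbF X)).ShortExact :=
      hS.map_of_exact (toAbF X)
    have h1 : Function.Surjective ((cokernel.π i).app ⊤) :=
      Groth.Agent.Helper1.CohTopCech.surjective_of_ext_one hS' ⊤ h
    have h2 := surjective_app_basicOpen (cokernel.π i) h1 β
    exact subsingleton_ext_one hS' (X.basicOpen β) (hac β 0) h2
  | succ q ih =>
    intro M _ h β
    obtain ⟨M', i, hi, hq, hac⟩ := exists_mono_acyclic' hd M
    haveI := hi
    haveI := hq
    haveI : (cokernel i).IsQuasicoherent :=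
      Groth.Agent.Helper4.QcohLimits.isQuasicoherent_cokernel i
    have hS := Groth.Agent.Helper1.Dev.cokSC_shortExact i
    have hS' : ((Groth.Agent.Helper1.Dev.cokSC i).map (toAbF X)).ShortExact :=
      hS.map_of_exact (toAbF X)
    have hac1 : Subsingleton (CohTop.HU (Coh.toAb M') (q + 1) ⊤) := by
      have := hac 1 q
      rwa [basicOpen_one_eq_top] at this
    have h3 : Subsingleton (CohTop.HU (Coh.toAb (cokernel i)) (q + 1) ⊤) :=
      subsingleton_ext_pred hS' ⊤ q hac1 h
    have h4 := ih (cokernel i) h3 β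
    exact subsingleton_ext_succ hS' (X.basicOpen β) q (hac β (q + 1)) h4

end Groth.Agent.Helper1.Loc
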