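import Mathlib

set_option autoImplicit false
set_option linter.unusedSectionVars false

namespace Groth.Agent.Helper1.LocAb
open CategoryTheory Limits

universe v' v u' u

variable {C : Type u} [Category.{v} C] [Abelian C]
  {D : Type u'} [Category.{v'} D]
  (L : C ⥤ D) (W : MorphismProperty C) [W.HasLeftCalculusOfFractions]
  [W.HasRightCalculusOfFractions] [L.IsLocalization W] [Preadditive D] [L.Additive]

include W in
lemma map_eq_zero_iff_precomp {X Y : C} (f : X ⟶ Y) :
    L.map f = 0 ↔ ∃ (Z : C) (s : Z ⟶ X) (_ : W s), s ≫ f = 0 := by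
  rw [← L.map_zero, MorphismProperty.map_eq_iff_precomp L W]
  simp

include W in
lemma map_eq_zero_iff_postcomp {X Y : C} (f : X ⟶ Y) :
    L.map f = 0 ↔ ∃ (Z : C) (s : Y ⟶ Z) (_ : W s), f ≫ s = 0 := by
  rw [← L.map_zero, MorphismProperty.map_eq_iff_postcomp L W]
  simp

include W in
lemma mono_map {X Y : C} (f : X ⟶ Y) [Mono f] : Mono (L.map f) := by
  have := Localization.essSurj L W
  rw [Preadditive.mono_iff_cancel_zero]
  intro P g hg
  obtain ⟨φ, hφ⟩ := Localization.exists_rightFraction L W ((L.objObjPreimageIso P).hom ≫ g)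
  rw [← cancel_epi (L.map φ.s), MorphismProperty.RightFraction.map_s_comp_map] at hφ
  have h0 : L.map (φ.f ≫ f) = 0 := by
    rw [L.map_comp, ← hφ, Category.assoc, Category.assoc, hg, comp_zero, comp_zero]
  rw [map_eq_zero_iff_precomp L W] at h0
  obtain ⟨Z, s, hs, fac⟩ := h0
  have hs' := Localization.inverts L W s hs
  rw [← Category.assoc, ← zero_comp (f := f), cancel_mono] at fac
  have h1 : L.map φ.f = 0 := by
    rw [← cancel_epi (L.map s), ← L.map_comp, fac, L.map_zero, comp_zero]
  rw [h1] at hφ
  have h2 : (L.objObjPreimageIso P).hom ≫ g = 0 := by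
    rw [← cancel_epi (L.map φ.s), hφ, comp_zero]
  rw [← cancel_epi (L.objObjPreimageIso P).hom, h2, comp_zero]

include W in
lemma epi_map {X Y : C} (f : X ⟶ Y) [Epi f] : Epi (L.map f) := by
  have := Localization.essSurj L W
  rw [Preadditive.epi_iff_cancel_zero]
  intro P g hg
  obtain ⟨φ, hφ⟩ := Localization.exists_leftFraction L W (g ≫ (L.objObjPreimageIso P).inv)
  rw [← cancel_mono (L.map φ.s), MorphismProperty.LeftFraction.map_comp_map_s] at hφ
  have h0 : L.map (f ≫ φ.f) = 0 := by
    rw [L.map_comp, ← hφ, ← Category.assoc, ← Category.assoc, hg, zero_comp, zero_comp]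
  rw [map_eq_zero_iff_postcomp L W] at h0
  obtain ⟨Z, s, hs, fac⟩ := h0
  have hs' := Localization.inverts L W s hs
  rw [Category.assoc, ← comp_zero (f := f), cancel_epi] at fac
  have h1 : L.map φ.f = 0 := by
    rw [← cancel_mono (L.map s), ← L.map_comp, fac, L.map_zero, zero_comp]
  rw [h1] at hφ
  have h2 : g ≫ (L.objObjPreimageIso P).inv = 0 := by
    rw [← cancel_mono (L.map φ.s), hφ, zero_comp]
  rw [← cancel_mono (L.objObjPreimageIso P).inv, h2, zero_comp]

include W in
lemma preservesKernel {X Y : C} (f : X ⟶ Y) :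
    PreservesLimit (parallelPair f 0) L := by
  have := Localization.essSurj L W
  suffices ∀ (P : D) (z : P ⟶ L.obj X) (hz : z ≫ L.map f = 0),
      ∃ (l : P ⟶ L.obj (kernel f)), l ≫ L.map (kernel.ι f) = z from
    preservesLimit_of_preserves_limit_cone (kernelIsKernel f)
      ((KernelFork.isLimitMapConeEquiv _ L).2
        (Fork.IsLimit.ofExistsUnique
          (fun s ↦ existsUnique_of_exists_of_unique
            (this _ _ (KernelFork.condition s))
            (fun _ _ h₁ h₂ ↦ by
              have := mono_map L W (kernel.ι f)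
              exact (cancel_mono (L.map (kernel.ι f))).1 (h₁.trans h₂.symm)))))
  intro P w hw
  obtain ⟨φ, hφ⟩ := Localization.exists_rightFraction L W ((L.objObjPreimageIso P).hom ≫ w)
  rw [← cancel_epi (L.map φ.s), MorphismProperty.RightFraction.map_s_comp_map] at hφ
  have h0 : L.map (φ.f ≫ f) = 0 := by
    rw [L.map_comp, ← hφ, Category.assoc, Category.assoc, hw, comp_zero, comp_zero]
  rw [map_eq_zero_iff_precomp L W] at h0
  obtain ⟨Z, s, hs, fac⟩ := h0
  have hs' := Localization.inverts L W s hs
  rw [← Category.assoc] at fac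
  refine ⟨(L.objObjPreimageIso P).inv ≫ inv (L.map φ.s) ≫ inv (L.map s) ≫
    L.map (kernel.lift _ _ fac), ?_⟩
  simp only [Category.assoc, ← L.map_comp, kernel.lift_ι]
  rw [L.map_comp, IsIso.inv_hom_id_assoc, ← hφ, IsIso.inv_hom_id_assoc, Iso.inv_hom_id_assoc]

include W in
lemma preservesCokernel {X Y : C} (f : X ⟶ Y) :
    PreservesColimit (parallelPair f 0) L := by
  have := Localization.essSurj L W
  suffices ∀ (P : D) (z : L.obj Y ⟶ P) (hz : L.map f ≫ z = 0),
      ∃ (l : L.obj (cokernel f) ⟶ P), L.map (cokernel.π f) ≫ l = z from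
    preservesColimit_of_preserves_colimit_cocone (cokernelIsCokernel f)
      ((CokernelCofork.isColimitMapCoconeEquiv _ L).2
        (Cofork.IsColimit.ofExistsUnique
          (fun s ↦ existsUnique_of_exists_of_unique
            (this _ _ (CokernelCofork.condition s))
            (fun _ _ h₁ h₂ ↦ by
              have := epi_map L W (cokernel.π f)
              exact (cancel_epi (L.map (cokernel.π f))).1 (h₁.trans h₂.symm)))))
  intro P w hw
  obtain ⟨φ, hφ⟩ := Localization.exists_leftFraction L W (w ≫ (L.objObjPreimageIso P).inv)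
  rw [← cancel_mono (L.map φ.s), MorphismProperty.LeftFraction.map_comp_map_s] at hφ
  have h0 : L.map (f ≫ φ.f) = 0 := by
    rw [L.map_comp, ← hφ, ← Category.assoc, ← Category.assoc, hw, zero_comp, zero_comp]
  rw [map_eq_zero_iff_postcomp L W] at h0
  obtain ⟨Z, s, hs, fac⟩ := h0
  have hs' := Localization.inverts L W s hs
  rw [Category.assoc] at fac
  refine ⟨L.map (cokernel.desc _ _ fac) ≫ inv (L.map s) ≫ inv (L.map φ.s) ≫
    (L.objObjPreimageIso P).hom, ?_⟩
  rw [← Category.assoc, ← L.map_comp, cokernel.π_desc, L.map_comp, Category.assoc,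
    IsIso.hom_inv_id_assoc, ← Category.assoc, ← hφ]
  simp

set_option backward.isDefEq.respectTransparency false in
include L W in
lemma hasKernels : HasKernels D where
  has_limit f := by
    obtain ⟨g, ⟨e⟩⟩ :=
      (Localization.essSurj_mapArrow L W).mem_essImage (Arrow.mk f)
    have := preservesKernel L W g.hom
    have : HasLimit (parallelPair (L.map g.hom) 0) :=
      ⟨_, (KernelFork.isLimitMapConeEquiv _ L).1
        (isLimitOfPreserves L (kernelIsKernel g.hom))⟩
    exact hasLimit_of_iso (show parallelPair (L.map g.hom) 0 ≅ _ from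
      parallelPair.ext (Arrow.leftFunc.mapIso e) (Arrow.rightFunc.mapIso e))

set_option backward.isDefEq.respectTransparency false in
include L W in
lemma hasCokernels : HasCokernels D where
  has_colimit f := by
    obtain ⟨g, ⟨e⟩⟩ :=
      (Localization.essSurj_mapArrow L W).mem_essImage (Arrow.mk f)
    have := preservesCokernel L W g.hom
    have : HasColimit (parallelPair (L.map g.hom) 0) :=
      ⟨_, (CokernelCofork.isColimitMapCoconeEquiv _ L).1
        (isColimitOfPreserves L (cokernelIsCokernel g.hom))⟩
    exact hasColimit_of_iso (show _ ≅ parallelPair (L.map g.hom) 0 from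
      parallelPair.ext (Arrow.leftFunc.mapIso e.symm) (Arrow.rightFunc.mapIso e.symm))

include L W in
lemma hasFiniteProducts : HasFiniteProducts D :=
  have := Localization.essSurj L W
  L.hasFiniteProducts_of_additive_of_essSurj

include W in
/-- a mono in `D` is, as an arrow, isomorphic to the image of a mono of `C` -/
lemma mono_iff {X Y : D} (f : X ⟶ Y) :
    Mono f ↔ ∃ (X' Y' : C) (f' : X' ⟶ Y') (_ : Mono f'), Nonempty (Arrow.mk (L.map f') ≅ Arrow.mk f) := by
  constructor
  · intro hf
    obtain ⟨g, ⟨e⟩⟩ := (Localization.essSurj_mapArrow L W).mem_essImage (Arrow.mk f)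
    have hg : Mono (L.map g.hom) :=
      ((MorphismProperty.monomorphisms D).arrow_mk_iso_iff e).2 hf
    -- image factorization of g.hom
    have hk : L.map (kernel.ι g.hom) = 0 := by
      rw [← cancel_mono (L.map g.hom), ← L.map_comp, kernel.condition, L.map_zero, zero_comp]
    -- L (factorThruImage) is iso
    have := preservesCokernel L W (kernel.ι g.hom)
    have hc : IsColimit (L.mapCocone (CokernelCofork.ofπ _ (cokernel.condition (kernel.ι g.hom)))) :=
      isColimitOfPreserves L (cokernelIsCokernel (kernel.ι g.hom))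
    have hc' := (CokernelCofork.isColimitMapCoconeEquiv _ L).1 hc
    have hiso : IsIso (L.map (cokernel.π (kernel.ι g.hom))) :=
      CokernelCofork.IsColimit.isIso_π _ hc' hk
    refine ⟨_, _, Abelian.factorThruCoimage g.hom, inferInstance, ⟨?_ ≪≫ e⟩⟩
    refine Arrow.isoMk (asIso (L.map (cokernel.π (kernel.ι g.hom)))).symm (Iso.refl _) ?_
    have h1 : L.map (cokernel.π (kernel.ι g.hom)) ≫ L.map (Abelian.factorThruCoimage g.hom) =
        L.map g.hom := by
      rw [← L.map_comp]
      congr 1
      exact Abelian.coimage.fac g.hom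
    change inv (L.map (cokernel.π (kernel.ι g.hom))) ≫ L.map g.hom =
      L.map (Abelian.factorThruCoimage g.hom) ≫ 𝟙 _
    rw [Category.comp_id, IsIso.inv_comp_eq, h1]
  · rintro ⟨X', Y', f', _, ⟨e⟩⟩
    have := mono_map L W f'
    exact ((MorphismProperty.monomorphisms D).arrow_mk_iso_iff e).1 this

include W in
lemma epi_iff {X Y : D} (f : X ⟶ Y) :
    Epi f ↔ ∃ (X' Y' : C) (f' : X' ⟶ Y') (_ : Epi f'), Nonempty (Arrow.mk (L.map f') ≅ Arrow.mk f) := by
  constructor
  · intro hf
    obtain ⟨g, ⟨e⟩⟩ := (Localization.essSurj_mapArrow L W).mem_essImage (Arrow.mk f)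
    have hg : Epi (L.map g.hom) :=
      ((MorphismProperty.epimorphisms D).arrow_mk_iso_iff e).2 hf
    have hk : L.map (cokernel.π g.hom) = 0 := by
      rw [← cancel_epi (L.map g.hom), ← L.map_comp, cokernel.condition, L.map_zero, comp_zero]
    have := preservesKernel L W (cokernel.π g.hom)
    have hc : IsLimit (L.mapCone (KernelFork.ofι _ (kernel.condition (cokernel.π g.hom)))) :=
      isLimitOfPreserves L (kernelIsKernel (cokernel.π g.hom))
    have hc' := (KernelFork.isLimitMapConeEquiv _ L).1 hc
    have hiso : IsIso (L.map (kernel.ι (cokernel.π g.hom))) :=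
      KernelFork.IsLimit.isIso_ι _ hc' hk
    refine ⟨_, _, Abelian.factorThruImage g.hom, inferInstance, ⟨?_ ≪≫ e⟩⟩
    have h1 : L.map (Abelian.factorThruImage g.hom) ≫ L.map (kernel.ι (cokernel.π g.hom)) =
        L.map g.hom := by
      rw [← L.map_comp]
      congr 1
      exact Abelian.image.fac g.hom
    refine Arrow.isoMk (Iso.refl _) (@asIso _ _ _ _ (L.map (kernel.ι (cokernel.π g.hom))) hiso) ?_
    change 𝟙 _ ≫ L.map g.hom =
      L.map (Abelian.factorThruImage g.hom) ≫ L.map (kernel.ι (cokernel.π g.hom))
    rw [Category.id_comp, h1]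
  · rintro ⟨X', Y', f', _, ⟨e⟩⟩
    have := epi_map L W f'
    exact ((MorphismProperty.epimorphisms D).arrow_mk_iso_iff e).1 this

include L W in
lemma isNormalMonoCategory : IsNormalMonoCategory D where
  normalMonoOfMono f hf := by
    rw [mono_iff L W] at hf
    obtain ⟨X', Y', f', _, ⟨e⟩⟩ := hf
    let hf' := normalMonoOfMono f'
    have := preservesKernel L W hf'.g
    refine ⟨NormalMono.ofArrowIso ?_ e⟩
    exact {
      Z := L.obj hf'.Z
      g := L.map hf'.g
      w := by rw [← L.map_comp]; simp [hf'.w]
      isLimit :=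
        (KernelFork.isLimitMapConeEquiv _ L).1
          (isLimitOfPreserves L hf'.isLimit) }

include L W in
lemma isNormalEpiCategory : IsNormalEpiCategory D where
  normalEpiOfEpi f hf := by
    rw [epi_iff L W] at hf
    obtain ⟨X', Y', f', _, ⟨e⟩⟩ := hf
    let hf' := normalEpiOfEpi f'
    have := preservesCokernel L W hf'.g
    refine ⟨NormalEpi.ofArrowIso ?_ e⟩
    exact {
      W := L.obj hf'.W
      g := L.map hf'.g
      w := by rw [← L.map_comp]; simp [hf'.w]
      isColimit :=
        (CokernelCofork.isColimitMapCoconeEquiv _ L).1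
          (isColimitOfPreserves L hf'.isColimit) }

include L W in
/-- the localized category is abelian -/
@[instance_reducible]
def abelian : Abelian D := by
  have := hasFiniteProducts L W
  have := hasKernels L W
  have := hasCokernels L W
  have := isNormalMonoCategory L W
  have := isNormalEpiCategory L W
  constructor

include W in
lemma preservesFiniteLimits : PreservesFiniteLimits L := by
  let := abelian L W
  rw [((Functor.preservesFiniteLimits_tfae L).out 3 2 :)]
  intro _ _ f
  exact preservesKernel L W f

include W in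
lemma preservesFiniteColimits : PreservesFiniteColimits L := by
  let := abelian L W
  rw [((Functor.preservesFiniteColimits_tfae L).out 3 2 :)]
  intro _ _ f
  exact preservesCokernel L W f

end Groth.Agent.Helper1.LocAb

namespace Groth.Agent.Helper1.LocAb
open CategoryTheory Limits

universe v' v u' u

theorem main {A : Type u} [Category.{v} A] [Abelian A]
    (W : MorphismProperty A) [W.HasLeftCalculusOfFractions] [W.HasRightCalculusOfFractions]
    {D : Type u'} [Category.{v'} D] (L : A ⥤ D) [L.IsLocalization W] :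
    Nonempty (Abelian D) ∧ PreservesFiniteLimits L ∧ PreservesFiniteColimits L := by
  let := Localization.preadditive L W
  have := Localization.functor_additive L W
  exact ⟨⟨abelian L W⟩, preservesFiniteLimits L W, preservesFiniteColimits L W⟩

end Groth.Agent.Helper1.LocAb
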