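import Mathlib
import Groth.Agent.Helper1.LocCohDepth
import Groth.Agent.Helper1.FlatBC

set_option autoImplicit false

/-!
# Depth and flat base change
-/

namespace Groth.Agent.Helper1.LocCohDepthBC
open CategoryTheory Limits Opposite TensorProduct
open Groth.Agent.Helper1.LocCohDepth

universe u

variable {A : Type u} [CommRing A] (B : Type u) [CommRing B] [Algebra A B] (I : Ideal A)
  (M : Type u) [AddCommGroup M] [Module A M]

/-- `IM = M` implies `(IB)(B ⊗ M) = B ⊗ M` -/
lemma smul_top_baseChange (h : I • (⊤ : Submodule A M) = ⊤) :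
    (I.map (algebraMap A B)) • (⊤ : Submodule B (B ⊗[A] M)) = ⊤ := by
  rw [eq_top_iff]
  rintro x -
  induction x using TensorProduct.induction_on with
  | zero => exact Submodule.zero_mem _
  | add x y hx hy => exact Submodule.add_mem _ hx hy
  | tmul b m =>
    have hm : m ∈ I • (⊤ : Submodule A M) := by
      rw [h]
      exact Submodule.mem_top
    refine Submodule.smul_induction_on hm ?_ ?_
    · intro a ha n _
      have : b ⊗ₜ[A] (a • n) = algebraMap A B a • (b ⊗ₜ[A] n) := by
        rw [TensorProduct.smul_tmul', smul_eq_mul, ← Algebra.smul_def,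
          TensorProduct.smul_tmul]
      rw [this]
      exact Submodule.smul_mem_smul (Ideal.mem_map_of_mem _ ha) Submodule.mem_top
    · intro x y hx hy
      rw [TensorProduct.tmul_add]
      exact Submodule.add_mem _ hx hy

/-- for faithfully flat `B`, `(IB)(B ⊗ M) = B ⊗ M` implies `IM = M` -/
lemma smul_top_of_baseChange [Module.FaithfullyFlat A B]
    (h : (I.map (algebraMap A B)) • (⊤ : Submodule B (B ⊗[A] M)) = ⊤) :
    I • (⊤ : Submodule A M) = ⊤ := by
  let N := M ⧸ (I • (⊤ : Submodule A M))
  -- elements of `IB` kill `B ⊗ N`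
  have hkill : ∀ c ∈ I.map (algebraMap A B), ∀ z : B ⊗[A] N, c • z = 0 := by
    intro c hc
    induction hc using Submodule.span_induction with
    | mem c hc =>
      obtain ⟨a, ha, rfl⟩ := hc
      intro z
      induction z using TensorProduct.induction_on with
      | zero => rw [smul_zero]
      | add x y hx hy => rw [smul_add, hx, hy, add_zero]
      | tmul b n =>
        obtain ⟨m, rfl⟩ := Submodule.Quotient.mk_surjective _ n
        rw [TensorProduct.smul_tmul', smul_eq_mul, ← Algebra.smul_def,
          TensorProduct.smul_tmul, ← Submodule.Quotient.mk_smul]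
        have : Submodule.Quotient.mk (a • m) = (0 : N) :=
          (Submodule.Quotient.mk_eq_zero _).2 (Submodule.smul_mem_smul ha Submodule.mem_top)
        rw [this, TensorProduct.tmul_zero]
    | zero => intro z; rw [zero_smul]
    | add c d _ _ hc hd => intro z; rw [add_smul, hc z, hd z, add_zero]
    | smul r c _ hc => intro z; rw [smul_eq_mul, mul_smul, hc z, smul_zero]
  have hsub : Subsingleton (B ⊗[A] N) := by
    refine ⟨fun x y => ?_⟩
    suffices h0 : ∀ z : B ⊗[A] N, z = 0 by rw [h0 x, h0 y]
    intro z
    obtain ⟨w, rfl⟩ := LinearMap.lTensor_surjective B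
      (Submodule.mkQ_surjective (I • (⊤ : Submodule A M))) z
    have hw : w ∈ (I.map (algebraMap A B)) • (⊤ : Submodule B (B ⊗[A] M)) := by
      rw [h]
      exact Submodule.mem_top
    refine Submodule.smul_induction_on hw ?_ ?_
    · intro c hc v _
      have : LinearMap.lTensor B (Submodule.mkQ (I • (⊤ : Submodule A M))) (c • v) =
          c • LinearMap.lTensor B (Submodule.mkQ (I • (⊤ : Submodule A M))) v := by
        have := (LinearMap.baseChange B (Submodule.mkQ (I • (⊤ : Submodule A M)))).map_smul c v
        exact this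
      rw [this]
      exact hkill c hc _
    · intro x y hx hy
      rw [map_add, hx, hy, add_zero]
  have hN : Subsingleton N := Module.FaithfullyFlat.lTensor_reflects_triviality A B N
  exact Submodule.Quotient.subsingleton_iff.1 hN

variable [IsNoetherianRing A] [IsNoetherianRing B] [Module.Finite A M]

theorem le_of_flat [Module.Flat A B] :
    LocCoh.idealDepth I M ≤ LocCoh.idealDepth (I.map (algebraMap A B)) (B ⊗[A] M) := by
  by_cases hIM' : (I.map (algebraMap A B)) • (⊤ : Submodule B (B ⊗[A] M)) = ⊤
  · rw [LocCoh.idealDepth, LocCoh.idealDepth, if_pos hIM']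
    exact le_top
  have hIM : I • (⊤ : Submodule A M) ≠ ⊤ := fun h => hIM' (smul_top_baseChange B I M h)
  rw [← ENat.forall_natCast_le_iff_le]
  intro n hn
  rw [le_idealDepth_iff_lc I M hIM n] at hn
  rw [le_idealDepth_iff_lc (I.map (algebraMap A B)) (B ⊗[A] M) hIM' n]
  intro i hi
  obtain ⟨e⟩ := FlatBC.nonempty_linearEquiv B I M i
  have := hn i hi
  exact e.symm.toEquiv.subsingleton

theorem eq_of_faithfullyFlat [Module.FaithfullyFlat A B] :
    LocCoh.idealDepth (I.map (algebraMap A B)) (B ⊗[A] M) = LocCoh.idealDepth I M := by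
  refine le_antisymm ?_ (le_of_flat B I M)
  by_cases hIM : I • (⊤ : Submodule A M) = ⊤
  · rw [LocCoh.idealDepth, LocCoh.idealDepth, if_pos hIM]
    exact le_top
  have hIM' : (I.map (algebraMap A B)) • (⊤ : Submodule B (B ⊗[A] M)) ≠ ⊤ :=
    fun h => hIM (smul_top_of_baseChange B I M h)
  rw [← ENat.forall_natCast_le_iff_le]
  intro n hn
  rw [le_idealDepth_iff_lc (I.map (algebraMap A B)) (B ⊗[A] M) hIM' n] at hn
  rw [le_idealDepth_iff_lc I M hIM n]
  intro i hi
  obtain ⟨e⟩ := FlatBC.nonempty_linearEquiv B I M i
  have := hn i hi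
  have h2 : Subsingleton (B ⊗[A] (LocCoh.H I i M)) := e.toEquiv.subsingleton
  exact Module.FaithfullyFlat.lTensor_reflects_triviality A B (LocCoh.H I i M)

end Groth.Agent.Helper1.LocCohDepthBC
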