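import Mathlib
import Groth.Prelude.Def_LocCohZ

set_option autoImplicit false

/-!
# Cohomology with supports in a closed subset when the higher cohomology of the ambient space
vanishes: `H⁰_Z = ker`, `H¹_Z = coker` of `F(X) → F(U)`, and `H^{i+1}_Z ≅ H^i(U, F)` for `i ≥ 1`.
-/

namespace Groth.Agent.Helper1.LocCohLow

open CategoryTheory Limits Opposite TopologicalSpace Abelian LocCohZ

universe u

variable {X : TopCat.{u}} (F : CohTop.Ab X) (U : Opens X)
  (hvan : ∀ i : ℕ, Subsingleton (CohTop.HU F (i + 1) ⊤))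

/-- `Ext⁰(ℤ_V, F) ≃+ F(V)` -/
noncomputable def ψ (V : Opens X) :
    Ext (CohCx.freeSheaf (Opens.grothendieckTopology X) V) F 0 ≃+ F.obj.obj (op V) :=
  (Ext.addEquiv₀ (X := CohCx.freeSheaf (Opens.grothendieckTopology X) V) (Y := F)).trans
    (CohFree.homEquivSect (Opens.grothendieckTopology X) V F)

lemma ψ_mk₀ (V : Opens X) (q : CohCx.freeSheaf (Opens.grothendieckTopology X) V ⟶ F) :
    ψ F V (Ext.mk₀ q) = CohFree.evalGen (Opens.grothendieckTopology X) V F q := by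
  unfold ψ
  have h : Ext.addEquiv₀ (Ext.mk₀ q) = q := by
    rw [← Ext.addEquiv₀_symm_apply, AddEquiv.apply_symm_apply]
  rw [AddEquiv.trans_apply, h, CohFree.homEquivSect_apply]

/-- naturality of `ψ` in the open -/
lemma ψ_comp (x₂ : Ext (CohCx.freeSheaf (Opens.grothendieckTopology X) ⊤) F 0) :
    ψ F U ((Ext.mk₀ (CohCx.freeSheafMap (Opens.grothendieckTopology X)
        (homOfLE (le_top : U ≤ ⊤)))).comp x₂ (zero_add 0)) =
      F.obj.map (homOfLE (le_top : U ≤ ⊤)).op (ψ F ⊤ x₂) := by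
  obtain ⟨q, rfl⟩ := (Ext.mk₀_bijective _ _).2 x₂
  rw [Ext.mk₀_comp_mk₀, ψ_mk₀, ψ_mk₀]
  exact CohFree.evalGen_freeSheafMap_comp (Opens.grothendieckTopology X)
    (homOfLE (le_top : U ≤ ⊤)) F q

include hvan in
lemma delta_surjective (i : ℕ) :
    Function.Surjective (LocCohZ.delta F i (le_top : U ≤ ⊤)) := by
  intro x₃
  have hS := zqSeq_shortExact (le_top : U ≤ ⊤)
  have h0 : (Ext.mk₀ (zqSeq (le_top : U ≤ ⊤)).g).comp x₃ (zero_add (i + 1)) = 0 :=
    Subsingleton.elim (α := CohTop.HU F (i + 1) ⊤) _ _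
  obtain ⟨x₁, hx₁⟩ := Ext.contravariant_sequence_exact₃ hS F x₃ h0 (add_comm 1 i)
  exact ⟨x₁, hx₁⟩

include hvan in
lemma delta_injective (i : ℕ) :
    Function.Injective (LocCohZ.delta F (i + 1) (le_top : U ≤ ⊤)) := by
  rw [injective_iff_map_eq_zero]
  intro x₁ hx₁
  have hS := zqSeq_shortExact (le_top : U ≤ ⊤)
  obtain ⟨x₂, rfl⟩ := Ext.contravariant_sequence_exact₁ hS F x₁ (add_comm 1 (i + 1)) hx₁
  have : x₂ = 0 := Subsingleton.elim (α := CohTop.HU F (i + 1) ⊤) _ _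
  rw [this]
  exact Ext.comp_zero _ _ _ _ _

include hvan in
/-- `H^{i+2}_Z(X, F) ≃+ H^{i+1}(U, F)` -/
noncomputable def hSuccEquiv (i : ℕ) :
    HZ F (i + 2) (le_top : U ≤ ⊤) ≃+ CohTop.HU F (i + 1) U :=
  (AddEquiv.ofBijective (LocCohZ.delta F (i + 1) (le_top : U ≤ ⊤))
    ⟨delta_injective F U hvan i, delta_surjective F U hvan (i + 1)⟩).symm

/-- the map `F(U) → H¹_Z(X, F)` -/
noncomputable def φ : F.obj.obj (op U) →+ HZ F 1 (le_top : U ≤ ⊤) :=
  (LocCohZ.delta F 0 (le_top : U ≤ ⊤)).comp (ψ F U).symm.toAddMonoidHom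

include hvan in
lemma φ_surjective : Function.Surjective (φ F U) :=
  (delta_surjective F U hvan 0).comp (ψ F U).symm.surjective

lemma ker_φ : (φ F U).ker = (F.obj.map (homOfLE (le_top : U ≤ ⊤)).op).hom.range := by
  have hS := zqSeq_shortExact (le_top : U ≤ ⊤)
  ext s
  rw [AddMonoidHom.mem_ker, AddMonoidHom.mem_range]
  constructor
  · intro hs
    obtain ⟨x₂, hx₂⟩ := Ext.contravariant_sequence_exact₁ hS F ((ψ F U).symm s)
      (add_comm 1 0) hs
    refine ⟨ψ F ⊤ x₂, ?_⟩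
    have hx₂' : (Ext.mk₀ (CohCx.freeSheafMap (Opens.grothendieckTopology X)
        (homOfLE (le_top : U ≤ ⊤)))).comp x₂ (zero_add 0) = (ψ F U).symm s := hx₂
    have := ψ_comp F U x₂
    rw [hx₂', AddEquiv.apply_symm_apply] at this
    exact this.symm
  · rintro ⟨t, rfl⟩
    have h1 : (ψ F U).symm (F.obj.map (homOfLE (le_top : U ≤ ⊤)).op t) =
        (Ext.mk₀ (CohCx.freeSheafMap (Opens.grothendieckTopology X)
          (homOfLE (le_top : U ≤ ⊤)))).comp ((ψ F ⊤).symm t) (zero_add 0) := by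
      apply (ψ F U).injective
      rw [AddEquiv.apply_symm_apply, ψ_comp, AddEquiv.apply_symm_apply]
    change (zqSeq_shortExact (le_top : U ≤ ⊤)).extClass.comp
      ((ψ F U).symm (F.obj.map (homOfLE (le_top : U ≤ ⊤)).op t)) (add_comm 1 0) = 0
    rw [h1]
    change hS.extClass.comp ((Ext.mk₀ (zqSeq (le_top : U ≤ ⊤)).f).comp ((ψ F ⊤).symm t)
      (zero_add 0)) (add_comm 1 0) = 0
    rw [← Ext.comp_assoc_of_second_deg_zero, hS.extClass_comp, Ext.zero_comp]

include hvan in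
/-- `H¹_Z(X, F)` is the cokernel of `F(X) → F(U)` -/
noncomputable def h1Equiv :
    (F.obj.obj (op U) ⧸ (F.obj.map (homOfLE (le_top : U ≤ ⊤)).op).hom.range) ≃+
      HZ F 1 (le_top : U ≤ ⊤) :=
  (QuotientAddGroup.quotientAddEquivOfEq (ker_φ F U).symm).trans
    (QuotientAddGroup.quotientKerEquivOfSurjective (φ F U) (φ_surjective F U hvan))

end Groth.Agent.Helper1.LocCohLow
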