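import Mathlib
import Groth.Agent.Helper1.LocCohVanish

set_option autoImplicit false

/-!
# Annihilators of local cohomology of modules that are locally projective off `V(I)`
-/

namespace Groth.Agent.Helper1.LocCohProjAnn
open CategoryTheory Limits Opposite
open Groth.Agent.Helper1.DeltaFun Groth.Agent.Helper1.LocCohDelta

universe u

section alg

variable {R : Type u} [CommRing R] (S : Submonoid R) (M : Type u) [AddCommGroup M] [Module R M]
  [Module.FinitePresentation R M]

/-- if `M_S` is a retract of a finite free module then `M` is a "retract up to `s ∈ S`" of a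
finite free module -/
lemma exists_maps_of_retract (n : ℕ)
    (φ : LocalizedModule S M →ₗ[Localization S] (Fin n →₀ Localization S))
    (ψ : (Fin n →₀ Localization S) →ₗ[Localization S] LocalizedModule S M)
    (hφψ : ψ ∘ₗ φ = LinearMap.id) :
    ∃ (α : M →ₗ[R] (Fin n →₀ R)) (β : (Fin n →₀ R) →ₗ[R] M) (s : R),
      s ∈ S ∧ β ∘ₗ α = s • LinearMap.id := by
  let f : (Fin n →₀ R) →ₗ[R] (Fin n →₀ Localization S) :=
    Finsupp.mapRange.linearMap (α := Fin n) (Algebra.linearMap R (Localization S))
  let mk : M →ₗ[R] LocalizedModule S M := LocalizedModule.mkLinearMap S M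
  let g : M →ₗ[R] (Fin n →₀ Localization S) := (φ.restrictScalars R) ∘ₗ mk
  obtain ⟨α, s₁, hα⟩ := Module.FinitePresentation.exists_lift_of_isLocalizedModule S f g
  let g' : (Fin n →₀ R) →ₗ[R] LocalizedModule S M := (ψ.restrictScalars R) ∘ₗ f
  obtain ⟨β, s₂, hβ⟩ := Module.FinitePresentation.exists_lift_of_isLocalizedModule S mk g'
  have hcomp : mk ∘ₗ (β ∘ₗ α) = mk ∘ₗ ((s₂ * s₁ : S) • (LinearMap.id : M →ₗ[R] M)) := by
    rw [← LinearMap.comp_assoc, hβ]
    ext m
    simp only [LinearMap.coe_comp, Function.comp_apply, LinearMap.smul_apply, LinearMap.id_coe,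
      id_eq, g']
    have h1 : f (α m) = (s₁ : R) • g m := LinearMap.congr_fun hα m
    rw [h1]
    simp only [g, LinearMap.coe_comp, Function.comp_apply, map_smul]
    have h2 : ψ (φ (mk m)) = mk m := LinearMap.congr_fun hφψ (mk m)
    simp only [LinearMap.coe_restrictScalars]
    rw [h2, Submonoid.smul_def, Submonoid.smul_def, smul_smul, map_smul, Submonoid.coe_mul]
  obtain ⟨s₃, hs₃⟩ := Module.Finite.exists_smul_of_comp_eq_of_isLocalizedModule S mk _ _ hcomp
  refine ⟨α, (s₃ : R) • β, (s₃ : R) * ((s₂ : R) * (s₁ : R)), ?_, ?_⟩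
  · exact (s₃ * (s₂ * s₁)).2
  · rw [LinearMap.smul_comp]
    have := hs₃
    rw [Submonoid.smul_def, Submonoid.smul_def, Submonoid.smul_def, smul_smul] at this
    exact this

lemma exists_maps_of_projective [Module.Finite R M]
    [Module.Projective (Localization S) (LocalizedModule S M)] :
    ∃ (n : ℕ) (α : M →ₗ[R] (Fin n →₀ R)) (β : (Fin n →₀ R) →ₗ[R] M) (s : R),
      s ∈ S ∧ β ∘ₗ α = s • LinearMap.id := by
  obtain ⟨n, f, g, -, -, hfg⟩ := Module.Finite.exists_comp_eq_id_of_projective (Localization S)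
    (LocalizedModule S M)
  let e := Finsupp.linearEquivFunOnFinite (Localization S) (Localization S) (Fin n)
  obtain ⟨α, β, s, hs, h⟩ := exists_maps_of_retract S M n (e.symm.toLinearMap ∘ₗ g)
    (f ∘ₗ e.toLinearMap) (by
      ext x
      simp only [LinearMap.coe_comp, LinearEquiv.coe_coe, Function.comp_apply,
        LinearEquiv.apply_symm_apply, LinearMap.id_coe, id_eq]
      exact LinearMap.congr_fun hfg x)
  exact ⟨n, α, β, s, hs, h⟩

end alg

section free

variable {R : Type u} [CommRing R]

/-- an element killing `F(R)` kills `F(R^n)` for an additive functor `F` -/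
lemma smul_free (F : ModuleCat.{u} R ⥤ ModuleCat.{u} R) [F.Additive] (a : R)
    (h : ∀ x : F.obj (ModuleCat.of R R), a • x = 0) (n : ℕ)
    (x : F.obj (ModuleCat.of R (Fin n →₀ R))) : a • x = 0 := by
  classical
  let p : ∀ j : Fin n, ModuleCat.of R (Fin n →₀ R) ⟶ ModuleCat.of R R :=
    fun j => ModuleCat.ofHom (Finsupp.lapply j)
  let q : ∀ j : Fin n, ModuleCat.of R R ⟶ ModuleCat.of R (Fin n →₀ R) :=
    fun j => ModuleCat.ofHom (Finsupp.lsingle j)
  have hsum : ∑ j, p j ≫ q j = 𝟙 (ModuleCat.of R (Fin n →₀ R)) := by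
    ext j : 3
    simp only [p, q]
    ext k
    simp [Finsupp.single_apply]
  have h2 : ∑ j, F.map (p j) ≫ F.map (q j) = 𝟙 (F.obj (ModuleCat.of R (Fin n →₀ R))) := by
    rw [← F.map_id, ← hsum, F.map_sum]
    simp only [F.map_comp]
  have h3 : x = ∑ j, (F.map (q j)).hom ((F.map (p j)).hom x) := by
    have := congrArg (fun φ => φ.hom x) h2
    simp only [ModuleCat.hom_sum, LinearMap.sum_apply, ModuleCat.hom_comp, LinearMap.comp_apply,
      ModuleCat.hom_id, LinearMap.id_apply] at this
    exact this.symm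
  rw [h3, Finset.smul_sum]
  apply Finset.sum_eq_zero
  intro j _
  rw [← map_smul, h, map_zero]

end free

section main

variable {A : Type u} [CommRing A] [IsNoetherianRing A]

theorem main (J I : Ideal A) (hJI : J ≤ I) (i n : ℕ)
    (hA : ∀ a ∈ J ^ n, ∀ x : (localCohomology I i).obj (ModuleCat.of A A), a • x = 0)
    (M : Type u) [AddCommGroup M] [Module A M] [Module.Finite A M]
    (hM : ∀ f ∈ I, Module.Projective (Localization.Away f)
      (LocalizedModule (Submonoid.powers f) M)) :
    ∃ m : ℕ, ∀ a ∈ J ^ m, ∀ x : (localCohomology I i).obj (ModuleCat.of A M), a • x = 0 := by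
  haveI : Module.FinitePresentation A M := Module.finitePresentation_of_finite A M
  let 𝔠 : Ideal A := Module.annihilator A ((localCohomology I i).obj (ModuleCat.of A M))
  have hrad : I ≤ (𝔠.colon ((J ^ n : Ideal A) : Set A)).radical := by
    intro f hf
    haveI := hM f hf
    obtain ⟨r, α, β, s, ⟨N, hN⟩, hαβ⟩ := exists_maps_of_projective (Submonoid.powers f) M
    refine ⟨N, ?_⟩
    rw [Submodule.mem_colon]
    intro a ha
    rw [Module.mem_annihilator]
    intro x
    have h5 : ModuleCat.ofHom α ≫ ModuleCat.ofHom β = s • 𝟙 (ModuleCat.of A M) := by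
      rw [← ModuleCat.ofHom_comp, hαβ]
      rfl
    have h6 := congrArg (localCohomology I i).map h5
    rw [Functor.map_comp, lc_map_smul, CategoryTheory.Functor.map_id] at h6
    have h7 : s • x = ((localCohomology I i).map (ModuleCat.ofHom β)).hom
        (((localCohomology I i).map (ModuleCat.ofHom α)).hom x) :=
      (congrArg (fun φ => φ.hom x) h6).symm
    have hN' : f ^ N = s := hN
    rw [smul_eq_mul, mul_comm, mul_smul, hN', h7, ← map_smul,
      smul_free (localCohomology I i) a (hA a ha) r, map_zero]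
  obtain ⟨k, hk⟩ := Ideal.exists_pow_le_of_le_radical_of_fg hrad (IsNoetherian.noetherian _)
  refine ⟨k + n, fun a ha x => ?_⟩
  rw [pow_add] at ha
  have h1 : J ^ k * J ^ n ≤ 𝔠 := by
    rw [Ideal.mul_le]
    intro c hc d hd
    have := hk (Ideal.pow_right_mono hJI k hc)
    rw [Submodule.mem_colon] at this
    exact this d hd
  exact Module.mem_annihilator.1 (h1 ha) x

end main

end Groth.Agent.Helper1.LocCohProjAnn
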