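import Mathlib
import Groth.Agent.Helper1.CompVanish
import Groth.Agent.Helper1.LocCohCd
import Groth.Agent.Helper1.LocCohCmp
import Groth.Agent.Helper1.DeltaComp
import Groth.Agent.Helper1.GammaInj

set_option autoImplicit false

/-!
# `cd(I + J) ≤ cd(I) + cd(J)`
-/

namespace Groth.Agent.Helper1.LocCohSup
open CategoryTheory Limits Opposite
open Groth.Agent.Helper1.DeltaFun Groth.Agent.Helper1.LocCohDelta Groth.Agent.Helper1.LocFun

universe u

variable {R : Type u} [CommRing R] (I J : Ideal R)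

/-- `Γ_I(Γ_J(M)) ≃ Γ_{I+J}(M)` -/
def gammaCompEquiv (M : Type u) [AddCommGroup M] [Module R M] :
    DRing.torsionSub I (DRing.torsionSub J M) ≃ₗ[R] DRing.torsionSub (I ⊔ J) M where
  toFun x := ⟨x.1.1, (mem_torsionSub_sup I J _).2 ⟨by
    obtain ⟨n, hn⟩ := x.2
    exact ⟨n, fun a ha => congrArg Subtype.val (hn a ha)⟩, x.1.2⟩⟩
  map_add' _ _ := rfl
  map_smul' _ _ := rfl
  invFun y := ⟨⟨y.1, ((mem_torsionSub_sup I J _).1 y.2).2⟩, by
    obtain ⟨n, hn⟩ := ((mem_torsionSub_sup I J _).1 y.2).1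
    exact ⟨n, fun a ha => Subtype.ext (hn a ha)⟩⟩
  left_inv _ := rfl
  right_inv _ := rfl

/-- `Γ_J ⋙ Γ_I ≅ Γ_{I+J}` -/
noncomputable def gammaCompIso : DRing.gammaI J ⋙ DRing.gammaI I ≅ DRing.gammaI (I ⊔ J) :=
  NatIso.ofComponents (fun M => (gammaCompEquiv I J M).toModuleIso)
    (fun f => by
      ext x
      rfl)

variable [IsNoetherianRing R]

theorem cdLE_sup (a b : ℕ) (hI : LocCoh.CdLE R I a) (hJ : LocCoh.CdLE R J b) :
    LocCoh.CdLE R (I ⊔ J) (a + b) := by
  intro M _ _ i hi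
  have hGF : ∀ (E : ModuleCat.{u} R) [Injective E] (n : ℕ),
      IsZero (((DRing.gammaI I).rightDerived (n + 1)).obj ((DRing.gammaI J).obj E)) := by
    intro E _ n
    haveI : Injective ((DRing.gammaI J).obj E) := GammaInj.injective_gammaI_obj J E
    exact Functor.isZero_rightDerived_obj_injective_succ _ n _
  have hF : ∀ (p : ℕ), a < p → ∀ N : ModuleCat.{u} R,
      IsZero (((DRing.gammaI I).rightDerived p).obj N) := by
    intro p hp N
    refine IsZero.of_iso ?_ ((lcIsoδ I p).app N).symm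
    exact ModuleCat.isZero_iff_subsingleton.2 (hI N p hp)
  have hG : ∀ q : ℕ, b < q → IsZero (((DRing.gammaI J).rightDerived q).obj (ModuleCat.of R M)) := by
    intro q hq
    refine IsZero.of_iso ?_ ((lcIsoδ J q).app _).symm
    exact ModuleCat.isZero_iff_subsingleton.2 (hJ M q hq)
  have h := CompVanish.main (DRing.gammaI J) (DRing.gammaI I) hGF a hF b (ModuleCat.of R M) hG i hi
  have h' : IsZero ((localCohomology (I ⊔ J) i).obj (ModuleCat.of R M)) :=
    IsZero.of_iso h ((lcIsoδ (I ⊔ J) i).app _ ≪≫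
      ((DeltaFun.rightDerivedIso (gammaCompIso I J) i).app _).symm)
  exact ModuleCat.isZero_iff_subsingleton.1 h'

end Groth.Agent.Helper1.LocCohSup
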