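import Mathlib
import Groth.Prelude.Def_CohTop
import Groth.Agent.Lead.CohTopB
import Groth.Agent.Helper1.CohTopExt

/-!
# Mayer–Vietoris for `CohTop.HU`, in elementwise form, with naturality in the sheaf and the opens
-/

namespace Groth.Agent.Helper1.MVTop

open CategoryTheory Limits Opposite TopologicalSpace Abelian
open Groth.Agent.Lead.CohTopB

universe u
variable {X : TopCat.{u}} (F G : CohTop.Ab X) (P Q : Opens X)

/-- the Mayer–Vietoris connecting map `Hⁿ(P ∩ Q) → Hⁿ⁺¹(P ∪ Q)` -/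
noncomputable def mvδ (n : ℕ) : CohTop.HU F n (P ⊓ Q) →+ CohTop.HU F (n+1) (P ⊔ Q) :=
  ((Opens.mayerVietorisSquare P Q).δ F n (n+1) rfl).hom

lemma exists_of_mvδ_eq_zero (n : ℕ) (x : CohTop.HU F n (P ⊓ Q)) (hx : mvδ F P Q n x = 0) :
    ∃ (a : CohTop.HU F n P) (b : CohTop.HU F n Q),
      x = CohTop.res F n inf_le_left a - CohTop.res F n inf_le_right b := by
  have hex := ((Opens.mayerVietorisSquare P Q).sequence_exact F n (n+1) rfl).exact 1
  rw [ShortComplex.ab_exact_iff] at hex
  obtain ⟨y, hy⟩ := hex x hx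
  obtain ⟨⟨a, b⟩, rfl⟩ :=
    (AddCommGrpCat.biprodIsoProd _ _).addCommGroupIsoToAddEquiv.symm.surjective y
  refine ⟨a, b, ?_⟩
  rw [← hy]
  exact (Opens.mayerVietorisSquare P Q).fromBiprod_biprodIsoProd_inv_apply F a b

lemma mvδ_res_sub (n : ℕ) (a : CohTop.HU F n P) (b : CohTop.HU F n Q) :
    mvδ F P Q n (CohTop.res F n inf_le_left a - CohTop.res F n inf_le_right b) = 0 := by
  have h := (Opens.mayerVietorisSquare P Q).fromBiprod_biprodIsoProd_inv_apply F a b
  have h2 := congrArg (fun f => f.hom ((AddCommGrpCat.biprodIsoProd _ _).inv ⟨a, b⟩))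
    ((Opens.mayerVietorisSquare P Q).fromBiprod_δ F n (n+1) rfl)
  simp only [AddCommGrpCat.hom_comp, AddMonoidHom.coe_comp, Function.comp_apply] at h2
  rw [h] at h2
  exact h2

lemma exists_mvδ_eq (n : ℕ) (z : CohTop.HU F (n+1) (P ⊔ Q))
    (h1 : CohTop.res F (n+1) le_sup_left z = 0) (h2 : CohTop.res F (n+1) le_sup_right z = 0) :
    ∃ x : CohTop.HU F n (P ⊓ Q), mvδ F P Q n x = z := by
  have hex := ((Opens.mayerVietorisSquare P Q).sequence_exact F n (n+1) rfl).exact 2
  rw [ShortComplex.ab_exact_iff] at hex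
  apply hex z
  have := (Opens.mayerVietorisSquare P Q).toBiprod_apply F z
  refine this.trans ?_
  have h1' : (F.cohomologyPresheaf (n+1)).map (Opens.mayerVietorisSquare P Q).f₂₄.op z = 0 := h1
  have h2' : (F.cohomologyPresheaf (n+1)).map (Opens.mayerVietorisSquare P Q).f₃₄.op z = 0 := h2
  rw [h1', h2']
  exact map_zero _

variable {F G} in
/-- naturality of the connecting map in the sheaf -/
lemma HUmap_mvδ (n : ℕ) (φ : F ⟶ G) (x : CohTop.HU F n (P ⊓ Q)) :
    CohTop.HUmap φ (n+1) (P ⊔ Q) (mvδ F P Q n x) = mvδ G P Q n (CohTop.HUmap φ n (P ⊓ Q) x) :=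
  Ext.comp_assoc (Opens.mayerVietorisSquare P Q).shortComplex_shortExact.extClass
    (show Ext (Opens.mayerVietorisSquare P Q).shortComplex.X₁ F n from x) (Ext.mk₀ φ)
    (by omega) (add_zero n) (by omega)

lemma freeMap_comp {U V W : Opens X} (h : V ≤ U) (h' : W ≤ V) (h'' : W ≤ U) :
    freeMap (homOfLE h') ≫ freeMap (homOfLE h) = freeMap (homOfLE h'') := by
  unfold freeMap
  rw [← Functor.map_comp, ← Functor.map_comp]
  rfl

variable {P Q} {P' Q' : Opens X} (hP : P' ≤ P) (hQ : Q' ≤ Q)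

/-- the map of Mayer–Vietoris short complexes induced by an inclusion of pairs of opens -/
noncomputable def scMap : (Opens.mayerVietorisSquare P' Q').shortComplex ⟶
    (Opens.mayerVietorisSquare P Q).shortComplex where
  τ₁ := freeMap (homOfLE (inf_le_inf hP hQ))
  τ₂ := biprod.map (freeMap (homOfLE hP)) (freeMap (homOfLE hQ))
  τ₃ := freeMap (homOfLE (sup_le_sup hP hQ))
  comm₁₂ := by
    show freeMap (homOfLE (inf_le_inf hP hQ)) ≫
      biprod.lift (freeMap (homOfLE (inf_le_left : P ⊓ Q ≤ P)))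
        (-freeMap (homOfLE (inf_le_right : P ⊓ Q ≤ Q))) =
      biprod.lift (freeMap (homOfLE (inf_le_left : P' ⊓ Q' ≤ P')))
        (-freeMap (homOfLE (inf_le_right : P' ⊓ Q' ≤ Q'))) ≫
      biprod.map (freeMap (homOfLE hP)) (freeMap (homOfLE hQ))
    symm
    apply biprod.hom_ext
    · simp only [Category.assoc, biprod.lift_fst, biprod.map_fst, biprod.lift_fst_assoc]
      exact (freeMap_comp _ _ (inf_le_left.trans hP)).trans (freeMap_comp _ _ _).symm
    · simp only [Category.assoc, biprod.lift_snd, biprod.map_snd, biprod.lift_snd_assoc,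
        Preadditive.neg_comp, Preadditive.comp_neg, neg_inj]
      exact (freeMap_comp _ _ (inf_le_right.trans hQ)).trans (freeMap_comp _ _ _).symm
  comm₂₃ := by
    show biprod.map (freeMap (homOfLE hP)) (freeMap (homOfLE hQ)) ≫
      biprod.desc (freeMap (homOfLE (le_sup_left : P ≤ P ⊔ Q)))
        (freeMap (homOfLE (le_sup_right : Q ≤ P ⊔ Q))) =
      biprod.desc (freeMap (homOfLE (le_sup_left : P' ≤ P' ⊔ Q')))
        (freeMap (homOfLE (le_sup_right : Q' ≤ P' ⊔ Q'))) ≫
      freeMap (homOfLE (sup_le_sup hP hQ))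
    symm
    apply biprod.hom_ext'
    · simp only [biprod.inl_map_assoc, biprod.inl_desc, biprod.inl_desc_assoc]
      exact (freeMap_comp _ _ (hP.trans le_sup_left)).trans (freeMap_comp _ _ _).symm
    · simp only [biprod.inr_map_assoc, biprod.inr_desc, biprod.inr_desc_assoc]
      exact (freeMap_comp _ _ (hQ.trans le_sup_right)).trans (freeMap_comp _ _ _).symm

/-- naturality of the connecting map in the pair of opens -/
lemma res_mvδ (n : ℕ) (x : CohTop.HU F n (P ⊓ Q)) :
    CohTop.res F (n+1) (sup_le_sup hP hQ) (mvδ F P Q n x) =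
      mvδ F P' Q' n (CohTop.res F n (inf_le_inf hP hQ) x) := by
  have h1 := ShortComplex.ShortExact.extClass_naturality
    (Opens.mayerVietorisSquare P' Q').shortComplex_shortExact
    (Opens.mayerVietorisSquare P Q).shortComplex_shortExact (scMap hP hQ)
  have e1 : CohTop.res F (n+1) (sup_le_sup hP hQ) (mvδ F P Q n x) =
      ((Ext.mk₀ (scMap hP hQ).τ₃).comp
        (Opens.mayerVietorisSquare P Q).shortComplex_shortExact.extClass (zero_add 1)).comp
        (show Ext (Opens.mayerVietorisSquare P Q).shortComplex.X₁ F n from x) (by omega) :=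
    (Ext.comp_assoc (Ext.mk₀ (scMap hP hQ).τ₃)
      (Opens.mayerVietorisSquare P Q).shortComplex_shortExact.extClass
      (show Ext (Opens.mayerVietorisSquare P Q).shortComplex.X₁ F n from x)
      (zero_add 1) (by omega) (by omega)).symm
  rw [e1, ← h1]
  exact Ext.comp_assoc _ _ _ (add_zero 1) (zero_add n) (by omega)

section res

lemma res_res (n : ℕ) {U V W : Opens X} (h : V ≤ U) (h' : W ≤ V) (x : CohTop.HU F n U) :
    CohTop.res F n h' (CohTop.res F n h x) = CohTop.res F n (h'.trans h) x := by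
  show ((Sheaf.cohomologyPresheaf.{u} F n).map (homOfLE h).op ≫
    (Sheaf.cohomologyPresheaf.{u} F n).map (homOfLE h').op).hom x = _
  rw [← Functor.map_comp]
  rfl

lemma res_self (n : ℕ) {U : Opens X} (h : U ≤ U) (x : CohTop.HU F n U) :
    CohTop.res F n h x = x := by
  have : (homOfLE h).op = 𝟙 (op U) := Subsingleton.elim _ _
  show ((Sheaf.cohomologyPresheaf.{u} F n).map (homOfLE h).op).hom x = x
  rw [this, CategoryTheory.Functor.map_id]
  rfl

lemma res_bijective (n : ℕ) {U V : Opens X} (h : V ≤ U) (h' : U ≤ V) :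
    Function.Bijective (CohTop.res F n h) := by
  refine Function.bijective_iff_has_inverse.2 ⟨CohTop.res F n h', fun x => ?_, fun x => ?_⟩
  · rw [res_res, res_self]
  · rw [res_res, res_self]

variable {F G}

lemma HUmap_res (n : ℕ) (φ : F ⟶ G) {U V : Opens X} (h : V ≤ U) (x : CohTop.HU F n U) :
    CohTop.HUmap φ n V (CohTop.res F n h x) = CohTop.res G n h (CohTop.HUmap φ n U x) := by
  have := ((Sheaf.cohomologyPresheafFunctor (Opens.grothendieckTopology X) n).map φ).naturality
    (homOfLE h).op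
  exact congrArg (fun f => f.hom x) this

end res

section sections

/-- `H⁰(U, F) ≃ F(U)` -/
noncomputable def sec0 (U : Opens X) : CohTop.HU F 0 U ≃+ F.obj.obj (op U) :=
  Ext.addEquiv₀.trans (CohTopExt.homAddEquiv U F)

lemma sec0_res {U V : Opens X} (h : V ≤ U) (x : CohTop.HU F 0 U) :
    sec0 F V (CohTop.res F 0 h x) = F.obj.map (homOfLE h).op (sec0 F U x) := by
  show homEquiv V F (Ext.addEquiv₀ ((Ext.mk₀ (freeMap (homOfLE h))).comp x (zero_add 0))) =
    F.obj.map (homOfLE h).op (homEquiv U F (Ext.addEquiv₀ x))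
  rw [← homEquiv_map]
  congr 1
  apply (Ext.mk₀_bijective _ _).1
  rw [Ext.mk₀_addEquiv₀_apply, ← Ext.mk₀_comp_mk₀, Ext.mk₀_addEquiv₀_apply]

variable {F G}

lemma sec0_HUmap (φ : F ⟶ G) (U : Opens X) (x : CohTop.HU F 0 U) :
    sec0 G U (CohTop.HUmap φ 0 U x) = φ.hom.app (op U) (sec0 F U x) := by
  show homEquiv U G (Ext.addEquiv₀ (x.comp (Ext.mk₀ φ) (add_zero 0))) =
    φ.hom.app (op U) (homEquiv U F (Ext.addEquiv₀ x))
  rw [← homEquiv_comp]
  congr 1
  apply (Ext.mk₀_bijective _ _).1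
  rw [Ext.mk₀_addEquiv₀_apply, ← Ext.mk₀_comp_mk₀, Ext.mk₀_addEquiv₀_apply]

end sections

end Groth.Agent.Helper1.MVTop
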