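import Groth.Agent.Helper1.MVTop1

/-!
# Top cohomology of a finite union of acyclic opens, via iterated Mayer–Vietoris

For opens `U₀, U₁, …, U_k` (given as `U₀` and a list `L`) we construct a map
`π : H⁰(U₀ ∩ ⋯ ∩ U_k ∩ Y) → H^k((U₀ ∪ ⋯ ∪ U_k) ∩ Y)`, natural in the sheaf and in `Y`.
-/

namespace Groth.Agent.Helper1.MVTop

open CategoryTheory Limits Opposite TopologicalSpace Abelian

universe u
variable {X : TopCat.{u}}

section step

variable (U A B Y : Opens X)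

lemma le1 : A ⊓ (U ⊓ Y) ≤ (U ⊓ A) ⊓ Y :=
  le_inf (le_inf (inf_le_right.trans inf_le_left) inf_le_left) (inf_le_right.trans inf_le_right)

lemma le1' : (U ⊓ A) ⊓ Y ≤ A ⊓ (U ⊓ Y) :=
  le_inf (inf_le_left.trans inf_le_right) (le_inf (inf_le_left.trans inf_le_left) inf_le_right)

lemma le2 : (U ⊓ Y) ⊓ (B ⊓ Y) ≤ B ⊓ (U ⊓ Y) :=
  le_inf (inf_le_right.trans inf_le_left) inf_le_left

lemma le2' : B ⊓ (U ⊓ Y) ≤ (U ⊓ Y) ⊓ (B ⊓ Y) :=
  le_inf inf_le_right (le_inf inf_le_left (inf_le_right.trans inf_le_right))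

lemma le3 : (U ⊔ B) ⊓ Y ≤ (U ⊓ Y) ⊔ (B ⊓ Y) :=
  le_of_eq (inf_sup_right _ _ _)

lemma le3' : (U ⊓ Y) ⊔ (B ⊓ Y) ≤ (U ⊔ B) ⊓ Y :=
  le_of_eq (inf_sup_right _ _ _).symm

variable (F G : CohTop.Ab X) (n : ℕ)

/-- one Mayer–Vietoris step -/
noncomputable def step (p : CohTop.HU F 0 (A ⊓ (U ⊓ Y)) →+ CohTop.HU F n (B ⊓ (U ⊓ Y))) :
    CohTop.HU F 0 ((U ⊓ A) ⊓ Y) →+ CohTop.HU F (n + 1) ((U ⊔ B) ⊓ Y) :=
  (CohTop.res F (n + 1) (le3 U B Y)).comp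
    ((mvδ F (U ⊓ Y) (B ⊓ Y) n).comp
      ((CohTop.res F n (le2 U B Y)).comp (p.comp (CohTop.res F 0 (le1 U A Y)))))

lemma step_apply (p : CohTop.HU F 0 (A ⊓ (U ⊓ Y)) →+ CohTop.HU F n (B ⊓ (U ⊓ Y)))
    (x : CohTop.HU F 0 ((U ⊓ A) ⊓ Y)) :
    step U A B Y F n p x = CohTop.res F (n + 1) (le3 U B Y)
      (mvδ F (U ⊓ Y) (B ⊓ Y) n (CohTop.res F n (le2 U B Y) (p (CohTop.res F 0 (le1 U A Y) x)))) :=
  rfl

variable {F G} in
lemma HUmap_step (φ : F ⟶ G)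
    (p : CohTop.HU F 0 (A ⊓ (U ⊓ Y)) →+ CohTop.HU F n (B ⊓ (U ⊓ Y)))
    (p' : CohTop.HU G 0 (A ⊓ (U ⊓ Y)) →+ CohTop.HU G n (B ⊓ (U ⊓ Y)))
    (hp : ∀ x, CohTop.HUmap φ n _ (p x) = p' (CohTop.HUmap φ 0 _ x))
    (x : CohTop.HU F 0 ((U ⊓ A) ⊓ Y)) :
    CohTop.HUmap φ (n + 1) _ (step U A B Y F n p x) =
      step U A B Y G n p' (CohTop.HUmap φ 0 _ x) := by
  rw [step_apply, step_apply]
  refine (HUmap_res (n + 1) φ _ _).trans ?_
  refine congrArg _ ?_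
  refine (HUmap_mvδ _ _ n φ _).trans ?_
  refine congrArg _ ?_
  refine (HUmap_res n φ _ _).trans ?_
  refine congrArg _ ?_
  refine (hp _).trans ?_
  refine congrArg _ ?_
  exact HUmap_res 0 φ _ _

variable {Y} in
lemma res_step {Y' : Opens X} (h : Y' ≤ Y)
    (p : CohTop.HU F 0 (A ⊓ (U ⊓ Y)) →+ CohTop.HU F n (B ⊓ (U ⊓ Y)))
    (p' : CohTop.HU F 0 (A ⊓ (U ⊓ Y')) →+ CohTop.HU F n (B ⊓ (U ⊓ Y')))
    (hp : ∀ x, CohTop.res F n (inf_le_inf le_rfl (inf_le_inf le_rfl h)) (p x) =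
      p' (CohTop.res F 0 (inf_le_inf le_rfl (inf_le_inf le_rfl h)) x))
    (x : CohTop.HU F 0 ((U ⊓ A) ⊓ Y)) :
    CohTop.res F (n + 1) (inf_le_inf le_rfl h) (step U A B Y F n p x) =
      step U A B Y' F n p' (CohTop.res F 0 (inf_le_inf le_rfl h) x) := by
  have hP : U ⊓ Y' ≤ U ⊓ Y := inf_le_inf le_rfl h
  have hQ : B ⊓ Y' ≤ B ⊓ Y := inf_le_inf le_rfl h
  rw [step_apply, step_apply, res_res]
  have e1 := res_mvδ (F := F) hP hQ n
    (CohTop.res F n (le2 U B Y) (p (CohTop.res F 0 (le1 U A Y) x)))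
  have e2 : CohTop.res F (n + 1) ((inf_le_inf le_rfl h).trans (le3 U B Y))
      (mvδ F (U ⊓ Y) (B ⊓ Y) n (CohTop.res F n (le2 U B Y) (p (CohTop.res F 0 (le1 U A Y) x)))) =
      CohTop.res F (n + 1) (le3 U B Y') (CohTop.res F (n + 1) (sup_le_sup hP hQ)
        (mvδ F (U ⊓ Y) (B ⊓ Y) n
          (CohTop.res F n (le2 U B Y) (p (CohTop.res F 0 (le1 U A Y) x))))) := by
    rw [res_res]
  rw [e2, e1]
  refine congrArg _ (congrArg _ ?_)
  rw [res_res]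
  have e3 : CohTop.res F n ((inf_le_inf hP hQ).trans (le2 U B Y))
      (p (CohTop.res F 0 (le1 U A Y) x)) =
      CohTop.res F n (le2 U B Y') (CohTop.res F n (inf_le_inf le_rfl (inf_le_inf le_rfl h))
        (p (CohTop.res F 0 (le1 U A Y) x))) := by
    rw [res_res]
  rw [e3, hp]
  refine congrArg _ (congrArg _ ?_)
  rw [res_res, res_res]

lemma step_surjective (p : CohTop.HU F 0 (A ⊓ (U ⊓ Y)) →+ CohTop.HU F n (B ⊓ (U ⊓ Y)))
    (hp : Function.Surjective p) (h1 : Subsingleton (CohTop.HU F (n + 1) (U ⊓ Y)))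
    (h2 : Subsingleton (CohTop.HU F (n + 1) (B ⊓ Y))) :
    Function.Surjective (step U A B Y F n p) := by
  intro z
  obtain ⟨w, hw⟩ := exists_mvδ_eq F (U ⊓ Y) (B ⊓ Y) n (CohTop.res F (n + 1) (le3' U B Y) z)
    (Subsingleton.elim _ _) (Subsingleton.elim _ _)
  obtain ⟨v, hv⟩ := hp (CohTop.res F n (le2' U B Y) w)
  refine ⟨CohTop.res F 0 (le1' U A Y) v, ?_⟩
  rw [step_apply, res_res, res_self, hv, res_res, res_self, hw, res_res, res_self]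

lemma step_eq_zero_iff (p : CohTop.HU F 0 (A ⊓ (U ⊓ Y)) →+ CohTop.HU F n (B ⊓ (U ⊓ Y)))
    (x : CohTop.HU F 0 ((U ⊓ A) ⊓ Y)) :
    step U A B Y F n p x = 0 ↔
      ∃ (a : CohTop.HU F n (U ⊓ Y)) (b : CohTop.HU F n (B ⊓ Y)),
        CohTop.res F n (le2 U B Y) (p (CohTop.res F 0 (le1 U A Y) x)) =
          CohTop.res F n inf_le_left a - CohTop.res F n inf_le_right b := by
  rw [step_apply]
  constructor
  · intro h
    apply exists_of_mvδ_eq_zero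
    apply (res_bijective F (n + 1) (le3 U B Y) (le3' U B Y)).1
    rw [h, map_zero]
  · rintro ⟨a, b, hab⟩
    rw [hab, mvδ_res_sub, map_zero]

end step

/-- the intersection of `U₀` and the members of `L` -/
def Icap (U₀ : Opens X) : List (Opens X) → Opens X
  | [] => U₀
  | U :: L => U ⊓ Icap U₀ L

/-- the union of `U₀` and the members of `L` -/
def Scup (U₀ : Opens X) : List (Opens X) → Opens X
  | [] => U₀
  | U :: L => U ⊔ Scup U₀ L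

@[simp] lemma Icap_nil (U₀ : Opens X) : Icap U₀ [] = U₀ := rfl
@[simp] lemma Icap_cons (U₀ U : Opens X) (L : List (Opens X)) :
    Icap U₀ (U :: L) = U ⊓ Icap U₀ L := rfl
@[simp] lemma Scup_nil (U₀ : Opens X) : Scup U₀ [] = U₀ := rfl
@[simp] lemma Scup_cons (U₀ U : Opens X) (L : List (Opens X)) :
    Scup U₀ (U :: L) = U ⊔ Scup U₀ L := rfl

variable (F G : CohTop.Ab X)

/-- the iterated Mayer–Vietoris connecting map -/
noncomputable def pi (U₀ : Opens X) : (L : List (Opens X)) → (Y : Opens X) →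
    (CohTop.HU F 0 (Icap U₀ L ⊓ Y) →+ CohTop.HU F L.length (Scup U₀ L ⊓ Y))
  | [], _ => AddMonoidHom.id _
  | U :: L, Y => step U (Icap U₀ L) (Scup U₀ L) Y F L.length (pi U₀ L (U ⊓ Y))

lemma pi_cons (U₀ U : Opens X) (L : List (Opens X)) (Y : Opens X) :
    pi F U₀ (U :: L) Y = step U (Icap U₀ L) (Scup U₀ L) Y F L.length (pi F U₀ L (U ⊓ Y)) := rfl

variable {F G} in
/-- naturality of `pi` in the sheaf -/
lemma HUmap_pi (φ : F ⟶ G) (U₀ : Opens X) : ∀ (L : List (Opens X)) (Y : Opens X)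
    (x : CohTop.HU F 0 (Icap U₀ L ⊓ Y)),
    CohTop.HUmap φ L.length (Scup U₀ L ⊓ Y) (pi F U₀ L Y x) =
      pi G U₀ L Y (CohTop.HUmap φ 0 (Icap U₀ L ⊓ Y) x)
  | [], _, _ => rfl
  | U :: L, Y, x =>
    HUmap_step U (Icap U₀ L) (Scup U₀ L) Y L.length φ _ _ (HUmap_pi φ U₀ L (U ⊓ Y)) x

/-- naturality of `pi` in the auxiliary open -/
lemma res_pi (U₀ : Opens X) : ∀ (L : List (Opens X)) {Y Y' : Opens X} (h : Y' ≤ Y)
    (x : CohTop.HU F 0 (Icap U₀ L ⊓ Y)),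
    CohTop.res F L.length (inf_le_inf le_rfl h) (pi F U₀ L Y x) =
      pi F U₀ L Y' (CohTop.res F 0 (inf_le_inf le_rfl h) x)
  | [], _, _, _, _ => rfl
  | U :: L, _, _, h, x =>
    res_step U (Icap U₀ L) (Scup U₀ L) F L.length h _ _
      (res_pi U₀ L (inf_le_inf le_rfl h)) x

end Groth.Agent.Helper1.MVTop
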