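import Groth.Agent.Helper1.MVTop2

/-!
# Top cohomology of a finite union of acyclic opens: vanishing, surjectivity and the kernel
-/

namespace Groth.Agent.Helper1.MVTop

open CategoryTheory Limits Opposite TopologicalSpace Abelian

universe u
variable {X : TopCat.{u}} (F : CohTop.Ab X)

/-- a class of `F`-acyclic opens, stable under finite intersections -/
structure Acyc (PP : Opens X → Prop) : Prop where
  inf : ∀ U V, PP U → PP V → PP (U ⊓ V)
  acyclic : ∀ U, PP U → ∀ q, Subsingleton (CohTop.HU F (q + 1) U)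

/-- opens `Y` such that `U ∩ Y` is in the class for all `U` in the class -/
def Good (PP : Opens X → Prop) (Y : Opens X) : Prop := ∀ U, PP U → PP (U ⊓ Y)

lemma good_top (PP : Opens X → Prop) : Good PP ⊤ := fun U hU => by rwa [inf_top_eq]

variable {F} in
lemma Good.inf {PP : Opens X → Prop} (h : Acyc F PP) {Y U : Opens X} (hY : Good PP Y) (hU : PP U) :
    Good PP (U ⊓ Y) := fun V hV => by
  rw [← inf_assoc]
  exact hY _ (h.inf V U hV hU)

variable {F}

/-- vanishing above the number of opens -/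
theorem subsingleton_HU_Scup {PP : Opens X → Prop} (h : Acyc F PP) (U₀ : Opens X) (hU₀ : PP U₀) :
    ∀ (L : List (Opens X)) (_ : ∀ U ∈ L, PP U) (Y : Opens X) (_ : Good PP Y) (q : ℕ)
      (_ : L.length < q), Subsingleton (CohTop.HU F q (Scup U₀ L ⊓ Y))
  | [], _, Y, hY, q, hq => by
    obtain ⟨q', rfl⟩ : ∃ q', q = q' + 1 := ⟨q - 1, by simp at hq; omega⟩
    exact h.acyclic _ (hY _ hU₀) q'
  | U :: L, hL, Y, hY, q, hq => by
    have hU : PP U := hL U (List.mem_cons_self)
    have hL' : ∀ V ∈ L, PP V := fun V hV => hL V (List.mem_cons_of_mem _ hV)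
    obtain ⟨q', rfl⟩ : ∃ q', q = q' + 1 := ⟨q - 1, by simp at hq; omega⟩
    have hq' : L.length < q' := by simp at hq; omega
    have s1 : Subsingleton (CohTop.HU F (q' + 1) (U ⊓ Y)) := h.acyclic _ (hY _ hU) q'
    have s2 : Subsingleton (CohTop.HU F (q' + 1) (Scup U₀ L ⊓ Y)) :=
      subsingleton_HU_Scup h U₀ hU₀ L hL' Y hY (q' + 1) (by omega)
    have s3 : Subsingleton (CohTop.HU F q' (Scup U₀ L ⊓ (U ⊓ Y))) :=
      subsingleton_HU_Scup h U₀ hU₀ L hL' (U ⊓ Y) (hY.inf h hU) q' hq'
    refine subsingleton_of_forall_eq 0 (fun z => ?_)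
    obtain ⟨w, hw⟩ := exists_mvδ_eq F (U ⊓ Y) (Scup U₀ L ⊓ Y) q'
      (CohTop.res F (q' + 1) (le3' U (Scup U₀ L) Y) z)
      (Subsingleton.elim _ _) (Subsingleton.elim _ _)
    have hw0 : w = 0 := by
      have := res_res F q' (le2' U (Scup U₀ L) Y) (le2 U (Scup U₀ L) Y) w
      rw [res_self] at this
      rw [← this, Subsingleton.elim (CohTop.res F q' (le2' U (Scup U₀ L) Y) w) 0, map_zero]
    rw [hw0, map_zero] at hw
    have := res_res F (q' + 1) (le3' U (Scup U₀ L) Y) (le3 U (Scup U₀ L) Y) z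
    rw [res_self] at this
    rw [← this, ← hw]
    exact map_zero (CohTop.res F (q' + 1) (le3 U (Scup U₀ L) Y))

/-- the iterated connecting map is surjective -/
theorem pi_surjective {PP : Opens X → Prop} (h : Acyc F PP) (U₀ : Opens X) (hU₀ : PP U₀) :
    ∀ (L : List (Opens X)) (_ : ∀ U ∈ L, PP U) (Y : Opens X) (_ : Good PP Y),
      Function.Surjective (pi F U₀ L Y)
  | [], _, _, _ => fun x => ⟨x, rfl⟩
  | U :: L, hL, Y, hY => by
    have hU : PP U := hL U (List.mem_cons_self)
    have hL' : ∀ V ∈ L, PP V := fun V hV => hL V (List.mem_cons_of_mem _ hV)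
    exact step_surjective U (Icap U₀ L) (Scup U₀ L) Y F L.length _
      (pi_surjective h U₀ hU₀ L hL' (U ⊓ Y) (hY.inf h hU))
      (h.acyclic _ (hY _ hU) L.length)
      (subsingleton_HU_Scup h U₀ hU₀ L hL' Y hY (L.length + 1) (by omega))

end Groth.Agent.Helper1.MVTop
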