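import Groth.Agent.Helper1.MVTop3

/-!
# Top cohomology of a finite union of acyclic opens: the kernel of the iterated connecting map
-/

namespace Groth.Agent.Helper1.MVTop

open CategoryTheory Limits Opposite TopologicalSpace Abelian

universe u
variable {X : TopCat.{u}} (F : CohTop.Ab X)

/-- classes over `A` which extend to `f ∪ A` -/
noncomputable def Rng (f A : Opens X) : AddSubgroup (CohTop.HU F 0 A) :=
  (CohTop.res F 0 (le_sup_right : A ≤ f ⊔ A)).range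

lemma mem_Rng_iff {f A B : Opens X} (h : A ≤ B) (hB : f ⊔ A ≤ B) (hB' : B ≤ f ⊔ A)
    (x : CohTop.HU F 0 A) : x ∈ Rng F f A ↔ ∃ y : CohTop.HU F 0 B, CohTop.res F 0 h y = x := by
  constructor
  · rintro ⟨y, rfl⟩
    exact ⟨CohTop.res F 0 hB' y, res_res F 0 _ _ y⟩
  · rintro ⟨y, rfl⟩
    exact ⟨CohTop.res F 0 hB y, res_res F 0 _ _ y⟩

lemma res_mem_Rng {f A B : Opens X} (h : A ≤ B) (hB : f ≤ B) (y : CohTop.HU F 0 B) :
    CohTop.res F 0 h y ∈ Rng F f A :=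
  ⟨CohTop.res F 0 (sup_le hB h) y, res_res F 0 _ _ y⟩

/-- the restriction isomorphism between equal opens -/
noncomputable def resEquiv (n : ℕ) {A₁ A₂ : Opens X} (h : A₂ ≤ A₁) (h' : A₁ ≤ A₂) :
    CohTop.HU F n A₁ ≃+ CohTop.HU F n A₂ :=
  AddEquiv.ofBijective (CohTop.res F n h) (res_bijective F n h h')

lemma resEquiv_apply (n : ℕ) {A₁ A₂ : Opens X} (h : A₂ ≤ A₁) (h' : A₁ ≤ A₂)
    (x : CohTop.HU F n A₁) : resEquiv F n h h' x = CohTop.res F n h x := rfl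

lemma map_Rng {f₁ f₂ A₁ A₂ : Opens X} (h : A₂ ≤ A₁) (h' : A₁ ≤ A₂)
    (hf : f₂ ⊔ A₂ ≤ f₁ ⊔ A₁) (hf' : f₁ ⊔ A₁ ≤ f₂ ⊔ A₂) :
    (Rng F f₁ A₁).map (resEquiv F 0 h h').toAddMonoidHom = Rng F f₂ A₂ := by
  ext x
  constructor
  · rintro ⟨_, ⟨y, rfl⟩, rfl⟩
    refine ⟨CohTop.res F 0 hf y, ?_⟩
    show _ = CohTop.res F 0 h (CohTop.res F 0 _ y)
    rw [res_res, res_res]
  · rintro ⟨y, rfl⟩
    refine ⟨CohTop.res F 0 h' (CohTop.res F 0 le_sup_right y), ⟨CohTop.res F 0 hf' y, ?_⟩, ?_⟩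
    · rw [res_res, res_res]
    · show CohTop.res F 0 h (CohTop.res F 0 h' _) = _
      rw [res_res, res_self]

/-- the sum of the `Rng f A`, `f` in a list -/
noncomputable def supRng (A : Opens X) : List (Opens X) → AddSubgroup (CohTop.HU F 0 A)
  | [] => ⊥
  | f :: fs => Rng F f A ⊔ supRng A fs

lemma Rng_le_supRng (A : Opens X) : ∀ (fs : List (Opens X)) (f : Opens X), f ∈ fs →
    Rng F f A ≤ supRng F A fs
  | [], _, h => by simp at h
  | g :: fs, f, h => by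
    rcases List.mem_cons.1 h with rfl | h
    · exact le_sup_left
    · exact (Rng_le_supRng A fs f h).trans le_sup_right

lemma supRng_le (A : Opens X) (K : AddSubgroup (CohTop.HU F 0 A)) :
    ∀ (fs : List (Opens X)), (∀ f ∈ fs, Rng F f A ≤ K) → supRng F A fs ≤ K
  | [], _ => bot_le
  | g :: fs, h => sup_le (h g (List.mem_cons_self))
      (supRng_le A K fs (fun f hf => h f (List.mem_cons_of_mem _ hf)))

lemma map_supRng {A₁ A₂ : Opens X} (h : A₂ ≤ A₁) (h' : A₁ ≤ A₂) (g₁ g₂ : Opens X → Opens X)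
    (hg : ∀ f, g₂ f ⊔ A₂ ≤ g₁ f ⊔ A₁) (hg' : ∀ f, g₁ f ⊔ A₁ ≤ g₂ f ⊔ A₂) :
    ∀ l : List (Opens X), (supRng F A₁ (l.map g₁)).map (resEquiv F 0 h h').toAddMonoidHom =
      supRng F A₂ (l.map g₂)
  | [] => by
    show (⊥ : AddSubgroup _).map _ = ⊥
    exact AddSubgroup.map_bot _
  | f :: l => by
    show (Rng F (g₁ f) A₁ ⊔ supRng F A₁ (l.map g₁)).map _ =
      Rng F (g₂ f) A₂ ⊔ supRng F A₂ (l.map g₂)
    rw [AddSubgroup.map_sup, map_Rng F h h' (hg f) (hg' f), map_supRng h h' g₁ g₂ hg hg' l]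

/-- the faces: intersections of all members but one -/
def faces (U₀ : Opens X) : List (Opens X) → List (Opens X)
  | [] => [⊤]
  | U :: L => Icap U₀ L :: (faces U₀ L).map (U ⊓ ·)

lemma Icap_le_of_mem_faces (U₀ : Opens X) : ∀ (L : List (Opens X)) (f : Opens X),
    f ∈ faces U₀ L → Icap U₀ L ≤ f
  | [], f, h => by
    have : f = ⊤ := by simpa [faces] using h
    rw [this]; exact le_top
  | U :: L, f, h => by
    rcases List.mem_cons.1 h with rfl | h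
    · exact inf_le_right
    · obtain ⟨g, hg, rfl⟩ := List.mem_map.1 h
      exact inf_le_inf le_rfl (Icap_le_of_mem_faces U₀ L g hg)

/-- the subgroup of `H⁰(U₀ ∩ ⋯ ∩ U_k ∩ Y)` generated by the classes extending to a face -/
noncomputable def Bd (U₀ : Opens X) (L : List (Opens X)) (Y : Opens X) :
    AddSubgroup (CohTop.HU F 0 (Icap U₀ L ⊓ Y)) :=
  supRng F (Icap U₀ L ⊓ Y) ((faces U₀ L).map (· ⊓ Y))

lemma Bd_cons (U₀ U : Opens X) (L : List (Opens X)) (Y : Opens X) :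
    Bd F U₀ (U :: L) Y = Rng F (Icap U₀ L ⊓ Y) ((U ⊓ Icap U₀ L) ⊓ Y) ⊔
      supRng F ((U ⊓ Icap U₀ L) ⊓ Y) ((faces U₀ L).map (fun f => (U ⊓ f) ⊓ Y)) := by
  show supRng F ((U ⊓ Icap U₀ L) ⊓ Y)
    ((Icap U₀ L :: (faces U₀ L).map (U ⊓ ·)).map (· ⊓ Y)) = _
  rw [List.map_cons, List.map_map]
  rfl

/-- transport of `Bd` along one step -/
lemma map_Bd_cons (U₀ U : Opens X) (L : List (Opens X)) (Y : Opens X) :
    (Bd F U₀ (U :: L) Y).map
      (resEquiv F 0 (le1 U (Icap U₀ L) Y) (le1' U (Icap U₀ L) Y)).toAddMonoidHom =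
      Rng F (Icap U₀ L ⊓ Y) (Icap U₀ L ⊓ (U ⊓ Y)) ⊔ Bd F U₀ L (U ⊓ Y) := by
  rw [Bd_cons, AddSubgroup.map_sup]
  congr 1
  · apply map_Rng
    · exact sup_le le_sup_left ((le1 U (Icap U₀ L) Y).trans le_sup_right)
    · exact sup_le le_sup_left ((le1' U (Icap U₀ L) Y).trans le_sup_right)
  · refine map_supRng F _ _ (fun f => (U ⊓ f) ⊓ Y) (fun f => f ⊓ (U ⊓ Y)) ?_ ?_ (faces U₀ L)
    · intro f
      refine sup_le (le_trans ?_ le_sup_left) ((le1 U (Icap U₀ L) Y).trans le_sup_right)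
      exact le_inf (le_inf (inf_le_right.trans inf_le_left) inf_le_left)
        (inf_le_right.trans inf_le_right)
    · intro f
      refine sup_le (le_trans ?_ le_sup_left) ((le1' U (Icap U₀ L) Y).trans le_sup_right)
      exact le_inf (inf_le_left.trans inf_le_right)
        (le_inf (inf_le_left.trans inf_le_left) inf_le_right)

end Groth.Agent.Helper1.MVTop
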