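import Groth.Agent.Helper1.MVTop4

/-!
# Top cohomology of a finite union of acyclic opens: the kernel theorem
-/

namespace Groth.Agent.Helper1.MVTop

open CategoryTheory Limits Opposite TopologicalSpace Abelian

universe u
variable {X : TopCat.{u}} {F : CohTop.Ab X}

lemma step_id_eq_zero_iff (U₀ U Y : Opens X) (x : CohTop.HU F 0 ((U ⊓ U₀) ⊓ Y)) :
    step U U₀ U₀ Y F 0 (AddMonoidHom.id _) x = 0 ↔
      x ∈ Rng F (U₀ ⊓ Y) ((U ⊓ U₀) ⊓ Y) ⊔ (Rng F ((U ⊓ ⊤) ⊓ Y) ((U ⊓ U₀) ⊓ Y) ⊔ ⊥) := by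
  rw [step_eq_zero_iff, sup_bot_eq, AddSubgroup.mem_sup]
  have hA1 : (U ⊓ U₀) ⊓ Y ≤ U ⊓ Y := inf_le_inf inf_le_left le_rfl
  have hA2 : (U ⊓ U₀) ⊓ Y ≤ U₀ ⊓ Y := inf_le_inf inf_le_right le_rfl
  constructor
  · rintro ⟨a, b, hab⟩
    have hx : x = CohTop.res F 0 hA1 a - CohTop.res F 0 hA2 b := by
      have h1 := congrArg (fun t => CohTop.res F 0 (le1' U U₀ Y)
        (CohTop.res F 0 (le2' U U₀ Y) t)) hab
      simp only [map_sub, AddMonoidHom.id_apply] at h1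
      rw [res_res, res_res, res_res, res_self, res_res, res_res, res_res, res_res] at h1
      exact h1
    refine ⟨-CohTop.res F 0 hA2 b, neg_mem (res_mem_Rng F hA2 le_rfl b),
      CohTop.res F 0 hA1 a, res_mem_Rng F hA1 (inf_le_inf inf_le_left le_rfl) a, ?_⟩
    rw [hx]; abel
  · rintro ⟨y, ⟨y', rfl⟩, z, ⟨z', rfl⟩, rfl⟩
    refine ⟨CohTop.res F 0 (le_trans (le_inf (le_inf inf_le_left le_top) inf_le_right) le_sup_left
        : U ⊓ Y ≤ ((U ⊓ ⊤) ⊓ Y) ⊔ ((U ⊓ U₀) ⊓ Y)) z',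
      -CohTop.res F 0 (le_sup_left : U₀ ⊓ Y ≤ (U₀ ⊓ Y) ⊔ ((U ⊓ U₀) ⊓ Y)) y', ?_⟩
    simp only [map_add, map_neg, sub_neg_eq_add, AddMonoidHom.id_apply]
    rw [res_res, res_res, res_res, res_res, res_res, res_res, add_comm]

lemma step_succ_eq_zero_iff (U A B Y : Opens X) (n : ℕ)
    (p : CohTop.HU F 0 (A ⊓ (U ⊓ Y)) →+ CohTop.HU F (n + 1) (B ⊓ (U ⊓ Y)))
    (pY : CohTop.HU F 0 (A ⊓ Y) →+ CohTop.HU F (n + 1) (B ⊓ Y)) (hpY : Function.Surjective pY)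
    (hres : ∀ c, CohTop.res F (n + 1) (inf_le_inf le_rfl inf_le_right : B ⊓ (U ⊓ Y) ≤ B ⊓ Y) (pY c) =
      p (CohTop.res F 0 (inf_le_inf le_rfl inf_le_right : A ⊓ (U ⊓ Y) ≤ A ⊓ Y) c))
    (hsub : Subsingleton (CohTop.HU F (n + 1) (U ⊓ Y)))
    (K : AddSubgroup (CohTop.HU F 0 (A ⊓ (U ⊓ Y)))) (hK : ∀ z, p z = 0 ↔ z ∈ K)
    (x : CohTop.HU F 0 ((U ⊓ A) ⊓ Y)) :
    step U A B Y F (n + 1) p x = 0 ↔
      CohTop.res F 0 (le1 U A Y) x ∈ Rng F (A ⊓ Y) (A ⊓ (U ⊓ Y)) ⊔ K := by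
  rw [step_eq_zero_iff, AddSubgroup.mem_sup]
  have hA : A ⊓ (U ⊓ Y) ≤ A ⊓ Y := inf_le_inf le_rfl inf_le_right
  have hinj := (res_bijective F (n + 1) (le2 U B Y) (le2' U B Y)).1
  constructor
  · rintro ⟨a, b, hab⟩
    obtain ⟨c, rfl⟩ := hpY b
    rw [Subsingleton.elim a 0, map_zero, zero_sub] at hab
    refine ⟨-CohTop.res F 0 hA c, neg_mem (res_mem_Rng F hA le_rfl c),
      CohTop.res F 0 (le1 U A Y) x + CohTop.res F 0 hA c, ?_, by abel⟩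
    rw [← hK]
    apply hinj
    rw [map_add, map_add, hab, ← hres, res_res, map_zero]
    exact neg_add_cancel _
  · rintro ⟨y, hy, z, hz, hyz⟩
    obtain ⟨c, rfl⟩ := (mem_Rng_iff F hA (sup_le le_rfl hA) le_sup_left y).1 hy
    refine ⟨0, -pY c, ?_⟩
    rw [← hyz, map_add, (hK z).2 hz, add_zero, ← hres, res_res, map_zero, zero_sub, map_neg,
      neg_neg]

variable (F) in
/-- **the kernel of the iterated connecting map** is generated by the classes which extend to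
one of the faces -/
theorem pi_eq_zero_iff {PP : Opens X → Prop} (h : Acyc F PP) (U₀ : Opens X) (hU₀ : PP U₀) :
    ∀ (L : List (Opens X)) (_ : ∀ U ∈ L, PP U) (_ : L ≠ []) (Y : Opens X) (_ : Good PP Y)
      (x : CohTop.HU F 0 (Icap U₀ L ⊓ Y)), pi F U₀ L Y x = 0 ↔ x ∈ Bd F U₀ L Y
  | [], _, hne, _, _, _ => absurd rfl hne
  | [U], _, _, Y, _, x => by
    have h1 : pi F U₀ [U] Y x = 0 ↔ _ := step_id_eq_zero_iff U₀ U Y x
    exact h1
  | U :: U' :: L', hL, _, Y, hY, x => by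
    have hU : PP U := hL U (List.mem_cons_self)
    have hL' : ∀ V ∈ U' :: L', PP V := fun V hV => hL V (List.mem_cons_of_mem _ hV)
    have IH := pi_eq_zero_iff h U₀ hU₀ (U' :: L') hL' (List.cons_ne_nil _ _) (U ⊓ Y)
      (hY.inf h hU)
    have h1 : pi F U₀ (U :: U' :: L') Y x = 0 ↔ _ :=
      step_succ_eq_zero_iff U (Icap U₀ (U' :: L')) (Scup U₀ (U' :: L')) Y L'.length
        (pi F U₀ (U' :: L') (U ⊓ Y)) (pi F U₀ (U' :: L') Y)
        (pi_surjective h U₀ hU₀ (U' :: L') hL' Y hY)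
        (fun c => res_pi F U₀ (U' :: L') (inf_le_right : U ⊓ Y ≤ Y) c)
        (h.acyclic _ (hY _ hU) L'.length) (Bd F U₀ (U' :: L') (U ⊓ Y)) IH x
    rw [h1, ← map_Bd_cons]
    exact AddSubgroup.mem_map_iff_mem
      (resEquiv F 0 (le1 U (Icap U₀ (U' :: L')) Y) (le1' U (Icap U₀ (U' :: L')) Y)).injective

end Groth.Agent.Helper1.MVTop
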