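import Groth.Agent.Helper1.MVTop6

/-!
# Combinatorics of the faces of a finite family of opens
-/

namespace Groth.Agent.Helper1.MVTop

open CategoryTheory Limits Opposite TopologicalSpace

universe u
variable {X : TopCat.{u}}

lemma mem_Icap (U₀ : Opens X) : ∀ (L : List (Opens X)) (x : X),
    x ∈ Icap U₀ L ↔ ∀ V ∈ L ++ [U₀], x ∈ V
  | [], x => by simp
  | U :: L, x => by
    show x ∈ U ⊓ Icap U₀ L ↔ _
    rw [Opens.mem_inf, mem_Icap U₀ L x]
    simp

lemma mem_Scup (U₀ : Opens X) : ∀ (L : List (Opens X)) (x : X),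
    x ∈ Scup U₀ L ↔ ∃ V ∈ L ++ [U₀], x ∈ V
  | [], x => by simp
  | U :: L, x => by
    show x ∈ U ⊔ Scup U₀ L ↔ _
    rw [Opens.mem_sup, mem_Scup U₀ L x]
    simp

/-- every face is the intersection of all members but one -/
lemma exists_idx_of_mem_faces (U₀ : Opens X) : ∀ (L : List (Opens X)) (f : Opens X),
    f ∈ faces U₀ L → ∃ i, i < L.length + 1 ∧
      ∀ x : X, x ∈ f ↔ ∀ V ∈ (L ++ [U₀]).eraseIdx i, x ∈ V
  | [], f, hf => by
    have : f = ⊤ := by simpa [faces] using hf
    subst this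
    exact ⟨0, by simp, fun x => by simp⟩
  | U :: L, f, hf => by
    rcases List.mem_cons.1 hf with rfl | hf
    · refine ⟨0, by simp, fun x => ?_⟩
      rw [mem_Icap]
      simp
    · obtain ⟨f', hf', rfl⟩ := List.mem_map.1 hf
      obtain ⟨i, hi, h⟩ := exists_idx_of_mem_faces U₀ L f' hf'
      refine ⟨i + 1, by simpa using hi, fun x => ?_⟩
      rw [List.cons_append, List.eraseIdx_cons_succ]
      show x ∈ U ⊓ f' ↔ _
      rw [Opens.mem_inf, h x]
      simp

/-- the intersection of all members but one is a face -/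
lemma exists_mem_faces_of_idx (U₀ : Opens X) : ∀ (L : List (Opens X)) (i : ℕ),
    i < L.length + 1 → ∃ f ∈ faces U₀ L,
      ∀ x : X, x ∈ f ↔ ∀ V ∈ (L ++ [U₀]).eraseIdx i, x ∈ V
  | [], i, hi => by
    have : i = 0 := by simpa using hi
    subst this
    exact ⟨⊤, by simp [faces], fun x => by simp⟩
  | U :: L, 0, _ => by
    refine ⟨Icap U₀ L, List.mem_cons_self, fun x => ?_⟩
    rw [mem_Icap]
    simp
  | U :: L, i + 1, hi => by
    obtain ⟨f', hf', h⟩ := exists_mem_faces_of_idx U₀ L i (by simpa using hi)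
    refine ⟨U ⊓ f', List.mem_cons_of_mem _ (List.mem_map.2 ⟨f', hf', rfl⟩), fun x => ?_⟩
    rw [List.cons_append, List.eraseIdx_cons_succ]
    show x ∈ U ⊓ f' ↔ _
    rw [Opens.mem_inf, h x]
    simp

section family

variable {k : ℕ} (V : Fin (k + 1) → Opens X)

/-- the list of all members of the family but the last -/
def initList : List (Opens X) := List.ofFn (fun i : Fin k => V i.castSucc)

lemma initList_append : initList V ++ [V (Fin.last k)] = List.ofFn V := by
  unfold initList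
  rw [List.ofFn_succ' V, List.concat_eq_append]

lemma length_initList : (initList V).length = k := List.length_ofFn

lemma mem_Icap_family (x : X) :
    x ∈ Icap (V (Fin.last k)) (initList V) ↔ ∀ i, x ∈ V i := by
  rw [mem_Icap, initList_append]
  constructor
  · intro h i
    exact h _ ((List.mem_ofFn' V (V i)).2 ⟨i, rfl⟩)
  · intro h W hW
    obtain ⟨i, rfl⟩ := (List.mem_ofFn' V W).1 hW
    exact h i

lemma mem_Scup_family (x : X) :
    x ∈ Scup (V (Fin.last k)) (initList V) ↔ ∃ i, x ∈ V i := by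
  rw [mem_Scup, initList_append]
  constructor
  · rintro ⟨W, hW, hx⟩
    obtain ⟨i, rfl⟩ := (List.mem_ofFn' V W).1 hW
    exact ⟨i, hx⟩
  · rintro ⟨i, hx⟩
    exact ⟨V i, (List.mem_ofFn' V (V i)).2 ⟨i, rfl⟩, hx⟩

lemma forall_mem_eraseIdx_ofFn (i : Fin (k + 1)) (x : X) :
    (∀ W ∈ (List.ofFn V).eraseIdx i.1, x ∈ W) ↔ ∀ j, j ≠ i → x ∈ V j := by
  constructor
  · intro h j hj
    apply h
    rw [List.mem_eraseIdx_iff_getElem]
    refine ⟨j.1, by rw [List.length_ofFn]; exact j.2, fun h => hj (Fin.ext h), ?_⟩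
    rw [List.getElem_ofFn]
  · intro h W hW
    rw [List.mem_eraseIdx_iff_getElem] at hW
    obtain ⟨j, hj, hji, rfl⟩ := hW
    rw [List.getElem_ofFn]
    apply h
    intro h'
    exact hji (congrArg Fin.val h')

/-- every face of the family is the intersection of all members but one -/
lemma exists_of_mem_faces_family (f : Opens X)
    (hf : f ∈ faces (V (Fin.last k)) (initList V)) :
    ∃ i : Fin (k + 1), ∀ x : X, x ∈ f ↔ ∀ j, j ≠ i → x ∈ V j := by
  obtain ⟨i, hi, h⟩ := exists_idx_of_mem_faces _ _ f hf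
  rw [length_initList] at hi
  refine ⟨⟨i, hi⟩, fun x => ?_⟩
  rw [h x, initList_append]
  exact forall_mem_eraseIdx_ofFn V ⟨i, hi⟩ x

lemma exists_mem_faces_family (i : Fin (k + 1)) :
    ∃ f ∈ faces (V (Fin.last k)) (initList V), ∀ x : X, x ∈ f ↔ ∀ j, j ≠ i → x ∈ V j := by
  obtain ⟨f, hf, h⟩ := exists_mem_faces_of_idx (V (Fin.last k)) (initList V) i.1
    (by rw [length_initList]; exact i.2)
  refine ⟨f, hf, fun x => ?_⟩
  rw [h x, initList_append]
  exact forall_mem_eraseIdx_ofFn V i x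

end family

end Groth.Agent.Helper1.MVTop
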