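import Groth.Agent.Helper1.MVTop6

/-!
# `topMap` for a one-member cover is injective
-/

set_option autoImplicit false

namespace Groth.Agent.Helper1.MVTop

open CategoryTheory Limits Opposite TopologicalSpace

universe u
variable {X : TopCat.{u}}

theorem topMap_injective_of_nil (F : CohTop.Ab X) (U₀ : Opens X) (L : List (Opens X))
    (hcov : Scup U₀ L = ⊤) (hL : L = []) : Function.Injective (topMap F U₀ L hcov) := by
  subst hL
  intro s s' h
  rw [topMap_apply, topMap_apply] at h
  have h1 := (globEquiv F _).symm.injective h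
  have h2 := (res_bijective F _ (le_inf (le_of_eq hcov.symm) le_rfl :
    (⊤ : Opens X) ≤ Scup U₀ [] ⊓ ⊤) inf_le_right).1 h1
  have h3 : CohTop.res F 0 (inf_le_left : Icap U₀ [] ⊓ ⊤ ≤ Icap U₀ []) ((sec0 F (Icap U₀ [])).symm s) =
      CohTop.res F 0 (inf_le_left : Icap U₀ [] ⊓ ⊤ ≤ Icap U₀ []) ((sec0 F (Icap U₀ [])).symm s') := h2
  have h4 := (res_bijective F 0 (inf_le_left : Icap U₀ [] ⊓ ⊤ ≤ Icap U₀ [])
    (le_inf le_rfl le_top)).1 h3
  exact (sec0 F _).symm.injective h4

end Groth.Agent.Helper1.MVTop
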