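import Groth.Agent.Helper1.LenCrit2
import Groth.Agent.Helper1.FormA
import Groth.Agent.Helper9.TensorAdj
import Groth.Agent.Helper4.PullUnit
import Groth.Agent.Helper4.AmpleBasis

set_option autoImplicit false

/-!
# `F/JF` as the value of `N ↦ f^*(N~) ⊗ F` at `A/J`
-/

namespace Groth.Agent.Helper1.ModPowT

open CategoryTheory Limits AlgebraicGeometry Opposite
open Groth.Agent.Helper1.Form

universe u

variable (A : Type u) [CommRing A] {X : Scheme.{u}} [X.Over (Spec (CommRingCat.of A))]
  (F : X.Modules)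

noncomputable instance preservesColimits_tensorAFunctor :
    PreservesColimitsOfSize.{u, u} (CohIII.tensorAFunctor A F) := by
  unfold CohIII.tensorAFunctor
  haveI : PreservesColimitsOfSize.{u, u} (tilde.functor (CommRingCat.of A)) :=
    (tilde.adjunction (R := CommRingCat.of A)).leftAdjoint_preservesColimits
  haveI : PreservesColimitsOfSize.{u, u}
      (Scheme.Modules.pullback (X ↘ Spec (CommRingCat.of A))) :=
    (Scheme.Modules.pullbackPushforwardAdjunction
      (X ↘ Spec (CommRingCat.of A))).leftAdjoint_preservesColimits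
  haveI : PreservesColimitsOfSize.{u, u} (DCoh.tensorRightMod F) :=
    Groth.Agent.Helper9.TensorAdj.preservesColimits_TN (O := X.sheaf) F
  infer_instance

variable {A} (J : Ideal A)

/-- the map `∐_{a ∈ J} A ⟶ A` with components the homotheties -/
noncomputable def σ : (∐ fun _ : J => ModuleCat.of A A) ⟶ ModuleCat.of A A :=
  Sigma.desc fun a => (a : A) • 𝟙 _

/-- the projection `A ⟶ A/J` -/
def π : ModuleCat.of A A ⟶ ModuleCat.of A (A ⧸ J) := ModuleCat.ofHom (Submodule.mkQ J)

lemma smul_π (a : A) (ha : a ∈ J) : a • π J = 0 := by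
  apply ModuleCat.hom_ext
  apply LinearMap.ext
  intro x
  show a • (Submodule.mkQ J) x = 0
  rw [← map_smul]
  exact (Submodule.Quotient.mk_eq_zero J).2 (J.mul_mem_right _ ha)

lemma σ_π : σ J ≫ π J = 0 := by
  apply Sigma.hom_ext
  intro a
  rw [σ, Sigma.ι_desc_assoc, comp_zero, Linear.smul_comp, Category.id_comp]
  exact smul_π J a a.2

lemma le_ker_of_σ_comp {Z : ModuleCat.{u} A} (g : ModuleCat.of A A ⟶ Z) (h : σ J ≫ g = 0) :
    J ≤ LinearMap.ker g.hom := by
  intro a ha
  have h1 : ((a : A) • 𝟙 (ModuleCat.of A A)) ≫ g = 0 := by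
    have := Sigma.ι_desc_assoc (fun a : J => ((a : A) • 𝟙 (ModuleCat.of A A))) ⟨a, ha⟩ g
    rw [← this]
    change Sigma.ι _ _ ≫ σ J ≫ g = 0
    rw [h, comp_zero]
  have h2 := congrArg (fun k => k.hom (1 : A)) h1
  simp only [ModuleCat.hom_comp, LinearMap.comp_apply, ModuleCat.hom_zero,
    LinearMap.zero_apply] at h2
  rw [LinearMap.mem_ker]
  have h3 : (((a : A) • 𝟙 (ModuleCat.of A A)) : ModuleCat.of A A ⟶ ModuleCat.of A A).hom (1 : A) = a := by
    show a • (1 : A) = a
    simp
  rw [h3] at h2
  exact h2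

/-- `A/J` is the cokernel of `σ J` -/
noncomputable def isColimitπ : IsColimit (CokernelCofork.ofπ (π J) (σ_π J)) :=
  CokernelCofork.IsColimit.ofπ _ _
    (fun g h => ModuleCat.ofHom (Submodule.liftQ J g.hom (le_ker_of_σ_comp J g h)))
    (fun g h => by
      apply ModuleCat.hom_ext
      apply LinearMap.ext
      intro x
      rfl)
    (fun g h m hm => by
      apply ModuleCat.hom_ext
      apply LinearMap.ext
      intro x
      obtain ⟨x, rfl⟩ := Submodule.mkQ_surjective J x
      have := congrArg (fun k => k.hom x) hm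
      exact this)

instance : Epi (π J) := by
  rw [ModuleCat.epi_iff_surjective]
  exact Submodule.mkQ_surjective J

end Groth.Agent.Helper1.ModPowT
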