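import Groth.Agent.Helper1.ModPowT1

set_option autoImplicit false

/-!
# `F/JF` as the value of `N ↦ f^*(N~) ⊗ F` at `A/J`, II
-/

namespace Groth.Agent.Helper1.ModPowT

open CategoryTheory Limits AlgebraicGeometry Opposite
open Groth.Agent.Helper1.Form

universe u

variable {A : Type u} [CommRing A] {X : Scheme.{u}} [X.Over (Spec (CommRingCat.of A))]
  (F : X.Modules) (J : Ideal A)

lemma map_smul_id [F.IsQuasicoherent] (M : ModuleCat.{u} A) (a : A) :
    (CohIII.tensorAFunctor A F).map (a • 𝟙 M) = a • 𝟙 _ := by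
  rw [Groth.Agent.Helper1.LenCrit.tensorA_map_smul, ← smulMod_eq]
  rfl

lemma map_smul' [F.IsQuasicoherent] {M N : ModuleCat.{u} A} (g : M ⟶ N) (a : A) :
    (CohIII.tensorAFunctor A F).map (a • g) = a • (CohIII.tensorAFunctor A F).map g := by
  have h : a • g = (a • 𝟙 M) ≫ g := by
    rw [Linear.smul_comp, Category.id_comp]
  rw [h, Functor.map_comp, map_smul_id, Linear.smul_comp, Category.id_comp]

/-- `T(A) ⟶ T(A/J)` is the quotient by `J` -/
theorem isQuot_map_π [F.IsQuasicoherent] :
    IsQuot J ((CohIII.tensorAFunctor A F).map (π J)) := by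
  set T := CohIII.tensorAFunctor A F with hT
  refine ⟨inferInstance, ?_, ?_⟩
  · intro a ha
    rw [← map_smul', smul_π J a ha, Functor.map_zero]
  · intro Z f hf
    have hc : IsColimit ((CokernelCofork.ofπ (π J) (σ_π J)).map T) :=
      CokernelCofork.mapIsColimit _ (isColimitπ J) T
    have h0 : T.map (σ J) ≫ f = 0 := by
      haveI : IsIso (sigmaComparison T (fun _ : J => ModuleCat.of A A)) := inferInstance
      rw [← cancel_epi (sigmaComparison T (fun _ : J => ModuleCat.of A A))]
      apply Sigma.hom_ext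
      intro a
      rw [ι_comp_sigmaComparison_assoc, comp_zero, comp_zero, ← Functor.map_comp_assoc]
      have h1 : Sigma.ι (fun _ : J => ModuleCat.of A A) a ≫ σ J = (a : A) • 𝟙 _ := by
        rw [σ, Sigma.ι_desc]
      rw [h1, map_smul_id, Linear.smul_comp, Category.id_comp]
      exact hf a a.2
    refine ⟨hc.desc (CokernelCofork.ofπ f h0), ?_⟩
    exact hc.fac (CokernelCofork.ofπ f h0) WalkingParallelPair.one

/-- `T(A) ≅ F` -/
noncomputable def isoA : (CohIII.tensorAFunctor A F).obj (ModuleCat.of A A) ≅ F :=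
  (DCoh.tensorRightMod F).mapIso
      ((Scheme.Modules.pullback (X ↘ Spec (CommRingCat.of A))).mapIso
          (tildeSelf (R := CommRingCat.of A)) ≪≫
        Groth.Agent.Helper4.PullUnit.pullbackUnitIso (X ↘ Spec (CommRingCat.of A))) ≪≫
    Groth.Agent.Helper4.AmpleBasis.unitorL F

/-- `F ⟶ T(A/J)` is the quotient by `J` -/
theorem isQuot_isoA_inv_map_π [F.IsQuasicoherent] :
    IsQuot J ((isoA F).inv ≫ (CohIII.tensorAFunctor A F).map (π J)) :=
  (isQuot_map_π F J).iso_comp _

/-- the comparison isomorphism `F/JF ≅ T(A/J)` -/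
theorem exists_iso_modPow [F.IsQuasicoherent] (I : Ideal A) (n : ℕ) :
    ∃ b : Formal.modPow I n F ≅ (CohIII.tensorAFunctor A F).obj (ModuleCat.of A (A ⧸ I ^ n)),
      Formal.modPowπ I n F ≫ b.hom =
        (isoA F).inv ≫ (CohIII.tensorAFunctor A F).map (π (I ^ n)) :=
  ⟨(isQuot_modPowπ I n F).iso (isQuot_isoA_inv_map_π F (I ^ n)),
    (isQuot_modPowπ I n F).fac_iso_hom _⟩

end Groth.Agent.Helper1.ModPowT
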