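import Mathlib
import Groth.Prelude.Def_Models

set_option autoImplicit false
open Finset

namespace Groth.Agent.Helper1.Models

open _root_.Models

variable {n : ℕ} (T : Models.NumericalType n)

theorem row_sum (i : Fin n) : ∑ j, T.a i j * T.m j = 0 := by
  have := congrFun T.mulVec_m i
  simpa [Matrix.mulVec, dotProduct] using this

theorem diag_mul (i : Fin n) :
    T.a i i * T.m i = - ∑ j ∈ univ.erase i, T.a i j * T.m j := by
  have h := row_sum T i
  rw [← Finset.add_sum_erase univ _ (Finset.mem_univ i)] at h
  linarith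

theorem offDiag_term_nonneg (i j : Fin n) (hij : j ≠ i) : 0 ≤ T.a i j * T.m j :=
  mul_nonneg (T.offDiag_nonneg i j (Ne.symm hij)) (T.m_pos j).le

theorem diag_nonpos (i : Fin n) : T.a i i ≤ 0 := by
  have h := diag_mul T i
  have h2 : 0 ≤ ∑ j ∈ univ.erase i, T.a i j * T.m j :=
    Finset.sum_nonneg (fun j hj => offDiag_term_nonneg T i j (Finset.ne_of_mem_erase hj))
  have h3 : T.a i i * T.m i ≤ 0 := by linarith
  by_contra hc
  have hc := not_le.1 hc
  have := mul_pos hc (T.m_pos i)
  linarith

/-- one off-diagonal term is bounded by `-a i i * m i` -/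
theorem offDiag_term_le (i j : Fin n) (hij : j ≠ i) :
    T.a i j * T.m j ≤ - (T.a i i * T.m i) := by
  rw [diag_mul T i, neg_neg]
  exact Finset.single_le_sum (f := fun j => T.a i j * T.m j)
    (fun k hk => offDiag_term_nonneg T i k (Finset.ne_of_mem_erase hk))
    (Finset.mem_erase.2 ⟨hij, Finset.mem_univ j⟩)

theorem diag_neg (hn : 1 < n) (i : Fin n) : T.a i i < 0 := by
  rcases lt_or_eq_of_le (diag_nonpos T i) with h | h
  · exact h
  exfalso
  -- all off-diagonal entries in row i vanish
  have hz : ∀ j, j ≠ i → T.a i j = 0 := by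
    intro j hj
    have h1 := offDiag_term_le T i j hj
    rw [h, zero_mul, neg_zero] at h1
    have h2 := offDiag_term_nonneg T i j hj
    have h3 : T.a i j * T.m j = 0 := le_antisymm h1 h2
    rcases mul_eq_zero.1 h3 with h4 | h4
    · exact h4
    · exact absurd h4 (T.m_pos j).ne'
  have hne : ({i} : Finset (Fin n)) ≠ univ := by
    intro hu
    have := congrArg Finset.card hu
    simp at this
    omega
  obtain ⟨i', hi', j, hj, hne'⟩ := T.connected {i} (Finset.singleton_nonempty i) hne
  rw [Finset.mem_singleton] at hi'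
  subst hi'
  rw [Finset.mem_singleton] at hj
  exact hne' (hz j hj)

/-- the double sum `Σ_i Σ_j a_ij m_i m_j` vanishes -/
theorem double_sum (T : Models.NumericalType n) : ∑ i, ∑ j, T.a i j * T.m i * T.m j = 0 := by
  apply Finset.sum_eq_zero
  intro i _
  have := row_sum T i
  calc ∑ j, T.a i j * T.m i * T.m j = T.m i * ∑ j, T.a i j * T.m j := by
        rw [Finset.mul_sum]; apply Finset.sum_congr rfl; intro j _; ring
    _ = 0 := by rw [this, mul_zero]

theorem two_dvd_sum (T : Models.NumericalType n) : (2 : ℤ) ∣ ∑ i, T.m i * T.a i i := by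
  -- work modulo 2
  have key : ((∑ i, T.m i * T.a i i : ℤ) : ZMod 2) = 0 := by
    have h0 : ((∑ i, ∑ j, T.a i j * T.m i * T.m j : ℤ) : ZMod 2) = 0 := by
      rw [double_sum T]; simp
    push_cast at h0 ⊢
    -- split the double sum into diagonal and off-diagonal
    have hsplit : ∀ i : Fin n, (∑ j, (T.a i j : ZMod 2) * T.m i * T.m j) =
        (T.a i i : ZMod 2) * T.m i * T.m i + ∑ j ∈ univ.erase i, (T.a i j : ZMod 2) * T.m i * T.m j := by
      intro i
      rw [← Finset.add_sum_erase univ _ (Finset.mem_univ i)]
    simp only [hsplit, Finset.sum_add_distrib] at h0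
    -- the off-diagonal part is a sum over ordered pairs i ≠ j, symmetric, hence even
    have hoff : (∑ i, ∑ j ∈ univ.erase i, (T.a i j : ZMod 2) * T.m i * T.m j) = 0 := by
      have hsym : (∑ i, ∑ j ∈ univ.erase i, (T.a i j : ZMod 2) * T.m i * T.m j) =
          ∑ p ∈ (univ : Finset (Fin n × Fin n)).filter (fun p => p.1 ≠ p.2),
            (T.a p.1 p.2 : ZMod 2) * T.m p.1 * T.m p.2 := by
        rw [Finset.sum_filter, Fintype.sum_prod_type]
        apply Finset.sum_congr rfl
        intro i _
        rw [← Finset.sum_filter]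
        apply Finset.sum_congr
        · ext j; simp [eq_comm]
        · intros; rfl
      rw [hsym]
      -- involution p ↦ p.swap pairs up equal terms
      apply Finset.sum_involution (fun p _ => p.swap)
      · intro p hp
        have : T.a p.swap.1 p.swap.2 = T.a p.1 p.2 := by
          simpa using (Matrix.IsSymm.apply T.symm p.1 p.2)
        simp only [Prod.fst_swap, Prod.snd_swap] at this ⊢
        rw [this]
        have h2 : (2 : ZMod 2) = 0 := rfl
        calc (T.a p.1 p.2 : ZMod 2) * T.m p.1 * T.m p.2 + (T.a p.1 p.2 : ZMod 2) * T.m p.2 * T.m p.1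
            = 2 * ((T.a p.1 p.2 : ZMod 2) * T.m p.1 * T.m p.2) := by ring
          _ = 0 := by rw [h2, zero_mul]
      · intro p hp _
        simp only [Finset.mem_filter, Finset.mem_univ, true_and] at hp
        intro h
        apply hp
        have := congrArg Prod.fst h
        simpa using this.symm
      · intro p _; simp
      · intro p hp
        simp only [Finset.mem_filter, Finset.mem_univ, true_and] at hp ⊢
        simpa using Ne.symm hp
    rw [hoff, add_zero] at h0
    rw [← h0]
    apply Finset.sum_congr rfl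
    intro i _
    have hsq : ∀ x : ZMod 2, x * x = x := by decide
    calc (T.m i : ZMod 2) * T.a i i = T.a i i * (T.m i * T.m i) := by rw [hsq]; ring
      _ = (T.a i i : ZMod 2) * T.m i * T.m i := by ring
  exact (ZMod.intCast_zmod_eq_zero_iff_dvd _ 2).1 key

end Groth.Agent.Helper1.Models
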