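import Mathlib

/-!
# Primitive elements for finite étale algebras over a field
-/

set_option autoImplicit false

namespace Groth.Agent.Helper1.PrimEtale

open Polynomial IntermediateField

/-- Primitive element theorem for a finite product of finite separable field extensions, over an
infinite field (or when there is at most one factor). -/
theorem exists_separable_minpoly_pi {k : Type*} [Field k] {I : Type*} [Fintype I]
    (L : I → Type*) [∀ i, Field (L i)] [∀ i, Algebra k (L i)] [∀ i, FiniteDimensional k (L i)]
    [∀ i, Algebra.IsSeparable k (L i)] (h : Infinite k ∨ Subsingleton I) :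
    ∃ x : (∀ i, L i), (minpoly k x).Separable ∧
      (minpoly k x).natDegree = Module.finrank k (∀ i, L i) := by
  classical
  choose θ hθ using fun i => Field.exists_primitive_element k (L i)
  have hint : ∀ i (z : L i), IsIntegral k z := fun i z => Algebra.IsIntegral.isIntegral z
  have hdegθ : ∀ i, (minpoly k (θ i)).natDegree = Module.finrank k (L i) := by
    intro i
    rw [← IntermediateField.adjoin.finrank (hint i (θ i)), hθ i, IntermediateField.finrank_top']
  -- the translation parameters
  obtain ⟨c, hc⟩ : ∃ c : I → k, ∀ i j, i ≠ j →
      aeval (θ j + algebraMap k (L j) (c j - c i)) (minpoly k (θ i)) ≠ 0 := by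
    rcases h with hinf | hsub
    · obtain ⟨s, hs⟩ : ∃ s : I → k, Function.Injective s :=
        ⟨fun i => Infinite.natEmbedding k (Fintype.equivFin I i).val,
          fun i j hij => (Fintype.equivFin I).injective
            (Fin.val_injective ((Infinite.natEmbedding k).injective hij))⟩
      let bad : Set k := ⋃ i, ⋃ j, ⋃ (_ : i ≠ j),
        {t | aeval (θ j + algebraMap k (L j) (t * (s j - s i))) (minpoly k (θ i)) = 0}
      have hbad : bad.Finite := by
        refine Set.finite_iUnion fun i => Set.finite_iUnion fun j => Set.finite_iUnion fun hij => ?_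
        have hne : s j - s i ≠ 0 := sub_ne_zero.2 fun h => hij (hs h).symm
        have hinj : Function.Injective
            fun t : k => θ j + algebraMap k (L j) (t * (s j - s i)) := by
          intro t t' htt'
          simp only [add_right_inj] at htt'
          have := (algebraMap k (L j)).injective htt'
          exact mul_right_cancel₀ hne this
        have hfin : ((minpoly k (θ i)).rootSet (L j)).Finite := Polynomial.rootSet_finite _ _
        refine (hfin.preimage (hinj.injOn)).subset ?_
        intro t ht
        simp only [Set.mem_preimage, Polynomial.mem_rootSet]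
        exact ⟨minpoly.ne_zero (hint i (θ i)), ht⟩
      obtain ⟨t, ht⟩ := hbad.exists_notMem
      refine ⟨fun i => t * s i, fun i j hij hzero => ht ?_⟩
      simp only [bad, Set.mem_iUnion]
      refine ⟨i, j, hij, ?_⟩
      simpa [mul_sub] using hzero
    · exact ⟨fun _ => 0, fun i j hij => absurd (Subsingleton.elim i j) hij⟩
  let x : ∀ i, L i := fun i => θ i + algebraMap k (L i) (c i)
  let g : I → k[X] := fun i => minpoly k (x i)
  have hg : ∀ i, g i = (minpoly k (θ i)).comp (X - C (c i)) := fun i =>
    minpoly.add_algebraMap (θ i) (c i)
  have hgirr : ∀ i, Irreducible (g i) := fun i => minpoly.irreducible (hint i (x i))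
  have hgmonic : ∀ i, (g i).Monic := fun i => minpoly.monic (hint i (x i))
  have hgne : ∀ i j, i ≠ j → aeval (x j) (g i) ≠ 0 := by
    intro i j hij
    rw [hg, aeval_comp]
    have : aeval (x j) (X - C (c i) : k[X]) = θ j + algebraMap k (L j) (c j - c i) := by
      simp only [x, map_sub, aeval_X, aeval_C]
      ring
    rw [this]
    exact hc i j hij
  have hcop : ∀ i j, i ≠ j → IsCoprime (g i) (g j) := by
    intro i j hij
    rw [(hgirr i).coprime_iff_not_dvd]
    intro hdvd
    apply hgne j i hij.symm
    obtain ⟨q, hq⟩ := hdvd
    rw [hq, map_mul, minpoly.aeval, zero_mul]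
  let G : k[X] := ∏ i, g i
  have hGmonic : G.Monic := monic_prod_of_monic _ _ fun i _ => hgmonic i
  have haeval : ∀ (p : k[X]) (j : I), (aeval x p) j = aeval (x j) p := by
    intro p j
    have := Polynomial.aeval_algHom_apply (Pi.evalAlgHom k L j) x p
    simpa using this.symm
  have hGx : aeval x G = 0 := by
    funext j
    rw [haeval]
    simp only [G, map_prod, Pi.zero_apply]
    exact Finset.prod_eq_zero (Finset.mem_univ j) (minpoly.aeval k (x j))
  have hGdvd : ∀ p : k[X], aeval x p = 0 → G ∣ p := by
    intro p hp
    apply Finset.prod_dvd_of_coprime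
    · intro i _ j _ hij
      exact hcop i j hij
    · intro i _
      apply minpoly.dvd
      rw [← haeval, hp]
      rfl
  have hmin : G = minpoly k x := by
    apply minpoly.unique _ _ hGmonic hGx
    intro q hq hqx
    exact Polynomial.degree_le_of_dvd (hGdvd q hqx) hq.ne_zero
  refine ⟨x, ?_, ?_⟩
  · rw [← hmin]
    apply Polynomial.separable_prod'
    · intro i _ j _ hij
      exact hcop i j hij
    · intro i _
      exact Algebra.IsSeparable.isSeparable k (x i)
  · rw [← hmin, Polynomial.natDegree_prod_of_monic _ _ fun i _ => hgmonic i,
      Module.finrank_pi_fintype]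
    apply Finset.sum_congr rfl
    intro i _
    rw [← hdegθ i, hg i, natDegree_comp, natDegree_X_sub_C, mul_one]

universe u

/-- Primitive element theorem for finite unramified (= étale) algebras over a field which is
infinite, or when the algebra is local. -/
theorem exists_primitive_of_unramified (k E : Type u) [Field k] [CommRing E] [Algebra k E]
    [Module.Finite k E] [Algebra.FormallyUnramified k E] (h : Infinite k ∨ IsLocalRing E) :
    ∃ y : E, (minpoly k y).Separable ∧ (minpoly k y).natDegree = Module.finrank k E := by
  classical
  have hE : Algebra.FormallyEtale k E := .of_formallyUnramified_of_field k E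
  obtain ⟨I, _, L, _, _, e, hsep⟩ := (Algebra.FormallyEtale.iff_exists_algEquiv_prod k E).1 hE
  haveI : Fintype I := Fintype.ofFinite I
  haveI : Module.Finite k (∀ i, L i) := Module.Finite.equiv e.toLinearEquiv
  haveI : ∀ i, FiniteDimensional k (L i) := fun i =>
    Module.Finite.of_surjective (Pi.evalAlgHom k L i).toLinearMap
      (fun z => ⟨Pi.single i z, by simp⟩)
  have h' : Infinite k ∨ Subsingleton I := by
    rcases h with h | h
    · exact Or.inl h
    · right
      constructor
      intro i j
      by_contra hij
      let u : E := e.symm (Pi.single i 1)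
      have heu : e u = Pi.single i 1 := e.apply_symm_apply _
      rcases IsLocalRing.isUnit_or_isUnit_one_sub_self u with hu | hu
      · have h1 : IsUnit (e u j) := (hu.map e).map (Pi.evalRingHom L j)
        rw [heu, Pi.single_eq_of_ne (Ne.symm hij)] at h1
        exact not_isUnit_zero h1
      · have h1 : IsUnit (e (1 - u) i) := (hu.map e).map (Pi.evalRingHom L i)
        rw [map_sub, heu, map_one, Pi.sub_apply, Pi.one_apply, Pi.single_eq_same, sub_self] at h1
        exact not_isUnit_zero h1
  obtain ⟨x, hx1, hx2⟩ := exists_separable_minpoly_pi L h'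
  refine ⟨e.symm x, ?_, ?_⟩
  · rw [minpoly.algEquiv_eq]; exact hx1
  · rw [minpoly.algEquiv_eq, hx2]
    exact (e.toLinearEquiv.finrank_eq).symm

end Groth.Agent.Helper1.PrimEtale
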