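import Mathlib
import Groth.Agent.Helper1.PrimEtale

/-!
# Finite unramified algebras over a local ring are monogenic (residue field infinite or `B` local)
-/

set_option autoImplicit false

namespace Groth.Agent.Helper1.MonogenicLocal

open Polynomial TensorProduct IsLocalRing

universe u

/-- A monic polynomial over a local ring whose reduction is separable is separable. -/
theorem separable_of_map_residue {A : Type*} [CommRing A] [IsLocalRing A] (F : A[X])
    (hF : F.Monic) (hsep : (F.map (residue A)).Separable) : F.Separable := by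
  obtain ⟨a', b', hab⟩ := hsep
  obtain ⟨a, rfl⟩ := Polynomial.map_surjective (residue A) Ideal.Quotient.mk_surjective a'
  obtain ⟨b, rfl⟩ := Polynomial.map_surjective (residue A) Ideal.Quotient.mk_surjective b'
  set r : A[X] := a * F + b * derivative F - 1 with hr
  have hrm : r ∈ Ideal.map C (maximalIdeal A) := by
    rw [Ideal.mem_map_C_iff]
    intro n
    have : (r.map (residue A)) = 0 := by
      rw [hr, Polynomial.map_sub, Polynomial.map_add, Polynomial.map_mul, Polynomial.map_mul,
        Polynomial.map_one, ← derivative_map] at *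
      rw [hab, sub_self]
    have h2 := congr(coeff $this n)
    rw [coeff_map, coeff_zero] at h2
    exact (residue_eq_zero_iff _).1 h2
  let J : Ideal A[X] := Ideal.span {F, derivative F}
  have hFJ : Ideal.span {F} ≤ J := Ideal.span_mono (by simp)
  haveI : Module.Finite A (A[X] ⧸ Ideal.span {F}) := hF.finite_quotient
  haveI : Module.Finite A (A[X] ⧸ J) :=
    Module.Finite.of_surjective ((Ideal.Quotient.factorₐ A hFJ).toLinearMap)
      (Ideal.Quotient.factor_surjective hFJ)
  have htop : (⊤ : Submodule A (A[X] ⧸ J)) ≤ maximalIdeal A • (⊤ : Submodule A (A[X] ⧸ J)) := by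
    rintro z -
    obtain ⟨p, rfl⟩ := Ideal.Quotient.mk_surjective z
    have h1 : Ideal.Quotient.mk J p = - Ideal.Quotient.mk J (p * r) := by
      rw [← map_neg, eq_comm, ← sub_eq_zero, ← map_sub, Ideal.Quotient.eq_zero_iff_mem]
      have : -(p * r) - p = -(p * a) * F + -(p * b) * derivative F := by rw [hr]; ring
      rw [this]
      exact J.add_mem (J.mul_mem_left _ (Ideal.subset_span (by simp)))
        (J.mul_mem_left _ (Ideal.subset_span (by simp)))
    rw [h1]
    apply Submodule.neg_mem
    have hpr : p * r ∈ Ideal.map C (maximalIdeal A) := Ideal.mul_mem_left _ _ hrm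
    rw [Ideal.mem_map_C_iff] at hpr
    rw [(p * r).as_sum_range_C_mul_X_pow, map_sum]
    apply Submodule.sum_mem
    intro n _
    have : Ideal.Quotient.mk J (C ((p * r).coeff n) * X ^ n) =
        (p * r).coeff n • Ideal.Quotient.mk J (X ^ n) := by
      rw [← Polynomial.smul_eq_C_mul]
      rfl
    rw [this]
    exact Submodule.smul_mem_smul (hpr n) Submodule.mem_top
  have hbot := Submodule.eq_bot_of_le_smul_of_le_jacobson_bot (maximalIdeal A)
    (⊤ : Submodule A (A[X] ⧸ J)) Module.Finite.fg_top htop (IsLocalRing.maximalIdeal_le_jacobson _)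
  have h1J : (1 : A[X]) ∈ J := by
    rw [← Ideal.Quotient.eq_zero_iff_mem]
    have : Ideal.Quotient.mk J 1 ∈ (⊤ : Submodule A (A[X] ⧸ J)) := Submodule.mem_top
    rw [hbot] at this
    exact this
  obtain ⟨c, d, hcd⟩ := Ideal.mem_span_pair.1 h1J
  exact ⟨c, d, hcd⟩

/-- A finite formally unramified algebra over a local ring (with infinite residue field, or
itself local) is generated by one element satisfying a monic separable polynomial of the
right degree; moreover the powers of the generator reduce to a basis of the fibre. -/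
theorem exists_monic_separable (A B : Type u) [CommRing A] [IsLocalRing A] [CommRing B]
    [Algebra A B] [Module.Finite A B] [Algebra.FormallyUnramified A B]
    (h : Infinite (ResidueField A) ∨ IsLocalRing B) :
    ∃ (F : A[X]) (b : B), F.Monic ∧ F.Separable ∧
      F.natDegree = Module.finrank (ResidueField A) (ResidueField A ⊗[A] B) ∧
      aeval b F = 0 ∧
      Submodule.span A (Set.range fun i : Fin F.natDegree => b ^ (i : ℕ)) = ⊤ := by
  classical
  set k := ResidueField A
  set E := k ⊗[A] B
  have h' : Infinite k ∨ IsLocalRing E := by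
    rcases h with h | h
    · exact Or.inl h
    · right
      haveI : Nontrivial E := by
        rw [← not_subsingleton_iff_nontrivial, IsLocalRing.subsingleton_tensorProduct]
        exact not_subsingleton B
      exact IsLocalRing.of_surjective' (Algebra.TensorProduct.includeRight : B →ₐ[A] E).toRingHom
        (TensorProduct.mk_surjective A B k Ideal.Quotient.mk_surjective)
  obtain ⟨y, hysep, hydeg⟩ := Groth.Agent.Helper1.PrimEtale.exists_primitive_of_unramified k E h'
  obtain ⟨b, hb⟩ := TensorProduct.mk_surjective A B k Ideal.Quotient.mk_surjective y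
  have hb' : (1 : k) ⊗ₜ[A] b = y := hb
  set n := (minpoly k y).natDegree with hn
  -- the basis of `E` given by the powers of `y`
  let bas : Module.Basis (Fin n) k E :=
    basisOfLinearIndependentOfCardEqFinrank' (fun i : Fin n => y ^ (i : ℕ))
      (linearIndependent_pow y) (by simp [hydeg])
  have hbas : ∀ i, bas i = y ^ (i : ℕ) := fun i => by
    simp [bas]
  have hspan : Submodule.span A (Set.range fun i : Fin n => b ^ (i : ℕ)) = ⊤ := by
    apply IsLocalRing.span_eq_top_of_tmul_eq_basis _ bas
    intro i
    rw [hbas, ← hb', Algebra.TensorProduct.tmul_pow, one_pow]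
  -- the relation
  have hmem : b ^ n ∈ Submodule.span A (Set.range fun i : Fin n => b ^ (i : ℕ)) := by
    rw [hspan]; exact Submodule.mem_top
  obtain ⟨a, ha⟩ := (Submodule.mem_span_range_iff_exists_fun A).1 hmem
  set p : A[X] := ∑ i : Fin n, C (a i) * X ^ (i : ℕ) with hp
  have hpdeg : p.degree < n := Polynomial.degree_sum_fin_lt a
  set F : A[X] := X ^ n - p with hFdef
  have hFmonic : F.Monic := Polynomial.monic_X_pow_sub hpdeg
  have hFdeg : F.natDegree = n := by
    apply Polynomial.natDegree_eq_of_degree_eq_some
    rw [hFdef, Polynomial.degree_sub_eq_left_of_degree_lt (by rwa [degree_X_pow]), degree_X_pow]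
  have hFb : aeval b F = 0 := by
    simp only [hFdef, hp, map_sub, map_pow, aeval_X, map_sum, map_mul, aeval_C]
    rw [← ha, sub_eq_zero]
    apply Finset.sum_congr rfl
    intro i _
    rw [Algebra.smul_def]
  -- separability
  have hFy : aeval y (F.map (algebraMap A k)) = 0 := by
    rw [aeval_map_algebraMap, ← hb']
    have := Polynomial.aeval_algHom_apply (Algebra.TensorProduct.includeRight : B →ₐ[A] E) b F
    rw [Algebra.TensorProduct.includeRight_apply] at this
    rw [this, hFb, map_zero]
  have hFmap : F.map (residue A) = minpoly k y := by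
    have hdvd : minpoly k y ∣ F.map (algebraMap A k) := minpoly.dvd k y hFy
    apply Polynomial.eq_of_monic_of_dvd_of_natDegree_le
      (minpoly.monic (Algebra.IsIntegral.isIntegral y)) (hFmonic.map _) hdvd
    rw [hFmonic.natDegree_map, hFdeg]
  have hFsep : F.Separable := separable_of_map_residue F hFmonic (hFmap ▸ hysep)
  refine ⟨F, b, hFmonic, hFsep, ?_, hFb, ?_⟩
  · rw [hFdeg]; exact hydeg
  · rw [hFdeg]; exact hspan

/-- The standard étale pair `(F, 1)` for a monic separable polynomial. -/
noncomputable def sePair {A : Type*} [CommRing A] (F : A[X]) (hF : F.Monic) (hsep : F.Separable) :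
    StandardEtalePair A where
  f := F
  monic_f := hF
  g := 1
  cond := by
    obtain ⟨a, b, hab⟩ := hsep
    exact ⟨b, a, 0, by rw [pow_zero, ← hab]; ring⟩

/-- `A[X]/(F)` is the standard étale algebra of the pair `(F, 1)`. -/
noncomputable def sePairEquiv {A : Type*} [CommRing A] (F : A[X]) (hF : F.Monic)
    (hsep : F.Separable) : (sePair F hF hsep).Ring ≃ₐ[A] (A[X] ⧸ Ideal.span {F}) := by
  let P := sePair F hF hsep
  let x : A[X] ⧸ Ideal.span {F} := Ideal.Quotient.mk _ X
  have hx : P.HasMap x := by
    refine ⟨?_, ?_⟩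
    · show aeval x F = 0
      have : aeval x F = Ideal.Quotient.mk (Ideal.span {F}) F := by
        have := Polynomial.aeval_algHom_apply (Ideal.Quotient.mkₐ A (Ideal.span {F})) X F
        simpa using this
      rw [this, Ideal.Quotient.eq_zero_iff_mem]
      exact Ideal.mem_span_singleton_self F
    · show IsUnit (aeval x (1 : A[X]))
      simp
  have hker : ∀ a ∈ Ideal.span {F}, (aeval P.X : A[X] →ₐ[A] P.Ring) a = 0 := by
    intro a ha
    obtain ⟨c, rfl⟩ := Ideal.mem_span_singleton.1 ha
    rw [map_mul]
    have : aeval P.X F = 0 := P.hasMap_X.1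
    rw [this, zero_mul]
  refine AlgEquiv.ofAlgHom (P.lift x hx) (Ideal.Quotient.liftₐ _ (aeval P.X) hker) ?_ ?_
  · apply Ideal.Quotient.algHom_ext
    apply Polynomial.algHom_ext
    simp [x, P.lift_X]
  · apply P.hom_ext
    simp [x, P.lift_X]
    rfl

theorem formallyEtale_quotient {A : Type*} [CommRing A] (F : A[X]) (hF : F.Monic)
    (hsep : F.Separable) : Algebra.FormallyEtale A (A[X] ⧸ Ideal.span {F}) :=
  Algebra.FormallyEtale.of_equiv (sePairEquiv F hF hsep)

/-- A finite flat formally unramified algebra over a local ring (with infinite residue field,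
or itself local) is of the form `A[X]/(F)` with `F` monic separable. -/
theorem exists_equiv_of_flat (A B : Type u) [CommRing A] [IsLocalRing A] [CommRing B]
    [Algebra A B] [Module.Finite A B] [Algebra.FormallyUnramified A B] [Module.Flat A B]
    (h : Infinite (ResidueField A) ∨ IsLocalRing B) :
    ∃ F : A[X], F.Monic ∧ F.Separable ∧
      F.natDegree = Module.finrank (ResidueField A) (ResidueField A ⊗[A] B) ∧
      Nonempty ((A[X] ⧸ Ideal.span {F}) ≃ₐ[A] B) := by
  obtain ⟨F, b, hFm, hFs, hFd, hFb, hspan⟩ := exists_monic_separable A B h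
  refine ⟨F, hFm, hFs, hFd, ?_⟩
  have hker : ∀ a ∈ Ideal.span {F}, (Polynomial.aeval b : A[X] →ₐ[A] B) a = 0 := by
    intro a ha
    obtain ⟨c, rfl⟩ := Ideal.mem_span_singleton.1 ha
    rw [map_mul, hFb, zero_mul]
  let φ : (A[X] ⧸ Ideal.span {F}) →ₐ[A] B := Ideal.Quotient.liftₐ _ (Polynomial.aeval b) hker
  have hφsurj : Function.Surjective φ := by
    rw [← AlgHom.range_eq_top, eq_top_iff]
    have hle : Submodule.span A (Set.range fun i : Fin F.natDegree => b ^ (i : ℕ)) ≤
        Subalgebra.toSubmodule φ.range := by
      rw [Submodule.span_le]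
      rintro _ ⟨i, rfl⟩
      refine ⟨Ideal.Quotient.mk _ (Polynomial.X ^ (i : ℕ)), ?_⟩
      simp [φ]
    rw [hspan] at hle
    intro z _
    exact hle Submodule.mem_top
  haveI : Module.Free A B := Module.free_of_flat_of_isLocalRing
  haveI : Module.Free A (A[X] ⧸ Ideal.span {F}) := hFm.free_quotient
  haveI : Module.Finite A (A[X] ⧸ Ideal.span {F}) := hFm.finite_quotient
  have hrank1 : Module.finrank A (A[X] ⧸ Ideal.span {F}) = F.natDegree :=
    (AdjoinRoot.powerBasis' hFm).finrank
  have hrank2 : Module.finrank A B = F.natDegree := by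
    rw [hFd, Module.finrank_baseChange]
  obtain ⟨i⟩ := FiniteDimensional.nonempty_linearEquiv_of_finrank_eq (R := A) (hrank1.trans hrank2.symm)
  have hφinj : Function.Injective φ :=
    OrzechProperty.injective_of_surjective_of_injective i.toLinearMap φ.toLinearMap
      i.injective hφsurj
  exact ⟨AlgEquiv.ofBijective φ ⟨hφinj, hφsurj⟩⟩

end Groth.Agent.Helper1.MonogenicLocal
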