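import Mathlib

set_option autoImplicit false

/-!
# Mumford's approximation lemma: the inductive construction
-/

namespace Groth.Agent.Helper1.Mumford

open CategoryTheory Limits

universe v u

variable {C : Type u} [Category.{v} C] [Abelian C]
  (K' K'' : ObjectProperty C) (P : ChainComplex C ℤ) (d : ℤ)

/-- the data at stage `n` of the construction: the object `Q_{d+n}`, its map to `P_{d+n}`, and
its cycles -/
structure Stage (n : ℕ) where
  X : C
  u : X ⟶ P.X (d + n)
  Z : C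
  iZ : Z ⟶ X
  zu : Z ⟶ P.cycles (d + n)
  hX : K'' X
  hZ : K' Z
  mono : Mono iZ
  fac : zu ≫ P.iCycles (d + n) = iZ ≫ u
  epi : Epi (zu ≫ P.homologyπ (d + n))

variable {K' K'' P d}

/-- the passage from stage `n` to stage `n + 1` -/
structure Step {n : ℕ} (s : Stage K' K'' P d n) where
  next : Stage K' K'' P d (n + 1)
  dZ : next.X ⟶ s.Z
  comm : (dZ ≫ s.iZ) ≫ s.u = next.u ≫ P.d (d + (n + 1 : ℕ)) (d + n)
  w : next.iZ ≫ dZ ≫ s.iZ = 0
  isKer : IsLimit (KernelFork.ofι next.iZ w)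
  w' : dZ ≫ s.zu ≫ P.homologyπ (d + n) = 0
  isCoker : IsColimit (CokernelCofork.ofπ (s.zu ≫ P.homologyπ (d + n)) w')

section

variable [K'.IsClosedUnderIsomorphisms] [K''.IsClosedUnderIsomorphisms]
  (hsub : K'' ≤ K')
  (h1 : ∀ ⦃A A' : C⦄ (u : A ⟶ A'), K' A' → Epi u → ∃ (B : C) (v : B ⟶ A), K'' B ∧ Epi (v ≫ u))
  (h2 : ∀ ⦃A B : C⦄ (u : A ⟶ B), K' A → K' B → Epi u → K' (kernel u))
  (h3 : ∀ ⦃B B' : C⦄, K'' B → K'' B' → K'' (B ⨯ B'))
  (hP : ∀ i, K' (P.homology i))

include hsub h1 hP in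
/-- the initial stage -/
lemma nonempty_stage_zero : Nonempty (Stage K' K'' P d 0) := by
  obtain ⟨R, v, hR, hv⟩ := h1 (P.homologyπ (d + (0 : ℕ))) (hP _) inferInstance
  exact ⟨{
    X := R
    u := v ≫ P.iCycles _
    Z := R
    iZ := 𝟙 R
    zu := v
    hX := hR
    hZ := hsub _ hR
    mono := inferInstance
    fac := by rw [Category.id_comp]
    epi := hv }⟩

include hsub h1 h2 h3 hP in
/-- the inductive step -/
lemma nonempty_step {n : ℕ} (s : Stage K' K'' P d n) : Nonempty (Step s) := by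
  haveI := s.mono
  haveI := s.epi
  have hrel : (ComplexShape.down ℤ).Rel (d + (n + 1 : ℕ)) (d + n) := by
    change d + (n : ℤ) + 1 = d + ((n + 1 : ℕ) : ℤ)
    push_cast
    ring
  have hprev : (ComplexShape.down ℤ).prev (d + n) = d + (n + 1 : ℕ) :=
    (ComplexShape.down ℤ).prev_eq' hrel
  have hnext : (ComplexShape.down ℤ).next (d + (n + 1 : ℕ)) = d + n :=
    (ComplexShape.down ℤ).next_eq' hrel
  -- the boundaries `B'`
  let p : s.Z ⟶ P.homology (d + n) := s.zu ≫ P.homologyπ (d + n)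
  let B' : C := kernel p
  have hB' : K' B' := h2 p s.hZ (hP _) s.epi
  let b : B' ⟶ P.cycles (d + n) := kernel.ι p ≫ s.zu
  have hb : b ≫ P.homologyπ (d + n) = 0 := by
    rw [Category.assoc]
    exact kernel.condition p
  -- lift `b` through `toCycles`, up to refinement
  have hex : (ShortComplex.mk (P.toCycles (d + (n + 1 : ℕ)) (d + n)) (P.homologyπ (d + n))
      (by simp)).Exact :=
    ShortComplex.exact_of_g_is_cokernel _ (P.homologyIsCokernel _ _ hprev)
  obtain ⟨A', π, hπ, x₁, hx₁⟩ := hex.exact_up_to_refinements b hb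
  obtain ⟨R, v, hR, hv⟩ := h1 π hB' hπ
  obtain ⟨R', v', hR', hv'⟩ := h1 (P.homologyπ (d + (n + 1 : ℕ))) (hP _) inferInstance
  -- the new object
  let e : R ⊞ R' ≅ R ⨯ R' := biprod.isoProd R R'
  let dB : R ⨯ R' ⟶ B' := e.inv ≫ biprod.desc (v ≫ π) 0
  have hdB : Epi dB := by
    have : (biprod.inl ≫ e.hom) ≫ dB = v ≫ π := by
      simp [dB]
    exact epi_of_epi_fac this
  let uN : R ⨯ R' ⟶ P.X (d + (n + 1 : ℕ)) :=
    e.inv ≫ biprod.desc (v ≫ x₁) (v' ≫ P.iCycles _)
  let ZN : C := kernel dB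
  let dZ : R ⨯ R' ⟶ s.Z := dB ≫ kernel.ι p
  have hcomm : (dZ ≫ s.iZ) ≫ s.u = uN ≫ P.d (d + (n + 1 : ℕ)) (d + n) := by
    rw [← cancel_epi e.hom]
    apply biprod.hom_ext'
    · have hx : π ≫ kernel.ι p ≫ s.zu = x₁ ≫ P.toCycles (d + (n + 1 : ℕ)) (d + n) := hx₁
      simp only [dZ, dB, uN, Category.assoc, Iso.hom_inv_id_assoc, biprod.inl_desc_assoc]
      rw [← s.fac, ← P.toCycles_i (d + (n + 1 : ℕ)) (d + n), reassoc_of% hx]
    · simp only [dZ, dB, uN, Category.assoc, Iso.hom_inv_id_assoc, biprod.inr_desc_assoc,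
        zero_comp, HomologicalComplex.iCycles_d, comp_zero]
  have hw : kernel.ι dB ≫ dZ ≫ s.iZ = 0 := by
    simp only [dZ]
    rw [← Category.assoc, ← Category.assoc, kernel.condition, zero_comp, zero_comp]
  have hker : IsLimit (KernelFork.ofι (kernel.ι dB) hw) := by
    have h0 := kernelIsKernel dB
    have := isKernelCompMono h0 (kernel.ι p ≫ s.iZ) (h := dZ ≫ s.iZ) (by simp [dZ])
    exact this
  have hzd : (kernel.ι dB ≫ uN) ≫ P.d (d + (n + 1 : ℕ)) (d + n) = 0 := by
    rw [Category.assoc, ← hcomm, ← Category.assoc, hw, zero_comp]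
  let zuN : ZN ⟶ P.cycles (d + (n + 1 : ℕ)) :=
    P.liftCycles (kernel.ι dB ≫ uN) (d + n) hnext hzd
  -- `R'` maps to the new cycles
  let ι' : R' ⟶ ZN := kernel.lift dB (biprod.inr ≫ e.hom) (by simp [dB])
  have hι' : ι' ≫ zuN = v' := by
    rw [← cancel_mono (P.iCycles _)]
    simp [ι', zuN, uN]
  have hepi : Epi (zuN ≫ P.homologyπ (d + (n + 1 : ℕ))) := by
    have : ι' ≫ zuN ≫ P.homologyπ (d + (n + 1 : ℕ)) = v' ≫ P.homologyπ _ := by
      rw [← Category.assoc, hι']
    exact epi_of_epi_fac this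
  have hw' : dZ ≫ s.zu ≫ P.homologyπ (d + n) = 0 := by
    simp only [dZ]
    rw [Category.assoc]
    have := kernel.condition p
    simp only [p] at this
    rw [this, comp_zero]
  have hcoker : IsColimit (CokernelCofork.ofπ (s.zu ≫ P.homologyπ (d + n)) hw') := by
    have h0 : IsColimit (CokernelCofork.ofπ p (kernel.condition p)) :=
      Abelian.epiIsCokernelOfKernel (KernelFork.ofι (kernel.ι p) (kernel.condition p))
        (kernelIsKernel p)
    exact isCokernelEpiComp h0 dB (h := dZ) rfl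
  exact ⟨{
    next := {
      X := R ⨯ R'
      u := uN
      Z := ZN
      iZ := kernel.ι dB
      zu := zuN
      hX := h3 hR hR'
      hZ := h2 dB (hsub _ (h3 hR hR')) hB' hdB
      mono := inferInstance
      fac := P.liftCycles_i _ _ _ _
      epi := hepi }
    dZ := dZ
    comm := hcomm
    w := hw
    isKer := hker
    w' := hw'
    isCoker := hcoker }⟩

end

end Groth.Agent.Helper1.Mumford
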