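import Groth.Agent.Helper1.Mumford1

set_option autoImplicit false

/-!
# Maps out of an extended complex; the embedding `n ↦ d + n`
-/

namespace Groth.Agent.Helper1.Mumford

open CategoryTheory Limits

/-- the embedding `n ↦ d + n` of `down ℕ` into `down ℤ` -/
def embGE (d : ℤ) : (ComplexShape.down ℕ).Embedding (ComplexShape.down ℤ) :=
  ComplexShape.Embedding.mk' _ _ (fun n => d + n) (fun _ _ h => by simpa using h)
    (fun i j => by
      change j + 1 = i ↔ d + (j : ℤ) + 1 = d + (i : ℤ)
      omega)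

instance (d : ℤ) : (embGE d).IsRelIff := by
  unfold embGE
  infer_instance

@[simp] lemma embGE_f (d : ℤ) (n : ℕ) : (embGE d).f n = d + n := rfl

lemma embGE_ne_of_lt (d : ℤ) {i : ℤ} (hi : i < d) (n : ℕ) : (embGE d).f n ≠ i := by
  rw [embGE_f]
  omega

lemma embGE_exists_of_le (d : ℤ) {i : ℤ} (hi : d ≤ i) : ∃ n : ℕ, (embGE d).f n = i :=
  ⟨(i - d).toNat, by rw [embGE_f]; omega⟩

section Desc

universe v u

variable {ι ι' : Type*} {c : ComplexShape ι} {c' : ComplexShape ι'} (e : c.Embedding c')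
  [e.IsRelIff] {C : Type u} [Category.{v} C] [HasZeroMorphisms C] [HasZeroObject C]
  (L : HomologicalComplex C c) (K : HomologicalComplex C c')
  (φ : ∀ i, L.X i ⟶ K.X (e.f i))

open Classical in
/-- the components of a morphism out of an extended complex -/
noncomputable def descF (i' : ι') : (L.extend e).X i' ⟶ K.X i' :=
  if hi' : ∃ i, e.f i = i' then
    (L.extendXIso e hi'.choose_spec).hom ≫ φ hi'.choose ≫ eqToHom (by rw [hi'.choose_spec])
  else 0

lemma descF_eq {i' : ι'} {i : ι} (hi : e.f i = i') :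
    descF e L K φ i' = (L.extendXIso e hi).hom ≫ φ i ≫ eqToHom (by rw [hi]) := by
  have hi' : ∃ k, e.f k = i' := ⟨i, hi⟩
  have aux : ∀ (k : ι) (hk : e.f k = i'),
      (L.extendXIso e hk).hom ≫ φ k ≫ eqToHom (by rw [hk]) =
        (L.extendXIso e hi).hom ≫ φ i ≫ eqToHom (by rw [hi]) := by
    intro k hk
    obtain rfl : k = i := e.injective_f (hk.trans hi.symm)
    rfl
  unfold descF
  rw [dif_pos hi']
  exact aux _ _

lemma descF_eq_zero {i' : ι'} (hi : ∀ i, e.f i ≠ i') : descF e L K φ i' = 0 := by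
  unfold descF
  rw [dif_neg]
  rintro ⟨i, h⟩
  exact hi i h

variable (hφ : ∀ i j, c.Rel i j → φ i ≫ K.d (e.f i) (e.f j) = L.d i j ≫ φ j)
  (hφ' : ∀ i j', c'.Rel (e.f i) j' → (∀ j, e.f j ≠ j') → φ i ≫ K.d (e.f i) j' = 0)

include hφ hφ' in
lemma descF_comm (i' j' : ι') :
    descF e L K φ i' ≫ K.d i' j' = (L.extend e).d i' j' ≫ descF e L K φ j' := by
  by_cases hij' : c'.Rel i' j'
  · by_cases hi' : ∃ i, e.f i = i'
    · obtain ⟨i, rfl⟩ := hi'
      by_cases hj' : ∃ j, e.f j = j'
      · obtain ⟨j, rfl⟩ := hj'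
        have hij : c.Rel i j := (e.rel_iff i j).1 hij'
        rw [descF_eq e L K φ rfl, descF_eq e L K φ rfl, L.extend_d_eq e rfl rfl]
        simp only [eqToHom_refl, Category.comp_id, Category.assoc, Iso.inv_hom_id_assoc]
        rw [hφ i j hij]
      · have hj'' : ∀ j, e.f j ≠ j' := fun j hj => hj' ⟨j, hj⟩
        rw [descF_eq e L K φ rfl, descF_eq_zero e L K φ hj'', comp_zero]
        simp only [eqToHom_refl, Category.comp_id, Category.assoc]
        rw [hφ' i j' hij' hj'', comp_zero]
    · have hz : IsZero ((L.extend e).X i') :=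
        L.isZero_extend_X e i' (fun i hi => hi' ⟨i, hi⟩)
      exact hz.eq_of_src _ _
  · rw [K.shape _ _ hij', (L.extend e).shape _ _ hij', comp_zero, zero_comp]

/-- a morphism out of an extended complex -/
noncomputable def descExtend : L.extend e ⟶ K where
  f := descF e L K φ
  comm' i' j' _ := descF_comm e L K φ hφ hφ' i' j'

lemma descExtend_f (i : ι) :
    (descExtend e L K φ hφ hφ').f (e.f i) = (L.extendXIso e rfl).hom ≫ φ i := by
  change descF e L K φ (e.f i) = _
  rw [descF_eq e L K φ rfl, eqToHom_refl, Category.comp_id]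

end Desc

end Groth.Agent.Helper1.Mumford
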