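import Groth.Agent.Helper1.Mumford2

set_option autoImplicit false

/-!
# Mumford's approximation lemma: assembling the complex
-/

namespace Groth.Agent.Helper1.Mumford

open CategoryTheory Limits

universe v u

variable {C : Type u} [Category.{v} C] [Abelian C]
  {K' K'' : ObjectProperty C} {P : ChainComplex C ℤ} {d : ℤ}

/-- a system of stages and steps -/
structure Tower (K' K'' : ObjectProperty C) (P : ChainComplex C ℤ) (d : ℤ) where
  stage : ∀ n : ℕ, Stage K' K'' P d n
  dZ : ∀ n : ℕ, (stage (n + 1)).X ⟶ (stage n).Z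
  comm : ∀ n : ℕ, (dZ n ≫ (stage n).iZ) ≫ (stage n).u =
    (stage (n + 1)).u ≫ P.d (d + (n + 1 : ℕ)) (d + n)
  w : ∀ n : ℕ, (stage (n + 1)).iZ ≫ dZ n ≫ (stage n).iZ = 0
  isKer : ∀ n : ℕ, IsLimit (KernelFork.ofι (stage (n + 1)).iZ (w n))
  w' : ∀ n : ℕ, dZ n ≫ (stage n).zu ≫ P.homologyπ (d + n) = 0
  isCoker : ∀ n : ℕ, IsColimit (CokernelCofork.ofπ ((stage n).zu ≫ P.homologyπ (d + n)) (w' n))
  iso₀ : IsIso (stage 0).iZ

/-- the sequence of stages obtained by iterating a step function -/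
noncomputable def seq (s₀ : Stage K' K'' P d 0)
    (step : ∀ {n : ℕ} (s : Stage K' K'' P d n), Step s) : ∀ n : ℕ, Stage K' K'' P d n
  | 0 => s₀
  | n + 1 => (step (seq s₀ step n)).next

/-- a system from an initial stage and a step function -/
noncomputable def Tower.ofStep (s₀ : Stage K' K'' P d 0) (h₀ : IsIso s₀.iZ)
    (step : ∀ {n : ℕ} (s : Stage K' K'' P d n), Step s) : Tower K' K'' P d where
  stage := seq s₀ step
  dZ n := (step (seq s₀ step n)).dZ
  comm n := (step (seq s₀ step n)).comm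
  w n := (step (seq s₀ step n)).w
  isKer n := (step (seq s₀ step n)).isKer
  w' n := (step (seq s₀ step n)).w'
  isCoker n := (step (seq s₀ step n)).isCoker
  iso₀ := h₀

variable (S : Tower K' K'' P d)

namespace Tower

/-- the differential `Q_{n+1} → Q_n` -/
noncomputable def dq (n : ℕ) : (S.stage (n + 1)).X ⟶ (S.stage n).X := S.dZ n ≫ (S.stage n).iZ

lemma dq_dq (n : ℕ) : S.dq (n + 1) ≫ S.dq n = 0 := by
  unfold dq
  rw [Category.assoc, S.w n, comp_zero]

/-- the `ℕ`-indexed complex -/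
noncomputable def Q' : ChainComplex C ℕ :=
  ChainComplex.of (fun n => (S.stage n).X) S.dq S.dq_dq

lemma Q'_d (n : ℕ) : S.Q'.d (n + 1) n = S.dq n := by
  unfold Q'
  exact ChainComplex.of_d (fun n => (S.stage n).X) S.dq n

/-- the complex `Q` -/
noncomputable def Q : ChainComplex C ℤ := S.Q'.extend (embGE d)

lemma hφ (i j : ℕ) (hij : (ComplexShape.down ℕ).Rel i j) :
    (S.stage i).u ≫ P.d ((embGE d).f i) ((embGE d).f j) = S.Q'.d i j ≫ (S.stage j).u := by
  obtain rfl : j + 1 = i := hij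
  rw [S.Q'_d]
  exact (S.comm j).symm

lemma hφ' (i : ℕ) (j' : ℤ) (hij : (ComplexShape.down ℤ).Rel ((embGE d).f i) j')
    (hj' : ∀ j, (embGE d).f j ≠ j') : (S.stage i).u ≫ P.d ((embGE d).f i) j' = 0 := by
  have hj : j' + 1 = d + i := hij
  have hi : i = 0 := by
    by_contra h
    obtain ⟨k, rfl⟩ := Nat.exists_eq_succ_of_ne_zero h
    refine hj' k ?_
    rw [embGE_f]
    push_cast at hj
    omega
  subst hi
  have := S.iso₀
  have h : (S.stage 0).iZ ≫ (S.stage 0).u ≫ P.d (d + (0 : ℕ)) j' = 0 := by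
    rw [← Category.assoc, ← (S.stage 0).fac, Category.assoc, HomologicalComplex.iCycles_d,
      comp_zero]
  exact (cancel_epi (S.stage 0).iZ).1 (h.trans comp_zero.symm)

/-- the map `Q ⟶ P` -/
noncomputable def uQ : S.Q ⟶ P :=
  descExtend (embGE d) S.Q' P (fun n => (S.stage n).u) S.hφ S.hφ'

lemma uQ_f (n : ℕ) :
    S.uQ.f ((embGE d).f n) = (S.Q'.extendXIso (embGE d) rfl).hom ≫ (S.stage n).u :=
  descExtend_f _ _ _ _ _ _ n

end Tower

end Groth.Agent.Helper1.Mumford
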