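import Groth.Agent.Helper1.Mumford3

set_option autoImplicit false

/-!
# Mumford's approximation lemma: the quasi-isomorphism
-/

namespace Groth.Agent.Helper1.Mumford

open CategoryTheory Limits

universe v u

variable {C : Type u} [Category.{v} C] [Abelian C]

/-- a left homology data from a kernel and a cokernel, with the factorisation of `f` given -/
noncomputable def mkLHD (T : ShortComplex C) {K H : C} (i : K ⟶ T.X₂) (π : K ⟶ H)
    (f' : T.X₁ ⟶ K) (hf' : f' ≫ i = T.f) (wi : i ≫ T.g = 0)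
    (hi : IsLimit (KernelFork.ofι i wi)) (wπ : f' ≫ π = 0)
    (hπ : IsColimit (CokernelCofork.ofπ π wπ)) : T.LeftHomologyData := by
  have hlift : hi.lift (KernelFork.ofι T.f T.zero) = f' := by
    apply Fork.IsLimit.hom_ext hi
    rw [Fork.IsLimit.lift_ι]
    exact hf'.symm
  exact
    { K := K
      H := H
      i := i
      π := π
      wi := wi
      hi := hi
      wπ := by rw [hlift]; exact wπ
      hπ := by
        subst hlift
        exact hπ }

@[simp] lemma mkLHD_K (T : ShortComplex C) {K H : C} (i : K ⟶ T.X₂) (π : K ⟶ H)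
    (f' : T.X₁ ⟶ K) (hf' : f' ≫ i = T.f) (wi : i ≫ T.g = 0)
    (hi : IsLimit (KernelFork.ofι i wi)) (wπ : f' ≫ π = 0)
    (hπ : IsColimit (CokernelCofork.ofπ π wπ)) : (mkLHD T i π f' hf' wi hi wπ hπ).K = K := rfl

@[simp] lemma mkLHD_H (T : ShortComplex C) {K H : C} (i : K ⟶ T.X₂) (π : K ⟶ H)
    (f' : T.X₁ ⟶ K) (hf' : f' ≫ i = T.f) (wi : i ≫ T.g = 0)
    (hi : IsLimit (KernelFork.ofι i wi)) (wπ : f' ≫ π = 0)
    (hπ : IsColimit (CokernelCofork.ofπ π wπ)) : (mkLHD T i π f' hf' wi hi wπ hπ).H = H := rfl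

@[simp] lemma mkLHD_i (T : ShortComplex C) {K H : C} (i : K ⟶ T.X₂) (π : K ⟶ H)
    (f' : T.X₁ ⟶ K) (hf' : f' ≫ i = T.f) (wi : i ≫ T.g = 0)
    (hi : IsLimit (KernelFork.ofι i wi)) (wπ : f' ≫ π = 0)
    (hπ : IsColimit (CokernelCofork.ofπ π wπ)) : (mkLHD T i π f' hf' wi hi wπ hπ).i = i := rfl

@[simp] lemma mkLHD_π (T : ShortComplex C) {K H : C} (i : K ⟶ T.X₂) (π : K ⟶ H)
    (f' : T.X₁ ⟶ K) (hf' : f' ≫ i = T.f) (wi : i ≫ T.g = 0)
    (hi : IsLimit (KernelFork.ofι i wi)) (wπ : f' ≫ π = 0)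
    (hπ : IsColimit (CokernelCofork.ofπ π wπ)) : (mkLHD T i π f' hf' wi hi wπ hπ).π = π := rfl

/-- transport of a limit kernel fork along an equality of morphisms -/
def isLimitOfEq {X Y W : C} {g g' : X ⟶ Y} (h : g = g') {i : W ⟶ X} (w : i ≫ g = 0)
    (hl : IsLimit (KernelFork.ofι i w)) :
    IsLimit (KernelFork.ofι i (show i ≫ g' = 0 by rw [← h]; exact w)) := by
  subst h
  exact hl

/-- an isomorphism is a kernel of the zero map -/
noncomputable def isLimitOfIsIso {X Y W : C} (g : X ⟶ Y) (hg : g = 0) (i : W ⟶ X) [IsIso i] :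
    IsLimit (KernelFork.ofι i (show i ≫ g = 0 by rw [hg, comp_zero])) :=
  KernelFork.IsLimit.ofι _ _ (fun g' _ => g' ≫ inv i)
    (fun g' _ => by simp) (fun g' _ m hm => by rw [← hm]; simp)

variable {K' K'' : ObjectProperty C} {P : ChainComplex C ℤ} {d : ℤ} (S : Tower K' K'' P d)

namespace Tower

/-- the left homology data of `Q'` in degree `m + 1` -/
noncomputable def lhdSucc (m : ℕ) : (S.Q'.sc' (m + 2) (m + 1) m).LeftHomologyData :=
  mkLHD (S.Q'.sc' (m + 2) (m + 1) m) (S.stage (m + 1)).iZ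
    ((S.stage (m + 1)).zu ≫ P.homologyπ (d + (m + 1 : ℕ))) (S.dZ (m + 1))
    (by
      change _ = S.Q'.d (m + 2) (m + 1)
      rw [S.Q'_d (m + 1)]
      rfl)
    (by
      change _ ≫ S.Q'.d (m + 1) m = 0
      rw [S.Q'_d m]
      exact S.w m)
    (isLimitOfEq (S.Q'_d m).symm (S.w m) (S.isKer m))
    (S.w' (m + 1)) (S.isCoker (m + 1))

/-- the left homology data of `Q'` in degree `0` -/
noncomputable def lhdZero : (S.Q'.sc' 1 0 0).LeftHomologyData :=
  haveI := S.iso₀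
  mkLHD (S.Q'.sc' 1 0 0) (S.stage 0).iZ
    ((S.stage 0).zu ≫ P.homologyπ (d + (0 : ℕ))) (S.dZ 0)
    (by
      change _ = S.Q'.d 1 0
      rw [S.Q'_d 0]
      rfl)
    (by
      change _ ≫ S.Q'.d 0 0 = 0
      rw [S.Q'.shape 0 0 (by simp), comp_zero])
    (@isLimitOfIsIso _ _ _ _ _ _ (S.Q'.d 0 0) (S.Q'.shape 0 0 (by simp)) (S.stage 0).iZ S.iso₀)
    (S.w' 0) (S.isCoker 0)

end Tower

end Groth.Agent.Helper1.Mumford
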