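import Groth.Agent.Helper1.Mumford4

set_option autoImplicit false

/-!
# Mumford's approximation lemma: the theorem
-/

namespace Groth.Agent.Helper1.Mumford

open CategoryTheory Limits

universe v u

variable {C : Type u} [Category.{v} C] [Abelian C]

variable {K' K'' : ObjectProperty C} {P : ChainComplex C ℤ} {d : ℤ} (S : Tower K' K'' P d)

lemma aux_eq {Z X Y W : C} (iZ : Z ⟶ X) (iso : Y ≅ X) (u : X ⟶ W) :
    (iZ ≫ iso.inv) ≫ iso.hom ≫ u = iZ ≫ u := by simp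

namespace Tower

lemma quasiIsoAt_uQ_aux (n k : ℕ) (hk : (ComplexShape.down ℕ).next n = k)
    (hf' : S.dZ n ≫ (S.stage n).iZ = S.Q'.d (n + 1) n)
    (wi : (S.stage n).iZ ≫ S.Q'.d n k = 0)
    (hi : IsLimit (KernelFork.ofι (S.stage n).iZ wi)) : QuasiIsoAt S.uQ (d + n) := by
  let h : (S.Q'.sc' (n + 1) n k).LeftHomologyData :=
    mkLHD (S.Q'.sc' (n + 1) n k) (S.stage n).iZ ((S.stage n).zu ≫ P.homologyπ (d + n))
      (S.dZ n) hf' wi hi (S.w' n) (S.isCoker n)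
  let hQ : (S.Q.sc (d + n)).LeftHomologyData :=
    HomologicalComplex.extend.leftHomologyData S.Q' (embGE d) (j := n) (i := n + 1) (k := k)
      (j' := d + n) rfl (ChainComplex.prev ℕ n) rfl hk rfl h
  let hP : (P.sc (d + n)).LeftHomologyData :=
    (P.sc (d + n)).leftHomologyData.copy (Iso.refl _) (P.sc (d + n)).leftHomologyIso.symm
  let φ : S.Q.sc (d + n) ⟶ P.sc (d + n) :=
    (HomologicalComplex.shortComplexFunctor C _ (d + n)).map S.uQ
  let iso : S.Q.X (d + n) ≅ S.Q'.X n := S.Q'.extendXIso (embGE d) rfl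
  let iZ' : (S.stage n).Z ⟶ S.Q'.X n := (S.stage n).iZ
  let u' : S.Q'.X n ⟶ P.X (d + n) := (S.stage n).u
  have fac' : (S.stage n).zu ≫ P.iCycles (d + n) = iZ' ≫ u' := (S.stage n).fac
  have hτ₂ : φ.τ₂ = iso.hom ≫ u' := S.uQ_f n
  have hQi : hQ.i = iZ' ≫ iso.inv := rfl
  have hPi : hP.i = 𝟙 _ ≫ P.iCycles (d + n) := rfl
  let φK : hQ.K ⟶ hP.K := (S.stage n).zu
  have commi : φK ≫ hP.i = hQ.i ≫ φ.τ₂ := by
    have e1 : hQ.i ≫ φ.τ₂ = iZ' ≫ u' := by
      rw [hτ₂]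
      exact aux_eq iZ' iso u'
    have e2 : φK ≫ hP.i = (S.stage n).zu ≫ P.iCycles (d + n) := by
      change (S.stage n).zu ≫ (𝟙 _ ≫ P.iCycles (d + n)) = _
      rw [Category.id_comp]
    exact e2.trans (fac'.trans e1.symm)
  let γ : ShortComplex.LeftHomologyMapData φ hQ hP :=
    { φK := φK
      φH := 𝟙 _
      commi := commi
      commf' := by
        rw [← cancel_mono hP.i, Category.assoc, Category.assoc, commi, hQ.f'_i_assoc, hP.f'_i]
        exact φ.comm₁₂.symm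
      commπ := by
        change ((S.stage n).zu ≫ P.homologyπ (d + n)) ≫ 𝟙 _ =
          (S.stage n).zu ≫ (𝟙 _ ≫ (P.sc (d + n)).leftHomologyπ ≫
            (P.sc (d + n)).leftHomologyIso.hom)
        rw [Category.comp_id, Category.id_comp]
        rfl }
  rw [quasiIsoAt_iff, γ.quasiIso_iff]
  exact inferInstanceAs (IsIso (𝟙 _))

lemma quasiIsoAt_uQ_of_le (i : ℤ) (hi : d ≤ i) : QuasiIsoAt S.uQ i := by
  obtain ⟨n, rfl⟩ : ∃ n : ℕ, d + n = i := ⟨(i - d).toNat, by omega⟩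
  rcases n with _ | m
  · exact S.quasiIsoAt_uQ_aux 0 0 ChainComplex.next_nat_zero
      (by rw [S.Q'_d 0]; rfl)
      (by rw [S.Q'.shape 0 0 (by simp)]; exact comp_zero)
      (@isLimitOfIsIso _ _ _ _ _ _ (S.Q'.d 0 0) (S.Q'.shape 0 0 (by simp)) (S.stage 0).iZ S.iso₀)
  · exact S.quasiIsoAt_uQ_aux (m + 1) m (ChainComplex.next_nat_succ m)
      (by rw [S.Q'_d (m + 1)]; rfl)
      (by rw [S.Q'_d m]; exact S.w m)
      (isLimitOfEq (S.Q'_d m).symm (S.w m) (S.isKer m))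

lemma quasiIsoAt_uQ_of_lt (hd : ∀ i < d, IsZero (P.homology i)) (i : ℤ) (hi : i < d) :
    QuasiIsoAt S.uQ i := by
  have h1 : S.Q.ExactAt i := S.Q'.extend_exactAt (embGE d) i (embGE_ne_of_lt d hi)
  rw [quasiIsoAt_iff_exactAt S.uQ i h1, HomologicalComplex.exactAt_iff_isZero_homology]
  exact hd i hi

lemma quasiIso_uQ (hd : ∀ i < d, IsZero (P.homology i)) : QuasiIso S.uQ := by
  rw [quasiIso_iff]
  intro i
  by_cases hi : d ≤ i
  · exact S.quasiIsoAt_uQ_of_le i hi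
  · exact S.quasiIsoAt_uQ_of_lt hd i (not_le.1 hi)

lemma isZero_Q_X (i : ℤ) (hi : i < d) : IsZero (S.Q.X i) :=
  S.Q'.isZero_extend_X (embGE d) i (embGE_ne_of_lt d hi)

lemma prop_Q_X [K''.IsClosedUnderIsomorphisms] (i : ℤ) (hi : d ≤ i) : K'' (S.Q.X i) := by
  obtain ⟨n, rfl⟩ : ∃ n : ℕ, d + n = i := ⟨(i - d).toNat, by omega⟩
  exact K''.prop_of_iso (S.Q'.extendXIso (embGE d) (show (embGE d).f n = d + n from rfl)).symm
    (S.stage n).hX

end Tower

/-- **Mumford's approximation lemma** (S2372) -/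
theorem exists_approx {C : Type u} [Category.{v} C] [Abelian C]
    (K' K'' : ObjectProperty C) [K'.IsClosedUnderIsomorphisms] [K''.IsClosedUnderIsomorphisms]
    (hsub : K'' ≤ K')
    (h1 : ∀ ⦃A A' : C⦄ (u : A ⟶ A'), K' A' → Epi u → ∃ (B : C) (v : B ⟶ A), K'' B ∧ Epi (v ≫ u))
    (h2 : ∀ ⦃A B : C⦄ (u : A ⟶ B), K' A → K' B → Epi u → K' (kernel u))
    (h3 : ∀ ⦃B B' : C⦄, K'' B → K'' B' → K'' (B ⨯ B'))
    (P : ChainComplex C ℤ) (hP : ∀ i, K' (P.homology i)) (d : ℤ)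
    (hd : ∀ i < d, IsZero (P.homology i)) :
    ∃ (Q : ChainComplex C ℤ) (u : Q ⟶ P),
      (∀ i, d ≤ i → K'' (Q.X i)) ∧ (∀ i < d, IsZero (Q.X i)) ∧ QuasiIso u := by
  classical
  -- the initial stage: redo the construction to record that `iZ` is an isomorphism
  obtain ⟨R, v, hR, hv⟩ := h1 (P.homologyπ (d + (0 : ℕ))) (hP _) inferInstance
  let s₀ : Stage K' K'' P d 0 :=
    { X := R
      u := v ≫ P.iCycles _
      Z := R
      iZ := 𝟙 R
      zu := v
      hX := hR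
      hZ := hsub _ hR
      mono := inferInstance
      fac := by rw [Category.id_comp]
      epi := hv }
  let S : Tower K' K'' P d :=
    Tower.ofStep s₀ (inferInstanceAs (IsIso (𝟙 R)))
      (fun s => (nonempty_step hsub h1 h2 h3 hP s).some)
  exact ⟨S.Q, S.uQ, S.prop_Q_X, S.isZero_Q_X, S.quasiIso_uQ hd⟩

end Groth.Agent.Helper1.Mumford
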