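import Mathlib
import Groth.Agent.Helper1.DeltaPointwise
import Groth.Agent.Helper1.ExtLES
import Groth.Agent.Helper1.CechLES

set_option autoImplicit false

/-!
# `Ext(P, G -)` as a δ-functor, and long exact sequences of Čech cohomology in functor categories
-/

namespace Groth.Agent.Helper1.NatCech

open CategoryTheory Limits Opposite Abelian
open Groth.Agent.Helper1.DeltaCmp Groth.Agent.Helper1.DeltaFun Groth.Agent.Helper1.Cech

section ext

universe w v₁ v₂ u₁ u₂

variable {A : Type u₁} [Category.{v₁} A] [Abelian A] {B : Type u₂} [Category.{v₂} B] [Abelian B]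
  [HasExt.{w} B]

/-- `F ↦ Ext^•(P, G F)` as a δ-functor, for an exact functor `G` -/
noncomputable def extDelta (G : A ⥤ B) [G.Additive] [PreservesFiniteLimits G]
    [PreservesFiniteColimits G] (P : B) : DeltaFunctor A AddCommGrpCat.{w} where
  T n := extSeq G P n
  δ S hS n := AddCommGrpCat.ofHom ((hS.map_of_exact G).extClass.postcomp P rfl)
  δ_nat {S S'} φ hS hS' n := by
    apply AddCommGrpCat.hom_ext
    apply AddMonoidHom.ext
    intro (x : Ext.{w} P (S.map G).X₃ n)
    have hG := hS.map_of_exact G
    have hG' := hS'.map_of_exact G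
    let ψ : S.map G ⟶ S'.map G := G.mapShortComplex.map φ
    show (x.comp hG.extClass rfl).comp (Ext.mk₀ ψ.τ₁) (add_zero _) =
      (x.comp (Ext.mk₀ ψ.τ₃) (add_zero _)).comp hG'.extClass rfl
    rw [Ext.comp_assoc_of_third_deg_zero,
      ShortComplex.ShortExact.extClass_naturality hG hG' ψ,
      Ext.comp_assoc_of_second_deg_zero]
  w₃ S hS n := by
    obtain ⟨w, -⟩ := exists_of_exact
      (Ext.covariant_sequence_exact₃' P (hS.map_of_exact G) n (n + 1) rfl)
    exact w
  w₁ S hS n := by
    obtain ⟨w, -⟩ := exists_of_exact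
      (Ext.covariant_sequence_exact₁' P (hS.map_of_exact G) n (n + 1) rfl)
    exact w
  exact₃ S hS n := Ext.covariant_sequence_exact₃' P (hS.map_of_exact G) n (n + 1) rfl
  exact₁ S hS n := Ext.covariant_sequence_exact₁' P (hS.map_of_exact G) n (n + 1) rfl

lemma extDelta_T (G : A ⥤ B) [G.Additive] [PreservesFiniteLimits G]
    [PreservesFiniteColimits G] (P : B) (n : ℕ) : (extDelta G P).T n = extSeq G P n := rfl

end ext

section cech

universe w v u v' u' v'' u''

variable {D : Type u} [Category.{v} D] [HasFiniteProducts D] {ι : Type w} {U : ι → D}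
  {J : Type u'} [Category.{v'} J] {A : Type u''} [Category.{v''} A] [Abelian A]

/-- the long exact sequence of Čech cohomology in a functor category, for a short complex of
functors which is pointwise sectionwise exact -/
lemma hasLES_cech_pointwise (G : A ⥤ (Dᵒᵖ ⥤ AddCommGrpCat.{w})) [G.PreservesZeroMorphisms]
    (S : ShortComplex (J ⥤ A))
    (h : ∀ j, SectionwiseExact U ((S.map ((evaluation J A).obj j)).map G)) :
    HasLES (fun n => (Functor.whiskeringRight J A AddCommGrpCat.{w}).obj (G ⋙ cechHFun U n)) S := by
  intro n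
  have hS : ∀ j, (((S.map ((evaluation J A).obj j)).map G).map (cechComplexFunctor U)).ShortExact :=
    fun j => shortExact_map_cech (h j)
  let δ : ((Functor.whiskeringRight J A AddCommGrpCat.{w}).obj (G ⋙ cechHFun U n)).obj S.X₃ ⟶
      ((Functor.whiskeringRight J A AddCommGrpCat.{w}).obj (G ⋙ cechHFun U (n + 1))).obj S.X₁ :=
    { app := fun j => (hS j).δ n (n + 1) rfl
      naturality := fun j j' f => by
        have := HomologicalComplex.HomologySequence.δ_naturality
          (((cechComplexFunctor U).mapShortComplex).map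
            ((G.mapShortComplex).map (S.mapNatTrans ((evaluation J A).map f))))
          (hS j) (hS j') n (n + 1) rfl
        exact this.symm }
  refine ⟨δ, ?_, ?_, ?_, ?_⟩
  · apply NatTrans.ext
    funext j
    exact (hS j).comp_δ n (n + 1) rfl
  · apply NatTrans.ext
    funext j
    exact (hS j).δ_comp n (n + 1) rfl
  · apply exact_of_pointwise
    intro j
    exact (hS j).homology_exact₃ n (n + 1) rfl
  · apply exact_of_pointwise
    intro j
    exact (hS j).homology_exact₁ n (n + 1) rfl

end cech

end Groth.Agent.Helper1.NatCech
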