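import Groth.Agent.Helper1.NatCech1
import Groth.Agent.Helper1.SerreCritC
import Groth.Agent.Helper1.SerreI
import Groth.Agent.Helper1.CohTopCech
import Groth.Agent.Helper1.CechContract
import Groth.Prelude.Def_CechOX

set_option autoImplicit false

/-!
# A functorial effacement of quasi-coherent modules by Čech- and cohomologically acyclic ones
-/

namespace Groth.Agent.Helper1.NatCech

open CategoryTheory Limits Opposite TopologicalSpace AlgebraicGeometry Abelian
open Groth.Agent.Helper1.DeltaCmp Groth.Agent.Helper1.DeltaFun Groth.Agent.Helper1.Cech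
open Groth.Agent.Helper1.CechTop Groth.Agent.Helper1.CohTopFun Groth.Agent.Helper1.CohTopExt
open Groth.Agent.Helper1.SerreCrit Groth.Agent.Helper1.Serre

universe u

variable {X : Scheme.{u}} {t : ℕ} (U : Fin t → X.Opens)

instance : HasFiniteBiproducts X.Modules := HasFiniteBiproducts.of_hasFiniteProducts

/-- the functorial effacement `N ↦ ⨁ₖ (jₖ)_* (N|_{Uₖ})` -/
noncomputable def E : X.Modules ⥤ X.Modules where
  obj N := ⨁ fun k => (CechOX.pushRestr (U k)).obj N
  map f := biproduct.map fun k => (CechOX.pushRestr (U k)).map f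
  map_id N := by
    apply biproduct.hom_ext
    intro k
    simp
  map_comp f g := by
    apply biproduct.hom_ext
    intro k
    simp

/-- the unit `N ⟶ E N` -/
noncomputable def ιE : 𝟭 X.Modules ⟶ E U where
  app N := biproduct.lift fun k => (Scheme.Modules.restrictAdjunction (U k).ι).unit.app N
  naturality N N' f := by
    apply biproduct.hom_ext
    intro k
    simp only [Functor.id_obj, Functor.id_map, Category.assoc, biproduct.lift_π, E,
      biproduct.map_π, biproduct.lift_π_assoc]
    exact (Scheme.Modules.restrictAdjunction (U k).ι).unit.naturality f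

lemma ιE_π (N : X.Modules) (k : Fin t) :
    (ιE U).app N ≫ biproduct.π (fun k => (CechOX.pushRestr (U k)).obj N) k =
      (Scheme.Modules.restrictAdjunction (U k).ι).unit.app N :=
  biproduct.lift_π _ _

lemma mono_ιE (hcov : ⨆ k, U k = ⊤) (N : X.Modules) : Mono ((ιE U).app N) := by
  apply Groth.Agent.Helper4.SubSec.mono_of_app_injective
  intro T
  rw [injective_iff_map_eq_zero]
  intro m hm
  have hk : ∀ k, ((Scheme.Modules.restrictAdjunction (U k).ι).unit.app N).app T m = 0 := by
    intro k
    rw [← ιE_π U N k, Scheme.Modules.Hom.comp_app, ConcreteCategory.comp_apply, hm, map_zero]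
  have hle : ∀ k, (U k).ι ''ᵁ ((U k).ι ⁻¹ᵁ T) ≤ T := fun k => (U k).ι.image_preimage_le T
  refine TopCat.Sheaf.eq_of_locally_eq' (Coh.toAb N)
    (fun k => (U k).ι ''ᵁ ((U k).ι ⁻¹ᵁ T)) T (fun k => homOfLE (hle k)) ?_ _ _ ?_
  · intro x hx
    have hx' : x ∈ ⨆ k, U k := by rw [hcov]; trivial
    obtain ⟨k, hk⟩ := Opens.mem_iSup.1 hx'
    refine Opens.mem_iSup.2 ⟨k, ?_⟩
    rw [Scheme.Hom.image_preimage_eq_opensRange_inf, Scheme.Opens.opensRange_ι]
    exact ⟨hk, hx⟩
  · intro k
    refine (hk k).trans ?_
    exact (map_zero _).symm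

variable (hU : ∀ k, IsAffineOpen (U k))
  (hd : ∀ V W : X.Opens, IsAffineOpen V → IsAffineOpen W → IsAffineOpen (V ⊓ W))

include hU hd in
lemma isQuasicoherent_pushRestr (N : X.Modules) [N.IsQuasicoherent] (k : Fin t) :
    ((CechOX.pushRestr (U k)).obj N).IsQuasicoherent := by
  haveI := isAffineHom_ι hd (hU k)
  haveI : IsAffine (U k).toScheme := hU k
  exact Groth.Agent.Helper4.QcohGlue.isQuasicoherent_pushforward (U k).ι _

include hU hd in
lemma isQuasicoherent_E (N : X.Modules) [N.IsQuasicoherent] : ((E U).obj N).IsQuasicoherent := by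
  have h : (∏ᶜ fun k => (CechOX.pushRestr (U k)).obj N).IsQuasicoherent :=
    Groth.Agent.Helper4.QcohLimits.isQuasicoherent_limit
      (Discrete.functor fun k => (CechOX.pushRestr (U k)).obj N)
      (fun j => isQuasicoherent_pushRestr U hU hd N j.as)
  exact Groth.Agent.Helper4.QcohLimits.isQuasicoherent_of_iso
    (biproduct.isoProduct fun k => (CechOX.pushRestr (U k)).obj N).symm (hF := h)

end Groth.Agent.Helper1.NatCech
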