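import Groth.Agent.Helper1.NatCech2
import Groth.Agent.Helper1.CohTopPush

set_option autoImplicit false

/-!
# Čech cohomology of a finite affine cover computes cohomology of quasi-coherent modules,
naturally
-/

namespace Groth.Agent.Helper1.NatCech

open CategoryTheory Limits Opposite TopologicalSpace AlgebraicGeometry Abelian
open Groth.Agent.Helper1.DeltaCmp Groth.Agent.Helper1.DeltaFun Groth.Agent.Helper1.Cech
open Groth.Agent.Helper1.CechTop Groth.Agent.Helper1.CohTopFun Groth.Agent.Helper1.CohTopExt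
open Groth.Agent.Helper1.SerreCrit Groth.Agent.Helper1.Serre Groth.Agent.Helper1.CohTopCech
open Groth.Agent.Lead.CohTopB

universe u

variable (X : Scheme.{u})

/-- the underlying presheaf of abelian groups, as a functor -/
noncomputable abbrev Φ : X.Modules ⥤ ((Opens X)ᵒᵖ ⥤ AddCommGrpCat.{u}) :=
  toAbF X ⋙ sheafToPresheaf _ _

/-- sheaf cohomology as a δ-functor on `X.Modules` -/
noncomputable def HD : DeltaFunctor X.Modules AddCommGrpCat.{u} :=
  extDelta (toAbF X) (constZ X)

lemma HD_T (n : ℕ) : (HD X).T n = toAbF X ⋙ HSeq n := rfl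

variable {X} {t : ℕ} (U : Fin t → X.Opens)

/-- the family indexed in the universe of `X` -/
abbrev Uc : ULift.{u} (Fin t) → Opens X := fun i => U i.down

/-- `Ȟ⁰ ≅ H⁰`, naturally -/
noncomputable def e₀ (hcov : ⨆ k, U k = ⊤) : Φ X ⋙ cechHFun (Uc U) 0 ≅ (HD X).T 0 := by
  have h : iSup (Uc U) = ⊤ := by
    rw [← hcov]
    apply le_antisymm
    · exact iSup_le fun i => le_iSup U i.down
    · exact iSup_le fun k => le_iSup (Uc U) (ULift.up k)
  have e1 : sectionsFunctor (X := X) (iSup (Uc U)) ≅ sectionsFunctor ⊤ := eqToIso (by rw [h])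
  exact Functor.isoWhiskerLeft (toAbF X) ((h0Iso (Uc U)).symm ≪≫ e1 ≪≫ (CohTopFun.h0Iso (X := X)).symm)

section affine

variable (hd : ∀ V W : X.Opens, IsAffineOpen V → IsAffineOpen W → IsAffineOpen (V ⊓ W))
include hd

lemma isAffineOpen_iInf_fin : ∀ (n : ℕ) (V : Fin (n + 1) → X.Opens),
    (∀ k, IsAffineOpen (V k)) → IsAffineOpen (⨅ k, V k) := by
  intro n
  induction n with
  | zero =>
    intro V hV
    have : (⨅ k, V k) = V 0 := by
      apply le_antisymm (iInf_le _ _)
      refine le_iInf fun k => ?_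
      rw [Fin.fin_one_eq_zero k]
    rw [this]
    exact hV 0
  | succ n ih =>
    intro V hV
    have : (⨅ k, V k) = V 0 ⊓ ⨅ k : Fin (n + 1), V k.succ := by
      apply le_antisymm
      · exact le_inf (iInf_le _ _) (le_iInf fun k => iInf_le _ _)
      · refine le_iInf fun k => ?_
        refine Fin.cases ?_ (fun k' => ?_) k
        · exact inf_le_left
        · exact inf_le_right.trans (iInf_le _ k')
    rw [this]
    exact hd _ _ (hV 0) (ih _ fun k => hV _)

lemma isAffineOpen_prodU (hU : ∀ k, IsAffineOpen (U k)) {n : ℕ}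
    (x : Fin (n + 1) → ULift.{u} (Fin t)) : IsAffineOpen (prodU (Uc U) x) := by
  rw [prodU_eq]
  exact isAffineOpen_iInf_fin hd n _ fun k => hU _

omit hd in
/-- sections over an affine open of a short exact sequence with quasi-coherent kernel -/
lemma shortExact_sections_of_isAffineOpen (S : ShortComplex X.Modules) (hS : S.ShortExact)
    [S.X₁.IsQuasicoherent] {W : X.Opens} (hW : IsAffineOpen W) :
    ((S.map (Φ X)).map ((evaluation _ _).obj (op W))).ShortExact := by
  have hS' : (S.map (toAbF X)).ShortExact := hS.map_of_exact (toAbF X)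
  refine shortExact_sections hS' W (surjective_of_ext_one hS' W ?_)
  exact subsingleton_HU_of_isAffineOpen S.X₁ hW 0

lemma sectionwiseExact (hU : ∀ k, IsAffineOpen (U k)) (S : ShortComplex X.Modules)
    (hS : S.ShortExact) [S.X₁.IsQuasicoherent] : SectionwiseExact (Uc U) (S.map (Φ X)) :=
  fun _ x => shortExact_sections_of_isAffineOpen S hS (isAffineOpen_prodU U hd hU x)

end affine

end Groth.Agent.Helper1.NatCech
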