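import Groth.Agent.Helper1.NatCech3

set_option autoImplicit false

/-!
# Acyclicity of the functorial effacement, and the natural comparison theorem
-/

namespace Groth.Agent.Helper1.NatCech

open CategoryTheory Limits Opposite TopologicalSpace AlgebraicGeometry Abelian
open Groth.Agent.Helper1.DeltaCmp Groth.Agent.Helper1.DeltaFun Groth.Agent.Helper1.Cech
open Groth.Agent.Helper1.CechTop Groth.Agent.Helper1.CohTopFun Groth.Agent.Helper1.CohTopExt
open Groth.Agent.Helper1.SerreCrit Groth.Agent.Helper1.Serre Groth.Agent.Helper1.CohTopCech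
open Groth.Agent.Lead.CohTopB Groth.Agent.Helper1.CechAug

universe u

variable {X : Scheme.{u}} {t : ℕ} (U : Fin t → X.Opens)

/-- restriction maps of `(j_W)_* (N|_W)` between opens with the same intersection with `W` are
bijective -/
lemma bijective_map_pushRestr (N : X.Modules) (W : X.Opens) {V V' : X.Opens} (h : V' ≤ V)
    (h' : W.ι ''ᵁ (W.ι ⁻¹ᵁ V) ≤ W.ι ''ᵁ (W.ι ⁻¹ᵁ V')) :
    Function.Bijective (((Φ X).obj ((CechOX.pushRestr W).obj N)).map (homOfLE h).op) := by
  have hm : W.ι ''ᵁ (W.ι ⁻¹ᵁ V') ≤ W.ι ''ᵁ (W.ι ⁻¹ᵁ V) :=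
    W.ι.image_mono (W.ι.preimage_mono h)
  have hiso : IsIso (N.presheaf.map (homOfLE hm).op) := by
    refine ⟨N.presheaf.map (homOfLE h').op, ?_, ?_⟩
    · rw [← N.presheaf.map_comp]
      exact N.presheaf.map_id _
    · rw [← N.presheaf.map_comp]
      exact N.presheaf.map_id _
  have hb : Function.Bijective (N.presheaf.map (homOfLE hm).op) :=
    ConcreteCategory.bijective_of_isIso _
  exact hb

/-- Čech acyclicity of `(j_k)_* (N|_{U_k})` for a family containing `U_k` -/
lemma isZero_cech_pushRestr (N : X.Modules) (k : Fin t) (n : ℕ) :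
    IsZero ((Φ X ⋙ cechHFun (Uc U) (n + 1)).obj ((CechOX.pushRestr (U k)).obj N)) := by
  show IsZero ((cx (Uc U) ((Φ X).obj ((CechOX.pushRestr (U k)).obj N))).homology (n + 1))
  apply isZero_homology_of_exists
  intro c hc
  refine exists_of_cocycle_succ (Uc U) _ (ULift.up k) (fun m x => ?_) n c hc
  refine bijective_map_pushRestr N (U k) inf_le_left ?_
  rw [Scheme.Hom.image_preimage_eq_opensRange_inf, Scheme.Hom.image_preimage_eq_opensRange_inf,
    Scheme.Opens.opensRange_ι]
  exact le_inf inf_le_left (le_inf inf_le_right inf_le_left)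

variable (hU : ∀ k, IsAffineOpen (U k))
  (hd : ∀ V W : X.Opens, IsAffineOpen V → IsAffineOpen W → IsAffineOpen (V ⊓ W))

include hU hd in
lemma isZero_HD_pushRestr (N : X.Modules) [N.IsQuasicoherent] (k : Fin t) (n : ℕ) :
    IsZero (((HD X).T (n + 1)).obj ((CechOX.pushRestr (U k)).obj N)) := by
  haveI := isAffineHom_ι hd (hU k)
  haveI : IsAffine (U k).toScheme := hU k
  exact isZero_HSeq_push_of_isAffineHom (U k).ι _ n

lemma isZero_cech_E (N : X.Modules) (n : ℕ) :
    IsZero ((Φ X ⋙ cechHFun (Uc U) (n + 1)).obj ((E U).obj N)) :=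
  isZero_map_biproduct (Φ X ⋙ cechHFun (Uc U) (n + 1)) _ fun k => isZero_cech_pushRestr U N k n

instance (n : ℕ) : ((HD X).T n).Additive := by
  rw [HD_T]
  infer_instance

include hU hd in
lemma isZero_HD_E (N : X.Modules) [N.IsQuasicoherent] (n : ℕ) :
    IsZero (((HD X).T (n + 1)).obj ((E U).obj N)) :=
  isZero_map_biproduct ((HD X).T (n + 1)) _ fun k => isZero_HD_pushRestr U hU hd N k n

end Groth.Agent.Helper1.NatCech
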