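import Mathlib
import Groth.Prelude.Def_CurvBase
import Groth.Agent.Helper4.GeomRedPt2
import Groth.Agent.Helper3.NodeRed

set_option autoImplicit false
set_option linter.style.haveILetI false
set_option linter.unusedSectionVars false
set_option linter.unusedVariables false

/-!
# Nodes are geometrically reduced points
-/

namespace Groth.Agent.Helper1.NodalRed

open CategoryTheory CategoryTheory.Limits AlgebraicGeometry Opposite TensorProduct
open Groth.Agent.Helper4.GeomRedPt Groth.Agent.Helper5.GeomRed Groth.Agent.Helper5.StalkRed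

universe u

section Q

variable {X B T T' : Scheme.{u}}

/-- change of the second factor of a fibre product -/
noncomputable def pbMap₂ (f : X ⟶ B) (s' : T' ⟶ B) (t : T ⟶ T') :
    pullback f (t ≫ s') ⟶ pullback f s' :=
  (pullbackLeftPullbackSndIso f s' t).inv ≫ pullback.fst _ _

theorem pbMap₂_fst (f : X ⟶ B) (s' : T' ⟶ B) (t : T ⟶ T') :
    pbMap₂ f s' t ≫ pullback.fst f s' = pullback.fst f (t ≫ s') := by
  unfold pbMap₂
  rw [Category.assoc, pullbackLeftPullbackSndIso_inv_fst]

instance (f : X ⟶ B) (s' : T' ⟶ B) (t : T ⟶ T') [Flat t] : Flat (pbMap₂ f s' t) := by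
  unfold pbMap₂
  infer_instance

/-- a reduced local ring upstairs gives one downstairs, for a flat change of the second factor -/
theorem exists_reduced_of_factor (f : X ⟶ B) (s' : T' ⟶ B) (t : T ⟶ T') [Flat t] (s : T ⟶ B)
    (hs : s = t ≫ s') (xb : ↥(pullback f s))
    (hred : _root_.IsReduced ((pullback f s).presheaf.stalk xb)) :
    ∃ x' : ↥(pullback f s'), (pullback.fst f s') x' = (pullback.fst f s) xb ∧
      _root_.IsReduced ((pullback f s').presheaf.stalk x') := by
  subst hs
  refine ⟨pbMap₂ f s' t xb, ?_, isReduced_stalk_of_flat _ xb hred⟩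
  rw [← Scheme.Hom.comp_apply, pbMap₂_fst]

end Q

variable {k : Type u} [Field k]

/-- some local ring of `X_K` at a point over `x` is reduced -/
def ExRedOver {X : Scheme.{u}} (f : X ⟶ Spec (CommRingCat.of k)) (x : X) (K : Type u) [Field K]
    [Algebra k K] : Prop :=
  ∃ x' : ↥(FBase.bc f K), (FBase.bcπ f K).base x' = x ∧
    _root_.IsReduced ((FBase.bc f K).presheaf.stalk x')

theorem exRedOver_fromSpecStalk {X : Scheme.{u}} (f : X ⟶ Spec (CommRingCat.of k)) (x : X)
    (K : Type u) [Field K] [Algebra k K] (h : ExRedOver f x K) :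
    ExRedOver (X.fromSpecStalk x ≫ f) (IsLocalRing.closedPoint (X.presheaf.stalk x)) K := by
  haveI : Flat (X.fromSpecStalk x) := flat_fromSpecStalk X x
  obtain ⟨x', hx', hred⟩ := h
  let s := Spec.map (CommRingCat.ofHom (algebraMap k K))
  change ↥(pullback f s) at x'
  change (pullback.fst f s) x' = x at hx'
  change _root_.IsReduced ((pullback f s).presheaf.stalk x') at hred
  obtain ⟨y, hy1, hy2⟩ := exists_lift_pbMap f s (X.fromSpecStalk x) x'
    (IsLocalRing.closedPoint (X.presheaf.stalk x))
    (hx'.trans Scheme.fromSpecStalk_closedPoint.symm)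
  refine ⟨y, hy2, ?_⟩
  show _root_.IsReduced ((pullback (X.fromSpecStalk x ≫ f) s).presheaf.stalk y)
  rw [isReduced_stalk_iff (pbMap f s (X.fromSpecStalk x)) y, hy1]
  exact hred

/-- Affine local case: the finite purely inseparable test at one point over the closed point. -/
theorem isGeometricallyReduced_of_exRedOver (R : Type u) [CommRing R] [IsLocalRing R]
    [Algebra k R]
    (h : ∀ (k' : Type u) [Field k'] [Algebra k k'] [Module.Finite k k'] [IsPurelyInseparable k k'],
      ExRedOver (Spec.map (CommRingCat.ofHom (algebraMap k R))) (IsLocalRing.closedPoint R) k') :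
    Algebra.IsGeometricallyReduced k R := by
  refine ((Groth.Agent.S9634.result (k := k) (S := R)).out 0 1).mp ?_
  intro k' _ _ _ _
  let e := pullbackSpecIso k R k'
  obtain ⟨y, hy1, hred⟩ := h k'
  change ↥(pullback (Spec.map (CommRingCat.ofHom (algebraMap k R)))
      (Spec.map (CommRingCat.ofHom (algebraMap k k')))) at y
  change (pullback.fst (Spec.map (CommRingCat.ofHom (algebraMap k R)))
      (Spec.map (CommRingCat.ofHom (algebraMap k k')))) y = _ at hy1
  change _root_.IsReduced ((pullback (Spec.map (CommRingCat.ofHom (algebraMap k R)))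
      (Spec.map (CommRingCat.ofHom (algebraMap k k')))).presheaf.stalk y) at hred
  let q : ↥(Spec (CommRingCat.of (R ⊗[k] k'))) := e.hom y
  have hqy : e.inv q = y := by
    show e.inv (e.hom y) = y
    rw [← Scheme.Hom.comp_apply, Iso.hom_inv_id]
    rfl
  have hredq : _root_.IsReduced ((Spec (CommRingCat.of (R ⊗[k] k'))).presheaf.stalk q) := by
    rw [isReduced_stalk_iff e.inv q, hqy]
    exact hred
  have hloc : _root_.IsReduced (Localization.AtPrime q.asIdeal) := by
    haveI : _root_.IsReduced ↑((structurePresheafInCommRingCat (R ⊗[k] k')).stalk q) := hredq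
    exact isReduced_of_injective (StructureSheaf.stalkIso (R ⊗[k] k') q).toRingEquiv.toRingHom
      (StructureSheaf.stalkIso (R ⊗[k] k') q).injective
  have hq : q.asIdeal.comap (algebraMap R (R ⊗[k] k')) = IsLocalRing.maximalIdeal R := by
    have h1 : (Spec.map (CommRingCat.ofHom (algebraMap R (R ⊗[k] k')))) q =
        IsLocalRing.closedPoint R := by
      show (Spec.map (CommRingCat.ofHom (algebraMap R (R ⊗[k] k')))) (e.hom y) = _
      rw [← Scheme.Hom.comp_apply, pullbackSpecIso_hom_fst']
      exact hy1
    exact congrArg PrimeSpectrum.asIdeal h1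
  have hB : _root_.IsReduced (R ⊗[k] k') :=
    isReduced_tensor_of_localization R k' q.asIdeal hq hloc
  exact isReduced_of_injective (Algebra.TensorProduct.comm k k' R).toRingHom
    (Algebra.TensorProduct.comm k k' R).injective

/-- The finite purely inseparable test at one point over `x`. -/
theorem geomReducedAt_of_exRedOver {X : Scheme.{u}} (f : X ⟶ Spec (CommRingCat.of k)) (x : X)
    (h : ∀ (k' : Type u) [Field k'] [Algebra k k'] [Module.Finite k k'] [IsPurelyInseparable k k'],
      ExRedOver f x k') :
    FBase.IsGeomReducedAt f x := by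
  obtain ⟨φ, hφ⟩ := Spec.map_surjective (X.fromSpecStalk x ≫ f)
  obtain ⟨ψ, rfl⟩ : ∃ ψ : k →+* X.presheaf.stalk x, φ = CommRingCat.ofHom ψ := ⟨φ.hom, rfl⟩
  rw [geomReducedAt_iff_stalk f x ψ hφ]
  letI := ψ.toAlgebra
  apply isGeometricallyReduced_of_exRedOver (X.presheaf.stalk x)
  intro k' _ _ _ _
  have h1 := exRedOver_fromSpecStalk f x k' (h k')
  rw [← hφ] at h1
  exact h1

end Groth.Agent.Helper1.NodalRed
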