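import Mathlib
import Groth.Agent.Helper1.NodalRed1
import Groth.Agent.Helper5.RedDesc

set_option autoImplicit false
set_option linter.style.haveILetI false
set_option linter.unusedSectionVars false
set_option linter.unusedVariables false

/-!
# At-worst-nodal schemes over a field are geometrically reduced
-/

namespace Groth.Agent.Helper1.NodalRed

open CategoryTheory CategoryTheory.Limits AlgebraicGeometry Opposite TensorProduct
open Groth.Agent.Helper4.GeomRedPt Groth.Agent.Helper5.GeomRed Groth.Agent.Helper5.StalkRed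

universe u

variable (k : Type u) [Field k]

theorem flat_SpecMap_field (K L : Type u) [Field K] [Field L] (j : K →+* L) :
    Flat (Spec.map (CommRingCat.ofHom j)) := by
  rw [HasRingHomProperty.Spec_iff (P := @Flat)]
  exact RingHom.Flat.of_isField (Field.toIsField K) _

/-- the local ring of the geometric fibre at the chosen point over a node is reduced -/
theorem exists_reduced_of_isNode (T : Scheme.{u})
    [T.Over (Spec (CommRingCat.of k))] [LocallyOfFiniteType (T ↘ Spec (CommRingCat.of k))]
    (x : T) (h : Curv2.IsNode k T x) :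
    ∃ xb : ↥(Curv2.bc k T (AlgebraicClosure k)), Curv2.bcFst k T (AlgebraicClosure k) xb = x ∧
      _root_.IsReduced ((Curv2.bc k T (AlgebraicClosure k)).presheaf.stalk xb) := by
  obtain ⟨-, xb, hx, hodp⟩ := h
  refine ⟨xb, hx, ?_⟩
  haveI : LocallyOfFiniteType (Curv2.bcSnd k T (AlgebraicClosure k)) := by
    dsimp only [Curv2.bcSnd]; infer_instance
  haveI : IsLocallyNoetherian (Curv2.bc k T (AlgebraicClosure k)) :=
    LocallyOfFiniteType.isLocallyNoetherian (Curv2.bcSnd k T (AlgebraicClosure k))
  letI : (Curv2.bc k T (AlgebraicClosure k)).Over (Spec (CommRingCat.of (AlgebraicClosure k))) :=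
    ⟨Curv2.bcSnd k T (AlgebraicClosure k)⟩
  letI := Curv2.stalkAlgebra (AlgebraicClosure k) (Curv2.bc k T (AlgebraicClosure k)) xb
  exact Groth.Agent.Helper3.NodeRed.isReduced_of_isOrdDoublePt (AlgebraicClosure k) _ hodp

/-- a node is a geometrically reduced point -/
theorem geomReducedAt_of_isNode (T : Scheme.{u})
    [T.Over (Spec (CommRingCat.of k))] [LocallyOfFiniteType (T ↘ Spec (CommRingCat.of k))]
    (x : T) (h : Curv2.IsNode k T x) :
    FBase.IsGeomReducedAt (T ↘ Spec (CommRingCat.of k)) x := by
  obtain ⟨xb, hx, hred⟩ := exists_reduced_of_isNode k T x h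
  apply geomReducedAt_of_exRedOver
  intro k' _ _ _ _
  haveI : Algebra.IsAlgebraic k k' := Algebra.IsAlgebraic.of_finite k k'
  let j : k' →ₐ[k] AlgebraicClosure k := IsAlgClosed.lift
  haveI : Flat (Spec.map (CommRingCat.ofHom j.toRingHom)) := flat_SpecMap_field _ _ _
  have hs : Spec.map (CommRingCat.ofHom (algebraMap k (AlgebraicClosure k))) =
      Spec.map (CommRingCat.ofHom j.toRingHom) ≫
        Spec.map (CommRingCat.ofHom (algebraMap k k')) := by
    rw [← Spec.map_comp, ← CommRingCat.ofHom_comp]
    congr 2
    exact j.comp_algebraMap.symm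
  obtain ⟨x', hx', hred'⟩ := exists_reduced_of_factor (T ↘ Spec (CommRingCat.of k))
    (Spec.map (CommRingCat.ofHom (algebraMap k k'))) (Spec.map (CommRingCat.ofHom j.toRingHom))
    _ hs xb hred
  exact ⟨x', hx'.trans hx, hred'⟩

/-- a point with a smooth neighbourhood is a geometrically reduced point -/
theorem geomReducedAt_of_smooth (T : Scheme.{u}) (f : T ⟶ Spec (CommRingCat.of k))
    (x : T) (U : T.Opens) (hxU : x ∈ U) [Smooth (U.ι ≫ f)] :
    FBase.IsGeomReducedAt f x := by
  rw [geomReducedAt_iff_redOver]
  intro K _ _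
  have h1 : RedOver (U.ι ≫ f) ⟨x, hxU⟩ K := by
    intro y _
    let s := Spec.map (CommRingCat.ofHom (algebraMap k K))
    change ↥(pullback (U.ι ≫ f) s) at y
    show _root_.IsReduced ((pullback (U.ι ≫ f) s).presheaf.stalk y)
    haveI : IsReduced (Spec (CommRingCat.of K)) := inferInstance
    haveI : IsReduced (pullback (U.ι ≫ f) s) :=
      Groth.Agent.Helper5.RedDesc.isReduced_of_smooth (pullback.snd (U.ι ≫ f) s)
    infer_instance
  exact redOver_of_comp_flat f U.ι ⟨x, hxU⟩ K h1

/-- closed points of an at-worst-nodal scheme are geometrically reduced points -/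
theorem geomReducedAt_of_atWorstNodal_closed (T : Scheme.{u})
    [T.Over (Spec (CommRingCat.of k))] [LocallyOfFiniteType (T ↘ Spec (CommRingCat.of k))]
    (h : Curv2.AtWorstNodal k T) (x : T) (hx : IsClosed ({x} : Set T)) :
    FBase.IsGeomReducedAt (T ↘ Spec (CommRingCat.of k)) x := by
  rcases h x hx with ⟨U, hxU, hsm⟩ | hnode
  · haveI := hsm
    exact geomReducedAt_of_smooth k T _ x U hxU
  · exact geomReducedAt_of_isNode k T x hnode

/-- all points of a quasi-compact at-worst-nodal scheme are geometrically reduced points -/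
theorem geomReducedAt_of_atWorstNodal (T : Scheme.{u}) [CompactSpace T]
    [T.Over (Spec (CommRingCat.of k))] [LocallyOfFiniteType (T ↘ Spec (CommRingCat.of k))]
    (h : Curv2.AtWorstNodal k T) (x : T) :
    FBase.IsGeomReducedAt (T ↘ Spec (CommRingCat.of k)) x := by
  obtain ⟨y, hy, hyc⟩ := IsClosed.exists_closed_singleton (isClosed_closure (s := ({x} : Set T)))
    ⟨x, subset_closure rfl⟩
  have hs : x ⤳ y := specializes_iff_mem_closure.mpr hy
  exact Groth.Agent.Helper4.GeomRedPt2.geomReducedAt_of_specializes _ y x hs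
    (geomReducedAt_of_atWorstNodal_closed k T h y hyc)

/-- **at-worst-nodal schemes are geometrically reduced**: every base change to a field extension
is reduced -/
theorem isReduced_bc_of_atWorstNodal (T : Scheme.{u}) [CompactSpace T]
    [T.Over (Spec (CommRingCat.of k))] [LocallyOfFiniteType (T ↘ Spec (CommRingCat.of k))]
    (h : Curv2.AtWorstNodal k T) (K : Type u) [Field K] [Algebra k K] :
    IsReduced (pullback (T ↘ Spec (CommRingCat.of k))
      (Spec.map (CommRingCat.ofHom (algebraMap k K)))) := by
  haveI : ∀ z : ↥(pullback (T ↘ Spec (CommRingCat.of k))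
      (Spec.map (CommRingCat.ofHom (algebraMap k K)))),
      _root_.IsReduced ((pullback (T ↘ Spec (CommRingCat.of k))
        (Spec.map (CommRingCat.ofHom (algebraMap k K)))).presheaf.stalk z) := by
    intro z
    exact geomReducedAt_of_atWorstNodal k T h _ K z rfl
  exact isReduced_of_isReduced_stalk _

end Groth.Agent.Helper1.NodalRed
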