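import Mathlib
import Groth.Agent.Helper1.NodalRed2

set_option autoImplicit false
set_option linter.style.haveILetI false
set_option linter.unusedSectionVars false
set_option linter.unusedVariables false

/-!
# At-worst-nodal schemes locally of finite type over a field are geometrically reduced
-/

namespace Groth.Agent.Helper1.NodalRed

open CategoryTheory CategoryTheory.Limits AlgebraicGeometry Opposite TensorProduct
open Groth.Agent.Helper4.GeomRedPt Groth.Agent.Helper5.GeomRed Groth.Agent.Helper5.StalkRed

universe u

variable (k : Type u) [Field k]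

/-- every point of a scheme locally of finite type over a field specializes to a closed point -/
theorem exists_closed_specialization (T : Scheme.{u})
    [T.Over (Spec (CommRingCat.of k))] [LocallyOfFiniteType (T ↘ Spec (CommRingCat.of k))]
    (x : T) : ∃ y : T, x ⤳ y ∧ IsClosed ({y} : Set T) := by
  haveI : JacobsonSpace T := LocallyOfFiniteType.jacobsonSpace (T ↘ Spec (CommRingCat.of k))
  obtain ⟨y, hy, hyc⟩ := nonempty_inter_closedPoints (Z := closure ({x} : Set T))
    ⟨x, subset_closure rfl⟩ isClosed_closure.isLocallyClosed
  exact ⟨y, specializes_iff_mem_closure.mpr hy, hyc⟩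

/-- all points of an at-worst-nodal scheme locally of finite type are geometrically reduced
points -/
theorem geomReducedAt_of_atWorstNodal' (T : Scheme.{u})
    [T.Over (Spec (CommRingCat.of k))] [LocallyOfFiniteType (T ↘ Spec (CommRingCat.of k))]
    (h : Curv2.AtWorstNodal k T) (x : T) :
    FBase.IsGeomReducedAt (T ↘ Spec (CommRingCat.of k)) x := by
  obtain ⟨y, hs, hyc⟩ := exists_closed_specialization k T x
  exact Groth.Agent.Helper4.GeomRedPt2.geomReducedAt_of_specializes _ y x hs
    (geomReducedAt_of_atWorstNodal_closed k T h y hyc)

/-- every base change to a field extension is reduced -/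
theorem isReduced_bc_of_atWorstNodal' (T : Scheme.{u})
    [T.Over (Spec (CommRingCat.of k))] [LocallyOfFiniteType (T ↘ Spec (CommRingCat.of k))]
    (h : Curv2.AtWorstNodal k T) (K : Type u) [Field K] [Algebra k K] :
    IsReduced (pullback (T ↘ Spec (CommRingCat.of k))
      (Spec.map (CommRingCat.ofHom (algebraMap k K)))) := by
  haveI : ∀ z : ↥(pullback (T ↘ Spec (CommRingCat.of k))
      (Spec.map (CommRingCat.ofHom (algebraMap k K)))),
      _root_.IsReduced ((pullback (T ↘ Spec (CommRingCat.of k))
        (Spec.map (CommRingCat.ofHom (algebraMap k K)))).presheaf.stalk z) := by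
    intro z
    exact geomReducedAt_of_atWorstNodal' k T h _ K z rfl
  exact isReduced_of_isReduced_stalk _

/-- **at-worst-nodal schemes locally of finite type over a field are geometrically reduced** -/
theorem geometricallyReduced_of_atWorstNodal (T : Scheme.{u})
    [T.Over (Spec (CommRingCat.of k))] [LocallyOfFiniteType (T ↘ Spec (CommRingCat.of k))]
    (h : Curv2.AtWorstNodal k T) : GeometricallyReduced (T ↘ Spec (CommRingCat.of k)) := by
  refine ⟨?_⟩
  rw [geometrically_iff_of_commRing_of_isClosedUnderIsomorphisms]
  intro K _ _
  exact isReduced_bc_of_atWorstNodal' k T h K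

end Groth.Agent.Helper1.NodalRed
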