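import Mathlib
import Groth.Prelude.Def_CurvBase
import Groth.Prelude.Def_CAlg
import Groth.Agent.S0342
import Groth.Agent.S0343
import Groth.Agent.S0344
import Groth.Agent.S0543
import Groth.Agent.Helper5.MvPSDim
import Groth.Agent.Helper7.SegGorD
import Groth.Agent.Helper7.MCrossA
import Groth.Agent.Helper3.NodeRed
import Groth.Agent.Helper3.GorFlatE
import Groth.Agent.Helper1.CoreF
import Groth.Agent.Helper2.SmoothRegSch
import Groth.Agent.Helper1.NodalRed4

set_option autoImplicit false
set_option linter.style.haveILetI false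
set_option linter.unusedSectionVars false
set_option linter.unusedVariables false

/-!
# The local rings of an at-worst-nodal curve are Gorenstein
-/

namespace Groth.Agent.Helper1.NodalGor

open CategoryTheory CategoryTheory.Limits AlgebraicGeometry Opposite IsLocalRing
open Groth.Agent.Helper7.SegGor

universe u

section PS

variable (K : Type u) [Field K]

/-- `K[[x,y]]/(xy)` is a Gorenstein local ring -/
theorem gor_quot :
    LocCoh.IsGorensteinLocalRing (MvPowerSeries (Fin 2) K ⧸
      Ideal.span {(MvPowerSeries.X 0 * MvPowerSeries.X 1 : MvPowerSeries (Fin 2) K)}) := by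
  haveI := Groth.Agent.Helper5.MvPSDim.isRegular K 2
  have hG : LocCoh.IsGorensteinLocalRing (MvPowerSeries (Fin 2) K) := Groth.Agent.S0342.result _
  haveI : IsNoetherianRing (MvPowerSeries (Fin 2) K) := hG.toIsNoetherian
  refine (Groth.Agent.S0343.result (MvPowerSeries (Fin 2) K)
    (MvPowerSeries.X 0 * MvPowerSeries.X 1) ?_ ?_).mp hG
  · rw [mem_maximalIdeal, mem_nonunits_iff, MvPowerSeries.isUnit_iff_constantCoeff]
    simp
  · have hne : (MvPowerSeries.X 0 * MvPowerSeries.X 1 : MvPowerSeries (Fin 2) K) ≠ 0 :=
      mul_ne_zero (Groth.Agent.Helper3.NodeRed.X_zero_prime K 1).ne_zero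
        (Groth.Agent.Helper3.NodeRed.X_one_prime K).ne_zero
    exact (IsRegular.of_ne_zero hne).left.isSMulRegular

end PS

/-- an ordinary double point is Gorenstein -/
theorem gor_of_isOrdDoublePt (K : Type u) [Field K] (A : Type u) [CommRing A] [Algebra K A]
    [IsLocalRing A] [IsNoetherianRing A] (h : Curv2.IsOrdDoublePt K A) :
    LocCoh.IsGorensteinLocalRing A := by
  obtain ⟨e, -⟩ := h
  have h1 : LocCoh.IsGorensteinLocalRing (AdicCompletion (maximalIdeal A) A) :=
    gorLocal_of_ringEquiv e.symm (gor_quot K)
  haveI : IsNoetherianRing (AdicCompletion (maximalIdeal A) A) := Groth.Agent.S0543.result A _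
  exact Groth.Agent.Helper3.GorFlatE.gorLocal_descend A (AdicCompletion (maximalIdeal A) A) h1

end Groth.Agent.Helper1.NodalGor
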