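import Mathlib
import Groth.Agent.Helper1.NodalGor1

set_option autoImplicit false
set_option linter.style.haveILetI false
set_option linter.unusedSectionVars false
set_option linter.unusedVariables false

/-!
# The local rings of an at-worst-nodal curve are Gorenstein (scheme level)
-/

namespace Groth.Agent.Helper1.NodalGor

open CategoryTheory CategoryTheory.Limits AlgebraicGeometry Opposite IsLocalRing
open Groth.Agent.Helper7.SegGor

universe u

/-- a flat morphism which is surjective on stalks induces isomorphisms on stalks -/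
theorem nonempty_stalk_equiv {A B : Scheme.{u}} (g : A ⟶ B) [Flat g] [SurjectiveOnStalks g]
    (a : A) : Nonempty (B.presheaf.stalk (g a) ≃+* A.presheaf.stalk a) := by
  have hfl : (g.stalkMap a).hom.Flat := Flat.stalkMap g a
  have hsurj : Function.Surjective (g.stalkMap a).hom := g.stalkMap_surjective a
  algebraize [(g.stalkMap a).hom]
  have : IsLocalHom (algebraMap (B.presheaf.stalk (g a)) (A.presheaf.stalk a)) := by
    show IsLocalHom (g.stalkMap a).hom
    infer_instance
  have hff : Module.FaithfullyFlat (B.presheaf.stalk (g a)) (A.presheaf.stalk a) :=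
    Module.FaithfullyFlat.of_flat_of_isLocalHom
  have hinj : Function.Injective (algebraMap (B.presheaf.stalk (g a)) (A.presheaf.stalk a)) :=
    FaithfulSMul.algebraMap_injective _ _
  exact ⟨RingEquiv.ofBijective (algebraMap (B.presheaf.stalk (g a)) (A.presheaf.stalk a))
      ⟨hinj, hsurj⟩⟩

/-- the Gorenstein property of local rings passes to generizations -/
theorem gor_stalk_of_specializes {T : Scheme.{u}} {x y : T} (h : x ⤳ y)
    (hy : LocCoh.IsGorensteinLocalRing (T.presheaf.stalk y)) :
    LocCoh.IsGorensteinLocalRing (T.presheaf.stalk x) := by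
  have hmem : x ∈ Set.range (T.fromSpecStalk y) := by
    rw [Scheme.range_fromSpecStalk]; exact h
  obtain ⟨r, rfl⟩ := hmem
  haveI := hy
  haveI : Flat (T.fromSpecStalk y) := Groth.Agent.Helper5.StalkRed.flat_fromSpecStalk T y
  have h1 : LocCoh.IsGorensteinLocalRing (Localization.AtPrime r.asIdeal) :=
    Groth.Agent.Helper1.Core.gorenstein_localization _ r.asIdeal
  have h2' : LocCoh.IsGorensteinLocalRing
      ↑((structurePresheafInCommRingCat ↑(T.presheaf.stalk y)).stalk r) :=
    gorLocal_of_ringEquiv (StructureSheaf.stalkIso (T.presheaf.stalk y) r).toRingEquiv h1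
  have h2 : LocCoh.IsGorensteinLocalRing
      ((Spec (T.presheaf.stalk y)).presheaf.stalk r) := h2'
  obtain ⟨e⟩ := nonempty_stalk_equiv (T.fromSpecStalk y) r
  exact gorLocal_of_ringEquiv e.symm h2

variable (k : Type u) [Field k]

/-- the local ring at a node is Gorenstein -/
theorem gor_stalk_of_isNode (T : Scheme.{u})
    [T.Over (Spec (CommRingCat.of k))] [LocallyOfFiniteType (T ↘ Spec (CommRingCat.of k))]
    (x : T) (h : Curv2.IsNode k T x) : LocCoh.IsGorensteinLocalRing (T.presheaf.stalk x) := by
  obtain ⟨-, xb, rfl, hodp⟩ := h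
  let π := Curv2.bcFst k T (AlgebraicClosure k)
  haveI : Flat (Spec.map (CommRingCat.ofHom (algebraMap k (AlgebraicClosure k)))) :=
    Groth.Agent.Helper1.NodalRed.flat_SpecMap_field _ _ _
  haveI : Flat π := by dsimp only [π, Curv2.bcFst]; infer_instance
  haveI : LocallyOfFiniteType (Curv2.bcSnd k T (AlgebraicClosure k)) := by
    dsimp only [Curv2.bcSnd]; infer_instance
  haveI : IsLocallyNoetherian (Curv2.bc k T (AlgebraicClosure k)) :=
    LocallyOfFiniteType.isLocallyNoetherian (Curv2.bcSnd k T (AlgebraicClosure k))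
  haveI : IsLocallyNoetherian T :=
    LocallyOfFiniteType.isLocallyNoetherian (T ↘ Spec (CommRingCat.of k))
  letI : (Curv2.bc k T (AlgebraicClosure k)).Over (Spec (CommRingCat.of (AlgebraicClosure k))) :=
    ⟨Curv2.bcSnd k T (AlgebraicClosure k)⟩
  letI := Curv2.stalkAlgebra (AlgebraicClosure k) (Curv2.bc k T (AlgebraicClosure k)) xb
  have hB : LocCoh.IsGorensteinLocalRing
      ((Curv2.bc k T (AlgebraicClosure k)).presheaf.stalk xb) :=
    gor_of_isOrdDoublePt (AlgebraicClosure k) _ hodp
  have hflat : (π.stalkMap xb).hom.Flat := Flat.stalkMap π xb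
  algebraize [(π.stalkMap xb).hom]
  haveI : IsLocalHom (algebraMap (T.presheaf.stalk (π xb))
      ((Curv2.bc k T (AlgebraicClosure k)).presheaf.stalk xb)) :=
    inferInstanceAs (IsLocalHom (π.stalkMap xb).hom)
  exact Groth.Agent.Helper3.GorFlatE.gorLocal_descend (T.presheaf.stalk (π xb))
    ((Curv2.bc k T (AlgebraicClosure k)).presheaf.stalk xb) hB

/-- the local ring at a point with a smooth neighbourhood is Gorenstein -/
theorem gor_stalk_of_smooth (T : Scheme.{u}) (f : T ⟶ Spec (CommRingCat.of k))
    (x : T) (U : T.Opens) (hxU : x ∈ U) [Smooth (U.ι ≫ f)] :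
    LocCoh.IsGorensteinLocalRing (T.presheaf.stalk x) := by
  have h1 : IsRegularLocalRing ((U : Scheme.{u}).presheaf.stalk ⟨x, hxU⟩) :=
    Groth.Agent.Helper2.SmoothRegSch.stalk_regular_of_smooth k U (U.ι ≫ f) ⟨x, hxU⟩
  have h2 : LocCoh.IsGorensteinLocalRing ((U : Scheme.{u}).presheaf.stalk ⟨x, hxU⟩) :=
    Groth.Agent.S0342.result _
  obtain ⟨e⟩ := nonempty_stalk_equiv U.ι ⟨x, hxU⟩
  exact gorLocal_of_ringEquiv e.symm h2

/-- **all local rings of an at-worst-nodal scheme locally of finite type over a field are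
Gorenstein** -/
theorem gor_stalk_of_atWorstNodal (T : Scheme.{u})
    [T.Over (Spec (CommRingCat.of k))] [LocallyOfFiniteType (T ↘ Spec (CommRingCat.of k))]
    (h : Curv2.AtWorstNodal k T) (x : T) :
    LocCoh.IsGorensteinLocalRing (T.presheaf.stalk x) := by
  obtain ⟨y, hs, hyc⟩ := Groth.Agent.Helper1.NodalRed.exists_closed_specialization k T x
  apply gor_stalk_of_specializes hs
  rcases h y hyc with ⟨U, hyU, hsm⟩ | hnode
  · haveI := hsm
    exact gor_stalk_of_smooth k T (T ↘ Spec (CommRingCat.of k)) y U hyU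
  · exact gor_stalk_of_isNode k T y hnode

end Groth.Agent.Helper1.NodalGor
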