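import Mathlib
import Groth.Agent.Helper1.NodalRed2
import Groth.Agent.Helper1.UF9
import Groth.Agent.Helper1.CurveFam5
import Groth.Agent.S10831

set_option autoImplicit false
set_option linter.style.haveILetI false
set_option linter.unusedSectionVars false
set_option linter.unusedVariables false

/-!
# Proper nodal families with geometrically connected fibres: `Γ(X_s, O) = κ(s)`
-/

namespace Groth.Agent.Helper1.NodalRed

open CategoryTheory AlgebraicGeometry Opposite TopologicalSpace Limits

universe u

variable {X S : Scheme.{u}} (f : X ⟶ S) [IsProper f]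

set_option maxHeartbeats 1600000 in
/-- `h⁰(X_s, O) = 1` if the geometric fibre over the algebraic closure of `κ(s)` is reduced and
connected -/
theorem finrank_Γ_fiber_eq_one_of_algClosure (s : S)
    (hred : IsReduced (pullback (f.fiberToSpecResidueField s)
      (Spec.map (CommRingCat.ofHom (algebraMap (S.residueField s)
        (AlgebraicClosure (S.residueField s)))))))
    (hconn : ConnectedSpace ↥(pullback (f.fiberToSpecResidueField s)
      (Spec.map (CommRingCat.ofHom (algebraMap (S.residueField s)
        (AlgebraicClosure (S.residueField s))))))) :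
    Module.finrank (S.residueField s) Γ(f.fiber s, ⊤) = 1 := by
  let k : Type u := S.residueField s
  let fs : f.fiber s ⟶ Spec (CommRingCat.of k) := f.fiberToSpecResidueField s
  haveI : IsProper fs :=
    MorphismProperty.pullback_snd (P := @IsProper) f (S.fromSpecResidueField s) inferInstance
  have hfin0 := Groth.Agent.Helper1.Seesaw.finite_Γ_fiber f s
  letI : Algebra k Γ(f.fiber s, ⊤) := (Coh.toGlobal fs).toAlgebra
  haveI : Module.Finite k Γ(f.fiber s, ⊤) := hfin0
  let K : Type u := AlgebraicClosure k
  let g : Spec (CommRingCat.of K) ⟶ Spec (CommRingCat.of k) :=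
    Spec.map (CommRingCat.ofHom (algebraMap k K))
  letI : Algebra K Γ(pullback fs g, ⊤) := (Coh.toGlobal (pullback.snd fs g)).toAlgebra
  obtain ⟨E⟩ := Groth.Agent.Lead.H0Geom.exists_equiv_baseChange k K fs
  have h1 : Module.finrank K Γ(pullback fs g, ⊤) = Module.finrank k Γ(f.fiber s, ⊤) := by
    rw [← E.finrank_eq]
    exact Module.finrank_baseChange
  show Module.finrank k Γ(f.fiber s, ⊤) = 1
  rw [← h1]
  haveI : Module.Finite K Γ(pullback fs g, ⊤) := Module.Finite.equiv E
  haveI : IsReduced (pullback fs g) := hred
  haveI : ConnectedSpace ↥(pullback fs g : Scheme.{u}) := hconn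
  haveI : CompactSpace ↥(pullback fs g : Scheme.{u}) :=
    QuasiCompact.compactSpace_of_compactSpace (pullback.snd fs g)
  haveI : Nontrivial Γ(pullback fs g, ⊤) := Groth.Agent.Lead.H0Geom.nontrivial_Γ _
  haveI : PreconnectedSpace (PrimeSpectrum Γ(pullback fs g, ⊤)) :=
    Groth.Agent.Lead.H0Geom.preconnectedSpace_spec_Γ _
  exact Groth.Agent.Lead.H0Geom.finrank_eq_one_of_reduced_connected K _

/-- the fibres of a proper nodal family with geometrically connected fibres have
`Γ(X_s, O) = κ(s)` -/
theorem isIso_appTop_of_isNodalFamily (hf : Curv2.IsNodalFamily f) [GeometricallyConnected f]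
    (s : S) : IsIso (f.fiberToSpecResidueField s).appTop := by
  apply Groth.Agent.Helper1.CurveFam.isIso_appTop_of_finrank
  obtain ⟨hfl, hfp, hs⟩ := hf
  haveI := hfp
  obtain ⟨-, hnod⟩ := hs s
  letI : (f.fiber s).Over (Spec (S.residueField s)) := ⟨f.fiberToSpecResidueField s⟩
  haveI hlft : LocallyOfFiniteType (f.fiberToSpecResidueField s) :=
    inferInstanceAs (LocallyOfFiniteType (Limits.pullback.snd f (S.fromSpecResidueField _)))
  haveI hqc : QuasiCompact (f.fiberToSpecResidueField s) :=
    inferInstanceAs (QuasiCompact (Limits.pullback.snd f (S.fromSpecResidueField _)))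
  haveI : CompactSpace ↥(f.fiber s) :=
    QuasiCompact.compactSpace_of_compactSpace (f.fiberToSpecResidueField s)
  haveI : LocallyOfFiniteType ((f.fiber s) ↘ Spec (CommRingCat.of (S.residueField s))) := hlft
  apply finrank_Γ_fiber_eq_one_of_algClosure f s
  · exact isReduced_bc_of_atWorstNodal (S.residueField s) (f.fiber s) hnod
      (AlgebraicClosure (S.residueField s))
  · exact pullback_of_geometrically
      (GeometricallyConnected.geometrically_connectedSpace
        (f := f.fiberToSpecResidueField s)) _ _

/-- the fibres of a nodal family have dimension at most one -/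
theorem dim_fiber_le_one_of_isNodalFamily (hf : Curv2.IsNodalFamily f) (s : S) :
    topologicalKrullDim ↥(f.fiber s) ≤ 1 := by
  obtain ⟨-, -, hs⟩ := hf
  obtain ⟨hdim, -⟩ := hs s
  rw [Groth.Agent.S10831.result]
  exact iSup₂_le fun Z hZ => (hdim Z hZ).le

end Groth.Agent.Helper1.NodalRed
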