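import Mathlib
import Groth.Prelude
import Groth.Agent.Helper2.FlatNoeth2
import Groth.Agent.S2074

set_option autoImplicit false
set_option linter.unusedVariables false
universe u
open CategoryTheory CategoryTheory.Limits AlgebraicGeometry TopologicalSpace Topology

/-!
# Noetherian approximation of a proper morphism of finite presentation with a flat finitely
presented module (affine base)
-/

noncomputable section

namespace Groth.Agent.Helper1.NoethApx

open Groth.Agent.Helper5.ConsLc Groth.Agent.Lead.LimPullback Groth.Agent.Lead.LimHom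
open Groth.Agent.Lead Groth.Agent.Helper2.LimDesc Groth.Agent.Helper2.ConsMod
open Groth.Agent.Helper2.FlatNoeth

set_option backward.isDefEq.respectTransparency false in
/-- **Noetherian approximation**: a proper morphism of finite presentation to `Spec A` together
with a finitely presented module flat over `A` is the base change of a proper morphism to the
spectrum of a finitely generated `ℤ`-subalgebra, with a coherent module flat over it. -/
theorem exists_model_proper_flat {A : Type u} [CommRing A] {X : Scheme.{u}}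
    (f : X ⟶ Spec (CommRingCat.of A)) [IsProper f] [LocallyOfFinitePresentation f]
    (F : X.Modules) (hF : CohB1.IsFP F) (hflat : FlatMod.IsFlatOver f F) :
    ∃ (A₀ : Subalgebra ℤ A) (_ : A₀.FG) (X₀ : Scheme.{u}) (f₀ : X₀ ⟶ Spec (CommRingCat.of ↥A₀))
      (_ : IsProper f₀) (F₀ : X₀.Modules) (_ : Coh.IsCoh F₀) (q : X ⟶ X₀)
      (_ : IsPullback q f f₀ (Spec.map (CommRingCat.ofHom A₀.val.toRingHom)))
      (_ : (Scheme.Modules.pullback q).obj F₀ ≅ F),
      FlatMod.IsFlatOver f₀ F₀ := by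
  have hfg : (⊥ : Subalgebra ℤ A).FG := Subalgebra.fg_bot
  haveI := SubalgSys.isCofiltered hfg
  have hc : IsLimit (SubalgSys.cone A ⊥) := SubalgSys.coneIsLimit hfg
  haveI : ∀ (i j : (SubalgSys.Idx A ⊥)ᵒᵖ) (f : i ⟶ j),
      IsAffineHom ((SubalgSys.D A ⊥).map f) := fun _ _ f => inferInstance
  haveI : ∀ i, CompactSpace ((SubalgSys.D A ⊥).obj i) := fun i => inferInstance
  haveI : ∀ i, QuasiSeparatedSpace ((SubalgSys.D A ⊥).obj i) := fun i => inferInstance
  let D := SubalgSys.D A ⊥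
  let c := SubalgSys.cone A ⊥
  -- a model with the module
  obtain ⟨k, X₀, f₀, q₀, F₀, h1, h2, h3, hX, hq, hfp, ⟨α⟩⟩ := exists_model f F hF
  haveI := h1
  haveI := h2
  haveI := h3
  haveI := hq
  have hY : IsPullback (c.π.app k) (𝟙 c.pt) (𝟙 (D.obj k)) (c.π.app k) :=
    haveI : IsIso (𝟙 c.pt) := inferInstance
    IsPullback.of_vert_isIso ⟨(Category.comp_id _).trans (Category.id_comp _).symm⟩
  haveI : CompactSpace X₀ := QuasiCompact.compactSpace_of_compactSpace f₀
  haveI : QuasiSeparatedSpace X₀ := quasiSeparatedSpace_of_quasiSeparated f₀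
  -- properness at a later stage
  haveI : IsProper (show X ⟶ c.pt from f) := ‹IsProper f›
  obtain ⟨j, φ, Xj, Yj, fj, gj, pY, pX, hYj, hXj, hprop⟩ :=
    Groth.Agent.S2074.result D c hc k f₀ (𝟙 (D.obj k)) (show X ⟶ c.pt from f) (𝟙 c.pt)
      (c.π.app k) q₀ hY hX
  obtain ⟨vX, hvX1, hgj, hpb, hlfp, hqc, vY, hvY1, hvY2, hvX2⟩ :=
    assemble D c φ (show X ⟶ c.pt from f) f₀ q₀ hX fj gj pY pX hYj hXj
  haveI := hgj
  haveI := hprop
  haveI := hlfp
  haveI := hqc
  -- the new model
  let f₁ : Xj ⟶ D.obj j := fj ≫ gj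
  haveI hf₁ : IsProper f₁ := inferInstance
  let F₁ : Xj.Modules := (Scheme.Modules.pullback pX).obj F₀
  haveI hq₁ : F₁.IsQuasicoherent := Groth.Agent.Lead.StalkPull.isQuasicoherent_pullbackObj pX F₀
  have hfp₁ : SheafOfModules.IsFinitePresentation (R := Xj.ringCatSheaf) F₁ :=
    Groth.Agent.Lead.LimPres.isFP_pullback pX F₀ hfp
  let α₁ : (Scheme.Modules.pullback vX).obj F₁ ≅ F :=
    (Scheme.Modules.pullbackComp vX pX).app F₀ ≪≫
      (Scheme.Modules.pullbackCongr hvX1).app F₀ ≪≫ α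
  have hY₁ : IsPullback (c.π.app j) (𝟙 c.pt) (𝟙 (D.obj j)) (c.π.app j) :=
    haveI : IsIso (𝟙 c.pt) := inferInstance
    IsPullback.of_vert_isIso ⟨(Category.comp_id _).trans (Category.id_comp _).symm⟩
  haveI : QuasiCompact (f₁ ≫ 𝟙 (D.obj j)) := by rw [Category.comp_id]; infer_instance
  have hflat' : FlatMod.IsFlatOver (show X ⟶ c.pt from f)
      ((Scheme.Modules.pullback vX).obj F₁) := fun z =>
    Groth.Agent.Lead.FpqcSheaf.isFlatOverAt_of_iso f α₁.symm z (hflat z)
  obtain ⟨i, φ', Xi, Yi, fi, gi, pY', pX', hYi, hXi, hfl⟩ :=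
    Groth.Agent.Helper2.FlatStageGlob.exists_stage_of_isFlatOver D c hc j f₁ (𝟙 (D.obj j)) F₁ hfp₁
      (show X ⟶ c.pt from f) (𝟙 c.pt) (c.π.app j) vX hY₁ hpb hflat'
  obtain ⟨vX', hvX1', hgi, hpb', hlfp', hqc', vY', hvY1', hvY2', hvX2'⟩ :=
    assemble D c φ' (show X ⟶ c.pt from f) f₁ vX hpb fi gi pY' pX' hYi hXi
  haveI := hgi
  haveI : IsProper fi := MorphismProperty.of_isPullback hXi hf₁
  refine ⟨i.unop.1, i.unop.2.1, Xi, fi ≫ gi, inferInstance, (Scheme.Modules.pullback pX').obj F₁,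
    ⟨Groth.Agent.Lead.StalkPull.isQuasicoherent_pullbackObj pX' F₁,
      Groth.Agent.Helper4.FinLocFree2.isFiniteType_of_isFinitePresentation _
        (Groth.Agent.Lead.LimPres.isFP_pullback pX' F₁ hfp₁)⟩, vX', hpb', ?_,
    fun z => isFlatOverAt_comp_of_isIso fi gi _ _ (hfl z)⟩
  exact (Scheme.Modules.pullbackComp vX' pX').app F₁ ≪≫
    (Scheme.Modules.pullbackCongr hvX1').app F₁ ≪≫ α₁

end Groth.Agent.Helper1.NoethApx

end
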