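import Groth.Agent.Helper1.NoethApx9
import Groth.Agent.Helper1.CechBC5

set_option autoImplicit false
set_option linter.unusedVariables false
universe u
open CategoryTheory CategoryTheory.Limits TopologicalSpace Topology TensorProduct

/-!
# Complexes of finite flat modules over a Noetherian ring, base changed to an arbitrary ring:
projectivity of the homology when the ranks in the two neighbouring degrees vanish on the image
-/

noncomputable section

namespace Groth.Agent.Helper1.NoethApx

open Groth.Agent.Helper1.FlatCx Groth.Agent.Helper1.BCFlatCoh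

section complexes

variable {A₀ B : Type u} [CommRing A₀] [IsNoetherianRing A₀] [CommRing B] (ι : A₀ →+* B)
  (L : ChainComplex (ModuleCat.{u} A₀) ℤ)
  (hL : ∀ i, Module.Finite A₀ (L.X i) ∧ Module.Flat A₀ (L.X i))

include hL in
/-- if the ranks in degrees `q - 1` and `q + 1` vanish at all points of the image of `Spec B`,
the homology in degree `q` of the base change to `B` is finite projective, of rank the rank
in degree `q`, and commutes with every further base change -/
theorem homology_bcCx_of_dRank_adjacent (q : ℤ)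
    (h1 : ∀ y, CohIII.dRank L (q - 1) (PrimeSpectrum.comap ι y) = 0)
    (h2 : ∀ y, CohIII.dRank L (q + 1) (PrimeSpectrum.comap ι y) = 0) :
    Module.Finite B ((CohIII.bcCx ι L).homology q) ∧
      Module.Projective B ((CohIII.bcCx ι L).homology q) ∧
      (∀ y, Module.rankAtStalk ((CohIII.bcCx ι L).homology q) y =
        CohIII.dRank L q (PrimeSpectrum.comap ι y)) ∧
      ((CohIII.TFun (CohIII.bcCx ι L) q).PreservesMonomorphisms ∧
        (CohIII.TFun (CohIII.bcCx ι L) q).PreservesEpimorphisms) := by
  obtain ⟨A₁, _, _, j, ι₁, L₁, hcomp, hz, hL₁, hd, ⟨e⟩⟩ :=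
    exists_factor_cx ι L hL
      ({x | CohIII.dRank L (q - 1) x = 0} ∩ {x | CohIII.dRank L (q + 1) x = 0})
      ((isOpen_dRank_eq_zero L hL (q - 1)).inter (isOpen_dRank_eq_zero L hL (q + 1)))
      (fun y => ⟨h1 y, h2 y⟩)
  letI : Algebra A₁ B := ι₁.toAlgebra
  have hex := Groth.Agent.Helper1.DRankConc.exact_of_dRank_eq_zero L₁ hL₁ q (q - 1) (q + 1)
    (by ring) (by ring)
    (fun z => by rw [hd]; exact (hz z).1) (fun z => by rw [hd]; exact (hz z).2)
  have hflat₁ : ∀ i, Module.Flat A₁ (L₁.X i) := fun i => (hL₁ i).2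
  haveI := (hL₁ q).1
  haveI : Module.Finite A₁ (L₁.homology q) := finite_homology L₁ q
  haveI : Module.Flat A₁ (L₁.homology q) := flat_homology_of_exact L₁ hflat₁ q hex
  haveI : Module.FinitePresentation A₁ (L₁.homology q) := Module.finitePresentation_of_finite A₁ _
  haveI : Module.Projective A₁ (L₁.homology q) := Module.Flat.projective_of_finitePresentation
  obtain ⟨φ⟩ := nonempty_bcHomology_equiv L₁ hflat₁ B q hex.2
  let ψ : (CohIII.bcCx ι L).homology q ≃ₗ[B] (CohIII.bcCx ι₁ L₁).homology q :=
    ((HomologicalComplex.homologyFunctor _ _ q).mapIso e).symm.toLinearEquiv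
  let Ψ : (CohIII.bcCx ι L).homology q ≃ₗ[B] B ⊗[A₁] L₁.homology q := ψ ≪≫ₗ φ
  refine ⟨Module.Finite.equiv Ψ.symm, Module.Projective.of_equiv Ψ.symm, ?_, ?_⟩
  · intro y
    rw [congrFun (Module.rankAtStalk_eq_of_equiv Ψ) y, Module.rankAtStalk_baseChange,
      Groth.Agent.Helper1.DRankZero.rankAtStalk_homology_eq_dRank L₁ hL₁ q hex, hd]
    congr 1
    rw [← hcomp]
    rfl
  · have hm := preservesMono_bcCx B L₁ hflat₁ q hex.1
    have he := preservesEpi_bcCx B L₁ hflat₁ q hex.2
    have hiso : CohIII.TFun (CohIII.bcCx ι₁ L₁) q ≅ CohIII.TFun (CohIII.bcCx ι L) q :=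
      Groth.Agent.Helper1.CechBC.tfunIsoOfIso e q
    exact ⟨Functor.PreservesMonomorphisms.of_iso hiso,
      Functor.PreservesEpimorphisms.of_iso hiso⟩

end complexes

end Groth.Agent.Helper1.NoethApx

end
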