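import Groth.Agent.Helper1.NoethApx10
import Groth.Agent.Helper1.BaseChart14

set_option autoImplicit false
set_option linter.unusedVariables false
universe u
open CategoryTheory CategoryTheory.Limits AlgebraicGeometry TopologicalSpace Topology

/-!
# Local freeness of `Rᵖ f_* F` from the vanishing of the cohomology of the fibres in the two
neighbouring degrees (proper morphisms of finite presentation over an arbitrary base)
-/

noncomputable section

namespace Groth.Agent.Helper1.NoethApx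

open Groth.Agent.Helper1.BaseChart Groth.Agent.Helper1.FieldPt Groth.Agent.Helper4 Groth.Agent.Helper4.FinLocFree Groth.Agent.Helper4.StalkDict

variable {X S : Scheme.{u}} (f : X ⟶ S)

/-- if `H^p(f⁻¹V, F)` is finite projective over the ring of the affine open `V`, then
`Rᵖ f_* F` is free near each point of `V`, of rank the local rank of `H^p(f⁻¹V, F)` -/
theorem exists_free_nhd_of_projective (V : S.Opens) [IsAffine (V : Scheme.{u})]
    [QuasiCompact f] [QuasiSeparated f] [HasInjectiveResolutions X.Modules]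
    (F : X.Modules) [Coh.IsQCoh F] (p : ℕ)
    (H : Type u) [AddCommGroup H] [Module (AV V) H] [Module.Finite (AV V) H]
    [Module.Projective (AV V) H]
    (e1 : letI := chartOver f V; H ≃ₗ[AV V] Coh.HH (XV f V) (FV f V F) p)
    (y : S) (hy : y ∈ V) :
    ∃ U : S.Opens, y ∈ U ∧ Nonempty (((Coh.Rpush f p).obj F).restrict U.ι ≅
      FlatMod.freeMod (↑U) (Module.rankAtStalk H (chartPt V y hy))) := by
  letI := chartOver f V
  haveI : F.IsQuasicoherent := inferInstance
  haveI := SchAdj.isGrothendieckAbelian_modules (f ⁻¹ᵁ V : Scheme.{u})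
  haveI : HasInjectiveResolutions (XV f V).Modules := inferInstance
  haveI : Coh.IsQCoh (FV f V F) := inferInstance
  haveI : (NV f V F p).IsQuasicoherent := Groth.Agent.S0030.result (f ∣_ V) (FV f V F) p
  obtain ⟨e2⟩ := nonempty_linearEquiv_sections f V F p
  let e := e1.trans e2
  haveI : Module.Finite (AV V) Γ(NV f V F p, ⊤) := Module.Finite.equiv e
  haveI : Module.Projective (AV V) Γ(NV f V F p, ⊤) := Module.Projective.of_equiv e
  have hfp : Module.FinitePresentation (AV V) Γ(NV f V F p, ⊤) :=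
    Module.finitePresentation_of_projective _ _
  have hflat : Module.Flat (AV V) Γ(NV f V F p, ⊤) := inferInstance
  obtain ⟨V', hvV', hfr⟩ := exists_isFreeAlong_of_flat_sections (V : Scheme.{u}) (NV f V F p)
    hfp hflat ⟨y, hy⟩
  have hr : Module.rankAtStalk (R := Γ((V : Scheme.{u}), ⊤)) Γ(NV f V F p, ⊤)
      ((isAffineOpen_top (V : Scheme.{u})).primeIdealOf ⟨⟨y, hy⟩, trivial⟩) =
      Module.rankAtStalk H (chartPt V y hy) := by
    rw [primeIdealOf_top_eq_chartPt]
    exact congrFun (Module.rankAtStalk_eq_of_equiv e.symm) _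
  rw [hr] at hfr
  obtain ⟨i⟩ := Groth.Agent.Helper1.RpRestr.nonempty_iso f V p
  let j : ((Coh.Rpush f p).obj F).restrict V.ι ≅ NV f V F p := i.app F
  have hfr' : IsFreeAlong (((Coh.Rpush f p).obj F).restrict V.ι) V'.ι
      (Module.rankAtStalk H (chartPt V y hy)) := hfr.of_iso j.symm
  obtain ⟨k⟩ := hfr'
  have hfr'' : IsFreeAlong ((Coh.Rpush f p).obj F) (V'.ι ≫ V.ι)
      (Module.rankAtStalk H (chartPt V y hy)) :=
    ⟨(Scheme.Modules.restrictFunctorComp V'.ι V.ι).app _ ≪≫ k⟩
  refine ⟨(V'.ι ≫ V.ι).opensRange, ⟨⟨⟨y, hy⟩, hvV'⟩, rfl⟩, hfr''.opensRange _⟩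

/-- if `H^{p+1}` and `H^{p-1}` of all fibres over an affine open `W` vanish, then `Rᵖ f_* F`
is free near each point `y` of `W`, of rank `dim H^p(X_y, F_y)` -/
theorem exists_free_nhd_of_betti (W : S.Opens) [IsAffine (W : Scheme.{u})]
    [IsProper f] [LocallyOfFinitePresentation f] [HasInjectiveResolutions X.Modules]
    (F : X.Modules) (hF : CohB1.IsFP F) (hfl : FlatMod.IsFlatOver f F) (p : ℕ)
    (h1 : ∀ s ∈ W, PerfAux.betti f F s (p + 1) = 0)
    (h2 : 0 < p → ∀ s ∈ W, PerfAux.betti f F s (p - 1) = 0) (y : S) (hy : y ∈ W) :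
    ∃ U : S.Opens, y ∈ U ∧ Nonempty (((Coh.Rpush f p).obj F).restrict U.ι ≅
      FlatMod.freeMod (↑U) (PerfAux.betti f F y p)) := by
  letI := chartOver f W
  haveI := hF
  haveI : F.IsQuasicoherent := inferInstance
  haveI : Coh.IsQCoh F := inferInstance
  obtain ⟨A₀, _, _, ι, L, hLff, -, hpos, hbetti, -, hhom⟩ := exists_chart_complex_bc f W F hF hfl
  have hL : ∀ i, Module.Finite A₀ (L.X i) ∧ Module.Flat A₀ (L.X i) := fun i => by
    haveI := (hLff i).2
    exact ⟨(hLff i).1, inferInstance⟩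
  have hlow : ∀ y', CohIII.dRank L (-(p : ℤ) - 1) (PrimeSpectrum.comap ι y') = 0 := fun y' => by
    obtain ⟨w, hw, rfl⟩ := exists_eq_chartPt W y'
    have : -(p : ℤ) - 1 = -((p + 1 : ℕ) : ℤ) := by push_cast; ring
    rw [this, ← hbetti w hw (p + 1)]
    exact h1 w hw
  have hhigh : ∀ y', CohIII.dRank L (-(p : ℤ) + 1) (PrimeSpectrum.comap ι y') = 0 := fun y' => by
    rcases Nat.eq_zero_or_pos p with hp | hp
    · subst hp
      exact Groth.Agent.Helper1.DRankConc.dRank_eq_zero_of_isZero_TFun L _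
        (hpos _ (by simp)) _
    · obtain ⟨w, hw, rfl⟩ := exists_eq_chartPt W y'
      have : -(p : ℤ) + 1 = -((p - 1 : ℕ) : ℤ) := by
        rw [Nat.cast_sub hp]
        push_cast
        ring
      rw [this, ← hbetti w hw (p - 1)]
      exact h2 hp w hw
  obtain ⟨hfin, hproj, hrank, -⟩ := homology_bcCx_of_dRank_adjacent ι L hL (-(p : ℤ)) hlow hhigh
  obtain ⟨e⟩ := hhom p
  haveI := hfin
  haveI := hproj
  obtain ⟨U, hyU, hU⟩ := exists_free_nhd_of_projective f W F p
    ((CohIII.bcCx ι L).homology (-(p : ℤ))) e y hy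
  rw [hrank, ← hbetti y hy p] at hU
  exact ⟨U, hyU, hU⟩

end Groth.Agent.Helper1.NoethApx

end
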