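import Groth.Agent.Helper1.NoethApx1
import Groth.Agent.Helper1.FieldPt2
import Groth.Agent.Helper4.FTRestrict

set_option autoImplicit false
set_option linter.unusedVariables false
universe u
open CategoryTheory CategoryTheory.Limits AlgebraicGeometry TopologicalSpace Topology

/-!
# Noetherian approximation over an affine chart of the base, and the Betti numbers of the fibres
-/

noncomputable section

namespace Groth.Agent.Helper1.NoethApx

open Groth.Agent.Helper1.BaseChart Groth.Agent.Helper1.FieldPt

variable {X S : Scheme.{u}} (f : X ⟶ S) (W : S.Opens) [IsAffine (W : Scheme.{u})]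

lemma locallyOfFinitePresentation_chart [LocallyOfFinitePresentation f] :
    LocallyOfFinitePresentation (chartHom f W) := by
  unfold chartHom
  infer_instance

/-- Noetherian approximation over an affine chart of the base -/
theorem exists_chart_model [IsProper f] [LocallyOfFinitePresentation f]
    (F : X.Modules) (hF : CohB1.IsFP F) (hfl : FlatMod.IsFlatOver f F) :
    ∃ (A₀ : Subalgebra ℤ (AV W)) (_ : A₀.FG) (X₀ : Scheme.{u})
      (f₀ : X₀ ⟶ Spec (CommRingCat.of ↥A₀))
      (_ : IsProper f₀) (F₀ : X₀.Modules) (_ : Coh.IsCoh F₀) (q : XV f W ⟶ X₀)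
      (_ : IsPullback q (chartHom f W) f₀ (Spec.map (CommRingCat.ofHom A₀.val.toRingHom)))
      (_ : (Scheme.Modules.pullback q).obj F₀ ≅ FV f W F),
      FlatMod.IsFlatOver f₀ F₀ := by
  haveI := hF
  haveI : F.IsQuasicoherent := inferInstance
  haveI := isProper_chart f W
  haveI := locallyOfFinitePresentation_chart f W
  exact exists_model_proper_flat (chartHom f W) (FV f W F)
    (Groth.Agent.Helper4.FTRestrict.isFP_restrict _ F hF) (isFlatOver_chart f W F hfl)

end Groth.Agent.Helper1.NoethApx

end
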