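import Groth.Agent.Helper1.NoethApx2

set_option autoImplicit false
set_option linter.unusedVariables false
universe u
open CategoryTheory CategoryTheory.Limits AlgebraicGeometry TopologicalSpace Topology

/-!
# Betti numbers of the fibres through a Noetherian model of a chart
-/

noncomputable section

namespace Groth.Agent.Helper1.NoethApx

open Groth.Agent.Helper1.BaseChart Groth.Agent.Helper1.FieldPt

variable {X S : Scheme.{u}} (f : X ⟶ S) (W : S.Opens) [IsAffine (W : Scheme.{u})]

/-- the Betti numbers of the fibres over the chart are those of the Noetherian model -/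
theorem betti_eq_of_chart_model (F : X.Modules) (s : S) (hs : s ∈ W)
    {A₀ : Type u} [CommRing A₀] [IsNoetherianRing A₀] (ι : A₀ →+* AV W)
    {X₀ : Scheme.{u}} (f₀ : X₀ ⟶ Spec (CommRingCat.of A₀)) [IsProper f₀] (F₀ : X₀.Modules)
    (hF₀ : Coh.IsCoh F₀) (hfl₀ : FlatMod.IsFlatOver f₀ F₀)
    (q : XV f W ⟶ X₀) (H : IsPullback q (chartHom f W) f₀ (Spec.map (CommRingCat.ofHom ι)))
    (e : (Scheme.Modules.pullback q).obj F₀ ≅ FV f W F) (p : ℕ) :
    PerfAux.betti f F s p =
      CohIII.fiberRank f₀ F₀ p (PrimeSpectrum.comap ι (chartPt W s hs)) := by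
  letI := chartAlgebra W s hs
  letI : (f.fiber s).Over (Spec (CommRingCat.of (S.residueField s))) :=
    ⟨f.fiberToSpecResidueField s⟩
  have h0 := isPullback_chart f W s hs
  have hsq := h0.paste_horiz H
  let x' : PrimeSpectrum (S.residueField s) := ⟨⊥, Ideal.isPrime_bot⟩
  have key := finrank_HH_fieldPt f₀ F₀ hF₀ hfl₀ (K := S.residueField s)
    (Spec.map (CommRingCat.ofHom (algebraMap (AV W) (S.residueField s))) ≫
      Spec.map (CommRingCat.ofHom ι)) (gLift f W s hs ≫ q) hsq p x'
  have hpt : (Spec.map (CommRingCat.ofHom (algebraMap (AV W) (S.residueField s))) ≫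
      Spec.map (CommRingCat.ofHom ι)) x' = PrimeSpectrum.comap ι (chartPt W s hs) := by
    rw [← comap_chartAlgebra W s hs x']
    rfl
  rw [hpt] at key
  let θ : (Scheme.Modules.pullback (gLift f W s hs ≫ q)).obj F₀ ≅ CohIII.fiberMod f F s :=
    ((Scheme.Modules.pullbackComp (gLift f W s hs) q).app F₀).symm ≪≫
      (Scheme.Modules.pullback (gLift f W s hs)).mapIso e ≪≫ fiberModIso f W s hs F
  have h2 := finrank_HH_congr (K := S.residueField s) θ p
  rw [← key, h2]
  rfl

end Groth.Agent.Helper1.NoethApx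

end
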