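import Groth.Agent.Helper1.TruncFin3
import Groth.Agent.Helper1.DRankGeneric

set_option autoImplicit false

/-!
# Truncating a complex of finitely generated projective modules to a finite amplitude
-/

namespace Groth.Agent.Helper1.TruncFin

open CategoryTheory Limits HomologicalComplex
open Groth.Agent.Helper1.FlatCx Groth.Agent.Helper1.BCFlatCoh Groth.Agent.Helper1.Bridge

universe u

variable {A : Type u} [CommRing A] [IsNoetherianRing A]
  (L : ChainComplex (ModuleCat.{u} A) ℤ)

/-- truncation to the amplitude `[lo, hi]` -/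
theorem exists_trunc
    (hL : ∀ i, Module.Finite A (L.X i) ∧ Module.Projective A (L.X i))
    (b : ℤ) (hb : ∀ i < b, IsZero (L.X i)) (lo hi : ℤ)
    (hhi : ∀ q : ℤ, hi < q → ∀ M : ModuleCat.{u} A, IsZero ((CohIII.TFun L q).obj M))
    (hlo : ∀ q : ℤ, q < lo → IsZero (L.homology q)) :
    ∃ L₂ : ChainComplex (ModuleCat.{u} A) ℤ,
      (∀ i, Module.Finite A (L₂.X i) ∧ Module.Projective A (L₂.X i)) ∧
      (∀ q : ℤ, q < lo ∨ hi < q → IsZero (L₂.X q)) ∧
      ∀ (B : Type u) [CommRing B] [Algebra A B] (p : ℤ),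
        Nonempty ((CohIII.bcCx (algebraMap A B) L₂).homology p ≅
          (CohIII.bcCx (algebraMap A B) L).homology p) := by
  have hLflat : ∀ i, Module.Flat A (L.X i) := fun i => by
    haveI := (hL i).2
    infer_instance
  -- homology of `L` above `hi`
  have hexhi : ∀ q, hi < q → L.ExactAt q := by
    intro q hq
    rw [exactAt_iff_isZero_homology]
    exact (hhi q hq (ModuleCat.of A A)).of_iso
      ((HomologicalComplex.homologyFunctor _ _ q).mapIso
        (Groth.Agent.Helper1.DRankGeneric.tensorUnitIso L)).symm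
  -- flatness of `opcycles hi`
  have hflat1 : Module.Flat A (L.opcycles hi) := by
    rw [← chain_preservesMono_iff L hLflat hi,
      ← chain_preservesEpi_iff_preservesMono L hLflat (hi + 1) hi rfl]
    exact (exact_of_isZero_tfun L (hi + 1) (hhi (hi + 1) (by omega))).2
  -- first truncation
  set L₁ := truncAbove L hi with hL₁def
  have hL₁ : ∀ i, Module.Finite A (L₁.X i) ∧ Module.Projective A (L₁.X i) :=
    finite_projective_truncAbove L hL hi hflat1
  have hL₁flat : ∀ i, Module.Flat A (L₁.X i) := fun i => by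
    haveI := (hL₁ i).2
    infer_instance
  haveI hπ : QuasiIso (πAbove L hi) := quasiIso_πAbove L hi hexhi
  have hb₁ : ∀ i < b, IsZero (L₁.X i) := by
    intro i hi'
    rcases lt_trichotomy i hi with h | rfl | h
    · exact (hb i hi').of_iso (truncAboveXIso L hi i h)
    · exact (IsZero.of_epi (L.pOpcycles i) (hb i hi')).of_iso (truncAboveXIsoOpcycles L i)
    · exact isZero_truncAbove_X L hi i h
  have hlo₁ : ∀ q : ℤ, q < lo → IsZero (L₁.homology q) := by
    intro q hq
    haveI : QuasiIsoAt (πAbove L hi) q := inferInstance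
    exact (hlo q hq).of_iso (isoOfQuasiIsoAt (πAbove L hi) q).symm
  have hexlo₁ : ∀ q, q < lo → L₁.ExactAt q := fun q hq => by
    rw [exactAt_iff_isZero_homology]
    exact hlo₁ q hq
  have hflat2 : Module.Flat A (L₁.opcycles (lo - 1)) := by
    rw [← chain_preservesMono_iff L₁ hL₁flat (lo - 1)]
    exact Groth.Agent.Helper1.FlatCxVanish.preservesMono_of_homology_zero L₁ hL₁flat b hb₁
      (lo - 1) (fun q hq => hlo₁ q (by omega)) (lo - 1) le_rfl
  -- second truncation
  set L₂ := truncBelow L₁ lo with hL₂def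
  have hL₂ : ∀ i, Module.Finite A (L₂.X i) ∧ Module.Projective A (L₂.X i) :=
    finite_projective_truncBelow L₁ hL₁ lo hflat2
  have hL₂flat : ∀ i, Module.Flat A (L₂.X i) := fun i => by
    haveI := (hL₂ i).2
    infer_instance
  haveI hι : QuasiIso (ιBelow L₁ lo) := quasiIso_ιBelow L₁ lo hexlo₁
  have hz₂ : ∀ q : ℤ, q < lo ∨ hi < q → IsZero (L₂.X q) := by
    rintro q (hq | hq)
    · exact isZero_truncBelow_X L₁ lo q hq
    · rcases lt_trichotomy q lo with h | rfl | h
      · exact isZero_truncBelow_X L₁ lo q h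
      · exact (IsZero.of_mono (L₁.iCycles q) (isZero_truncAbove_X L hi q hq)).of_iso
          (truncBelowXIsoCycles L₁ q)
      · exact (isZero_truncAbove_X L hi q hq).of_iso (truncBelowXIso L₁ lo q h)
  refine ⟨L₂, hL₂, hz₂, ?_⟩
  intro B _ _ p
  set d := min b lo with hd
  have hLd : ∀ i < d, ∀ M : ModuleCat.{u} A, IsZero ((CohIII.TFun L i).obj M) :=
    fun i hi' M => isZero_tfun_of_isZero L i (hb i (lt_of_lt_of_le hi' (min_le_left _ _))) M
  have hL₁d : ∀ i < d, ∀ M : ModuleCat.{u} A, IsZero ((CohIII.TFun L₁ i).obj M) :=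
    fun i hi' M => isZero_tfun_of_isZero L₁ i (hb₁ i (lt_of_lt_of_le hi' (min_le_left _ _))) M
  have hL₂d : ∀ i < d, ∀ M : ModuleCat.{u} A, IsZero ((CohIII.TFun L₂ i).obj M) :=
    fun i hi' M => isZero_tfun_of_isZero L₂ i
      (hz₂ i (Or.inl (lt_of_lt_of_le hi' (min_le_right _ _)))) M
  obtain ⟨e1⟩ := nonempty_bc_homologyIso B (πAbove L hi) hLflat hL₁flat d hLd hL₁d p
  obtain ⟨e2⟩ := nonempty_bc_homologyIso B (ιBelow L₁ lo) hL₂flat hL₁flat d hL₂d hL₁d p
  exact ⟨e2 ≪≫ e1.symm⟩

end Groth.Agent.Helper1.TruncFin
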