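import Groth.Agent.Helper1.NoethApx3
import Groth.Agent.Helper1.Bridge9
import Groth.Agent.Helper1.TruncFin4

set_option autoImplicit false
set_option linter.unusedVariables false
universe u
open CategoryTheory CategoryTheory.Limits AlgebraicGeometry TopologicalSpace Topology

/-!
# A bounded complex of finite projective modules over a Noetherian ring computing the Betti numbers
of the fibres over a chart (finite presentation, non-Noetherian base)
-/

noncomputable section

namespace Groth.Agent.Helper1.NoethApx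

open Groth.Agent.Helper1.BaseChart Groth.Agent.Helper1.FieldPt

variable {X S : Scheme.{u}} (f : X ⟶ S) (W : S.Opens) [IsAffine (W : Scheme.{u})]

/-- the Betti numbers of the fibres over an affine chart are the ranks of a bounded complex of
finite projective modules over a Noetherian ring mapping to the ring of the chart -/
theorem exists_chart_complex_fp [IsProper f] [LocallyOfFinitePresentation f]
    (F : X.Modules) (hF : CohB1.IsFP F) (hfl : FlatMod.IsFlatOver f F) :
    ∃ (A₀ : Type u) (_ : CommRing A₀) (_ : IsNoetherianRing A₀) (ι : A₀ →+* AV W)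
      (L : ChainComplex (ModuleCat.{u} A₀) ℤ) (lo : ℤ),
      (∀ i, Module.Finite A₀ (L.X i) ∧ Module.Projective A₀ (L.X i)) ∧
      (∀ q : ℤ, q < lo ∨ 0 < q → IsZero (L.X q)) ∧
      ∀ (s : S) (hs : s ∈ W) (p : ℕ), PerfAux.betti f F s p =
        CohIII.dRank L (-(p : ℤ)) (PrimeSpectrum.comap ι (chartPt W s hs)) := by
  obtain ⟨A₀, hA₀, X₀, f₀, hprop, F₀, hF₀, q, H, e, hfl₀⟩ := exists_chart_model f W F hF hfl
  haveI := hprop
  have hft : Algebra.FiniteType ℤ A₀ := (Subalgebra.fg_iff_finiteType A₀).mp hA₀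
  haveI hN : IsNoetherianRing A₀ := Algebra.FiniteType.isNoetherianRing ℤ A₀
  letI : X₀.Over (Spec (CommRingCat.of A₀)) := ⟨f₀⟩
  haveI : IsProper (X₀ ↘ Spec (CommRingCat.of A₀)) := hprop
  obtain ⟨L, hLff, ⟨b, hb⟩, hT, -, hrank, -, -⟩ :=
    Groth.Agent.Helper1.Bridge.exists_complex'' A₀ X₀ F₀ hF₀ hfl₀
  have hLfp : ∀ i, Module.Finite A₀ (L.X i) ∧ Module.Projective A₀ (L.X i) := fun i => by
    haveI := (hLff i).2
    exact ⟨(hLff i).1, inferInstance⟩
  have hlo : ∀ q : ℤ, q < b → IsZero (L.homology q) := fun q hq => by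
    have h1 : IsZero (L.X q) := hb q hq
    exact (HomologicalComplex.ExactAt.of_isZero h1).isZero_homology
  obtain ⟨L₂, hL₂, hz, hiso⟩ := Groth.Agent.Helper1.TruncFin.exists_trunc (L := L) hLfp b hb b 0
    (fun q hq M => hT q hq M) hlo
  refine ⟨A₀, inferInstance, hN, A₀.val.toRingHom, L₂, b, hL₂, hz, ?_⟩
  intro s hs p
  rw [betti_eq_of_chart_model f W F s hs A₀.val.toRingHom f₀ F₀ hF₀ hfl₀ q H e p]
  refine ((hrank p (PrimeSpectrum.comap A₀.val.toRingHom (chartPt W s hs))).symm).trans ?_
  obtain ⟨φ⟩ := hiso (PrimeSpectrum.comap A₀.val.toRingHom (chartPt W s hs)).asIdeal.ResidueField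
    (-(p : ℤ))
  unfold CohIII.dRank
  exact (φ.toLinearEquiv.finrank_eq).symm

end Groth.Agent.Helper1.NoethApx

end
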