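import Groth.Agent.Helper1.NoethApx7
import Groth.Agent.Helper1.DRankVanish
import Groth.Agent.Helper1.DRankRank
import Groth.Agent.S2380

set_option autoImplicit false
set_option linter.unusedVariables false
universe u
open CategoryTheory CategoryTheory.Limits TopologicalSpace Topology TensorProduct

/-!
# Complexes of finite flat modules over a Noetherian ring, base changed to an arbitrary ring:
conditions on the ranks at the points of the image
-/

noncomputable section

namespace Groth.Agent.Helper1.NoethApx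

open Groth.Agent.Helper1.FlatCx Groth.Agent.Helper1.BCFlatCoh

/-- a ring map from a Noetherian ring whose spectrum maps into an open set factors through a
Noetherian ring whose whole spectrum maps into that open set -/
theorem exists_factor {A₀ B : Type u} [CommRing A₀] [IsNoetherianRing A₀] [CommRing B]
    (ι : A₀ →+* B) (U₀ : Set (PrimeSpectrum A₀)) (hU : IsOpen U₀)
    (h : ∀ y, PrimeSpectrum.comap ι y ∈ U₀) :
    ∃ (A₁ : Type u) (_ : CommRing A₁) (_ : IsNoetherianRing A₁) (j : A₀ →+* A₁) (ι₁ : A₁ →+* B),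
      ι₁.comp j = ι ∧ ∀ z, PrimeSpectrum.comap j z ∈ U₀ := by
  classical
  obtain ⟨I, hI⟩ := (PrimeSpectrum.isClosed_iff_zeroLocus_ideal _).mp hU.isClosed_compl
  have htop : Ideal.map ι I = ⊤ := by
    by_contra hne
    obtain ⟨m, hm, hle⟩ := Ideal.exists_le_maximal _ hne
    let y : PrimeSpectrum B := ⟨m, hm.isPrime⟩
    have hy : PrimeSpectrum.comap ι y ∈ U₀ᶜ := by
      rw [hI, PrimeSpectrum.mem_zeroLocus]
      intro a ha
      exact hle (Ideal.mem_map_of_mem ι ha)
    exact hy (h y)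
  have h1 : (1 : B) ∈ Ideal.span (ι '' (I : Set A₀)) := by
    have : Ideal.map ι I = Ideal.span (ι '' (I : Set A₀)) := rfl
    rw [← this, htop]
    trivial
  obtain ⟨c, t, ht, hc, hsum⟩ := Submodule.mem_span_iff_exists_finset_subset.mp h1
  letI : Algebra A₀ B := ι.toAlgebra
  let T : Finset B := t.image c
  let A₁ : Subalgebra A₀ B := Algebra.adjoin A₀ (T : Set B)
  have hfg : A₁.FG := Subalgebra.fg_adjoin_finset T
  have hft : Algebra.FiniteType A₀ A₁ := (Subalgebra.fg_iff_finiteType A₁).mp hfg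
  haveI : IsNoetherianRing A₁ := Algebra.FiniteType.isNoetherianRing A₀ A₁
  refine ⟨A₁, inferInstance, inferInstance, algebraMap A₀ A₁, A₁.val.toRingHom, rfl, ?_⟩
  intro z
  by_contra hz
  have hz' : PrimeSpectrum.comap (algebraMap A₀ A₁) z ∈ PrimeSpectrum.zeroLocus (I : Set A₀) := by
    rw [← hI]
    exact hz
  rw [PrimeSpectrum.mem_zeroLocus] at hz'
  have hmemc : ∀ a ∈ t, c a ∈ A₁ := fun a ha =>
    Algebra.subset_adjoin (Finset.mem_image_of_mem c ha)
  have key : (1 : A₁) ∈ z.asIdeal := by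
    have hterm : ∀ a ∈ t, ∃ w : A₁, w ∈ z.asIdeal ∧ (w : B) = c a • a := by
      intro a ha
      obtain ⟨a', ha', rfl⟩ := ht ha
      refine ⟨⟨c (ι a'), hmemc _ ha⟩ * algebraMap A₀ A₁ a', ?_, ?_⟩
      · exact z.asIdeal.mul_mem_left _ (hz' ha')
      · rfl
    choose! w hw1 hw2 using hterm
    have : (1 : A₁) = ∑ a ∈ t, w a := by
      apply Subtype.ext
      rw [AddSubmonoidClass.coe_finsetSum]
      refine Eq.trans ?_ (Finset.sum_congr rfl (fun a ha => (hw2 a ha))).symm
      rw [hsum]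
      rfl
    rw [this]
    exact z.asIdeal.sum_mem (fun a ha => hw1 a ha)
  exact z.isPrime.ne_top (z.asIdeal.eq_top_of_isUnit_mem key isUnit_one)

section complexes

variable {A₀ B : Type u} [CommRing A₀] [IsNoetherianRing A₀] [CommRing B] (ι : A₀ →+* B)
  (L : ChainComplex (ModuleCat.{u} A₀) ℤ)
  (hL : ∀ i, Module.Finite A₀ (L.X i) ∧ Module.Flat A₀ (L.X i))

include hL in
lemma isOpen_dRank_eq_zero (q : ℤ) : IsOpen {x | CohIII.dRank L q x = 0} := by
  have husc := Groth.Agent.S2380.result L hL q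
  have hO : IsOpen {y : PrimeSpectrum A₀ | CohIII.dRank L q y < 1} :=
    (upperSemicontinuous_iff_isOpen_preimage.mp husc) 1
  convert hO using 2
  ext x
  exact Nat.lt_one_iff.symm

include hL in
/-- the complex, base changed to a Noetherian ring through which `ι` factors and all of whose
points map into a given open set containing the image of `Spec B` -/
theorem exists_factor_cx (U₀ : Set (PrimeSpectrum A₀)) (hU : IsOpen U₀)
    (h : ∀ y, PrimeSpectrum.comap ι y ∈ U₀) :
    ∃ (A₁ : Type u) (_ : CommRing A₁) (_ : IsNoetherianRing A₁) (j : A₀ →+* A₁) (ι₁ : A₁ →+* B)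
      (L₁ : ChainComplex (ModuleCat.{u} A₁) ℤ),
      ι₁.comp j = ι ∧ (∀ z, PrimeSpectrum.comap j z ∈ U₀) ∧
      (∀ i, Module.Finite A₁ (L₁.X i) ∧ Module.Flat A₁ (L₁.X i)) ∧
      (∀ (q : ℤ) (z : PrimeSpectrum A₁), CohIII.dRank L₁ q z =
        CohIII.dRank L q (PrimeSpectrum.comap j z)) ∧
      Nonempty (CohIII.bcCx ι₁ L₁ ≅ CohIII.bcCx ι L) := by
  obtain ⟨A₁, _, _, j, ι₁, hcomp, hz⟩ := exists_factor ι U₀ hU h
  letI : Algebra A₀ A₁ := j.toAlgebra
  refine ⟨A₁, inferInstance, inferInstance, j, ι₁, CohIII.bcCx (algebraMap A₀ A₁) L, hcomp, hz,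
    ?_, ?_, ?_⟩
  · intro i
    haveI := (hL i).1
    exact ⟨finite_extendScalars (S := A₁) (L.X i), flat_bcCx_X A₁ L (fun i => (hL i).2) i⟩
  · intro q z
    exact dRank_baseChange L q z
  · exact ⟨bcCxComp (algebraMap A₀ A₁) ι₁ L ≪≫ bcCxCongr hcomp L⟩

include hL in
/-- if the ranks in degree `q` vanish at all points of the image of `Spec B`, the homology in
degree `q` of the base change to `B` vanishes -/
theorem isZero_homology_bcCx_of_dRank (q : ℤ)
    (h : ∀ y, CohIII.dRank L q (PrimeSpectrum.comap ι y) = 0) :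
    IsZero ((CohIII.bcCx ι L).homology q) := by
  obtain ⟨A₁, _, _, j, ι₁, L₁, hcomp, hz, hL₁, hd, ⟨e⟩⟩ :=
    exists_factor_cx ι L hL {x | CohIII.dRank L q x = 0} (isOpen_dRank_eq_zero L hL q) h
  letI : Algebra A₁ B := ι₁.toAlgebra
  have hd' : ∀ z, CohIII.dRank L₁ q z = 0 := fun z => by
    rw [hd q z]
    exact hz z
  have hT := Groth.Agent.Helper1.DRankVanish.isZero_TFun_of_dRank_eq_zero L₁ hL₁ q hd'
    (DRankQis.Bm (A := A₁) B)
  have h2 := hT.of_iso (bcHomologyIso' B L₁ q)
  have hs : Subsingleton ((ModuleCat.restrictScalars.{u, u, u} (algebraMap A₁ B)).obj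
      ((CohIII.bcCx (algebraMap A₁ B) L₁).homology q)) :=
    ModuleCat.subsingleton_of_isZero h2
  haveI : Subsingleton ((CohIII.bcCx ι₁ L₁).homology q) := hs
  have h3 : IsZero ((CohIII.bcCx ι₁ L₁).homology q) := ModuleCat.isZero_of_subsingleton _
  exact h3.of_iso ((HomologicalComplex.homologyFunctor _ _ q).mapIso e).symm

end complexes

end Groth.Agent.Helper1.NoethApx

end
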