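import Mathlib

/-!
# Finite free algebras: étale iff the trace form has a dual family
-/

set_option autoImplicit false
universe u v w

namespace Groth.Agent.Helper1.TraceEtale

open TensorProduct

section
variable {A : Type u} {B : Type v} [CommRing A] [CommRing B] [Algebra A B]
variable {ι : Type w} [Fintype ι] [DecidableEq ι] (b : Module.Basis ι A B)

/-- A dual family for the trace form with respect to the basis `b`. -/
def IsDualFamily (c : ι → B) : Prop :=
  ∀ i l, Algebra.trace A B (b l * c i) = if i = l then 1 else 0

lemma exists_repr (t : B ⊗[A] B) : ∃ c : ι → B, t = ∑ i, c i ⊗ₜ[A] b i := by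
  induction t using TensorProduct.induction_on with
  | zero => exact ⟨fun _ => 0, by simp⟩
  | tmul x y =>
    refine ⟨fun i => b.repr y i • x, ?_⟩
    conv_lhs => rw [← b.sum_repr y]
    rw [TensorProduct.tmul_sum]
    apply Finset.sum_congr rfl
    intro i _
    rw [TensorProduct.smul_tmul]
  | add t₁ t₂ h₁ h₂ =>
    obtain ⟨c₁, rfl⟩ := h₁
    obtain ⟨c₂, rfl⟩ := h₂
    refine ⟨fun i => c₁ i + c₂ i, ?_⟩
    rw [← Finset.sum_add_distrib]
    apply Finset.sum_congr rfl
    intro i _
    rw [TensorProduct.add_tmul]

/-- `x ⊗ y ↦ φ x • y` -/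
noncomputable def ev (φ : B →ₗ[A] A) : B ⊗[A] B →ₗ[A] B :=
  (TensorProduct.lid A B).toLinearMap ∘ₗ φ.rTensor B

omit [Fintype ι] [DecidableEq ι] in
@[simp] lemma ev_tmul (φ : B →ₗ[A] A) (x y : B) : ev φ (x ⊗ₜ[A] y) = φ x • y := by
  simp [ev]

lemma trace_eq_sum_coord (x : B) : Algebra.trace A B x = ∑ l, b.coord l (x * b l) := by
  rw [Algebra.trace_eq_matrix_trace b, Matrix.trace]
  apply Finset.sum_congr rfl
  intro l _
  rw [Matrix.diag_apply, Algebra.leftMulMatrix_eq_repr_mul]
  rfl

include b in
lemma exists_dualFamily_of_unramified [Algebra.FormallyUnramified A B] :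
    ∃ c : ι → B, IsDualFamily b c := by
  have hft : Algebra.EssFiniteType A B := by
    have : Module.Finite A B := Module.Finite.of_basis b
    infer_instance
  obtain ⟨t, ht₁, ht₂⟩ := (Algebra.FormallyUnramified.iff_exists_tensorProduct (R := A) (S := B)).1 inferInstance
  obtain ⟨c, rfl⟩ := exists_repr b t
  refine ⟨c, ?_⟩
  -- key identity
  have key : ∀ (φ : B →ₗ[A] A) (s : B), ∑ i, φ (s * c i) • b i = s * ∑ i, φ (c i) • b i := by
    intro φ s
    have h := ht₁ s
    rw [sub_mul, sub_eq_zero] at h
    have h' := congrArg (ev φ) h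
    rw [Finset.mul_sum, Finset.mul_sum, map_sum, map_sum] at h'
    simp only [Algebra.TensorProduct.tmul_mul_tmul, one_mul, ev_tmul] at h'
    rw [← h', Finset.mul_sum]
    apply Finset.sum_congr rfl
    intro i _
    rw [mul_smul_comm]
  have hμ : ∑ i, c i * b i = 1 := by
    rw [map_sum] at ht₂
    simpa using ht₂
  have hu : ∑ i, Algebra.trace A B (c i) • b i = 1 := by
    calc ∑ i, Algebra.trace A B (c i) • b i
        = ∑ i, ∑ l, b.coord l (b l * c i) • b i := by
          apply Finset.sum_congr rfl
          intro i _
          rw [trace_eq_sum_coord b, Finset.sum_smul]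
          apply Finset.sum_congr rfl
          intro l _
          rw [mul_comm]
      _ = ∑ l, ∑ i, b.coord l (b l * c i) • b i := Finset.sum_comm
      _ = ∑ l, b l * ∑ i, b.coord l (c i) • b i := by
          apply Finset.sum_congr rfl
          intro l _
          exact key (b.coord l) (b l)
      _ = ∑ l, ∑ i, (b.coord l (c i) • b l) * b i := by
          apply Finset.sum_congr rfl
          intro l _
          rw [Finset.mul_sum]
          apply Finset.sum_congr rfl
          intro i _
          rw [mul_smul_comm, smul_mul_assoc]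
      _ = ∑ i, ∑ l, (b.coord l (c i) • b l) * b i := Finset.sum_comm
      _ = ∑ i, c i * b i := by
          apply Finset.sum_congr rfl
          intro i _
          rw [← Finset.sum_mul]
          congr 1
          exact b.sum_repr (c i)
      _ = 1 := hμ
  have key2 : ∀ s : B, ∑ i, Algebra.trace A B (s * c i) • b i = s := by
    intro s
    rw [key (Algebra.trace A B) s, hu, mul_one]
  intro i l
  have h := congrArg (fun x => b.repr x i) (key2 (b l))
  simp only [map_sum, map_smul, Module.Basis.repr_self, Finsupp.coe_finset_sum, Finset.sum_apply,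
    Finsupp.smul_apply, Finsupp.single_apply, smul_eq_mul, mul_ite, mul_one, mul_zero] at h
  rw [Finset.sum_ite_eq' Finset.univ i] at h
  simp only [Finset.mem_univ, if_true] at h
  rw [h]
  simp [eq_comm]

variable {b}

lemma IsDualFamily.repr_eq {c : ι → B} (hc : IsDualFamily b c) (x : B) (i : ι) :
    b.repr x i = Algebra.trace A B (x * c i) := by
  conv_rhs => rw [← b.sum_repr x]
  rw [Finset.sum_mul, map_sum]
  simp only [smul_mul_assoc, map_smul, hc i, smul_eq_mul, mul_ite, mul_one, mul_zero]
  rw [Finset.sum_ite_eq Finset.univ i]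
  simp

lemma IsDualFamily.sum_trace_smul {c : ι → B} (hc : IsDualFamily b c) (x : B) :
    ∑ i, Algebra.trace A B (x * c i) • b i = x := by
  conv_rhs => rw [← b.sum_repr x]
  apply Finset.sum_congr rfl
  intro i _
  rw [hc.repr_eq]

lemma IsDualFamily.eq_zero_of_trace {c : ι → B} (hc : IsDualFamily b c) (z : B)
    (hz : ∀ y, Algebra.trace A B (z * y) = 0) : z = 0 := by
  rw [← hc.sum_trace_smul z]
  apply Finset.sum_eq_zero
  intro i _
  rw [hz, zero_smul]

lemma IsDualFamily.sum_trace_smul' {c : ι → B} (hc : IsDualFamily b c) (x : B) :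
    ∑ i, Algebra.trace A B (x * b i) • c i = x := by
  rw [← sub_eq_zero]
  apply hc.eq_zero_of_trace
  intro w
  rw [sub_mul, map_sub, sub_eq_zero]
  conv_lhs => rw [← b.sum_repr w]
  conv_rhs => rw [← b.sum_repr w]
  rw [Finset.mul_sum, Finset.mul_sum, map_sum, map_sum]
  apply Finset.sum_congr rfl
  intro l _
  rw [mul_smul_comm, mul_smul_comm, map_smul, map_smul]
  congr 1
  rw [Finset.sum_mul, map_sum]
  simp only [smul_mul_assoc, map_smul, smul_eq_mul]
  have : ∀ i, Algebra.trace A B (c i * b l) = if i = l then 1 else 0 := by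
    intro i
    rw [mul_comm]; exact hc i l
  simp only [this, mul_ite, mul_one, mul_zero]
  rw [Finset.sum_ite_eq' Finset.univ l]
  simp

lemma IsDualFamily.formallyUnramified {c : ι → B} (hc : IsDualFamily b c) :
    Algebra.FormallyUnramified A B := by
  have hft : Algebra.EssFiniteType A B := by
    have : Module.Finite A B := Module.Finite.of_basis b
    infer_instance
  rw [Algebra.FormallyUnramified.iff_exists_tensorProduct]
  refine ⟨∑ i, c i ⊗ₜ[A] b i, ?_, ?_⟩
  · intro s
    rw [sub_mul, sub_eq_zero, Finset.mul_sum, Finset.mul_sum]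
    simp only [Algebra.TensorProduct.tmul_mul_tmul, one_mul]
    -- RHS: Σ (s c_i) ⊗ b_i ; LHS: Σ c_i ⊗ s b_i
    calc ∑ i, c i ⊗ₜ[A] (s * b i)
        = ∑ j, c j ⊗ₜ[A] (∑ i, Algebra.trace A B (s * b j * c i) • b i) := by
          apply Finset.sum_congr rfl
          intro j _
          rw [hc.sum_trace_smul]
      _ = ∑ j, ∑ i, (Algebra.trace A B (s * b j * c i) • c j) ⊗ₜ[A] b i := by
          apply Finset.sum_congr rfl
          intro j _
          rw [TensorProduct.tmul_sum]
          apply Finset.sum_congr rfl
          intro i _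
          rw [TensorProduct.tmul_smul, TensorProduct.smul_tmul']
      _ = ∑ i, ∑ j, (Algebra.trace A B (s * b j * c i) • c j) ⊗ₜ[A] b i := Finset.sum_comm
      _ = ∑ i, (s * c i) ⊗ₜ[A] b i := by
          apply Finset.sum_congr rfl
          intro i _
          rw [← TensorProduct.sum_tmul]
          congr 1
          rw [← hc.sum_trace_smul' (s * c i)]
          apply Finset.sum_congr rfl
          intro j _
          congr 2
          ring
  · rw [map_sum]
    simp only [Algebra.TensorProduct.lmul'_apply_tmul]
    rw [← sub_eq_zero]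
    apply hc.eq_zero_of_trace
    intro x
    rw [sub_mul, map_sub, sub_eq_zero, one_mul, trace_eq_sum_coord b x, Finset.sum_mul, map_sum]
    apply Finset.sum_congr rfl
    intro i _
    have := hc.repr_eq (x * b i) i
    rw [Module.Basis.coord_apply, this]
    congr 1
    ring

lemma IsDualFamily.etale {c : ι → B} (hc : IsDualFamily b c) : Algebra.Etale A B := by
  have : Module.Finite A B := Module.Finite.of_basis b
  have : Module.Free A B := Module.Free.of_basis b
  have := hc.formallyUnramified
  have : Module.FinitePresentation A B := Module.finitePresentation_of_projective A B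
  exact Algebra.Etale.of_formallyUnramified_of_flat

variable (b) in
lemma etale_iff_exists_dualFamily : Algebra.Etale A B ↔ ∃ c : ι → B, IsDualFamily b c := by
  constructor
  · intro h
    exact exists_dualFamily_of_unramified b
  · rintro ⟨c, hc⟩
    exact hc.etale

variable (b) in
lemma exists_dualFamily_iff_isUnit_discr :
    (∃ c : ι → B, IsDualFamily b c) ↔ IsUnit (Algebra.discr A b) := by
  rw [Algebra.discr_def]
  constructor
  · rintro ⟨c, hc⟩
    apply Matrix.isUnit_det_of_right_inverse (B := (Matrix.of fun i m => b.repr (c i) m).transpose)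
    ext l i
    rw [Matrix.mul_apply, Matrix.one_apply]
    have h := hc i l
    conv_lhs at h => rw [← b.sum_repr (c i)]
    rw [Finset.mul_sum, map_sum] at h
    have h' : (if l = i then (1 : A) else 0) = if i = l then 1 else 0 := by
      by_cases hil : i = l
      · subst hil; simp
      · rw [if_neg hil, if_neg (Ne.symm hil)]
    rw [h', ← h]
    apply Finset.sum_congr rfl
    intro m _
    rw [Algebra.traceMatrix_apply, Algebra.traceForm_apply, Matrix.transpose_apply, Matrix.of_apply,
      mul_smul_comm, map_smul, smul_eq_mul, mul_comm]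
  · intro h
    have hinv := Matrix.mul_nonsing_inv (Algebra.traceMatrix A b) h
    refine ⟨fun i => ∑ m, (Algebra.traceMatrix A b)⁻¹ m i • b m, ?_⟩
    intro i l
    have h2 := congrFun (congrFun hinv l) i
    rw [Matrix.mul_apply, Matrix.one_apply] at h2
    have h' : (if l = i then (1 : A) else 0) = if i = l then 1 else 0 := by
      by_cases hil : i = l
      · subst hil; simp
      · rw [if_neg hil, if_neg (Ne.symm hil)]
    rw [h'] at h2
    rw [← h2]
    change Algebra.trace A B (b l * ∑ m, (Algebra.traceMatrix A b)⁻¹ m i • b m) = _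
    rw [Finset.mul_sum, map_sum]
    apply Finset.sum_congr rfl
    intro m _
    rw [Algebra.traceMatrix_apply, Algebra.traceForm_apply, mul_smul_comm, map_smul, smul_eq_mul, mul_comm]

variable (b) in
lemma exists_dualFamily_iff_bijective :
    (∃ c : ι → B, IsDualFamily b c) ↔ Function.Bijective (Algebra.traceForm A B) := by
  constructor
  · rintro ⟨c, hc⟩
    constructor
    · rw [injective_iff_map_eq_zero]
      intro z hz
      apply hc.eq_zero_of_trace
      intro y
      have := LinearMap.congr_fun hz y
      simpa [Algebra.traceForm_apply] using this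
    · intro φ
      refine ⟨∑ i, φ (b i) • c i, ?_⟩
      apply LinearMap.ext
      intro y
      rw [Algebra.traceForm_apply, Finset.sum_mul, map_sum]
      conv_rhs => rw [← b.sum_repr y, map_sum]
      apply Finset.sum_congr rfl
      intro i _
      rw [smul_mul_assoc, map_smul, map_smul, smul_eq_mul, smul_eq_mul, hc.repr_eq, mul_comm (c i) y,
        mul_comm]
  · intro h
    have hs := h.2
    choose c hc using fun i => hs (b.coord i)
    refine ⟨c, ?_⟩
    intro i l
    have := LinearMap.congr_fun (hc i) (b l)
    rw [Algebra.traceForm_apply] at this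
    rw [mul_comm, this, Module.Basis.coord_apply, Module.Basis.repr_self, Finsupp.single_apply]
    by_cases hil : i = l
    · subst hil; simp
    · rw [if_neg hil, if_neg (Ne.symm hil)]

lemma exists_trace_eq_one {c : ι → B} (hc : IsDualFamily b c) [Module.FaithfullyFlat A B] :
    ∃ z : B, Algebra.trace A B z = 1 := by
  -- the ideal generated by the coordinates of `1`
  set I : Ideal A := Ideal.span (Set.range fun i => b.repr (1 : B) i) with hIdef
  have h1 : (1 : B) ∈ I • (⊤ : Submodule A B) := by
    rw [← b.sum_repr (1 : B)]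
    apply Submodule.sum_mem
    intro i _
    apply Submodule.smul_mem_smul _ Submodule.mem_top
    exact Ideal.subset_span ⟨i, rfl⟩
  have hmul : ∀ (x : B) (z : B), z ∈ I • (⊤ : Submodule A B) → x * z ∈ I • (⊤ : Submodule A B) := by
    intro x z hz
    refine Submodule.smul_induction_on hz ?_ ?_
    · intro a ha y _
      rw [mul_smul_comm]
      exact Submodule.smul_mem_smul ha Submodule.mem_top
    · intro y z hy hz
      rw [mul_add]
      exact Submodule.add_mem _ hy hz
  have h2 : I • (⊤ : Submodule A B) = ⊤ := by
    rw [eq_top_iff]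
    intro x _
    have := hmul x 1 h1
    rwa [mul_one] at this
  have hI : I = ⊤ := ((Module.FaithfullyFlat.iff_flat_and_ideal_smul_eq_top A B).1 inferInstance).2 I h2
  have h3 : (1 : A) ∈ I := by rw [hI]; trivial
  rw [hIdef, Ideal.mem_span_range_iff_exists_fun] at h3
  obtain ⟨a, ha⟩ := h3
  refine ⟨∑ i, a i • c i, ?_⟩
  rw [map_sum, ← ha]
  apply Finset.sum_congr rfl
  intro i _
  rw [map_smul, smul_eq_mul, hc.repr_eq, one_mul]

end

end Groth.Agent.Helper1.TraceEtale
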