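import Mathlib
import Groth.Prelude.Def_Disc
import Groth.Agent.Helper1.TraceEtale

/-!
# The annihilator of the diagonal ideal and `Hom_B(ω, B)` for finite free algebras
-/

set_option autoImplicit false
universe u v w

namespace Groth.Agent.Helper1.NoetherDiff

open TensorProduct Groth.Agent.Helper1.TraceEtale

section
variable {A : Type u} {B : Type v} [CommRing A] [CommRing B] [Algebra A B]
variable {ι : Type w} [Fintype ι] [DecidableEq ι] (b : Module.Basis ι A B)

/-- `φ (s * ·)` -/
def shift (s : B) (φ : B →ₗ[A] A) : B →ₗ[A] A := φ ∘ₗ LinearMap.mulLeft A s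

@[simp] lemma shift_apply (s : B) (φ : B →ₗ[A] A) (x : B) : shift s φ x = φ (s * x) := rfl

lemma ev_mul_right (φ : B →ₗ[A] A) (s : B) (ξ : B ⊗[A] B) :
    ev φ (ξ * ((1 : B) ⊗ₜ[A] s)) = s * ev φ ξ := by
  induction ξ using TensorProduct.induction_on with
  | zero => simp
  | tmul x y =>
    simp only [Algebra.TensorProduct.tmul_mul_tmul, mul_one, ev_tmul, mul_smul_comm]
    rw [mul_comm]
  | add x y hx hy => rw [add_mul, map_add, map_add, hx, hy, mul_add]

lemma ev_mul_left (φ : B →ₗ[A] A) (s : B) (ξ : B ⊗[A] B) :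
    ev φ (ξ * (s ⊗ₜ[A] (1 : B))) = ev (shift s φ) ξ := by
  induction ξ using TensorProduct.induction_on with
  | zero => simp
  | tmul x y =>
    simp only [Algebra.TensorProduct.tmul_mul_tmul, mul_one, ev_tmul, shift_apply]
    rw [mul_comm]
  | add x y hx hy => rw [add_mul, map_add, map_add, hx, hy]

include b in
lemma eq_zero_of_ev (ξ : B ⊗[A] B) (h : ∀ φ : B →ₗ[A] A, ev φ ξ = 0) : ξ = 0 := by
  obtain ⟨c, rfl⟩ := exists_repr b ξ
  have hc : ∀ i, c i = 0 := by
    intro i
    apply b.ext_elem
    intro j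
    have := h (b.coord j)
    rw [map_sum] at this
    simp only [ev_tmul] at this
    have h2 := congrArg (fun x => b.repr x i) this
    simp only [map_sum, map_smul, Module.Basis.repr_self, Finsupp.coe_finset_sum, Finset.sum_apply,
      Finsupp.smul_apply, Finsupp.single_apply, smul_eq_mul, mul_ite, mul_one, mul_zero, map_zero,
      Finsupp.coe_zero, Pi.zero_apply] at h2
    rw [Finset.sum_ite_eq' Finset.univ i] at h2
    simpa using h2
  simp [hc]

/-- membership in the annihilator of the diagonal ideal -/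
lemma mem_annihilator_iff (ξ : B ⊗[A] B) :
    ξ ∈ Submodule.annihilator (RingHom.ker (Algebra.TensorProduct.lmul' (S := B) A)) ↔
      ∀ s : B, ξ * ((1 : B) ⊗ₜ[A] s) = ξ * (s ⊗ₜ[A] (1 : B)) := by
  have hI : RingHom.ker (Algebra.TensorProduct.lmul' (S := B) A) =
      Ideal.span (Set.range fun s : B => (1 : B) ⊗ₜ[A] s - s ⊗ₜ[A] (1 : B)) :=
    (KaehlerDifferential.span_range_eq_ideal A B).symm
  rw [hI]
  constructor
  · intro h s
    have := Submodule.mem_annihilator.1 h _ (Ideal.subset_span ⟨s, rfl⟩)
    rw [smul_eq_mul, mul_sub, sub_eq_zero] at this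
    exact this
  · intro h
    rw [Submodule.mem_annihilator]
    intro x hx
    refine Submodule.span_induction ?_ ?_ ?_ ?_ hx
    · rintro _ ⟨s, rfl⟩
      rw [smul_eq_mul, mul_sub, h s, sub_self]
    · simp
    · intro x y _ _ hx hy
      rw [smul_add, hx, hy, add_zero]
    · intro a x _ hx
      rw [smul_eq_mul] at hx ⊢
      rw [smul_eq_mul, mul_left_comm, hx, mul_zero]

include b in
lemma mem_annihilator_iff_ev (ξ : B ⊗[A] B) :
    ξ ∈ Submodule.annihilator (RingHom.ker (Algebra.TensorProduct.lmul' (S := B) A)) ↔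
      ∀ (s : B) (φ : B →ₗ[A] A), s * ev φ ξ = ev (shift s φ) ξ := by
  rw [mem_annihilator_iff]
  constructor
  · intro h s φ
    rw [← ev_mul_right, ← ev_mul_left, h s]
  · intro h s
    rw [← sub_eq_zero]
    apply eq_zero_of_ev b
    intro φ
    rw [map_sub, ev_mul_right, ev_mul_left, h s φ, sub_self]

include b in
/-- for `ξ` in the annihilator, pairing with the trace gives the product -/
lemma ev_trace (ξ : B ⊗[A] B)
    (hξ : ξ ∈ Submodule.annihilator (RingHom.ker (Algebra.TensorProduct.lmul' (S := B) A))) :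
    ev (Algebra.trace A B) ξ = Algebra.TensorProduct.lmul' (S := B) A ξ := by
  have key := (mem_annihilator_iff_ev b ξ).1 hξ
  obtain ⟨c, rfl⟩ := exists_repr b ξ
  rw [map_sum, map_sum]
  simp only [ev_tmul, Algebra.TensorProduct.lmul'_apply_tmul]
  have key' : ∀ (s : B) (φ : B →ₗ[A] A), s * ∑ i, φ (c i) • b i = ∑ i, φ (s * c i) • b i := by
    intro s φ
    have := key s φ
    rw [map_sum, map_sum] at this
    simpa using this
  calc ∑ i, Algebra.trace A B (c i) • b i
      = ∑ i, ∑ l, b.coord l (b l * c i) • b i := by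
        apply Finset.sum_congr rfl
        intro i _
        rw [trace_eq_sum_coord b, Finset.sum_smul]
        apply Finset.sum_congr rfl
        intro l _
        rw [mul_comm]
    _ = ∑ l, ∑ i, b.coord l (b l * c i) • b i := Finset.sum_comm
    _ = ∑ l, b l * ∑ i, b.coord l (c i) • b i := by
        apply Finset.sum_congr rfl
        intro l _
        exact (key' (b l) (b.coord l)).symm
    _ = ∑ l, ∑ i, (b.coord l (c i) • b l) * b i := by
        apply Finset.sum_congr rfl
        intro l _
        rw [Finset.mul_sum]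
        apply Finset.sum_congr rfl
        intro i _
        rw [mul_smul_comm, smul_mul_assoc]
    _ = ∑ i, ∑ l, (b.coord l (c i) • b l) * b i := Finset.sum_comm
    _ = ∑ i, c i * b i := by
        apply Finset.sum_congr rfl
        intro i _
        rw [← Finset.sum_mul]
        congr 1
        exact b.sum_repr (c i)

end

section omega
open Disc
variable {A : Type u} {B : Type v} [CommRing A] [CommRing B] [Algebra A B]
variable {ι : Type w} [Fintype ι] [DecidableEq ι] (b : Module.Basis ι A B)

lemma omega_smul_toLinearMap (s : B) (l : Omega A B) : (s • l).toLinearMap = shift s l.toLinearMap := rfl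

lemma lift_eq_ev (l : Omega A B) (ξ : B ⊗[A] B) :
    TensorProduct.lift ((LinearMap.lsmul A B).comp l.toLinearMap) ξ = ev l.toLinearMap ξ := by
  induction ξ using TensorProduct.induction_on with
  | zero => simp
  | tmul x y => simp
  | add x y hx hy => rw [map_add, map_add, hx, hy]

/-- the element of `B ⊗ B` attached to a `B`-linear map `ω → B` -/
noncomputable def xi (Φ : Omega A B →ₗ[B] B) : B ⊗[A] B :=
  ∑ i, b i ⊗ₜ[A] Φ ⟨b.coord i⟩

lemma omega_eq_sum (l : Omega A B) :
    l = ∑ i, (algebraMap A B (l.toLinearMap (b i))) • (⟨b.coord i⟩ : Omega A B) := by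
  apply Omega.toLinearMap_injective
  apply b.ext
  intro j
  have h1 : (∑ i, (algebraMap A B (l.toLinearMap (b i))) • (⟨b.coord i⟩ : Omega A B)).toLinearMap (b j) =
      ∑ i, ((algebraMap A B (l.toLinearMap (b i))) • (⟨b.coord i⟩ : Omega A B)).toLinearMap (b j) := by
    have : ∀ (s : Finset ι) (f : ι → Omega A B), (∑ i ∈ s, f i).toLinearMap = ∑ i ∈ s, (f i).toLinearMap := by
      intro s f
      induction s using Finset.induction_on with
      | empty => simp
      | insert a s ha ih => rw [Finset.sum_insert ha, Finset.sum_insert ha, Omega.add_toLinearMap, ih]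
    rw [this, LinearMap.sum_apply]
  rw [h1]
  simp only [Omega.smul_toLinearMap_apply, Module.Basis.coord_apply]
  have : ∀ i, b.repr (algebraMap A B (l.toLinearMap (b i)) * b j) i =
      if j = i then l.toLinearMap (b i) else 0 := by
    intro i
    rw [← Algebra.smul_def, map_smul, Module.Basis.repr_self, Finsupp.smul_apply, Finsupp.single_apply,
      smul_eq_mul, mul_ite, mul_one, mul_zero]
  simp only [this]
  rw [Finset.sum_ite_eq Finset.univ j]
  simp

lemma ev_xi (Φ : Omega A B →ₗ[B] B) (l : Omega A B) : ev l.toLinearMap (xi b Φ) = Φ l := by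
  unfold xi
  rw [map_sum]
  simp only [ev_tmul]
  conv_rhs => rw [omega_eq_sum b l, map_sum]
  apply Finset.sum_congr rfl
  intro i _
  rw [map_smul, smul_eq_mul, Algebra.smul_def]

lemma xi_mem (Φ : Omega A B →ₗ[B] B) :
    xi b Φ ∈ Submodule.annihilator (RingHom.ker (Algebra.TensorProduct.lmul' (S := B) A)) := by
  rw [mem_annihilator_iff_ev b]
  intro s φ
  have h1 := ev_xi b Φ ⟨φ⟩
  have h2 := ev_xi b Φ (s • (⟨φ⟩ : Omega A B))
  rw [omega_smul_toLinearMap] at h2
  rw [h1, h2, map_smul, smul_eq_mul]

end omega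

end Groth.Agent.Helper1.NoetherDiff
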