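import Mathlib

/-!
# Adjoints along an open immersion: `h^* F ⟶ G` is an isomorphism as soon as `F ⟶ h_* G` is
bijective on the sections over the opens inside the range of `h`
-/

set_option autoImplicit false
set_option linter.style.haveILetI false

namespace Groth.Agent.Helper1.OIAdj

open CategoryTheory AlgebraicGeometry TopologicalSpace Opposite

universe u

variable {X Y : Scheme.{u}} (h : X ⟶ Y) [IsOpenImmersion h] {F : Y.Modules} {G : X.Modules}
  (κ : F ⟶ (Scheme.Modules.pushforward h).obj G)

/-- the two adjoints differ by the canonical isomorphism `h^* ≅ restriction` -/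
lemma adjoint_eq :
    ((Scheme.Modules.pullbackPushforwardAdjunction h).homEquiv F G).symm κ =
      ((Scheme.Modules.pullbackPushforwardAdjunction h).leftAdjointUniq
        (Scheme.Modules.restrictAdjunction h)).hom.app F ≫
        ((Scheme.Modules.restrictAdjunction h).homEquiv F G).symm κ := by
  apply ((Scheme.Modules.pullbackPushforwardAdjunction h).homEquiv F G).injective
  rw [Equiv.apply_symm_apply, Adjunction.homEquiv_naturality_right,
    Adjunction.homEquiv_leftAdjointUniq_hom_app, ← Adjunction.homEquiv_unit,
    Equiv.apply_symm_apply]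

lemma res_bijective_of_eq (M : Y.Modules) {U V : Y.Opens} (hVU : V ≤ U) (hUV : U ≤ V) :
    Function.Bijective (M.presheaf.map (homOfLE hVU).op) := by
  obtain rfl : U = V := le_antisymm hUV hVU
  have : (homOfLE hVU).op = 𝟙 (op U) := rfl
  rw [this, M.presheaf.map_id]
  exact Function.bijective_id

/-- the adjoint for the restriction adjunction is bijective on sections -/
lemma restrictAdjoint_app_bijective
    (hκ : ∀ V : Y.Opens, V ≤ h.opensRange → Function.Bijective (κ.app V)) (U : X.Opens) :
    Function.Bijective ((((Scheme.Modules.restrictAdjunction h).homEquiv F G).symm κ).app U) := by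
  set θ := ((Scheme.Modules.restrictAdjunction h).homEquiv F G).symm κ with hθ
  have hκθ : κ = (Scheme.Modules.restrictAdjunction h).unit.app F ≫
      (Scheme.Modules.pushforward h).map θ := by
    have := (Scheme.Modules.restrictAdjunction h).homEquiv_unit F G θ
    rw [← this, hθ, Equiv.apply_symm_apply]
  have key : ∀ V : Y.Opens, V ≤ h.opensRange → Function.Bijective (θ.app (h ⁻¹ᵁ V)) := by
    intro V hV
    have h1 : ⇑(ConcreteCategory.hom (κ.app V)) =
        ⇑(ConcreteCategory.hom (θ.app (h ⁻¹ᵁ V))) ∘
          ⇑(ConcreteCategory.hom (((Scheme.Modules.restrictAdjunction h).unit.app F).app V)) := by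
      rw [hκθ]; rfl
    have h2 : Function.Bijective (((Scheme.Modules.restrictAdjunction h).unit.app F).app V) := by
      rw [Scheme.Modules.restrictAdjunction_unit_app_app]
      apply res_bijective_of_eq
      rw [h.image_preimage_eq_opensRange_inf]
      exact le_inf hV le_rfl
    have h3 := hκ V hV
    rw [h1] at h3
    exact (Function.Bijective.of_comp_iff _ h2).1 h3
  have := key (h ''ᵁ U) (by
    rintro _ ⟨x, -, rfl⟩
    exact ⟨x, rfl⟩)
  rwa [h.preimage_image_eq U] at this

/-- **the adjoint `h^* F ⟶ G` is an isomorphism** -/
theorem isIso_adjoint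
    (hκ : ∀ V : Y.Opens, V ≤ h.opensRange → Function.Bijective (κ.app V)) :
    IsIso (((Scheme.Modules.pullbackPushforwardAdjunction h).homEquiv F G).symm κ) := by
  rw [adjoint_eq]
  haveI : IsIso (((Scheme.Modules.restrictAdjunction h).homEquiv F G).symm κ) := by
    rw [Scheme.Modules.Hom.isIso_iff_isIso_app]
    intro U
    exact (ConcreteCategory.isIso_iff_bijective _).2 (restrictAdjoint_app_bijective h κ hκ U)
  infer_instance

end Groth.Agent.Helper1.OIAdj
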