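import Mathlib
import Groth.Agent.Helper1.Orth

set_option autoImplicit false
set_option linter.unusedSectionVars false

namespace Groth.Agent.Helper1.Orth
open CategoryTheory Limits Pretriangulated Triangulated

universe v u
variable {D : Type u} [Category.{v} D] [Preadditive D] [HasZeroObject D] [HasShift D ℤ]
  [∀ n : ℤ, (shiftFunctor D n).Additive] [Pretriangulated D]

lemma bijective_of_adjunction {C₁ C₂ : Type*} [Category C₁] [Category C₂] {L : C₁ ⥤ C₂}
    {R' : C₂ ⥤ C₁} (adj : L ⊣ R') (W : C₁) {A X : C₂} (f : A ⟶ X)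
    (h : Function.Bijective (fun x : L.obj W ⟶ A => x ≫ f)) :
    Function.Bijective (fun x : W ⟶ R'.obj A => x ≫ R'.map f) := by
  have key : (fun x : W ⟶ R'.obj A => x ≫ R'.map f) =
      (adj.homEquiv W X) ∘ (fun x : L.obj W ⟶ A => x ≫ f) ∘ (adj.homEquiv W A).symm := by
    ext x
    show x ≫ R'.map f = adj.homEquiv W X ((adj.homEquiv W A).symm x ≫ f)
    rw [Adjunction.homEquiv_naturality_right, Equiv.apply_symm_apply]
  rw [key]
  exact (adj.homEquiv W X).bijective.comp (h.comp (adj.homEquiv W A).symm.bijective)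

/-- `HomBij` for `f⟦1⟧'` follows from `HomBij` for `f` with the test object shifted by `-1`. -/
lemma homBij_shift_of_homBij (W : D) {A X : D} (f : A ⟶ X) (h : HomBij (W⟦(-1 : ℤ)⟧) f) :
    HomBij W (f⟦(1 : ℤ)⟧') :=
  bijective_of_adjunction (shiftEquiv D (1 : ℤ)).symm.toAdjunction W f h

variable (P : ObjectProperty D) [P.IsTriangulated]

theorem isLeftAdjoint_ι_iff :
    P.ι.IsLeftAdjoint ↔ ∀ X : D, Dec P X := by
  constructor
  · intro hadj X
    let R := P.ι.rightAdjoint
    let adj : P.ι ⊣ R := Adjunction.ofIsLeftAdjoint P.ι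
    obtain ⟨B, g, k, hT⟩ := distinguished_cocone_triangle (adj.counit.app X)
    refine ⟨_, B, adj.counit.app X, g, k, hT, (R.obj X).property, ?_⟩
    have h0 : ∀ W, P W → HomBij W (adj.counit.app X) := by
      intro W hW
      have hx : ∀ x : W ⟶ P.ι.obj (R.obj X), x ≫ adj.counit.app X =
          (adj.homEquiv ⟨W, hW⟩ X).symm
            (ObjectProperty.homMk x : (⟨W, hW⟩ : P.FullSubcategory) ⟶ R.obj X) := fun x => by
        rw [Adjunction.homEquiv_counit]; rfl
      constructor
      · intro x y hxy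
        have hxy' : x ≫ adj.counit.app X = y ≫ adj.counit.app X := hxy
        rw [hx, hx] at hxy'
        have := (adj.homEquiv ⟨W, hW⟩ X).symm.injective hxy'
        exact congrArg (fun z => P.ι.map z) this
      · intro y
        refine ⟨P.ι.map (adj.homEquiv ⟨W, hW⟩ X y), ?_⟩
        have := Adjunction.homEquiv_counit adj ⟨W, hW⟩ X (adj.homEquiv ⟨W, hW⟩ X y)
        exact this.symm.trans (Equiv.symm_apply_apply _ y)
    refine rightOrthogonal_of_homBij P _ hT h0 (fun W hW => ?_)
    exact homBij_shift_of_homBij W _ (h0 _ (P.le_shift (-1) _ hW))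
  · intro h
    choose A B f g k hT hA hB using h
    let G_obj : D → P.FullSubcategory := fun X => ⟨A X, hA X⟩
    have hbij : ∀ (W : P.FullSubcategory) (X : D),
        Function.Bijective (fun x : W ⟶ G_obj X => P.ι.map x ≫ f X) := by
      intro W X
      have h1 := homBij_of_rightOrthogonal P _ (hT X) (hB X) W.obj W.property
      have : (fun x : W ⟶ G_obj X => P.ι.map x ≫ f X) =
          (fun x : W.obj ⟶ A X => x ≫ f X) ∘ (fun x : W ⟶ G_obj X => P.ι.map x) := rfl
      rw [this]
      refine h1.comp ⟨fun x y hxy => P.ι.map_injective hxy, fun y => ⟨ObjectProperty.homMk y, rfl⟩⟩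
    let e : ∀ (W : P.FullSubcategory) (X : D), (P.ι.obj W ⟶ X) ≃ (W ⟶ G_obj X) :=
      fun W X => (Equiv.ofBijective _ (hbij W X)).symm
    have he : ∀ (W' W : P.FullSubcategory) (X : D) (u : W' ⟶ W) (y : P.ι.obj W ⟶ X),
        e W' X (P.ι.map u ≫ y) = u ≫ e W X y := by
      intro W' W X u y
      apply (e W' X).symm.injective
      rw [Equiv.symm_apply_apply]
      show P.ι.map u ≫ y = P.ι.map (u ≫ e W X y) ≫ f X
      rw [Functor.map_comp, Category.assoc]
      congr 1
      exact ((Equiv.ofBijective _ (hbij W X)).apply_symm_apply y).symm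
    exact (Adjunction.adjunctionOfEquivRight e he).isLeftAdjoint

end Groth.Agent.Helper1.Orth
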