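import Mathlib
import Groth.Agent.Helper1.PC1
import Groth.Agent.Helper1.LA2

/-!
# `A[z]_(f) ≅ A_(f)[T]` for `f` homogeneous of degree one, part 1: injectivity
-/

set_option autoImplicit false
set_option linter.style.haveILetI false

namespace Groth.Agent.Helper1.PA

open HomogeneousLocalization Polynomial Groth.Agent.Helper1.PC
open scoped DirectSum

universe u

noncomputable section

variable {A σ : Type u} [CommRing A] [SetLike σ A] [AddSubgroupClass σ A] {𝒜 : ℕ → σ}
  [GradedRing 𝒜]
variable {B τ : Type u} [CommRing B] [SetLike τ B] [AddSubgroupClass τ B] {ℬ : ℕ → τ}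
  [GradedRing ℬ]
variable (ι : 𝒜 →+*ᵍ ℬ) (z : B) (hz : z ∈ ℬ 1)
  (hbij : Function.Bijective (Polynomial.eval₂RingHom (ι : A →+* B) z)) {f : A} (hf : f ∈ 𝒜 1)

/-- `t = z / ι f` -/
def tElem : Away ℬ (ι f) :=
  Away.mk ℬ (ι.map_mem hf) 1 z (by rwa [smul_eq_mul, mul_one])

theorem val_tElem : (tElem ι z hz hf).val =
    Localization.mk z (⟨ι f ^ 1, 1, rfl⟩ : Submonoid.powers (ι f)) :=
  Away.val_mk _ _ _ _ _

/-- `ω : A[z] → A_f[X]` -/
def omega : B →+* Polynomial (Localization.Away f) :=
  (Polynomial.mapRingHom (algebraMap A (Localization.Away f))).comp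
    (polyEquiv ι z hbij).symm.toRingHom

theorem omega_ι (a : A) :
    omega ι z hbij (f := f) (ι a) = C (algebraMap A (Localization.Away f) a) := by
  have e : polyEquiv ι z hbij (Polynomial.C a) = ι a := by
    rw [polyEquiv_apply, Polynomial.eval₂_C]; rfl
  rw [omega, RingHom.comp_apply, ← e]
  simp

theorem omega_z : omega ι z hbij (f := f) z = X := by
  have e : polyEquiv ι z hbij Polynomial.X = z := by
    rw [polyEquiv_apply, Polynomial.eval₂_X]
  have h : omega ι z hbij (f := f) (polyEquiv ι z hbij Polynomial.X) = X := by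
    simp [omega]
  rwa [e] at h

theorem isUnit_omega : IsUnit (omega ι z hbij (f := f) (ι f)) := by
  rw [omega_ι]
  exact (IsLocalization.Away.algebraMap_isUnit (S := Localization.Away f) f).map C

/-- `Ω : A[z]_{ι f} → A_f[X]` -/
def Omega : Localization.Away (ι f) →+* Polynomial (Localization.Away f) :=
  IsLocalization.Away.lift (ι f) (isUnit_omega ι z hbij)

theorem Omega_mk (b : B) (n : ℕ) :
    Omega ι z hbij (f := f) (Localization.mk b (⟨ι f ^ n, n, rfl⟩ : Submonoid.powers (ι f))) *
      C (algebraMap A (Localization.Away f) f) ^ n = omega ι z hbij b := by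
  have e1 : Localization.mk b (⟨ι f ^ n, n, rfl⟩ : Submonoid.powers (ι f)) *
      algebraMap B (Localization.Away (ι f)) (ι f ^ n) =
      algebraMap B (Localization.Away (ι f)) b := by
    rw [Localization.mk_eq_mk']
    exact IsLocalization.mk'_spec (Localization.Away (ι f)) b
      (⟨ι f ^ n, n, rfl⟩ : Submonoid.powers (ι f))
  have e2 := congrArg (Omega ι z hbij (f := f)) e1
  rw [map_mul] at e2
  have e3 : ∀ y : B, Omega ι z hbij (f := f) (algebraMap B (Localization.Away (ι f)) y) =
      omega ι z hbij y := fun y => IsLocalization.Away.lift_eq _ _ _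
  rw [e3, e3, map_pow, omega_ι] at e2
  exact e2

/-- the inverse of `f / 1` in `A_f` -/
def vInv : Localization.Away f := ((LA.uU (f := f))⁻¹ : (Localization.Away f)ˣ)

theorem u_mul_vInv : algebraMap A (Localization.Away f) f * vInv (f := f) = 1 := by
  rw [← LA.uU_val]
  exact Units.mul_inv _

theorem eq_of_mul_pow {y w : Polynomial (Localization.Away f)} (n : ℕ)
    (h : y * C (algebraMap A (Localization.Away f) f) ^ n = w) :
    y = w * C (vInv (f := f)) ^ n := by
  rw [← h, mul_assoc, ← mul_pow, ← C_mul, u_mul_vInv, C_1, one_pow, mul_one]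

end

end Groth.Agent.Helper1.PA
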