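import Mathlib
import Groth.Agent.Helper1.PA1

/-!
# `A[z]_(f) ≅ A_(f)[T]` for `f` homogeneous of degree one, part 2: injectivity
-/

set_option autoImplicit false
set_option linter.style.haveILetI false

namespace Groth.Agent.Helper1.PA

open HomogeneousLocalization Polynomial Groth.Agent.Helper1.PC
open scoped DirectSum

universe u

noncomputable section

variable {A σ : Type u} [CommRing A] [SetLike σ A] [AddSubgroupClass σ A] {𝒜 : ℕ → σ}
  [GradedRing 𝒜]
variable {B τ : Type u} [CommRing B] [SetLike τ B] [AddSubgroupClass τ B] {ℬ : ℕ → τ}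
  [GradedRing ℬ]
variable (ι : 𝒜 →+*ᵍ ℬ) (z : B) (hz : z ∈ ℬ 1)
  (hbij : Function.Bijective (Polynomial.eval₂RingHom (ι : A →+* B) z)) {f : A} (hf : f ∈ 𝒜 1)

theorem mk_eq_mul_vInv (a : A) (n : ℕ) :
    Localization.mk a (⟨f ^ n, n, rfl⟩ : Submonoid.powers f) =
      algebraMap A (Localization.Away f) a * vInv (f := f) ^ n := by
  have e1 : Localization.mk a (⟨f ^ n, n, rfl⟩ : Submonoid.powers f) *
      algebraMap A (Localization.Away f) f ^ n = algebraMap A (Localization.Away f) a := by
    rw [Localization.mk_eq_mk', ← map_pow]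
    exact IsLocalization.mk'_spec (Localization.Away f) a (⟨f ^ n, n, rfl⟩ : Submonoid.powers f)
  rw [← e1, mul_assoc, ← mul_pow, u_mul_vInv, one_pow, mul_one]

/-- `Ψ' : A_(f)[X] → A[z]_(ι f)`, `X ↦ z / ι f`, as a ring homomorphism -/
def PsiP : Polynomial (Away 𝒜 f) →+* Away ℬ (ι f) :=
  Polynomial.eval₂RingHom (Away.map ι f) (tElem ι z hz hf)

theorem PsiP_C (q : Away 𝒜 f) : PsiP ι z hz hf (C q) = Away.map ι f q := by
  simp [PsiP]

theorem PsiP_X : PsiP ι z hz hf X = tElem ι z hz hf := by
  simp [PsiP]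

/-- the composite `A_(f)[X] → A[z]_(ι f) → A[z]_{ι f} → A_f[X]` -/
def Lam : Polynomial (Away 𝒜 f) →+* Polynomial (Localization.Away f) :=
  (Omega ι z hbij (f := f)).comp
    ((algebraMap (Away ℬ (ι f)) (Localization.Away (ι f))).comp (PsiP ι z hz hf))

include hf in
theorem Lam_eq : Lam ι z hz hbij hf =
    (Polynomial.compRingHom (C (vInv (f := f)) * X)).comp
      (Polynomial.mapRingHom (algebraMap (Away 𝒜 f) (Localization.Away f))) := by
  apply Polynomial.ringHom_ext
  · intro q
    obtain ⟨n, a, ha, rfl⟩ := Away.mk_surjective 𝒜 hf q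
    show Omega ι z hbij (f := f) (algebraMap (Away ℬ (ι f)) (Localization.Away (ι f))
      (PsiP ι z hz hf (C (Away.mk 𝒜 hf n a ha)))) =
      ((Polynomial.map (algebraMap (Away 𝒜 f) (Localization.Away f))
        (C (Away.mk 𝒜 hf n a ha))).comp (C (vInv (f := f)) * X))
    rw [PsiP_C, Away.map_mk, HomogeneousLocalization.algebraMap_apply, Away.val_mk,
      eq_of_mul_pow n (Omega_mk ι z hbij (ι a) n), omega_ι, Polynomial.map_C, Polynomial.C_comp,
      HomogeneousLocalization.algebraMap_apply, Away.val_mk, mk_eq_mul_vInv, C_mul, C_pow]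
  · show Omega ι z hbij (f := f) (algebraMap (Away ℬ (ι f)) (Localization.Away (ι f))
      (PsiP ι z hz hf X)) =
      ((Polynomial.map (algebraMap (Away 𝒜 f) (Localization.Away f)) X).comp
        (C (vInv (f := f)) * X))
    rw [PsiP_X, HomogeneousLocalization.algebraMap_apply, val_tElem,
      eq_of_mul_pow 1 (Omega_mk ι z hbij z 1), omega_z, Polynomial.map_X, Polynomial.X_comp,
      pow_one, mul_comm]

include hf hbij in
theorem PsiP_injective : Function.Injective (PsiP ι z hz hf) := by
  rw [injective_iff_map_eq_zero]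
  intro Q hQ
  have h1 : Lam ι z hz hbij hf Q = 0 := by
    show Omega ι z hbij (f := f) (algebraMap (Away ℬ (ι f)) (Localization.Away (ι f))
      (PsiP ι z hz hf Q)) = 0
    rw [hQ, map_zero, map_zero]
  rw [Lam_eq ι z hz hbij hf] at h1
  have h2 : (Polynomial.map (algebraMap (Away 𝒜 f) (Localization.Away f)) Q).comp
      (C (vInv (f := f)) * X) = 0 := h1
  apply Polynomial.ext
  intro n
  have h3 := congrArg (fun P : Polynomial (Localization.Away f) => P.coeff n) h2
  simp only [Polynomial.comp_C_mul_X_coeff, Polynomial.coeff_map, Polynomial.coeff_zero] at h3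
  have hu : IsUnit (vInv (f := f) ^ n) :=
    (Units.isUnit ((LA.uU (f := f))⁻¹)).pow n
  have h4 : algebraMap (Away 𝒜 f) (Localization.Away f) (Q.coeff n) = 0 :=
    (hu.mul_left_eq_zero).1 h3
  rw [Polynomial.coeff_zero]
  exact val_injective _ (h4.trans val_zero.symm)

end

end Groth.Agent.Helper1.PA
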