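import Mathlib
import Groth.Agent.Helper1.PA2

/-!
# `A[z]_(f) ≅ A_(f)[T]` for `f` homogeneous of degree one, part 3: surjectivity, the isomorphism
-/

set_option autoImplicit false
set_option linter.style.haveILetI false

namespace Groth.Agent.Helper1.PA

open HomogeneousLocalization Polynomial Groth.Agent.Helper1.PC
open scoped DirectSum

universe u

noncomputable section

variable {A σ : Type u} [CommRing A] [SetLike σ A] [AddSubgroupClass σ A] {𝒜 : ℕ → σ}
  [GradedRing 𝒜]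
variable {B τ : Type u} [CommRing B] [SetLike τ B] [AddSubgroupClass τ B] {ℬ : ℕ → τ}
  [GradedRing ℬ]
variable (ι : 𝒜 →+*ᵍ ℬ) (z : B) (hz : z ∈ ℬ 1)
  (hbij : Function.Bijective (Polynomial.eval₂RingHom (ι : A →+* B) z)) {f : A} (hf : f ∈ 𝒜 1)

theorem val_PsiP_term (k j : ℕ) (c : A) (hc : c ∈ 𝒜 k) :
    (PsiP ι z hz hf (C (LA.mk1 hf k c hc) * X ^ j)).val =
      Localization.mk (ι c * z ^ j) (⟨ι f ^ (k + j), k + j, rfl⟩ : Submonoid.powers (ι f)) := by
  rw [map_mul, map_pow, PsiP_C, PsiP_X, val_mul, val_pow, val_tElem]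
  unfold LA.mk1
  rw [Away.map_mk, Away.val_mk, Localization.mk_pow, Localization.mk_mul]
  congr 1
  apply Subtype.ext
  show ι f ^ k * (ι f ^ 1) ^ j = ι f ^ (k + j)
  rw [pow_one, pow_add]

include hbij in
theorem PsiP_surjective : Function.Surjective (PsiP ι z hz hf) := by
  intro x
  obtain ⟨n, b, hb, rfl⟩ := Away.mk_surjective ℬ (ι.map_mem hf) x
  obtain ⟨P, rfl⟩ := hbij.2 b
  have hb' : Polynomial.eval₂ (ι : A →+* B) z P ∈ ℬ n := by
    rw [smul_eq_mul, mul_one] at hb; exact hb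
  have hsum := eq_sum_of_mem ι z hz P hb'
  refine ⟨∑ j ∈ Finset.range (n + 1),
    C (LA.mk1 hf (n - j) (GradedRing.proj 𝒜 (n - j) (P.coeff j)) (SetLike.coe_mem _)) * X ^ j, ?_⟩
  apply val_injective
  rw [map_sum, Away.val_mk]
  have hval : ∀ (s : Finset ℕ) (g : ℕ → Away ℬ (ι f)), (∑ j ∈ s, g j).val = ∑ j ∈ s, (g j).val := by
    intro s g
    exact map_sum (algebraMap (Away ℬ (ι f)) (Localization.Away (ι f))) g s
  rw [hval]
  have hterm : ∀ j ∈ Finset.range (n + 1),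
      (PsiP ι z hz hf (C (LA.mk1 hf (n - j) (GradedRing.proj 𝒜 (n - j) (P.coeff j))
        (SetLike.coe_mem _)) * X ^ j)).val =
      Localization.mk (ι (GradedRing.proj 𝒜 (n - j) (P.coeff j)) * z ^ j)
        (⟨ι f ^ n, n, rfl⟩ : Submonoid.powers (ι f)) := by
    intro j hj
    rw [Finset.mem_range] at hj
    rw [val_PsiP_term]
    congr 1
    apply Subtype.ext
    show ι f ^ (n - j + j) = ι f ^ n
    rw [Nat.sub_add_cancel (by omega)]
  rw [Finset.sum_congr rfl hterm, ← Localization.mk_sum]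
  congr 1
  exact hsum.symm

/-- **`A[z]_(ι f) ≅ A_(f)[T]`** for `f` homogeneous of degree one -/
def polyAwayEquiv :
    letI := (Away.map ι f).toAlgebra
    Away ℬ (ι f) ≃ₐ[Away 𝒜 f] Polynomial (Away 𝒜 f) :=
  letI := (Away.map ι f).toAlgebra
  (AlgEquiv.ofBijective
    ({ PsiP ι z hz hf with commutes' := fun q => PsiP_C ι z hz hf q } :
      Polynomial (Away 𝒜 f) →ₐ[Away 𝒜 f] Away ℬ (ι f))
    ⟨PsiP_injective ι z hz hbij hf, PsiP_surjective ι z hz hbij hf⟩).symm

end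

end Groth.Agent.Helper1.PA
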