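import Mathlib
import Groth.Agent.Helper1.PBasis3

/-!
# p-bases: sections of infinitesimal extensions (case `B^p ⊆ A`)
-/

set_option autoImplicit false
universe u

namespace Groth.Agent.Helper1.PBasis

open EGA41

section sect
variable (p : ℕ) [hp : Fact p.Prime] {A B : Type u} [CommRing A] [CommRing B] [Algebra A B] [CharP B p]
variable (hinj : Function.Injective (algebraMap A B))
  (hpow : ∀ b : B, b ^ p ∈ Set.range (algebraMap A B))

include hpow in
omit hp [CharP B p] in
lemma mem_pPower_iff (c : B) : c ∈ pPowerSubalgebra p A B ↔ c ∈ Set.range (algebraMap A B) := by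
  constructor
  · intro hc
    unfold pPowerSubalgebra at hc
    induction hc using Algebra.adjoin_induction with
    | mem y hy =>
      obtain ⟨b, rfl⟩ := hy
      exact hpow b
    | algebraMap r => exact ⟨r, rfl⟩
    | add y z _ _ hy hz =>
      obtain ⟨a, rfl⟩ := hy
      obtain ⟨a', rfl⟩ := hz
      exact ⟨a + a', map_add _ _ _⟩
    | mul y z _ _ hy hz =>
      obtain ⟨a, rfl⟩ := hy
      obtain ⟨a', rfl⟩ := hz
      exact ⟨a * a', map_mul _ _ _⟩
  · rintro ⟨a, rfl⟩
    exact Subalgebra.algebraMap_mem _ a

include hinj hpow in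
omit hp [CharP B p] in
lemma bijective_algebraMap_pPower :
    Function.Bijective (algebraMap A (pPowerSubalgebra p A B)) := by
  constructor
  · intro a a' h
    apply hinj
    exact congrArg Subtype.val h
  · intro c
    obtain ⟨a, ha⟩ := (mem_pPower_iff p hpow c.1).1 c.2
    exact ⟨a, Subtype.ext ha⟩

/-- the ring isomorphism `A ≃ A[B^p]` -/
noncomputable def equivPPower : A ≃+* pPowerSubalgebra p A B :=
  RingEquiv.ofBijective (algebraMap A (pPowerSubalgebra p A B)) (bijective_algebraMap_pPower p hinj hpow)

omit hp [CharP B p] in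
lemma equivPPower_apply (a : A) : ((equivPPower p hinj hpow a : pPowerSubalgebra p A B) : B) = algebraMap A B a := rfl

omit hp [CharP B p] in
lemma algebraMap_equivPPower_symm (c : pPowerSubalgebra p A B) :
    algebraMap A B ((equivPPower p hinj hpow).symm c) = c := by
  have := equivPPower_apply p hinj hpow ((equivPPower p hinj hpow).symm c)
  rw [RingEquiv.apply_symm_apply] at this
  exact this.symm

variable {ι : Type u} (x : ι → B) (hx : IsPBasis p A x)
variable {E : Type u} [CommRing E] [Algebra A E]

/-- the condition on `p`-th powers -/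
def PowCond (q : E →ₐ[A] B) : Prop :=
  ∀ (z : E) (a : A), algebraMap A B a = q z ^ p → algebraMap A E a = z ^ p

/-- `E` as an algebra over `A[B^p]` -/
noncomputable def algPE : Algebra (pPowerSubalgebra p A B) E :=
  ((algebraMap A E).comp (equivPPower p hinj hpow).symm.toRingHom).toAlgebra

/-- an `A`-algebra map `B → E` is an `A[B^p]`-algebra map -/
noncomputable def toC (w : B →ₐ[A] E) :
    @AlgHom (pPowerSubalgebra p A B) B E _ _ _ _ (algPE p hinj hpow (E := E)) :=
  letI := algPE p hinj hpow (E := E)
  { toRingHom := w.toRingHom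
    commutes' := fun c => by
      change w (c : B) = algebraMap A E ((equivPPower p hinj hpow).symm c)
      rw [← algebraMap_equivPPower_symm p hinj hpow c, AlgHom.commutes] }

/-- an `A[B^p]`-algebra map `B → E` is an `A`-algebra map -/
noncomputable def ofC (v : @AlgHom (pPowerSubalgebra p A B) B E _ _ _ _ (algPE p hinj hpow (E := E))) :
    B →ₐ[A] E :=
  letI := algPE p hinj hpow (E := E)
  { toRingHom := v.toRingHom
    commutes' := fun a => by
      have h1 : algebraMap A B a = algebraMap (pPowerSubalgebra p A B) B (equivPPower p hinj hpow a) := by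
        rw [← equivPPower_apply p hinj hpow a]; rfl
      change v (algebraMap A B a) = algebraMap A E a
      rw [h1, AlgHom.commutes]
      change algebraMap A E ((equivPPower p hinj hpow).symm (equivPPower p hinj hpow a)) = _
      rw [RingEquiv.symm_apply_apply] }

include hx hinj hpow in
theorem exists_lift (q : E →ₐ[A] B) (hcond : PowCond p q) (z : ι → E) (hqz : ∀ i, q (z i) = x i) :
    ∃ v : B →ₐ[A] E, ∀ i, v (x i) = z i := by
  letI := algPE p hinj hpow (E := E)
  have hz : ∀ i, z i ^ p = algebraMap (pPowerSubalgebra p A B) E (cpow p A x i) := by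
    intro i
    change z i ^ p = algebraMap A E ((equivPPower p hinj hpow).symm (cpow p A x i))
    symm
    apply hcond
    rw [algebraMap_equivPPower_symm, hqz]
    rfl
  refine ⟨ofC p hinj hpow (liftAlg p A x hx z hz), ?_⟩
  intro i
  exact liftAlg_apply p A x hx z hz i

include hx hinj hpow in
omit hp [CharP B p] in
theorem lift_unique (v w : B →ₐ[A] E) (h : ∀ i, v (x i) = w (x i)) : v = w := by
  letI := algPE p hinj hpow (E := E)
  have := algHom_ext p A x hx.2 (toC p hinj hpow v) (toC p hinj hpow w) h
  apply AlgHom.ext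
  intro b
  exact AlgHom.congr_fun this b

include hx hinj hpow in
omit hp [CharP B p] in
theorem comp_eq_id (q : E →ₐ[A] B) (z : ι → E) (hqz : ∀ i, q (z i) = x i) (v : B →ₐ[A] E)
    (hv : ∀ i, v (x i) = z i) : q.comp v = AlgHom.id A B := by
  apply lift_unique (E := B) p hinj hpow x hx
  intro i
  rw [AlgHom.comp_apply, hv, hqz]
  rfl

include hinj in
theorem powCond_of_section (q : E →ₐ[A] B) (hK : RingHom.ker q.toRingHom ^ p = ⊥) (v : B →ₐ[A] E)
    (hv : q.comp v = AlgHom.id A B) : PowCond p q := by
  intro z a ha
  rcases subsingleton_or_nontrivial E with hE | hE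
  · exact Subsingleton.elim _ _
  have hpA : (p : A) = 0 := by
    apply hinj
    rw [map_natCast, map_zero, CharP.cast_eq_zero]
  have hpE : (p : E) = 0 := by
    have := congrArg (algebraMap A E) hpA
    rwa [map_natCast, map_zero] at this
  have : CharP E p := (CharP.charP_iff_prime_eq_zero hp.out).2 hpE
  have hmem : z - v (q z) ∈ RingHom.ker q.toRingHom := by
    rw [RingHom.mem_ker]
    change q (z - v (q z)) = 0
    rw [map_sub, sub_eq_zero]
    have := AlgHom.congr_fun hv (q z)
    exact this.symm
  have h0 : (z - v (q z)) ^ p = 0 := by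
    have := Ideal.pow_mem_pow hmem p
    rw [hK] at this
    exact this
  rw [sub_pow_char, sub_eq_zero] at h0
  rw [h0, ← map_pow, ← ha, AlgHom.commutes]

end sect

end Groth.Agent.Helper1.PBasis
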