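import Mathlib
import Groth.Agent.Helper1.PBasis4

/-!
# p-bases: extension of derivations via a twisted square-zero extension
-/

set_option autoImplicit false
universe u

namespace Groth.Agent.Helper1.PBasis

open EGA41

section tw
variable {A B : Type u} [CommRing A] [CommRing B] [Algebra A B]
variable {L : Type u} [AddCommGroup L] [Module B L] [Module A L] [IsScalarTower A B L]

/-- auxiliary right action on `L` -/
@[reducible] def opMod (B L : Type u) [CommRing B] [AddCommGroup L] [Module B L] : Module Bᵐᵒᵖ L :=
  Module.compHom L ((RingHom.id B).fromOpposite fun _ _ => mul_comm _ _)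

attribute [local instance] opMod

local instance isCentralOpMod : IsCentralScalar B L := ⟨fun _ _ => rfl⟩

/-- the square-zero extension `B ⊕ L`, as an `A`-algebra through `a ↦ (a, D a)` -/
def TwD (_D : Derivation ℤ A L) : Type u := TrivSqZeroExt B L

variable (D : Derivation ℤ A L)

noncomputable instance : CommRing (TwD (B := B) D) :=
  inferInstanceAs (CommRing (TrivSqZeroExt B L))

/-- first component -/
def TwD.fst (z : TwD (B := B) D) : B := TrivSqZeroExt.fst (show TrivSqZeroExt B L from z)
/-- second component -/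
def TwD.snd (z : TwD (B := B) D) : L := TrivSqZeroExt.snd (show TrivSqZeroExt B L from z)
/-- constructor -/
def TwD.mk (b : B) (l : L) : TwD (B := B) D := (TrivSqZeroExt.inl b + TrivSqZeroExt.inr l : TrivSqZeroExt B L)

variable {D}

@[ext] lemma TwD.ext {z w : TwD (B := B) D} (h1 : z.fst = w.fst) (h2 : z.snd = w.snd) : z = w :=
  TrivSqZeroExt.ext h1 h2

@[simp] lemma TwD.fst_mk (b : B) (l : L) : (TwD.mk D b l).fst = b := by
  simp [TwD.fst, TwD.mk]
@[simp] lemma TwD.snd_mk (b : B) (l : L) : (TwD.mk D b l).snd = l := by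
  simp [TwD.snd, TwD.mk]
@[simp] lemma TwD.fst_add (z w : TwD (B := B) D) : (z + w).fst = z.fst + w.fst := rfl
@[simp] lemma TwD.snd_add (z w : TwD (B := B) D) : (z + w).snd = z.snd + w.snd := rfl
@[simp] lemma TwD.fst_zero : (0 : TwD (B := B) D).fst = 0 := rfl
@[simp] lemma TwD.snd_zero : (0 : TwD (B := B) D).snd = 0 := rfl
@[simp] lemma TwD.fst_one : (1 : TwD (B := B) D).fst = 1 := rfl
@[simp] lemma TwD.snd_one : (1 : TwD (B := B) D).snd = 0 := rfl
@[simp] lemma TwD.fst_mul (z w : TwD (B := B) D) : (z * w).fst = z.fst * w.fst := rfl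
@[simp] lemma TwD.snd_mul (z w : TwD (B := B) D) : (z * w).snd = z.fst • w.snd + w.fst • z.snd := by
  change TrivSqZeroExt.snd ((show TrivSqZeroExt B L from z) * (show TrivSqZeroExt B L from w)) = _
  rw [TrivSqZeroExt.snd_mul]
  simp [TwD.fst, TwD.snd]
lemma TwD.fst_pow (z : TwD (B := B) D) (n : ℕ) : (z ^ n).fst = z.fst ^ n := rfl
lemma TwD.snd_pow (z : TwD (B := B) D) (n : ℕ) : (z ^ n).snd = n • z.fst ^ n.pred • z.snd :=
  TrivSqZeroExt.snd_pow (show TrivSqZeroExt B L from z) n

variable (D)

/-- the structure map `a ↦ (a, D a)` -/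
noncomputable def twHom : A →+* TwD (B := B) D where
  toFun a := TwD.mk D (algebraMap A B a) (D a)
  map_one' := by
    apply TwD.ext <;> simp
  map_mul' a b := by
    apply TwD.ext
    · simp
    · simp only [TwD.snd_mk, TwD.snd_mul, TwD.fst_mk, Derivation.leibniz, algebraMap_smul]
  map_zero' := by
    apply TwD.ext <;> simp
  map_add' a b := by
    apply TwD.ext <;> simp

noncomputable instance twDAlgebra : Algebra A (TwD (B := B) D) := (twHom D).toAlgebra

lemma TwD.algebraMap_apply (a : A) :
    algebraMap A (TwD (B := B) D) a = TwD.mk D (algebraMap A B a) (D a) := rfl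

/-- the projection to `B` -/
noncomputable def TwD.fstHom : TwD (B := B) D →ₐ[A] B where
  toFun := TwD.fst D
  map_one' := rfl
  map_mul' _ _ := rfl
  map_zero' := rfl
  map_add' _ _ := rfl
  commutes' a := by
    rw [TwD.algebraMap_apply, TwD.fst_mk]

lemma TwD.fstHom_apply (z : TwD (B := B) D) : TwD.fstHom D z = z.fst := rfl

lemma TwD.fstHom_surjective : Function.Surjective (TwD.fstHom (B := B) D) := fun b =>
  ⟨TwD.mk D b 0, by rw [TwD.fstHom_apply, TwD.fst_mk]⟩

lemma TwD.ker_pow (p : ℕ) (hp : 2 ≤ p) : RingHom.ker (TwD.fstHom (B := B) D).toRingHom ^ p = ⊥ := by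
  have h2 : RingHom.ker (TwD.fstHom (B := B) D).toRingHom ^ 2 = ⊥ := by
    rw [eq_bot_iff, pow_two, Ideal.mul_le]
    intro z hz w hw
    have hz' : z.fst = 0 := hz
    have hw' : w.fst = 0 := hw
    rw [Ideal.mem_bot]
    apply TwD.ext
    · simp [hz']
    · simp [hz', hw']
  rw [eq_bot_iff, ← h2]
  exact Ideal.pow_le_pow_right hp

/-- algebra sections of `fst` from derivations extending `D` -/
noncomputable def sectionOfDeriv (D' : Derivation ℤ B L) (h : ∀ a, D' (algebraMap A B a) = D a) :
    B →ₐ[A] TwD (B := B) D where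
  toFun b := TwD.mk D b (D' b)
  map_one' := by apply TwD.ext <;> simp
  map_mul' a b := by
    apply TwD.ext
    · simp
    · simp only [TwD.snd_mk, TwD.snd_mul, TwD.fst_mk, Derivation.leibniz]
  map_zero' := by apply TwD.ext <;> simp
  map_add' a b := by apply TwD.ext <;> simp
  commutes' a := by
    rw [TwD.algebraMap_apply, h]

/-- derivations extending `D` from algebra sections of `fst` -/
noncomputable def derivOfSection (v : B →ₐ[A] TwD (B := B) D) (hv : ∀ b, (v b).fst = b) :
    Derivation ℤ B L :=
  Derivation.mk'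
    { toFun := fun b => (v b).snd
      map_add' := fun a b => by rw [map_add, TwD.snd_add]
      map_smul' := fun n b => by
        induction n using Int.induction_on with
        | zero => simp
        | succ n ih =>
          rw [add_smul, one_smul, map_add, TwD.snd_add, ih]
          simp [add_smul]
        | pred n ih =>
          rw [sub_smul, one_smul, map_sub]
          have : ((v (-(n : ℤ) • b) - v b) : TwD (B := B) D).snd = (v (-(n : ℤ) • b)).snd - (v b).snd := rfl
          rw [this, ih]
          simp [sub_smul] }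
    (fun a b => by
      change (v (a * b)).snd = a • (v b).snd + b • (v a).snd
      rw [map_mul, TwD.snd_mul, hv, hv])

lemma derivOfSection_apply (v : B →ₐ[A] TwD (B := B) D) (hv : ∀ b, (v b).fst = b) (b : B) :
    derivOfSection D v hv b = (v b).snd := rfl

end tw

end Groth.Agent.Helper1.PBasis
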