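import Mathlib
import Groth.Agent.Helper1.PBasisField2
import Groth.Agent.Helper1.DescentDep

/-!
# Intersections of the fields `k_α(K^p)` and injectivity of `Ω_{K/k₀} → lim Ω_{K/k_α}`
-/

set_option autoImplicit false
universe u

namespace Groth.Agent.Helper1.PBasisField

open EGA41 Groth.Agent.Helper1.PBasis

section sets

variable (p : ℕ) [hp : Fact p.Prime] {k₀ K : Type u} [Field k₀] [Field K] [Algebra k₀ K]

/-- `k₀(K^p)` as an intermediate field -/
abbrev Pfield : IntermediateField k₀ K :=
  IntermediateField.adjoin k₀ (Set.range fun y : K => y ^ p)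

lemma mem_Pfield_iff (z : K) : z ∈ Pfield p (k₀ := k₀) (K := K) ↔ z ∈ pPowerSubalgebra p k₀ K := by
  have h : (Pfield p (k₀ := k₀) (K := K)).toSubalgebra = pPowerSubalgebra p k₀ K := by
    apply IntermediateField.adjoin_eq_algebra_adjoin
    intro x hx
    exact inv_mem p k₀ x hx
  rw [← h]
  rfl

lemma mem_sup_iff (k' : IntermediateField k₀ K) (z : K) :
    z ∈ pPowerSubalgebra p k' K ↔ z ∈ k' ⊔ Pfield p (k₀ := k₀) (K := K) := by
  constructor
  · intro hz
    unfold pPowerSubalgebra at hz
    induction hz using Algebra.adjoin_induction with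
    | mem y hy =>
      exact (le_sup_right : Pfield p ≤ k' ⊔ Pfield p) (IntermediateField.subset_adjoin _ _ hy)
    | algebraMap r => exact (le_sup_left : k' ≤ k' ⊔ Pfield p) r.2
    | add y z _ _ hy hz => exact add_mem hy hz
    | mul y z _ _ hy hz => exact mul_mem hy hz
  · intro hz
    let Ck : IntermediateField k₀ K :=
      Subalgebra.toIntermediateField ((pPowerSubalgebra p k' K).restrictScalars k₀)
        (fun x hx => inv_mem p k' x hx)
    have h1 : k' ≤ Ck := by
      intro x hx
      change x ∈ pPowerSubalgebra p k' K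
      have : x = algebraMap k' K ⟨x, hx⟩ := rfl
      rw [this]
      exact Subalgebra.algebraMap_mem _ _
    have h2 : Pfield p ≤ Ck := by
      rw [IntermediateField.adjoin_le_iff]
      rintro _ ⟨y, rfl⟩
      exact pow_mem p y
    exact (sup_le h1 h2) hz

end sets

section main

variable (p : ℕ) [hp : Fact p.Prime] {k₀ K : Type u} [Field k₀] [Field K] [Algebra k₀ K]
  [CharP K p] {ι : Type u} [Preorder ι] [IsDirected ι (· ≤ ·)] [Nonempty ι]
  (k : ι → IntermediateField k₀ K)

omit hp in
lemma finite_idx (J : Type*) [Finite J] : Finite {e : J →₀ ℕ // ∀ j, e j < p} :=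
  Finite.of_injective (fun e => (fun j => (⟨e.1 j, e.2 j⟩ : Fin p))) (by
    intro e e' h
    apply Subtype.ext
    ext j
    exact congrArg Fin.val (congrFun h j))

theorem iInf_eq_of_injective
    (hinj : ∀ ω : Ω[K⁄k₀], (∀ i, KaehlerDifferential.map k₀ (k i) K K ω = 0) → ω = 0) :
    (⨅ i, k i ⊔ Pfield p (k₀ := k₀) (K := K)) = Pfield p := by
  apply le_antisymm
  · intro z hz
    by_contra hzP
    have hzC : z ∉ pPowerSubalgebra p k₀ K := fun h => hzP ((mem_Pfield_iff p z).mpr h)
    have ha : z ∉ IntermediateField.adjoin (pPowerSubalgebra p k₀ K) (∅ : Set K) := by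
      intro hmem
      rw [mem_adjoin_iff, Algebra.adjoin_empty] at hmem
      obtain ⟨c, rfl⟩ := Algebra.mem_bot.mp hmem
      exact hzC c.2
    have hind : PInd p k₀ ({z} : Set K) := by
      have := pInd_insert p k₀ ∅ (pInd_empty p k₀) z ha
      rwa [insert_empty_eq] at this
    have h1 := linearIndependent_D_of_isPIndependent p k₀ (Subtype.val : ({z} : Set K) → K)
      ((isPIndependent_val_iff p k₀ {z}).mpr hind)
    have hDz : KaehlerDifferential.D k₀ K z ≠ 0 := h1.ne_zero ⟨z, rfl⟩
    apply hDz
    apply hinj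
    intro i
    rw [KaehlerDifferential.map_D]
    have hzi : z ∈ pPowerSubalgebra p (k i) K :=
      (mem_sup_iff p (k i) z).mpr ((iInf_le (fun i => k i ⊔ Pfield p) i) hz)
    exact derivation_eq_zero p (KaehlerDifferential.D (k i) K) z hzi
  · exact le_iInf fun i => le_sup_right

theorem injective_of_iInf_eq (hk : Antitone k)
    (h : (⨅ i, k i ⊔ Pfield p (k₀ := k₀) (K := K)) = Pfield p) (ω : Ω[K⁄k₀])
    (hω : ∀ i, KaehlerDifferential.map k₀ (k i) K K ω = 0) : ω = 0 := by
  classical
  by_contra hne
  obtain ⟨B, -, -, hB⟩ := exists_pBasis p k₀ (Set.univ : Set K) ∅ (Set.empty_subset _)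
    (isPGenerating_univ p k₀) ((isPIndependent_val_iff p k₀ (∅ : Set K)).mpr (pInd_empty p k₀))
  let bas := basisD p k₀ (Subtype.val : B → K) hB
  let J₀ := (bas.repr ω).support
  let x : ↥J₀ → K := fun j => ((j : ↥B) : K)
  have hxinj : Function.Injective x := fun a b h => Subtype.ext (Subtype.ext h)
  have hind₀ : IsPIndependent p k₀ x := by
    rw [isPIndependent_iff p k₀ x hxinj]
    have hB' := (isPIndependent_val_iff p k₀ B).mp hB.1
    refine PInd.mono p k₀ ?_ hB'
    rintro _ ⟨j, rfl⟩
    exact j.1.2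
  have hωsum : ω = ∑ b ∈ J₀, bas.repr ω b • bas b := by
    conv_lhs => rw [← bas.linearCombination_repr ω, Finsupp.linearCombination_apply]
    rfl
  have hdep : ∀ i, ¬ IsPIndependent p (k i) x := by
    intro i hind
    have hli := linearIndependent_D_of_isPIndependent p (k i) x hind
    rw [Fintype.linearIndependent_iff] at hli
    have hsum : ∑ j : ↥J₀, (bas.repr ω j.1) • KaehlerDifferential.D (k i) K (x j) = 0 := by
      have h1 := hω i
      rw [hωsum, map_sum] at h1
      rw [Finset.sum_coe_sort J₀ (fun b => bas.repr ω b • KaehlerDifferential.D (k i) K (b : K))]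
      rw [← h1]
      apply Finset.sum_congr rfl
      intro b _
      rw [map_smul, basisD_apply, KaehlerDifferential.map_D]
      rfl
    have hall := hli (fun j => bas.repr ω j.1) hsum
    have hJne : J₀.Nonempty := by
      rw [Finsupp.support_nonempty_iff]
      intro h0
      exact hne (by simpa using h0)
    obtain ⟨j, hj⟩ := hJne
    exact (Finsupp.mem_support_iff.mp hj) (hall ⟨j, hj⟩)
  -- the finite family of reduced monomials
  have : Finite {e : ↥J₀ →₀ ℕ // ∀ j, e j < p} := finite_idx p ↥J₀
  let _ : Fintype {e : ↥J₀ →₀ ℕ // ∀ j, e j < p} := Fintype.ofFinite _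
  let c : {e : ↥J₀ →₀ ℕ // ∀ j, e j < p} → K := fun e => pMonomial x e.1
  let F : ι → Subfield K := fun i => (k i ⊔ Pfield p (k₀ := k₀) (K := K)).toSubfield
  have hdir : ∀ a b : ι, ∃ d, F d ≤ F a ⊓ F b := by
    intro a b
    obtain ⟨d, hda, hdb⟩ := directed_of (· ≤ ·) a b
    refine ⟨d, le_inf ?_ ?_⟩
    · intro z hz
      exact (sup_le_sup_right (hk hda) _) hz
    · intro z hz
      exact (sup_le_sup_right (hk hdb) _) hz
  have hDep : ∀ i, DescentDep.Dep c (F i) Finset.univ := by
    intro i
    have h1 := hdep i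
    unfold IsPIndependent at h1
    rw [Fintype.not_linearIndependent_iff] at h1
    obtain ⟨g, hg0, e₀, he₀⟩ := h1
    refine ⟨fun e => (g e : K), fun e => (mem_sup_iff p (k i) _).mp (g e).2,
      fun e he => absurd (Finset.mem_univ e) he, ?_, ?_⟩
    · intro h0
      apply he₀
      exact Subtype.ext (congrFun h0 e₀)
    · rw [← hg0]
      rfl
  obtain ⟨a, ha1, -, ha3, ha4⟩ := DescentDep.dep_iInf c F hdir Finset.univ hDep
  have ha1' : ∀ e, a e ∈ pPowerSubalgebra p k₀ K := by
    intro e
    have h1 := ha1 e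
    have h2 : (⨅ i, F i) = (Pfield p (k₀ := k₀) (K := K)).toSubfield := by
      rw [← h, IntermediateField.iInf_toSubfield]
    rw [h2] at h1
    exact (mem_Pfield_iff p _).mp h1
  unfold IsPIndependent at hind₀
  rw [Fintype.linearIndependent_iff] at hind₀
  have hall := hind₀ (fun e => ⟨a e, ha1' e⟩) (by rw [← ha4]; rfl)
  apply ha3
  funext e
  exact congrArg Subtype.val (hall e)

end main

end Groth.Agent.Helper1.PBasisField
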