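import Mathlib
import Groth.Agent.Helper1.RP20

/-!
# Relative Proj toolkit, part 21: target-local properties of `Proj(ψ)` on `G(ψ)` (ring level)
-/

set_option autoImplicit false
set_option linter.style.haveILetI false

namespace Groth.Agent.Helper1.RP

open CategoryTheory Limits AlgebraicGeometry TopologicalSpace Opposite
  HomogeneousLocalization
open scoped HomogeneousIdeal

universe u

variable {A σ B τ : Type u} [CommRing A] [SetLike σ A] [AddSubgroupClass σ A]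
  [CommRing B] [SetLike τ B] [AddSubgroupClass τ B]
  {𝒜 : ℕ → σ} {ℬ : ℕ → τ} [GradedRing 𝒜] [GradedRing ℬ] (ψ : 𝒜 →+*ᵍ ℬ)
  (D : (Proj ℬ).Opens)
  (hD : ∀ x : Proj ℬ, x ∈ D ↔
    ∃ (d : ℕ) (_ : 0 < d) (f : A) (_ : f ∈ 𝒜 d), x ∈ Proj.basicOpen ℬ (ψ f))
  (p : (D : Scheme.{u}) ⟶ Proj 𝒜)
  (hp : ∀ (d : ℕ) (hd : 0 < d) (f : A) (hf : f ∈ 𝒜 d),
      chartD ψ D hD hd hf ≫ p = rhsD ψ hd hf)

include hD in
theorem exists_chartD (x : (D : Scheme.{u})) :
    ∃ (d : ℕ) (hd : 0 < d) (f : A) (hf : f ∈ 𝒜 d) (y : Spec (CommRingCat.of (Away ℬ (ψ f)))),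
      (chartD ψ D hD hd hf) y = x := by
  obtain ⟨d, hd, f, hf, hxf⟩ := (hD (D.ι x)).1 x.2
  rw [← Proj.opensRange_awayι ℬ (ψ f) (ψ.map_mem hf) hd] at hxf
  obtain ⟨y, hy⟩ := hxf
  refine ⟨d, hd, f, hf, y, ?_⟩
  apply D.ι.injective
  rw [← Scheme.Hom.comp_apply, chartD_ι]
  exact hy

include hp in
theorem projOn_preimage {d : ℕ} (hd : 0 < d) {f : A} (hf : f ∈ 𝒜 d) :
    p ⁻¹ᵁ (Proj.awayι 𝒜 f hf hd).opensRange = (chartD ψ D hD hd hf).opensRange := by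
  ext x
  constructor
  · intro hx
    have hx' : p x ∈ Proj.basicOpen 𝒜 f := by
      rw [← Proj.opensRange_awayι 𝒜 f hf hd]; exact hx
    obtain ⟨d', hd', f', hf', y, rfl⟩ := exists_chartD ψ D hD x
    have h2 : p ((chartD ψ D hD hd' hf') y) = (Proj.awayι 𝒜 f' hf' hd')
        ((Spec.map (CommRingCat.ofHom (Away.map ψ f'))) y) :=
      congrArg (fun t : _ ⟶ Proj 𝒜 => t y) (hp d' hd' f' hf')
    rw [h2, awayι_map_mem_basicOpen_iff ψ hd' hd hf' hf y] at hx'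
    have h5 : (Proj.awayι ℬ (ψ f') (ψ.map_mem hf') hd') y ∈
        (Proj.awayι ℬ (ψ f) (ψ.map_mem hf) hd).opensRange := by
      rw [Proj.opensRange_awayι]; exact hx'
    obtain ⟨y', hy'⟩ := h5
    refine ⟨y', ?_⟩
    apply D.ι.injective
    rw [← Scheme.Hom.comp_apply, ← Scheme.Hom.comp_apply, chartD_ι, chartD_ι]
    exact hy'
  · rintro ⟨y, rfl⟩
    refine ⟨(Spec.map (CommRingCat.ofHom (Away.map ψ f))) y, ?_⟩
    exact (congrArg (fun t : _ ⟶ Proj 𝒜 => t y) (hp d hd f hf)).symm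

include hp in
/-- target-local properties of `Proj(ψ) : G(ψ) → Proj 𝒜` can be checked on the maps
`𝒜_(f) → ℬ_(ψ f)`. -/
theorem projOn_of_away (Q : MorphismProperty Scheme.{u}) [IsZariskiLocalAtTarget Q]
    (hQ : ∀ (d : ℕ) (_ : 0 < d) (f : A) (_ : f ∈ 𝒜 d),
      Q (Spec.map (CommRingCat.ofHom (Away.map ψ f)))) : Q p := by
  have key : ∀ x : Proj 𝒜, ∃ (V : Scheme.{u}) (j : V ⟶ Proj 𝒜) (_ : IsOpenImmersion j),
      x ∈ Set.range j ∧ Q (pullback.snd p j) := by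
    intro x
    obtain ⟨d, hd, f, hf, hxf⟩ := exists_homog_notMem x
    have hxf' : x ∈ Proj.basicOpen 𝒜 f := hxf
    rw [← Proj.opensRange_awayι 𝒜 f hf hd] at hxf'
    refine ⟨_, Proj.awayι 𝒜 f hf hd, inferInstance, hxf', ?_⟩
    have sq : IsPullback (Spec.map (CommRingCat.ofHom (Away.map ψ f)))
        (chartD ψ D hD hd hf) (Proj.awayι 𝒜 f hf hd) p :=
      IsOpenImmersion.isPullback _ _ _ _ (hp d hd f hf) (projOn_preimage ψ D hD p hp hd hf)
    have h1 := hQ d hd f hf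
    have h2 : sq.flip.isoPullback.hom ≫ pullback.snd _ _ =
        Spec.map (CommRingCat.ofHom (Away.map ψ f)) := sq.flip.isoPullback_hom_snd
    rw [← h2] at h1
    exact (MorphismProperty.cancel_left_of_respectsIso Q _ _).1 h1
  choose V j hj hx hQ' using key
  let 𝒰 : (Proj 𝒜).OpenCover := Scheme.Cover.mkOfCovers _ V j (fun x => ⟨x, hx x⟩) hj
  exact IsZariskiLocalAtTarget.of_openCover (P := Q) 𝒰 hQ'

end Groth.Agent.Helper1.RP
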