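import Mathlib
import Groth.Prelude.Def_PCone
import Groth.Agent.Helper1.RP21
import Groth.Agent.Helper1.AFC4
import Groth.Agent.Helper1.FB3
import Groth.Agent.Helper1.PA3

/-!
# The retraction of the pointed projective cone over an affine base: finite type, fibres `≅ 𝔸¹`
-/

set_option autoImplicit false
set_option linter.style.haveILetI false

namespace Groth.Agent.Helper1.PCF

open CategoryTheory Limits AlgebraicGeometry TopologicalSpace Opposite
  HomogeneousLocalization Groth.Agent.Helper1.RP Groth.Agent.Helper1.PR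
open scoped HomogeneousIdeal

universe u

noncomputable section

variable {R A B : Type u} [CommRing R] [CommRing A] [Algebra R A] {𝒜 : ℕ → Submodule R A}
  [GradedAlgebra 𝒜] [CommRing B] [Algebra R B] {ℬ : ℕ → Submodule R B} [GradedAlgebra ℬ]
  (φ : 𝒜 →+*ᵍ ℬ)

theorem mem_dom_iff (y : Proj ℬ) : y ∈ PCone.dom φ ↔
    ∃ (d : ℕ) (_ : 0 < d) (f : A) (_ : f ∈ 𝒜 d), y ∈ Proj.basicOpen ℬ (φ f) := by
  unfold PCone.dom
  rw [TopologicalSpace.Opens.mem_iSup]
  constructor
  · rintro ⟨⟨f, d, hd, hf⟩, hy⟩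
    exact ⟨d, hd, f, hf, hy⟩
  · rintro ⟨d, hd, f, hf, hy⟩
    exact ⟨⟨f, d, hd, hf⟩, hy⟩

variable (z : B) (hz : z ∈ ℬ 1)
  (hbij : Function.Bijective (Polynomial.eval₂RingHom (φ : A →+* B) z))
  (hgen : (HomogeneousIdeal.irrelevant 𝒜).toIdeal = Ideal.span (𝒜 1 : Set A))
  (p : (PCone.dom φ : Scheme.{u}) ⟶ Proj 𝒜)
  (hp : ∀ (d : ℕ) (f : A) (hd : 0 < d) (hf : f ∈ 𝒜 d),
    PCone.chart φ hf hd ≫ p =
      Spec.map (CommRingCat.ofHom (HomogeneousLocalization.Away.map φ f)) ≫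
        Proj.awayι 𝒜 f hf hd)

include hp in
theorem hp' : ∀ (d : ℕ) (hd : 0 < d) (f : A) (hf : f ∈ 𝒜 d),
    chartD φ (PCone.dom φ) (mem_dom_iff φ) hd hf ≫ p = rhsD φ hd hf :=
  fun d hd f hf => hp d f hd hf

include hp in
theorem p_isAffineHom : IsAffineHom p :=
  projOn_of_away φ (PCone.dom φ) (mem_dom_iff φ) p (hp' φ p hp) @IsAffineHom
    (fun _ _ _ _ => inferInstance)

include hz hbij in
theorem finiteType_awayMap {f : A} (hf : f ∈ 𝒜 1) : (Away.map φ f).FiniteType := by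
  letI := (Away.map φ f).toAlgebra
  have h1 : Algebra.FiniteType (Away 𝒜 f) (Polynomial (Away 𝒜 f)) := inferInstance
  exact h1.equiv (PA.polyAwayEquiv φ z hz hbij hf).symm

include hgen in
theorem exists_degOne_chart (y : (PCone.dom φ : Scheme.{u})) :
    ∃ (f : A) (hf : f ∈ 𝒜 1) (w : Spec (CommRingCat.of (Away ℬ (φ f)))),
      (chartD φ (PCone.dom φ) (mem_dom_iff φ) one_pos hf) w = y := by
  obtain ⟨d, hd, g, hg, hyg⟩ := (mem_dom_iff φ ((PCone.dom φ).ι y)).1 y.2
  let y' : ProjectiveSpectrum ℬ := (PCone.dom φ).ι y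
  have hI : ¬ (HomogeneousIdeal.irrelevant 𝒜).toIdeal ≤
      Ideal.comap (φ : A →+* B) y'.asHomogeneousIdeal.toIdeal := by
    intro hle
    exact hyg (hle (HomogeneousIdeal.mem_irrelevant_of_mem _ hd hg))
  obtain ⟨f, hf, hfy⟩ := AFC.exists_degOne_notMem hgen _ hI
  have hyf : (PCone.dom φ).ι y ∈ Proj.basicOpen ℬ (φ f) := hfy
  rw [← Proj.opensRange_awayι ℬ (φ f) (φ.map_mem hf) one_pos] at hyf
  obtain ⟨w, hw⟩ := hyf
  refine ⟨f, hf, w, ?_⟩
  apply (PCone.dom φ).ι.injective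
  rw [← Scheme.Hom.comp_apply, chartD_ι]
  exact hw

include hz hbij hgen hp in
theorem p_locallyOfFiniteType : LocallyOfFiniteType p := by
  apply AFC.of_charts @LocallyOfFiniteType
  intro y
  obtain ⟨f, hf, w, hw⟩ := exists_degOne_chart φ hgen y
  refine ⟨_, chartD φ (PCone.dom φ) (mem_dom_iff φ) one_pos hf, inferInstance, ⟨w, hw⟩, ?_⟩
  rw [hp' φ p hp 1 one_pos f hf]
  unfold rhsD
  have : LocallyOfFiniteType (Spec.map (CommRingCat.ofHom (Away.map φ f))) := by
    rw [HasRingHomProperty.Spec_iff (P := @LocallyOfFiniteType)]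
    exact finiteType_awayMap φ z hz hbij hf
  infer_instance

include hz hbij hgen hp in
/-- **the fibres of the retraction of the pointed projective cone are affine lines** -/
theorem p_fibre (x : Proj 𝒜) :
    ∃ e : pullback p ((Proj 𝒜).fromSpecResidueField x) ≅
        Spec (CommRingCat.of (Polynomial ((Proj 𝒜).residueField x))),
      e.hom ≫ Spec.map (CommRingCat.ofHom (algebraMap ((Proj 𝒜).residueField x)
        (Polynomial ((Proj 𝒜).residueField x)))) =
          pullback.snd p ((Proj 𝒜).fromSpecResidueField x) := by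
  let y : ProjectiveSpectrum 𝒜 := x
  obtain ⟨f, hf, hfx⟩ := AFC.exists_degOne_notMem hgen y.asHomogeneousIdeal.toIdeal
    y.not_irrelevant_le
  have hx : x ∈ (Proj.awayι 𝒜 f hf one_pos).opensRange := by
    rw [Proj.opensRange_awayι, Proj.mem_basicOpen]
    exact hfx
  letI := (Away.map φ f).toAlgebra
  exact FB.exists_fibre_iso_polynomial p x (Proj.awayι 𝒜 f hf one_pos)
    (chartD φ (PCone.dom φ) (mem_dom_iff φ) one_pos hf) (hp' φ p hp 1 one_pos f hf)
    (projOn_preimage φ (PCone.dom φ) (mem_dom_iff φ) p (hp' φ p hp) one_pos hf) hx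
    (PA.polyAwayEquiv φ z hz hbij hf)

end

end Groth.Agent.Helper1.PCF
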