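import Groth.Agent.Helper6.PushEdge1

set_option autoImplicit false
set_option linter.style.haveILetI false
set_option linter.unusedSectionVars false
set_option linter.unusedVariables false

/-!
# The pullback on cohomology of abelian sheaves is compatible with composition
-/

namespace Groth.Agent.Helper1.PC

open CategoryTheory Limits Abelian Opposite TopologicalSpace
open Groth.Agent.Helper6.PushEdge1

universe u

section Unique

variable {Z : TopCat.{u}}

/-- uniqueness of families of maps out of the cohomology of abelian sheaves compatible with the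
connecting homomorphisms -/
theorem delta_unique_ab (G : ℕ → CohTop.Ab Z → Type u)
    (T₁ T₂ : ∀ (p : ℕ) (M : CohTop.Ab Z), Sheaf.H M p → G p M)
    (h0 : ∀ M x, T₁ 0 M x = T₂ 0 M x)
    (hδ : ∀ (S : ShortComplex (CohTop.Ab Z)) (hS : S.ShortExact) (p : ℕ),
      ∃ d : G p S.X₃ → G (p + 1) S.X₁, ∀ z : Sheaf.H S.X₃ p,
        T₁ (p + 1) S.X₁ (z.comp hS.extClass rfl) = d (T₁ p S.X₃ z) ∧
        T₂ (p + 1) S.X₁ (z.comp hS.extClass rfl) = d (T₂ p S.X₃ z)) :
    ∀ p M x, T₁ p M x = T₂ p M x := by
  intro p
  induction p with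
  | zero => exact h0
  | succ p ih =>
    intro M x
    let S : ShortComplex (CohTop.Ab Z) :=
      ShortComplex.mk (Injective.ι M) (cokernel.π (Injective.ι M)) (cokernel.condition _)
    have hS : S.ShortExact :=
      { exact := ShortComplex.exact_cokernel _
        mono_f := by dsimp [S]; infer_instance
        epi_g := by dsimp [S]; infer_instance }
    haveI hI : Injective S.X₂ := by dsimp [S]; infer_instance
    have hx : x.comp (Ext.mk₀ S.f) (add_zero (p + 1)) = 0 := Ext.eq_zero_of_injective _
    obtain ⟨z, hz⟩ := Ext.covariant_sequence_exact₁ _ hS x hx rfl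
    obtain ⟨d, hd⟩ := hδ S hS p
    subst hz
    exact ((hd z).1.trans (congrArg d (ih S.X₃ z))).trans (hd z).2.symm

end Unique

variable {X Y Z : TopCat.{u}} (f : X ⟶ Y) (g : Y ⟶ Z)

/-- the composite adjunction `f⁻¹ g⁻¹ ⊣ (g f)_*` -/
noncomputable def adjComp : CohPull.inv g ⋙ CohPull.inv f ⊣ CohTop.push (f ≫ g) :=
  (CohPull.invPushAdj g).comp (CohPull.invPushAdj f)

/-- the inverse image of a composition -/
noncomputable def invComp : CohPull.inv (f ≫ g) ≅ CohPull.inv g ⋙ CohPull.inv f :=
  (CohPull.invPushAdj (f ≫ g)).leftAdjointUniq (adjComp f g)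

lemma unit_invComp (M : CohTop.Ab Z) :
    (CohPull.invPushAdj (f ≫ g)).unit.app M ≫
        (CohTop.push (f ≫ g)).map ((invComp f g).hom.app M) =
      (CohPull.invPushAdj g).unit.app M ≫
        (CohTop.push g).map ((CohPull.invPushAdj f).unit.app ((CohPull.inv g).obj M)) := by
  have h1 := Adjunction.unit_leftAdjointUniq_hom_app (CohPull.invPushAdj (f ≫ g)) (adjComp f g) M
  exact h1.trans (Adjunction.comp_unit_app _ _ _)

lemma invComp_natural {M N : CohTop.Ab Z} (φ : M ⟶ N) :
    (CohPull.inv (f ≫ g)).map φ ≫ (invComp f g).hom.app N =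
      (invComp f g).hom.app M ≫ (CohPull.inv f).map ((CohPull.inv g).map φ) :=
  (invComp f g).hom.naturality φ

/-- **composition**: the pullback of classes along a composite is the composite of the
pullbacks -/
theorem pullAb_comp (p : ℕ) : ∀ (M : CohTop.Ab Z) (x : Sheaf.H M p),
    Sheaf.H.map ((invComp f g).hom.app M) p (CohPull.pullAb (f ≫ g) M p x) =
      CohPull.pullAb f ((CohPull.inv g).obj M) p (CohPull.pullAb g M p x) := by
  refine delta_unique_ab (fun p M => Sheaf.H ((CohPull.inv f).obj ((CohPull.inv g).obj M)) p)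
    (fun p M x => Sheaf.H.map ((invComp f g).hom.app M) p (CohPull.pullAb (f ≫ g) M p x))
    (fun p M x => CohPull.pullAb f ((CohPull.inv g).obj M) p (CohPull.pullAb g M p x)) ?_ ?_ p
  · intro M x
    apply (Sheaf.H.equiv₀ ((CohPull.inv f).obj ((CohPull.inv g).obj M)) isTerminalTop).injective
    show Sheaf.H.equiv₀ _ isTerminalTop
        (Sheaf.H.map ((invComp f g).hom.app M) 0 (CohPull.pullAb (f ≫ g) M 0 x)) =
      Sheaf.H.equiv₀ _ isTerminalTop
        (CohPull.pullAb f ((CohPull.inv g).obj M) 0 (CohPull.pullAb g M 0 x))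
    rw [← Sheaf.H.equiv₀_naturality, CohPull.equiv₀_pullAb, CohPull.equiv₀_pullAb,
      CohPull.equiv₀_pullAb]
    have h := congrArg (fun t => t.hom.app (op ⊤) (Sheaf.H.equiv₀ M isTerminalTop x))
      (unit_invComp f g M)
    simp only [ObjectProperty.FullSubcategory.comp_hom, NatTrans.comp_app,
      ConcreteCategory.comp_apply] at h
    exact h
  · intro S hS p
    have hS' := hS.map_of_exact (CohPull.inv g)
    have hS'' := hS'.map_of_exact (CohPull.inv f)
    refine ⟨fun y => y.comp hS''.extClass rfl, fun z => ⟨?_, ?_⟩⟩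
    · have h1 := pullAb_δ (f ≫ g) hS p z
      let φ : S.map (CohPull.inv (f ≫ g)) ⟶ (S.map (CohPull.inv g)).map (CohPull.inv f) :=
        { τ₁ := (invComp f g).hom.app S.X₁
          τ₂ := (invComp f g).hom.app S.X₂
          τ₃ := (invComp f g).hom.app S.X₃
          comm₁₂ := (invComp_natural f g S.f).symm
          comm₂₃ := (invComp_natural f g S.g).symm }
      have h2 := map_δ (hS.map_of_exact (CohPull.inv (f ≫ g))) hS'' φ p
        (CohPull.pullAb (f ≫ g) S.X₃ p z)
      exact (congrArg (fun y => Sheaf.H.map ((invComp f g).hom.app S.X₁) (p + 1) y) h1).trans h2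
    · have h1 := pullAb_δ g hS p z
      have h2 := pullAb_δ f hS' p (CohPull.pullAb g S.X₃ p z)
      exact (congrArg (fun y => CohPull.pullAb f ((CohPull.inv g).obj S.X₁) (p + 1) y) h1).trans h2

end Groth.Agent.Helper1.PC
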