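import Groth.Agent.Helper1.PCH1
import Groth.Agent.Helper6.ResLE1b

set_option autoImplicit false
set_option linter.style.haveILetI false
set_option linter.unusedSectionVars false
set_option linter.unusedVariables false

/-!
# The pullback on cohomology of O-modules is compatible with composition
-/

namespace Groth.Agent.Helper1.PC

open CategoryTheory Opposite TopologicalSpace AlgebraicGeometry
  AlgebraicGeometry.Scheme.Modules
open Groth.Agent.Helper6.PushEdge1

universe u

variable {X Y Z : Scheme.{u}} (j : X ⟶ Y) (k : Y ⟶ Z)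

/-- the transpose of `theta` is the unit -/
lemma unit_theta (N : Y.Modules) :
    (CohPull.invPushAdj j.base).unit.app (Coh.toAb N) ≫
        (CohTop.push j.base).map (CohPull.theta j N) =
      (SheafOfModules.toSheaf Y.ringCatSheaf).map
        ((pullbackPushforwardAdjunction j).unit.app N) := by
  have h1 : (CohPull.invPushAdj j.base).homEquiv _ _ (CohPull.theta j N) =
      (SheafOfModules.toSheaf Y.ringCatSheaf).map
        ((pullbackPushforwardAdjunction j).unit.app N) := Equiv.apply_symm_apply _ _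
  have h2 : (CohPull.invPushAdj j.base).homEquiv _ _ (CohPull.theta j N) =
      (CohPull.invPushAdj j.base).unit.app (Coh.toAb N) ≫
        (CohTop.push j.base).map (CohPull.theta j N) := Adjunction.homEquiv_unit _ _ _ _
  exact h2.symm.trans h1

section Abstract

variable {𝒵 𝒴 𝒳 : Type*} [Category 𝒵] [Category 𝒴] [Category 𝒳]
  {Lk : 𝒵 ⥤ 𝒴} {Rk : 𝒴 ⥤ 𝒵} (adjk : Lk ⊣ Rk) {Lj : 𝒴 ⥤ 𝒳} {Rj : 𝒳 ⥤ 𝒴} (adjj : Lj ⊣ Rj)
  {Lc : 𝒵 ⥤ 𝒳} {Rc : 𝒳 ⥤ 𝒵} (adjc : Lc ⊣ Rc)
  (pbC : Lk ⋙ Lj ≅ Lc) (pfC : Rj ⋙ Rk ≅ Rc)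
  (hC : conjugateEquiv (adjk.comp adjj) adjc pbC.inv = pfC.hom)

include hC in
lemma unit_comp_abstract (M : 𝒵) :
    adjc.unit.app M =
      adjk.unit.app M ≫ Rk.map (adjj.unit.app (Lk.obj M)) ≫ Rk.map (Rj.map (pbC.hom.app M)) ≫
        pfC.hom.app (Lc.obj M) := by
  have h1 := unit_conjugateEquiv (adjk.comp adjj) adjc pbC.inv M
  rw [hC, Adjunction.comp_unit_app] at h1
  have h3 := pfC.hom.naturality (pbC.hom.app M)
  simp only [Functor.comp_map] at h3
  rw [h3]
  have h4 : adjk.unit.app M ≫ Rk.map (adjj.unit.app (Lk.obj M)) ≫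
      pfC.hom.app ((Lk ⋙ Lj).obj M) ≫ Rc.map (pbC.hom.app M) =
      ((adjk.unit.app M ≫ Rk.map (adjj.unit.app (Lk.obj M))) ≫
        pfC.hom.app ((Lk ⋙ Lj).obj M)) ≫ Rc.map (pbC.hom.app M) := by
    simp only [Category.assoc]
  rw [h4, h1, Category.assoc, ← Rc.map_comp, Iso.inv_hom_id_app, Rc.map_id]
  exact (Category.comp_id _).symm

end Abstract

/-- the unit of a composition -/
lemma unit_comp (M : Z.Modules) :
    (pullbackPushforwardAdjunction (j ≫ k)).unit.app M =
      (pullbackPushforwardAdjunction k).unit.app M ≫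
        (pushforward k).map ((pullbackPushforwardAdjunction j).unit.app ((pullback k).obj M)) ≫
        (pushforward k).map ((pushforward j).map ((pullbackComp j k).hom.app M)) ≫
        (pushforwardComp j k).hom.app ((pullback (j ≫ k)).obj M) :=
  unit_comp_abstract (pullbackPushforwardAdjunction k) (pullbackPushforwardAdjunction j)
    (pullbackPushforwardAdjunction (j ≫ k)) (pullbackComp j k) (pushforwardComp j k)
    (conjugateEquiv_pullbackComp_inv j k) M

section Abstract2

variable {𝒵 𝒴 𝒳 : Type*} [Category 𝒵] [Category 𝒴] [Category 𝒳]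
  {Lk : 𝒵 ⥤ 𝒴} {Rk : 𝒴 ⥤ 𝒵} (adjk : Lk ⊣ Rk) {Lj : 𝒴 ⥤ 𝒳} {Rj : 𝒳 ⥤ 𝒴} (adjj : Lj ⊣ Rj)
  {Lc : 𝒵 ⥤ 𝒳} (adjc : Lc ⊣ Rj ⋙ Rk)

lemma transpose_comp_abstract {A : 𝒵} {B : 𝒴} {C D : 𝒳} (a : A ⟶ Rk.obj B) (b : B ⟶ Rj.obj C)
    (d : C ⟶ D) :
    (adjc.homEquiv A D).symm (a ≫ Rk.map b ≫ Rk.map (Rj.map d)) =
      (adjc.leftAdjointUniq (adjk.comp adjj)).hom.app A ≫
        Lj.map ((adjk.homEquiv _ _).symm a) ≫ (adjj.homEquiv _ _).symm b ≫ d := by
  apply (adjc.homEquiv A D).injective
  rw [Equiv.apply_symm_apply, Adjunction.homEquiv_unit]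
  have h1 := Adjunction.unit_leftAdjointUniq_hom_app adjc (adjk.comp adjj) A
  rw [Adjunction.comp_unit_app] at h1
  have h2 : adjk.unit.app A ≫ Rk.map ((adjk.homEquiv _ _).symm a) = a := by
    have := adjk.homEquiv_unit (f := (adjk.homEquiv _ _).symm a)
    rw [Equiv.apply_symm_apply] at this
    exact this.symm
  have h3 : adjj.unit.app B ≫ Rj.map ((adjj.homEquiv _ _).symm b) = b := by
    have := adjj.homEquiv_unit (f := (adjj.homEquiv _ _).symm b)
    rw [Equiv.apply_symm_apply] at this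
    exact this.symm
  have h4 : (adjk.homEquiv A B).symm a ≫ adjj.unit.app B =
      adjj.unit.app (Lk.obj A) ≫ Rj.map (Lj.map ((adjk.homEquiv A B).symm a)) :=
    adjj.unit.naturality ((adjk.homEquiv _ _).symm a)
  calc a ≫ Rk.map b ≫ Rk.map (Rj.map d)
      = (adjk.unit.app A ≫ Rk.map ((adjk.homEquiv _ _).symm a)) ≫
          Rk.map (adjj.unit.app B ≫ Rj.map ((adjj.homEquiv _ _).symm b)) ≫
          Rk.map (Rj.map d) := by rw [h2, h3]
    _ = adjk.unit.app A ≫ Rk.map (((adjk.homEquiv _ _).symm a ≫ adjj.unit.app B) ≫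
          Rj.map ((adjj.homEquiv _ _).symm b) ≫ Rj.map d) := by
        simp only [Functor.map_comp, Category.assoc]
    _ = (adjk.unit.app A ≫ Rk.map (adjj.unit.app (Lk.obj A))) ≫
          Rk.map (Rj.map (Lj.map ((adjk.homEquiv A B).symm a) ≫
            (adjj.homEquiv _ _).symm b ≫ d)) := by
        rw [h4]
        simp only [Functor.map_comp, Category.assoc]
    _ = _ := by
        rw [← h1]
        simp only [Functor.map_comp, Category.assoc, Functor.comp_map]

end Abstract2

/-- **`theta` of a composition** -/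
theorem theta_comp (M : Z.Modules) :
    CohPull.theta (j ≫ k) M =
      (invComp j.base k.base).hom.app (Coh.toAb M) ≫
        (CohPull.inv j.base).map (CohPull.theta k M) ≫
        CohPull.theta j ((pullback k).obj M) ≫
        (SheafOfModules.toSheaf X.ringCatSheaf).map ((pullbackComp j k).hom.app M) := by
  have h5 := congrArg (fun t => (SheafOfModules.toSheaf Z.ringCatSheaf).map t) (unit_comp j k M)
  have h6 : (SheafOfModules.toSheaf Z.ringCatSheaf).map
      ((pullbackPushforwardAdjunction (j ≫ k)).unit.app M) =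
      (SheafOfModules.toSheaf Z.ringCatSheaf).map ((pullbackPushforwardAdjunction k).unit.app M) ≫
        (CohTop.push k.base).map ((SheafOfModules.toSheaf Y.ringCatSheaf).map
          ((pullbackPushforwardAdjunction j).unit.app ((pullback k).obj M))) ≫
        (CohTop.push k.base).map ((CohTop.push j.base).map
          ((SheafOfModules.toSheaf X.ringCatSheaf).map ((pullbackComp j k).hom.app M))) := by
    refine h5.trans ?_
    refine ((SheafOfModules.toSheaf Z.ringCatSheaf).map_comp _ _).trans ?_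
    refine congrArg (fun t => (SheafOfModules.toSheaf Z.ringCatSheaf).map
      ((pullbackPushforwardAdjunction k).unit.app M) ≫ t) ?_
    refine ((SheafOfModules.toSheaf Z.ringCatSheaf).map_comp _ _).trans ?_
    refine congrArg (fun t => (SheafOfModules.toSheaf Z.ringCatSheaf).map
      ((pushforward k).map ((pullbackPushforwardAdjunction j).unit.app ((pullback k).obj M))) ≫ t) ?_
    refine ((SheafOfModules.toSheaf Z.ringCatSheaf).map_comp _ _).trans ?_
    exact Category.comp_id _
  have key := transpose_comp_abstract (CohPull.invPushAdj k.base) (CohPull.invPushAdj j.base)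
    (Lc := CohPull.inv (j.base ≫ k.base)) (CohPull.invPushAdj (j.base ≫ k.base))
    ((SheafOfModules.toSheaf Z.ringCatSheaf).map ((pullbackPushforwardAdjunction k).unit.app M))
    ((SheafOfModules.toSheaf Y.ringCatSheaf).map
      ((pullbackPushforwardAdjunction j).unit.app ((pullback k).obj M)))
    ((SheafOfModules.toSheaf X.ringCatSheaf).map ((pullbackComp j k).hom.app M))
  have h7 : CohPull.theta (j ≫ k) M =
      ((CohPull.invPushAdj (j.base ≫ k.base)).homEquiv _ _).symm
        ((SheafOfModules.toSheaf Z.ringCatSheaf).map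
          ((pullbackPushforwardAdjunction (j ≫ k)).unit.app M)) := rfl
  rw [h7, h6]
  exact key

end Groth.Agent.Helper1.PC
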