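import Groth.Agent.Helper1.PCH2

set_option autoImplicit false
set_option linter.style.haveILetI false
set_option linter.unusedSectionVars false
set_option linter.unusedVariables false

/-!
# The pullback on cohomology of O-modules: composition, naturality, equal morphisms
-/

namespace Groth.Agent.Helper1.PC

open CategoryTheory Opposite TopologicalSpace AlgebraicGeometry
  AlgebraicGeometry.Scheme.Modules
open Groth.Agent.Helper6.PushEdge1

universe u

variable {X Y Z : Scheme.{u}} (j : X ⟶ Y) (k : Y ⟶ Z)

/-- naturality of the pullback of classes in the module -/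
theorem pullMod_natural {M N : Y.Modules} (φ : M ⟶ N) (p : ℕ) (x : Coh.HH Y M p) :
    CohPull.pullMod j N p (CohPull.mapH φ p x) =
      CohPull.mapH ((pullback j).map φ) p (CohPull.pullMod j M p x) := by
  show Sheaf.H.map (CohPull.theta j N) p (CohPull.pullAb j.base (Coh.toAb N) p
      (Sheaf.H.map ((SheafOfModules.toSheaf Y.ringCatSheaf).map φ) p x)) =
    Sheaf.H.map ((SheafOfModules.toSheaf X.ringCatSheaf).map ((pullback j).map φ)) p
      (Sheaf.H.map (CohPull.theta j M) p (CohPull.pullAb j.base (Coh.toAb M) p x))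
  rw [pullAb_natural, ← Sheaf.H.map_comp_apply, ← Sheaf.H.map_comp_apply,
    Groth.Agent.Helper6.ResLE1.theta_natural]

/-- **composition** of the pullbacks of classes -/
theorem pullMod_comp (M : Z.Modules) (p : ℕ) (x : Coh.HH Z M p) :
    CohPull.pullMod (j ≫ k) M p x =
      CohPull.mapH ((pullbackComp j k).hom.app M) p
        (CohPull.pullMod j ((pullback k).obj M) p (CohPull.pullMod k M p x)) := by
  show Sheaf.H.map (CohPull.theta (j ≫ k) M) p
      (CohPull.pullAb (j.base ≫ k.base) (Coh.toAb M) p x) =
    Sheaf.H.map ((SheafOfModules.toSheaf X.ringCatSheaf).map ((pullbackComp j k).hom.app M)) p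
      (Sheaf.H.map (CohPull.theta j ((pullback k).obj M)) p
        (CohPull.pullAb j.base (Coh.toAb ((pullback k).obj M)) p
          (Sheaf.H.map (CohPull.theta k M) p (CohPull.pullAb k.base (Coh.toAb M) p x))))
  have h1 := congrArg (fun t => Sheaf.H.map t p
    (CohPull.pullAb (j.base ≫ k.base) (Coh.toAb M) p x)) (theta_comp j k M)
  refine h1.trans ?_
  refine (Sheaf.H.map_comp_apply _ _ _).trans ?_
  refine (Sheaf.H.map_comp_apply _ _ _).trans ?_
  refine (Sheaf.H.map_comp_apply _ _ _).trans ?_
  refine congrArg (fun t => Sheaf.H.map ((SheafOfModules.toSheaf X.ringCatSheaf).map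
    ((pullbackComp j k).hom.app M)) p (Sheaf.H.map (CohPull.theta j ((pullback k).obj M)) p t)) ?_
  have h2 := pullAb_comp j.base k.base p (Coh.toAb M) x
  refine (congrArg (fun t => Sheaf.H.map ((CohPull.inv j.base).map (CohPull.theta k M)) p t)
    h2).trans ?_
  exact (pullAb_natural j.base (CohPull.theta k M) p _).symm

/-- pullback of classes along equal morphisms -/
theorem pullMod_congr {j j' : X ⟶ Y} (e : j = j') (M : Y.Modules) (p : ℕ) (x : Coh.HH Y M p) :
    CohPull.mapH ((pullbackCongr e).hom.app M) p (CohPull.pullMod j M p x) =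
      CohPull.pullMod j' M p x := by
  subst e
  have h : (pullbackCongr (rfl : j = j)).hom.app M = 𝟙 _ := by simp [pullbackCongr]
  rw [h]
  show Sheaf.H.map ((SheafOfModules.toSheaf X.ringCatSheaf).map (𝟙 _)) p _ = _
  rw [CategoryTheory.Functor.map_id, Sheaf.H.map_id_apply]

/-- composition of the maps induced on cohomology -/
theorem mapH_comp {M N K : Y.Modules} (b : M ⟶ N) (c : N ⟶ K) (p : ℕ) (y : Coh.HH Y M p) :
    CohPull.mapH (b ≫ c) p y = CohPull.mapH c p (CohPull.mapH b p y) :=
  (congrArg (fun t => Sheaf.H.map t p y)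
    ((SheafOfModules.toSheaf Y.ringCatSheaf).map_comp b c)).trans (Sheaf.H.map_comp_apply _ _ y)

end Groth.Agent.Helper1.PC
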