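import Groth.Agent.Helper1.PCH3
import Groth.Agent.Helper6.ResLE2

set_option autoImplicit false
set_option linter.style.haveILetI false
set_option linter.unusedSectionVars false
set_option linter.unusedVariables false

/-!
# Coherence of the inverse image of O-modules (components of the pseudofunctor)
-/

namespace Groth.Agent.Helper1.PC

open CategoryTheory Opposite TopologicalSpace AlgebraicGeometry AlgebraicGeometry.Scheme.Modules

universe u

variable {A B C D : Scheme.{u}}

lemma pbCongr_hom_app {f g : A ⟶ B} (e : f = g) (F : B.Modules) :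
    (pullbackCongr e).hom.app F = eqToHom (by rw [e]) := by
  subst e
  simp [pullbackCongr]

lemma pbCongr_rfl_app (f : A ⟶ B) (F : B.Modules) :
    (pullbackCongr (rfl : f = f)).hom.app F = 𝟙 _ := by
  simp [pullbackCongr]

@[reassoc]
lemma pbCongr_trans_app {f g k : A ⟶ B} (e₁ : f = g) (e₂ : g = k) (F : B.Modules) :
    (pullbackCongr e₁).hom.app F ≫ (pullbackCongr e₂).hom.app F =
      (pullbackCongr (e₁.trans e₂)).hom.app F := by
  subst e₁; subst e₂; simp [pullbackCongr]

/-- associativity of the composition isomorphisms, on components -/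
lemma assoc_app (f : A ⟶ B) (g : B ⟶ C) (h : C ⟶ D) (F : D.Modules) :
    (pullback f).map ((pullbackComp g h).hom.app F) ≫ (pullbackComp f (g ≫ h)).hom.app F =
      (pullbackComp f g).hom.app ((pullback h).obj F) ≫ (pullbackComp (f ≫ g) h).hom.app F ≫
        (pullbackCongr (Category.assoc f g h)).hom.app F := by
  have h1 := congrArg (fun t => t.app F) (pseudofunctor_associativity f g h)
  simp only [NatTrans.comp_app, Functor.whiskerRight_app, Functor.whiskerLeft_app,
    Functor.associator_hom_app, eqToHom_app] at h1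
  rw [pbCongr_hom_app]
  have h2 : (pullbackComp f g).hom.app ((pullback h).obj F) ≫ (pullbackComp (f ≫ g) h).hom.app F =
      (pullback f).map ((pullbackComp g h).hom.app F) ≫ (pullbackComp f (g ≫ h)).hom.app F ≫
        eqToHom (by rw [Category.assoc]) := by
    rw [← h1]
    simp only [Category.id_comp, Iso.hom_inv_id_app_assoc, ← Functor.map_comp_assoc,
      Iso.hom_inv_id_app]
    simp
  rw [reassoc_of% h2]
  simp

/-- the composition isomorphisms and equal morphisms -/
lemma comp_congr_app (j : A ⟶ B) {c c' : B ⟶ C} (e : c = c') (F : C.Modules) :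
    (pullback j).map ((pullbackCongr e).hom.app F) ≫ (pullbackComp j c').hom.app F =
      (pullbackComp j c).hom.app F ≫ (pullbackCongr (by rw [e] : j ≫ c = j ≫ c')).hom.app F := by
  subst e
  rw [pbCongr_rfl_app, pbCongr_rfl_app, CategoryTheory.Functor.map_id]
  exact (Category.id_comp _).trans (Category.comp_id _).symm

/-- the basic coherence for restrictions of a commutative square -/
lemma coh_abs {A₂ A₁ : Scheme.{u}} (j : A₂ ⟶ A₁) (k₁ : A₁ ⟶ B) (a : B ⟶ C) (b₁ : A₁ ⟶ D)
    (g : D ⟶ C) (w₁ : k₁ ≫ a = b₁ ≫ g) (k₂ : A₂ ⟶ B) (e : j ≫ k₁ = k₂) (b₂ : A₂ ⟶ D)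
    (eb : j ≫ b₁ = b₂) (w₂ : k₂ ≫ a = b₂ ≫ g) (F : C.Modules) :
    (pullback j).map ((pullbackComp k₁ a).hom.app F) ≫
        (pullback j).map ((pullbackCongr w₁).hom.app F) ≫
        (pullback j).map ((pullbackComp b₁ g).inv.app F) ≫
        (pullbackComp j b₁).hom.app ((pullback g).obj F) ≫
        (pullbackCongr eb).hom.app ((pullback g).obj F) =
      (pullbackComp j k₁).hom.app ((pullback a).obj F) ≫
        (pullbackCongr e).hom.app ((pullback a).obj F) ≫
        (pullbackComp k₂ a).hom.app F ≫ (pullbackCongr w₂).hom.app F ≫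
        (pullbackComp b₂ g).inv.app F := by
  subst e
  subst eb
  rw [pbCongr_rfl_app, pbCongr_rfl_app, Category.comp_id, Category.id_comp]
  -- bring the inverses to the other side
  have hA := assoc_app j b₁ g F
  have hB := assoc_app j k₁ a F
  have hC := comp_congr_app j w₁ F
  have h1 : (pullback j).map ((pullbackComp b₁ g).inv.app F) ≫
      (pullbackComp j b₁).hom.app ((pullback g).obj F) =
      (pullbackComp j (b₁ ≫ g)).hom.app F ≫
        (pullbackCongr (Category.assoc j b₁ g).symm).hom.app F ≫
        (pullbackComp (j ≫ b₁) g).inv.app F := by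
    rw [← cancel_epi ((pullback j).map ((pullbackComp b₁ g).hom.app F)),
      ← Functor.map_comp_assoc, Iso.hom_inv_id_app, CategoryTheory.Functor.map_id,
      Category.id_comp, reassoc_of% hA, pbCongr_trans_app_assoc, pbCongr_rfl_app,
      Category.id_comp, Iso.hom_inv_id_app]
    exact (Category.comp_id _).symm
  rw [h1, reassoc_of% hC, reassoc_of% hB, pbCongr_trans_app_assoc, pbCongr_trans_app_assoc]

end Groth.Agent.Helper1.PC
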