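import Groth.Agent.Helper1.PCH4
import Groth.Agent.Helper6.ResLE3

set_option autoImplicit false
set_option linter.style.haveILetI false
set_option linter.unusedSectionVars false
set_option linter.unusedVariables false

/-!
# The pullback of classes over opens is compatible with restriction to smaller opens
-/

namespace Groth.Agent.Helper1.PC

open CategoryTheory Opposite TopologicalSpace AlgebraicGeometry AlgebraicGeometry.Scheme.Modules
open Groth.Agent.Helper6.ResLE1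

universe u

lemma nat_chain {𝒞 𝒟 : Type*} [Category 𝒞] [Category 𝒟] {F₁ F₂ F₃ : 𝒞 ⥤ 𝒟} (α : F₁ ⟶ F₂)
    (β : F₂ ⟶ F₃) {M N : 𝒞} (φ : M ⟶ N) {Z : 𝒟} (rest : F₃.obj N ⟶ Z) :
    F₁.map φ ≫ α.app N ≫ β.app N ≫ rest = α.app M ≫ β.app M ≫ F₃.map φ ≫ rest := by
  rw [← Category.assoc, α.naturality, Category.assoc, ← Category.assoc (F₂.map φ), β.naturality,
    Category.assoc]

section Gen

variable {A₂ A₁ B C D : Scheme.{u}}

/-- `pullOnIso` for general open immersions -/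
noncomputable def pullOnIsoGen {A : Scheme.{u}} (k : A ⟶ B) (a : B ⟶ C) (b : A ⟶ D) (g : D ⟶ C)
    (w : k ≫ a = b ≫ g) [IsOpenImmersion a] [IsOpenImmersion b] (F : C.Modules) :
    (pullback k).obj (F.restrict a) ≅ ((pullback g).obj F).restrict b :=
  (pullback k).mapIso ((restrictFunctorIsoPullback a).app F) ≪≫
    (pullbackComp k a).app F ≪≫ (pullbackCongr w).app F ≪≫
    ((pullbackComp b g).app F).symm ≪≫
    ((restrictFunctorIsoPullback b).app ((pullback g).obj F)).symm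

/-- `tau` for general open immersions -/
noncomputable def tauGen (j : A₂ ⟶ A₁) (b₁ : A₁ ⟶ D) (b₂ : A₂ ⟶ D) (eb : j ≫ b₁ = b₂)
    [IsOpenImmersion b₁] [IsOpenImmersion b₂] (G : D.Modules) :
    (pullback j).obj (G.restrict b₁) ⟶ G.restrict b₂ :=
  (pullback j).map ((restrictFunctorIsoPullback b₁).hom.app G) ≫
    (pullbackComp j b₁).hom.app G ≫ (pullbackCongr eb).hom.app G ≫
    (restrictFunctorIsoPullback b₂).inv.app G

theorem pullOnIsoGen_coh (j : A₂ ⟶ A₁) (k₁ : A₁ ⟶ B) (a : B ⟶ C) (b₁ : A₁ ⟶ D)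
    (g : D ⟶ C) (w₁ : k₁ ≫ a = b₁ ≫ g) (k₂ : A₂ ⟶ B) (e : j ≫ k₁ = k₂) (b₂ : A₂ ⟶ D)
    (eb : j ≫ b₁ = b₂) (w₂ : k₂ ≫ a = b₂ ≫ g)
    [IsOpenImmersion a] [IsOpenImmersion b₁] [IsOpenImmersion b₂] (F : C.Modules) :
    (pullback j).map (pullOnIsoGen k₁ a b₁ g w₁ F).hom ≫ tauGen j b₁ b₂ eb ((pullback g).obj F) =
      (pullbackComp j k₁).hom.app (F.restrict a) ≫ (pullbackCongr e).hom.app (F.restrict a) ≫
        (pullOnIsoGen k₂ a b₂ g w₂ F).hom := by
  have hcoh := coh_abs j k₁ a b₁ g w₁ k₂ e b₂ eb w₂ F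
  unfold pullOnIsoGen tauGen
  simp only [Iso.trans_hom, Functor.mapIso_hom, Iso.app_hom, Iso.symm_hom,
    Iso.app_inv, Functor.map_comp, Category.assoc]
  rw [← Functor.map_comp_assoc (pullback j)
    ((restrictFunctorIsoPullback b₁).inv.app ((pullback g).obj F)), Iso.inv_hom_id_app,
    CategoryTheory.Functor.map_id, Category.id_comp]
  rw [reassoc_of% hcoh]
  exact nat_chain (F₁ := pullback k₁ ⋙ pullback j) (pullbackComp j k₁).hom (pullbackCongr e).hom
    ((restrictFunctorIsoPullback a).hom.app F) _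

end Gen

end Groth.Agent.Helper1.PC
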