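import Groth.Agent.Helper1.PCH5

set_option autoImplicit false
set_option linter.style.haveILetI false
set_option linter.unusedSectionVars false
set_option linter.unusedVariables false

/-!
# The pullback of classes over opens is compatible with restriction to smaller opens (II)
-/

namespace Groth.Agent.Helper1.PC

open CategoryTheory Opposite TopologicalSpace AlgebraicGeometry AlgebraicGeometry.Scheme.Modules
open Groth.Agent.Helper6.ResLE1

universe u

variable {X' X : Scheme.{u}} (g : X' ⟶ X) (U : X.Opens) (U₁ U₂ : X'.Opens)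
  (h₁ : U₁ ≤ g ⁻¹ᵁ U) (h₁₂ : U₂ ≤ U₁)

lemma jj_comp_resLE :
    jj h₁₂ ≫ g.resLE U U₁ h₁ = g.resLE U U₂ (h₁₂.trans h₁) := by
  rw [← cancel_mono U.ι]
  simp [jj]

/-- coherence of `pullOnIso` with respect to restriction to a smaller open -/
theorem pullOnIso_coh (F : X.Modules) :
    (pullback (jj h₁₂)).map (CohPull.pullOnIso g U U₁ h₁ F).hom ≫
        (tau h₁₂).app ((pullback g).obj F) =
      (pullbackComp (jj h₁₂) (g.resLE U U₁ h₁)).hom.app (F.restrict U.ι) ≫
        (pullbackCongr (jj_comp_resLE g U U₁ U₂ h₁ h₁₂)).hom.app (F.restrict U.ι) ≫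
        (CohPull.pullOnIso g U U₂ (h₁₂.trans h₁) F).hom := by
  rw [tau_app_simpl]
  exact pullOnIsoGen_coh (jj h₁₂) (g.resLE U U₁ h₁) U.ι U₁.ι g (Scheme.Hom.resLE_comp_ι g h₁)
    (g.resLE U U₂ (h₁₂.trans h₁)) (jj_comp_resLE g U U₁ U₂ h₁ h₁₂) U₂.ι (jj_comp_ι h₁₂)
    (Scheme.Hom.resLE_comp_ι g (h₁₂.trans h₁)) F

end Groth.Agent.Helper1.PC
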