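import Groth.Agent.Helper1.PCH6

set_option autoImplicit false
set_option linter.style.haveILetI false
set_option linter.unusedSectionVars false
set_option linter.unusedVariables false

/-!
# The pullback of classes over opens is compatible with restriction to smaller opens (III)
-/

namespace Groth.Agent.Helper1.PC

open CategoryTheory Opposite TopologicalSpace AlgebraicGeometry AlgebraicGeometry.Scheme.Modules
open Groth.Agent.Helper6.ResLE1

universe u

section one

variable {X : Scheme.{u}}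

/-- `resLE` in terms of `tau` -/
lemma resLE_eq_tau {U U' : X.Opens} (h : U' ≤ U) (G : X.Modules) (p : ℕ) (y : Coh.HHon X G U p) :
    CohPull.resLE G h p y =
      CohPull.mapH ((tau h).app G) p (CohPull.pullMod (jj h) (G.restrict U.ι) p y) := by
  have h1 : CohPull.resLE G h p y =
      CohPull.mapH ((restrictFunctor U'.ι).map ((pullbackId X).hom.app G)) p
        (CohPull.mapH (CohPull.pullOnIso (𝟙 X) U U' (by rwa [Scheme.Hom.id_preimage]) G).hom p
          (CohPull.pullMod (jj h) (G.restrict U.ι) p y)) := by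
    simp only [CohPull.resLE, CohPull.pullOn, AddMonoidHom.coe_comp, Function.comp_apply]
  have h2 : CohPull.mapH ((tau h).app G) p (CohPull.pullMod (jj h) (G.restrict U.ι) p y) =
      CohPull.mapH ((restrictFunctor U'.ι).map ((pullbackId X).hom.app G)) p
        (CohPull.mapH (CohPull.pullOnIso (𝟙 X) U U' (by rwa [Scheme.Hom.id_preimage]) G).hom p
          (CohPull.pullMod (jj h) (G.restrict U.ι) p y)) :=
    (congrArg (fun t => CohPull.mapH t p
      (CohPull.pullMod (jj h) (G.restrict U.ι) p y)) (tau_app h G)).trans (mapH_comp _ _ p _)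
  exact h1.trans h2.symm

end one

section absPull

variable {A₂ A₁ B : Scheme.{u}} (j : A₂ ⟶ A₁) (k₁ : A₁ ⟶ B) (k₂ : A₂ ⟶ B) (e : j ≫ k₁ = k₂)
  (M : B.Modules) (N₁ : A₁.Modules) (N₂ : A₂.Modules)
  (P₁ : (pullback k₁).obj M ⟶ N₁) (P₂ : (pullback k₂).obj M ⟶ N₂) (τ : (pullback j).obj N₁ ⟶ N₂)
  (hcoh : (pullback j).map P₁ ≫ τ =
    (pullbackComp j k₁).hom.app M ≫ (pullbackCongr e).hom.app M ≫ P₂)

include hcoh in
theorem pull_pull_abs (p : ℕ) (x : Coh.HH B M p) :
    CohPull.mapH τ p (CohPull.pullMod j N₁ p (CohPull.mapH P₁ p (CohPull.pullMod k₁ M p x))) =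
      CohPull.mapH P₂ p (CohPull.pullMod k₂ M p x) := by
  rw [pullMod_natural, ← mapH_comp, hcoh, mapH_comp, mapH_comp, ← pullMod_comp, pullMod_congr]

end absPull

variable {X' X : Scheme.{u}} (g : X' ⟶ X) (U : X.Opens) (U₁ U₂ : X'.Opens)
  (h₁ : U₁ ≤ g ⁻¹ᵁ U) (h₁₂ : U₂ ≤ U₁)

/-- **the pullback of classes over opens is compatible with restriction to a smaller open of
the source** -/
theorem resLE_pullOn (F : X.Modules) (p : ℕ) (x : Coh.HHon X F U p) :
    CohPull.resLE ((pullback g).obj F) h₁₂ p (CohPull.pullOn g U U₁ h₁ F p x) =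
      CohPull.pullOn g U U₂ (h₁₂.trans h₁) F p x :=
  (resLE_eq_tau h₁₂ ((pullback g).obj F) p (CohPull.pullOn g U U₁ h₁ F p x)).trans
    (pull_pull_abs (jj h₁₂) (g.resLE U U₁ h₁) (g.resLE U U₂ (h₁₂.trans h₁))
      (jj_comp_resLE g U U₁ U₂ h₁ h₁₂) (F.restrict U.ι) (((pullback g).obj F).restrict U₁.ι)
      (((pullback g).obj F).restrict U₂.ι) (CohPull.pullOnIso g U U₁ h₁ F).hom
      (CohPull.pullOnIso g U U₂ (h₁₂.trans h₁) F).hom ((tau h₁₂).app ((pullback g).obj F))
      (pullOnIso_coh g U U₁ U₂ h₁ h₁₂ F) p x)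

end Groth.Agent.Helper1.PC
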