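import Groth.Agent.Helper1.PCH7
import Groth.Agent.Helper6.ResLE2b
import Groth.Agent.Lead.BCMap2

set_option autoImplicit false
set_option linter.style.haveILetI false
set_option linter.unusedSectionVars false
set_option linter.unusedVariables false

/-!
# The pullback of classes over opens in degree zero is the pullback of sections
-/

namespace Groth.Agent.Helper1.PC

open CategoryTheory Limits Opposite TopologicalSpace AlgebraicGeometry AlgebraicGeometry.Scheme.Modules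
open Groth.Agent.Helper6.ResLE1 Groth.Agent.Lead.BCMap

universe u

section Abstract

variable {𝒴 𝒰 𝒳 𝒰' : Type*} [Category 𝒴] [Category 𝒰] [Category 𝒳] [Category 𝒰']
  {La Pa : 𝒴 ⥤ 𝒰} {Ra : 𝒰 ⥤ 𝒴} (adjLa : La ⊣ Ra) (adjPa : Pa ⊣ Ra)
  {La' Pa' : 𝒳 ⥤ 𝒰'} {Ra' : 𝒰' ⥤ 𝒳} (adjLa' : La' ⊣ Ra') (adjPa' : Pa' ⊣ Ra')
  {Pj : 𝒰 ⥤ 𝒰'} {Rj : 𝒰' ⥤ 𝒰} (adjj : Pj ⊣ Rj)
  {Pg : 𝒴 ⥤ 𝒳} {Rg : 𝒳 ⥤ 𝒴} (adjg : Pg ⊣ Rg)
  {P1 : 𝒴 ⥤ 𝒰'} {R1 : 𝒰' ⥤ 𝒴} (adj1 : P1 ⊣ R1)
  {P2 : 𝒴 ⥤ 𝒰'} {R2 : 𝒰' ⥤ 𝒴} (adj2 : P2 ⊣ R2)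
  (pbC1 : Pa ⋙ Pj ≅ P1) (pfC1 : Rj ⋙ Ra ≅ R1)
  (hC1 : conjugateEquiv (adjPa.comp adjj) adj1 pbC1.inv = pfC1.hom)
  (pbC2 : Pg ⋙ Pa' ≅ P2) (pfC2 : Ra' ⋙ Rg ≅ R2)
  (hC2 : conjugateEquiv (adjg.comp adjPa') adj2 pbC2.inv = pfC2.hom)
  (pbE : P1 ≅ P2) (pfE : R1 ≅ R2)
  (hE : ∀ F, adj1.unit.app F ≫ R1.map (pbE.hom.app F) =
    adj2.unit.app F ≫ pfE.inv.app (P2.obj F))

include hC1 hC2 hE in
lemma unit_chase2 (F : 𝒴) :
    adjLa.unit.app F ≫ Ra.map (adjj.unit.app (La.obj F) ≫ Rj.map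
      (Pj.map ((adjLa.leftAdjointUniq adjPa).hom.app F) ≫ pbC1.hom.app F ≫ pbE.hom.app F ≫
        pbC2.inv.app F ≫ (adjLa'.leftAdjointUniq adjPa').inv.app (Pg.obj F))) =
    adjg.unit.app F ≫ Rg.map (adjLa'.unit.app (Pg.obj F)) ≫
      pfC2.hom.app (La'.obj (Pg.obj F)) ≫ pfE.inv.app (La'.obj (Pg.obj F)) ≫
      pfC1.inv.app (La'.obj (Pg.obj F)) := by
  set r := (adjLa.leftAdjointUniq adjPa).hom.app F with hr
  set r' := (adjLa'.leftAdjointUniq adjPa').inv.app (Pg.obj F) with hr'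
  have h2 : adjLa.unit.app F ≫ Ra.map r = adjPa.unit.app F :=
    Adjunction.unit_leftAdjointUniq_hom_app adjLa adjPa F
  have h8 : adjPa'.unit.app (Pg.obj F) ≫ Ra'.map r' = adjLa'.unit.app (Pg.obj F) := by
    rw [← Adjunction.unit_leftAdjointUniq_hom_app adjLa' adjPa' (Pg.obj F), Category.assoc,
      ← Ra'.map_comp, hr', Iso.hom_inv_id_app, Ra'.map_id]
    exact Category.comp_id _
  have h4 := unit_conjugateEquiv (adjPa.comp adjj) adj1 pbC1.inv F
  rw [hC1] at h4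
  have h4' := unit_conjugateEquiv (adjg.comp adjPa') adj2 pbC2.inv F
  rw [hC2] at h4'
  have h3 : (adjPa.comp adjj).unit.app F =
      adjPa.unit.app F ≫ Ra.map (adjj.unit.app (Pa.obj F)) := Adjunction.comp_unit_app _ _ _
  have h3' : (adjg.comp adjPa').unit.app F =
      adjg.unit.app F ≫ Rg.map (adjPa'.unit.app (Pg.obj F)) := Adjunction.comp_unit_app _ _ _
  have h34 : adjPa.unit.app F ≫ Ra.map (adjj.unit.app (Pa.obj F)) =
      adj1.unit.app F ≫ R1.map (pbC1.inv.app F) ≫ pfC1.inv.app (Pj.obj (Pa.obj F)) := by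
    rw [← h3, ← cancel_mono (pfC1.hom.app (Pj.obj (Pa.obj F)))]
    simp only [Category.assoc, Iso.inv_hom_id_app]
    exact h4.trans (congrArg (fun t => adj1.unit.app F ≫ t) (Category.comp_id _).symm)
  have h34' : adj2.unit.app F ≫ R2.map (pbC2.inv.app F) =
      adjg.unit.app F ≫ Rg.map (adjPa'.unit.app (Pg.obj F)) ≫
        pfC2.hom.app (Pa'.obj (Pg.obj F)) := by
    rw [← h4', h3', Category.assoc]
    rfl
  have h1 : Ra.map (adjj.unit.app (La.obj F)) ≫ Ra.map (Rj.map (Pj.map r)) =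
      Ra.map r ≫ Ra.map (adjj.unit.app (Pa.obj F)) := by
    rw [← Ra.map_comp, ← Ra.map_comp]
    exact congrArg Ra.map (adjj.unit.naturality r).symm
  have h5 : ∀ {M N : 𝒰'} (φ : M ⟶ N),
      pfC1.inv.app M ≫ Ra.map (Rj.map φ) = R1.map φ ≫ pfC1.inv.app N :=
    fun φ => (pfC1.inv.naturality φ).symm
  have h6 : ∀ {M N : 𝒰'} (φ : M ⟶ N),
      pfE.inv.app M ≫ R1.map φ = R2.map φ ≫ pfE.inv.app N :=
    fun φ => (pfE.inv.naturality φ).symm
  have h7 : pfC2.hom.app (Pa'.obj (Pg.obj F)) ≫ R2.map r' =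
      Rg.map (Ra'.map r') ≫ pfC2.hom.app (La'.obj (Pg.obj F)) :=
    (pfC2.hom.naturality r').symm
  have hcc : R1.map (pbC1.inv.app F) ≫ R1.map (pbC1.hom.app F) = 𝟙 _ := by
    rw [← R1.map_comp, Iso.inv_hom_id_app, R1.map_id]
  have h8' : Rg.map (adjPa'.unit.app (Pg.obj F)) ≫ Rg.map (Ra'.map r') =
      Rg.map (adjLa'.unit.app (Pg.obj F)) := by
    rw [← Rg.map_comp, h8]
  simp only [Functor.map_comp]
  rw [reassoc_of% h1, reassoc_of% h2, reassoc_of% h34, reassoc_of% h5, reassoc_of% hcc,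
    reassoc_of% h5, reassoc_of% (hE F), reassoc_of% h5, reassoc_of% h6, reassoc_of% h34',
    h5, reassoc_of% h6, reassoc_of% h7, reassoc_of% h8']

end Abstract

variable {X Y : Scheme.{u}} (g : X ⟶ Y) (U : Y.Opens) (U' : X.Opens) (h : U' ≤ g ⁻¹ᵁ U)
  (F : Y.Modules)

/-- the morphism `F|_U ⟶ (g|)_* ((g^* F)|_{U'})` adjoint to `pullOnIso` -/
noncomputable def sigma :
    F.restrict U.ι ⟶ (pushforward (g.resLE U U' h)).obj
      (((Scheme.Modules.pullback g).obj F).restrict U'.ι) :=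
  (pullbackPushforwardAdjunction (g.resLE U U' h)).unit.app (F.restrict U.ι) ≫
    (pushforward (g.resLE U U' h)).map (CohPull.pullOnIso g U U' h F).hom

lemma pullOnIso_hom :
    (CohPull.pullOnIso g U U' h F).hom =
      (Scheme.Modules.pullback (g.resLE U U' h)).map ((restrictFunctorIsoPullback U.ι).hom.app F) ≫
        (pullbackComp (g.resLE U U' h) U.ι).hom.app F ≫
        (pullbackCongr (Scheme.Hom.resLE_comp_ι g h)).hom.app F ≫
        (pullbackComp U'.ι g).inv.app F ≫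
        (restrictFunctorIsoPullback U'.ι).inv.app ((Scheme.Modules.pullback g).obj F) := by
  simp [CohPull.pullOnIso]

lemma unit_sigma :
    (restrictAdjunction U.ι).unit.app F ≫ (pushforward U.ι).map (sigma g U U' h F) =
      (pullbackPushforwardAdjunction g).unit.app F ≫
        (pushforward g).map ((restrictAdjunction U'.ι).unit.app
          ((Scheme.Modules.pullback g).obj F)) ≫
        (pushforwardComp U'.ι g).hom.app (((Scheme.Modules.pullback g).obj F).restrict U'.ι) ≫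
        (pushforwardCongr (Scheme.Hom.resLE_comp_ι g h)).inv.app
          (((Scheme.Modules.pullback g).obj F).restrict U'.ι) ≫
        (pushforwardComp (g.resLE U U' h) U.ι).inv.app
          (((Scheme.Modules.pullback g).obj F).restrict U'.ι) := by
  unfold sigma
  rw [pullOnIso_hom]
  exact unit_chase2 (restrictAdjunction U.ι) (pullbackPushforwardAdjunction U.ι)
    (restrictAdjunction U'.ι) (pullbackPushforwardAdjunction U'.ι)
    (pullbackPushforwardAdjunction (g.resLE U U' h)) (pullbackPushforwardAdjunction g)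
    (pullbackPushforwardAdjunction (g.resLE U U' h ≫ U.ι))
    (pullbackPushforwardAdjunction (U'.ι ≫ g))
    (pullbackComp (g.resLE U U' h) U.ι) (pushforwardComp (g.resLE U U' h) U.ι)
    (conjugateEquiv_pullbackComp_inv (g.resLE U U' h) U.ι)
    (pullbackComp U'.ι g) (pushforwardComp U'.ι g)
    (conjugateEquiv_pullbackComp_inv U'.ι g)
    (pullbackCongr (Scheme.Hom.resLE_comp_ι g h)) (pushforwardCongr (Scheme.Hom.resLE_comp_ι g h))
    (unit_congr (Scheme.Hom.resLE_comp_ι g h)) F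

lemma sigma_app_aux (s : Γ(F, U))
    (i : U'.ι ''ᵁ ((g.resLE U U' h) ⁻¹ᵁ (U.ι ⁻¹ᵁ U)) ⟶ g ⁻¹ᵁ U) :
    (sigma g U U' h F).app (U.ι ⁻¹ᵁ U)
        (F.presheaf.map (homOfLE (U.ι.image_preimage_le U)).op s) =
      ((Scheme.Modules.pullback g).obj F).presheaf.map i.op
        (((pullbackPushforwardAdjunction g).unit.app F).app U s) := by
  have key := congrArg (fun t => Scheme.Modules.Hom.app t U) (unit_sigma g U U' h F)
  simp only [Hom.comp_app, restrictAdjunction_unit_app_app, pushforward_map_app,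
    pushforwardCongr_inv_app_app, pushforwardComp_inv_app_app,
    pushforwardComp_hom_app_app] at key
  have key2 := ConcreteCategory.congr_hom key s
  simp only [ConcreteCategory.comp_apply] at key2
  have e1 : (g.resLE U U' h ≫ U.ι) ⁻¹ᵁ U = (U'.ι ≫ g) ⁻¹ᵁ U := by
    rw [Scheme.Hom.resLE_comp_ι]
  refine key2.trans ?_
  exact (map_map ((Scheme.Modules.pullback g).obj F)
    (homOfLE (U'.ι.image_preimage_le (g ⁻¹ᵁ U)))
    ((Scheme.Hom.opensFunctor U'.ι).map (eqToHom e1))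
    (((pullbackPushforwardAdjunction g).unit.app F).app U s)).trans
    (map_congr' ((Scheme.Modules.pullback g).obj F) _ i _)

lemma sigma_top (s : Γ(F, U)) :
    (sigma g U U' h F).app ⊤ (F.presheaf.map (eqToHom U.ι_image_top).op s) =
      ((Scheme.Modules.pullback g).obj F).presheaf.map (eqToHom U'.ι_image_top).op
        (pbSec g F U U' h s) := by
  have e0 : U.ι ⁻¹ᵁ U = ⊤ := Scheme.Opens.ι_preimage_self U
  let i : (U.ι ⁻¹ᵁ U) ⟶ (⊤ : (U : Scheme.{u}).Opens) := homOfLE le_top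
  have hnat := Groth.Agent.Helper6.SectCmpSurj.app_map (sigma g U U' h F) i
    (F.presheaf.map (eqToHom U.ι_image_top).op s)
  have hs : (F.restrict U.ι).presheaf.map i.op (F.presheaf.map (eqToHom U.ι_image_top).op s) =
      F.presheaf.map (homOfLE (U.ι.image_preimage_le U)).op s :=
    (map_map F (eqToHom U.ι_image_top) ((Scheme.Hom.opensFunctor U.ι).map i) s).trans
      (map_congr' F _ _ s)
  have hle : U'.ι ''ᵁ ((g.resLE U U' h) ⁻¹ᵁ (U.ι ⁻¹ᵁ U)) ≤ g ⁻¹ᵁ U :=
    (Scheme.Opens.ι_image_le U' _).trans h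
  have k1 := sigma_app_aux g U U' h F s (homOfLE hle)
  let k : U'.ι ''ᵁ ((g.resLE U U' h) ⁻¹ᵁ (U.ι ⁻¹ᵁ U)) ⟶ U'.ι ''ᵁ ((g.resLE U U' h) ⁻¹ᵁ ⊤) :=
    (Scheme.Hom.opensFunctor U'.ι).map ((Opens.map (g.resLE U U' h).base).map i)
  have hk : Function.Injective (((Scheme.Modules.pullback g).obj F).presheaf.map k.op) :=
    map_injective_of_eq _ (by rw [e0]) k
  apply hk
  have lhs : ((Scheme.Modules.pullback g).obj F).presheaf.map k.op
      ((sigma g U U' h F).app ⊤ (F.presheaf.map (eqToHom U.ι_image_top).op s)) =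
      ((Scheme.Modules.pullback g).obj F).presheaf.map (homOfLE hle).op
        (((pullbackPushforwardAdjunction g).unit.app F).app U s) :=
    hnat.symm.trans ((congrArg (fun t => (sigma g U U' h F).app (U.ι ⁻¹ᵁ U) t) hs).trans k1)
  have rhs : ((Scheme.Modules.pullback g).obj F).presheaf.map k.op
      (((Scheme.Modules.pullback g).obj F).presheaf.map (eqToHom U'.ι_image_top).op
        (pbSec g F U U' h s)) =
      ((Scheme.Modules.pullback g).obj F).presheaf.map (homOfLE hle).op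
        (((pullbackPushforwardAdjunction g).unit.app F).app U s) := by
    rw [pbSec_apply]
    exact ((congrArg (fun t => ((Scheme.Modules.pullback g).obj F).presheaf.map k.op t)
      (map_map _ (homOfLE h) (eqToHom U'.ι_image_top) _)).trans
      (map_map _ _ k _)).trans (map_congr' _ _ _ _)
  exact lhs.trans rhs.symm

/-- **the pullback of classes over opens in degree zero is the pullback of sections** -/
theorem pullOn_sectH0 (s : Γ(F, U)) :
    CohPull.pullOn g U U' h F 0 (CohPull.sectH0 F U s) =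
      CohPull.sectH0 ((Scheme.Modules.pullback g).obj F) U' (pbSec g F U U' h s) := by
  apply (Sheaf.H.equiv₀ (Coh.toAb (((Scheme.Modules.pullback g).obj F).restrict U'.ι))
    isTerminalTop).injective
  rw [equiv₀_sectH0]
  have h1 : CohPull.pullOn g U U' h F 0 (CohPull.sectH0 F U s) =
      CohPull.mapH (CohPull.pullOnIso g U U' h F).hom 0
        (CohPull.pullMod (g.resLE U U' h) (F.restrict U.ι) 0 (CohPull.sectH0 F U s)) := by
    simp only [CohPull.pullOn, AddMonoidHom.coe_comp, Function.comp_apply]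
  rw [h1, equiv₀_mapH]
  refine (congrArg (fun t => (CohPull.pullOnIso g U U' h F).hom.app ⊤ t)
    ((CohPull.equiv₀_pullMod (g.resLE U U' h) (F.restrict U.ι) _).trans
      (congrArg (fun t => ((pullbackPushforwardAdjunction (g.resLE U U' h)).unit.app
        (F.restrict U.ι)).app ⊤ t) (equiv₀_sectH0 F U s)))).trans ?_
  exact sigma_top g U U' h F s

end Groth.Agent.Helper1.PC
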