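import Groth.Agent.Helper1.PCH8

set_option autoImplicit false
set_option linter.style.haveILetI false
set_option linter.unusedSectionVars false
set_option linter.unusedVariables false

/-!
# The pullback of classes over opens is compatible with composition of morphisms
-/

namespace Groth.Agent.Helper1.PC

open CategoryTheory Opposite TopologicalSpace AlgebraicGeometry AlgebraicGeometry.Scheme.Modules
open Groth.Agent.Helper6.ResLE1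

universe u

section Gen

variable {A₁ A₂ A₃ C₁ C₂ C₃ : Scheme.{u}}

/-- the tail of the coherence: reassociating a triple composite -/
lemma coh_tail (a₃ : A₃ ⟶ C₃) (f : C₃ ⟶ C₂) (g : C₂ ⟶ C₁) (b₂ : A₃ ⟶ C₂) (hb : b₂ = a₃ ≫ f)
    (k : A₃ ⟶ C₁) (w₂ : k = b₂ ≫ g) (w₃ : k = a₃ ≫ (f ≫ g)) (L : C₁.Modules) :
    (pullbackCongr w₂).hom.app L ≫ (pullbackComp b₂ g).inv.app L ≫
        (pullbackCongr hb).hom.app ((pullback g).obj L) ≫
        (pullbackComp a₃ f).inv.app ((pullback g).obj L) ≫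
        (pullback a₃).map ((pullbackComp f g).hom.app L) =
      (pullbackCongr w₃).hom.app L ≫ (pullbackComp a₃ (f ≫ g)).inv.app L := by
  subst hb
  subst w₂
  have hA := assoc_app a₃ f g L
  rw [← cancel_mono ((pullbackComp a₃ (f ≫ g)).hom.app L)]
  simp only [pbCongr_rfl_app, Category.assoc, Iso.inv_hom_id_app, Category.comp_id,
    Category.id_comp, hA, Iso.inv_hom_id_app_assoc]
  erw [Category.id_comp]
  rw [Iso.inv_hom_id_app_assoc]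

/-- **coherence of `pullOnIsoGen` with respect to composition of the morphisms** -/
theorem pullOnIsoGen_comp_coh (a₁ : A₁ ⟶ C₁) (a₂ : A₂ ⟶ C₂) (a₃ : A₃ ⟶ C₃)
    [IsOpenImmersion a₁] [IsOpenImmersion a₂] [IsOpenImmersion a₃]
    (f : C₃ ⟶ C₂) (g : C₂ ⟶ C₁) (k₂₁ : A₂ ⟶ A₁) (k₃₂ : A₃ ⟶ A₂) (k₃₁ : A₃ ⟶ A₁)
    (e : k₃₂ ≫ k₂₁ = k₃₁) (w₁ : k₂₁ ≫ a₁ = a₂ ≫ g) (w₂ : k₃₂ ≫ a₂ = a₃ ≫ f)
    (w₃ : k₃₁ ≫ a₁ = a₃ ≫ (f ≫ g)) (L : C₁.Modules) :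
    (pullback k₃₂).map (pullOnIsoGen k₂₁ a₁ a₂ g w₁ L).hom ≫
        (pullOnIsoGen k₃₂ a₂ a₃ f w₂ ((pullback g).obj L)).hom ≫
        (restrictFunctor a₃).map ((pullbackComp f g).hom.app L) =
      (pullbackComp k₃₂ k₂₁).hom.app (L.restrict a₁) ≫
        (pullbackCongr e).hom.app (L.restrict a₁) ≫
        (pullOnIsoGen k₃₁ a₁ a₃ (f ≫ g) w₃ L).hom := by
  have w₂' : k₃₁ ≫ a₁ = (k₃₂ ≫ a₂) ≫ g := by
    rw [Category.assoc, ← w₁, ← Category.assoc, e]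
  have hcoh := coh_abs k₃₂ k₂₁ a₁ a₂ g w₁ k₃₁ e (k₃₂ ≫ a₂) rfl w₂' L
  rw [pbCongr_rfl_app, Category.comp_id] at hcoh
  have htail := coh_tail a₃ f g (k₃₂ ≫ a₂) w₂ (k₃₁ ≫ a₁) w₂' w₃ L
  have hnat : (restrictFunctorIsoPullback a₃).inv.app ((pullback f).obj ((pullback g).obj L)) ≫
      (restrictFunctor a₃).map ((pullbackComp f g).hom.app L) =
      (pullback a₃).map ((pullbackComp f g).hom.app L) ≫
        (restrictFunctorIsoPullback a₃).inv.app ((pullback (f ≫ g)).obj L) :=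
    ((restrictFunctorIsoPullback a₃).inv.naturality ((pullbackComp f g).hom.app L)).symm
  unfold pullOnIsoGen
  simp only [Iso.trans_hom, Functor.mapIso_hom, Iso.app_hom, Iso.symm_hom,
    Iso.app_inv, Functor.map_comp, Category.assoc]
  rw [← Functor.map_comp_assoc (pullback k₃₂)
    ((restrictFunctorIsoPullback a₂).inv.app ((pullback g).obj L)), Iso.inv_hom_id_app,
    CategoryTheory.Functor.map_id, Category.id_comp]
  rw [hnat, reassoc_of% hcoh, reassoc_of% htail]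
  exact nat_chain (F₁ := pullback k₂₁ ⋙ pullback k₃₂) (pullbackComp k₃₂ k₂₁).hom
    (pullbackCongr e).hom ((restrictFunctorIsoPullback a₁).hom.app L) _

end Gen

variable {X Y Z : Scheme.{u}} (f : X ⟶ Y) (g : Y ⟶ Z) (U₁ : Z.Opens) (U₂ : Y.Opens)
  (U₃ : X.Opens) (h₂₁ : U₂ ≤ g ⁻¹ᵁ U₁) (h₃₂ : U₃ ≤ f ⁻¹ᵁ U₂) (h₃₁ : U₃ ≤ (f ≫ g) ⁻¹ᵁ U₁)

lemma resLE_comp_resLE' :
    f.resLE U₂ U₃ h₃₂ ≫ g.resLE U₁ U₂ h₂₁ = (f ≫ g).resLE U₁ U₃ h₃₁ := by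
  rw [← cancel_mono U₁.ι]
  simp

/-- coherence of `pullOnIso` with respect to composition of the morphisms -/
theorem pullOnIso_comp_coh (L : Z.Modules) :
    (pullback (f.resLE U₂ U₃ h₃₂)).map (CohPull.pullOnIso g U₁ U₂ h₂₁ L).hom ≫
        (CohPull.pullOnIso f U₂ U₃ h₃₂ ((pullback g).obj L)).hom ≫
        (restrictFunctor U₃.ι).map ((pullbackComp f g).hom.app L) =
      (pullbackComp (f.resLE U₂ U₃ h₃₂) (g.resLE U₁ U₂ h₂₁)).hom.app (L.restrict U₁.ι) ≫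
        (pullbackCongr (resLE_comp_resLE' f g U₁ U₂ U₃ h₂₁ h₃₂ h₃₁)).hom.app (L.restrict U₁.ι) ≫
        (CohPull.pullOnIso (f ≫ g) U₁ U₃ h₃₁ L).hom :=
  pullOnIsoGen_comp_coh U₁.ι U₂.ι U₃.ι f g (g.resLE U₁ U₂ h₂₁) (f.resLE U₂ U₃ h₃₂)
    ((f ≫ g).resLE U₁ U₃ h₃₁) (resLE_comp_resLE' f g U₁ U₂ U₃ h₂₁ h₃₂ h₃₁)
    (Scheme.Hom.resLE_comp_ι g h₂₁) (Scheme.Hom.resLE_comp_ι f h₃₂)
    (Scheme.Hom.resLE_comp_ι (f ≫ g) h₃₁) L

/-- **the pullback of classes over opens is compatible with composition of the morphisms** -/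
theorem pullOn_comp (L : Z.Modules) (p : ℕ) (x : Coh.HHon Z L U₁ p) :
    CohPull.pullOn (f ≫ g) U₁ U₃ h₃₁ L p x =
      CohPull.mapH ((restrictFunctor U₃.ι).map ((pullbackComp f g).hom.app L)) p
        (CohPull.pullOn f U₂ U₃ h₃₂ ((pullback g).obj L) p
          (CohPull.pullOn g U₁ U₂ h₂₁ L p x)) := by
  have key := pull_pull_abs (f.resLE U₂ U₃ h₃₂) (g.resLE U₁ U₂ h₂₁) ((f ≫ g).resLE U₁ U₃ h₃₁)
    (resLE_comp_resLE' f g U₁ U₂ U₃ h₂₁ h₃₂ h₃₁) (L.restrict U₁.ι)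
    (((pullback g).obj L).restrict U₂.ι) (((pullback (f ≫ g)).obj L).restrict U₃.ι)
    (CohPull.pullOnIso g U₁ U₂ h₂₁ L).hom (CohPull.pullOnIso (f ≫ g) U₁ U₃ h₃₁ L).hom
    ((CohPull.pullOnIso f U₂ U₃ h₃₂ ((pullback g).obj L)).hom ≫
      (restrictFunctor U₃.ι).map ((pullbackComp f g).hom.app L))
    (pullOnIso_comp_coh f g U₁ U₂ U₃ h₂₁ h₃₂ h₃₁ L) p x
  rw [mapH_comp] at key
  exact key.symm

end Groth.Agent.Helper1.PC
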