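import Groth.Agent.Helper1.PSep3

set_option autoImplicit false
set_option linter.style.haveILetI false
set_option linter.unusedSectionVars false
set_option linter.unusedVariables false

/-!
# The Picard scheme of a family with geometrically integral fibres is separated
-/

namespace Groth.Agent.Helper1.PSep

open CategoryTheory AlgebraicGeometry AlgebraicGeometry.Scheme.Modules TopologicalSpace Topology
open Groth.Agent.Helper1.UGC Groth.Agent.Helper4 Groth.Agent.Helper4.FinLocFree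
open Groth.Agent.Helper1.SS Groth.Agent.Lead.ClLib

universe u

variable {X S : Scheme.{u}} (f : X ⟶ S) [IsProper f] [Flat f] [LocallyOfFinitePresentation f]
  [GeometricallyIntegral f]
  (P : Over S) (φ : ∀ T : Over S, PicF.Cl (PicF.XT f T) → (T ⟶ P))
  (hP : AbDual.IsRelPicK Scheme.fppfPrecoverage f P φ)

theorem isInvertibleCl_pullCl {Y Y' : Scheme.{u}} (v : Y' ⟶ Y) (c : PicF.Cl Y)
    (hc : PicF.IsInvertibleCl c) : PicF.IsInvertibleCl (PicF.pullCl v c) := by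
  obtain ⟨L, rfl, hL⟩ := hc
  exact ⟨_, rfl, Groth.Agent.Helper4.PullSec.isInvertible_pullback v hL⟩

include hP in
set_option maxHeartbeats 1600000 in
/-- **the Picard scheme is separated** -/
theorem isSeparated_pic : IsSeparated P.hom := by
  refine ⟨?_⟩
  apply IsClosedImmersion.of_isPreimmersion
  rw [← isOpen_compl_iff, isOpen_iff_forall_mem_open]
  intro t ht
  let T : Over S := Over.mk (Limits.pullback.fst P.hom P.hom ≫ P.hom)
  let a : T ⟶ P := Over.homMk (Limits.pullback.fst P.hom P.hom) rfl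
  let b : T ⟶ P := Over.homMk (Limits.pullback.snd P.hom P.hom) Limits.pullback.condition.symm
  obtain ⟨R₁, hR₁, h₁⟩ := hP.locallySurjective T a
  obtain ⟨U₁, u₁, hu₁, ⟨x₁, hx₁⟩, hfl₁, hfp₁⟩ := exists_mem_fppf R₁ hR₁ t
  obtain ⟨c₁, hc₁, hφ₁⟩ := h₁ u₁ hu₁
  obtain ⟨R₂, hR₂, h₂⟩ := hP.locallySurjective (AbDual.ovr T u₁) (AbDual.ovrHom T u₁ ≫ b)
  obtain ⟨U₂, u₂, hu₂, ⟨x₂, hx₂⟩, hfl₂, hfp₂⟩ := exists_mem_fppf R₂ hR₂ x₁
  obtain ⟨c₂, hc₂, hφ₂⟩ := h₂ u₂ hu₂
  let W : Over S := AbDual.ovr (AbDual.ovr T u₁) u₂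
  let c : PicF.Cl (PicF.XT f W) :=
    PicF.pullCl (PicF.XTmap f (AbDual.ovrHom (AbDual.ovr T u₁) u₂)) c₁
  have hc : PicF.IsInvertibleCl c := isInvertibleCl_pullCl _ c₁ hc₁
  have hφc : φ W c = AbDual.ovrHom (AbDual.ovr T u₁) u₂ ≫ AbDual.ovrHom T u₁ ≫ a := by
    rw [hP.natural _ _ _ c₁ hc₁, hφ₁]
  have hcl := isClosed_agree f P φ hP W c c₂ hc hc₂
  have hpair : (Limits.pullback.lift (φ W c).left (φ W c₂).left (by rw [Over.w, Over.w]) :
      W.left ⟶ Limits.pullback P.hom P.hom) = u₂ ≫ u₁ := by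
    apply Limits.pullback.hom_ext
    · rw [Limits.pullback.lift_fst, hφc]
      rfl
    · rw [Limits.pullback.lift_snd, hφ₂]
      rfl
  rw [hpair] at hcl
  haveI := hfl₁
  haveI := hfl₂
  haveI := hfp₁
  haveI := hfp₂
  have hopen : IsOpenMap (u₂ ≫ u₁) := (u₂ ≫ u₁).isOpenMap
  obtain ⟨V, hV, htV, hVC⟩ := exists_open_nhd_compl (u₂ ≫ u₁) hopen _ hcl t
    ⟨x₂, by rw [Scheme.Hom.comp_apply, hx₂, hx₁]⟩ ht
  exact ⟨V, hVC, hV, htV⟩

end Groth.Agent.Helper1.PSep
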