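import Groth.Agent.Helper1.PDeg1
import Groth.Agent.Helper1.PSep4
import Groth.Agent.Lead.Ref1K

set_option autoImplicit false
set_option linter.style.haveILetI false
set_option linter.unusedSectionVars false
set_option linter.unusedVariables false

/-!
# The degree of an invertible module on the fibres of a relative curve
-/

namespace Groth.Agent.Helper1.PDeg

open CategoryTheory AlgebraicGeometry AlgebraicGeometry.Scheme.Modules TopologicalSpace Topology
open Groth.Agent.Helper1.PSep

universe u

variable {C S : Scheme.{u}} (f : C ⟶ S)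

/-- the degree of a module on the fibre over a point: `χ(L_t) - χ(O_t)` -/
noncomputable def deg (T : Over S) (L : (PicF.XT f T).Modules) (t : T.left) : ℤ :=
  PerfAux.eulerChar (PicF.XTproj f T) L t -
    PerfAux.eulerChar (PicF.XTproj f T) (Coh.structureModule (PicF.XT f T)) t

theorem deg_congr (T : Over S) {L L' : (PicF.XT f T).Modules} (e : L ≅ L') (t : T.left) :
    deg f T L t = deg f T L' t := by
  unfold deg
  rw [eulerChar_congr _ e t]

variable [IsProper f] [Flat f] [LocallyOfFinitePresentation f]

theorem conditions_of_isInvertible (T : Over S) (L : (PicF.XT f T).Modules)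
    (hL : PicF.IsInvertible L) :
    L.IsQuasicoherent ∧ CohB1.IsFP L ∧ FlatMod.IsFlatOver (PicF.XTproj f T) L :=
  Groth.Agent.Helper1.SS.conditions_of_isFinLocFree (PicF.XTproj f T) L
    (Groth.Agent.Lead.Ref1K.isFinLocFree_of_isInvertible L hL)

/-- the degree is invariant under base change -/
theorem deg_pullback {T T' : Over S} (g : T' ⟶ T) (L : (PicF.XT f T).Modules)
    (hL : PicF.IsInvertible L) (t' : T'.left) :
    deg f T' ((Scheme.Modules.pullback (PicF.XTmap f g)).obj L) t' = deg f T L (g.left t') := by
  unfold deg
  obtain ⟨-, hFP, hfl⟩ := conditions_of_isInvertible f T L hL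
  obtain ⟨-, hFP', hfl'⟩ := conditions_of_isInvertible f T (Coh.structureModule _)
    Groth.Agent.Helper4.TensorInv.isInvertible_structureModule
  rw [eulerChar_pullback (PicF.XTproj f T) L hFP hfl g.left (PicF.XTproj f T') (PicF.XTmap f g)
    (isPullback_XTmap f g) t',
    ← eulerChar_pullback (PicF.XTproj f T) _ hFP' hfl' g.left (PicF.XTproj f T') (PicF.XTmap f g)
    (isPullback_XTmap f g) t',
    eulerChar_congr _ (Groth.Agent.Helper4.PullUnit.pullbackUnitIso (PicF.XTmap f g)) t']

/-- the degree is locally constant on the base -/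
theorem isLocallyConstant_deg (T : Over S) (L : (PicF.XT f T).Modules)
    (hL : PicF.IsInvertible L) : IsLocallyConstant (deg f T L) := by
  obtain ⟨-, hFP, hfl⟩ := conditions_of_isInvertible f T L hL
  obtain ⟨-, hFP', hfl'⟩ := conditions_of_isInvertible f T (Coh.structureModule _)
    Groth.Agent.Helper4.TensorInv.isInvertible_structureModule
  exact (Groth.Agent.Helper1.NoethApx.isLocallyConstant_eulerChar (PicF.XTproj f T) L hFP hfl).sub
    (Groth.Agent.Helper1.NoethApx.isLocallyConstant_eulerChar (PicF.XTproj f T) _ hFP' hfl')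

/-- the Euler characteristic of the fibre of `C_T → T`, as in the statement -/
theorem eulerChar_eq_eulerCharLE (hdim : ∀ s : S, topologicalKrullDim ↥(f.fiber s) = 1)
    (T : Over S) (L : (PicF.XT f T).Modules) (hL : PicF.IsInvertible L) (t : T.left) :
    PerfAux.eulerChar (PicF.XTproj f T) L t =
      FGA.eulerCharLE (T.left.residueField t) (FGA.fibreAt f T t).left
        (FGA.restrFibre f T t L) 1 := by
  rw [eulerChar_eq_of_subsingleton]
  · unfold FGA.eulerCharLE
    rw [Finset.sum_range_succ, Finset.sum_range_one]
    simp only [pow_zero, one_mul, pow_one, neg_mul]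
    rw [sub_eq_add_neg]
    rfl
  · intro p hp
    haveI : ((Scheme.Modules.pullback ((PicF.XTproj f T).fiberι t)).obj L).IsQuasicoherent :=
      Groth.Agent.Helper4.QAffSec.isQuasicoherent_of_isInvertible _
        (Groth.Agent.Helper4.PullSec.isInvertible_pullback _ hL)
    exact subsingleton_HH_fiber_of_isPullback (IsPullback.of_hasPullback f T.hom) t 1
      (hdim _).le _ p (by exact_mod_cast hp)

/-- the truncated Euler characteristic only depends on the isomorphism class of the module -/
theorem eulerCharLE_congr (k : Type u) [Field k] (Y : Scheme.{u})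
    [Y.Over (Spec (CommRingCat.of k))] {F G : Y.Modules} (e : F ≅ G) (d : ℕ) :
    FGA.eulerCharLE k Y F d = FGA.eulerCharLE k Y G d := by
  unfold FGA.eulerCharLE
  refine Finset.sum_congr rfl fun i _ => ?_
  rw [(Groth.Agent.Helper1.ProjTop.HHlinEquiv k e i).finrank_eq]

/-- the degree, as in the statement -/
theorem deg_eq (hdim : ∀ s : S, topologicalKrullDim ↥(f.fiber s) = 1)
    (T : Over S) (L : (PicF.XT f T).Modules) (hL : PicF.IsInvertible L) (t : T.left) :
    deg f T L t =
      FGA.eulerCharLE (T.left.residueField t) (FGA.fibreAt f T t).left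
          (FGA.restrFibre f T t L) 1 -
        FGA.eulerCharLE (T.left.residueField t) (FGA.fibreAt f T t).left
          (Coh.structureModule (FGA.fibreAt f T t).left) 1 := by
  unfold deg
  rw [eulerChar_eq_eulerCharLE f hdim T L hL t,
    eulerChar_eq_eulerCharLE f hdim T _
      Groth.Agent.Helper4.TensorInv.isInvertible_structureModule t]
  congr 1
  exact eulerCharLE_congr _ _ (Groth.Agent.Helper4.PullUnit.pullbackUnitIso _) 1

end Groth.Agent.Helper1.PDeg
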