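import Groth.Agent.Helper1.PDeg2

set_option autoImplicit false
set_option linter.style.haveILetI false
set_option linter.unusedSectionVars false
set_option linter.unusedVariables false

/-!
# The degree function on the Picard scheme of a relative curve
-/

namespace Groth.Agent.Helper1.PDeg

open CategoryTheory AlgebraicGeometry AlgebraicGeometry.Scheme.Modules TopologicalSpace Topology
open Groth.Agent.Helper1.PSep Groth.Agent.Lead.ClLib

universe u

variable {C S : Scheme.{u}} (f : C ⟶ S) [IsProper f] [Flat f] [LocallyOfFinitePresentation f]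
  (P : Over S) (φ : ∀ T : Over S, PicF.Cl (PicF.XT f T) → (T ⟶ P))
  (hP : AbDual.IsRelPicK Scheme.fppfPrecoverage f P φ)

include hP in
/-- the degree of a family is the degree of any local universal family at the corresponding
point -/
theorem deg_eq_of_local (T : Over S) (L : (PicF.XT f T).Modules) (hL : PicF.IsInvertible L)
    (t : T.left) {U : Scheme.{u}} (u : U ⟶ P.left) (M : (PicF.XT f (AbDual.ovr P u)).Modules)
    (hM : PicF.IsInvertible M)
    (hφ : φ (AbDual.ovr P u) (PicF.cl M) = AbDual.ovrHom P u) (x : U)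
    (hx : u x = (φ T (PicF.cl L)).left t) :
    deg f T L t = deg f (AbDual.ovr P u) M x := by
  set a : T.left ⟶ P.left := (φ T (PicF.cl L)).left with ha
  have haw : a ≫ P.hom = T.hom := Over.w (φ T (PicF.cl L))
  obtain ⟨w, hw1, hw2⟩ := Scheme.Pullback.exists_preimage_pullback (f := a) (g := u) t x hx.symm
  let Wo : Over S := AbDual.ovr T (Limits.pullback.fst a u)
  let q1 : Wo ⟶ T := AbDual.ovrHom T (Limits.pullback.fst a u)
  let q2 : Wo ⟶ AbDual.ovr P u := Over.homMk (Limits.pullback.snd a u) (by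
    show Limits.pullback.snd a u ≫ u ≫ P.hom = Limits.pullback.fst a u ≫ T.hom
    rw [← haw, ← Category.assoc, ← Category.assoc, Limits.pullback.condition])
  have e1 : φ Wo (PicF.pullCl (PicF.XTmap f q1) (PicF.cl L)) = q1 ≫ φ T (PicF.cl L) :=
    hP.natural _ _ q1 _ ⟨L, rfl, hL⟩
  have e2 : φ Wo (PicF.pullCl (PicF.XTmap f q2) (PicF.cl M)) =
      q2 ≫ φ (AbDual.ovr P u) (PicF.cl M) := hP.natural _ _ q2 _ ⟨M, rfl, hM⟩
  have e12 : q1 ≫ φ T (PicF.cl L) = q2 ≫ AbDual.ovrHom P u := by
    ext1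
    exact Limits.pullback.condition
  have hL1 := Groth.Agent.Helper4.PullSec.isInvertible_pullback (PicF.XTmap f q1) hL
  have hM1 := Groth.Agent.Helper4.PullSec.isInvertible_pullback (PicF.XTmap f q2) hM
  obtain ⟨R, hR, hinj⟩ := hP.locallyInjective Wo _ _ ⟨_, rfl, hL1⟩ ⟨_, rfl, hM1⟩
    (by
      rw [← pullCl_cl, ← pullCl_cl, e1, e2, hφ, e12])
  obtain ⟨V, v, hv, ⟨y, hy⟩, -, -⟩ := exists_mem_fppf R hR w
  have hcl := hinj v hv
  rw [pullCl_cl, pullCl_cl, PicGrp.cl_eq_cl_iff] at hcl
  obtain ⟨e⟩ := hcl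
  calc deg f T L t = deg f T L (q1.left w) := by rw [← hw1]; rfl
    _ = deg f Wo ((Scheme.Modules.pullback (PicF.XTmap f q1)).obj L) w :=
        (deg_pullback f q1 L hL w).symm
    _ = deg f Wo ((Scheme.Modules.pullback (PicF.XTmap f q1)).obj L)
          ((AbDual.ovrHom Wo v).left y) := by rw [← hy]; rfl
    _ = deg f (AbDual.ovr Wo v) ((Scheme.Modules.pullback (PicF.XTmap f (AbDual.ovrHom Wo v))).obj
          ((Scheme.Modules.pullback (PicF.XTmap f q1)).obj L)) y :=
        (deg_pullback f (AbDual.ovrHom Wo v) _ hL1 y).symm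
    _ = deg f (AbDual.ovr Wo v) ((Scheme.Modules.pullback (PicF.XTmap f (AbDual.ovrHom Wo v))).obj
          ((Scheme.Modules.pullback (PicF.XTmap f q2)).obj M)) y := deg_congr f _ e y
    _ = deg f Wo ((Scheme.Modules.pullback (PicF.XTmap f q2)).obj M)
          ((AbDual.ovrHom Wo v).left y) := deg_pullback f (AbDual.ovrHom Wo v) _ hM1 y
    _ = deg f Wo ((Scheme.Modules.pullback (PicF.XTmap f q2)).obj M) w := by rw [← hy]; rfl
    _ = deg f (AbDual.ovr P u) M (q2.left w) := deg_pullback f q2 M hM w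
    _ = deg f (AbDual.ovr P u) M x := by rw [← hw2]; rfl

include hP in
/-- every point of the Picard scheme has a local universal family -/
theorem exists_local_family (p : P.left) :
    ∃ (U : Scheme.{u}) (u : U ⟶ P.left) (M : (PicF.XT f (AbDual.ovr P u)).Modules) (x : U),
      Flat u ∧ LocallyOfFinitePresentation u ∧ PicF.IsInvertible M ∧
        φ (AbDual.ovr P u) (PicF.cl M) = AbDual.ovrHom P u ∧ u x = p := by
  obtain ⟨R, hR, h⟩ := hP.locallySurjective P (𝟙 P)
  obtain ⟨U, u, hu, ⟨x, hx⟩, hfl, hfp⟩ := exists_mem_fppf R hR p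
  obtain ⟨c, ⟨M, rfl, hM⟩, hφ⟩ := h u hu
  exact ⟨U, u, M, x, hfl, hfp, hM, by rw [hφ, Category.comp_id], hx⟩

include hP in
/-- **the degree function on the Picard scheme** -/
theorem exists_degree :
    ∃ d : ↥P.left → ℤ, IsLocallyConstant d ∧
      ∀ (T : Over S) (L : (PicF.XT f T).Modules), PicF.IsInvertible L → ∀ t : T.left,
        d ((φ T (PicF.cl L)).left t) = deg f T L t := by
  choose U u M x hfl hfp hM hφ hx using exists_local_family f P φ hP
  refine ⟨fun p => deg f (AbDual.ovr P (u p)) (M p) (x p), ?_, ?_⟩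
  · have key : ∀ (p : P.left) (x' : U p), deg f (AbDual.ovr P (u (u p x'))) (M (u p x'))
        (x (u p x')) = deg f (AbDual.ovr P (u p)) (M p) x' := by
      intro p x'
      refine (deg_eq_of_local f P φ hP (AbDual.ovr P (u p)) (M p) (hM p) x' (u (u p x'))
        (M (u p x')) (hM _) (hφ _) (x (u p x')) ?_).symm
      rw [hx, hφ]
      rfl
    rw [IsLocallyConstant.iff_exists_open]
    intro p
    haveI := hfl p
    haveI := hfp p
    have hopen : IsOpenMap (u p) := (u p).isOpenMap
    obtain ⟨N, hN, hxN, hconst⟩ := (IsLocallyConstant.iff_exists_open _).mp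
      (isLocallyConstant_deg f (AbDual.ovr P (u p)) (M p) (hM p)) (x p)
    refine ⟨u p '' N, hopen N hN, ⟨x p, hxN, hx p⟩, ?_⟩
    rintro _ ⟨x', hx'N, rfl⟩
    show deg f _ (M (u p x')) (x (u p x')) = deg f _ (M p) (x p)
    rw [key p x', hconst x' hx'N]
  · intro T L hL t
    exact (deg_eq_of_local f P φ hP T L hL t (u _) (M _) (hM _) (hφ _) (x _) (hx _)).symm

end Groth.Agent.Helper1.PDeg
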