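import Groth.Agent.Helper1.PDeg3
import Groth.Prelude.Def_Pic13

set_option autoImplicit false
set_option linter.style.haveILetI false
set_option linter.unusedSectionVars false
set_option linter.unusedVariables false

/-!
# Algebraic equivalence to zero and the degree
-/

namespace Groth.Agent.Helper1.PDeg

open CategoryTheory AlgebraicGeometry AlgebraicGeometry.Scheme.Modules TopologicalSpace Topology
open Groth.Agent.Helper1.PSep Groth.Agent.Lead.ClLib

universe u

section general

variable {Y V : Scheme.{u}} (h : Y ⟶ V) [IsProper h] [Flat h] [LocallyOfFinitePresentation h]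

theorem conditions_of_isInvertible' (M : Y.Modules) (hM : PicF.IsInvertible M) :
    M.IsQuasicoherent ∧ CohB1.IsFP M ∧ FlatMod.IsFlatOver h M :=
  Groth.Agent.Helper1.SS.conditions_of_isFinLocFree h M
    (Groth.Agent.Lead.Ref1K.isFinLocFree_of_isInvertible M hM)

/-- the degree of a family of invertible modules over a connected base is constant -/
theorem eulerChar_sub_const [PreconnectedSpace V] (M : Y.Modules) (hM : PicF.IsInvertible M)
    (a b : V) :
    PerfAux.eulerChar h M a - PerfAux.eulerChar h (Coh.structureModule Y) a =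
      PerfAux.eulerChar h M b - PerfAux.eulerChar h (Coh.structureModule Y) b := by
  obtain ⟨-, hFP, hfl⟩ := conditions_of_isInvertible' h M hM
  obtain ⟨-, hFP', hfl'⟩ := conditions_of_isInvertible' h (Coh.structureModule Y)
    Groth.Agent.Helper4.TensorInv.isInvertible_structureModule
  exact ((Groth.Agent.Helper1.NoethApx.isLocallyConstant_eulerChar h M hFP hfl).sub
    (Groth.Agent.Helper1.NoethApx.isLocallyConstant_eulerChar h _ hFP'
      hfl')).apply_eq_of_preconnectedSpace a b

/-- base change of the Euler characteristic of the structure sheaf -/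
theorem eulerChar_structure_pullback {Y' V' : Scheme.{u}} (u : V' ⟶ V) (h' : Y' ⟶ V')
    (v : Y' ⟶ Y) (sq : IsPullback v h' h u) (t : V') :
    PerfAux.eulerChar h' (Coh.structureModule Y') t =
      PerfAux.eulerChar h (Coh.structureModule Y) (u t) := by
  obtain ⟨-, hFP', hfl'⟩ := conditions_of_isInvertible' h (Coh.structureModule Y)
    Groth.Agent.Helper4.TensorInv.isInvertible_structureModule
  rw [← eulerChar_pullback h _ hFP' hfl' u h' v sq t,
    eulerChar_congr _ (Groth.Agent.Helper4.PullUnit.pullbackUnitIso v) t]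

/-- base change of the Euler characteristic of an invertible module -/
theorem eulerChar_invertible_pullback (M : Y.Modules) (hM : PicF.IsInvertible M)
    {Y' V' : Scheme.{u}} (u : V' ⟶ V) (h' : Y' ⟶ V')
    (v : Y' ⟶ Y) (sq : IsPullback v h' h u) (t : V') :
    PerfAux.eulerChar h' ((Scheme.Modules.pullback v).obj M) t =
      PerfAux.eulerChar h M (u t) := by
  obtain ⟨-, hFP, hfl⟩ := conditions_of_isInvertible' h M hM
  exact eulerChar_pullback h M hFP hfl u h' v sq t

end general

section slice

variable (k : Type u) [Field k] (X : Scheme.{u}) [X.Over (Spec (CommRingCat.of k))]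

/-- the slice over a rational point is a base change -/
theorem isPullback_sliceAt {T : Scheme.{u}} (q : T ⟶ Spec (CommRingCat.of k))
    (t : Spec (CommRingCat.of k) ⟶ T) (ht : t ≫ q = 𝟙 _) :
    IsPullback (Pic13.sliceAt k X q t ht) (X ↘ Spec (CommRingCat.of k))
      (Limits.pullback.snd (X ↘ Spec (CommRingCat.of k)) q) t := by
  have h1 : Pic13.sliceAt k X q t ht ≫ Limits.pullback.fst (X ↘ Spec (CommRingCat.of k)) q =
      𝟙 X := Limits.pullback.lift_fst _ _ _
  have h2 : Pic13.sliceAt k X q t ht ≫ Limits.pullback.snd (X ↘ Spec (CommRingCat.of k)) q =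
      (X ↘ Spec (CommRingCat.of k)) ≫ t := Limits.pullback.lift_snd _ _ _
  refine IsPullback.of_right ?_ h2
    (IsPullback.of_hasPullback (X ↘ Spec (CommRingCat.of k)) q)
  rw [h1, ht]
  exact IsPullback.of_horiz_isIso ⟨by rw [Category.id_comp, Category.comp_id]⟩

/-- **a module algebraically equivalent to zero has the Euler characteristic of the structure
sheaf** -/
theorem eulerChar_eq_of_isAlgEquivZero [IsProper (X ↘ Spec (CommRingCat.of k))]
    [Flat (X ↘ Spec (CommRingCat.of k))]
    [LocallyOfFinitePresentation (X ↘ Spec (CommRingCat.of k))] (L : X.Modules)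
    (hL : Pic13.IsAlgEquivZero k X L) (pt : Spec (CommRingCat.of k)) :
    PerfAux.eulerChar (X ↘ Spec (CommRingCat.of k)) L pt =
      PerfAux.eulerChar (X ↘ Spec (CommRingCat.of k)) (Coh.structureModule X) pt := by
  obtain ⟨T, q, hconn, hlft, hqc, M, hM, t, t₀, ht, ht₀, ⟨e⟩, ⟨e₀⟩⟩ := hL
  have hc := eulerChar_sub_const (Limits.pullback.snd (X ↘ Spec (CommRingCat.of k)) q) M hM
    (t pt) (t₀ pt)
  rw [← eulerChar_invertible_pullback _ M hM t (X ↘ Spec (CommRingCat.of k))
      (Pic13.sliceAt k X q t ht) (isPullback_sliceAt k X q t ht) pt,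
    ← eulerChar_invertible_pullback _ M hM t₀ (X ↘ Spec (CommRingCat.of k))
      (Pic13.sliceAt k X q t₀ ht₀) (isPullback_sliceAt k X q t₀ ht₀) pt,
    ← eulerChar_structure_pullback _ t (X ↘ Spec (CommRingCat.of k))
      (Pic13.sliceAt k X q t ht) (isPullback_sliceAt k X q t ht) pt,
    ← eulerChar_structure_pullback _ t₀ (X ↘ Spec (CommRingCat.of k))
      (Pic13.sliceAt k X q t₀ ht₀) (isPullback_sliceAt k X q t₀ ht₀) pt] at hc
  have h1 : PerfAux.eulerChar (X ↘ Spec (CommRingCat.of k))
      ((Scheme.Modules.pullback (Pic13.sliceAt k X q t ht)).obj M) pt =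
      PerfAux.eulerChar (X ↘ Spec (CommRingCat.of k)) L pt := eulerChar_congr _ e pt
  have h2 : PerfAux.eulerChar (X ↘ Spec (CommRingCat.of k))
      ((Scheme.Modules.pullback (Pic13.sliceAt k X q t₀ ht₀)).obj M) pt =
      PerfAux.eulerChar (X ↘ Spec (CommRingCat.of k)) (Coh.structureModule X) pt :=
    eulerChar_congr _ e₀ pt
  rw [h1, h2] at hc
  linarith

end slice

end Groth.Agent.Helper1.PDeg
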