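import Mathlib
import Groth.Prelude.Def_PCone
import Groth.Agent.Helper1.Chow12

/-!
# A graded homomorphism inducing an isomorphism of Proj's: the chart maps are bijective
-/

set_option autoImplicit false
set_option linter.unusedSectionVars false

namespace Groth.Agent.Helper1.PI

open CategoryTheory Limits AlgebraicGeometry HomogeneousLocalization TopologicalSpace
open scoped HomogeneousIdeal

universe u

variable {R A B : Type u} [CommRing R] [CommRing A] [Algebra R A]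
  {𝒜 : ℕ → Submodule R A} [GradedAlgebra 𝒜] [CommRing B] [Algebra R B] {ℬ : ℕ → Submodule R B}
  [GradedAlgebra ℬ] (φ : 𝒜 →+*ᵍ ℬ)

/-- membership of a homogeneous element of positive degree, on a chart -/
lemma mem_iff_of_chart (e : Proj ℬ ⟶ Proj 𝒜) {d : ℕ} {g : A} (hg : g ∈ 𝒜 d) (hd : 0 < d)
    (he : Proj.awayι ℬ (φ g) (Graded.map_mem φ hg) hd ≫ e =
      Spec.map (CommRingCat.ofHom (Away.map φ g)) ≫ Proj.awayι 𝒜 g hg hd)
    (q : Spec (CommRingCat.of (Away ℬ (φ g)))) {k : ℕ} (hk : 0 < k) {b : A} (hb : b ∈ 𝒜 k) :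
    b ∈ (e (Proj.awayι ℬ (φ g) (Graded.map_mem φ hg) hd q)).asHomogeneousIdeal ↔
      φ b ∈ (Proj.awayι ℬ (φ g) (Graded.map_mem φ hg) hd q).asHomogeneousIdeal := by
  have hφb : φ b ∈ ℬ k := Graded.map_mem φ hb
  set E𝒜 := Away.isLocalizationElem hg hb with hE𝒜
  set Eℬ := Away.isLocalizationElem (Graded.map_mem φ hg) hφb with hEℬ
  have hE : Away.map φ g E𝒜 = Eℬ := by
    rw [hE𝒜, hEℬ, Away.map_mk]
    apply val_injective
    rw [Away.val_mk, Away.val_mk, map_pow]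
  have h1 : e (Proj.awayι ℬ (φ g) (Graded.map_mem φ hg) hd q) =
      Proj.awayι 𝒜 g hg hd (Spec.map (CommRingCat.ofHom (Away.map φ g)) q) := by
    rw [← Scheme.Hom.comp_apply, he, Scheme.Hom.comp_apply]
  have hL : b ∈ (e (Proj.awayι ℬ (φ g) (Graded.map_mem φ hg) hd q)).asHomogeneousIdeal ↔
      Away.map φ g E𝒜 ∈ q.asIdeal := by
    rw [h1]
    have h2 : Proj.awayι 𝒜 g hg hd (Spec.map (CommRingCat.ofHom (Away.map φ g)) q) ∈
        Proj.basicOpen 𝒜 b ↔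
        Spec.map (CommRingCat.ofHom (Away.map φ g)) q ∈
          Proj.awayι 𝒜 g hg hd ⁻¹ᵁ Proj.basicOpen 𝒜 b := Iff.rfl
    rw [Proj.awayι_preimage_basicOpen 𝒜 hg hd hb hk, Proj.mem_basicOpen] at h2
    rw [← not_iff_not, h2]
    exact Iff.rfl
  have hR : φ b ∈ (Proj.awayι ℬ (φ g) (Graded.map_mem φ hg) hd q).asHomogeneousIdeal ↔
      Eℬ ∈ q.asIdeal := by
    have h2 : Proj.awayι ℬ (φ g) (Graded.map_mem φ hg) hd q ∈ Proj.basicOpen ℬ (φ b) ↔
        q ∈ Proj.awayι ℬ (φ g) (Graded.map_mem φ hg) hd ⁻¹ᵁ Proj.basicOpen ℬ (φ b) := Iff.rfl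
    rw [Proj.awayι_preimage_basicOpen ℬ (Graded.map_mem φ hg) hd hφb hk, Proj.mem_basicOpen] at h2
    rw [← not_iff_not, h2]
    exact Iff.rfl
  rw [hL, hR, hE]

variable (e : Proj ℬ ⟶ Proj 𝒜)
  (he : ∀ (d : ℕ) (g : A) (hd : 0 < d) (hg : g ∈ 𝒜 d),
    Proj.awayι ℬ (φ g) (Graded.map_mem φ hg) hd ≫ e =
      Spec.map (CommRingCat.ofHom (Away.map φ g)) ≫ Proj.awayι 𝒜 g hg hd)
  (hcov : ∀ x : Proj ℬ, ∃ (d : ℕ) (g : A), 0 < d ∧ g ∈ 𝒜 d ∧ x ∈ Proj.basicOpen ℬ (φ g))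

include he hcov in
/-- the preimage of `D₊(b)` is `D₊(φ b)` -/
lemma mem_basicOpen_iff (x : Proj ℬ) {k : ℕ} (hk : 0 < k) {b : A} (hb : b ∈ 𝒜 k) :
    e x ∈ Proj.basicOpen 𝒜 b ↔ x ∈ Proj.basicOpen ℬ (φ b) := by
  obtain ⟨d, g, hd, hg, hx⟩ := hcov x
  rw [← Proj.opensRange_awayι ℬ (φ g) (Graded.map_mem φ hg) hd] at hx
  obtain ⟨q, rfl⟩ := hx
  rw [Proj.mem_basicOpen, Proj.mem_basicOpen, not_iff_not]
  exact mem_iff_of_chart φ e hg hd (he d g hd hg) q hk hb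

include he hcov in
/-- **the chart maps of an isomorphism of Proj's are bijective** -/
theorem awayMap_bijective [IsIso e] {k : ℕ} (hk : 0 < k) {f : A} (hf : f ∈ 𝒜 k) :
    Function.Bijective (Away.map φ f) := by
  set σ := Spec.map (CommRingCat.ofHom (Away.map φ f)) with hσ
  have h1 := he k f hk hf
  haveI : IsOpenImmersion (σ ≫ Proj.awayι 𝒜 f hf hk) := by
    rw [hσ, ← h1]; infer_instance
  haveI : IsOpenImmersion σ := IsOpenImmersion.of_comp σ (Proj.awayι 𝒜 f hf hk)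
  haveI : Surjective σ := by
    refine ⟨fun y => ?_⟩
    obtain ⟨x, hx⟩ := (ConcreteCategory.bijective_of_isIso e.base).2 (Proj.awayι 𝒜 f hf hk y)
    have hx' : e x = Proj.awayι 𝒜 f hf hk y := hx
    have hy : Proj.awayι 𝒜 f hf hk y ∈ Proj.basicOpen 𝒜 f := by
      rw [← Proj.opensRange_awayι 𝒜 f hf hk]
      exact ⟨y, rfl⟩
    rw [← hx', mem_basicOpen_iff φ e he hcov x hk hf,
      ← Proj.opensRange_awayι ℬ (φ f) (Graded.map_mem φ hf) hk] at hy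
    obtain ⟨q, rfl⟩ := hy
    refine ⟨q, ?_⟩
    apply (Proj.awayι 𝒜 f hf hk).isOpenEmbedding.injective
    rw [← hx', ← Scheme.Hom.comp_apply, ← Scheme.Hom.comp_apply, hσ, ← h1]
  have hiso : IsIso σ := (isIso_iff_isOpenImmersion_and_surjective σ).2 ⟨inferInstance, inferInstance⟩
  exact isIso_SpecMap_iff.1 hiso

end Groth.Agent.Helper1.PI
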