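import Mathlib
import Groth.Agent.Helper1.PI1

/-!
# A graded homomorphism inducing an isomorphism of Proj's: setting up
-/

set_option autoImplicit false
set_option linter.unusedSectionVars false

namespace Groth.Agent.Helper1.PI

open CategoryTheory Limits AlgebraicGeometry HomogeneousLocalization TopologicalSpace
open scoped HomogeneousIdeal

universe u

variable {R A B : Type u} [CommRing R] [CommRing A] [Algebra R A]
  {𝒜 : ℕ → Submodule R A} [GradedAlgebra 𝒜] [CommRing B] [Algebra R B] {ℬ : ℕ → Submodule R B}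
  [GradedAlgebra ℬ] (φ : 𝒜 →+*ᵍ ℬ)

theorem isIso_ι_of_eq_top' {Z : Scheme.{u}} (W : Z.Opens) (hW : W = ⊤) : IsIso W.ι := by
  subst hW
  rw [← Scheme.topIso_hom]
  infer_instance

/-- the morphism `Proj ℬ ⟶ Proj 𝒜` when the domain of definition is everything -/
theorem exists_e (hdom : PCone.dom φ = ⊤) (p : (PCone.dom φ : Scheme.{u}) ⟶ Proj 𝒜)
    (hp : ∀ (d : ℕ) (f : A) (hd : 0 < d) (hf : f ∈ 𝒜 d),
      PCone.chart φ hf hd ≫ p =
        Spec.map (CommRingCat.ofHom (Away.map φ f)) ≫ Proj.awayι 𝒜 f hf hd) [IsIso p] :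
    ∃ e : Proj ℬ ⟶ Proj 𝒜, IsIso e ∧ ∀ (d : ℕ) (g : A) (hd : 0 < d) (hg : g ∈ 𝒜 d),
      Proj.awayι ℬ (φ g) (Graded.map_mem φ hg) hd ≫ e =
        Spec.map (CommRingCat.ofHom (Away.map φ g)) ≫ Proj.awayι 𝒜 g hg hd := by
  haveI : IsIso (PCone.dom φ).ι := isIso_ι_of_eq_top' _ hdom
  refine ⟨inv (PCone.dom φ).ι ≫ p, inferInstance, fun d g hd hg => ?_⟩
  have h1 : PCone.chart φ hg hd ≫ (PCone.dom φ).ι =
      Proj.awayι ℬ (φ g) (Graded.map_mem φ hg) hd :=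
    IsOpenImmersion.lift_fac _ _ _
  rw [← h1, Category.assoc, IsIso.hom_inv_id_assoc, hp]

theorem hcov_of_dom (hdom : PCone.dom φ = ⊤) (x : Proj ℬ) :
    ∃ (d : ℕ) (g : A), 0 < d ∧ g ∈ 𝒜 d ∧ x ∈ Proj.basicOpen ℬ (φ g) := by
  have hx : x ∈ PCone.dom φ := by rw [hdom]; trivial
  obtain ⟨⟨g, d, hd, hg⟩, hx'⟩ := Opens.mem_iSup.1 hx
  exact ⟨d, g, hd, hg, hx'⟩

/-- powers of the degree one part lie in the ideal it generates -/
lemma map_mem_span_of_mem_pow {d : ℕ} (hd : 1 ≤ d) {g : A} (hg : g ∈ 𝒜 1 ^ d) :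
    φ g ∈ Ideal.span (ℬ 1 : Set B) := by
  set P : Submodule R A :=
    Submodule.restrictScalars R ((Ideal.span (ℬ 1 : Set B)).comap (φ : A →+* B)) with hP
  have h1 : 𝒜 1 ≤ P := fun x hx => Ideal.subset_span (Graded.map_mem φ hx)
  have h2 : 𝒜 1 ^ d ≤ P := by
    obtain ⟨k, rfl⟩ : ∃ k, d = k + 1 := ⟨d - 1, by omega⟩
    rw [pow_succ, Submodule.mul_le]
    intro x _ y hy
    exact Ideal.mul_mem_left _ x (h1 hy)
  exact h2 hg

/-- **positive degree elements are nilpotent modulo the degree one part** -/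
theorem mem_radical_span (hgen : ∀ n : ℕ, 1 ≤ n → 𝒜 n = 𝒜 1 ^ n)
    (hcov : ∀ x : Proj ℬ, ∃ (d : ℕ) (g : A), 0 < d ∧ g ∈ 𝒜 d ∧ x ∈ Proj.basicOpen ℬ (φ g))
    {n : ℕ} (hn : 0 < n) {b : B} (hb : b ∈ ℬ n) :
    b ∈ (Ideal.span (ℬ 1 : Set B)).radical := by
  have hJ : (Ideal.span (ℬ 1 : Set B)).IsHomogeneous ℬ :=
    Ideal.homogeneous_span ℬ _ (fun x hx => ⟨1, hx⟩)
  rw [hJ.radical_eq, Ideal.mem_sInf]
  rintro K ⟨hKh, hJK, hKp⟩
  by_contra hbK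
  let x : ProjectiveSpectrum ℬ := ⟨⟨K, hKh⟩, hKp, fun h =>
    hbK (h (HomogeneousIdeal.mem_irrelevant_of_mem ℬ hn hb))⟩
  obtain ⟨d, g, hd, hg, hx⟩ := hcov x
  rw [Proj.mem_basicOpen] at hx
  apply hx
  rw [hgen d hd] at hg
  exact hJK (map_mem_span_of_mem_pow φ hd hg)

end Groth.Agent.Helper1.PI
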