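import Mathlib

/-!
# Graded pieces of a finitely generated graded algebra are spanned by monomials
-/

set_option autoImplicit false
set_option linter.unusedSectionVars false

namespace Groth.Agent.Helper1.PI

open DirectSum

universe u

variable {R B : Type u} [CommRing R] [CommRing B] [Algebra R B] (ℬ : ℕ → Submodule R B)
  [GradedAlgebra ℬ] (s : Finset B) (dg : s → ℕ)

/-- the monomials of degree `n` in the elements of `s` -/
def Mn (n : ℕ) : Set B := {m | ∃ a : s → ℕ, ∑ i : s, a i • dg i = n ∧ ∏ i : s, (i : B) ^ a i = m}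

variable (hdg : ∀ i : s, (i : B) ∈ ℬ (dg i))

include hdg in
lemma prod_mem (a : s → ℕ) : ∏ i : s, (i : B) ^ a i ∈ ℬ (∑ i : s, a i • dg i) :=
  SetLike.prod_pow_mem_graded ℬ dg (fun i : s => (i : B)) a (fun k _ => hdg k)

include hdg in
lemma Mn_subset (n : ℕ) : Mn s dg n ⊆ ℬ n := by
  rintro m ⟨a, rfl, rfl⟩
  exact prod_mem ℬ s dg hdg a

lemma finite_Mn (hpos : ∀ i, dg i ≠ 0) (n : ℕ) : (Mn s dg n).Finite := by
  classical
  let F : (s → Fin (n + 1)) → B := fun a => ∏ i : s, (i : B) ^ (a i : ℕ)
  apply (Set.finite_range F).subset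
  rintro m ⟨a, ha, rfl⟩
  have hle : ∀ i, a i < n + 1 := by
    intro i
    have h1 : a i • dg i ≤ ∑ j : s, a j • dg j :=
      Finset.single_le_sum (f := fun j => a j • dg j) (fun j _ => Nat.zero_le _)
        (Finset.mem_univ i)
    have h2 : a i ≤ a i • dg i := by
      rw [smul_eq_mul]
      exact Nat.le_mul_of_pos_right _ (Nat.pos_of_ne_zero (hpos i))
    omega
  exact ⟨fun i => ⟨a i, hle i⟩, rfl⟩

include hdg in
/-- **every homogeneous element is a combination of monomials of its degree** -/
theorem mem_span_Mn (hs : Algebra.adjoin (ℬ 0) (s : Set B) = ⊤) {n : ℕ} {b : B} (hb : b ∈ ℬ n) :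
    b ∈ Submodule.span (ℬ 0) (Mn s dg n) := by
  classical
  let T : Submodule (ℬ 0) B :=
    { carrier := {x | ∀ k, (decompose ℬ x k : B) ∈ Submodule.span (ℬ 0) (Mn s dg k)}
      add_mem' := fun {x y} hx hy k => by
        rw [decompose_add, DirectSum.add_apply, Submodule.coe_add]
        exact add_mem (hx k) (hy k)
      zero_mem' := fun k => by
        rw [decompose_zero, DirectSum.zero_apply, ZeroMemClass.coe_zero]
        exact zero_mem _
      smul_mem' := fun c x hx k => by
        change (decompose ℬ (c • x) k : B) ∈ _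
        rw [Algebra.smul_def, SetLike.GradeZero.algebraMap_apply,
          coe_decompose_mul_of_left_mem_zero ℬ c.2]
        have := Submodule.smul_mem _ c (hx k)
        rwa [Algebra.smul_def, SetLike.GradeZero.algebraMap_apply] at this }
  have hT : (⊤ : Submodule (ℬ 0) B) ≤ T := by
    have h1 : (⊤ : Submodule (ℬ 0) B) = Subalgebra.toSubmodule (Algebra.adjoin (ℬ 0) (s : Set B)) := by
      rw [hs]; rfl
    rw [h1, Algebra.adjoin_eq_span, Submodule.span_le]
    intro m hm k
    obtain ⟨a, rfl⟩ := Submonoid.mem_closure_finset'.1 hm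
    have hmem := prod_mem ℬ s dg hdg a
    by_cases hk : ∑ i : s, a i • dg i = k
    · subst hk
      rw [decompose_of_mem_same ℬ hmem]
      exact Submodule.subset_span ⟨a, rfl, rfl⟩
    · rw [decompose_of_mem_ne ℬ hmem hk]
      exact zero_mem _
  have h2 := hT (Submodule.mem_top (x := b)) n
  rwa [decompose_of_mem_same ℬ hb] at h2

end Groth.Agent.Helper1.PI
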