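import Mathlib
import Groth.Agent.Helper1.PI3

/-!
# Eventually `ℬ n = ℬ (n-1) * ℬ 1`, when positive degree elements are nilpotent modulo `ℬ 1`
-/

set_option autoImplicit false
set_option linter.unusedSectionVars false

namespace Groth.Agent.Helper1.PI

open DirectSum

universe u

variable {R B : Type u} [CommRing R] [CommRing B] [Algebra R B] (ℬ : ℕ → Submodule R B)
  [GradedAlgebra ℬ]

lemma mem_top_mul_of_mem_span {x : B} (hx : x ∈ Ideal.span (ℬ 1 : Set B)) :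
    x ∈ (⊤ : Submodule R B) * ℬ 1 := by
  refine Submodule.span_induction (p := fun x _ => x ∈ (⊤ : Submodule R B) * ℬ 1)
    ?_ ?_ ?_ ?_ hx
  · intro f hf
    have := Submodule.mul_mem_mul (M := (⊤ : Submodule R B)) (Submodule.mem_top (x := (1 : B))) hf
    rwa [one_mul] at this
  · exact zero_mem _
  · intro x y _ _ hx hy
    exact add_mem hx hy
  · intro c x _ hx
    rw [smul_eq_mul]
    refine Submodule.mul_induction_on hx ?_ ?_
    · intro m _ n hn
      rw [← mul_assoc]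
      exact Submodule.mul_mem_mul Submodule.mem_top hn
    · intro y z hy hz
      rw [mul_add]
      exact add_mem hy hz

lemma decompose_mem_of_mem_top_mul {x : B} (hx : x ∈ (⊤ : Submodule R B) * ℬ 1) {n : ℕ}
    (hn : 1 ≤ n) : (decompose ℬ x n : B) ∈ ℬ (n - 1) * ℬ 1 := by
  refine Submodule.mul_induction_on hx ?_ ?_
  · intro c _ f hf
    rw [coe_decompose_mul_of_right_mem_of_le ℬ hf hn]
    exact Submodule.mul_mem_mul (decompose ℬ c (n - 1)).2 hf
  · intro y z hy hz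
    rw [decompose_add, DirectSum.add_apply, Submodule.coe_add]
    exact add_mem hy hz

/-- **eventually `ℬ n ≤ ℬ (n-1) * ℬ 1`** -/
theorem exists_le_mul [Algebra.FiniteType (ℬ 0) B]
    (H1 : ∀ n : ℕ, 0 < n → ∀ b ∈ ℬ n, b ∈ (Ideal.span (ℬ 1 : Set B)).radical) :
    ∃ Δ : ℕ, ∀ n : ℕ, Δ < n → ℬ n ≤ ℬ (n - 1) * ℬ 1 := by
  classical
  obtain ⟨s, hs, hs'⟩ := GradedAlgebra.exists_finset_adjoin_eq_top_and_homogeneous_ne_zero ℬ
  have h1 : ∀ i : s, ∃ n : ℕ, n ≠ 0 ∧ (i : B) ∈ ℬ n := fun i => by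
    obtain ⟨n, hn, hi⟩ := hs' i i.2
    exact ⟨n, hn, hi⟩
  choose dg hpos hdg using h1
  have h2 : ∀ i : s, ∃ N : ℕ, (i : B) ^ N ∈ Ideal.span (ℬ 1 : Set B) := fun i =>
    H1 (dg i) (Nat.pos_of_ne_zero (hpos i)) i (hdg i)
  choose N hN using h2
  refine ⟨∑ i : s, N i • dg i, fun n hn b hb => ?_⟩
  have hbJ : b ∈ Ideal.span (ℬ 1 : Set B) := by
    have h3 := mem_span_Mn ℬ s dg hdg hs hb
    refine (Submodule.span_le (p := (Ideal.span (ℬ 1 : Set B)).restrictScalars (ℬ 0))).2 ?_ h3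
    rintro m ⟨a, ha, rfl⟩
    obtain ⟨i, hi⟩ : ∃ i, N i ≤ a i := by
      by_contra hcon
      push Not at hcon
      have h4 : ∑ i : s, a i • dg i ≤ ∑ i : s, N i • dg i :=
        Finset.sum_le_sum fun i _ => Nat.mul_le_mul_right _ (hcon i).le
      omega
    exact Ideal.prod_mem _ (Finset.mem_univ i) ((Ideal.span (ℬ 1 : Set B)).pow_mem_of_pow_mem (hN i) hi)
  have h5 := decompose_mem_of_mem_top_mul ℬ (mem_top_mul_of_mem_span ℬ hbJ) (n := n) (by omega)
  rwa [decompose_of_mem_same ℬ hb] at h5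

end Groth.Agent.Helper1.PI
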