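import Mathlib
import Groth.Agent.Helper1.PI4

/-!
# Algebraic core: eventually `ℬ n = ℬ 1 ^ n`
-/

set_option autoImplicit false
set_option linter.unusedSectionVars false

namespace Groth.Agent.Helper1.PI

open DirectSum HomogeneousLocalization

universe u

section gen

variable {R B : Type u} [CommRing R] [CommRing B] [Algebra R B] (ℬ : ℕ → Submodule R B)
  [GradedAlgebra ℬ]

/-- the graded pieces are finite over the degree zero part -/
theorem exists_finite_span [Algebra.FiniteType (ℬ 0) B] (n : ℕ) :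
    ∃ F : Set B, F.Finite ∧ F ⊆ ℬ n ∧ ∀ b ∈ ℬ n, b ∈ Submodule.span (ℬ 0) F := by
  classical
  obtain ⟨s, hs, hs'⟩ := GradedAlgebra.exists_finset_adjoin_eq_top_and_homogeneous_ne_zero ℬ
  have h1 : ∀ i : s, ∃ n : ℕ, n ≠ 0 ∧ (i : B) ∈ ℬ n := fun i => by
    obtain ⟨n, hn, hi⟩ := hs' i i.2
    exact ⟨n, hn, hi⟩
  choose dg hpos hdg using h1
  exact ⟨Mn s dg n, finite_Mn s dg hpos n, Mn_subset ℬ s dg hdg n,
    fun b hb => mem_span_Mn ℬ s dg hdg hs hb⟩

lemma pow_le_deg (n : ℕ) : ℬ 1 ^ n ≤ ℬ n := by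
  induction n with
  | zero =>
    rw [pow_zero, Submodule.one_le]
    exact SetLike.GradedOne.one_mem
  | succ n ih =>
    rw [pow_succ, Submodule.mul_le]
    intro x hx y hy
    exact SetLike.mul_mem_graded (ih hx) hy

lemma zero_mul_pow_le {n : ℕ} (hn : 1 ≤ n) : ℬ 0 * ℬ 1 ^ n ≤ ℬ 1 ^ n := by
  obtain ⟨k, rfl⟩ : ∃ k, n = k + 1 := ⟨n - 1, by omega⟩
  have h1 : ℬ 0 * ℬ 1 ≤ ℬ 1 := by
    rw [Submodule.mul_le]
    intro x hx y hy
    have := SetLike.mul_mem_graded hx hy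
    rwa [zero_add] at this
  rw [pow_succ', ← mul_assoc]
  exact mul_le_mul' h1 le_rfl

end gen

variable {R A B : Type u} [CommRing R] [CommRing A] [Algebra R A]
  {𝒜 : ℕ → Submodule R A} [GradedAlgebra 𝒜] [CommRing B] [Algebra R B] {ℬ : ℕ → Submodule R B}
  [GradedAlgebra ℬ] (φ : 𝒜 →+*ᵍ ℬ)

lemma map_pow_mem {n : ℕ} (hn : 1 ≤ n) {a : A} (ha : a ∈ 𝒜 1 ^ n) : φ a ∈ ℬ 1 ^ n := by
  apply zero_mul_pow_le ℬ hn
  refine Submodule.pow_induction_on_left' (𝒜 1) (C := fun n x _ => φ x ∈ ℬ 0 * ℬ 1 ^ n)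
    ?_ ?_ ?_ ha
  · intro r
    rw [pow_zero, mul_one]
    exact Graded.map_mem φ (SetLike.algebraMap_mem_graded 𝒜 r)
  · intro x y i _ _ hx hy
    rw [map_add]
    exact add_mem hx hy
  · intro m hm i x _ hx
    rw [map_mul, pow_succ', mul_left_comm]
    exact Submodule.mul_mem_mul (Graded.map_mem φ hm) hx

lemma exists_of_mem_range {n : ℕ} {b : B} (hb : b ∈ ℬ n) (hr : b ∈ Set.range φ) :
    ∃ a ∈ 𝒜 n, φ a = b := by
  obtain ⟨a', rfl⟩ := hr
  refine ⟨decompose 𝒜 a' n, (decompose 𝒜 a' n).2, ?_⟩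
  rw [GradedRingHom.map_directSumDecompose, decompose_of_mem_same ℬ hb]

variable (h0 : Set.BijOn φ (𝒜 0) (ℬ 0)) (h1 : Set.BijOn φ (𝒜 1) (ℬ 1))

include h0 in
lemma zero_mul_mem_range {c b : B} (hc : c ∈ ℬ 0) (hb : b ∈ Set.range φ) :
    c * b ∈ Set.range φ := by
  obtain ⟨c₀, -, rfl⟩ := h0.surjOn hc
  obtain ⟨a, rfl⟩ := hb
  exact ⟨c₀ * a, map_mul φ c₀ a⟩

/-- from surjectivity on a chart -/
lemma exists_pow_mul_mem_range {f : A} (hf : f ∈ 𝒜 1)
    (hsurj : Function.Surjective (Away.map φ f)) {Δ : ℕ} {m : B} (hm : m ∈ ℬ Δ) :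
    ∃ N : ℕ, φ f ^ N * m ∈ Set.range φ := by
  have hφf : φ f ∈ ℬ 1 := Graded.map_mem φ hf
  have hm' : m ∈ ℬ (Δ • 1) := by rwa [smul_eq_mul, mul_one]
  obtain ⟨w, hw⟩ := hsurj (Away.mk ℬ hφf Δ m hm')
  obtain ⟨k, a, ha, rfl⟩ := Away.mk_surjective 𝒜 hf w
  rw [Away.map_mk] at hw
  have h2 := congrArg HomogeneousLocalization.val hw
  rw [Away.val_mk, Away.val_mk, Localization.mk_eq_mk_iff, Localization.r_iff_exists] at h2
  obtain ⟨⟨c, N, rfl⟩, hc⟩ := h2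
  simp only at hc
  refine ⟨N + k, f ^ (N + Δ) * a, ?_⟩
  rw [map_mul, map_pow, pow_add, pow_add, mul_assoc, mul_assoc]
  exact hc

include h0 in
/-- a uniform exponent over a graded piece -/
lemma exists_pow_mul_mem_range_uniform [Algebra.FiniteType (ℬ 0) B] {f : A} (hf : f ∈ 𝒜 1)
    (hsurj : Function.Surjective (Away.map φ f)) (Δ : ℕ) :
    ∃ N : ℕ, ∀ m ∈ ℬ Δ, φ f ^ N * m ∈ Set.range φ := by
  classical
  obtain ⟨F, hFfin, hFsub, hFspan⟩ := exists_finite_span ℬ Δ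
  have h : ∀ m ∈ F, ∃ N : ℕ, φ f ^ N * m ∈ Set.range φ := fun m hm =>
    exists_pow_mul_mem_range φ hf hsurj (hFsub hm)
  choose! N hN using h
  refine ⟨hFfin.toFinset.sup N, fun m hm => ?_⟩
  let W : Submodule (ℬ 0) B :=
    { carrier := {m | φ f ^ (hFfin.toFinset.sup N) * m ∈ Set.range φ}
      add_mem' := fun {x y} hx hy => by
        obtain ⟨a, ha⟩ := hx
        obtain ⟨b, hb⟩ := hy
        exact ⟨a + b, by rw [map_add, ha, hb, mul_add]⟩
      zero_mem' := ⟨0, by rw [map_zero, mul_zero]⟩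
      smul_mem' := fun c x hx => by
        change φ f ^ _ * (c • x) ∈ Set.range φ
        rw [Algebra.smul_def, SetLike.GradeZero.algebraMap_apply, mul_left_comm]
        exact zero_mul_mem_range φ h0 c.2 hx }
  have hFW : Submodule.span (ℬ 0) F ≤ W := by
    rw [Submodule.span_le]
    intro m hm
    have hle : N m ≤ hFfin.toFinset.sup N := Finset.le_sup (hFfin.mem_toFinset.2 hm)
    obtain ⟨a, ha⟩ := hN m hm
    refine ⟨f ^ (hFfin.toFinset.sup N - N m) * a, ?_⟩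
    rw [map_mul, map_pow, ha, ← mul_assoc, ← pow_add, Nat.sub_add_cancel hle]
  exact hFW (hFspan m hm)

include h0 h1 in
lemma fg_span_one [Algebra.FiniteType (ℬ 0) B] (hφ : Function.Injective φ) :
    (Ideal.span (𝒜 1 : Set A)).FG := by
  classical
  obtain ⟨F, hFfin, hFsub, hFspan⟩ := exists_finite_span ℬ 1
  have h : ∀ m ∈ F, ∃ g ∈ 𝒜 1, φ g = m := fun m hm => h1.surjOn (hFsub hm)
  choose! g hg1 hg2 using h
  have heq : Ideal.span (𝒜 1 : Set A) = Ideal.span (g '' F) := by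
    apply le_antisymm
    · rw [Ideal.span_le]
      intro f hf
      let W : Submodule (ℬ 0) B :=
        { carrier := {b | ∃ a ∈ Ideal.span (g '' F), φ a = b}
          add_mem' := fun {x y} hx hy => by
            obtain ⟨a, ha, rfl⟩ := hx
            obtain ⟨b, hb, rfl⟩ := hy
            exact ⟨a + b, add_mem ha hb, map_add φ a b⟩
          zero_mem' := ⟨0, zero_mem _, map_zero φ⟩
          smul_mem' := fun c x hx => by
            obtain ⟨a, ha, rfl⟩ := hx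
            obtain ⟨c₀, -, hc₀⟩ := h0.surjOn c.2
            refine ⟨c₀ * a, Ideal.mul_mem_left _ _ ha, ?_⟩
            rw [map_mul, hc₀, Algebra.smul_def, SetLike.GradeZero.algebraMap_apply] }
      have hFW : Submodule.span (ℬ 0) F ≤ W := by
        rw [Submodule.span_le]
        intro m hm
        exact ⟨g m, Ideal.subset_span ⟨m, hm, rfl⟩, hg2 m hm⟩
      obtain ⟨a, ha, hfa⟩ := hFW (hFspan (φ f) (Graded.map_mem φ hf))
      rw [← hφ hfa]
      exact ha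
    · rw [Ideal.span_le]
      rintro _ ⟨m, hm, rfl⟩
      exact Ideal.subset_span (hg1 m hm)
  rw [heq]
  exact ⟨(hFfin.image g).toFinset, by rw [Set.Finite.coe_toFinset]⟩

include h0 h1 in
lemma exists_of_mem_pow {k : ℕ} {x : B} (hx : x ∈ ℬ 1 ^ k) :
    ∃ a ∈ Ideal.span (𝒜 1 : Set A) ^ k, φ a = x := by
  refine Submodule.pow_induction_on_left' (ℬ 1)
    (C := fun k x _ => ∃ a ∈ Ideal.span (𝒜 1 : Set A) ^ k, φ a = x) ?_ ?_ ?_ hx
  · intro r
    obtain ⟨a₀, -, ha₀⟩ := h0.surjOn (SetLike.algebraMap_mem_graded ℬ r)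
    exact ⟨a₀, by rw [pow_zero, Ideal.one_eq_top]; exact Submodule.mem_top, ha₀⟩
  · rintro x y i _ _ ⟨a, ha, rfl⟩ ⟨b, hb, rfl⟩
    exact ⟨a + b, add_mem ha hb, map_add φ a b⟩
  · rintro m hm i x _ ⟨a, ha, rfl⟩
    obtain ⟨g, hg, rfl⟩ := h1.surjOn hm
    refine ⟨g * a, ?_, map_mul φ g a⟩
    rw [pow_succ']
    exact Ideal.mul_mem_mul (Ideal.subset_span hg) ha

end Groth.Agent.Helper1.PI
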