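import Mathlib
import Groth.Agent.Helper1.PI5
import Groth.Agent.Helper1.PI2

/-!
# Eventually `ℬ n = ℬ 1 ^ n` when `Proj ℬ ⟶ Proj 𝒜` is an isomorphism
-/

set_option autoImplicit false
set_option linter.unusedSectionVars false

namespace Groth.Agent.Helper1.PI

open DirectSum HomogeneousLocalization CategoryTheory AlgebraicGeometry

universe u

variable {R A B : Type u} [CommRing R] [CommRing A] [Algebra R A]
  {𝒜 : ℕ → Submodule R A} [GradedAlgebra 𝒜] [CommRing B] [Algebra R B] {ℬ : ℕ → Submodule R B}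
  [GradedAlgebra ℬ] (φ : 𝒜 →+*ᵍ ℬ)

/-- **the algebraic core** -/
theorem eventually_eq_pow [Algebra.FiniteType (ℬ 0) B] (hφ : Function.Injective φ)
    (h0 : Set.BijOn φ (𝒜 0) (ℬ 0)) (h1 : Set.BijOn φ (𝒜 1) (ℬ 1))
    (hgen : ∀ n : ℕ, 1 ≤ n → 𝒜 n = 𝒜 1 ^ n)
    (H1 : ∀ n : ℕ, 0 < n → ∀ b ∈ ℬ n, b ∈ (Ideal.span (ℬ 1 : Set B)).radical)
    (H2 : ∀ f ∈ 𝒜 1, Function.Surjective (Away.map φ f)) :
    ∃ n₀ : ℕ, ∀ n : ℕ, n₀ ≤ n → ℬ n = ℬ 1 ^ n := by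
  obtain ⟨Δ, hΔ⟩ := exists_le_mul ℬ H1
  have ha : ∀ k : ℕ, ℬ (Δ + k) ≤ ℬ Δ * ℬ 1 ^ k := by
    intro k
    induction k with
    | zero => rw [pow_zero, mul_one, add_zero]
    | succ k ih =>
      calc ℬ (Δ + (k + 1)) ≤ ℬ (Δ + k) * ℬ 1 := hΔ (Δ + (k + 1)) (by omega)
        _ ≤ (ℬ Δ * ℬ 1 ^ k) * ℬ 1 := mul_le_mul' ih le_rfl
        _ = ℬ Δ * ℬ 1 ^ (k + 1) := by rw [mul_assoc, ← pow_succ]
  let I : Ideal A :=
    { carrier := {a | ∀ m ∈ ℬ Δ, φ a * m ∈ Set.range φ}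
      add_mem' := fun {x y} hx hy m hm => by
        obtain ⟨a, ha⟩ := hx m hm
        obtain ⟨b, hb⟩ := hy m hm
        exact ⟨a + b, by rw [map_add, map_add, ha, hb, add_mul]⟩
      zero_mem' := fun m _ => ⟨0, by rw [map_zero, zero_mul]⟩
      smul_mem' := fun c x hx m hm => by
        obtain ⟨a, ha⟩ := hx m hm
        exact ⟨c * a, by rw [smul_eq_mul, map_mul, map_mul, ha, mul_assoc]⟩ }
  have hrad : Ideal.span (𝒜 1 : Set A) ≤ I.radical := by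
    rw [Ideal.span_le]
    intro f hf
    obtain ⟨N, hN⟩ := exists_pow_mul_mem_range_uniform φ h0 hf (H2 f hf) Δ
    refine ⟨N, fun m hm => ?_⟩
    rw [map_pow]
    exact hN m hm
  obtain ⟨M, hM⟩ := Ideal.exists_pow_le_of_le_radical_of_fg hrad (fg_span_one φ h0 h1 hφ)
  refine ⟨Δ + M + 1, fun n hn => le_antisymm ?_ (pow_le_deg ℬ n)⟩
  obtain ⟨k, rfl, hk⟩ : ∃ k, n = Δ + k ∧ M ≤ k := ⟨n - Δ, by omega, by omega⟩
  refine (ha k).trans ?_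
  rw [Submodule.mul_le]
  intro m hm x hx
  obtain ⟨a, ha', rfl⟩ := exists_of_mem_pow φ h0 h1 hx
  have haI : a ∈ I := hM (Ideal.pow_le_pow_right hk ha')
  have h3 : φ a * m ∈ Set.range φ := haI m hm
  have h4 : φ a * m ∈ ℬ (Δ + k) := by
    rw [add_comm]
    exact SetLike.mul_mem_graded (pow_le_deg ℬ k hx) hm
  obtain ⟨a', ha'mem, ha'eq⟩ := exists_of_mem_range φ h4 h3
  rw [mul_comm, ← ha'eq]
  rw [hgen _ (by omega)] at ha'mem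
  exact map_pow_mem φ (by omega) ha'mem

/-- **the main theorem** -/
theorem main [Algebra.FiniteType (ℬ 0) B] (hφ : Function.Injective φ)
    (h0 : Set.BijOn φ (𝒜 0) (ℬ 0)) (h1 : Set.BijOn φ (𝒜 1) (ℬ 1))
    (hgen : ∀ n : ℕ, 1 ≤ n → 𝒜 n = 𝒜 1 ^ n)
    (hdom : PCone.dom φ = ⊤)
    (p : (PCone.dom φ : Scheme.{u}) ⟶ Proj 𝒜)
    (hp : ∀ (d : ℕ) (f : A) (hd : 0 < d) (hf : f ∈ 𝒜 d),
      PCone.chart φ hf hd ≫ p =
        Spec.map (CommRingCat.ofHom (HomogeneousLocalization.Away.map φ f)) ≫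
          Proj.awayι 𝒜 f hf hd)
    [IsIso p] :
    ∃ n₀ : ℕ, ∀ n : ℕ, n₀ ≤ n → ℬ n = ℬ 1 ^ n := by
  obtain ⟨e, he1, he2⟩ := exists_e φ hdom p hp
  have hcov := hcov_of_dom φ hdom
  refine eventually_eq_pow φ hφ h0 h1 hgen
    (fun n hn b hb => mem_radical_span φ hgen hcov hn hb)
    (fun f hf => (awayMap_bijective φ e he2 hcov Nat.one_pos hf).2)

end Groth.Agent.Helper1.PI
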