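import Mathlib

/-!
# Points of a fibre product are determined by their projections when one residue field
extension is universally injective (e.g. purely inseparable)
-/

universe u

open AlgebraicGeometry CategoryTheory Limits

namespace Groth.Agent.Helper1.PInsepPt

open AlgebraicGeometry.Scheme.Pullback

theorem subsingleton_Spec_tensor {X Y S : Scheme.{u}} {f : X ⟶ S} {g : Y ⟶ S}
    (T : Triplet f g)
    (hui : UniversallyInjective (Spec.map (g.residueFieldMap T.y))) :
    Subsingleton (Spec T.tensor) := by
  have hpb := T.isPullback_SpecMap_tensor
  haveI := hui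
  haveI : UniversallyInjective
      (Spec.map ((S.residueFieldCongr T.hy).inv ≫ g.residueFieldMap T.y)) := by
    rw [Spec.map_comp]
    exact MorphismProperty.comp_mem @UniversallyInjective _ _ hui inferInstance
  haveI : UniversallyInjective (Spec.map T.tensorInl) :=
    MorphismProperty.of_isPullback hpb.flip inferInstance
  have hinj : Function.Injective (Spec.map T.tensorInl) := (Spec.map T.tensorInl).injective
  haveI : Subsingleton (Spec (X.residueField T.x)) :=
    inferInstanceAs (Subsingleton (PrimeSpectrum (X.residueField T.x)))
  exact hinj.subsingleton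

theorem eq_of_fst_eq_of_snd_eq {X Y S : Scheme.{u}} (f : X ⟶ S) (g : Y ⟶ S)
    (t t' : ↑(pullback f g)) (h1 : pullback.fst f g t = pullback.fst f g t')
    (h2 : pullback.snd f g t = pullback.snd f g t')
    (hui : UniversallyInjective (Spec.map (g.residueFieldMap (pullback.snd f g t')))) :
    t = t' := by
  apply (carrierEquiv (f := f) (g := g)).injective
  rw [carrierEquiv_eq_iff]
  have e : Triplet.ofPoint t = Triplet.ofPoint t' := Triplet.ext h1 h2
  refine ⟨e, ?_⟩
  have hsub : Subsingleton (Spec (Triplet.ofPoint t').tensor) :=
    subsingleton_Spec_tensor (Triplet.ofPoint t') hui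
  exact @Subsingleton.elim (Spec (Triplet.ofPoint t').tensor) hsub _ _

end Groth.Agent.Helper1.PInsepPt
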