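import Mathlib
import Groth.Prelude.Def_ega3
import Groth.Agent.Helper1.SteinCount2
import Groth.Agent.Helper6.EtaWN

/-!
# The residue field extension at the generic point of the Stein factorisation is radicial
-/

universe u

open AlgebraicGeometry CategoryTheory TopologicalSpace

namespace Groth.Agent.Helper1.PInsepPt

theorem ringCrit {R A kR kA : Type u} [CommRing R] [CommRing A] [Field kR] [Field kA]
    (φ : R →+* A) (evR : R →+* kR) (evA : A →+* kA) (ρ : kR →+* kA)
    (hcomm : ρ.comp evR = evA.comp φ)
    (hepi : ∀ (K : Type u) [Field K] (h₁ h₂ : kA →+* K), h₁.comp evA = h₂.comp evA → h₁ = h₂)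
    (hinj : Function.Injective evA) (p : ℕ) [ExpChar A p]
    (hrel : ∀ a : A, ∃ (e : ℕ) (s r : R), φ s ≠ 0 ∧ φ s * a ^ (p ^ e) = φ r) :
    ∀ (K : Type u) [Field K] (h₁ h₂ : kA →+* K), h₁.comp ρ = h₂.comp ρ → h₁ = h₂ := by
  intro K _ h₁ h₂ h
  apply hepi
  ext a
  obtain ⟨e, s, r, hs, hrel⟩ := hrel a
  have hinj1 : Function.Injective (h₁.comp evA) := h₁.injective.comp hinj
  haveI : ExpChar K p := expChar_of_injective_ringHom hinj1 p
  have key : ∀ t : R, h₁ (evA (φ t)) = h₂ (evA (φ t)) := by
    intro t
    have h3 := RingHom.congr_fun h (evR t)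
    have hc := RingHom.congr_fun hcomm t
    simp only [RingHom.comp_apply] at h3 hc
    rw [← hc]; exact h3
  have h1 := congrArg (fun z => h₁ (evA z)) hrel
  have h2 := congrArg (fun z => h₂ (evA z)) hrel
  simp only [map_mul, map_pow] at h1 h2
  rw [key s, key r] at h1
  have hne : h₂ (evA (φ s)) ≠ 0 := by
    intro h0
    apply hs
    apply hinj
    apply h₂.injective
    rw [h0, map_zero, map_zero]
  have h4 : h₁ (evA a) ^ p ^ e = h₂ (evA a) ^ p ^ e := mul_left_cancel₀ hne (h1.trans h2.symm)
  exact iterateFrobenius_inj K p e h4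

theorem univInj_residueFieldMap_genericPoint {X Y : Scheme.{u}} [IsIntegral X] [IsIntegral Y]
    (f : X ⟶ Y) [UniversallyClosed f] [QuasiSeparated f]
    (hdom : f.base (genericPoint X) ⤳ genericPoint Y)
    (hrad : ∀ x : X.functionField,
      (∃ q : Polynomial Y.functionField, q ≠ 0 ∧
        Polynomial.eval₂ (CohIII.stalkToFunctionField f (genericPoint Y) hdom) x q = 0) →
      ∃ e : ℕ, x ^ (ringExpChar X.functionField ^ e) ∈
        Set.range (CohIII.stalkToFunctionField f (genericPoint Y) hdom)) :
    UniversallyInjective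
      (Spec.map (f.fromNormalization.residueFieldMap (genericPoint f.normalization))) := by
  classical
  let f' := f.toNormalization
  let ν := f.fromNormalization
  have w : f' ≫ ν = f := f.toNormalization_fromNormalization
  set η' := genericPoint f.normalization with hη'
  -- `ν η'` is the generic point of `Y`
  have hf'ξ : f' (genericPoint X) = η' := by
    have h1 : IsGenericPoint (f' (genericPoint X)) (closure (f' '' Set.univ)) :=
      (genericPoint_spec X).image f'.continuous
    rw [Set.image_univ, f'.denseRange.closure_range] at h1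
    exact ((genericPoint_spec f.normalization).eq h1).symm
  have hfξ : f (genericPoint X) = genericPoint Y :=
    (hdom.antisymm ((genericPoint_spec Y).specializes (Set.mem_univ _))).eq
  have hνη : ν η' = genericPoint Y := by
    rw [← hf'ξ, ← Scheme.Hom.comp_apply]
    have : (f' ≫ ν) (genericPoint X) = f (genericPoint X) := by rw [w]
    rw [this, hfξ]
  obtain ⟨_, ⟨V, hV : IsAffineOpen V, rfl⟩, hyV, -⟩ :=
    Y.isBasis_affineOpens.exists_subset_of_mem_open (Set.mem_univ (genericPoint Y)) isOpen_univ
  have hyV : genericPoint Y ∈ V := hyV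
  let W : f.normalization.Opens := ν ⁻¹ᵁ V
  have hW : IsAffineOpen W := hV.preimage ν
  have hη'W : η' ∈ W := by
    show ν η' ∈ V
    rw [hνη]; exact hyV
  have hνηV : ν η' ∈ V := hη'W
  have hξ : genericPoint X ∈ f' ⁻¹ᵁ W := by
    show f' (genericPoint X) ∈ W
    rw [hf'ξ]; exact hη'W
  let R : Type u := Γ(Y, V)
  let A : Type u := Γ(f.normalization, W)
  let φ : R →+* A := (ν.app V).hom
  let evR : R →+* Y.residueField (ν η') := (Y.evaluation V (ν η') hνηV).hom
  let evA : A →+* f.normalization.residueField η' := (f.normalization.evaluation W η' hη'W).hom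
  let ρ : Y.residueField (ν η') →+* f.normalization.residueField η' := (ν.residueFieldMap η').hom
  have hcomm : ρ.comp evR = evA.comp φ := by
    have := Scheme.evaluation_naturality ν η' hνηV
    exact congrArg CommRingCat.Hom.hom this
  -- `ρ₀ : A → K(X)`
  let ρ₀ : A →+* X.functionField :=
    (X.presheaf.germ (f' ⁻¹ᵁ W) (genericPoint X) hξ).hom.comp (f'.app W).hom
  have hρ₀inj : Function.Injective ρ₀ := by
    haveI := Groth.Agent.S1340.result f W
    have h1 : Function.Injective (f'.app W).hom :=
      ((ConcreteCategory.isIso_iff_bijective (f'.app W)).mp inferInstance).1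
    exact (germ_injective_of_isIntegral X (genericPoint X) hξ).comp h1
  let σ := CohIII.stalkToFunctionField f (genericPoint Y) hdom
  let g : R →+* Y.functionField := (Y.presheaf.germ V (genericPoint Y) hyV).hom
  have hσg : ∀ r : R, σ (g r) = ρ₀ (φ r) := fun r =>
    Groth.Agent.Helper1.SteinCount.stalkToFunctionField_germ f' ν f w (genericPoint Y) hdom V hyV r hξ
  have hginj : Function.Injective g := germ_injective_of_isIntegral Y (genericPoint Y) hyV
  have hσinj : Function.Injective σ := σ.injective
  -- epi property of evaluation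
  have hepi : ∀ (K : Type u) [Field K] (h₁ h₂ : f.normalization.residueField η' →+* K),
      h₁.comp evA = h₂.comp evA → h₁ = h₂ := by
    intro K _ h₁ h₂ h
    letI := f.normalization.presheaf.algebra_section_stalk ⟨η', hη'W⟩
    haveI := hW.isLocalization_stalk ⟨η', hη'W⟩
    have h3 : h₁.comp (f.normalization.residue η').hom = h₂.comp (f.normalization.residue η').hom := by
      apply IsLocalization.ringHom_ext (hW.primeIdealOf ⟨η', hη'W⟩).asIdeal.primeCompl
      exact h
    ext z
    obtain ⟨z', rfl⟩ := f.normalization.residue_surjective η' z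
    exact RingHom.congr_fun h3 z'
  -- injectivity of evaluation at the generic point
  have hevinj : Function.Injective evA := by
    have h1 : Function.Injective (f.normalization.presheaf.germ W η' hη'W).hom :=
      germ_injective_of_isIntegral f.normalization η' hη'W
    have h2 : Function.Injective (f.normalization.residue η').hom := by
      letI : Field (f.normalization.presheaf.stalk η') :=
        inferInstanceAs (Field f.normalization.functionField)
      exact RingHom.injective _
    exact h2.comp h1
  set p := ringExpChar X.functionField with hp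
  haveI : ExpChar X.functionField p := ringExpChar.expChar _
  haveI : ExpChar A p := RingHom.expChar ρ₀ hρ₀inj p
  -- the relation
  have hrel : ∀ a : A, ∃ (e : ℕ) (s r : R), φ s ≠ 0 ∧ φ s * a ^ (p ^ e) = φ r := by
    intro a
    have hint : φ.IsIntegralElem a := ν.isIntegral_app V hV a
    obtain ⟨P, hPmonic, hPa⟩ := hint
    have halg : ∃ q : Polynomial Y.functionField, q ≠ 0 ∧ Polynomial.eval₂ σ (ρ₀ a) q = 0 := by
      refine ⟨P.map g, (hPmonic.map g).ne_zero, ?_⟩
      rw [Polynomial.eval₂_map]
      have : σ.comp g = ρ₀.comp φ := RingHom.ext hσg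
      rw [this, ← Polynomial.hom_eval₂, hPa, map_zero]
    obtain ⟨e, u, hu⟩ := hrad (ρ₀ a) halg
    letI : Nonempty V := ⟨⟨genericPoint Y, hyV⟩⟩
    haveI := functionField_isFractionRing_of_isAffineOpen Y V hV
    obtain ⟨r, s, hs, hrs⟩ := IsFractionRing.div_surjective (A := R) u
    have hs0 : s ≠ 0 := nonZeroDivisors.ne_zero hs
    have hgs : g s ≠ 0 := fun h0 => hs0 (hginj (by rw [h0, map_zero]))
    have hgg : ∀ t : R, algebraMap R Y.functionField t = g t := fun t => rfl
    rw [hgg, hgg] at hrs
    have hu' : g s * u = g r := by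
      rw [← hrs]; field_simp
    refine ⟨e, s, r, ?_, ?_⟩
    · intro h0
      apply hgs
      apply hσinj
      rw [hσg, h0, map_zero, map_zero]
    · apply hρ₀inj
      rw [map_mul, map_pow, ← hσg, ← hσg, ← hu', map_mul]
      congr 1
      exact hu.symm
  have hcrit := ringCrit φ evR evA ρ hcomm hepi hevinj p hrel
  exact (Groth.Agent.Helper6.EtaWN.universallyInjective_SpecMap_iff ρ).mpr hcrit

end Groth.Agent.Helper1.PInsepPt
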