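import Groth.Agent.Helper1.ZCon5

set_option autoImplicit false

/-!
# `O_Y = f_* O_X` is preserved by flat base change (on affine opens)
-/

namespace Groth.Agent.Helper1.ZCon

open CategoryTheory Limits AlgebraicGeometry Opposite TopologicalSpace

universe u

theorem isIso_app_baseChange {X Y U : Scheme.{u}} (f : X ⟶ Y) [QuasiCompact f] [QuasiSeparated f]
    (g : U ⟶ Y) [Flat g] {V : Y.Opens} (hV : IsAffineOpen V) [hb : IsIso (f.app V)]
    {V' : U.Opens} (hV' : IsAffineOpen V') (hle : V' ≤ g ⁻¹ᵁ V) :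
    IsIso ((pullback.snd f g).app V') := by
  have H : IsPullback (pullback.fst f g) (pullback.snd f g) f g := IsPullback.of_hasPullback f g
  have hUSX : f ⁻¹ᵁ V ≤ f ⁻¹ᵁ V := le_rfl
  have hle' : (pullback.snd f g) ⁻¹ᵁ V' ≤ (pullback.fst f g) ⁻¹ᵁ (f ⁻¹ᵁ V) := by
    rw [← Scheme.Hom.comp_preimage, H.w, Scheme.Hom.comp_preimage]
    exact (pullback.snd f g).preimage_mono hle
  have hUY : (pullback.snd f g) ⁻¹ᵁ V' =
      (pullback.fst f g) ⁻¹ᵁ (f ⁻¹ᵁ V) ⊓ (pullback.snd f g) ⁻¹ᵁ V' :=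
    (inf_eq_right.mpr hle').symm
  have hc : IsCompact (f ⁻¹ᵁ V : Set X) :=
    QuasiCompact.isCompact_preimage (f := f) _ V.isOpen hV.isCompact
  have hq : IsQuasiSeparated (f ⁻¹ᵁ V : Set X) := f.isQuasiSeparated_preimage hV.isQuasiSeparated
  haveI h1 := isIso_pushoutSection_of_isQuasiSeparated_of_flat_right H hle hUSX hUY hV hV' hc hq
  haveI : IsIso (f.appLE V (f ⁻¹ᵁ V) hUSX) := by
    rw [Scheme.Hom.appLE_eq_app]
    exact hb
  have h2 : (pullback.snd f g).appLE V' ((pullback.snd f g) ⁻¹ᵁ V') le_rfl =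
      pushout.inr (f.appLE V (f ⁻¹ᵁ V) hUSX) (g.appLE V V' hle) ≫
        pushoutSection H hle hUSX hUY := by
    rw [pushout.inr_desc]
  rw [← Scheme.Hom.appLE_eq_app, h2]
  infer_instance

end Groth.Agent.Helper1.ZCon
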