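import Mathlib
import Groth.Prelude.Def_ega3
import Groth.Agent.Helper1.PInsepPt1
import Groth.Agent.Helper1.PInsepPt2
import Groth.Agent.Lead.ProperFinB
import Groth.Agent.S2431

/-!
# Universal injectivity of the finite part of the Stein factorisation and geometric
connectedness of fibres (EGA III 4.3.x / IV 15.5.x style)
-/

universe u

open AlgebraicGeometry CategoryTheory Limits TopologicalSpace MorphismProperty

namespace Groth.Agent.Helper1.PInsepPt

/-- Composition of a geometrically connected morphism with a universally injective surjective
morphism is geometrically connected. -/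
theorem geometricallyConnected_comp_of_universallyInjective {X Y' Y : Scheme.{u}} (f' : X ⟶ Y')
    (ν : Y' ⟶ Y) [GeometricallyConnected f'] [UniversallyInjective ν] [Surjective ν] :
    GeometricallyConnected (f' ≫ ν) := by
  refine ⟨geometrically_iff_of_isClosedUnderIsomorphisms.mpr fun K _ x ↦ ?_⟩
  rw [← (pullbackRightPullbackFstIso ν x f').hom.homeomorph.connectedSpace_iff]
  haveI : UniversallyInjective (pullback.snd ν x) :=
    MorphismProperty.pullback_snd _ _ inferInstance
  haveI : Subsingleton ↥(Spec (CommRingCat.of K)) :=
    inferInstanceAs (Subsingleton (PrimeSpectrum K))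
  haveI : Subsingleton ↥(pullback ν x) := (pullback.snd ν x).injective.subsingleton
  haveI : Nonempty ↥(Spec (CommRingCat.of K)) :=
    inferInstanceAs (Nonempty (PrimeSpectrum K))
  haveI : Nonempty ↥(pullback ν x) := by
    obtain ⟨a, -⟩ := (pullback.snd ν x).surjective (Classical.arbitrary _)
    exact ⟨a⟩
  exact GeometricallyConnected.connectedSpace_of_subsingleton
    (pullback.snd f' (pullback.fst ν x))

end Groth.Agent.Helper1.PInsepPt
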