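import Mathlib
import Groth.Prelude.Def_ega3
import Groth.Agent.Helper1.PInsepPt3

/-!
# Universal injectivity of `Y' → Y` in the Stein factorisation of a "universally open" proper
morphism whose function field extension has purely inseparable algebraic part
-/

universe u

open AlgebraicGeometry CategoryTheory Limits TopologicalSpace MorphismProperty

namespace Groth.Agent.Helper1.PInsepPt

theorem universallyInjective_fromNormalization {X Y : Scheme.{u}}
    [IsIntegral X] [IsIntegral Y] [IsLocallyNoetherian Y] (f : X ⟶ Y) [IsProper f]
    (hdom : f.base (genericPoint X) ⤳ genericPoint Y)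
    (hopen : ∀ (Y' : Scheme.{u}) (g : Y' ⟶ Y), IrreducibleSpace ↥Y' → IsLocallyNoetherian Y' →
      IsDominant g → ∀ Z ∈ irreducibleComponents ↥(pullback f g), Dense ((pullback.snd f g).base '' Z))
    (hrad : ∀ x : X.functionField,
      (∃ q : Polynomial Y.functionField, q ≠ 0 ∧
        Polynomial.eval₂ (CohIII.stalkToFunctionField f (genericPoint Y) hdom) x q = 0) →
      ∃ e : ℕ, x ^ (ringExpChar X.functionField ^ e) ∈
        Set.range (CohIII.stalkToFunctionField f (genericPoint Y) hdom)) :
    UniversallyInjective f.fromNormalization ∧ Surjective f.fromNormalization ∧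
      GeometricallyConnected f.toNormalization := by
  classical
  let f' := f.toNormalization
  let ν := f.fromNormalization
  have w : f' ≫ ν = f := f.toNormalization_fromNormalization
  haveI : IsFinite ν := Groth.Agent.Lead.ProperFinB.main f
  haveI : IsLocallyNoetherian f.normalization := LocallyOfFiniteType.isLocallyNoetherian ν
  haveI : IsProper (f' ≫ ν) := by rw [w]; infer_instance
  haveI : IsProper f' := IsProper.of_comp f' ν
  haveI hGC : GeometricallyConnected f' :=
    (Groth.Agent.S2431.result f' (fun U => Groth.Agent.S1340.result f U)).2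
  haveI : Surjective f' := inferInstance
  set η' := genericPoint f.normalization with hη'
  have hui := univInj_residueFieldMap_genericPoint f hdom hrad
  have hfξ : f (genericPoint X) = genericPoint Y :=
    (hdom.antisymm ((genericPoint_spec Y).specializes (Set.mem_univ _))).eq
  -- `f` and `ν` are dominant
  haveI hfdom : IsDominant f := by
    refine ⟨?_⟩
    have h1 : genericPoint Y ∈ Set.range f := ⟨genericPoint X, hfξ⟩
    have h2 : closure ({genericPoint Y} : Set Y) ⊆ closure (Set.range f) :=
      closure_mono (Set.singleton_subset_iff.mpr h1)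
    rw [(genericPoint_spec Y).def] at h2
    exact dense_iff_closure_eq.mpr (Set.univ_subset_iff.mp h2)
  haveI : IsDominant (f' ≫ ν) := by rw [w]; exact hfdom
  haveI hνdom : IsDominant ν := IsDominant.of_comp f' ν
  haveI hνsurj : Surjective ν := by
    refine ⟨fun y => ?_⟩
    have hcl : IsClosed (Set.range ν) := ν.isClosedMap.isClosed_range
    have : Set.range ν = Set.univ := by
      rw [← hcl.closure_eq]; exact ν.denseRange.closure_range
    have hy : y ∈ Set.range ν := by rw [this]; trivial
    exact hy
  -- the graph
  let Γ : X ⟶ pullback f ν := pullback.lift (𝟙 X) f' (by rw [Category.id_comp, w])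
  have hΓfst : Γ ≫ pullback.fst f ν = 𝟙 X := pullback.lift_fst _ _ _
  have hΓsnd : Γ ≫ pullback.snd f ν = f' := pullback.lift_snd _ _ _
  haveI : IsClosedImmersion (Γ ≫ pullback.fst f ν) := by rw [hΓfst]; infer_instance
  haveI : IsClosedImmersion Γ := IsClosedImmersion.of_comp Γ (pullback.fst f ν)
  have hΓcl : IsClosed (Set.range Γ) := Γ.isClosedEmbedding.isClosed_range
  have hΓsurj : ∀ z : ↥(pullback f ν), z ∈ Set.range Γ := by
    intro z
    have hZ : irreducibleComponent z ∈ irreducibleComponents ↥(pullback f ν) :=
      irreducibleComponent_mem_irreducibleComponents z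
    have hZirr : IsIrreducible (irreducibleComponent z) := isIrreducible_irreducibleComponent
    have hZcl : IsClosed (irreducibleComponent z) := isClosed_irreducibleComponent
    obtain ⟨ζ, hζ⟩ := QuasiSober.sober hZirr hZcl
    have hdense := hopen f.normalization ν inferInstance inferInstance hνdom _ hZ
    have hsnd : pullback.snd f ν ζ = η' := by
      have h1 : IsGenericPoint (pullback.snd f ν ζ)
          (closure ((pullback.snd f ν) '' irreducibleComponent z)) :=
        hζ.image (pullback.snd f ν).continuous
      rw [hdense.closure_eq] at h1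
      exact ((genericPoint_spec f.normalization).eq h1).symm
    set x := pullback.fst f ν ζ with hx
    have hf'x : f' x = η' := by
      have hcond : f x = ν (pullback.snd f ν ζ) := by
        have := congrArg (fun g : pullback f ν ⟶ Y => g.base ζ) (pullback.condition (f := f) (g := ν))
        simpa using this
      have hνf' : ν (f' x) = ν η' := by
        rw [← hsnd, ← hcond, ← Scheme.Hom.comp_apply]
        have : (f' ≫ ν) x = f x := by rw [w]
        exact this
      haveI : DiscreteTopology ↥(ν ⁻¹' {ν η'}) :=
        (ν.isDiscrete_preimage_singleton (ν η')).to_subtype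
      have hspec : η' ⤳ f' x := (genericPoint_spec f.normalization).specializes (Set.mem_univ _)
      have hspec' : (⟨η', rfl⟩ : ↥(ν ⁻¹' {ν η'})) ⤳ ⟨f' x, hνf'⟩ :=
        (Topology.IsInducing.subtypeVal.specializes_iff).mp hspec
      have := hspec'.eq
      exact (congrArg Subtype.val this).symm
    have h1 : pullback.fst f ν (Γ x) = pullback.fst f ν ζ := by
      rw [← Scheme.Hom.comp_apply, hΓfst]; rfl
    have h2 : pullback.snd f ν (Γ x) = pullback.snd f ν ζ := by
      rw [← Scheme.Hom.comp_apply, hΓsnd, hsnd, hf'x]
    have hui' : UniversallyInjective (Spec.map (ν.residueFieldMap (pullback.snd f ν ζ))) := by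
      rw [hsnd]; exact hui
    have hζΓ : Γ x = ζ := eq_of_fst_eq_of_snd_eq f ν (Γ x) ζ h1 h2 hui'
    have hζmem : ζ ∈ Set.range Γ := ⟨x, hζΓ⟩
    have hzZ : z ∈ irreducibleComponent z := mem_irreducibleComponent
    have hspec : ζ ⤳ z := hζ.specializes hzZ
    exact hspec.mem_closed hΓcl hζmem
  -- the base change of `f'`
  let m : pullback f ν ⟶ pullback ν ν :=
    pullback.map f ν ν ν f' (𝟙 _) (𝟙 _) (by rw [Category.comp_id, w]) (by simp)
  have hm1 : m ≫ pullback.fst ν ν = pullback.fst f ν ≫ f' := pullback.lift_fst _ _ _
  have hm2 : m ≫ pullback.snd ν ν = pullback.snd f ν := by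
    dsimp only [m, pullback.map]
    rw [pullback.lift_snd, Category.comp_id]
  have hsq : IsPullback m (pullback.fst f ν) (pullback.fst ν ν) f' := by
    refine IsPullback.of_right ?_ hm1 (IsPullback.of_hasPullback ν ν).flip
    rw [hm2, w]
    exact (IsPullback.of_hasPullback f ν).flip
  haveI : Surjective m := MorphismProperty.of_isPullback (P := @Surjective) hsq.flip inferInstance
  have hΓm : Γ ≫ m = f' ≫ pullback.diagonal ν := by
    apply pullback.hom_ext
    · rw [Category.assoc, hm1, ← Category.assoc, hΓfst, Category.id_comp, Category.assoc,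
        pullback.diagonal_fst, Category.comp_id]
    · rw [Category.assoc, hm2, hΓsnd, Category.assoc, pullback.diagonal_snd, Category.comp_id]
  have hΔ : Surjective (pullback.diagonal ν) := by
    refine ⟨fun p => ?_⟩
    obtain ⟨q, rfl⟩ := m.surjective p
    obtain ⟨x, rfl⟩ := hΓsurj q
    refine ⟨f' x, ?_⟩
    rw [← Scheme.Hom.comp_apply, ← Scheme.Hom.comp_apply, hΓm]
  exact ⟨(UniversallyInjective.iff_diagonal ν).mpr hΔ, hνsurj, hGC⟩

end Groth.Agent.Helper1.PInsepPt
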