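import Mathlib
import Groth.Agent.Helper1.PL1
import Groth.Agent.Helper1.SP3
import Groth.Agent.Helper1.VX1
import Groth.Agent.Helper1.RP19
import Groth.Agent.Helper1.IM3

/-!
# `Proj(𝒜[T]) ≅ Spec(𝒜)`: the local isomorphisms and their gluing
-/

set_option autoImplicit false
set_option linter.style.haveILetI false

namespace Groth.Agent.Helper1.PJ

open CategoryTheory Limits AlgebraicGeometry TopologicalSpace Opposite RelSpec RelProj
  HomogeneousLocalization
open Groth.Agent.Helper1.RP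
open scoped HomogeneousIdeal

universe u

noncomputable section

variable {Y : Scheme.{u}} (𝒜 : RelSpec.QCAlg Y) (Sh : RelProj.QCGrAlg Y)
  (ι : 𝒜 ⟶ Sh.toQCAlg)
  (hι : ∀ (U : Y.Opens) (hU : IsAffineOpen U) (a : 𝒜.presheaf.obj (op U)),
    (ι.hom.app (op U)).hom a ∈ Sh.deg U hU 0)

/-- `ι` as a map into the degree-zero subring -/
def iotaZero (U : Y.Opens) (hU : IsAffineOpen U) :
    𝒜.presheaf.obj (op U) ⟶ CommRingCat.of (Sh.deg U hU 0) :=
  CommRingCat.ofHom
    { toFun := fun a => ⟨(ι.hom.app (op U)).hom a, hι U hU a⟩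
      map_one' := Subtype.ext (map_one _)
      map_mul' := fun a b => Subtype.ext (map_mul _ a b)
      map_zero' := Subtype.ext (map_zero _)
      map_add' := fun a b => Subtype.ext (map_add _ a b) }

theorem iotaZero_apply_coe (U : Y.Opens) (hU : IsAffineOpen U) (a : 𝒜.presheaf.obj (op U)) :
    ((iotaZero 𝒜 Sh ι hι U hU).hom a : Sh.presheaf.obj (op U)) = (ι.hom.app (op U)).hom a := rfl

/-- the structure morphism `Proj Ŝ(U) ⟶ Spec 𝒜(U)` -/
def tau (U : Y.Opens) (hU : IsAffineOpen U) :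
    Proj (Sh.deg U hU) ⟶ Spec (𝒜.presheaf.obj (op U)) :=
  Proj.toSpecZero (Sh.deg U hU) ≫ Spec.map (iotaZero 𝒜 Sh ι hι U hU)

theorem str_comp_iotaZero (U : Y.Opens) (hU : IsAffineOpen U) :
    𝒜.str.app (op U) ≫ iotaZero 𝒜 Sh ι hι U hU = Sh.strZero U hU := by
  ext c
  have h := congrArg (fun t => (t.app (op U)).hom c) ι.comm
  exact h

theorem tau_str (U : Y.Opens) (hU : IsAffineOpen U) :
    tau 𝒜 Sh ι hι U hU ≫ Spec.map (𝒜.str.app (op U)) ≫ hU.fromSpec = str Sh U hU := by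
  unfold tau str
  rw [Category.assoc, ← Spec.map_comp_assoc, str_comp_iotaZero]

theorem tau_res (U : Y.Opens) (hU : IsAffineOpen U) (r : Γ(Y, U)) :
    Proj.map (Sh.res hU (hU.basicOpen r) (Y.basicOpen_le r)) (Sh.irrelevant_le_map U hU r) ≫
        tau 𝒜 Sh ι hι U hU =
      tau 𝒜 Sh ι hι (Y.basicOpen r) (hU.basicOpen r) ≫
        Spec.map (𝒜.presheaf.map (homOfLE (Y.basicOpen_le r)).op) := by
  unfold tau
  rw [reassoc_of% map_toSpecZero, Category.assoc, ← Spec.map_comp, ← Spec.map_comp]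
  congr 2
  ext a
  have h := congrArg (fun t => t.hom a) (ι.hom.naturality (homOfLE (Y.basicOpen_le r)).op)
  exact h.symm

variable (z : Sh.presheaf.obj (op ⊤))
  (hz : ∀ (U : Y.Opens) (hU : IsAffineOpen U),
    (Sh.presheaf.map (homOfLE le_top).op).hom z ∈ Sh.deg U hU 1)
  (hpoly : ∀ (U : Y.Opens) (hU : IsAffineOpen U),
    Function.Bijective (Polynomial.eval₂RingHom (ι.hom.app (op U)).hom
      ((Sh.presheaf.map (homOfLE le_top).op).hom z)))

include hz hpoly in
theorem isIso_tau (U : Y.Opens) (hU : IsAffineOpen U) : IsIso (tau 𝒜 Sh ι hι U hU) :=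
  Groth.Agent.Helper1.PL.isIso_toSpecZero_comp (ι.hom.app (op U)).hom
    ((Sh.presheaf.map (homOfLE le_top).op).hom z) (hz U hU) (iotaZero 𝒜 Sh ι hι U hU).hom
    (fun _ => rfl) (hpoly U hU)

end

end Groth.Agent.Helper1.PJ
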