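import Mathlib
import Groth.Agent.Helper1.PJ1

/-!
# `Proj(𝒜[T]) ≅ Spec(𝒜)`: gluing the local isomorphisms
-/

set_option autoImplicit false
set_option linter.style.haveILetI false

namespace Groth.Agent.Helper1.PJ

open CategoryTheory Limits AlgebraicGeometry TopologicalSpace Opposite RelSpec RelProj
  HomogeneousLocalization
open Groth.Agent.Helper1.RP
open scoped HomogeneousIdeal

universe u

noncomputable section

variable {Y : Scheme.{u}} (𝒜 : RelSpec.QCAlg Y) (Sh : RelProj.QCGrAlg Y)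
  (ι : 𝒜 ⟶ Sh.toQCAlg)
  (hι : ∀ (U : Y.Opens) (hU : IsAffineOpen U) (a : 𝒜.presheaf.obj (op U)),
    (ι.hom.app (op U)).hom a ∈ Sh.deg U hU 0)
  (z : Sh.presheaf.obj (op ⊤))
  (hz : ∀ (U : Y.Opens) (hU : IsAffineOpen U),
    (Sh.presheaf.map (homOfLE le_top).op).hom z ∈ Sh.deg U hU 1)
  (hpoly : ∀ (U : Y.Opens) (hU : IsAffineOpen U),
    Function.Bijective (Polynomial.eval₂RingHom (ι.hom.app (op U)).hom
      ((Sh.presheaf.map (homOfLE le_top).op).hom z)))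

/-- `τ_U` as an isomorphism -/
def tauIso (U : Y.Opens) (hU : IsAffineOpen U) :
    Proj (Sh.deg U hU) ≅ Spec (𝒜.presheaf.obj (op U)) :=
  @asIso _ _ _ _ (tau 𝒜 Sh ι hι U hU) (isIso_tau 𝒜 Sh ι hι z hz hpoly U hU)

theorem tauIso_hom (U : Y.Opens) (hU : IsAffineOpen U) :
    (tauIso 𝒜 Sh ι hι z hz hpoly U hU).hom = tau 𝒜 Sh ι hι U hU := rfl

/-- the identity `Spec(θ) ≫ awayι = τ⁻¹` -/
theorem specMap_theta_awayι (U : Y.Opens) (hU : IsAffineOpen U)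
    (θ : CommRingCat.of (HomogeneousLocalization.Away (Sh.deg U hU)
        ((Sh.presheaf.map (homOfLE le_top).op).hom z)) ⟶ 𝒜.presheaf.obj (op U))
    (hθ : ∀ (q : HomogeneousLocalization.Away (Sh.deg U hU)
        ((Sh.presheaf.map (homOfLE le_top).op).hom z))
      (k : ℕ) (a : 𝒜.presheaf.obj (op U)),
        q.val = Localization.mk ((ι.hom.app (op U)).hom a *
            (Sh.presheaf.map (homOfLE le_top).op).hom z ^ k)
          ⟨(Sh.presheaf.map (homOfLE le_top).op).hom z ^ k,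
            pow_mem (Submonoid.mem_powers ((Sh.presheaf.map (homOfLE le_top).op).hom z)) k⟩ →
        θ.hom q = a) :
    Spec.map θ ≫ Proj.awayι (Sh.deg U hU) ((Sh.presheaf.map (homOfLE le_top).op).hom z)
        (hz U hU) one_pos = (tauIso 𝒜 Sh ι hι z hz hpoly U hU).inv := by
  rw [← cancel_mono (tauIso 𝒜 Sh ι hι z hz hpoly U hU).hom, Iso.inv_hom_id, tauIso_hom]
  unfold tau
  rw [Category.assoc, Proj.awayι_toSpecZero_assoc, ← Spec.map_comp, ← Spec.map_comp]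
  have h1 : iotaZero 𝒜 Sh ι hι U hU ≫
      CommRingCat.ofHom (fromZeroRingHom (Sh.deg U hU)
        (Submonoid.powers ((Sh.presheaf.map (homOfLE le_top).op).hom z))) ≫ θ = 𝟙 _ := by
    ext a
    apply hθ _ 0 a
    show (fromZeroRingHom (Sh.deg U hU) _ ((iotaZero 𝒜 Sh ι hι U hU).hom a)).val = _
    simp only [fromZeroRingHom, RingHom.coe_mk, MonoidHom.coe_mk, OneHom.coe_mk,
      HomogeneousLocalization.val_mk, pow_zero, mul_one]
    rfl
  rw [Category.assoc, h1, Spec.map_id]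

variable {P : Scheme.{u}} {p : P ⟶ Y}
  {chart : ∀ (U : Y.Opens) (hU : IsAffineOpen U),
    (((p ⁻¹ᵁ U : P.Opens) : Scheme.{u}) ≅ Proj (Sh.deg U hU))}

/-- the local pieces of `Spec(𝒜) ⟶ Proj(𝒜[T])` -/
def piece (p : P ⟶ Y) (chart : ∀ (U : Y.Opens) (hU : IsAffineOpen U),
      (((p ⁻¹ᵁ U : P.Opens) : Scheme.{u}) ≅ Proj (Sh.deg U hU)))
    (U : Y.Opens) (hU : IsAffineOpen U) :
    ((𝒜.π ⁻¹ᵁ U : 𝒜.spec.Opens) : Scheme.{u}) ⟶ P :=
  (SP.chartIso 𝒜 U hU).inv ≫ (tauIso 𝒜 Sh ι hι z hz hpoly U hU).inv ≫ emb p chart U hU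

theorem chartIso_res (U : Y.Opens) (hU : IsAffineOpen U) (r : Γ(Y, U)) :
    𝒜.spec.homOfLE (𝒜.π.preimage_mono (Y.basicOpen_le r)) ≫ (SP.chartIso 𝒜 U hU).inv =
      (SP.chartIso 𝒜 (Y.basicOpen r) (hU.basicOpen r)).inv ≫
        Spec.map (𝒜.presheaf.map (homOfLE (Y.basicOpen_le r)).op) := by
  rw [Iso.comp_inv_eq, Category.assoc, Iso.eq_inv_comp]
  rw [← cancel_mono (𝒜.π ⁻¹ᵁ U).ι, Category.assoc, Category.assoc, SP.chartIso_hom_ι,
    Scheme.homOfLE_ι, SP.chartIso_hom_ι]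
  exact (VX.ι_res_le 𝒜 hU r (hU.basicOpen r) rfl (Y.basicOpen_le r)).symm

theorem piece_res (hP : IsRelProj Sh p chart) (U : Y.Opens) (hU : IsAffineOpen U) (r : Γ(Y, U)) :
    𝒜.spec.homOfLE (𝒜.π.preimage_mono (Y.basicOpen_le r)) ≫
        piece 𝒜 Sh ι hι z hz hpoly p chart U hU =
      piece 𝒜 Sh ι hι z hz hpoly p chart (Y.basicOpen r) (hU.basicOpen r) := by
  unfold piece
  rw [reassoc_of% chartIso_res 𝒜 U hU r]
  congr 1
  have h1 : Spec.map (𝒜.presheaf.map (homOfLE (Y.basicOpen_le r)).op) ≫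
      (tauIso 𝒜 Sh ι hι z hz hpoly U hU).inv =
      (tauIso 𝒜 Sh ι hι z hz hpoly (Y.basicOpen r) (hU.basicOpen r)).inv ≫
        Proj.map (Sh.res hU (hU.basicOpen r) (Y.basicOpen_le r)) (Sh.irrelevant_le_map U hU r) := by
    rw [Iso.comp_inv_eq, Category.assoc, Iso.eq_inv_comp, tauIso_hom, tauIso_hom]
    exact (tau_res 𝒜 Sh ι hι U hU r).symm
  rw [reassoc_of% h1, map_res_emb hP U hU r]

end

end Groth.Agent.Helper1.PJ
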