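import Mathlib
import Groth.Agent.Helper1.PL10

/-!
# Dominance of `r_{L,ψ}`, part 2
-/

set_option autoImplicit false
set_option linter.style.haveILetI false

namespace Groth.Agent.Helper1.PL

open CategoryTheory Limits AlgebraicGeometry TopologicalSpace Opposite RelSpec RelProj
  HomogeneousLocalization
open Groth.Agent.Helper1.RP
open scoped HomogeneousIdeal

universe u

noncomputable section

variable {X : Scheme.{u}} {𝒮L : QCGrAlg X} {n : ℕ} (w : Fam 𝒮L n)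
  {PL : Scheme.{u}} {pL : PL ⟶ X}
  {chartL : ∀ (U : X.Opens) (hU : IsAffineOpen U),
    (((pL ⁻¹ᵁ U : PL.Opens) : Scheme.{u}) ≅ Proj (𝒮L.deg U hU))}

/-- on the non-vanishing locus the family is nowhere nilpotent -/
theorem not_isNilpotent_of_mem_locus (hPL : IsRelProj 𝒮L pL chartL) (z : PL)
    (hz : z ∈ locus w pL chartL) (V : X.Opens) (hV : IsAffineOpen V) (hzV : pL z ∈ V) :
    ¬ IsNilpotent (w.w V hV) := by
  have h1 : z ∈ piece w pL chartL V hV := by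
    rw [← locus_inf_preimage w hPL V hV]; exact ⟨hz, hzV⟩
  obtain ⟨y, hy, -⟩ := h1
  exact not_isNilpotent_of_mem_basicOpen (𝒮L.deg V hV) y hy

variable {L : X.Modules} [L.IsQuasicoherent] {j : L ⟶ 𝒮L.toModule} (hj : IsGrSymAlg L 𝒮L j)

include hj in
/-- a family which is not nilpotent near a point has a non-empty non-vanishing locus -/
theorem exists_mem_locus (hL : PicF.IsInvertible L) (hPL : IsRelProj 𝒮L pL chartL) (hn : 0 < n)
    (hsurj : Function.Surjective pL) (x₀ : X)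
    (hx₀ : ∀ (V : X.Opens) (hV : IsAffineOpen V), x₀ ∈ V → ¬ IsNilpotent (w.w V hV)) :
    ∃ z : PL, z ∈ locus w pL chartL := by
  obtain ⟨_, ⟨V, hV, rfl⟩, hxV, -⟩ :=
    X.isBasis_affineOpens.exists_subset_of_mem_open (Set.mem_univ x₀) isOpen_univ
  obtain ⟨g, hxg, ⟨F⟩⟩ := exists_frame_basicOpen L hL hV x₀ hxV
  obtain ⟨a, ha⟩ := F.exists_eq hj (hV.basicOpen g) (w.mem _ (hV.basicOpen g))
  have hnil : ¬ IsNilpotent a := by
    rintro ⟨k, hk⟩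
    apply hx₀ _ (hV.basicOpen g) hxg
    refine ⟨k, ?_⟩
    rw [ha, mul_pow, ← map_pow, hk, map_zero, zero_mul]
  obtain ⟨x₁, hx₁⟩ := exists_mem_basicOpen_of_not_isNilpotent (hV.basicOpen g) a hnil
  obtain ⟨z, rfl⟩ := hsurj x₁
  refine ⟨z, ?_⟩
  rw [locus_eq_preimage w hj hL hPL hn]
  exact Opens.mem_iSup.mpr ⟨⟨⟨X.basicOpen a, (hV.basicOpen g).basicOpen a⟩,
    isGenAt_basicOpen_of_frame w hj (hV.basicOpen g) F a ha⟩, hx₁⟩

end

section dominant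

variable {X Y : Scheme.{u}} {q : X ⟶ Y} {𝒮 : QCGrAlg Y} {𝒮L : QCGrAlg X}
  (u : QGrHom q 𝒮 𝒮L) (hY : IsAffineOpen (⊤ : Y.Opens))
  {P : Scheme.{u}} {p : P ⟶ Y}
  {chart : ∀ (U : Y.Opens) (hU : IsAffineOpen U),
    (((p ⁻¹ᵁ U : P.Opens) : Scheme.{u}) ≅ Proj (𝒮.deg U hU))}
  {PL : Scheme.{u}} {pL : PL ⟶ X}
  {chartL : ∀ (U : X.Opens) (hU : IsAffineOpen U),
    (((pL ⁻¹ᵁ U : PL.Opens) : Scheme.{u}) ≅ Proj (𝒮L.deg U hU))}

/-- `r_{L,ψ}` is dominant iff every non-empty `D_+(f)` has non-empty preimage -/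
theorem isDominant_iff_locus (hPL : IsRelProj 𝒮L pL chartL)
    {r : ((domQ u pL chartL : PL.Opens) : Scheme.{u}) ⟶ P}
    (hr : IsProjQMapOn u p chart pL chartL (domQ u pL chartL) r) :
    IsDominant r ↔ ∀ (d : ℕ) (_ : 0 < d) (f : 𝒮.presheaf.obj (op ⊤)) (hf : f ∈ 𝒮.deg ⊤ hY d),
      (∃ y : Proj (𝒮.deg ⊤ hY), y ∈ Proj.basicOpen (𝒮.deg ⊤ hY) f) →
        ∃ z : PL, z ∈ locus (famOf u hY f hf) pL chartL := by
  constructor
  · intro hdom d hd f hf ⟨y, hy⟩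
    have hdense : DenseRange r := hdom.denseRange
    have hW : ((emb p chart ⊤ hY ''ᵁ Proj.basicOpen (𝒮.deg ⊤ hY) f : P.Opens) : Set P).Nonempty :=
      ⟨emb p chart ⊤ hY y, y, hy, rfl⟩
    obtain ⟨_, hxW, x, rfl⟩ := hdense.inter_open_nonempty _
      (emb p chart ⊤ hY ''ᵁ Proj.basicOpen (𝒮.deg ⊤ hY) f).2 hW
    refine ⟨(domQ u pL chartL).ι x, ?_⟩
    rw [← image_preimage_basicOpen u hY hPL hr hd f hf]
    exact ⟨x, hxW, rfl⟩
  · intro h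
    refine ⟨?_⟩
    rw [DenseRange, dense_iff_inter_open]
    intro W hW ⟨pt, hpt⟩
    have hpt' : pt ∈ (emb p chart ⊤ hY).opensRange := by
      rw [opensRange_emb]; trivial
    obtain ⟨y₀, rfl⟩ := hpt'
    let W' : (Proj (𝒮.deg ⊤ hY)).Opens := emb p chart ⊤ hY ⁻¹ᵁ ⟨W, hW⟩
    obtain ⟨d, hd, f, hf, hy₀f, hfW⟩ := exists_homog_basicOpen_le (𝒮.deg ⊤ hY) W' y₀ hpt
    obtain ⟨z, hz⟩ := h d hd f hf ⟨y₀, hy₀f⟩
    rw [← image_preimage_basicOpen u hY hPL hr hd f hf] at hz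
    obtain ⟨x, hx, -⟩ := hz
    obtain ⟨y, hy, hyx⟩ := hx
    refine ⟨r x, ?_, x, rfl⟩
    have hyx' : (emb p chart ⊤ hY) y = r x := hyx
    rw [← hyx']
    exact hfW hy

end dominant

end Groth.Agent.Helper1.PL
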