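import Mathlib
import Groth.Prelude.Def_Twist2
import Groth.Agent.Helper1.GrT2
import Groth.Agent.Helper1.GrT3
import Groth.Agent.Helper1.GrT11
import Groth.Agent.Helper1.TwistIso

/-!
# Projective normality: `S_d = Γ(Proj S, O(d))` for a Noetherian integrally closed graded domain
generated in degree one
-/

set_option autoImplicit false
set_option linter.unusedSectionVars false
set_option linter.style.haveILetI false

namespace Groth.Agent.Helper1.PN

open CategoryTheory AlgebraicGeometry TopologicalSpace Opposite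
open Groth.Agent.Helper1.GrT

universe u

variable {R A : Type u} [CommRing R] [CommRing A] [Algebra R A] (𝒜 : ℕ → Submodule R A)
  [GradedAlgebra 𝒜]

/-- homogeneity descends along multiplication by a nonzero homogeneous element of a domain -/
lemma mem_of_mul_mem [IsDomain A] {c g : A} {u t : ℕ} (hg : g ∈ 𝒜 u) (hg0 : g ≠ 0)
    (h : c * g ∈ 𝒜 (t + u)) : c ∈ 𝒜 t := by
  classical
  have h0 : ∀ n, n ≠ t → ((DirectSum.decompose 𝒜 c n : 𝒜 n) : A) = 0 := by
    intro n hn
    have h1 : ((DirectSum.decompose 𝒜 (c * g) (n + u) : 𝒜 (n + u)) : A) =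
        (DirectSum.decompose 𝒜 c n : A) * g := DirectSum.coe_decompose_mul_add_of_right_mem 𝒜 hg
    have h2 : ((DirectSum.decompose 𝒜 (c * g) (n + u) : 𝒜 (n + u)) : A) = 0 :=
      DirectSum.decompose_of_mem_ne 𝒜 h (by omega)
    rw [h1] at h2
    exact (mul_eq_zero.1 h2).resolve_right hg0
  have h3 : c = ((DirectSum.decompose 𝒜 c t : 𝒜 t) : A) := by
    conv_lhs => rw [← DirectSum.sum_support_decompose 𝒜 c]
    by_cases ht : t ∈ (DirectSum.decompose 𝒜 c).support
    · rw [Finset.sum_eq_single t (fun n _ hn => h0 n hn) (fun h => absurd ht h)]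
    · rw [Finset.sum_eq_zero (fun n hn => h0 n (fun h => ht (h ▸ hn)))]
      rw [DFinsupp.notMem_support_iff] at ht
      rw [ht]
      rfl
  rw [h3]
  exact SetLike.coe_mem _

/-- degree-one generation: the irrelevant ideal is generated by the degree-one part -/
lemma irrelevant_eq_span (hgen : ∀ i : ℕ, 𝒜 1 * 𝒜 i = 𝒜 (i + 1)) :
    (HomogeneousIdeal.irrelevant 𝒜).toIdeal = Ideal.span (𝒜 1 : Set A) := by
  classical
  have hle : ∀ i : ℕ, ∀ a ∈ 𝒜 (i + 1), a ∈ Ideal.span (𝒜 1 : Set A) := by
    intro i a ha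
    rw [← hgen i] at ha
    induction ha using Submodule.mul_induction_on' with
    | mem_mul_mem x hx y _ => exact Ideal.mul_mem_right _ _ (Ideal.subset_span hx)
    | add x _ y _ hx hy => exact Ideal.add_mem _ hx hy
  apply le_antisymm
  · intro a ha
    rw [← DirectSum.sum_support_decompose 𝒜 a]
    refine Ideal.sum_mem _ fun i _ => ?_
    rcases Nat.eq_zero_or_pos i with rfl | hi
    · have h1 : ((DirectSum.decompose 𝒜 a 0 : 𝒜 0) : A) = 0 := by
        have := (HomogeneousIdeal.mem_irrelevant_iff 𝒜 a).1 ha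
        simpa [GradedRing.proj_apply] using this
      rw [h1]
      exact zero_mem _
    · obtain ⟨j, rfl⟩ := Nat.exists_eq_succ_of_ne_zero hi.ne'
      exact hle j _ (SetLike.coe_mem _)
  · rw [Ideal.span_le]
    intro a ha
    exact HomogeneousIdeal.mem_irrelevant_of_mem 𝒜 Nat.one_pos ha

end Groth.Agent.Helper1.PN
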