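import Mathlib
import Groth.Prelude.Def_Twist2
import Groth.Agent.Helper1.PN1

/-!
# Projective normality: `S_d = Γ(Proj S, O(d))` (main argument)
-/

set_option autoImplicit false
set_option linter.unusedSectionVars false
set_option linter.style.haveILetI false

namespace Groth.Agent.Helper1.PN

open CategoryTheory AlgebraicGeometry TopologicalSpace Opposite
open Groth.Agent.Helper1.GrT

universe u

variable {R A : Type u} [CommRing R] [CommRing A] [Algebra R A] (𝒜 : ℕ → Submodule R A)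
  [GradedAlgebra 𝒜]

lemma pow_eq_zero_iff_of_pos' [IsDomain A] {f : A} (n : ℕ) (hn : f ^ n ∈ (⊥ : Ideal A)) : f = 0 :=
  eq_zero_of_pow_eq_zero ((Ideal.mem_bot).1 hn)

/-- `D₊(f)` is nonempty for `f ≠ 0` homogeneous of positive degree in a domain -/
lemma exists_notMem [IsDomain A] {e : ℕ} (he : 0 < e) {f : A} (hf : f ∈ 𝒜 e) (hf0 : f ≠ 0) :
    ∃ y : ProjectiveSpectrum 𝒜, f ∉ y.asHomogeneousIdeal := by
  by_contra hcon
  push Not at hcon
  have h1 : f ∈ (⊥ : Ideal A).radical :=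
    mem_radical_of_forall 𝒜 ⊥ (Ideal.IsHomogeneous.bot 𝒜) f he hf (fun x _ => hcon x)
  obtain ⟨n, hn⟩ := h1
  exact hf0 (pow_eq_zero_iff_of_pos' n hn)

variable (d : ℕ)

/-- the value of a global section of `O(d)` -/
noncomputable def gval (s : Twist.sectN (𝒜 := 𝒜) (d : ℤ) (op ⊤)) (y : ProjectiveSpectrum 𝒜) :
    GrTilde.LocMod 𝒜 (M := A) y :=
  GrT.val (TwistIso.toTilde 𝒜 d (op ⊤) s) y trivial

/-- local form of a global section of `O(d)` on `D₊(f)`, `f` of degree one -/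
lemma exists_frac (s : Twist.sectN (𝒜 := 𝒜) (d : ℤ) (op ⊤)) (f : A) (hf : f ∈ 𝒜 1) :
    ∃ (k : ℕ) (a : A), a ∈ 𝒜 (k + d) ∧ ∀ y : ProjectiveSpectrum 𝒜, f ∉ y.asHomogeneousIdeal →
      f ^ k • gval 𝒜 d s y = ι₁ y a := by
  obtain ⟨k, i, a, ha, hi, hval⟩ := exists_global_frac 𝒜 𝒜 (d : ℤ) Nat.one_pos f hf
    (GrTilde.res 𝒜 𝒜 d (homOfLE (le_top : ProjectiveSpectrum.basicOpen 𝒜 f ≤ ⊤)).op
      (TwistIso.toTilde 𝒜 d (op ⊤) s))
  have hi' : i = k + d := by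
    have : (i : ℤ) = ((k + d : ℕ) : ℤ) := by push_cast; rw [hi]; ring
    exact_mod_cast this
  subst hi'
  exact ⟨k, a, ha, fun y hy => hval y ((ProjectiveSpectrum.mem_basicOpen 𝒜 f y).2 hy)⟩

/-- compatibility of the local forms -/
lemma frac_compat [IsDomain A] (s : Twist.sectN (𝒜 := 𝒜) (d : ℤ) (op ⊤)) {f g : A}
    (hf : f ∈ 𝒜 1) (hg : g ∈ 𝒜 1) (hf0 : f ≠ 0) (hg0 : g ≠ 0) {k l : ℕ} {a b : A}
    (ha : ∀ y : ProjectiveSpectrum 𝒜, f ∉ y.asHomogeneousIdeal →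
      f ^ k • gval 𝒜 d s y = ι₁ y a)
    (hb : ∀ y : ProjectiveSpectrum 𝒜, g ∉ y.asHomogeneousIdeal →
      g ^ l • gval 𝒜 d s y = ι₁ y b) :
    g ^ l * a = f ^ k * b := by
  obtain ⟨y, hy⟩ := exists_notMem 𝒜 (Nat.add_pos_left Nat.one_pos 1)
    (SetLike.mul_mem_graded hf hg) (mul_ne_zero hf0 hg0)
  have hfy : f ∉ y.asHomogeneousIdeal := fun h => hy (Ideal.mul_mem_right _ _ h)
  have hgy : g ∉ y.asHomogeneousIdeal := fun h => hy (Ideal.mul_mem_left _ _ h)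
  have h1 : ι₁ y (g ^ l * a) = ι₁ y (f ^ k * b) := by
    have e1 : ι₁ y (g ^ l * a) = g ^ l • ι₁ y a := ι₁_smul y (g ^ l) a
    have e2 : ι₁ y (f ^ k * b) = f ^ k • ι₁ y b := ι₁_smul y (f ^ k) b
    rw [e1, e2, ← ha y hfy, ← hb y hgy, smul_comm]
  have h2 : ι₁ y (g ^ l * a - f ^ k * b) = 0 := by
    have := ι₁_add y (g ^ l * a - f ^ k * b) (f ^ k * b)
    rw [sub_add_cancel, h1] at this
    exact right_eq_add.1 this
  obtain ⟨c, hc, hcz⟩ := (ι₁_eq_zero_iff y _).1 h2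
  have hc0 : c ≠ 0 := fun h => hc (h ▸ zero_mem _)
  have h3 : g ^ l * a - f ^ k * b = 0 := by
    have : c * (g ^ l * a - f ^ k * b) = 0 := hcz
    exact (mul_eq_zero.1 this).resolve_left hc0
  exact sub_eq_zero.1 h3

end Groth.Agent.Helper1.PN
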