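import Mathlib
import Groth.Prelude.Def_Twist2
import Groth.Agent.Helper1.PN2

/-!
# Projective normality: `S_d = Γ(Proj S, O(d))` (the theorem)
-/

set_option autoImplicit false
set_option linter.unusedSectionVars false
set_option linter.style.haveILetI false

namespace Groth.Agent.Helper1.PN

open CategoryTheory AlgebraicGeometry TopologicalSpace Opposite
open Groth.Agent.Helper1.GrT

universe u

variable {R A : Type u} [CommRing R] [CommRing A] [Algebra R A] (𝒜 : ℕ → Submodule R A)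
  [GradedAlgebra 𝒜]

lemma gval_globalOf (d : ℕ) (a : 𝒜 d) (y : ProjectiveSpectrum 𝒜) :
    gval 𝒜 d (Twist.globalOf 𝒜 a) y = ι₁ y (a : A) := rfl

lemma sectN_ext (d : ℕ) (s t : Twist.sectN (𝒜 := 𝒜) (d : ℤ) (op ⊤))
    (h : ∀ y : ProjectiveSpectrum 𝒜, gval 𝒜 d s y = gval 𝒜 d t y) : s = t := by
  apply Subtype.ext
  funext y
  apply Subtype.ext
  exact h y.1

theorem injective_globalOf [IsDomain A] (h1 : 𝒜 1 ≠ ⊥) (d : ℕ) :
    Function.Injective (fun a : ↥(𝒜 d) => Twist.globalOf 𝒜 a) := by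
  intro a b hab
  obtain ⟨f₀, hf₀, hf₀0⟩ := Submodule.exists_mem_ne_zero_of_ne_bot h1
  obtain ⟨y, hy⟩ := exists_notMem 𝒜 Nat.one_pos hf₀ hf₀0
  have h2 : ι₁ y (a : A) = ι₁ y (b : A) := by
    rw [← gval_globalOf, ← gval_globalOf]
    exact congrArg (fun s => gval 𝒜 d s y) hab
  have h3 : ι₁ y ((a : A) - b) = 0 := by
    have := ι₁_add y ((a : A) - b) b
    rw [sub_add_cancel, h2] at this
    exact right_eq_add.1 this
  obtain ⟨c, hc, hcz⟩ := (ι₁_eq_zero_iff y _).1 h3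
  have hc0 : c ≠ 0 := fun h => hc (h ▸ zero_mem _)
  have h4 : c * ((a : A) - b) = 0 := hcz
  exact Subtype.ext (sub_eq_zero.1 ((mul_eq_zero.1 h4).resolve_left hc0))

end Groth.Agent.Helper1.PN
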