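import Mathlib
import Groth.Prelude.Def_Twist2
import Groth.Agent.Helper1.PN3

/-!
# Projective normality: `S_d = Γ(Proj S, O(d))` (surjectivity)
-/

set_option autoImplicit false
set_option linter.unusedSectionVars false
set_option linter.style.haveILetI false

namespace Groth.Agent.Helper1.PN

open CategoryTheory AlgebraicGeometry TopologicalSpace Opposite
open Groth.Agent.Helper1.GrT

universe u

variable {R A : Type u} [CommRing R] [CommRing A] [Algebra R A] (𝒜 : ℕ → Submodule R A)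
  [GradedAlgebra 𝒜]

include 𝒜 in
lemma pow_mem_one' {f : A} (hf : f ∈ 𝒜 1) (k : ℕ) : f ^ k ∈ 𝒜 k := by
  have := SetLike.pow_mem_graded k hf
  simpa using this

theorem surjective_globalOf [IsDomain A] [IsNoetherianRing A]
    (hgen : ∀ i : ℕ, 𝒜 1 * 𝒜 i = 𝒜 (i + 1)) (h1 : 𝒜 1 ≠ ⊥) (hint : IsIntegrallyClosed A) (d : ℕ) :
    Function.Surjective (fun a : ↥(𝒜 d) => Twist.globalOf 𝒜 a) := by
  classical
  intro s
  have hloc := fun (f : 𝒜 1) => exists_frac 𝒜 d s f.1 f.2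
  choose kk aa haa hval using hloc
  obtain ⟨f₀, hf₀, hf₀0⟩ := Submodule.exists_mem_ne_zero_of_ne_bot h1
  set F₀ : 𝒜 1 := ⟨f₀, hf₀⟩ with hF₀
  let K := FractionRing A
  let φ : A →+* K := algebraMap A K
  have hφ : Function.Injective φ := IsFractionRing.injective A K
  set σ : K := φ (aa F₀) / φ f₀ ^ kk F₀ with hσ
  have hφf₀ : φ f₀ ^ kk F₀ ≠ 0 :=
    pow_ne_zero _ (fun h => hf₀0 (hφ (by rw [h, map_zero])))
  have hσ0 : σ * φ f₀ ^ kk F₀ = φ (aa F₀) := div_mul_cancel₀ _ hφf₀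
  -- compatibility
  have h4 : ∀ f : 𝒜 1, (f : A) ≠ 0 → σ * φ ((f : A) ^ kk f) = φ (aa f) := by
    intro f hf0
    have hc : f₀ ^ kk F₀ * aa f = (f : A) ^ kk f * aa F₀ :=
      frac_compat 𝒜 d s f.2 hf₀ hf0 hf₀0 (hval f) (hval F₀)
    rw [hσ, div_mul_eq_mul_div, div_eq_iff hφf₀, ← map_pow, ← map_mul, ← map_mul]
    congr 1
    rw [mul_comm (aa F₀), ← hc, mul_comm]
  -- finitely many generators of degree one
  have hirr := irrelevant_eq_span 𝒜 hgen
  have hfg : (Ideal.span (𝒜 1 : Set A)).FG := IsNoetherian.noetherian _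
  obtain ⟨T, hT1, hTspan⟩ := (Submodule.fg_span_iff_fg_span_finset_subset (𝒜 1 : Set A)).1 hfg
  have hTspan' : Ideal.span (T : Set A) = (HomogeneousIdeal.irrelevant 𝒜).toIdeal := by
    rw [hirr]
    exact hTspan.symm
  let kT : A → ℕ := fun x => if hx : x ∈ 𝒜 1 then kk ⟨x, hx⟩ else 0
  set N := T.sup kT + 1 with hN
  have hkN : ∀ x (hxT : x ∈ T), kk ⟨x, hT1 hxT⟩ + 1 ≤ N := by
    intro x hxT
    have h := Finset.le_sup (f := kT) hxT
    have h' : kT x = kk ⟨x, hT1 hxT⟩ := dif_pos (hT1 hxT : x ∈ 𝒜 1)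
    omega
  have h5 : ∀ x ∈ T, ∃ c ∈ 𝒜 (N + d), σ * φ (x ^ N) = φ c := by
    intro x hxT
    have hx1 : x ∈ 𝒜 1 := hT1 hxT
    by_cases hx0 : x = 0
    · refine ⟨0, zero_mem _, ?_⟩
      rw [hx0, zero_pow (by omega), map_zero, mul_zero]
    · have hk := hkN x hxT
      refine ⟨x ^ (N - kk ⟨x, hx1⟩) * aa ⟨x, hx1⟩, ?_, ?_⟩
      · have h := SetLike.mul_mem_graded (pow_mem_one' 𝒜 hx1 (N - kk ⟨x, hx1⟩)) (haa ⟨x, hx1⟩)
        have e : N - kk ⟨x, hx1⟩ + (kk ⟨x, hx1⟩ + d) = N + d := by omega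
        rw [e] at h
        exact h
      · have e : x ^ N = x ^ (N - kk ⟨x, hx1⟩) * x ^ kk ⟨x, hx1⟩ := by
          rw [← pow_add]; congr 1; omega
        rw [e, map_mul, map_mul, ← h4 ⟨x, hx1⟩ hx0]
        ring
  -- the ideal generated by the powers
  set J : Ideal A := Ideal.span ((fun x => x ^ N) '' (T : Set A)) with hJ
  have hJrad : (HomogeneousIdeal.irrelevant 𝒜).toIdeal ≤ J.radical := by
    rw [← hTspan', Ideal.span_le]
    intro x hx
    exact ⟨N, Ideal.subset_span ⟨x, hx, rfl⟩⟩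
  obtain ⟨k, hk⟩ := Ideal.exists_pow_le_of_le_radical_of_fg_radical hJrad
    (IsNoetherian.noetherian _)
  have hexJ : ∀ b ∈ J, ∃ c : A, σ * φ b = φ c := by
    intro b hbJ
    rw [hJ] at hbJ
    induction hbJ using Submodule.span_induction with
    | mem u hu =>
      obtain ⟨x, hx, rfl⟩ := hu
      obtain ⟨c, -, hc⟩ := h5 x hx
      exact ⟨c, hc⟩
    | zero => exact ⟨0, by simp⟩
    | add u w _ _ hu hw =>
      obtain ⟨c, hc⟩ := hu
      obtain ⟨c', hc'⟩ := hw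
      exact ⟨c + c', by rw [map_add, mul_add, hc, hc', map_add]⟩
    | smul r u _ hu =>
      obtain ⟨c, hc⟩ := hu
      exact ⟨r * c, by rw [smul_eq_mul, map_mul, mul_left_comm, hc, map_mul]⟩
  have h7 : ∀ (m : ℕ) (b : A), b ∈ 𝒜 m → b ∈ J → ∃ c ∈ 𝒜 (m + d), σ * φ b = φ c := by
    intro m b hbm hbJ
    obtain ⟨c, hc⟩ := hexJ b hbJ
    refine ⟨c, ?_, hc⟩
    have e1 : c * f₀ ^ kk F₀ = aa F₀ * b := by
      apply hφ
      rw [map_mul, ← hc, map_mul, map_pow, ← hσ0]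
      ring
    have hmem : c * f₀ ^ kk F₀ ∈ 𝒜 (m + d + kk F₀) := by
      rw [e1]
      have h := SetLike.mul_mem_graded (haa F₀) hbm
      have e : kk F₀ + d + m = m + d + kk F₀ := by omega
      rw [e] at h
      exact h
    exact mem_of_mul_mem 𝒜 (pow_mem_one' 𝒜 hf₀ _) (pow_ne_zero _ hf₀0) hmem
  -- the ideal of elements of degrees `≥ k`
  set I : Ideal A := Ideal.span (⋃ m ∈ Set.Ici k, (𝒜 m : Set A)) with hI
  have hIJ : ∀ m, k ≤ m → ∀ b ∈ 𝒜 m, b ∈ J := by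
    intro m hm b hb
    apply hk
    exact Ideal.pow_le_pow_right hm (mem_irrelevant_pow 𝒜 hirr m b hb)
  have hσI : ∀ b ∈ I, ∃ c ∈ I, σ * φ b = φ c := by
    intro b hb
    rw [hI] at hb
    induction hb using Submodule.span_induction with
    | mem u hu =>
      simp only [Set.mem_iUnion, Set.mem_Ici, SetLike.mem_coe] at hu
      obtain ⟨m, hm, hum⟩ := hu
      obtain ⟨c, hc, hc'⟩ := h7 m u hum (hIJ m hm u hum)
      refine ⟨c, Ideal.subset_span ?_, hc'⟩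
      simp only [Set.mem_iUnion, Set.mem_Ici, SetLike.mem_coe]
      exact ⟨m + d, by omega, hc⟩
    | zero => exact ⟨0, zero_mem _, by simp⟩
    | add u w _ _ hu hw =>
      obtain ⟨c, hcI, hc⟩ := hu
      obtain ⟨c', hcI', hc'⟩ := hw
      exact ⟨c + c', add_mem hcI hcI', by rw [map_add, mul_add, hc, hc', map_add]⟩
    | smul r u _ hu =>
      obtain ⟨c, hcI, hc⟩ := hu
      exact ⟨r * c, Ideal.mul_mem_left _ _ hcI,
        by rw [smul_eq_mul, map_mul, mul_left_comm, hc, map_mul]⟩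
  -- integrality
  let N' : Submodule A K := Submodule.map (Algebra.linearMap A K) I
  have hN'bot : N' ≠ ⊥ := by
    intro h
    have h2 : φ (f₀ ^ k) ∈ N' := by
      refine Submodule.mem_map_of_mem (f := Algebra.linearMap A K) (Ideal.subset_span ?_)
      simp only [Set.mem_iUnion, Set.mem_Ici, SetLike.mem_coe]
      exact ⟨k, le_rfl, pow_mem_one' 𝒜 hf₀ k⟩
    rw [h, Submodule.mem_bot] at h2
    exact pow_ne_zero k hf₀0 (hφ (by rw [h2, map_zero]))
  have hN'fg : N'.FG := Submodule.FG.map _ (IsNoetherian.noetherian I)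
  have hintσ : IsIntegral A σ := by
    refine isIntegral_of_smul_mem_submodule N' hN'bot hN'fg σ ?_
    rintro _ ⟨b, hb, rfl⟩
    obtain ⟨c, hcI, hc⟩ := hσI b hb
    exact ⟨c, hcI, hc.symm⟩
  obtain ⟨a, ha⟩ := IsIntegrallyClosed.algebraMap_eq_of_integral hintσ
  have ha' : φ a = σ := ha
  have e2 : a * f₀ ^ kk F₀ = aa F₀ := by
    apply hφ
    rw [map_mul, ha', map_pow, hσ0]
  have had : a ∈ 𝒜 d := by
    refine mem_of_mul_mem 𝒜 (pow_mem_one' 𝒜 hf₀ (kk F₀)) (pow_ne_zero _ hf₀0) ?_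
    rw [e2, add_comm]
    exact haa F₀
  refine ⟨⟨a, had⟩, ?_⟩
  apply sectN_ext
  intro y
  rw [gval_globalOf]
  obtain ⟨x, hxT, hxy⟩ : ∃ x ∈ T, x ∉ y.asHomogeneousIdeal := by
    by_contra hcon
    push Not at hcon
    apply y.not_irrelevant_le
    intro b hb
    have hb' : b ∈ Ideal.span (T : Set A) := by rw [hTspan']; exact hb
    exact (Ideal.span_le (I := y.asHomogeneousIdeal.toIdeal)).2 (fun x hx => hcon x hx) hb'
  have hx1 : x ∈ 𝒜 1 := hT1 hxT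
  have hx0 : x ≠ 0 := fun h => hxy (h ▸ zero_mem _)
  have e3 : a * x ^ kk ⟨x, hx1⟩ = aa ⟨x, hx1⟩ := by
    apply hφ
    rw [map_mul, ha']
    exact h4 ⟨x, hx1⟩ hx0
  symm
  apply smul_injective y (t := x ^ kk ⟨x, hx1⟩) (fun h => hxy (y.isPrime.mem_of_pow_mem _ h))
  change x ^ kk ⟨x, hx1⟩ • gval 𝒜 d s y = x ^ kk ⟨x, hx1⟩ • ι₁ y a
  rw [hval ⟨x, hx1⟩ y hxy, ← ι₁_smul, smul_eq_mul, mul_comm, e3]

end Groth.Agent.Helper1.PN
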