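import Mathlib
import Groth.Agent.Helper3.ProjClosedSub
import Groth.Agent.Helper1.RP2

/-!
# Closed subschemes of `Proj 𝒜` as `Proj` of a quotient, keeping the base ring in sight
-/

set_option autoImplicit false
set_option linter.style.haveILetI false
set_option linter.unusedSectionVars false
set_option linter.unusedVariables false

universe u

namespace Groth.Agent.Helper1.PPA

open CategoryTheory AlgebraicGeometry Groth.Agent.Helper3.GradedQuot
  Groth.Agent.Helper3.ProjQuotCore Groth.Agent.Helper3.ProjClosedSub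

variable {R A : Type u} [CommRing R] [CommRing A] [Algebra R A] (𝒜 : ℕ → Submodule R A)
  [GradedAlgebra 𝒜]

section Quot

variable (I : Ideal A) [Fact (I.IsHomogeneous 𝒜)]

theorem surj_zero (h0 : Function.Surjective (algebraMap R (𝒜 0))) :
    Function.Surjective (algebraMap R (quotGrading 𝒜 I 0)) := by
  rintro ⟨b, a, ha, rfl⟩
  obtain ⟨r, hr⟩ := h0 ⟨a, ha⟩
  refine ⟨r, Subtype.ext ?_⟩
  rw [SetLike.GradeZero.coe_algebraMap]
  have h1 : algebraMap R A r = a := by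
    have := congrArg Subtype.val hr
    simpa using this
  change algebraMap R (A ⧸ I) r = Ideal.Quotient.mk I a
  rw [← h1]
  rfl

open Classical in
theorem irrelevant_quot (s : Finset A) (hs1 : ∀ f ∈ s, f ∈ 𝒜 1)
    (hs : (HomogeneousIdeal.irrelevant 𝒜).toIdeal = Ideal.span (s : Set A)) :
    (HomogeneousIdeal.irrelevant (quotGrading 𝒜 I)).toIdeal =
      Ideal.span ((s.image (Ideal.Quotient.mk I) : Finset (A ⧸ I)) : Set (A ⧸ I)) := by
  apply le_antisymm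
  · have h1 := irrelevant_le_map_of_surjective 𝒜 (quotGrading 𝒜 I) (quotHom 𝒜 I)
      (quotHom_surjective 𝒜 I)
    have h2 : (HomogeneousIdeal.irrelevant (quotGrading 𝒜 I)).toIdeal ≤
        ((HomogeneousIdeal.irrelevant 𝒜).map (quotHom 𝒜 I)).toIdeal := h1
    refine h2.trans ?_
    rw [HomogeneousIdeal.toIdeal_map, hs, Ideal.map_span]
    apply Ideal.span_mono
    rintro _ ⟨a, ha, rfl⟩
    simp only [Finset.coe_image, Set.mem_image, Finset.mem_coe]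
    exact ⟨a, ha, rfl⟩
  · rw [Ideal.span_le]
    intro b hb
    simp only [Finset.coe_image, Set.mem_image, Finset.mem_coe] at hb
    obtain ⟨a, ha, rfl⟩ := hb
    exact HomogeneousIdeal.mem_irrelevant_of_mem (quotGrading 𝒜 I) Nat.one_pos
      ⟨a, hs1 a ha, rfl⟩

theorem zero_comp (r : R) :
    (quotHom 𝒜 I).gradedZeroRingHom (algebraMap R (𝒜 0) r) =
      algebraMap R (quotGrading 𝒜 I 0) r := by
  apply Subtype.ext
  rfl

end Quot

section Main

variable (s : Finset A) (hs1 : ∀ f ∈ s, f ∈ 𝒜 1)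
  (hs : (HomogeneousIdeal.irrelevant 𝒜).toIdeal = Ideal.span (s : Set A))
  {Z : Scheme.{u}} (i : Z ⟶ Proj 𝒜) [IsClosedImmersion i]

open Classical in
include hs hs1 in
theorem main (h0 : Function.Surjective (algebraMap R (𝒜 0))) :
    ∃ (S : Type u) (_ : CommRing S) (_ : Algebra R S) (𝒮 : ℕ → Submodule R S)
      (_ : GradedAlgebra 𝒮) (t : Finset S),
      Function.Surjective (algebraMap R (𝒮 0)) ∧ (∀ g ∈ t, g ∈ 𝒮 1) ∧
      (HomogeneousIdeal.irrelevant 𝒮).toIdeal = Ideal.span (t : Set S) ∧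
      ∃ e : Z ≅ Proj 𝒮, e.hom ≫ Proj.toSpecZero 𝒮 ≫
        Spec.map (CommRingCat.ofHom (algebraMap R (𝒮 0))) =
        i ≫ Proj.toSpecZero 𝒜 ≫ Spec.map (CommRingCat.ofHom (algebraMap R (𝒜 0))) := by
  have hφ := irrelevant_le_map_of_surjective 𝒜 (quotGrading 𝒜 (idealI 𝒜 s hs1 (Jf 𝒜 i)))
    (quotHom 𝒜 (idealI 𝒜 s hs1 (Jf 𝒜 i))) (quotHom_surjective 𝒜 _)
  refine ⟨A ⧸ idealI 𝒜 s hs1 (Jf 𝒜 i), inferInstance, inferInstance,
    quotGrading 𝒜 (idealI 𝒜 s hs1 (Jf 𝒜 i)), inferInstance,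
    s.image (Ideal.Quotient.mk (idealI 𝒜 s hs1 (Jf 𝒜 i))),
    surj_zero 𝒜 _ h0, ?_, irrelevant_quot 𝒜 _ s hs1 hs, ?_⟩
  · intro g hg
    rw [Finset.mem_image] at hg
    obtain ⟨a, ha, rfl⟩ := hg
    exact ⟨a, hs1 a ha, rfl⟩
  haveI : IsClosedImmersion (Proj.map (quotHom 𝒜 (idealI 𝒜 s hs1 (Jf 𝒜 i))) hφ) :=
    Groth.Agent.Helper8.ProjClosed.main 𝒜 _ _ (quotHom_surjective 𝒜 _) hφ
  have hker := ker_eq 𝒜 s hs1 hs i hφ
  let f := IsClosedImmersion.lift (Proj.map (quotHom 𝒜 (idealI 𝒜 s hs1 (Jf 𝒜 i))) hφ) i hker.le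
  have hfac : f ≫ Proj.map (quotHom 𝒜 (idealI 𝒜 s hs1 (Jf 𝒜 i))) hφ = i :=
    IsClosedImmersion.lift_fac _ _ _
  haveI : IsIso f := IsClosedImmersion.isIso_of_ker_eq i
    (Proj.map (quotHom 𝒜 (idealI 𝒜 s hs1 (Jf 𝒜 i))) hφ) f hfac hker.symm
  refine ⟨asIso f, ?_⟩
  have h3 : i ≫ Proj.toSpecZero 𝒜 ≫ Spec.map (CommRingCat.ofHom (algebraMap R (𝒜 0))) =
      (f ≫ Proj.map (quotHom 𝒜 (idealI 𝒜 s hs1 (Jf 𝒜 i))) hφ) ≫ Proj.toSpecZero 𝒜 ≫
        Spec.map (CommRingCat.ofHom (algebraMap R (𝒜 0))) := by rw [hfac]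
  rw [asIso_hom, h3, Category.assoc,
    ← Category.assoc (Proj.map (quotHom 𝒜 (idealI 𝒜 s hs1 (Jf 𝒜 i))) hφ),
    Groth.Agent.Helper1.RP.map_toSpecZero, Category.assoc, ← Spec.map_comp]
  congr 3

end Main

end Groth.Agent.Helper1.PPA
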