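import Mathlib
import Groth.Prelude.Def_PP16

set_option autoImplicit false
universe u
open scoped TensorProduct
open PP16

namespace Groth.Agent.Helper1.PPBaseChange

section
variable (A B A' B' : Type u) [CommRing A] [CommRing B] [Algebra A B]
    [CommRing A'] [CommRing B'] [Algebra A' B'] [Algebra A A'] [Algebra B B'] [Algebra A B']
    [IsScalarTower A A' B'] [IsScalarTower A B B'] [Algebra.IsPushout A B A' B']

include A in
/-- induction principle for the pushout `B'` -/
theorem pushout_induction (motive : B' → Prop) (zero : motive 0)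
    (hA' : ∀ a', motive (algebraMap A' B' a'))
    (hsmul : ∀ (b : B) (x : B'), motive x → motive (algebraMap B B' b * x))
    (hadd : ∀ x y, motive x → motive y → motive (x + y)) (x : B') : motive x := by
  have h : IsBaseChange B (IsScalarTower.toAlgHom A A' B').toLinearMap := Algebra.IsPushout.out
  refine h.inductionOn x motive zero (fun m => hA' m) (fun s n hn => ?_) hadd
  rw [Algebra.smul_def]; exact hsmul s n hn

include A in
theorem ringHom_ext_pushout {X : Type u} [CommRing X] (f g : B' →+* X)
    (h1 : ∀ a', f (algebraMap A' B' a') = g (algebraMap A' B' a'))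
    (h2 : ∀ b, f (algebraMap B B' b) = g (algebraMap B B' b)) : f = g := by
  ext x
  refine pushout_induction A B A' B' (fun x => f x = g x) ?_ h1 ?_ ?_ x
  · rw [map_zero, map_zero]
  · intro b x hx
    rw [map_mul, map_mul, hx, h2]
  · intro x y hx hy
    rw [map_add, map_add, hx, hy]

end

section
variable (n : ℕ) (A B A' B' : Type u) [CommRing A] [CommRing B] [Algebra A B]
    [CommRing A'] [CommRing B'] [Algebra A' B'] [Algebra A A'] [Algebra B B'] [Algebra A B']
    [IsScalarTower A A' B'] [IsScalarTower A B B'] [Algebra.IsPushout A B A' B']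

theorem exists_right {X : Type u} [CommRing X] (α : P n A B →+* X) (β : B' →+* X)
    (hαβ : ∀ b, α (algebraMap B (P n A B) b) = β (algebraMap B B' b)) :
    ∃ r : B' →+* X, (∀ b, r (algebraMap B B' b) = α (dn n A B b)) ∧
      (∀ a', r (algebraMap A' B' a') = β (algebraMap A' B' a')) := by
  let _ : Algebra A X := (β.comp (algebraMap A B')).toAlgebra
  have halg : ∀ a : A, algebraMap A X a = β (algebraMap A B' a) := fun a => rfl
  let f : B →ₐ[A] X :=
    { toRingHom := α.comp (dn n A B).toRingHom
      commutes' := fun a => by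
        show α (dn n A B (algebraMap A B a)) = _
        rw [(dn n A B).commutes a, halg, IsScalarTower.algebraMap_apply A B B', ← hαβ]
        rfl }
  let g : A' →ₐ[A] X :=
    { toRingHom := β.comp (algebraMap A' B')
      commutes' := fun a => by
        show β (algebraMap A' B' (algebraMap A A' a)) = _
        rw [halg, ← IsScalarTower.algebraMap_apply A A' B'] }
  refine ⟨(Algebra.pushoutDesc B' f g (fun _ _ => mul_comm _ _)).toRingHom, ?_, ?_⟩
  · intro b
    exact Algebra.pushoutDesc_left B' f g _ b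
  · intro a'
    exact Algebra.pushoutDesc_right B' f g _ a'

end

section
variable (n : ℕ) (A B A' B' : Type u) [CommRing A] [CommRing B] [Algebra A B]
    [CommRing A'] [CommRing B'] [Algebra A' B'] [Algebra A A'] [Algebra B B'] [Algebra A B']
    [IsScalarTower A A' B'] [IsScalarTower A B B'] [Algebra.IsPushout A B A' B']

theorem augIdeal_pow : (augIdeal n A B) ^ (n + 1) = ⊥ := by
  unfold augIdeal
  rw [← Ideal.map_pow, Ideal.map_quotient_self]

theorem dn_sub_algebraMap_mem (b : B) :
    dn n A B b - algebraMap B (P n A B) b ∈ augIdeal n A B := by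
  have : dn n A B b - algebraMap B (P n A B) b =
      Ideal.Quotient.mk ((KaehlerDifferential.ideal A B) ^ (n + 1))
        ((1 : B) ⊗ₜ[A] b - b ⊗ₜ[A] (1 : B)) := by
    rw [map_sub]; rfl
  rw [this]
  exact Ideal.mem_map_of_mem _ (KaehlerDifferential.one_smul_sub_smul_one_mem_ideal A b)

theorem exists_lift {X : Type u} [CommRing X] (α : P n A B →+* X) (β : B' →+* X)
    (hαβ : ∀ b, α (algebraMap B (P n A B) b) = β (algebraMap B B' b)) :
    ∃ γ : P n A' B' →+* X, (∀ p, γ (map n A B A' B' p) = α p) ∧
      (∀ b', γ (algebraMap B' (P n A' B') b') = β b') := by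
  obtain ⟨r, hr1, hr2⟩ := exists_right n A B A' B' α β hαβ
  let _ : Algebra A' X := (β.comp (algebraMap A' B')).toAlgebra
  let l' : B' →ₐ[A'] X := { toRingHom := β, commutes' := fun a' => rfl }
  let r' : B' →ₐ[A'] X := { toRingHom := r, commutes' := fun a' => hr2 a' }
  obtain ⟨γ₀, hγ₀⟩ : ∃ γ₀ : B' ⊗[A'] B' →ₐ[A'] X, ∀ x y, γ₀ (x ⊗ₜ y) = β x * r y :=
    ⟨Algebra.TensorProduct.lift l' r' (fun _ _ => Commute.all _ _), fun x y => by
      rw [Algebra.TensorProduct.lift_tmul]; rfl⟩
  -- the ideal J
  have hJ : ((augIdeal n A B).map α) ^ (n + 1) = ⊥ := by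
    rw [← Ideal.map_pow, augIdeal_pow, Ideal.map_bot]
  have hdiff : ∀ b' : B', r b' - β b' ∈ (augIdeal n A B).map α := by
    intro b'
    refine pushout_induction A B A' B' (fun b' => r b' - β b' ∈ (augIdeal n A B).map α)
      ?_ ?_ ?_ ?_ b'
    · rw [map_zero, map_zero, sub_zero]; exact zero_mem _
    · intro a'; rw [hr2, sub_self]; exact zero_mem _
    · intro b x hx
      have e : r (algebraMap B B' b * x) - β (algebraMap B B' b * x) =
          r (algebraMap B B' b) * (r x - β x) +
            (r (algebraMap B B' b) - β (algebraMap B B' b)) * β x := by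
        rw [map_mul, map_mul]; ring
      rw [e]
      refine add_mem (Ideal.mul_mem_left _ _ hx) (Ideal.mul_mem_right _ _ ?_)
      rw [hr1, ← hαβ, ← map_sub]
      exact Ideal.mem_map_of_mem _ (dn_sub_algebraMap_mem n A B b)
    · intro x y hx hy
      have e : r (x + y) - β (x + y) = (r x - β x) + (r y - β y) := by
        rw [map_add, map_add]; ring
      rw [e]; exact add_mem hx hy
  have hI' : (KaehlerDifferential.ideal A' B').map γ₀ ≤ (augIdeal n A B).map α := by
    rw [← KaehlerDifferential.span_range_eq_ideal, Ideal.map_span, Ideal.span_le]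
    rintro _ ⟨_, ⟨b', rfl⟩, rfl⟩
    show γ₀ ((1 : B') ⊗ₜ[A'] b' - b' ⊗ₜ[A'] (1 : B')) ∈ (augIdeal n A B).map α
    rw [map_sub, hγ₀, hγ₀, map_one, map_one, one_mul, mul_one]
    exact hdiff b'
  have hkill : ∀ t ∈ (KaehlerDifferential.ideal A' B') ^ (n + 1), γ₀.toRingHom t = 0 := by
    intro t ht
    have h1 : γ₀ t ∈ ((KaehlerDifferential.ideal A' B') ^ (n + 1)).map γ₀ :=
      Ideal.mem_map_of_mem _ ht
    rw [Ideal.map_pow] at h1
    have h2 := Ideal.pow_right_mono hI' (n + 1) h1
    rw [hJ] at h2
    exact h2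
  refine ⟨Ideal.Quotient.lift _ γ₀.toRingHom hkill, ?_, ?_⟩
  · intro p
    obtain ⟨t, rfl⟩ := Ideal.Quotient.mk_surjective p
    rw [map_mk, Ideal.Quotient.lift_mk]
    show γ₀ (tensorMap A B A' B' t) = _
    induction t using TensorProduct.induction_on with
    | zero => rw [map_zero, map_zero, map_zero, map_zero]
    | tmul x y =>
      rw [tensorMap_tmul, hγ₀, hr1, ← hαβ, ← map_mul]
      congr 1
      show Ideal.Quotient.mk _ (x ⊗ₜ[A] (1 : B)) * Ideal.Quotient.mk _ ((1 : B) ⊗ₜ[A] y) = _
      rw [← map_mul, Algebra.TensorProduct.tmul_mul_tmul, mul_one, one_mul]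
    | add x y hx hy => rw [map_add, map_add, hx, hy, map_add, map_add]
  · intro b'
    show Ideal.Quotient.lift _ γ₀.toRingHom hkill (Ideal.Quotient.mk _ (b' ⊗ₜ[A'] (1 : B'))) = _
    rw [Ideal.Quotient.lift_mk]
    show γ₀ (b' ⊗ₜ[A'] (1 : B')) = _
    rw [hγ₀, map_one, mul_one]

theorem lift_unique {X : Type u} [CommRing X] (γ γ' : P n A' B' →+* X)
    (h1 : ∀ p, γ (map n A B A' B' p) = γ' (map n A B A' B' p))
    (h2 : ∀ b', γ (algebraMap B' (P n A' B') b') = γ' (algebraMap B' (P n A' B') b')) :
    γ = γ' := by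
  have hdn : ∀ b' : B', γ (dn n A' B' b') = γ' (dn n A' B' b') := by
    intro b'
    refine pushout_induction A B A' B' (fun b' => γ (dn n A' B' b') = γ' (dn n A' B' b'))
      ?_ ?_ ?_ ?_ b'
    · rw [map_zero, map_zero, map_zero]
    · intro a'
      have : dn n A' B' (algebraMap A' B' a') =
          algebraMap B' (P n A' B') (algebraMap A' B' a') := by
        rw [(dn n A' B').commutes a', IsScalarTower.algebraMap_apply A' B' (P n A' B')]
      rw [this, h2]
    · intro b x hx
      rw [map_mul, map_mul, map_mul, hx, ← map_dn n A B A' B' b, h1]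
    · intro x y hx hy
      rw [map_add, map_add, map_add, hx, hy]
  apply RingHom.ext
  intro p
  obtain ⟨t, rfl⟩ := Ideal.Quotient.mk_surjective p
  induction t using TensorProduct.induction_on with
  | zero => rw [map_zero, map_zero, map_zero]
  | tmul x y =>
    have : (Ideal.Quotient.mk ((KaehlerDifferential.ideal A' B') ^ (n + 1))) (x ⊗ₜ[A'] y) =
        algebraMap B' (P n A' B') x * dn n A' B' y := by
      show _ = Ideal.Quotient.mk _ (x ⊗ₜ[A'] (1 : B')) * Ideal.Quotient.mk _ ((1 : B') ⊗ₜ[A'] y)
      rw [← map_mul, Algebra.TensorProduct.tmul_mul_tmul, mul_one, one_mul]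
    rw [this, map_mul, map_mul, h2, hdn]
  | add x y hx hy => rw [map_add, map_add, map_add, hx, hy]

end

end Groth.Agent.Helper1.PPBaseChange
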