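import Mathlib
import Groth.Prelude.Def_OmegaPn
import Groth.Agent.Helper9.ClImmPF4

/-!
# The direct image along a morphism which is a closed embedding on points preserves colimits;
the functor of principal parts preserves colimits
-/

set_option autoImplicit false
set_option linter.style.haveILetI false
set_option linter.unusedVariables false
set_option linter.unusedSectionVars false
universe u

namespace Groth.Agent.Helper1.PPColim

open CategoryTheory CategoryTheory.Limits AlgebraicGeometry Opposite TopologicalSpace
open Groth.Agent.Helper9.SkyMod2 Groth.Agent.Helper9.SkyMod4 Groth.Agent.Helper9.SkyMod5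
  Groth.Agent.Helper9.ClImm1

variable {X Y : Scheme.{u}}

section Colim

variable {J : Type u} [SmallCategory J]

variable (f : X ⟶ Y) (hf : Topology.IsClosedEmbedding f.base)

instance (x : X) : PreservesColimitsOfSize.{u, u} (St x) :=
  (adj x).leftAdjoint_preservesColimits

instance (x : X) : PreservesColimitsOfSize.{u, u}
    (ModuleCat.restrictScalars.{u} (f.stalkMap x).hom) :=
  (ModuleCat.restrictCoextendScalarsAdj.{u} (f.stalkMap x).hom).leftAdjoint_preservesColimits

include hf in
/-- the direct image along a topological closed embedding commutes with colimits -/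
theorem isIso_post (K : J ⥤ X.Modules) :
    IsIso (colimit.post K (Scheme.Modules.pushforward f)) := by
  apply Groth.Agent.Helper9.PullMon4.isIso_of_stalks
  intro y
  have h1 := colimit.post_post K (Scheme.Modules.pushforward f) (St y)
  haveI i1 : IsIso (colimit.post (K ⋙ Scheme.Modules.pushforward f) (St y)) := inferInstance
  by_cases hy : y ∈ Set.range f.base
  · obtain ⟨x, rfl⟩ := hy
    haveI : PreservesColimit K (Scheme.Modules.pushforward f ⋙ St (f.base x)) :=
      preservesColimit_of_natIso K (pushStalkIso f hf.isInducing x).symm
    haveI i2 : IsIso (colimit.post K (Scheme.Modules.pushforward f ⋙ St (f.base x))) :=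
      inferInstance
    rw [← h1] at i2
    exact IsIso.of_isIso_comp_left
      (colimit.post (K ⋙ Scheme.Modules.pushforward f) (St (f.base x))) _
  · have hcl : IsClosed (Set.range f.base) := hf.isClosed_range
    have hz : ∀ M : X.Modules, IsZero ((St y).obj ((Scheme.Modules.pushforward f).obj M)) :=
      fun M => @ModuleCat.isZero_of_subsingleton _ _ _ (subsingleton_stalk f hcl M y hy)
    have hz1 : IsZero ((St y).obj (colimit (K ⋙ Scheme.Modules.pushforward f))) :=
      (Groth.Agent.Helper9.ClImmPF4.isZero_colimit_of_isZero
        ((K ⋙ Scheme.Modules.pushforward f) ⋙ St y)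
        (fun j => hz (K.obj j))).of_iso
        (asIso (colimit.post (K ⋙ Scheme.Modules.pushforward f) (St y))).symm
    exact ⟨⟨0, hz1.eq_of_src _ _, (hz _).eq_of_src _ _⟩⟩

include hf in
theorem preservesColimits_pushforward :
    PreservesColimitsOfSize.{u, u} (Scheme.Modules.pushforward f) where
  preservesColimitsOfShape {J} _ :=
    { preservesColimit := fun {K} => by
        haveI := isIso_post f hf K
        exact preservesColimit_of_isIso_post (Scheme.Modules.pushforward f) K }

end Colim

section PP

variable {S : Scheme.{u}} (f : X ⟶ S) (n : ℕ)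

/-- the first projection of the infinitesimal neighbourhood is a homeomorphism on points -/
noncomputable def pr1Homeo : (PrinPart.nbhd f n) ≃ₜ X where
  toFun := (PrinPart.pr1 f n).base
  invFun := (PrinPart.toNbhd f n).base
  left_inv x := by
    obtain ⟨y, rfl⟩ := PrinPart.toInfNbhd_surjective (PrinPart.diagCl f) n x
    change (PrinPart.toNbhd f n).base ((PrinPart.toNbhd f n ≫ PrinPart.pr1 f n).base y) = _
    rw [PrinPart.toNbhd_pr1]
    rfl
  right_inv y := by
    change (PrinPart.toNbhd f n ≫ PrinPart.pr1 f n).base y = y
    rw [PrinPart.toNbhd_pr1]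
    rfl
  continuous_toFun := (PrinPart.pr1 f n).base.hom.continuous
  continuous_invFun := (PrinPart.toNbhd f n).base.hom.continuous

theorem isClosedEmbedding_pr1 : Topology.IsClosedEmbedding (PrinPart.pr1 f n).base :=
  (pr1Homeo f n).isClosedEmbedding

theorem preservesColimits_PMod :
    PreservesColimitsOfSize.{u, u}
      ((Scheme.Modules.pullback (PrinPart.pr2 f n)) ⋙
        (Scheme.Modules.pushforward (PrinPart.pr1 f n))) := by
  haveI : PreservesColimitsOfSize.{u, u} (Scheme.Modules.pushforward (PrinPart.pr1 f n)) :=
    preservesColimits_pushforward _ (isClosedEmbedding_pr1 f n)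
  haveI : PreservesColimitsOfSize.{u, u} (Scheme.Modules.pullback (PrinPart.pr2 f n)) :=
    (Scheme.Modules.pullbackPushforwardAdjunction (PrinPart.pr2 f n)).leftAdjoint_preservesColimits
  infer_instance

end PP

end Groth.Agent.Helper1.PPColim
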