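import Mathlib
import Groth.Agent.Helper1.PPColim
import Groth.Agent.Helper1.Dev1
import Groth.Agent.Lead.PPSymA
import Groth.Agent.Lead.PushStalk
import Groth.Agent.Helper4.PullUnit
import Groth.Agent.Helper3.FlatPullEx
import Groth.Agent.Helper3.P1CycI

/-!
# Helper1: if `P^n_{X/S}` is flat for its left structure, then `F ↦ P^n_{X/S}(F)` is exact
-/

set_option autoImplicit false
universe u
open CategoryTheory CategoryTheory.Limits AlgebraicGeometry Opposite TopologicalSpace

namespace Groth.Agent.Helper1.PPFlat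

open Groth.Agent.Helper4.StalkDict Groth.Agent.Helper4.PullUnit Groth.Agent.Lead.PushStalk

variable {X S : Scheme.{u}} (f : X ⟶ S) (n : ℕ)

/-- the stalk of `P^n` at `p₁ z` is the local ring of `X^{(n)}_Δ` at `z`, semilinearly for `p₁` -/
theorem exists_stalk_equiv (z : PrinPart.nbhd f n) :
    ∃ e : (PrinPart.P f n).presheaf.stalk (PrinPart.pr1 f n z) ≃+
        (PrinPart.nbhd f n).presheaf.stalk z,
      ∀ (r : X.presheaf.stalk (PrinPart.pr1 f n z))
        (m : (PrinPart.P f n).presheaf.stalk (PrinPart.pr1 f n z)),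
        e (r • m) = ((PrinPart.pr1 f n).stalkMap z).hom r * e m := by
  let M := (Scheme.Modules.pullback (PrinPart.pr2 f n)).obj (Coh.structureModule X)
  have hind : Topology.IsInducing (PrinPart.pr1 f n).base :=
    (Groth.Agent.Helper1.PPColim.isClosedEmbedding_pr1 f n).isInducing
  let e1 : (PrinPart.P f n).presheaf.stalk (PrinPart.pr1 f n z) ≃+ M.presheaf.stalk z :=
    AddEquiv.ofBijective (psHom (PrinPart.pr1 f n) M z) (psHom_bijective _ M hind z)
  have he1 : ∀ r m, e1 (r • m) = ((PrinPart.pr1 f n).stalkMap z).hom r • e1 m :=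
    fun r m => psHom_smul (PrinPart.pr1 f n) M z r m
  let e2 : M.presheaf.stalk z ≃ₗ[(PrinPart.nbhd f n).presheaf.stalk z]
      (Coh.structureModule (PrinPart.nbhd f n)).presheaf.stalk z :=
    LinearEquiv.ofBijective (stalkLin (pullbackUnitIso (PrinPart.pr2 f n)).hom z)
      (Groth.Agent.Helper1.Dev.stalkLin_bijective_of_isIso _ z)
  obtain ⟨e3⟩ := Groth.Agent.Helper3.P1Cyc.nonempty_linearEquiv_stalk_structureModule (PrinPart.nbhd f n) z
  refine ⟨e1.trans ((e2 ≪≫ₗ e3).toAddEquiv), fun r m => ?_⟩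
  change (e2 ≪≫ₗ e3) (e1 (r • m)) = _ * (e2 ≪≫ₗ e3) (e1 m)
  rw [he1, map_smul, smul_eq_mul]

/-- if `P^n` is flat for its left structure then `p₁` is flat -/
theorem flat_pr1 (hP : FlatMod.IsFlat (PrinPart.P f n)) : Flat (PrinPart.pr1 f n) := by
  rw [Flat.iff_flat_stalkMap]
  intro z
  obtain ⟨e, he⟩ := exists_stalk_equiv f n z
  have h : Module.Flat (X.presheaf.stalk (PrinPart.pr1 f n z))
      ((PrinPart.P f n).presheaf.stalk (PrinPart.pr1 f n z)) := hP (PrinPart.pr1 f n z)
  letI := ((PrinPart.pr1 f n).stalkMap z).hom.toAlgebra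
  let eL : (PrinPart.P f n).presheaf.stalk (PrinPart.pr1 f n z) ≃ₗ[X.presheaf.stalk
      (PrinPart.pr1 f n z)] (PrinPart.nbhd f n).presheaf.stalk z :=
    { e with
      map_smul' := fun r m => by
        change e (r • m) = _
        rw [he]
        rfl }
  exact Module.Flat.of_linearEquiv eL.symm

/-- if `P^n` is flat for its left structure then `p₂` is flat -/
theorem flat_pr2 (hP : FlatMod.IsFlat (PrinPart.P f n)) : Flat (PrinPart.pr2 f n) := by
  obtain ⟨σ, -, hσσ, -, hσ2, -⟩ := Groth.Agent.Lead.PPSymA.main f n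
  haveI : IsIso σ := ⟨σ, hσσ, hσσ⟩
  haveI := flat_pr1 f n hP
  have h2 : PrinPart.pr2 f n = σ ≫ PrinPart.pr1 f n := by
    rw [← hσ2, ← Category.assoc, hσσ, Category.id_comp]
  rw [h2]
  infer_instance

/-- **S5967** -/
theorem main (hP : FlatMod.IsFlat (PrinPart.P f n)) :
    PreservesFiniteLimits
      ((Scheme.Modules.pullback (PrinPart.pr2 f n)) ⋙
        (Scheme.Modules.pushforward (PrinPart.pr1 f n))) := by
  haveI := flat_pr2 f n hP
  haveI : PreservesFiniteLimits (Scheme.Modules.pullback (PrinPart.pr2 f n)) :=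
    Groth.Agent.Helper3.FlatPullEx.preservesFiniteLimits_pullback _
  haveI : PreservesLimitsOfSize.{0, 0} (Scheme.Modules.pushforward (PrinPart.pr1 f n)) :=
    (Scheme.Modules.pullbackPushforwardAdjunction (PrinPart.pr1 f n)).rightAdjoint_preservesLimits
  haveI : PreservesFiniteLimits (Scheme.Modules.pushforward (PrinPart.pr1 f n)) :=
    PreservesLimitsOfSize.preservesFiniteLimits _
  infer_instance

end Groth.Agent.Helper1.PPFlat
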