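import Mathlib
import Groth.Prelude.Def_Omega4
import Groth.Agent.Helper9.SkyMod4
import Groth.Agent.Helper4.QcohExt

/-!
# Helper1: the stalk of a pullback `g^*F` is generated, over the local ring, by the germs of the
pulled back sections of `F` (for arbitrary `O_X`-modules `F`)
-/

set_option autoImplicit false
universe u
open CategoryTheory CategoryTheory.Limits AlgebraicGeometry Opposite TopologicalSpace

namespace Groth.Agent.Helper1.PullGen

open Groth.Agent.Helper9.SkyMod1 Groth.Agent.Helper9.SkyMod2 Groth.Agent.Helper9.SkyMod4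

variable {Z X : Scheme.{u}} (g : Z ⟶ X) (F : X.Modules) (z : Z)

theorem homEquiv_adjPull_app (N : ModuleCat.{u} (Z.presheaf.stalk z))
    (q : (DerSch.stalkFunctor Z z).obj ((Scheme.Modules.pullback g).obj F) ⟶ N)
    (U : X.Opens) (t : Γ(F, U)) (h : PLift (z ∈ g ⁻¹ᵁ U)) :
    ((((adjPull z g).homEquiv F N q).app U t : Γ(sky z N, g ⁻¹ᵁ U)) :
      PLift (z ∈ g ⁻¹ᵁ U) → N) h =
    q.hom (((Scheme.Modules.pullback g).obj F).presheaf.germ (g ⁻¹ᵁ U) z h.down
      (OmegaSh.pullSect g F U t)) := by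
  unfold adjPull
  rw [Adjunction.comp_homEquiv]
  rfl

/-- germs at `z` of pulled back sections of `F` -/
def gens : Set (((Scheme.Modules.pullback g).obj F).presheaf.stalk z) :=
  {m | ∃ (U : X.Opens) (hz : g z ∈ U) (t : Γ(F, U)),
    m = ((Scheme.Modules.pullback g).obj F).presheaf.germ (g ⁻¹ᵁ U) z hz
      (OmegaSh.pullSect g F U t)}

theorem span_gens : Submodule.span (Z.presheaf.stalk z) (gens g F z) = ⊤ := by
  let M := (Scheme.Modules.pullback g).obj F
  let Q : Submodule (Z.presheaf.stalk z) (M.presheaf.stalk z) :=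
    Submodule.span (Z.presheaf.stalk z) (gens g F z)
  let N : ModuleCat.{u} (Z.presheaf.stalk z) := ModuleCat.of _ (M.presheaf.stalk z ⧸ Q)
  let q : (DerSch.stalkFunctor Z z).obj M ⟶ N := ModuleCat.ofHom Q.mkQ
  have hq : q = 0 := by
    apply ((adjPull z g).homEquiv F N).injective
    ext U t
    funext h
    refine (homEquiv_adjPull_app g F z N q U t h).trans ?_
    refine Eq.trans ?_ (homEquiv_adjPull_app g F z N 0 U t h).symm
    change Q.mkQ _ = 0
    rw [Submodule.mkQ_apply, Submodule.Quotient.mk_eq_zero]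
    exact Submodule.subset_span ⟨U, h.down, t, rfl⟩
  have h2 : Q.mkQ = 0 := by
    have := congrArg ModuleCat.Hom.hom hq
    exact this
  have h3 : LinearMap.ker Q.mkQ = ⊤ := by rw [h2]; exact LinearMap.ker_zero
  rw [Submodule.ker_mkQ] at h3
  exact h3

/-- the `Γ(Z, W)`-submodule of `Γ(g^*F, W)` generated by restrictions of pulled back sections -/
noncomputable def G (W : Z.Opens) : Submodule Γ(Z, W) Γ((Scheme.Modules.pullback g).obj F, W) :=
  Submodule.span _ {m | ∃ (U : X.Opens) (hW : W ≤ g ⁻¹ᵁ U) (t : Γ(F, U)),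
    m = ((Scheme.Modules.pullback g).obj F).presheaf.map (homOfLE hW).op
      (OmegaSh.pullSect g F U t)}

theorem pullSect_mem_G (U : X.Opens) (t : Γ(F, U)) : (OmegaSh.pullSect g F U t) ∈ G g F (g ⁻¹ᵁ U) := by
  refine Submodule.subset_span ⟨U, le_rfl, t, ?_⟩
  have : (homOfLE (le_refl (g ⁻¹ᵁ U))).op = 𝟙 _ := rfl
  rw [this, CategoryTheory.Functor.map_id]
  rfl

theorem res_mem_G {W W' : Z.Opens} (hW : W' ≤ W)
    (m : Γ((Scheme.Modules.pullback g).obj F, W)) (hm : m ∈ G g F W) :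
    ((Scheme.Modules.pullback g).obj F).presheaf.map (homOfLE hW).op m ∈ G g F W' := by
  induction hm using Submodule.span_induction with
  | mem x hx =>
    obtain ⟨U, hWU, t, rfl⟩ := hx
    refine Submodule.subset_span ⟨U, hW.trans hWU, t, ?_⟩
    exact OmegaSh.resM_resM _ _ _
  | zero => rw [map_zero]; exact Submodule.zero_mem _
  | add x y _ _ hx hy => rw [map_add]; exact Submodule.add_mem _ hx hy
  | smul r x _ hx =>
    rw [Groth.Agent.Helper4.QcohExt.res_smul]
    exact Submodule.smul_mem _ _ hx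

/-- every germ of `g^*F` is the germ of a section in `G` -/
theorem exists_mem_G_germ (m : ((Scheme.Modules.pullback g).obj F).presheaf.stalk z) :
    ∃ (W : Z.Opens) (hz : z ∈ W) (s : Γ((Scheme.Modules.pullback g).obj F, W)),
      s ∈ G g F W ∧ ((Scheme.Modules.pullback g).obj F).presheaf.germ W z hz s = m := by
  have hm : m ∈ Submodule.span (Z.presheaf.stalk z) (gens g F z) := by
    rw [span_gens]; trivial
  induction hm using Submodule.span_induction with
  | mem x hx =>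
    obtain ⟨U, hz, t, rfl⟩ := hx
    exact ⟨g ⁻¹ᵁ U, hz, _, pullSect_mem_G g F U t, rfl⟩
  | zero => exact ⟨⊤, trivial, 0, Submodule.zero_mem _, map_zero _⟩
  | add x y _ _ hx hy =>
    obtain ⟨W₁, hz₁, s₁, hs₁, rfl⟩ := hx
    obtain ⟨W₂, hz₂, s₂, hs₂, rfl⟩ := hy
    refine ⟨W₁ ⊓ W₂, ⟨hz₁, hz₂⟩, _, Submodule.add_mem _ (res_mem_G g F inf_le_left s₁ hs₁)
      (res_mem_G g F inf_le_right s₂ hs₂), ?_⟩
    rw [map_add]
    congr 1
    · exact TopCat.Presheaf.germ_res_apply _ (homOfLE inf_le_left) z ⟨hz₁, hz₂⟩ s₁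
    · exact TopCat.Presheaf.germ_res_apply _ (homOfLE inf_le_right) z ⟨hz₁, hz₂⟩ s₂
  | smul r x _ hx =>
    obtain ⟨W₁, hz₁, s₁, hs₁, rfl⟩ := hx
    obtain ⟨W₀, hz₀, ρ, rfl⟩ := TopCat.Presheaf.exists_germ_eq Z.presheaf r
    refine ⟨W₀ ⊓ W₁, ⟨hz₀, hz₁⟩, Z.presheaf.map (homOfLE inf_le_left).op ρ •
      ((Scheme.Modules.pullback g).obj F).presheaf.map (homOfLE inf_le_right).op s₁,
      Submodule.smul_mem _ _ (res_mem_G g F inf_le_right s₁ hs₁), ?_⟩
    rw [germ_smul]
    congr 1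
    · exact TopCat.Presheaf.germ_res_apply _ (homOfLE inf_le_left) z ⟨hz₀, hz₁⟩ ρ
    · exact TopCat.Presheaf.germ_res_apply _ (homOfLE inf_le_right) z ⟨hz₀, hz₁⟩ s₁

/-- every section of `g^*F` is locally in `G` -/
theorem exists_res_mem_G {W : Z.Opens} (s : Γ((Scheme.Modules.pullback g).obj F, W)) (hz : z ∈ W) :
    ∃ (W' : Z.Opens) (hW' : W' ≤ W), z ∈ W' ∧
      ((Scheme.Modules.pullback g).obj F).presheaf.map (homOfLE hW').op s ∈ G g F W' := by
  obtain ⟨W₁, hz₁, s₁, hs₁, he⟩ := exists_mem_G_germ g F z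
    (((Scheme.Modules.pullback g).obj F).presheaf.germ W z hz s)
  obtain ⟨W₂, hz₂, i₁, i₂, he'⟩ := TopCat.Presheaf.germ_eq _ z hz₁ hz s₁ s he
  refine ⟨W₂, i₂.le, hz₂, ?_⟩
  have : ((Scheme.Modules.pullback g).obj F).presheaf.map (homOfLE i₂.le).op s =
      ((Scheme.Modules.pullback g).obj F).presheaf.map (homOfLE i₁.le).op s₁ := he'.symm
  rw [this]
  exact res_mem_G g F i₁.le s₁ hs₁

end Groth.Agent.Helper1.PullGen
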