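import Mathlib
import Groth.Agent.Helper1.PullGen
import Groth.Agent.Helper1.PPColim
import Groth.Agent.Lead.PPGenA

/-!
# Helper1: `P^n_{X/S}(F)` is generated by the image of `d^n`, for an arbitrary `O_X`-module `F`
-/

set_option autoImplicit false
universe u
open CategoryTheory CategoryTheory.Limits AlgebraicGeometry Opposite TopologicalSpace

namespace Groth.Agent.Helper1.PPGenF

open Groth.Agent.Lead.PPChartF Groth.Agent.Lead.PPGenA Groth.Agent.Helper1.PullGen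

variable {X S : Scheme.{u}} (f : X ⟶ S) (n : ℕ) (F : X.Modules)

/-- the action of functions on `X^{(n)}_Δ` over `p₁⁻¹V` on sections of `P^n(F)` over `V` -/
noncomputable def act (V : X.Opens) (ρ : Γ(PrinPart.nbhd f n, PrinPart.pr1 f n ⁻¹ᵁ V))
    (y : Γ(PrinPart.PMod f n F, V)) : Γ(PrinPart.PMod f n F, V) :=
  (ρ • (show Γ((Scheme.Modules.pullback (PrinPart.pr2 f n)).obj F, PrinPart.pr1 f n ⁻¹ᵁ V) from y) :
    Γ((Scheme.Modules.pullback (PrinPart.pr2 f n)).obj F, PrinPart.pr1 f n ⁻¹ᵁ V))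

theorem act_add (V : X.Opens) (ρ : Γ(PrinPart.nbhd f n, PrinPart.pr1 f n ⁻¹ᵁ V))
    (y y' : Γ(PrinPart.PMod f n F, V)) : act f n F V ρ (y + y') = act f n F V ρ y + act f n F V ρ y' :=
  smul_add ρ (show Γ((Scheme.Modules.pullback (PrinPart.pr2 f n)).obj F, PrinPart.pr1 f n ⁻¹ᵁ V) from y)
    (show Γ((Scheme.Modules.pullback (PrinPart.pr2 f n)).obj F, PrinPart.pr1 f n ⁻¹ᵁ V) from y')

theorem act_zero (V : X.Opens) (ρ : Γ(PrinPart.nbhd f n, PrinPart.pr1 f n ⁻¹ᵁ V)) :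
    act f n F V ρ 0 = 0 :=
  smul_zero (A := Γ((Scheme.Modules.pullback (PrinPart.pr2 f n)).obj F, PrinPart.pr1 f n ⁻¹ᵁ V)) ρ

theorem add_act (V : X.Opens) (ρ ρ' : Γ(PrinPart.nbhd f n, PrinPart.pr1 f n ⁻¹ᵁ V))
    (y : Γ(PrinPart.PMod f n F, V)) : act f n F V (ρ + ρ') y = act f n F V ρ y + act f n F V ρ' y :=
  add_smul ρ ρ' (show Γ((Scheme.Modules.pullback (PrinPart.pr2 f n)).obj F, PrinPart.pr1 f n ⁻¹ᵁ V) from y)

theorem zero_act (V : X.Opens) (y : Γ(PrinPart.PMod f n F, V)) : act f n F V 0 y = 0 :=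
  zero_smul _ (show Γ((Scheme.Modules.pullback (PrinPart.pr2 f n)).obj F, PrinPart.pr1 f n ⁻¹ᵁ V) from y)

theorem one_act (V : X.Opens) (y : Γ(PrinPart.PMod f n F, V)) : act f n F V 1 y = y :=
  one_smul _ (show Γ((Scheme.Modules.pullback (PrinPart.pr2 f n)).obj F, PrinPart.pr1 f n ⁻¹ᵁ V) from y)

theorem mul_act (V : X.Opens) (ρ ρ' : Γ(PrinPart.nbhd f n, PrinPart.pr1 f n ⁻¹ᵁ V))
    (y : Γ(PrinPart.PMod f n F, V)) : act f n F V (ρ * ρ') y = act f n F V ρ (act f n F V ρ' y) :=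
  mul_smul ρ ρ' (show Γ((Scheme.Modules.pullback (PrinPart.pr2 f n)).obj F, PrinPart.pr1 f n ⁻¹ᵁ V) from y)

theorem pr1_act (V : X.Opens) (α : Γ(X, V)) (y : Γ(PrinPart.PMod f n F, V)) :
    act f n F V ((PrinPart.pr1 f n).app V α) y = α • y := rfl

theorem pr2_act_dP (V : X.Opens) (β : Γ(X, V)) (t : Γ(F, V)) :
    act f n F V ((PrinPart.nbhd f n).presheaf.map (homOfLE (PrinPart.preimage_pr1 f n V).le).op
      ((PrinPart.pr2 f n).app V β)) (PrinPart.dP f n F V t) = PrinPart.dP f n F V (β • t) := by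
  rw [PrinPart.dP_apply, PrinPart.dP_apply, OmegaSh.pullSect_smul,
    Groth.Agent.Helper4.QcohExt.res_smul]
  rfl

variable {F} {G : X.Modules} (a b : PrinPart.PMod f n F ⟶ G)

/-- Step 1: on an open where `Γ(P^n, V)` is spanned by `d^n`, the two maps agree on `ρ • d^n t` -/
theorem key1 (h : ∀ (U : X.Opens) (t : Γ(F, U)),
      a.app U (PrinPart.dP f n F U t) = b.app U (PrinPart.dP f n F U t))
    (V : X.Opens)
    (hspan : Submodule.span Γ(X, V) (Set.range (PrinPart.dn f n V)) = ⊤)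
    (ρ : Γ(PrinPart.nbhd f n, PrinPart.pr1 f n ⁻¹ᵁ V)) (t : Γ(F, V)) :
    a.app V (act f n F V ρ (PrinPart.dP f n F V t)) =
      b.app V (act f n F V ρ (PrinPart.dP f n F V t)) := by
  obtain ⟨m, rfl⟩ := (Phi_bijective f n V).surjective ρ
  have hm : m ∈ Submodule.span Γ(X, V) (Set.range (PrinPart.dn f n V)) := by
    rw [hspan]; trivial
  induction hm using Submodule.span_induction generalizing t with
  | mem x hx =>
    obtain ⟨β, rfl⟩ := hx
    rw [Phi_dn, pr2_act_dP]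
    exact h V _
  | zero => rw [map_zero, zero_act, map_zero, map_zero]
  | add x y _ _ hx hy => rw [map_add, add_act, map_add, map_add, hx, hy]
  | smul α x _ hx =>
    rw [Phi_smul, mul_act, pr1_act, Scheme.Modules.Hom.app_smul, Scheme.Modules.Hom.app_smul, hx]

theorem le_of_preimage_le {V U' : X.Opens}
    (hle : PrinPart.pr1 f n ⁻¹ᵁ V ≤ PrinPart.pr2 f n ⁻¹ᵁ U') : V ≤ U' := by
  intro x hx
  have h1 : PrinPart.pr1 f n (PrinPart.toNbhd f n x) = x := by
    rw [← Scheme.Hom.comp_apply, PrinPart.toNbhd_pr1]; rfl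
  have h2 : PrinPart.pr2 f n (PrinPart.toNbhd f n x) = x := by
    rw [← Scheme.Hom.comp_apply, PrinPart.toNbhd_pr2]; rfl
  have h3 : PrinPart.toNbhd f n x ∈ PrinPart.pr1 f n ⁻¹ᵁ V := by
    change PrinPart.pr1 f n (PrinPart.toNbhd f n x) ∈ V
    rw [h1]; exact hx
  have h4 := hle h3
  change PrinPart.pr2 f n (PrinPart.toNbhd f n x) ∈ U' at h4
  rwa [h2] at h4

/-- Step 2 -/
theorem key2 (h : ∀ (U : X.Opens) (t : Γ(F, U)),
      a.app U (PrinPart.dP f n F U t) = b.app U (PrinPart.dP f n F U t))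
    (V : X.Opens)
    (hspan : Submodule.span Γ(X, V) (Set.range (PrinPart.dn f n V)) = ⊤)
    (y : Γ((Scheme.Modules.pullback (PrinPart.pr2 f n)).obj F, PrinPart.pr1 f n ⁻¹ᵁ V))
    (hy : y ∈ PullGen.G (PrinPart.pr2 f n) F (PrinPart.pr1 f n ⁻¹ᵁ V))
    (ρ : Γ(PrinPart.nbhd f n, PrinPart.pr1 f n ⁻¹ᵁ V)) :
    a.app V (act f n F V ρ y) = b.app V (act f n F V ρ y) := by
  induction hy using Submodule.span_induction generalizing ρ with
  | mem x hx =>
    obtain ⟨U', hWU, t', rfl⟩ := hx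
    have hVU : V ≤ U' := le_of_preimage_le f n hWU
    have h1 : ((Scheme.Modules.pullback (PrinPart.pr2 f n)).obj F).presheaf.map (homOfLE hWU).op
        (OmegaSh.pullSect (PrinPart.pr2 f n) F U' t') =
        PrinPart.dP f n F V (F.presheaf.map (homOfLE hVU).op t') := by
      rw [PrinPart.dP_apply, OmegaSh.pullSect_map, OmegaSh.resM_resM]
      rfl
    rw [h1]
    exact key1 f n a b h V hspan ρ _
  | zero =>
    have e : act f n F V ρ 0 = 0 := act_zero f n F V ρ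
    show a.app V (act f n F V ρ (0 : Γ(PrinPart.PMod f n F, V))) =
      b.app V (act f n F V ρ (0 : Γ(PrinPart.PMod f n F, V)))
    rw [e, map_zero, map_zero]
  | add x y _ _ hx hy =>
    have e : act f n F V ρ (x + y) = act f n F V ρ x + act f n F V ρ y := act_add f n F V ρ x y
    show a.app V (act f n F V ρ ((x : Γ(PrinPart.PMod f n F, V)) + (y : Γ(PrinPart.PMod f n F, V)))) =
      b.app V (act f n F V ρ ((x : Γ(PrinPart.PMod f n F, V)) + (y : Γ(PrinPart.PMod f n F, V))))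
    rw [e, map_add, map_add, hx, hy]
  | smul ρ' x _ hx =>
    have e : act f n F V ρ (act f n F V ρ' x) = act f n F V (ρ * ρ') x :=
      (mul_act f n F V ρ ρ' x).symm
    show a.app V (act f n F V ρ (act f n F V ρ' x)) = b.app V (act f n F V ρ (act f n F V ρ' x))
    rw [e]
    exact hx _

/-- **S5958** -/
theorem main (h : ∀ (U : X.Opens) (t : Γ(F, U)),
      a.app U (PrinPart.dP f n F U t) = b.app U (PrinPart.dP f n F U t)) : a = b := by
  apply Scheme.Modules.hom_ext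
  intro U
  apply AddCommGrpCat.hom_ext
  apply AddMonoidHom.ext
  intro s
  have hloc : ∀ x : U, ∃ V : X.Opens, ∃ hVU : V ≤ U, x.1 ∈ V ∧
      a.app V ((PrinPart.PMod f n F).presheaf.map (homOfLE hVU).op s) =
        b.app V ((PrinPart.PMod f n F).presheaf.map (homOfLE hVU).op s) := by
    intro x
    set z := PrinPart.toNbhd f n x.1 with hz
    have h1 : PrinPart.pr1 f n z = x.1 := by
      rw [hz, ← Scheme.Hom.comp_apply, PrinPart.toNbhd_pr1]; rfl
    have hzU : z ∈ PrinPart.pr1 f n ⁻¹ᵁ U := by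
      change PrinPart.pr1 f n z ∈ U
      rw [h1]; exact x.2
    obtain ⟨W', hW', hzW', hmem⟩ := exists_res_mem_G (PrinPart.pr2 f n) F z
      (show Γ((Scheme.Modules.pullback (PrinPart.pr2 f n)).obj F, PrinPart.pr1 f n ⁻¹ᵁ U) from s) hzU
    have hx0 : x.1 ∈ U ⊓ (PrinPart.toNbhd f n ⁻¹ᵁ W') := ⟨x.2, hzW'⟩
    obtain ⟨_, ⟨i, rfl⟩, hxV, hVle⟩ :=
      Opens.isBasis_iff_nbhd.mp (Groth.Agent.Lead.OmegaUnivA.isBasis f) hx0
    set V := Groth.Agent.Lead.OmegaUnivA.B f i with hV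
    have hVU : V ≤ U := fun y hy => (hVle hy).1
    have hVW : PrinPart.pr1 f n ⁻¹ᵁ V ≤ W' := by
      intro y hy
      have hy1 : PrinPart.pr1 f n y ∈ V := hy
      have hy2 := (hVle hy1).2
      have hy3 : PrinPart.toNbhd f n (PrinPart.pr1 f n y) = y :=
        (Groth.Agent.Helper1.PPColim.pr1Homeo f n).left_inv y
      change PrinPart.toNbhd f n (PrinPart.pr1 f n y) ∈ W' at hy2
      rwa [hy3] at hy2
    refine ⟨V, hVU, hxV, ?_⟩
    have hspan := span_dn f n i.1.1.2 i.1.2.2 i.2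
    have h2 : (PrinPart.PMod f n F).presheaf.map (homOfLE hVU).op s =
        ((Scheme.Modules.pullback (PrinPart.pr2 f n)).obj F).presheaf.map (homOfLE hVW).op
          (((Scheme.Modules.pullback (PrinPart.pr2 f n)).obj F).presheaf.map (homOfLE hW').op s) := by
      rw [OmegaSh.resM_resM]
      rfl
    have h3 := key2 f n a b h V hspan _ (res_mem_G (PrinPart.pr2 f n) F hVW _ hmem) 1
    rw [one_act] at h3
    rw [h2]
    exact h3
  choose V hVU hxV hV using hloc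
  apply Groth.Agent.Helper1.BasisHom.section_ext_of_cover G U V hVU
  · intro x hx
    exact Opens.mem_iSup.mpr ⟨⟨x, hx⟩, hxV ⟨x, hx⟩⟩
  · intro k
    rw [← app_res', ← app_res']
    exact hV k

end Groth.Agent.Helper1.PPGenF
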