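import Mathlib
import Groth.Agent.Helper1.PR1

/-!
# The canonical retraction of the pointed affine cone, part 2: `π = i' ≫ r` is affine and
surjective
-/

set_option autoImplicit false
set_option linter.style.haveILetI false

namespace Groth.Agent.Helper1.PR

open CategoryTheory Limits AlgebraicGeometry TopologicalSpace Opposite RelProj RelCone
  HomogeneousLocalization Groth.Agent.Helper1.RP Groth.Agent.Helper1.PC Groth.Agent.Helper1.AC
open scoped HomogeneousIdeal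

universe u

noncomputable section

variable {Y PC P : Scheme.{u}} {𝒮 𝒮h : QCGrAlg Y} {ι : 𝒮.toQCAlg ⟶ 𝒮h.toQCAlg}
  {z : 𝒮h.presheaf.obj (op ⊤)} (hz : IsPolyOver 𝒮 𝒮h ι z)
  {pC : PC ⟶ Y}
  {chartC : ∀ (U : Y.Opens) (hU : IsAffineOpen U),
    (((pC ⁻¹ᵁ U : PC.Opens) : Scheme.{u}) ≅ Proj (𝒮h.deg U hU))}
  {p : P ⟶ Y}
  {chart : ∀ (U : Y.Opens) (hU : IsAffineOpen U),
    (((p ⁻¹ᵁ U : P.Opens) : Scheme.{u}) ≅ Proj (𝒮.deg U hU))}

/-- the image of the pointed affine cone lies in the pointed projective cone -/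
theorem pointedCone_le_preimage {i : 𝒮.toQCAlg.spec ⟶ PC} (hi : IsConeImm 𝒮 hz pC chartC i) :
    pointedCone 𝒮 ≤ i ⁻¹ᵁ (pointedProjCone 𝒮 hz pC chartC) := by
  intro c hc
  obtain ⟨U, hU, v, rfl⟩ := exists_ι 𝒮.toQCAlg c
  have hv : v ∈ vertexCompl (𝒮.deg U hU) := (ι_mem_pointedCone_iff 𝒮 U hU v).1 hc
  obtain ⟨d, hd, f, hf, hfv⟩ := (mem_vertexCompl_iff_homog _ v).1 hv
  have hx := coneImm_apply hz hi U hU v
  have hxf := (coneImm_mem_basicOpen_iff hz U hU hd f hf v).2 hfv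
  rw [← Proj.opensRange_awayι (𝒮h.deg U hU) ((gradedHomAt ι hz.graded U hU) f)
    ((gradedHomAt ι hz.graded U hU).2 hf) hd] at hxf
  obtain ⟨w, hw⟩ := hxf
  have h1 := range_chart_subset hz pC chartC U hU hd f hf
  rw [Scheme.Opens.range_ι] at h1
  show i ((𝒮.toQCAlg.ι U hU) v) ∈ (pointedProjCone 𝒮 hz pC chartC : Set PC)
  apply h1
  refine ⟨w, ?_⟩
  rw [hx]
  show (emb pC chartC U hU) ((Proj.awayι (𝒮h.deg U hU) ((gradedHomAt ι hz.graded U hU) f)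
      ((gradedHomAt ι hz.graded U hU).2 hf) hd) w) = _
  exact congrArg _ hw

variable (hP : IsRelProj 𝒮 p chart) (hPC : IsRelProj 𝒮h pC chartC)
  {i : 𝒮.toQCAlg.spec ⟶ PC} (hi : IsConeImm 𝒮 hz pC chartC i)
  {r : ((pointedProjCone 𝒮 hz pC chartC : PC.Opens) : Scheme.{u}) ⟶ P}
  (hr : IsRetr hz pC chartC p chart r)
  {i' : ((pointedCone 𝒮 : 𝒮.toQCAlg.spec.Opens) : Scheme.{u}) ⟶
    ((pointedProjCone 𝒮 hz pC chartC : PC.Opens) : Scheme.{u})}
  (hi' : i' ≫ (pointedProjCone 𝒮 hz pC chartC).ι = (pointedCone 𝒮).ι ≫ i)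

include hi hr hi' in
/-- point-level description of `π = i' ≫ r` -/
theorem pi_apply (U : Y.Opens) (hU : IsAffineOpen U) (v : Spec (𝒮.presheaf.obj (op U)))
    (e : ((pointedCone 𝒮 : 𝒮.toQCAlg.spec.Opens) : Scheme.{u}))
    (he : (pointedCone 𝒮).ι e = (𝒮.toQCAlg.ι U hU) v) :
    ∃ q : Proj (𝒮.deg U hU), (i' ≫ r) e = (emb p chart U hU) q ∧
      ∀ (d : ℕ) (_ : 0 < d) (g : 𝒮.presheaf.obj (op U)) (_ : g ∈ 𝒮.deg U hU d),
        g ∈ q.asHomogeneousIdeal ↔ g ∈ v.asIdeal := by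
  have hv : v ∈ vertexCompl (𝒮.deg U hU) := by
    rw [← ι_mem_pointedCone_iff 𝒮 U hU v, ← he]
    exact e.2
  have h1 : (pointedProjCone 𝒮 hz pC chartC).ι (i' e) = i ((𝒮.toQCAlg.ι U hU) v) := by
    have := congrArg (fun t : _ ⟶ PC => t e) hi'
    rw [← he]
    exact this
  exact retr_coneImm_apply hz hi hr U hU v hv (i' e) h1

include hP hPC hi hr hi' in
theorem pi_comm : (i' ≫ r) ≫ p = (pointedCone 𝒮).ι ≫ 𝒮.toQCAlg.π := by
  rw [Category.assoc, isRetr_comm hz hP hPC hr, reassoc_of% hi', coneImm_comm hz hPC hi]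

include hP hPC hi hr hi' in
/-- the preimage under `π` of the standard chart `D_+(f)` of `Proj(𝒮)` -/
theorem pi_preimage (U : Y.Opens) (hU : IsAffineOpen U) {d : ℕ} (hd : 0 < d)
    (f : 𝒮.presheaf.obj (op U)) (hf : f ∈ 𝒮.deg U hU d) :
    (i' ≫ r) ⁻¹ᵁ (Proj.awayι (𝒮.deg U hU) f hf hd ≫ emb p chart U hU).opensRange =
      (pointedCone 𝒮).ι ⁻¹ᵁ ((𝒮.toQCAlg.ι U hU) ''ᵁ
        (PrimeSpectrum.basicOpen f : (Spec (𝒮.presheaf.obj (op U))).Opens)) := by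
  ext e
  constructor
  · intro he
    obtain ⟨w, hw⟩ := he
    have hw' : (emb p chart U hU) ((Proj.awayι (𝒮.deg U hU) f hf hd) w) = (i' ≫ r) e := hw
    -- `e` lies over `U`
    have h1 : 𝒮.toQCAlg.π ((pointedCone 𝒮).ι e) ∈ U := by
      have := congrArg (fun t : _ ⟶ Y => t e) (pi_comm hz hP hPC hi hr hi')
      have h2 : p ((i' ≫ r) e) ∈ U := by
        rw [← hw']
        exact emb_mem p chart U hU _
      exact this ▸ h2
    obtain ⟨v, hv⟩ := exists_ι_of_mem 𝒮.toQCAlg _ U hU h1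
    obtain ⟨q, hq, hqv⟩ := pi_apply hz hi hr hi' U hU v e hv.symm
    have hqq : q = (Proj.awayι (𝒮.deg U hU) f hf hd) w :=
      (emb p chart U hU).injective (hq.symm.trans hw'.symm)
    have hqf : q ∈ Proj.basicOpen (𝒮.deg U hU) f := by
      rw [hqq, ← Proj.opensRange_awayι (𝒮.deg U hU) f hf hd]
      exact ⟨w, rfl⟩
    rw [Proj.mem_basicOpen, hqv d hd f hf] at hqf
    exact ⟨v, hqf, hv⟩
  · rintro ⟨v, hvf, hv⟩
    obtain ⟨q, hq, hqv⟩ := pi_apply hz hi hr hi' U hU v e hv.symm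
    have hqf : q ∈ Proj.basicOpen (𝒮.deg U hU) f := by
      rw [Proj.mem_basicOpen, hqv d hd f hf]
      exact hvf
    rw [← Proj.opensRange_awayι (𝒮.deg U hU) f hf hd] at hqf
    obtain ⟨w, hw⟩ := hqf
    refine ⟨w, ?_⟩
    show (emb p chart U hU) ((Proj.awayι (𝒮.deg U hU) f hf hd) w) = (i' ≫ r) e
    rw [hq]
    exact congrArg _ hw

include hP hPC hi hr hi' in
/-- **`π = i' ≫ r` is affine** -/
theorem pi_isAffineHom : IsAffineHom (i' ≫ r) := by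
  apply isAffineHom_of_forall_exists_isAffineOpen
  intro x
  obtain ⟨_, ⟨U, hU : IsAffineOpen U, rfl⟩, hxU, -⟩ :=
    Y.isBasis_affineOpens.exists_subset_of_mem_open (Set.mem_univ (p x)) isOpen_univ
  have hx : x ∈ (emb p chart U hU).opensRange := by
    rw [opensRange_emb]; exact hxU
  obtain ⟨q, rfl⟩ := hx
  obtain ⟨d, hd, f, hf, hfq⟩ := exists_homog_notMem q
  have hqf : q ∈ Proj.basicOpen (𝒮.deg U hU) f := by
    rw [Proj.mem_basicOpen]; exact hfq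
  rw [← Proj.opensRange_awayι (𝒮.deg U hU) f hf hd] at hqf
  obtain ⟨w, hw⟩ := hqf
  refine ⟨(Proj.awayι (𝒮.deg U hU) f hf hd ≫ emb p chart U hU).opensRange, ?_, ?_, ?_⟩
  · refine ⟨w, ?_⟩
    show (emb p chart U hU) ((Proj.awayι (𝒮.deg U hU) f hf hd) w) = _
    exact congrArg _ hw
  · exact isAffineOpen_opensRange _
  · rw [pi_preimage hz hP hPC hi hr hi' U hU hd f hf]
    apply IsAffineOpen.preimage_of_isOpenImmersion
    · exact (IsAffineOpen.Spec_basicOpen f).image_of_isOpenImmersion _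
    · rw [Scheme.Opens.opensRange_ι]
      rintro _ ⟨v, hvf, rfl⟩
      show (𝒮.toQCAlg.ι U hU) v ∈ pointedCone 𝒮
      rw [ι_mem_pointedCone_iff 𝒮 U hU v, mem_vertexCompl_iff_homog]
      exact ⟨d, hd, f, hf, hvf⟩

include hi hr hi' in
/-- **`π = i' ≫ r` is surjective** -/
theorem pi_surjective : Function.Surjective (i' ≫ r) := by
  intro x
  obtain ⟨_, ⟨U, hU : IsAffineOpen U, rfl⟩, hxU, -⟩ :=
    Y.isBasis_affineOpens.exists_subset_of_mem_open (Set.mem_univ (p x)) isOpen_univ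
  have hx : x ∈ (emb p chart U hU).opensRange := by
    rw [opensRange_emb]; exact hxU
  obtain ⟨q, rfl⟩ := hx
  have hv := specPt_mem_vertexCompl (𝒮.deg U hU) q
  have hE : (𝒮.toQCAlg.ι U hU) (specPt (𝒮.deg U hU) q) ∈ pointedCone 𝒮 :=
    (ι_mem_pointedCone_iff 𝒮 U hU _).2 hv
  let e : ((pointedCone 𝒮 : 𝒮.toQCAlg.spec.Opens) : Scheme.{u}) := ⟨_, hE⟩
  obtain ⟨q', hq', hqv⟩ := pi_apply hz hi hr hi' U hU (specPt (𝒮.deg U hU) q) e rfl
  refine ⟨e, ?_⟩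
  rw [hq']
  congr 1
  apply proj_ext_pos
  intro d hd g hg
  rw [hqv d hd g hg]
  rfl

end

end Groth.Agent.Helper1.PR
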