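import Groth.Agent.Helper1.SL3
import Groth.Agent.Helper4.TensorInv
import Groth.Agent.Lead.ClLib

set_option autoImplicit false
set_option linter.style.haveILetI false
set_option linter.unusedSectionVars false
set_option linter.unusedVariables false

/-!
# Preparations for the separatedness of the Picard scheme
-/

namespace Groth.Agent.Helper1.PSep

open CategoryTheory AlgebraicGeometry AlgebraicGeometry.Scheme.Modules TopologicalSpace Topology
open Groth.Agent.Helper1.UGC Groth.Agent.Helper4 Groth.Agent.Helper4.FinLocFree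
open Groth.Agent.Helper1.SS

universe u

/-- a point outside a set whose preimage under an open map is closed has an open neighbourhood
outside the set -/
theorem exists_open_nhd_compl {W T : Type*} [TopologicalSpace W] [TopologicalSpace T] (w : W → T)
    (hw : IsOpenMap w) (C : Set T) (hC : IsClosed (w ⁻¹' C)) (t : T) (ht : t ∈ Set.range w)
    (htC : t ∉ C) : ∃ V : Set T, IsOpen V ∧ t ∈ V ∧ V ⊆ Cᶜ := by
  obtain ⟨x, rfl⟩ := ht
  refine ⟨w '' (w ⁻¹' C)ᶜ, hw _ hC.isOpen_compl, ⟨x, htC, rfl⟩, ?_⟩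
  rintro _ ⟨y, hy, rfl⟩
  exact hy

/-- **the closed seesaw subscheme of a line bundle**, for arbitrary cartesian squares -/
theorem exists_closed_seesaw' {X S : Scheme.{u}} (f : X ⟶ S) [IsProper f] [Flat f]
    [LocallyOfFinitePresentation f] [GeometricallyIntegral f]
    (L : X.Modules) (hL : FlatMod.IsFinLocFreeOfRank 1 L) :
    ∃ (Z : Scheme.{u}) (ι : Z ⟶ S), IsClosedImmersion ι ∧
      ∀ {Y T : Scheme.{u}} (g : T ⟶ S) (p : Y ⟶ T) (v : Y ⟶ X) (_ : IsPullback v p f g),
        ((∃ u' : T ⟶ Z, u' ≫ ι = g) ↔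
          ∃ M : T.Modules, FlatMod.IsFinLocFreeOfRank 1 M ∧
            Nonempty ((pullback v).obj L ≅ (pullback p).obj M)) := by
  have hLf : FlatMod.IsFinLocFree L := isFinLocFree_of_rank hL
  have hLinv : PicF.IsInvertible L := fun x => by
    obtain ⟨U, hx, ⟨e⟩⟩ := hL x
    exact ⟨U, hx, ⟨e ≪≫ Groth.Agent.Helper4.QAffSec.freeOneIso _⟩⟩
  have h := fun s => Groth.Agent.Helper1.SW.isIso_appTop_of_geometricallyIntegral f s
  haveI : Surjective f := surjective_of_geometricallyIntegral f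
  obtain ⟨P⟩ := nonempty_rankPiece f h L hLf 1
  haveI := P.imm
  refine ⟨P.Z, P.j, ?_, P.up⟩
  apply isClosedImmersion_of_geometricallyIntegral f L hLinv P.j
  intro T g
  rw [P.up g (Limits.pullback.snd f g) (Limits.pullback.fst f g) (IsPullback.of_hasPullback f g)]
  constructor
  · rintro ⟨M, hM, ⟨e⟩⟩
    exact ⟨M, isFinLocFree_of_rank hM, ⟨e.symm⟩⟩
  · rintro ⟨N, hN, ⟨e⟩⟩
    refine ⟨N, ?_, ⟨e.symm⟩⟩
    apply isFinLocFreeOfRank_of_pullback (Limits.pullback.snd f g) N hN 1
    exact Groth.Agent.Helper2.FinLocFreeLim.isFinLocFreeOfRank_of_iso e.symm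
      (Groth.Agent.Helper2.FinLocFreeLim.isFinLocFreeOfRank_pullback _ hL)

/-- the pullback of a module of rank one over the spectrum of a field is trivial -/
theorem nonempty_pullback_iso_unit_of_field {Y : Scheme.{u}} (K : Type u) [Field K]
    (p : Y ⟶ Spec (CommRingCat.of K)) (N : (Spec (CommRingCat.of K)).Modules)
    (hN : FlatMod.IsFinLocFreeOfRank 1 N) :
    Nonempty ((pullback p).obj N ≅ Coh.structureModule Y) := by
  let pt : Spec (CommRingCat.of K) := IsLocalRing.closedPoint K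
  obtain ⟨U, hxU, ⟨eU⟩⟩ := hN pt
  have hU : U = ⊤ := by
    rw [eq_top_iff]
    intro x _
    have : x = pt := Subsingleton.elim (α := PrimeSpectrum K) _ _
    rw [this]
    exact hxU
  have hU' : p ⁻¹ᵁ U = ⊤ := by
    rw [hU]; rfl
  obtain ⟨e⟩ := nonempty_iso_freeMod_of_top _ _ hU' 1 (pullbackRestrictFreeIso p N U 1 eU)
  exact ⟨e ≪≫ Groth.Agent.Helper4.QAffSec.freeOneIso Y⟩

/-- the pullback of the free module of rank one is trivial -/
noncomputable def pullbackFreeOneIso {Y T : Scheme.{u}} (p : Y ⟶ T) :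
    (pullback p).obj (FlatMod.freeMod T 1) ≅ Coh.structureModule Y :=
  Groth.Agent.Helper8.TildeBC.pullbackFreeIso p 1 ≪≫ Groth.Agent.Helper4.QAffSec.freeOneIso Y

/-- `A ≅ B` iff `A ⊗ B⁻¹` is trivial -/
theorem nonempty_iso_iff_tensor_inverse {Y : Scheme.{u}} (A B Bi : Y.Modules)
    (e1 : CohB1.tensorMod Bi B ≅ Coh.structureModule Y)
    (e2 : CohB1.tensorMod B Bi ≅ Coh.structureModule Y) :
    Nonempty (A ≅ B) ↔ Nonempty (CohB1.tensorMod A Bi ≅ Coh.structureModule Y) := by
  constructor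
  · rintro ⟨e⟩
    exact ⟨PicGrp.tensorModIso e (Iso.refl Bi) ≪≫ e2⟩
  · rintro ⟨e⟩
    exact ⟨(Groth.Agent.Helper1.SW.inverseIso Bi B A e1 e).symm⟩

/-- for invertible `L`, `L'` and an inverse `Li'` of `L'`: the pullbacks of `L` and `L'` along a
morphism are isomorphic iff the pullback of `L ⊗ Li'` is trivial -/
theorem pullback_iso_iff {Y Z : Scheme.{u}} (w : Y ⟶ Z) (L L' Li' : Z.Modules)
    (hL : PicF.IsInvertible L) (hL' : PicF.IsInvertible L') (hLi' : PicF.IsInvertible Li')
    (e1 : CohB1.tensorMod Li' L' ≅ Coh.structureModule Z)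
    (e2 : CohB1.tensorMod L' Li' ≅ Coh.structureModule Z) :
    Nonempty ((pullback w).obj L ≅ (pullback w).obj L') ↔
      Nonempty ((pullback w).obj (CohB1.tensorMod L Li') ≅ Coh.structureModule Y) := by
  rw [nonempty_iso_iff_tensor_inverse ((pullback w).obj L) ((pullback w).obj L')
    ((pullback w).obj Li')
    ((Groth.Agent.Helper4.PullTensor.pullTensorIso w hLi' hL').symm ≪≫
      (pullback w).mapIso e1 ≪≫ Groth.Agent.Helper4.PullUnit.pullbackUnitIso w)
    ((Groth.Agent.Helper4.PullTensor.pullTensorIso w hL' hLi').symm ≪≫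
      (pullback w).mapIso e2 ≪≫ Groth.Agent.Helper4.PullUnit.pullbackUnitIso w)]
  constructor
  · rintro ⟨e⟩
    exact ⟨Groth.Agent.Helper4.PullTensor.pullTensorIso w hL hLi' ≪≫ e⟩
  · rintro ⟨e⟩
    exact ⟨(Groth.Agent.Helper4.PullTensor.pullTensorIso w hL hLi').symm ≪≫ e⟩

end Groth.Agent.Helper1.PSep
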