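import Groth.Agent.Helper1.PSep2

set_option autoImplicit false
set_option linter.style.haveILetI false
set_option linter.unusedSectionVars false
set_option linter.unusedVariables false

/-!
# The locus where two classifying maps to the Picard scheme agree is closed
-/

namespace Groth.Agent.Helper1.PSep

open CategoryTheory AlgebraicGeometry AlgebraicGeometry.Scheme.Modules TopologicalSpace Topology
open Groth.Agent.Helper1.UGC Groth.Agent.Helper4 Groth.Agent.Helper4.FinLocFree
open Groth.Agent.Helper1.SS Groth.Agent.Lead.ClLib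

universe u

variable {X S : Scheme.{u}} (f : X ⟶ S) [IsProper f] [Flat f] [LocallyOfFinitePresentation f]
  [GeometricallyIntegral f]
  (P : Over S) (φ : ∀ T : Over S, PicF.Cl (PicF.XT f T) → (T ⟶ P))
  (hP : AbDual.IsRelPicK Scheme.fppfPrecoverage f P φ)

include hP in
set_option maxHeartbeats 1600000 in
/-- **the locus where the classifying maps of two invertible classes agree is closed** -/
theorem isClosed_agree (W : Over S) (c c' : PicF.Cl (PicF.XT f W))
    (hc : PicF.IsInvertibleCl c) (hc' : PicF.IsInvertibleCl c') :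
    IsClosed ((Limits.pullback.lift (φ W c).left (φ W c').left (by rw [Over.w, Over.w]) :
        W.left ⟶ Limits.pullback P.hom P.hom) ⁻¹'
      Set.range (Limits.pullback.diagonal P.hom)) := by
  obtain ⟨L, rfl, hL⟩ := hc
  obtain ⟨L', rfl, hL'⟩ := hc'
  obtain ⟨Li', hLi', ⟨e1⟩, ⟨e2⟩⟩ := Groth.Agent.Lead.InvDual.exists_inverse L' hL'
  set M := CohB1.tensorMod L Li' with hM
  have hMinv : PicF.IsInvertible M :=
    Groth.Agent.Helper4.TensorInv.isInvertible_tensorMod hL hLi'
  have hM1 : FlatMod.IsFinLocFreeOfRank 1 M :=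
    Groth.Agent.Helper4.QAffSec.isFinLocFreeOfRank_one_of_isInvertible M hMinv
  obtain ⟨Z, ι, hcl, UP⟩ := exists_closed_seesaw' (PicF.XTproj f W) M hM1
  haveI := hcl
  have key : ∀ {Y : Scheme.{u}} (w : Y ⟶ PicF.XT f W),
      Nonempty ((pullback w).obj L ≅ (pullback w).obj L') ↔
        Nonempty ((pullback w).obj M ≅ Coh.structureModule Y) :=
    fun w => pullback_iso_iff w L L' Li' hL hL' hLi' e1 e2
  suffices hset : ((Limits.pullback.lift (φ W (PicF.cl L)).left (φ W (PicF.cl L')).left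
      (by rw [Over.w, Over.w]) : W.left ⟶ Limits.pullback P.hom P.hom) ⁻¹'
      Set.range (Limits.pullback.diagonal P.hom)) = Set.range ι by
    rw [hset]
    exact ι.isClosedEmbedding.isClosed_range
  ext x
  rw [Set.mem_preimage, mem_preimage_range_diagonal_iff]
  set ξ := W.left.fromSpecResidueField x with hξ
  set WK : Over S := AbDual.ovr W ξ with hWK
  set g : WK ⟶ W := AbDual.ovrHom W ξ with hg
  have hsq : IsPullback (PicF.XTmap f g) (PicF.XTproj f WK) (PicF.XTproj f W) ξ :=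
    isPullback_XTmap f g
  have hnat : ∀ c₀, PicF.IsInvertibleCl c₀ →
      (φ WK (PicF.pullCl (PicF.XTmap f g) c₀)).left = ξ ≫ (φ W c₀).left := by
    intro c₀ h₀
    rw [hP.natural W WK g c₀ h₀]
    rfl
  have hiL : PicF.IsInvertibleCl (PicF.cl L) := ⟨L, rfl, hL⟩
  have hiL' : PicF.IsInvertibleCl (PicF.cl L') := ⟨L', rfl, hL'⟩
  constructor
  · intro hx
    have h1 : φ WK (PicF.pullCl (PicF.XTmap f g) (PicF.cl L)) =
        φ WK (PicF.pullCl (PicF.XTmap f g) (PicF.cl L')) := by
      apply Over.OverMorphism.ext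
      rw [hnat _ hiL, hnat _ hiL']
      exact hx
    have hi1 : PicF.IsInvertibleCl (PicF.pullCl (PicF.XTmap f g) (PicF.cl L)) :=
      ⟨_, rfl, Groth.Agent.Helper4.PullSec.isInvertible_pullback _ hL⟩
    have hi2 : PicF.IsInvertibleCl (PicF.pullCl (PicF.XTmap f g) (PicF.cl L')) :=
      ⟨_, rfl, Groth.Agent.Helper4.PullSec.isInvertible_pullback _ hL'⟩
    obtain ⟨R, hR, hRR⟩ := hP.locallyInjective WK _ _ hi1 hi2 h1
    let pt : Spec (W.left.residueField x) := IsLocalRing.closedPoint (W.left.residueField x)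
    obtain ⟨U, u, hu, ⟨z, hz⟩, -, -⟩ := exists_mem_fppf R hR pt
    have h2 := hRR u hu
    rw [← pullCl_comp, ← pullCl_comp, pullCl_cl, pullCl_cl, PicGrp.cl_eq_cl_iff, key] at h2
    obtain ⟨e⟩ := h2
    have hsq2 : IsPullback (PicF.XTmap f (AbDual.ovrHom WK u) ≫ PicF.XTmap f g)
        (PicF.XTproj f (AbDual.ovr WK u)) (PicF.XTproj f W) (u ≫ ξ) :=
      (isPullback_XTmap f (AbDual.ovrHom WK u)).paste_horiz hsq
    obtain ⟨u', hu'⟩ := (UP (u ≫ ξ) _ _ hsq2).mpr
      ⟨FlatMod.freeMod U 1, Groth.Agent.Helper4.SN.isFinLocFreeOfRank_freeMod 1,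
        ⟨e ≪≫ (pullbackFreeOneIso _).symm⟩⟩
    refine ⟨u' z, ?_⟩
    have h3 := congr($(hu') z)
    rw [Scheme.Hom.comp_apply, Scheme.Hom.comp_apply, Scheme.fromSpecResidueField_apply] at h3
    exact h3
  · intro hx
    rw [mem_range_iff_exists_lift] at hx
    obtain ⟨u', hu'⟩ := hx
    obtain ⟨N, hN, ⟨e⟩⟩ := (UP ξ _ _ hsq).mp ⟨u', hu'⟩
    obtain ⟨e'⟩ := nonempty_pullback_iso_unit_of_field (W.left.residueField x)
      (PicF.XTproj f WK) N hN
    have h3 : Nonempty ((pullback (PicF.XTmap f g)).obj L ≅ (pullback (PicF.XTmap f g)).obj L') :=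
      (key _).mpr ⟨e ≪≫ e'⟩
    have h4 : PicF.pullCl (PicF.XTmap f g) (PicF.cl L) =
        PicF.pullCl (PicF.XTmap f g) (PicF.cl L') := by
      rw [pullCl_cl, pullCl_cl, PicGrp.cl_eq_cl_iff]
      exact h3
    rw [← hnat _ hiL, ← hnat _ hiL', h4]

end Groth.Agent.Helper1.PSep
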