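import Groth.Agent.Helper1.PicLoc1
import Groth.Agent.Helper1.QuotPush2
import Groth.Agent.Helper4.PullSec
import Groth.Agent.Lead.LocLift
import Groth.Agent.S4462

set_option autoImplicit false
set_option linter.style.haveILetI false

/-!
# Lifting sections from the closed fibre (`H¹` of the fibre vanishing)
-/

namespace Groth.Agent.Helper1.PicLoc

open CategoryTheory Limits AlgebraicGeometry Opposite
open Groth.Agent.Helper1.Form Groth.Agent.Helper1.QuotPush Groth.Agent.Helper4
open Groth.Agent.Lead.BCMap Groth.Agent.Lead.LocLift Groth.Agent.Helper4.PullSec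
  Groth.Agent.Helper4.PullUnit

universe u

section general

variable {X₀ X : Scheme.{u}} (i : X₀ ⟶ X) (N : X.Modules)

/-- if `Γ(X, N) → Γ(X₀, i^*N)` is surjective, every `O_{X₀} ⟶ i^* N` is the pullback of some
`O_X ⟶ N` -/
theorem exists_pullSec_eq
    (hs : Function.Surjective ((unitN i N).app ⊤))
    (ψ₀ : Coh.structureModule X₀ ⟶ (Scheme.Modules.pullback i).obj N) :
    ∃ φ : Coh.structureModule X ⟶ N, pullSec i φ = ψ₀ := by
  let adj := Scheme.Modules.pullbackPushforwardAdjunction i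
  let ψ : Coh.structureModule X ⟶
      (Scheme.Modules.pushforward i).obj ((Scheme.Modules.pullback i).obj N) :=
    adj.homEquiv _ _ ((pullbackUnitIso i).hom ≫ ψ₀)
  obtain ⟨n, hn⟩ := hs (ψ.app ⊤ (1 : Γ(X, ⊤)))
  refine ⟨homOfTop N n, ?_⟩
  have h1 : homOfTop N n ≫ unitN i N = ψ := by
    apply hom_unit_ext
    change (unitN i N).app ⊤ ((homOfTop N n).app ⊤ (1 : Γ(X, ⊤))) = _
    rw [homOfTop_app_one]
    exact hn
  have h2 : adj.homEquiv _ _ ((Scheme.Modules.pullback i).map (homOfTop N n)) =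
      homOfTop N n ≫ unitN i N := by
    rw [Adjunction.homEquiv_unit]
    exact (adj.unit.naturality (homOfTop N n)).symm
  have h3 : (Scheme.Modules.pullback i).map (homOfTop N n) = (pullbackUnitIso i).hom ≫ ψ₀ := by
    apply (adj.homEquiv _ _).injective
    rw [h2, h1]
  unfold pullSec
  rw [h3, Iso.inv_hom_id_assoc]

end general

section local_

variable (A : Type u) [CommRing A] [IsNoetherianRing A] [IsLocalRing A]
  (X : Scheme.{u}) [X.Over (Spec (CommRingCat.of A))]
  [IsProper (X ↘ Spec (CommRingCat.of A))]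
  {X₀ : Scheme.{u}} {i : X₀ ⟶ X}
  {f₀ : X₀ ⟶ Spec (CommRingCat.of (A ⧸ IsLocalRing.maximalIdeal A))}
  (hsq : IsPullback i f₀ (X ↘ Spec (CommRingCat.of A))
    (Spec.map (CommRingCat.ofHom (Ideal.Quotient.mk (IsLocalRing.maximalIdeal A)))))

include hsq in
/-- **sections of `i^* N` on the closed fibre lift to `X`** when `H¹(X_y, N_y) = 0` -/
theorem surjective_unitN_app_top (N : X.Modules) (hN : Coh.IsCoh N)
    (hfl : FlatMod.IsFlatOver (X ↘ Spec (CommRingCat.of A)) N)
    (hvan : Subsingleton (CohIII.fiberH (X ↘ Spec (CommRingCat.of A)) N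
      (IsLocalRing.closedPoint A) 1)) :
    Function.Surjective ((unitN i N).app ⊤) := by
  haveI : N.IsQuasicoherent := hN.1
  have h1 := Groth.Agent.S4462.result A X N hN hfl 0 hvan 0
  have h2 : Function.Surjective ((CohIII.HAb X 0).map
      (Formal.modPowπ (IsLocalRing.maximalIdeal A) 1 N)) := h1
  rw [surjective_HAb_map_iff] at h2
  have hq1 : IsQuot (IsLocalRing.maximalIdeal A)
      (Formal.modPowπ (IsLocalRing.maximalIdeal A) 1 N) := by
    have := isQuot_modPowπ (IsLocalRing.maximalIdeal A) 1 N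
    rwa [pow_one] at this
  have hq2 := isQuot_unitN (IsLocalRing.maximalIdeal A) hsq N
  have e : unitN i N =
      Formal.modPowπ (IsLocalRing.maximalIdeal A) 1 N ≫ (hq1.iso hq2).hom :=
    (hq1.fac_iso_hom hq2).symm
  rw [e]
  intro y
  obtain ⟨z, hz⟩ := h2 ((hq1.iso hq2).inv.app ⊤ y)
  refine ⟨z, ?_⟩
  change (hq1.iso hq2).hom.app ⊤ ((Formal.modPowπ (IsLocalRing.maximalIdeal A) 1 N).app ⊤ z) = y
  rw [hz]
  have h3 : (hq1.iso hq2).inv.app ⊤ ≫ (hq1.iso hq2).hom.app ⊤ = 𝟙 _ := by
    rw [← Scheme.Modules.Hom.comp_app, Iso.inv_hom_id]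
    rfl
  exact congrArg (fun k => k.hom y) h3

end local_

end Groth.Agent.Helper1.PicLoc
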