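import Groth.Agent.Helper1.PicLoc2
import Groth.Agent.Helper1.BaseChart1

set_option autoImplicit false
set_option linter.style.haveILetI false

/-!
# Lifting sections from an arbitrary model of the closed fibre
-/

namespace Groth.Agent.Helper1.PicLoc

open CategoryTheory Limits AlgebraicGeometry Opposite
open Groth.Agent.Helper1.Form Groth.Agent.Helper1.QuotPush Groth.Agent.Helper4

universe u

variable (A : Type u) [CommRing A] [IsNoetherianRing A] [IsLocalRing A]
  (X : Scheme.{u}) [X.Over (Spec (CommRingCat.of A))]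
  [IsProper (X ↘ Spec (CommRingCat.of A))]
  {X₀ : Scheme.{u}} {i : X₀ ⟶ X}
  {f₀ : X₀ ⟶ Spec (CommRingCat.of (A ⧸ IsLocalRing.maximalIdeal A))}
  (hsq : IsPullback i f₀ (X ↘ Spec (CommRingCat.of A))
    (Spec.map (CommRingCat.ofHom (Ideal.Quotient.mk (IsLocalRing.maximalIdeal A)))))

include hsq in
/-- `Γ(X, N) → Γ(X, N/𝔪N)` is surjective when `H¹(X₀, i^*N) = 0` -/
theorem surjective_modPowπ_app_top (N : X.Modules) (hN : Coh.IsCoh N)
    (hfl : FlatMod.IsFlatOver (X ↘ Spec (CommRingCat.of A)) N)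
    (hvan : Subsingleton (Coh.HH X₀ ((Scheme.Modules.pullback i).obj N) 1)) :
    Function.Surjective ((Formal.modPowπ (IsLocalRing.maximalIdeal A) 1 N).app ⊤) := by
  haveI : N.IsQuasicoherent := hN.1
  obtain ⟨L, hLff, -, -, hbr, -, h6, -⟩ :=
    Groth.Agent.Helper1.Bridge.exists_complex'' A X N hN hfl
  have hQ : ∀ i, Module.Finite A (L.X i) ∧ Module.Flat A (L.X i) := fun i =>
    ⟨(hLff i).1, by haveI := (hLff i).2; infer_instance⟩
  set K := A ⧸ IsLocalRing.maximalIdeal A with hK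
  letI : Field K := Ideal.Quotient.field (IsLocalRing.maximalIdeal A)
  letI : X₀.Over (Spec (CommRingCat.of K)) := ⟨f₀⟩
  obtain ⟨e⟩ := h6 K X₀ i hsq 1
  have h0 : CohIII.dRank L (-((0 + 1 : ℕ) : ℤ)) (IsLocalRing.closedPoint A) = 0 := by
    have x' : PrimeSpectrum K := ⟨⊥, Ideal.isPrime_bot⟩
    have h3 := Groth.Agent.Helper1.BaseChart.finrank_bcCx_field L (-((1 : ℕ) : ℤ)) x'
    have h4 : PrimeSpectrum.comap (algebraMap A K) x' = IsLocalRing.closedPoint A := by
      apply PrimeSpectrum.ext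
      change Ideal.comap (Ideal.Quotient.mk (IsLocalRing.maximalIdeal A)) x'.asIdeal =
        IsLocalRing.maximalIdeal A
      have hx' : x'.asIdeal = ⊥ := Ideal.eq_bot_of_prime x'.asIdeal
      rw [hx', ← RingHom.ker_eq_comap_bot, Ideal.mk_ker]
    rw [h4] at h3
    rw [← h3]
    haveI : Subsingleton ((CohIII.bcCx (algebraMap A K) L).homology (-((1 : ℕ) : ℤ))) :=
      e.toEquiv.subsingleton
    exact Module.finrank_zero_of_subsingleton
  have hk := Groth.Agent.Helper1.DRankConc.isZero_TFun_residue_of_dRank_closedPoint L hQ _ h0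
  have hz := Groth.Agent.Helper1.FlatCx.isZero_of_isZero_residueField L hQ _ hk
  have hmono : (CohIII.TFun L (-((0 + 1 : ℕ) : ℤ))).PreservesMonomorphisms :=
    ⟨fun {M N} f _ => ⟨fun g h _ => (hz M).eq_of_tgt _ _⟩⟩
  have hepi : (CohIII.TFun L (-((0 : ℕ) : ℤ))).PreservesEpimorphisms :=
    (Groth.Agent.Helper1.FlatCx.chain_preservesEpi_iff_preservesMono L (fun i => (hQ i).2)
      (-((0 : ℕ) : ℤ)) (-((0 + 1 : ℕ) : ℤ)) (by norm_num)).2 hmono
  obtain ⟨e'⟩ := hbr 0
  have hepi' : (CohIII.tensorAFunctor A N ⋙ CohIII.HAb X 0).PreservesEpimorphisms :=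
    (Groth.Agent.Helper1.Bridge.preservesEpi_iff e').2 hepi
  obtain ⟨b, hb⟩ := Groth.Agent.Helper1.ModPowT.exists_iso_modPow N
    (IsLocalRing.maximalIdeal A) (0 + 1)
  have hs : Function.Surjective ((CohIII.tensorAFunctor A N ⋙ CohIII.HAb X 0).map
      (Groth.Agent.Helper1.ModPowT.π (IsLocalRing.maximalIdeal A ^ (0 + 1)))).hom :=
    (AddCommGrpCat.epi_iff_surjective _).1 (hepi'.preserves _)
  rw [← surjective_HAb_map_iff]
  intro z
  obtain ⟨w, hw⟩ := hs (((CohIII.HAb X 0).map b.hom).hom z)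
  refine ⟨((CohIII.HAb X 0).map (Groth.Agent.Helper1.ModPowT.isoA N).hom).hom w, ?_⟩
  have hinj : Function.Injective ((CohIII.HAb X 0).map b.hom).hom :=
    ((AddCommGrpCat.mono_iff_injective _).1 inferInstance)
  apply hinj
  rw [← hw]
  have h1 : (CohIII.HAb X 0).map (Groth.Agent.Helper1.ModPowT.isoA N).hom ≫
      (CohIII.HAb X 0).map (Formal.modPowπ (IsLocalRing.maximalIdeal A) (0 + 1) N) ≫
      (CohIII.HAb X 0).map b.hom =
      (CohIII.tensorAFunctor A N ⋙ CohIII.HAb X 0).map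
        (Groth.Agent.Helper1.ModPowT.π (IsLocalRing.maximalIdeal A ^ (0 + 1))) := by
    rw [← Functor.map_comp, ← Functor.map_comp, hb, Iso.hom_inv_id_assoc]
    rfl
  exact congrArg (fun k => k.hom w) h1

end Groth.Agent.Helper1.PicLoc
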