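import Groth.Agent.Lead.BCMap11

set_option autoImplicit false
set_option linter.style.haveILetI false

/-!
# Spreading out sections along a flat localization-like base change
-/

namespace Groth.Agent.Helper1.PicSpread

open CategoryTheory Limits AlgebraicGeometry Opposite TopologicalSpace TensorProduct
open Groth.Agent.Lead.BCMap Scheme.Modules

universe u

section algebra

variable {R S M N : Type*} [CommRing R] [CommRing S] [Algebra R S] [AddCommGroup M] [Module R M]
  [AddCommGroup N] [Module R N] [Module S N] [IsScalarTower R S N]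

/-- clearing denominators in a base change along a localization-like ring map -/
theorem exists_smul_eq_of_isBaseChange (ρ : M →ₗ[R] N) (hb : IsBaseChange S ρ)
    (hloc : ∀ a : S, ∃ b c : R, IsUnit (algebraMap R S c) ∧
      a * algebraMap R S c = algebraMap R S b) (z : N) :
    ∃ (c : R) (m : M), IsUnit (algebraMap R S c) ∧ algebraMap R S c • z = ρ m := by
  induction z using hb.inductionOn with
  | zero => exact ⟨1, 0, by rw [map_one]; exact isUnit_one, by rw [smul_zero, map_zero]⟩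
  | tmul m => exact ⟨1, m, by rw [map_one]; exact isUnit_one, by rw [map_one, one_smul]⟩
  | smul a n ih =>
    obtain ⟨c₁, m₁, hu₁, h₁⟩ := ih
    obtain ⟨b, c₂, hu₂, h₂⟩ := hloc a
    refine ⟨c₁ * c₂, b • m₁, by rw [map_mul]; exact hu₁.mul hu₂, ?_⟩
    rw [_root_.map_smul, ← h₁, map_mul, smul_smul, ← algebraMap_smul S b, smul_smul, ← h₂]
    congr 1
    ring
  | add n₁ n₂ ih₁ ih₂ =>
    obtain ⟨c₁, m₁, hu₁, h₁⟩ := ih₁
    obtain ⟨c₂, m₂, hu₂, h₂⟩ := ih₂
    refine ⟨c₁ * c₂, c₂ • m₁ + c₁ • m₂, by rw [map_mul]; exact hu₁.mul hu₂, ?_⟩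
    rw [map_add, _root_.map_smul, _root_.map_smul, ← h₁, ← h₂, smul_add, map_mul, ← algebraMap_smul S c₂,
      ← algebraMap_smul S c₁, smul_smul, smul_smul]
    rw [mul_comm ((algebraMap R S) c₂) ((algebraMap R S) c₁)]

end algebra

section geometry

attribute [local instance] modRestr towerRestr

variable {X S X' S' : Scheme.{u}} (f : X ⟶ S) (g : S' ⟶ S) (g' : X' ⟶ X) (f' : X' ⟶ S')
  (h : IsPullback g' f' f g) (M : X.Modules) [M.IsQuasicoherent]

include h in
/-- **spreading out a global section** of `g'^* M` up to a unit -/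
theorem exists_pbSec_eq_unit_smul [Flat g] [IsAffine S] [IsAffine S'] [QuasiCompact f]
    [QuasiSeparated f]
    (hloc : ∀ a : Γ(S', ⊤), ∃ b c : Γ(S, ⊤),
      IsUnit ((g.appLE ⊤ ⊤ (fun _ _ => trivial)).hom c) ∧
      a * (g.appLE ⊤ ⊤ (fun _ _ => trivial)).hom c = (g.appLE ⊤ ⊤ (fun _ _ => trivial)).hom b)
    (z : Γ((Scheme.Modules.pullback g').obj M, ⊤)) :
    ∃ (m : Γ(M, ⊤)) (u : Γ(X', ⊤)), IsUnit u ∧
      pbSec g' M ⊤ ⊤ (fun _ _ => trivial) m = u • z := by
  have e : (⊤ : S'.Opens) ≤ g ⁻¹ᵁ ⊤ := fun _ _ => trivial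
  have hU : (⊤ : X.Opens) ≤ f ⁻¹ᵁ ⊤ := fun _ _ => trivial
  have hU' : (⊤ : X'.Opens) ≤ f' ⁻¹ᵁ ⊤ := fun _ _ => trivial
  have eU : (⊤ : X'.Opens) ≤ g' ⁻¹ᵁ ⊤ := fun _ _ => trivial
  haveI : CompactSpace X := QuasiCompact.compactSpace_of_compactSpace f
  haveI : QuasiSeparatedSpace X := quasiSeparatedSpace_of_quasiSeparated f
  letI := (g.appLE ⊤ ⊤ e).hom.toAlgebra
  have hb := cT_isBaseChange_of_qcqs f g g' f' h M e (isAffineOpen_top S) (isAffineOpen_top S')
    (U := ⊤) isCompact_univ (isQuasiSeparated_univ) hU (U' := ⊤) hU' eU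
    (by ext x; simp)
  obtain ⟨c, m, hu, hm⟩ := exists_smul_eq_of_isBaseChange _ hb hloc z
  refine ⟨m, X'.presheaf.map (homOfLE hU').op ((f'.app ⊤).hom ((g.appLE ⊤ ⊤ e).hom c)),
    ?_, hm.symm⟩
  exact (hu.map (f'.app ⊤).hom).map (X'.presheaf.map (homOfLE hU').op).hom

end geometry

end Groth.Agent.Helper1.PicSpread
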