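import Groth.Agent.Helper1.BaseChart4

set_option autoImplicit false

/-!
# Base change to the local ring of a point of the base: the chart square
-/

namespace Groth.Agent.Helper1.StalkBC

open CategoryTheory Limits AlgebraicGeometry Opposite TopologicalSpace
open Groth.Agent.Helper1.BaseChart

universe u

variable {X Y : Scheme.{u}} (f : X ⟶ Y) (V : Y.Opens) (y : Y) (hy : y ∈ V)
  {X₁ : Scheme.{u}} (q : X₁ ⟶ Spec (Y.presheaf.stalk y)) (g : X₁ ⟶ X)
  (hsq : IsPullback g q f (Y.fromSpecStalk y))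

include hsq hy in
lemma range_g_subset : Set.range g ⊆ Set.range (f ⁻¹ᵁ V).ι := by
  rw [Scheme.Opens.range_ι]
  rintro _ ⟨x, rfl⟩
  show f (g x) ∈ V
  have h1 : f (g x) = (Y.fromSpecStalk y) (q x) := by
    rw [← Scheme.Hom.comp_apply, ← Scheme.Hom.comp_apply, hsq.w]
  rw [h1, ← Scheme.Opens.fromSpecStalkOfMem_ι V y hy, Scheme.Hom.comp_apply]
  exact (V.fromSpecStalkOfMem y hy (q x)).2

/-- the lift of `X₁ ⟶ X` to the chart -/
noncomputable def gLift₁ : X₁ ⟶ XV f V :=
  IsOpenImmersion.lift (f ⁻¹ᵁ V).ι g (range_g_subset f V y hy q g hsq)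

@[reassoc]
lemma gLift₁_ι : gLift₁ f V y hy q g hsq ≫ (f ⁻¹ᵁ V).ι = g :=
  IsOpenImmersion.lift_fac _ _ _

lemma gLift₁_comm :
    gLift₁ f V y hy q g hsq ≫ (f ∣_ V) = q ≫ V.fromSpecStalkOfMem y hy := by
  rw [← cancel_mono V.ι, Category.assoc, Category.assoc, morphismRestrict_ι,
    Scheme.Opens.fromSpecStalkOfMem_ι, gLift₁_ι_assoc]
  exact hsq.w

lemma isPullback_top₁ :
    IsPullback (gLift₁ f V y hy q g hsq) q (f ∣_ V) (V.fromSpecStalkOfMem y hy) := by
  have h0 := hsq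
  rw [← gLift₁_ι f V y hy q g hsq, ← Scheme.Opens.fromSpecStalkOfMem_ι V y hy] at h0
  exact IsPullback.of_right h0 (gLift₁_comm f V y hy q g hsq) (isPullback_morphismRestrict f V).flip

/-- the structure morphism of the chart over `Spec Γ(Y, V)` -/
noncomputable abbrev chartHomΓ : XV f V ⟶ Spec Γ(Y, V) := (f ∣_ V) ≫ V.toSpecΓ

/-- the chart square over `Spec Γ(Y, V)` -/
theorem isPullback_chartΓ [IsAffine (V : Scheme.{u})] :
    IsPullback (gLift₁ f V y hy q g hsq) q (chartHomΓ f V)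
      (Spec.map (Y.presheaf.germ V y hy)) := by
  haveI : IsIso V.toSpecΓ := by
    unfold Scheme.Opens.toSpecΓ
    infer_instance
  refine IsPullback.of_iso (isPullback_top₁ f V y hy q g hsq) (Iso.refl _) (Iso.refl _)
    (Iso.refl _) (asIso V.toSpecΓ) (by simp) (by simp) (by simp [chartHomΓ]) ?_
  rw [Iso.refl_hom, Category.id_comp, asIso_hom]
  exact Scheme.Opens.fromSpecStalkOfMem_toSpecΓ V y hy

end Groth.Agent.Helper1.StalkBC
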