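import Groth.Agent.Helper1.PicSpread1
import Groth.Agent.Helper1.StalkBC1
import Groth.Agent.Helper1.ZarIso8
import Groth.Agent.Helper4.PullSec
import Groth.Agent.Helper4.AmpleLocal
import Groth.Agent.Lead.LocLift

set_option autoImplicit false
set_option linter.style.haveILetI false

/-!
# Spreading out a trivialising section from the local ring of a point of the base
-/

namespace Groth.Agent.Helper1.PicSpread

open CategoryTheory Limits AlgebraicGeometry Opposite TopologicalSpace
open Groth.Agent.Lead.BCMap Groth.Agent.Lead.LocLift Groth.Agent.Helper4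
  Groth.Agent.Helper4.PullSec Groth.Agent.Helper4.PullUnit Groth.Agent.Helper4.Scalar
  Groth.Agent.Helper1.BaseChart Groth.Agent.Helper1.StalkBC

universe u

/-- the inverse of `g^* O ≅ O` sends `1` to the pullback of `1` -/
theorem pullbackUnitIso_inv_app_one {W V : Scheme.{u}} (g : W ⟶ V) :
    (pullbackUnitIso g).inv.app ⊤ (1 : Γ(W, ⊤)) =
      pbSec g (Coh.structureModule V) ⊤ ⊤ (fun _ _ => trivial) (1 : Γ(V, ⊤)) := by
  have e : (⊤ : W.Opens) ≤ g ⁻¹ᵁ ⊤ := fun _ _ => trivial
  have h1 := homEquiv_app g (Coh.structureModule V) (pullbackUnitIso g).hom ⊤ ⊤ e (1 : Γ(V, ⊤))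
  have h2 : (Scheme.Modules.pullbackPushforwardAdjunction g).homEquiv _ _ (pullbackUnitIso g).hom =
      Groth.Agent.Helper1.ZarIso.unitToPush g :=
    SheafOfModules.pullbackPushforwardAdjunction_homEquiv_pullbackObjUnitToUnit _
  rw [h2] at h1
  have h3 : (Coh.structureModule W).presheaf.map (homOfLE e).op
      ((Groth.Agent.Helper1.ZarIso.unitToPush g).app ⊤ (1 : Γ(V, ⊤))) = (1 : Γ(W, ⊤)) := by
    rw [Groth.Agent.Helper1.ZarIso.unitToPush_app, map_one]
    exact map_one (W.presheaf.map (homOfLE e).op).hom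
  rw [h3] at h1
  have h4 : (pullbackUnitIso g).inv.app ⊤ ((pullbackUnitIso g).hom.app ⊤
      (pbSec g (Coh.structureModule V) ⊤ ⊤ e (1 : Γ(V, ⊤)))) =
      pbSec g (Coh.structureModule V) ⊤ ⊤ e (1 : Γ(V, ⊤)) := by
    have h5 : (pullbackUnitIso g).hom.app ⊤ ≫ (pullbackUnitIso g).inv.app ⊤ = 𝟙 _ := by
      rw [← Scheme.Modules.Hom.comp_app, Iso.hom_inv_id]
      rfl
    exact congrArg (fun k => k.hom (pbSec g (Coh.structureModule V) ⊤ ⊤ e (1 : Γ(V, ⊤)))) h5
  rw [← h1] at h4
  exact h4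

/-- the value at `1` of a pulled back section -/
theorem pullSec_app_one {W V : Scheme.{u}} (g : W ⟶ V) {N : V.Modules}
    (s : Coh.structureModule V ⟶ N) :
    (pullSec g s).app ⊤ (1 : Γ(W, ⊤)) =
      pbSec g N ⊤ ⊤ (fun _ _ => trivial) (s.app ⊤ (1 : Γ(V, ⊤))) := by
  unfold pullSec
  change ((Scheme.Modules.pullback g).map s).app ⊤ ((pullbackUnitIso g).inv.app ⊤ (1 : Γ(W, ⊤))) = _
  rw [pullbackUnitIso_inv_app_one, pbSec_naturality]

/-- if the pullback of the section `m` is a unit multiple of a trivialising section, its pullback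
is trivialising -/
theorem isIso_pullSec_of_unit_smul {W V : Scheme.{u}} (g : W ⟶ V) {N : V.Modules}
    (m : Γ(N, ⊤)) (t : Coh.structureModule W ⟶ (Scheme.Modules.pullback g).obj N) [IsIso t]
    (u : Γ(W, ⊤)) (hu : IsUnit u)
    (hm : pbSec g N ⊤ ⊤ (fun _ _ => trivial) m = u • t.app ⊤ (1 : Γ(W, ⊤))) :
    IsIso (pullSec g (homOfTop N m)) := by
  have h1 : pullSec g (homOfTop N m) = scalar u (Coh.structureModule W) ≫ t := by
    apply hom_unit_ext
    rw [pullSec_app_one, homOfTop_app_one, hm]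
    change _ = t.app ⊤ ((scalar u (Coh.structureModule W)).app ⊤ (1 : Γ(W, ⊤)))
    rw [scalar_app, Scheme.Modules.Hom.app_smul]
    congr 1
    change u = W.presheaf.map (𝟙 _) u
    rw [W.presheaf.map_id]
    rfl
  rw [h1]
  haveI := Groth.Agent.Helper4.AmpleLocal.isIso_scalar_of_isUnit u hu (Coh.structureModule W)
  infer_instance

end Groth.Agent.Helper1.PicSpread
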