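import Groth.Agent.Helper1.PicSpread2

set_option autoImplicit false
set_option linter.style.haveILetI false

/-!
# Spreading out a trivialising section: the chart statement
-/

namespace Groth.Agent.Helper1.PicSpread

open CategoryTheory Limits AlgebraicGeometry Opposite TopologicalSpace
open Groth.Agent.Lead.BCMap Groth.Agent.Lead.LocLift Groth.Agent.Helper4
  Groth.Agent.Helper4.PullSec Groth.Agent.Helper4.PullUnit Groth.Agent.Helper4.Scalar
  Groth.Agent.Helper1.BaseChart Groth.Agent.Helper1.StalkBC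

universe u

/-- `appLE ⊤ ⊤` is `appTop` -/
lemma appLE_top_top {W V : Scheme.{u}} (g : W ⟶ V) (e : (⊤ : W.Opens) ≤ g ⁻¹ᵁ ⊤) :
    g.appLE ⊤ ⊤ e = g.appTop := by
  have h : (homOfLE e) = 𝟙 (⊤ : W.Opens) := Subsingleton.elim _ _
  unfold Scheme.Hom.appLE
  rw [h]
  erw [op_id, W.presheaf.map_id, Category.comp_id]

/-- the germ map is localization-like on global sections of spectra -/
theorem hloc_germ {Y : Scheme.{u}} {V : Y.Opens} (hV : IsAffineOpen V) (y : Y) (hy : y ∈ V)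
    (a : Γ(Spec (Y.presheaf.stalk y), ⊤)) :
    ∃ b c : Γ(Spec Γ(Y, V), ⊤),
      IsUnit (((Spec.map (Y.presheaf.germ V y hy)).appLE ⊤ ⊤ (fun _ _ => trivial)).hom c) ∧
      a * ((Spec.map (Y.presheaf.germ V y hy)).appLE ⊤ ⊤ (fun _ _ => trivial)).hom c =
        ((Spec.map (Y.presheaf.germ V y hy)).appLE ⊤ ⊤ (fun _ _ => trivial)).hom b := by
  rw [appLE_top_top]
  letI := Y.presheaf.algebra_section_stalk ⟨y, hy⟩
  haveI := hV.isLocalization_stalk ⟨y, hy⟩
  set p := (hV.primeIdealOf ⟨y, hy⟩).asIdeal with hp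
  have hnat : ∀ r : Γ(Y, V), (Spec.map (Y.presheaf.germ V y hy)).appTop.hom
      ((Scheme.ΓSpecIso Γ(Y, V)).inv.hom r) =
      (Scheme.ΓSpecIso (Y.presheaf.stalk y)).inv.hom ((Y.presheaf.germ V y hy).hom r) := by
    intro r
    have := congrArg (fun φ => φ.hom r) (Scheme.ΓSpecIso_inv_naturality (Y.presheaf.germ V y hy))
    exact this.symm
  have hinv : ∀ x, (Scheme.ΓSpecIso (Y.presheaf.stalk y)).inv.hom
      ((Scheme.ΓSpecIso (Y.presheaf.stalk y)).hom.hom x) = x := fun x => by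
    have := congrArg (fun φ => φ.hom x) (Scheme.ΓSpecIso (Y.presheaf.stalk y)).hom_inv_id
    exact this
  obtain ⟨⟨b', c'⟩, hbc⟩ := IsLocalization.surj p.primeCompl
    ((Scheme.ΓSpecIso (Y.presheaf.stalk y)).hom.hom a)
  refine ⟨(Scheme.ΓSpecIso Γ(Y, V)).inv.hom b', (Scheme.ΓSpecIso Γ(Y, V)).inv.hom c'.1, ?_, ?_⟩
  · rw [hnat]
    exact (IsLocalization.map_units (Y.presheaf.stalk y) c').map
      (Scheme.ΓSpecIso (Y.presheaf.stalk y)).inv.hom
  · rw [hnat, hnat, ← hinv a, ← map_mul]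
    congr 1

variable {X Y : Scheme.{u}} (f : X ⟶ Y) (V : Y.Opens) (y : Y) (hy : y ∈ V)
  {X₁ : Scheme.{u}} (q : X₁ ⟶ Spec (Y.presheaf.stalk y)) (g : X₁ ⟶ X)
  (hsq : IsPullback g q f (Y.fromSpecStalk y))

/-- **spreading out a trivialising section** to the chart `f⁻¹ V` (up to a unit) -/
theorem exists_section_of_iso [QuasiCompact f] [QuasiSeparated f] [IsAffine (V : Scheme.{u})]
    (N : (XV f V).Modules) [N.IsQuasicoherent]
    (t : Coh.structureModule X₁ ⟶
      (Scheme.Modules.pullback (gLift₁ f V y hy q g hsq)).obj N) [IsIso t] :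
    ∃ s : Coh.structureModule (XV f V) ⟶ N, IsIso (pullSec (gLift₁ f V y hy q g hsq) s) := by
  have hV : IsAffineOpen V := ‹IsAffine (V : Scheme.{u})›
  haveI : IsIso (Scheme.Opens.toSpecΓ V) := by
    unfold Scheme.Opens.toSpecΓ
    infer_instance
  haveI : QuasiCompact (chartHomΓ f V) := by
    change QuasiCompact ((f ∣_ V) ≫ Scheme.Opens.toSpecΓ V)
    infer_instance
  haveI : QuasiSeparated (chartHomΓ f V) := by
    change QuasiSeparated ((f ∣_ V) ≫ Scheme.Opens.toSpecΓ V)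
    infer_instance
  haveI : Flat (Spec.map (Y.presheaf.germ V y hy)) := by
    rw [HasRingHomProperty.Spec_iff (P := @Flat)]
    letI : Algebra Γ(Y, V) (Y.presheaf.stalk y) := (Y.presheaf.germ V y hy).hom.toAlgebra
    haveI := hV.isLocalization_stalk ⟨y, hy⟩
    exact RingHom.flat_algebraMap_iff.mpr
      (IsLocalization.flat _ (hV.primeIdealOf ⟨y, hy⟩).asIdeal.primeCompl)
  obtain ⟨m, u, hu, hm⟩ := exists_pbSec_eq_unit_smul (chartHomΓ f V)
    (Spec.map (Y.presheaf.germ V y hy)) (gLift₁ f V y hy q g hsq) q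
    (isPullback_chartΓ f V y hy q g hsq) N (hloc_germ hV y hy) (t.app ⊤ (1 : Γ(X₁, ⊤)))
  exact ⟨homOfTop N m, isIso_pullSec_of_unit_smul _ m t u hu hm⟩

end Groth.Agent.Helper1.PicSpread
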