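import Mathlib
import Groth.Agent.Helper1.PolyTop2

/-!
# Divisibility by powers of the product of the variables
-/

set_option autoImplicit false
set_option linter.unusedSectionVars false

namespace Groth.Agent.Helper1.PolyTop

open MvPolynomial Groth.Agent.Helper1.KoszulPoly

universe u
variable {σ : Type} [Fintype σ] [DecidableEq σ] [Nonempty σ] {R : Type u} [CommRing R]

lemma gAll_pow (k : ℕ) : gAll σ R ^ k = monomial (k • ones σ) 1 := by
  unfold gAll
  rw [prod_X, monomial_pow, one_pow]

/-- a polynomial all of whose monomials have all exponents `≥ k` is divisible by `(∏ X j)^k` -/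
lemma exists_eq_gAll_pow_mul (m : MvPolynomial σ R) (k : ℕ)
    (h : ∀ β, coeff β m ≠ 0 → ∀ i, k ≤ β i) : ∃ m', m = gAll σ R ^ k * m' := by
  refine ⟨m.divMonomial (k • ones σ), ?_⟩
  have h1 := divMonomial_add_modMonomial m (k • ones σ)
  have h2 : m.modMonomial (k • ones σ) = 0 := by
    ext β
    rw [coeff_zero]
    by_cases hle : k • ones σ ≤ β
    · exact coeff_modMonomial_of_le _ hle
    · rw [coeff_modMonomial_of_not_le _ hle]
      by_contra hne
      apply hle
      intro i
      have := h β hne i
      simpa using this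
  rw [h2, add_zero] at h1
  rw [gAll_pow]
  exact h1.symm

/-- coefficients of the quotient -/
lemma coeff_of_eq_gAll_pow_mul (m m' : MvPolynomial σ R) (k : ℕ) (h : m = gAll σ R ^ k * m')
    (β : σ →₀ ℕ) : coeff β m' = coeff (k • ones σ + β) m := by
  rw [h, gAll_pow, coeff_monomial_mul, one_mul]

/-- if `(∏ X)^k * p = X j ^ a * m` then the monomials of `m` have exponents `≥ k` away from `j` -/
lemma le_of_gAll_pow_mul_eq (m p : MvPolynomial σ R) (k a : ℕ) (j : σ)
    (h : gAll σ R ^ k * p = X j ^ a * m) (β : σ →₀ ℕ) (hβ : coeff β m ≠ 0) (i : σ) (hi : i ≠ j) :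
    k ≤ β i := by
  have h1 : coeff (Finsupp.single j a + β) (X j ^ a * m) = coeff β m := by
    rw [X_pow_eq_monomial, coeff_monomial_mul, one_mul]
  rw [← h, gAll_pow, coeff_monomial_mul'] at h1
  by_cases hle : k • ones σ ≤ Finsupp.single j a + β
  · have := hle i
    rw [Finsupp.smul_apply, ones_apply, Finsupp.add_apply, Finsupp.single_eq_of_ne hi,
      smul_eq_mul, mul_one, zero_add] at this
    exact this
  · rw [if_neg hle] at h1
    exact absurd h1.symm hβ

lemma degree_ones : Finsupp.degree (ones σ) = Fintype.card σ := by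
  rw [Finsupp.degree_eq_sum]
  simp [ones_apply]

end Groth.Agent.Helper1.PolyTop
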