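import Mathlib

set_option autoImplicit false
set_option linter.unusedSectionVars false

namespace Groth.Agent.Helper1.Postnikov
open CategoryTheory Limits Pretriangulated

universe v u
variable {D : Type u} [Category.{v} D] [Preadditive D] [HasZeroObject D] [HasShift D ℤ]
    [∀ n : ℤ, (shiftFunctor D n).Additive] [Pretriangulated D]

lemma zero_of_int_eq {X Y : D} {p q : ℤ} (h : p = q)
    (H : ∀ φ : (shiftFunctor D p).obj X ⟶ Y, φ = 0) :
    ∀ φ : (shiftFunctor D q).obj X ⟶ Y, φ = 0 := by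
  subst h; exact H

lemma exact₁' {Y₁ X₁ Y₀ : D} (a : Y₁ ⟶ X₁) (b : X₁ ⟶ Y₀) (c : Y₀ ⟶ (shiftFunctor D (1 : ℤ)).obj Y₁)
    (hT : Triangle.mk a b c ∈ distTriang D) {W : D} (g : W ⟶ Y₁) (hg : g ≫ a = 0) :
    ∃ h : (shiftFunctor D (1 : ℤ)).obj W ⟶ Y₀, (shiftFunctor D (1 : ℤ)).map g = h ≫ c := by
  obtain ⟨h, hh⟩ := Triangle.coyoneda_exact₁ _ hT ((shiftFunctor D (1 : ℤ)).map g) (by
    change (shiftFunctor D (1 : ℤ)).map g ≫ (shiftFunctor D (1 : ℤ)).map a = 0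
    rw [← Functor.map_comp, hg, Functor.map_zero])
  exact ⟨h, hh⟩

lemma exact₂' {Y₁ X₁ Y₀ : D} (a : Y₁ ⟶ X₁) (b : X₁ ⟶ Y₀) (c : Y₀ ⟶ (shiftFunctor D (1 : ℤ)).obj Y₁)
    (hT : Triangle.mk a b c ∈ distTriang D) {W : D} (g : W ⟶ X₁) (hg : g ≫ b = 0) :
    ∃ h : W ⟶ Y₁, h ≫ a = g := by
  obtain ⟨h, hh⟩ := Triangle.coyoneda_exact₂ _ hT g hg
  exact ⟨h, hh.symm⟩

variable (X : ChainComplex D ℕ)

open scoped Classical in
/-- the chosen lift of the differential (or zero) -/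
noncomputable def bOf {k : ℕ} (Y : D) (a : Y ⟶ X.X k) : X.X (k + 1) ⟶ Y :=
  if h : ∃ b₀ : X.X (k + 1) ⟶ Y, b₀ ≫ a = X.d (k + 1) k then h.choose else 0

open scoped Classical in
lemma bOf_comp {k : ℕ} (Y : D) (a : Y ⟶ X.X k)
    (h : ∃ b₀ : X.X (k + 1) ⟶ Y, b₀ ≫ a = X.d (k + 1) k) :
    bOf X Y a ≫ a = X.d (k + 1) k := by
  rw [bOf, dif_pos h]
  exact h.choose_spec

/-- the sequence of objects `Y k` with maps `a k : Y k ⟶ X k`. -/
noncomputable def seq : (k : ℕ) → Σ (Y : D), (Y ⟶ X.X k)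
  | 0 => ⟨X.X 0, 𝟙 _⟩
  | k + 1 => ⟨(distinguished_cocone_triangle₁ (bOf X (seq k).1 (seq k).2)).choose,
      (distinguished_cocone_triangle₁ (bOf X (seq k).1 (seq k).2)).choose_spec.choose⟩

noncomputable def Y (k : ℕ) : D := (seq X k).1
noncomputable def a (k : ℕ) : Y X k ⟶ X.X k := (seq X k).2
noncomputable def b (k : ℕ) : X.X (k + 1) ⟶ Y X k := bOf X (Y X k) (a X k)
noncomputable def c (k : ℕ) : Y X k ⟶ (shiftFunctor D (1 : ℤ)).obj (Y X (k + 1)) :=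
  (distinguished_cocone_triangle₁ (bOf X (seq X k).1 (seq X k).2)).choose_spec.choose_spec.choose

lemma dist (k : ℕ) : Triangle.mk (a X (k + 1)) (b X k) (c X k) ∈ distTriang D :=
  (distinguished_cocone_triangle₁ (bOf X (seq X k).1 (seq X k).2)).choose_spec.choose_spec.choose_spec

instance : IsIso (a X 0) := by
  change IsIso (𝟙 (X.X 0))
  infer_instance

variable (n : ℕ)
    (hX : ∀ i j : ℕ, j + 2 < i → i ≤ n → ∀ φ : (shiftFunctor D ((i : ℤ) - j - 2)).obj (X.X i) ⟶ X.X j, φ = 0)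

/-- the invariants -/
def Inv (k : ℕ) : Prop :=
  (k + 2 ≤ n → ∀ g : X.X (k + 2) ⟶ Y X k, g ≫ a X k = 0 → g = 0) ∧
  (∀ i : ℕ, i ≤ n → k + 2 < i →
    ∀ φ : (shiftFunctor D ((i : ℤ) - k - 2)).obj (X.X i) ⟶ Y X k, φ = 0) ∧
  (k < n → ∃ b₀ : X.X (k + 1) ⟶ Y X k, b₀ ≫ a X k = X.d (k + 1) k)

include hX in
lemma inv_zero : Inv X n 0 := by
  refine ⟨fun _ g hg => ?_, fun i hi hi' φ => ?_, fun _ => ?_⟩
  · rw [← cancel_mono (a X 0), hg, zero_comp]
  · have := hX i 0 hi' hi (φ ≫ a X 0)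
    rw [← cancel_mono (a X 0), this, zero_comp]
  · exact ⟨X.d 1 0 ≫ inv (a X 0), by simp⟩

include hX in
lemma inv_succ (k : ℕ) (h : Inv X n k) : Inv X n (k + 1) := by
  obtain ⟨hA, hB, hC⟩ := h
  have hT := dist X k
  refine ⟨fun hk g hg => ?_, fun i hi hi' φ => ?_, fun hk => ?_⟩
  · -- A(k+1)
    obtain ⟨h, hh⟩ := exact₁' _ _ _ hT g hg
    have h0 : h = 0 := by
      refine zero_of_int_eq ?_ (hB (k + 3) hk (by lia)) h
      push_cast; ring
    rw [h0, zero_comp] at hh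
    exact (shiftFunctor D (1 : ℤ)).map_injective (by rw [hh, Functor.map_zero])
  · -- B(k+1)
    have h1 : φ ≫ a X (k + 1) = 0 := hX i (k + 1) hi' hi _
    obtain ⟨h, hh⟩ := exact₁' _ _ _ hT φ h1
    have h0 : (shiftFunctorAdd' D ((i : ℤ) - ((k + 1 : ℕ) : ℤ) - 2) 1 ((i : ℤ) - k - 2)
        (by push_cast; ring)).hom.app (X.X i) ≫ h = 0 := hB i hi (by lia) _
    have h0' : h = 0 := by
      rw [← cancel_epi ((shiftFunctorAdd' D ((i : ℤ) - ((k + 1 : ℕ) : ℤ) - 2) 1 ((i : ℤ) - k - 2)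
        (by push_cast; ring)).hom.app (X.X i)), h0, comp_zero]
    rw [h0', zero_comp] at hh
    exact (shiftFunctor D (1 : ℤ)).map_injective (by rw [hh, Functor.map_zero])
  · -- C(k+1)
    have hb : b X k ≫ a X k = X.d (k + 1) k := bOf_comp X _ _ (hC (by lia))
    have hz : X.d (k + 2) (k + 1) ≫ b X k = 0 := by
      apply hA (by lia)
      rw [Category.assoc, hb, HomologicalComplex.d_comp_d]
    exact exact₂' _ _ _ hT (X.d (k + 2) (k + 1)) hz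

include hX in
lemma inv_all (k : ℕ) : Inv X n k := by
  induction k with
  | zero => exact inv_zero X n hX
  | succ k ih => exact inv_succ X n hX k ih

include hX in
theorem exists_postnikov :
    ∃ (Y : ℕ → D) (a : ∀ k, Y k ⟶ X.X k) (b : ∀ k, X.X (k + 1) ⟶ Y k)
      (c : ∀ k, Y k ⟶ (shiftFunctor D (1 : ℤ)).obj (Y (k + 1))),
      IsIso (a 0) ∧ ∀ k, k < n → Triangle.mk (a (k + 1)) (b k) (c k) ∈ distinguishedTriangles ∧
        b k ≫ a k = X.d (k + 1) k :=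
  ⟨Y X, a X, b X, c X, inferInstance, fun k hk =>
    ⟨dist X k, bOf_comp X _ _ ((inv_all X n hX k).2.2 hk)⟩⟩

end Groth.Agent.Helper1.Postnikov
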