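import Mathlib
import Groth.Prelude.Def_DiffOp
import Groth.Prelude.Def_PP16
import Groth.Agent.Helper1.DiffOp

set_option autoImplicit false
universe u

namespace Groth.Agent.Helper1.PrinParts
open Diff16 PP16
open scoped TensorProduct

variable {A B : Type u} [CommRing A] [CommRing B] [Algebra A B]
variable {M N : Type u} [AddCommGroup M] [Module A M] [Module B M] [IsScalarTower A B M]
  [AddCommGroup N] [Module A N] [Module B N] [IsScalarTower A B N]

/-- `b ↦ b • m` as an `A`-linear map. -/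
noncomputable def rho (m : M) : B →ₗ[A] M :=
  (LinearMap.toSpanSingleton B M m).restrictScalars A

omit [IsScalarTower A B N] in
@[simp] lemma rho_apply (m : M) (b : B) : rho (A := A) m b = b • m := rfl

lemma isDiffOpLE_rho (m : M) : IsDiffOpLE A B B M 0 (rho (A := A) m) := by
  intro b c
  simp only [rho_apply, smul_eq_mul, mul_smul]

lemma commutator_comp_rho (D : M →ₗ[A] N) (b : B) (m : M) :
    Diff16.commutator A B M N D b ∘ₗ rho m = Diff16.commutator A B B N (D ∘ₗ rho m) b := by
  ext c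
  simp only [LinearMap.comp_apply, DiffOp.commutator_apply, rho_apply, smul_eq_mul, mul_smul]

/-- order of `D` can be tested on the cyclic restrictions -/
theorem isDiffOpLE_of_rho (n : ℕ) : ∀ (D : M →ₗ[A] N),
    (∀ m : M, IsDiffOpLE A B B N n (D ∘ₗ rho m)) → IsDiffOpLE A B M N n D := by
  induction n with
  | zero =>
    intro D h b m
    have := h m b 1
    simpa using this
  | succ n ih =>
    intro D h b
    apply ih
    intro m
    rw [commutator_comp_rho]
    exact h m b

theorem isDiffOpLE_rho_comp (n : ℕ) (D : M →ₗ[A] N) (hD : IsDiffOpLE A B M N n D) (m : M) :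
    IsDiffOpLE A B B N n (D ∘ₗ rho m) := by
  have := DiffOp.comp (isDiffOpLE_rho (A := A) m) hD
  simpa using this

/-- The map `t ↦ (m ↦ t · D m)`: on pure tensors `b ⊗ b' ↦ (m ↦ b • D (b' • m))`. -/
noncomputable def Psi (D : M →ₗ[A] N) : B ⊗[A] B →ₗ[A] (M →ₗ[A] N) :=
  TensorProduct.lift (LinearMap.mk₂ A
    (fun b b' => b • (D ∘ₗ ((LinearMap.lsmul B M b').restrictScalars A)))
    (fun b₁ b₂ b' => by rw [add_smul])
    (fun c b b' => by rw [smul_assoc])
    (fun b b₁ b₂ => by
      ext m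
      simp only [LinearMap.smul_apply, LinearMap.comp_apply, LinearMap.coe_restrictScalars,
        LinearMap.lsmul_apply, LinearMap.add_apply, map_add, smul_add])
    (fun c b b' => by
      ext m
      simp only [LinearMap.smul_apply, LinearMap.comp_apply, LinearMap.coe_restrictScalars,
        LinearMap.lsmul_apply, smul_assoc, map_smul]
      rw [smul_comm]))

@[simp] lemma Psi_tmul (D : M →ₗ[A] N) (b b' : B) (m : M) :
    Psi D (b ⊗ₜ[A] b') m = b • D (b' • m) := by
  simp [Psi]

lemma Psi_eq_linearize (D : M →ₗ[A] N) (t : B ⊗[A] B) (m : M) :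
    Psi D t m = Diff16.linearize A B B N (D ∘ₗ rho m) t := by
  induction t using TensorProduct.induction_on with
  | zero => simp
  | tmul b b' => rw [Psi_tmul, DiffOp.linearize_tmul]; rfl
  | add x y hx hy => rw [map_add, map_add, LinearMap.add_apply, hx, hy]

lemma Psi_mul_right (D : M →ₗ[A] N) (b : B) (t : B ⊗[A] B) (m : M) :
    Psi D (((1 : B) ⊗ₜ[A] b) * t) m = Psi D t (b • m) := by
  induction t using TensorProduct.induction_on with
  | zero => simp
  | tmul x y =>
    rw [Algebra.TensorProduct.tmul_mul_tmul, one_mul, Psi_tmul, Psi_tmul, mul_smul, smul_comm]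
  | add x y hx hy => rw [mul_add, map_add, map_add, LinearMap.add_apply, LinearMap.add_apply, hx, hy]

lemma Psi_mul_left (D : M →ₗ[A] N) (b : B) (t : B ⊗[A] B) (m : M) :
    Psi D ((b ⊗ₜ[A] (1 : B)) * t) m = b • Psi D t m := by
  induction t using TensorProduct.induction_on with
  | zero => simp
  | tmul x y =>
    rw [Algebra.TensorProduct.tmul_mul_tmul, one_mul, Psi_tmul, Psi_tmul, mul_smul]
  | add x y hx hy =>
    rw [mul_add, map_add, map_add, LinearMap.add_apply, LinearMap.add_apply, hx, hy, smul_add]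

section PM
variable (n : ℕ)

/-- the class of `t` in `P^n`, regarded in the synonym `Pr` -/
noncomputable def cls (t : B ⊗[A] B) : Pr n A B :=
  Ideal.Quotient.mk ((KaehlerDifferential.ideal A B) ^ (n + 1)) t

lemma cls_surjective (p : Pr n A B) : ∃ t : B ⊗[A] B, cls n t = p :=
  Ideal.Quotient.mk_surjective (I := (KaehlerDifferential.ideal A B) ^ (n + 1)) p

lemma cls_zero : cls n (0 : B ⊗[A] B) = 0 :=
  map_zero (Ideal.Quotient.mk ((KaehlerDifferential.ideal A B) ^ (n + 1)))

lemma cls_add (t t' : B ⊗[A] B) : cls n (t + t') = cls n t + cls n t' :=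
  map_add (Ideal.Quotient.mk ((KaehlerDifferential.ideal A B) ^ (n + 1))) t t'

lemma cls_eq_zero {t : B ⊗[A] B} (ht : t ∈ (KaehlerDifferential.ideal A B) ^ (n + 1)) :
    cls n t = 0 :=
  (Ideal.Quotient.eq_zero_iff_mem).2 ht

lemma cls_one : cls n ((1 : B) ⊗ₜ[A] (1 : B)) = 1 :=
  map_one (Ideal.Quotient.mk ((KaehlerDifferential.ideal A B) ^ (n + 1)))

lemma smul_cls (b : B) (t : B ⊗[A] B) : b • cls n t = cls n (((1 : B) ⊗ₜ[A] b) * t) := by
  rw [Algebra.smul_def]
  exact (map_mul (Ideal.Quotient.mk ((KaehlerDifferential.ideal A B) ^ (n + 1)))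
    ((1 : B) ⊗ₜ[A] b) t).symm

lemma algebraMap_smul_cls (b : B) (t : B ⊗[A] B) :
    algebraMap B (P n A B) b • cls n t = cls n ((b ⊗ₜ[A] (1 : B)) * t) :=
  (map_mul (Ideal.Quotient.mk ((KaehlerDifferential.ideal A B) ^ (n + 1)))
    (b ⊗ₜ[A] (1 : B)) t).symm

omit [Module A M] [IsScalarTower A B M] in
lemma cls_tmul_eq (x y : B) (m : M) :
    (cls n (x ⊗ₜ[A] y) ⊗ₜ[B] m : PM n A B M) =
      algebraMap B (P n A B) x • ((1 : Pr n A B) ⊗ₜ[B] (y • m)) := by
  rw [TensorProduct.smul_tmul', ← TensorProduct.smul_tmul]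
  congr 1
  rw [← cls_one, algebraMap_smul_cls, smul_cls]
  simp only [Algebra.TensorProduct.tmul_mul_tmul, one_mul, mul_one]

/-- any additive map on `P^n(M)` that is linear for the first factor and restricts to `D` is
given by `Psi D` on generators -/
theorem eq_Psi_of (D : M →ₗ[A] N) (v : PM n A B M →+ N)
    (hlin : ∀ (b : B) (t : PM n A B M), v (algebraMap B (P n A B) b • t) = b • v t)
    (hd : ∀ m : M, v (dM n A B M m) = D m) (t : B ⊗[A] B) (m : M) :
    v (cls n t ⊗ₜ[B] m) = Psi D t m := by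
  induction t using TensorProduct.induction_on with
  | zero =>
    rw [cls_zero, TensorProduct.zero_tmul, map_zero, map_zero, LinearMap.zero_apply]
  | tmul x y =>
    rw [cls_tmul_eq, hlin, Psi_tmul]
    congr 1
    exact hd (y • m)
  | add x y hx hy =>
    rw [cls_add, TensorProduct.add_tmul, map_add, map_add, LinearMap.add_apply, hx, hy]

/-- the descended map -/
theorem exists_PsiBar (D : M →ₗ[A] N)
    (hvan : ∀ t ∈ (KaehlerDifferential.ideal A B) ^ (n + 1), Psi D t = 0) :
    ∃ Ψ : Pr n A B →+ (M →ₗ[A] N), ∀ t : B ⊗[A] B, Ψ (cls n t) = Psi D t := by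
  refine ⟨((((KaehlerDifferential.ideal A B) ^ (n + 1)).restrictScalars A).liftQ (Psi D)
    (fun t ht => hvan t ht) ∘ₗ
    (Submodule.Quotient.restrictScalarsEquiv A
      ((KaehlerDifferential.ideal A B) ^ (n + 1))).symm.toLinearMap).toAddMonoidHom, ?_⟩
  intro t
  rfl

theorem exists_u (D : M →ₗ[A] N)
    (hvan : ∀ t ∈ (KaehlerDifferential.ideal A B) ^ (n + 1), Psi D t = 0) :
    ∃ u : PM n A B M →+ N, ∀ (t : B ⊗[A] B) (m : M), u (cls n t ⊗ₜ[B] m) = Psi D t m := by
  obtain ⟨Ψ, hΨ⟩ := exists_PsiBar n D hvan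
  let f : Pr n A B →+ M →+ N :=
    (LinearMap.toAddMonoidHom' : (M →ₗ[A] N) →+ (M →+ N)).comp Ψ
  have hf_apply : ∀ (t : B ⊗[A] B) (m : M), f (cls n t) m = Psi D t m := by
    intro t m
    show Ψ (cls n t) m = _
    rw [hΨ]
  have hf : ∀ (b : B) (p : Pr n A B) (m : M), f (b • p) m = f p (b • m) := by
    intro b p m
    obtain ⟨t, rfl⟩ := cls_surjective n p
    rw [smul_cls, hf_apply, hf_apply, Psi_mul_right]
  refine ⟨TensorProduct.liftAddHom f hf, ?_⟩
  intro t m
  rw [TensorProduct.liftAddHom_tmul, hf_apply]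

end PM

end Groth.Agent.Helper1.PrinParts
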