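import Groth.Agent.Helper1.CohTopLeray

/-!
# Profinite spaces have no higher cohomology
-/

set_option autoImplicit false

namespace Groth.Agent.Helper1.ProfAcyc

open CategoryTheory Limits Opposite TopologicalSpace Abelian
open Groth.Agent.Lead.CohTopB
open Groth.Agent.Helper1.DeltaCmp
open Groth.Agent.Helper1.CechTop
open Groth.Agent.Helper1.CohTopExt
open Groth.Agent.Helper1.CohTopFun

universe u

variable {X : TopCat.{u}}

/-- vanishing of higher cohomology when the global sections functor is exact -/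
theorem isZero_HSeq_of_sections_exact
    (h : ∀ S : ShortComplex (CohTop.Ab X), S.ShortExact →
      Function.Surjective (S.g.hom.app (op (⊤ : Opens X)))) :
    ∀ (n : ℕ) (F : CohTop.Ab X), IsZero ((HSeq (n + 1)).obj F) := by
  intro n
  induction n with
  | zero =>
    intro F
    obtain ⟨S, hS, hI, rfl⟩ : ∃ (S : ShortComplex (CohTop.Ab X)) (_ : S.ShortExact)
        (_ : Injective S.X₂), S.X₁ = F := ⟨injSC F, injSC_shortExact F, inferInstance, rfl⟩
    obtain ⟨δ, w₁, w₂, e₁, e₂⟩ := hasLES_extSeq (𝟭 (CohTop.Ab X)) (constZ X) S hS 0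
    have hepi : Epi ((HSeq 0).map S.g) := by
      have h1 : Epi ((sectionsFunctor (⊤ : Opens X)).map S.g) :=
        (AddCommGrpCat.epi_iff_surjective _).2 (h S hS)
      have h2 : (HSeq 0).map S.g =
          h0Iso.hom.app S.X₂ ≫ (sectionsFunctor (⊤ : Opens X)).map S.g ≫ h0Iso.inv.app S.X₃ := by
        rw [← Category.assoc, ← h0Iso.hom.naturality S.g, Category.assoc, Iso.hom_inv_id_app,
          Category.comp_id]
      rw [h2]
      infer_instance
    have hδ : δ = 0 := (cancel_epi ((HSeq 0).map S.g)).1 (w₁.trans comp_zero.symm)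
    have hmono : Mono ((HSeq 1).map S.f) := e₂.mono_g hδ
    exact IsZero.of_mono ((HSeq 1).map S.f) (isZero_HSeq_of_injective S.X₂ 0)
  | succ n ih =>
    intro F
    obtain ⟨S, hS, hI, rfl⟩ : ∃ (S : ShortComplex (CohTop.Ab X)) (_ : S.ShortExact)
        (_ : Injective S.X₂), S.X₁ = F := ⟨injSC F, injSC_shortExact F, inferInstance, rfl⟩
    have hl : HasLES (fun n => HSeq n) S := hasLES_extSeq (𝟭 (CohTop.Ab X)) (constZ X) S hS
    obtain ⟨e⟩ := nonempty_iso_succ hl (fun m => isZero_HSeq_of_injective S.X₂ m) n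
    exact IsZero.of_iso (ih S.X₃) e.symm

variable [CompactSpace X] [T2Space X] [TotallyDisconnectedSpace X]

/-- on a profinite space, the global sections functor is exact -/
theorem surjective_sections_of_profinite (S : ShortComplex (CohTop.Ab X)) (hS : S.ShortExact) :
    Function.Surjective (S.g.hom.app (op (⊤ : Opens X))) := by
  classical
  intro q
  have hls := (TopCat.Sheaf.isLocallySurjective_iff_epi S.g).mpr hS.epi_g
  have hloc := (TopCat.Presheaf.isLocallySurjective_iff S.g.hom).mp hls ⊤ q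
  let Good : Opens X → Prop := fun U => IsClosed (U : Set X) ∧
    ∃ s : S.X₂.obj.obj (op U), S.g.hom.app (op U) s = S.X₃.obj.map (homOfLE le_top).op q
  have hbot : Good ⊥ := by
    refine ⟨by simp, 0, ?_⟩
    exact (subsingleton_sections_of_isEmpty S.X₃ ⊥ rfl).elim _ _
  have hsup : ∀ U₁ U₂ : Opens X, Good U₁ → Good U₂ → Good (U₁ ⊔ U₂) := by
    rintro U₁ U₂ ⟨hc₁, s₁, hs₁⟩ ⟨hc₂, s₂, hs₂⟩
    refine ⟨hc₁.union hc₂, ?_⟩
    -- the part of `U₂` outside `U₁`
    let U₂' : Opens X := ⟨(U₂ : Set X) \ (U₁ : Set X), U₂.2.sdiff hc₁⟩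
    have hU₂' : U₂' ≤ U₂ := fun x hx => hx.1
    have hdisj : U₁ ⊓ U₂' = ⊥ := by
      apply le_antisymm _ bot_le
      rintro x ⟨h1, h2⟩
      exact (h2.2 h1).elim
    have hcov : U₁ ⊔ U₂ ≤ U₁ ⊔ U₂' := by
      rintro x (h1 | h2)
      · exact Or.inl h1
      · by_cases hx : x ∈ U₁
        · exact Or.inl hx
        · exact Or.inr ⟨h2, hx⟩
    let s₂' : S.X₂.obj.obj (op U₂') := S.X₂.obj.map (homOfLE hU₂').op s₂
    let fam : Bool → Opens X := fun b => if b then U₁ else U₂'
    let sf : ∀ b : Bool, S.X₂.obj.obj (op (fam b)) := fun b =>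
      match b with
      | true => s₁
      | false => s₂'
    have hfamle : ∀ b, fam b ≤ U₁ ⊔ U₂ := by
      intro b
      cases b
      · exact hU₂'.trans le_sup_right
      · exact le_sup_left
    have hcompat : TopCat.Presheaf.IsCompatible S.X₂.obj fam sf := by
      intro b b'
      cases b <;> cases b'
      · rfl
      · have : Subsingleton (S.X₂.obj.obj (op (fam false ⊓ fam true))) :=
          subsingleton_sections_of_isEmpty S.X₂ _ (by
            show U₂' ⊓ U₁ = ⊥
            rw [inf_comm]; exact hdisj)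
        exact this.elim _ _
      · have : Subsingleton (S.X₂.obj.obj (op (fam true ⊓ fam false))) :=
          subsingleton_sections_of_isEmpty S.X₂ _ hdisj
        exact this.elim _ _
      · rfl
    obtain ⟨s, hs, -⟩ := TopCat.Sheaf.existsUnique_gluing' S.X₂ fam (U₁ ⊔ U₂)
      (fun b => homOfLE (hfamle b)) (by
        refine hcov.trans (sup_le ?_ ?_)
        · exact le_iSup fam true
        · exact le_iSup fam false) sf hcompat
    refine ⟨s, ?_⟩
    refine TopCat.Sheaf.eq_of_locally_eq' S.X₃ fam (U₁ ⊔ U₂) (fun b => homOfLE (hfamle b)) (by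
        refine hcov.trans (sup_le ?_ ?_)
        · exact le_iSup fam true
        · exact le_iSup fam false) _ _ ?_
    intro b
    have hnat := NatTrans.naturality_apply S.g.hom (homOfLE (hfamle b)).op s
    rw [← hnat, hs b, ← ConcreteCategory.comp_apply, ← S.X₃.obj.map_comp]
    cases b
    · show S.g.hom.app (op U₂') (S.X₂.obj.map (homOfLE hU₂').op s₂) = _
      have hnat2 := NatTrans.naturality_apply S.g.hom (homOfLE hU₂').op s₂
      rw [hnat2, hs₂, ← ConcreteCategory.comp_apply, ← S.X₃.obj.map_comp]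
      rfl
    · exact hs₁
  have hpt : ∀ x : X, ∃ U : Opens X, Good U ∧ x ∈ U := by
    intro x
    obtain ⟨V, hV, ⟨t, ht⟩, hxV⟩ := hloc x trivial
    obtain ⟨C, hC', hxC, hCV⟩ := (isTopologicalBasis_isClopen (X := X)).exists_subset_of_mem_open
      hxV V.2
    have hC : IsClopen C := hC'
    refine ⟨⟨C, hC.2⟩, ⟨hC.1, S.X₂.obj.map (homOfLE (show (⟨C, hC.2⟩ : Opens X) ≤ V from hCV)).op t,
      ?_⟩, hxC⟩
    have hnat := NatTrans.naturality_apply S.g.hom
      (homOfLE (show (⟨C, hC.2⟩ : Opens X) ≤ V from hCV)).op t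
    rw [hnat, ht]
    show S.X₃.obj.map _ (S.X₃.obj.map _ q) = _
    rw [← ConcreteCategory.comp_apply, ← S.X₃.obj.map_comp]
    rfl
  choose C hC hxC using hpt
  obtain ⟨t, ht⟩ := isCompact_univ.elim_finite_subcover (fun x => (C x : Set X))
    (fun x => (C x).2) (fun x _ => Set.mem_iUnion.2 ⟨x, hxC x⟩)
  have hfin : ∀ t : Finset X, Good (t.sup C) := by
    intro t
    induction t using Finset.induction_on with
    | empty => rw [Finset.sup_empty]; exact hbot
    | insert a t _ ih => rw [Finset.sup_insert]; exact hsup _ _ (hC a) ih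
  have htop : t.sup C = ⊤ := by
    apply le_antisymm le_top
    intro x _
    obtain ⟨y, hy⟩ := Set.mem_iUnion.1 (ht (Set.mem_univ x))
    obtain ⟨hyt, hxy⟩ := Set.mem_iUnion.1 hy
    exact (Finset.le_sup (f := C) hyt) hxy
  obtain ⟨-, s, hs⟩ := htop ▸ hfin t
  refine ⟨s, hs.trans ?_⟩
  have : (homOfLE (le_top : (⊤ : Opens X) ≤ ⊤)).op = 𝟙 _ := rfl
  rw [this, S.X₃.obj.map_id]
  rfl

/-- **S0471** -/
theorem subsingleton_H_of_profinite (F : CohTop.Ab X) (p : ℕ) :
    Subsingleton (CohTop.H F (p + 1)) :=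
  AddCommGrpCat.subsingleton_of_isZero
    (isZero_HSeq_of_sections_exact (fun S hS => surjective_sections_of_profinite S hS) p F)

end Groth.Agent.Helper1.ProfAcyc
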