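import Groth.Agent.Helper1.ProjTop8
import Groth.Agent.Helper1.PolyTop3

/-!
# Global sections of `O(d)` on projective space
-/

set_option autoImplicit false
set_option linter.style.haveILetI false

namespace Groth.Agent.Helper1.ProjTop

open CategoryTheory AlgebraicGeometry TopologicalSpace Opposite MvPolynomial
open Groth.Agent.Helper1.GrT Groth.Agent.Helper1.MVTop Groth.Agent.Helper1.PolyTop
open Groth.Agent.Helper1.KoszulPoly Groth.Agent.Helper1.ProjSpR

universe u

variable (r : ℕ) (R : Type u) [CommRing R] (d : ℤ)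

/-- the localisation of the polynomial ring at one variable -/
abbrev LX (j : Fin (r + 1)) : Type u :=
  LocalizedModule (Submonoid.powers (X j : MvPolynomial (Fin (r + 1)) R))
    (MvPolynomial (Fin (r + 1)) R)

noncomputable abbrev τX (j : Fin (r + 1)) :
    MvPolynomial (Fin (r + 1)) R →ₗ[MvPolynomial (Fin (r + 1)) R] LX r R j :=
  LocalizedModule.mkLinearMap (Submonoid.powers (X j : MvPolynomial (Fin (r + 1)) R))
    (MvPolynomial (Fin (r + 1)) R)

lemma isUnit_X (j : Fin (r + 1))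
    (x : Submonoid.powers (X j : MvPolynomial (Fin (r + 1)) R)) :
    IsUnit (algebraMap (MvPolynomial (Fin (r + 1)) R)
      (Module.End (MvPolynomial (Fin (r + 1)) R) (Lg r R)) x) := by
  obtain ⟨_, k, rfl⟩ := x
  rw [map_pow]
  apply IsUnit.pow
  have h1 := IsLocalizedModule.map_units (τg r R)
    (⟨gAll (Fin (r + 1)) R, Submonoid.mem_powers _⟩ : Submonoid.powers (gAll (Fin (r + 1)) R))
  have h2 : IsUnit (algebraMap (MvPolynomial (Fin (r + 1)) R)
      (Module.End (MvPolynomial (Fin (r + 1)) R) (Lg r R)) (X j * gOmit r R j)) :=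
    (congrArg (fun a => IsUnit (algebraMap (MvPolynomial (Fin (r + 1)) R)
      (Module.End (MvPolynomial (Fin (r + 1)) R) (Lg r R)) a)) (X_mul_gOmit r R j)).mp h1
  rw [map_mul] at h2
  exact ((Commute.isUnit_mul_iff (Algebra.commutes _ _)).1 h2).1

/-- the map `S_{X_j} → S_g` -/
noncomputable def ρX (j : Fin (r + 1)) : LX r R j →ₗ[MvPolynomial (Fin (r + 1)) R] Lg r R :=
  IsLocalizedModule.lift (Submonoid.powers (X j : MvPolynomial (Fin (r + 1)) R)) (τX r R j)
    (τg r R) (isUnit_X r R j)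

lemma ρX_τX (j : Fin (r + 1)) (m : MvPolynomial (Fin (r + 1)) R) :
    ρX r R j (τX r R j m) = τg r R m :=
  IsLocalizedModule.lift_apply _ _ _ _ _

lemma Itot_le_V (j : Fin (r + 1)) : Itot r R ≤ V r R j :=
  fun x hx => (mem_Icap_family (V r R) x).1 hx j

/-- `θ` on a standard open -/
noncomputable def θV (j : Fin (r + 1)) :
    GrTilde.sect (𝒜 r R) (𝒜 r R) d (op (V r R j)) →+ LX r R j :=
  θ (𝒜 r R) (𝒜 r R) (X j) (τX r R j) Nat.one_pos (X_mem r R j) d (V r R j) rfl

lemma θI_res_V (j : Fin (r + 1)) (t : GrTilde.sect (𝒜 r R) (𝒜 r R) d (op (V r R j))) :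
    θI r R d (GrTilde.res (𝒜 r R) (𝒜 r R) d (homOfLE (Itot_le_V r R j)).op t) =
      ρX r R j (θV r R d j t) :=
  θ_res (𝒜 r R) (𝒜 r R) (X j) (gAll (Fin (r + 1)) R) (gOmit r R j)
    ((X_mul_gOmit r R j).trans (mul_comm _ _)) (τX r R j) (τg r R) (ρX r R j) (ρX_τX r R j)
    Nat.one_pos (Nat.succ_pos r) (X_mem r R j) (gAll_mem r R) (gOmit_mem r R j) rfl d
    (V r R j) (Itot r R) rfl (Itot_eq r R) (Itot_le_V r R j) t

/-- the restriction of a section over a standard open to the total intersection has a denominator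
which is a power of one variable -/
lemma exists_X_pow_smul (j : Fin (r + 1)) (t : GrTilde.sect (𝒜 r R) (𝒜 r R) d (op (V r R j))) :
    ∃ (a : ℕ) (m : MvPolynomial (Fin (r + 1)) R),
      (X j : MvPolynomial (Fin (r + 1)) R) ^ a •
        θI r R d (GrTilde.res (𝒜 r R) (𝒜 r R) d (homOfLE (Itot_le_V r R j)).op t) = τg r R m := by
  obtain ⟨a, i, m, hm, hi, hv⟩ := θ_mem (𝒜 r R) (𝒜 r R) (X j) (τX r R j) Nat.one_pos (X_mem r R j) d
    (V r R j) rfl t
  have hv' : (X j : MvPolynomial (Fin (r + 1)) R) ^ a • θV r R d j t = τX r R j m := hv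
  refine ⟨a, m, ?_⟩
  rw [θI_res_V, ← map_smul, hv', ρX_τX]

/-- restriction from a standard open to the total intersection is injective -/
lemma eq_zero_of_θI_res_V (j : Fin (r + 1)) (t : GrTilde.sect (𝒜 r R) (𝒜 r R) d (op (V r R j)))
    (h : θI r R d (GrTilde.res (𝒜 r R) (𝒜 r R) d (homOfLE (Itot_le_V r R j)).op t) = 0) :
    t = 0 := by
  obtain ⟨a, i, m, hm, hi, hv⟩ := θ_mem (𝒜 r R) (𝒜 r R) (X j) (τX r R j) Nat.one_pos (X_mem r R j) d
    (V r R j) rfl t
  have hv' : (X j : MvPolynomial (Fin (r + 1)) R) ^ a • θV r R d j t = τX r R j m := hv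
  rw [θI_res_V] at h
  have h1 : τg r R m = 0 := by
    rw [← ρX_τX r R j, ← hv', map_smul, h, smul_zero]
  have hm0 : m = 0 := τ_injective (τg r R) (h1.trans (map_zero _).symm)
  rw [hm0, map_zero] at hv'
  have h2 : θV r R d j t = 0 := by
    apply smul_pow_injective (X j : MvPolynomial (Fin (r + 1)) R) (τX r R j) a
    show (X j : MvPolynomial (Fin (r + 1)) R) ^ a • θV r R d j t =
      (X j : MvPolynomial (Fin (r + 1)) R) ^ a • 0
    rw [hv', smul_zero]
  apply θ_injective (𝒜 r R) (𝒜 r R) (X j) (τX r R j) Nat.one_pos (X_mem r R j) d (V r R j) rfl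
  rw [map_zero]
  exact h2

/-- restriction of a global section to the total intersection -/
noncomputable def resI : GrTilde.sect (𝒜 r R) (𝒜 r R) d (op ⊤) →+
    GrTilde.sect (𝒜 r R) (𝒜 r R) d (op (Itot r R)) where
  toFun s := GrTilde.res (𝒜 r R) (𝒜 r R) d (homOfLE (le_top : Itot r R ≤ ⊤)).op s
  map_zero' := rfl
  map_add' _ _ := rfl

lemma resI_eq (j : Fin (r + 1)) (s : GrTilde.sect (𝒜 r R) (𝒜 r R) d (op ⊤)) :
    resI r R d s = GrTilde.res (𝒜 r R) (𝒜 r R) d (homOfLE (Itot_le_V r R j)).op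
      (GrTilde.res (𝒜 r R) (𝒜 r R) d (homOfLE (le_top : V r R j ≤ ⊤)).op s) := rfl

/-- a global section vanishing on the total intersection vanishes -/
theorem eq_zero_of_θI_resI (s : GrTilde.sect (𝒜 r R) (𝒜 r R) d (op ⊤))
    (h : θI r R d (resI r R d s) = 0) : s = 0 := by
  apply sect_ext
  intro y hy
  have hy' : y ∈ Scup (V r R (Fin.last r)) (initList (V r R)) := by
    rw [Scup_eq_top]
    trivial
  obtain ⟨j, hj⟩ := (mem_Scup_family (V r R) y).1 hy'
  have h1 := eq_zero_of_θI_res_V r R d j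
    (GrTilde.res (𝒜 r R) (𝒜 r R) d (homOfLE (le_top : V r R j ≤ ⊤)).op s)
    ((congrArg (θI r R d) (resI_eq r R d j s)).symm.trans h)
  have h2 := congrArg (fun t => val t y hj) h1
  exact h2

end Groth.Agent.Helper1.ProjTop
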