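import Groth.Agent.Helper1.ProjH02
import Groth.Agent.Helper1.GrT14

/-!
# `H⁰(P^r_R, O(d))` is the module of homogeneous polynomials of degree `d`
-/

set_option autoImplicit false
set_option linter.style.haveILetI false

namespace Groth.Agent.Helper1.ProjTop

open CategoryTheory AlgebraicGeometry TopologicalSpace Opposite MvPolynomial
open Groth.Agent.Helper1.GrT Groth.Agent.Helper1.MVTop Groth.Agent.Helper1.PolyTop
open Groth.Agent.Helper1.KoszulPoly Groth.Agent.Helper1.ProjSpR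

universe u

variable (r : ℕ) (R : Type u) [CommRing R] (dd : ℕ)

/-- the polynomial of a global section -/
noncomputable def G0fun (s : GrTilde.sect (𝒜 r R) (𝒜 r R) (dd : ℤ) (op ⊤)) :
    MvPolynomial (Fin (r + 1)) R :=
  (exists_poly r R (dd : ℤ) (Or.inr (Int.natCast_nonneg _)) s).choose

lemma G0fun_spec (s : GrTilde.sect (𝒜 r R) (𝒜 r R) (dd : ℤ) (op ⊤)) :
    τg r R (G0fun r R dd s) = θI r R (dd : ℤ) (resI r R (dd : ℤ) s) :=
  (exists_poly r R (dd : ℤ) (Or.inr (Int.natCast_nonneg _)) s).choose_spec.2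

lemma G0fun_mem (s : GrTilde.sect (𝒜 r R) (𝒜 r R) (dd : ℤ) (op ⊤)) :
    G0fun r R dd s ∈ 𝒜 r R dd := by
  have h := (exists_poly r R (dd : ℤ) (Or.inr (Int.natCast_nonneg _)) s).choose_spec.1
  refine (mem_homogeneousSubmodule _ _).2 ((isHomogeneous_iff_degree _ dd).2 (fun β hβ => ?_))
  have := h β hβ
  exact_mod_cast this

lemma G0fun_eq (s : GrTilde.sect (𝒜 r R) (𝒜 r R) (dd : ℤ) (op ⊤))
    (m : MvPolynomial (Fin (r + 1)) R)
    (h : τg r R m = θI r R (dd : ℤ) (resI r R (dd : ℤ) s)) : G0fun r R dd s = m :=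
  τ_injective (τg r R) ((G0fun_spec r R dd s).trans h.symm)

/-- the polynomial of a global section, as an additive map -/
noncomputable def G0 : GrTilde.sect (𝒜 r R) (𝒜 r R) (dd : ℤ) (op ⊤) →+ ↥(𝒜 r R dd) where
  toFun s := ⟨G0fun r R dd s, G0fun_mem r R dd s⟩
  map_zero' := Subtype.ext (G0fun_eq r R dd 0 0
    (((τg r R).map_zero).trans (((θI r R (dd : ℤ)).map_zero).symm.trans
      (congrArg (θI r R (dd : ℤ)) (resI r R (dd : ℤ)).map_zero.symm))))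
  map_add' s t := Subtype.ext (G0fun_eq r R dd (s + t) _
    (((τg r R).map_add _ _).trans
      ((congrArg₂ (· + ·) (G0fun_spec r R dd s) (G0fun_spec r R dd t)).trans
        (((θI r R (dd : ℤ)).map_add _ _).symm.trans
          (congrArg (θI r R (dd : ℤ)) ((resI r R (dd : ℤ)).map_add s t).symm)))))

lemma G0_injective : Function.Injective (G0 r R dd) := by
  rw [injective_iff_map_eq_zero]
  intro s hs
  have h1 : G0fun r R dd s = 0 := congrArg Subtype.val hs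
  have h2 := G0fun_spec r R dd s
  have h3 : θI r R (dd : ℤ) (resI r R (dd : ℤ) s) = 0 :=
    h2.symm.trans ((congrArg (τg r R) h1).trans (τg r R).map_zero)
  exact eq_zero_of_θI_resI r R (dd : ℤ) s h3

lemma G0_surjective : Function.Surjective (G0 r R dd) := by
  rintro ⟨m', hm'⟩
  have hij : ((dd : ℕ) : ℤ) = ((0 : ℕ) : ℤ) + (dd : ℤ) := by simp
  refine ⟨elemSect (𝒜 r R) (𝒜 r R) (dd : ℤ) ⊤ m' hm' hij, Subtype.ext (G0fun_eq r R dd _ m' ?_)⟩
  have h1 : resI r R (dd : ℤ) (elemSect (𝒜 r R) (𝒜 r R) (dd : ℤ) ⊤ m' hm' hij) =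
      elemSect (𝒜 r R) (𝒜 r R) (dd : ℤ) (Itot r R) m' hm' hij :=
    res_elemSect (𝒜 r R) (𝒜 r R) (dd : ℤ) m' hm' hij (le_top : Itot r R ≤ ⊤)
  have h2 : θI r R (dd : ℤ) (elemSect (𝒜 r R) (𝒜 r R) (dd : ℤ) (Itot r R) m' hm' hij) =
      τg r R m' :=
    θ_elemSect (𝒜 r R) (𝒜 r R) (gAll (Fin (r + 1)) R) (τg r R) (Nat.succ_pos r) (gAll_mem r R)
      (dd : ℤ) (Itot r R) (Itot_eq r R) m' hm' hij
  exact h2.symm.trans (congrArg (θI r R (dd : ℤ)) h1.symm)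

set_option synthInstance.maxHeartbeats 400000 in
lemma G0_smul (ρ : R) (s : GrTilde.sect (𝒜 r R) (𝒜 r R) (dd : ℤ) (op ⊤)) :
    G0 r R dd ((Coh.smulAb (GrTilde.tilde (𝒜 r R) (𝒜 r R) (dd : ℤ))
      (Coh.toGlobal (toSpecR (𝒜 r R)) ρ)).hom.app (op ⊤) s) = ρ • G0 r R dd s := by
  apply Subtype.ext
  refine G0fun_eq r R dd _ _ ?_
  have h1 : resI r R (dd : ℤ) ((Coh.smulAb (GrTilde.tilde (𝒜 r R) (𝒜 r R) (dd : ℤ))
      (Coh.toGlobal (toSpecR (𝒜 r R)) ρ)).hom.app (op ⊤) s) =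
      (Coh.smulAb (GrTilde.tilde (𝒜 r R) (𝒜 r R) (dd : ℤ))
        (Coh.toGlobal (toSpecR (𝒜 r R)) ρ)).hom.app (op (Itot r R)) (resI r R (dd : ℤ) s) := by
    apply sect_ext
    intro y hy
    refine Eq.trans ?_ (val_smulAb (𝒜 r R) (𝒜 r R) (dd : ℤ) (Itot r R) ρ
      (resI r R (dd : ℤ) s) y hy).symm
    exact val_smulAb (𝒜 r R) (𝒜 r R) (dd : ℤ) ⊤ ρ s y trivial
  have h2 : θI r R (dd : ℤ) ((Coh.smulAb (GrTilde.tilde (𝒜 r R) (𝒜 r R) (dd : ℤ))
      (Coh.toGlobal (toSpecR (𝒜 r R)) ρ)).hom.app (op (Itot r R)) (resI r R (dd : ℤ) s)) =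
      (C ρ : MvPolynomial (Fin (r + 1)) R) • θI r R (dd : ℤ) (resI r R (dd : ℤ) s) :=
    θ_smulAb (𝒜 r R) (𝒜 r R) (gAll (Fin (r + 1)) R) (τg r R) (Nat.succ_pos r) (gAll_mem r R)
      (dd : ℤ) (Itot r R) (Itot_eq r R) ρ (resI r R (dd : ℤ) s)
  have h3 : τg r R (ρ • G0fun r R dd s) =
      (C ρ : MvPolynomial (Fin (r + 1)) R) • τg r R (G0fun r R dd s) :=
    (congrArg (τg r R) (smul_eq_C_mul (G0fun r R dd s) ρ)).trans ((τg r R).map_smul _ _)
  exact h3.trans ((congrArg (fun w => (C ρ : MvPolynomial (Fin (r + 1)) R) • w)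
    (G0fun_spec r R dd s)).trans (h2.symm.trans (congrArg (θI r R (dd : ℤ)) h1.symm)))

end Groth.Agent.Helper1.ProjTop
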