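import Mathlib
import Groth.Prelude.Def_CohB1
import Groth.Agent.Helper1.MVTop8
import Groth.Agent.Helper1.ProjSpR
import Groth.Agent.Helper1.PolyTop2
import Groth.Agent.Helper1.ProjVanish

/-!
# The standard cover of projective space and its faces
-/

set_option autoImplicit false

namespace Groth.Agent.Helper1.ProjTop

open CategoryTheory AlgebraicGeometry TopologicalSpace Opposite MvPolynomial
open Groth.Agent.Helper1.GrT Groth.Agent.Helper1.MVTop Groth.Agent.Helper1.PolyTop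

universe u
variable (r : ℕ) (R : Type u) [CommRing R]

/-- the grading of the polynomial ring -/
noncomputable abbrev 𝒜 : ℕ → Submodule R (MvPolynomial (Fin (r + 1)) R) := CohB1.polyGrading r R

/-- the standard opens `D₊(X j)` -/
noncomputable def V (j : Fin (r + 1)) : Opens (ProjectiveSpectrum.top (𝒜 r R)) :=
  ProjectiveSpectrum.basicOpen (𝒜 r R) (X j : MvPolynomial (Fin (r + 1)) R)

/-- the product of all variables but one -/
noncomputable def gOmit (j : Fin (r + 1)) : MvPolynomial (Fin (r + 1)) R :=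
  ∏ i ∈ Finset.univ.erase j, (X i : MvPolynomial (Fin (r + 1)) R)

lemma X_mem (j : Fin (r + 1)) : (X j : MvPolynomial (Fin (r + 1)) R) ∈ 𝒜 r R 1 :=
  isHomogeneous_X R j

lemma gAll_mem : gAll (Fin (r + 1)) R ∈ 𝒜 r R (r + 1) := by
  have := SetLike.prod_mem_graded (𝒜 r R) (fun _ : Fin (r + 1) => 1)
    (fun j => (X j : MvPolynomial (Fin (r + 1)) R)) (F := Finset.univ) (fun j _ => X_mem r R j)
  simpa [gAll] using this

lemma gOmit_mem (j : Fin (r + 1)) : gOmit r R j ∈ 𝒜 r R r := by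
  have := SetLike.prod_mem_graded (𝒜 r R) (fun _ : Fin (r + 1) => 1)
    (fun j => (X j : MvPolynomial (Fin (r + 1)) R)) (F := Finset.univ.erase j)
    (fun j _ => X_mem r R j)
  simpa [gOmit] using this

lemma mem_bo (g : MvPolynomial (Fin (r + 1)) R) (x : ProjectiveSpectrum.top (𝒜 r R)) :
    x ∈ (ProjectiveSpectrum.basicOpen (𝒜 r R) g : Opens (ProjectiveSpectrum.top (𝒜 r R))) ↔
      g ∉ x.asHomogeneousIdeal :=
  ProjectiveSpectrum.mem_basicOpen (𝒜 r R) g x

lemma mem_V (j : Fin (r + 1)) (x : ProjectiveSpectrum.top (𝒜 r R)) :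
    x ∈ V r R j ↔ (X j : MvPolynomial (Fin (r + 1)) R) ∉ x.asHomogeneousIdeal :=
  ProjectiveSpectrum.mem_basicOpen (𝒜 r R) _ x

lemma X_mul_gOmit (j : Fin (r + 1)) : gAll (Fin (r + 1)) R = X j * gOmit r R j := by
  unfold gAll gOmit
  rw [Finset.mul_prod_erase _ _ (Finset.mem_univ j)]

/-- the total intersection of the standard opens -/
noncomputable abbrev Itot : Opens (ProjectiveSpectrum.top (𝒜 r R)) :=
  Icap (V r R (Fin.last r)) (initList (V r R))

lemma Itot_eq : Itot r R = ProjectiveSpectrum.basicOpen (𝒜 r R) (gAll (Fin (r + 1)) R) := by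
  refine SetLike.ext (fun x => ?_)
  refine (mem_Icap_family (V r R) x).trans (Iff.trans ?_ (mem_bo r R _ x).symm)
  unfold gAll
  have hp : (x.asHomogeneousIdeal.toIdeal).IsPrime := x.isPrime
  constructor
  · intro h hmem
    obtain ⟨j, -, hj⟩ := (Ideal.IsPrime.prod_mem_iff (hp := hp)).1 hmem
    exact (mem_V r R j x).1 (h j) hj
  · intro h j
    exact (mem_V r R j x).2
      (fun hj => h ((Ideal.IsPrime.prod_mem_iff (hp := hp)).2 ⟨j, Finset.mem_univ j, hj⟩))

lemma Scup_eq_top : Scup (V r R (Fin.last r)) (initList (V r R)) = ⊤ := by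
  have hg1 : ∀ j : Fin (r + 1), (X j : MvPolynomial (Fin (r + 1)) R) ∈ 𝒜 r R 1 := X_mem r R
  have hsp := Groth.Agent.Helper1.ProjVanish.irrelevant_eq_span_of_adjoin (𝒜 r R)
    (fun j : Fin (r + 1) => (X j : MvPolynomial (Fin (r + 1)) R)) hg1 (MvPolynomial.adjoin_range_X)
  rw [eq_top_iff]
  intro x _
  refine (mem_Scup_family (V r R) x).2 ?_
  by_contra hcon
  push Not at hcon
  apply x.not_irrelevant_le
  show (HomogeneousIdeal.irrelevant (𝒜 r R)).toIdeal ≤ x.asHomogeneousIdeal.toIdeal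
  rw [hsp, Ideal.span_le]
  rintro _ ⟨j, rfl⟩
  by_contra hj
  exact hcon j ((mem_V r R j x).2 hj)

/-- a face of the standard cover is a `D₊(gOmit j)` -/
lemma face_eq (f : Opens (ProjectiveSpectrum.top (𝒜 r R))) (j : Fin (r + 1))
    (h : ∀ x : ProjectiveSpectrum.top (𝒜 r R), x ∈ f ↔ ∀ i, i ≠ j → x ∈ V r R i) :
    f = ProjectiveSpectrum.basicOpen (𝒜 r R) (gOmit r R j) := by
  refine SetLike.ext (fun x => ?_)
  refine (h x).trans (Iff.trans ?_ (mem_bo r R _ x).symm)
  unfold gOmit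
  have hp : (x.asHomogeneousIdeal.toIdeal).IsPrime := x.isPrime
  constructor
  · intro h hmem
    obtain ⟨i, hi, hj⟩ := (Ideal.IsPrime.prod_mem_iff (hp := hp)).1 hmem
    exact (mem_V r R i x).1 (h i (Finset.ne_of_mem_erase hi)) hj
  · intro h i hi
    exact (mem_V r R i x).2 (fun hj => h ((Ideal.IsPrime.prod_mem_iff (hp := hp)).2
      ⟨i, Finset.mem_erase.2 ⟨hi, Finset.mem_univ i⟩, hj⟩))

lemma isAffineOpen_V (j : Fin (r + 1)) : IsAffineOpen (X := Proj (𝒜 r R)) (V r R j) :=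
  Proj.isAffineOpen_basicOpen (𝒜 r R) _ (X_mem r R j) Nat.one_pos

end Groth.Agent.Helper1.ProjTop
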