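import Groth.Agent.Helper1.ProjTop1
import Groth.Agent.Helper1.GrT8

/-!
# The principal part of a section of `O(d)` over the total intersection of the standard opens
-/

set_option autoImplicit false

namespace Groth.Agent.Helper1.ProjTop

open CategoryTheory AlgebraicGeometry TopologicalSpace Opposite MvPolynomial
open Groth.Agent.Helper1.GrT Groth.Agent.Helper1.MVTop Groth.Agent.Helper1.PolyTop
open Groth.Agent.Helper1.KoszulPoly

universe u
variable (r : ℕ) (R : Type u) [CommRing R]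

/-- the localisation of the polynomial ring at the product of the variables -/
abbrev Lg : Type u :=
  LocalizedModule (Submonoid.powers (gAll (Fin (r + 1)) R)) (MvPolynomial (Fin (r + 1)) R)

/-- the localisation map -/
noncomputable abbrev τg : MvPolynomial (Fin (r + 1)) R →ₗ[MvPolynomial (Fin (r + 1)) R] Lg r R :=
  LocalizedModule.mkLinearMap (Submonoid.powers (gAll (Fin (r + 1)) R))
    (MvPolynomial (Fin (r + 1)) R)

/-- the localisation of the polynomial ring at the product of all variables but one -/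
abbrev Lj (j : Fin (r + 1)) : Type u :=
  LocalizedModule (Submonoid.powers (gOmit r R j)) (MvPolynomial (Fin (r + 1)) R)

noncomputable abbrev τj (j : Fin (r + 1)) :
    MvPolynomial (Fin (r + 1)) R →ₗ[MvPolynomial (Fin (r + 1)) R] Lj r R j :=
  LocalizedModule.mkLinearMap (Submonoid.powers (gOmit r R j)) (MvPolynomial (Fin (r + 1)) R)

lemma isUnit_gOmit (j : Fin (r + 1)) (x : Submonoid.powers (gOmit r R j)) :
    IsUnit (algebraMap (MvPolynomial (Fin (r + 1)) R)
      (Module.End (MvPolynomial (Fin (r + 1)) R) (Lg r R)) x) := by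
  obtain ⟨_, k, rfl⟩ := x
  rw [map_pow]
  apply IsUnit.pow
  have h1 := IsLocalizedModule.map_units (τg r R)
    (⟨gAll (Fin (r + 1)) R, Submonoid.mem_powers _⟩ : Submonoid.powers (gAll (Fin (r + 1)) R))
  have h2 : IsUnit (algebraMap (MvPolynomial (Fin (r + 1)) R)
      (Module.End (MvPolynomial (Fin (r + 1)) R) (Lg r R)) (X j * gOmit r R j)) :=
    (congrArg (fun a => IsUnit (algebraMap (MvPolynomial (Fin (r + 1)) R)
      (Module.End (MvPolynomial (Fin (r + 1)) R) (Lg r R)) a)) (X_mul_gOmit r R j)).mp h1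
  rw [map_mul] at h2
  exact ((Commute.isUnit_mul_iff (Algebra.commutes _ _)).1 h2).2

/-- the map `S_{g_j} → S_g` -/
noncomputable def ρj (j : Fin (r + 1)) : Lj r R j →ₗ[MvPolynomial (Fin (r + 1)) R] Lg r R :=
  IsLocalizedModule.lift (Submonoid.powers (gOmit r R j)) (τj r R j) (τg r R) (isUnit_gOmit r R j)

lemma ρj_τj (j : Fin (r + 1)) (m : MvPolynomial (Fin (r + 1)) R) :
    ρj r R j (τj r R j m) = τg r R m :=
  IsLocalizedModule.lift_apply _ _ _ _ _

variable (d : ℤ)

/-- sections over the total intersection as elements of the localisation -/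
noncomputable def θI : GrTilde.sect (𝒜 r R) (𝒜 r R) d (op (Itot r R)) →+ Lg r R :=
  θ (𝒜 r R) (𝒜 r R) (gAll (Fin (r + 1)) R) (τg r R) (Nat.succ_pos r) (gAll_mem r R) d
    (Itot r R) (Itot_eq r R)

/-- the principal part of a section over the total intersection -/
noncomputable def PsiI : GrTilde.sect (𝒜 r R) (𝒜 r R) d (op (Itot r R)) →+
    MvPolynomial (Fin (r + 1)) R :=
  (ΨHom (τg r R)).comp (θI r R d)

lemma PsiI_apply (s : GrTilde.sect (𝒜 r R) (𝒜 r R) d (op (Itot r R))) :
    PsiI r R d s = Ψ (τg r R) (θI r R d s) := rfl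

/-- sections coming from a face have no principal part -/
theorem PsiI_face (hr : 0 < r) (j : Fin (r + 1)) (f : Opens (ProjectiveSpectrum.top (𝒜 r R)))
    (hf : f = ProjectiveSpectrum.basicOpen (𝒜 r R) (gOmit r R j)) (hle : Itot r R ≤ f)
    (t : GrTilde.sect (𝒜 r R) (𝒜 r R) d (op f)) :
    PsiI r R d (GrTilde.res (𝒜 r R) (𝒜 r R) d (homOfLE hle).op t) = 0 := by
  rw [PsiI_apply]
  have h1 := θ_res (𝒜 r R) (𝒜 r R) (gOmit r R j) (gAll (Fin (r + 1)) R) (X j)
    (X_mul_gOmit r R j) (τj r R j) (τg r R) (ρj r R j) (ρj_τj r R j) hr (Nat.succ_pos r)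
    (gOmit_mem r R j) (gAll_mem r R) (X_mem r R j) (Nat.add_comm r 1) d f (Itot r R) hf
    (Itot_eq r R) hle t
  have h2 : θI r R d (GrTilde.res (𝒜 r R) (𝒜 r R) d (homOfLE hle).op t) = _ := h1
  rw [h2]
  obtain ⟨k, i, m, hm, hi, hv⟩ := θ_mem (𝒜 r R) (𝒜 r R) (gOmit r R j) (τj r R j) hr
    (gOmit_mem r R j) d f hf t
  have h3 : gAll (Fin (r + 1)) R ^ k •
      ρj r R j (θ (𝒜 r R) (𝒜 r R) (gOmit r R j) (τj r R j) hr (gOmit_mem r R j) d f hf t) =
      τg r R (X j ^ k * m) := by
    refine (congrArg (fun a => a ^ k • ρj r R j (θ (𝒜 r R) (𝒜 r R) (gOmit r R j) (τj r R j) hr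
      (gOmit_mem r R j) d f hf t)) (X_mul_gOmit r R j)).trans ?_
    simp only []
    rw [mul_pow, mul_smul, ← map_smul (ρj r R j), hv, ρj_τj, ← smul_eq_mul, map_smul]
  rw [Ψ_eq (τg r R) _ _ _ h3]
  exact Φ_X_pow_mul k j m

end Groth.Agent.Helper1.ProjTop
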