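import Groth.Agent.Helper1.ProjTop2
import Groth.Agent.Helper1.TwistEpi

/-!
# Sections of `O(d)` over the total intersection without principal part come from the faces
-/

set_option autoImplicit false

namespace Groth.Agent.Helper1.ProjTop

open CategoryTheory AlgebraicGeometry TopologicalSpace Opposite MvPolynomial
open Groth.Agent.Helper1.GrT Groth.Agent.Helper1.MVTop Groth.Agent.Helper1.PolyTop
open Groth.Agent.Helper1.KoszulPoly

universe u
variable (r : ℕ) (R : Type u) [CommRing R] (d : ℤ)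

/-- the faces `D₊(g_j)` -/
noncomputable def bOmit (j : Fin (r + 1)) : Opens (ProjectiveSpectrum.top (𝒜 r R)) :=
  ProjectiveSpectrum.basicOpen (𝒜 r R) (gOmit r R j)

lemma Itot_le_bOmit (j : Fin (r + 1)) : Itot r R ≤ bOmit r R j := by
  intro x hx
  rw [Itot_eq] at hx
  have h1 : gAll (Fin (r + 1)) R ∉ x.asHomogeneousIdeal := (mem_bo r R _ x).1 hx
  refine (mem_bo r R _ x).2 (fun h => h1 ?_)
  have := X_mul_gOmit r R j
  have h2 : X j * gOmit r R j ∈ x.asHomogeneousIdeal.toIdeal := Ideal.mul_mem_left _ _ h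
  exact this ▸ h2

lemma eq_zero_of_Φ_eq_zero_of_lt {k i : ℕ} (m : MvPolynomial (Fin (r + 1)) R)
    (hm : m.IsHomogeneous i) (hik : i < k) (h0 : Φ k m = 0) : m = 0 := by
  rw [Φ_eq_zero_iff] at h0
  ext β
  rw [coeff_zero]
  by_contra hne
  have hdeg := (isHomogeneous_iff_degree m i).1 hm β hne
  apply hne
  apply h0
  rw [mem_box]
  intro j
  have : β j ≤ Finsupp.degree β := Finsupp.le_degree j β
  omega

/-- the presheaf of sections of `O(d)` -/
noncomputable abbrev Fd : (Opens (ProjectiveSpectrum.top (𝒜 r R)))ᵒᵖ ⥤ AddCommGrpCat.{u} :=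
  (Coh.toAb (GrTilde.tilde (𝒜 r R) (𝒜 r R) d)).obj

lemma Fd_map {U W : Opens (ProjectiveSpectrum.top (𝒜 r R))} (h : W ≤ U)
    (t : GrTilde.sect (𝒜 r R) (𝒜 r R) d (op U)) :
    (Fd r R d).map (homOfLE h).op t = GrTilde.res (𝒜 r R) (𝒜 r R) d (homOfLE h).op t := rfl

/-- a section without principal part is a sum of sections coming from the faces -/
theorem exists_decomp (s : GrTilde.sect (𝒜 r R) (𝒜 r R) d (op (Itot r R)))
    (h0 : PsiI r R d s = 0) :
    ∃ t : ∀ j : Fin (r + 1), GrTilde.sect (𝒜 r R) (𝒜 r R) d (op (bOmit r R j)),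
      s = ∑ j, GrTilde.res (𝒜 r R) (𝒜 r R) d (homOfLE (Itot_le_bOmit r R j)).op (t j) := by
  obtain ⟨k, i, m, hm, hi, hv⟩ := θ_mem (𝒜 r R) (𝒜 r R) (gAll (Fin (r + 1)) R) (τg r R)
    (Nat.succ_pos r) (gAll_mem r R) d (Itot r R) (Itot_eq r R) s
  have hv' : gAll (Fin (r + 1)) R ^ k • θI r R d s = τg r R m := hv
  rw [PsiI_apply, Ψ_eq (τg r R) _ _ _ hv'] at h0
  have hmh : m.IsHomogeneous i := (mem_homogeneousSubmodule _ _).1 hm
  by_cases hik : i < k
  · -- then `s = 0`
    have hm0 := eq_zero_of_Φ_eq_zero_of_lt r R m hmh hik h0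
    rw [hm0, map_zero] at hv'
    have hθ : θI r R d s = 0 := by
      apply smul_pow_injective (gAll (Fin (r + 1)) R) (τg r R) k
      show gAll (Fin (r + 1)) R ^ k • θI r R d s = gAll (Fin (r + 1)) R ^ k • 0
      rw [hv', smul_zero]
    have hs : s = 0 := by
      apply θ_injective (𝒜 r R) (𝒜 r R) (gAll (Fin (r + 1)) R) (τg r R)
        (Nat.succ_pos r) (gAll_mem r R) d (Itot r R) (Itot_eq r R)
      rw [map_zero]
      exact hθ
    refine ⟨fun _ => 0, ?_⟩
    rw [hs]
    symm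
    apply Finset.sum_eq_zero
    intro j _
    apply sect_ext
    intro y hy
    rfl
  · push Not at hik
    obtain ⟨c, hc, hmc⟩ := exists_homogeneous_decomp k m (E := i - k) hmh (by omega) h0
    have hgk : ∀ j, gOmit r R j ^ k ∈ 𝒜 r R (k * r) := fun j => by
      have := SetLike.pow_mem_graded k (gOmit_mem r R j)
      simpa [smul_eq_mul] using this
    have hij : ((i - k : ℕ) : ℤ) = ((k * r : ℕ) : ℤ) + d := by
      push_cast [Nat.cast_sub hik]
      rw [hi]
      push_cast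
      ring
    have hU : ∀ (j : Fin (r + 1)) (y : ProjectiveSpectrum.top (𝒜 r R)), y ∈ bOmit r R j →
        gOmit r R j ^ k ∉ y.asHomogeneousIdeal := fun j y hy h =>
      (mem_bo r R _ y).1 hy (y.isPrime.mem_of_pow_mem k h)
    refine ⟨fun j => fracSect (𝒜 r R) (𝒜 r R) d (c j)
      ((mem_homogeneousSubmodule _ _).2 (hc j)) (gOmit r R j ^ k) (hgk j) hij (bOmit r R j)
      (hU j), ?_⟩
    apply sect_ext
    intro y hy
    have hyg : gAll (Fin (r + 1)) R ∉ y.asHomogeneousIdeal := by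
      have := hy
      rw [Itot_eq] at this
      exact (mem_bo r R _ y).1 this
    have hygk : gAll (Fin (r + 1)) R ^ k ∉ y.asHomogeneousIdeal :=
      fun h => hyg (y.isPrime.mem_of_pow_mem k h)
    apply GrT.smul_injective y hygk
    show gAll (Fin (r + 1)) R ^ k • val s y hy = gAll (Fin (r + 1)) R ^ k • val _ y hy
    have e1 : gAll (Fin (r + 1)) R ^ k • val s y hy = ι₁ y m := by
      rw [← ev_θ (𝒜 r R) (𝒜 r R) (gAll (Fin (r + 1)) R) (τg r R) (Nat.succ_pos r) (gAll_mem r R)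
        d (Itot r R) (Itot_eq r R) s y hy hyg]
      exact ev_of_smul (gAll (Fin (r + 1)) R) (τg r R) y hyg _ k m hv
    rw [e1]
    have e2 := Groth.Agent.Helper1.TwistEpi.val_sum' (𝒜 r R) (𝒜 r R) Finset.univ d (Itot r R)
      (fun j => GrTilde.res (𝒜 r R) (𝒜 r R) d (homOfLE (Itot_le_bOmit r R j)).op
        (fracSect (𝒜 r R) (𝒜 r R) d (c j) ((mem_homogeneousSubmodule _ _).2 (hc j))
          (gOmit r R j ^ k) (hgk j) hij (bOmit r R j) (hU j))) y hy
    refine Eq.trans ?_ (congrArg (fun z => gAll (Fin (r + 1)) R ^ k • z) e2.symm)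
    show _ = gAll (Fin (r + 1)) R ^ k • ∑ j, _
    rw [Finset.smul_sum, hmc, ι₁_sum]
    apply Finset.sum_congr rfl
    intro j _
    have e3 := val_fracSect (𝒜 r R) (𝒜 r R) d (c j) ((mem_homogeneousSubmodule _ _).2 (hc j))
      (gOmit r R j ^ k) (hgk j) hij (bOmit r R j) (hU j) y (Itot_le_bOmit r R j hy)
    have key : gAll (Fin (r + 1)) R ^ k • val (fracSect (𝒜 r R) (𝒜 r R) d (c j)
        ((mem_homogeneousSubmodule _ _).2 (hc j)) (gOmit r R j ^ k) (hgk j) hij (bOmit r R j)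
        (hU j)) y (Itot_le_bOmit r R j hy) = ι₁ y (c j * X j ^ k) := by
      refine (congrArg (fun a => a ^ k • val (fracSect (𝒜 r R) (𝒜 r R) d (c j)
        ((mem_homogeneousSubmodule _ _).2 (hc j)) (gOmit r R j ^ k) (hgk j) hij (bOmit r R j)
        (hU j)) y (Itot_le_bOmit r R j hy)) (X_mul_gOmit r R j)).trans ?_
      show (X j * gOmit r R j) ^ k • _ = _
      rw [mul_pow, mul_smul, e3, ← ι₁_smul, smul_eq_mul, mul_comm]
    exact key.symm

end Groth.Agent.Helper1.ProjTop
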