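import Groth.Agent.Helper1.ProjTop3

/-!
# The principal part map: homogeneity, surjectivity and linearity
-/

set_option autoImplicit false

namespace Groth.Agent.Helper1.ProjTop

open CategoryTheory AlgebraicGeometry TopologicalSpace Opposite MvPolynomial
open Groth.Agent.Helper1.GrT Groth.Agent.Helper1.MVTop Groth.Agent.Helper1.PolyTop
open Groth.Agent.Helper1.KoszulPoly

universe u
variable (r : ℕ) (R : Type u) [CommRing R] (d : ℤ)

/-- the principal part of a section of `O(-(r+1+kk))` is homogeneous of degree `kk` -/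
theorem PsiI_mem (kk : ℕ) (hd : d = -((r : ℤ) + 1 + kk))
    (s : GrTilde.sect (𝒜 r R) (𝒜 r R) d (op (Itot r R))) : PsiI r R d s ∈ 𝒜 r R kk := by
  obtain ⟨k, i, m, hm, hi, hv⟩ := θ_mem (𝒜 r R) (𝒜 r R) (gAll (Fin (r + 1)) R) (τg r R)
    (Nat.succ_pos r) (gAll_mem r R) d (Itot r R) (Itot_eq r R) s
  have hv' : gAll (Fin (r + 1)) R ^ k • θI r R d s = τg r R m := hv
  rw [PsiI_apply, Ψ_eq (τg r R) _ _ _ hv']
  refine (mem_homogeneousSubmodule _ _).2 (isHomogeneous_Φ k m ((mem_homogeneousSubmodule _ _).1 hm)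
    ?_)
  rw [Fintype.card_fin]
  have h1 : (i : ℤ) + kk = (k : ℤ) * (r + 1) - (r + 1) := by
    rw [hi, hd]; push_cast; ring
  have hk : 1 ≤ k := by
    by_contra hk
    have : k = 0 := by omega
    subst this
    have h2 : (0 : ℤ) ≤ (i : ℤ) + kk := by positivity
    rw [h1] at h2
    have : (0 : ℤ) ≤ (r : ℤ) := by positivity
    omega
  have h3 : ((i + kk : ℕ) : ℤ) = (((k - 1) * (r + 1) : ℕ) : ℤ) := by
    push_cast [Nat.cast_sub hk]
    rw [h1]; ring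
  exact_mod_cast h3

/-- sections of `O(d)` with `d > -(r+1)` have no principal part -/
theorem PsiI_eq_zero_of_lt (hd : -((r : ℤ) + 1) < d)
    (s : GrTilde.sect (𝒜 r R) (𝒜 r R) d (op (Itot r R))) : PsiI r R d s = 0 := by
  obtain ⟨k, i, m, hm, hi, hv⟩ := θ_mem (𝒜 r R) (𝒜 r R) (gAll (Fin (r + 1)) R) (τg r R)
    (Nat.succ_pos r) (gAll_mem r R) d (Itot r R) (Itot_eq r R) s
  have hv' : gAll (Fin (r + 1)) R ^ k • θI r R d s = τg r R m := hv
  rw [PsiI_apply, Ψ_eq (τg r R) _ _ _ hv']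
  rcases Nat.eq_zero_or_pos k with rfl | hk
  · rw [Φ_eq_zero_iff]
    intro β hβ
    rw [mem_box] at hβ
    exact absurd (hβ 0) (Nat.not_lt_zero _)
  apply Φ_eq_zero_of_large k m ((mem_homogeneousSubmodule _ _).1 hm)
  rw [Fintype.card_fin]
  have h1 : (((k - 1) * (r + 1) : ℕ) : ℤ) < (i : ℤ) := by
    rw [hi]
    push_cast [Nat.cast_sub hk]
    nlinarith
  exact_mod_cast h1

/-- every homogeneous polynomial of degree `kk` is a principal part -/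
theorem PsiI_surjective (kk : ℕ) (hd : d = -((r : ℤ) + 1 + kk))
    (q : MvPolynomial (Fin (r + 1)) R) (hq : q ∈ 𝒜 r R kk) :
    ∃ s : GrTilde.sect (𝒜 r R) (𝒜 r R) d (op (Itot r R)), PsiI r R d s = q := by
  obtain ⟨n₀, hn₀⟩ := exists_Φ_eq q ((mem_homogeneousSubmodule _ _).1 hq)
  obtain ⟨m, D, hD, hm, hΦ⟩ := hn₀ (n₀ + 1) (Nat.le_succ _)
  rw [Fintype.card_fin, Nat.add_sub_cancel] at hD
  obtain ⟨v, hv⟩ := exists_eq_of_τ (gAll (Fin (r + 1)) R) (τg r R) (n₀ + 1) m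
  have hvD : v ∈ Deg (𝒜 r R) (𝒜 r R) (gAll (Fin (r + 1)) R) (τg r R) (Nat.succ_pos r)
      (gAll_mem r R) d := by
    refine ⟨n₀ + 1, D, m, (mem_homogeneousSubmodule _ _).2 hm, ?_, hv⟩
    have : ((D + kk : ℕ) : ℤ) = ((n₀ * (r + 1) : ℕ) : ℤ) := by exact_mod_cast hD
    push_cast at this ⊢
    rw [hd]
    linarith
  refine ⟨toSectW (𝒜 r R) (𝒜 r R) (gAll (Fin (r + 1)) R) (τg r R) (Nat.succ_pos r)
    (gAll_mem r R) d (Itot r R) (Itot_eq r R) ⟨v, hvD⟩, ?_⟩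
  rw [PsiI_apply]
  have h1 : θI r R d (toSectW (𝒜 r R) (𝒜 r R) (gAll (Fin (r + 1)) R) (τg r R) (Nat.succ_pos r)
      (gAll_mem r R) d (Itot r R) (Itot_eq r R) ⟨v, hvD⟩) = v :=
    θ_eq (𝒜 r R) (𝒜 r R) (gAll (Fin (r + 1)) R) (τg r R) (Nat.succ_pos r)
      (gAll_mem r R) d (Itot r R) (Itot_eq r R) _ v hvD rfl
  rw [h1, Ψ_eq (τg r R) _ _ _ hv, hΦ]

end Groth.Agent.Helper1.ProjTop
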