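import Groth.Agent.Helper1.ProjTop4
import Groth.Agent.Helper1.ProjSpR

/-!
# Linearity of the principal part over the base ring
-/

set_option autoImplicit false

namespace Groth.Agent.Helper1.ProjTop

open CategoryTheory AlgebraicGeometry TopologicalSpace Opposite MvPolynomial
open Groth.Agent.Helper1.GrT Groth.Agent.Helper1.MVTop Groth.Agent.Helper1.PolyTop
open Groth.Agent.Helper1.KoszulPoly Groth.Agent.Helper1.ProjSpR

universe u

section general

variable {R A : Type u} [CommRing R] [CommRing A] [Algebra R A] (𝒜 : ℕ → Submodule R A)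
  [GradedAlgebra 𝒜]
variable {M : Type u} [AddCommGroup M] [Module R M] [Module A M] [IsScalarTower R A M]
  (ℳ : ℕ → Submodule R M) [DirectSum.Decomposition ℳ] [SetLike.GradedSMul 𝒜 ℳ]
variable (g : A) {L : Type u} [AddCommGroup L] [Module A L] (τ : M →ₗ[A] L)
  [IsLocalizedModule (Submonoid.powers g) τ] {e : ℕ} (he : 0 < e) (hg : g ∈ 𝒜 e) (n : ℤ)
  (W : Opens (ProjectiveSpectrum.top 𝒜)) (hW : W = ProjectiveSpectrum.basicOpen 𝒜 g)

set_option synthInstance.maxHeartbeats 400000 in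
/-- `θ` is linear over the base ring -/
theorem θ_smulAb (ρ : R) (s : GrTilde.sect 𝒜 ℳ n (op W)) :
    θ 𝒜 ℳ g τ he hg n W hW
      ((Coh.smulAb (GrTilde.tilde 𝒜 ℳ n) (Coh.toGlobal (toSpecR 𝒜) ρ)).hom.app (op W) s) =
      algebraMap R A ρ • θ 𝒜 ℳ g τ he hg n W hW s := by
  have hv : algebraMap R A ρ • θ 𝒜 ℳ g τ he hg n W hW s ∈ Deg 𝒜 ℳ g τ he hg n := by
    obtain ⟨k, i, m, hm, hi, h⟩ := θ_mem 𝒜 ℳ g τ he hg n W hW s
    refine ⟨k, i, ρ • m, Submodule.smul_mem _ _ hm, hi, ?_⟩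
    rw [smul_comm, h, ← map_smul, algebraMap_smul]
  refine θ_eq 𝒜 ℳ g τ he hg n W hW _ _ hv ?_
  apply sect_ext
  intro y hy
  have hyg : g ∉ y.asHomogeneousIdeal := (ProjectiveSpectrum.mem_basicOpen 𝒜 g y).1 (hW ▸ hy)
  refine Eq.trans ?_ (val_smulAb 𝒜 ℳ n W ρ s y hy).symm
  change ev g τ y hyg (algebraMap R A ρ • θ 𝒜 ℳ g τ he hg n W hW s) = _
  rw [map_smul, ev_θ 𝒜 ℳ g τ he hg n W hW s y hy hyg]

end general

variable (r : ℕ) (R : Type u) [CommRing R] (d : ℤ)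

set_option synthInstance.maxHeartbeats 400000 in
/-- the principal part is linear over the base ring -/
theorem PsiI_smulAb (ρ : R) (s : GrTilde.sect (𝒜 r R) (𝒜 r R) d (op (Itot r R))) :
    PsiI r R d ((Coh.smulAb (GrTilde.tilde (𝒜 r R) (𝒜 r R) d)
      (Coh.toGlobal (toSpecR (𝒜 r R)) ρ)).hom.app (op (Itot r R)) s) = ρ • PsiI r R d s := by
  rw [PsiI_apply, PsiI_apply]
  have h1 : θI r R d ((Coh.smulAb (GrTilde.tilde (𝒜 r R) (𝒜 r R) d)
      (Coh.toGlobal (toSpecR (𝒜 r R)) ρ)).hom.app (op (Itot r R)) s) =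
      (C ρ : MvPolynomial (Fin (r + 1)) R) • θI r R d s :=
    θ_smulAb (𝒜 r R) (𝒜 r R) (gAll (Fin (r + 1)) R) (τg r R) (Nat.succ_pos r) (gAll_mem r R) d
      (Itot r R) (Itot_eq r R) ρ s
  rw [h1, Ψ_C_smul]

end Groth.Agent.Helper1.ProjTop
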