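import Groth.Agent.Helper1.ProjTop5
import Groth.Agent.Helper1.MVTop8

/-!
# The top cohomology of `O(d)` on projective space
-/

set_option autoImplicit false
set_option linter.style.haveILetI false

namespace Groth.Agent.Helper1.ProjTop

open CategoryTheory AlgebraicGeometry TopologicalSpace Opposite MvPolynomial
open Groth.Agent.Helper1.GrT Groth.Agent.Helper1.MVTop Groth.Agent.Helper1.PolyTop
open Groth.Agent.Helper1.KoszulPoly Groth.Agent.Helper1.ProjSpR

universe u

section algebra

/-- two surjections with the same kernel, compatible with scalars, have isomorphic targets -/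
theorem nonempty_linearEquiv_of_ker_eq {R S H P : Type*} [Semiring R] [AddCommGroup S]
    [AddCommGroup H] [Module R H] [AddCommGroup P] [Module R P]
    (T : S →+ H) (Ψ : S →+ P) (hT : Function.Surjective T) (hΨ : Function.Surjective Ψ)
    (hker : ∀ s, T s = 0 ↔ Ψ s = 0) (σ : R → S → S) (hσT : ∀ ρ s, T (σ ρ s) = ρ • T s)
    (hσΨ : ∀ ρ s, Ψ (σ ρ s) = ρ • Ψ s) : Nonempty (H ≃ₗ[R] P) := by
  have key : ∀ s s', T s = T s' → Ψ s = Ψ s' := by
    intro s s' h
    have h1 : T (s - s') = 0 := by rw [map_sub, h, sub_self]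
    have h2 := (hker _).1 h1
    rw [map_sub, sub_eq_zero] at h2
    exact h2
  have he : ∀ s, Ψ (Function.surjInv hT (T s)) = Ψ s := fun s =>
    key _ _ (Function.surjInv_eq hT (T s))
  let e : H →ₗ[R] P :=
    { toFun := fun h => Ψ (Function.surjInv hT h)
      map_add' := by
        intro h h'
        obtain ⟨s, rfl⟩ := hT h
        obtain ⟨s', rfl⟩ := hT h'
        rw [← map_add, he, he, he, map_add]
      map_smul' := by
        intro ρ h
        obtain ⟨s, rfl⟩ := hT h
        rw [← hσT, he, he, hσΨ]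
        rfl }
  have heT : ∀ s, e (T s) = Ψ s := he
  refine ⟨LinearEquiv.ofBijective e ⟨?_, ?_⟩⟩
  · refine (injective_iff_map_eq_zero e).2 ?_
    intro h hh
    obtain ⟨s, rfl⟩ := hT h
    rw [heT] at hh
    exact (hker s).2 hh
  · intro p
    obtain ⟨s, rfl⟩ := hΨ p
    exact ⟨T s, heT s⟩

end algebra

variable (r : ℕ) (R : Type u) [CommRing R] (d : ℤ)

/-- the abelian sheaf underlying `O(d)` -/
noncomputable abbrev FF : CohTop.Ab (Proj (𝒜 r R)).carrier :=
  Coh.toAb (GrTilde.tilde (𝒜 r R) (𝒜 r R) d)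

lemma acycFF : Acyc (X := (Proj (𝒜 r R)).carrier) (FF r R d)
    (fun U => IsAffineOpen (X := Proj (𝒜 r R)) U) := by
  haveI := isQuasicoherent_tilde (𝒜 r R) (𝒜 r R) d
  exact acyc_isAffineOpen (Proj (𝒜 r R)) (GrTilde.tilde (𝒜 r R) (𝒜 r R) d)

lemma isAffineOpen_of_mem_initList (U : Opens (ProjectiveSpectrum.top (𝒜 r R)))
    (hU : U ∈ initList (V r R)) : IsAffineOpen (X := Proj (𝒜 r R)) U := by
  unfold initList at hU
  obtain ⟨i, rfl⟩ := (List.mem_ofFn' _ U).1 hU
  exact isAffineOpen_V r R _

/-- the map from the sections over the total intersection to the top cohomology -/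
noncomputable def topM : GrTilde.sect (𝒜 r R) (𝒜 r R) d (op (Itot r R)) →+
    Sheaf.H (FF r R d) (initList (V r R)).length :=
  topMap (FF r R d) (V r R (Fin.last r)) (initList (V r R)) (Scup_eq_top r R)

lemma topM_surjective : Function.Surjective (topM r R d) :=
  topMap_surjective (V r R (Fin.last r)) (initList (V r R)) (Scup_eq_top r R) (acycFF r R d)
    (isAffineOpen_V r R _) (isAffineOpen_of_mem_initList r R)

lemma initList_ne_nil (hr : 0 < r) : initList (V r R) ≠ [] := by
  intro h
  have h1 := length_initList (V r R)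
  rw [h] at h1
  simp at h1
  omega

theorem PsiI_eq_zero_of_topM_eq_zero (hr : 0 < r)
    (s : GrTilde.sect (𝒜 r R) (𝒜 r R) d (op (Itot r R))) (hs : topM r R d s = 0) :
    PsiI r R d s = 0 := by
  have h := mem_of_topMap_eq_zero (F := FF r R d) (V r R (Fin.last r)) (initList (V r R))
    (Scup_eq_top r R) (acycFF r R d) (isAffineOpen_V r R _) (isAffineOpen_of_mem_initList r R)
    (initList_ne_nil r R hr) (PsiI r R d).ker ?_ s hs
  · exact h
  · intro f hf hle t
    obtain ⟨j, hj⟩ := exists_of_mem_faces_family (V r R) f hf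
    have hfeq := face_eq r R f j hj
    exact PsiI_face r R d hr j f hfeq hle t

theorem topM_eq_zero_of_PsiI_eq_zero (hr : 0 < r)
    (s : GrTilde.sect (𝒜 r R) (𝒜 r R) d (op (Itot r R))) (hs : PsiI r R d s = 0) :
    topM r R d s = 0 := by
  obtain ⟨t, ht⟩ := exists_decomp r R d s hs
  rw [ht, map_sum]
  refine Finset.sum_eq_zero (fun j _ => ?_)
  obtain ⟨f, hf, hfj⟩ := exists_mem_faces_family (V r R) j
  have hfeq : f = bOmit r R j := face_eq r R f j hfj
  subst hfeq
  exact topMap_face (F := FF r R d) (V r R (Fin.last r)) (initList (V r R))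
    (Scup_eq_top r R) (acycFF r R d) (isAffineOpen_V r R _) (isAffineOpen_of_mem_initList r R)
    (initList_ne_nil r R hr) (bOmit r R j) hf (Itot_le_bOmit r R j) (t j)

end Groth.Agent.Helper1.ProjTop
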