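import Groth.Agent.Helper1.ProjTop6
import Groth.Agent.Helper1.MVTop9
import Groth.Agent.Helper1.TwistIso

/-!
# The top cohomology of `O(d)` on projective space: the final statements
-/

set_option autoImplicit false
set_option linter.style.haveILetI false

namespace Groth.Agent.Helper1.ProjTop

open CategoryTheory AlgebraicGeometry TopologicalSpace Opposite MvPolynomial
open Groth.Agent.Helper1.GrT Groth.Agent.Helper1.MVTop Groth.Agent.Helper1.PolyTop
open Groth.Agent.Helper1.KoszulPoly Groth.Agent.Helper1.ProjSpR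

universe u

variable (r : ℕ) (R : Type u) [CommRing R] (d : ℤ)

/-- on `P^0`, a section of a negative twist without principal part vanishes -/
theorem eq_zero_of_PsiI_eq_zero (hr : r = 0) (hd : d < 0)
    (s : GrTilde.sect (𝒜 r R) (𝒜 r R) d (op (Itot r R))) (hs : PsiI r R d s = 0) : s = 0 := by
  obtain ⟨k, i, m, hm, hi, hv⟩ := θ_mem (𝒜 r R) (𝒜 r R) (gAll (Fin (r + 1)) R) (τg r R)
    (Nat.succ_pos r) (gAll_mem r R) d (Itot r R) (Itot_eq r R) s
  have hv' : gAll (Fin (r + 1)) R ^ k • θI r R d s = τg r R m := hv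
  rw [PsiI_apply, Ψ_eq (τg r R) _ _ _ hv'] at hs
  have hik : i < k := by
    subst hr
    have : (i : ℤ) < k := by rw [hi]; push_cast; linarith
    exact_mod_cast this
  have hm0 : m = 0 := eq_zero_of_Φ_eq_zero_of_lt r R m ((mem_homogeneousSubmodule _ _).1 hm) hik hs
  rw [hm0, map_zero] at hv'
  have h1 : θI r R d s = 0 := by
    apply smul_pow_injective (gAll (Fin (r + 1)) R) (τg r R) k
    show gAll (Fin (r + 1)) R ^ k • θI r R d s = gAll (Fin (r + 1)) R ^ k • 0
    rw [hv', smul_zero]
  apply θ_injective (𝒜 r R) (𝒜 r R) (gAll (Fin (r + 1)) R) (τg r R)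
    (Nat.succ_pos r) (gAll_mem r R) d (Itot r R) (Itot_eq r R)
  rw [map_zero]
  exact h1

lemma initList_eq_nil (hr : r = 0) : initList (V r R) = [] := by
  subst hr
  rfl

theorem topM_eq_zero_iff (h : 0 < r ∨ d < 0)
    (s : GrTilde.sect (𝒜 r R) (𝒜 r R) d (op (Itot r R))) :
    topM r R d s = 0 ↔ PsiI r R d s = 0 := by
  rcases Nat.eq_zero_or_pos r with hr | hr
  · have hd : d < 0 := by
      rcases h with h | h
      · omega
      · exact h
    constructor
    · intro hs
      have h1 : topM r R d s = topM r R d 0 := by rw [hs, map_zero]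
      have h2 := topMap_injective_of_nil (FF r R d) (V r R (Fin.last r)) (initList (V r R))
        (Scup_eq_top r R) (initList_eq_nil r R hr) h1
      rw [h2, map_zero]
    · intro hs
      rw [eq_zero_of_PsiI_eq_zero r R d hr hd s hs, map_zero]
  · exact ⟨PsiI_eq_zero_of_topM_eq_zero r R d hr s, topM_eq_zero_of_PsiI_eq_zero r R d hr s⟩

/-- the principal part with values in the homogeneous polynomials -/
noncomputable def PsiK (kk : ℕ) (hd : d = -((r : ℤ) + 1 + kk)) :
    GrTilde.sect (𝒜 r R) (𝒜 r R) d (op (Itot r R)) →+ ↥(𝒜 r R kk) where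
  toFun s := ⟨PsiI r R d s, PsiI_mem r R d kk hd s⟩
  map_zero' := Subtype.ext (map_zero _)
  map_add' s t := Subtype.ext (map_add _ _ _)

/-- the structure of scheme over `Spec R` -/
noncomputable abbrev overR : (Proj (𝒜 r R)).Over (Spec (CommRingCat.of R)) := ⟨toSpecR (𝒜 r R)⟩

attribute [local instance] overR

set_option synthInstance.maxHeartbeats 400000 in
set_option maxHeartbeats 1000000 in
theorem nonempty_top_tilde_aux (kk : ℕ) (hd : d = -((r : ℤ) + 1 + kk)) :
    Nonempty (Coh.HH (Proj (𝒜 r R)) (GrTilde.tilde (𝒜 r R) (𝒜 r R) d) (initList (V r R)).length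
      ≃ₗ[R] ↥(𝒜 r R kk)) := by
  refine nonempty_linearEquiv_of_ker_eq (R := R) (topM r R d) (PsiK r R d kk hd)
    (topM_surjective r R d) ?_ ?_
    (fun ρ s => (Coh.smulAb (GrTilde.tilde (𝒜 r R) (𝒜 r R) d)
      (Coh.toGlobal (toSpecR (𝒜 r R)) ρ)).hom.app (op (Itot r R)) s) ?_ ?_
  · rintro ⟨q, hq⟩
    obtain ⟨s, hs⟩ := PsiI_surjective r R d kk hd q hq
    exact ⟨s, Subtype.ext hs⟩
  · intro s
    have hdneg : d < 0 := by rw [hd]; linarith
    refine (topM_eq_zero_iff r R d (Or.inr hdneg) s).trans ?_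
    constructor
    · intro h
      exact Subtype.ext h
    · intro h
      exact congrArg Subtype.val h
  · intro ρ s
    exact (topMap_natural (V r R (Fin.last r)) (initList (V r R)) (Scup_eq_top r R)
      (Coh.smulAb (GrTilde.tilde (𝒜 r R) (𝒜 r R) d) (Coh.toGlobal (toSpecR (𝒜 r R)) ρ)) s).symm
  · intro ρ s
    exact Subtype.ext (PsiI_smulAb r R d ρ s)

end Groth.Agent.Helper1.ProjTop
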