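import Mathlib
import Groth.Prelude.Def_Coh
import Groth.Prelude.Def_Wider
import Groth.Agent.Helper4.QcohGlue
/-!
# PuncAff: quasi-coherent modules on quasi-compact opens of affine schemes
-/

set_option autoImplicit false
set_option linter.style.haveILetI false
open AlgebraicGeometry CategoryTheory
universe u

namespace Groth.Agent.Helper1.PuncAff

/-- an isomorphism of modules induces an isomorphism on cohomology -/
theorem nonempty_HH_equiv {X : Scheme.{u}} {M N : X.Modules} (e : M ≅ N) (n : ℕ) :
    Nonempty (Coh.HH X M n ≃+ Coh.HH X N n) :=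
  ⟨(((Sheaf.functorH _ n).mapIso ((SheafOfModules.toSheaf X.ringCatSheaf).mapIso e))).addCommGroupIsoToAddEquiv⟩

/-- every quasi-coherent module on a quasi-compact open of an affine scheme is the restriction of
a `tilde` -/
theorem exists_iso_restrict_tilde (A : Type u) [CommRing A] (U : (Spec (CommRingCat.of A)).Opens)
    [QuasiCompact U.ι] (N : (U : Scheme.{u}).Modules) [N.IsQuasicoherent] :
    ∃ M : ModuleCat.{u} A, Nonempty (N ≅ (tilde (R := CommRingCat.of A) M).restrict U.ι) := by
  haveI : ((Scheme.Modules.pushforward U.ι).obj N).IsQuasicoherent :=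
    Groth.Agent.Helper4.QcohGlue.isQuasicoherent_pushforward U.ι N
  have h : (SheafOfModules.isQuasicoherent (Spec (CommRingCat.of A)).ringCatSheaf)
      ((Scheme.Modules.pushforward U.ι).obj N) := inferInstance
  rw [← essImage_tilde] at h
  obtain ⟨M, ⟨e⟩⟩ := h
  refine ⟨M, ⟨?_⟩⟩
  exact ((Scheme.Modules.restrictFunctorAdjCounitIso U.ι).app N).symm ≪≫
    (Scheme.Modules.restrictFunctor U.ι).mapIso e.symm

end Groth.Agent.Helper1.PuncAff
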