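import Mathlib

/-!
# PunctSys1: finite submodules of an inverse system of modules which generate after inverting
each of finitely many elements (module-theoretic core of S0841)
-/

set_option autoImplicit false
set_option linter.unusedSectionVars false

namespace Groth.Agent.Helper1.PunctSys

section Loc

variable {A : Type*} [CommRing A]

/-- a module whose localization at `f` is finite over the localized ring is finitely generated up
to `f`-power torsion -/
lemma exists_finset_of_finite_localized (f : A) {B : Type*} [CommRing B] [Algebra A B]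
    [IsLocalization.Away f B] {H L : Type*} [AddCommGroup H] [Module A H] [AddCommGroup L]
    [Module A L] [Module B L] [IsScalarTower A B L] (ℓ : H →ₗ[A] L)
    [IsLocalizedModule (Submonoid.powers f) ℓ] [Module.Finite B L] :
    ∃ S : Finset H, ∀ x : H, ∃ k : ℕ, f ^ k • x ∈ Submodule.span A (S : Set H) := by
  classical
  obtain ⟨T, hT⟩ := (Module.finite_def (R := B) (M := L)).1 inferInstance
  have hsurj : ∀ l : L, ∃ (k : ℕ) (h : H), f ^ k • l = ℓ h :=
    fun l => IsLocalizedModule.Away.surj ℓ f l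
  choose k h hkh using hsurj
  refine ⟨T.image h, fun x => ?_⟩
  have key : ∀ y ∈ Submodule.span B (T : Set L),
      ∃ m : ℕ, f ^ m • y ∈ (Submodule.span A ((T.image h : Finset H) : Set H)).map ℓ := by
    intro y hy
    induction hy using Submodule.span_induction with
    | mem l hl =>
      refine ⟨k l, ?_⟩
      rw [hkh l]
      exact Submodule.mem_map_of_mem (Submodule.subset_span (Finset.mem_image_of_mem h hl))
    | zero => exact ⟨0, by simp⟩
    | add y z _ _ hy hz =>
      obtain ⟨m₁, h₁⟩ := hy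
      obtain ⟨m₂, h₂⟩ := hz
      refine ⟨m₁ + m₂, ?_⟩
      rw [smul_add]
      refine Submodule.add_mem _ ?_ ?_
      · rw [add_comm, pow_add, mul_smul]
        exact Submodule.smul_mem _ _ h₁
      · rw [pow_add, mul_smul]
        exact Submodule.smul_mem _ _ h₂
    | smul b y _ hy =>
      obtain ⟨m₁, h₁⟩ := hy
      obtain ⟨⟨a, ⟨_, n, rfl⟩⟩, hab⟩ := IsLocalization.surj (Submonoid.powers f) b
      refine ⟨n + m₁, ?_⟩
      have e : f ^ (n + m₁) • (b • y) = a • (f ^ m₁ • y) := by
        rw [pow_add, mul_smul, ← algebraMap_smul B (f ^ n) (f ^ m₁ • b • y),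
          smul_comm (f ^ m₁) b y, ← mul_smul, mul_comm, hab, algebraMap_smul]
      rw [e]
      exact Submodule.smul_mem _ _ h₁
  obtain ⟨m, hm⟩ := key (ℓ x) (by rw [hT]; exact Submodule.mem_top)
  obtain ⟨s, hs, hs'⟩ := hm
  have h0 : ℓ s = ℓ (f ^ m • x) := by rw [hs', map_smul]
  obtain ⟨c, hc⟩ := IsLocalizedModule.Away.exists_of_eq f h0
  refine ⟨c + m, ?_⟩
  rw [pow_add, mul_smul, ← hc]
  exact Submodule.smul_mem _ _ hs

/-- `J·M_f` comes from `J·M` up to `f`-power torsion -/
lemma exists_pow_smul_mem_smul_top_of_isLocalizedModule (f : A) {M N : Type*} [AddCommGroup M]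
    [Module A M] [AddCommGroup N] [Module A N] (ℓ : M →ₗ[A] N)
    [IsLocalizedModule (Submonoid.powers f) ℓ] (J : Ideal A) (x : M)
    (hx : ℓ x ∈ J • (⊤ : Submodule A N)) : ∃ k : ℕ, f ^ k • x ∈ J • (⊤ : Submodule A M) := by
  have key : ∀ y ∈ J • (⊤ : Submodule A N),
      ∃ (k : ℕ) (h : M), h ∈ J • (⊤ : Submodule A M) ∧ f ^ k • y = ℓ h := by
    intro y hy
    refine Submodule.smul_induction_on hy ?_ ?_
    · intro a ha z _
      obtain ⟨k, h0, hk⟩ := IsLocalizedModule.Away.surj ℓ f z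
      refine ⟨k, a • h0, Submodule.smul_mem_smul ha Submodule.mem_top, ?_⟩
      rw [map_smul, ← hk, smul_comm]
    · rintro y₁ y₂ ⟨k₁, h₁, hm₁, e₁⟩ ⟨k₂, h₂, hm₂, e₂⟩
      refine ⟨k₁ + k₂, f ^ k₂ • h₁ + f ^ k₁ • h₂,
        Submodule.add_mem _ (Submodule.smul_mem _ _ hm₁) (Submodule.smul_mem _ _ hm₂), ?_⟩
      rw [map_add, map_smul, map_smul, ← e₁, ← e₂, ← mul_smul, ← mul_smul, ← pow_add, ← pow_add,
        add_comm k₂ k₁, smul_add]
  obtain ⟨k, h, hm, e⟩ := key _ hx
  have e' : ℓ (f ^ k • x) = ℓ h := by rw [map_smul]; exact e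
  obtain ⟨c, hc⟩ := IsLocalizedModule.Away.exists_of_eq f e'
  refine ⟨c + k, ?_⟩
  rw [pow_add, mul_smul, hc]
  exact Submodule.smul_mem _ _ hm

end Loc

section Seq

variable {A : Type*} [CommRing A] {ι : Type*} [Finite ι] (f : ι → A)

/-- `M` is finitely generated and contains an `f i`-power multiple of every element -/
structure Good {H : Type*} [AddCommGroup H] [Module A H] (M : Submodule A H) : Prop where
  fg : M.FG
  sat : ∀ (i : ι) (x : H), ∃ k : ℕ, f i ^ k • x ∈ M

lemma exists_good_le {H : Type*} [AddCommGroup H] [Module A H]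
    (hH : ∀ i, ∃ S : Finset H, ∀ x : H, ∃ k : ℕ, f i ^ k • x ∈ Submodule.span A (S : Set H))
    (P : Submodule A H) (hP : ∀ (i : ι) (x : H), ∃ k : ℕ, f i ^ k • x ∈ P) :
    ∃ M : Submodule A H, M ≤ P ∧ Good f M := by
  classical
  choose S hS using hH
  choose kP hkP using hP
  let gen : ι → Finset H := fun i => (S i).image (fun s => f i ^ kP i s • s)
  refine ⟨⨆ i, Submodule.span A (gen i : Set H), ?_, ?_, ?_⟩
  · refine iSup_le fun i => Submodule.span_le.2 ?_
    intro y hy
    obtain ⟨s, -, rfl⟩ := Finset.mem_image.1 (Finset.mem_coe.1 hy)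
    exact hkP i s
  · exact Submodule.fg_iSup _ (fun i => Submodule.fg_span (Finset.finite_toSet _))
  · intro i x
    have key : ∀ y ∈ Submodule.span A (S i : Set H),
        ∃ K : ℕ, f i ^ K • y ∈ ⨆ i, Submodule.span A (gen i : Set H) := by
      intro y hy
      induction hy using Submodule.span_induction with
      | mem s hs =>
        refine ⟨kP i s, ?_⟩
        exact (le_iSup (fun i => Submodule.span A (gen i : Set H)) i)
          (Submodule.subset_span (Finset.mem_coe.2 (Finset.mem_image_of_mem _ hs)))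
      | zero => exact ⟨0, by simp⟩
      | add y z _ _ hy hz =>
        obtain ⟨m₁, h₁⟩ := hy
        obtain ⟨m₂, h₂⟩ := hz
        refine ⟨m₁ + m₂, ?_⟩
        rw [smul_add]
        refine Submodule.add_mem _ ?_ ?_
        · rw [add_comm, pow_add, mul_smul]
          exact Submodule.smul_mem _ _ h₁
        · rw [pow_add, mul_smul]
          exact Submodule.smul_mem _ _ h₂
      | smul a y _ hy =>
        obtain ⟨m₁, h₁⟩ := hy
        refine ⟨m₁, ?_⟩
        rw [smul_comm]
        exact Submodule.smul_mem _ _ h₁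
    obtain ⟨k, hk⟩ := hS i x
    obtain ⟨K, hK⟩ := key _ hk
    refine ⟨K + k, ?_⟩
    rw [pow_add, mul_smul]
    exact hK

variable (H : ℕ → Type*) [∀ n, AddCommGroup (H n)] [∀ n, Module A (H n)]
  (t : ∀ n, H (n + 1) →ₗ[A] H n)

lemma sat_comap {n : ℕ} (M : Submodule A (H n)) (hM : Good f M) (i : ι) (x : H (n + 1)) :
    ∃ k : ℕ, f i ^ k • x ∈ M.comap (t n) := by
  obtain ⟨k, hk⟩ := hM.sat i (t n x)
  exact ⟨k, by rw [Submodule.mem_comap, map_smul]; exact hk⟩

variable (hH : ∀ n i, ∃ S : Finset (H n), ∀ x : H n, ∃ k : ℕ,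
  f i ^ k • x ∈ Submodule.span A (S : Set (H n)))

include hH in
/-- finite submodules, compatible with the transition maps, generating up to `f i`-power
torsion -/
theorem exists_seq : ∃ M : ∀ n, Submodule A (H n),
    (∀ n, Good f (M n)) ∧ ∀ n, M (n + 1) ≤ (M n).comap (t n) := by
  classical
  have step : ∀ (n : ℕ) (M : {M : Submodule A (H n) // Good f M}),
      ∃ M' : {M' : Submodule A (H (n + 1)) // Good f M'}, M'.1 ≤ M.1.comap (t n) := by
    intro n M
    obtain ⟨M', h1, h2⟩ := exists_good_le f (hH (n + 1)) (M.1.comap (t n))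
      (sat_comap f H t M.1 M.2)
    exact ⟨⟨M', h2⟩, h1⟩
  obtain ⟨M₀, -, h₀⟩ := exists_good_le f (hH 0) ⊤ (fun _ _ => ⟨0, Submodule.mem_top⟩)
  let seq : ∀ n, {M : Submodule A (H n) // Good f M} :=
    fun n => Nat.rec (motive := fun n => {M : Submodule A (H n) // Good f M}) ⟨M₀, h₀⟩
      (fun n ih => Classical.choose (step n ih)) n
  refine ⟨fun n => (seq n).1, fun n => (seq n).2, fun n => ?_⟩
  exact Classical.choose_spec (step n (seq n))

end Seq

section Props

variable {A : Type*} [CommRing A] {ι : Type*} [Finite ι] (f : ι → A)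

lemma exists_pow_le_of_forall_pow_mem (𝔟 : Ideal A) (hb : ∀ i, ∃ k : ℕ, f i ^ k ∈ 𝔟) :
    ∃ m : ℕ, (Ideal.span (Set.range f)) ^ m ≤ 𝔟 := by
  apply Ideal.exists_pow_le_of_le_radical_of_fg
  · rw [Ideal.span_le]
    rintro _ ⟨i, rfl⟩
    exact hb i
  · exact Submodule.fg_span (Set.finite_range f)

variable {H H' : Type*} [AddCommGroup H] [Module A H] [AddCommGroup H'] [Module A H']
  (t : H' →ₗ[A] H) (M : Submodule A H) (M' : Submodule A H') (hle : M' ≤ M.comap t)

lemma exists_mem_smul_top (J : Ideal A) (hM' : Good f M') (i : ι) (y : H')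
    (hy : y ∈ J • (⊤ : Submodule A H')) :
    ∃ (K : ℕ) (z : M'), (z : H') = f i ^ K • y ∧ z ∈ J • (⊤ : Submodule A M') := by
  refine Submodule.smul_induction_on hy ?_ ?_
  · intro a ha h _
    obtain ⟨K, hK⟩ := hM'.sat i h
    refine ⟨K, a • ⟨f i ^ K • h, hK⟩, ?_, Submodule.smul_mem_smul ha Submodule.mem_top⟩
    rw [Submodule.coe_smul, Submodule.coe_mk, smul_comm]
  · rintro y₁ y₂ ⟨K₁, z₁, e₁, h₁⟩ ⟨K₂, z₂, e₂, h₂⟩
    refine ⟨K₁ + K₂, f i ^ K₂ • z₁ + f i ^ K₁ • z₂, ?_,
      Submodule.add_mem _ (Submodule.smul_mem _ _ h₁) (Submodule.smul_mem _ _ h₂)⟩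
    rw [Submodule.coe_add, Submodule.coe_smul, Submodule.coe_smul, e₁, e₂, smul_add,
      ← mul_smul, ← mul_smul, ← pow_add, ← pow_add, add_comm K₂ K₁]

include hle in
/-- the kernel of `M'/JM' → M` is torsion for the ideal generated by the `f i` -/
theorem ker_torsion (J : Ideal A) (hM' : Good f M')
    (hker : ∀ (i : ι) (x : H'), t x = 0 → ∃ k : ℕ, f i ^ k • x ∈ J • (⊤ : Submodule A H'))
    (x : M') (hx : t.restrict hle x = 0) :
    ∃ m : ℕ, ∀ a ∈ (Ideal.span (Set.range f)) ^ m, a • x ∈ J • (⊤ : Submodule A M') := by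
  have hx' : t (x : H') = 0 := congrArg Subtype.val hx
  obtain ⟨m, hm⟩ := exists_pow_le_of_forall_pow_mem f
    ((J • (⊤ : Submodule A M')).colon {x}) (fun i => by
      obtain ⟨k, hk⟩ := hker i x hx'
      obtain ⟨K, z, e, hz⟩ := exists_mem_smul_top f M' J hM' i _ hk
      refine ⟨K + k, ?_⟩
      rw [Submodule.mem_colon_singleton]
      have : z = f i ^ (K + k) • x := by
        apply Subtype.ext
        rw [e, Submodule.coe_smul, pow_add, mul_smul]
      rw [← this]
      exact hz)
  exact ⟨m, fun a ha => Submodule.mem_colon_singleton.1 (hm ha)⟩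

include hle in
/-- the cokernel of `M' → M` is torsion for the ideal generated by the `f i` -/
theorem coker_torsion (hM' : Good f M')
    (hcok : ∀ (i : ι) (y : H), ∃ k : ℕ, f i ^ k • y ∈ LinearMap.range t) (y : M) :
    ∃ m : ℕ, ∀ a ∈ (Ideal.span (Set.range f)) ^ m, a • y ∈ LinearMap.range (t.restrict hle) := by
  obtain ⟨m, hm⟩ := exists_pow_le_of_forall_pow_mem f
    ((LinearMap.range (t.restrict hle)).colon {y}) (fun i => by
      obtain ⟨k, x, hx⟩ := hcok i y
      obtain ⟨K, hK⟩ := hM'.sat i x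
      refine ⟨K + k, ?_⟩
      rw [Submodule.mem_colon_singleton]
      refine ⟨⟨f i ^ K • x, hK⟩, ?_⟩
      apply Subtype.ext
      rw [LinearMap.coe_restrict_apply, Submodule.coe_mk, map_smul, hx, Submodule.coe_smul,
        pow_add, mul_smul])
  exact ⟨m, fun a ha => Submodule.mem_colon_singleton.1 (hm ha)⟩

lemma smul_top_eq_bot (J : Ideal A) (hJ : ∀ a ∈ J, ∀ x : H, a • x = 0) :
    J • (⊤ : Submodule A M) = ⊥ := by
  rw [eq_bot_iff, Submodule.smul_le]
  intro a ha x _
  rw [Submodule.mem_bot]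
  apply Subtype.ext
  rw [Submodule.coe_smul, hJ a ha]
  rfl

end Props

end Groth.Agent.Helper1.PunctSys
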