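import Mathlib
import Groth.Agent.Helper1.PunctSys1
import Groth.Agent.Helper1.AlgzMono3
import Groth.Agent.Helper1.LimSec2

/-!
# PunctSys2: the system `H⁰(U, F_n)` of a coherent formal module on an open `U ⊆ Spec A`
(inputs for S0841)
-/

set_option autoImplicit false
set_option linter.style.haveILetI false
set_option linter.unusedSectionVars false

universe u

open CategoryTheory CategoryTheory.Limits AlgebraicGeometry Opposite

namespace Groth.Agent.Helper1.PunctSys

open Groth.Agent.Helper1.Form Groth.Agent.Helper1.QuotPush Groth.Agent.Helper1.AffAlgz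
open Groth.Agent.Helper1.ProML Groth.Agent.Helper1.ProLim Groth.Agent.Helper4
open Groth.Agent.Helper1.AlgzEpi

variable {A : Type u} [CommRing A]

set_option backward.isDefEq.respectTransparency false in
/-- the `A`-module structure on `Γ(W, j_*K)` is the one through `A → Γ(j⁻¹W, O_U)` -/
lemma smul_push' (U : (Spec (CommRingCat.of A)).Opens) (K : (U : Scheme.{u}).Modules)
    (W : (Spec (CommRingCat.of A)).Opens) (a : A) (s : Γ(K, U.ι ⁻¹ᵁ W)) :
    (a • (show Γ((Scheme.Modules.pushforward U.ι).obj K, W) from s)) =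
      (ρ (A := A) (X := (U : Scheme.{u})) (U.ι ⁻¹ᵁ W) a • s) := by
  rw [smul_def']
  show (U.ι.app W _) • s = _
  congr 1 <;> (unfold ρ Coh.toGlobal Coh.resTop; simp)

/-- the `A`-module `Γ(D(f), K)` -/
noncomputable abbrev SecDf (K : (Spec (CommRingCat.of A)).Modules) (f : A) : Type u :=
  ↑((Sh (R := CommRingCat.of A) K).obj.obj
    (op (PrimeSpectrum.basicOpen f : (Spec (CommRingCat.of A)).Opens)))

/-- transfer of `J·Γ` from the module structure through `A → Γ(V, O_U)` to the `A`-module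
structure of `Γ(D(f), j_*F)` -/
lemma mem_smul_top_push (U : (Spec (CommRingCat.of A)).Opens) (F : (U : Scheme.{u}).Modules)
    (f : A) (J : Ideal A)
    (y : Γ(F, U.ι ⁻¹ᵁ (PrimeSpectrum.basicOpen f : (Spec (CommRingCat.of A)).Opens)))
    (hy : y ∈ J • (⊤ : @Submodule A
      Γ(F, U.ι ⁻¹ᵁ (PrimeSpectrum.basicOpen f : (Spec (CommRingCat.of A)).Opens)) _ _
      (Groth.Agent.Helper1.LimSec.modρ F _))) :
    (show SecDf ((Scheme.Modules.pushforward U.ι).obj F) f from y) ∈
      J • (⊤ : Submodule A (SecDf ((Scheme.Modules.pushforward U.ι).obj F) f)) := by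
  refine @Submodule.smul_induction_on A _ A _ _
    Γ(F, U.ι ⁻¹ᵁ (PrimeSpectrum.basicOpen f : (Spec (CommRingCat.of A)).Opens)) _
    (Groth.Agent.Helper1.LimSec.modρ F _) (Groth.Agent.Helper1.LimSec.modρ F _) _ J ⊤
    (fun y => (show SecDf ((Scheme.Modules.pushforward U.ι).obj F) f from y) ∈
      J • (⊤ : Submodule A (SecDf ((Scheme.Modules.pushforward U.ι).obj F) f))) y hy ?_ ?_
  · intro a ha z _
    have h5 : a • (show SecDf ((Scheme.Modules.pushforward U.ι).obj F) f from z) ∈
        J • (⊤ : Submodule A (SecDf ((Scheme.Modules.pushforward U.ι).obj F) f)) :=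
      Submodule.smul_mem_smul ha Submodule.mem_top
    have hB := smul_push' U F (PrimeSpectrum.basicOpen f) a z
    have h6 : (show SecDf ((Scheme.Modules.pushforward U.ι).obj F) f from
        (ρ (A := A) (X := (U : Scheme.{u}))
          (U.ι ⁻¹ᵁ (PrimeSpectrum.basicOpen f : (Spec (CommRingCat.of A)).Opens)) a • z)) =
        a • (show SecDf ((Scheme.Modules.pushforward U.ι).obj F) f from z) := hB.symm
    exact Eq.mpr (congrArg (fun w : SecDf ((Scheme.Modules.pushforward U.ι).obj F) f =>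
      w ∈ J • (⊤ : Submodule A (SecDf ((Scheme.Modules.pushforward U.ι).obj F) f))) h6) h5
  · intro y₁ y₂ h₁ h₂
    exact Submodule.add_mem _ h₁ h₂

variable [IsNoetherianRing A] (I : Ideal A) (U : (Spec (CommRingCat.of A)).Opens)
  (G : ℕᵒᵖ ⥤ (U : Scheme.{u}).Modules) (hG : Formal.IsCohFormal I G)

include hG in
/-- the kernel of `H⁰(U, F_{n+1}) → H⁰(U, F_n)` is `I^(n+1) H⁰(U, F_{n+1})` up to `f`-power
torsion, for `D(f) ⊆ U` -/
theorem exists_pow_smul_mem_smul_top (f : A)
    (hf : (PrimeSpectrum.basicOpen f : (Spec (CommRingCat.of A)).Opens) ≤ U) (n : ℕ)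
    (x : ↑((Algz.sectMod A U G).obj (op (n + 1))))
    (hx : ((Algz.sectMod A U G).map (homOfLE (Nat.le_succ n)).op).hom x = 0) :
    ∃ k : ℕ, f ^ k • x ∈
      I ^ (n + 1) • (⊤ : Submodule A ↑((Algz.sectMod A U G).obj (op (n + 1)))) := by
  haveI : (G.obj (op (n + 1))).IsQuasicoherent := (hG.1 (n + 1)).1
  haveI : (G.obj (op n)).IsQuasicoherent := (hG.1 n).1
  haveI := isQuasicoherent_push A U (G.obj (op (n + 1)))
  haveI := isQuasicoherent_push A U (G.obj (op n))
  let K := (Scheme.Modules.pushforward U.ι).obj (G.obj (op (n + 1)))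
  let K' := (Scheme.Modules.pushforward U.ι).obj (G.obj (op n))
  let τ : K ⟶ K' := (Scheme.Modules.pushforward U.ι).map (G.map (homOfLE (Nat.le_succ n)).op)
  let V : (U : Scheme.{u}).Opens :=
    U.ι ⁻¹ᵁ (PrimeSpectrum.basicOpen f : (Spec (CommRingCat.of A)).Opens)
  have hV : IsAffineOpen V := isAffineOpen_preimage_basicOpen A U f hf
  haveI hloc := isLocalizedModule_resL (R := CommRingCat.of A) K f
  -- the restriction of `x` to `D(f)` is killed by the transition map
  have h1 : appL (R := CommRingCat.of A) τ (PrimeSpectrum.basicOpen f)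
      (resL (R := CommRingCat.of A) K f x) = 0 := by
    rw [appL_resL]
    have : appL (R := CommRingCat.of A) τ ⊤ x = 0 := hx
    rw [this, map_zero]
  have h1' : (G.map (homOfLE (Nat.le_succ n)).op).app V
      (show Γ(G.obj (op (n + 1)), V) from resL (R := CommRingCat.of A) K f x) = 0 := h1
  obtain ⟨r, g, hg⟩ := Groth.Agent.Helper1.HomCompl.exists_gens_pow
    (IsNoetherian.noetherian I) (n + 1)
  have hq : IsQuot (Ideal.span (Set.range g)) (G.map (homOfLE (Nat.le_succ n)).op) := by
    rw [hg]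
    exact (hasQuotTrans_of_isCohFormal hG) n
  have h2 := KLQuot.mem_smul_top_of_app_eq_zero g hq hV _ h1'
  rw [hg] at h2
  have h3 := Groth.Agent.Helper1.LimSec.mem_smul_top_of_mem_map _ _ _ h2
  have h4 := mem_smul_top_push U (G.obj (op (n + 1))) f (I ^ (n + 1)) _ h3
  exact exists_pow_smul_mem_smul_top_of_isLocalizedModule f
    (resL (R := CommRingCat.of A) K f) (I ^ (n + 1)) x h4

include hG in
/-- the cokernel of `H⁰(U, F_{n+1}) → H⁰(U, F_n)` is `f`-power torsion, for `D(f) ⊆ U` -/
theorem exists_pow_smul_mem_range_tr (f : A)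
    (hf : (PrimeSpectrum.basicOpen f : (Spec (CommRingCat.of A)).Opens) ≤ U) (n : ℕ)
    (y : ↑((Algz.sectMod A U G).obj (op n))) :
    ∃ k : ℕ, f ^ k • y ∈
      LinearMap.range ((Algz.sectMod A U G).map (homOfLE (Nat.le_succ n)).op).hom := by
  haveI : (G.obj (op (n + 1))).IsQuasicoherent := (hG.1 (n + 1)).1
  haveI : (G.obj (op n)).IsQuasicoherent := (hG.1 n).1
  haveI := isQuasicoherent_push A U (G.obj (op (n + 1)))
  haveI := isQuasicoherent_push A U (G.obj (op n))
  let τ : (Scheme.Modules.pushforward U.ι).obj (G.obj (op (n + 1))) ⟶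
      (Scheme.Modules.pushforward U.ι).obj (G.obj (op n)) :=
    (Scheme.Modules.pushforward U.ι).map (G.map (homOfLE (Nat.le_succ n)).op)
  have hτ : Function.Surjective
      (appL (R := CommRingCat.of A) τ (PrimeSpectrum.basicOpen f)) := by
    have hV := isAffineOpen_preimage_basicOpen A U f hf
    haveI : Epi (G.map (homOfLE (Nat.le_succ n)).op) := ((hasQuotTrans_of_isCohFormal hG) n).epi
    exact QcohEpi.app_surjective_of_epi (G.map (homOfLE (Nat.le_succ n)).op) hV
  obtain ⟨N, t₁, ht₁⟩ := exists_pow_smul_eq_app (R := CommRingCat.of A) τ f hτ y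
  exact ⟨N, t₁, ht₁⟩

lemma exists_finset_of_finite_tilde {R : CommRingCat.{u}} (H : ModuleCat.{u} R) (f : R)
    (h : Module.Finite Γ(Spec R, PrimeSpectrum.basicOpen f)
      Γ(tilde H, PrimeSpectrum.basicOpen f)) :
    ∃ S : Finset H, ∀ x : H, ∃ k : ℕ, f ^ k • x ∈ Submodule.span R (S : Set H) := by
  let ℓ : H →ₗ[R] Γ(tilde H, PrimeSpectrum.basicOpen f) :=
    (tilde.toOpen H (PrimeSpectrum.basicOpen f)).hom
  haveI : IsLocalizedModule (Submonoid.powers f) ℓ :=
    inferInstanceAs (IsLocalizedModule.Away f (tilde.toOpen H (PrimeSpectrum.basicOpen f)).hom)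
  exact exists_finset_of_finite_localized f (B := Γ(Spec R, PrimeSpectrum.basicOpen f)) ℓ

lemma finite_of_finite_restrict {X Y : Scheme.{u}} (f : X ⟶ Y) [IsOpenImmersion f]
    (M : Y.Modules) (V : X.Opens) (h : Module.Finite Γ(X, V) Γ(M.restrict f, V)) :
    Module.Finite Γ(Y, f ''ᵁ V) Γ(M, f ''ᵁ V) := by
  obtain ⟨T, hT⟩ := (Module.finite_def).1 h
  have key : ∀ m ∈ Submodule.span Γ(X, V) (T : Set Γ(M.restrict f, V)),
      (show Γ(M, f ''ᵁ V) from m) ∈ Submodule.span Γ(Y, f ''ᵁ V)
        (show Set Γ(M, f ''ᵁ V) from (T : Set Γ(M.restrict f, V))) := by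
    intro m hm
    induction hm using Submodule.span_induction with
    | mem t ht => exact Submodule.subset_span ht
    | zero => exact Submodule.zero_mem _
    | add x y _ _ hx hy => exact Submodule.add_mem _ hx hy
    | smul r t _ ht =>
      show ((f.appIso V).inv r) • (show Γ(M, f ''ᵁ V) from t) ∈ _
      exact Submodule.smul_mem _ _ ht
  refine Module.finite_def.2 ⟨show Finset Γ(M, f ''ᵁ V) from T, ?_⟩
  rw [eq_top_iff]
  intro m _
  exact key m (by rw [hT]; exact Submodule.mem_top)

include hG in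
/-- `H⁰(U, F_n)` is finitely generated up to `f`-power torsion, for `D(f) ⊆ U` -/
theorem exists_finset_span (f : A)
    (hf : (PrimeSpectrum.basicOpen f : (Spec (CommRingCat.of A)).Opens) ≤ U) (n : ℕ) :
    ∃ S : Finset ↑((Algz.sectMod A U G).obj (op n)),
      ∀ x : ↑((Algz.sectMod A U G).obj (op n)), ∃ k : ℕ,
        f ^ k • x ∈ Submodule.span A (S : Set ↑((Algz.sectMod A U G).obj (op n))) := by
  haveI : IsNoetherian (U : Scheme.{u}) := isNoetherian_opens_Spec A U
  haveI : (G.obj (op n)).IsQuasicoherent := (hG.1 n).1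
  have hcoh : Coh.IsCoh ((Scheme.Modules.restrictFunctor U.ι).obj
      ((tilde.functor (CommRingCat.of A)).obj ((Algz.sectMod A U G).obj (op n)))) :=
    Groth.Agent.Helper2.CohQ1.isCoh_of_iso (restrictTildeSectIso U (G.obj (op n))).symm (hG.1 n)
  have hV := isAffineOpen_preimage_basicOpen A U f hf
  have e := image_preimage_basicOpen U f hf
  have hfin := SecDict.finite_sections hV _ hcoh.1 hcoh.2
  have hfin2 : ∀ W : (Spec (CommRingCat.of A)).Opens,
      W = U.ι ''ᵁ (U.ι ⁻¹ᵁ (PrimeSpectrum.basicOpen f : (Spec (CommRingCat.of A)).Opens)) →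
      Module.Finite Γ(Spec (CommRingCat.of A), W)
        Γ((tilde.functor (CommRingCat.of A)).obj ((Algz.sectMod A U G).obj (op n)), W) := by
    intro W hW
    subst hW
    exact finite_of_finite_restrict U.ι _ _ hfin
  exact exists_finset_of_finite_tilde (R := CommRingCat.of A) ((Algz.sectMod A U G).obj (op n)) f
    (hfin2 _ e.symm)

end Groth.Agent.Helper1.PunctSys
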