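import Mathlib
import Groth.Agent.Helper1.PunctSys2

/-!
# PunctSys3: a coherent formal module on `U ⊆ Spec A` comes from a system of finite `A`-modules
(S0841)
-/

set_option autoImplicit false
set_option linter.style.haveILetI false
set_option linter.unusedSectionVars false

universe u

open CategoryTheory CategoryTheory.Limits AlgebraicGeometry Opposite

namespace Groth.Agent.Helper1.PunctSys

open Groth.Agent.Helper1.Form Groth.Agent.Helper1.QuotPush Groth.Agent.Helper1.AffAlgz
open Groth.Agent.Helper1.ProML Groth.Agent.Helper1.ProLim Groth.Agent.Helper4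
open Groth.Agent.Helper1.AlgzEpi

variable {A : Type u} [CommRing A] [IsNoetherianRing A] (U : (Spec (CommRingCat.of A)).Opens)

/-- naturality of `(H⁰(U, F))~|_U ≅ F` -/
lemma restrictTildeSectIso_naturality {F F' : (U : Scheme.{u}).Modules} [F.IsQuasicoherent]
    [F'.IsQuasicoherent] (φ : F ⟶ F') :
    (Scheme.Modules.restrictFunctor U.ι).map ((tilde.functor (CommRingCat.of A)).map
      ((moduleSpecΓFunctor (R := CommRingCat.of A)).map
        ((Scheme.Modules.pushforward U.ι).map φ))) ≫ (restrictTildeSectIso U F').hom =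
      (restrictTildeSectIso U F).hom ≫ φ := by
  have h1 := (tilde.adjunction (R := CommRingCat.of A)).counit.naturality
    ((Scheme.Modules.pushforward U.ι).map φ)
  have h2 := (Scheme.Modules.restrictFunctorAdjCounitIso U.ι).hom.naturality φ
  show (Scheme.Modules.restrictFunctor U.ι).map _ ≫
    ((Scheme.Modules.restrictFunctor U.ι).map
      ((tilde.adjunction (R := CommRingCat.of A)).counit.app
        ((Scheme.Modules.pushforward U.ι).obj F')) ≫
      (Scheme.Modules.restrictFunctorAdjCounitIso U.ι).hom.app F') =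
    ((Scheme.Modules.restrictFunctor U.ι).map
      ((tilde.adjunction (R := CommRingCat.of A)).counit.app
        ((Scheme.Modules.pushforward U.ι).obj F)) ≫
      (Scheme.Modules.restrictFunctorAdjCounitIso U.ι).hom.app F) ≫ φ
  rw [← Category.assoc, ← Functor.map_comp]
  erw [h1]
  rw [Functor.map_comp, Category.assoc, Category.assoc]
  congr 1

/-- injectivity of `M~(D(f)) → N~(D(f))` for an injective map -/
lemma tilde_map_app_injective {R : CommRingCat.{u}} {M N : ModuleCat.{u} R} (φ : M ⟶ N) (f : R)
    (h : Function.Injective φ.hom) :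
    Function.Injective (appL (tilde.map φ) (PrimeSpectrum.basicOpen f)) := by
  rw [injective_iff_map_eq_zero]
  intro z hz
  have hk : LinearMap.ker φ.hom ≤ LinearMap.ker (𝟙 M : M ⟶ M).hom := by
    rw [LinearMap.ker_eq_bot.2 h]
    exact bot_le
  have h1 := appL_tilde_map_eq_zero_of_ker_le φ (𝟙 M) hk f z hz
  rw [tilde.map_id] at h1
  exact h1

/-- the inclusion of a submodule, as a morphism of `ModuleCat` -/
noncomputable abbrev subtypeHom {H : ModuleCat.{u} A} (M : Submodule A H) :
    ModuleCat.of A ↥M ⟶ H := ModuleCat.ofHom M.subtype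

/-- a submodule of `H` containing `f`-power multiples of everything, for enough `f`, has the
same restriction to `U` -/
theorem isIso_restrict_tilde_subtype (H : ModuleCat.{u} A) (M : Submodule A H)
    (hcov : ∀ x : (U : Scheme.{u}), ∃ f : A,
      U.ι.base x ∈ (PrimeSpectrum.basicOpen f : (Spec (CommRingCat.of A)).Opens) ∧
      (PrimeSpectrum.basicOpen f : (Spec (CommRingCat.of A)).Opens) ≤ U ∧
      ∀ h : H, ∃ k : ℕ, f ^ k • h ∈ M) :
    IsIso ((Scheme.Modules.restrictFunctor U.ι).map
      ((tilde.functor (CommRingCat.of A)).map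
        (ModuleCat.ofHom M.subtype : ModuleCat.of A M ⟶ H))) := by
  haveI : ((tilde.functor (CommRingCat.of A)).obj (ModuleCat.of A M)).IsQuasicoherent :=
    Groth.Agent.Helper1.ProAlg.isQuasicoherent_tildeObj _
  haveI : ((tilde.functor (CommRingCat.of A)).obj H).IsQuasicoherent :=
    Groth.Agent.Helper1.ProAlg.isQuasicoherent_tildeObj _
  apply QcohLocal.isIso_of_app_bijective_of_affine_cover
  intro x
  obtain ⟨f, hxf, hfU, hf⟩ := hcov x
  refine ⟨U.ι ⁻¹ᵁ (PrimeSpectrum.basicOpen f : (Spec (CommRingCat.of A)).Opens),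
    isAffineOpen_preimage_basicOpen A U f hfU, hxf, ?_⟩
  have e := image_preimage_basicOpen U f hfU
  show Function.Bijective (((tilde.functor (CommRingCat.of A)).map
    (ModuleCat.ofHom M.subtype : ModuleCat.of A M ⟶ H)).app
      (U.ι ''ᵁ (U.ι ⁻¹ᵁ (PrimeSpectrum.basicOpen f : (Spec (CommRingCat.of A)).Opens))))
  rw [e]
  constructor
  · exact tilde_map_app_injective (R := CommRingCat.of A)
      (ModuleCat.ofHom M.subtype : ModuleCat.of A M ⟶ H) f (Submodule.injective_subtype M)
  · refine tilde_map_app_surjective (R := CommRingCat.of A)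
      (ModuleCat.ofHom M.subtype : ModuleCat.of A M ⟶ H) f (fun t => ?_)
    obtain ⟨k, hk⟩ := hf t
    exact ⟨k, ⟨⟨_, hk⟩, rfl⟩⟩

variable (I : Ideal A) (G : ℕᵒᵖ ⥤ (U : Scheme.{u}).Modules) (hG : Formal.IsCohFormal I G)
  {s : ℕ} (f : Fin s → A)
  (hfU : ∀ i, (PrimeSpectrum.basicOpen (f i) : (Spec (CommRingCat.of A)).Opens) ≤ U)
  (hcov : ∀ x : (U : Scheme.{u}), ∃ i,
    U.ι.base x ∈ (PrimeSpectrum.basicOpen (f i) : (Spec (CommRingCat.of A)).Opens))

include hG hfU hcov in
/-- the isomorphism part -/
theorem iso_of_good (M : ∀ n, Submodule A ↑((Algz.sectMod A U G).obj (op n)))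
    (hgood : ∀ n, Good f (M n))
    (hle : ∀ n, M (n + 1) ≤
      (M n).comap ((Algz.sectMod A U G).map (homOfLE (Nat.le_succ n)).op).hom) :
    Nonempty (G ≅ Functor.ofOpSequence
      (X := fun n => (Scheme.Modules.restrictFunctor U.ι).obj (Formal2.tmod A ↥(M n)))
      (fun n => (Scheme.Modules.restrictFunctor U.ι).map (Formal2.tmodMap A
        ((((Algz.sectMod A U G).map (homOfLE (Nat.le_succ n)).op).hom).restrict (hle n))))) := by
  haveI : ∀ n, (G.obj (op n)).IsQuasicoherent := fun n => (hG.1 n).1
  let incl : ∀ n, ModuleCat.of A ↥(M n) ⟶ (Algz.sectMod A U G).obj (op n) :=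
    fun n => subtypeHom (M n)
  let θ : ∀ n, (Scheme.Modules.restrictFunctor U.ι).obj
      ((tilde.functor (CommRingCat.of A)).obj (ModuleCat.of A ↥(M n))) ⟶ G.obj (op n) :=
    fun n => (Scheme.Modules.restrictFunctor U.ι).map
      ((tilde.functor (CommRingCat.of A)).map (incl n)) ≫
      (restrictTildeSectIso U (G.obj (op n))).hom
  haveI hθ : ∀ n, IsIso (θ n) := by
    intro n
    haveI : IsIso ((Scheme.Modules.restrictFunctor U.ι).map
        ((tilde.functor (CommRingCat.of A)).map (incl n))) := by
      refine isIso_restrict_tilde_subtype U _ (M n) ?_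
      intro x
      obtain ⟨i, hi⟩ := hcov x
      exact ⟨f i, hi, hfU i, fun h => (hgood n).sat i h⟩
    infer_instance
  let ψ : Functor.ofOpSequence
      (X := fun n => (Scheme.Modules.restrictFunctor U.ι).obj (Formal2.tmod A ↥(M n)))
      (fun n => (Scheme.Modules.restrictFunctor U.ι).map (Formal2.tmodMap A
        ((((Algz.sectMod A U G).map (homOfLE (Nat.le_succ n)).op).hom).restrict (hle n)))) ⟶ G :=
    NatTrans.ofOpSequence (fun n => θ n) (by
      intro n
      rw [Functor.ofOpSequence_map_homOfLE_succ]
      have h1 : (Scheme.Modules.restrictFunctor U.ι).map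
          ((tilde.functor (CommRingCat.of A)).map
            ((moduleSpecΓFunctor (R := CommRingCat.of A)).map
              ((Scheme.Modules.pushforward U.ι).map (G.map (homOfLE (Nat.le_succ n)).op)))) ≫
          (restrictTildeSectIso U (G.obj (op n))).hom =
          (restrictTildeSectIso U (G.obj (op (n + 1)))).hom ≫
            G.map (homOfLE (Nat.le_succ n)).op :=
        restrictTildeSectIso_naturality U (G.map (homOfLE (Nat.le_succ n)).op)
      have h2 : ModuleCat.ofHom
          ((((Algz.sectMod A U G).map (homOfLE (Nat.le_succ n)).op).hom).restrict (hle n)) ≫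
            incl n =
          incl (n + 1) ≫ (moduleSpecΓFunctor (R := CommRingCat.of A)).map
            ((Scheme.Modules.pushforward U.ι).map (G.map (homOfLE (Nat.le_succ n)).op)) := by
        ext x
        rfl
      show (Scheme.Modules.restrictFunctor U.ι).map
          ((tilde.functor (CommRingCat.of A)).map (ModuleCat.ofHom
            ((((Algz.sectMod A U G).map (homOfLE (Nat.le_succ n)).op).hom).restrict (hle n)))) ≫
        (Scheme.Modules.restrictFunctor U.ι).map
          ((tilde.functor (CommRingCat.of A)).map (incl n)) ≫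
        (restrictTildeSectIso U (G.obj (op n))).hom =
        ((Scheme.Modules.restrictFunctor U.ι).map
          ((tilde.functor (CommRingCat.of A)).map (incl (n + 1))) ≫
        (restrictTildeSectIso U (G.obj (op (n + 1)))).hom) ≫
          G.map (homOfLE (Nat.le_succ n)).op
      have key : (Scheme.Modules.restrictFunctor U.ι).map
          ((tilde.functor (CommRingCat.of A)).map (ModuleCat.ofHom
            ((((Algz.sectMod A U G).map (homOfLE (Nat.le_succ n)).op).hom).restrict (hle n)))) ≫
          (Scheme.Modules.restrictFunctor U.ι).map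
            ((tilde.functor (CommRingCat.of A)).map (incl n)) =
          (Scheme.Modules.restrictFunctor U.ι).map
            ((tilde.functor (CommRingCat.of A)).map (incl (n + 1))) ≫
          (Scheme.Modules.restrictFunctor U.ι).map
            ((tilde.functor (CommRingCat.of A)).map
              ((moduleSpecΓFunctor (R := CommRingCat.of A)).map
                ((Scheme.Modules.pushforward U.ι).map
                  (G.map (homOfLE (Nat.le_succ n)).op)))) := by
        have k0 := congrArg (fun φ => (Scheme.Modules.restrictFunctor U.ι).map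
          ((tilde.functor (CommRingCat.of A)).map φ)) h2
        exact ((Functor.map_comp _ _ _).symm.trans
          ((congrArg (fun φ => (Scheme.Modules.restrictFunctor U.ι).map φ)
            (Functor.map_comp _ _ _).symm).trans
          (k0.trans ((congrArg (fun φ => (Scheme.Modules.restrictFunctor U.ι).map φ)
            (Functor.map_comp _ _ _)).trans (Functor.map_comp _ _ _)))))
      exact (Category.assoc _ _ _).symm.trans
        ((congrArg (fun φ => φ ≫ (restrictTildeSectIso U (G.obj (op n))).hom) key).trans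
          ((Category.assoc _ _ _).trans
            ((congrArg (fun φ => (Scheme.Modules.restrictFunctor U.ι).map
              ((tilde.functor (CommRingCat.of A)).map (incl (n + 1))) ≫ φ) h1).trans
              (Category.assoc _ _ _).symm))))
  haveI : ∀ n : ℕᵒᵖ, IsIso (ψ.app n) := fun n => by
    change IsIso (θ n.unop)
    infer_instance
  haveI : IsIso ψ := NatIso.isIso_of_isIso_app ψ
  exact ⟨(asIso ψ).symm⟩

include hG hfU hcov in
/-- **S0841 in general form** -/
theorem exists_module_system :
    ∃ (M : ℕ → Type u) (_ : ∀ n, AddCommGroup (M n)) (_ : ∀ n, Module A (M n))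
      (g : ∀ n, M (n + 1) →ₗ[A] M n),
      (∀ n, Module.Finite A (M n)) ∧ (∀ n, I ^ (n + 1) • (⊤ : Submodule A (M n)) = ⊥) ∧
      (∀ n (x : M (n + 1)), g n x = 0 → ∃ m : ℕ, ∀ a ∈ (Ideal.span (Set.range f)) ^ m,
        a • x ∈ I ^ (n + 1) • (⊤ : Submodule A (M (n + 1)))) ∧
      (∀ n (y : M n), ∃ m : ℕ, ∀ a ∈ (Ideal.span (Set.range f)) ^ m,
        a • y ∈ LinearMap.range (g n)) ∧
      Nonempty (G ≅ Functor.ofOpSequence
        (X := fun n => (Scheme.Modules.restrictFunctor U.ι).obj (Formal2.tmod A (M n)))
        (fun n => (Scheme.Modules.restrictFunctor U.ι).map (Formal2.tmodMap A (g n)))) := by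
  have hH : ∀ n i, ∃ S : Finset ↑((Algz.sectMod A U G).obj (op n)),
      ∀ x : ↑((Algz.sectMod A U G).obj (op n)), ∃ k : ℕ,
      f i ^ k • x ∈ Submodule.span A (S : Set ↑((Algz.sectMod A U G).obj (op n))) :=
    fun n i => exists_finset_span I U G hG (f i) (hfU i) n
  obtain ⟨M, hgood, hle⟩ := exists_seq f (fun n => ↑((Algz.sectMod A U G).obj (op n)))
    (fun n => ((Algz.sectMod A U G).map (homOfLE (Nat.le_succ n)).op).hom) hH
  refine ⟨fun n => ↥(M n), fun n => inferInstance, fun n => inferInstance,
    fun n => (((Algz.sectMod A U G).map (homOfLE (Nat.le_succ n)).op).hom).restrict (hle n),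
    ?_, ?_, ?_, ?_, ?_⟩
  · exact fun n => Module.Finite.iff_fg.2 (hgood n).fg
  · exact fun n => smul_top_eq_bot (M n) (I ^ (n + 1))
      (fun a ha x => Groth.Agent.Helper1.ProAlg.smul_sectMod_eq_zero U G n (hG.2.1 n) a ha x)
  · intro n x hx
    exact ker_torsion f (((Algz.sectMod A U G).map (homOfLE (Nat.le_succ n)).op).hom)
      (M n) (M (n + 1)) (hle n) (I ^ (n + 1)) (hgood (n + 1))
      (fun i x hx => exists_pow_smul_mem_smul_top I U G hG (f i) (hfU i) n x hx) x hx
  · intro n y
    exact coker_torsion f (((Algz.sectMod A U G).map (homOfLE (Nat.le_succ n)).op).hom)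
      (M n) (M (n + 1)) (hle n) (hgood (n + 1))
      (fun i y => exists_pow_smul_mem_range_tr I U G hG (f i) (hfU i) n y) y
  · exact iso_of_good U I G hG f hfU hcov M hgood hle

end Groth.Agent.Helper1.PunctSys
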