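import Groth.Agent.Helper1.BCFlatCoh2
import Groth.Agent.Helper9.Chart17
import Groth.Agent.Lead.ProperFinA
import Groth.Agent.Helper4.SuppLib
import Groth.Agent.Helper1.KzChase

set_option autoImplicit false

/-!
# A quasi-compact open subscheme of `Spec A` with `Γ = A` and acyclic structure sheaf is `Spec A`
-/

namespace Groth.Agent.Helper1.QAffAcyc

open CategoryTheory Limits AlgebraicGeometry Opposite TopologicalSpace

universe u

variable (A : Type u) [CommRing A] (X : Scheme.{u}) [X.Over (Spec (CommRingCat.of A))]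

/-- the structure morphism, with values in `PrimeSpectrum A` -/
noncomputable def pt (x : X) : PrimeSpectrum A := (X ↘ Spec (CommRingCat.of A)) x

theorem surjective_of_acyclic [IsOpenImmersion (X ↘ Spec (CommRingCat.of A))]
    [QuasiCompact (X ↘ Spec (CommRingCat.of A))]
    (htop : Function.Bijective (((X ↘ Spec (CommRingCat.of A)).appTop.hom.comp
      (Scheme.ΓSpecIso (CommRingCat.of A)).inv.hom : A →+* Γ(X, ⊤))))
    (h : ∀ p : ℕ, 0 < p → Subsingleton (Coh.HH X (Coh.structureModule X) p)) :
    Function.Surjective (pt A X) := by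
  classical
  haveI : IsSeparated (X ↘ Spec (CommRingCat.of A)) := inferInstance
  -- flatness of `O_X` over `Spec A`
  have hfl : FlatMod.IsFlatOver (X ↘ Spec (CommRingCat.of A)) (Coh.structureModule X) :=
    (Groth.Agent.Helper9.Chart17.isFlatOver_unit_iff _).mpr inferInstance
  -- `H⁰(X, O_X) ≃ A`
  have he0 : Nonempty (Coh.HH X (Coh.structureModule X) 0 ≃ₗ[A] A) := by
    letI := ((X ↘ Spec (CommRingCat.of A)).appTop.hom.comp
      (Scheme.ΓSpecIso (CommRingCat.of A)).inv.hom : A →+* Γ(X, ⊤)).toAlgebra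
    let e : Coh.HH X (Coh.structureModule X) 0 ≃ₗ[A] Γ(X, ⊤) :=
      { (Groth.Agent.Lead.ProperFinA.h0Equiv (Coh.structureModule X)) with
        map_smul' := by
          intro a x
          change Groth.Agent.Lead.ProperFinA.h0Equiv (Coh.structureModule X)
            (Coh.toGlobal (X ↘ Spec (CommRingCat.of A)) a • x) = _
          rw [Groth.Agent.Lead.ProperFinA.h0Equiv_smul]
          rfl }
    let e2 : A ≃ₗ[A] Γ(X, ⊤) := LinearEquiv.ofBijective (Algebra.linearMap A Γ(X, ⊤)) htop
    exact ⟨e.trans e2.symm⟩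
  obtain ⟨e0⟩ := he0
  -- all cohomology modules of `O_X` are flat over `A`
  have hH : ∀ p : ℕ, Module.Flat A (Coh.HH X (Coh.structureModule X) p) := by
    intro p
    rcases Nat.eq_zero_or_pos p with rfl | hp
    · exact Module.Flat.of_linearEquiv e0
    · haveI := h p hp
      infer_instance
  -- the ideal of the complement
  let Z : Set (PrimeSpectrum A) := (Set.range (pt A X))ᶜ
  have hclosed : IsClosed Z :=
    ((X ↘ Spec (CommRingCat.of A)).isOpenEmbedding.isOpen_range).isClosed_compl
  let I : Ideal A := PrimeSpectrum.vanishingIdeal Z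
  let A' : Type u := A ⧸ I
  let X' : Scheme.{u} := pullback (X ↘ Spec (CommRingCat.of A))
    (Spec.map (CommRingCat.ofHom (algebraMap A A')))
  letI : X'.Over (Spec (CommRingCat.of A')) := ⟨pullback.snd _ _⟩
  have hsq : IsPullback (pullback.fst (X ↘ Spec (CommRingCat.of A))
      (Spec.map (CommRingCat.ofHom (algebraMap A A')))) (X' ↘ Spec (CommRingCat.of A'))
      (X ↘ Spec (CommRingCat.of A)) (Spec.map (CommRingCat.ofHom (algebraMap A A'))) :=
    IsPullback.of_hasPullback _ _
  have hemp : IsEmpty X' := by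
    refine ⟨fun x' => ?_⟩
    have h1 : (X ↘ Spec (CommRingCat.of A)) ((pullback.fst (X ↘ Spec (CommRingCat.of A))
        (Spec.map (CommRingCat.ofHom (algebraMap A A')))) x') =
        (Spec.map (CommRingCat.ofHom (algebraMap A A'))) ((X' ↘ Spec (CommRingCat.of A')) x') := by
      rw [← Scheme.Hom.comp_apply, ← Scheme.Hom.comp_apply, hsq.w]
    have h3 : PrimeSpectrum.comap (algebraMap A A') ((X' ↘ Spec (CommRingCat.of A')) x') ∈
        Set.range (PrimeSpectrum.comap (algebraMap A A')) := ⟨_, rfl⟩
    rw [_root_.range_comap_of_surjective A' (algebraMap A A') Ideal.Quotient.mk_surjective,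
      Ideal.Quotient.algebraMap_eq, Ideal.mk_ker,
      PrimeSpectrum.zeroLocus_vanishingIdeal_eq_closure, hclosed.closure_eq] at h3
    exact h3 ⟨_, h1⟩
  obtain ⟨e⟩ := Groth.Agent.Helper1.BCFlatCoh.nonempty_equiv A A' X X'
    (pullback.fst _ _) hsq (Coh.structureModule X) hfl hH 0
  have hz : IsZero ((Scheme.Modules.pullback
      (pullback.fst (X ↘ Spec (CommRingCat.of A))
      (Spec.map (CommRingCat.ofHom (algebraMap A A'))))).obj (Coh.structureModule X)) :=
    Groth.Agent.Helper4.SuppLib.isZero_of_stalks _ (fun x => (hemp.false x).elim)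
  haveI := Groth.Agent.Helper1.KzChase.subsingleton_HH_of_isZero hz 0
  haveI : Subsingleton (TensorProduct A (Coh.HH X (Coh.structureModule X) 0) A') :=
    e.symm.toEquiv.subsingleton
  have hsub : Subsingleton A' := by
    let t : TensorProduct A (Coh.HH X (Coh.structureModule X) 0) A' ≃ₗ[A] A' :=
      (TensorProduct.congr e0 (LinearEquiv.refl A A')).trans (TensorProduct.lid A A')
    exact t.symm.toEquiv.subsingleton
  have hI : I = ⊤ := Ideal.Quotient.subsingleton_iff.mp hsub
  intro p
  by_contra hp
  have hpZ : p ∈ Z := hp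
  have h4 : p ∈ PrimeSpectrum.zeroLocus (I : Set A) := by
    rw [PrimeSpectrum.zeroLocus_vanishingIdeal_eq_closure]
    exact subset_closure hpZ
  rw [hI] at h4
  simp at h4

end Groth.Agent.Helper1.QAffAcyc
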