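import Groth.Agent.Helper1.TensSec3

set_option autoImplicit false

/-!
# The canonical map `Γ(F, V) ⊗_A M → Γ(f^*(M~) ⊗ F, V)` and its bijectivity on affine opens
-/

namespace Groth.Agent.Helper1.TensSec

open CategoryTheory Limits Opposite TopologicalSpace AlgebraicGeometry TensorProduct
open Groth.Agent.Helper4.TensorLift Groth.Agent.Lead.BCMap

universe u

variable (A : Type u) [CommRing A] {X : Scheme.{u}} [X.Over (Spec (CommRingCat.of A))]
  (F : X.Modules)

/-- `f^*(M~) ⊗ F` -/
noncomputable abbrev GM (M : ModuleCat.{u} A) : X.Modules := CohB1.tensorMod (PM A X M) F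

/-- the canonical map `Γ(F, V) ⊗_A M → Γ(f^*(M~) ⊗ F, V)` -/
noncomputable def cMap (M : ModuleCat.{u} A) (V : X.Opens) :
    SecA A F V ⊗[A] M →+ Γ(GM A F M, V) :=
  TensorProduct.liftAddHom
    { toFun := fun s =>
        { toFun := fun m => SecTwist.tmul (PM A X M) F V (pb A M V m) s
          map_zero' := by
            rw [map_zero]
            have := tmul_add_left (PM A X M) F V 0 0 s
            rw [add_zero] at this
            exact left_eq_add.mp this
          map_add' := fun m m' => by
            rw [map_add]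
            exact tmul_add_left (PM A X M) F V _ _ s }
      map_zero' := by
        ext m
        change SecTwist.tmul (PM A X M) F V (pb A M V m) 0 = 0
        have := tmul_add_right (PM A X M) F V (pb A M V m) 0 0
        rw [add_zero] at this
        exact left_eq_add.mp this
      map_add' := fun s s' => by
        ext m
        exact tmul_add_right (PM A X M) F V (pb A M V m) s s' }
    (fun a s m => by
      change SecTwist.tmul (PM A X M) F V (pb A M V m) (ρV A V a • (show Γ(F, V) from s)) =
        SecTwist.tmul (PM A X M) F V (pb A M V (a • m)) s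
      rw [pb_smul, tmul_smul_left, tmul_smul_right])

lemma cMap_tmul (M : ModuleCat.{u} A) (V : X.Opens) (s : SecA A F V) (m : M) :
    cMap A F M V (s ⊗ₜ m) = SecTwist.tmul (PM A X M) F V (pb A M V m) s :=
  TensorProduct.liftAddHom_tmul _ _ _ _

set_option maxHeartbeats 1600000 in
/-- **Sections of `f^*(M~) ⊗ F` over an affine open.** -/
theorem cMap_bijective [F.IsQuasicoherent] (M : ModuleCat.{u} A) {V : X.Opens}
    (hV : IsAffineOpen V) : Function.Bijective (cMap A F M V) := by
  -- notation
  let f := X ↘ Spec (CommRingCat.of A)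
  have e : V ≤ f ⁻¹ᵁ ⊤ := le_preimage_top A V
  have hU : IsAffineOpen (⊤ : (Spec (CommRingCat.of A)).Opens) := isAffineOpen_top _
  letI alg : Algebra Γ(Spec (CommRingCat.of A), ⊤) Γ(X, V) := (f.appLE ⊤ V e).hom.toAlgebra
  letI mP : Module Γ(Spec (CommRingCat.of A), ⊤) Γ(PM A X M, V) :=
    Module.compHom _ (f.appLE ⊤ V e).hom
  haveI tP : IsScalarTower Γ(Spec (CommRingCat.of A), ⊤) Γ(X, V) Γ(PM A X M, V) :=
    IsScalarTower.of_compHom _ _ _
  letI mB : Module Γ(X, V) (SecA A F V) := inferInstanceAs (Module Γ(X, V) Γ(F, V))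
  letI mN : Module Γ(Spec (CommRingCat.of A), ⊤) (SecA A F V) :=
    Module.compHom _ (f.appLE ⊤ V e).hom
  haveI tN : IsScalarTower Γ(Spec (CommRingCat.of A), ⊤) Γ(X, V) (SecA A F V) :=
    IsScalarTower.of_compHom _ _ _
  obtain ⟨ρ, hρ, hb⟩ := exists_isBaseChange_pbSec f (tilde (R := CommRingCat.of A) M) hU hV e
  -- step 1: change of rings `A ≅ Γ(Spec A, ⊤)`
  obtain ⟨e₁, he₁⟩ := exists_addEquiv_of_ringEquiv (N := SecA A F V)
    (M₀ := Γ(tilde (R := CommRingCat.of A) M, ⊤))
    (A := A) (M := M) (Scheme.ΓSpecIso (CommRingCat.of A)).inv.hom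
    (ConcreteCategory.bijective_of_isIso (Scheme.ΓSpecIso (CommRingCat.of A)).inv).2
    (fun a s => rfl)
    (AddEquiv.ofBijective (toOpenTop A M) (toOpenTop_bijective A M))
    (fun a m => toOpenTop_smul A M a m)
  -- step 2: cancel the base change
  obtain ⟨e₂, he₂⟩ := exists_addEquiv_of_isBaseChange (N := SecA A F V) hb
  -- step 3: commute and apply `tt`
  let e₃ : SecA A F V ⊗[Γ(X, V)] Γ(PM A X M, V) ≃+ TT (PM A X M) F V :=
    (TensorProduct.comm Γ(X, V) (SecA A F V) Γ(PM A X M, V)).toAddEquiv
  have htt := tt_bijective_of_isAffineOpen (PM A X M) F hV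
  have key : cMap A F M V = (ttAdd (PM A X M) F V).comp
      (e₃.toAddMonoidHom.comp (e₂.toAddMonoidHom.comp e₁.toAddMonoidHom)) := by
    apply addHom_ext'
    intro s m
    rw [cMap_tmul]
    change _ = tt (PM A X M) F V (e₃ (e₂ (e₁ (s ⊗ₜ m))))
    rw [he₁, he₂, hρ]
    rfl
  rw [key]
  exact htt.comp (e₃.bijective.comp (e₂.bijective.comp e₁.bijective))

end Groth.Agent.Helper1.TensSec
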