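import Mathlib

set_option autoImplicit false
open Finset

namespace Groth.Agent.Helper1.QuadForm

variable {n : ℕ}

/-- the basic identity for a symmetric kernel `b`. -/
theorem quad_identity (b : Fin n → Fin n → ℝ) (hb : ∀ i j, b i j = b j i) (y : Fin n → ℝ) :
    ∑ i, ∑ j, b i j * y i * y j =
      ∑ i, (∑ j, b i j) * y i ^ 2 - (1 / 2) * ∑ i, ∑ j, b i j * (y i - y j) ^ 2 := by
  have h1 : ∑ i, ∑ j, b i j * (y i - y j) ^ 2 =
      ∑ i, ∑ j, b i j * y i ^ 2 + ∑ i, ∑ j, b i j * y j ^ 2 - 2 * ∑ i, ∑ j, b i j * y i * y j := by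
    simp only [mul_sum, ← sum_add_distrib, ← sum_sub_distrib]
    apply sum_congr rfl; intro i _; apply sum_congr rfl; intro j _; ring
  have h2 : ∑ i, ∑ j, b i j * y j ^ 2 = ∑ i, ∑ j, b i j * y i ^ 2 := by
    rw [sum_comm]; apply sum_congr rfl; intro i _; apply sum_congr rfl; intro j _; rw [hb]
  have h3 : ∑ i, (∑ j, b i j) * y i ^ 2 = ∑ i, ∑ j, b i j * y i ^ 2 := by
    apply sum_congr rfl; intro i _; rw [sum_mul]
  rw [h1, h2, h3]; ring

/-- Non-positivity of the form and the equality case, in kernel form. -/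
theorem quad_nonpos (b : Fin n → Fin n → ℝ) (hb : ∀ i j, b i j = b j i)
    (hoff : ∀ i j, i ≠ j → 0 ≤ b i j) (hrow : ∀ i, ∑ j, b i j ≤ 0) (y : Fin n → ℝ) :
    ∑ i, ∑ j, b i j * y i * y j ≤ 0 ∧
      (∑ i, ∑ j, b i j * y i * y j = 0 →
        (∀ i, (∑ j, b i j) * y i ^ 2 = 0) ∧ ∀ i j, i ≠ j → b i j * (y i - y j) ^ 2 = 0) := by
  have hterm : ∀ i j, 0 ≤ b i j * (y i - y j) ^ 2 := by
    intro i j
    by_cases hij : i = j
    · subst hij; simp
    · exact mul_nonneg (hoff i j hij) (sq_nonneg _)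
  have hA : ∀ i ∈ (univ : Finset (Fin n)), (∑ j, b i j) * y i ^ 2 ≤ 0 := fun i _ =>
    mul_nonpos_of_nonpos_of_nonneg (hrow i) (sq_nonneg _)
  have hB : ∀ i ∈ (univ : Finset (Fin n)), 0 ≤ ∑ j, b i j * (y i - y j) ^ 2 := fun i _ =>
    sum_nonneg (fun j _ => hterm i j)
  have hA' : ∑ i, (∑ j, b i j) * y i ^ 2 ≤ 0 := sum_nonpos hA
  have hB' : 0 ≤ ∑ i, ∑ j, b i j * (y i - y j) ^ 2 := sum_nonneg hB
  rw [quad_identity b hb y]
  refine ⟨by linarith, fun h0 => ?_⟩
  have e1 : ∑ i, (∑ j, b i j) * y i ^ 2 = 0 := by linarith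
  have e2 : ∑ i, ∑ j, b i j * (y i - y j) ^ 2 = 0 := by linarith
  refine ⟨fun i => (sum_eq_zero_iff_of_nonpos hA).1 e1 i (mem_univ i), fun i j _ => ?_⟩
  have e3 := (sum_eq_zero_iff_of_nonneg hB).1 e2 i (mem_univ i)
  exact (sum_eq_zero_iff_of_nonneg (fun j _ => hterm i j)).1 e3 j (mem_univ j)

/-- matrix version: with `y i = x i / m i`. -/
theorem form_nonpos (A : Matrix (Fin n) (Fin n) ℝ) (m : Fin n → ℝ)
    (hsymm : A.IsSymm) (hA : ∀ i j, i ≠ j → 0 ≤ A i j) (hm : ∀ i, 0 < m i)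
    (hrow : ∀ i, ∑ j, A i j * m j ≤ 0) (x : Fin n → ℝ) :
    dotProduct x (A.mulVec x) ≤ 0 ∧
      (dotProduct x (A.mulVec x) = 0 →
        (∀ i, x i ≠ 0 → ∑ j, A i j * m j = 0) ∧
          ∀ i j, A i j ≠ 0 → x i / m i = x j / m j) := by
  set b : Fin n → Fin n → ℝ := fun i j => A i j * m i * m j with hbdef
  set y : Fin n → ℝ := fun i => x i / m i with hydef
  have hb : ∀ i j, b i j = b j i := by
    intro i j
    simp only [hbdef]
    rw [Matrix.IsSymm.apply hsymm j i]; ring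
  have hoff : ∀ i j, i ≠ j → 0 ≤ b i j := fun i j hij =>
    mul_nonneg (mul_nonneg (hA i j hij) (hm i).le) (hm j).le
  have hrowb : ∀ i, ∑ j, b i j = m i * ∑ j, A i j * m j := by
    intro i
    rw [mul_sum]; apply sum_congr rfl; intro j _; simp only [hbdef]; ring
  have hrow' : ∀ i, ∑ j, b i j ≤ 0 := by
    intro i
    rw [hrowb]
    exact mul_nonpos_of_nonneg_of_nonpos (hm i).le (hrow i)
  have hxy : ∀ i, m i * y i = x i := by
    intro i
    simp only [hydef]
    field_simp [(hm i).ne']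
  have hform : dotProduct x (A.mulVec x) = ∑ i, ∑ j, b i j * y i * y j := by
    simp only [dotProduct, Matrix.mulVec, mul_sum]
    apply sum_congr rfl; intro i _; apply sum_congr rfl; intro j _
    simp only [hbdef]
    rw [← hxy i, ← hxy j]; ring
  obtain ⟨h1, h2⟩ := quad_nonpos b hb hoff hrow' y
  rw [hform]
  refine ⟨h1, fun h0 => ?_⟩
  obtain ⟨h3, h4⟩ := h2 h0
  refine ⟨fun i hxi => ?_, fun i j hij => ?_⟩
  · have := h3 i
    rw [hrowb] at this
    have hyi : y i ≠ 0 := by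
      simp only [hydef]
      exact div_ne_zero hxi (hm i).ne'
    rcases mul_eq_zero.1 this with h | h
    · rcases mul_eq_zero.1 h with h' | h'
      · exact absurd h' (hm i).ne'
      · exact h'
    · exact absurd ((pow_eq_zero_iff (two_ne_zero)).1 h) hyi
  · by_cases hne : i = j
    · subst hne; rfl
    · have := h4 i j hne
      have hbne : b i j ≠ 0 := by
        simp only [hbdef]
        exact mul_ne_zero (mul_ne_zero hij (hm i).ne') (hm j).ne'
      rcases mul_eq_zero.1 this with h | h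
      · exact absurd h hbne
      · have := (pow_eq_zero_iff (two_ne_zero)).1 h
        exact sub_eq_zero.1 this

end Groth.Agent.Helper1.QuadForm
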