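import Mathlib
import Groth.Agent.Helper1.QuasiReg

/-!
# Regular sequences on `A/J` and the ideals `J ∩ Rⁿ`
-/

open MvPolynomial RingTheory.Sequence

namespace Groth.Agent.Helper1.QuasiReg

variable {A : Type*} [CommRing A]

theorem mem_take_ofFn_iff {r : ℕ} (f : Fin r → A) (i : Fin r) (a : A) :
    a ∈ (List.ofFn f).take i ↔ ∃ j : Fin r, j < i ∧ f j = a := by
  rw [List.mem_take_iff_getElem]
  constructor
  · rintro ⟨k, hk, rfl⟩
    have hk2 : k < i.val := by
      simp at hk; omega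
    have hk' : k < r := by omega
    exact ⟨⟨k, hk'⟩, Fin.lt_def.mpr hk2, by simp⟩
  · rintro ⟨j, hj, rfl⟩
    refine ⟨j.val, ?_, by simp⟩
    simp
    exact Fin.lt_def.mp hj

/-- The images in `A/J` of a sequence which is weakly regular on `A/J` form a quasi-regular
sequence of the ring `A/J`. -/
theorem isQuasiRegular_mk (J : Ideal A) {r : ℕ} (f : Fin r → A)
    (hf : IsWeaklyRegular (A ⧸ J) (List.ofFn f)) :
    CAlgX.IsQuasiRegular (fun j => Ideal.Quotient.mk J (f j)) := by
  apply isQuasiRegular_of_regular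
  intro i y hy
  have h1 := (isWeaklyRegular_iff_Fin _ _).mp hf ⟨i.val, by simp⟩
  rw [isSMulRegular_quotient_iff_mem_of_smul_mem] at h1
  have hI : ∀ z : A ⧸ J, z ∈ (Ideal.ofList ((List.ofFn f).take i) • ⊤ : Submodule A (A ⧸ J)) ↔
      z ∈ Ideal.span ((fun j => Ideal.Quotient.mk J (f j)) '' {j | j < i}) := by
    intro z
    rw [Ideal.smul_top_eq_map, Submodule.restrictScalars_mem, Ideal.Quotient.algebraMap_eq,
      Ideal.map_ofList]
    have : {x | x ∈ List.map (Ideal.Quotient.mk J) ((List.ofFn f).take i)} =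
        (fun j => Ideal.Quotient.mk J (f j)) '' {j | j < i} := by
      ext x
      simp only [Set.mem_ofPred_eq, List.mem_map, Set.mem_image]
      constructor
      · rintro ⟨a, ha, rfl⟩
        obtain ⟨j, hj, rfl⟩ := (mem_take_ofFn_iff f i a).mp ha
        exact ⟨j, hj, rfl⟩
      · rintro ⟨j, hj, rfl⟩
        exact ⟨f j, (mem_take_ofFn_iff f i _).mpr ⟨j, hj, rfl⟩, rfl⟩
    unfold Ideal.ofList
    rw [this]
  rw [← hI] at hy ⊢
  apply h1
  have h2 : (List.ofFn f)[(⟨i.val, by simp⟩ : Fin (List.ofFn f).length)] = f i := by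
    simp
  rw [h2, Algebra.smul_def (f i) y, Ideal.Quotient.algebraMap_eq]
  exact hy

/-- Core of the comparison: `J ∩ Rⁿ ⊆ J Rⁿ + Rⁿ⁺¹`. -/
theorem inf_pow_le (J : Ideal A) {r : ℕ} (f : Fin r → A)
    (hf : IsWeaklyRegular (A ⧸ J) (List.ofFn f)) (n : ℕ) :
    J ⊓ Ideal.span (Set.range f) ^ n ≤
      J * Ideal.span (Set.range f) ^ n ⊔ Ideal.span (Set.range f) ^ (n + 1) := by
  have hqr := isQuasiRegular_mk J f hf
  have hrange : Ideal.span (Set.range fun j => Ideal.Quotient.mk J (f j)) =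
      (Ideal.span (Set.range f)).map (Ideal.Quotient.mk J) := by
    rw [Ideal.map_span, ← Set.range_comp]
    rfl
  rintro x ⟨hxJ, hxR⟩
  rw [SetLike.mem_coe, Ideal.mem_span_pow_iff_exists_isHomogeneous] at hxR
  obtain ⟨P, hP, rfl⟩ := hxR
  have hev : eval (fun j => Ideal.Quotient.mk J (f j)) (map (Ideal.Quotient.mk J) P) = 0 := by
    have h2 := MvPolynomial.eval₂_comp_left (Ideal.Quotient.mk J) (RingHom.id A) f P
    rw [eval_map]
    have h3 : eval₂ (Ideal.Quotient.mk J) (fun j => Ideal.Quotient.mk J (f j)) P =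
        Ideal.Quotient.mk J (eval f P) := by
      rw [eval, coe_eval₂Hom]
      simp only [RingHom.comp_id] at h2
      exact h2.symm
    rw [h3]
    exact Ideal.Quotient.eq_zero_iff_mem.mpr hxJ
  have hc : ∀ d, P.coeff d ∈ Ideal.span (Set.range f) ⊔ J := by
    intro d
    have h4 := hqr n (map (Ideal.Quotient.mk J) P) (hP.map _) (by rw [hev]; exact Ideal.zero_mem _) d
    rw [coeff_map, hrange] at h4
    rw [← Ideal.mem_quotient_iff_mem_sup]
    exact h4
  rw [MvPolynomial.eval_eq']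
  refine Ideal.sum_mem _ fun d hd => ?_
  have hmon : ∏ i, f i ^ d i ∈ Ideal.span (Set.range f) ^ n := by
    rw [Ideal.mem_span_pow_iff_exists_isHomogeneous]
    refine ⟨monomial d 1, ?_, by simp [MvPolynomial.eval_monomial]⟩
    have hdeg : d.degree = n := (isHomogeneous_iff_degree P n).mp hP d (mem_support_iff.mp hd)
    exact isHomogeneous_monomial _ hdeg
  obtain ⟨u, hu, j, hj, huj⟩ := Submodule.mem_sup.mp (hc d)
  rw [← huj, add_mul]
  refine Ideal.add_mem _ (Ideal.mem_sup_right ?_) (Ideal.mem_sup_left (Ideal.mul_mem_mul hj hmon))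
  rw [pow_succ']
  exact Ideal.mul_mem_mul hu hmon

/-- `J ∩ Rⁿ = J Rⁿ + (J ∩ R^N)` for `n ≤ N`. -/
theorem inf_pow_eq (J : Ideal A) {r : ℕ} (f : Fin r → A)
    (hf : IsWeaklyRegular (A ⧸ J) (List.ofFn f)) (n N : ℕ) (hnN : n ≤ N) :
    J ⊓ Ideal.span (Set.range f) ^ n =
      J * Ideal.span (Set.range f) ^ n ⊔ J ⊓ Ideal.span (Set.range f) ^ N := by
  apply le_antisymm
  · obtain ⟨k, rfl⟩ := Nat.exists_eq_add_of_le hnN
    clear hnN
    induction k with
    | zero => exact le_sup_right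
    | succ k ih =>
      refine ih.trans (sup_le le_sup_left ?_)
      intro x hx
      have hxJ : x ∈ J := hx.1
      have h1 := inf_pow_le J f hf (n + k) hx
      obtain ⟨a, ha, b, hb, hab⟩ := Submodule.mem_sup.mp h1
      have haJ : a ∈ J := (Ideal.mul_le_left : J * _ ≤ J) ha
      have hbJ : b ∈ J := by
        have : b = x - a := by rw [← hab]; ring
        rw [this]; exact Ideal.sub_mem _ hxJ haJ
      rw [← hab]
      refine Ideal.add_mem _ (Ideal.mem_sup_left ?_) (Ideal.mem_sup_right ⟨hbJ, hb⟩)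
      exact Ideal.mul_mono_right (Ideal.pow_le_pow_right (Nat.le_add_right n k)) ha
  · refine sup_le (le_inf Ideal.mul_le_left Ideal.mul_le_right) ?_
    exact inf_le_inf_left _ (Ideal.pow_le_pow_right hnN)

end Groth.Agent.Helper1.QuasiReg
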