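import Groth.Agent.Helper1.QuotPush3

set_option autoImplicit false
set_option linter.style.haveILetI false

namespace Groth.Agent.Helper1.QuotPush

open CategoryTheory Limits AlgebraicGeometry Opposite
open Groth.Agent.Helper1.Form Groth.Agent.Helper1.ZarIso Groth.Agent.Helper4

universe u

/-- a morphism `i'_* O_{X'} ⟶ i_* O_{X₀}` compatible with the maps from `O_X` is, on global
sections, the pullback of functions along `u : X₀ ⟶ X'` -/
lemma app_top_eq_of_comp {X' X₀ X : Scheme.{u}} (i' : X' ⟶ X) (i : X₀ ⟶ X) (u : X₀ ⟶ X')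
    (hu : u ≫ i' = i) [Epi (unitToPush i')]
    (ψ : (Scheme.Modules.pushforward i').obj (Coh.structureModule X') ⟶
      (Scheme.Modules.pushforward i).obj (Coh.structureModule X₀))
    (hψ : unitToPush i' ≫ ψ = unitToPush i) (s : Γ(X', ⊤)) :
    ψ.app ⊤ (show Γ((Scheme.Modules.pushforward i').obj (Coh.structureModule X'), ⊤) from s) =
      (show Γ((Scheme.Modules.pushforward i).obj (Coh.structureModule X₀), ⊤) from
        u.appTop.hom s) := by
  subst hu
  have : ψ = pushMap u i' := by
    rw [← cancel_epi (unitToPush i'), hψ, unitToPush_pushMap]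
  rw [this]
  rfl

lemma comp_app_apply {X : Scheme.{u}} {M N P : X.Modules} (f : M ⟶ N) (g : N ⟶ P) (U : X.Opens)
    (x : Γ(M, U)) : (f ≫ g).app U x = g.app U (f.app U x) := rfl

lemma id_app_apply {X : Scheme.{u}} {M : X.Modules} (U : X.Opens)
    (x : Γ(M, U)) : (𝟙 M : M ⟶ M).app U x = x := rfl

end Groth.Agent.Helper1.QuotPush
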