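import Mathlib
import Groth.Agent.Helper1.PR2
import Groth.Agent.Helper1.CN3
import Groth.Agent.Helper1.FB3
import Groth.Agent.Helper1.PA3
import Groth.Agent.Helper1.AFC4

/-!
# Fibres of the retraction of the pointed projective cone (relative case)
-/

set_option autoImplicit false
set_option linter.style.haveILetI false

namespace Groth.Agent.Helper1.RF

open CategoryTheory Limits AlgebraicGeometry TopologicalSpace Opposite RelProj RelCone
  HomogeneousLocalization Groth.Agent.Helper1.RP Groth.Agent.Helper1.PC Groth.Agent.Helper1.AC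
  Groth.Agent.Helper1.CN
open scoped HomogeneousIdeal

universe u

section ring

variable {A σ : Type u} [CommRing A] [SetLike σ A] [AddSubgroupClass σ A] {𝒜 : ℕ → σ}
  [GradedRing 𝒜]

/-- if the ring is generated by its parts of degree `0` and `1`, the irrelevant ideal is generated
in degree one -/
theorem irrelevant_le_span_degOne
    (hgen : Subring.closure ((𝒜 0 : Set A) ∪ (𝒜 1 : Set A)) = ⊤) :
    (𝒜₊).toIdeal ≤ Ideal.span (𝒜 1 : Set A) := by
  have hI : (Ideal.span (𝒜 1 : Set A)).IsHomogeneous 𝒜 :=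
    Ideal.homogeneous_span 𝒜 _ (fun x hx => ⟨1, hx⟩)
  have key : ∀ a : A, ∃ a0 ∈ 𝒜 0, a - a0 ∈ Ideal.span (𝒜 1 : Set A) := by
    intro a
    have ha : a ∈ Subring.closure ((𝒜 0 : Set A) ∪ (𝒜 1 : Set A)) := by rw [hgen]; trivial
    induction ha using Subring.closure_induction with
    | mem x hx =>
      rcases hx with hx | hx
      · exact ⟨x, hx, by rw [sub_self]; exact zero_mem _⟩
      · refine ⟨0, zero_mem _, ?_⟩
        rw [sub_zero]
        exact Ideal.subset_span hx
    | zero => exact ⟨0, zero_mem _, by rw [sub_self]; exact zero_mem _⟩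
    | one => exact ⟨1, SetLike.GradedOne.one_mem, by rw [sub_self]; exact zero_mem _⟩
    | add x y _ _ hx hy =>
      obtain ⟨x0, hx0, hx1⟩ := hx
      obtain ⟨y0, hy0, hy1⟩ := hy
      refine ⟨x0 + y0, add_mem hx0 hy0, ?_⟩
      have : x + y - (x0 + y0) = (x - x0) + (y - y0) := by ring
      rw [this]
      exact add_mem hx1 hy1
    | neg x _ hx =>
      obtain ⟨x0, hx0, hx1⟩ := hx
      refine ⟨-x0, neg_mem hx0, ?_⟩
      have : -x - -x0 = -(x - x0) := by ring
      rw [this]
      exact neg_mem hx1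
    | mul x y _ _ hx hy =>
      obtain ⟨x0, hx0, hx1⟩ := hx
      obtain ⟨y0, hy0, hy1⟩ := hy
      refine ⟨x0 * y0, by simpa using SetLike.mul_mem_graded hx0 hy0, ?_⟩
      have : x * y - x0 * y0 = (x - x0) * y + x0 * (y - y0) := by ring
      rw [this]
      exact add_mem (Ideal.mul_mem_right _ _ hx1) (Ideal.mul_mem_left _ _ hy1)
  rw [HomogeneousIdeal.toIdeal_irrelevant_le]
  intro i hi x hx
  obtain ⟨a0, ha0, h1⟩ := key x
  have h2 := hI i h1
  have h3 : ((DirectSum.decompose 𝒜 (x - a0)) i : A) = x := by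
    rw [DirectSum.decompose_sub, DirectSum.sub_apply, AddSubgroupClass.coe_sub,
      DirectSum.decompose_of_mem_same 𝒜 hx, DirectSum.decompose_of_mem_ne 𝒜 ha0 hi.ne, sub_zero]
  rw [h3] at h2
  exact h2

theorem exists_degOne_notMem
    (hgen : Subring.closure ((𝒜 0 : Set A) ∪ (𝒜 1 : Set A)) = ⊤)
    (I : Ideal A) (hI : ¬ (𝒜₊).toIdeal ≤ I) : ∃ f ∈ 𝒜 1, f ∉ I := by
  by_contra hcon
  push Not at hcon
  apply hI
  refine (irrelevant_le_span_degOne hgen).trans ?_
  rw [Ideal.span_le]
  exact fun f hf => hcon f hf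

end ring

end Groth.Agent.Helper1.RF
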