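import Mathlib
import Groth.Agent.Helper1.RF1

/-!
# Fibres of the retraction of the pointed projective cone (relative case), part 2
-/

set_option autoImplicit false
set_option linter.style.haveILetI false

namespace Groth.Agent.Helper1.RF

open CategoryTheory Limits AlgebraicGeometry TopologicalSpace Opposite RelProj RelCone
  HomogeneousLocalization Groth.Agent.Helper1.RP Groth.Agent.Helper1.PC Groth.Agent.Helper1.AC
  Groth.Agent.Helper1.CN
open scoped HomogeneousIdeal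

universe u

noncomputable section

variable {Y PC P : Scheme.{u}} {𝒮 𝒮h : QCGrAlg Y} {ι : 𝒮.toQCAlg ⟶ 𝒮h.toQCAlg}
  {z : 𝒮h.presheaf.obj (op ⊤)} (hz : IsPolyOver 𝒮 𝒮h ι z)
  {pC : PC ⟶ Y}
  {chartC : ∀ (U : Y.Opens) (hU : IsAffineOpen U),
    (((pC ⁻¹ᵁ U : PC.Opens) : Scheme.{u}) ≅ Proj (𝒮h.deg U hU))}
  {p : P ⟶ Y}
  {chart : ∀ (U : Y.Opens) (hU : IsAffineOpen U),
    (((p ⁻¹ᵁ U : P.Opens) : Scheme.{u}) ≅ Proj (𝒮.deg U hU))}

theorem coneChart_apply_ι (U : Y.Opens) (hU : IsAffineOpen U) {d : ℕ} (hd : 0 < d)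
    (f : 𝒮.presheaf.obj (op U)) (hf : f ∈ 𝒮.deg U hU d)
    (w : Spec (CommRingCat.of (Away (𝒮h.deg U hU) ((gradedHomAt ι hz.graded U hU) f)))) :
    (pointedProjCone 𝒮 hz pC chartC).ι ((coneChart hz pC chartC U hU hd f hf) w) =
      (emb pC chartC U hU) ((Proj.awayι (𝒮h.deg U hU) ((gradedHomAt ι hz.graded U hU) f)
        ((gradedHomAt ι hz.graded U hU).2 hf) hd) w) :=
  congrArg (fun t : _ ⟶ PC => t w) (coneChart_ι hz pC chartC U hU hd f hf)

/-- a point of `Ê` over `U` whose chart coordinate lies in `D_+(ι f)` is in the chart of `f` -/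
theorem exists_coneChart_of_mem (x' : ((pointedProjCone 𝒮 hz pC chartC : PC.Opens) : Scheme.{u}))
    (U : Y.Opens) (hU : IsAffineOpen U) (w' : Proj (𝒮h.deg U hU))
    (hw' : (emb pC chartC U hU) w' = (pointedProjCone 𝒮 hz pC chartC).ι x')
    {d : ℕ} (hd : 0 < d) (f : 𝒮.presheaf.obj (op U)) (hf : f ∈ 𝒮.deg U hU d)
    (hwf : w' ∈ Proj.basicOpen (𝒮h.deg U hU) ((gradedHomAt ι hz.graded U hU) f)) :
    ∃ w, (coneChart hz pC chartC U hU hd f hf) w = x' := by
  rw [← Proj.opensRange_awayι (𝒮h.deg U hU) ((gradedHomAt ι hz.graded U hU) f)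
    ((gradedHomAt ι hz.graded U hU).2 hf) hd] at hwf
  obtain ⟨w, hw⟩ := hwf
  refine ⟨w, (pointedProjCone 𝒮 hz pC chartC).ι.injective ?_⟩
  rw [coneChart_apply_ι, ← hw']
  exact congrArg _ hw

variable (hP : IsRelProj 𝒮 p chart) (hPC : IsRelProj 𝒮h pC chartC)
  {r : ((pointedProjCone 𝒮 hz pC chartC : PC.Opens) : Scheme.{u}) ⟶ P}
  (hr : IsRetr hz pC chartC p chart r)

include hPC in
/-- the chart coordinate of a point of `Ê` lying over `U` -/
theorem exists_coord (x' : ((pointedProjCone 𝒮 hz pC chartC : PC.Opens) : Scheme.{u}))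
    (U : Y.Opens) (hU : IsAffineOpen U)
    (hx' : pC ((pointedProjCone 𝒮 hz pC chartC).ι x') ∈ U) :
    ∃ w' : Proj (𝒮h.deg U hU), w' ∈ domOpen (gradedHomAt ι hz.graded U hU) ∧
      (emb pC chartC U hU) w' = (pointedProjCone 𝒮 hz pC chartC).ι x' := by
  have h1 : (pointedProjCone 𝒮 hz pC chartC).ι x' ∈
      pointedProjCone 𝒮 hz pC chartC ⊓ pC ⁻¹ᵁ U := ⟨x'.2, hx'⟩
  rw [pointedProjCone_inf_preimage hz hPC U hU] at h1
  obtain ⟨w', hw', hw'x⟩ := h1
  exact ⟨w', hw', hw'x⟩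

include hP hPC hr in
theorem isRetr_preimage (U : Y.Opens) (hU : IsAffineOpen U) {d : ℕ} (hd : 0 < d)
    (f : 𝒮.presheaf.obj (op U)) (hf : f ∈ 𝒮.deg U hU d) :
    r ⁻¹ᵁ (Proj.awayι (𝒮.deg U hU) f hf hd ≫ emb p chart U hU).opensRange =
      (coneChart hz pC chartC U hU hd f hf).opensRange := by
  ext x'
  constructor
  · rintro ⟨y, hy⟩
    have hy' : (emb p chart U hU) ((Proj.awayι (𝒮.deg U hU) f hf hd) y) = r x' := hy
    have h1 : pC ((pointedProjCone 𝒮 hz pC chartC).ι x') ∈ U := by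
      have := congrArg (fun t : _ ⟶ Y => t x') (isRetr_comm hz hP hPC hr)
      have h2 : p (r x') ∈ U := by
        rw [← hy']
        exact emb_mem p chart U hU _
      exact this ▸ h2
    obtain ⟨w', hw'd, hw'⟩ := exists_coord hz hPC x' U hU h1
    rw [mem_domOpen_iff_homog] at hw'd
    obtain ⟨e, he, g, hg, hwg⟩ := hw'd
    have hwg' := hwg
    rw [← Proj.opensRange_awayι (𝒮h.deg U hU) ((gradedHomAt ι hz.graded U hU) g)
      ((gradedHomAt ι hz.graded U hU).2 hg) he] at hwg'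
    obtain ⟨w, hw⟩ := hwg'
    have hx'w : x' = (coneChart hz pC chartC U hU he g hg) w := by
      apply (pointedProjCone 𝒮 hz pC chartC).ι.injective
      rw [coneChart_apply_ι, ← hw']
      exact congrArg _ hw.symm
    have hrw := congrArg (fun t : _ ⟶ P => t w) (coneChart_r hz hr U hU he g hg)
    have hrw' : r x' = (emb p chart U hU) ((Proj.awayι (𝒮.deg U hU) g hg he)
        ((Spec.map (CommRingCat.ofHom (Away.map (gradedHomAt ι hz.graded U hU) g))) w)) := by
      rw [hx'w]; exact hrw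
    have hq : (Proj.awayι (𝒮.deg U hU) g hg he)
        ((Spec.map (CommRingCat.ofHom (Away.map (gradedHomAt ι hz.graded U hU) g))) w) =
        (Proj.awayι (𝒮.deg U hU) f hf hd) y :=
      (emb p chart U hU).injective (hrw'.symm.trans hy'.symm)
    have hqf : (Proj.awayι (𝒮.deg U hU) g hg he)
        ((Spec.map (CommRingCat.ofHom (Away.map (gradedHomAt ι hz.graded U hU) g))) w) ∈
        Proj.basicOpen (𝒮.deg U hU) f := by
      rw [hq, ← Proj.opensRange_awayι (𝒮.deg U hU) f hf hd]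
      exact ⟨y, rfl⟩
    rw [awayι_map_mem_basicOpen_iff (gradedHomAt ι hz.graded U hU) he hd hg hf w] at hqf
    have hw'f : w' ∈ Proj.basicOpen (𝒮h.deg U hU) ((gradedHomAt ι hz.graded U hU) f) := by
      rw [← hw]; exact hqf
    exact exists_coneChart_of_mem hz x' U hU w' hw' hd f hf hw'f
  · rintro ⟨w, rfl⟩
    refine ⟨(Spec.map (CommRingCat.ofHom (Away.map (gradedHomAt ι hz.graded U hU) f))) w, ?_⟩
    exact (congrArg (fun t : _ ⟶ P => t w) (coneChart_r hz hr U hU hd f hf)).symm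

end

end Groth.Agent.Helper1.RF
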