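import Mathlib
import Groth.Agent.Helper1.RF2

/-!
# Fibres of the retraction of the pointed projective cone (relative case), part 3:
finite type and affine-line fibres
-/

set_option autoImplicit false
set_option linter.style.haveILetI false

namespace Groth.Agent.Helper1.RF

open CategoryTheory Limits AlgebraicGeometry TopologicalSpace Opposite RelProj RelCone
  HomogeneousLocalization Groth.Agent.Helper1.RP Groth.Agent.Helper1.PC Groth.Agent.Helper1.AC
  Groth.Agent.Helper1.CN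
open scoped HomogeneousIdeal

universe u

noncomputable section

variable {Y PC P : Scheme.{u}} {𝒮 𝒮h : QCGrAlg Y} {ι : 𝒮.toQCAlg ⟶ 𝒮h.toQCAlg}
  {z : 𝒮h.presheaf.obj (op ⊤)} (hz : IsPolyOver 𝒮 𝒮h ι z)
  {pC : PC ⟶ Y}
  {chartC : ∀ (U : Y.Opens) (hU : IsAffineOpen U),
    (((pC ⁻¹ᵁ U : PC.Opens) : Scheme.{u}) ≅ Proj (𝒮h.deg U hU))}
  {p : P ⟶ Y}
  {chart : ∀ (U : Y.Opens) (hU : IsAffineOpen U),
    (((p ⁻¹ᵁ U : P.Opens) : Scheme.{u}) ≅ Proj (𝒮.deg U hU))}
  (hP : IsRelProj 𝒮 p chart) (hPC : IsRelProj 𝒮h pC chartC)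
  {r : ((pointedProjCone 𝒮 hz pC chartC : PC.Opens) : Scheme.{u}) ⟶ P}
  (hr : IsRetr hz pC chartC p chart r) (hgen : 𝒮.IsGenDegOne)

theorem finiteType_awayMap (U : Y.Opens) (hU : IsAffineOpen U) {f : 𝒮.presheaf.obj (op U)}
    (hf : f ∈ 𝒮.deg U hU 1) : (Away.map (gradedHomAt ι hz.graded U hU) f).FiniteType := by
  letI := (Away.map (gradedHomAt ι hz.graded U hU) f).toAlgebra
  have h1 : Algebra.FiniteType (Away (𝒮.deg U hU) f) (Polynomial (Away (𝒮.deg U hU) f)) :=
    inferInstance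
  exact h1.equiv (PA.polyAwayEquiv (gradedHomAt ι hz.graded U hU) (restrictTop 𝒮h z U)
    (hz.deg_z U hU) (hz.bij U hU) hf).symm

include hPC hgen in
theorem exists_degOne_coneChart
    (x' : ((pointedProjCone 𝒮 hz pC chartC : PC.Opens) : Scheme.{u})) :
    ∃ (U : Y.Opens) (hU : IsAffineOpen U) (f : 𝒮.presheaf.obj (op U))
      (hf : f ∈ 𝒮.deg U hU 1) (w : _), (coneChart hz pC chartC U hU one_pos f hf) w = x' := by
  obtain ⟨_, ⟨U, hU : IsAffineOpen U, rfl⟩, hxU, -⟩ :=
    Y.isBasis_affineOpens.exists_subset_of_mem_open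
      (Set.mem_univ (pC ((pointedProjCone 𝒮 hz pC chartC).ι x'))) isOpen_univ
  obtain ⟨w', hw'd, hw'⟩ := exists_coord hz hPC x' U hU hxU
  rw [RelCone.mem_domOpen] at hw'd
  obtain ⟨g, hg, hgw⟩ := hw'd
  let y' : ProjectiveSpectrum (𝒮h.deg U hU) := w'
  have hI : ¬ (HomogeneousIdeal.irrelevant (𝒮.deg U hU)).toIdeal ≤
      Ideal.comap ((gradedHomAt ι hz.graded U hU : 𝒮.deg U hU →+*ᵍ 𝒮h.deg U hU) :
        𝒮.presheaf.obj (op U) →+* 𝒮h.presheaf.obj (op U)) y'.asHomogeneousIdeal.toIdeal :=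
    fun hle => hgw (hle hg)
  obtain ⟨f, hf, hfw⟩ := exists_degOne_notMem (hgen U hU) _ hI
  have hwf : w' ∈ Proj.basicOpen (𝒮h.deg U hU) ((gradedHomAt ι hz.graded U hU) f) := hfw
  obtain ⟨w, hw⟩ := exists_coneChart_of_mem hz x' U hU w' hw' one_pos f hf hwf
  exact ⟨U, hU, f, hf, w, hw⟩

include hPC hr hgen in
theorem r_locallyOfFiniteType : LocallyOfFiniteType r := by
  apply AFC.of_charts @LocallyOfFiniteType
  intro x'
  obtain ⟨U, hU, f, hf, w, hw⟩ := exists_degOne_coneChart hz hPC hgen x'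
  refine ⟨_, coneChart hz pC chartC U hU one_pos f hf, inferInstance, ⟨w, hw⟩, ?_⟩
  rw [coneChart_r hz hr U hU one_pos f hf]
  have : LocallyOfFiniteType (Spec.map (CommRingCat.ofHom
      (Away.map (gradedHomAt ι hz.graded U hU) f))) := by
    rw [HasRingHomProperty.Spec_iff (P := @LocallyOfFiniteType)]
    exact finiteType_awayMap hz U hU hf
  infer_instance

include hP hPC hr hgen in
/-- **the fibres of the canonical retraction `Ê → Proj(𝒮)` are affine lines** -/
theorem r_fibre (x : P) :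
    ∃ e : pullback r (P.fromSpecResidueField x) ≅
        Spec (CommRingCat.of (Polynomial (P.residueField x))),
      e.hom ≫ Spec.map (CommRingCat.ofHom (algebraMap (P.residueField x)
        (Polynomial (P.residueField x)))) = pullback.snd r (P.fromSpecResidueField x) := by
  obtain ⟨_, ⟨U, hU : IsAffineOpen U, rfl⟩, hxU, -⟩ :=
    Y.isBasis_affineOpens.exists_subset_of_mem_open (Set.mem_univ (p x)) isOpen_univ
  have hx : x ∈ (emb p chart U hU).opensRange := by
    rw [opensRange_emb]; exact hxU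
  obtain ⟨q, rfl⟩ := hx
  let y : ProjectiveSpectrum (𝒮.deg U hU) := q
  obtain ⟨f, hf, hfq⟩ := exists_degOne_notMem (hgen U hU) y.asHomogeneousIdeal.toIdeal
    y.not_irrelevant_le
  have hqf : q ∈ (Proj.awayι (𝒮.deg U hU) f hf one_pos).opensRange := by
    rw [Proj.opensRange_awayι, Proj.mem_basicOpen]
    exact hfq
  have hx : (emb p chart U hU) q ∈
      (Proj.awayι (𝒮.deg U hU) f hf one_pos ≫ emb p chart U hU).opensRange := by
    obtain ⟨y', hy'⟩ := hqf
    refine ⟨y', ?_⟩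
    show (emb p chart U hU) ((Proj.awayι (𝒮.deg U hU) f hf one_pos) y') = _
    exact congrArg _ hy'
  letI := (Away.map (gradedHomAt ι hz.graded U hU) f).toAlgebra
  exact FB.exists_fibre_iso_polynomial r _ (Proj.awayι (𝒮.deg U hU) f hf one_pos ≫ emb p chart U hU)
    (coneChart hz pC chartC U hU one_pos f hf) (coneChart_r hz hr U hU one_pos f hf)
    (isRetr_preimage hz hP hPC hr U hU one_pos f hf) hx
    (PA.polyAwayEquiv (gradedHomAt ι hz.graded U hU) (restrictTop 𝒮h z U)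
      (hz.deg_z U hU) (hz.bij U hU) hf)

end

end Groth.Agent.Helper1.RF
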