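import Mathlib
import Groth.Agent.Helper1.RF3

/-!
# The affine cone inside the projective cone on the chart `D_+(ι f)`: ring-level compatibility
-/

set_option autoImplicit false
set_option linter.style.haveILetI false

namespace Groth.Agent.Helper1.RF

open CategoryTheory Limits AlgebraicGeometry TopologicalSpace Opposite
  HomogeneousLocalization
open scoped HomogeneousIdeal

universe u

noncomputable section

variable {A σ : Type u} [CommRing A] [SetLike σ A] [AddSubgroupClass σ A] {𝒜 : ℕ → σ}
  [GradedRing 𝒜]
variable {B τ : Type u} [CommRing B] [SetLike τ B] [AddSubgroupClass τ B] {ℬ : ℕ → τ}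
  [GradedRing ℬ]
variable (ι : 𝒜 →+*ᵍ ℬ) (z : B) (hz : z ∈ ℬ 1) (ev : B →+* A) (hev : ∀ a, ev (ι a) = a)
  (hevz : ev z = 1)

/-- `B_y → A_f` induced by `ev`, for `y` with `ev y` a power-divisor of `f` -/
def locEv (f : A) (y : B) (hy : IsUnit (algebraMap A (Localization.Away f) (ev y))) :
    Localization.Away y →+* Localization.Away f :=
  IsLocalization.Away.lift y (g := (algebraMap A (Localization.Away f)).comp ev) hy

theorem locEv_algebraMap (f : A) (y : B)
    (hy : IsUnit (algebraMap A (Localization.Away f) (ev y))) (b : B) :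
    locEv ev f y hy (algebraMap B (Localization.Away y) b) =
      algebraMap A (Localization.Away f) (ev b) :=
  IsLocalization.Away.lift_eq _ _ _

/-- the degree-zero version -/
def gam (f : A) (y : B) (hy : IsUnit (algebraMap A (Localization.Away f) (ev y))) :
    Away ℬ y →+* Localization.Away f :=
  (locEv ev f y hy).comp (algebraMap (Away ℬ y) (Localization.Away y))

include hev in
theorem isUnit_ιf (f : A) : IsUnit (algebraMap A (Localization.Away f) (ev (ι f))) := by
  rw [hev]; exact IsLocalization.Away.algebraMap_isUnit f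

include hevz in
theorem isUnit_z (f : A) : IsUnit (algebraMap A (Localization.Away f) (ev z)) := by
  rw [hevz, map_one]; exact isUnit_one

include hev hevz in
theorem isUnit_x (f : A) : IsUnit (algebraMap A (Localization.Away f) (ev (ι f * z))) := by
  rw [map_mul, hev, hevz, mul_one]; exact IsLocalization.Away.algebraMap_isUnit f

/-- `gam` is compatible with the transition maps `B_(y) → B_(y y')` -/
theorem gam_awayMap (f : A) {y y' x : B} {e : ℕ} (hy' : y' ∈ ℬ e) (hx : x = y * y')
    (hy : IsUnit (algebraMap A (Localization.Away f) (ev y)))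
    (hxu : IsUnit (algebraMap A (Localization.Away f) (ev x))) :
    (gam (ℬ := ℬ) ev f x hxu).comp (awayMap ℬ hy' hx) = gam ev f y hy := by
  ext q
  show locEv ev f x hxu ((awayMap ℬ hy' hx q).val) = locEv ev f y hy q.val
  rw [val_awayMap]
  have h : (locEv ev f x hxu).comp (Localization.awayLift (algebraMap B (Localization.Away x)) y
      (isUnit_of_dvd_unit (map_dvd _ (Dvd.intro y' hx.symm))
        (IsLocalization.Away.algebraMap_isUnit x))) = locEv ev f y hy := by
    apply IsLocalization.ringHom_ext (Submonoid.powers y)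
    ext b
    simp only [RingHom.comp_apply]
    rw [IsLocalization.Away.lift_eq, locEv_algebraMap, locEv_algebraMap]
  exact congrArg (fun t : Localization.Away y →+* Localization.Away f => t q.val) h

include hev in
/-- `gam` restricted along `Away.map ι f` is the inclusion `A_(f) → A_f` -/
theorem gam_awayMapι {d : ℕ} {f : A} (hf : f ∈ 𝒜 d) :
    (gam (ℬ := ℬ) ev f (ι f) (isUnit_ιf ι ev hev f)).comp (Away.map ι f) =
      algebraMap (Away 𝒜 f) (Localization.Away f) := by
  ext q
  obtain ⟨n, a, ha, rfl⟩ := Away.mk_surjective 𝒜 hf q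
  show locEv ev f (ι f) (isUnit_ιf ι ev hev f) ((Away.map ι f (Away.mk 𝒜 hf n a ha)).val) =
    (Away.mk 𝒜 hf n a ha).val
  rw [Away.map_mk, Away.val_mk, Away.val_mk]
  have hu : IsUnit (algebraMap A (Localization.Away f) (f ^ n)) := by
    rw [map_pow]; exact (IsLocalization.Away.algebraMap_isUnit f).pow n
  apply hu.mul_left_injective
  show _ * _ = _ * _
  have e1 : Localization.mk a (⟨f ^ n, n, rfl⟩ : Submonoid.powers f) *
      algebraMap A (Localization.Away f) (f ^ n) = algebraMap A (Localization.Away f) a := by
    rw [Localization.mk_eq_mk']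
    exact IsLocalization.mk'_spec (Localization.Away f) a (⟨f ^ n, n, rfl⟩ : Submonoid.powers f)
  have e2 : Localization.mk (ι a) (⟨ι f ^ n, n, rfl⟩ : Submonoid.powers (ι f)) *
      algebraMap B (Localization.Away (ι f)) (ι f ^ n) =
      algebraMap B (Localization.Away (ι f)) (ι a) := by
    rw [Localization.mk_eq_mk']
    exact IsLocalization.mk'_spec (Localization.Away (ι f)) (ι a)
      (⟨ι f ^ n, n, rfl⟩ : Submonoid.powers (ι f))
  have e3 := congrArg (locEv ev f (ι f) (isUnit_ιf ι ev hev f)) e2
  have e4 : ev (ι f ^ n) = f ^ n := by rw [map_pow, hev]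
  rw [map_mul, locEv_algebraMap, locEv_algebraMap, e4, hev] at e3
  rw [e1]
  exact e3

end

end Groth.Agent.Helper1.RF
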