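import Mathlib
import Groth.Agent.Helper1.RF4

/-!
# The affine cone inside the projective cone on the chart `D_+(ι f)`: scheme-level compatibility
-/

set_option autoImplicit false
set_option linter.style.haveILetI false

namespace Groth.Agent.Helper1.RF

open CategoryTheory Limits AlgebraicGeometry TopologicalSpace Opposite
  HomogeneousLocalization
open scoped HomogeneousIdeal

universe u

noncomputable section

variable {A σ : Type u} [CommRing A] [SetLike σ A] [AddSubgroupClass σ A] {𝒜 : ℕ → σ}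
  [GradedRing 𝒜]
variable {B τ : Type u} [CommRing B] [SetLike τ B] [AddSubgroupClass τ B] {ℬ : ℕ → τ}
  [GradedRing ℬ]
variable (ι : 𝒜 →+*ᵍ ℬ) (z : B) (hz : z ∈ ℬ 1) (ev : B →+* A) (hev : ∀ a, ev (ι a) = a)
  (hevz : ev z = 1)

theorem awayι_congr_deg {x : B} {m m' : ℕ} (e : m = m') (hx : x ∈ ℬ m) (hm : 0 < m)
    (hx' : x ∈ ℬ m') (hm' : 0 < m') : Proj.awayι ℬ x hx hm = Proj.awayι ℬ x hx' hm' := by
  subst e; rfl

theorem spec_comp {R S T : Type u} [CommRing R] [CommRing S] [CommRing T] (g : S →+* T)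
    (h : R →+* S) :
    Spec.map (CommRingCat.ofHom (g.comp h)) =
      Spec.map (CommRingCat.ofHom g) ≫ Spec.map (CommRingCat.ofHom h) := by
  rw [← Spec.map_comp, ← CommRingCat.ofHom_comp]

include hev hevz in
/-- on `Spec A_f`, the two descriptions of the immersion of the affine cone agree -/
theorem spec_gam_awayι {d : ℕ} (hd : 0 < d) {f : A} (hf : f ∈ 𝒜 d) :
    Spec.map (CommRingCat.ofHom (gam (ℬ := ℬ) ev f z (isUnit_z z ev hevz f))) ≫
        Proj.awayι ℬ z hz one_pos =
      Spec.map (CommRingCat.ofHom (gam (ℬ := ℬ) ev f (ι f) (isUnit_ιf ι ev hev f))) ≫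
        Proj.awayι ℬ (ι f) (ι.map_mem hf) hd := by
  have hxu := isUnit_x ι z ev hev hevz f
  have hx1 : ι f * z = ι f * z := rfl
  have hx2 : ι f * z = z * ι f := mul_comm _ _
  have hιf : ι f ∈ ℬ d := ι.map_mem hf
  rw [← gam_awayMap ev f hz hx1 (isUnit_ιf ι ev hev f) hxu,
    ← gam_awayMap ev f hιf hx2 (isUnit_z z ev hevz f) hxu,
    spec_comp, spec_comp, Category.assoc, Category.assoc,
    Proj.SpecMap_awayMap_awayι ℬ hιf hd hz hx1,
    Proj.SpecMap_awayMap_awayι ℬ hz one_pos hιf hx2]
  congr 1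

/-- `A → A_f` after the base-valued `awayZ` is `gam` -/
theorem alg_comp_awayZ (f : A) (hu : IsUnit (ev z))
    (hu' : IsUnit (algebraMap A (Localization.Away f) (ev z))) :
    (algebraMap A (Localization.Away f)).comp
      ((IsLocalization.Away.lift z (g := ev) hu).comp
        (algebraMap (Away ℬ z) (Localization.Away z))) = gam (ℬ := ℬ) ev f z hu' := by
  unfold gam
  rw [← RingHom.comp_assoc]
  congr 1
  apply IsLocalization.ringHom_ext (Submonoid.powers z)
  ext b
  simp only [RingHom.comp_apply]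
  rw [IsLocalization.Away.lift_eq, locEv_algebraMap]

end

end Groth.Agent.Helper1.RF
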