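import Mathlib
import Groth.Agent.Helper1.RF5

/-!
# Fibres of the retraction of the pointed affine cone (relative case)
-/

set_option autoImplicit false
set_option linter.style.haveILetI false

namespace Groth.Agent.Helper1.RF

open CategoryTheory Limits AlgebraicGeometry TopologicalSpace Opposite RelProj RelCone
  HomogeneousLocalization Groth.Agent.Helper1.RP Groth.Agent.Helper1.PC Groth.Agent.Helper1.AC
  Groth.Agent.Helper1.CN
open scoped HomogeneousIdeal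

universe u

noncomputable section

variable {Y PC P : Scheme.{u}} {𝒮 𝒮h : QCGrAlg Y} {ι : 𝒮.toQCAlg ⟶ 𝒮h.toQCAlg}
  {z : 𝒮h.presheaf.obj (op ⊤)} (hz : IsPolyOver 𝒮 𝒮h ι z)
  {pC : PC ⟶ Y}
  {chartC : ∀ (U : Y.Opens) (hU : IsAffineOpen U),
    (((pC ⁻¹ᵁ U : PC.Opens) : Scheme.{u}) ≅ Proj (𝒮h.deg U hU))}
  {p : P ⟶ Y}
  {chart : ∀ (U : Y.Opens) (hU : IsAffineOpen U),
    (((p ⁻¹ᵁ U : P.Opens) : Scheme.{u}) ≅ Proj (𝒮.deg U hU))}

/-- the localization map as a morphism of affine schemes into the chart of the affine cone -/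
def locSpec (U : Y.Opens) (f : 𝒮.presheaf.obj (op U)) :
    Spec (CommRingCat.of (Localization.Away f)) ⟶ Spec (𝒮.presheaf.obj (op U)) :=
  Spec.map (CommRingCat.ofHom (algebraMap (𝒮.presheaf.obj (op U)) (Localization.Away f)))

instance (U : Y.Opens) (f : 𝒮.presheaf.obj (op U)) : IsOpenImmersion (locSpec (𝒮 := 𝒮) U f) := by
  unfold locSpec; infer_instance

theorem mem_range_locSpec (U : Y.Opens) (f : 𝒮.presheaf.obj (op U))
    (v : Spec (𝒮.presheaf.obj (op U))) :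
    v ∈ Set.range (locSpec (𝒮 := 𝒮) U f) ↔ f ∉ v.asIdeal := by
  have h := PrimeSpectrum.localization_away_comap_range (Localization.Away f) f
  have h2 : v ∈ Set.range (locSpec (𝒮 := 𝒮) U f) ↔
      v ∈ Set.range (PrimeSpectrum.comap (algebraMap (𝒮.presheaf.obj (op U))
        (Localization.Away f))) := Iff.rfl
  rw [h2, h]
  rfl

theorem range_chartE_subset (U : Y.Opens) (hU : IsAffineOpen U) {d : ℕ} (hd : 0 < d)
    (f : 𝒮.presheaf.obj (op U)) (hf : f ∈ 𝒮.deg U hU d) :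
    Set.range (locSpec (𝒮 := 𝒮) U f ≫ 𝒮.toQCAlg.ι U hU) ⊆ Set.range (pointedCone 𝒮).ι := by
  rw [Scheme.Opens.range_ι]
  rintro _ ⟨w, rfl⟩
  rw [Scheme.Hom.comp_apply]
  show (𝒮.toQCAlg.ι U hU) ((locSpec (𝒮 := 𝒮) U f) w) ∈ pointedCone 𝒮
  rw [ι_mem_pointedCone_iff 𝒮 U hU, mem_vertexCompl_iff_homog]
  have h1 : (locSpec (𝒮 := 𝒮) U f) w ∈ Set.range (locSpec (𝒮 := 𝒮) U f) := ⟨w, rfl⟩
  rw [mem_range_locSpec] at h1
  exact ⟨d, hd, f, hf, h1⟩

/-- the standard chart of the pointed affine cone -/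
def chartE (U : Y.Opens) (hU : IsAffineOpen U) {d : ℕ} (hd : 0 < d)
    (f : 𝒮.presheaf.obj (op U)) (hf : f ∈ 𝒮.deg U hU d) :
    Spec (CommRingCat.of (Localization.Away f)) ⟶
      ((pointedCone 𝒮 : 𝒮.toQCAlg.spec.Opens) : Scheme.{u}) :=
  IsOpenImmersion.lift (pointedCone 𝒮).ι (locSpec (𝒮 := 𝒮) U f ≫ 𝒮.toQCAlg.ι U hU)
    (range_chartE_subset U hU hd f hf)

@[reassoc]
theorem chartE_ι (U : Y.Opens) (hU : IsAffineOpen U) {d : ℕ} (hd : 0 < d)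
    (f : 𝒮.presheaf.obj (op U)) (hf : f ∈ 𝒮.deg U hU d) :
    chartE U hU hd f hf ≫ (pointedCone 𝒮).ι = locSpec (𝒮 := 𝒮) U f ≫ 𝒮.toQCAlg.ι U hU :=
  IsOpenImmersion.lift_fac _ _ _

instance isOpenImmersion_chartE (U : Y.Opens) (hU : IsAffineOpen U) {d : ℕ} (hd : 0 < d)
    (f : 𝒮.presheaf.obj (op U)) (hf : f ∈ 𝒮.deg U hU d) :
    IsOpenImmersion (chartE U hU hd f hf) := by
  have : IsOpenImmersion (chartE U hU hd f hf ≫ (pointedCone 𝒮).ι) := by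
    rw [chartE_ι]; infer_instance
  exact IsOpenImmersion.of_comp _ (pointedCone 𝒮).ι

theorem opensRange_chartE (U : Y.Opens) (hU : IsAffineOpen U) {d : ℕ} (hd : 0 < d)
    (f : 𝒮.presheaf.obj (op U)) (hf : f ∈ 𝒮.deg U hU d) :
    (chartE U hU hd f hf).opensRange = (pointedCone 𝒮).ι ⁻¹ᵁ ((𝒮.toQCAlg.ι U hU) ''ᵁ
      (PrimeSpectrum.basicOpen f : (Spec (𝒮.presheaf.obj (op U))).Opens)) := by
  ext e
  constructor
  · rintro ⟨w, rfl⟩
    have h1 := congrArg (fun t : _ ⟶ 𝒮.toQCAlg.spec => t w) (chartE_ι U hU hd f hf)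
    have h2 : (locSpec (𝒮 := 𝒮) U f) w ∈ Set.range (locSpec (𝒮 := 𝒮) U f) := ⟨w, rfl⟩
    rw [mem_range_locSpec] at h2
    exact ⟨_, h2, h1.symm⟩
  · rintro ⟨v, hv, hve⟩
    have h2 : v ∈ Set.range (locSpec (𝒮 := 𝒮) U f) := by rw [mem_range_locSpec]; exact hv
    obtain ⟨w, rfl⟩ := h2
    refine ⟨w, (pointedCone 𝒮).ι.injective ?_⟩
    have h1 := congrArg (fun t : _ ⟶ 𝒮.toQCAlg.spec => t w) (chartE_ι U hU hd f hf)
    exact h1.trans hve

end

end Groth.Agent.Helper1.RF
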