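import Mathlib
import Groth.Agent.Helper1.RF6

/-!
# Fibres of the retraction of the pointed affine cone (relative case), part 2
-/

set_option autoImplicit false
set_option linter.style.haveILetI false

namespace Groth.Agent.Helper1.RF

open CategoryTheory Limits AlgebraicGeometry TopologicalSpace Opposite RelProj RelCone
  HomogeneousLocalization Groth.Agent.Helper1.RP Groth.Agent.Helper1.PC Groth.Agent.Helper1.AC
  Groth.Agent.Helper1.CN
open scoped HomogeneousIdeal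

universe u

noncomputable section

variable {Y PC P : Scheme.{u}} {𝒮 𝒮h : QCGrAlg Y} {ι : 𝒮.toQCAlg ⟶ 𝒮h.toQCAlg}
  {z : 𝒮h.presheaf.obj (op ⊤)} (hz : IsPolyOver 𝒮 𝒮h ι z)
  {pC : PC ⟶ Y}
  {chartC : ∀ (U : Y.Opens) (hU : IsAffineOpen U),
    (((pC ⁻¹ᵁ U : PC.Opens) : Scheme.{u}) ≅ Proj (𝒮h.deg U hU))}
  {p : P ⟶ Y}
  {chart : ∀ (U : Y.Opens) (hU : IsAffineOpen U),
    (((p ⁻¹ᵁ U : P.Opens) : Scheme.{u}) ≅ Proj (𝒮.deg U hU))}
  (hP : IsRelProj 𝒮 p chart) (hPC : IsRelProj 𝒮h pC chartC)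
  {i : 𝒮.toQCAlg.spec ⟶ PC} (hi : IsConeImm 𝒮 hz pC chartC i)
  {r : ((pointedProjCone 𝒮 hz pC chartC : PC.Opens) : Scheme.{u}) ⟶ P}
  (hr : IsRetr hz pC chartC p chart r)
  {i' : ((pointedCone 𝒮 : 𝒮.toQCAlg.spec.Opens) : Scheme.{u}) ⟶
    ((pointedProjCone 𝒮 hz pC chartC : PC.Opens) : Scheme.{u})}
  (hi' : i' ≫ (pointedProjCone 𝒮 hz pC chartC).ι = (pointedCone 𝒮).ι ≫ i)

/-- the ring map `𝒮h(U)_(ι f) → 𝒮(U)_f` -/
def gamAt (U : Y.Opens) (hU : IsAffineOpen U) (f : 𝒮.presheaf.obj (op U)) :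
    Away (𝒮h.deg U hU) ((gradedHomAt ι hz.graded U hU) f) →+* Localization.Away f :=
  gam (ℬ := 𝒮h.deg U hU) (hz.evalOne U hU) f ((gradedHomAt ι hz.graded U hU) f)
    (isUnit_ιf (gradedHomAt ι hz.graded U hU) (hz.evalOne U hU) (hz.evalOne_ι U hU) f)

include hi hi' in
/-- on the chart `Spec 𝒮(U)_f` of `E`, the morphism `i'` is `Spec` of `gamAt` into the chart
`D_+(ι f)` of `Ê` -/
theorem chartE_i' (U : Y.Opens) (hU : IsAffineOpen U) {d : ℕ} (hd : 0 < d)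
    (f : 𝒮.presheaf.obj (op U)) (hf : f ∈ 𝒮.deg U hU d) :
    chartE U hU hd f hf ≫ i' =
      Spec.map (CommRingCat.ofHom (gamAt hz U hU f)) ≫ coneChart hz pC chartC U hU hd f hf := by
  rw [← cancel_mono (pointedProjCone 𝒮 hz pC chartC).ι, Category.assoc, Category.assoc, hi',
    chartE_ι_assoc, coneChart_ι, hi U hU]
  have h1 := spec_gam_awayι (gradedHomAt ι hz.graded U hU) (restrictTop 𝒮h z U) (hz.deg_z U hU)
    (hz.evalOne U hU) (hz.evalOne_ι U hU) (hz.evalOne_z U hU) hd hf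
  have h2 := alg_comp_awayZ (ℬ := 𝒮h.deg U hU) (restrictTop 𝒮h z U) (hz.evalOne U hU) f
    (by rw [hz.evalOne_z U hU]; exact isUnit_one)
    (isUnit_z (restrictTop 𝒮h z U) (hz.evalOne U hU) (hz.evalOne_z U hU) f)
  have h3 : locSpec (𝒮 := 𝒮) U f ≫ Spec.map (CommRingCat.ofHom (hz.awayZToBase U hU)) =
      Spec.map (CommRingCat.ofHom (gam (ℬ := 𝒮h.deg U hU) (hz.evalOne U hU) f
        (restrictTop 𝒮h z U)
        (isUnit_z (restrictTop 𝒮h z U) (hz.evalOne U hU) (hz.evalOne_z U hU) f))) := by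
    rw [← h2]
    unfold locSpec
    rw [← Spec.map_comp, ← CommRingCat.ofHom_comp]
    rfl
  rw [reassoc_of% h3, reassoc_of% h1]
  rfl

include hi hr hi' in
/-- **`π = i' ≫ r` on the chart `Spec 𝒮(U)_f` of `E`** -/
theorem chartE_pi (U : Y.Opens) (hU : IsAffineOpen U) {d : ℕ} (hd : 0 < d)
    (f : 𝒮.presheaf.obj (op U)) (hf : f ∈ 𝒮.deg U hU d) :
    chartE U hU hd f hf ≫ i' ≫ r =
      Spec.map (CommRingCat.ofHom (algebraMap (Away (𝒮.deg U hU) f) (Localization.Away f))) ≫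
        Proj.awayι (𝒮.deg U hU) f hf hd ≫ emb p chart U hU := by
  rw [← Category.assoc, chartE_i' hz hi hi' U hU hd f hf, Category.assoc,
    coneChart_r hz hr U hU hd f hf, ← Spec.map_comp_assoc, ← CommRingCat.ofHom_comp]
  have h := gam_awayMapι (ℬ := 𝒮h.deg U hU) (gradedHomAt ι hz.graded U hU) (hz.evalOne U hU)
    (hz.evalOne_ι U hU) hf
  unfold gamAt
  rw [h]

end

end Groth.Agent.Helper1.RF
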