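import Mathlib
import Groth.Agent.Helper1.RF7

/-!
# Fibres of the retraction of the pointed affine cone (relative case), part 3: the results
-/

set_option autoImplicit false
set_option linter.style.haveILetI false

namespace Groth.Agent.Helper1.RF

open CategoryTheory Limits AlgebraicGeometry TopologicalSpace Opposite RelProj RelCone
  HomogeneousLocalization Groth.Agent.Helper1.RP Groth.Agent.Helper1.PC Groth.Agent.Helper1.AC
  Groth.Agent.Helper1.CN
open scoped HomogeneousIdeal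

universe u

noncomputable section

variable {Y PC P : Scheme.{u}} {𝒮 𝒮h : QCGrAlg Y} {ι : 𝒮.toQCAlg ⟶ 𝒮h.toQCAlg}
  {z : 𝒮h.presheaf.obj (op ⊤)} (hz : IsPolyOver 𝒮 𝒮h ι z)
  {pC : PC ⟶ Y}
  {chartC : ∀ (U : Y.Opens) (hU : IsAffineOpen U),
    (((pC ⁻¹ᵁ U : PC.Opens) : Scheme.{u}) ≅ Proj (𝒮h.deg U hU))}
  {p : P ⟶ Y}
  {chart : ∀ (U : Y.Opens) (hU : IsAffineOpen U),
    (((p ⁻¹ᵁ U : P.Opens) : Scheme.{u}) ≅ Proj (𝒮.deg U hU))}
  (hP : IsRelProj 𝒮 p chart) (hPC : IsRelProj 𝒮h pC chartC)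
  {i : 𝒮.toQCAlg.spec ⟶ PC} (hi : IsConeImm 𝒮 hz pC chartC i)
  {r : ((pointedProjCone 𝒮 hz pC chartC : PC.Opens) : Scheme.{u}) ⟶ P}
  (hr : IsRetr hz pC chartC p chart r)
  {i' : ((pointedCone 𝒮 : 𝒮.toQCAlg.spec.Opens) : Scheme.{u}) ⟶
    ((pointedProjCone 𝒮 hz pC chartC : PC.Opens) : Scheme.{u})}
  (hi' : i' ≫ (pointedProjCone 𝒮 hz pC chartC).ι = (pointedCone 𝒮).ι ≫ i)
  (hgen : 𝒮.IsGenDegOne)

theorem finiteType_algebraMap (U : Y.Opens) (hU : IsAffineOpen U) {f : 𝒮.presheaf.obj (op U)}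
    (hf : f ∈ 𝒮.deg U hU 1) :
    (algebraMap (Away (𝒮.deg U hU) f) (Localization.Away f)).FiniteType := by
  have h1 : Algebra.FiniteType (Away (𝒮.deg U hU) f)
      (AddMonoidAlgebra (Away (𝒮.deg U hU) f) ℤ) := inferInstance
  exact h1.equiv (LA.laurentEquiv hf).symm

include hgen in
theorem exists_degOne_chartE (e : ((pointedCone 𝒮 : 𝒮.toQCAlg.spec.Opens) : Scheme.{u})) :
    ∃ (U : Y.Opens) (hU : IsAffineOpen U) (f : 𝒮.presheaf.obj (op U))
      (hf : f ∈ 𝒮.deg U hU 1) (w : _), (chartE U hU one_pos f hf) w = e := by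
  obtain ⟨U, hU, v, hv⟩ := exists_ι 𝒮.toQCAlg ((pointedCone 𝒮).ι e)
  have hvE : v ∈ vertexCompl (𝒮.deg U hU) := by
    rw [← ι_mem_pointedCone_iff 𝒮 U hU v, hv]
    exact e.2
  have hI : ¬ (HomogeneousIdeal.irrelevant (𝒮.deg U hU)).toIdeal ≤ v.asIdeal := hvE
  obtain ⟨f, hf, hfv⟩ := exists_degOne_notMem (hgen U hU) _ hI
  have h1 : e ∈ (chartE U hU one_pos f hf).opensRange := by
    rw [opensRange_chartE]
    exact ⟨v, hfv, hv⟩
  obtain ⟨w, hw⟩ := h1
  exact ⟨U, hU, f, hf, w, hw⟩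

include hi hr hi' hgen in
theorem pi_locallyOfFiniteType : LocallyOfFiniteType (i' ≫ r) := by
  apply AFC.of_charts @LocallyOfFiniteType
  intro e
  obtain ⟨U, hU, f, hf, w, hw⟩ := exists_degOne_chartE hgen e
  refine ⟨_, chartE U hU one_pos f hf, inferInstance, ⟨w, hw⟩, ?_⟩
  rw [chartE_pi hz hi hr hi' U hU one_pos f hf]
  have : LocallyOfFiniteType (Spec.map (CommRingCat.ofHom
      (algebraMap (Away (𝒮.deg U hU) f) (Localization.Away f)))) := by
    rw [HasRingHomProperty.Spec_iff (P := @LocallyOfFiniteType)]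
    exact finiteType_algebraMap U hU hf
  infer_instance

include hP hPC hi hr hi' hgen in
/-- **the fibres of the canonical retraction `E → Proj(𝒮)` are `𝔾_m`** -/
theorem pi_fibre (x : P) :
    ∃ e : pullback (i' ≫ r) (P.fromSpecResidueField x) ≅
        Spec (CommRingCat.of (AddMonoidAlgebra (P.residueField x) ℤ)),
      e.hom ≫ Spec.map (CommRingCat.ofHom (algebraMap (P.residueField x)
        (AddMonoidAlgebra (P.residueField x) ℤ))) =
          pullback.snd (i' ≫ r) (P.fromSpecResidueField x) := by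
  obtain ⟨_, ⟨U, hU : IsAffineOpen U, rfl⟩, hxU, -⟩ :=
    Y.isBasis_affineOpens.exists_subset_of_mem_open (Set.mem_univ (p x)) isOpen_univ
  have hx : x ∈ (emb p chart U hU).opensRange := by
    rw [opensRange_emb]; exact hxU
  obtain ⟨q, rfl⟩ := hx
  let y : ProjectiveSpectrum (𝒮.deg U hU) := q
  obtain ⟨f, hf, hfq⟩ := exists_degOne_notMem (hgen U hU) y.asHomogeneousIdeal.toIdeal
    y.not_irrelevant_le
  have hqf : q ∈ (Proj.awayι (𝒮.deg U hU) f hf one_pos).opensRange := by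
    rw [Proj.opensRange_awayι, Proj.mem_basicOpen]
    exact hfq
  have hx : (emb p chart U hU) q ∈
      (Proj.awayι (𝒮.deg U hU) f hf one_pos ≫ emb p chart U hU).opensRange := by
    obtain ⟨y', hy'⟩ := hqf
    refine ⟨y', ?_⟩
    show (emb p chart U hU) ((Proj.awayι (𝒮.deg U hU) f hf one_pos) y') = _
    exact congrArg _ hy'
  have h2 : (i' ≫ r) ⁻¹ᵁ (Proj.awayι (𝒮.deg U hU) f hf one_pos ≫ emb p chart U hU).opensRange =
      (chartE U hU one_pos f hf).opensRange := by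
    rw [PR.pi_preimage hz hP hPC hi hr hi' U hU one_pos f hf, opensRange_chartE]
  exact FB.exists_fibre_iso_addMonoidAlgebra (i' ≫ r) _
    (Proj.awayι (𝒮.deg U hU) f hf one_pos ≫ emb p chart U hU)
    (chartE U hU one_pos f hf)
    ((Category.assoc _ _ _).trans (chartE_pi hz hi hr hi' U hU one_pos f hf)) h2 hx
    (LA.laurentEquiv hf)

end

end Groth.Agent.Helper1.RF
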