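import Mathlib
import Groth.Prelude.Def_RelProj
import Groth.Agent.Helper1.RP3

/-!
# Relative Proj toolkit, part 4: uniqueness of the relative Proj
-/

set_option autoImplicit false
set_option linter.style.haveILetI false

namespace Groth.Agent.Helper1.RP

open CategoryTheory Limits AlgebraicGeometry TopologicalSpace Opposite RelProj
open scoped HomogeneousIdeal

universe u

variable {Y P P' : Scheme.{u}} {𝒮 : QCGrAlg Y} {p : P ⟶ Y}
  {chart : ∀ (U : Y.Opens) (hU : IsAffineOpen U),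
    (((p ⁻¹ᵁ U : P.Opens) : Scheme.{u}) ≅ Proj (𝒮.deg U hU))}
  {p' : P' ⟶ Y}
  {chart' : ∀ (U : Y.Opens) (hU : IsAffineOpen U),
    (((p' ⁻¹ᵁ U : P'.Opens) : Scheme.{u}) ≅ Proj (𝒮.deg U hU))}

/-- the comparison condition -/
def IsComparison (chart : ∀ (U : Y.Opens) (hU : IsAffineOpen U),
      (((p ⁻¹ᵁ U : P.Opens) : Scheme.{u}) ≅ Proj (𝒮.deg U hU)))
    (chart' : ∀ (U : Y.Opens) (hU : IsAffineOpen U),
      (((p' ⁻¹ᵁ U : P'.Opens) : Scheme.{u}) ≅ Proj (𝒮.deg U hU))) (e : P ⟶ P') : Prop :=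
  ∀ (U : Y.Opens) (hU : IsAffineOpen U),
    (p ⁻¹ᵁ U).ι ≫ e = (chart U hU).hom ≫ (chart' U hU).inv ≫ (p' ⁻¹ᵁ U).ι

theorem existsUnique_comparison (hP : IsRelProj 𝒮 p chart) (hP' : IsRelProj 𝒮 p' chart') :
    ∃! e : P ⟶ P', IsComparison chart chart' e := by
  refine existsUnique_glue p
    (fun U hU => (chart U hU).hom ≫ (chart' U hU).inv ≫ (p' ⁻¹ᵁ U).ι) ?_
  intro U hU r
  rw [reassoc_of% hP.chart_res U hU r, reassoc_of% chart_res_inv hP' U hU r, Scheme.homOfLE_ι]

theorem comparison_comm (hP : IsRelProj 𝒮 p chart) (hP' : IsRelProj 𝒮 p' chart')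
    (e : P ⟶ P') (he : IsComparison chart chart' e) : e ≫ p' = p := by
  apply hom_ext p
  intro U hU
  rw [reassoc_of% he U hU, chart_inv_ι_p hP' U hU, chart_str hP U hU]

theorem comparison_comp (e : P ⟶ P') (he : IsComparison chart chart' e)
    (e' : P' ⟶ P) (he' : IsComparison chart' chart e') : e ≫ e' = 𝟙 P := by
  apply hom_ext p
  intro U hU
  rw [reassoc_of% he U hU, he' U hU, Iso.inv_hom_id_assoc, Iso.hom_inv_id_assoc, Category.comp_id]

theorem isIso_comparison (hP : IsRelProj 𝒮 p chart) (hP' : IsRelProj 𝒮 p' chart')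
    (e : P ⟶ P') (he : IsComparison chart chart' e) : IsIso e := by
  obtain ⟨e', he', -⟩ := existsUnique_comparison hP' hP
  exact ⟨e', comparison_comp e he e' he', comparison_comp e' he' e he⟩

end Groth.Agent.Helper1.RP
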