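import Mathlib
import Groth.Prelude.Def_RelProj3
import Groth.Agent.Helper1.RPP5
import Groth.Agent.S8260

/-!
# On a relative `Proj` of a finite type algebra over a quasi-compact base, `O(d)` is invertible and
relatively ample for a suitable `d > 0`
-/

set_option autoImplicit false
set_option linter.style.haveILetI false

namespace Groth.Agent.Helper1.RPP

open CategoryTheory CategoryTheory.Limits AlgebraicGeometry Opposite TopologicalSpace RelProj
open scoped HomogeneousIdeal

universe u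

variable {Y P : Scheme.{u}} (𝒮 : QCGrAlg Y)
  (hft : ∀ (U : Y.Opens) (hU : IsAffineOpen U), (𝒮.str.app (op U)).hom.FiniteType)

include hft in
theorem finiteType_zero (U : Y.Opens) (hU : IsAffineOpen U) :
    Algebra.FiniteType (𝒮.deg U hU 0) (𝒮.presheaf.obj (op U)) := by
  set f := (𝒮.str.app (op U)).hom with hf
  set f0 := (𝒮.strZero U hU).hom with hf0
  have hcomp : f = (algebraMap (𝒮.deg U hU 0) (𝒮.presheaf.obj (op U))).comp f0 := by
    ext r; rfl
  rw [← RingHom.finiteType_algebraMap]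
  apply RingHom.FiniteType.of_comp_finiteType (f := f0)
  rw [← hcomp]
  exact hft U hU

include hft in
theorem compactSpace_proj_of_finiteType (U : Y.Opens) (hU : IsAffineOpen U) :
    CompactSpace (Proj (𝒮.deg U hU)) := by
  haveI := finiteType_zero 𝒮 hft U hU
  exact QuasiCompact.compactSpace_of_compactSpace (Proj.toSpecZero (𝒮.deg U hU))

include hft in
/-- a uniform degree over a quasi-compact base: `Hloc` holds in degree `d` over all affine opens
that are basic opens of members of a fixed finite affine cover -/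
theorem exists_uniform_hloc [CompactSpace Y] :
    ∃ d : ℕ, 0 < d ∧ ∀ y : Y, ∃ (U : Y.Opens) (hU : IsAffineOpen U), y ∈ U ∧
      ∀ (r : Γ(Y, U)) (W : Y.Opens) (hW : IsAffineOpen W), W = Y.basicOpen r →
        Hloc (𝒮.deg W hW) d := by
  classical
  -- an affine open around every point, with its degree
  have h1 : ∀ y : Y, ∃ (U : Y.Opens), IsAffineOpen U ∧ y ∈ U := by
    intro y
    obtain ⟨_, ⟨U, hU : IsAffineOpen U, rfl⟩, hyU, -⟩ :=
      Y.isBasis_affineOpens.exists_subset_of_mem_open (Set.mem_univ y) isOpen_univ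
    exact ⟨U, hU, hyU⟩
  choose U hU hyU using h1
  have h2 : ∀ y : Y, ∃ d : ℕ, 0 < d ∧ Hloc (𝒮.deg (U y) (hU y)) d := fun y =>
    exists_hloc_of_finiteType (𝒮.str.app (op (U y))).hom (𝒮.str_mem (U y) (hU y))
      (hft (U y) (hU y))
  choose dd hdd hloc using h2
  obtain ⟨t, ht⟩ := CompactSpace.elim_nhds_subcover (fun y => (U y : Set Y))
    (fun y => (U y).isOpen.mem_nhds (hyU y))
  refine ⟨∏ z ∈ t, dd z, Finset.prod_pos fun z _ => hdd z, fun y => ?_⟩
  have hy : y ∈ ⋃ z ∈ t, (U z : Set Y) := by rw [ht]; trivial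
  obtain ⟨z, hzt, hyz⟩ := Set.mem_iUnion₂.1 hy
  refine ⟨U z, hU z, hyz, ?_⟩
  rintro r W hW rfl
  -- `Hloc` in degree `∏ dd` over `U z`
  obtain ⟨m, hm⟩ : dd z ∣ ∏ z ∈ t, dd z := Finset.dvd_prod_of_mem dd hzt
  have hmpos : 0 < m := by
    rcases Nat.eq_zero_or_pos m with h | h
    · exfalso
      rw [h, mul_zero] at hm
      exact (Finset.prod_pos fun z _ => hdd z).ne' hm
    · exact h
  have h3 : Hloc (𝒮.deg (U z) (hU z)) (∏ z ∈ t, dd z) := by
    rw [hm, mul_comm]
    exact (hloc z).mul m hmpos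
  exact h3.map (𝒮.res (hU z) ((hU z).basicOpen r) (Y.basicOpen_le r))
    (𝒮.irrelevant_le_map (U z) (hU z) r)

variable {𝒮}
variable {p : P ⟶ Y}
  {chart : ∀ (U : Y.Opens) (hU : IsAffineOpen U),
    (((p ⁻¹ᵁ U : P.Opens) : Scheme.{u}) ≅ Proj (𝒮.deg U hU))}

include hft in
/-- **EGA II 4.6.18-type statement**: over a quasi-compact base, for `𝒮` of finite type some
`O_P(d)`, `d > 0`, is invertible and relatively ample -/
theorem exists_twist_invertible_relAmple [CompactSpace Y] (hP : IsRelProj 𝒮 p chart) :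
    ∃ d : ℕ, 0 < d ∧ ∀ (L : P.Modules)
      (lam : ∀ (U : Y.Opens) (hU : IsAffineOpen U),
        L ⟶ (Scheme.Modules.pushforward (emb p chart U hU)).obj
          (GrTwist.twist (𝒮.deg U hU) (d : ℤ))),
      IsRelTwist 𝒮 p chart (d : ℤ) L lam → PicF.IsInvertible L ∧ RelAmple.IsRelAmple p L := by
  obtain ⟨d, hd, hcov⟩ := exists_uniform_hloc 𝒮 hft
  haveI : QuasiCompact p := (Groth.Agent.S8260.result 𝒮 hft p chart hP).2
  refine ⟨d, hd, fun L lam hL => ⟨?_, inferInstance, fun V => ?_⟩⟩
  · -- invertibility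
    apply Groth.Agent.Helper4.AmpleLocal.isInvertible_of_cover
    intro x
    obtain ⟨U, hU, hxU, hloc⟩ := hcov (p x)
    have hU1 : U = Y.basicOpen (1 : Γ(Y, U)) := by
      rw [Scheme.basicOpen_of_isUnit _ isUnit_one]
    have h1 : Hloc (𝒮.deg U hU) d := hloc 1 U hU hU1
    refine ⟨_, emb p chart U hU, inferInstance, ?_, ?_⟩
    · have : x ∈ (emb p chart U hU).opensRange := by
        rw [RP.opensRange_emb]
        exact hxU
      exact this
    · exact Groth.Agent.Helper4.AmpleIso.isInvertible_of_iso (TRR.twistChartIso hL U hU).symm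
        (isInvertible_grTwist_of_hloc (𝒮.deg U hU) d h1)
  · -- relative ampleness over the affine open `V`
    have key : ∀ y : V.1, ∃ a : Γ(Y, V.1), y.1 ∈ Y.basicOpen a ∧
        CohB1.IsAmple (L.restrict (p ⁻¹ᵁ Y.basicOpen a).ι) := by
      intro y
      obtain ⟨U, hU, hyU, hloc⟩ := hcov y.1
      obtain ⟨r, a, hra, hy⟩ := exists_basicOpen_le_affine_inter hU V.2 y.1 ⟨hyU, y.2⟩
      refine ⟨a, by rw [← hra]; exact hy, ?_⟩
      have hWaff : IsAffineOpen (Y.basicOpen a) := V.2.basicOpen a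
      have h1 : Hloc (𝒮.deg (Y.basicOpen a) hWaff) d := hloc r _ hWaff hra.symm
      haveI : CompactSpace (Proj (𝒮.deg (Y.basicOpen a) hWaff)) :=
        compactSpace_proj_of_finiteType 𝒮 hft _ hWaff
      have h2 := isAmple_grTwist_of_hloc (𝒮.deg (Y.basicOpen a) hWaff) d hd h1
      have h3 : CohB1.IsAmple (L.restrict (emb p chart (Y.basicOpen a) hWaff)) :=
        Groth.Agent.Helper4.AmpleIso.isAmple_of_iso
          (TRR.twistChartIso hL (Y.basicOpen a) hWaff).symm h2
      haveI : CompactSpace ((p ⁻¹ᵁ Y.basicOpen a : P.Opens) : Scheme.{u}) :=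
        isCompact_iff_compactSpace.mp
          (QuasiCompact.isCompact_preimage (f := p) _ (Y.basicOpen a).isOpen hWaff.isCompact)
      refine Groth.Agent.Helper4.AmpleLocal.isAmple_restrict_of_range_le
        (p ⁻¹ᵁ Y.basicOpen a).ι (emb p chart (Y.basicOpen a) hWaff) ?_ h3
      intro x hx
      have h4 : x ∈ (emb p chart (Y.basicOpen a) hWaff).opensRange := by
        rw [RP.opensRange_emb]
        obtain ⟨z, rfl⟩ := hx
        exact z.2
      exact h4
    choose a hya ha using key
    exact Groth.Agent.Helper4.AmpleLocal.isAmple_restrict_preimage_of_basicOpen_cover p L V.1 V.2 a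
      (fun y hy => ⟨⟨y, hy⟩, hya ⟨y, hy⟩⟩) ha

end Groth.Agent.Helper1.RPP
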