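import Mathlib
import Groth.Agent.Helper1.ZeroDimAcyc
import Groth.Agent.Helper1.SerreVan
import Groth.Agent.Helper1.HHLes3

/-!
# Cohomology of twists of modules with zero-dimensional support on projective space
-/

set_option autoImplicit false
set_option linter.style.haveILetI false

namespace Groth.Agent.Helper1.RegMono

open CategoryTheory Limits TopologicalSpace Opposite AlgebraicGeometry

universe u

/-- in a `T0` space, the points of a closed subset of dimension `≤ 0` are closed -/
lemma isClosed_singleton_of_dim_le_zero {X : Type*} [TopologicalSpace X] [T0Space X] (Z : Set X)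
    (hZ : IsClosed Z) (hdim : topologicalKrullDim Z ≤ 0) (x : X) (hx : x ∈ Z) :
    IsClosed ({x} : Set X) := by
  rw [← closure_subset_iff_isClosed]
  intro y hy
  have hyZ : y ∈ Z := (hZ.closure_subset_iff.2 (Set.singleton_subset_iff.2 hx)) hy
  -- the two irreducible closed subsets of `Z`
  let A : IrreducibleCloseds Z :=
    ⟨closure {(⟨y, hyZ⟩ : Z)}, isIrreducible_singleton.closure, isClosed_closure⟩
  let B : IrreducibleCloseds Z :=
    ⟨closure {(⟨x, hx⟩ : Z)}, isIrreducible_singleton.closure, isClosed_closure⟩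
  have hAB : A ≤ B := by
    show closure {(⟨y, hyZ⟩ : Z)} ⊆ closure {(⟨x, hx⟩ : Z)}
    apply closure_minimal _ isClosed_closure
    rw [Set.singleton_subset_iff]
    -- `⟨y⟩ ∈ closure {⟨x⟩}` in the subspace
    rw [closure_subtype, Set.image_singleton]
    exact hy
  have hmax := (Order.krullDim_nonpos_iff_forall_isMax.1 hdim) A
  have hBA : B ≤ A := hmax hAB
  have hxy : (⟨x, hx⟩ : Z) ∈ closure {(⟨y, hyZ⟩ : Z)} :=
    hBA (subset_closure (Set.mem_singleton _))
  rw [closure_subtype, Set.image_singleton] at hxy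
  have h1 : x ⤳ y := specializes_iff_mem_closure.2 hy
  have h2 : y ⤳ x := specializes_iff_mem_closure.2 hxy
  exact Set.mem_singleton_iff.2 (h1.antisymm h2).eq.symm

variable (n : ℕ) (k : Type u) [Field k]

/-- the higher cohomology of all twists of a coherent module with zero-dimensional support on
`P^n_k` vanishes -/
theorem subsingleton_HH_twist_of_dim_le_zero (Q : (CohB1.ProjSpace n k).Modules)
    (hQ : Coh.IsCoh Q) (hsupp : topologicalKrullDim (CohB1.support Q) ≤ 0) (d : ℤ) (i : ℕ)
    (hi : 0 < i) :
    Subsingleton (Coh.HH (CohB1.ProjSpace n k)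
      (CohB1.tensorMod Q (Twist.twistProjSpace n k d)) i) := by
  haveI : IsNoetherianRing (MvPolynomial (Fin (n + 1)) k) := inferInstance
  haveI : IsNoetherian (CohB1.ProjSpace n k) :=
    Groth.Agent.Helper3.ProjNoeth.main (CohB1.polyGrading n k)
  have hB := Groth.Agent.Helper1.SerreFin.isCoh_twist n k d
  haveI : Q.IsQuasicoherent := hQ.1
  haveI : (Twist.twistProjSpace n k d).IsQuasicoherent := hB.1
  have hcoh : Coh.IsCoh (CohB1.tensorMod Q (Twist.twistProjSpace n k d)) :=
    ⟨Groth.Agent.Lead.QcohTensor.isQuasicoherent_tensorMod Q _,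
      Groth.Agent.Lead.QcohTensor.isFT_tensorMod Q _ hQ.2 hB.2⟩
  have hZ : IsClosed (CohB1.support Q) := Groth.Agent.S0020.result _ Q hQ.2
  apply Groth.Agent.Helper1.ZeroDimAcyc.subsingleton_HH _ _ hcoh _ i hi
  intro x hx
  rw [Groth.Agent.Lead.QcohTensor.support_tensorMod Q _ hQ.2 hB.2] at hx
  exact isClosed_singleton_of_dim_le_zero _ hZ hsupp x hx.1

end Groth.Agent.Helper1.RegMono
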