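import Mathlib
import Groth.Agent.Helper1.TildeExact

set_option autoImplicit false
set_option linter.unusedSectionVars false

/-!
# Exactness of `tilde` on sequences of graded modules which are exact in large degrees

The graded modules here need no `DirectSum.Decomposition`; what is used is the independence of the
pieces of the third module, in the form of additive projections onto the pieces.
-/

namespace Groth.Agent.Helper1.TildeEx2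

open CategoryTheory Limits AlgebraicGeometry TopologicalSpace Opposite
open Groth.Agent.Helper1.GrT Groth.Agent.Helper1.TildeMap Groth.Agent.Helper1.TildeFun
open Groth.Agent.Helper1.TildeExact

universe u

variable {R A : Type u} [CommRing R] [CommRing A] [Algebra R A] (𝒜 : ℕ → Submodule R A)
  [GradedAlgebra 𝒜]
variable {M : Type u} [AddCommGroup M] [Module R M] [Module A M]
  (ℳ : ℕ → Submodule R M) [SetLike.GradedSMul 𝒜 ℳ]
variable {N : Type u} [AddCommGroup N] [Module R N] [Module A N]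
  (𝒩 : ℕ → Submodule R N) [SetLike.GradedSMul 𝒜 𝒩]
variable {Q : Type u} [AddCommGroup Q] [Module R Q] [Module A Q]
  (𝒬 : ℕ → Submodule R Q) [SetLike.GradedSMul 𝒜 𝒬]

/-- the pieces are independent, witnessed by additive projections -/
def HasProj : Prop :=
  ∀ i : ℕ, ∃ π : Q →+ Q, (∀ q ∈ 𝒬 i, π q = q) ∧ ∀ j, j ≠ i → ∀ q ∈ 𝒬 j, π q = 0

/-- homogeneous components of an element annihilating a homogeneous element annihilate it -/
lemma decompose_smul_eq_zero (hind : HasProj 𝒬) {i : ℕ} (q : Q) (hq : q ∈ 𝒬 i) (u : A)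
    (hu : u • q = 0) (e : ℕ) : (DirectSum.decompose 𝒜 u e : A) • q = 0 := by
  classical
  obtain ⟨π, h1, h2⟩ := hind (e + i)
  have hsum : ∑ e' ∈ (DirectSum.decompose 𝒜 u).support, (DirectSum.decompose 𝒜 u e' : A) = u :=
    DirectSum.sum_support_decompose 𝒜 u
  have hmem : ∀ e' : ℕ, (DirectSum.decompose 𝒜 u e' : A) • q ∈ 𝒬 (e' + i) := fun e' =>
    SetLike.GradedSMul.smul_mem (DirectSum.decompose 𝒜 u e').2 hq
  have h3 : π (u • q) = (DirectSum.decompose 𝒜 u e : A) • q := by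
    conv_lhs => rw [← hsum, Finset.sum_smul, map_sum]
    rw [Finset.sum_eq_single e]
    · exact h1 _ (hmem e)
    · intro e' _ hne
      exact h2 (e' + i) (by omega) _ (hmem e')
    · intro he
      rw [DFinsupp.notMem_support_iff] at he
      rw [he]
      simp
  rw [← h3, hu, map_zero]

variable (f : M →ₗ[A] N) (k₁ : ℕ) (hf : ∀ (i : ℕ) (x : M), x ∈ ℳ i → f x ∈ 𝒩 (i + k₁))
variable (g : N →ₗ[A] Q) (k₂ : ℕ) (hg : ∀ (i : ℕ) (x : N), x ∈ 𝒩 i → g x ∈ 𝒬 (i + k₂))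
variable (hfg : ∀ m : M, g (f m) = 0)

include hfg in
theorem tildeMap_comp_eq_zero (a b c : ℤ) (hb : b = a + (k₁ : ℕ)) (hc : c = b + (k₂ : ℕ)) :
    tildeMap 𝒜 ℳ 𝒩 f k₁ hf a b hb ≫ tildeMap 𝒜 𝒩 𝒬 g k₂ hg b c hc = 0 := by
  have h0 : g ∘ₗ f = 0 := by
    ext m
    exact hfg m
  have hgg : ∀ (i : ℕ) (x : M), x ∈ ℳ i → (g ∘ₗ f) x ∈ 𝒬 (i + (k₁ + k₂)) := by
    intro i x _
    rw [h0]
    exact Submodule.zero_mem _
  rw [tildeMap_comp 𝒜 ℳ 𝒩 𝒬 f k₁ hf g k₂ hg a b c hb hc hgg (by rw [hc, hb]; push_cast; ring)]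
  have hz : ∀ (i : ℕ) (x : M), x ∈ ℳ i → (0 : M →ₗ[A] Q) x ∈ 𝒬 (i + (k₁ + k₂)) :=
    fun i x _ => Submodule.zero_mem _
  rw [tildeMap_congr 𝒜 ℳ 𝒬 (g ∘ₗ f) (k₁ + k₂) hgg 0 h0 hz]
  exact tildeMap_zero 𝒜 ℳ 𝒬 (k₁ + k₂) hz _ _ _

include hfg in
/-- **exactness of `tilde` for sequences exact in large degrees** -/
theorem exact_tildeMap (hind : HasProj 𝒬) (n₀ : ℕ)
    (hex : ∀ i : ℕ, n₀ ≤ i → ∀ z : N, z ∈ 𝒩 (i + k₁) → g z = 0 → ∃ m : M, m ∈ ℳ i ∧ f m = z)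
    (a b c : ℤ) (hb : b = a + (k₁ : ℕ)) (hc : c = b + (k₂ : ℕ)) :
    (ShortComplex.mk (tildeMap 𝒜 ℳ 𝒩 f k₁ hf a b hb) (tildeMap 𝒜 𝒩 𝒬 g k₂ hg b c hc)
      (tildeMap_comp_eq_zero 𝒜 ℳ 𝒩 𝒬 f k₁ hf g k₂ hg hfg a b c hb hc)).Exact := by
  classical
  apply exact_of_local_lift
  intro T t ht y hy
  obtain ⟨V, hyV, iV, i', jj, a0, s0, hs0, hij, hval⟩ :=
    (show GrTilde.sect 𝒜 𝒩 b (op T) from t).2 ⟨y, hy⟩
  have hVT : V ≤ T := leOfHom iV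
  rcases hij with hij | hij
  · -- the generic case
    -- the vanishing of `g a0` at `y`
    have hzero : ∃ u : A, u ∉ y.asHomogeneousIdeal ∧ u • g a0.1 = 0 := by
      have h1 : val (𝒜 := 𝒜) (ℳ := 𝒬) (n := c) (U := T)
          ((tildeMap 𝒜 𝒩 𝒬 g k₂ hg b c hc).app T t) y hy = 0 := by
        have : (tildeMap 𝒜 𝒩 𝒬 g k₂ hg b c hc).app T t = 0 := ht
        rw [this]
        rfl
      have h2 : val (𝒜 := 𝒜) (ℳ := 𝒩) (n := b) (U := T) t y hy =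
          LocalizedModule.mk a0.1 ⟨s0.1, hs0 ⟨y, hyV⟩⟩ := hval ⟨y, hyV⟩
      rw [val_tildeMap, h2, locMap_mk,
        ← LocalizedModule.zero_mk (1 : y.asHomogeneousIdeal.toIdeal.primeCompl),
        LocalizedModule.mk_eq] at h1
      obtain ⟨u, hu⟩ := h1
      refine ⟨u.1, u.2, ?_⟩
      simpa [Submonoid.smul_def] using hu
    obtain ⟨u, huy, hu0⟩ := hzero
    have hga : g a0.1 ∈ 𝒬 (i' + k₂) := hg i' a0.1 a0.2
    -- a homogeneous component of `u` outside `y`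
    have hcomp : ∃ e : ℕ, (DirectSum.decompose 𝒜 u e : A) ∉ y.asHomogeneousIdeal := by
      by_contra hcon
      push Not at hcon
      apply huy
      rw [← DirectSum.sum_support_decompose 𝒜 u]
      exact Ideal.sum_mem _ (fun e _ => hcon e)
    obtain ⟨e, hey⟩ := hcomp
    have hue0 : (DirectSum.decompose 𝒜 u e : A) • g a0.1 = 0 :=
      decompose_smul_eq_zero 𝒜 𝒬 hind _ hga u hu0 e
    obtain ⟨dw, w, hdw, hw, hwy⟩ := exists_pos_deg_notMem 𝒜 y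
    -- the homogeneous annihilator of positive degree
    obtain ⟨D, hD⟩ : ∃ D : ℕ, D = e + dw := ⟨_, rfl⟩
    obtain ⟨h, hh⟩ : ∃ h : A, h = (DirectSum.decompose 𝒜 u e : A) * w := ⟨_, rfl⟩
    have hhD : h ∈ 𝒜 D := by
      rw [hh, hD]
      exact SetLike.mul_mem_graded (DirectSum.decompose 𝒜 u e).2 hw
    have hhy : h ∉ y.asHomogeneousIdeal := by
      rw [hh]
      intro hm
      exact (y.isPrime.mem_or_mem hm).elim hey hwy
    have hh0 : h • g a0.1 = 0 := by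
      rw [hh, mul_comm, mul_smul, hue0, smul_zero]
    have hDpos : 0 < D := by omega
    -- the exponent
    obtain ⟨Nn, hNn⟩ : ∃ Nn : ℕ, Nn = k₁ + n₀ + 1 := ⟨_, rfl⟩
    have hND : Nn ≤ Nn * D := Nat.le_mul_of_pos_right Nn hDpos
    obtain ⟨i, hi⟩ : ∃ i : ℕ, i + k₁ = Nn * D + i' := ⟨Nn * D + i' - k₁, by omega⟩
    have hn₀i : n₀ ≤ i := by omega
    have hpow : h ^ Nn ∈ 𝒜 (Nn * D) := by
      have := SetLike.pow_mem_graded Nn hhD
      simpa [smul_eq_mul] using this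
    have hza : h ^ Nn • a0.1 ∈ 𝒩 (i + k₁) := by
      rw [hi]
      exact SetLike.GradedSMul.smul_mem hpow a0.2
    have hgz : g (h ^ Nn • a0.1) = 0 := by
      rw [map_smul, hNn, pow_succ, mul_smul, hh0, smul_zero]
    obtain ⟨m, hm, hfm⟩ := hex i hn₀i _ hza hgz
    -- the open neighbourhood
    let W : (Proj 𝒜).Opens := V ⊓ Proj.basicOpen 𝒜 h
    have hWT : W ≤ T := inf_le_left.trans hVT
    have hyW : y ∈ W := ⟨hyV, (Proj.mem_basicOpen 𝒜 h y).2 hhy⟩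
    have hWh : ∀ z : ProjectiveSpectrum.top 𝒜, z ∈ W → h ∉ z.asHomogeneousIdeal :=
      fun z hz => (Proj.mem_basicOpen 𝒜 h z).1 hz.2
    have hWs : ∀ z : ProjectiveSpectrum.top 𝒜, z ∈ W → s0.1 ∉ z.asHomogeneousIdeal :=
      fun z hz => hs0 ⟨z, hz.1⟩
    have hWhs : ∀ z : ProjectiveSpectrum.top 𝒜, z ∈ W →
        h ^ Nn * s0.1 ∉ z.asHomogeneousIdeal := fun z hz hmem =>
      (z.isPrime.mem_or_mem hmem).elim (fun h' => hWh z hz (z.isPrime.mem_of_pow_mem Nn h'))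
        (hWs z hz)
    have hvalt : ∀ (z : ProjectiveSpectrum.top 𝒜) (hz : z ∈ W),
        val (𝒜 := 𝒜) (ℳ := 𝒩) (n := b) (U := T) t z (hWT hz) =
          LocalizedModule.mk a0.1 ⟨s0.1, hWs z hz⟩ := fun z hz => hval ⟨z, hz.1⟩
    have hdeg : ((i : ℕ) : ℤ) = ((Nn * D + jj : ℕ) : ℤ) + a := by
      have h1 : ((i + k₁ : ℕ) : ℤ) = ((Nn * D + i' : ℕ) : ℤ) := by rw [hi]
      push_cast at h1 ⊢
      rw [hb] at hij
      omega
    let r : GrTilde.sect 𝒜 ℳ a (op W) :=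
      fracSect 𝒜 ℳ a m hm (h ^ Nn * s0.1) (SetLike.mul_mem_graded hpow s0.2) hdeg W hWhs
    refine ⟨W, hWT, hyW, r, ?_⟩
    apply sect_ext'
    intro z hz
    rw [val_tildeMap]
    refine Eq.trans ?_ (hvalt z hz).symm
    refine Eq.trans (locMap_mk 𝒜 f z _ _) ?_
    rw [LocalizedModule.mk_eq]
    refine ⟨1, ?_⟩
    rw [one_smul, one_smul, hfm]
    show s0.1 • h ^ Nn • a0.1 = (h ^ Nn * s0.1) • a0.1
    rw [mul_smul, smul_comm]
  · -- the zero case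
    refine ⟨V, hVT, hyV, 0, ?_⟩
    apply sect_ext'
    intro z hz
    have hvalt : val (𝒜 := 𝒜) (ℳ := 𝒩) (n := b) (U := T) t z (hVT hz) =
        LocalizedModule.mk a0.1 ⟨s0.1, hs0 ⟨z, hz⟩⟩ := hval ⟨z, hz⟩
    refine Eq.trans ?_ hvalt.symm
    rw [hij, map_zero]
    exact (LocalizedModule.zero_mk _).symm

omit hg hfg in
/-- a graded map which is surjective in large degrees induces an epimorphism -/
theorem epi_tildeMap (hind : HasProj 𝒩) (n₀ : ℕ)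
    (hsurj : ∀ i : ℕ, n₀ ≤ i → ∀ z : N, z ∈ 𝒩 (i + k₁) → ∃ m : M, m ∈ ℳ i ∧ f m = z)
    (a b : ℤ) (hb : b = a + (k₁ : ℕ)) : Epi (tildeMap 𝒜 ℳ 𝒩 f k₁ hf a b hb) := by
  have hz : ∀ (i : ℕ) (x : N), x ∈ 𝒩 i → (0 : N →ₗ[A] N) x ∈ 𝒩 (i + 0) :=
    fun i x _ => Submodule.zero_mem _
  have hex := exact_tildeMap 𝒜 ℳ 𝒩 𝒩 f k₁ hf (0 : N →ₗ[A] N) 0 hz (fun _ => rfl) hind n₀
    (fun i hi z hz _ => hsurj i hi z hz) a b b hb (by simp)
  exact hex.epi_f (tildeMap_zero 𝒜 𝒩 𝒩 0 hz _ _ _)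

omit hg hfg in
/-- a graded map which is injective induces a monomorphism -/
theorem mono_tildeMap (hind : HasProj 𝒩) (n₀ : ℕ)
    (hinj : ∀ i : ℕ, n₀ ≤ i → ∀ z : M, z ∈ ℳ i → f z = 0 → z = 0)
    (a b : ℤ) (hb : b = a + (k₁ : ℕ)) : Mono (tildeMap 𝒜 ℳ 𝒩 f k₁ hf a b hb) := by
  have hz : ∀ (i : ℕ) (x : M), x ∈ ℳ i → (0 : M →ₗ[A] M) x ∈ ℳ (i + 0) :=
    fun i x _ => Submodule.zero_mem _
  have hex := exact_tildeMap 𝒜 ℳ ℳ 𝒩 (0 : M →ₗ[A] M) 0 hz f k₁ hf (fun _ => map_zero f) hind n₀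
    (fun i hi z hz hfz => ⟨0, Submodule.zero_mem _, (hinj i hi z hz hfz).symm⟩) a a b (by simp) hb
  exact hex.mono_g (tildeMap_zero 𝒜 ℳ ℳ 0 hz _ _ _)

omit hg hfg in
/-- a graded map which is bijective in large degrees induces an isomorphism -/
theorem isIso_tildeMap (hind : HasProj 𝒩) (n₀ : ℕ)
    (hinj : ∀ i : ℕ, n₀ ≤ i → ∀ z : M, z ∈ ℳ i → f z = 0 → z = 0)
    (hsurj : ∀ i : ℕ, n₀ ≤ i → ∀ z : N, z ∈ 𝒩 (i + k₁) → ∃ m : M, m ∈ ℳ i ∧ f m = z)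
    (a b : ℤ) (hb : b = a + (k₁ : ℕ)) : IsIso (tildeMap 𝒜 ℳ 𝒩 f k₁ hf a b hb) := by
  haveI := epi_tildeMap 𝒜 ℳ 𝒩 f k₁ hf hind n₀ hsurj a b hb
  haveI := mono_tildeMap 𝒜 ℳ 𝒩 f k₁ hf hind n₀ hinj a b hb
  exact isIso_of_mono_of_epi _

omit hf hg hfg in
/-- `tildeMap` of a finite sum -/
theorem tildeMap_sum {ι : Type*} (s : Finset ι) (φ : ι → M →ₗ[A] N) (k : ℕ)
    (hφ : ∀ (b : ι) (i : ℕ) (x : M), x ∈ ℳ i → φ b x ∈ 𝒩 (i + k)) (n m : ℤ) (hm : m = n + k) :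
    ∀ (hsum : ∀ (i : ℕ) (x : M), x ∈ ℳ i → (∑ b ∈ s, φ b) x ∈ 𝒩 (i + k)),
      tildeMap 𝒜 ℳ 𝒩 (∑ b ∈ s, φ b) k hsum n m hm =
        ∑ b ∈ s, tildeMap 𝒜 ℳ 𝒩 (φ b) k (hφ b) n m hm := by
  classical
  induction s using Finset.induction_on with
  | empty =>
    intro hsum
    have hz : ∀ (i : ℕ) (x : M), x ∈ ℳ i → (0 : M →ₗ[A] N) x ∈ 𝒩 (i + k) :=
      fun i x _ => Submodule.zero_mem _
    rw [tildeMap_congr 𝒜 ℳ 𝒩 _ k hsum 0 Finset.sum_empty hz, tildeMap_zero, Finset.sum_empty]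
  | insert c s hc ih =>
    intro hsum
    have hs : ∀ (i : ℕ) (x : M), x ∈ ℳ i → (∑ b ∈ s, φ b) x ∈ 𝒩 (i + k) := by
      intro i x hx
      rw [LinearMap.sum_apply]
      exact Submodule.sum_mem _ (fun b _ => hφ b i x hx)
    have hadd : ∀ (i : ℕ) (x : M), x ∈ ℳ i → (φ c + ∑ b ∈ s, φ b) x ∈ 𝒩 (i + k) := by
      intro i x hx
      rw [LinearMap.add_apply]
      exact Submodule.add_mem _ (hφ c i x hx) (hs i x hx)
    rw [tildeMap_congr 𝒜 ℳ 𝒩 _ k hsum _ (Finset.sum_insert hc) hadd,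
      tildeMap_add 𝒜 ℳ 𝒩 (φ c) k (hφ c) _ hs hadd, ih hs, Finset.sum_insert hc]

end Groth.Agent.Helper1.TildeEx2
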