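import Mathlib
import Groth.Agent.Helper1.TildeEx2
import Groth.Agent.Helper7.HilbFn2
import Groth.Agent.Helper1.TwistIso

set_option autoImplicit false
set_option linter.unusedSectionVars false

/-!
# Free graded modules over the polynomial ring and their sheaves on projective space (algebra)
-/

namespace Groth.Agent.Helper1.RegRes

open CategoryTheory Limits AlgebraicGeometry TopologicalSpace Opposite
open Groth.Agent.Helper1.TildeMap Groth.Agent.Helper1.TildeFun Groth.Agent.Helper1.TildeEx2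
open Groth.Agent.Helper7.HilbFn

universe u

/-- a `ℤ`-graded decomposition gives projections for the pieces of degree `≥ 0` -/
theorem hasProj_of_decomposition {R : Type u} [CommRing R] {M : Type u} [AddCommGroup M] [Module R M]
    (ℳ : ℤ → Submodule R M) [DirectSum.Decomposition ℳ] :
    HasProj (fun n : ℕ => ℳ (n : ℤ)) := by
  classical
  intro i
  refine ⟨⟨⟨fun m => (DirectSum.decompose ℳ m (i : ℤ) : M), by simp⟩, fun x y => by simp⟩, ?_, ?_⟩
  · intro q hq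
    exact DirectSum.decompose_of_mem_same ℳ hq
  · intro j hj q hq
    exact DirectSum.decompose_of_mem_ne ℳ hq (by exact_mod_cast hj)

/-- an `ℕ`-graded decomposition gives projections -/
theorem hasProj_of_decomposition_nat {R : Type u} [CommRing R] {M : Type u} [AddCommGroup M]
    [Module R M] (ℳ : ℕ → Submodule R M) [DirectSum.Decomposition ℳ] : HasProj ℳ := by
  classical
  intro i
  refine ⟨⟨⟨fun m => (DirectSum.decompose ℳ m i : M), by simp⟩, fun x y => by simp⟩, ?_, ?_⟩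
  · intro q hq
    exact DirectSum.decompose_of_mem_same ℳ hq
  · intro j hj q hq
    exact DirectSum.decompose_of_mem_ne ℳ hq hj

variable (k : Type u) [Field k] (r : ℕ)

local notation "Sk" => MvPolynomial (Fin (r + 1)) k
local notation "𝒜" => CohB1.polyGrading r k
local notation "𝒜ℤ" => GrSyz.stdGr k (Fin (r + 1))

lemma mem_stdGr_natCast (t : ℕ) (x : Sk) : x ∈ 𝒜ℤ (t : ℤ) ↔ x ∈ 𝒜 t := by
  rw [stdGr_natCast]

/-- the pieces in degrees `t : ℕ` of the free graded module with basis degrees `a` -/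
noncomputable def Pc {m : ℕ} (a : Fin m → ℤ) : ℕ → Submodule k (Fin m → Sk) :=
  fun t => piece 𝒜ℤ a (t : ℤ)

lemma mem_Pc {m : ℕ} (a : Fin m → ℤ) (t : ℕ) (v : Fin m → Sk) :
    v ∈ Pc k r a t ↔ ∀ b, v b ∈ 𝒜ℤ ((t : ℤ) - a b) := mem_piece 𝒜ℤ

instance gsmul_Pc {m : ℕ} (a : Fin m → ℤ) : SetLike.GradedSMul 𝒜 (Pc k r a) where
  smul_mem := by
    intro i j x v hx hv
    rw [mem_Pc] at hv
    show x • v ∈ Pc k r a (i + j)
    rw [mem_Pc]
    intro b
    have hx' : x ∈ 𝒜ℤ (i : ℤ) := (mem_stdGr_natCast k r i x).2 hx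
    have h1 := SetLike.mul_mem_graded hx' (hv b)
    have e : ((i + j : ℕ) : ℤ) - a b = (i : ℤ) + ((j : ℤ) - a b) := by push_cast; ring
    rw [e]
    exact h1

/-- the projection onto a piece, as an additive map -/
noncomputable def projHom {m : ℕ} (a : Fin m → ℤ) (d : ℤ) : (Fin m → Sk) →+ (Fin m → Sk) where
  toFun := projv 𝒜ℤ a d
  map_zero' := by
    funext b
    simp [projv]
  map_add' v w := by
    funext b
    simp [projv]

theorem hasProj_Pc {m : ℕ} (a : Fin m → ℤ) : HasProj (Pc k r a) := by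
  intro i
  refine ⟨projHom k r a i, ?_, ?_⟩
  · intro q hq
    exact projv_of_mem 𝒜ℤ hq
  · intro j hj q hq
    funext b
    exact DirectSum.decompose_of_mem_ne 𝒜ℤ ((mem_Pc k r a j q).1 hq b) (by omega)

/-- the pieces in degrees `t : ℕ` of the shifted polynomial ring `S(-a)` -/
noncomputable def P1 (a : ℤ) : ℕ → Submodule k Sk := fun t => 𝒜ℤ ((t : ℤ) - a)

instance gsmul_P1 (a : ℤ) : SetLike.GradedSMul 𝒜 (P1 k r a) where
  smul_mem := by
    intro i j x v hx hv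
    show x • v ∈ 𝒜ℤ (((i + j : ℕ) : ℤ) - a)
    have hx' : x ∈ 𝒜ℤ (i : ℤ) := (mem_stdGr_natCast k r i x).2 hx
    have h1 := SetLike.mul_mem_graded hx' hv
    have e : ((i + j : ℕ) : ℤ) - a = (i : ℤ) + ((j : ℤ) - a) := by push_cast; ring
    rw [e]
    exact h1

theorem hasProj_P1 (a : ℤ) : HasProj (P1 k r a) := by
  classical
  intro i
  refine ⟨⟨⟨fun x => (DirectSum.decompose 𝒜ℤ x ((i : ℤ) - a) : Sk), by simp⟩,
    fun x y => by simp⟩, ?_, ?_⟩
  · intro q hq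
    exact DirectSum.decompose_of_mem_same 𝒜ℤ hq
  · intro j hj q hq
    exact DirectSum.decompose_of_mem_ne 𝒜ℤ hq (by omega)

/-- the inclusion of a summand -/
noncomputable def ιb {m : ℕ} (b : Fin m) : Sk →ₗ[Sk] (Fin m → Sk) :=
  LinearMap.single Sk (fun _ : Fin m => Sk) b

/-- the projection onto a summand -/
noncomputable def πb {m : ℕ} (b : Fin m) : (Fin m → Sk) →ₗ[Sk] Sk :=
  LinearMap.proj b

lemma ιb_mem {m : ℕ} (a : Fin m → ℤ) (b : Fin m) (i : ℕ) (x : Sk) (hx : x ∈ P1 k r (a b) i) :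
    ιb k r b x ∈ Pc k r a (i + 0) := by
  rw [mem_Pc]
  intro b'
  by_cases h : b' = b
  · subst h
    show (Pi.single b' x : Fin m → Sk) b' ∈ _
    rw [Pi.single_eq_same]
    exact hx
  · show (Pi.single b x : Fin m → Sk) b' ∈ _
    rw [Pi.single_eq_of_ne h]
    exact Submodule.zero_mem _

lemma πb_mem {m : ℕ} (a : Fin m → ℤ) (b : Fin m) (i : ℕ) (v : Fin m → Sk)
    (hv : v ∈ Pc k r a i) : πb k r b v ∈ P1 k r (a b) (i + 0) :=
  (mem_Pc k r a i v).1 hv b

lemma sum_ιb_πb {m : ℕ} : ∑ b : Fin m, (ιb k r b) ∘ₗ (πb k r b) = LinearMap.id := by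
  classical
  apply LinearMap.ext
  intro v
  funext b'
  rw [LinearMap.sum_apply, Finset.sum_apply, LinearMap.id_apply]
  rw [Finset.sum_eq_single b']
  · show (Pi.single b' (v b') : Fin m → Sk) b' = _
    rw [Pi.single_eq_same]
  · intro b _ hb
    show (Pi.single b (v b) : Fin m → Sk) b' = 0
    rw [Pi.single_eq_of_ne (Ne.symm hb)]
  · intro h
    exact absurd (Finset.mem_univ _) h

/-- the identity of `tilde (Pc a)` is the sum of the projections onto the summands -/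
theorem sum_tildeMap_πb_ιb {m : ℕ} (a : Fin m → ℤ) (n : ℤ) :
    ∑ b : Fin m, tildeMap 𝒜 (Pc k r a) (P1 k r (a b)) (πb k r b) 0 (πb_mem k r a b) n n (by simp) ≫
      tildeMap 𝒜 (P1 k r (a b)) (Pc k r a) (ιb k r b) 0 (ιb_mem k r a b) n n (by simp) =
      𝟙 (GrTilde.tilde 𝒜 (Pc k r a) n) := by
  have hcomp : ∀ (b : Fin m) (i : ℕ) (x : Fin m → Sk), x ∈ Pc k r a i →
      ((ιb k r b) ∘ₗ (πb k r b)) x ∈ Pc k r a (i + (0 + 0)) :=
    fun b i x hx => ιb_mem k r a b i _ (πb_mem k r a b i x hx)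
  have h1 : ∀ b : Fin m,
      tildeMap 𝒜 (Pc k r a) (P1 k r (a b)) (πb k r b) 0 (πb_mem k r a b) n n (by simp) ≫
        tildeMap 𝒜 (P1 k r (a b)) (Pc k r a) (ιb k r b) 0 (ιb_mem k r a b) n n (by simp) =
      tildeMap 𝒜 (Pc k r a) (Pc k r a) ((ιb k r b) ∘ₗ (πb k r b)) (0 + 0) (hcomp b) n n
        (by simp) := fun b =>
    tildeMap_comp 𝒜 (Pc k r a) (P1 k r (a b)) (Pc k r a) (πb k r b) 0 (πb_mem k r a b)
      (ιb k r b) 0 (ιb_mem k r a b) n n n (by simp) (by simp) (hcomp b) (by simp)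
  rw [Finset.sum_congr rfl (fun b _ => h1 b)]
  have hsum : ∀ (i : ℕ) (x : Fin m → Sk), x ∈ Pc k r a i →
      (∑ b : Fin m, (ιb k r b) ∘ₗ (πb k r b)) x ∈ Pc k r a (i + (0 + 0)) := by
    intro i x hx
    rw [sum_ιb_πb]
    exact hx
  rw [← tildeMap_sum 𝒜 (Pc k r a) (Pc k r a) Finset.univ (fun b => (ιb k r b) ∘ₗ (πb k r b))
    (0 + 0) hcomp n n (by simp) hsum]
  have hid : ∀ (i : ℕ) (x : Fin m → Sk), x ∈ Pc k r a i →
      (LinearMap.id : (Fin m → Sk) →ₗ[Sk] (Fin m → Sk)) x ∈ Pc k r a (i + 0) := fun i x hx => hx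
  rw [tildeMap_congr 𝒜 (Pc k r a) (Pc k r a) _ (0 + 0) hsum LinearMap.id (sum_ιb_πb k r) hid]
  exact (tildeMap_id 𝒜 (Pc k r a) n n (by simp) hid).trans (eqToHom_refl _ _)

lemma mem_P1 (a : ℤ) (t : ℕ) (x : Sk) : x ∈ P1 k r a t ↔ x ∈ 𝒜ℤ ((t : ℤ) - a) := Iff.rfl

/-- **`S(-a)~ ≅ O(-a)`** -/
theorem nonempty_tilde_P1_iso (a : ℤ) :
    Nonempty (GrTilde.tilde 𝒜 (P1 k r a) 0 ≅ Twist.twistProjSpace r k (-a)) := by
  by_cases ha : a ≤ 0
  · obtain ⟨K, hK⟩ : ∃ K : ℕ, (K : ℤ) = -a := ⟨(-a).toNat, Int.toNat_of_nonneg (by omega)⟩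
    have hf : ∀ (i : ℕ) (x : Sk), x ∈ P1 k r a i →
        (LinearMap.id : Sk →ₗ[Sk] Sk) x ∈ 𝒜 (i + K) := by
      intro i x hx
      rw [mem_P1] at hx
      rw [LinearMap.id_apply, ← mem_stdGr_natCast]
      have e : ((i + K : ℕ) : ℤ) = (i : ℤ) - a := by push_cast; omega
      rw [e]
      exact hx
    haveI := isIso_tildeMap 𝒜 (P1 k r a) 𝒜 (LinearMap.id : Sk →ₗ[Sk] Sk) K hf
      (hasProj_of_decomposition_nat 𝒜) 0 (fun _ _ z _ hz => hz)
      (fun i _ z hz => ⟨z, by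
        rw [mem_P1]
        rw [← mem_stdGr_natCast] at hz
        have e : ((i + K : ℕ) : ℤ) = (i : ℤ) - a := by push_cast; omega
        rw [e] at hz
        exact hz, rfl⟩) 0 (-a) (by omega)
    have hb : -a = 0 + (K : ℤ) := by omega
    exact ⟨asIso (tildeMap 𝒜 (P1 k r a) 𝒜 (LinearMap.id : Sk →ₗ[Sk] Sk) K hf 0 (-a) hb) ≪≫
      (Groth.Agent.Helper1.TwistIso.twistIsoTilde 𝒜 (-a)).symm⟩
  · obtain ⟨K, hK⟩ : ∃ K : ℕ, (K : ℤ) = a := ⟨a.toNat, Int.toNat_of_nonneg (by omega)⟩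
    have hf : ∀ (i : ℕ) (x : Sk), x ∈ 𝒜 i →
        (LinearMap.id : Sk →ₗ[Sk] Sk) x ∈ P1 k r a (i + K) := by
      intro i x hx
      rw [mem_P1, LinearMap.id_apply]
      rw [← mem_stdGr_natCast] at hx
      have e : ((i + K : ℕ) : ℤ) - a = (i : ℤ) := by push_cast; omega
      rw [e]
      exact hx
    haveI := isIso_tildeMap 𝒜 𝒜 (P1 k r a) (LinearMap.id : Sk →ₗ[Sk] Sk) K hf
      (hasProj_P1 k r a) 0 (fun _ _ z _ hz => hz)
      (fun i _ z hz => ⟨z, by
        rw [mem_P1] at hz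
        rw [← mem_stdGr_natCast]
        have e : ((i + K : ℕ) : ℤ) - a = (i : ℤ) := by push_cast; omega
        rw [e] at hz
        exact hz, rfl⟩) (-a) 0 (by omega)
    have hb : (0 : ℤ) = -a + (K : ℤ) := by omega
    exact ⟨(asIso (tildeMap 𝒜 𝒜 (P1 k r a) (LinearMap.id : Sk →ₗ[Sk] Sk) K hf (-a) 0
      hb)).symm ≪≫ (Groth.Agent.Helper1.TwistIso.twistIsoTilde 𝒜 (-a)).symm⟩

end Groth.Agent.Helper1.RegRes
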