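import Mathlib
import Groth.Agent.Helper1.RegRes1
import Groth.Agent.Helper1.HorrA
import Groth.Agent.Helper1.PSB1
import Groth.Agent.Helper1.KzChase
import Groth.Agent.Helper4.SN5
import Groth.Agent.S10829
import Groth.Agent.Helper3.ProjNoeth

set_option autoImplicit false
set_option linter.unusedSectionVars false
set_option linter.style.haveILetI false

/-!
# Cohomology of the sheaves of free graded modules on projective space, and the chase along an
infinite resolution
-/

namespace Groth.Agent.Helper1.RegRes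

open CategoryTheory Limits AlgebraicGeometry TopologicalSpace Opposite
open Groth.Agent.Helper1.TildeMap Groth.Agent.Helper1.TildeFun Groth.Agent.Helper1.TildeEx2
open Groth.Agent.Helper7.HilbFn Groth.Agent.Helper1.Horr Groth.Agent.Helper1.HHSum
open Groth.Agent.Helper1.KzChase Groth.Agent.Helper1.HHLes Groth.Agent.Helper1.ProjTop
open Groth.Agent.Helper1.SerreCrit

universe u

/-- cohomology vanishing for an object whose identity is a sum of maps through objects with
vanishing cohomology -/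
theorem subsingleton_HH_of_sum_retract {X : Scheme.{u}} {B : X.Modules} {ι : Type*} [Fintype ι]
    (Ab : ι → X.Modules) (p : ∀ b, B ⟶ Ab b) (i : ∀ b, Ab b ⟶ B) (h : ∑ b, p b ≫ i b = 𝟙 B)
    (q : ℕ) (hA : ∀ b, Subsingleton (Coh.HH X (Ab b) q)) : Subsingleton (Coh.HH X B q) := by
  refine ⟨fun x y => ?_⟩
  have h1 : ∀ z : Coh.HH X B q, z = 0 := by
    intro z
    have h2 : ((Hn X q).map (∑ b, p b ≫ i b)).hom z = z := by
      rw [h, CategoryTheory.Functor.map_id]
      rfl
    rw [CategoryTheory.Functor.map_sum, hom_sum_apply] at h2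
    rw [← h2]
    refine Finset.sum_eq_zero (fun b _ => ?_)
    rw [CategoryTheory.Functor.map_comp]
    have h3 : ((Hn X q).map (p b)).hom z = 0 := (hA b).elim _ _
    show ((Hn X q).map (i b)).hom (((Hn X q).map (p b)).hom z) = 0
    rw [h3, map_zero]
  rw [h1 x, h1 y]

variable (k : Type u) [Field k] (r : ℕ)

local notation "Sk" => MvPolynomial (Fin (r + 1)) k
local notation "𝒜" => CohB1.polyGrading r k
local notation "𝒜ℤ" => GrSyz.stdGr k (Fin (r + 1))
local notation "ℙ" => CohB1.ProjSpace r k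
local notation "𝕆(" n ")" => Twist.twistProjSpace r k n

/-- the sheaf of the shifted polynomial ring, on `P^r` -/
noncomputable abbrev T1 (a : ℤ) : (ℙ).Modules := GrTilde.tilde 𝒜 (P1 k r a) 0

/-- the sheaf of a free graded module, on `P^r` -/
noncomputable abbrev Tc {m : ℕ} (a : Fin m → ℤ) : (ℙ).Modules := GrTilde.tilde 𝒜 (Pc k r a) 0

theorem subsingleton_HH_tw_T1 (a n : ℤ) (q : ℕ)
    (h : ¬ ((q = 0 ∧ 0 ≤ n - a) ∨ (q = r ∧ n - a ≤ -((r : ℤ) + 1)))) :
    Subsingleton (Coh.HH ℙ ((tw r k n).obj (T1 k r a)) q) := by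
  obtain ⟨e1⟩ := nonempty_tilde_P1_iso k r a
  obtain ⟨e2⟩ := nonempty_mulIso r k (-a) n (n - a) (by ring)
  have e : (tw r k n).obj (T1 k r a) ≅ 𝕆(n - a) := (tw r k n).mapIso e1 ≪≫ e2
  haveI := Groth.Agent.Helper1.PSB.subsingleton_HH r k (n - a) q h
  exact (HHlinEquiv k e q).toEquiv.subsingleton

/-- the projection of `Tc a` onto a summand -/
noncomputable def pb {m : ℕ} (a : Fin m → ℤ) (b : Fin m) : Tc k r a ⟶ T1 k r (a b) :=
  tildeMap 𝒜 (Pc k r a) (P1 k r (a b)) (πb k r b) 0 (πb_mem k r a b) 0 0 (by simp)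

/-- the inclusion of a summand of `Tc a` -/
noncomputable def ib {m : ℕ} (a : Fin m → ℤ) (b : Fin m) : T1 k r (a b) ⟶ Tc k r a :=
  tildeMap 𝒜 (P1 k r (a b)) (Pc k r a) (ιb k r b) 0 (ιb_mem k r a b) 0 0 (by simp)

theorem sum_pb_ib {m : ℕ} (a : Fin m → ℤ) : ∑ b, pb k r a b ≫ ib k r a b = 𝟙 (Tc k r a) :=
  sum_tildeMap_πb_ιb k r a 0

theorem subsingleton_HH_tw_Tc {m : ℕ} (a : Fin m → ℤ) (n : ℤ) (q : ℕ)
    (h : ∀ b, ¬ ((q = 0 ∧ 0 ≤ n - a b) ∨ (q = r ∧ n - a b ≤ -((r : ℤ) + 1)))) :
    Subsingleton (Coh.HH ℙ ((tw r k n).obj (Tc k r a)) q) := by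
  refine subsingleton_HH_of_sum_retract (fun b => (tw r k n).obj (T1 k r (a b)))
    (fun b => (tw r k n).map (pb k r a b)) (fun b => (tw r k n).map (ib k r a b))
    ?_ q (fun b => subsingleton_HH_tw_T1 k r (a b) n q (h b))
  have h2 := congrArg (fun f => (tw r k n).map f) (sum_pb_ib k r a)
  simp only [CategoryTheory.Functor.map_sum, CategoryTheory.Functor.map_comp,
    CategoryTheory.Functor.map_id] at h2
  exact h2

/-- Grothendieck vanishing on `P^r` -/
theorem subsingleton_HH_of_gt (G : (ℙ).Modules) (q : ℕ) (hq : r < q) :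
    Subsingleton (Coh.HH ℙ G q) := by
  haveI : IsNoetherianRing (MvPolynomial (Fin (r + 1)) k) := inferInstance
  haveI : IsNoetherian (CohB1.ProjSpace r k) :=
    Groth.Agent.Helper3.ProjNoeth.main (CohB1.polyGrading r k)
  exact Groth.Agent.Helper4.SN.subsingleton_HH_of_dim r (Groth.Agent.S10829.result k r).le G q hq

section chase

variable (B : Type u) [CommRing B] {X : Scheme.{u}} [X.Over (Spec (CommRingCat.of B))]
variable (C : ℕ → X.Modules) (d : ∀ p, C (p + 1) ⟶ C p)
  (hd : ∀ p, d (p + 1) ≫ d p = 0)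
  (hex : ∀ p, (ShortComplex.mk (d (p + 1)) (d p) (hd p)).Exact)
  (r' : ℕ) (hbig : ∀ (G : X.Modules) (q : ℕ), r' < q → Subsingleton (Coh.HH X G q))

include B hex hbig in
/-- the cohomology of the kernels vanishes (infinite resolutions, bounded cohomological dimension) -/
theorem subsingleton_HH_kernel' (i : ℕ)
    (hvan : ∀ p, Subsingleton (Coh.HH X (C (p + 2)) (i + p + 1))) (p : ℕ) :
    Subsingleton (Coh.HH X (kernel (d p)) (i + p + 1)) := by
  have key : ∀ m p : ℕ, r' ≤ p + m → Subsingleton (Coh.HH X (kernel (d p)) (i + p + 1)) := by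
    intro m
    induction m with
    | zero =>
      intro p hp
      exact hbig _ _ (by omega)
    | succ m ih =>
      intro p hp
      have h2 := ih (p + 1) (by omega)
      exact step B C d hd hex p (i + p + 1) (hvan p) h2
  exact key r' p (by omega)

include B hex hbig in
/-- **vanishing along an infinite resolution** -/
theorem subsingleton_HH_of_resolution' [Epi (d 0)] (i : ℕ)
    (hvan : ∀ p, Subsingleton (Coh.HH X (C (p + 1)) (i + p))) :
    Subsingleton (Coh.HH X (C 0) i) := by
  haveI := subsingleton_HH_kernel' B C d hd hex r' hbig i (fun p => hvan (p + 1)) 0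
  haveI := hvan 0
  exact subsingleton_of_exact B _ _ (exact_δker B (d 0) i)

end chase

end Groth.Agent.Helper1.RegRes
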