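import Mathlib
import Groth.Agent.Helper1.RegRes2
import Groth.Prelude.Def_Curv2

set_option autoImplicit false
set_option linter.unusedSectionVars false
set_option linter.style.haveILetI false

/-!
# The sheaf of a graded module with a graded free resolution generated in degrees `≤ d + i` is
`d`-regular
-/

namespace Groth.Agent.Helper1.RegRes

open CategoryTheory Limits AlgebraicGeometry TopologicalSpace Opposite
open Groth.Agent.Helper1.TildeMap Groth.Agent.Helper1.TildeFun Groth.Agent.Helper1.TildeEx2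
open Groth.Agent.Helper7.HilbFn Groth.Agent.Helper1.Horr

universe u

variable (k : Type u) [Field k] (r : ℕ)

local notation "Sk" => MvPolynomial (Fin (r + 1)) k
local notation "𝒜" => CohB1.polyGrading r k
local notation "𝒜ℤ" => GrSyz.stdGr k (Fin (r + 1))
local notation "ℙ" => CohB1.ProjSpace r k
local notation "𝕆(" n ")" => Twist.twistProjSpace r k n

variable {M : Type u} [AddCommGroup M] [Module k M] [Module (MvPolynomial (Fin (r + 1)) k) M]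
  [IsScalarTower k (MvPolynomial (Fin (r + 1)) k) M]
  (ℳ : ℤ → Submodule k M) [DirectSum.Decomposition ℳ]
  [SetLike.GradedSMul (GrSyz.stdGr k (Fin (r + 1))) ℳ]
  [SetLike.GradedSMul (CohB1.polyGrading r k) (fun n : ℕ => ℳ (n : ℤ))]
  (F : GrSyz.FreeRes (GrSyz.stdGr k (Fin (r + 1))) ℳ)

/-- the sheaf of the module -/
noncomputable abbrev TM : (ℙ).Modules := GrTilde.tilde 𝒜 (fun n : ℕ => ℳ (n : ℤ)) 0

lemma augLin_mem (i : ℕ) (x : Fin (F.rk 0) → Sk) (hx : x ∈ Pc k r (F.deg 0) i) :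
    F.augLin x ∈ (fun n : ℕ => ℳ (n : ℤ)) (i + 0) :=
  linearCombination_mem 𝒜ℤ ℳ (F.deg 0) F.aug F.aug_mem (i : ℤ) x hx

lemma dLin_mem (p : ℕ) (i : ℕ) (x : Fin (F.rk (p + 1)) → Sk) (hx : x ∈ Pc k r (F.deg (p + 1)) i) :
    F.dLin p x ∈ Pc k r (F.deg p) (i + 0) :=
  mulVec_mem 𝒜ℤ (F.deg p) (F.deg (p + 1)) (F.d p) (F.d_mem p) (i : ℤ) x hx

/-- the augmentation -/
noncomputable def augT : Tc k r (F.deg 0) ⟶ TM k r ℳ :=
  tildeMap 𝒜 (Pc k r (F.deg 0)) (fun n : ℕ => ℳ (n : ℤ)) F.augLin 0 (augLin_mem k r ℳ F) 0 0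
    (by simp)

/-- the differentials -/
noncomputable def dT (p : ℕ) : Tc k r (F.deg (p + 1)) ⟶ Tc k r (F.deg p) :=
  tildeMap 𝒜 (Pc k r (F.deg (p + 1))) (Pc k r (F.deg p)) (F.dLin p) 0 (dLin_mem k r ℳ F p) 0 0
    (by simp)

lemma aug_d_zero (w : Fin (F.rk 1) → Sk) : F.augLin (F.dLin 0 w) = 0 := by
  have h : F.dLin 0 w ∈ LinearMap.ker F.augLin := by
    rw [F.exact_zero]
    exact ⟨w, rfl⟩
  exact h

lemma d_d_zero (p : ℕ) (w : Fin (F.rk (p + 2)) → Sk) : F.dLin p (F.dLin (p + 1) w) = 0 := by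
  have h : F.dLin (p + 1) w ∈ LinearMap.ker (F.dLin p) := by
    rw [F.exact_succ]
    exact ⟨w, rfl⟩
  exact h

lemma dT_augT : dT k r ℳ F 0 ≫ augT k r ℳ F = 0 :=
  tildeMap_comp_eq_zero 𝒜 (Pc k r (F.deg 1)) (Pc k r (F.deg 0)) (fun n : ℕ => ℳ (n : ℤ))
    (F.dLin 0) 0 (dLin_mem k r ℳ F 0) F.augLin 0 (augLin_mem k r ℳ F) (aug_d_zero k r ℳ F) 0 0 0
    (by simp) (by simp)

lemma dT_dT (p : ℕ) : dT k r ℳ F (p + 1) ≫ dT k r ℳ F p = 0 :=
  tildeMap_comp_eq_zero 𝒜 (Pc k r (F.deg (p + 2))) (Pc k r (F.deg (p + 1))) (Pc k r (F.deg p))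
    (F.dLin (p + 1)) 0 (dLin_mem k r ℳ F (p + 1)) (F.dLin p) 0 (dLin_mem k r ℳ F p)
    (d_d_zero k r ℳ F p) 0 0 0 (by simp) (by simp)

lemma exact_zero : (ShortComplex.mk (dT k r ℳ F 0) (augT k r ℳ F) (dT_augT k r ℳ F)).Exact := by
  refine exact_tildeMap 𝒜 (Pc k r (F.deg 1)) (Pc k r (F.deg 0)) (fun n : ℕ => ℳ (n : ℤ))
    (F.dLin 0) 0 (dLin_mem k r ℳ F 0) F.augLin 0 (augLin_mem k r ℳ F) (aug_d_zero k r ℳ F)
    (hasProj_of_decomposition ℳ) 0 ?_ 0 0 0 (by simp) (by simp)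
  intro i _ z hz hgz
  have h1 : z ∈ K F (i : ℤ) 0 := ⟨hz, hgz⟩
  rw [← map_d_zero_eq F (i : ℤ)] at h1
  obtain ⟨w, hw, hwz⟩ := h1
  exact ⟨w, hw, hwz⟩

lemma exact_succ (p : ℕ) :
    (ShortComplex.mk (dT k r ℳ F (p + 1)) (dT k r ℳ F p) (dT_dT k r ℳ F p)).Exact := by
  refine exact_tildeMap 𝒜 (Pc k r (F.deg (p + 2))) (Pc k r (F.deg (p + 1))) (Pc k r (F.deg p))
    (F.dLin (p + 1)) 0 (dLin_mem k r ℳ F (p + 1)) (F.dLin p) 0 (dLin_mem k r ℳ F p)
    (d_d_zero k r ℳ F p) (hasProj_Pc k r (F.deg p)) 0 ?_ 0 0 0 (by simp) (by simp)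
  intro i _ z hz hgz
  have h1 : z ∈ K F (i : ℤ) (p + 1) := ⟨hz, hgz⟩
  rw [← map_d_succ_eq F (i : ℤ) p] at h1
  obtain ⟨w, hw, hwz⟩ := h1
  exact ⟨w, hw, hwz⟩

lemma epi_augT : Epi (augT k r ℳ F) := by
  refine epi_tildeMap 𝒜 (Pc k r (F.deg 0)) (fun n : ℕ => ℳ (n : ℤ)) F.augLin 0
    (augLin_mem k r ℳ F) (hasProj_of_decomposition ℳ) 0 ?_ 0 0 (by simp)
  intro i _ z hz
  have h1 : z ∈ ℳ (i : ℤ) := hz
  rw [← map_aug_eq F (i : ℤ)] at h1
  obtain ⟨w, hw, hwz⟩ := h1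
  exact ⟨w, hw, hwz⟩

/-- the terms of the resolution of `M~` -/
noncomputable def Cx : ℕ → (ℙ).Modules
  | 0 => TM k r ℳ
  | (p + 1) => Tc k r (F.deg p)

/-- the differentials of the resolution of `M~` -/
noncomputable def dx : ∀ p : ℕ, Cx k r ℳ F (p + 1) ⟶ Cx k r ℳ F p
  | 0 => augT k r ℳ F
  | (p + 1) => dT k r ℳ F p

lemma dx_comp (p : ℕ) : dx k r ℳ F (p + 1) ≫ dx k r ℳ F p = 0 := by
  cases p with
  | zero => exact dT_augT k r ℳ F
  | succ p => exact dT_dT k r ℳ F p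

lemma dx_exact (p : ℕ) :
    (ShortComplex.mk (dx k r ℳ F (p + 1)) (dx k r ℳ F p) (dx_comp k r ℳ F p)).Exact := by
  cases p with
  | zero => exact exact_zero k r ℳ F
  | succ p => exact exact_succ k r ℳ F p

/-- **the sheaf of a graded module with a resolution generated in degrees `≤ d + i` is
`d`-regular** -/
theorem isMRegular_of_freeRes (d : ℤ) (hF : F.IsGenLE d) :
    Curv2.IsMRegular k r (TM k r ℳ) d := by
  intro i hi1 hir
  obtain ⟨n, hn⟩ : ∃ n : ℤ, n = d - i := ⟨_, rfl⟩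
  rw [← hn]
  have hd' : ∀ p, (tw r k n).map (dx k r ℳ F (p + 1)) ≫ (tw r k n).map (dx k r ℳ F p) = 0 := by
    intro p
    rw [← CategoryTheory.Functor.map_comp, dx_comp, CategoryTheory.Functor.map_zero]
  have hex' : ∀ p, (ShortComplex.mk ((tw r k n).map (dx k r ℳ F (p + 1)))
      ((tw r k n).map (dx k r ℳ F p)) (hd' p)).Exact := by
    intro p
    exact (dx_exact k r ℳ F p).map (tw r k n)
  haveI : Epi ((tw r k n).map (dx k r ℳ F 0)) := by
    haveI : Epi (dx k r ℳ F 0) := epi_augT k r ℳ F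
    infer_instance
  refine subsingleton_HH_of_resolution' k (fun p => (tw r k n).obj (Cx k r ℳ F p))
    (fun p => (tw r k n).map (dx k r ℳ F p)) hd' hex' r (subsingleton_HH_of_gt k r) i ?_
  intro p
  by_cases hp : r < i + p
  · exact subsingleton_HH_of_gt k r _ _ hp
  · refine subsingleton_HH_tw_Tc k r (F.deg p) n (i + p) ?_
    intro b
    have hb := hF p b
    rintro (⟨h0, -⟩ | ⟨h1, h2⟩)
    · omega
    · rw [hn] at h2
      have : ((i + p : ℕ) : ℤ) = (r : ℤ) := by exact_mod_cast h1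
      push_cast at this
      omega

end Groth.Agent.Helper1.RegRes
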