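import Mathlib
import Groth.Agent.Helper1.RegSeqChain2

/-!
# Chains of regular sequences: lifting chains from the quotient
-/

set_option autoImplicit false

namespace Groth.Agent.Helper1.RegSeqChain

open RingTheory.Sequence IsLocalRing

universe u

variable {A : Type u} [CommRing A]

section lift

variable (I : Ideal A) (x : A) (hx : x ∈ I) (hreg : IsSMulRegular A x)

include hx hreg in
theorem lift_reach {wb wb' : List (A ⧸ Ideal.span {x})}
    (h : Reach (I.map (Ideal.Quotient.mk (Ideal.span {x}))) wb wb') :
    ∀ w : List A, w.map (Ideal.Quotient.mk (Ideal.span {x})) = wb →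
      ∃ w' : List A, w'.map (Ideal.Quotient.mk (Ideal.span {x})) = wb' ∧
        Reach I (x :: w) (x :: w') := by
  set π := Ideal.Quotient.mk (Ideal.span {x}) with hπ
  induction h with
  | refl => intro w hw; exact ⟨w, hw, .refl⟩
  | @tail b c hab hbc ih =>
    intro w hw
    obtain ⟨wB, hwB, hreach⟩ := ih w hw
    obtain ⟨hstep, hgood⟩ := hbc
    rcases hstep with hperm | ⟨hlen, hdrop⟩
    · obtain ⟨wC, hwC, hmap⟩ := exists_perm_map π hperm wB hwB
      refine ⟨wC, hmap, hreach.tail ⟨Or.inl (hwC.symm.cons x), ?_⟩⟩
      rw [good_cons_iff x wC I hx hreg, hmap]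
      exact hgood
    · by_cases hc : c = []
      · subst hc
        have hb : b = [] := List.length_eq_zero_iff.1 (by simpa using hlen)
        subst hb
        exact ⟨wB, hwB, hreach⟩
      · obtain ⟨c₀, hc₀⟩ := Ideal.Quotient.mk_surjective (c.getLast hc)
        have hmap : (wB.dropLast ++ [c₀]).map π = c := by
          rw [List.map_append, List.map_dropLast, hwB, hdrop, List.map_singleton]
          show c.dropLast ++ [π c₀] = c
          rw [hπ, hc₀, List.dropLast_append_getLast]
        have hwBne : wB ≠ [] := by
          intro h0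
          subst h0
          simp only [List.map_nil] at hwB
          subst hwB
          exact hc (List.length_eq_zero_iff.1 (by simpa using hlen.symm))
        refine ⟨wB.dropLast ++ [c₀], hmap, hreach.tail ⟨Or.inr ⟨?_, ?_⟩, ?_⟩⟩
        · have := List.length_pos_of_ne_nil hwBne
          simp only [List.length_cons, List.length_append, List.length_dropLast,
            List.length_singleton, List.length_nil]
          omega
        · rw [List.dropLast_cons_of_ne_nil hwBne, ← List.cons_append,
            List.dropLast_concat]
        · rw [good_cons_iff x _ I hx hreg, hmap]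
          exact hgood

include hx hreg in
/-- Two lifts of the same sequence in the quotient are connected. -/
theorem reach_of_map_eq [IsLocalRing (A ⧸ Ideal.span {x})] [IsNoetherianRing (A ⧸ Ideal.span {x})]
    (hIbar : I.map (Ideal.Quotient.mk (Ideal.span {x})) ≤ maximalIdeal (A ⧸ Ideal.span {x})) :
    ∀ (R R' L : List A),
      R.map (Ideal.Quotient.mk (Ideal.span {x})) = R'.map (Ideal.Quotient.mk (Ideal.span {x})) →
      Good (I.map (Ideal.Quotient.mk (Ideal.span {x})))
        ((L ++ R).map (Ideal.Quotient.mk (Ideal.span {x}))) →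
      Reach I (x :: (L ++ R)) (x :: (L ++ R')) := by
  set π := Ideal.Quotient.mk (Ideal.span {x}) with hπ
  intro R
  induction R with
  | nil =>
    intro R' L hmap _
    have : R' = [] := by simpa using hmap.symm
    subst this
    exact .refl
  | cons a t ih =>
    intro R' L hmap hgood
    obtain ⟨a', t', rfl, ha', ht'⟩ := List.map_eq_cons_iff.1 hmap.symm
    -- the three steps
    have hp1 : (L ++ a :: t).Perm ((L ++ t) ++ [a]) := by
      rw [List.append_assoc]
      exact List.Perm.append_left L (List.perm_append_singleton a t).symm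
    have hg2 : Good (I.map π) (((L ++ t) ++ [a]).map π) := hgood.perm hIbar (hp1.map π)
    have hg3 : Good (I.map π) (((L ++ t) ++ [a']).map π) := by
      have : ((L ++ t) ++ [a']).map π = ((L ++ t) ++ [a]).map π := by
        simp [ha']
      rw [this]; exact hg2
    have hp3 : ((L ++ t) ++ [a']).Perm ((L ++ [a']) ++ t) := by
      rw [List.append_assoc, List.append_assoc]
      exact List.Perm.append_left L (List.perm_append_comm)
    have hg4 : Good (I.map π) (((L ++ [a']) ++ t).map π) := hg3.perm hIbar (hp3.map π)
    have s1 : Reach I (x :: (L ++ a :: t)) (x :: ((L ++ t) ++ [a])) :=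
      .single ⟨Or.inl (hp1.cons x), (good_cons_iff x _ I hx hreg).2 hg2⟩
    have s2 : Reach I (x :: ((L ++ t) ++ [a])) (x :: ((L ++ t) ++ [a'])) := by
      refine .single ⟨Or.inr ⟨by simp, ?_⟩, (good_cons_iff x _ I hx hreg).2 hg3⟩
      have hd : ∀ (M : List A) (c : A), (x :: (M ++ [c])).dropLast = x :: M := by
        intro M c
        rw [List.dropLast_cons_of_ne_nil (by simp), List.dropLast_concat]
      rw [hd, hd]
    have s3 : Reach I (x :: ((L ++ t) ++ [a'])) (x :: ((L ++ [a']) ++ t)) :=
      .single ⟨Or.inl (hp3.cons x), (good_cons_iff x _ I hx hreg).2 hg4⟩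
    have s4 := ih t' (L ++ [a']) ht'.symm hg4
    have hfin : (L ++ [a']) ++ t' = L ++ a' :: t' := by simp
    rw [hfin] at s4
    exact ((s1.trans s2).trans s3).trans s4

end lift

end Groth.Agent.Helper1.RegSeqChain
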