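import Mathlib
import Groth.Agent.Helper1.RegSeqChain3

/-!
# Chains of regular sequences: choosing a common last element
-/

set_option autoImplicit false

namespace Groth.Agent.Helper1.RegSeqChain

open RingTheory.Sequence IsLocalRing

universe u

variable {A : Type u} [CommRing A] [IsLocalRing A] [IsNoetherianRing A]

/-- The module `A / (u')`. -/
abbrev QuotList (u' : List A) := A ⧸ (Ideal.ofList u' • ⊤ : Submodule A A)

lemma good_concat_iff (I : Ideal A) (u' : List A) (a : A) :
    Good I (u' ++ [a]) ↔ IsWeaklyRegular A u' ∧ IsSMulRegular (QuotList u') a ∧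
      Ideal.ofList u' ⊔ Ideal.span {a} = I := by
  unfold Good
  rw [isWeaklyRegular_append_iff, isWeaklyRegular_singleton_iff, Ideal.ofList_append,
    Ideal.ofList_singleton, and_assoc]

theorem good_concat_of_notMem {I : Ideal A} {u' : List A} {a x : A}
    (h : Good I (u' ++ [a])) (hx : x ∈ I) (hreg : IsSMulRegular (QuotList u') x)
    (hxJ : x ∉ maximalIdeal A * I ⊔ Ideal.ofList u') : Good I (u' ++ [x]) := by
  rw [good_concat_iff] at h ⊢
  obtain ⟨h1, h2, h3⟩ := h
  refine ⟨h1, hreg, ?_⟩
  have hK : Ideal.ofList u' ≤ I := h3 ▸ le_sup_left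
  have haI : a ∈ I := h3 ▸ Ideal.mem_sup_right (Ideal.mem_span_singleton_self a)
  apply le_antisymm
  · exact sup_le hK ((Ideal.span_singleton_le_iff_mem _).2 hx)
  · rw [← h3]
    refine sup_le le_sup_left ((Ideal.span_singleton_le_iff_mem _).2 ?_)
    -- write `x = y + c a`
    have hx' : x ∈ Ideal.ofList u' ⊔ Ideal.span {a} := h3 ▸ hx
    obtain ⟨y, hy, z, hz, hyz⟩ := Submodule.mem_sup.1 hx'
    obtain ⟨c, rfl⟩ := Ideal.mem_span_singleton'.1 hz
    have hc : IsUnit c := by
      by_contra hnu
      apply hxJ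
      rw [← hyz, add_comm]
      exact Ideal.add_mem _ (Ideal.mem_sup_left (Ideal.mul_mem_mul ((mem_maximalIdeal c).2 hnu) haI))
        (Ideal.mem_sup_right hy)
    obtain ⟨c', rfl⟩ := hc
    have : a = (c'⁻¹ : Aˣ) * (x - y) := by
      rw [← hyz]; simp
    rw [this]
    refine Ideal.mul_mem_left _ _ (Ideal.sub_mem _ ?_ ?_)
    · exact Ideal.mem_sup_right (Ideal.mem_span_singleton_self x)
    · exact Ideal.mem_sup_left hy

theorem not_le_of_good {I : Ideal A} (hI : I ≤ maximalIdeal A) {u' : List A} {a : A}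
    (h : Good I (u' ++ [a])) :
    (∀ p ∈ associatedPrimes A (QuotList u'), ¬ I ≤ p) ∧
      ¬ I ≤ maximalIdeal A * I ⊔ Ideal.ofList u' := by
  rw [good_concat_iff] at h
  obtain ⟨h1, h2, h3⟩ := h
  have hK : Ideal.ofList u' ≤ I := h3 ▸ le_sup_left
  have haI : a ∈ I := h3 ▸ Ideal.mem_sup_right (Ideal.mem_span_singleton_self a)
  constructor
  · intro p hp hle
    have : a ∈ ⋃ p ∈ associatedPrimes A (QuotList u'), (p : Set A) :=
      Set.mem_biUnion hp (hle haI)
    rw [biUnion_associatedPrimes_eq_compl_regular A (QuotList u')] at this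
    exact this h2
  · intro hle
    have hle' : I ≤ Ideal.ofList u' ⊔ maximalIdeal A • I := by
      rw [sup_comm]; exact hle
    have hIK : I ≤ Ideal.ofList u' :=
      Submodule.le_of_le_smul_of_le_jacobson_bot (IsNoetherian.noetherian I)
        (maximalIdeal_le_jacobson _) hle'
    have haK : a ∈ Ideal.ofList u' := hIK haI
    -- then `a` kills `1` in the quotient
    have h0 : a • (Submodule.Quotient.mk 1 : QuotList u') = a • 0 := by
      rw [smul_zero, ← Submodule.Quotient.mk_smul, Submodule.Quotient.mk_eq_zero]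
      have : (Ideal.ofList u' • ⊤ : Submodule A A) = Ideal.ofList u' := by
        rw [smul_eq_mul, Ideal.mul_top]
      rw [this]
      simpa using haK
    have h1 := h2 h0
    rw [Submodule.Quotient.mk_eq_zero, smul_eq_mul, Ideal.mul_top] at h1
    have : Ideal.ofList u' = ⊤ := (Ideal.eq_top_iff_one _).2 h1
    exact (maximalIdeal.isMaximal A).ne_top (top_le_iff.1 (this ▸ hK.trans hI))

/-- Prime avoidance: a common new last element for two good sequences. -/
theorem exists_common_last {I : Ideal A} (hI : I ≤ maximalIdeal A) {u' v' : List A} {a b : A}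
    (hu : Good I (u' ++ [a])) (hv : Good I (v' ++ [b])) :
    ∃ x ∈ I, Good I (u' ++ [x]) ∧ Good I (v' ++ [x]) := by
  classical
  obtain ⟨hu1, hu2⟩ := not_le_of_good hI hu
  obtain ⟨hv1, hv2⟩ := not_le_of_good hI hv
  have hfu := associatedPrimes.finite A (QuotList u')
  have hfv := associatedPrimes.finite A (QuotList v')
  let s : Finset (Ideal A) := hfu.toFinset ∪ hfv.toFinset
  have hs : ∀ i ∈ s, (id i : Ideal A).IsPrime := by
    intro i hi
    rcases Finset.mem_union.1 hi with h | h
    · exact IsAssociatedPrime.isPrime (hfu.mem_toFinset.1 h)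
    · exact IsAssociatedPrime.isPrime (hfv.mem_toFinset.1 h)
  have key := (Ideal.subset_union_prime' (s := s) (f := id)
    (a := maximalIdeal A * I ⊔ Ideal.ofList u') (b := maximalIdeal A * I ⊔ Ideal.ofList v')
    hs (I := I)).not
  have hnot : ¬ (I ≤ id (maximalIdeal A * I ⊔ Ideal.ofList u') ∨
      I ≤ id (maximalIdeal A * I ⊔ Ideal.ofList v') ∨ ∃ i ∈ s, I ≤ id i) := by
    rintro (h | h | ⟨i, hi, h⟩)
    · exact hu2 h
    · exact hv2 h
    · rcases Finset.mem_union.1 hi with h' | h'
      · exact hu1 i (hfu.mem_toFinset.1 h') h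
      · exact hv1 i (hfv.mem_toFinset.1 h') h
  have hns := key.2 hnot
  rw [Set.not_subset] at hns
  obtain ⟨x, hxI, hxn⟩ := hns
  simp only [id, Set.mem_union, SetLike.mem_coe, Set.mem_iUnion, not_or, not_exists] at hxn
  obtain ⟨⟨hxJu, hxJv⟩, hxs⟩ := hxn
  have hregu : IsSMulRegular (QuotList u') x := by
    by_contra hnr
    have : x ∈ ({r : A | IsSMulRegular (QuotList u') r}ᶜ : Set A) := hnr
    rw [← biUnion_associatedPrimes_eq_compl_regular A (QuotList u')] at this
    obtain ⟨p, hp, hxp⟩ := Set.mem_iUnion₂.1 this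
    exact hxs p (Finset.mem_union_left _ (hfu.mem_toFinset.2 hp)) hxp
  have hregv : IsSMulRegular (QuotList v') x := by
    by_contra hnr
    have : x ∈ ({r : A | IsSMulRegular (QuotList v') r}ᶜ : Set A) := hnr
    rw [← biUnion_associatedPrimes_eq_compl_regular A (QuotList v')] at this
    obtain ⟨p, hp, hxp⟩ := Set.mem_iUnion₂.1 this
    exact hxs p (Finset.mem_union_right _ (hfv.mem_toFinset.2 hp)) hxp
  exact ⟨x, hxI, good_concat_of_notMem hu hxI hregu hxJu, good_concat_of_notMem hv hxI hregv hxJv⟩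

end Groth.Agent.Helper1.RegSeqChain
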