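import Mathlib
import Groth.Agent.Helper1.RegSeqChain4

/-!
# Chains of regular sequences: the main induction
-/

set_option autoImplicit false

namespace Groth.Agent.Helper1.RegSeqChain

open RingTheory.Sequence IsLocalRing

universe u

theorem eq_nil_of_good_bot {A : Type u} [CommRing A] [Nontrivial A] {v : List A}
    (h : Good (⊥ : Ideal A) v) : v = [] := by
  cases v with
  | nil => rfl
  | cons b t =>
    exfalso
    have hb : b ∈ Ideal.ofList (b :: t) := Ideal.subset_span (by simp)
    rw [h.2, Ideal.mem_bot] at hb
    subst hb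
    have hreg : IsSMulRegular A (0 : A) := ((isWeaklyRegular_cons_iff A 0 t).1 h.1).1
    have : (1 : A) = 0 := hreg (by simp)
    exact one_ne_zero this

theorem reach_main : ∀ (n : ℕ) (A : Type u) [CommRing A] [IsLocalRing A] [IsNoetherianRing A]
    (I : Ideal A), I ≤ maximalIdeal A → ∀ (u v : List A), u.length = n → Good I u → Good I v →
    Reach I u v := by
  intro n
  induction n with
  | zero =>
    intro A _ _ _ I hI u v hlen hu hv
    have hu0 : u = [] := List.length_eq_zero_iff.1 hlen
    subst hu0
    have hI0 : I = ⊥ := by rw [← hu.2, Ideal.ofList_nil]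
    subst hI0
    rw [eq_nil_of_good_bot hv]
  | succ n ih =>
    intro A _ _ _ I hI u v hlen hu hv
    rcases List.eq_nil_or_concat u with rfl | ⟨u', a, rfl⟩
    · simp at hlen
    rcases List.eq_nil_or_concat v with rfl | ⟨v', b, rfl⟩
    · exfalso
      have hI0 : I = ⊥ := by rw [← hv.2, Ideal.ofList_nil]
      subst hI0
      have := eq_nil_of_good_bot hu
      simp at this
    rw [List.concat_eq_append] at hu hv hlen ⊢
    have hlen' : u'.length = n := by simpa using hlen
    obtain ⟨x, hxI, hgu, hgv⟩ := exists_common_last hI hu hv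
    have hgxu : Good I (x :: u') := hgu.perm hI (List.perm_append_singleton x u')
    have hgxv : Good I (x :: v') := hgv.perm hI (List.perm_append_singleton x v')
    have hreg : IsSMulRegular A x := ((isWeaklyRegular_cons_iff A x u').1 hgxu.1).1
    -- the quotient ring
    have hxm : x ∈ maximalIdeal A := hI hxI
    haveI : Nontrivial (A ⧸ Ideal.span {x}) := by
      rw [Ideal.Quotient.nontrivial_iff]
      intro htop
      have : Ideal.span {x} ≤ maximalIdeal A := (Ideal.span_singleton_le_iff_mem _).2 hxm
      exact (maximalIdeal.isMaximal A).ne_top (top_le_iff.1 (htop ▸ this))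
    haveI : IsLocalRing (A ⧸ Ideal.span {x}) :=
      IsLocalRing.of_surjective' (Ideal.Quotient.mk (Ideal.span {x})) Ideal.Quotient.mk_surjective
    haveI hlocal : IsLocalHom (Ideal.Quotient.mk (Ideal.span {x})) :=
      IsLocalHom.of_surjective _ Ideal.Quotient.mk_surjective
    have hIbar : I.map (Ideal.Quotient.mk (Ideal.span {x})) ≤
        maximalIdeal (A ⧸ Ideal.span {x}) := by
      rw [Ideal.map_le_iff_le_comap]
      intro y hy
      rw [Ideal.mem_comap, mem_maximalIdeal, mem_nonunits_iff]
      intro hunit
      exact (mem_maximalIdeal y).1 (hI hy) (hlocal.map_nonunit y hunit)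
    have hgu' := (good_cons_iff x u' I hxI hreg).1 hgxu
    have hgv' := (good_cons_iff x v' I hxI hreg).1 hgxv
    have hmid := ih (A ⧸ Ideal.span {x}) _ hIbar _ _ (by simpa using hlen') hgu' hgv'
    obtain ⟨w', hw', hreach⟩ := lift_reach I x hxI hreg hmid u' rfl
    have hfix := reach_of_map_eq I x hxI hreg hIbar w' v' [] hw'
      (by simpa [hw'] using hgv')
    simp only [List.nil_append] at hfix
    have hd : ∀ (M : List A) (c : A), (M ++ [c]).dropLast = M := fun M c =>
      List.dropLast_concat
    have s1 : Reach I (u' ++ [a]) (u' ++ [x]) :=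
      .single ⟨Or.inr ⟨by simp, by rw [hd, hd]⟩, hgu⟩
    have s2 : Reach I (u' ++ [x]) (x :: u') :=
      .single ⟨Or.inl (List.perm_append_singleton x u'), hgxu⟩
    have s5 : Reach I (x :: v') (v' ++ [x]) :=
      .single ⟨Or.inl (List.perm_append_singleton x v').symm, hgv⟩
    have s6 : Reach I (v' ++ [x]) (v' ++ [b]) :=
      .single ⟨Or.inr ⟨by simp, by rw [hd, hd]⟩, hv⟩
    have hfinal := ((((s1.trans s2).trans hreach).trans hfix).trans s5).trans s6
    simpa using hfinal

end Groth.Agent.Helper1.RegSeqChain
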