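import Mathlib

/-!
# RegSeqPoly1: non-zero-divisors modulo ideals in polynomial rings: linear polynomials with
regular leading coefficient, the swap principle
-/

set_option autoImplicit false
open Polynomial

namespace Groth.Agent.Helper1.RegSeqPoly

/-- `x` is a non-zero-divisor modulo `I` -/
def RegMod {R : Type*} [CommRing R] (I : Ideal R) (x : R) : Prop := ∀ p, x * p ∈ I → p ∈ I

theorem RegMod.swap {R : Type*} [CommRing R] {G : Set R} {x y : R}
    (hy : RegMod (Ideal.span G) y) (hx : RegMod (Ideal.span (insert y G)) x) :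
    RegMod (Ideal.span (insert x G)) y := by
  intro m hm
  rw [Ideal.span_insert, Submodule.mem_sup] at hm ⊢
  obtain ⟨z, hz, i, hi, hzi⟩ := hm
  obtain ⟨n, rfl⟩ := Ideal.mem_span_singleton'.1 hz
  have h1 : x * n ∈ Ideal.span (insert y G) := by
    rw [Ideal.span_insert, Submodule.mem_sup]
    refine ⟨y * m, Ideal.mem_span_singleton'.2 ⟨m, mul_comm _ _⟩, -i, neg_mem hi, ?_⟩
    rw [← hzi]; ring
  have h2 := hx n h1
  rw [Ideal.span_insert, Submodule.mem_sup] at h2
  obtain ⟨w, hw, i', hi', hwi⟩ := h2
  obtain ⟨n', rfl⟩ := Ideal.mem_span_singleton'.1 hw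
  have h3 : y * (m - x * n') ∈ Ideal.span G := by
    have : y * (m - x * n') = i + x * i' := by
      have e1 : y * m = n * x + i := hzi.symm
      have e2 : n = n' * y + i' := hwi.symm
      rw [mul_sub, e1, e2]; ring
    rw [this]
    exact add_mem hi (Ideal.mul_mem_left _ _ hi')
  have h4 := hy _ h3
  refine ⟨x * n', Ideal.mem_span_singleton'.2 ⟨n', mul_comm _ _⟩, m - x * n', h4, by ring⟩

theorem regMod_linear {S : Type*} [CommRing S] (I0 : Ideal S) (u α : S)
    (hu : ∀ p, u * p ∈ I0 → p ∈ I0) :
    RegMod (Ideal.map (C : S →+* S[X]) I0) (C u * X + C α) := by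
  intro p hp
  rw [Ideal.mem_map_C_iff] at hp ⊢
  have hc : ∀ n, ((C u * X + C α) * p).coeff (n + 1) = u * p.coeff n + α * p.coeff (n + 1) := by
    intro n
    rw [add_mul, mul_assoc, coeff_add, coeff_C_mul, coeff_C_mul, coeff_X_mul]
  have key : ∀ k n, p.natDegree < n + k → p.coeff n ∈ I0 := by
    intro k
    induction k with
    | zero =>
      intro n hn
      rw [coeff_eq_zero_of_natDegree_lt (by simpa using hn)]
      exact I0.zero_mem
    | succ k ih =>
      intro n hn
      have h1 : p.coeff (n + 1) ∈ I0 := ih (n + 1) (by omega)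
      have h2 := hp (n + 1)
      rw [hc] at h2
      apply hu
      have : u * p.coeff n = (u * p.coeff n + α * p.coeff (n + 1)) - α * p.coeff (n + 1) := by ring
      rw [this]
      exact sub_mem h2 (I0.mul_mem_left _ h1)
  intro n
  exact key (p.natDegree + 1) n (by omega)

theorem RegMod.of_ringEquiv {R R' : Type*} [CommRing R] [CommRing R'] (e : R ≃+* R')
    {I : Ideal R} {x : R} (h : RegMod (I.map (e : R →+* R')) (e x)) : RegMod I x := by
  intro p hp
  have h1 : e x * e p ∈ I.map (e : R →+* R') := by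
    rw [← map_mul]
    exact Ideal.mem_map_of_mem _ hp
  have h2 := h _ h1
  obtain ⟨q, hq, hqe⟩ := (Ideal.mem_map_iff_of_surjective (e : R →+* R') e.surjective).1 h2
  have : q = p := e.injective hqe
  rwa [← this]

theorem RegMod.map_ringEquiv {R R' : Type*} [CommRing R] [CommRing R'] (e : R ≃+* R')
    {I : Ideal R} {x : R} (h : RegMod I x) : RegMod (I.map (e : R →+* R')) (e x) := by
  intro p hp
  obtain ⟨q, rfl⟩ := e.surjective p
  rw [← map_mul] at hp
  obtain ⟨r, hr, hre⟩ := (Ideal.mem_map_iff_of_surjective (e : R →+* R') e.surjective).1 hp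
  have : r = x * q := e.injective hre
  rw [this] at hr
  exact Ideal.mem_map_of_mem _ (h q hr)

end Groth.Agent.Helper1.RegSeqPoly
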