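import Mathlib
import Groth.Agent.Helper1.RegSeqPoly1

/-!
# RegSeqPoly2: a polynomial `u * X j + α` in `MvPolynomial σ A` with `u`, `α` and the generators
of `I` not involving `X j` is a non-zero-divisor modulo `I` as soon as `u` is
-/

set_option autoImplicit false
open MvPolynomial

namespace Groth.Agent.Helper1.RegSeqPoly

variable {σ : Type*} [DecidableEq σ] {A : Type*} [CommRing A] (j : σ)

/-- single out the variable `X j` -/
noncomputable def Ψ : MvPolynomial σ A ≃ₐ[A] Polynomial (MvPolynomial {i // i ≠ j} A) :=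
  (MvPolynomial.renameEquiv A (Equiv.optionSubtypeNe j).symm).trans
    (MvPolynomial.optionEquivLeft A _)

theorem Ψ_X_self : Ψ (A := A) j (X j) = Polynomial.X := by
  simp [Ψ]

theorem Ψ_X_of_ne {i : σ} (h : i ≠ j) :
    Ψ (A := A) j (X i) = Polynomial.C (X ⟨i, h⟩) := by
  simp [Ψ, Equiv.optionSubtypeNe_symm_of_ne h]

theorem Ψ_supported {p : MvPolynomial σ A} (hp : p ∈ supported A ({j}ᶜ : Set σ)) :
    ∃ p', Ψ j p = Polynomial.C p' := by
  have hle : supported A ({j}ᶜ : Set σ) ≤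
      Subalgebra.comap (Ψ (A := A) j).toAlgHom
        ((Algebra.ofId (MvPolynomial {i // i ≠ j} A)
          (Polynomial (MvPolynomial {i // i ≠ j} A))).range.restrictScalars A) := by
    rw [supported, Algebra.adjoin_le_iff]
    rintro _ ⟨i, hi, rfl⟩
    have hij : i ≠ j := hi
    refine ⟨X ⟨i, hij⟩, ?_⟩
    exact (Ψ_X_of_ne j hij).symm
  obtain ⟨p', hp'⟩ := hle hp
  exact ⟨p', hp'.symm⟩

theorem regMod_linear_mv (G : Set (MvPolynomial σ A))
    (hG : ∀ g ∈ G, g ∈ supported A ({j}ᶜ : Set σ)) (u α : MvPolynomial σ A)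
    (hu : u ∈ supported A ({j}ᶜ : Set σ)) (hα : α ∈ supported A ({j}ᶜ : Set σ))
    (hreg : RegMod (Ideal.span G) u) : RegMod (Ideal.span G) (u * X j + α) := by
  obtain ⟨u', hu'⟩ := Ψ_supported j hu
  obtain ⟨α', hα'⟩ := Ψ_supported j hα
  apply RegMod.of_ringEquiv (Ψ (A := A) j).toRingEquiv
  -- the image ideal is extended from the coefficient ring
  let G' : Set (MvPolynomial {i // i ≠ j} A) := {g' | ∃ g ∈ G, Ψ j g = Polynomial.C g'}
  have hI : (Ideal.span G).map ((Ψ (A := A) j).toRingEquiv : MvPolynomial σ A →+* _) =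
      Ideal.map Polynomial.C (Ideal.span G') := by
    rw [Ideal.map_span, Ideal.map_span]
    congr 1
    ext q
    constructor
    · rintro ⟨g, hg, rfl⟩
      obtain ⟨g', hg'⟩ := Ψ_supported j (hG g hg)
      exact ⟨g', ⟨g, hg, hg'⟩, hg'.symm⟩
    · rintro ⟨g', ⟨g, hg, hg'⟩, rfl⟩
      exact ⟨g, hg, hg'⟩
  rw [hI]
  have hx : (Ψ (A := A) j).toRingEquiv (u * X j + α) =
      Polynomial.C u' * Polynomial.X + Polynomial.C α' := by
    change Ψ j (u * X j + α) = _
    rw [map_add, map_mul, hu', hα', Ψ_X_self]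
  rw [hx]
  apply regMod_linear
  intro p hp
  have h1 := hreg.map_ringEquiv (Ψ (A := A) j).toRingEquiv
  rw [hI] at h1
  have h2 : (Ψ (A := A) j).toRingEquiv u = Polynomial.C u' := hu'
  rw [h2] at h1
  have h3 := h1 (Polynomial.C p) (by
    rw [← map_mul, Ideal.mem_map_C_iff]
    intro n
    rw [Polynomial.coeff_C]
    split_ifs
    · exact hp
    · exact Ideal.zero_mem _)
  rw [Ideal.mem_map_C_iff] at h3
  simpa using h3 0

end Groth.Agent.Helper1.RegSeqPoly
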