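import Mathlib
import Groth.Prelude.Def_W4c1bouilletffgsL3
import Groth.Agent.Helper1.RegSeqPoly2

/-!
# RegSeqPoly3: the regular sequences `(L1, L2, L3)` and `(Q1, Q2, Q3)` in the polynomial ring of
structure constants of three-dimensional Lie algebras
-/

set_option autoImplicit false
open MvPolynomial

namespace Groth.Agent.Helper1.RegSeqPoly

theorem isRegular_of_regMod {R : Type*} [CommRing R] (x1 x2 x3 : R)
    (h1 : RegMod (Ideal.span (∅ : Set R)) x1) (h2 : RegMod (Ideal.span {x1}) x2)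
    (h3 : RegMod (Ideal.span {x1, x2}) x3) (hne : Ideal.span {x1, x2, x3} ≠ ⊤) :
    RingTheory.Sequence.IsRegular R [x1, x2, x3] := by
  have key : ∀ (I : Ideal R) (x : R), RegMod I x →
      IsSMulRegular (R ⧸ (I • (⊤ : Submodule R R))) x := by
    intro I x h
    rw [isSMulRegular_quotient_iff_mem_of_smul_mem]
    intro p hp
    have e : (I • (⊤ : Submodule R R)) = I := by
      rw [Ideal.smul_top_eq_map]
      simp
    rw [e] at hp ⊢
    exact h p hp
  refine ⟨(RingTheory.Sequence.isWeaklyRegular_iff_Fin _ _).2 ?_, ?_⟩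
  · intro i
    fin_cases i
    · have : Ideal.ofList (List.take (0 : ℕ) [x1, x2, x3]) = Ideal.span (∅ : Set R) := by
        simp [Ideal.ofList]
      show IsSMulRegular
        (R ⧸ (Ideal.ofList (List.take (0 : ℕ) [x1, x2, x3]) • (⊤ : Submodule R R))) x1
      rw [this]
      exact key _ _ h1
    · have : Ideal.ofList (List.take (1 : ℕ) [x1, x2, x3]) = Ideal.span ({x1} : Set R) := by
        simp [Ideal.ofList]
      show IsSMulRegular
        (R ⧸ (Ideal.ofList (List.take (1 : ℕ) [x1, x2, x3]) • (⊤ : Submodule R R))) x2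
      rw [this]
      exact key _ _ h2
    · have : Ideal.ofList (List.take (2 : ℕ) [x1, x2, x3]) = Ideal.span ({x1, x2} : Set R) := by
        simp [Ideal.ofList]
        congr 1
      show IsSMulRegular
        (R ⧸ (Ideal.ofList (List.take (2 : ℕ) [x1, x2, x3]) • (⊤ : Submodule R R))) x3
      rw [this]
      exact key _ _ h3
  · intro h
    apply hne
    have e : (Ideal.ofList [x1, x2, x3] • (⊤ : Submodule R R)) = Ideal.ofList [x1, x2, x3] := by
      rw [Ideal.smul_top_eq_map]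
      simp
    rw [e] at h
    rw [h]
    simp [Ideal.ofList]
    congr 1

theorem RegMod.neg {R : Type*} [CommRing R] {I : Ideal R} {x : R} (h : RegMod I x) :
    RegMod I (-x) := by
  intro p hp
  apply h
  have : x * p = -(-x * p) := by ring
  rw [this]
  exact neg_mem hp

variable {σ : Type*} [DecidableEq σ] {A : Type*} [CommRing A]

/-- the monic case -/
theorem regMod_monic_mv (j : σ) (G : Set (MvPolynomial σ A))
    (hG : ∀ g ∈ G, g ∈ supported A ({j}ᶜ : Set σ)) (α : MvPolynomial σ A)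
    (hα : α ∈ supported A ({j}ᶜ : Set σ)) : RegMod (Ideal.span G) (X j + α) := by
  have := regMod_linear_mv j G hG 1 α (Subalgebra.one_mem _) hα
    (fun p hp => by rwa [one_mul] at hp)
  rwa [one_mul] at this

end Groth.Agent.Helper1.RegSeqPoly

namespace Groth.Agent.Helper1.Lie3Reg

open Groth.Agent.Helper1.RegSeqPoly Lie3Mod

variable (A : Type*) [CommRing A] [Nontrivial A]

/-- membership in the subalgebra of polynomials not involving `X j` -/
macro "supp_tac" : tactic => `(tactic|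
  (repeat (first
    | apply Subalgebra.sub_mem | apply Subalgebra.add_mem | apply Subalgebra.mul_mem
    | apply Subalgebra.neg_mem
    | exact (MvPolynomial.X_mem_supported).2 (by decide))))

theorem L1_supp (j : Fin 9) (h0 : j ≠ 0) (h8 : j ≠ 8) :
    L1 A ∈ supported A ({j}ᶜ : Set (Fin 9)) := by
  unfold L1 va vi
  exact Subalgebra.sub_mem _ (X_mem_supported.2 (fun h => h0 h.symm))
    (X_mem_supported.2 (fun h => h8 h.symm))

theorem L2_supp (j : Fin 9) (h1 : j ≠ 1) (h5 : j ≠ 5) :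
    L2 A ∈ supported A ({j}ᶜ : Set (Fin 9)) := by
  unfold L2 vb vf
  exact Subalgebra.add_mem _ (X_mem_supported.2 (fun h => h1 h.symm))
    (X_mem_supported.2 (fun h => h5 h.symm))

theorem L3_supp (j : Fin 9) (h3 : j ≠ 3) (h7 : j ≠ 7) :
    L3 A ∈ supported A ({j}ᶜ : Set (Fin 9)) := by
  unfold L3 vd vh
  exact Subalgebra.add_mem _ (X_mem_supported.2 (fun h => h3 h.symm))
    (X_mem_supported.2 (fun h => h7 h.symm))

theorem Xs (i j : Fin 9) (h : i ≠ j) : (X i : D A) ∈ supported A ({j}ᶜ : Set (Fin 9)) :=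
  X_mem_supported.2 h

theorem Q1_supp (j : Fin 9) (h : j = 2 ∨ j = 4) :
    Q1 A ∈ supported A ({j}ᶜ : Set (Fin 9)) := by
  unfold Q1 va vb vd vf vg vh vi
  rcases h with rfl | rfl <;>
  exact Subalgebra.sub_mem _ (Subalgebra.sub_mem _ (Subalgebra.add_mem _
    (Subalgebra.mul_mem _ (Xs A _ _ (by decide)) (Xs A _ _ (by decide)))
    (Subalgebra.mul_mem _ (Xs A _ _ (by decide)) (Xs A _ _ (by decide))))
    (Subalgebra.mul_mem _ (Xs A _ _ (by decide)) (Xs A _ _ (by decide))))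
    (Subalgebra.mul_mem _ (Xs A _ _ (by decide)) (Xs A _ _ (by decide)))

theorem Q2_supp : Q2 A ∈ supported A ({2}ᶜ : Set (Fin 9)) := by
  unfold Q2 va vb vd ve vf vh vi
  exact Subalgebra.sub_mem _ (Subalgebra.sub_mem _ (Subalgebra.add_mem _
    (Subalgebra.mul_mem _ (Xs A _ _ (by decide)) (Xs A _ _ (by decide)))
    (Subalgebra.mul_mem _ (Xs A _ _ (by decide)) (Xs A _ _ (by decide))))
    (Subalgebra.mul_mem _ (Xs A _ _ (by decide)) (Xs A _ _ (by decide))))
    (Subalgebra.mul_mem _ (Xs A _ _ (by decide)) (Xs A _ _ (by decide)))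

theorem Q1_eq : Q1 A = (-(L2 A)) * X 6 + (X 0 * X 7 + X 3 * X 8) := by
  unfold Q1 L2 va vb vd vf vg vh vi; ring

theorem Q2_eq : Q2 A = (-(L1 A)) * X 4 + (X 1 * X 3 - X 5 * X 7) := by
  unfold Q2 L1 va vb vd ve vf vh vi; ring

theorem Q3_eq : Q3 A = (L3 A) * X 2 + (-(X 0 * X 5) - X 1 * X 8) := by
  unfold Q3 L3 va vb vc vd vf vh vi; ring

theorem L1_eq : L1 A = X 0 + (-(X 8)) := by unfold L1 va vi; ring
theorem L2_eq : L2 A = X 1 + X 5 := by unfold L2 vb vf; ring
theorem L3_eq : L3 A = X 3 + X 7 := by unfold L3 vd vh; ring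

theorem α1_supp : (X 0 * X 7 + X 3 * X 8 : D A) ∈ supported A ({6}ᶜ : Set (Fin 9)) :=
  Subalgebra.add_mem _
    (Subalgebra.mul_mem _ (Xs A _ _ (by decide)) (Xs A _ _ (by decide)))
    (Subalgebra.mul_mem _ (Xs A _ _ (by decide)) (Xs A _ _ (by decide)))

theorem α2_supp : (X 1 * X 3 - X 5 * X 7 : D A) ∈ supported A ({4}ᶜ : Set (Fin 9)) :=
  Subalgebra.sub_mem _
    (Subalgebra.mul_mem _ (Xs A _ _ (by decide)) (Xs A _ _ (by decide)))
    (Subalgebra.mul_mem _ (Xs A _ _ (by decide)) (Xs A _ _ (by decide)))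

theorem α3_supp : (-(X 0 * X 5) - X 1 * X 8 : D A) ∈ supported A ({2}ᶜ : Set (Fin 9)) :=
  Subalgebra.sub_mem _
    (Subalgebra.neg_mem _ (Subalgebra.mul_mem _ (Xs A _ _ (by decide)) (Xs A _ _ (by decide))))
    (Subalgebra.mul_mem _ (Xs A _ _ (by decide)) (Xs A _ _ (by decide)))

/-- `L1` is regular modulo any ideal generated by polynomials not involving `a = X 0` -/
theorem reg_L1 (G : Set (D A)) (hG : ∀ g ∈ G, g ∈ supported A ({0}ᶜ : Set (Fin 9))) :
    RegMod (Ideal.span G) (L1 A) := by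
  rw [L1_eq]
  exact regMod_monic_mv 0 G hG _ (Subalgebra.neg_mem _ (Xs A _ _ (by decide)))

theorem reg_L2 (G : Set (D A)) (hG : ∀ g ∈ G, g ∈ supported A ({1}ᶜ : Set (Fin 9))) :
    RegMod (Ideal.span G) (L2 A) := by
  rw [L2_eq]
  exact regMod_monic_mv 1 G hG _ (Xs A _ _ (by decide))

theorem reg_L3 (G : Set (D A)) (hG : ∀ g ∈ G, g ∈ supported A ({3}ᶜ : Set (Fin 9))) :
    RegMod (Ideal.span G) (L3 A) := by
  rw [L3_eq]
  exact regMod_monic_mv 3 G hG _ (Xs A _ _ (by decide))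

/-- `Q1` is regular modulo ideals generated by polynomials without `g = X 6` modulo which `L2`
is regular -/
theorem reg_Q1 (G : Set (D A)) (hG : ∀ g ∈ G, g ∈ supported A ({6}ᶜ : Set (Fin 9)))
    (h : RegMod (Ideal.span G) (L2 A)) : RegMod (Ideal.span G) (Q1 A) := by
  rw [Q1_eq]
  exact regMod_linear_mv 6 G hG _ _ (Subalgebra.neg_mem _ (L2_supp A 6 (by decide) (by decide)))
    (α1_supp A) h.neg

theorem reg_Q2 (G : Set (D A)) (hG : ∀ g ∈ G, g ∈ supported A ({4}ᶜ : Set (Fin 9)))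
    (h : RegMod (Ideal.span G) (L1 A)) : RegMod (Ideal.span G) (Q2 A) := by
  rw [Q2_eq]
  exact regMod_linear_mv 4 G hG _ _ (Subalgebra.neg_mem _ (L1_supp A 4 (by decide) (by decide)))
    (α2_supp A) h.neg

theorem reg_Q3 (G : Set (D A)) (hG : ∀ g ∈ G, g ∈ supported A ({2}ᶜ : Set (Fin 9)))
    (h : RegMod (Ideal.span G) (L3 A)) : RegMod (Ideal.span G) (Q3 A) := by
  rw [Q3_eq]
  exact regMod_linear_mv 2 G hG _ _ (L3_supp A 2 (by decide) (by decide))
    (α3_supp A) h

end Groth.Agent.Helper1.Lie3Reg
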