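import Mathlib
import Groth.Agent.Helper1.RegSeqPoly3

/-!
# RegSeqPoly4: `(L1, L2, L3)` and `(Q1, Q2, Q3)` are regular sequences
-/

set_option autoImplicit false
open MvPolynomial

namespace Groth.Agent.Helper1.Lie3Reg

open Groth.Agent.Helper1.RegSeqPoly Lie3Mod

variable (A : Type*) [CommRing A] [Nontrivial A]

theorem span_ne_top (G : Set (D A)) (hG : ∀ g ∈ G, constantCoeff g = 0) :
    Ideal.span G ≠ ⊤ := by
  intro h
  have hle : Ideal.span G ≤ RingHom.ker (constantCoeff (R := A) (σ := Fin 9)) := by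
    rw [Ideal.span_le]
    intro g hg
    exact hG g hg
  have h1 : (1 : D A) ∈ RingHom.ker (constantCoeff (R := A) (σ := Fin 9)) := by
    apply hle
    rw [h]
    trivial
  rw [RingHom.mem_ker, map_one] at h1
  exact one_ne_zero h1

theorem isRegular_L : RingTheory.Sequence.IsRegular (D A) [L1 A, L2 A, L3 A] := by
  apply isRegular_of_regMod
  · exact reg_L1 A ∅ (fun g hg => absurd hg (Set.notMem_empty g))
  · apply reg_L2
    intro g hg
    rw [Set.mem_singleton_iff] at hg
    rw [hg]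
    exact L1_supp A 1 (by decide) (by decide)
  · apply reg_L3
    intro g hg
    rcases hg with rfl | rfl
    · exact L1_supp A 3 (by decide) (by decide)
    · exact L2_supp A 3 (by decide) (by decide)
  · apply span_ne_top
    intro g hg
    rcases hg with rfl | rfl | rfl
    · simp [L1]
    · simp [L2]
    · simp [L3]

theorem isRegular_Q : RingTheory.Sequence.IsRegular (D A) [Q1 A, Q2 A, Q3 A] := by
  -- basic facts
  have e0 : RegMod (Ideal.span (∅ : Set (D A))) (L1 A) :=
    reg_L1 A ∅ (fun g hg => absurd hg (Set.notMem_empty g))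
  have e0' : RegMod (Ideal.span (∅ : Set (D A))) (L2 A) :=
    reg_L2 A ∅ (fun g hg => absurd hg (Set.notMem_empty g))
  have e0'' : RegMod (Ideal.span (∅ : Set (D A))) (L3 A) :=
    reg_L3 A ∅ (fun g hg => absurd hg (Set.notMem_empty g))
  have s1 : ∀ g ∈ ({L1 A} : Set (D A)), g ∈ supported A ({1}ᶜ : Set (Fin 9)) := by
    intro g hg
    rw [Set.mem_singleton_iff] at hg
    rw [hg]
    exact L1_supp A 1 (by decide) (by decide)
  have s1' : ∀ g ∈ ({L1 A} : Set (D A)), g ∈ supported A ({6}ᶜ : Set (Fin 9)) := by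
    intro g hg
    rw [Set.mem_singleton_iff] at hg
    rw [hg]
    exact L1_supp A 6 (by decide) (by decide)
  have s3 : ∀ j : Fin 9, j ≠ 3 → j ≠ 7 →
      ∀ g ∈ ({L3 A} : Set (D A)), g ∈ supported A ({j}ᶜ : Set (Fin 9)) := by
    intro j h3 h7 g hg
    rw [Set.mem_singleton_iff] at hg
    rw [hg]
    exact L3_supp A j h3 h7
  have s13 : ∀ j : Fin 9, j ≠ 3 → j ≠ 7 → j ≠ 0 → j ≠ 8 →
      ∀ g ∈ (insert (L1 A) {L3 A} : Set (D A)), g ∈ supported A ({j}ᶜ : Set (Fin 9)) := by
    intro j h3 h7 h0 h8 g hg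
    rcases hg with rfl | hg
    · exact L1_supp A j h0 h8
    · rw [Set.mem_singleton_iff] at hg
      rw [hg]
      exact L3_supp A j h3 h7
  -- `Q1` modulo `∅`
  have q1 : RegMod (Ideal.span (∅ : Set (D A))) (Q1 A) :=
    reg_Q1 A ∅ (fun g hg => absurd hg (Set.notMem_empty g)) e0'
  -- `L1` modulo `Q1`
  have l1q1 : RegMod (Ideal.span ({Q1 A} : Set (D A))) (L1 A) := by
    have h1 : RegMod (Ideal.span (insert (L1 A) (∅ : Set (D A)))) (Q1 A) := by
      rw [insert_empty_eq]
      exact reg_Q1 A _ s1' (reg_L2 A _ s1)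
    have := RegMod.swap e0 h1
    rwa [insert_empty_eq] at this
  -- `Q2` modulo `Q1`
  have q2 : RegMod (Ideal.span ({Q1 A} : Set (D A))) (Q2 A) := by
    apply reg_Q2 A _ _ l1q1
    intro g hg
    rw [Set.mem_singleton_iff] at hg
    rw [hg]
    exact Q1_supp A 4 (Or.inr rfl)
  -- `L3` modulo `Q1`
  have l3q1 : RegMod (Ideal.span ({Q1 A} : Set (D A))) (L3 A) := by
    have h1 : RegMod (Ideal.span (insert (L3 A) (∅ : Set (D A)))) (Q1 A) := by
      rw [insert_empty_eq]
      exact reg_Q1 A _ (s3 6 (by decide) (by decide)) (reg_L2 A _ (s3 1 (by decide) (by decide)))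
    have := RegMod.swap e0'' h1
    rwa [insert_empty_eq] at this
  -- `L1` modulo `L3, Q1`
  have l1 : RegMod (Ideal.span (insert (Q1 A) {L3 A} : Set (D A))) (L1 A) := by
    have h0 : RegMod (Ideal.span ({L3 A} : Set (D A))) (L1 A) :=
      reg_L1 A _ (s3 0 (by decide) (by decide))
    have h1 : RegMod (Ideal.span (insert (L1 A) {L3 A} : Set (D A))) (Q1 A) :=
      reg_Q1 A _ (s13 6 (by decide) (by decide) (by decide) (by decide))
        (reg_L2 A _ (s13 1 (by decide) (by decide) (by decide) (by decide)))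
    exact RegMod.swap h0 h1
  -- `Q2` modulo `L3, Q1`
  have q2' : RegMod (Ideal.span (insert (L3 A) {Q1 A} : Set (D A))) (Q2 A) := by
    rw [Set.pair_comm]
    apply reg_Q2 A _ _ l1
    intro g hg
    rcases hg with rfl | hg
    · exact Q1_supp A 4 (Or.inr rfl)
    · rw [Set.mem_singleton_iff] at hg
      rw [hg]
      exact L3_supp A 4 (by decide) (by decide)
  -- `L3` modulo `Q1, Q2`
  have l3 : RegMod (Ideal.span ({Q1 A, Q2 A} : Set (D A))) (L3 A) := by
    have := RegMod.swap l3q1 q2'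
    rwa [Set.pair_comm] at this
  -- `Q3` modulo `Q1, Q2`
  have q3 : RegMod (Ideal.span ({Q1 A, Q2 A} : Set (D A))) (Q3 A) := by
    apply reg_Q3 A _ _ l3
    intro g hg
    rcases hg with rfl | hg
    · exact Q1_supp A 2 (Or.inl rfl)
    · rw [Set.mem_singleton_iff] at hg
      rw [hg]
      exact Q2_supp A
  apply isRegular_of_regMod _ _ _ q1 q2 q3
  apply span_ne_top
  intro g hg
  rcases hg with rfl | rfl | rfl
  · simp [Q1]
  · simp [Q2]
  · simp [Q3]

end Groth.Agent.Helper1.Lie3Reg
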