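import Mathlib
import Groth.Agent.Lead.BCMap5

/-!
# Helper1: restriction of a quasi-coherent module between affine opens is a base change
-/

set_option autoImplicit false
set_option linter.style.haveILetI false
set_option linter.unusedSectionVars false

open CategoryTheory AlgebraicGeometry TopologicalSpace Opposite

universe u

namespace Groth.Agent.Helper1.ResBC

open Groth.Agent.Lead.BCMap

variable {X : Scheme.{u}} (F : X.Modules)

/-- the adjunct of `pullbackId` is `pushforwardId` -/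
theorem homEquiv_pullbackId :
    ((Scheme.Modules.pullbackPushforwardAdjunction (𝟙 X)).homEquiv F F)
      ((Scheme.Modules.pullbackId X).hom.app F) = (Scheme.Modules.pushforwardId X).inv.app F := by
  have h := congrArg (fun α => α.app F) (Scheme.Modules.conjugateEquiv_pullbackId_hom X)
  simp only [conjugateEquiv_apply_app] at h
  rw [Adjunction.homEquiv_unit]
  simpa using h

theorem pullbackId_pbSec {U V : X.Opens} (i : V ≤ U) (m : Γ(F, U)) :
    ((Scheme.Modules.pullbackId X).hom.app F).app V (pbSec (𝟙 X) F U V i m) =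
      F.presheaf.map (homOfLE i).op m := by
  refine (homEquiv_app (𝟙 X) F ((Scheme.Modules.pullbackId X).hom.app F) U V i m).symm.trans ?_
  erw [homEquiv_pullbackId]
  rfl

section

variable [F.IsQuasicoherent] {U V : X.Opens} (hU : IsAffineOpen U) (hV : IsAffineOpen V) (i : V ≤ U)

include hU hV in
/-- restriction between affine opens is a base change (canonical instances) -/
theorem exists_isBaseChange_res :
    letI := ((𝟙 X : X ⟶ X).appLE U V i).hom.toAlgebra
    letI : Module Γ(X, U) Γ(F, V) := Module.compHom _ ((𝟙 X : X ⟶ X).appLE U V i).hom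
    haveI : IsScalarTower Γ(X, U) Γ(X, V) Γ(F, V) := IsScalarTower.of_compHom _ _ _
    ∃ ρ : Γ(F, U) →ₗ[Γ(X, U)] Γ(F, V),
      (∀ m, ρ m = F.presheaf.map (homOfLE i).op m) ∧ IsBaseChange Γ(X, V) ρ := by
  letI := ((𝟙 X : X ⟶ X).appLE U V i).hom.toAlgebra
  letI : Module Γ(X, U) Γ(F, V) := Module.compHom _ ((𝟙 X : X ⟶ X).appLE U V i).hom
  haveI : IsScalarTower Γ(X, U) Γ(X, V) Γ(F, V) := IsScalarTower.of_compHom _ _ _
  letI : Module Γ(X, U) Γ((Scheme.Modules.pullback (𝟙 X)).obj F, V) :=
    Module.compHom _ ((𝟙 X : X ⟶ X).appLE U V i).hom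
  haveI : IsScalarTower Γ(X, U) Γ(X, V) Γ((Scheme.Modules.pullback (𝟙 X)).obj F, V) :=
    IsScalarTower.of_compHom _ _ _
  obtain ⟨ρ₀, hρ₀, hb⟩ := exists_isBaseChange_pbSec (𝟙 X) F hU hV i
  let ν := (Scheme.Modules.pullbackId X).hom.app F
  let νlin : Γ((Scheme.Modules.pullback (𝟙 X)).obj F, V) →ₗ[Γ(X, V)] Γ(F, V) :=
    { toFun := fun x => ν.app V x
      map_add' := fun x y => map_add _ x y
      map_smul' := fun c x => Scheme.Modules.Hom.app_smul ν c x }
  have hbij : Function.Bijective νlin := ConcreteCategory.bijective_of_isIso (ν.app V)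
  let νL := LinearEquiv.ofBijective νlin hbij
  refine ⟨(νlin.restrictScalars Γ(X, U)) ∘ₗ ρ₀, fun m => ?_, ?_⟩
  · change ν.app V (ρ₀ m) = _
    rw [hρ₀]
    exact pullbackId_pbSec F i m
  · refine IsBaseChange.of_equiv (hb.equiv.trans νL) (fun x => ?_)
    rw [LinearEquiv.trans_apply, IsBaseChange.equiv_tmul, one_smul]
    rfl

include hU hV in
/-- restriction between affine opens is a base change (arbitrary instances) -/
theorem isBaseChange_res [inst : Algebra Γ(X, U) Γ(X, V)]
    (halg : algebraMap Γ(X, U) Γ(X, V) = (X.presheaf.map (homOfLE i).op).hom)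
    [inst' : Module Γ(X, U) Γ(F, V)] [IsScalarTower Γ(X, U) Γ(X, V) Γ(F, V)]
    (ρ : Γ(F, U) →ₗ[Γ(X, U)] Γ(F, V)) (hρ : ∀ m, ρ m = F.presheaf.map (homOfLE i).op m) :
    IsBaseChange Γ(X, V) ρ := by
  have e1 : inst = ((𝟙 X : X ⟶ X).appLE U V i).hom.toAlgebra := by
    refine Algebra.algebra_ext _ _ (fun r => ?_)
    rw [halg]
    change _ = ((𝟙 X : X ⟶ X).appLE U V i).hom r
    simp only [Scheme.Hom.appLE, Scheme.Hom.id_app]
    rfl
  subst e1
  letI := ((𝟙 X : X ⟶ X).appLE U V i).hom.toAlgebra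
  have e2 : inst' = Module.compHom _ ((𝟙 X : X ⟶ X).appLE U V i).hom := by
    refine Module.ext' _ _ (fun r m => ?_)
    exact (algebraMap_smul Γ(X, V) r m).symm
  subst e2
  letI : Module Γ(X, U) Γ(F, V) := Module.compHom _ ((𝟙 X : X ⟶ X).appLE U V i).hom
  obtain ⟨ρ', hρ', hb⟩ := exists_isBaseChange_res F hU hV i
  have : ρ = ρ' := LinearMap.ext (fun m => (hρ m).trans (hρ' m).symm)
  rw [this]
  exact hb

end

end Groth.Agent.Helper1.ResBC
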