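import Groth.Agent.Helper1.CxDual
import Groth.Agent.Helper1.ResCx

set_option autoImplicit false
set_option linter.unusedSectionVars false

/-! Left resolutions of bounded above complexes by complexes with terms in a class `P` such that
every object is a quotient of an object of `P` (dual of `ResCx.exists_int`). -/

namespace Groth.Agent.Helper1.ResCxDual
open CategoryTheory Limits HomologicalComplex Opposite CxDual

universe v u

variable {A : Type u} [Category.{v} A] [Abelian A]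

theorem exists_left (P : A → Prop) (hP0 : ∃ Z : A, IsZero Z ∧ P Z)
    (hP : ∀ X : A, ∃ (Y : A) (π : Y ⟶ X), P Y ∧ Epi π)
    (K : CochainComplex A ℤ) (a : ℤ) [K.IsStrictlyLE a] :
    ∃ (Q : CochainComplex A ℤ) (α : Q ⟶ K), Q.IsStrictlyLE a ∧ (∀ n, P (Q.X n)) ∧
      (∀ n, Epi (α.f n)) ∧ QuasiIso α := by
  have hK : ((D A).obj (op K)).IsStrictlyGE (-a) := isStrictlyGE_D K a
  obtain ⟨L, α, hL, hPL, hm, hq⟩ := ResCx.exists_int (fun X : Aᵒᵖ => P X.unop)
    (by
      obtain ⟨Z, hZ, hPZ⟩ := hP0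
      exact ⟨op Z, hZ.op, hPZ⟩)
    (by
      intro X
      obtain ⟨Y, π, hY, hπ⟩ := hP X.unop
      exact ⟨op Y, π.op, hY, inferInstance⟩)
    ((D A).obj (op K)) (-a)
  have hQ : ((D' A).obj (op L)).IsStrictlyLE a := isStrictlyLE_D' L a
  have hq' : QuasiIso ((D' A).map α.op) := quasiIso_D'_map α
  refine ⟨(D' A).obj (op L), (D' A).map α.op ≫ (dd K).hom, hQ, fun n => hPL (-n), fun n => ?_,
    inferInstance⟩
  have : Epi (((D' A).map α.op).f n) := by
    rw [D'_map_f]
    have := hm (-n)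
    exact unop_epi_of_mono _
  have : IsIso ((dd K).hom.f n) :=
    inferInstanceAs (IsIso ((HomologicalComplex.eval _ _ n).map (dd K).hom))
  rw [comp_f]
  infer_instance

theorem exists_left_of_acyclic_above (P : A → Prop) (hP0 : ∃ Z : A, IsZero Z ∧ P Z)
    (hP : ∀ X : A, ∃ (Y : A) (π : Y ⟶ X), P Y ∧ Epi π)
    (K : CochainComplex A ℤ) (a : ℤ) (hK : ∀ n : ℤ, a < n → IsZero (K.homology n)) :
    ∃ (Q : CochainComplex A ℤ) (α : Q ⟶ K), Q.IsStrictlyLE a ∧ (∀ n, P (Q.X n)) ∧ QuasiIso α := by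
  have hle : K.IsLE a := by
    rw [CochainComplex.isLE_iff]
    intro i hi
    rw [exactAt_iff_isZero_homology]
    exact hK i hi
  obtain ⟨Q, α, hQ, hPQ, -, hq⟩ := exists_left P hP0 hP (K.truncLE a) a
  exact ⟨Q, α ≫ K.ιTruncLE a, hQ, hPQ, inferInstance⟩

end Groth.Agent.Helper1.ResCxDual
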