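import Mathlib

/-!
# Flat local extensions with prescribed residue field (EGA 0_III 10.3.1): objects

We fix a local ring `A` and a field `K` which is an `A`-algebra via a local homomorphism
(i.e. `K` is an extension of the residue field of `A`).  An *object* is a local flat
`A`-algebra `B` with `𝔪_A B = 𝔪_B`, together with a local `A`-algebra map `ρ : B → K`, a subset
`S ⊆ K`, and lifts `b : S → B` of the elements of `S` which generate `B` as a local `A`-algebra.
-/

set_option autoImplicit false

namespace Groth.Agent.Helper1.ResExt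

open IsLocalRing

universe u

variable (A : Type u) [CommRing A] [IsLocalRing A] (K : Type u) [Field K] [Algebra A K]

/-- Rigidified flat local `A`-algebras with residue field inside `K`. -/
structure Obj where
  S : Set K
  B : Type u
  [ring : CommRing B]
  [alg : Algebra A B]
  [loc : IsLocalRing B]
  ρ : B →ₐ[A] K
  b : S → B
  hρb : ∀ s : S, ρ (b s) = s
  hloc : ∀ x : B, ρ x ≠ 0 → IsUnit x
  flat : Module.Flat A B
  hmax : (maximalIdeal A).map (algebraMap A B) = maximalIdeal B
  gen : ∀ C : Subalgebra A B, (∀ s : S, b s ∈ C) → (∀ x ∈ C, ∀ y, x * y = 1 → y ∈ C) → C = ⊤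
  noeth : IsNoetherianRing A → IsNoetherianRing B

attribute [instance] Obj.ring Obj.alg Obj.loc

variable {A K}

/-- Morphisms of objects. -/
structure Hom (O O' : Obj A K) where
  hS : O.S ⊆ O'.S
  f : O.B →ₐ[A] O'.B
  hb : ∀ s : O.S, f (O.b s) = O'.b ⟨s.1, hS s.2⟩
  hρ : ∀ x, O'.ρ (f x) = O.ρ x
  flat : f.toRingHom.Flat

namespace Obj

variable (O : Obj A K)

lemma ρ_ne_zero_iff (x : O.B) : O.ρ x ≠ 0 ↔ IsUnit x :=
  ⟨O.hloc x, fun h => (h.map O.ρ).ne_zero⟩

lemma ρ_eq_zero_iff (x : O.B) : O.ρ x = 0 ↔ x ∈ maximalIdeal O.B := by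
  rw [mem_maximalIdeal, mem_nonunits_iff, ← O.ρ_ne_zero_iff, not_not]

lemma ker_ρ : RingHom.ker (O.ρ : O.B →+* K) = maximalIdeal O.B := by
  ext x
  rw [RingHom.mem_ker]
  exact O.ρ_eq_zero_iff x

end Obj

namespace Hom

variable {O O' O'' : Obj A K}

/-- Morphisms are unique. -/
theorem f_unique (h h' : Hom O O') : h.f = h'.f := by
  have key := O.gen (AlgHom.equalizer h.f h'.f) (fun s => ?_) (fun x hx y hxy => ?_)
  · ext x
    have : x ∈ AlgHom.equalizer h.f h'.f := by rw [key]; trivial
    exact this
  · rw [AlgHom.mem_equalizer, h.hb, h'.hb]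
  · rw [AlgHom.mem_equalizer] at hx ⊢
    have h1 : h.f x * h.f y = 1 := by rw [← map_mul, hxy, map_one]
    have h2 : h'.f x * h'.f y = 1 := by rw [← map_mul, hxy, map_one]
    calc h.f y = h.f y * (h'.f x * h'.f y) := by rw [h2, mul_one]
      _ = (h.f x * h.f y) * h'.f y := by rw [← hx]; ring
      _ = h'.f y := by rw [h1, one_mul]

theorem ext' (h h' : Hom O O') : h = h' := by
  have := f_unique h h'
  cases h; cases h'
  simp only at this
  subst this
  rfl

/-- The identity morphism. -/
def id (O : Obj A K) : Hom O O where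
  hS := subset_rfl
  f := AlgHom.id A O.B
  hb := fun _ => rfl
  hρ := fun _ => rfl
  flat := RingHom.Flat.id _

/-- Composition of morphisms. -/
def comp (g : Hom O' O'') (h : Hom O O') : Hom O O'' where
  hS := h.hS.trans g.hS
  f := g.f.comp h.f
  hb := fun s => by
    rw [AlgHom.comp_apply, h.hb, g.hb]
  hρ := fun x => by rw [AlgHom.comp_apply, g.hρ, h.hρ]
  flat := RingHom.Flat.comp h.flat g.flat

lemma isLocalHom (h : Hom O O') : IsLocalHom h.f.toRingHom := by
  refine ⟨fun x hx => ?_⟩
  apply O.hloc
  rw [← h.hρ]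
  exact (hx.map O'.ρ).ne_zero

lemma map_maximalIdeal (h : Hom O O') :
    (maximalIdeal O.B).map h.f.toRingHom = maximalIdeal O'.B := by
  rw [← O.hmax, ← O'.hmax, Ideal.map_map]
  congr 1
  ext a
  simp

end Hom

section base

variable (A K)
variable [IsLocalHom (algebraMap A K)]

/-- The base object `B = A`, `S = ∅`. -/
noncomputable def baseObj : Obj A K where
  S := ∅
  B := A
  ρ := Algebra.ofId A K
  b := fun s => s.2.elim
  hρb := fun s => s.2.elim
  hloc := fun x hx => by
    apply isUnit_of_map_unit (algebraMap A K)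
    exact isUnit_iff_ne_zero.mpr hx
  flat := inferInstance
  hmax := by simp
  gen := fun C _ _ => by
    rw [eq_top_iff]
    intro x _
    exact C.algebraMap_mem x
  noeth := fun h => h

end base

end Groth.Agent.Helper1.ResExt
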