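import Mathlib
import Groth.Agent.Helper1.ResExtObj
import Groth.Agent.Helper1.DirLimLocal

/-!
# Direct limits of objects
-/

set_option autoImplicit false

namespace Groth.Agent.Helper1.ResExt

open IsLocalRing

universe u

variable {A : Type u} [CommRing A] [IsLocalRing A] {K : Type u} [Field K] [Algebra A K]

namespace Lim

variable {ι : Type u} [Preorder ι] [Nonempty ι] [IsDirectedOrder ι]
  (ob : ι → Obj A K) (H : ∀ i j, i ≤ j → Hom (ob i) (ob j))

/-- The rings of the system. -/
abbrev G (i : ι) : Type u := (ob i).B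

/-- The transition maps. -/
def f (i j : ι) (h : i ≤ j) : G ob i →+* G ob j := (H i j h).f.toRingHom

instance : DirectedSystem (G ob) fun i j h => f ob H i j h where
  map_self i x := by
    have : H i i le_rfl = Hom.id (ob i) := Hom.ext' _ _
    show (H i i le_rfl).f x = x
    rw [this]; rfl
  map_map k j i hij hjk x := by
    have : (H j k hjk).comp (H i j hij) = H i k (hij.trans hjk) := Hom.ext' _ _
    show (H j k hjk).f ((H i j hij).f x) = (H i k (hij.trans hjk)).f x
    rw [← this]; rfl

/-- The direct limit ring. -/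
abbrev Binf : Type u := Ring.DirectLimit (G ob) (fun i j h => f ob H i j h)

/-- The maps into the limit. -/
noncomputable abbrev ofB (i : ι) : G ob i →+* Binf ob H := Ring.DirectLimit.of (G ob) (fun i j h => f ob H i j h) i

lemma f_algebraMap (i j : ι) (h : i ≤ j) (a : A) :
    f ob H i j h (algebraMap A (G ob i) a) = algebraMap A (G ob j) a :=
  (H i j h).f.commutes a

lemma of_algebraMap_eq (i j : ι) (a : A) :
    ofB ob H i (algebraMap A (G ob i) a) = ofB ob H j (algebraMap A (G ob j) a) := by
  obtain ⟨k, hik, hjk⟩ := exists_ge_ge i j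
  rw [← Ring.DirectLimit.of_f hik, ← Ring.DirectLimit.of_f hjk, f_algebraMap, f_algebraMap]

noncomputable instance algebra : Algebra A (Binf ob H) :=
  ((ofB ob H (Classical.arbitrary ι)).comp (algebraMap A (G ob (Classical.arbitrary ι)))).toAlgebra

lemma algebraMap_eq (i : ι) (a : A) :
    algebraMap A (Binf ob H) a = ofB ob H i (algebraMap A (G ob i) a) :=
  of_algebraMap_eq ob H _ i a

/-- The maps into the limit as algebra maps. -/
noncomputable def ofAlg (i : ι) : G ob i →ₐ[A] Binf ob H :=
  { ofB ob H i with commutes' := fun a => (algebraMap_eq ob H i a).symm }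

lemma ofAlg_apply (i : ι) (x : G ob i) : ofAlg ob H i x = ofB ob H i x := rfl

lemma hloc (i j : ι) (h : i ≤ j) : IsLocalHom (f ob H i j h) := (H i j h).isLocalHom

lemma hmax (i j : ι) (h : i ≤ j) :
    (maximalIdeal (G ob i)).map (f ob H i j h) = maximalIdeal (G ob j) :=
  (H i j h).map_maximalIdeal

lemma hflat (i j : ι) (h : i ≤ j) : (f ob H i j h).Flat := (H i j h).flat

noncomputable instance isLocalRing : IsLocalRing (Binf ob H) :=
  DirLimLocal.isLocalRing (G ob) (f ob H) (hloc ob H)

/-- The map to `K` as a ring homomorphism. -/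
noncomputable def rhoRing : Binf ob H →+* K :=
  Ring.DirectLimit.lift (G ob) (fun i j h => f ob H i j h) K (fun i => ((ob i).ρ : G ob i →+* K))
      (fun i j h x => (H i j h).hρ x)

lemma rhoRing_of (i : ι) (x : G ob i) : rhoRing ob H (ofB ob H i x) = (ob i).ρ x := by
  rw [rhoRing, Ring.DirectLimit.lift_of]
  rfl

/-- The map to `K`. -/
noncomputable def rho : Binf ob H →ₐ[A] K :=
  { rhoRing ob H with
    commutes' := fun a => by
      show rhoRing ob H (algebraMap A _ a) = _
      rw [algebraMap_eq ob H (Classical.arbitrary ι), rhoRing_of]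
      exact (ob _).ρ.commutes a }

lemma rho_of (i : ι) (x : G ob i) : rho ob H (ofB ob H i x) = (ob i).ρ x :=
  rhoRing_of ob H i x

lemma rho_hloc (x : Binf ob H) (hx : rho ob H x ≠ 0) : IsUnit x := by
  obtain ⟨i, y, rfl⟩ := Ring.DirectLimit.exists_of x
  rw [rho_of] at hx
  exact ((ob i).hloc y hx).map _

/-- The union of the generating sets. -/
def Sinf : Set K := ⋃ i, (ob i).S

lemma exists_idx (s : Sinf ob) : ∃ i, s.1 ∈ (ob i).S := Set.mem_iUnion.mp s.2

/-- The generators of the limit. -/
noncomputable def binf (s : Sinf ob) : Binf ob H :=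
  ofB ob H (exists_idx ob s).choose ((ob _).b ⟨s.1, (exists_idx ob s).choose_spec⟩)

lemma binf_eq (s : Sinf ob) (i : ι) (hi : s.1 ∈ (ob i).S) :
    binf ob H s = ofB ob H i ((ob i).b ⟨s.1, hi⟩) := by
  rw [binf]
  generalize_proofs h1 h2
  obtain ⟨k, hik, hjk⟩ := exists_ge_ge h1.choose i
  rw [← Ring.DirectLimit.of_f hik, ← Ring.DirectLimit.of_f hjk]
  congr 1
  exact ((H _ k hik).hb ⟨s.1, h2⟩).trans ((H i k hjk).hb ⟨s.1, hi⟩).symm

lemma rho_binf (s : Sinf ob) : rho ob H (binf ob H s) = s := by
  rw [binf, rho_of, (ob _).hρb]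

lemma flat_of (i : ι) : (ofB ob H i).Flat :=
  DirLimFlat.flat_of (G ob) (f ob H) (hflat ob H) i

lemma flat : Module.Flat A (Binf ob H) := by
  let i := Classical.arbitrary ι
  letI : Algebra (G ob i) (Binf ob H) := (ofB ob H i).toAlgebra
  haveI : IsScalarTower A (G ob i) (Binf ob H) :=
    IsScalarTower.of_algebraMap_eq fun a => algebraMap_eq ob H i a
  haveI : Module.Flat (G ob i) (Binf ob H) := flat_of ob H i
  haveI := (ob i).flat
  exact Module.Flat.trans A (G ob i) (Binf ob H)

lemma map_maximalIdeal :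
    (maximalIdeal A).map (algebraMap A (Binf ob H)) = maximalIdeal (Binf ob H) := by
  let i := Classical.arbitrary ι
  rw [← DirLimLocal.map_maximalIdeal (G ob) (f ob H) (hloc ob H) (hmax ob H) i, ← (ob i).hmax,
    Ideal.map_map]
  congr 1

lemma gen (C : Subalgebra A (Binf ob H)) (hb : ∀ s, binf ob H s ∈ C)
    (hinv : ∀ x ∈ C, ∀ y, x * y = 1 → y ∈ C) : C = ⊤ := by
  have h1 : ∀ i, C.comap (ofAlg ob H i) = ⊤ := by
    intro i
    apply (ob i).gen
    · intro t
      rw [Subalgebra.mem_comap, ofAlg_apply]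
      have := hb ⟨t.1, Set.mem_iUnion.mpr ⟨i, t.2⟩⟩
      rwa [binf_eq ob H _ i t.2] at this
    · intro x hx y hxy
      rw [Subalgebra.mem_comap] at hx ⊢
      exact hinv _ hx _ (by rw [← map_mul, hxy, map_one])
  rw [eq_top_iff]
  intro x _
  obtain ⟨i, y, rfl⟩ := Ring.DirectLimit.exists_of x
  have : y ∈ C.comap (ofAlg ob H i) := by rw [h1]; trivial
  exact this

lemma noeth (h : IsNoetherianRing A) : IsNoetherianRing (Binf ob H) := by
  haveI : ∀ i, IsNoetherianRing (G ob i) := fun i => (ob i).noeth h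
  exact DirLimLocal.isNoetherianRing (G ob) (f ob H) (hloc ob H) (hmax ob H) (hflat ob H)

/-- The limit object. -/
noncomputable def obj : Obj A K where
  S := Sinf ob
  B := Binf ob H
  ρ := rho ob H
  b := binf ob H
  hρb := rho_binf ob H
  hloc := rho_hloc ob H
  flat := flat ob H
  hmax := map_maximalIdeal ob H
  gen := gen ob H
  noeth := noeth ob H

/-- The morphisms to the limit object. -/
noncomputable def hom (i : ι) : Hom (ob i) (obj ob H) where
  hS := Set.subset_iUnion (fun i => (ob i).S) i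
  f := ofAlg ob H i
  hb := fun t => (binf_eq ob H ⟨t.1, _⟩ i t.2).symm
  hρ := rho_of ob H i
  flat := flat_of ob H i

end Lim

end Groth.Agent.Helper1.ResExt
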