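import Mathlib
import Groth.Agent.Helper1.ResExtObj

/-!
# The kernel of evaluation `B[X] → K` at an element `s : K`
-/

set_option autoImplicit false

namespace Groth.Agent.Helper1.ResExt

open IsLocalRing Polynomial

universe u

variable {A : Type u} [CommRing A] [IsLocalRing A] {K : Type u} [Field K] [Algebra A K]

lemma mem_map_C_maximalIdeal_iff {B : Type*} [CommRing B] [IsLocalRing B] (g : B[X]) :
    g ∈ (maximalIdeal B).map (C : B →+* B[X]) ↔ g.map (residue B) = 0 := by
  rw [Ideal.mem_map_C_iff, Polynomial.ext_iff]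
  refine forall_congr' fun n => ?_
  rw [coeff_map, coeff_zero, residue_eq_zero_iff]

variable (O : Obj A K) (s : K)

instance Obj.isLocalHom_ρ : IsLocalHom (O.ρ : O.B →+* K) :=
  ⟨fun x hx => O.hloc x hx.ne_zero⟩

/-- The kernel of evaluation at `s` is generated by `𝔪_B` and a polynomial which is zero or
monic. -/
theorem exists_poly : ∃ P : O.B[X], (P = 0 ∨ P.Monic) ∧
    ∀ g : O.B[X], eval₂ (O.ρ : O.B →+* K) s g = 0 ↔
      g ∈ (maximalIdeal O.B).map (C : O.B →+* O.B[X]) ⊔ Ideal.span {P} := by
  classical
  let k := ResidueField O.B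
  let ρ' : k →+* K := ResidueField.lift (O.ρ : O.B →+* K)
  letI : Algebra k K := ρ'.toAlgebra
  have hev : ∀ g : O.B[X], eval₂ (O.ρ : O.B →+* K) s g = aeval s (g.map (residue O.B)) := by
    intro g
    rw [aeval_def, eval₂_map]
    congr 1
  by_cases halg : IsAlgebraic k s
  · have hint : IsIntegral k s := halg.isIntegral
    obtain ⟨P, hP1, -, hP2⟩ := lifts_and_degree_eq_and_monic (f := residue O.B)
      (p := minpoly k s) ((mem_lifts _).mpr (map_surjective _ residue_surjective _))
      (minpoly.monic hint)
    refine ⟨P, Or.inr hP2, fun g => ?_⟩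
    rw [hev]
    constructor
    · intro h0
      obtain ⟨q', hq'⟩ := (minpoly.dvd_iff (A := k)).mpr h0
      obtain ⟨q, rfl⟩ := map_surjective _ residue_surjective q'
      have h1 : g - P * q ∈ (maximalIdeal O.B).map (C : O.B →+* O.B[X]) := by
        rw [mem_map_C_maximalIdeal_iff, Polynomial.map_sub, Polynomial.map_mul, hP1, hq', sub_self]
      have h2 : P * q ∈ Ideal.span {P} := Ideal.mem_span_singleton.mpr (dvd_mul_right _ _)
      have := Submodule.add_mem_sup h1 h2
      rwa [sub_add_cancel] at this
    · intro hg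
      obtain ⟨g1, hg1, g2, hg2, rfl⟩ := Submodule.mem_sup.mp hg
      rw [mem_map_C_maximalIdeal_iff] at hg1
      obtain ⟨q, rfl⟩ := Ideal.mem_span_singleton.mp hg2
      rw [Polynomial.map_add, hg1, zero_add, Polynomial.map_mul, hP1, map_mul, minpoly.aeval,
        zero_mul]
  · have htr : Transcendental k s := halg
    refine ⟨0, Or.inl rfl, fun g => ?_⟩
    rw [hev, Ideal.span_singleton_zero, sup_bot_eq, mem_map_C_maximalIdeal_iff]
    constructor
    · intro h0
      exact (transcendental_iff.mp htr) _ h0
    · intro h0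
      rw [h0, map_zero]

end Groth.Agent.Helper1.ResExt
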