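import Mathlib
import Groth.Agent.Helper1.ResExtPoly

/-!
# The successor step: adjoining one element of `K`
-/

set_option autoImplicit false

namespace Groth.Agent.Helper1.ResExt

open IsLocalRing Polynomial

universe u

variable {A : Type u} [CommRing A] [IsLocalRing A] {K : Type u} [Field K] [Algebra A K]

namespace Succ

variable (O : Obj A K) (s : K) (P : O.B[X]) (h0 : eval₂ (O.ρ : O.B →+* K) s P = 0)

/-- The evaluation map `B[X]/(P) → K`. -/
noncomputable def psi : AdjoinRoot P →ₐ[A] K := AdjoinRoot.liftAlgHom P O.ρ s h0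

lemma psi_mk (g : O.B[X]) : psi O s P h0 (AdjoinRoot.mk P g) = eval₂ (O.ρ : O.B →+* K) s g :=
  AdjoinRoot.liftAlgHom_mk P O.ρ s h0 g

lemma psi_of (x : O.B) : psi O s P h0 (AdjoinRoot.of P x) = O.ρ x := by
  rw [← AdjoinRoot.mk_C, psi_mk, eval₂_C]; rfl

lemma psi_root : psi O s P h0 (AdjoinRoot.root P) = s := by
  rw [AdjoinRoot.root, psi_mk, eval₂_X]

/-- The kernel of `psi`. -/
noncomputable abbrev Q : Ideal (AdjoinRoot P) := RingHom.ker (psi O s P h0 : AdjoinRoot P →+* K)

instance : (Q O s P h0).IsPrime := RingHom.ker_isPrime _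

/-- The new ring. -/
abbrev B' : Type u := Localization.AtPrime (Q O s P h0)

lemma isUnit_psi (y : (Q O s P h0).primeCompl) : IsUnit (psi O s P h0 y) := by
  rw [isUnit_iff_ne_zero]
  intro h
  exact y.2 ((RingHom.mem_ker).mpr h)

/-- The new map to `K`. -/
noncomputable def rho' : B' O s P h0 →ₐ[A] K :=
  IsLocalization.liftAlgHom (M := (Q O s P h0).primeCompl) (f := psi O s P h0)
    (isUnit_psi O s P h0)

lemma rho'_algebraMap (x : AdjoinRoot P) :
    rho' O s P h0 (algebraMap (AdjoinRoot P) (B' O s P h0) x) = psi O s P h0 x := by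
  rw [rho', IsLocalization.coe_liftAlgHom, IsLocalization.lift_eq]
  rfl

lemma rho'_hloc (x : B' O s P h0) (hx : rho' O s P h0 x ≠ 0) : IsUnit x := by
  obtain ⟨r, y, rfl⟩ := IsLocalization.exists_mk'_eq (Q O s P h0).primeCompl x
  rw [IsLocalization.AtPrime.isUnit_mk'_iff (B' O s P h0) (Q O s P h0)]
  intro hr
  apply hx
  have h1 : IsLocalization.mk' (B' O s P h0) r y * algebraMap _ _ (y : AdjoinRoot P)
      = algebraMap _ _ r := IsLocalization.mk'_spec _ _ _
  have h2 := congrArg (rho' O s P h0) h1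
  have hr' : psi O s P h0 r = 0 := (RingHom.mem_ker).mp hr
  rw [map_mul, rho'_algebraMap, rho'_algebraMap, hr'] at h2
  exact (mul_eq_zero.mp h2).resolve_right (isUnit_psi O s P h0 y).ne_zero

variable (hker : ∀ g : O.B[X], eval₂ (O.ρ : O.B →+* K) s g = 0 ↔
      g ∈ (maximalIdeal O.B).map (C : O.B →+* O.B[X]) ⊔ Ideal.span {P})

include hker in
lemma Q_eq : Q O s P h0 = (maximalIdeal O.B).map (algebraMap O.B (AdjoinRoot P)) := by
  apply le_antisymm
  · intro x hx
    obtain ⟨g, rfl⟩ := AdjoinRoot.mk_surjective x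
    rw [RingHom.mem_ker] at hx
    have hx' : eval₂ (O.ρ : O.B →+* K) s g = 0 := by rw [← psi_mk O s P h0]; exact hx
    obtain ⟨g1, hg1, g2, hg2, rfl⟩ := Submodule.mem_sup.mp ((hker g).mp hx')
    obtain ⟨q, rfl⟩ := Ideal.mem_span_singleton.mp hg2
    rw [map_add, map_mul, AdjoinRoot.mk_self, zero_mul, add_zero]
    have h1 := Ideal.mem_map_of_mem (AdjoinRoot.mk P) hg1
    rw [Ideal.map_map] at h1
    convert h1 using 2
    rfl
  · rw [Ideal.map_le_iff_le_comap]
    intro x hx
    rw [Ideal.mem_comap, RingHom.mem_ker]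
    have : psi O s P h0 (algebraMap O.B (AdjoinRoot P) x) = O.ρ x := psi_of O s P h0 x
    rw [AlgHom.coe_toRingHom] at *
    rw [this, O.ρ_eq_zero_iff]
    exact hx

include hker in
lemma map_maximalIdeal :
    (maximalIdeal A).map (algebraMap A (B' O s P h0)) = maximalIdeal (B' O s P h0) := by
  rw [← Localization.AtPrime.map_eq_maximalIdeal (I := Q O s P h0)]
  have h2 : Ideal.map (algebraMap (AdjoinRoot P) (B' O s P h0)) (Q O s P h0) =
      Ideal.map (algebraMap (AdjoinRoot P) (B' O s P h0))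
        ((maximalIdeal O.B).map (algebraMap O.B (AdjoinRoot P))) :=
    congrArg _ (Q_eq O s P h0 hker)
  rw [h2, ← O.hmax, Ideal.map_map, Ideal.map_map]
  congr 1


lemma flat_adjoinRoot (hP : P = 0 ∨ P.Monic) : Module.Flat O.B (AdjoinRoot P) := by
  rcases hP with rfl | hP
  · have hbot : (Ideal.span {(0 : O.B[X])} : Submodule O.B[X] O.B[X]) = ⊥ :=
      Ideal.span_singleton_zero
    let e : AdjoinRoot (0 : O.B[X]) ≃ₗ[O.B] O.B[X] :=
      (Submodule.quotEquivOfEqBot _ hbot).restrictScalars O.B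
    exact Module.Flat.of_linearEquiv e
  · haveI := hP.free_adjoinRoot
    infer_instance

lemma flat_B'_of (hP : P = 0 ∨ P.Monic) : Module.Flat O.B (B' O s P h0) := by
  haveI := flat_adjoinRoot O P hP
  exact Module.Flat.trans O.B (AdjoinRoot P) (B' O s P h0)

lemma flat_B' (hP : P = 0 ∨ P.Monic) : Module.Flat A (B' O s P h0) := by
  haveI := flat_B'_of O s P h0 hP
  haveI := O.flat
  exact Module.Flat.trans A O.B (B' O s P h0)

/-- The structure map `B → B'`. -/
noncomputable def phi : O.B →ₐ[A] B' O s P h0 := IsScalarTower.toAlgHom A O.B (B' O s P h0)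

lemma phi_apply (x : O.B) :
    phi O s P h0 x = algebraMap (AdjoinRoot P) (B' O s P h0) (AdjoinRoot.of P x) := by
  rw [phi, IsScalarTower.toAlgHom_apply, IsScalarTower.algebraMap_apply O.B (AdjoinRoot P),
    AdjoinRoot.algebraMap_eq]

lemma rho'_phi (x : O.B) : rho' O s P h0 (phi O s P h0 x) = O.ρ x := by
  rw [phi_apply, rho'_algebraMap, psi_of]

open Classical in
/-- The new generators. -/
noncomputable def b' (t : ↥(insert s O.S)) : B' O s P h0 :=
  if h : t.1 ∈ O.S then phi O s P h0 (O.b ⟨t.1, h⟩)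
  else algebraMap (AdjoinRoot P) (B' O s P h0) (AdjoinRoot.root P)

lemma b'_of_mem (t : ↥(insert s O.S)) (h : t.1 ∈ O.S) :
    b' O s P h0 t = phi O s P h0 (O.b ⟨t.1, h⟩) := dif_pos h

lemma b'_of_not_mem (t : ↥(insert s O.S)) (h : t.1 ∉ O.S) :
    b' O s P h0 t = algebraMap (AdjoinRoot P) (B' O s P h0) (AdjoinRoot.root P) := dif_neg h

lemma rho'_b' (t : ↥(insert s O.S)) : rho' O s P h0 (b' O s P h0 t) = t := by
  by_cases h : t.1 ∈ O.S
  · rw [b'_of_mem O s P h0 t h, rho'_phi, O.hρb]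
  · rw [b'_of_not_mem O s P h0 t h, rho'_algebraMap, psi_root]
    exact ((Set.mem_insert_iff.mp t.2).resolve_right h).symm

lemma gen' (hs : s ∉ O.S) (C : Subalgebra A (B' O s P h0)) (hb : ∀ t, b' O s P h0 t ∈ C)
    (hinv : ∀ x ∈ C, ∀ y, x * y = 1 → y ∈ C) : C = ⊤ := by
  -- the image of `B` lies in `C`
  have h1 : C.comap (phi O s P h0) = ⊤ := by
    apply O.gen
    · intro t
      rw [Subalgebra.mem_comap]
      have := hb ⟨t.1, Set.mem_insert_of_mem s t.2⟩
      rwa [b'_of_mem O s P h0 _ t.2] at this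
    · intro x hx y hxy
      rw [Subalgebra.mem_comap] at hx ⊢
      exact hinv _ hx _ (by rw [← map_mul, hxy, map_one])
  have h2 : ∀ x : O.B, phi O s P h0 x ∈ C := fun x => by
    have : x ∈ C.comap (phi O s P h0) := by rw [h1]; trivial
    exact this
  have h3 : algebraMap (AdjoinRoot P) (B' O s P h0) (AdjoinRoot.root P) ∈ C := by
    have := hb ⟨s, Set.mem_insert s O.S⟩
    rwa [b'_of_not_mem O s P h0 _ hs] at this
  have h4 : ∀ r : AdjoinRoot P, algebraMap (AdjoinRoot P) (B' O s P h0) r ∈ C := by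
    intro r
    obtain ⟨g, rfl⟩ := AdjoinRoot.mk_surjective r
    induction g using Polynomial.induction_on' with
    | add p q hp hq => rw [map_add, map_add]; exact C.add_mem hp hq
    | monomial n a =>
      rw [← C_mul_X_pow_eq_monomial, map_mul, map_pow, AdjoinRoot.mk_C, AdjoinRoot.mk_X, map_mul,
        map_pow, ← phi_apply]
      exact C.mul_mem (h2 a) (C.pow_mem h3 n)
  rw [eq_top_iff]
  intro x _
  obtain ⟨r, y, rfl⟩ := IsLocalization.exists_mk'_eq (Q O s P h0).primeCompl x
  have hy : IsUnit (algebraMap (AdjoinRoot P) (B' O s P h0) (y : AdjoinRoot P)) :=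
    IsLocalization.map_units _ y
  obtain ⟨z, hz⟩ := hy.exists_right_inv
  have hzC : z ∈ C := hinv _ (h4 y) z hz
  have : IsLocalization.mk' (B' O s P h0) r y = algebraMap _ _ r * z := by
    rw [IsLocalization.mk'_eq_iff_eq_mul, mul_assoc, mul_comm z, hz, mul_one]
  rw [this]
  exact C.mul_mem (h4 r) hzC

lemma noeth' (h : IsNoetherianRing O.B) : IsNoetherianRing (B' O s P h0) :=
  IsLocalization.isNoetherianRing (Q O s P h0).primeCompl _ inferInstance

variable (hker : ∀ g : O.B[X], eval₂ (O.ρ : O.B →+* K) s g = 0 ↔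
      g ∈ (maximalIdeal O.B).map (C : O.B →+* O.B[X]) ⊔ Ideal.span {P})

/-- The successor object. -/
noncomputable def obj (hs : s ∉ O.S) (hP : P = 0 ∨ P.Monic) : Obj A K where
  S := insert s O.S
  B := B' O s P h0
  ρ := rho' O s P h0
  b := b' O s P h0
  hρb := rho'_b' O s P h0
  hloc := rho'_hloc O s P h0
  flat := flat_B' O s P h0 hP
  hmax := map_maximalIdeal O s P h0 hker
  gen := gen' O s P h0 hs
  noeth := fun h => noeth' O s P h0 (O.noeth h)

/-- The morphism to the successor object. -/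
noncomputable def hom (hs : s ∉ O.S) (hP : P = 0 ∨ P.Monic) :
    Hom O (obj O s P h0 hker hs hP) where
  hS := Set.subset_insert s O.S
  f := phi O s P h0
  hb := fun t => (b'_of_mem O s P h0 ⟨t.1, Set.mem_insert_of_mem s t.2⟩ t.2).symm
  hρ := rho'_phi O s P h0
  flat := by
    show (algebraMap O.B (B' O s P h0)).Flat
    exact RingHom.flat_algebraMap_iff.mpr (flat_B'_of O s P h0 hP)

end Succ

/-- Successor step: any element of `K` not yet in `S` can be adjoined. -/
theorem exists_succ (O : Obj A K) (s : K) (hs : s ∉ O.S) :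
    ∃ O' : Obj A K, O'.S = insert s O.S ∧ Nonempty (Hom O O') := by
  obtain ⟨P, hP, hker⟩ := exists_poly O s
  have h0 : eval₂ (O.ρ : O.B →+* K) s P = 0 :=
    (hker P).mpr (Ideal.mem_sup_right (Ideal.mem_span_singleton_self P))
  exact ⟨Succ.obj O s P h0 hker hs hP, rfl, ⟨Succ.hom O s P h0 hker hs hP⟩⟩

end Groth.Agent.Helper1.ResExt
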