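import Mathlib
import Groth.Agent.Helper1.ResExtSucc
import Groth.Agent.Helper1.ResExtLim

/-!
# Zorn's lemma: an object with `S = K`
-/

set_option autoImplicit false

namespace Groth.Agent.Helper1.ResExt

open IsLocalRing

universe u

variable {A : Type u} [CommRing A] [IsLocalRing A] {K : Type u} [Field K] [Algebra A K]

/-- The order relation on objects. -/
def Rel (O O' : Obj A K) : Prop := O = O' ∨ (O.S ⊂ O'.S ∧ Nonempty (Hom O O'))

namespace Rel

variable {O O' O'' : Obj A K}

lemma refl (O : Obj A K) : Rel O O := Or.inl rfl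

lemma subset (h : Rel O O') : O.S ⊆ O'.S := by
  rcases h with rfl | h
  · exact subset_rfl
  · exact h.1.subset

lemma hom (h : Rel O O') : Nonempty (Hom O O') := by
  rcases h with rfl | h
  · exact ⟨Hom.id _⟩
  · exact h.2

lemma trans (h : Rel O O') (h' : Rel O' O'') : Rel O O'' := by
  rcases h with rfl | h
  · exact h'
  rcases h' with rfl | h'
  · exact Or.inr h
  · exact Or.inr ⟨h.1.trans h'.1, ⟨h'.2.some.comp h.2.some⟩⟩

lemma eq_of_S_eq (h : Rel O O') (hS : O.S = O'.S) : O = O' := by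
  rcases h with h | h
  · exact h
  · exact absurd hS h.1.ne

end Rel

section chain

variable (c : Set (Obj A K)) (hc : IsChain Rel c)

include hc in
lemma chain_cases {O O' : Obj A K} (hO : O ∈ c) (hO' : O' ∈ c) : Rel O O' ∨ Rel O' O := by
  by_cases h : O = O'
  · exact Or.inl (Or.inl h)
  · exact hc hO hO' h

/-- The index type of a chain: the set of values of `S`. -/
def Idx : Type u := {S : Set K // ∃ O ∈ c, O.S = S}

instance : Preorder (Idx c) := Subtype.preorder _

/-- The object with a given index. -/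
noncomputable def ob (i : Idx c) : Obj A K := i.2.choose

lemma ob_mem (i : Idx c) : ob c i ∈ c := i.2.choose_spec.1

lemma ob_S (i : Idx c) : (ob c i).S = i.1 := i.2.choose_spec.2

include hc in
lemma ob_idx {O : Obj A K} (hO : O ∈ c) : ob c ⟨O.S, O, hO, rfl⟩ = O := by
  have hS : (ob c ⟨O.S, O, hO, rfl⟩).S = O.S := ob_S c _
  rcases chain_cases c hc (ob_mem c ⟨O.S, O, hO, rfl⟩) hO with h | h
  · exact h.eq_of_S_eq hS
  · exact (h.eq_of_S_eq hS.symm).symm

include hc in
lemma ob_hom (i j : Idx c) (h : i ≤ j) : Nonempty (Hom (ob c i) (ob c j)) := by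
  rcases chain_cases c hc (ob_mem c i) (ob_mem c j) with h' | h'
  · exact h'.hom
  · have hS : (ob c i).S = (ob c j).S := by
      apply subset_antisymm
      · rw [ob_S, ob_S]; exact h
      · exact h'.subset
    rw [h'.eq_of_S_eq hS.symm]
    exact ⟨Hom.id _⟩

include hc in
lemma isDirected : IsDirectedOrder (Idx c) := by
  refine ⟨fun i j => ?_⟩
  rcases chain_cases c hc (ob_mem c i) (ob_mem c j) with h | h
  · refine ⟨j, ?_, le_rfl⟩
    have := h.subset
    rwa [ob_S, ob_S] at this
  · refine ⟨i, le_rfl, ?_⟩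
    have := h.subset
    rwa [ob_S, ob_S] at this

variable [IsLocalHom (algebraMap A K)]

include hc in
theorem exists_ub : ∃ ub, ∀ O ∈ c, Rel O ub := by
  rcases c.eq_empty_or_nonempty with rfl | hne
  · exact ⟨baseObj A K, fun O hO => hO.elim⟩
  by_cases hM : ∃ M ∈ c, ∀ O ∈ c, Rel O M
  · obtain ⟨M, -, hM⟩ := hM
    exact ⟨M, hM⟩
  push Not at hM
  haveI : Nonempty (Idx c) := by
    obtain ⟨O, hO⟩ := hne
    exact ⟨⟨O.S, O, hO, rfl⟩⟩
  haveI := isDirected c hc
  let H : ∀ i j : Idx c, i ≤ j → Hom (ob c i) (ob c j) := fun i j h => (ob_hom c hc i j h).some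
  refine ⟨Lim.obj (ob c) H, fun O hO => Or.inr ⟨?_, ?_⟩⟩
  · obtain ⟨O', hO', hOO'⟩ := hM O hO
    have h1 : Rel O O' := by
      rcases chain_cases c hc hO hO' with h | h
      · exact h
      · exact absurd h hOO'
    have h2 : O.S ⊂ O'.S := by
      rcases h1 with rfl | h1
      · exact absurd (Rel.refl _) hOO'
      · exact h1.1
    refine h2.trans_subset ?_
    have h3 : (Lim.obj (ob c) H).S = ⋃ i, (ob c i).S := rfl
    rw [h3]
    have h4 := Set.subset_iUnion (fun i => (ob c i).S) ⟨O'.S, O', hO', rfl⟩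
    rwa [ob_S] at h4
  · have h5 := Lim.hom (ob c) H ⟨O.S, O, hO, rfl⟩
    rw [ob_idx c hc hO] at h5
    exact ⟨h5⟩

end chain

variable (A K) in
/-- There is an object whose generating set is all of `K`. -/
theorem exists_obj_univ [IsLocalHom (algebraMap A K)] : ∃ O : Obj A K, O.S = Set.univ := by
  obtain ⟨m, hm⟩ := exists_maximal_of_chains_bounded (r := Rel (A := A) (K := K))
    (fun c hc => exists_ub c hc) Rel.trans
  refine ⟨m, ?_⟩
  by_contra hne
  obtain ⟨s, hs⟩ := (Set.ne_univ_iff_exists_notMem _).mp hne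
  obtain ⟨O', hS', ⟨h⟩⟩ := exists_succ m s hs
  have hlt : m.S ⊂ O'.S := by
    rw [hS']
    exact Set.ssubset_insert hs
  have h1 : Rel m O' := Or.inr ⟨hlt, ⟨h⟩⟩
  have h2 := (hm O' h1).subset
  exact hlt.not_subset h2

end Groth.Agent.Helper1.ResExt
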