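import Mathlib
import Groth.Agent.Helper1.ResExtZorn

/-!
# EGA 0_III 10.3.1: flat local extensions with prescribed residue field
-/

set_option autoImplicit false

namespace Groth.Agent.Helper1.ResExt

open IsLocalRing

universe u

/-- EGA 0_III 10.3.1 (without Noetherian hypotheses, and Noetherian if `A` is). -/
theorem main (A : Type u) [CommRing A] [IsLocalRing A] (K : Type u) [Field K]
    [Algebra (ResidueField A) K] :
    ∃ (B : Type u) (_ : CommRing B) (_ : Algebra A B) (_ : IsLocalRing B) (ρ : B →+* K),
      Function.Surjective ρ ∧ RingHom.ker ρ = maximalIdeal B ∧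
      (∀ a, ρ (algebraMap A B a) = algebraMap (ResidueField A) K (residue A a)) ∧
      Module.Flat A B ∧ (maximalIdeal A).map (algebraMap A B) = maximalIdeal B ∧
      IsLocalHom (algebraMap A B) ∧ (IsNoetherianRing A → IsNoetherianRing B) := by
  letI : Algebra A K := ((algebraMap (ResidueField A) K).comp (residue A)).toAlgebra
  haveI : IsLocalHom (algebraMap A K) := by
    refine ⟨fun x hx => ?_⟩
    have h1 : algebraMap A K x = algebraMap (ResidueField A) K (residue A x) := rfl
    rw [h1] at hx
    have h2 : residue A x ≠ 0 := by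
      intro h0
      rw [h0, map_zero] at hx
      exact not_isUnit_zero hx
    by_contra hu
    exact h2 ((residue_eq_zero_iff x).mpr hu)
  obtain ⟨O, hO⟩ := exists_obj_univ A K
  refine ⟨O.B, inferInstance, inferInstance, inferInstance, (O.ρ : O.B →+* K), ?_, O.ker_ρ,
    fun a => ?_, O.flat, O.hmax, ?_, O.noeth⟩
  · intro s
    exact ⟨O.b ⟨s, by rw [hO]; trivial⟩, O.hρb _⟩
  · exact O.ρ.commutes a
  · refine ⟨fun x hx => ?_⟩
    apply isUnit_of_map_unit (algebraMap A K)
    have : algebraMap A K x = O.ρ (algebraMap A O.B x) := (O.ρ.commutes x).symm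
    rw [this]
    exact hx.map O.ρ

end Groth.Agent.Helper1.ResExt
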