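import Mathlib

set_option autoImplicit false
set_option linter.unusedSectionVars false

namespace Groth.Agent.Helper1.Roofs
open CategoryTheory Limits DerivedCategory
universe w v u
variable {A : Type u} [Category.{v} A] [Abelian A] [HasDerivedCategory.{w} A]

/-- quasi-isomorphisms in the homotopy category from the quotient of a quasi-iso -/
lemma quasiIso_quotient_map {K L : CochainComplex A ℤ} (f : K ⟶ L) [QuasiIso f] :
    HomotopyCategory.quasiIso A (ComplexShape.up ℤ) ((HomotopyCategory.quotient _ _).map f) := by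
  rw [HomotopyCategory.quotient_map_mem_quasiIso_iff]
  exact (HomologicalComplex.mem_quasiIso_iff f).2 inferInstance

theorem roofs_boundedAbove_aux (K₀ L₀ : CochainComplex A ℤ) (a : ℤ) [K₀.IsStrictlyLE a] :
    (∀ φ : Q.obj K₀ ⟶ Q.obj L₀,
      ∃ (K' : CochainComplex A ℤ) (n : ℤ)
        (_ : K'.IsStrictlyLE n) (s : K' ⟶ K₀) (f : K' ⟶ L₀),
        QuasiIso s ∧ Q.map s ≫ φ = Q.map f) ∧
    (∀ f₁ f₂ : (HomotopyCategory.quotient _ _).obj K₀ ⟶ (HomotopyCategory.quotient _ _).obj L₀,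
      Qh.map f₁ = Qh.map f₂ →
      ∃ (K' : CochainComplex A ℤ) (n : ℤ)
        (_ : K'.IsStrictlyLE n) (s : K' ⟶ K₀),
        QuasiIso s ∧ (HomotopyCategory.quotient _ _).map s ≫ f₁ =
          (HomotopyCategory.quotient _ _).map s ≫ f₂) := by
  constructor
  · intro φ
    obtain ⟨X', hX', s, hs, g, hfac⟩ := right_fac_of_isStrictlyLE φ a
    have hqs : QuasiIso s := (isIso_Q_map_iff_quasiIso (φ := s)).1 hs
    exact ⟨X', a, hX', s, g, hqs, by rw [hfac, IsIso.hom_inv_id_assoc]⟩
  · intro f₁ f₂ h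
    obtain ⟨Z, s, hs, hfac⟩ := (MorphismProperty.map_eq_iff_precomp Qh
      (HomotopyCategory.quasiIso A (ComplexShape.up ℤ)) f₁ f₂).1 h
    obtain ⟨Z₀, rfl⟩ : ∃ Z₀ : CochainComplex A ℤ, (HomotopyCategory.quotient _ _).obj Z₀ = Z :=
      HomotopyCategory.quotient_obj_surjective Z
    obtain ⟨s', rfl⟩ := (HomotopyCategory.quotient _ _).map_surjective s
    rw [HomotopyCategory.quotient_map_mem_quasiIso_iff, HomologicalComplex.mem_quasiIso_iff] at hs
    have hZ : CochainComplex.IsLE Z₀ a := by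
      rw [CochainComplex.isLE_iff]
      intro i hi
      rw [HomologicalComplex.exactAt_iff_isZero_homology]
      have : IsIso (HomologicalComplex.homologyMap s' i) := inferInstance
      exact IsZero.of_iso ((K₀.exactAt_of_isLE a i hi).isZero_homology)
        (asIso (HomologicalComplex.homologyMap s' i))
    refine ⟨CochainComplex.truncLE Z₀ a, a, inferInstance, CochainComplex.ιTruncLE Z₀ a ≫ s', inferInstance, ?_⟩
    rw [Functor.map_comp, Category.assoc, Category.assoc, hfac]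

theorem roofs_boundedAbove (K L : HomotopyCategory A (ComplexShape.up ℤ)) (a : ℤ)
    [CochainComplex.IsStrictlyLE K.as a] :
    (∀ φ : Qh.obj K ⟶ Qh.obj L,
      ∃ (K' : HomotopyCategory A (ComplexShape.up ℤ)) (n : ℤ)
        (_ : CochainComplex.IsStrictlyLE K'.as n) (s : K' ⟶ K) (f : K' ⟶ L),
        HomotopyCategory.quasiIso A (ComplexShape.up ℤ) s ∧ Qh.map s ≫ φ = Qh.map f) ∧
    (∀ f₁ f₂ : K ⟶ L, Qh.map f₁ = Qh.map f₂ →
      ∃ (K' : HomotopyCategory A (ComplexShape.up ℤ)) (n : ℤ)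
        (_ : CochainComplex.IsStrictlyLE K'.as n) (s : K' ⟶ K),
        HomotopyCategory.quasiIso A (ComplexShape.up ℤ) s ∧ s ≫ f₁ = s ≫ f₂) := by
  obtain ⟨K₀, rfl⟩ : ∃ K₀ : CochainComplex A ℤ, (HomotopyCategory.quotient _ _).obj K₀ = K :=
    HomotopyCategory.quotient_obj_surjective K
  obtain ⟨L₀, rfl⟩ : ∃ L₀ : CochainComplex A ℤ, (HomotopyCategory.quotient _ _).obj L₀ = L :=
    HomotopyCategory.quotient_obj_surjective L
  have : K₀.IsStrictlyLE a := ‹_›
  obtain ⟨h1, h2⟩ := roofs_boundedAbove_aux K₀ L₀ a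
  constructor
  · intro φ
    obtain ⟨K', n, hK', s, f, hs, hfac⟩ := h1 φ
    exact ⟨(HomotopyCategory.quotient _ _).obj K', n, hK', (HomotopyCategory.quotient _ _).map s,
      (HomotopyCategory.quotient _ _).map f, quasiIso_quotient_map s, hfac⟩
  · intro f₁ f₂ h
    obtain ⟨K', n, hK', s, hs, hfac⟩ := h2 f₁ f₂ h
    exact ⟨(HomotopyCategory.quotient _ _).obj K', n, hK', (HomotopyCategory.quotient _ _).map s,
      quasiIso_quotient_map s, hfac⟩

end Groth.Agent.Helper1.Roofs
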