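import Mathlib
import Groth.Agent.Helper1.Roofs

set_option autoImplicit false
set_option linter.unusedSectionVars false

namespace Groth.Agent.Helper1.Roofs
open CategoryTheory Limits DerivedCategory CochainComplex HomComplex
universe w v u
variable {A : Type u} [Category.{v} A] [Abelian A]

lemma isStrictlyLE_mappingCone_id (K : CochainComplex A ℤ) (c : ℤ) [K.IsStrictlyLE c] :
    (mappingCone (𝟙 K)).IsStrictlyLE c := by
  rw [isStrictlyLE_iff]
  intro i hi
  simp only [mappingCone.isZero_X_iff]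
  exact ⟨K.isZero_of_isStrictlyLE c _ (by lia), K.isZero_of_isStrictlyLE c _ hi⟩

/-- a chain map from a strictly `≤ c` complex factors through `truncLE`. -/
lemma exists_factor_truncLE {E W : CochainComplex A ℤ} (c : ℤ) [E.IsStrictlyLE c] (e : E ⟶ W) :
    ∃ e' : E ⟶ W.truncLE c, e' ≫ W.ιTruncLE c = e := by
  refine ⟨inv (E.ιTruncLE c) ≫ truncLEMap e c, ?_⟩
  rw [Category.assoc, ιTruncLE_naturality, IsIso.inv_hom_id_assoc]

instance mono_ιTruncLE (W : CochainComplex A ℤ) (c : ℤ) : Mono (W.ιTruncLE c) :=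
  inferInstanceAs (Mono (HomologicalComplex.ιTruncLE W (ComplexShape.embeddingUpIntLE c)))

/-- Lemma H -/
lemma quotient_map_eq_zero_of_comp_ιTruncLE {K W : CochainComplex A ℤ} (c : ℤ) [K.IsStrictlyLE c]
    (v : K ⟶ W.truncLE c)
    (h : (HomotopyCategory.quotient A (ComplexShape.up ℤ)).map (v ≫ W.ιTruncLE c) = 0) :
    (HomotopyCategory.quotient A (ComplexShape.up ℤ)).map v = 0 := by
  have H : Homotopy (v ≫ W.ιTruncLE c) 0 := HomotopyCategory.homotopyOfEq _ _ (by simpa using h)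
  obtain ⟨α, hα⟩ := Cochain.equivHomotopy _ _ H
  have := isStrictlyLE_mappingCone_id K c
  let e : mappingCone (𝟙 K) ⟶ W := mappingCone.desc (𝟙 K) α (v ≫ W.ιTruncLE c)
    (by rw [Category.id_comp, hα]; simp)
  obtain ⟨e', he'⟩ := exists_factor_truncLE c e
  have hv : v = mappingCone.inr (𝟙 K) ≫ e' := by
    rw [← cancel_mono (W.ιTruncLE c), Category.assoc, he', mappingCone.inr_desc]
  have hz : (HomotopyCategory.quotient A (ComplexShape.up ℤ)).map (𝟙 (mappingCone (𝟙 K))) = 0 := by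
    rw [HomotopyCategory.eq_of_homotopy _ _ (mappingCone.homotopyToZeroOfId K), Functor.map_zero]
  rw [hv, ← Category.id_comp e', ← Category.assoc, Functor.map_comp, Functor.map_comp, hz]
  simp

lemma isLE_of_quasiIso {K L : CochainComplex A ℤ} (f : K ⟶ L) [QuasiIso f] (n : ℤ) [K.IsLE n] :
    L.IsLE n := by
  rw [CochainComplex.isLE_iff]
  intro i hi
  rw [HomologicalComplex.exactAt_iff_isZero_homology]
  have : IsIso (HomologicalComplex.homologyMap f i) := inferInstance
  exact IsZero.of_iso ((K.exactAt_of_isLE n i hi).isZero_homology)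
    (asIso (HomologicalComplex.homologyMap f i)).symm

lemma isGE_of_quasiIso {K L : CochainComplex A ℤ} (f : K ⟶ L) [QuasiIso f] (n : ℤ) [K.IsGE n] :
    L.IsGE n := by
  rw [CochainComplex.isGE_iff]
  intro i hi
  rw [HomologicalComplex.exactAt_iff_isZero_homology]
  have : IsIso (HomologicalComplex.homologyMap f i) := inferInstance
  exact IsZero.of_iso ((K.exactAt_of_isGE n i hi).isZero_homology)
    (asIso (HomologicalComplex.homologyMap f i)).symm

variable [HasDerivedCategory.{w} A]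

theorem roofs_bounded_aux (K₀ L₀ : CochainComplex A ℤ) (b a' b' : ℤ) [K₀.IsStrictlyLE b]
    [L₀.IsStrictlyGE a'] [L₀.IsStrictlyLE b'] :
    (∀ φ : Q.obj K₀ ⟶ Q.obj L₀,
      ∃ (L' : CochainComplex A ℤ) (m n : ℤ) (_ : L'.IsStrictlyGE m)
        (_ : L'.IsStrictlyLE n) (f : K₀ ⟶ L') (t : L₀ ⟶ L'),
        QuasiIso t ∧ φ ≫ Q.map t = Q.map f) ∧
    (∀ f₁ f₂ : (HomotopyCategory.quotient _ _).obj K₀ ⟶ (HomotopyCategory.quotient _ _).obj L₀,
      Qh.map f₁ = Qh.map f₂ →
      ∃ (L' : CochainComplex A ℤ) (m n : ℤ) (_ : L'.IsStrictlyGE m)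
        (_ : L'.IsStrictlyLE n) (t : L₀ ⟶ L'),
        QuasiIso t ∧ f₁ ≫ (HomotopyCategory.quotient _ _).map t =
          f₂ ≫ (HomotopyCategory.quotient _ _).map t) := by
  have hK : K₀.IsStrictlyLE (max b b') := isStrictlyLE_of_le K₀ b _ (le_max_left _ _)
  have hL : L₀.IsStrictlyLE (max b b') := isStrictlyLE_of_le L₀ b' _ (le_max_right _ _)
  constructor
  · intro φ
    obtain ⟨Y', hY', hY'', g, s, hs, fac⟩ :=
      left_fac_of_isStrictlyLE_of_isStrictlyGE a' (max b b') φ
    have hqs : QuasiIso s := (isIso_Q_map_iff_quasiIso (φ := s)).1 hs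
    exact ⟨Y', a', max b b', hY', hY'', g, s, hqs, by rw [fac, Category.assoc, IsIso.inv_hom_id, Category.comp_id]⟩
  · intro f₁ f₂ h
    obtain ⟨Z, t₀, ht₀, hfac⟩ := (MorphismProperty.map_eq_iff_postcomp Qh
      (HomotopyCategory.quasiIso A (ComplexShape.up ℤ)) f₁ f₂).1 h
    obtain ⟨Z₀, rfl⟩ : ∃ Z₀ : CochainComplex A ℤ, (HomotopyCategory.quotient _ _).obj Z₀ = Z :=
      HomotopyCategory.quotient_obj_surjective Z
    obtain ⟨τ, rfl⟩ := (HomotopyCategory.quotient _ _).map_surjective t₀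
    obtain ⟨g₁, rfl⟩ := (HomotopyCategory.quotient _ _).map_surjective f₁
    obtain ⟨g₂, rfl⟩ := (HomotopyCategory.quotient _ _).map_surjective f₂
    rw [HomotopyCategory.quotient_map_mem_quasiIso_iff, HomologicalComplex.mem_quasiIso_iff] at ht₀
    have hZ : CochainComplex.IsLE Z₀ b' := isLE_of_quasiIso τ b'
    have hZ' : CochainComplex.IsGE Z₀ a' := isGE_of_quasiIso τ a'
    have hW : (Z₀.truncGE a').IsLE (max b b') := by
      have : (Z₀.truncGE a').IsLE b' := isLE_of_quasiIso (Z₀.πTruncGE a') b'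
      exact isLE_of_le _ b' _ (le_max_right _ _)
    obtain ⟨t', ht'⟩ := exists_factor_truncLE (max b b') (τ ≫ Z₀.πTruncGE a')
    have hqt' : QuasiIso t' := by
      have : QuasiIso (t' ≫ (Z₀.truncGE a').ιTruncLE (max b b')) := by
        rw [ht']; infer_instance
      exact quasiIso_of_comp_right t' ((Z₀.truncGE a').ιTruncLE (max b b'))
    refine ⟨(Z₀.truncGE a').truncLE (max b b'), a', max b b', inferInstance, inferInstance, t', hqt', ?_⟩
    have hv := quotient_map_eq_zero_of_comp_ιTruncLE (max b b') ((g₁ - g₂) ≫ t') (by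
      rw [Category.assoc, ht', Functor.map_comp, Functor.map_comp, ← Category.assoc,
        Functor.map_sub, Preadditive.sub_comp, hfac, sub_self, zero_comp])
    rw [Preadditive.sub_comp, Functor.map_sub, sub_eq_zero, Functor.map_comp, Functor.map_comp] at hv
    exact hv

theorem roofs_bounded (K L : HomotopyCategory A (ComplexShape.up ℤ)) (b a' b' : ℤ)
    [CochainComplex.IsStrictlyLE K.as b]
    [CochainComplex.IsStrictlyGE L.as a'] [CochainComplex.IsStrictlyLE L.as b'] :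
    (∀ φ : DerivedCategory.Qh.obj K ⟶ DerivedCategory.Qh.obj L,
      ∃ (L' : HomotopyCategory A (ComplexShape.up ℤ)) (m n : ℤ) (_ : CochainComplex.IsStrictlyGE L'.as m) (_ : CochainComplex.IsStrictlyLE L'.as n) (f : K ⟶ L') (t : L ⟶ L'),
        HomotopyCategory.quasiIso A (ComplexShape.up ℤ) t ∧ φ ≫ DerivedCategory.Qh.map t = DerivedCategory.Qh.map f) ∧
    (∀ f₁ f₂ : K ⟶ L, DerivedCategory.Qh.map f₁ = DerivedCategory.Qh.map f₂ →
      ∃ (L' : HomotopyCategory A (ComplexShape.up ℤ)) (m n : ℤ) (_ : CochainComplex.IsStrictlyGE L'.as m) (_ : CochainComplex.IsStrictlyLE L'.as n) (t : L ⟶ L'),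
        HomotopyCategory.quasiIso A (ComplexShape.up ℤ) t ∧ f₁ ≫ t = f₂ ≫ t) := by
  obtain ⟨K₀, rfl⟩ : ∃ K₀ : CochainComplex A ℤ, (HomotopyCategory.quotient _ _).obj K₀ = K :=
    HomotopyCategory.quotient_obj_surjective K
  obtain ⟨L₀, rfl⟩ : ∃ L₀ : CochainComplex A ℤ, (HomotopyCategory.quotient _ _).obj L₀ = L :=
    HomotopyCategory.quotient_obj_surjective L
  have : K₀.IsStrictlyLE b := ‹_›
  have : L₀.IsStrictlyGE a' := ‹_›
  have : L₀.IsStrictlyLE b' := ‹_›
  obtain ⟨h1, h2⟩ := roofs_bounded_aux K₀ L₀ b a' b'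
  constructor
  · intro φ
    obtain ⟨L', m, n, hL', hL'', f, t, ht, hfac⟩ := h1 φ
    exact ⟨(HomotopyCategory.quotient _ _).obj L', m, n, hL', hL'',
      (HomotopyCategory.quotient _ _).map f, (HomotopyCategory.quotient _ _).map t,
      quasiIso_quotient_map t, hfac⟩
  · intro f₁ f₂ h
    obtain ⟨L', m, n, hL', hL'', t, ht, hfac⟩ := h2 f₁ f₂ h
    exact ⟨(HomotopyCategory.quotient _ _).obj L', m, n, hL', hL'',
      (HomotopyCategory.quotient _ _).map t, quasiIso_quotient_map t, hfac⟩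

end Groth.Agent.Helper1.Roofs
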