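import Mathlib
import Groth.Agent.Helper6.SectCmpAff
import Groth.Agent.Helper6.ResLE2b

set_option autoImplicit false
set_option linter.style.haveILetI false
set_option linter.unusedSectionVars false
set_option linter.unusedVariables false

/-!
# The comparison `H^q(f⁻¹V, F) → Γ(V, R^q f_* F)` is bijective when the `R^j f_* F` are acyclic
on `V`
-/

namespace Groth.Agent.Helper1.SCV

open CategoryTheory Limits Abelian Opposite TopologicalSpace AlgebraicGeometry
  AlgebraicGeometry.Scheme.Modules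
open Groth.Agent.Helper9.RpushCmp Groth.Agent.Helper1.ExtAcyc Groth.Agent.Helper1.DeltaCmp
open Groth.Agent.Helper6 Groth.Agent.Helper6.ResLE1

universe u

variable {X Y : Scheme.{u}} (f : X ⟶ Y) (V : Y.Opens)

/-- the constant sheaf `ℤ` on the open `V` -/
noncomputable abbrev ZV : CohTop.Ab (V : Scheme.{u}) := CohTop.const (V : Scheme.{u}) (ULift.{u} ℤ)

instance : PreservesFiniteLimits (CohCmp.toAbOn Y V) := by
  haveI : PreservesFiniteLimits (restrictFunctor V.ι) := inferInstance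
  exact comp_preservesFiniteLimits _ _

instance : PreservesFiniteColimits (CohCmp.toAbOn Y V) := by
  haveI : PreservesFiniteColimits (restrictFunctor V.ι) := inferInstance
  exact comp_preservesFiniteColimits _ _

/-- naturality of `sectH0` in the module -/
lemma sectH0_natural {M N : Y.Modules} (φ : M ⟶ N) (t : Γ(M, V)) :
    Sheaf.H.map ((CohCmp.toAbOn Y V).map φ) 0 (CohPull.sectH0 M V t) =
      CohPull.sectH0 N V (φ.app V t) := by
  apply (Sheaf.H.equiv₀ (Coh.toAb (N.restrict V.ι)) isTerminalTop).injective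
  rw [equiv₀_sectH0]
  refine (equiv₀_mapH ((restrictFunctor V.ι).map φ) (CohPull.sectH0 M V t)).trans ?_
  rw [equiv₀_sectH0]
  exact SectCmpSurj.app_map φ (eqToHom V.ι_image_top) t

lemma app_V_eq {M N : Y.Modules} (φ : M ⟶ N) (x : Sheaf.H ((CohCmp.toAbOn Y V).obj M) 0) :
    φ.app V ((CohPull.sectH0 M V).symm x) =
      (CohPull.sectH0 N V).symm (Sheaf.H.map ((CohCmp.toAbOn Y V).map φ) 0 x) := by
  apply (CohPull.sectH0 N V).injective
  rw [AddEquiv.apply_symm_apply, ← sectH0_natural, AddEquiv.apply_symm_apply]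

lemma surj_of_epi {M N : Y.Modules} (φ : M ⟶ N)
    (h : Epi ((extFunctorObj (ZV V) 0).map ((CohCmp.toAbOn Y V).map φ))) (t : Γ(N, V)) :
    ∃ t' : Γ(M, V), φ.app V t' = t := by
  rw [AddCommGrpCat.epi_iff_surjective] at h
  obtain ⟨w, hw⟩ := h (CohPull.sectH0 N V t)
  refine ⟨(CohPull.sectH0 M V).symm w, ?_⟩
  rw [app_V_eq]
  have hw' : Sheaf.H.map ((CohCmp.toAbOn Y V).map φ) 0 w = CohPull.sectH0 N V t := hw
  rw [hw', AddEquiv.symm_apply_apply]

lemma exact_sections {M₁ M₂ M₃ : Y.Modules} (b : M₁ ⟶ M₂) (c : M₂ ⟶ M₃)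
    (w : (extFunctorObj (ZV V) 0).map ((CohCmp.toAbOn Y V).map b) ≫
      (extFunctorObj (ZV V) 0).map ((CohCmp.toAbOn Y V).map c) = 0)
    (h : (ShortComplex.mk _ _ w).Exact) (t' : Γ(M₂, V)) (ht' : c.app V t' = 0) :
    ∃ u : Γ(M₁, V), b.app V u = t' := by
  rw [ShortComplex.ab_exact_iff] at h
  have h0 : Sheaf.H.map ((CohCmp.toAbOn Y V).map c) 0 (CohPull.sectH0 M₂ V t') = 0 := by
    rw [sectH0_natural, ht', map_zero]
  obtain ⟨x₁, hx₁⟩ := h (CohPull.sectH0 M₂ V t') h0
  refine ⟨(CohPull.sectH0 M₁ V).symm x₁, ?_⟩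
  rw [app_V_eq]
  have hx₁' : Sheaf.H.map ((CohCmp.toAbOn Y V).map b) 0 x₁ = CohPull.sectH0 M₂ V t' := hx₁
  rw [hx₁', AddEquiv.symm_apply_apply]

/-- the direct image of an injective module restricts to a flasque sheaf on every open -/
lemma isFlasque_toAbOn_push (I : X.Modules) [hI : Injective I] :
    TopCat.Sheaf.IsFlasque ((CohCmp.toAbOn Y V).obj ((pushforward f).obj I)) where
  epi {V' W'} i := by
    haveI := @FlasqueMod.isFlasque_toSheaf_of_injective _ X.ringCatSheaf I hI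
    exact TopCat.Presheaf.IsFlasque.epi (F := (Coh.toAb I).obj)
      ((Opens.map f.base).map (V.ι.opensFunctor.map i.unop)).op

variable [HasInjectiveResolutions X.Modules] {Δ : RDer.DerivedLES (pushforward f)}
  (E : CohCmp.SectCmp f Δ)

/-- the acyclicity class over `V` -/
def CV (G : X.Modules) : Prop :=
  ∀ j p : ℕ, Subsingleton (Sheaf.H ((CohCmp.toAbOn Y V).obj ((Coh.Rpush f j).obj G)) (p + 1) :
    Type u)

theorem zero_bijective (G : X.Modules) : Function.Bijective (E.ε V G 0) := by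
  haveI : IsIso ((pushforward f).toRightDerivedZero.app G) := inferInstance
  have h : ∀ x, E.ε V G 0 x = ((pushforward f).toRightDerivedZero.app G).app V
      ((CohPull.sectH0 G (f ⁻¹ᵁ V)).symm x) := by
    intro x
    rw [← E.zero, AddEquiv.apply_symm_apply]
  have h2 : Function.Bijective (((pushforward f).toRightDerivedZero.app G).app V) :=
    ConcreteCategory.bijective_of_isIso _
  rw [show ⇑(E.ε V G 0) = ⇑(((pushforward f).toRightDerivedZero.app G).app V) ∘
    ⇑(CohPull.sectH0 G (f ⁻¹ᵁ V)).symm from funext h]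
  exact h2.comp (CohPull.sectH0 G (f ⁻¹ᵁ V)).symm.bijective

theorem succ_bijective (q : ℕ) (S : ShortComplex X.Modules) (hS : S.ShortExact)
    [Injective S.X₂]
    (hsurj : ∀ t : Γ((Coh.Rpush f (q + 1)).obj S.X₁, V),
      ∃ t' : Γ((Coh.Rpush f q).obj S.X₃, V), (Δ.δ S hS q (q + 1) rfl).app V t' = t)
    (hex : ∀ t' : Γ((Coh.Rpush f q).obj S.X₃, V), (Δ.δ S hS q (q + 1) rfl).app V t' = 0 →
      ∃ u : Γ((Coh.Rpush f q).obj S.X₂, V), ((Coh.Rpush f q).map S.g).app V u = t')
    (h2 : Function.Surjective (E.ε V S.X₂ q)) (h3 : Function.Bijective (E.ε V S.X₃ q)) :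
    Function.Bijective (E.ε V S.X₁ (q + 1)) := by
  have hA := SectCmpSurj.shortExact_toAbOn (f ⁻¹ᵁ V) hS
  haveI := SectCmpAff.isFlasque_toAbOn (f ⁻¹ᵁ V) S.X₂
  have hX : Subsingleton (Sheaf.H ((CohCmp.toAbOn X (f ⁻¹ᵁ V)).obj S.X₂) (q + 1)) :=
    Groth.Agent.S0453.result _ q
  constructor
  · rw [injective_iff_map_eq_zero]
    intro x hx
    obtain ⟨x', rfl⟩ := Ext.covariant_sequence_exact₁ _ hA x (@Subsingleton.elim _ hX _ _) rfl
    have h1 := E.delta V S hS hA q x'
    have h1' : (Δ.δ S hS q (q + 1) rfl).app V (E.ε V S.X₃ q x') = 0 := h1.symm.trans hx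
    obtain ⟨u, hu⟩ := hex _ h1'
    obtain ⟨v, rfl⟩ := h2 u
    have h4 := E.natural V S.g q v
    have h5 : CohPull.mapH ((restrictFunctor (f ⁻¹ᵁ V).ι).map S.g) q v = x' :=
      h3.1 (h4.trans hu)
    subst h5
    have hc : (Ext.mk₀ ((CohCmp.toAbOn X (f ⁻¹ᵁ V)).map S.g)).comp hA.extClass (zero_add 1) = 0 :=
      hA.comp_extClass
    have h6 : (Sheaf.H.map ((CohCmp.toAbOn X (f ⁻¹ᵁ V)).map S.g) q v).comp hA.extClass rfl = 0 := by
      rw [Sheaf.H.map_apply, Ext.comp_assoc_of_second_deg_zero, hc, Ext.comp_zero]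
    exact h6
  · intro t
    obtain ⟨t', rfl⟩ := hsurj t
    obtain ⟨x', rfl⟩ := h3.2 t'
    exact ⟨CohCmp.extδ hA q x', E.delta V S hS hA q x'⟩

theorem main (q : ℕ) : ∀ G : X.Modules, CV f V G → Function.Bijective (E.ε V G q) := by
  induction q with
  | zero => intro G _; exact zero_bijective f V E G
  | succ q ih =>
    intro G hG
    haveI : EnoughInjectives X.Modules :=
      Groth.Agent.Helper9.ModCechExt.enoughInjectives_mod X.ringCatSheaf
    let S : ShortComplex X.Modules :=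
      ShortComplex.mk (Injective.ι G) (cokernel.π (Injective.ι G)) (cokernel.condition _)
    have hS : S.ShortExact :=
      { exact := ShortComplex.exact_cokernel _
        mono_f := by dsimp [S]; infer_instance
        epi_g := by dsimp [S]; infer_instance }
    haveI hI : Injective S.X₂ := by dsimp [S]; infer_instance
    have hz : ∀ n, IsZero ((Coh.Rpush f (n + 1)).obj S.X₂) :=
      fun n => Functor.isZero_rightDerived_obj_injective_succ _ _ _
    have hCI : CV f V S.X₂ := by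
      intro j
      cases j with
      | zero =>
        haveI := isFlasque_toAbOn_push f V S.X₂
        have h0 : Acyc (ZV V) ((CohCmp.toAbOn Y V).obj ((pushforward f).obj S.X₂)) := fun p =>
          Groth.Agent.S0453.result _ p
        exact acyc_of_iso
          ((CohCmp.toAbOn Y V).mapIso ((pushforward f).rightDerivedZeroIsoSelf.app S.X₂).symm) h0
      | succ j => exact acyc_of_isZero (Functor.map_isZero (CohCmp.toAbOn Y V) (hz j))
    have hles : HasLES (fun n => Coh.Rpush f n ⋙ CohCmp.toAbOn Y V) S := by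
      intro n
      obtain ⟨w₁, e₁⟩ := SectCmpAff.exact_mk_of_map (CohCmp.toAbOn Y V) _ _ _
        (Δ.exact₃ S hS n (n + 1) rfl)
      obtain ⟨w₂, e₂⟩ := SectCmpAff.exact_mk_of_map (CohCmp.toAbOn Y V) _ _ _
        (Δ.exact₁ S hS n (n + 1) rfl)
      exact ⟨(CohCmp.toAbOn Y V).map (Δ.δ S hS n (n + 1) rfl), w₁, w₂, e₁, e₂⟩
    haveI hmono0 : Mono ((Coh.Rpush f 0).map S.f) :=
      Groth.Agent.Helper1.Horseshoe.mono_rightDerived_zero_map (pushforward f) S hS
    have hmono : Mono ((CohCmp.toAbOn Y V).map ((Coh.Rpush f 0).map S.f)) := inferInstance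
    have hCQ : CV f V S.X₃ :=
      (effacement_comp S (fun n => Coh.Rpush f n ⋙ CohCmp.toAbOn Y V) (ZV V) hles
        (SectCmpAff.exact_mk_of_map (CohCmp.toAbOn Y V) _ _ _ (Δ.exact₂ S hS 0)) hmono
        (fun n => Functor.map_isZero (CohCmp.toAbOn Y V) (hz n)) hG (hCI 0)).1
    have key : (∀ t : Γ((Coh.Rpush f (q + 1)).obj S.X₁, V),
        ∃ t' : Γ((Coh.Rpush f q).obj S.X₃, V), (Δ.δ S hS q (q + 1) rfl).app V t' = t) ∧
      (∀ t' : Γ((Coh.Rpush f q).obj S.X₃, V), (Δ.δ S hS q (q + 1) rfl).app V t' = 0 →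
        ∃ u : Γ((Coh.Rpush f q).obj S.X₂, V), ((Coh.Rpush f q).map S.g).app V u = t') := by
      cases q with
      | zero =>
        haveI hepiδ : Epi (Δ.δ S hS 0 1 rfl) :=
          (Δ.exact₁ S hS 0 1 rfl).epi_f ((hz 0).eq_of_tgt _ _)
        haveI : Mono ((CohCmp.toAbOn Y V).map ((Coh.Rpush f 0).map S.f)) := hmono
        haveI : Epi ((CohCmp.toAbOn Y V).map (Δ.δ S hS 0 1 rfl)) := inferInstance
        obtain ⟨w₁, e₁⟩ := SectCmpAff.exact_mk_of_map (CohCmp.toAbOn Y V) _ _ _ (Δ.exact₂ S hS 0)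
        obtain ⟨w₂, e₂⟩ := SectCmpAff.exact_mk_of_map (CohCmp.toAbOn Y V) _ _ _
          (Δ.exact₃ S hS 0 1 rfl)
        obtain ⟨-, hepi, w', ex'⟩ := four_term (P := ZV V)
          ((CohCmp.toAbOn Y V).map ((Coh.Rpush f 0).map S.f))
          ((CohCmp.toAbOn Y V).map ((Coh.Rpush f 0).map S.g))
          ((CohCmp.toAbOn Y V).map (Δ.δ S hS 0 1 rfl)) w₁ w₂ e₁ e₂ (hG 0) (hCI 0) (hG 1)
        exact ⟨surj_of_epi V _ hepi, exact_sections V _ _ w' ex'⟩
      | succ q' =>
        have hepiδ : Epi (Δ.δ S hS (q' + 1) (q' + 1 + 1) rfl) :=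
          (Δ.exact₁ S hS (q' + 1) (q' + 1 + 1) rfl).epi_f ((hz (q' + 1)).eq_of_tgt _ _)
        have hmonoδ : Mono (Δ.δ S hS (q' + 1) (q' + 1 + 1) rfl) :=
          (Δ.exact₃ S hS (q' + 1) (q' + 1 + 1) rfl).mono_g ((hz q').eq_of_src _ _)
        haveI : IsIso (Δ.δ S hS (q' + 1) (q' + 1 + 1) rfl) := isIso_of_mono_of_epi _
        have hbij : Function.Bijective ((Δ.δ S hS (q' + 1) (q' + 1 + 1) rfl).app V) :=
          ConcreteCategory.bijective_of_isIso _
        refine ⟨fun t => hbij.2 t, fun t' ht' => ⟨0, ?_⟩⟩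
        rw [map_zero]
        exact (hbij.1 (ht'.trans (map_zero _).symm)).symm
    exact succ_bijective f V E q S hS key.1 key.2 (ih S.X₂ hCI).2 (ih S.X₃ hCQ)

end Groth.Agent.Helper1.SCV
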