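import Groth.Agent.Helper1.SCV9
import Groth.Agent.Helper1.HMap11

set_option autoImplicit false
set_option linter.style.haveILetI false
set_option linter.unusedSectionVars false
set_option linter.unusedVariables false

/-!
# The base change map of the square of a fibre, in terms of a complex computing cohomology
universally
-/

namespace Groth.Agent.Helper1.SCV

open CategoryTheory Limits Opposite TopologicalSpace AlgebraicGeometry TensorProduct
  AlgebraicGeometry.Scheme.Modules
open Groth.Agent.Helper1.BaseChart Groth.Agent.Helper1.GBC Groth.Agent.Helper1.HMap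
open Groth.Agent.Lead.BCMap

universe u

section fibreRing

variable {S : Scheme.{u}} (s : S) (W : S.Opens) (hs : s ∈ W)

/-- the whole spectrum of the residue field, as an open -/
noncomputable abbrev topK : (Spec (S.residueField s)).Opens := ⊤

include hs in
lemma topK_le : topK s ≤ (S.fromSpecResidueField s) ⁻¹ᵁ W := by
  intro z _
  show (S.fromSpecResidueField s) z ∈ W
  rw [Scheme.fromSpecResidueField_apply]
  exact hs

include hs in
lemma topK_eq : topK s = (S.fromSpecResidueField s) ⁻¹ᵁ W :=
  le_antisymm (topK_le s W hs) le_top

instance : IsAffine ((topK s : (Spec (S.residueField s)).Opens) : Scheme.{u}) :=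
  isAffineOpen_top _

/-- the ring of the chart of the spectrum of the residue field is a field -/
lemma isField_AV_topK : IsField (AV (topK s)) := by
  let e1 : AV (topK s) ≃+* Γ(Spec (S.residueField s), ⊤) :=
    (topK s).topIso.commRingCatIsoToRingEquiv
  let e2 : Γ(Spec (S.residueField s), ⊤) ≃+* S.residueField s :=
    (Scheme.ΓSpecIso (S.residueField s)).commRingCatIsoToRingEquiv
  exact MulEquiv.isField (Field.toIsField (S.residueField s)) (e1.trans e2).toMulEquiv

instance : Nontrivial (AV (topK s)) := (isField_AV_topK s).nontrivial

variable [IsAffine (W : Scheme.{u})]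

/-- the kernel of the map to the residue field is the point of the chart -/
lemma ker_algebraMap_topK :
    letI := chartsAlgebra (S.fromSpecResidueField s) W (topK s) (topK_le s W hs)
    RingHom.ker (algebraMap (AV W) (AV (topK s))) = (chartPt W s hs).asIdeal := by
  letI := chartsAlgebra (S.fromSpecResidueField s) W (topK s) (topK_le s W hs)
  let z : Spec (S.residueField s) := (⟨⊥, Ideal.isPrime_bot⟩ : PrimeSpectrum (S.residueField s))
  have h1 := chartPt_comap (S.fromSpecResidueField s) W (topK s) (topK_le s W hs) z trivial
  have h2 : chartPt W ((S.fromSpecResidueField s) z) (topK_le s W hs trivial) =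
      chartPt W s hs := by
    congr 1
    exact Scheme.fromSpecResidueField_apply s z
  rw [h2] at h1
  rw [← h1]
  apply le_antisymm
  · intro a ha
    show algebraMap (AV W) (AV (topK s)) a ∈ (chartPt (topK s) z trivial).asIdeal
    rw [RingHom.mem_ker.mp ha]
    exact Ideal.zero_mem _
  · intro a ha
    have ha' : algebraMap (AV W) (AV (topK s)) a ∈ (chartPt (topK s) z trivial).asIdeal := ha
    rw [RingHom.mem_ker]
    by_contra hne
    obtain ⟨b, hb⟩ := (isField_AV_topK s).mul_inv_cancel hne
    have h1' : (1 : AV (topK s)) ∈ (chartPt (topK s) z trivial).asIdeal := by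
      rw [← hb]
      exact Ideal.mul_mem_right _ _ ha'
    exact (chartPt (topK s) z trivial).isPrime.ne_top ((Ideal.eq_top_iff_one _).mpr h1')

/-- elements outside the point of the chart become invertible in the residue field -/
lemma isUnit_algebraMap_topK (a : AV W) (ha : a ∉ (chartPt W s hs).asIdeal) :
    letI := chartsAlgebra (S.fromSpecResidueField s) W (topK s) (topK_le s W hs)
    IsUnit (algebraMap (AV W) (AV (topK s)) a) := by
  letI := chartsAlgebra (S.fromSpecResidueField s) W (topK s) (topK_le s W hs)
  rw [← ker_algebraMap_topK s W hs, RingHom.mem_ker] at ha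
  obtain ⟨b, hb⟩ := (isField_AV_topK s).mul_inv_cancel ha
  exact IsUnit.of_mul_eq_one _ hb

end fibreRing

end Groth.Agent.Helper1.SCV
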