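import Groth.Agent.Helper1.SCV10

set_option autoImplicit false
set_option linter.style.haveILetI false
set_option linter.unusedSectionVars false
set_option linter.unusedVariables false

/-!
# Surjectivity of the base change map of a fibre, in terms of the free locus of the opcycles of a
complex computing cohomology universally
-/

namespace Groth.Agent.Helper1.SCV

open CategoryTheory Limits Opposite TopologicalSpace AlgebraicGeometry TensorProduct
  AlgebraicGeometry.Scheme.Modules
open Groth.Agent.Helper1.BaseChart Groth.Agent.Helper1.GBC Groth.Agent.Helper1.HMap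
open Groth.Agent.Lead.BCMap

universe u

variable {X S : Scheme.{u}} (f : X ⟶ S) (W : S.Opens) [IsAffine (W : Scheme.{u})]

/-- the complex `K` computes the cohomology of the chart of `W` in degree `p`, universally and
compatibly with the pullback of classes -/
def UnivGC (F : X.Modules) (K : ChainComplex (ModuleCat.{u} (AV W)) ℤ) (q : ℤ) (p : ℕ) : Prop :=
  letI := chartOver f W
  ∀ (A' : Type u) [CommRing A'] [Algebra (AV W) A'] (X' : Scheme.{u})
    [X'.Over (Spec (CommRingCat.of A'))] (g' : X' ⟶ XV f W)
    (_ : IsPullback g' (X' ↘ Spec (CommRingCat.of A'))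
      (XV f W ↘ Spec (CommRingCat.of (AV W)))
      (Spec.map (CommRingCat.ofHom (algebraMap (AV W) A')))),
    GCAt (AV W) A' g' (FV f W F) K q p

variable [QuasiCompact f] [QuasiSeparated f] (s : S) (hs : s ∈ W)
  [HasInjectiveResolutions X.Modules] [HasInjectiveResolutions (f.fiber s).Modules]
  (F : X.Modules) [Coh.IsQCoh F] (p : ℕ)
  {Δ : RDer.DerivedLES (pushforward f)}
  {Δs : RDer.DerivedLES (pushforward (f.fiberToSpecResidueField s))}
  {E : CohCmp.SectCmp f Δ} {Es : CohCmp.SectCmp (f.fiberToSpecResidueField s) Δs}
  (Bs : CohCmp.GenBC f (S.fromSpecResidueField s) (f.fiberToSpecResidueField s) (f.fiberι s)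
    (f.fiber_fac s) E Es)
  (K : ChainComplex (ModuleCat.{u} (AV W)) ℤ)
  (hK : ∀ i, Module.Finite (AV W) (K.X i) ∧ Module.Free (AV W) (K.X i)) (q : ℤ)

set_option maxHeartbeats 1600000 in
include hK in
/-- **the base change map of the fibre at `s` is an epimorphism iff `T^p` is right exact at
`s`**, i.e. iff the point of the chart lies in the free locus of the opcycles in the next
degree -/
theorem fibre_epi_iff (HGC : UnivGC f W F K q p) :
    Epi (Bs.bc p F) ↔ chartPt W s hs ∈ Module.freeLocus (AV W) (K.opcycles (q - 1)) := by
  have h : IsPullback (f.fiberι s) (f.fiberToSpecResidueField s) f (S.fromSpecResidueField s) :=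
    IsPullback.of_hasPullback _ _
  letI oW := chartOver f W
  letI oV' := chartOver (f.fiberToSpecResidueField s) (topK s)
  letI aAA' := chartsAlgebra (S.fromSpecResidueField s) W (topK s) (topK_le s W hs)
  haveI := (hK q).1
  haveI := (hK (q - 1)).1
  haveI := (hK (q - 1)).2
  have hGC := HGC (AV (topK s)) (XV (f.fiberToSpecResidueField s) (topK s))
    (gRes f (S.fromSpecResidueField s) (f.fiberToSpecResidueField s) (f.fiberι s) W (topK s)
      (topK_le s W hs) h.w)
    (isPullback_charts f (S.fromSpecResidueField s) (f.fiberToSpecResidueField s) (f.fiberι s)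
      W (topK s) (topK_le s W hs) h)
  have main := bc_app_main h Bs F p W (topK s) (topK_le s W hs)
    (resCompat_of_eq h F p W (topK s) (topK_le s W hs) (topK_eq s W hs)) K q hGC
  haveI : QuasiCompact (f.fiberToSpecResidueField s) :=
    MorphismProperty.of_isPullback (P := @QuasiCompact) h inferInstance
  haveI : QuasiSeparated (f.fiberToSpecResidueField s) :=
    MorphismProperty.of_isPullback (P := @QuasiSeparated) h inferInstance
  haveI : F.IsQuasicoherent := inferInstance
  haveI qG : ((Scheme.Modules.pullback (f.fiberι s)).obj F).IsQuasicoherent :=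
    Groth.Agent.Lead.StalkPull.isQuasicoherent_pullbackObj (f.fiberι s) F
  haveI : Coh.IsQCoh ((Scheme.Modules.pullback (f.fiberι s)).obj F) := qG
  have qN0 : Coh.IsQCoh ((Coh.Rpush (f.fiberToSpecResidueField s) p).obj
      ((Scheme.Modules.pullback (f.fiberι s)).obj F)) :=
    Groth.Agent.S0030.result (f.fiberToSpecResidueField s) _ p
  haveI qN : ((Coh.Rpush (f.fiberToSpecResidueField s) p).obj
      ((Scheme.Modules.pullback (f.fiberι s)).obj F)).IsQuasicoherent := qN0
  have hepi : Epi (Bs.bc p F) ↔ Function.Surjective ((Bs.bc p F).app (topK s)) :=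
    epi_iff_surjective_top_specField (K := S.residueField s) (Bs.bc p F)
  rw [hepi, main.1]
  constructor
  · intro hspan
    exact mem_freeLocus_opcycles_of_span_field (AV (topK s)) K q (q - 1) (next_down q)
      (prev_down q) (chartPt W s hs) (ker_algebraMap_topK s W hs)
      (isUnit_algebraMap_topK s W hs) hspan
  · intro hx
    obtain ⟨_, ⟨a, rfl⟩, hxa, hsub⟩ :=
      PrimeSpectrum.isTopologicalBasis_basic_opens.exists_subset_of_mem_open hx
        (isOpen_freeLocus_opcycles K hK (q - 1))
    exact span_eq_top_of_equiv K q (AV (topK s))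
      (exists_equiv_of_basicOpen K q (q - 1) a (next_down q) (prev_down q) hsub (AV (topK s))
        (isUnit_algebraMap_topK s W hs a hxa))

end Groth.Agent.Helper1.SCV
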