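import Groth.Agent.Helper1.HMap11
import Groth.Agent.Helper1.FlatCxLocal2
import Groth.Agent.Helper1.DRankRank

set_option autoImplicit false
set_option linter.unusedVariables false
universe u
open CategoryTheory CategoryTheory.Limits MonoidalCategory TensorProduct

/-!
# Chain complexes of finite free modules: free loci of the opcycles and ranks of the fibres
-/

noncomputable section

namespace Groth.Agent.Helper1.HMap

open Groth.Agent.Helper1.FlatCx Groth.Agent.Helper1.BCFlatCoh Groth.Agent.Helper1

variable {A : Type u} [CommRing A] (K : ChainComplex (ModuleCat.{u} A) ℤ)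
  (hK : ∀ i, Module.Finite A (K.X i) ∧ Module.Free A (K.X i))

include hK in
/-- at a point where the homology of the fibre vanishes in degree `p`, `T_p` is right exact -/
theorem mem_freeLocus_opcycles_of_dRank_zero (p : ℤ) (x : PrimeSpectrum A)
    (h : CohIII.dRank K p x = 0) : x ∈ Module.freeLocus A (K.opcycles (p - 1)) := by
  haveI := (hK p).1
  haveI := (hK (p - 1)).1
  haveI := (hK (p - 1)).2
  let κ := x.asIdeal.ResidueField
  haveI : Module.Finite κ ((CohIII.bcCx (algebraMap A κ) K).X p) := finite_bcCx_X K κ p
  haveI : Module.Finite κ ((CohIII.bcCx (algebraMap A κ) K).homology p) :=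
    finite_homology (CohIII.bcCx (algebraMap A κ) K) p
  have hsub : Subsingleton ((CohIII.bcCx (algebraMap A κ) K).homology p) :=
    Module.finrank_zero_iff.mp h
  refine mem_freeLocus_opcycles_of_span_field κ K p (p - 1) (next_down p) (prev_down p) x
    (Ideal.ker_algebraMap_residueField _) ?_ ?_
  · intro a ha
    apply IsUnit.mk0
    intro h0
    apply ha
    rw [← Ideal.ker_algebraMap_residueField x.asIdeal]
    exact h0
  · rw [eq_top_iff]
    intro z _
    have hz : z = 0 := hsub.elim z 0
    rw [hz]
    exact Submodule.zero_mem _

/-- where the complex vanishes, the opcycles are free everywhere -/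
theorem freeLocus_opcycles_eq_univ_of_isZero (j : ℤ) (h : IsZero (K.X j)) :
    Module.freeLocus A (K.opcycles j) = Set.univ := by
  have h1 : IsZero (K.opcycles j) := by
    rw [IsZero.iff_id_eq_zero, ← cancel_epi (K.pOpcycles j)]
    exact h.eq_of_src _ _
  haveI : Subsingleton (K.opcycles j) := ModuleCat.subsingleton_of_isZero h1
  haveI : Module.Finite A (K.opcycles j) := inferInstance
  haveI : Module.Flat A (K.opcycles j) := inferInstance
  exact Module.freeLocus_eq_univ

/-- the rank of the homology is the rank of the fibres when the next opcycles are flat -/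
theorem rankAtStalk_homology_eq_dRank_of_flat (P : ChainComplex (ModuleCat.{u} A) ℤ) (p : ℤ)
    (hX : Module.Flat A (P.X (p - 1))) (hO : Module.Flat A (P.opcycles (p - 1)))
    [Module.Finite A (P.homology p)] [Module.Flat A (P.homology p)] (x : PrimeSpectrum A) :
    Module.rankAtStalk (P.homology p) x = CohIII.dRank P p x := by
  let κ := x.asIdeal.ResidueField
  have e := bcHomologyIsoOfFlatOpcycles κ P p (p - 1) (by simp) (by simp) hX hO
  unfold CohIII.dRank
  rw [← e.toLinearEquiv.finrank_eq, finrank_extendScalars, Module.rankAtStalk_eq]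

include hK in
/-- over the free loci of `Z'_p` and `Z'_{p-1}`, the ranks of the fibres in degree `p` are
locally constant -/
theorem isLocallyConstant_dRank_bcCx (p : ℤ) (a : A)
    (hsub₁ : (PrimeSpectrum.basicOpen a : Set (PrimeSpectrum A)) ⊆
      Module.freeLocus A (K.opcycles p))
    (hsub₂ : (PrimeSpectrum.basicOpen a : Set (PrimeSpectrum A)) ⊆
      Module.freeLocus A (K.opcycles (p - 1)))
    (B : Type u) [CommRing B] [Algebra A B] (hB : IsUnit (algebraMap A B a)) :
    IsLocallyConstant (fun y : PrimeSpectrum B =>
      CohIII.dRank (CohIII.bcCx (algebraMap A B) K) p y) := by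
  obtain ⟨hfin, hproj⟩ := finite_projective_homology_bcCx K hK p a hsub₁ hsub₂ B hB
  haveI := hfin
  haveI := hproj
  haveI := (hK p).1
  haveI := (hK (p - 1)).1
  haveI := (hK (p - 1)).2
  haveI : Module.Projective B ((CohIII.bcCx (algebraMap A B) K).X (p - 1)) :=
    projective_bcCx_X K B (p - 1)
  haveI : Module.Projective B ((CohIII.bcCx (algebraMap A B) K).opcycles (p - 1)) :=
    projective_opcycles_bcCx K p (p - 1) a (prev_down p) hsub₂ B hB
  haveI : Module.FinitePresentation B ((CohIII.bcCx (algebraMap A B) K).homology p) :=
    Module.finitePresentation_of_projective _ _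
  have h1 : (fun y : PrimeSpectrum B => CohIII.dRank (CohIII.bcCx (algebraMap A B) K) p y) =
      Module.rankAtStalk ((CohIII.bcCx (algebraMap A B) K).homology p) := by
    funext y
    exact (rankAtStalk_homology_eq_dRank_of_flat _ p inferInstance inferInstance y).symm
  rw [h1]
  exact Module.isLocallyConstant_rankAtStalk

end Groth.Agent.Helper1.HMap

end
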